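import Groth.Statements.S5654
import Groth.Agent.GrpScheme.AffineHom
-- import your own Groth.Agent.* helpers here

set_option autoImplicit false
set_option backward.isDefEq.respectTransparency false
universe u
open CategoryTheory MonoidalCategory CartesianMonoidalCategory MonObj GrpObj AlgebraicGeometry
open GrpSch

open Groth.Agent.GrpScheme Limits MonoidalCategory CartesianMonoidalCategory MonObj

namespace Groth.Agent.S5654

/-- Let k be a field, P and Q group schemes locally of finite type over k and f : P ⟶ Q a homomorphism
of k-group schemes whose underlying morphism of schemes is quasi-affine. Then f is affine. -/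
theorem result (k : Type u) [Field k] (P Q : Over (Spec (CommRingCat.of k))) [GrpObj P] [GrpObj Q]
    [LocallyOfFiniteType P.hom] [LocallyOfFiniteType Q.hom] (f : P ⟶ Q) [IsMonHom f] (hf : Mor2.IsQuasiAffine f.left) :
    IsAffineHom f.left := by
  let g : Spec (CommRingCat.of (AlgebraicClosure k)) ⟶ Spec (CommRingCat.of k) :=
    Spec.map (CommRingCat.ofHom (algebraMap k (AlgebraicClosure k)))
  let F := Over.pullback g
  open scoped CategoryTheory.Obj in
  let P' := F.obj P
  let Q' := F.obj Q
  let _ : GrpObj P' := Functor.grpObjObj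
  let _ : GrpObj Q' := Functor.grpObjObj
  let f' : P' ⟶ Q' := F.map f
  have : IsMonHom f' :=
    ⟨by
      rw [show η[P'] = Functor.LaxMonoidal.ε F ≫ F.map η[P] from rfl, Category.assoc,
        ← F.map_comp, IsMonHom.one_hom]
      rfl,
     by
      rw [show μ[P'] = Functor.LaxMonoidal.μ F P P ≫ F.map μ[P] from rfl, Category.assoc,
        ← F.map_comp, IsMonHom.mul_hom, F.map_comp,
        ← Functor.LaxMonoidal.μ_natural_assoc]
      rfl⟩
  let pP : P'.left ⟶ P.left := pullback.fst P.hom g
  let pQ : Q'.left ⟶ Q.left := pullback.fst Q.hom g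
  have hQsq : IsPullback pQ Q'.hom Q.hom g := IsPullback.of_hasPullback _ _
  have hPsq : IsPullback pP (f'.left ≫ Q'.hom) (f.left ≫ Q.hom) g := by
    rw [Over.w f', Over.w f]
    exact IsPullback.of_hasPullback _ _
  have hsq : IsPullback pP f'.left f.left pQ :=
    IsPullback.of_bot hPsq (by simp [pP, pQ, f', F]) hQsq
  have : LocallyOfFiniteType P'.hom := inferInstanceAs (LocallyOfFiniteType (pullback.snd P.hom g))
  have : LocallyOfFiniteType Q'.hom := inferInstanceAs (LocallyOfFiniteType (pullback.snd Q.hom g))
  have : QuasiCompact f'.left := MorphismProperty.of_isPullback hsq hf.1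
  have := AffineHom.isAffineHom_snd f hf
  have : IsAffineHom (pullback.snd f'.left f'.left) := by
    have h1 := (IsPullback.of_hasPullback f'.left f'.left).paste_horiz hsq
    have h2 : IsAffineHom (pullback.snd f.left (pP ≫ f.left)) :=
      AffineHom.isAffineHom_snd_comp f.left pP
    have e : f'.left ≫ pQ = pP ≫ f.left := hsq.w.symm
    rw [e] at h1
    rw [← h1.isoPullback_hom_snd]
    exact (MorphismProperty.cancel_left_of_respectsIso @IsAffineHom _ _).2 h2
  have hA := AffineHom.isAffineHom_of_isAlgClosed f'
  have := FpqcDesc.descendsAlong_isAffineHom.{u}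
  have hg : FpqcDesc.FPQC g := ⟨⟨inferInstance,
    (HasRingHomProperty.Spec_iff (P := @Flat)).2
      (RingHom.flat_algebraMap_iff.2 inferInstance)⟩, inferInstance⟩
  have hmem : FpqcDesc.FPQC pQ := MorphismProperty.of_isPullback hQsq.flip hg
  exact MorphismProperty.of_isPullback_of_descendsAlong hsq.flip hmem hA

end Groth.Agent.S5654
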