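import Groth.Statements.S2136
import Groth.Agent.EtStruct.UnibranchGlobal
-- import your own Groth.Agent.* helpers here

set_option autoImplicit false
universe u
open CAlg

namespace Groth.Agent.S2136

open AlgebraicGeometry CategoryTheory in
set_option backward.isDefEq.respectTransparency false in

/-- Let `A` be a domain, `A → B` a ring map of finite type, and `𝔮` a prime of `B` lying over `𝔭 ⊆ A`,
with `A_𝔭` geometrically unibranch, `A → B` unramified at `𝔮` and `A_𝔭 → B_𝔮` injective. Then `B_g`
is étale over `A` for some `g ∉ 𝔮`. (`B` is assumed of finite type over `A` throughout; the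
published statement needs this only after inverting an element outside `𝔮`.) -/
theorem result {A B : Type u} [CommRing A] [IsDomain A] [CommRing B]
    [Algebra A B] (q : Ideal B) [q.IsPrime] (p : Ideal A) [p.IsPrime] [q.LiesOver p]
    (hA : CAlg2.IsGeomUnibranch (Localization.AtPrime p)) [Algebra.FiniteType A B] [Algebra.IsUnramifiedAt A q]
    (hinj : Function.Injective (Localization.localRingHom p q (algebraMap A B) (q.over_def p))) :
    ∃ g : B, g ∉ q ∧ Algebra.Etale A (Localization.Away g) := by
  let X := Spec (CommRingCat.of B)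
  let Y := Spec (CommRingCat.of A)
  let f : X ⟶ Y := Spec.map (CommRingCat.ofHom (algebraMap A B))
  let x : X := ⟨q, inferInstance⟩
  have hfx : f x = (⟨p, inferInstance⟩ : PrimeSpectrum A) := PrimeSpectrum.ext (q.over_def p).symm
  have : LocallyOfFiniteType f := by
    rw [HasRingHomProperty.Spec_iff (P := @LocallyOfFiniteType), CommRingCat.hom_ofHom,
      RingHom.finiteType_algebraMap]
    infer_instance
  obtain ⟨r, hr, hunr⟩ := Algebra.exists_unramified_of_isUnramifiedAt (R := A) q
  let Br := Localization.Away r
  have : Algebra.FiniteType B Br := IsLocalization.finiteType_of_monoid_fg (.powers r) Br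
  have : Algebra.FiniteType A Br := Algebra.FiniteType.trans ‹_› ‹_›
  let q' : Ideal Br := q.map (algebraMap B Br)
  have hd : Disjoint (Submonoid.powers r : Set B) (q : Set B) := by
    rw [Set.disjoint_left]
    rintro _ ⟨n, rfl⟩ h
    exact hr (Ideal.IsPrime.mem_of_pow_mem ‹_› n h)
  have hq' : q'.IsPrime := IsLocalization.isPrime_of_isPrime_disjoint (.powers r) Br q ‹_› hd
  have hqq : q'.comap (algebraMap B Br) = q :=
    IsLocalization.under_map_of_isPrime_disjoint (.powers r) Br ‹_› hd
  -- a prime below `q` over the generic point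
  obtain ⟨P, hP, hP0⟩ := Ideal.exists_minimalPrimes_comap_eq
    (Localization.localRingHom p q (algebraMap A B) (q.over_def p)) ⊥
    (by
      rw [Ideal.comap_bot_of_injective _ hinj]
      exact ⟨⟨Ideal.isPrime_bot, le_rfl⟩, fun J hJ hJle ↦ bot_le⟩)
  have hPp : P.IsPrime := hP.1.1
  let q₀ := P.comap (algebraMap B (Localization.AtPrime q))
  have hq₀q : q₀ ≤ q := by
    intro b hb
    by_contra hbq
    exact hPp.ne_top (P.eq_top_of_isUnit_mem hb (IsLocalization.map_units _ (⟨b, hbq⟩ : q.primeCompl)))
  have hq₀A : q₀.comap (algebraMap A B) = ⊥ := by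
    rw [eq_bot_iff]
    intro a ha
    have h1 : algebraMap A (Localization.AtPrime p) a ∈ P.comap
        (Localization.localRingHom p q (algebraMap A B) (q.over_def p)) := by
      rw [Ideal.mem_comap, Localization.localRingHom_to_map]; exact ha
    rw [hP0, Ideal.mem_bot] at h1
    exact IsLocalization.injective (Localization.AtPrime p) p.primeCompl_le_nonZeroDivisors
      (h1.trans (map_zero _).symm)
  have hd₀ : Disjoint (Submonoid.powers r : Set B) (q₀ : Set B) := hd.mono_right hq₀q
  have hq₀' : (q₀.map (algebraMap B Br)).IsPrime :=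
    IsLocalization.isPrime_of_isPrime_disjoint (.powers r) Br q₀ inferInstance hd₀
  let f' : Spec (CommRingCat.of Br) ⟶ Y := Spec.map (CommRingCat.ofHom (algebraMap A Br))
  let x' : Spec (CommRingCat.of Br) := ⟨q', hq'⟩
  have hfx' : f' x' = (⟨p, inferInstance⟩ : PrimeSpectrum A) := by
    refine PrimeSpectrum.ext ?_
    show q'.comap (algebraMap A Br) = p
    rw [IsScalarTower.algebraMap_eq A B Br, ← Ideal.comap_comap, hqq]
    exact (q.over_def p).symm
  have : LocallyOfFiniteType f' := by
    rw [HasRingHomProperty.Spec_iff (P := @LocallyOfFiniteType), CommRingCat.hom_ofHom,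
      RingHom.finiteType_algebraMap]
    infer_instance
  have : FormallyUnramified f' := by
    rw [HasRingHomProperty.Spec_iff (P := @FormallyUnramified), CommRingCat.hom_ofHom,
      RingHom.formallyUnramified_algebraMap]
    infer_instance
  have hY : CAlg2.IsGeomUnibranch (Y.presheaf.stalk (f' x')) := by
    suffices ∀ z : PrimeSpectrum A, z.asIdeal = p →
        CAlg2.IsGeomUnibranch (Y.presheaf.stalk z) from
      this _ (congrArg PrimeSpectrum.asIdeal hfx')
    rintro ⟨z, hz⟩ rfl
    have := IsLocalization.isDomain_of_le_nonZeroDivisors (Localization.AtPrime z)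
      z.primeCompl_le_nonZeroDivisors
    let e : Localization.AtPrime z ≃+* Y.presheaf.stalk ⟨z, hz⟩ :=
      (StructureSheaf.stalkIso A ⟨z, hz⟩).toRingEquiv
    have := e.symm.toMulEquiv.isDomain_iff.mpr this
    exact EtStruct.isGeomUnibranch_of_ringEquiv e hA
  obtain ⟨N, hxN, hN | hN⟩ := EtStruct.exists_nhd_etale_or_disjoint f' x' hY
    (FormallyUnramified.stalkMap f' x')
  swap
  · refine absurd ?_ (hN ⟨_, hq₀'⟩ ((show (⟨_, hq₀'⟩ : Spec (CommRingCat.of Br)) ⤳ x' from
      (PrimeSpectrum.le_iff_specializes _ x').mp (Ideal.map_mono hq₀q)).mem_open N.2 hxN))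
    rw [genericPoint_eq_bot_of_affine]
    refine PrimeSpectrum.ext ?_
    show (q₀.map (algebraMap B Br)).comap (algebraMap A Br) = ⊥
    rw [IsScalarTower.algebraMap_eq A B Br, ← Ideal.comap_comap]
    exact (congrArg (Ideal.comap (algebraMap A B))
      (IsLocalization.under_map_of_isPrime_disjoint (.powers r) Br inferInstance hd₀)).trans hq₀A
  obtain ⟨_, ⟨s, rfl⟩, hsx, hsN⟩ :=
    PrimeSpectrum.isTopologicalBasis_basic_opens.exists_subset_of_mem_open hxN N.2
  obtain ⟨⟨b, _, n, rfl⟩, hb⟩ := IsLocalization.surj (Submonoid.powers r) s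
  refine ⟨r * b, ‹q.IsPrime›.mul_notMem hr fun hbq ↦ hsx ?_, ?_⟩
  · have h1 : s * algebraMap B Br (r ^ n) ∈ q' := hb ▸ Ideal.mem_map_of_mem _ hbq
    exact (hq'.mem_or_mem h1).resolve_right fun h ↦ hr (‹q.IsPrime›.mem_of_pow_mem n (hqq ▸ h))
  · let C := Localization.Away s
    let j : Spec (CommRingCat.of C) ⟶ Spec (CommRingCat.of Br) :=
      Spec.map (CommRingCat.ofHom (algebraMap Br C))
    have hj : Set.range j ⊆ Set.range N.ι := by
      rw [Scheme.Opens.range_ι]
      exact (PrimeSpectrum.localization_away_comap_range C s).le.trans hsN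
    have hE : Etale (j ≫ f') := by
      rw [← IsOpenImmersion.lift_fac N.ι j hj, Category.assoc]
      have : IsOpenImmersion (IsOpenImmersion.lift N.ι j hj ≫ N.ι) := by
        rw [IsOpenImmersion.lift_fac]; infer_instance
      have := IsOpenImmersion.of_comp (IsOpenImmersion.lift N.ι j hj) N.ι
      infer_instance
    rw [← Spec.map_comp, HasRingHomProperty.Spec_iff (P := @Etale), ← CommRingCat.ofHom_comp,
      CommRingCat.hom_ofHom, ← IsScalarTower.algebraMap_eq, RingHom.etale_algebraMap] at hE
    have : IsLocalization.Away (r * b) C := by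
      have hu : IsUnit (algebraMap B Br (r ^ n)) :=
        IsLocalization.map_units Br (⟨_, n, rfl⟩ : Submonoid.powers r)
      have hassoc : Associated s (algebraMap B Br b) := ⟨hu.unit, hb⟩
      have h2 : IsLocalization.Away (algebraMap B Br b) C :=
        IsLocalization.Away.of_associated hassoc
      exact mul_comm b r ▸ IsLocalization.Away.mul Br C r b
    exact Algebra.Etale.of_equiv
      ((IsLocalization.algEquiv (.powers (r * b)) C (Localization.Away (r * b))).restrictScalars A)

end Groth.Agent.S2136
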