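import Mathlib.RingTheory.HopfAlgebra.Basic
import Mathlib.RingTheory.Bialgebra.Equiv
import Mathlib.RingTheory.FiniteType
import Mathlib.RingTheory.Ideal.Quotient.Operations

/-!
# Transport of Hopf algebra structures, small models of finitely generated Hopf algebras
-/

open TensorProduct WithConv Coalgebra

universe u v w

namespace Groth.Agent.HopfShrink

noncomputable section

variable {k : Type u} [CommRing k] {A : Type v} [CommRing A] [HopfAlgebra k A]
  {A' : Type w} [CommRing A'] [Algebra k A'] (e : A ≃ₐ[k] A')

/-- transported comultiplication -/
def comul' : A' →ₐ[k] A' ⊗[k] A' :=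
  ((Algebra.TensorProduct.map (e : A →ₐ[k] A') (e : A →ₐ[k] A')).comp (Bialgebra.comulAlgHom k A)).comp
    (e.symm : A' →ₐ[k] A)

/-- transported counit -/
def counit' : A' →ₐ[k] k := (Bialgebra.counitAlgHom k A).comp (e.symm : A' →ₐ[k] A)

theorem comul'_apply (a : A) :
    comul' e (e a) = Algebra.TensorProduct.map (e : A →ₐ[k] A') (e : A →ₐ[k] A') (comul a) := by simp [comul']

theorem counit'_apply (a : A) : counit' e (e a) = counit a := by simp [counit']

/-- transported bialgebra structure -/
abbrev bialgebra : Bialgebra k A' :=
  Bialgebra.ofAlgHom (comul' e) (counit' e)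
    (AlgHom.ext fun x => by
      obtain ⟨a, rfl⟩ := e.surjective x
      let E : A →ₐ[k] A' := e
      have h1 : ∀ t : A ⊗[k] A,
          Algebra.TensorProduct.assoc k k k A' A' A' (Algebra.TensorProduct.map (comul' e) (AlgHom.id k A')
            (Algebra.TensorProduct.map E E t)) =
          Algebra.TensorProduct.map E (Algebra.TensorProduct.map E E)
            (TensorProduct.assoc k A A A ((comul (R := k) (A := A)).rTensor A t)) := by
        intro t
        induction t using TensorProduct.induction_on with
        | zero => simp
        | add s t hs ht => simp only [map_add, hs, ht]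
        | tmul x y =>
          simp only [Algebra.TensorProduct.map_tmul, E, AlgEquiv.coe_toAlgHom, comul'_apply, LinearMap.rTensor_tmul,
            AlgHom.coe_id, id_eq]
          generalize comul (R := k) x = s
          induction s using TensorProduct.induction_on with
          | zero => simp
          | add s t hs ht => simp only [map_add, TensorProduct.add_tmul, hs, ht]
          | tmul p q => simp
      have h2 : ∀ t : A ⊗[k] A,
          Algebra.TensorProduct.map (AlgHom.id k A') (comul' e) (Algebra.TensorProduct.map E E t) =
          Algebra.TensorProduct.map E (Algebra.TensorProduct.map E E) ((comul (R := k) (A := A)).lTensor A t) := by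
        intro t
        induction t using TensorProduct.induction_on with
        | zero => simp
        | add s t hs ht => simp only [map_add, hs, ht]
        | tmul x y => simp [E, comul'_apply]
      simp only [AlgHom.comp_apply, comul'_apply, AlgEquiv.coe_toAlgHom]
      rw [h1, h2, Coalgebra.coassoc_apply])
    (AlgHom.ext fun x => by
      obtain ⟨a, rfl⟩ := e.surjective x
      simp only [AlgHom.comp_apply, comul'_apply, AlgEquiv.coe_toAlgHom, Algebra.TensorProduct.lid_symm_apply]
      have h : ∀ t : A ⊗[k] A, Algebra.TensorProduct.map (counit' e) (AlgHom.id k A')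
          (Algebra.TensorProduct.map (e : A →ₐ[k] A') (e : A →ₐ[k] A') t) =
          (e.toLinearMap).lTensor k ((counit (R := k) (A := A)).rTensor A t) := by
        intro t
        induction t using TensorProduct.induction_on with
        | zero => simp
        | add s t hs ht => simp only [map_add, hs, ht]
        | tmul x y => simp [counit'_apply]
      rw [h, Coalgebra.rTensor_counit_comul]
      simp)
    (AlgHom.ext fun x => by
      obtain ⟨a, rfl⟩ := e.surjective x
      simp only [AlgHom.comp_apply, comul'_apply, AlgEquiv.coe_toAlgHom, Algebra.TensorProduct.rid_symm_apply]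
      have h : ∀ t : A ⊗[k] A, Algebra.TensorProduct.map (AlgHom.id k A') (counit' e)
          (Algebra.TensorProduct.map (e : A →ₐ[k] A') (e : A →ₐ[k] A') t) =
          (e.toLinearMap).rTensor k ((counit (R := k) (A := A)).lTensor A t) := by
        intro t
        induction t using TensorProduct.induction_on with
        | zero => simp
        | add s t hs ht => simp only [map_add, hs, ht]
        | tmul x y => simp [counit'_apply]
      rw [h, Coalgebra.lTensor_counit_comul]
      simp)

/-- transported Hopf algebra structure -/
abbrev hopfAlgebra : HopfAlgebra k A' :=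
  letI := bialgebra e
  HopfAlgebra.ofConvInverse (e.toLinearMap ∘ₗ HopfAlgebra.antipode k ∘ₗ e.symm.toLinearMap)
    (WithConv.ext <| LinearMap.ext fun x => by
      obtain ⟨a, rfl⟩ := e.surjective x
      rw [LinearMap.convMul_apply, show comul (R := k) (e a) = comul' e (e a) from rfl, comul'_apply,
        LinearMap.convOne_apply, show counit (R := k) (e a) = counit' e (e a) from rfl, counit'_apply,
        ← e.commutes, ← HopfAlgebra.mul_antipode_rTensor_comul_apply (R := k) a]
      generalize comul (R := k) a = t
      induction t using TensorProduct.induction_on with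
      | zero => simp
      | add s t hs ht => simp only [map_add, hs, ht]
      | tmul p q => simp)
    (WithConv.ext <| LinearMap.ext fun x => by
      obtain ⟨a, rfl⟩ := e.surjective x
      rw [LinearMap.convMul_apply, show comul (R := k) (e a) = comul' e (e a) from rfl, comul'_apply,
        LinearMap.convOne_apply, show counit (R := k) (e a) = counit' e (e a) from rfl, counit'_apply,
        ← e.commutes, ← HopfAlgebra.mul_antipode_lTensor_comul_apply (R := k) a]
      generalize comul (R := k) a = t
      induction t using TensorProduct.induction_on with
      | zero => simp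
      | add s t hs ht => simp only [map_add, hs, ht]
      | tmul p q => simp)

/-- the transport is an isomorphism of bialgebras -/
def bialgEquiv : letI := hopfAlgebra e; A ≃ₐc[k] A' :=
  letI := hopfAlgebra e
  BialgEquiv.ofAlgEquiv e (AlgHom.ext fun a => counit'_apply e a)
    (AlgHom.ext fun a => (comul'_apply e a).symm)

/-- a finitely generated Hopf algebra has a model in the universe of the base -/
theorem exists_model (k : Type u) [CommRing k] (A : Type v) [CommRing A] [HopfAlgebra k A]
    [Algebra.FiniteType k A] :
    ∃ (A' : Type u) (_ : CommRing A') (_ : HopfAlgebra k A'), Nonempty (A ≃ₐc[k] A') := by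
  obtain ⟨n, f, hf⟩ := Algebra.FiniteType.iff_quotient_mvPolynomial''.mp ‹Algebra.FiniteType k A›
  let e : A ≃ₐ[k] MvPolynomial (Fin n) k ⧸ RingHom.ker f := (Ideal.quotientKerAlgEquivOfSurjective hf).symm
  exact ⟨_, inferInstance, hopfAlgebra e, ⟨bialgEquiv e⟩⟩

end

end Groth.Agent.HopfShrink
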