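import Groth.Statements.S5423
import Groth.Agent.S7975
import Groth.Agent.S7987
import Groth.Agent.S8011
import Groth.Agent.Comod.Basic
import Groth.Agent.HopfTr48.Translate
import Mathlib.RingTheory.Jacobson.Ring

set_option autoImplicit false
universe u
open TensorProduct
open SGA3t2b

namespace Groth.Agent.S5423

open WithConv Groth.Agent TensorProduct

theorem separated {k : Type u} [Field k] [IsAlgClosed k] {A : Type u} [CommRing A] [HopfAlgebra k A]
    [Algebra.FiniteType k A] [IsReduced A] (a : A) (h : ∀ g : A →ₐ[k] k, g a = 0) : a = 0 := by
  haveI : IsJacobsonRing A := isJacobsonRing_of_finiteType (A := k)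
  have hmem : a ∈ (⊥ : Ideal A).jacobson := by
    refine Ideal.mem_sInf.mpr fun m hm => ?_
    haveI := hm.2
    obtain ⟨g, hg⟩ := HopfTr48.exists_point_ker_eq (k := k) m
    rw [← hg, RingHom.mem_ker]
    exact h g
  rw [← Ideal.radical_eq_jacobson] at hmem
  exact IsReduced.eq_zero a (mem_nilradical.mp hmem)

/-- Let k be an algebraically closed field and A a reduced finitely generated commutative Hopf algebra
over k (a smooth affine algebraic k-group G). Then G is unipotent (every non-zero finite-dimensional
representation has a non-zero fixed vector) if and only if every element of G(k) is unipotent, i.e.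
every k-point g : A → k acts on every finite-dimensional comodule V by an endomorphism g_V with g_V
− 1 nilpotent. -/
theorem result (k : Type u) [Field k] [IsAlgClosed k] (A : Type u) [CommRing A] [HopfAlgebra k A] [Algebra.FiniteType k A]
    [IsReduced A] :
    HopfRep.IsUnipotent k A ↔
      ∀ (g : A →ₐ[k] k) (V : Type u) [AddCommGroup V] [Module k V] [HopfRep.Comod k A V],
        Module.Finite k V → IsNilpotent (HopfRep.Comod.act k A V g - LinearMap.id) := by
  constructor
  · intro hU g V _ _ _ hfin
    exact S7987.result k A hU g V
  · intro h V _ _ c hfin hnt hbot
    haveI := hfin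
    let ρ : Representation k (WithConv (A →ₐ[k] k)) V :=
      { toFun := fun g => HopfRep.Comod.act k A V g.ofConv
        map_one' := by
          refine LinearMap.ext fun v => ?_
          have h1 : (1 : WithConv (A →ₐ[k] k)).ofConv.toLinearMap = Coalgebra.counit (R := k) := by
            ext a; simp [AlgHom.convOne_def]
          show Comod.contract (1 : WithConv (A →ₐ[k] k)).ofConv.toLinearMap v = v
          rw [h1, Comod.contract_counit]
        map_mul' := fun g g' => by
          refine LinearMap.ext fun v => ?_
          show Comod.contract (g * g').ofConv.toLinearMap v =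
            Comod.contract g.ofConv.toLinearMap (Comod.contract g'.ofConv.toLinearMap v)
          rw [Comod.contract_contract]
          congr 2 }
    obtain ⟨v, hv0, hv⟩ := S7975.result k (WithConv (A →ₐ[k] k)) V ρ (fun g => h g.ofConv V hfin)
    have hfix : v ∈ HopfRep.fixedPts k A V := by
      refine (S8011.result k A k separated V v).mpr fun g => ?_
      have h1 : Comod.contract g.toLinearMap v = v := hv (toConv g)
      apply (TensorProduct.rid k V).injective
      rw [TensorProduct.rid_tmul, one_smul]
      exact h1
    rw [hbot, Submodule.mem_bot] at hfix
    exact hv0 hfix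

end Groth.Agent.S5423
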