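import Groth.Statements.S11199
import Groth.Agent.AGFPoints.Basic
import Mathlib.LinearAlgebra.Basis.VectorSpace
import Mathlib.LinearAlgebra.TensorProduct.Basis
import Mathlib.RingTheory.FiniteType
import Mathlib.AlgebraicGeometry.Morphisms.FiniteType
-- import your own Groth.Agent.* helpers here

set_option autoImplicit false
universe u
open CategoryTheory MonoidalCategory CartesianMonoidalCategory MonObj GrpObj AlgebraicGeometry
open scoped TensorProduct
open AGF

namespace Groth.Agent.S11199

open Groth.Agent.AGFPoints.Basic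

theorem finiteType_coord {k : Type u} [Field k] (X : Over (Spec (CommRingCat.of k))) [IsAffine X.left]
    [LocallyOfFiniteType X.hom] : Algebra.FiniteType k (Coord X) := by
  have h := HasRingHomProperty.appTop (P := @LocallyOfFiniteType) X.hom inferInstance
  refine RingHom.FiniteType.comp (g := X.hom.appTop.hom) h ?_
  exact RingHom.FiniteType.of_surjective _
    (Scheme.ΓSpecIso (CommRingCat.of k)).commRingCatIsoToRingEquiv.symm.surjective

theorem hom_pt_unique {k B : Type u} [Field k] [CommRing B] [Algebra k B]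
    (t : VecGrp.pt k B ⟶ VecGrp.pt k k) : t = VecGrp.ptMap (Algebra.ofId k B) := by
  refine Over.OverMorphism.ext ?_
  have h := Over.w t
  have e : (VecGrp.pt k k).hom = 𝟙 _ := by
    change Spec.map (CommRingCat.ofHom (algebraMap k k)) = _
    rw [Algebra.algebraMap_self]
    exact Spec.map_id _
  rw [e, Category.comp_id] at h
  exact h

/-- The condition that a rational point fixes `f` is a closed condition. -/
theorem exists_ideal {k : Type u} [Field k] {G : Over (Spec (CommRingCat.of k))} [GrpObj G]
    [IsAffine G.left] (f : Γ(G.left, ⊤)) :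
    ∃ J : Ideal (Coord G), ∀ g : VecGrp.pt k k ⟶ G,
      AGF.IsRTransInv g f ↔ ∀ a ∈ J, val g a = 0 := by
  classical
  let iL : Coord G →ₐ[k] Coord G ⊗[k] Coord G := Algebra.TensorProduct.includeLeft
  let iR : Coord G →ₐ[k] Coord G ⊗[k] Coord G := Algebra.TensorProduct.includeRight
  set F : Coord G ⊗[k] Coord G := val (VecGrp.ptMap iL ≫ uPt G * (VecGrp.ptMap iR ≫ uPt G)) f -
    val (VecGrp.ptMap iL ≫ uPt G) f with hF
  obtain ⟨J, b⟩ : Σ J : Type u, Module.Basis J k (Coord G) := ⟨_, Module.Basis.ofVectorSpace k _⟩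
  obtain ⟨c, hc⟩ := TensorProduct.eq_repr_basis_left b F
  refine ⟨Ideal.span (Set.range c), fun g => ?_⟩
  have : IsAffine (VecGrp.pt k k).left := inferInstanceAs (IsAffine (Spec (CommRingCat.of k)))
  let φ : Coord G ⊗[k] Coord G →ₐ[k] Coord G :=
    Algebra.TensorProduct.lift (AlgHom.id k _) ((Algebra.ofId k (Coord G)).comp (valHom g))
      (fun _ _ => mul_comm _ _)
  have hφF : φ F = val (uPt G * (VecGrp.ptMap (Algebra.ofId k (Coord G)) ≫ g)) f - val (uPt G) f := by
    rw [hF, map_sub, ← val_ptMap, ← val_ptMap, MonObj.comp_mul]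
    have e1 : VecGrp.ptMap φ ≫ VecGrp.ptMap iL ≫ uPt G = uPt G := by
      refine pt_ext fun a => ?_
      rw [val_ptMap, val_ptMap]
      simp only [φ, iL, Algebra.TensorProduct.includeLeft_apply, Algebra.TensorProduct.lift_tmul,
        map_one, AlgHom.coe_id, id_eq]
      exact _root_.mul_one _
    have e2 : VecGrp.ptMap φ ≫ VecGrp.ptMap iR ≫ uPt G = VecGrp.ptMap (Algebra.ofId k (Coord G)) ≫ g := by
      refine pt_ext fun a => ?_
      rw [val_ptMap, val_ptMap, val_ptMap, val_uPt]
      simp [φ, iR]
    rw [e1, e2]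
  constructor
  · intro h a ha
    have h0 : φ F = 0 := by
      rw [hφF, sub_eq_zero]
      exact (isRTransInv_iff g f).mp h _ _ _
    rw [← hc] at h0
    simp only [Finsupp.sum, map_sum, φ, Algebra.TensorProduct.lift_tmul, AlgHom.coe_id, id_eq,
      AlgHom.comp_apply] at h0
    have h1 : ∀ j, val g (c j) = 0 := by
      intro j
      by_cases hj : c j = 0
      · rw [hj]; exact map_zero _
      have h2 : ∑ x ∈ c.support, (val g (c x) : k) • b x = 0 := by
        rw [← h0]
        refine Finset.sum_congr rfl fun x _ => ?_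
        rw [Algebra.ofId_apply, valHom_apply, mul_comm, ← Algebra.smul_def]
      exact linearIndependent_iff'.mp b.linearIndependent _ _ h2 j (Finsupp.mem_support_iff.mpr hj)
    have h3 : Ideal.span (Set.range c) ≤ RingHom.ker (valHom g) := by
      rw [Ideal.span_le]
      rintro _ ⟨j, rfl⟩
      exact h1 j
    exact h3 ha
  · intro h
    rw [isRTransInv_iff]
    intro B _ _ x t
    have h0 : φ F = 0 := by
      rw [← hc]
      simp only [Finsupp.sum, map_sum, φ, Algebra.TensorProduct.lift_tmul]
      refine Finset.sum_eq_zero fun j _ => ?_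
      rw [AlgHom.comp_apply, valHom_apply, h (c j) (Ideal.subset_span ⟨j, rfl⟩), map_zero, mul_zero]
    rw [hφF, sub_eq_zero] at h0
    have h4 := congrArg (valHom x) h0
    rw [hom_pt_unique t]
    have e : x * (VecGrp.ptMap (Algebra.ofId k B) ≫ g) =
        VecGrp.ptMap (valHom x) ≫ (uPt G * (VecGrp.ptMap (Algebra.ofId k (Coord G)) ≫ g)) := by
      rw [MonObj.comp_mul, ← eq_ptMap_uPt]
      congr 1
      refine pt_ext fun a => ?_
      rw [val_ptMap, val_ptMap, val_ptMap]
      simp
    have e' : val x f = val (VecGrp.ptMap (valHom x) ≫ uPt G) f := by rw [← eq_ptMap_uPt]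
    rw [e, e', val_ptMap, val_ptMap]
    exact h4

/-- Let k be an algebraically closed field, G a linear algebraic group over k (an affine smooth group
scheme over k) and H a closed subgroup of G (a smooth closed subgroup scheme, i : H → G). Then there
are finitely many right-H-invariant global functions f₁, ..., fₙ on G which already cut out the
observable hull of H: a rational point of G whose right translation fixes each fⱼ fixes every
right-H-invariant global function. -/
theorem result (k : Type u) [Field k] [IsAlgClosed k]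
    (G : Over (Spec (CommRingCat.of k))) [GrpObj G] [IsAffine G.left] [Smooth G.hom]
    (H : Over (Spec (CommRingCat.of k))) [GrpObj H] [Smooth H.hom] (i : H ⟶ G) [IsMonHom i]
    [IsClosedImmersion i.left] :
    ∃ s : Finset Γ(G.left, ⊤), (∀ f ∈ s, AGF.IsRTransInv i f) ∧
      ∀ g : VecGrp.pt k k ⟶ G, (∀ f ∈ s, AGF.IsRTransInv g f) →
        ∀ f : Γ(G.left, ⊤), AGF.IsRTransInv i f → AGF.IsRTransInv g f := by
  classical
  have : IsNoetherianRing (Coord G) :=
    have := finiteType_coord G
    Algebra.FiniteType.isNoetherianRing k (Coord G)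
  choose J hJ using fun f : Γ(G.left, ⊤) => exists_ideal (k := k) f
  let T : Set (Ideal (Coord G)) :=
    {I | ∃ s : Finset Γ(G.left, ⊤), (∀ f ∈ s, AGF.IsRTransInv i f) ∧ I = s.sup J}
  obtain ⟨I, ⟨s, hs, rfl⟩, hmax⟩ :=
    (set_has_maximal_iff_noetherian (R := Coord G) (M := Coord G)).mpr ‹_› T ⟨⊥, ∅, by simp, by simp⟩
  refine ⟨s, hs, fun g hg f hf => ?_⟩
  rw [hJ f g]
  intro a ha
  have hle : J f ≤ s.sup J := by
    by_contra hn
    refine hmax ((insert f s).sup J) ⟨insert f s, ?_, rfl⟩ ?_
    · intro x hx
      rcases Finset.mem_insert.mp hx with rfl | hx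
      · exact hf
      · exact hs x hx
    · rw [Finset.sup_insert]
      exact lt_of_le_of_ne le_sup_right fun e => hn (e ▸ le_sup_left)
  have : s.sup J ≤ RingHom.ker (valHom g) := Finset.sup_le fun x hx => fun y hy => (hJ x g).mp (hg x hx) y hy
  exact this (hle ha)

end Groth.Agent.S11199
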