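import Groth.Statements.S9455
import Groth.Agent.CAlg48.FlatFS
import Groth.Agent.CAlg48.PrimeField
import Mathlib.RingTheory.Flat.Tensor
import Mathlib.Data.ZMod.QuotientRing
-- import your own Groth.Agent.* helpers here

set_option autoImplicit false
universe u
open CAlg TensorProduct

namespace Groth.Agent.S9455

/-- If Λ is a Cohen ring (a complete discrete valuation ring with maximal ideal generated by a prime
number p) then Λ/p^nΛ is formally smooth over ℤ/p^nℤ for every n ≥ 1; the ℤ/p^nℤ-algebra structure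
on Λ/p^nΛ is the unique one and is taken as a hypothesis. -/
theorem result (Λ : Type u) [CommRing Λ] [IsDomain Λ]
    [IsDiscreteValuationRing Λ] [IsAdicComplete (IsLocalRing.maximalIdeal Λ) Λ] (p : ℕ)
    (hp : p.Prime) (hm : IsLocalRing.maximalIdeal Λ = Ideal.span {(p : Λ)}) (n : ℕ) (hn : 1 ≤ n)
    [Algebra (ZMod (p ^ n)) (Λ ⧸ Ideal.span {((p : Λ) ^ n)})] :
    Algebra.FormallySmooth (ZMod (p ^ n)) (Λ ⧸ Ideal.span {((p : Λ) ^ n)}) := by
  classical
  let R := ZMod (p ^ n)
  let A := Λ ⧸ Ideal.span {((p : Λ) ^ n)}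
  have hcast : ∀ z : ℤ, algebraMap R A (z : R) = Ideal.Quotient.mk _ (z : Λ) := fun z => by
    rw [map_intCast, map_intCast]
  have hR : Function.Surjective (Int.castRingHom R) := ZMod.intCast_surjective
  have hp0 : (p : Λ) ≠ 0 := fun h => IsDiscreteValuationRing.not_a_field Λ
    (hm.trans (Ideal.span_singleton_eq_bot.mpr h))
  have hmem : ∀ {z : ℤ}, (z : R) = 0 ↔ ((p ^ n : ℕ) : ℤ) ∣ z := fun {z} =>
    ZMod.intCast_zmod_eq_zero_iff_dvd z (p ^ n)
  have hflat : Module.Flat R A := by
    rw [Module.Flat.iff_rTensor_injective']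
    intro I
    obtain ⟨d, hd⟩ : ∃ d : ℤ, I.comap (Int.castRingHom R) = Ideal.span {d} :=
      ⟨_, (Submodule.IsPrincipal.span_singleton_generator _).symm⟩
    have hpd : d ∣ (p : ℤ) ^ n := by
      rw [← Ideal.mem_span_singleton, ← hd, Ideal.mem_comap]
      have : ((p ^ n : ℕ) : R) = 0 := ZMod.natCast_self _
      rw [Nat.cast_pow] at this
      rw [map_pow, map_natCast, this]
      exact zero_mem I
    obtain ⟨i, hin, hdi⟩ := (dvd_prime_pow (Nat.prime_iff_prime_int.mp hp) n).mp hpd
    have hI : I = Ideal.span {((p : R) ^ i)} := by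
      rw [← Ideal.map_comap_of_surjective (Int.castRingHom R) hR I, hd,
        Ideal.span_singleton_eq_span_singleton.mpr hdi, Ideal.map_span, Set.image_singleton]
      simp
    subst hI
    let g : Ideal.span {((p : R) ^ i)} := ⟨_, Ideal.mem_span_singleton_self _⟩
    have hrep : ∀ t : Ideal.span {((p : R) ^ i)} ⊗[R] A, ∃ m : A, t = g ⊗ₜ m := by
      intro t
      induction t using TensorProduct.induction_on with
      | zero => exact ⟨0, by simp⟩
      | add a b ha hb =>
        obtain ⟨x, rfl⟩ := ha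
        obtain ⟨y, rfl⟩ := hb
        exact ⟨x + y, (TensorProduct.tmul_add _ _ _).symm⟩
      | tmul x m =>
        obtain ⟨c, hc⟩ := Ideal.mem_span_singleton'.mp x.2
        refine ⟨c • m, ?_⟩
        rw [← TensorProduct.smul_tmul]
        congr 1
        exact Subtype.ext hc.symm
    rw [injective_iff_map_eq_zero]
    intro t ht
    obtain ⟨m, rfl⟩ := hrep t
    have h0 : ((p : R) ^ i) • m = 0 := by
      have := congrArg (TensorProduct.lid R A) ht
      simpa [g] using this
    obtain ⟨μ, rfl⟩ := Ideal.Quotient.mk_surjective m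
    rw [Algebra.smul_def, map_pow, map_natCast, ← map_natCast (Ideal.Quotient.mk _), ← map_pow,
      ← map_mul, Ideal.Quotient.eq_zero_iff_mem, Ideal.mem_span_singleton] at h0
    obtain ⟨c, hc⟩ := h0
    have hμ : μ = (p : Λ) ^ (n - i) * c := by
      apply mul_left_cancel₀ (pow_ne_zero i hp0)
      rw [hc, ← mul_assoc, ← pow_add, Nat.add_sub_cancel' hin]
    have : g ⊗ₜ[R] (Ideal.Quotient.mk _ μ : A) =
        (((p : R) ^ (n - i)) • g) ⊗ₜ[R] (Ideal.Quotient.mk _ c : A) := by
      rw [TensorProduct.smul_tmul]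
      congr 1
      rw [hμ, map_mul, Algebra.smul_def, map_pow, map_pow, map_natCast, map_natCast]
    rw [this, show ((p : R) ^ (n - i)) • g = 0 from Subtype.ext (by
      change (p : R) ^ (n - i) * (p : R) ^ i = 0
      rw [← pow_add, Nat.sub_add_cancel hin, ← Nat.cast_pow]
      exact ZMod.natCast_self _), TensorProduct.zero_tmul]
  let I : Ideal R := Ideal.span {(p : R)}
  have hI : IsNilpotent I := ⟨n, by
    rw [Ideal.span_singleton_pow, ← Nat.cast_pow, show ((p ^ n : ℕ) : R) = 0 from ZMod.natCast_self _]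
    simp⟩
  let J := I.map (algebraMap R A)
  have hJ : J = (IsLocalRing.maximalIdeal Λ).map (Ideal.Quotient.mk _) := by
    simp only [J, I, hm, Ideal.map_span, Set.image_singleton]
    rw [map_natCast, map_natCast]
  have hle : Ideal.span {((p : Λ) ^ n)} ≤ IsLocalRing.maximalIdeal Λ := by
    rw [hm, Ideal.span_singleton_le_span_singleton]
    exact dvd_pow_self _ (by omega)
  have hJmax : J.IsMaximal := hJ ▸ Ideal.IsMaximal.map_of_surjective_of_ker_le
    Ideal.Quotient.mk_surjective (by rwa [Ideal.mk_ker])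
  let K := A ⧸ J
  let _ : Field K := Ideal.Quotient.field J
  have hIp : I.IsPrime := by
    have hk : RingHom.ker (algebraMap (R ⧸ I) K) = ⊥ := by
      rw [eq_bot_iff]
      intro x hx
      obtain ⟨x, rfl⟩ := Ideal.Quotient.mk_surjective x
      obtain ⟨z, rfl⟩ := hR x
      have h1 : (Ideal.Quotient.mk (Ideal.span {((p : Λ) ^ n)}) (z : Λ)) ∈ J := by
        rw [← hcast]; exact Ideal.Quotient.eq_zero_iff_mem.mp hx
      rw [hJ, Ideal.mem_quotient_iff_mem hle] at h1
      rw [Ideal.mem_bot, Ideal.Quotient.eq_zero_iff_mem]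
      by_contra hz
      have hco : IsCoprime z (p : ℤ) := by
        rw [Int.isCoprime_iff_gcd_eq_one]
        rcases Nat.coprime_or_dvd_of_prime hp z.natAbs with h | h
        · exact Nat.coprime_comm.mp h
        · obtain ⟨c, hc⟩ := Int.natCast_dvd.mpr h
          exact absurd (Ideal.mem_span_singleton.mpr ⟨(c : R), by simp [hc]⟩) hz
      obtain ⟨a, b, hab⟩ := hco
      refine (IsLocalRing.maximalIdeal.isMaximal Λ).ne_top ((Ideal.eq_top_iff_one _).mpr ?_)
      have h2 := congrArg (fun w : ℤ => (w : Λ)) hab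
      simp only [Int.cast_add, Int.cast_mul, Int.cast_one, Int.cast_natCast] at h2
      rw [← h2]
      exact add_mem (Ideal.mul_mem_left _ _ h1)
        (Ideal.mul_mem_left _ _ (hm ▸ Ideal.mem_span_singleton_self _))
    rw [← Ideal.Quotient.isDomain_iff_prime]
    exact Function.Injective.isDomain (algebraMap (R ⧸ I) K) ((RingHom.injective_iff_ker_eq_bot _).mpr hk)
  have : I.IsMaximal := by
    have : Fact (0 < p ^ n) := ⟨pow_pos hp.pos n⟩
    have : NeZero (p ^ n) := ⟨(pow_pos hp.pos n).ne'⟩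
    exact Ideal.IsPrime.isMaximal' hIp
  let _ : Field (R ⧸ I) := Ideal.Quotient.field I
  have hsurj : Function.Surjective (Int.castRingHom (R ⧸ I)) := fun x => by
    obtain ⟨x, rfl⟩ := Ideal.Quotient.mk_surjective x
    obtain ⟨z, rfl⟩ := hR x
    exact ⟨z, by simp⟩
  have : Algebra.FormallySmooth (R ⧸ I) (A ⧸ I.map (algebraMap R A)) :=
    CAlg48.PrimeField.formallySmooth_of_surjective hsurj K
  exact CAlg48.FlatFS.formallySmooth I hI

end Groth.Agent.S9455
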