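import Groth.Statements.S9829
import Groth.Agent.CAlgA.NormalRegular

set_option autoImplicit false
universe u
open CAlg

namespace Groth.Agent.S9829

/-- A regular local ring is an integrally closed domain. Hence a scheme all of whose local rings are
regular is normal. -/
theorem result (A : Type u) [CommRing A] [IsRegularLocalRing A] :
    IsIntegrallyClosed A := by
  have := Groth.Agent.RegLoc.isDomain A
  refine CAlgA.NormalRegular.isIntegrallyClosed_of_conditions
    (fun p _ _ => Groth.Agent.RegLoc.Homological.isRegularLocalRing_localization p)
    (CAlgA.NormalRegular.hasSk_two fun p _ => ?_)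
  have := Groth.Agent.RegLoc.Homological.isRegularLocalRing_localization (R := A) p
  exact Groth.Agent.Depth.isCohenMacaulayLocalRing_of_isRegularLocalRing

end Groth.Agent.S9829
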