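import Groth.Statements.S6333
import Mathlib
-- import your own Groth.Agent.* helpers here

set_option autoImplicit false
universe u
open Fields

namespace Groth.Agent.S6333

/-- For a finitely generated field extension K/k, the algebraic closure of k inside K is a finite
extension of k. -/
theorem result {k K : Type u} [Field k] [Field K] [Algebra k K]
    (hfg : (⊤ : IntermediateField k K).FG) :
    FiniteDimensional k (algebraicClosure k K) := by
  let k' := algebraicClosure k K
  obtain ⟨s, hs⟩ := exists_isTranscendenceBasis k K
  let F := IntermediateField.adjoin k (Set.range (Subtype.val : s → K))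
  haveI : Algebra.IsAlgebraic F K := hs.isAlgebraic_field
  haveI hfin : Module.Finite F K := by
    obtain ⟨g, hg⟩ := hfg
    have : IntermediateField.adjoin F (g : Set K) = ⊤ := by
      apply IntermediateField.restrictScalars_injective k
      rw [IntermediateField.restrictScalars_top, eq_top_iff, ← hg,
        IntermediateField.restrictScalars_adjoin]
      exact IntermediateField.adjoin.mono k _ _ Set.subset_union_right
    have hfd := IntermediateField.finiteDimensional_adjoin (K := F) (S := (g : Set K))
      (fun x _ => Algebra.IsIntegral.isIntegral x)
    haveI : FiniteDimensional F (⊤ : IntermediateField F K) := this ▸ hfd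
    exact Module.Finite.equiv IntermediateField.topEquiv.toLinearEquiv
  haveI : Algebra.IsAlgebraic k k' := inferInstanceAs (Algebra.IsAlgebraic k (algebraicClosure k K))
  have hind : AlgebraicIndependent k' (Subtype.val : s → K) := hs.1.extendScalars k'
  let b := Module.Free.chooseBasis k k'
  have hli : LinearIndependent (Algebra.adjoin k (Set.range (Subtype.val : s → K)))
      (fun i => ((b i : k') : K)) := by
    rw [linearIndependent_iff']
    intro t g hg i hi
    have hp : ∀ i, ∃ q : MvPolynomial s k, MvPolynomial.aeval (Subtype.val : s → K) q = (g i : K) := by
      intro i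
      exact (le_of_eq (Algebra.adjoin_range_eq_range_aeval k (Subtype.val : s → K))) (g i).2
    choose q hq using hp
    let Q : MvPolynomial s k' := ∑ i ∈ t, MvPolynomial.C (b i) * MvPolynomial.map (algebraMap k k') (q i)
    have hQ : MvPolynomial.aeval (Subtype.val : s → K) Q = 0 := by
      simp only [Q, map_sum, map_mul, MvPolynomial.aeval_C, MvPolynomial.aeval_map_algebraMap, hq]
      rw [← hg]
      refine Finset.sum_congr rfl fun i _ => ?_
      rw [Subalgebra.smul_def, smul_eq_mul, mul_comm]; rfl
    have hQ0 : Q = 0 := hind (by rw [hQ, map_zero])
    have hz : q i = 0 := by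
      ext m
      rw [MvPolynomial.coeff_zero]
      have := congrArg (MvPolynomial.coeff m) hQ0
      simp only [Q, MvPolynomial.coeff_sum, MvPolynomial.coeff_C_mul, MvPolynomial.coeff_map,
        MvPolynomial.coeff_zero] at this
      refine linearIndependent_iff'.1 b.linearIndependent t (fun j => MvPolynomial.coeff m (q j)) ?_ i hi
      rw [← this]
      refine Finset.sum_congr rfl fun j _ => ?_
      rw [Algebra.smul_def, mul_comm]
    ext; rw [← hq, hz, map_zero]; rfl
  have hliF : LinearIndependent F (fun i => ((b i : k') : K)) := by
    open IntermediateField.algebraAdjoinAdjoin in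
    exact (LinearIndependent.iff_fractionRing _ F).1 hli
  haveI := hliF.finite
  exact Module.Finite.of_basis b

end Groth.Agent.S6333
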