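import Groth.Statements.S0573
import Groth.Agent.Nagata.FiniteType
import Groth.Agent.S6333

set_option autoImplicit false
universe u
open CAlg

namespace Groth.Agent.S0573

open Groth.Agent

/-- The closure of `R` in a domain of finite type: the component at a prime. -/
theorem exists_component {R S : Type u} [CommRing R] [CommRing S] [Algebra R S] [Algebra.FiniteType R S]
    (hR : CAlg.IsNagata R) (q : Ideal S) [q.IsPrime] :
    ∃ (N : Type u) (_ : AddCommGroup N) (_ : Module R N) (_ : Module.Finite R N)
      (g : integralClosure R S →ₗ[R] N), ∀ s, g s = 0 → (s : S) ∈ q := by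
  classical
  let D := R ⧸ q.comap (algebraMap R S)
  let T := S ⧸ q
  let K := FractionRing D
  let F := FractionRing T
  have : Module.Finite R D := Module.Finite.of_surjective (Algebra.linearMap R D) Ideal.Quotient.mk_surjective
  have hinj : Function.Injective (algebraMap D F) := by
    rw [IsScalarTower.algebraMap_eq D T F]
    exact (IsFractionRing.injective T F).comp Ideal.algebraMap_quotient_injective
  have : FaithfulSMul D F := (faithfulSMul_iff_algebraMap_injective D F).mpr hinj
  let _ : Algebra K F := FractionRing.liftAlgebra D F
  have : IsScalarTower R K F := IsScalarTower.of_algebraMap_eq fun r => by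
    rw [IsScalarTower.algebraMap_apply R D F, IsScalarTower.algebraMap_apply R D K,
      ← IsScalarTower.algebraMap_apply D K F]
  obtain ⟨G, hG⟩ := Algebra.FiniteType.out (R := R) (A := S)
  have hfg : (⊤ : IntermediateField K F).FG := by
    refine ⟨G.image (algebraMap S F), ?_⟩
    rw [eq_top_iff]
    rintro z -
    have hS : ∀ s : S, algebraMap S F s ∈ IntermediateField.adjoin K (↑(G.image (algebraMap S F)) : Set F) := by
      intro s
      have hs : s ∈ Algebra.adjoin R (G : Set S) := hG ▸ Algebra.mem_top
      induction hs using Algebra.adjoin_induction with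
      | mem x hx => exact IntermediateField.subset_adjoin K _ (by simpa using ⟨x, hx, rfl⟩)
      | algebraMap r =>
        rw [← IsScalarTower.algebraMap_apply R S F, IsScalarTower.algebraMap_apply R K F]
        exact IntermediateField.algebraMap_mem _ _
      | add a b _ _ ha hb => rw [map_add]; exact IntermediateField.add_mem _ ha hb
      | mul a b _ _ ha hb => rw [map_mul]; exact IntermediateField.mul_mem _ ha hb
    obtain ⟨a, b, -, rfl⟩ := IsFractionRing.div_surjective T z
    obtain ⟨a, rfl⟩ := Ideal.Quotient.mk_surjective a
    obtain ⟨b, rfl⟩ := Ideal.Quotient.mk_surjective b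
    exact IntermediateField.div_mem _ (hS a) (hS b)
  let k' := algebraicClosure K F
  have : FiniteDimensional K k' := S6333.result hfg
  have : IsScalarTower D k' F := IsScalarTower.of_algebraMap_eq fun _ => rfl
  have : IsScalarTower R D k' := IsScalarTower.of_algebraMap_eq fun r =>
    Subtype.ext (IsScalarTower.algebraMap_apply R D F r)
  have hN := Props.N2Local.finite_integralClosure (hR.2 (q.comap (algebraMap R S))) K k'
  have : Module.Finite R (integralClosure D k') := Module.Finite.trans D _
  let ψ : integralClosure R S →ₗ[R] F :=
    (IsScalarTower.toAlgHom R S F).toLinearMap ∘ₗ (integralClosure R S).val.toLinearMap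
  have hint : ∀ s, IsIntegral D (ψ s) := fun s =>
    ((s.2 : IsIntegral R (s : S)).map (IsScalarTower.toAlgHom R S F)).tower_top
  have hmem : ∀ s, ψ s ∈ k' := fun s =>
    (mem_algebraicClosure_iff').mpr ((hint s).tower_top)
  have hmem2 : ∀ s, (⟨ψ s, hmem s⟩ : k') ∈ integralClosure D k' := fun s =>
    (isIntegral_algebraMap_iff (algebraMap k' F).injective).mp (hint s)
  refine ⟨integralClosure D k', inferInstance, inferInstance, inferInstance,
    { toFun := fun s => ⟨⟨ψ s, hmem s⟩, hmem2 s⟩
      map_add' := fun a b => Subtype.ext (Subtype.ext (map_add ψ a b))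
      map_smul' := fun r a => Subtype.ext (Subtype.ext ?_) }, fun s hs => ?_⟩
  · exact map_smul ψ r a
  · have h0 : algebraMap T F (Ideal.Quotient.mk q (s : S)) = 0 :=
      congrArg (fun t : integralClosure D k' => ((t : k') : F)) hs
    exact Ideal.Quotient.eq_zero_iff_mem.mp (IsFractionRing.injective T F (h0.trans (map_zero _).symm))

/-- Stated for finite type rather than essentially finite type algebras: if `R` is a Nagata ring and `S`
a reduced `R`-algebra of finite type, then the integral closure of `R` in `S` is a finitely
generated `R`-module. -/
theorem result (R : Type u) [CommRing R] (hR : CAlg.IsNagata R)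
    (S : Type u) [CommRing S] [IsReduced S] [Algebra R S] [Algebra.FiniteType R S] :
    Module.Finite R (integralClosure R S) := by
  classical
  have := hR.1
  have : IsNoetherianRing S := Algebra.FiniteType.isNoetherianRing R S
  have : Finite ↥(minimalPrimes S) := (minimalPrimes.finite_of_isNoetherianRing S).to_subtype
  choose N i1 i2 i3 g hg using fun q : ↥(minimalPrimes S) => by
    have : q.1.IsPrime := q.2.1.1
    exact exists_component (R := R) (S := S) hR q.1
  have : IsNoetherian R (∀ q, N q) := isNoetherian_of_isNoetherianRing_of_finite R _
  refine Module.Finite.of_injective (LinearMap.pi g) fun a b h => ?_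
  rw [← sub_eq_zero] at h ⊢
  rw [← map_sub] at h
  exact Subtype.ext (Groth.Agent.RedNorm.eq_zero_of_forall_mem fun q => hg q _ (congrFun h q))

end Groth.Agent.S0573
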