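import Groth.Statements.S2111
import Groth.Agent.RegLoc.Serre
-- import your own Groth.Agent.* helpers here

set_option autoImplicit false
universe u
open CAlg

namespace Groth.Agent.S2111

/-- Let `R` be a Noetherian normal domain with fraction field `K`. An element of `K` which lies in `R_𝔭`
for every prime `𝔭` of height one lies in `R`. -/
theorem result {R : Type u} [CommRing R] [IsDomain R] [IsNoetherianRing R]
    [IsIntegrallyClosed R] (x : FractionRing R)
    (hx : ∀ (p : Ideal R) [p.IsPrime], p.height = 1 →
      x ∈ Set.range (algebraMap (Localization.AtPrime p) (FractionRing R))) :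
    x ∈ Set.range (algebraMap R (FractionRing R)) := by
  classical
  obtain ⟨⟨a, b⟩, hab⟩ := IsLocalization.surj (nonZeroDivisors R) x
  by_contra hne
  let J : Ideal R := (Ideal.span {(b : R)}).colon {a}
  have hJ : J ≠ ⊤ := by
    intro h
    apply hne
    have h1 : (1 : R) ∈ J := h ▸ Submodule.mem_top
    simp only [J, Submodule.mem_colon_singleton, one_smul, Ideal.mem_span_singleton] at h1
    obtain ⟨c, hc⟩ := h1
    refine ⟨c, mul_right_cancel₀ (IsLocalization.map_units (FractionRing R) b).ne_zero ?_⟩
    rw [hab, ← map_mul, mul_comm]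
    exact congrArg _ hc.symm
  obtain ⟨m, hm, hJm⟩ := Ideal.exists_le_maximal J hJ
  obtain ⟨q, hq, -⟩ := Ideal.exists_minimalPrimes_le hJm
  have := hq.1.1
  let N : Submodule R (R ⧸ Ideal.span {(b : R)}) := R ∙ Ideal.Quotient.mk (Ideal.span {(b : R)}) a
  have hann : Module.annihilator R N = J := by
    ext r
    simp only [Module.mem_annihilator, J, Submodule.mem_colon_singleton]
    constructor
    · intro hr
      have := congrArg Subtype.val (hr ⟨_, Submodule.mem_span_singleton_self _⟩)
      simpa [Algebra.smul_def, ← map_mul, Ideal.Quotient.eq_zero_iff_mem] using this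
    · rintro hr ⟨y, hy⟩
      obtain ⟨c, rfl⟩ := Submodule.mem_span_singleton.mp hy
      apply Subtype.ext
      simp only [SetLike.mk_smul_mk, smul_smul, Submodule.coe_zero]
      rw [Algebra.smul_def, Ideal.Quotient.algebraMap_eq, ← map_mul,
        Ideal.Quotient.eq_zero_iff_mem, show r * c * a = c * (r * a) by ring]
      exact Ideal.mul_mem_left _ _ hr
  have hqA : q ∈ associatedPrimes R (R ⧸ Ideal.span {(b : R)}) :=
    associatedPrimes.subset_of_injective (f := N.subtype) N.injective_subtype
      (Module.associatedPrimes.minimalPrimes_annihilator_subset_associatedPrimes R N (by rwa [hann]))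
  have hbq : (b : R) ∈ q := hq.1.2 (by
    simp only [J, Submodule.mem_colon_singleton, smul_eq_mul]
    exact Ideal.mul_mem_right _ _ (Ideal.mem_span_singleton_self _))
  have hqne : q ≠ ⊥ := fun h => nonZeroDivisors.ne_zero b.2 (by simpa [h] using hbq)
  have hnotJ : J ≤ q := hq.1.2
  have hnx : ¬ q.height = 1 := by
    intro h1
    obtain ⟨z, hz⟩ := hx q h1
    obtain ⟨⟨c, s⟩, hs⟩ := IsLocalization.surj q.primeCompl z
    refine s.2 (hnotJ ?_)
    simp only [J, Submodule.mem_colon_singleton, smul_eq_mul, Ideal.mem_span_singleton]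
    refine ⟨c, IsFractionRing.injective R (FractionRing R) ?_⟩
    have h2 := congrArg (algebraMap (Localization.AtPrime q) (FractionRing R)) hs
    rw [map_mul, ← IsScalarTower.algebraMap_apply, ← IsScalarTower.algebraMap_apply, hz] at h2
    rw [map_mul, map_mul, ← h2, ← hab]; ring
  have hA : (IsLocalRing.maximalIdeal (Localization.AtPrime q)).IsPrincipal := by
    by_contra hA
    have : IsIntegrallyClosed (Localization.AtPrime q) :=
      isIntegrallyClosed_of_isLocalization _ q.primeCompl q.primeCompl_le_nonZeroDivisors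
    have h2 := Groth.Agent.RegLoc.Serre.two_le_depth hA
    rw [Groth.Agent.Depth.depth_eq_idealDepth] at h2
    have hreg : IsSMulRegular (Localization.AtPrime q) (algebraMap R (Localization.AtPrime q) b) :=
      (isRegular_of_ne_zero ((map_ne_zero_iff _ (IsLocalization.injective _
        q.primeCompl_le_nonZeroDivisors)).mpr (nonZeroDivisors.ne_zero b.2))).left
    have hmem : algebraMap R (Localization.AtPrime q) b ∈ IsLocalRing.maximalIdeal _ :=
      (IsLocalization.AtPrime.to_map_mem_maximal_iff _ q b).mpr hbq
    rw [← Groth.Agent.Depth.idealDepth_quotSMulTop_add_one hmem hreg] at h2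
    have h3 : 1 ≤ LocCoh.idealDepth (IsLocalRing.maximalIdeal (Localization.AtPrime q))
        (QuotSMulTop (algebraMap R (Localization.AtPrime q) b) (Localization.AtPrime q)) :=
      (WithTop.add_le_add_iff_right ENat.one_ne_top).mp (le_of_eq_of_le one_add_one_eq_two h2)
    obtain ⟨c, hc, hcreg⟩ := Groth.Agent.Depth.exists_isSMulRegular_of_one_le_idealDepth h3
    obtain ⟨hq', y, hy⟩ := isAssociatedPrime_iff.mp hqA
    obtain ⟨y, rfl⟩ := Ideal.Quotient.mk_surjective y
    have hqy : ∀ r ∈ q, (b : R) ∣ r * y := fun r hr => by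
      rw [hy, Submodule.mem_colon_singleton, Submodule.mem_bot, Algebra.smul_def,
        Ideal.Quotient.algebraMap_eq, ← map_mul, Ideal.Quotient.eq_zero_iff_mem,
        Ideal.mem_span_singleton] at hr
      exact hr
    have hzero : ∀ w : Localization.AtPrime q, (Submodule.Quotient.mk w :
        QuotSMulTop (algebraMap R (Localization.AtPrime q) b) (Localization.AtPrime q)) = 0 ↔
        algebraMap R (Localization.AtPrime q) b ∣ w := by
      intro w
      rw [Submodule.Quotient.mk_eq_zero, Submodule.mem_smul_pointwise_iff_exists]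
      exact ⟨fun ⟨v, _, hv⟩ => ⟨v, hv.symm⟩, fun ⟨v, hv⟩ => ⟨v, trivial, hv.symm⟩⟩
    have hy0 : (Submodule.Quotient.mk (algebraMap R (Localization.AtPrime q) y) :
        QuotSMulTop (algebraMap R (Localization.AtPrime q) b) (Localization.AtPrime q)) = 0 := by
      refine hcreg ?_
      show c • _ = c • _
      rw [smul_zero, ← Submodule.Quotient.mk_smul, hzero, smul_eq_mul]
      obtain ⟨⟨r, s⟩, hrs⟩ := IsLocalization.surj q.primeCompl c
      obtain ⟨v, hv⟩ := hqy r ((IsLocalization.AtPrime.to_map_mem_maximal_iff _ q r).mp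
        (by rw [← hrs]; exact Ideal.mul_mem_right _ _ hc))
      refine (IsUnit.dvd_mul_right (IsLocalization.map_units (Localization.AtPrime q) s)).mp ?_
      refine ⟨algebraMap R _ v, ?_⟩
      rw [mul_right_comm, hrs, ← map_mul, hv, map_mul]
    obtain ⟨w, hw⟩ := (hzero _).mp hy0
    obtain ⟨⟨v, s⟩, hvs⟩ := IsLocalization.surj q.primeCompl w
    refine s.2 (hy.ge ?_)
    rw [Submodule.mem_colon_singleton, Submodule.mem_bot, Algebra.smul_def,
      Ideal.Quotient.algebraMap_eq, ← map_mul, Ideal.Quotient.eq_zero_iff_mem, Ideal.mem_span_singleton]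
    refine ⟨v, IsLocalization.injective (Localization.AtPrime q) q.primeCompl_le_nonZeroDivisors ?_⟩
    rw [map_mul, map_mul, ← hvs, hw]; ring
  refine hnx (le_antisymm ?_ ?_)
  · have h := Ideal.height_le_one_of_isPrincipal_of_mem_minimalPrimes
      (IsLocalRing.maximalIdeal (Localization.AtPrime q)) (IsLocalRing.maximalIdeal (Localization.AtPrime q))
        (by rw [Ideal.minimalPrimes_eq_subsingleton_self]; rfl)
    have h2 : ((IsLocalRing.maximalIdeal (Localization.AtPrime q)).height : WithBot ℕ∞) = q.height := by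
      rw [IsLocalRing.maximalIdeal_height_eq_ringKrullDim, IsLocalization.AtPrime.ringKrullDim_eq_height q]
    rwa [← WithBot.coe_inj.mp h2]
  · exact Order.one_le_iff_pos.mpr (pos_iff_ne_zero.mpr (fun h =>
      hqne (Ideal.height_eq_zero_iff_eq_bot.mp h)))

end Groth.Agent.S2111
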