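import Groth.Statements.S9892
-- import your own Groth.Agent.* helpers here

set_option autoImplicit false
universe u
open CategoryTheory CategoryTheory.Limits AlgebraicGeometry
open AlgSp

namespace Groth.Agent.S9892

theorem nat {S : Scheme.{u}} {U V : Over S} {F : AlgSp.PSp S} (f : V ⟶ U)
    (α : (AlgSp.pyon S).obj U ⟶ F) :
    uliftYonedaEquiv.{u + 1} ((AlgSp.pyon S).map f ≫ α) =
      F.map f.op (uliftYonedaEquiv.{u + 1} α) :=
  (uliftYonedaEquiv_naturality α f.op).symm

/-- Let `a : F ⟶ G` be a map of presheaves of sets on schemes over `S` which is representable by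
schemes. If `G` is a sheaf for the fppf topology, then so is `F`. -/
theorem result (S : Scheme.{u}) (F G : AlgSp.PSp S) (a : F ⟶ G)
    (ha : (AlgSp.pyon S).relativelyRepresentable a) (hG : Presheaf.IsSheaf (AlgSp.J S) G) :
    Presheaf.IsSheaf (AlgSp.J S) F := by
  rw [isSheaf_iff_isSheaf_of_type] at hG ⊢
  intro U R hR fam hfam
  have hy : (fam.map a).Compatible := hfam.map a
  let y := (hG R hR).amalgamate (fam.map a) hy
  have hyR : ∀ ⦃W : Over S⦄ (f : W ⟶ U) (hf : R f), G.map f.op y = a.app _ (fam f hf) :=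
    fun W f hf => (hG R hR).valid_glue hy f hf
  let g : (AlgSp.pyon S).obj U ⟶ G := uliftYonedaEquiv.symm y
  let x : ∀ ⦃W : Over S⦄ (f : W ⟶ U), R f → ((AlgSp.pyon S).obj W ⟶ F) :=
    fun W f hf => uliftYonedaEquiv.symm (fam f hf)
  have hx : ∀ ⦃W : Over S⦄ (f : W ⟶ U) (hf : R f), x f hf ≫ a = (AlgSp.pyon S).map f ≫ g := by
    intro W f hf
    apply uliftYonedaEquiv.injective
    rw [uliftYonedaEquiv_comp, Equiv.apply_symm_apply, nat, Equiv.apply_symm_apply, hyR f hf]
  let l : R.arrows.FamilyOfElements ((AlgSp.pyon S).obj (ha.pullback g)) :=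
    fun W f hf => ⟨ha.lift (x f hf) f (hx f hf)⟩
  have hl : l.Compatible := by
    intro W₁ W₂ Z g₁ g₂ f₁ f₂ hf₁ hf₂ h
    apply ULift.ext
    change g₁ ≫ ha.lift (x f₁ hf₁) f₁ (hx f₁ hf₁) = g₂ ≫ ha.lift (x f₂ hf₂) f₂ (hx f₂ hf₂)
    apply ha.hom_ext
    · simp only [Functor.map_comp, Category.assoc, Functor.relativelyRepresentable.lift_fst]
      apply uliftYonedaEquiv.injective
      rw [nat, nat, Equiv.apply_symm_apply,
        Equiv.apply_symm_apply]
      exact hfam g₁ g₂ hf₁ hf₂ h
    · simp [h]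
  have hV : Presieve.IsSheaf (AlgSp.J S) ((AlgSp.pyon S).obj (ha.pullback g)) :=
    (isSheaf_iff_isSheaf_of_type _ _).1 ((AlgSp.yon S).obj (ha.pullback g)).property
  obtain ⟨⟨v⟩, hv, -⟩ := hV R hR l hl
  refine ⟨uliftYonedaEquiv ((AlgSp.pyon S).map v ≫ ha.fst g), fun W f hf => ?_, fun x' hx' => ?_⟩
  · rw [← nat, ← Functor.map_comp_assoc]
    have h : f ≫ v = ha.lift (x f hf) f (hx f hf) := congrArg ULift.down (hv f hf)
    rw [h, Functor.relativelyRepresentable.lift_fst, Equiv.apply_symm_apply]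
  · have hy' : a.app _ x' = y := by
      apply (hG.isSeparated R hR).ext
      intro W f hf
      rw [hyR f hf, ← NatTrans.naturality_apply, hx' f hf]
    let l' := ha.lift (g := g) (uliftYonedaEquiv.symm x') (𝟙 U) (uliftYonedaEquiv.injective (by
      rw [uliftYonedaEquiv_comp, Equiv.apply_symm_apply, hy', CategoryTheory.Functor.map_id, Category.id_comp,
        Equiv.apply_symm_apply]))
    have hl' : l' = v := by
      apply congrArg ULift.down (a₁ := (⟨l'⟩ : ULift.{u + 1} (U ⟶ ha.pullback g))) (a₂ := ⟨v⟩)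
      apply (hV.isSeparated R hR).ext
      intro W f hf
      rw [hv f hf]
      apply ULift.ext
      change f ≫ l' = ha.lift (x f hf) f (hx f hf)
      apply ha.hom_ext
      · simp only [Functor.map_comp, Category.assoc, Functor.relativelyRepresentable.lift_fst, l']
        apply uliftYonedaEquiv.injective
        rw [nat, Equiv.apply_symm_apply, Equiv.apply_symm_apply]
        exact hx' f hf
      · simp [l']
    rw [← hl', Functor.relativelyRepresentable.lift_fst, Equiv.apply_symm_apply]

end Groth.Agent.S9892
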