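import Groth.Statements.S9762
import Groth.Agent.Wt.LSC
import Groth.Agent.EtStruct.QFinPts
-- import your own Groth.Agent.* helpers here

set_option autoImplicit false
universe u
open FlatMor

namespace Groth.Agent.S9762

open AlgebraicGeometry CategoryTheory Limits

open Groth.Agent.Wt Groth.Agent.Wt.EtNbhd Groth.Agent.Wt.Parts

theorem isFinite_iSup {P U : Scheme.{u}} (q : P ⟶ U) [LocallyOfFiniteType q] [IsSeparated q]
    {ι : Type} [Finite ι] (W : ι → P.Opens) (hW : ∀ i, IsFinite ((W i).ι ≫ q)) :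
    IsFinite ((⨆ i, W i).ι ≫ q) := by
  let V : P.Opens := ⨆ i, W i
  let W' : ι → V.toScheme.Opens := fun i => V.ι ⁻¹ᵁ W i
  have hle : ∀ i, W i ≤ V := fun i => le_iSup W i
  have hW' : ∀ i, IsFinite ((W' i).ι ≫ V.ι ≫ q) := fun i => by
    let e : (W' i).toScheme ≅ (W i).toScheme :=
      IsOpenImmersion.isoOfRangeEq ((W' i).ι ≫ V.ι) (W i).ι (by
        ext p
        constructor
        · rintro ⟨⟨⟨p, hp⟩, hp'⟩, rfl⟩
          exact ⟨⟨p, hp'⟩, rfl⟩
        · rintro ⟨⟨p, hp⟩, rfl⟩
          exact ⟨⟨⟨p, hle i hp⟩, hp⟩, rfl⟩)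
    have he : e.hom ≫ (W i).ι = (W' i).ι ≫ V.ι := IsOpenImmersion.isoOfRangeEq_hom_fac _ _ _
    rw [← Category.assoc, ← he, Category.assoc]
    have := hW i
    infer_instance
  have hcov : iSup W' = ⊤ := eq_top_iff.mpr fun p _ => by
    obtain ⟨i, hi⟩ := TopologicalSpace.Opens.mem_iSup.mp p.2
    exact TopologicalSpace.Opens.mem_iSup.mpr ⟨i, hi⟩
  have : LocallyQuasiFinite (V.ι ≫ q) :=
    IsZariskiLocalAtSource.of_iSup_eq_top (P := @LocallyQuasiFinite) W' hcov fun i => by
      have := hW' i
      infer_instance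
  have : UniversallyClosed (V.ι ≫ q) := LSC.universallyClosed_of_finite_parts (V.ι ≫ q) Set.univ
    Set.finite_univ W' (fun i _ => hW' i) fun p => by
      obtain ⟨i, hi⟩ := TopologicalSpace.Opens.mem_iSup.mp p.2
      exact ⟨i, trivial, hi⟩
  have : IsProper (V.ι ≫ q) := ⟨⟩
  exact .of_isProper_of_locallyQuasiFinite _


open AlgebraicGeometry CategoryTheory Limits in
/-- For f : X ⟶ S separated and locally of finite type, and a point s of S such that only finitely many
points of the fibre over s are isolated, some elementary étale neighbourhood (U, u) of (S, s) admits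
an open and closed V ⊆ U ×_S X, finite over U, such that no point of the fibre over u lying outside
V is isolated in that fibre. The published statement also asserts that the complement of V has empty
fibre over u when the fibre over s is finite; this row omits that clause. -/
theorem result {X S : Scheme.{u}} (f : X ⟶ S) [LocallyOfFiniteType f] [IsSeparated f] (s : S)
    (hfin : {x : ↑(f.fiber s) | IsOpen ({x} : Set ↑(f.fiber s))}.Finite) :
    ∃ (U : Scheme.{u}) (g : U ⟶ S) (u : U), Hens2.IsEtaleNbhd g u s ∧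
      ∃ V : (pullback f g).Opens, IsClopen (V : Set ↑(pullback f g)) ∧ IsFinite (V.ι ≫ pullback.snd f g) ∧
        ∀ w : ↑((pullback.snd f g).fiber u), (pullback.snd f g).fiberι u w ∉ V →
          ¬ IsOpen ({w} : Set ↑((pullback.snd f g).fiber u)) := by
  have hfin' : Finite {x : ↑(f.fiber s) // IsOpen ({x} : Set ↑(f.fiber s))} := hfin.to_subtype
  obtain ⟨n, ⟨e⟩⟩ := Finite.exists_equiv_fin {x : ↑(f.fiber s) // IsOpen ({x} : Set ↑(f.fiber s))}
  let x : Fin n → X := fun i => f.fiberι s (e.symm i).1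
  have hs : ∀ i, f (x i) = s := fun i => by
    show (f.fiberι s ≫ f) (e.symm i).1 = s
    rw [f.fiber_fac]
    exact S.fromSpecResidueField_apply s _
  have hx : ∀ i, f.QuasiFiniteAt (x i) := fun i => by
    rw [Scheme.Hom.quasiFiniteAt_iff_isOpen_singleton_asFiber,
      Groth.Agent.EtStruct.isOpen_asFiber_iff f (x i) (e.symm i).1 rfl]
    exact (e.symm i).2
  obtain ⟨U, g, u, hn, W, z, hWz⟩ := exists_finParts f s (Fin n) x hs hx
  let q := pullback.snd f g
  have hclosedMap : ∀ i, IsClosedMap ((W i).ι ≫ q) := fun i => by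
    have := (hWz i).1.finite
    exact ((W i).ι ≫ q).isClosedMap
  have hclopen : ∀ i, IsClopen (W i : Set ↑(pullback f g)) := fun i => by
    have := (hWz i).1.finite
    have : IsFinite (W i).ι := IsFinite.of_comp (W i).ι q
    refine ⟨?_, (W i).2⟩
    rw [← Scheme.Opens.range_ι]
    exact (W i).ι.isClosedMap.isClosed_range
  refine ⟨U, g, u, hn, ⨆ i, W i, ?_, isFinite_iSup q W fun i => (hWz i).1.finite, ?_⟩
  · rw [TopologicalSpace.Opens.coe_iSup]
    exact ⟨isClosed_iUnion_of_finite fun i => (hclopen i).1, isOpen_iUnion fun i => (W i).2⟩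
  intro w hwV hw
  let v := q.fiberι u w
  have hqv : q v = u := by
    show (q.fiberι u ≫ q) w = u
    rw [q.fiber_fac]
    exact U.fromSpecResidueField_apply u _
  have hqf : q.QuasiFiniteAt v := by
    rw [Scheme.Hom.quasiFiniteAt_iff_isOpen_singleton_asFiber,
      Groth.Agent.EtStruct.isOpen_asFiber_iff q v w rfl]
    exact hw
  let y := pullback.fst f g v
  have hy : f.QuasiFiniteAt y :=
    (Groth.Agent.EtStruct.quasiFiniteAt_baseChange_iff f (IsPullback.of_hasPullback f g) v).mp hqf
  have hfy : f y = s := by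
    show (pullback.fst f g ≫ f) v = s
    rw [pullback.condition, Scheme.Hom.comp_apply, hqv]
    exact hn.base_eq
  let a : f.fiber s := (f.fiberHomeo s).symm ⟨y, hfy⟩
  have ha : f.fiberι s a = y := Scheme.Hom.fiberι_fiberHomeo_symm f s ⟨y, hfy⟩
  have haopen : IsOpen ({a} : Set ↑(f.fiber s)) := by
    rw [← Groth.Agent.EtStruct.isOpen_asFiber_iff f y a ha,
      ← Scheme.Hom.quasiFiniteAt_iff_isOpen_singleton_asFiber]
    exact hy
  let i := e ⟨a, haopen⟩
  have hxi : x i = y := by simp [x, i, ha]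
  obtain ⟨z₀, -, huniq⟩ := existsUnique_lift f g y u (hfy.trans hn.base_eq.symm) hn.residue_bijective
  refine hwV (TopologicalSpace.Opens.mem_iSup.mpr ⟨i, ?_⟩)
  show v ∈ W i
  rw [show v = z i from
    (huniq v rfl hqv).trans (huniq (z i) ((hWz i).2.trans hxi) (hWz i).1.map_eq).symm]
  exact (hWz i).1.mem

end Groth.Agent.S9762
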