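import Groth.Statements.S10298
import Groth.Agent.AlgSp.NormUniv

set_option backward.isDefEq.respectTransparency.types false

set_option autoImplicit false
universe u
open CategoryTheory CategoryTheory.Limits AlgebraicGeometry
open AlgSp

namespace Groth.Agent.S10298

/-- For a quasi-compact quasi-separated morphism of schemes, the relative normalization of schemes is
the normalization in the sense of algebraic spaces. -/
theorem result {S : Scheme.{u}} {V U N : Over S} (g : V ⟶ U)
    [QuasiCompact g.left] [QuasiSeparated g.left] (f' : V ⟶ N) (ν : N ⟶ U)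
    (e : N.left ≅ g.left.normalization) (he1 : f'.left ≫ e.hom = g.left.toNormalization)
    (he2 : e.hom ≫ g.left.fromNormalization = ν.left) :
    AlgSp.IsRelNormalization ((AlgSp.yon S).map g) ((AlgSp.yon S).map ν) ((AlgSp.yon S).map f') := by
  have hU := AlgSp.IsAlgSpace.yon_obj U
  have hνl : ν.left = e.hom ≫ g.left.fromNormalization := he2.symm
  have hfl : f'.left ≫ e.hom = g.left.toNormalization := he1
  refine ⟨?_, ?_, fun Z hZ π m hπ hm => ?_⟩
  · rw [← Functor.map_comp]
    congr 1
    refine Over.OverMorphism.ext ?_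
    rw [Over.comp_left, hνl, reassoc_of% hfl, Scheme.Hom.toNormalization_fromNormalization]
  · rw [Groth.Agent.AlgSpD.isIntegralMor_iff, AlgSp.repWith_yon_map_iff, hνl]
    infer_instance
  rw [Groth.Agent.AlgSpD.isIntegralMor_iff] at hπ
  obtain ⟨W, w, i, sW⟩ : ∃ (W : Over S) (w : (AlgSp.yon S).obj W ⟶ Z) (i : W ⟶ U),
      IsPullback w ((AlgSp.yon S).map i) π (𝟙 ((AlgSp.yon S).obj U)) := ⟨_, _, _, hπ.1.isPullback _⟩
  have hi : IsIntegralHom i.left := hπ.2 _ _ _ sW
  have : IsIso w := sW.isIso_fst_of_isIso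
  have hwπ : w ≫ π = (AlgSp.yon S).map i := by rw [sW.w, Category.comp_id]
  obtain ⟨l, hl⟩ := (AlgSp.yon S).map_surjective (m ≫ inv w)
  have hli : l.left ≫ i.left = g.left := by
    have : l ≫ i = g := (AlgSp.yon S).map_injective (by
      rw [Functor.map_comp, hl, ← hwπ, Category.assoc, IsIso.inv_hom_id_assoc, hm])
    exact congrArg CommaMorphism.left this
  let d := g.left.normalizationDesc l.left i.left hli.symm
  have hd1 : g.left.toNormalization ≫ d = l.left := Scheme.Hom.toNormalization_normalizationDesc ..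
  have hd2 : d ≫ i.left = g.left.fromNormalization := Scheme.Hom.normalizationDesc_comp ..
  let D : N ⟶ W := Over.homMk (e.hom ≫ d) (by
    rw [Category.assoc, ← Over.w i, reassoc_of% hd2, ← Category.assoc, ← hνl, Over.w ν])
  refine ⟨(AlgSp.yon S).map D ≫ w, ⟨?_, ?_⟩, fun k ⟨hk1, hk2⟩ => ?_⟩
  · have : f' ≫ D = l := Over.OverMorphism.ext (by
      change f'.left ≫ e.hom ≫ d = l.left
      rw [reassoc_of% hfl, hd1])
    rw [← Functor.map_comp_assoc, this, hl, Category.assoc, IsIso.inv_hom_id, Category.comp_id]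
  · rw [Category.assoc, hwπ, ← Functor.map_comp]
    congr 1
    exact Over.OverMorphism.ext (by change (e.hom ≫ d) ≫ i.left = ν.left; rw [Category.assoc, hd2, hνl])
  · obtain ⟨k₀, hk₀⟩ := (AlgSp.yon S).map_surjective (k ≫ inv w)
    have h1 : f'.left ≫ k₀.left = l.left := congrArg CommaMorphism.left
      (show f' ≫ k₀ = l from (AlgSp.yon S).map_injective (by rw [Functor.map_comp, hk₀, hl, ← hk1, Category.assoc]))
    have h2 : k₀.left ≫ i.left = ν.left := congrArg CommaMorphism.left
      (show k₀ ≫ i = ν from (AlgSp.yon S).map_injective (by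
        rw [Functor.map_comp, hk₀, ← hwπ, Category.assoc, IsIso.inv_hom_id_assoc, hk2]))
    have : e.inv ≫ k₀.left = d := by
      refine Scheme.Hom.normalization.hom_ext g.left _ _ i.left ?_ ?_ hd2
      · rw [hd1, ← hfl, Category.assoc, e.hom_inv_id_assoc, h1]
      · rw [Category.assoc, h2, hνl, e.inv_hom_id_assoc]
    have hk : k₀ = D := Over.OverMorphism.ext (by
      change k₀.left = e.hom ≫ d
      rw [← this, e.hom_inv_id_assoc])
    rw [← hk, hk₀, Category.assoc, IsIso.inv_hom_id, Category.comp_id]

end Groth.Agent.S10298
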