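import Groth.Statements.S10181
import Groth.Agent.AlgSpB.Diag

set_option autoImplicit false
universe u
open CategoryTheory CategoryTheory.Limits AlgebraicGeometry Topology TopologicalSpace
open AlgSp

namespace Groth.Agent.S10181

/-- Let X be an algebraic space over a scheme S and a : h_U ⟶ X a representable etale map from a scheme
U over S whose underlying scheme is separated. Then a is (representable and) separated, and the
scheme R = U ×_X U representing the fibre product h_U ×_X h_U is separated. -/
theorem result {S : Scheme.{u}} (X : AlgSp.Space S) {U : Over S}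
    (a : (AlgSp.yon S).obj U ⟶ X.obj) (ha : AlgSp.RepWith @Etale a) [U.left.IsSeparated] :
    AlgSp.RepWith @IsSeparated a ∧
      ∀ (R : Over S) (s t : R ⟶ U), IsPullback ((AlgSp.yon S).map t) ((AlgSp.yon S).map s) a a →
        R.left.IsSeparated := by
  have key : ∀ (V W : Over S) (g : (AlgSp.yon S).obj V ⟶ X.obj) (f1 : W ⟶ U) (f2 : W ⟶ V),
      IsPullback ((AlgSp.yon S).map f1) ((AlgSp.yon S).map f2) a g → IsSeparated f2.left := by
    intro V W g f1 f2 h
    have := Groth.Agent.AlgSpB.mono_pairHom h
    have : f2.left = Groth.Agent.AlgSpB.pairHom f1 f2 ≫ pullback.snd U.hom V.hom :=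
      (pullback.lift_snd _ _ _).symm
    rw [this]
    infer_instance
  refine ⟨⟨ha.1, fun V W g fst snd h => ?_⟩, fun R s t h => ?_⟩
  · obtain ⟨f1, rfl⟩ := (AlgSp.yon S).map_surjective fst
    exact key V W g f1 snd h
  · have := key U R a t s h
    exact ⟨by rw [terminal.hom_ext (terminal.from R.left) (s.left ≫ terminal.from U.left)]
              infer_instance⟩

end Groth.Agent.S10181
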