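import Groth.Statements.S10190
import Groth.Agent.AlgSpB.Open

set_option autoImplicit false
set_option backward.isDefEq.respectTransparency false
universe u
open CategoryTheory CategoryTheory.Limits AlgebraicGeometry Topology TopologicalSpace
open AlgSp

namespace Groth.Agent.S10190

/-- For an algebraic space X over a scheme S, the set of codimension 0 points of X (points x of |X| such
that, for some representable etale h_U ⟶ X from a scheme U and some point u of U mapping to x, the
local ring of U at u has dimension 0) is dense in |X|. -/
theorem result {S : Scheme.{u}} (X : AlgSp.Space S) :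
    Dense {x : AlgSp.Points X.obj |
      AlgSp.HasAt (fun U u => ringKrullDim ↥(U.presheaf.stalk u) = 0) X.obj x} := by
  rw [dense_iff_inter_open]
  intro W hW ⟨x, hx⟩
  obtain ⟨U, p, hp, hs⟩ := X.property.atlas
  obtain ⟨u, rfl⟩ := Groth.Agent.AlgSpB.surjective_ofPt hs x
  have hC : IsIrreducible (irreducibleComponent u) := isIrreducible_irreducibleComponent
  let η := hC.genericPoint
  have hη : closure {η} = irreducibleComponent u :=
    hC.genericPoint_closure_eq.trans isClosed_irreducibleComponent.closure_eq
  have hηu : η ⤳ u := specializes_iff_mem_closure.2 (by rw [hη]; exact mem_irreducibleComponent)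
  refine ⟨AlgSp.Points.ofPt p η,
    hηu.mem_open (hW.preimage (AlgSp.Points.continuous_ofPt p)) hx, U, p, η, hp, rfl, ?_⟩
  change ringKrullDim _ = 0
  rw [ringKrullDim_stalk_eq_coheight, (Order.coheight_eq_zero.2 ?_)]
  · rfl
  · intro y hy
    have h1 : y ⤳ η := hy
    have h2 : closure {y} = irreducibleComponent u := by
      refine eq_irreducibleComponent isPreirreducible_singleton.closure ?_
      rw [← hη]
      exact h1.closure_subset
    have h3 : η ⤳ y := specializes_iff_mem_closure.2 (by
      rw [hη, ← h2]; exact subset_closure rfl)
    exact h3

end Groth.Agent.S10190
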