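import Groth.Statements.S10198
import Groth.Agent.AlgSpB.Diag
import Groth.Agent.AlgSpB.Open
import Groth.Agent.AlgSpB.Charts
import Groth.Agent.AlgSp.QCMor
import Groth.Agent.AlgSp.Space
import Mathlib.AlgebraicGeometry.Morphisms.QuasiCompact

set_option autoImplicit false
set_option backward.isDefEq.respectTransparency false
set_option backward.isDefEq.respectTransparency.types false

universe u
open CategoryTheory CategoryTheory.Limits AlgebraicGeometry Topology TopologicalSpace
open AlgSp

namespace Groth.Agent.S10198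

open Groth.Agent.AlgSpB in
theorem qs_of_chart {S : Scheme.{u}} (Y : AlgSp.Space S) {U : Over S} [IsAffine U.left]
    (p : (AlgSp.yon S).obj U ⟶ Y.obj) (hp : AlgSp.RepWith @QuasiCompact p) (he : AlgSp.RepWith @Etale p)
    (hs : AlgSp.RepWith @Surjective p) : AlgSp.IsQuasiSeparatedSp Y.obj := by
  refine repWith_diag Y fun U' P a b fst snd hU' h => ?_
  have : IsAffine U'.left := hU'
  obtain ⟨V'', π, q, sV⟩ := exists_pullback_yon (Y.property.representable_from_yon b) p
  obtain ⟨U'', x, u, sU⟩ := exists_pullback_yon (Y.property.representable_from_yon a) p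
  have : Surjective π.left := hs.2 b ((AlgSp.yon S).map q) π sV.flip
  have : Etale π.left := he.2 b ((AlgSp.yon S).map q) π sV.flip
  have : QuasiCompact x.left := hp.2 a ((AlgSp.yon S).map u) x sU.flip
  have : CompactSpace U''.left := QuasiCompact.compactSpace_of_compactSpace x.left
  have hu : QuasiCompact u.left := by
    have : QuasiCompact (u.left ≫ terminal.from U.left) := inferInstance
    exact QuasiCompact.of_comp u.left (terminal.from U.left)
  have s2 := (IsPullback.of_hasPullback snd π).map (AlgSp.yon S)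
  have big := s2.paste_horiz h
  rw [sV.w] at big
  have hw : ((AlgSp.yon S).map (pullback.fst snd π) ≫ (AlgSp.yon S).map fst) ≫ a =
      ((AlgSp.yon S).map (pullback.snd snd π) ≫ (AlgSp.yon S).map q) ≫ p := by
    rw [big.w, Category.assoc]
  obtain ⟨l, hl⟩ := (AlgSp.yon S).map_surjective (sU.lift _ _ hw)
  have hl1 := sU.lift_fst _ _ hw
  have hl2 := sU.lift_snd _ _ hw
  rw [← hl] at hl1 hl2
  have sq3 : IsPullback ((AlgSp.yon S).map l) ((AlgSp.yon S).map (pullback.snd snd π))
      ((AlgSp.yon S).map u) ((AlgSp.yon S).map q) := by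
    refine IsPullback.of_right ?_ hl2 sU
    rw [hl1]
    exact big
  have sq3' := (IsPullback.of_map (AlgSp.yon S) ((AlgSp.yon S).map_injective (by
    rw [Functor.map_comp, Functor.map_comp]; exact sq3.w)) sq3).map (Over.forget S)
  have : QuasiCompact (pullback.snd snd π).left :=
    MorphismProperty.of_isPullback (P := @QuasiCompact) sq3' hu
  have : Surjective ((Over.forget S).map π) := ‹Surjective π.left›
  have : QuasiCompact ((Over.forget S).map (pullback.snd snd π)) := ‹QuasiCompact (pullback.snd snd π).left›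
  have : QuasiCompact snd.left := Groth.Agent.AlgSpB.quasiCompact_of_isPullback
    ((IsPullback.of_hasPullback snd π).map (Over.forget S)) π.left.isOpenMap
  have : IsSeparated (pullback.snd U'.hom U'.hom) := by
    have : IsSeparated U'.hom := by
      have : IsSeparated (U'.hom ≫ terminal.from S) := inferInstance
      exact IsSeparated.of_comp U'.hom (terminal.from S)
    infer_instance
  have : QuasiCompact (pairHom fst snd ≫ pullback.snd U'.hom U'.hom) := by
    rw [show pairHom fst snd ≫ pullback.snd U'.hom U'.hom = snd.left from pullback.lift_snd _ _ _]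
    infer_instance
  exact QuasiCompact.of_comp (pairHom fst snd) (pullback.snd U'.hom U'.hom)

open Groth.Agent.AlgSpB in
theorem qc_of_affineBase {S : Scheme.{u}} (W : AlgSp.Space S) (hW : AlgSp.IsQuasiSeparatedSp W.obj)
    {U : Over S} [IsAffine U.left] (p : (AlgSp.yon S).obj U ⟶ W.obj) (hs : AlgSp.RepWith @Surjective p)
    (A : S.Opens) (hA : IsAffineOpen A) (hUA : ∀ u, U.hom u ∈ A) : AlgSp.RepWith @QuasiCompact p := by
  refine ⟨W.property.representable_from_yon p, fun V P g fst snd sq => ?_⟩
  obtain ⟨fst', rfl⟩ := (AlgSp.yon S).map_surjective fst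
  have : QuasiCompact (pairHom fst' snd) := prop_pairHom hW sq
  have hpts : ∀ v, V.hom v ∈ A := fun v => by
    obtain ⟨u, hu⟩ := surjective_ofPt hs (AlgSp.Points.ofPt g v)
    let hT : IsTerminal ((AlgSp.yon S).obj (Over.mk (𝟙 S))) :=
      IsTerminal.isTerminalObj (AlgSp.yon S) _ Over.mkIdTerminal
    have key := congrArg (AlgSp.Points.toScheme _) (congrArg (AlgSp.Points.map (hT.from W.obj)) hu)
    rw [AlgSp.Points.map_ofPt, AlgSp.Points.map_ofPt,
      hT.hom_ext (p ≫ hT.from _) ((AlgSp.yon S).map (Over.homMk U.hom : U ⟶ Over.mk (𝟙 S))),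
      hT.hom_ext (g ≫ hT.from _) ((AlgSp.yon S).map (Over.homMk V.hom : V ⟶ Over.mk (𝟙 S))),
      AlgSp.Points.toScheme_ofPt, AlgSp.Points.toScheme_ofPt] at key
    change U.hom u = V.hom v at key
    exact key ▸ hUA u
  have : IsAffine A.toScheme := hA
  let gU := IsOpenImmersion.lift A.ι U.hom (by
    rintro _ ⟨x, rfl⟩; rw [Scheme.Opens.range_ι]; exact hUA x)
  let gV := IsOpenImmersion.lift A.ι V.hom (by
    rintro _ ⟨x, rfl⟩; rw [Scheme.Opens.range_ι]; exact hpts x)
  have hgU : gU ≫ A.ι = U.hom := IsOpenImmersion.lift_fac _ _ _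
  have hgV : gV ≫ A.ι = V.hom := IsOpenImmersion.lift_fac _ _ _
  have sq0 : IsPullback (pullback.fst U.hom V.hom) (pullback.snd U.hom V.hom) gU gV := by
    have h := IsPullback.of_hasPullback U.hom V.hom
    refine IsPullback.of_isLimit (h := PullbackCone.IsLimit.mk ((cancel_mono A.ι).1 (by
      rw [Category.assoc, Category.assoc, hgU, hgV, h.w]))
      (fun s => h.lift s.fst s.snd (by rw [← hgU, ← hgV, ← Category.assoc, s.condition, Category.assoc]))
      (fun s => h.lift_fst _ _ _) (fun s => h.lift_snd _ _ _) fun s m h1 h2 => ?_)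
    exact h.hom_ext (by rw [h1, h.lift_fst]) (by rw [h2, h.lift_snd])
  have : QuasiCompact gU := inferInstance
  have : QuasiCompact (pullback.snd U.hom V.hom) := MorphismProperty.of_isPullback (P := @QuasiCompact) sq0 this
  change QuasiCompact snd.left
  rw [← show pairHom fst' snd ≫ pullback.snd U.hom V.hom = snd.left from pullback.lift_snd _ _ _]
  infer_instance

/-- (1) if and only if (3): for an algebraic space X over a scheme S, X is Zariski locally
quasi-separated over S (it has a Zariski covering by open subspaces whose diagonals over S are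
quasi-compact) if and only if X has a Zariski covering by open subspaces each of which admits a
quasi-compact, etale, surjective map from an affine scheme. Since the second condition does not
mention S, being Zariski locally quasi-separated does not depend on the base. -/
theorem result {S : Scheme.{u}} (X : AlgSp.Space S) :
    (∃ (ι : Type u) (Xi : ι → AlgSp.Space S) (j : ∀ i, Xi i ⟶ X),
        AlgSp.IsZarCover (fun i => (Xi i).obj) (fun i => (j i).hom) ∧ ∀ i, AlgSp.IsQuasiSeparatedSp (Xi i).obj) ↔
      (∃ (ι : Type u) (Xi : ι → AlgSp.Space S) (j : ∀ i, Xi i ⟶ X),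
        AlgSp.IsZarCover (fun i => (Xi i).obj) (fun i => (j i).hom) ∧
          ∀ i, ∃ (U : Over S) (p : (AlgSp.yon S).obj U ⟶ (Xi i).obj), IsAffine U.left ∧
            AlgSp.RepWith @QuasiCompact p ∧ AlgSp.RepWith @Etale p ∧ AlgSp.RepWith @Surjective p) := by
  constructor
  · rintro ⟨ι, Xi, j, ⟨hj, hcov⟩, hqs⟩
    have hat := fun i => (Xi i).property.atlas
    choose U a ha has using hat
    let κ := Σ i : ι, {q : (U i).left.affineOpens × S.affineOpens // q.1.1 ≤ (U i).hom ⁻¹ᵁ q.2.1}
    have het : ∀ k : κ, Etale (Over.homMk k.2.1.1.1.ι : Over.mk (k.2.1.1.1.ι ≫ (U k.1).hom) ⟶ U k.1).left :=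
      fun k => inferInstanceAs (Etale k.2.1.1.1.ι)
    have hW : ∀ k : κ, ∃ (W : AlgSp.Space S) (w : W ⟶ Xi k.1), AlgSp.RepWith @IsOpenImmersion w.hom ∧
        Set.range (AlgSp.Points.map w.hom) =
          Set.range (AlgSp.Points.ofPt ((AlgSp.yon S).map
            (Over.homMk k.2.1.1.1.ι : Over.mk (k.2.1.1.1.ι ≫ (U k.1).hom) ⟶ U k.1) ≫ a k.1)) := fun k =>
      Groth.Agent.AlgSpB.exists_openSubspace _
        (have := het k; Groth.Agent.AlgSpB.isOpenMap_ofPt (Groth.Agent.AlgSpB.repWith_etale_map_comp _ (ha k.1))).isOpen_range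
    choose W w hw hwr using hW
    refine ⟨κ, W, fun k => w k ≫ j k.1, ⟨fun k =>
      (AlgSp.RepWith @IsOpenImmersion : MorphismProperty (AlgSp.Sp S)).comp_mem _ _ (hw k) (hj k.1), fun x => ?_⟩,
      fun k => ?_⟩
    · obtain ⟨i, y, rfl⟩ := hcov x
      obtain ⟨u, rfl⟩ := Groth.Agent.AlgSpB.surjective_ofPt (has i) y
      obtain ⟨A, hA, huA, -⟩ := exists_isAffineOpen_mem_and_subset (x := (U i).hom u) (U := ⊤) trivial
      obtain ⟨V, hV, huV, hVA⟩ := exists_isAffineOpen_mem_and_subset (x := u) (U := (U i).hom ⁻¹ᵁ A) huA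
      let k : κ := ⟨i, ⟨(⟨V, hV⟩, ⟨A, hA⟩), hVA⟩⟩
      have : AlgSp.Points.ofPt (a i) u ∈ Set.range (AlgSp.Points.map (w k).hom) := by
        rw [hwr k]
        exact ⟨⟨u, huV⟩, Groth.Agent.AlgSpB.ofPt_map_comp _ _ _⟩
      obtain ⟨z, hz⟩ := this
      exact ⟨k, z, by
        show AlgSp.Points.map ((w k).hom ≫ (j k.1).hom) z = _
        rw [AlgSp.Points.map_comp, hz]⟩
    · have := Groth.Agent.AlgSpB.mono_of_isOpenImmersion (hw k)
      have := het k
      obtain ⟨p, hp, hpe, hps⟩ := Groth.Agent.AlgSpB.exists_chart_into_subspace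
        (Groth.Agent.AlgSpB.repWith_etale_map_comp _ (ha k.1)) (hw k) (hwr k)
      have : IsAffine k.2.1.1.1.toScheme := k.2.1.1.2
      refine ⟨_, p, this, ?_, hpe, hps⟩
      exact @qc_of_affineBase S (W k)
        (MorphismProperty.of_isPullback (Groth.Agent.AlgSpB.isPullback_diag_of_mono (w k).hom) (hqs k.1))
        _ this p hps k.2.1.2.1 k.2.1.2.2 fun u => k.2.2 u.2
  · rintro ⟨ι, Xi, j, hcov, h⟩
    refine ⟨ι, Xi, j, hcov, fun i => ?_⟩
    obtain ⟨U, p, hU, hqc, he, hs⟩ := h i
    exact @qs_of_chart S (Xi i) U hU p hqc he hs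

end Groth.Agent.S10198
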