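import Groth.Statements.S16833
import Groth.Agent.AlgSp.FiniteLqf
-- import your own Groth.Agent.* helpers here

set_option autoImplicit false
universe u
open AlgSp

namespace Groth.Agent.S16833

open CategoryTheory AlgebraicGeometry in
/-- Let p : U → X and f : X → Y be morphisms of algebraic spaces over a scheme S with p etale and
surjective and f separated. If the composite U → Y is finite, then f is finite. -/
theorem result {S : Scheme.{u}}
    {U X Y : AlgSp.Space S} (p : U ⟶ X) (f : X ⟶ Y)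
    (hp : AlgSp.IsEtaleMor p.hom) (hps : AlgSp.IsSurjectiveMor p.hom)
    (hf : AlgSp.IsSeparatedMor f.hom) (h : AlgSp.IsFiniteMor (p ≫ f).hom) :
    AlgSp.IsFiniteMor f.hom := by
  obtain ⟨U', r, hr, hrs⟩ := U.property.atlas
  have hrp : AlgSp.RepWith @Etale (r ≫ p.hom) := hp r hr
  have hrps : AlgSp.RepWith @Surjective (r ≫ p.hom) := (Groth.Agent.AlgSp.repWith_surjective_iff _ hrp.1).2 fun y => by
    obtain ⟨z, rfl⟩ := hps y
    obtain ⟨w, rfl⟩ := (Groth.Agent.AlgSp.repWith_surjective_iff _ hr.1).1 hrs z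
    exact ⟨w, AlgSp.Points.map_comp _ _ _⟩
  have hP := Groth.Agent.AlgSpCov.standard_locallyQuasiFinite.{u}
  have := hP.comp
  have hfin := (Groth.Agent.AlgSpD.isFiniteMor_iff _).1 h
  have hq : AlgSp.LocP (@LocallyQuasiFinite ⊓ @LocallyOfFiniteType) f.hom := by
    refine Groth.Agent.AlgSp.locP_of_source_cover hP Y.property f.hom (r ≫ p.hom) hrp hrps ?_
    have h1 : AlgSp.LocP (@LocallyQuasiFinite ⊓ @LocallyOfFiniteType) (p ≫ f).hom :=
      Groth.Agent.AlgSpCov.locP_of_repWith hP.etaleLocal (Groth.Agent.AlgSp.repWith_mono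
        (fun g (hg : IsFinite g) => ⟨inferInstance, inferInstance⟩) hfin)
    have h2 : AlgSp.LocP (@LocallyQuasiFinite ⊓ @LocallyOfFiniteType) r :=
      Groth.Agent.AlgSpCov.locP_of_repWith hP.etaleLocal (Groth.Agent.AlgSp.repWith_mono (fun g hg => hP.of_etale g hg) hr)
    have := Groth.Agent.AlgSpCov.locP_comp hP.etaleLocal U.property Y.property h2 h1
    simpa [Category.assoc] using this
  have hprop : AlgSp.IsProperMor (p ≫ f).hom := ((Groth.Agent.AlgSpD.isFiniteMor_iff_proper _).1 h).2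
  refine Groth.Agent.AlgSp.isFiniteMor_of_proper_lqf f.hom ⟨hf, ⟨fun A B a b g ha hb w => (hq a b g ha hb w).2, ?_⟩, ?_⟩ hq
  · exact Groth.Agent.AlgSp.isQuasiCompactMor_of_surjective_triangle X.property Y.property p.hom f.hom hps hprop.2.1.2
  · exact Groth.Agent.AlgSp.isUnivClosedMor_of_surjective_triangle p.hom f.hom hps hprop.2.2

end Groth.Agent.S16833
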