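import Groth.Statements.S9709
-- import your own Groth.Agent.* helpers here

set_option autoImplicit false
universe u
open CategoryTheory CategoryTheory.Limits AlgebraicGeometry
open Mor

namespace Groth.Agent.S9709

/-- Let f : X ⟶ S be an integral morphism. Then every point x of X is closed in its fibre: a point of
f⁻¹(f x) specialising from x equals x. -/
theorem result {X S : Scheme.{u}} (f : X ⟶ S) [IsIntegralHom f] (x : X) :
    closure {x} ∩ f.base ⁻¹' {f.base x} = {x} := by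
  ext x'
  refine ⟨fun h => ?_, fun h => ?_⟩
  swap
  · rw [Set.mem_singleton_iff.mp h]; exact ⟨subset_closure rfl, rfl⟩
  obtain ⟨hcl, hfx : f.base x' = f.base x⟩ := h
  have hspec : x ⤳ x' := specializes_iff_mem_closure.mpr hcl
  obtain ⟨V, hV, hxV, -⟩ := TopologicalSpace.Opens.isBasis_iff_nbhd.mp S.isBasis_affineOpens
    (TopologicalSpace.Opens.mem_top (f.base x))
  have hU : IsAffineOpen (f ⁻¹ᵁ V) := hV.preimage f
  have hxU : x ∈ f ⁻¹ᵁ V := hxV
  have hx'U : x' ∈ f ⁻¹ᵁ V := by show f.base x' ∈ V; rw [hfx]; exact hxV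
  have hle : @Specializes (Spec Γ(X, f ⁻¹ᵁ V)) _ (hU.primeIdealOf ⟨x, hxU⟩) (hU.primeIdealOf ⟨x', hx'U⟩) := by
    refine hU.fromSpec.isOpenEmbedding.isInducing.specializes_iff.mp ?_
    erw [hU.fromSpec_primeIdealOf, hU.fromSpec_primeIdealOf]
    exact hspec
  have hle' : (hU.primeIdealOf ⟨x, hxU⟩).asIdeal ≤ (hU.primeIdealOf ⟨x', hx'U⟩).asIdeal :=
    (PrimeSpectrum.le_iff_specializes _ _).mpr hle
  rcases hle'.eq_or_lt with heq | hlt
  · have := congrArg hU.fromSpec (PrimeSpectrum.ext heq)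
    rw [hU.fromSpec_primeIdealOf, hU.fromSpec_primeIdealOf] at this
    exact this.symm
  · exfalso
    have hint : (f.appLE V (f ⁻¹ᵁ V) le_rfl).hom.IsIntegral := by
      rw [← Scheme.Hom.app_eq_appLE]
      exact IsIntegralHom.isIntegral_app f V hV
    let _ := (f.appLE V (f ⁻¹ᵁ V) le_rfl).hom.toAlgebra
    have : Algebra.IsIntegral Γ(S, V) Γ(X, f ⁻¹ᵁ V) := ⟨hint⟩
    have hlt2 := Ideal.IsIntegral.comap_lt_comap (R := Γ(S, V)) hlt
    have e1 := IsAffineOpen.comap_primeIdealOf_appLE V hV _ hU (f := f) (le_refl (f ⁻¹ᵁ V)) hxU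
    have e2 := IsAffineOpen.comap_primeIdealOf_appLE V hV _ hU (f := f) (le_refl (f ⁻¹ᵁ V)) hx'U
    have e : hV.primeIdealOf ⟨f x, hxV⟩ = hV.primeIdealOf ⟨f x', hx'U⟩ :=
      congrArg hV.primeIdealOf (Subtype.ext hfx.symm)
    have := congrArg PrimeSpectrum.asIdeal (e1.trans (e.trans e2.symm))
    exact hlt2.ne this

end Groth.Agent.S9709
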