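import Groth.Statements.S2080
import Groth.Agent.GenFinite.Basic
-- import your own Groth.Agent.* helpers here

set_option autoImplicit false
universe u
open CategoryTheory AlgebraicGeometry
open Mor

namespace Groth.Agent.S2080
set_option backward.isDefEq.respectTransparency.types false

/-- Let `f : X → Y` be locally of finite type, quasi-compact and quasi-separated, and `η` a generic
point of an irreducible component of `Y`. Then `f⁻¹{η}` is finite if and only if there is an affine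
open `V ∋ η` such that `f⁻¹(V) → V` is finite. -/
theorem result {X Y : Scheme.{u}} (f : X ⟶ Y) [LocallyOfFiniteType f]
    [QuasiCompact f] [QuasiSeparated f] (η : Y) (hη : closure {η} ∈ irreducibleComponents (Y : Type u)) :
    (f.base ⁻¹' {η}).Finite ↔ ∃ V : Y.Opens, IsAffineOpen V ∧ η ∈ V ∧ IsFinite (f ∣_ V) := by
  refine ⟨fun hfin => ?_, fun ⟨V, hV, hηV, hf⟩ => ?_⟩
  · obtain ⟨V₀, hV₀, hηV₀', -⟩ := exists_isAffineOpen_mem_and_subset (TopologicalSpace.Opens.mem_top η)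
    haveI : IsAffine (V₀ : Scheme.{u}) := hV₀
    haveI : QuasiSeparatedSpace (f ⁻¹ᵁ V₀ : Scheme.{u}) :=
      quasiSeparatedSpace_of_quasiSeparated (f ∣_ V₀)
    let η' : (V₀ : Scheme.{u}) := ⟨η, hηV₀'⟩
    have hη' : closure {η'} ∈ irreducibleComponents (V₀ : Scheme.{u}) := by
      rw [Groth.Agent.FlatMor.GenericPts.closure_mem_irreducibleComponents_iff] at hη ⊢
      intro z hz
      exact (subtype_specializes_iff ..).mpr (hη z.1 ((subtype_specializes_iff ..).mp hz))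
    have hfin' : ((f ∣_ V₀).base ⁻¹' {η'}).Finite := by
      refine Set.Finite.subset (hfin.preimage (f ⁻¹ᵁ V₀).ι.isOpenEmbedding.injective.injOn) ?_
      intro x hx
      exact (congrArg (fun ψ : (f ⁻¹ᵁ V₀ : Scheme.{u}) ⟶ Y => ψ x) (morphismRestrict_ι f V₀)).symm.trans
        (congrArg Subtype.val (Set.mem_singleton_iff.mp hx))
    haveI := hfin'.to_subtype
    obtain ⟨U, hU, hd⟩ := Groth.Agent.GenFinite.exists_disjoint_affine_nhds
      (fun x : ↥((f ∣_ V₀).base ⁻¹' {η'}) => x.1)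
      (fun x => Groth.Agent.GenFinite.generic_of_finite_fibre (f ∣_ V₀) hη' hfin' x.2)
      Subtype.val_injective
    haveI : IsAffine ((⨆ i, U i : (f ⁻¹ᵁ V₀ : Scheme.{u}).Opens) : Scheme.{u}) :=
      IsAffineOpen.iSup_of_disjoint (fun i => (hU i).1) hd
    obtain ⟨V, hV, hηV, hf⟩ := Groth.Agent.GenFinite.exists_affine_isFinite (f ∣_ V₀) hη' hfin'
      (⨆ i, U i) inferInstance (fun x hx => TopologicalSpace.Opens.mem_iSup.mpr ⟨⟨x, hx⟩, (hU ⟨x, hx⟩).2⟩)
    exact ⟨V₀.ι ''ᵁ V, hV.image_of_isOpenImmersion V₀.ι, ⟨η', hηV, rfl⟩,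
      (MorphismProperty.arrow_mk_iso_iff @IsFinite.{u} (morphismRestrictRestrict f V₀ V)).mp hf⟩
  · refine Set.Finite.subset (((f ∣_ V).finite_preimage_singleton ⟨η, hηV⟩).image (f ⁻¹ᵁ V).ι.base) ?_
    intro x hx
    have hxV : x ∈ f ⁻¹ᵁ V := by show f.base x ∈ V; rw [Set.mem_singleton_iff.mp hx]; exact hηV
    exact ⟨⟨x, hxV⟩, Subtype.ext ((congrArg (fun ψ : (f ⁻¹ᵁ V : Scheme.{u}) ⟶ Y => ψ ⟨x, hxV⟩)
      (morphismRestrict_ι f V)).trans (Set.mem_singleton_iff.mp hx)), rfl⟩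

end Groth.Agent.S2080
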