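import Groth.Statements.S10398
import Groth.Agent.AlgSp.QfPoint
import Groth.Agent.AlgSp.RelProp
import Groth.Agent.AlgSpD.EtaleTop
import Groth.Agent.FlatMor.GenericPts
import Groth.Agent.S2080
import Groth.Agent.S16833
import Groth.Agent.S10268
-- import your own Groth.Agent.* helpers here

set_option autoImplicit false
universe u
open CategoryTheory CategoryTheory.Limits AlgebraicGeometry Topology TopologicalSpace
open AlgSp

namespace Groth.Agent.S10398
set_option backward.isDefEq.respectTransparency.types false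

/-- (2) ⇒ (3): let S be a scheme, X and Y algebraic spaces over S, and f : X ⟶ Y a quasi-separated
morphism of finite type, and let y ∈ |Y| be a codimension 0 point of Y. Suppose that at every point
of |X| lying over y the morphism f is quasi-finite. Then there is an open subspace Y' ⊆ Y containing
y for which the morphism Y' ×_Y X ⟶ Y' is finite. -/
theorem result {S : Scheme.{u}} {X Y : AlgSp.Space S} (f : X ⟶ Y)
    (hqs : AlgSp.IsQuasiSeparatedMor f.hom) (hft : AlgSp.IsFiniteTypeMor f.hom) (y : AlgSp.Points Y.obj)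
    (hy : AlgSp.HasAt (fun U u => ringKrullDim ↥(U.presheaf.stalk u) = 0) Y.obj y)
    (hqf : ∀ x : AlgSp.Points X.obj, AlgSp.Points.map f.hom x = y → AlgSp.HasAtMor (fun U _ h u => ∃ W : U.Opens, u ∈ W ∧ LocallyQuasiFinite (W.ι ≫ h) ∧ LocallyOfFiniteType (W.ι ≫ h)) f.hom x) :
    ∃ (Y' X' : AlgSp.Space S) (j : Y' ⟶ Y) (fst : X' ⟶ Y') (snd : X' ⟶ X), AlgSp.RepWith @IsOpenImmersion j.hom ∧
      y ∈ Set.range (AlgSp.Points.map j.hom) ∧ IsPullback fst.hom snd.hom j.hom f.hom ∧
      AlgSp.IsFiniteMor fst.hom := by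
  classical
  -- an affine chart around the point, on which it is generic
  obtain ⟨V0, b0, v0, hb0, hv0, hdim⟩ := hy
  obtain ⟨W, hW, hv0W, -⟩ := exists_isAffineOpen_mem_and_subset (x := v0) (U := (⊤ : V0.left.Opens)) trivial
  let V : Over S := Over.mk (W.ι ≫ V0.hom)
  let iV : V ⟶ V0 := Over.homMk W.ι rfl
  have : IsAffine V.left := hW
  have : IsOpenImmersion iV.left := inferInstanceAs (IsOpenImmersion W.ι)
  let v : ↥V.left := (⟨v0, hv0W⟩ : ↥W.toScheme)
  let b := (AlgSp.yon S).map iV ≫ b0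
  have hb : AlgSp.RepWith @Etale b := Groth.Agent.AlgSpB.repWith_etale_map_comp iV hb0
  have hv : AlgSp.Points.ofPt b v = y := (Groth.Agent.AlgSpB.ofPt_map_comp iV b0 v).trans hv0
  have hgen : closure {v} ∈ irreducibleComponents (V.left : Type u) := by
    rw [Groth.Agent.FlatMor.GenericPts.closure_mem_irreducibleComponents_iff]
    have hd : ringKrullDim ↥(V.left.presheaf.stalk v) = 0 :=
      (Groth.Agent.AlgSpD.ringKrullDim_stalk_eq iV.left v).symm.trans hdim
    rw [ringKrullDim_stalk_eq_coheight] at hd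
    exact Order.coheight_eq_zero.1 (by exact_mod_cast hd)
  -- an affine chart of the base change, and its relation
  have sq := IsPullback.of_hasPullback f.hom b
  have hP := Groth.Agent.AlgSp.isAlgSpace_pullback Y.property X.property (AlgSp.IsAlgSpace.yon_obj V) f.hom b
  have hdiag := Groth.Agent.AlgSp.repWith_diagonal_baseChange sq hqs
  obtain ⟨U, a, h, hU, ha, has, hah, hlft, hqc⟩ :=
    Groth.Agent.AlgSp.exists_affine_chart_over X.property Y.property hft b sq
  have haX : AlgSp.RepWith @Etale (a ≫ pullback.fst f.hom b) :=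
    (AlgSp.RepWith _).comp_mem _ _ ha (MorphismProperty.pullback_fst _ _ hb)
  have w : (a ≫ pullback.fst f.hom b) ≫ f.hom = (AlgSp.yon S).map h ≫ b := by
    rw [Category.assoc, sq.w, ← Category.assoc, hah]
  have hfibU : (h.left ⁻¹' {v}).Finite := by
    refine (Groth.Agent.AlgSp.finite_qfAt_preimage h.left v).subset fun u hu => ⟨hu, ?_⟩
    refine Groth.Agent.AlgSp.quasiFiniteAt_of_qfAt X.property Y.property haX hb w (hqf _ ?_)
    rw [AlgSp.Points.map_ofPt, w, Groth.Agent.AlgSpB.ofPt_map_comp, show h.left u = v from hu, hv]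
  obtain ⟨R, t, q, sR⟩ := Groth.Agent.AlgSpB.exists_pullback_yon (hP.representable_from_yon a) a
  have hw : t ≫ h = q ≫ h := (AlgSp.yon S).map_injective (by
    rw [Functor.map_comp, Functor.map_comp, ← hah, ← Category.assoc, sR.w, Category.assoc])
  have hwl : t.left ≫ h.left = q.left ≫ h.left := congrArg (fun m : R ⟶ V => m.left) hw
  have hlqc : QuasiCompact (pullback.lift t.left q.left hwl : R.left ⟶ pullback h.left h.left) :=
    Groth.Agent.AlgSp.prop_rel @QuasiCompact sR hdiag hah hwl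
  have : Mono (pullback.lift t.left q.left hwl : R.left ⟶ pullback h.left h.left) := by
    have hm : Mono (pullback.lift t q hw : R ⟶ pullback h h) := ⟨fun g1 g2 e => by
      apply (AlgSp.yon S).map_injective
      apply sR.hom_ext
      · simpa only [← Functor.map_comp, Category.assoc, pullback.lift_fst] using
          congrArg (fun m => (AlgSp.yon S).map (m ≫ pullback.fst h h)) e
      · simpa only [← Functor.map_comp, Category.assoc, pullback.lift_snd] using
          congrArg (fun m => (AlgSp.yon S).map (m ≫ pullback.snd h h)) e⟩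
    have eQ := Groth.Agent.AlgSpB.isPullback_map_left (IsPullback.of_hasPullback h h)
    have e : (pullback.lift t q hw : R ⟶ pullback h h).left ≫ eQ.isoPullback.hom =
        pullback.lift t.left q.left hwl := by
      apply pullback.hom_ext
      · rw [Category.assoc, IsPullback.isoPullback_hom_fst, ← Over.comp_left, pullback.lift_fst, pullback.lift_fst]
      · rw [Category.assoc, IsPullback.isoPullback_hom_snd, ← Over.comp_left, pullback.lift_snd, pullback.lift_snd]
    rw [← e]
    infer_instance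
  have : QuasiSeparated (pullback.lift t.left q.left hwl : R.left ⟶ pullback h.left h.left) := inferInstance
  have : IsAffineHom h.left := isAffineHom_of_isAffine _
  have : Etale t.left := ha.2 _ _ _ sR.flip
  have : QuasiCompact t.left := by
    rw [← pullback.lift_fst t.left q.left hwl]; infer_instance
  have : QuasiSeparated t.left := by
    rw [← pullback.lift_fst t.left q.left hwl]; infer_instance
  have : LocallyQuasiFinite t.left := Groth.Agent.AlgSpCov.etale_le_locallyQuasiFinite _ _ t.left ‹Etale t.left›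
  have hfibR : ((t.left ≫ h.left) ⁻¹' {v}).Finite :=
    (t.left.finite_preimage hfibU).subset fun r hr => by simpa using hr
  obtain ⟨V1, -, hvV1, hfin1⟩ := (Groth.Agent.S2080.result h.left v hgen).1 hfibU
  obtain ⟨V2, -, hvV2, hfin2⟩ := (Groth.Agent.S2080.result (t.left ≫ h.left) v hgen).1 hfibR
  obtain ⟨O, hO, hvO, hOle⟩ := exists_isAffineOpen_mem_and_subset (x := v) (U := V1 ⊓ V2) ⟨hvV1, hvV2⟩
  -- restriction to a smaller affine open
  let B : Over S := Over.mk (O.ι ≫ V.hom)
  let j : B ⟶ V := Over.homMk O.ι rfl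
  have : IsOpenImmersion j.left := inferInstanceAs (IsOpenImmersion O.ι)
  have hres : ∀ {Z Z' : Scheme.{u}} (g : Z ⟶ V.left) (g' : Z' ⟶ O.toScheme) (i : Z' ⟶ Z)
      (V' : V.left.Opens), O ≤ V' → IsFinite (g ∣_ V') → IsPullback i g' g O.ι → IsFinite g' := by
    intro Z Z' g g' i V' hle hfin hs
    have h1 : IsPullback (g ⁻¹ᵁ V').ι (g ∣_ V') g V'.ι := (isPullback_morphismRestrict g V').flip
    let k := V.left.homOfLE hle
    have hk : k ≫ V'.ι = O.ι := V.left.homOfLE_ι hle
    let l := h1.lift i (g' ≫ k) (by rw [Category.assoc, hk, hs.w])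
    have h2 : IsPullback l g' (g ∣_ V') k :=
      IsPullback.of_right (h₁₂ := (g ⁻¹ᵁ V').ι) (h₂₂ := V'.ι) (v₁₃ := g)
        (by rw [h1.lift_fst, hk]; exact hs) (h1.lift_snd _ _ _) h1
    exact MorphismProperty.of_isPullback h2 hfin
  let U3 := pullback h j
  let p1 : U3 ⟶ U := pullback.fst h j
  let h3 : U3 ⟶ B := pullback.snd h j
  have sU3 : IsPullback p1 h3 h j := IsPullback.of_hasPullback h j
  have hfinU : IsFinite h3.left :=
    hres h.left h3.left p1.left V1 (hOle.trans Set.inter_subset_left) hfin1 (sU3.map (Over.forget S))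
  let b3 := (AlgSp.yon S).map j ≫ b
  have hb3 : AlgSp.RepWith @Etale b3 := Groth.Agent.AlgSpB.repWith_etale_map_comp j hb
  have s3 := IsPullback.of_hasPullback (pullback.snd f.hom b) ((AlgSp.yon S).map j)
  have s3' := s3.paste_horiz sq
  have hP3 := Groth.Agent.AlgSp.isAlgSpace_pullback (AlgSp.IsAlgSpace.yon_obj V) hP (AlgSp.IsAlgSpace.yon_obj B)
    (pullback.snd f.hom b) ((AlgSp.yon S).map j)
  let snd3 := pullback.snd (pullback.snd f.hom b) ((AlgSp.yon S).map j)
  let π := s3.lift ((AlgSp.yon S).map p1 ≫ a) ((AlgSp.yon S).map h3)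
    (by rw [Category.assoc, hah, ← Functor.map_comp, ← Functor.map_comp, sU3.w])
  have hπsnd : π ≫ snd3 = (AlgSp.yon S).map h3 := s3.lift_snd _ _ _
  have sπ : IsPullback ((AlgSp.yon S).map p1) π a (pullback.fst (pullback.snd f.hom b) ((AlgSp.yon S).map j)) := by
    refine IsPullback.of_bot ?_ (s3.lift_fst _ _ _).symm s3
    rw [s3.lift_snd, hah]
    exact sU3.map (AlgSp.yon S)
  have hπ : AlgSp.RepWith @Etale π := MorphismProperty.of_isPullback sπ ha
  have hπs : AlgSp.RepWith @Surjective π := MorphismProperty.of_isPullback sπ has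
  obtain ⟨R3, t3, q3, sR3⟩ := Groth.Agent.AlgSpB.exists_pullback_yon (hP3.representable_from_yon π) π
  have sbig : IsPullback ((AlgSp.yon S).map (q3 ≫ p1)) ((AlgSp.yon S).map t3) a ((AlgSp.yon S).map p1 ≫ a) := by
    rw [Functor.map_comp]
    have := sR3.flip.paste_horiz sπ
    rwa [← sπ.w] at this
  let m := sR.lift ((AlgSp.yon S).map t3 ≫ (AlgSp.yon S).map p1) ((AlgSp.yon S).map (q3 ≫ p1))
    (by rw [Category.assoc, ← sbig.w])
  obtain ⟨m', hm'⟩ := (AlgSp.yon S).map_surjective m
  have sm : IsPullback ((AlgSp.yon S).map m') ((AlgSp.yon S).map t3) ((AlgSp.yon S).map t) ((AlgSp.yon S).map p1) :=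
    IsPullback.of_right (h₁₂ := (AlgSp.yon S).map q) (h₂₂ := a) (v₁₃ := a)
      (by rw [hm', sR.lift_snd]; exact sbig) (by rw [hm', sR.lift_fst]) sR.flip
  have sm' : IsPullback m' t3 t p1 := IsPullback.of_map (AlgSp.yon S)
    ((AlgSp.yon S).map_injective (by rw [Functor.map_comp, Functor.map_comp, sm.w])) sm
  have hfinR : IsFinite (t3.left ≫ h3.left) := hres (t.left ≫ h.left) (t3.left ≫ h3.left) m'.left V2
    (hOle.trans Set.inter_subset_right) hfin2 ((sm'.paste_vert sU3).map (Over.forget S))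
  have : IsFinite t3.left := IsFinite.of_comp t3.left h3.left
  have ht3 : AlgSp.IsFiniteMor ((AlgSp.yon S).map t3) :=
    (Groth.Agent.AlgSpD.isFiniteMor_iff _).2 ((AlgSp.repWith_yon_map_iff _ _).2 ‹IsFinite t3.left›)
  let P3 : AlgSp.Space S := ⟨_, hP3⟩
  let U3s : AlgSp.Space S := ⟨(AlgSp.yon S).obj U3, AlgSp.IsAlgSpace.yon_obj U3⟩
  let Bs : AlgSp.Space S := ⟨(AlgSp.yon S).obj B, AlgSp.IsAlgSpace.yon_obj B⟩
  let πs : U3s ⟶ P3 := ObjectProperty.homMk π
  let ss : P3 ⟶ Bs := ObjectProperty.homMk snd3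
  have hπfin : AlgSp.IsFiniteMor π :=
    (Groth.Agent.S10268.result πs U3 π hπ hπs ((AlgSp.yon S).map q3) ((AlgSp.yon S).map t3) sR3.flip).2 ht3
  have hπsurj := (Groth.Agent.AlgSp.repWith_surjective_iff π hπs.1).1 hπs
  have hsep : AlgSp.IsSeparatedMor snd3 :=
    (Groth.Agent.AlgSp.separation_of_surjective_univClosed (AlgSp.IsAlgSpace.yon_obj U3) hP3
      (AlgSp.IsAlgSpace.yon_obj B) π ((AlgSp.yon S).map h3) snd3 hπsnd hπsurj
      ((Groth.Agent.AlgSpD.isFiniteMor_iff_proper πs.hom).1 hπfin).2.2.2).2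
      ((AlgSp.isSeparatedMor_yon_map_iff h3).2 inferInstance)
  have hfin3 : AlgSp.IsFiniteMor snd3 := by
    refine Groth.Agent.S16833.result πs ss ?_ hπsurj hsep ?_
    · exact fun Z φ hφ => (AlgSp.RepWith _).comp_mem _ _ hφ hπ
    · change AlgSp.IsFiniteMor (π ≫ snd3)
      rw [hπsnd]
      exact (Groth.Agent.AlgSpD.isFiniteMor_iff _).2 ((AlgSp.repWith_yon_map_iff _ _).2 hfinU)
  -- descend to the image open subspace
  obtain ⟨Y', jY, hjY, hjr⟩ := Groth.Agent.AlgSpB.exists_openSubspace Y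
    (W := Set.range (AlgSp.Points.ofPt b3)) (Groth.Agent.AlgSpB.isOpenMap_ofPt hb3).isOpen_range
  obtain ⟨b', hb'j, hb'e, hb's⟩ := Groth.Agent.AlgSpB.exists_chart_into_subspace hb3 hjY hjr
  have sX := IsPullback.of_hasPullback jY.hom f.hom
  let X' : AlgSp.Space S := ⟨_, Groth.Agent.AlgSp.isAlgSpace_pullback Y.property Y'.property X.property jY.hom f.hom⟩
  refine ⟨Y', X', jY, ObjectProperty.homMk (pullback.fst jY.hom f.hom),
    ObjectProperty.homMk (pullback.snd jY.hom f.hom), hjY, ?_, sX, ?_⟩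
  · rw [hjr, ← hv]
    refine ⟨(⟨v, hvO⟩ : ↥O.toScheme), ?_⟩
    rw [Groth.Agent.AlgSpB.ofPt_map_comp]
    rfl
  let e := sX.lift (snd3 ≫ b') (pullback.fst (pullback.snd f.hom b) ((AlgSp.yon S).map j) ≫ pullback.fst f.hom b)
    (by rw [Category.assoc, hb'j]; exact s3'.w.symm)
  have se : IsPullback e snd3 (pullback.fst jY.hom f.hom) b' :=
    IsPullback.of_right (h₁₂ := pullback.snd jY.hom f.hom) (h₂₂ := jY.hom) (v₁₃ := f.hom)
      (by rw [sX.lift_snd, hb'j]; exact s3') (sX.lift_fst _ _ _) sX.flip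
  exact (Groth.Agent.S10268.result (X := X') (ObjectProperty.homMk (pullback.fst jY.hom f.hom)) B b' hb'e hb's e snd3 se).2 hfin3

end Groth.Agent.S10398
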