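import Groth.Statements.S10200
import Groth.Agent.AlgSpB.Art.GenericScheme
import Groth.Agent.S10197
import Groth.Agent.S10190
import Groth.Agent.S10198
import Groth.Agent.S10398
import Groth.Agent.S10181
import Groth.Agent.AlgSpD.IntegralMor
import Groth.Agent.AlgSp.NormQf
import Groth.Agent.AlgSp.QCMor
import Groth.Agent.AlgSp.GenFiniteSch

set_option autoImplicit false
set_option backward.isDefEq.respectTransparency false
set_option backward.isDefEq.respectTransparency.types false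

universe u
open CategoryTheory CategoryTheory.Limits AlgebraicGeometry Topology TopologicalSpace
open AlgSp

namespace Groth.Agent.S10200

theorem nhd_of_chart {S : Scheme.{u}} (Y : AlgSp.Space S) {U : Over S} [IsAffine U.left]
    (p : (AlgSp.yon S).obj U ⟶ Y.obj) (hq : AlgSp.RepWith @QuasiCompact p) (he : AlgSp.RepWith @Etale p)
    (hs : AlgSp.RepWith @Surjective p) (y : AlgSp.Points Y.obj)
    (hy : AlgSp.HasAt (fun U u => ringKrullDim ↥(U.presheaf.stalk u) = 0) Y.obj y) :
    ∃ (X' : AlgSp.Space S) (j : X' ⟶ Y), AlgSp.RepWith @IsOpenImmersion j.hom ∧ X'.obj.obj.IsRepresentable ∧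
      y ∈ Set.range (AlgSp.Points.map j.hom) := by
  obtain ⟨R, t, s, hR⟩ := Groth.Agent.AlgSpB.exists_pullback_yon he.1 p
  have : IsSeparated s.left := (Groth.Agent.S10181.result Y p he).1.2 _ _ _ hR
  let δ : U ⟶ R := ((Groth.Agent.AlgSpB.isEqvRel_of_isPullback hR).2 U).refl (𝟙 U) |>.choose
  have hδ : δ ≫ t = 𝟙 U ∧ δ ≫ s = 𝟙 U := (((Groth.Agent.AlgSpB.isEqvRel_of_isPullback hR).2 U).refl (𝟙 U)).choose_spec
  have hsep : AlgSp.IsSeparatedMor p := by
    have e : pullback.diagonal p = (AlgSp.yon S).map δ ≫ hR.isoPullback.hom := by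
      apply pullback.hom_ext <;> simp [← Functor.map_comp, hδ]
    rw [AlgSp.IsSeparatedMor, e, MorphismProperty.cancel_right_of_respectsIso (AlgSp.RepWith _)]
    refine (AlgSp.repWith_yon_map_iff _ _).2 ?_
    have : IsClosedImmersion (δ.left ≫ s.left) := by rw [← Over.comp_left, hδ.2]; exact (inferInstance : IsClosedImmersion (𝟙 U.left))
    exact IsClosedImmersion.of_comp δ.left s.left
  have hlft : AlgSp.LocP @LocallyOfFiniteType p := Groth.Agent.AlgSpCov.locP_of_repWith
    Groth.Agent.AlgSpCov.etaleLocal_locallyOfFiniteType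
    (AlgSp.repWith_mono (Q := @LocallyOfFiniteType) (fun g (hg : Etale g) => (inferInstance : LocallyOfFiniteType g)) he)
  let p' : (AlgSp.ofScheme S).obj U ⟶ Y := ObjectProperty.homMk p
  obtain ⟨Y', X', j, fst, snd, hj, hyj, sq, hfin⟩ := Groth.Agent.S10398.result p'
    (Groth.Agent.AlgSp.isQuasiSeparatedMor_of_sep hsep) ⟨hlft, Groth.Agent.AlgSp.isQuasiCompactMor_of_repWith Y.property hq⟩
    y hy (fun x _ => ⟨U, U, 𝟙 _, p, 𝟙 U, (AlgSp.Points.schemeHomeo U).symm x, AlgSp.repWith_id _ _, he,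
      by rw [CategoryTheory.Functor.map_id]; rfl, (AlgSp.Points.schemeHomeo U).apply_symm_apply x,
      ⟨⊤, trivial, (inferInstance : LocallyQuasiFinite ((⊤ : U.left.Opens).ι ≫ 𝟙 _)),
        (inferInstance : LocallyOfFiniteType ((⊤ : U.left.Opens).ι ≫ 𝟙 _))⟩⟩)
  have := Groth.Agent.AlgSpB.mono_of_isOpenImmersion hj
  obtain ⟨UW, g, f', sqW⟩ := hj.1 p
  have : IsOpenImmersion g.left := hj.2 _ _ _ sqW
  have : QuasiSeparatedSpace ↥U.left := inferInstance
  have : QuasiSeparatedSpace ↥UW.left := g.left.isOpenEmbedding.quasiSeparatedSpace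
  have hef : f' = (sqW.isoIsPullback _ _ sq).hom ≫ fst.hom := (IsPullback.isoIsPullback_hom_fst _ _ _ _).symm
  have hf' : AlgSp.RepWith @IsFinite f' := by
    rw [hef, MorphismProperty.cancel_left_of_respectsIso (AlgSp.RepWith _)]
    exact (Groth.Agent.AlgSpD.isFiniteMor_iff _).1 hfin
  obtain ⟨y', rfl⟩ := hyj
  obtain ⟨u', rfl⟩ := Groth.Agent.AlgSpB.surjective_ofPt (MorphismProperty.of_isPullback sqW.flip hs) y'
  have he' : AlgSp.RepWith @Etale f' := MorphismProperty.of_isPullback sqW.flip he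
  have hcodim : AlgSp.HasAt (fun U u => ringKrullDim ↥(U.presheaf.stalk u) = 0) Y'.obj (AlgSp.Points.ofPt f' u') := by
    rw [Groth.Agent.AlgSp.codim0_iff_chart he', Groth.Agent.AlgSp.generic_open_iff g.left]
    rw [AlgSp.Points.map_ofPt, sqW.w, Groth.Agent.AlgSpB.ofPt_map_comp, Groth.Agent.AlgSp.codim0_iff_chart he] at hy
    exact hy
  obtain ⟨X'', k, hk, hrep, hmem⟩ := Groth.Agent.AlgSpB.Art.exists_scheme_nhd Y' f' hf' he'
    (MorphismProperty.of_isPullback sqW.flip hs) _ hcodim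
  refine ⟨X'', k ≫ j, (AlgSp.RepWith @IsOpenImmersion : MorphismProperty (AlgSp.Sp S)).comp_mem _ _ hk hj, hrep, ?_⟩
  obtain ⟨z, hz⟩ := hmem
  exact ⟨z, by
    show AlgSp.Points.map (k.hom ≫ j.hom) z = _
    rw [AlgSp.Points.map_comp, hz]⟩

/-- Let X be an algebraic space over a scheme S that is Zariski locally quasi-separated over S (for
example quasi-separated over S). Then there is a dense open subspace of X which is a scheme; more
precisely there is an open subspace X' ⟶ X with representable underlying sheaf such that |X'| is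
dense in |X| and contains every codimension 0 point of X (every point under which some etale chart
has a zero-dimensional local ring). -/
theorem result {S : Scheme.{u}} (X : AlgSp.Space S)
    (hX : ∃ (ι : Type u) (Xi : ι → AlgSp.Space S) (j : ∀ i, Xi i ⟶ X),
        AlgSp.IsZarCover (fun i => (Xi i).obj) (fun i => (j i).hom) ∧ ∀ i, AlgSp.IsQuasiSeparatedSp (Xi i).obj) :
    ∃ (X' : AlgSp.Space S) (j : X' ⟶ X), AlgSp.RepWith @IsOpenImmersion j.hom ∧ X'.obj.obj.IsRepresentable ∧
      Dense (Set.range (AlgSp.Points.map j.hom)) ∧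
      ∀ x : AlgSp.Points X.obj, AlgSp.HasAt (fun U u => ringKrullDim ↥(U.presheaf.stalk u) = 0) X.obj x →
        x ∈ Set.range (AlgSp.Points.map j.hom) := by
  obtain ⟨X', j, hj, hrep, hmax⟩ := Groth.Agent.S10197.result X
  obtain ⟨ι, Xi, ji, ⟨hji, hcov⟩, hch⟩ := (Groth.Agent.S10198.result X).1 hX
  have key : ∀ x : AlgSp.Points X.obj, AlgSp.HasAt (fun U u => ringKrullDim ↥(U.presheaf.stalk u) = 0) X.obj x →
      x ∈ Set.range (AlgSp.Points.map j.hom) := by
    intro x hx
    obtain ⟨i, y, rfl⟩ := hcov x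
    obtain ⟨U, p, hU, hq, he, hs⟩ := hch i
    have : IsAffine U.left := hU
    obtain ⟨u, rfl⟩ := Groth.Agent.AlgSpB.surjective_ofPt hs y
    have := Groth.Agent.AlgSpB.mono_of_isOpenImmersion (hji i)
    have hei : AlgSp.RepWith @Etale (p ≫ (ji i).hom) :=
      (AlgSp.RepWith @Etale : MorphismProperty (AlgSp.Sp S)).comp_mem _ _ he
        (AlgSp.repWith_mono (Q := @Etale) (fun g (hg : IsOpenImmersion g) => (inferInstance : Etale g)) (hji i))
    rw [AlgSp.Points.map_ofPt, Groth.Agent.AlgSp.codim0_iff_chart hei, ← Groth.Agent.AlgSp.codim0_iff_chart he] at hx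
    obtain ⟨X₁, j₁, hj₁, hrep₁, z, hz⟩ := @nhd_of_chart S (Xi i) U hU p hq he hs _ hx
    obtain ⟨k, hk⟩ := hmax X₁ (j₁ ≫ ji i)
      ((AlgSp.RepWith @IsOpenImmersion : MorphismProperty (AlgSp.Sp S)).comp_mem _ _ hj₁ (hji i)) hrep₁
    refine ⟨AlgSp.Points.map k.hom z, ?_⟩
    rw [← AlgSp.Points.map_comp, show k.hom ≫ j.hom = j₁.hom ≫ (ji i).hom from congrArg (·.hom) hk,
      AlgSp.Points.map_comp, hz]
  exact ⟨X', j, hj, hrep, (Groth.Agent.S10190.result X).mono key, key⟩

end Groth.Agent.S10200
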