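import Groth.Statements.S0010
import Groth.Agent.CohAff.Vanishing

set_option autoImplicit false
universe u
open Coherent

namespace Groth.Agent.S0010

open AlgebraicGeometry in
/-- Let X be a scheme in which the intersection of any two affine opens is affine (equivalently, X has
affine diagonal; e.g. X separated), covered by t affine opens. Then H^n(X, F) = 0 for every
quasi-coherent F and every n ≥ t. -/
theorem result (X : Scheme.{u}) (t : ℕ) (U : Fin t → X.Opens)
    (hU : ∀ i, IsAffineOpen (U i)) (hcov : ⨆ i, U i = ⊤)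
    (hd : ∀ V W : X.Opens, IsAffineOpen V → IsAffineOpen W → IsAffineOpen (V ⊓ W))
    (M : X.Modules) [Coh.IsQCoh M] (n : ℕ) (hn : t ≤ n) :
    Subsingleton (Coh.HH X M n) := by
  rcases n with _ | m
  · obtain rfl : t = 0 := by omega
    rw [iSup_of_empty] at hcov
    have : Subsingleton ((Coh.toAb M).obj.obj (Opposite.op (⊤ : X.Opens))) :=
      ⟨fun a b => TopCat.Sheaf.eq_of_locally_eq' (Coh.toAb M)
        (PEmpty.elim : PEmpty.{u + 1} → X.Opens) ⊤ (fun i => i.elim) (hcov.ge.trans bot_le) a b
        (fun i => i.elim)⟩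
    exact (CategoryTheory.Sheaf.H.equiv₀ (Coh.toAb M)
      CategoryTheory.Limits.isTerminalTop).toEquiv.subsingleton
  · refine (Groth.Agent.CohAff.subsingleton_H_iff (Coh.toAb M) m).2 ?_
    have := Groth.Agent.CohAff.vanishOn_iSup hd t U hU m hn
    rw [hcov] at this
    exact this _ (Groth.Agent.CohAff.good_affCov M)

end Groth.Agent.S0010
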