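import Groth.Statements.S14362
import Groth.Agent.S14361

set_option autoImplicit false
universe u
open AlgebraicGeometry
open SchImage

namespace Groth.Agent.S14362

open CategoryTheory TopologicalSpace

/-- Let π : X → Y be a morphism of schemes with X reduced. Then the closed subset underlying the
scheme-theoretic image of π, i.e. the support of its kernel ideal sheaf, is the closure of the image
of π. (The published statement allows, as an alternative to X being reduced, that π be
quasi-compact; this row is the reduced case and assumes no quasi-compactness.) -/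
theorem result (X Y : Scheme.{u}) [IsReduced X]
    (π : X ⟶ Y) :
    (π.ker.support : Set Y) = closure (Set.range π) := by
  refine subset_antisymm ?_
    ((π.ker.support).isClosed.closure_subset_iff.mpr π.range_subset_ker_support)
  intro x hx
  by_contra hc
  obtain ⟨_, ⟨U, hU, rfl⟩, hxU, -⟩ :=
    Y.isBasis_affineOpens.exists_subset_of_mem_open (Set.mem_univ x) isOpen_univ
  obtain ⟨s, hs, hxs⟩ := hU.exists_basicOpen_le
    (V := ⟨(closure (Set.range π))ᶜ, isClosed_closure.isOpen_compl⟩) (⟨x, hc⟩) hxU
  have hbot : X.basicOpen (π.app U s) = ⊥ := by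
    rw [← Scheme.preimage_basicOpen, eq_bot_iff]
    exact fun z hz => (hs hz (subset_closure ⟨z, rfl⟩)).elim
  have hker : s ∈ π.ker.ideal ⟨U, hU⟩ := by
    rw [Groth.Agent.S14361.result]
    exact (basicOpen_eq_bot_iff _).mp hbot
  have hz := (Scheme.IdealSheafData.mem_support_iff_of_mem (U := ⟨U, hU⟩) hxU).mp hx
  exact (Scheme.mem_zeroLocus_iff _ _ _).mp hz s hker hxs

end Groth.Agent.S14362
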