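import Groth.Statements.S5161
import Groth.Agent.LocCoh.AffineCompl

set_option autoImplicit false
universe u
open AlgebraicGeometry
open LocCoh

namespace Groth.Agent.S5161

/-- Let A be a Noetherian ring, X = Spec A and Y ⊆ X a closed subset whose complement U is an affine
open. Then every irreducible component of Y has codimension ≤ 1 in X, i.e. the generic point of each
irreducible component of Y is a prime of height at most 1. -/
theorem result (A : Type u) [CommRing A] [IsNoetherianRing A] (U : (Spec (CommRingCat.of A)).Opens) (hU : IsAffineOpen U) (p : PrimeSpectrum A) (hpU : (p : (Spec (CommRingCat.of A) : Type u)) ∉ (U : Set (Spec (CommRingCat.of A) : Type u))) (hmin : ∀ q : PrimeSpectrum A, q.asIdeal ≤ p.asIdeal → (q : (Spec (CommRingCat.of A) : Type u)) ∉ (U : Set (Spec (CommRingCat.of A) : Type u)) → q = p) : p.asIdeal.height ≤ 1 := by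
  let U' : Set (PrimeSpectrum A) := U.carrier
  let J := PrimeSpectrum.vanishingIdeal U'ᶜ
  have hJ : ∀ q : PrimeSpectrum A, (q : (Spec (CommRingCat.of A) : Type u)) ∈ U ↔ ¬ J ≤ q.asIdeal := fun q => by
    have h : PrimeSpectrum.zeroLocus (J : Set A) = U'ᶜ := by
      rw [PrimeSpectrum.zeroLocus_vanishingIdeal_eq_closure, closure_eq_iff_isClosed]
      exact isClosed_compl_iff.mpr U.is_open'
    have h' := Set.ext_iff.mp h q
    rw [PrimeSpectrum.mem_zeroLocus, Set.mem_compl_iff] at h'
    exact ⟨fun hq hle => h'.mp hle hq, fun hn => of_not_not fun hq => hn (h'.mpr hq)⟩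
  refine Groth.Agent.LocCoh.height_le_one_of_cdLE_one (Groth.Agent.LocCoh.cdLE_one_of_isAffineOpen hU hJ) p
    (of_not_not fun hn => hpU ((hJ p).mpr hn)) fun q hle hq => hmin q hle fun hqU => (hJ q).mp hqU hq

end Groth.Agent.S5161
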