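import Groth.Statements.S1687
import Groth.Agent.S1700
import Groth.Agent.S5161
import Groth.Agent.RedSub.Basic
import Groth.Agent.WeakAssSch.Unit
-- import your own Groth.Agent.* helpers here

set_option autoImplicit false
set_option linter.style.haveILetI false
universe u
open CategoryTheory CategoryTheory.Limits AlgebraicGeometry TopologicalSpace
open SDiv

namespace Groth.Agent.S1687

theorem exists_only_maximal {X : Scheme.{u}} [IsNoetherian X] (x : X) (hx : ∀ y : X, y ⤳ x → y = x) :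
    ∃ O : X.Opens, x ∈ O ∧ ∀ ξ ∈ O, (∀ y : X, y ⤳ ξ → y = ξ) → ξ = x := by
  have hcomp : ∀ ξ : X, (∀ y : X, y ⤳ ξ → y = ξ) → closure ({ξ} : Set X) ∈ irreducibleComponents (X : Type u) := by
    intro ξ hξ
    refine ⟨isIrreducible_singleton.closure, fun Z hZ hle => ?_⟩
    obtain ⟨η, hη⟩ := QuasiSober.sober hZ.closure isClosed_closure
    have hmem : ξ ∈ closure ({η} : Set X) := by
      rw [hη.def]
      exact subset_closure (hle (subset_closure rfl))
    rw [← hξ η (specializes_iff_mem_closure.mpr hmem), hη.def]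
    exact subset_closure
  let T : Set X := ⋃ Z ∈ irreducibleComponents (X : Type u) \ {closure {x}}, Z
  have hT : IsClosed T := Set.Finite.isClosed_biUnion
    ((TopologicalSpace.NoetherianSpace.finite_irreducibleComponents (α := X)).subset Set.sdiff_subset)
    fun Z hZ => isClosed_of_mem_irreducibleComponents Z hZ.1
  refine ⟨⟨Tᶜ, hT.isOpen_compl⟩, fun hxT => ?_, fun ξ hξO hξ => ?_⟩
  · obtain ⟨Z, hZ, hxZ⟩ := Set.mem_iUnion₂.mp hxT
    have h1 : closure ({x} : Set X) ⊆ Z :=
      closure_minimal (Set.singleton_subset_iff.mpr hxZ) (isClosed_of_mem_irreducibleComponents Z hZ.1)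
    exact hZ.2 (le_antisymm ((hcomp x hx).2 hZ.1.1 h1) h1)
  · by_contra hne
    refine hξO (Set.mem_iUnion₂.mpr ⟨closure {ξ}, ⟨hcomp ξ hξ, fun e => hne ?_⟩, subset_closure rfl⟩)
    have e' : closure ({ξ} : Set X) = closure {x} := e
    exact ((specializes_iff_closure_subset.mpr e'.ge).antisymm (specializes_iff_closure_subset.mpr e'.le)).eq

/-- A dense open contains the maximal points. -/
theorem mem_of_dense {X : Scheme.{u}} [IsNoetherian X] (U : X.Opens) (hd : Dense (U : Set X)) (x : X)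
    (hx : ∀ y : X, y ⤳ x → y = x) : x ∈ U := by
  obtain ⟨O, hxO, hO⟩ := exists_only_maximal x hx
  obtain ⟨z, hzO, hzU⟩ := hd.inter_open_nonempty _ O.2 ⟨x, hxO⟩
  obtain ⟨ξ, hξz, hξ⟩ := IdealSh.GenericPts.exists_maximal_generalization z
  rw [← hO ξ (hξz.mem_open O.2 hzO) hξ]
  exact hξz.mem_open U.2 hzU

/-- Let X be a Noetherian scheme with affine diagonal (the intersection of any two affine opens is
affine), U a dense affine open subset, and suppose the local ring of X at every point outside U is a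
unique factorisation domain. Then there is an effective Cartier divisor whose support is exactly X
minus U. -/
theorem result (X : Scheme.{u}) [IsNoetherian X]
    (hΔ : ∀ V W : X.Opens, IsAffineOpen V → IsAffineOpen W → IsAffineOpen (V ⊓ W)) (U : X.Opens) (hU : IsAffineOpen U)
    (hdense : Dense (U : Set ↥X))
    (hufd : ∀ x : ↥X, x ∉ U → IsDomain (X.presheaf.stalk x) ∧ UniqueFactorizationMonoid (X.presheaf.stalk x)) :
    ∃ 𝓘 : X.IdealSheafData, BlowUp.IsEffCartierIdeal 𝓘 ∧ (𝓘.support : Set ↥X) = (U : Set ↥X)ᶜ := by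
  let C : Closeds X := ⟨(U : Set X)ᶜ, U.2.isClosed_compl⟩
  set 𝓘 := Scheme.IdealSheafData.vanishingIdeal C
  have hsupp : (𝓘.support : Set X) = (U : Set X)ᶜ := Scheme.IdealSheafData.coe_support_vanishingIdeal _
  refine ⟨𝓘, IdealSh.CodimOne.isEffCartierIdeal 𝓘 (fun z hz => ?_) (fun z hz => ?_)
    (fun x hx => hufd x ((Set.ext_iff.mp hsupp x).mp hx)), hsupp⟩
  · exact (WeakAssSch.isWeakAssPoint_unit_iff_maximal z).mp
      ((WeakAssSch.isWeakAssPoint_unit_iff_isAssociatedPrime z).mpr hz)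
  set x := 𝓘.subschemeι z
  have hxU : x ∉ U := (Set.ext_iff.mp hsupp x).mp (by
    rw [← Scheme.IdealSheafData.range_subschemeι]
    exact ⟨z, rfl⟩)
  have hgen : ∀ y : X, y ⤳ x → y ∉ U → y = x := by
    intro y hy hyU
    obtain ⟨z', rfl⟩ : y ∈ Set.range 𝓘.subschemeι := by
      rw [Scheme.IdealSheafData.range_subschemeι]
      exact (Set.ext_iff.mp hsupp y).mpr hyU
    exact congrArg _ (hz z' (𝓘.subschemeι.isClosedEmbedding.isInducing.specializes_iff.mp hy))
  obtain ⟨_, ⟨V, hV, rfl⟩, hxV, -⟩ :=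
    X.isBasis_affineOpens.exists_subset_of_mem_open (Set.mem_univ x) isOpen_univ
  replace hV : IsAffineOpen V := hV
  haveI : IsNoetherianRing Γ(X, V) := IsLocallyNoetherian.component_noetherian ⟨V, hV⟩
  set p := hV.primeIdealOf ⟨x, hxV⟩
  have hU' : IsAffineOpen (hV.fromSpec ⁻¹ᵁ U) := by
    have e : hV.fromSpec ⁻¹ᵁ U = hV.fromSpec ⁻¹ᵁ (U ⊓ V) := by
      rw [Scheme.Hom.preimage_inf, hV.fromSpec_preimage_self, inf_top_eq]
    rw [e]
    exact (hΔ U V hU hV).preimage_of_isOpenImmersion _ (by rw [hV.opensRange_fromSpec]; exact inf_le_right)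
  have hle : p.asIdeal.height ≤ 1 := by
    refine S5161.result Γ(X, V) (hV.fromSpec ⁻¹ᵁ U) hU' p ?_ fun q hq hqU => ?_
    · change ¬ hV.fromSpec p ∈ U
      rw [hV.fromSpec_primeIdealOf]
      exact hxU
    · have hsp : hV.fromSpec q ⤳ hV.fromSpec p :=
        ((PrimeSpectrum.le_iff_specializes q p).mp hq).map hV.fromSpec.continuous
      rw [hV.fromSpec_primeIdealOf] at hsp
      exact hV.fromSpec.isOpenEmbedding.injective
        ((hgen _ hsp hqU).trans (hV.fromSpec_primeIdealOf ⟨x, hxV⟩).symm)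
  letI : Algebra Γ(X, V) (X.presheaf.stalk x) := (X.presheaf.germ V x hxV).hom.toAlgebra
  haveI : IsLocalization.AtPrime (X.presheaf.stalk x) p.asIdeal := hV.isLocalization_stalk ⟨x, hxV⟩
  rw [IsLocalization.AtPrime.ringKrullDim_eq_height p.asIdeal]
  have hne : p.asIdeal.height ≠ 0 := by
    intro h0
    refine hxU (mem_of_dense U hdense x fun y hy => ?_)
    have hy' : y ∈ Set.range (X.fromSpecStalk x) := by rwa [Scheme.range_fromSpecStalk]
    obtain ⟨q, rfl⟩ := hy'
    haveI : Ring.KrullDimLE 0 (X.presheaf.stalk x) := by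
      rw [Ring.krullDimLE_iff, IsLocalization.AtPrime.ringKrullDim_eq_height p.asIdeal, h0]
      rfl
    haveI := q.isPrime
    have hm := Ring.KrullDimLE.eq_maximalIdeal_of_isPrime q.asIdeal
    rw [show q = IsLocalRing.closedPoint (X.presheaf.stalk x) from PrimeSpectrum.ext hm,
      Scheme.fromSpecStalk_closedPoint]
  rw [le_antisymm hle (ENat.one_le_iff_ne_zero.mpr hne)]
  rfl

end Groth.Agent.S1687
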