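import Groth.Statements.S16188
import Mathlib.AlgebraicGeometry.Morphisms.Flat
import Mathlib.AlgebraicGeometry.Fiber
import Mathlib.AlgebraicGeometry.Morphisms.ClosedImmersion
import Mathlib.AlgebraicGeometry.Morphisms.UniversallyInjective
import Mathlib.AlgebraicGeometry.Morphisms.QuasiSeparated
import Mathlib.Topology.LocalAtTarget
import Mathlib.RingTheory.Flat.FaithfullyFlat.Algebra


set_option autoImplicit false
universe u
open CategoryTheory AlgebraicGeometry TopologicalSpace
open SchMor

namespace Groth.Agent.S16188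
open AlgebraicGeometry CategoryTheory TopologicalSpace in
lemma isIntegral_subscheme {Y : Scheme.{u}} (Z : Closeds Y) (hZ : IsIrreducible (Z : Set Y)) :
    IsIntegral (Scheme.IdealSheafData.vanishingIdeal Z).subscheme := by
  let I := Scheme.IdealSheafData.vanishingIdeal Z
  haveI : ∀ U, IsReduced (I.subschemeCover.openCover.X U) := fun U => by
    haveI : _root_.IsReduced (Γ(Y, U.1) ⧸ I.ideal U) :=
      (Ideal.isRadical_iff_quotient_reduced _).1 (by
        rw [Scheme.IdealSheafData.vanishingIdeal_ideal]
        exact PrimeSpectrum.isRadical_vanishingIdeal _)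
    show IsReduced (Spec (CommRingCat.of (Γ(Y, U.1) ⧸ I.ideal U)))
    infer_instance
  haveI : IsReduced I.subscheme := IsReduced.of_openCover I.subscheme I.subschemeCover.openCover
  haveI : IrreducibleSpace I.subscheme := by
    have hr : Set.range I.subschemeι = (Z : Set Y) := by
      rw [Scheme.IdealSheafData.range_subschemeι, Scheme.IdealSheafData.coe_support_vanishingIdeal]
    have h : IsIrreducible (Set.univ : Set I.subscheme) := by
      refine ⟨?_, ?_⟩
      · obtain ⟨y, hy⟩ := hZ.nonempty
        obtain ⟨x, -⟩ := hr.ge hy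
        exact ⟨x, trivial⟩
      · intro u v hu hv hu' hv'
        obtain ⟨u', hu2, rfl⟩ := I.subschemeι.isEmbedding.isInducing.isOpen_iff.1 hu
        obtain ⟨v', hv2, rfl⟩ := I.subschemeι.isEmbedding.isInducing.isOpen_iff.1 hv
        obtain ⟨a, -, ha⟩ := hu'
        obtain ⟨b, -, hb⟩ := hv'
        obtain ⟨y, hy, hy1, hy2⟩ := hZ.isPreirreducible u' v' hu2 hv2
          ⟨_, hr.le ⟨a, rfl⟩, ha⟩ ⟨_, hr.le ⟨b, rfl⟩, hb⟩
        obtain ⟨c, rfl⟩ := hr.ge hy
        exact ⟨c, trivial, hy1, hy2⟩
    exact (irreducibleSpace_def _).2 h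
  exact isIntegral_of_irreducibleSpace_of_isReduced _

/-- Let f : X → Y be a morphism of schemes with X reduced and irreducible. Then f factors through an
irreducible component of Y carrying its reduced closed-subscheme structure: there are an irreducible
component Z of Y and a morphism g from X to the closed subscheme of Y cut out by the vanishing ideal
sheaf of Z with g followed by the inclusion equal to f; that closed subscheme is integral. -/
theorem result
    {X Y : Scheme.{u}} (f : X ⟶ Y) [IsReduced X] [IrreducibleSpace X] :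
    ∃ (Z : Closeds Y) (_ : (Z : Set Y) ∈ irreducibleComponents Y)
      (_ : IsIntegral (Scheme.IdealSheafData.vanishingIdeal Z).subscheme)
      (g : X ⟶ (Scheme.IdealSheafData.vanishingIdeal Z).subscheme),
      g ≫ (Scheme.IdealSheafData.vanishingIdeal Z).subschemeι = f := by
  open AlgebraicGeometry CategoryTheory TopologicalSpace in
  obtain ⟨T, hT, hrange⟩ := exists_mem_irreducibleComponents_subset_of_isIrreducible
    (s := Set.range f) (Set.image_univ ▸ (IrreducibleSpace.isIrreducible_univ X).image _
      f.continuous.continuousOn)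
  let Z : Closeds Y := ⟨T, isClosed_of_mem_irreducibleComponents T hT⟩
  refine ⟨Z, hT, isIntegral_subscheme Z hT.1, ?_⟩
  have hker : (Scheme.IdealSheafData.vanishingIdeal Z).subschemeι.ker ≤ f.ker := by
    rw [Scheme.IdealSheafData.ker_subschemeι, Scheme.Hom.ker,
      Scheme.IdealSheafData.le_ofIdeals_iff]
    intro U s hs
    rw [Scheme.IdealSheafData.vanishingIdeal_ideal, PrimeSpectrum.mem_vanishingIdeal] at hs
    rw [RingHom.mem_ker, ← basicOpen_eq_bot_iff, ← Scheme.preimage_basicOpen,
      ← le_bot_iff]
    intro x hx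
    have hxU : f x ∈ (U : Y.Opens) := Y.basicOpen_le s hx
    obtain ⟨p, hp⟩ : f x ∈ Set.range U.2.fromSpec := by rw [U.2.range_fromSpec]; exact hxU
    have h1 : p ∈ U.2.fromSpec ⁻¹ᵁ Y.basicOpen s := by
      show U.2.fromSpec p ∈ Y.basicOpen s
      rw [hp]; exact hx
    rw [U.2.fromSpec_preimage_basicOpen] at h1
    exact absurd (hs p (by show U.2.fromSpec p ∈ T; rw [hp]; exact hrange ⟨x, rfl⟩)) h1
  exact ⟨IsClosedImmersion.lift _ f hker, IsClosedImmersion.lift_fac _ _ _⟩

end Groth.Agent.S16188
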