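import Groth.Statements.S4808
import Groth.Agent.NormalSec.Basic

set_option autoImplicit false
universe u
open CategoryTheory AlgebraicGeometry
open Lim8

namespace Groth.Agent.S4808

/-- Let Y' and Y be integral schemes, Y normal (every local ring of Y is integrally closed), and u : Y'
⟶ Y a finite morphism which is birational: u maps the generic point of Y' to the generic point of Y
and the stalk map of u at the generic point of Y', which is the induced homomorphism of function
fields, is an isomorphism. Then u is an isomorphism. -/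
theorem result {Y' Y : Scheme.{u}} [IsIntegral Y'] [IsIntegral Y]
    (hN : ∀ y : Y, IsIntegrallyClosed (Y.presheaf.stalk y)) (u : Y' ⟶ Y) [IsFinite u]
    (hgen : u (genericPoint Y') = genericPoint Y)
    (hbir : IsIso (u.stalkMap (genericPoint Y'))) : IsIso u := by
  classical
  have key : ∀ (U : Y.Opens), IsAffineOpen U → IsIso (u ∣_ U) := by
    intro U hU
    rcases isEmpty_or_nonempty U with hUe | hUne
    · have h2 : IsEmpty ((u ⁻¹ᵁ U : Y'.Opens) : Scheme.{u}) :=
        ⟨fun x ↦ hUe.elim ⟨u x.1, x.2⟩⟩
      have h1 : IsEmpty (U : Scheme.{u}) := hUe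
      infer_instance
    have hη : genericPoint Y' ∈ u ⁻¹ᵁ U := by
      show u (genericPoint Y') ∈ U
      rw [hgen]
      exact ((genericPoint_spec Y).mem_open_set_iff U.isOpen).mpr (by simpa using hUne)
    have hV : IsAffineOpen (u ⁻¹ᵁ U) := hU.preimage u
    have : IsAffine (U : Scheme.{u}) := hU
    have : IsAffine ((u ⁻¹ᵁ U : Y'.Opens) : Scheme.{u}) := hV
    have : Nonempty (u ⁻¹ᵁ U : Y'.Opens) := ⟨⟨_, hη⟩⟩
    have hic : IsIntegrallyClosed Γ(Y, U) :=
      NormalSec.isIntegrallyClosed_sections U (fun y _ ↦ inferInstance) (fun y _ ↦ hN y)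
        fun b hb y hy h ↦ hb (germ_injective_of_isIntegral _ y hy (h.trans (map_zero _).symm))
    have hbij : Function.Bijective (u.app U) := by
      have hφ : Function.Bijective (u.stalkMap (genericPoint Y')).hom :=
        ConcreteCategory.bijective_of_isIso (u.stalkMap (genericPoint Y'))
      have hcomm : ∀ a, Y'.presheaf.germ _ _ hη (u.app U a) =
          (u.stalkMap (genericPoint Y')).hom (Y.presheaf.germ U _ hη a) := fun a ↦
        (Scheme.Hom.germ_stalkMap_apply u U (genericPoint Y') hη a).symm
      have hfrac : ∀ (p : Y) (hp : p ∈ U), p = genericPoint Y →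
          ∀ z : Y.presheaf.stalk p, (Y.presheaf.germ U p hp).hom.IsIntegralElem z →
            ∃ a, Y.presheaf.germ U p hp a = z := by
        intro p hp e z hz
        subst e
        have : IsFractionRing Γ(Y, U) Y.functionField :=
          functionField_isFractionRing_of_isAffineOpen Y U hU
        exact (isIntegrallyClosed_iff Y.functionField).mp hic (x := z) hz
      refine ⟨fun a a' h ↦ germ_injective_of_isIntegral _ (u (genericPoint Y')) hη
        (hφ.1 (by rw [← hcomm, ← hcomm, h])), fun b ↦ ?_⟩
      obtain ⟨z, hz⟩ := hφ.2 (Y'.presheaf.germ _ _ hη b)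
      obtain ⟨p, hp, hpb⟩ := (IsFinite.finite_app (f := u) U hU).to_isIntegral b
      have hzint : (Y.presheaf.germ U _ hη).hom.IsIntegralElem z := by
        refine ⟨p, hp, hφ.1 ?_⟩
        rw [map_zero, Polynomial.hom_eval₂, hz]
        have e : (u.stalkMap (genericPoint Y')).hom.comp (Y.presheaf.germ U _ hη).hom =
            (Y'.presheaf.germ _ _ hη).hom.comp (u.app U).hom :=
          RingHom.ext fun a ↦ (hcomm a).symm
        rw [e, ← Polynomial.hom_eval₂, hpb, map_zero]
      obtain ⟨a, ha⟩ := hfrac (u (genericPoint Y')) hη hgen z hzint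
      refine ⟨a, germ_injective_of_isIntegral _ (genericPoint Y') hη ?_⟩
      rw [hcomm, ha, hz]
    have : IsIso (u.app U) := (ConcreteCategory.isIso_iff_bijective _).mpr hbij
    exact (isIso_morphismRestrict_iff_isIso_app u hU).mpr ‹_›
  have hcov := Y.isBasis_affineOpens.isOpenCover
  exact IsZariskiLocalAtTarget.of_iSup_eq_top
    (P := MorphismProperty.isomorphisms Scheme) _ hcov.iSup_eq_top fun U ↦ key U.1 U.2

end Groth.Agent.S4808
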