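import Groth.Statements.S0234
import Groth.Agent.InvExt.Main
-- import your own Groth.Agent.* helpers here

set_option linter.style.haveILetI false
set_option backward.isDefEq.respectTransparency false
set_option backward.isDefEq.respectTransparency.types false

set_option autoImplicit false
universe u
open CategoryTheory CategoryTheory.Limits AlgebraicGeometry
open Curves

namespace Groth.Agent.S0234

open Groth.Agent TopologicalSpace Groth.Agent.InvExt Groth.Agent.QCoh Groth.Agent.Props.GenLocus Groth.Agent.Props.GenPull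

set_option maxHeartbeats 400000 in
/-- Gluing of pieces. -/
theorem exists_cocycle (X : Scheme.{u}) [IsLocallyNoetherian X] (U : X.Opens)
    (L : (U : Scheme.{u}).Modules) (hL : PicF.IsInvertible L)
    (hufd : ∀ x : X, x ∉ U → ∃ _ : IsDomain (X.presheaf.stalk x), UniqueFactorizationMonoid (X.presheaf.stalk x)) :
    ∃ (ι : Type u) (P : ι → Piece U (pushM U L)),
      (⊤ ≤ iSup fun i => (P i).W) ∧ ∀ i j, ∃ a, IsTrans (P i) (P j) a := by
  classical
  have hU := exists_gen_push U L hL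
  choose O g hzO hOU hg using hU
  let base : ∀ η : X, η ∈ U → Σ' (W : X.Opens) (h : Γ(pushM U L, W)), η ∈ W ∧ IsGen (pushM U L) W h :=
    fun η hη => ⟨O η hη, g η hη, hzO η hη, hg η hη⟩
  have hb : ∀ x : {x : X // x ∉ U}, ∃ (P : Piece U (pushM U L)) (C : Chart X),
      x.1 ∈ P.W ∧ IsBdry base P C := fun x => by
    obtain ⟨_, _⟩ := hufd x.1 x.2
    exact exists_bdry (exists_gen_push U L hL) base x.1 x.2
  choose P C hxP hP using hb
  let F : {x : X // x ∈ U} ⊕ {x : X // x ∉ U} → Piece U (pushM U L) :=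
    Sum.elim (fun z => pieceOfGen (hOU z.1 z.2) (hg z.1 z.2)) P
  have hl : ∀ z, (F (Sum.inl z)).W = O z.1 z.2 := fun z => rfl
  have hcov : ⊤ ≤ iSup fun i => (F i).W := fun x _ => by
    by_cases hx : x ∈ U
    · exact Opens.mem_iSup.mpr ⟨Sum.inl ⟨x, hx⟩, (hl ⟨x, hx⟩).symm ▸ hzO x hx⟩
    · exact Opens.mem_iSup.mpr ⟨Sum.inr ⟨x, hx⟩, hxP ⟨x, hx⟩⟩
  have htr : ∀ i j, ∃ a, IsTrans (F i) (F j) a := by
    intro i j
    rcases i with i | i
    · exact exists_trans_of_le _ _ ((inf_le_left.trans (hl i).le).trans (hOU i.1 i.2))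
    rcases j with j | j
    · exact exists_trans_of_le _ _ ((inf_le_right.trans (hl j).le).trans (hOU j.1 j.2))
    · exact exists_trans_of_bdry base hufd (P i) (P j) (C i) (C j) (hP i) (hP j)
  exact ⟨_, F, hcov, htr⟩

/-- On a locally Noetherian scheme, an invertible module on an open U extends to an invertible module on
X provided the local rings at the points outside U are unique factorisation domains. -/
theorem result (X : Scheme.{u}) [IsLocallyNoetherian X] (U : X.Opens)
    (L : (U : Scheme.{u}).Modules) (hL : PicF.IsInvertible L)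
    (hufd : ∀ x : X, x ∉ U → UniqueFactorizationMonoid (X.presheaf.stalk x)) :
    ∃ L' : X.Modules, PicF.IsInvertible L' ∧ Nonempty (L'.restrict U.ι ≅ L) := by
  have hufd' : ∀ x : X, x ∉ U →
      ∃ _ : IsDomain (X.presheaf.stalk x), UniqueFactorizationMonoid (X.presheaf.stalk x) :=
    fun x hx => by
      haveI := hufd x hx
      exact ⟨NoZeroDivisors.to_isDomain _, hufd x hx⟩
  obtain ⟨ι, P, hcov, htr⟩ := exists_cocycle X U L hL hufd'
  choose a ha using htr
  let C : LineCoc.Cocycle X :=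
    ⟨ι, fun i => (P i).W, a, hcov, fun i => isTrans_self _ (ha i i),
      fun i j k V h₁ h₂ h₃ => isTrans_cocycle (ha i j) (ha j k) (ha i k) V h₁ h₂ h₃⟩
  refine ⟨LineCoc.mod C, LineCoc.isInvertible C, ?_⟩
  have hle : ∀ i, U.ι ⁻¹ᵁ (P i).W ≤ U.ι ⁻¹ᵁ (U ⊓ (P i).W) := fun i z hz => ⟨z.2, hz⟩
  have hgen : ∀ i, IsGen L (U.ι ⁻¹ᵁ (P i).W) (res L (hle i) (P i).g) := fun i =>
    ((isGen_push_iff U L inf_le_left _).mp (P i).gen).restrict (hle i)
  obtain ⟨e, -⟩ := AmpleLib.exists_iso_of_gen (M := L)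
    (N := (Scheme.Modules.pullback U.ι).obj (LineCoc.mod C)) (fun i => U.ι ⁻¹ᵁ (P i).W)
    (fun z _ => by
      obtain ⟨i, hi⟩ := Opens.mem_iSup.1 (hcov (trivial : U.ι z ∈ (⊤ : X.Opens)))
      exact Opens.mem_iSup.2 ⟨i, hi⟩)
    (fun i => res L (hle i) (P i).g) hgen
    (fun i => pb U.ι (LineCoc.gen C i)) (fun i => isGen_pb U.ι (LineCoc.isGen_gen C i))
    (fun i j V hi hj w hw => by
      have hV : V ≤ U.ι ⁻¹ᵁ ((P i).W ⊓ (P j).W) := le_inf hi hj
      have hVU : V ≤ U.ι ⁻¹ᵁ (((P i).W ⊓ (P j).W) ⊓ U) := fun z hz => ⟨hV hz, z.2⟩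
      have h0 : res L (U.ι.preimage_mono (le_inf inf_le_right (inf_le_left.trans inf_le_right) :
            ((P i).W ⊓ (P j).W) ⊓ U ≤ U ⊓ (P j).W)) (P j).g =
          U.ι.app _ (rres (inf_le_left : ((P i).W ⊓ (P j).W) ⊓ U ≤ (P i).W ⊓ (P j).W) (a i j)) •
            res L (U.ι.preimage_mono (le_inf inf_le_right (inf_le_left.trans inf_le_left) :
              ((P i).W ⊓ (P j).W) ⊓ U ≤ U ⊓ (P i).W)) (P i).g := (ha i j).1
      have h1 := congrArg (res L hVU) h0
      rw [res_res, res_smul, res_res, app_rres, rres_rres] at h1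
      have h2 : w = rres hV (U.ι.app _ (a i j)) := by
        refine (hgen i).injective hi ?_
        refine hw.symm.trans ?_
        simp only [res_res]
        exact h1
      have h3 := congrArg (LFFrame.unitSec U.ι (LineCoc.mod C) ((P i).W ⊓ (P j).W)) (LineCoc.res_gen_eq C i j)
      rw [LFFrame.unitSec_smul, LFFrame.unitSec_res, LFFrame.unitSec_res] at h3
      have h4 := congrArg (res _ hV) h3
      rw [res_res, res_smul, res_res] at h4
      rw [h2]
      exact h4)
  exact ⟨(Scheme.Modules.restrictFunctorIsoPullback U.ι).app _ ≪≫ e.symm⟩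

end Groth.Agent.S0234
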