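import Groth.Statements.S2115
import Groth.Agent.Props.QApproxMain
-- import your own Groth.Agent.* helpers here

set_option autoImplicit false
universe u
open CategoryTheory AlgebraicGeometry
open Mor

namespace Groth.Agent.S2115
set_option backward.isDefEq.respectTransparency.types false
open Groth.Agent.Props

lemma isFP_of_iso {Z : Scheme.{u}} {M N : Z.Modules} [M.IsQuasicoherent] [N.IsQuasicoherent]
    (e : M ≅ N) (h : CohB1.IsFP M) : CohB1.IsFP N := by
  refine (QFP.isFP_iff N).mpr fun V hV => ?_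
  have := (QFP.isFP_iff M).mp h V hV
  let l : Γ(M, V) →ₗ[Γ(Z, V)] Γ(N, V) :=
    { toFun := e.hom.app V
      map_add' := map_add _
      map_smul' := fun r x => Scheme.Modules.Hom.app_smul e.hom r x }
  exact Module.FinitePresentation.of_equiv (LinearEquiv.ofBijective l
    (ConcreteCategory.bijective_of_isIso (e.hom.app V)))

/-- Let `X` be quasi-compact and quasi-separated, `F` a quasi-coherent `O_X`-module, `U ⊆ X` a
quasi-compact open and `G` a finitely presented `O_U`-module with a map `φ : G → F|_U`. Then there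
are a finitely presented `O_X`-module `G'` with a map `φ' : G' → F` and an isomorphism `G'|_U ≅ G`
identifying `φ'|_U` with `φ`. -/
theorem result (X : Scheme.{u}) [CompactSpace X] [QuasiSeparatedSpace X]
    (F : X.Modules) (hF : Coh.IsQCoh F) (U : X.Opens) (hU : IsCompact (U : Set X)) (G : (U : Scheme.{u}).Modules)
    (hG : CohB1.IsFP G) (φ : G ⟶ F.restrict U.ι) :
    ∃ (G' : X.Modules) (φ' : G' ⟶ F) (e : G'.restrict U.ι ≅ G), CohB1.IsFP G' ∧
      e.hom ≫ φ = (Scheme.Modules.restrictFunctor U.ι).map φ' := by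
  haveI : F.IsQuasicoherent := hF
  haveI : G.IsQuasicoherent := by
    obtain ⟨σ, -⟩ := hG.exists_quasicoherentData
    exact σ.isQuasicoherent
  haveI : QuasiCompact U.ι := by
    rw [quasiCompact_iff_forall_isAffineOpen]
    intro V hV
    rw [U.ι.isOpenEmbedding.isCompact_iff]
    have h := congrArg (fun W : X.Opens => (W : Set X)) (U.ι.image_preimage_eq_opensRange_inf V)
    simp only [Scheme.Opens.opensRange_ι] at h
    show IsCompact ((U.ι ''ᵁ (U.ι ⁻¹ᵁ V) : X.Opens) : Set X)
    rw [h]
    exact hU.inter_of_isOpen hV.isCompact U.isOpen V.isOpen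
  obtain ⟨H, ψ, e, hH, he⟩ := SubExt.exists_extension_with_map U F G φ
  haveI := hH
  haveI : (H.restrict U.ι).IsQuasicoherent :=
    Scheme.Modules.isQuasicoherent_restrictFunctor U.ι H
  obtain ⟨G', θ, hG', hfp, hiso⟩ := QApproxMain.exists_fp_isoOn H hU
    (QApproxMain.fpOn_of_restrict (isFP_of_iso e.symm hG))
  haveI : IsIso ((Scheme.Modules.restrictFunctor U.ι).map θ) :=
    Scheme.Modules.Hom.isIso_iff_isIso_app.mpr fun O => (ConcreteCategory.isIso_iff_bijective _).mpr
      (hiso (U.ι ''ᵁ O) ((U.ι.image_le_opensRange O).trans U.opensRange_ι.le))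
  refine ⟨G', θ ≫ ψ, asIso ((Scheme.Modules.restrictFunctor U.ι).map θ) ≪≫ e,
    QApproxMain.isFP_of_fpOn hfp, ?_⟩
  rw [Functor.map_comp, ← he]
  exact Category.assoc _ _ _

end Groth.Agent.S2115
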