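import Groth.Statements.S6292
import Mathlib
-- import your own Groth.Agent.* helpers here

set_option autoImplicit false
universe u
open CAlg

namespace Groth.Agent.S6292

/-- Let R be a ring and m ⊆ R a finitely generated maximal ideal (for instance R Noetherian). If M is a
finite R-module with mⁿM = 0 for some n, then M has finite length. -/
theorem result {R : Type u} [CommRing R] (m : Ideal R) [m.IsMaximal] (hm : m.FG) (M : Type u) [AddCommGroup M] [Module R M] [Module.Finite R M] (n : ℕ) (hn : m ^ n • (⊤ : Submodule R M) = ⊥) : IsFiniteLength R M := by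
  have base : ∀ (N : Type u) [AddCommGroup N] [Module R N] [Module.Finite R N], Module.IsTorsionBySet R N (m : Set R) → IsFiniteLength R N := by
    intro N _ _ _ h
    letI : Field (R ⧸ m) := Ideal.Quotient.field m
    letI := h.module
    haveI : IsScalarTower R (R ⧸ m) N := h.isScalarTower
    haveI : Module.Finite (R ⧸ m) N := Module.Finite.of_restrictScalars_finite R _ _
    rw [isFiniteLength_iff_isNoetherian_isArtinian]
    refine ⟨?_, isArtinian_of_surjective_algebraMap (R := R ⧸ m) Ideal.Quotient.mk_surjective⟩
    rw [isNoetherian_iff']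
    refine OrderEmbedding.wellFoundedGT (β := Submodule (R ⧸ m) N) ⟨⟨fun P => { toAddSubmonoid := P.toAddSubmonoid, smul_mem' := ?_ }, ?_⟩, ?_⟩
    · intro c x hx
      obtain ⟨r, rfl⟩ := Ideal.Quotient.mk_surjective c
      exact P.smul_mem r hx
    · intro P Q hPQ
      rwa [Submodule.ext_iff] at hPQ ⊢
    · intro P Q
      rfl
  induction n generalizing M with
  | zero =>
    rw [pow_zero, Ideal.one_eq_top, Submodule.top_smul] at hn
    have : Subsingleton M := (Submodule.subsingleton_iff R).mp (subsingleton_iff_bot_eq_top.mp hn.symm)
    exact .of_subsingleton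
  | succ n ih =>
    let N : Submodule R M := m • ⊤
    haveI : Module.Finite R N := Module.Finite.iff_fg.mpr (Submodule.FG.smul hm Module.Finite.fg_top)
    have h1 : IsFiniteLength R N := by
      refine ih N ?_
      apply Submodule.map_injective_of_injective N.injective_subtype
      rw [Submodule.map_smul'', Submodule.map_top, Submodule.range_subtype, Submodule.map_bot, ← Submodule.mul_smul, ← pow_succ, hn]
    have h2 : IsFiniteLength R (M ⧸ N) := base _ (fun x r => by
      obtain ⟨y, rfl⟩ := N.mkQ_surjective x
      rw [← map_smul, Submodule.mkQ_apply, Submodule.Quotient.mk_eq_zero]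
      exact Submodule.smul_mem_smul r.2 Submodule.mem_top)
    rw [isFiniteLength_iff_isNoetherian_isArtinian] at h1 h2 ⊢
    exact ⟨(isNoetherian_iff_submodule_quotient N).mpr ⟨h1.1, h2.1⟩, (isArtinian_iff_submodule_quotient N).mpr ⟨h1.2, h2.2⟩⟩

end Groth.Agent.S6292
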