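import Groth.Statements.S2324
import Groth.Agent.Props.AmpleQA

set_option autoImplicit false
universe u
open CategoryTheory CategoryTheory.Limits AlgebraicGeometry
open EGA2

namespace Groth.Agent.S2324

open Groth.Agent.Props.GenProd in
/-- Some locus `X_s` contains a given finite set. -/
theorem exists_locus_superset {X : Scheme.{u}} (L : X.Modules) (hL : CohB1.IsAmple L) (E : Finset X) :
    ∃ (k : ℕ) (_ : 0 < k) (s : Coh.structureModule X ⟶ CohB1.tensorPow L k),
      (E : Set X) ⊆ CohB1.genLocus _ s := by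
  classical
  induction hn : E.card using Nat.strong_induction_on generalizing E with
  | _ n ih =>
    rcases E.eq_empty_or_nonempty with rfl | hne
    · exact ⟨1, Nat.one_pos, 0, by simp⟩
    let := specializationOrder X
    obtain ⟨z, hz, hzmax⟩ := E.exists_maximal hne
    obtain ⟨k, hk, s, hs⟩ := ih (E.erase z).card (hn ▸ Finset.card_erase_lt_of_mem hz) _ rfl
    by_cases hzs : z ∈ CohB1.genLocus _ s
    · exact ⟨k, hk, s, fun y hy => if h : y = z then h ▸ hzs else hs (by simp [h, Finset.mem_coe.mp hy])⟩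
    let O : X.Opens := ⟨(⋃ y ∈ E.erase z, closure {y})ᶜ,
      ((E.erase z).finite_toSet.isClosed_biUnion fun y _ => isClosed_closure).isOpen_compl⟩
    have hzO : z ∈ O := by
      intro h
      obtain ⟨y, hy, hzy⟩ := Set.mem_iUnion₂.mp h
      have hyz : y ⤳ z := specializes_iff_mem_closure.mpr hzy
      exact Finset.ne_of_mem_erase hy
        (Specializes.antisymm hyz (hzmax (Finset.mem_of_mem_erase hy) hyz)).eq
    obtain ⟨m, t, hzt, htO, -⟩ := Groth.Agent.Props.AmpleBase.exists_affine_genLocus_le hL hzO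
    obtain ⟨S, hS⟩ := exists_pow hL.1 s (m + 1) (k * (m + 1)) rfl
    obtain ⟨T, hT⟩ := exists_pow hL.1 t k (k * (m + 1)) (Nat.mul_comm _ _)
    have eS := genLocus_pow hL.1 s (Nat.succ_pos m) S hS
    have eT := genLocus_pow hL.1 t hk T hT
    refine ⟨k * (m + 1), Nat.mul_pos hk (Nat.succ_pos m), S + T, fun y hy => ?_⟩
    by_cases h : y = z
    · subst h
      exact Groth.Agent.Props.AmpleQA.mem_genLocus_add hL.1 S T (eS ▸ hzs) (eT ▸ hzt)
    · have hyE : y ∈ E.erase z := Finset.mem_erase.mpr ⟨h, hy⟩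
      rw [add_comm S T]
      refine Groth.Agent.Props.AmpleQA.mem_genLocus_add hL.1 T S (fun hyT => ?_) (eS ▸ hs hyE)
      exact htO (eT ▸ hyT) (Set.mem_iUnion₂.mpr ⟨y, hyE, subset_closure rfl⟩)

/-- Let X be a quasi-compact separated scheme, L an ample invertible O_X-module, Z a finite set of
points of X and U an open subset containing Z. Then for some n > 0 and some global section s of
L^{⊗n}, the open X_s where s generates is affine, contains Z and is contained in U. -/
theorem result (X : Scheme.{u}) [CompactSpace X] [X.IsSeparated] (L : X.Modules) (hL : CohB1.IsAmple L)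
    (Z : Set X) (hZ : Z.Finite) (U : X.Opens) (hZU : Z ⊆ U) :
    ∃ (n : ℕ) (s : Coh.structureModule X ⟶ CohB1.tensorPow L (n + 1)),
      Z ⊆ CohB1.genLocus _ s ∧ (CohB1.genLocus _ s : Set X) ⊆ U ∧ IsAffineOpen (CohB1.genLocus _ s) := by
  obtain ⟨k, hk, s, hs⟩ := exists_locus_superset L hL hZ.toFinset
  rw [hZ.coe_toFinset] at hs
  let W := CohB1.genLocus _ s
  have : W.toScheme.IsQuasiAffine := Groth.Agent.Props.AmpleBase.isQuasiAffine_genLocus hL hk s
  obtain ⟨a, haff, hEa, haU⟩ := Groth.Agent.Props.AmpleBase.exists_affine_basicOpen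
    (W := W.ι ⁻¹ᵁ U) (E := W.ι ⁻¹' Z) (hZ.preimage W.ι.isOpenEmbedding.injective.injOn)
    fun y hy => hZU hy
  have he : W.ι ''ᵁ W.toScheme.basicOpen a = X.basicOpen (W.topIso.hom a) := by
    rw [← W.ι_image_basicOpen_topIso_inv (W.topIso.hom a), ← CommRingCat.comp_apply, Iso.hom_inv_id]
    rfl
  obtain ⟨n, t, ht⟩ := Groth.Agent.Props.GenExt.exists_basicOpen hL.1 hk s (W.topIso.hom a)
  rw [← he] at ht
  refine ⟨n, t, ?_, ?_, ?_⟩
  · rw [ht]
    exact fun x hx => ⟨⟨x, hs hx⟩, hEa hx, rfl⟩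
  · rw [ht]
    rintro _ ⟨y, hy, rfl⟩
    exact haU hy
  · rw [ht]
    exact haff.image_of_isOpenImmersion _

end Groth.Agent.S2324
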