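import Groth.Statements.S9716
import Mathlib.AlgebraicGeometry.Morphisms.Finite
import Mathlib.AlgebraicGeometry.Morphisms.FinitePresentation
import Mathlib.AlgebraicGeometry.Morphisms.Flat
import Mathlib.RingTheory.Finiteness.ModuleFinitePresentation
import Groth.Agent.Props.QProj
import Groth.Agent.QCoh.Qcqs
import Groth.Agent.AssSch.Structure
import Mathlib.RingTheory.Flat.EquationalCriterion
-- import your own Groth.Agent.* helpers here

set_option autoImplicit false
universe u
open CategoryTheory AlgebraicGeometry
open Mor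

namespace Groth.Agent.S9716
set_option backward.isDefEq.respectTransparency.types false
open Groth.Agent.Props Opposite

variable {X S : Scheme.{u}} (f : X ⟶ S)

/-- A section of `f_* O_X`, as a function on the preimage. -/
def secEquiv (V : S.Opens) :
    letI := (f.app V).hom.toAlgebra
    Γ((Scheme.Modules.pushforward f).obj (Coh.structureModule X), V) ≃ₗ[Γ(S, V)] Γ(X, f ⁻¹ᵁ V) :=
  letI := (f.app V).hom.toAlgebra
  { toFun := fun x => (x : Γ(X, f ⁻¹ᵁ V))
    invFun := fun x => (x : Γ(X, f ⁻¹ᵁ V))
    map_add' := fun _ _ => rfl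
    map_smul' := fun _ _ => rfl
    left_inv := fun _ => rfl
    right_inv := fun _ => rfl }

lemma of_forall_app {P : MorphismProperty Scheme.{u}} {Q : ∀ {R S : Type u} [CommRing R] [CommRing S], (R →+* S) → Prop}
    [HasRingHomProperty P Q] [IsAffineHom f]
    (h : ∀ V : S.Opens, IsAffineOpen V → Q (f.app V).hom) : P f := by
  rw [IsZariskiLocalAtTarget.iff_of_iSup_eq_top (P := P) _ (iSup_affineOpens_eq_top S)]
  intro V
  have : IsAffine V.1 := V.2
  have : IsAffine (f ⁻¹ᵁ V.1) := V.2.preimage f
  rw [HasRingHomProperty.iff_of_isAffine (P := P),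
    Scheme.Hom.appTop, morphismRestrict_app]
  refine ((HasRingHomProperty.isLocal_ringHomProperty P).respectsIso.cancel_right_isIso _ _).mpr ?_
  exact h _ (by rw [Scheme.Opens.ι_image_top]; exact V.2)

/-- (1) ⇔ (2): a morphism f : X ⟶ S is affine with direct image f_*O_X a finite locally free O_S-module
(locally on S isomorphic to a finite direct sum of copies of the structure sheaf, of possibly
varying rank) if and only if f is finite, flat and locally of finite presentation. -/
theorem result {X S : Scheme.{u}} (f : X ⟶ S) :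
    (IsAffineHom f ∧ FlatMod.IsFinLocFree ((Scheme.Modules.pushforward f).obj (Coh.structureModule X))) ↔
      Mor2.IsFinLocFree f := by
  haveI hq : (Coh.structureModule X).IsQuasicoherent := inferInstance
  constructor
  · rintro ⟨ha, hM⟩
    haveI := ha
    let M := (Scheme.Modules.pushforward f).obj (Coh.structureModule X)
    have key : ∀ V : S.Opens, IsAffineOpen V →
        (f.app V).hom.Finite ∧ (f.app V).hom.Flat ∧ (f.app V).hom.FinitePresentation := by
      intro V hV
      algebraize [(f.app V).hom]
      haveI := QProj.finitePresentation_sections M hM hV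
      haveI := QProj.projective_sections M hM hV
      haveI : Module.FinitePresentation Γ(S, V) Γ(X, f ⁻¹ᵁ V) :=
        Module.FinitePresentation.of_equiv (secEquiv f V)
      haveI : Module.Projective Γ(S, V) Γ(X, f ⁻¹ᵁ V) := Module.Projective.of_equiv' (secEquiv f V)
      exact ⟨(inferInstance : Module.Finite Γ(S, V) Γ(X, f ⁻¹ᵁ V)),
        (inferInstance : Module.Flat Γ(S, V) Γ(X, f ⁻¹ᵁ V)),
        Algebra.FinitePresentation.of_finitePresentation Γ(S, V) Γ(X, f ⁻¹ᵁ V)⟩
    exact ⟨{ finite_app := fun V hV => (key V hV).1 }, of_forall_app f fun V hV => (key V hV).2.1,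
      of_forall_app f fun V hV => (key V hV).2.2⟩
  · rintro ⟨hfin, hflat, hlfp⟩
    haveI := hfin
    haveI := hflat
    haveI := hlfp
    let M := (Scheme.Modules.pushforward f).obj (Coh.structureModule X)
    have key : ∀ V : S.Opens, IsAffineOpen V →
        Module.FinitePresentation Γ(S, V) Γ(M, V) ∧ Module.Projective Γ(S, V) Γ(M, V) := by
      intro V hV
      algebraize [(f.app V).hom]
      haveI : Module.Finite Γ(S, V) Γ(X, f ⁻¹ᵁ V) := IsFinite.finite_app f V hV
      haveI : Module.Flat Γ(S, V) Γ(X, f ⁻¹ᵁ V) := by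
        have := HasRingHomProperty.appLE (@Flat) f hflat ⟨V, hV⟩ ⟨_, hV.preimage f⟩ le_rfl
        rwa [Scheme.Hom.appLE_eq_app] at this
      haveI : Algebra.FinitePresentation Γ(S, V) Γ(X, f ⁻¹ᵁ V) := by
        have := HasRingHomProperty.appLE (@LocallyOfFinitePresentation) f hlfp ⟨V, hV⟩
          ⟨_, hV.preimage f⟩ le_rfl
        rwa [Scheme.Hom.appLE_eq_app] at this
      haveI : Module.FinitePresentation Γ(S, V) Γ(X, f ⁻¹ᵁ V) :=
        .of_finite_of_finitePresentation _ _
      haveI : Module.Projective Γ(S, V) Γ(X, f ⁻¹ᵁ V) := Module.Flat.projective_of_finitePresentation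
      exact ⟨Module.FinitePresentation.of_equiv (secEquiv f V).symm,
        Module.Projective.of_equiv' (secEquiv f V).symm⟩
    refine ⟨inferInstance, QProj.isFinLocFree_of M (fun x => ?_) fun x => ?_⟩
    · obtain ⟨V, hV, hxV, -⟩ := exists_isAffineOpen_mem_and_subset (U := ⊤) (Set.mem_univ x)
      exact ⟨V, hV, hxV, (key V hV).1⟩
    · obtain ⟨V, hV, hxV, -⟩ := exists_isAffineOpen_mem_and_subset (U := ⊤) (Set.mem_univ x)
      haveI := (key V hV).1
      haveI := (key V hV).2
      exact QProj.free_stalk_of_flat M hV hxV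

end Groth.Agent.S9716
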