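import Groth.Statements.S14405
import Mathlib.Tactic.Linarith
import Mathlib.Tactic.Ring
import Mathlib.Tactic.LinearCombination
import Mathlib.Tactic.Positivity
import Mathlib.Tactic.FieldSimp
import Mathlib.Algebra.Polynomial.RingDivision
import Mathlib.Algebra.Polynomial.Degree.Lemmas
-- import your own Groth.Agent.* helpers here

set_option autoImplicit false
open Polynomial
open HilbNum

namespace Groth.Agent.S14405

theorem exists_antidiff : ∀ (d : ℕ) (Q : ℚ[X]), Q.natDegree ≤ d →
    ∃ P : ℚ[X], P.natDegree ≤ d + 1 ∧ P.coeff (d + 1) = Q.coeff d / (d + 1) ∧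
      P - P.comp (X - C 1) = Q := by
  intro d
  induction d with
  | zero =>
    intro Q hQ
    refine ⟨C (Q.coeff 0) * X, ?_, by simp, ?_⟩
    · exact natDegree_C_mul_le _ _ |>.trans natDegree_X_le
    · simp only [mul_comp, C_comp, X_comp]
      rw [← mul_sub, sub_sub_cancel, ← map_mul, mul_one]
      exact (eq_C_of_natDegree_le_zero hQ).symm
  | succ d ih =>
    intro Q hQ
    let a := Q.coeff (d + 1) / ((d : ℚ) + 2)
    let D := Q - C a * (X ^ (d + 2) - (X - C 1) ^ (d + 2))
    have hD : D.natDegree ≤ d := by
      rw [natDegree_le_iff_coeff_eq_zero]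
      intro i hi
      simp only [D, coeff_sub, coeff_C_mul, coeff_X_pow]
      rw [sub_eq_add_neg X (C 1), ← map_neg C, coeff_X_add_C_pow]
      rcases (by omega : i = d + 1 ∨ i = d + 2 ∨ d + 2 < i) with rfl | rfl | hgt
      · rw [if_neg (by omega), show d + 2 - (d + 1) = 1 by omega,
          show (d + 2).choose (d + 1) = d + 2 from Nat.choose_succ_self_right (d + 1)]
        simp only [a]
        push_cast
        field_simp
        ring
      · rw [coeff_eq_zero_of_natDegree_lt (hQ.trans_lt (Nat.lt_succ_self _))]
        simp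
      · rw [coeff_eq_zero_of_natDegree_lt (hQ.trans_lt (by omega)), if_neg (by omega),
          Nat.choose_eq_zero_of_lt hgt]
        simp
    obtain ⟨P, hP1, -, hP3⟩ := ih D hD
    refine ⟨C a * X ^ (d + 2) + P, ?_, ?_, ?_⟩
    · refine (natDegree_add_le _ _).trans (max_le ?_ (by omega))
      exact (natDegree_C_mul_le _ _).trans (by simp)
    · rw [coeff_add, coeff_C_mul, coeff_X_pow, if_pos (by omega),
        coeff_eq_zero_of_natDegree_lt (hP1.trans_lt (by omega))]
      simp only [a]
      push_cast
      ring
    · rw [add_comp, mul_comp, C_comp, X_pow_comp, add_sub_add_comm, ← mul_sub, hP3]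
      simp only [D]
      ring

/-- Let φ be a function from the integers to the rationals and Q a nonzero polynomial with rational
coefficients of degree d such that φ(m) - φ(m-1) = Q(m) for every integer m. Then there is a
polynomial P with rational coefficients, of degree d + 1, such that φ(m) = P(m) for every integer m.
(The explicit form of P in the binomial basis is not part of this statement.) -/
theorem result (φ : ℤ → ℚ) (d : ℕ) (Q : ℚ[X]) (hQ : Q ≠ 0)
    (hd : Q.natDegree = d) (h : ∀ m : ℤ, φ m - φ (m - 1) = Q.eval (m : ℚ)) :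
    ∃ P : ℚ[X], P.natDegree = d + 1 ∧ ∀ m : ℤ, φ m = P.eval (m : ℚ) := by
  obtain ⟨P, hP1, hP2, hP3⟩ := exists_antidiff d Q hd.le
  have hval : ∀ m : ℤ, φ m = (P + C (φ 0 - P.eval 0)).eval (m : ℚ) := by
    intro m
    have he : ∀ z : ℤ, P.eval (z : ℚ) - P.eval ((z : ℚ) - 1) = Q.eval (z : ℚ) := fun z => by
      rw [← hP3]; simp
    induction m using Int.induction_on with
    | zero => simp
    | succ i hi =>
      have h1 := h ((i : ℤ) + 1)
      have h2 := he ((i : ℤ) + 1)
      rw [add_sub_cancel_right] at h1
      push_cast at h1 h2 hi ⊢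
      simp only [add_sub_cancel_right, eval_add, eval_C] at h2 hi ⊢
      linarith
    | pred i hi =>
      have h1 := h (-(i : ℤ))
      have h2 := he (-(i : ℤ))
      push_cast at h1 h2 hi ⊢
      simp only [eval_add, eval_C] at hi ⊢
      linarith
  refine ⟨P + C (φ 0 - P.eval 0), ?_, hval⟩
  rw [natDegree_add_C]
  refine le_antisymm hP1 (le_natDegree_of_ne_zero ?_)
  rw [hP2]
  exact div_ne_zero (hd ▸ leadingCoeff_ne_zero.2 hQ) (by positivity)

end Groth.Agent.S14405
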