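import Groth.Statements.S4384
import Groth.Agent.Props.AmpleTensor

set_option autoImplicit false
universe u
open CategoryTheory CategoryTheory.Limits AlgebraicGeometry
open EGA2

namespace Groth.Agent.S4384

/-- Let f : X → Y be a quasi-compact morphism and L, L' two O_X-modules ample relative to f. Then L ⊗ L'
is ample relative to f. -/
theorem result {X Y : Scheme.{u}} (f : X ⟶ Y) [QuasiCompact f] (L L' : X.Modules)
    (hL : RelAmple.IsRelAmple f L) (hL' : RelAmple.IsRelAmple f L') :
    RelAmple.IsRelAmple f (CohB1.tensorMod L L') := by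
  obtain ⟨-, hiL, h⟩ := AmpleLib.isRelAmple_iff.mp hL
  obtain ⟨-, hiL', h'⟩ := AmpleLib.isRelAmple_iff.mp hL'
  exact AmpleLib.isRelAmple_iff.mpr ⟨inferInstance, AmpleLib.isInvertible_tensorMod hiL hiL', fun V =>
    Props.AmpleTensor.ampleOn_of_frameMap2 hiL hiL' Nat.one_pos Nat.one_pos
      (Props.AmpleTensor.FrameMap2.tensor L L') (h V) (h' V)⟩

end Groth.Agent.S4384
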