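import Groth.Statements.S1842
import Groth.Agent.GrpScheme.AVPow
import Groth.Agent.GrpScheme.AVAmple
import Groth.Agent.GrpScheme.AVDegree
import Groth.Agent.GrpScheme.HomFlat
import Groth.Agent.AmpleLib.Locus
import Groth.Agent.S4381
import Groth.Agent.S4384

set_option autoImplicit false
universe u v
open CategoryTheory MonoidalCategory CartesianMonoidalCategory MonObj GrpObj AlgebraicGeometry
open GrpSch

namespace Groth.Agent.S1842

open scoped Groth.Agent.PicLaw
open GrpScheme PicLaw.Mumford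

section

variable {K : Type u} [Field K] (A : Over (Spec (CommRingCat.of K))) [GrpObj A] [IsProper A.hom]
  [GeometricallyIntegral A.hom]

lemma inv_inv_left : (ι[A] : A ⟶ A) ≫ ι[A] = 𝟙 A := by simp

lemma isIso_inv_left : IsIso (ι[A] : A ⟶ A).left :=
  ⟨(ι[A] : A ⟶ A).left, by rw [← Over.comp_left, inv_inv_left]; rfl, by rw [← Over.comp_left, inv_inv_left]; rfl⟩

/-- An ample class fixed by inversion. -/
lemma exists_isAmple_symm : ∃ (M : A.left.Modules) (h : CohB1.IsAmple M),
    op (ι[A] : A ⟶ A) (PicGrp.cls M h.1) = PicGrp.cls M h.1 := by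
  obtain ⟨M₀, h₀⟩ := AVAmple.exists_isAmple A
  have := isIso_inv_left A
  have : CompactSpace A.left := QuasiCompact.compactSpace_of_compactSpace A.hom
  let M₁ := (Scheme.Modules.pullback (ι[A] : A ⟶ A).left).obj M₀
  have h₁ : CohB1.IsAmple M₁ := AmpleLib.isAmple_pullback_of_isInducing _
    (ι[A] : A ⟶ A).left.homeomorph.isInducing h₀
  have h : CohB1.IsAmple (CohB1.tensorMod M₀ M₁) :=
    (S4381.result A.hom _).mp (S4384.result A.hom _ _ ((S4381.result A.hom _).mpr h₀)
      ((S4381.result A.hom _).mpr h₁))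
  refine ⟨_, h, ?_⟩
  have e : PicGrp.cls _ h.1 = PicGrp.cls M₀ h₀.1 * op (ι[A] : A ⟶ A) (PicGrp.cls M₀ h₀.1) := by
    refine (PicLaw.cls_tensor h₀.1 h₁.1).trans ?_
    rw [show PicGrp.cls M₁ h₁.1 = _ from PicLaw.cls_pullback (ι[A] : A ⟶ A).left h₀.1]
  rw [e, map_mul, ← op_comp, inv_inv_left, show op (𝟙 A) (PicGrp.cls M₀ h₀.1) = _ from PicLaw.pl_id _,
    mul_comm]

/-- The statement for a positive exponent. -/
lemma pow_case (g : ℕ) (hg : topologicalKrullDim A.left = g) {n : ℕ} (hn : 1 ≤ n) :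
    IsFinite (𝟙 A ^ n).left ∧ Flat (𝟙 A ^ n).left ∧
      ∀ a : A.left, Scheme.Hom.finrank (𝟙 A ^ n).left a = n ^ (2 * g) := by
  obtain ⟨hfin, hsurj⟩ := AVPow.isFinite_surjective_pow A hn
  have := AVComm.isCommMonObj A
  let f : A ⟶ A := 𝟙 A ^ n
  have : IsMonHom f :=
    { one_hom := by rw [show f = 𝟙 A ^ n from rfl, MonObj.comp_pow, Category.comp_id, MonObj.one_eq_one, one_pow]
      mul_hom := by
        rw [show f = 𝟙 A ^ n from rfl, MonObj.comp_pow, Category.comp_id, MonObj.mul_eq_mul, MonObj.comp_mul,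
          tensorHom_fst, tensorHom_snd, MonObj.comp_pow, MonObj.comp_pow, Category.comp_id, Category.comp_id,
          mul_pow] }
  have : IsFinite f.left := hfin
  have : Surjective f.left := hsurj
  have : IsIntegral A.left := GeometricallyIntegral.isIntegral_of_subsingleton A.hom
  have : Flat f.left := HomFlat.flat_of_surjective f
  have : IsLocallyNoetherian A.left := LocallyOfFiniteType.isLocallyNoetherian A.hom
  have : LocallyOfFinitePresentation f.left := inferInstance
  refine ⟨hfin, ‹Flat f.left›, ?_⟩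
  let _ : A.left.Over (Spec (CommRingCat.of K)) := ⟨A.hom⟩
  have : IsProper (A.left ↘ Spec (CommRingCat.of K)) := ‹IsProper A.hom›
  let r := Scheme.Hom.finrank f.left (genericPoint A.left)
  have hr : ∀ a, Scheme.Hom.finrank f.left a = r := fun a =>
    (Scheme.Hom.isLocallyConstant_finrank f.left).apply_eq_of_isPreconnected
      isPreconnected_univ (Set.mem_univ _) (Set.mem_univ _)
  obtain ⟨M, hM, hsym⟩ := exists_isAmple_symm A
  have hN : PicLaw.pl f.left (PicGrp.cls M hM.1) = PicGrp.cls M hM.1 ^ (n * n) := by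
    show op f (PicGrp.cls M hM.1) = _
    rw [show f = (𝟙 A) ^ n from rfl, PowPullback.op_pow (Cube.cubeHyp A),
      show ((𝟙 A)⁻¹ : A ⟶ A) = ι[A] from GrpObj.inv_eq_inv.symm, hsym,
      show op (𝟙 A) (PicGrp.cls M hM.1) = _ from PicLaw.pl_id _, ← pow_add]
    congr 1
    obtain ⟨m, rfl⟩ := Nat.exists_eq_add_of_le hn
    rw [Nat.add_sub_cancel_left, show (1 + m) * (1 + m + 1) = (1 + m) * m + 2 * (1 + m) by ring,
      Nat.add_mul_div_left _ _ (by norm_num : 0 < 2)]
    obtain ⟨c, hc⟩ : 2 ∣ (1 + m) * m := by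
      rw [Nat.mul_comm, Nat.add_comm]; exact (Nat.even_mul_succ_self m).two_dvd
    rw [hc, Nat.mul_div_cancel_left _ (by norm_num : 0 < 2)]
    nlinarith
  have hgr : r = (n * n) ^ g := AVDegree.rank_eq_pow K hg f.left (Over.w f) hr hM hN
  intro a
  rw [show (𝟙 A ^ n).left = f.left from rfl, hr a, hgr, ← pow_two, ← pow_mul]

end

/-- Let A be an abelian variety of dimension g over a field (a proper, geometrically integral group
scheme) and d a nonzero integer. Multiplication by d (the d-th power of the identity in the group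
Hom(A, A)) is finite and flat, and its rank function is constant with value d^(2g). (The source
writes no hypothesis on d; d = 0 is excluded here since the constant map is not finite in positive
dimension.) -/
theorem result (K : Type u) [Field K] (A : Over (Spec (CommRingCat.of K))) [GrpObj A] [IsProper A.hom] [GeometricallyIntegral A.hom] (g : ℕ) (hg : topologicalKrullDim A.left = g) (d : ℤ) (hd : d ≠ 0) : IsFinite (𝟙 A ^ d).left ∧ Flat (𝟙 A ^ d).left ∧ ∀ a : A.left, Scheme.Hom.finrank (𝟙 A ^ d).left a = d.natAbs ^ (2 * g) := by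
  obtain ⟨hfin, hflat, hrank⟩ := pow_case A g hg (n := d.natAbs) (Int.natAbs_pos.mpr hd)
  rcases Int.natAbs_eq d with h | h
  · rw [show (𝟙 A ^ d) = 𝟙 A ^ d.natAbs by conv_lhs => rw [h, zpow_natCast]]
    exact ⟨hfin, hflat, hrank⟩
  · have e : (𝟙 A ^ d).left = (𝟙 A ^ d.natAbs).left ≫ (ι[A] : A ⟶ A).left := by
      rw [← Over.comp_left, ← Hom.inv_def]
      congr 1
      conv_lhs => rw [h, zpow_neg, zpow_natCast]
    rw [e]
    have := isIso_inv_left A
    refine ⟨inferInstance, inferInstance, fun a => ?_⟩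
    obtain ⟨b, rfl⟩ := (ι[A] : A ⟶ A).left.homeomorph.surjective a
    exact (Scheme.Hom.finrank_of_isPullback (𝟙 A.left) (𝟙 A ^ d.natAbs).left
      ((𝟙 A ^ d.natAbs).left ≫ (ι[A] : A ⟶ A).left) (ι[A] : A ⟶ A).left
      (IsPullback.of_horiz_isIso ⟨by rw [Category.id_comp]⟩) b).symm.trans (hrank b)

end Groth.Agent.S1842
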