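import Groth.Statements.S1843
import Groth.Agent.S1842
import Groth.Agent.GrpScheme.FrobKernel
import Groth.Agent.GrpScheme.AffineHom
import Groth.Agent.GrpScheme.AVComm
import Groth.Agent.AbVarLib.Basics
import Mathlib.FieldTheory.IsAlgClosed.AlgebraicClosure
import Mathlib.RingTheory.IntegralClosure.IntegralRestrict

set_option autoImplicit false
universe u v
open CategoryTheory MonoidalCategory CartesianMonoidalCategory MonObj GrpObj AlgebraicGeometry
open GrpSch

namespace Groth.Agent.S1843

open GrpScheme GrpScheme.Tangent GrpScheme.FrobKernel GrpScheme.TruncPoly Cartier Limits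

open scoped TensorProduct

section

variable {K : Type u} [Field K]

lemma TMap_injective {B C : Type u} [CommRing B] [Algebra K B] [CommRing C] [Algebra K C]
    {f f' : B →ₐ[K] C} (h : TMap f = TMap f') : f = f' := by
  have := Spec.map_injective (congrArg CommaMorphism.left h)
  exact AlgHom.ext fun a => congr($(this).hom a)

lemma exists_TMap {B C : Type u} [CommRing B] [Algebra K B] [CommRing C] [Algebra K C]
    (x : TSpec (K := K) C ⟶ TSpec (K := K) B) : ∃ f : B →ₐ[K] C, TMap f = x := by
  let φ : CommRingCat.of B ⟶ CommRingCat.of C := Spec.preimage x.left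
  have hφ : Spec.map φ = x.left := Spec.map_preimage x.left
  have h : CommRingCat.ofHom (algebraMap K B) ≫ φ = CommRingCat.ofHom (algebraMap K C) := by
    apply Spec.map_injective
    rw [Spec.map_comp, hφ]
    exact Over.w x
  refine ⟨{ φ.hom with commutes' := fun r => congr($(h).hom r) }, ?_⟩
  ext1
  exact hφ

lemma adjoin_range_eq_top {E : Type u} [Field E] {p g : ℕ} {S : Subalgebra E (Tr E g p)}
    (h : ∀ i, TruncPoly.mk (MvPolynomial.X i) ∈ S) : S = ⊤ := by
  refine top_le_iff.mp fun c hc => ?_
  obtain ⟨q, rfl⟩ := TruncPoly.mk_surjective c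
  clear hc
  induction q using MvPolynomial.induction_on with
  | C a => rw [← MvPolynomial.algebraMap_eq, AlgHom.commutes]; exact S.algebraMap_mem a
  | add a b ha hb => rw [map_add]; exact S.add_mem ha hb
  | mul_X a i ha => rw [map_mul]; exact S.mul_mem ha (h i)

variable (p g : ℕ) (E : Type u) [Field E] [Algebra K E]

/-- Extension of scalars of truncated polynomials. -/
noncomputable def bc : Tr K g p →ₐ[K] Tr E g p :=
  Ideal.Quotient.liftₐ _ (((TruncPoly.mk (E := E) (g := g) (p := p)).restrictScalars K).comp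
    (MvPolynomial.mapAlgHom (Algebra.ofId K E))) (by
    intro a ha
    refine RingHom.mem_ker.mp (Ideal.span_le.mpr ?_ ha)
    rintro _ ⟨j, rfl⟩
    refine RingHom.mem_ker.mpr ?_
    simp only [RingHom.coe_coe, map_pow]
    show TruncPoly.mk _ = 0
    rw [TruncPoly.mk]
    refine Ideal.Quotient.eq_zero_iff_mem.mpr (Ideal.subset_span ⟨j, ?_⟩)
    simp [MvPolynomial.mapAlgHom_apply])

lemma bc_X (i : Fin g) :
    bc (K := K) p g E (TruncPoly.mk (MvPolynomial.X i)) = TruncPoly.mk (MvPolynomial.X i) := by
  show TruncPoly.mk (MvPolynomial.mapAlgHom (Algebra.ofId K E) (MvPolynomial.X i)) = _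
  simp [MvPolynomial.mapAlgHom_apply]

end

set_option maxHeartbeats 800000 in
/-- Let A be an abelian variety of dimension g over a field of characteristic p > 0. The set of points
of A mapped to the identity point by multiplication by p has at most p^g elements. -/
theorem result (K : Type u) [Field K] (p : ℕ) [Fact p.Prime] [CharP K p] (A : Over (Spec (CommRingCat.of K))) [GrpObj A] [IsProper A.hom] [GeometricallyIntegral A.hom] (g : ℕ) (hg : topologicalKrullDim A.left = g) : Set.encard {a : A.left | (𝟙 A ^ p).left a = η[A].left (IsLocalRing.closedPoint K)} ≤ (p ^ g : ℕ) := by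
  classical
  have := AVComm.isCommMonObj A
  have := AbVarLib.Basics.smooth A
  have hp := (Fact.out : p.Prime)
  obtain ⟨hfin, hflat, hrank⟩ := S1842.result K A g hg (p : ℤ) (Int.natCast_ne_zero.mpr hp.ne_zero)
  rw [zpow_natCast, Int.natAbs_natCast] at *
  let f : A ⟶ A := 𝟙 A ^ p
  have : IsFinite f.left := hfin
  have : Flat f.left := hflat
  have : IsMonHom f :=
    { one_hom := by rw [show f = 𝟙 A ^ p from rfl, MonObj.comp_pow, Category.comp_id, MonObj.one_eq_one, one_pow]
      mul_hom := by
        rw [show f = 𝟙 A ^ p from rfl, MonObj.comp_pow, Category.comp_id, MonObj.mul_eq_mul, MonObj.comp_mul,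
          tensorHom_fst, tensorHom_snd, MonObj.comp_pow, MonObj.comp_pow, Category.comp_id, Category.comp_id,
          mul_pow] }
  obtain ⟨N, _, i, _, hker⟩ := AffineHom.exists_kernel f
  have hsq := GrpdLib.GrpOver.isPullback_left hker
  have : IsFinite N.hom := MorphismProperty.of_isPullback (P := @IsFinite) hsq ‹IsFinite f.left›
  have : IsAffine N.left := isAffine_of_isAffineHom N.hom
  let B := Γ(N.left, ⊤)
  let _ : Algebra K B := (Spec.preimage (N.left.isoSpec.inv ≫ N.hom)).hom.toAlgebra
  let e : TSpec (K := K) B ≅ N := Over.isoMk N.left.isoSpec.symm (by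
    show N.left.isoSpec.inv ≫ N.hom = Spec.map (Spec.preimage (N.left.isoSpec.inv ≫ N.hom))
    rw [Spec.map_preimage])
  obtain ⟨ι0, hι0⟩ : ∃ x : TSpec (K := K) B ⟶ A, x = e.hom ≫ i := ⟨_, rfl⟩
  have hw : ι0 ^ p = 1 := by
    rw [show ι0 ^ p = ι0 ≫ f by rw [MonObj.comp_pow, Category.comp_id]]
    rw [hι0, Category.assoc, hker.w, Hom.one_def, ← Category.assoc, toUnit_unique (e.hom ≫ toUnit N) (toUnit _)]
  have hlift : ∀ {C : Type u} [CommRing C] [Algebra K C] (x : TSpec (K := K) C ⟶ A), x ^ p = 1 →
      ∃ χ : B →ₐ[K] C, TMap χ ≫ ι0 = x := fun {C} _ _ x hx => by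
    obtain ⟨n, hn⟩ := GrpdLib.GrpOver.kernel_factor hker x (by rw [MonObj.comp_pow, Category.comp_id, hx])
    obtain ⟨χ, hχ⟩ := exists_TMap (n ≫ e.inv)
    exact ⟨χ, by rw [hχ]; simp [hι0, hn]⟩
  have hmono : Mono ι0 := by
    have := GrpdLib.GrpOver.kernel_mono hker
    rw [hι0]
    infer_instance
  have hinj : ∀ {C : Type u} [CommRing C] [Algebra K C] (χ χ' : B →ₐ[K] C),
      TMap χ ≫ ι0 = TMap χ' ≫ ι0 → χ = χ' := fun χ χ' h => TMap_injective ((cancel_mono ι0).mp h)
  -- finiteness and rank
  have hBfin : Module.Finite K B := by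
    have : IsFinite (N.left.isoSpec.inv ≫ N.hom) := inferInstance
    rw [← Spec.map_preimage (N.left.isoSpec.inv ≫ N.hom), IsFinite.SpecMap_iff] at this
    exact RingHom.finite_algebraMap.mp this
  have hBrank : Module.finrank K B = p ^ (2 * g) := by
    have h1 := Scheme.Hom.finrank_of_isPullback _ _ _ _ hsq (IsLocalRing.closedPoint K)
    rw [hrank] at h1
    have h2 : Scheme.Hom.finrank (N.left.isoSpec.inv ≫ N.hom) (IsLocalRing.closedPoint K) =
        Scheme.Hom.finrank N.hom (IsLocalRing.closedPoint K) := by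
      have : Flat N.hom := MorphismProperty.of_isPullback (P := @Flat) hsq ‹Flat f.left›
      rw [Scheme.Hom.finrank_comp_left_of_isIso]
    rw [← h1, show (toUnit N).left = N.hom from rfl, ← h2,
      show N.left.isoSpec.inv ≫ N.hom = Spec.map (CommRingCat.ofHom (algebraMap K B)) from
        (Spec.map_preimage _).symm]
    exact ((Scheme.Hom.finrank_SpecMap_algebraMap K B _).trans (by
      rw [Module.rankAtStalk_eq_finrank_of_free]; rfl)).symm
  -- the infinitesimal point
  obtain ⟨ψ, hψ⟩ := exists_surjective A p hg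
  have hunit : f.left (unitPt A) = unitPt A := by
    show (η[A] ≫ f).left (IsLocalRing.closedPoint K) = _
    rw [IsMonHom.one_hom]
  obtain ⟨χ₀, hχ₀⟩ := hlift (pt A ψ) (pt_pow_char_eq_one A p hunit ψ)
  have hχ₀surj : Function.Surjective χ₀ := by
    have : Mono (Spec.map (CommRingCat.ofHom χ₀.toRingHom)) := by
      have : IsClosedImmersion (Spec.map (CommRingCat.ofHom ψ.toRingHom)) :=
        IsClosedImmersion.spec_of_surjective _ hψ
      have h : Spec.map (CommRingCat.ofHom χ₀.toRingHom) ≫ ι0.left = (pt A ψ).left :=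
        congrArg CommaMorphism.left hχ₀
      have : Mono (Spec.map (CommRingCat.ofHom χ₀.toRingHom) ≫ ι0.left) := by
        rw [h]
        exact inferInstanceAs (Mono (Spec.map (CommRingCat.ofHom ψ.toRingHom) ≫ A.left.fromSpecStalk _))
      exact mono_of_mono _ ι0.left
    have : Module.Finite K (Tr K g p) := TruncPoly.finite hp.pos
    have : IsFinite (Spec.map (CommRingCat.ofHom χ₀.toRingHom)) :=
      (IsFinite.SpecMap_iff _).mpr (RingHom.Finite.of_comp_finite (f := algebraMap K B) (by
        rw [show (CommRingCat.ofHom χ₀.toRingHom).hom.comp (algebraMap K B) = algebraMap K (Tr K g p) from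
          χ₀.comp_algebraMap]
        exact RingHom.finite_algebraMap.mpr inferInstance))
    have : IsClosedImmersion (Spec.map (CommRingCat.ofHom χ₀.toRingHom)) :=
      (IsClosedImmersion.iff_isFinite_and_mono _).mpr ⟨inferInstance, inferInstance⟩
    obtain ⟨-, h⟩ := IsClosedImmersion.isAffine_surjective_of_isAffine (Spec.map (CommRingCat.ofHom χ₀.toRingHom))
    intro c
    obtain ⟨b, hb⟩ := h ((Scheme.ΓSpecIso (CommRingCat.of (Tr K g p))).inv c)
    refine ⟨(Scheme.ΓSpecIso (CommRingCat.of B)).hom b, ?_⟩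
    have hn := congr($(Scheme.ΓSpecIso_naturality (CommRingCat.ofHom χ₀.toRingHom)) b)
    refine hn.symm.trans ?_
    show (Scheme.ΓSpecIso _).hom ((Spec.map (CommRingCat.ofHom χ₀.toRingHom)).appTop b) = c
    rw [hb]
    exact congr($((Scheme.ΓSpecIso (CommRingCat.of (Tr K g p))).inv_hom_id) c)
  -- extension to an algebraic closure
  let E := AlgebraicClosure K
  have : CharP E p := charP_of_injective_algebraMap (algebraMap K E).injective p
  let C := Tr E g p
  let β : E →ₐ[K] C := IsScalarTower.toAlgHom K E C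
  let t : TSpec (K := K) C ⟶ A := TMap (bc p g E) ≫ pt A ψ
  have ht : t ^ p = 1 := by rw [← MonObj.comp_pow, pt_pow_char_eq_one A p hunit ψ, MonObj.comp_one]
  have haug : TMap ((aug0 (E := E) (g := g) (p := p)).restrictScalars K) ≫ t = 1 := by
    rw [← Category.assoc, TMap_comp, TMap_pt, ← pt_trivial]
    congr 1
    have h1 : ((aug0 (E := E) (g := g) (p := p)).restrictScalars K).comp (bc p g E) =
        (Algebra.ofId K E).comp aug0 := by
      refine Ideal.Quotient.algHom_ext K (MvPolynomial.algHom_ext fun j => ?_)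
      show aug0 (bc p g E (TruncPoly.mk (MvPolynomial.X j))) = algebraMap K E (aug0 (TruncPoly.mk (MvPolynomial.X j)))
      rw [bc_X]
      show MvPolynomial.aeval (fun _ => (0 : E)) (MvPolynomial.X j : MvPolynomial (Fin g) E) =
        algebraMap K E (MvPolynomial.aeval (fun _ => (0 : K)) (MvPolynomial.X j : MvPolynomial (Fin g) K))
      simp
    refine AlgHom.ext fun a => ?_
    refine (AlgHom.congr_fun h1 (ψ a)).trans ?_
    show algebraMap K E (aug0 (ψ a)) = algebraMap K E (aug A a)
    congr 1
    exact AlgHom.congr_fun (eq_aug A ((aug0).comp ψ)) a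
  have hα : ∀ α : B →ₐ[K] E, ∃ Φ : E ⊗[K] B →ₐ[E] C, Function.Surjective Φ ∧
      ∀ b, aug0 (Φ (1 ⊗ₜ b)) = α b := by
    intro α
    let a : TSpec (K := K) E ⟶ A := TMap α ≫ ι0
    have ha : a ^ p = 1 := by rw [← MonObj.comp_pow, hw, MonObj.comp_one]
    have hta : (t * (TMap β ≫ a)) ^ p = 1 := by
      rw [mul_pow, ht, ← MonObj.comp_pow, ha, MonObj.comp_one, _root_.one_mul]
    obtain ⟨χ, hχ⟩ := hlift _ hta
    let Φ : E ⊗[K] B →ₐ[E] C := Algebra.TensorProduct.lift (Algebra.ofId E C) χ fun _ _ => Commute.all _ _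
    have hΦ : ∀ b, Φ (1 ⊗ₜ b) = χ b := fun b => by simp [Φ]
    refine ⟨Φ, ?_, fun b => ?_⟩
    · let S : Subalgebra E C := Φ.range
      let incl : S →ₐ[K] C := S.val.restrictScalars K
      let χS : B →ₐ[K] S :=
        { toFun := fun b => ⟨χ b, 1 ⊗ₜ b, hΦ b⟩
          map_one' := Subtype.ext χ.map_one
          map_zero' := Subtype.ext χ.map_zero
          map_mul' := fun x y => Subtype.ext (χ.map_mul x y)
          map_add' := fun x y => Subtype.ext (χ.map_add x y)
          commutes' := fun r => Subtype.ext (χ.commutes r) }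
      let βS : E →ₐ[K] S := IsScalarTower.toAlgHom K E S
      let w : TSpec (K := K) S ⟶ A := (TMap χS ≫ ι0) * (TMap βS ≫ a)⁻¹
      have hw' : w ^ p = 1 := by
        rw [mul_pow, inv_pow, ← MonObj.comp_pow, ← MonObj.comp_pow, hw, ha, MonObj.comp_one,
          MonObj.comp_one, inv_one, _root_.one_mul]
      obtain ⟨χ', hχ'⟩ := hlift w hw'
      have key : incl.comp χ' = (bc p g E).comp χ₀ := hinj _ _ (by
        rw [← TMap_comp, ← TMap_comp, Category.assoc, Category.assoc, hχ', hχ₀]
        show TMap incl ≫ w = t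
        rw [MonObj.comp_mul, GrpObj.comp_inv, ← Category.assoc, ← Category.assoc, TMap_comp, TMap_comp,
          show incl.comp χS = χ from rfl, show incl.comp βS = β from rfl, hχ, mul_inv_cancel_right])
      have hS : S = ⊤ := adjoin_range_eq_top fun j => by
        obtain ⟨b, hb⟩ := hχ₀surj (TruncPoly.mk (MvPolynomial.X j))
        have h := AlgHom.congr_fun key b
        rw [AlgHom.comp_apply, AlgHom.comp_apply, hb, bc_X] at h
        rw [← h]
        exact (χ' b).2
      exact (AlgHom.range_eq_top Φ).mp hS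
    · rw [hΦ]
      have h : ((aug0 (E := E) (g := g) (p := p)).restrictScalars K).comp χ = α := hinj _ _ (by
        rw [← TMap_comp, Category.assoc, hχ, MonObj.comp_mul, haug, _root_.one_mul, ← Category.assoc,
          TMap_comp]
        show TMap _ ≫ TMap α ≫ ι0 = _
        rw [show ((aug0 (E := E) (g := g) (p := p)).restrictScalars K).comp β = AlgHom.id K E from
          AlgHom.ext fun r => (aug0 (E := E) (g := g) (p := p)).commutes r, TMap_id, Category.id_comp])
      exact AlgHom.congr_fun h b
  choose Φ hΦs hΦa using hα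
  -- counting homomorphisms to the algebraic closure
  have hcount : ∀ s : Finset (B →ₐ[K] E), s.card ≤ p ^ g := by
    intro s
    let I : s → Ideal (E ⊗[K] B) := fun α => RingHom.ker (Φ α.1)
    have hcop : Pairwise (Function.onFun IsCoprime I) := by
      intro α α' hne
      rw [Function.onFun, Ideal.isCoprime_iff_sup_eq]
      by_contra h
      obtain ⟨M, hM, hle⟩ := Ideal.exists_le_maximal _ h
      have key : ∀ gg : s, I gg ≤ M → M = RingHom.ker ((aug0 (E := E) (g := g) (p := p)).comp (Φ gg.1)) := by
        intro gg hgg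
        refine hM.eq_of_le (RingHom.ker_ne_top _) fun z hz => ?_
        rw [RingHom.mem_ker, AlgHom.comp_apply]
        by_contra hne0
        obtain ⟨z', hz'⟩ := hΦs gg.1 ↑((TruncPoly.isUnit_iff.mpr hne0).unit⁻¹)
        refine hM.ne_top ((Ideal.eq_top_iff_one _).mpr ?_)
        have h1 : z * z' - 1 ∈ I gg := by
          rw [RingHom.mem_ker, map_sub, map_mul, map_one, hz', IsUnit.mul_val_inv, sub_self]
        have := M.sub_mem (M.mul_mem_right z' hz) (hgg h1)
        simpa using this
      have e1 := (key α (le_trans le_sup_left hle)).symm.trans (key α' (le_trans le_sup_right hle))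
      refine hne (Subtype.ext (AlgHom.ext fun b => ?_))
      have hmem : (1 : E) ⊗ₜ[K] b - algebraMap E _ (α.1 b) ∈
          RingHom.ker ((aug0 (E := E) (g := g) (p := p)).comp (Φ α.1)) := by
        rw [RingHom.mem_ker, map_sub, AlgHom.commutes, AlgHom.comp_apply, hΦa]
        simp
      rw [e1, RingHom.mem_ker, map_sub, AlgHom.commutes, AlgHom.comp_apply, hΦa] at hmem
      simp at hmem
      linear_combination -hmem
    let L : (E ⊗[K] B) →ₗ[E] (s → C) := LinearMap.pi fun α => (Φ α.1).toLinearMap
    have hL : Function.Surjective L := by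
      intro v
      choose r hr using fun α : s => hΦs α.1 (v α)
      obtain ⟨z, hz⟩ := Ideal.pi_quotient_surjective hcop fun α => Ideal.Quotient.mk (I α) (r α)
      refine ⟨z, funext fun α => ?_⟩
      have h := Ideal.Quotient.eq.mp (hz α)
      rw [RingHom.mem_ker, map_sub, sub_eq_zero] at h
      exact h.trans (hr α)
    have : Module.Finite E C := TruncPoly.finite hp.pos
    have h1 := LinearMap.finrank_le_finrank_of_surjective hL
    rw [Module.finrank_pi_fintype, Finset.sum_const, smul_eq_mul, Module.finrank_baseChange, hBrank,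
      Finset.card_univ, Fintype.card_coe] at h1
    have h2 : s.card * p ^ g ≤ p ^ g * p ^ g := by
      rw [← pow_add, ← two_mul]
      exact (Nat.mul_le_mul_left _ (TruncPoly.pow_le_finrank hp.pos)).trans h1
    exact Nat.le_of_mul_le_mul_right h2 (pow_pos hp.pos g)
  -- points of the fibre
  have hpts : ∀ a : A.left, f.left a = η[A].left (IsLocalRing.closedPoint K) →
      ∃ α : B →ₐ[K] E, ι0.left (PrimeSpectrum.comap α.toRingHom (⊥ : PrimeSpectrum E)) = a := by
    intro a ha
    obtain ⟨n, hn, -⟩ := Scheme.Pullback.exists_preimage_pullback (f := f.left) (g := η[A].left)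
      a (IsLocalRing.closedPoint K) ha
    have : IsIso e.hom.left := Basic.isIso_left e.hom
    obtain ⟨b, hb⟩ := e.hom.left.surjective (hsq.isoPullback.inv n)
    have hab : ι0.left b = a := by
      rw [hι0]
      show (e.hom.left ≫ i.left) b = a
      rw [Scheme.Hom.comp_apply, hb, ← hn, ← Scheme.Hom.comp_apply, IsPullback.isoPullback_inv_fst]
    let q : Ideal B := (show PrimeSpectrum B from b).asIdeal
    have : Algebra.IsAlgebraic K (B ⧸ q) := Algebra.IsAlgebraic.of_finite K _
    have : IsDomain (B ⧸ q) := Ideal.Quotient.isDomain q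
    let gg : (B ⧸ q) →ₐ[K] E := IsAlgClosed.lift
    refine ⟨gg.comp (Ideal.Quotient.mkₐ K q), ?_⟩
    rw [← hab]
    congr 1
    refine PrimeSpectrum.ext ?_
    show RingHom.ker (gg.comp (Ideal.Quotient.mkₐ K q)).toRingHom = q
    have hgg : Function.Injective gg := by
      have : IsField (B ⧸ q) := Algebra.IsIntegral.isField_iff_isField (R := K) (S := B ⧸ q)
        (algebraMap K (B ⧸ q)).injective |>.mp (Field.toIsField K)
      let := this.toField
      exact gg.toRingHom.injective
    ext z
    rw [RingHom.mem_ker, ← Ideal.Quotient.eq_zero_iff_mem]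
    exact map_eq_zero_iff gg hgg
  choose α hαa using hpts
  refine Set.encard_le_coe_iff_finite_ncard_le.mpr ?_
  have hbound : ∀ t : Finset A.left, (↑t : Set A.left) ⊆ {a | (𝟙 A ^ p).left a = η[A].left (IsLocalRing.closedPoint K)} →
      t.card ≤ p ^ g := by
    intro t ht'
    let F : t → (B →ₐ[K] E) := fun a => α a.1 (ht' a.2)
    have hF : Function.Injective F := fun a a' h => Subtype.ext (by
      have h1 := hαa a.1 (ht' a.2)
      have h2 := hαa a'.1 (ht' a'.2)
      rw [← h1, ← h2]
      show ι0.left (PrimeSpectrum.comap (F a).toRingHom _) = ι0.left (PrimeSpectrum.comap (F a').toRingHom _)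
      rw [h])
    simpa [Finset.card_image_of_injective _ hF] using hcount (Finset.univ.image F)
  have hfinite : {a : A.left | (𝟙 A ^ p).left a = η[A].left (IsLocalRing.closedPoint K)}.Finite := by
    by_contra hinf
    obtain ⟨t, ht1, ht2⟩ := Set.Infinite.exists_subset_card_eq hinf (p ^ g + 1)
    have := hbound t ht1
    omega
  exact ⟨hfinite, by rw [Set.ncard_eq_toFinset_card _ hfinite]; exact hbound _ (by simp)⟩

end Groth.Agent.S1843
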