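import Groth.Statements.S18542
import Groth.Agent.AbVarLib.TorsPoints
import Groth.Agent.AbVarLib.FiniteKernel
import Groth.Agent.AbVarLib.Basics
import Groth.Agent.GrpScheme.AVComm

set_option autoImplicit false
universe u
open CategoryTheory MonoidalCategory CartesianMonoidalCategory MonObj GrpObj AlgebraicGeometry
open AbVar

namespace Groth.Agent.S18542

/-- Let k be an algebraically closed field, ℓ a prime number invertible in k and A an abelian variety
over k (a commutative group scheme over k which is smooth and proper with geometrically connected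
fibres). Then the set A[ℓ^∞](k) of ℓ-power torsion k-points is Zariski dense in A: the union over
all n of the images, in the underlying topological space of A, of the k-valued points a of A with
a^(ℓ^n) = 1 in the group of k-points is dense. -/
theorem result (k : Type u) [Field k] [IsAlgClosed k]
    (A : Over (Spec (CommRingCat.of k)))
    [GrpObj A] [IsCommMonObj A] [Smooth A.hom] [IsProper A.hom] [GeometricallyConnected A.hom]
    (l : ℕ) [Fact l.Prime] (hl : (l : k) ≠ 0) :
    Dense (⋃ (n : ℕ) (a : (Over.mk (𝟙 (Spec (CommRingCat.of k)))) ⟶ A)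
      (_ : a ∈ AbDual.torsPts A (l ^ n) (Over.mk (𝟙 (Spec (CommRingCat.of k))))), Set.range a.left.base) := by
  open Groth.Agent Groth.Agent.AbVarLib Groth.Agent.GrpScheme Groth.Agent.GrpScheme.IdComponent in
  exact by
    have := Basics.geometricallyIntegral A
    have : IsIntegral A.left := GeometricallyIntegral.isIntegral_of_subsingleton A.hom
    have : IsLocallyNoetherian A.left := LocallyOfFiniteType.isLocallyNoetherian A.hom
    let P := 𝟙_ (Over (Spec (CommRingCat.of k)))
    let S : Subgroup (P ⟶ A) :=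
      { carrier := {a | ∃ n : ℕ, a ^ (l ^ n) = 1}
        one_mem' := ⟨0, one_pow _⟩
        mul_mem' := fun {a b} ⟨m, ha⟩ ⟨n, hb⟩ => ⟨m + n, by
          rw [mul_pow, pow_add, pow_mul, ha, one_pow, _root_.one_mul, mul_comm, pow_mul, hb, one_pow]⟩
        inv_mem' := fun {a} ⟨n, ha⟩ => ⟨n, by rw [inv_pow, ha, inv_one]⟩ }
    obtain ⟨Z, _, i, hi, hci, hred, -, hr⟩ := S15608.exists_subgroup S
    have : IsProper Z.hom := by rw [← Over.w i]; infer_instance
    have : JacobsonSpace Z.left := LocallyOfFiniteType.jacobsonSpace Z.hom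
    have : IsLocallyNoetherian Z.left := LocallyOfFiniteType.isLocallyNoetherian Z.hom
    have : CompactSpace Z.left := QuasiCompact.compactSpace_of_compactSpace Z.hom
    have : AlgebraicGeometry.IsNoetherian Z.left := ⟨⟩
    let ev : (P ⟶ Z) → Z.left := fun z => z.left (IsLocalRing.closedPoint k)
    let N : Subgroup (P ⟶ Z) := (IsMonHom.monoidHom (IdSubgroup.incl Z) P).range
    have hN : ∀ a : P ⟶ Z, ev a ∈ connectedComponent (e₀ Z) → a ∈ N := fun a ha => by
      obtain ⟨b, hb⟩ := IdSubgroup.exists_factor Z a (by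
        rintro _ ⟨t, rfl⟩
        rw [Subsingleton.elim (α := Spec (CommRingCat.of k)) t (IsLocalRing.closedPoint k)]
        exact ha)
      exact ⟨b, hb⟩
    have hN' : ∀ a ∈ N, ev a ∈ connectedComponent (e₀ Z) := fun a ⟨b, hb⟩ => by
      subst hb
      exact (IdSubgroup.range_incl Z).subset ⟨b.left (IsLocalRing.closedPoint k), rfl⟩
    have := (TopologicalSpace.NoetherianSpace.finite_irreducibleComponents (α := Z.left)).to_subtype
    have hdiff : ∀ x y : P ⟶ Z, irreducibleComponent (ev x) = irreducibleComponent (ev y) → y * x⁻¹ ∈ N := by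
      intro x y he
      let t : Z ⟶ Z := 𝟙 Z * (toUnit Z ≫ x⁻¹)
      have ht : ∀ a : P ⟶ Z, t.left (ev a) = ev (a * x⁻¹) := fun a => by
        have e : a ≫ t = a * x⁻¹ := by
          rw [MonObj.comp_mul, Category.comp_id, ← Category.assoc, toUnit_unique (a ≫ toUnit Z) (𝟙 _), Category.id_comp]
        rw [← e]; rfl
      have h0 : t.left (ev x) = e₀ Z := by
        rw [ht, mul_inv_cancel]
        show (1 : P ⟶ Z).left _ = _
        rw [Hom.one_def, toUnit_unique (toUnit P) (𝟙 _), Category.id_comp]
      refine hN _ ?_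
      rw [← ht, ← h0]
      have hconn : ev y ∈ connectedComponent (ev x) :=
        (isIrreducible_irreducibleComponent.isConnected).subset_connectedComponent mem_irreducibleComponent
          (he ▸ mem_irreducibleComponent)
      exact t.left.continuous.image_connectedComponent_subset _ ⟨_, hconn, rfl⟩
    have hfac : ∀ a : P ⟶ A, a ∈ S → ∃ z : P ⟶ Z, z ≫ i = a := fun a ha => by
      obtain ⟨w, hw⟩ : a.left (IsLocalRing.closedPoint k) ∈ Set.range i.left :=
        hr ▸ subset_closure ⟨a, ha, rfl⟩
      have hwc : IsClosed ({w} : Set Z.left) := by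
        rw [← i.left.isClosedEmbedding.injective.preimage_image {w}, Set.image_singleton]
        exact (hw.symm ▸ Slices.isClosed_point a : IsClosed ({i.left w} : Set A.left)).preimage i.left.continuous
      exact ⟨TransInv.ptAt Z w hwc, AbSub.apply_inj ((congrArg i.left (pointOfClosedPoint_apply Z.hom w hwc _)).trans hw)⟩
    have hinj : ∀ z z' : P ⟶ Z, z ≫ i = z' ≫ i → z = z' := fun z z' h => AbSub.apply_inj
      (i.left.isClosedEmbedding.injective (congrArg (fun m : P ⟶ A => m.left (IsLocalRing.closedPoint k)) h))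
    have hl1 : 1 < l := (Fact.out : l.Prime).one_lt
    have hroot : ∀ z : P ⟶ Z, z ≫ i ∈ S → ∃ z' : P ⟶ Z, z' ≫ i ∈ S ∧ z' ^ l = z := fun z ⟨n, hz⟩ => by
      obtain ⟨b, hb⟩ := TorsPoints.exists_root A l hl1.le (z ≫ i)
      obtain ⟨z', rfl⟩ := hfac b ⟨n + 1, by rw [pow_succ', pow_mul, hb, hz]⟩
      exact ⟨z', ⟨n + 1, by rw [pow_succ', pow_mul, hb, hz]⟩, hinj _ _ (by rw [MonObj.pow_comp, hb])⟩
    have hSN : ∀ z : P ⟶ Z, z ≫ i ∈ S → z ∈ N := by
      intro z hz
      choose g hg1 hg2 using hroot
      let r : ℕ → {z : P ⟶ Z // z ≫ i ∈ S} := fun n => Nat.rec ⟨z, hz⟩ (fun _ w => ⟨g w.1 w.2, hg1 _ _⟩) n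
      have hr1 : ∀ m n, (r (m + n)).1 ^ (l ^ n) = (r m).1 := fun m n => by
        induction n with
        | zero => rw [pow_zero, pow_one, Nat.add_zero]
        | succ n ih =>
          rw [pow_succ', pow_mul, ← Nat.add_assoc]
          exact (congrArg (· ^ l ^ n) (hg2 _ _)).trans ih
      obtain ⟨m, n, hmn, he⟩ := Finite.exists_ne_map_eq_of_infinite (fun n : ℕ =>
        (⟨irreducibleComponent (ev (r n).1), irreducibleComponent_mem_irreducibleComponents _⟩ :
          irreducibleComponents Z.left))
      wlog hlt : m < n generalizing m n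
      · exact this n m hmn.symm he.symm (lt_of_le_of_ne (not_lt.mp hlt) hmn.symm)
      obtain ⟨d, rfl⟩ := Nat.exists_eq_add_of_le hlt.le
      have hd : d ≠ 0 := by omega
      have h1 := hdiff (r m).1 (r (m + d)).1 (congrArg Subtype.val he)
      rw [← hr1 m d] at h1
      obtain ⟨e, he'⟩ := (r (m + d)).2
      have hord : (r (m + d)).1 ^ (l ^ e) = 1 := hinj _ _ (by rw [MonObj.pow_comp, he', MonObj.one_comp])
      have hmem : (r (m + d)).1 ∈ N := by
        have h2 : (r (m + d)).1 ^ (1 - (l : ℤ) ^ d) ∈ N := by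
          rw [zpow_sub, zpow_one, ← Nat.cast_pow, zpow_natCast]; exact h1
        have hcop : IsCoprime (1 - (l : ℤ) ^ d) ((l : ℤ) ^ e) := by
          refine IsCoprime.pow_right ⟨1, (l : ℤ) ^ (d - 1), ?_⟩
          have : (l : ℤ) ^ d = l ^ (d - 1) * l := by rw [← pow_succ]; congr 1; omega
          rw [this]; ring
        obtain ⟨u, v, huv⟩ := hcop
        rw [← zpow_one (r (m + d)).1, ← huv, zpow_add, mul_comm v, mul_comm u, zpow_mul, zpow_mul]
        refine N.mul_mem (N.zpow_mem h2 u) ?_
        rw [← Nat.cast_pow, zpow_natCast, hord, one_zpow]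
        exact N.one_mem
      have := N.pow_mem hmem (l ^ (m + d))
      have h0 := hr1 0 (m + d)
      rw [Nat.zero_add] at h0
      rwa [h0] at this
    have hconn : Set.range i.left ⊆ i.left '' connectedComponent (e₀ Z) := by
      rw [hr]
      refine closure_minimal ?_ (i.left.isClosedEmbedding.isClosedMap _ isClosed_connectedComponent)
      rintro _ ⟨a, ha, rfl⟩
      obtain ⟨z, rfl⟩ := hfac a ha
      exact ⟨ev z, hN' z (hSN z ha), rfl⟩
    have : ConnectedSpace Z.left := connectedSpace_iff_connectedComponent.mpr ⟨e₀ Z, Set.eq_univ_of_forall fun w => by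
      obtain ⟨w', hw', he⟩ := hconn ⟨w, rfl⟩
      exact i.left.isClosedEmbedding.injective he ▸ hw'⟩
    have := Basics.irreducibleSpace_of_connectedSpace Z
    have : IsIntegral Z.left := isIntegral_of_irreducibleSpace_of_isReduced _
    have := Cube.geometricallyIntegral_of_isAlgClosed Z.hom
    have := AVComm.isCommMonObj Z
    have hdim : ∀ (G : Over (Spec (CommRingCat.of k))) [GrpObj G] [IsProper G.hom] [IsIntegral G.left],
        ∃ g : ℕ, topologicalKrullDim G.left = (g : WithBot ℕ∞) := fun G _ _ _ => by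
      have := LocallyOfFiniteType.jacobsonSpace G.hom
      have : IsLocallyNoetherian G.left := LocallyOfFiniteType.isLocallyNoetherian G.hom
      have hx := Slices.isClosed_point (1 : P ⟶ G)
      obtain ⟨n, hn⟩ := ENat.ne_top_iff_exists.mp (Isogeny.coheight_lt_top ((1 : P ⟶ G).left (IsLocalRing.closedPoint k))).ne
      exact ⟨n, by rw [← GrpScheme.Dimension.coheight_eq_topologicalKrullDim G _ hx, ← hn]; rfl⟩
    obtain ⟨g, hg⟩ := hdim A
    obtain ⟨g', hg'⟩ := hdim Z
    let e : AbDual.torsPts Z l P ≃ AbDual.torsPts A l P :=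
      Equiv.ofBijective (fun z => ⟨z.1 ≫ i, (AbDual.mem_torsPts A _).mpr (by
        rw [← MonObj.pow_comp, (AbDual.mem_torsPts Z z.1).mp z.2, MonObj.one_comp])⟩)
        ⟨fun z z' h => Subtype.ext (hinj _ _ (congrArg Subtype.val h)), fun a => by
          have ha := (AbDual.mem_torsPts A a.1).mp a.2
          obtain ⟨z, hz⟩ := hfac a.1 ⟨1, by rw [pow_one]; exact ha⟩
          exact ⟨⟨z, (AbDual.mem_torsPts Z z).mpr (hinj _ _ (by rw [MonObj.pow_comp, hz, ha, MonObj.one_comp]))⟩,
            Subtype.ext hz⟩⟩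
    have hcard := Nat.card_congr e
    rw [TorsCount.card_torsPts A g hg l hl, TorsCount.card_torsPts Z g' hg' l hl] at hcard
    have hgg : g' = g := by have := Nat.pow_right_injective hl1 hcard; omega
    have := Isogeny.surjective_of_isFinite i (by rw [hg, hg', hgg])
    rw [dense_iff_closure_eq, Set.eq_univ_iff_forall]
    intro x
    refine closure_mono ?_ (hr.subset (i.left.surjective x))
    rintro _ ⟨a, ⟨n, ha⟩, rfl⟩
    exact Set.mem_iUnion.mpr ⟨n, Set.mem_iUnion₂.mpr ⟨a, ha, ⟨IsLocalRing.closedPoint k, rfl⟩⟩⟩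

end Groth.Agent.S18542
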