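import Groth.Statements.S7494
-- import your own Groth.Agent.* helpers here

set_option autoImplicit false
universe u
open CategoryTheory MonoidalCategory CartesianMonoidalCategory MonObj GrpObj AlgebraicGeometry
open AlgGrp

namespace Groth.Agent.S7494

theorem act_mul {S : Scheme.{u}} {G X : Over S} [GrpObj G] (a : AlgGrp.Action G X) {T : Over S}
    (g h : T ⟶ G) (x : T ⟶ X) :
    lift (g * h) x ≫ a.act = lift g (lift h x ≫ a.act) ≫ a.act := by
  have := congrArg (fun q ↦ lift (lift g h) x ≫ q) a.mul_act
  simpa [Hom.mul_def] using this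

theorem one_act {S : Scheme.{u}} {G X : Over S} [GrpObj G] (a : AlgGrp.Action G X) {T : Over S}
    (x : T ⟶ X) : lift (1 : T ⟶ G) x ≫ a.act = x := by
  have := congrArg (fun q ↦ lift (toUnit T) x ≫ q) a.one_act
  simpa [Hom.one_def] using this

/-- Let G be a group scheme over S acting on a scheme X over S by a. The action is free, meaning that
for every scheme T over S and all T-points g of G and x of X with g · x = x one has g = 1, if and
only if the morphism G x_S X -> X x_S X, (g, x) ↦ (a(g, x), x), is a monomorphism of schemes. -/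
theorem result {S : Scheme.{u}} (G X : Over S) [GrpObj G] (a : AlgGrp.Action G X) : (∀ (T : Over S) (g : T ⟶ G) (x : T ⟶ X), lift g x ≫ a.act = x → g = toUnit T ≫ η[G]) ↔ Mono (lift a.act (snd G X)).left := by
  have key : Mono (lift a.act (snd G X)).left ↔ Mono (lift a.act (snd G X)) :=
    ⟨fun _ ↦ Over.mono_of_mono_left _, fun _ ↦ inferInstance⟩
  rw [key]
  constructor
  · intro h
    refine ⟨fun {T} p q hpq ↦ ?_⟩
    have hx : p ≫ snd G X = q ≫ snd G X := by simpa using congrArg (· ≫ snd X X) hpq
    have ha : p ≫ a.act = q ≫ a.act := by simpa using congrArg (· ≫ fst X X) hpq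
    have hfix := h T ((p ≫ fst G X)⁻¹ * (q ≫ fst G X)) (q ≫ snd G X) (by
      rw [act_mul, show lift (q ≫ fst G X) (q ≫ snd G X) ≫ a.act = q ≫ a.act by
        rw [← comp_lift, lift_fst_snd, Category.comp_id], ← ha,
        show p ≫ a.act = lift (p ≫ fst G X) (p ≫ snd G X) ≫ a.act by
        rw [← comp_lift, lift_fst_snd, Category.comp_id], ← act_mul, inv_mul_cancel, one_act, hx])
    rw [← Hom.one_def, inv_mul_eq_one] at hfix
    exact CartesianMonoidalCategory.hom_ext _ _ hfix hx
  · intro h T g x hgx
    have := (cancel_mono (lift a.act (snd G X))).1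
      (show lift g x ≫ lift a.act (snd G X) = lift (1 : T ⟶ G) x ≫ lift a.act (snd G X) by
        simp only [comp_lift, lift_snd, hgx, one_act])
    simpa [Hom.one_def] using congrArg (· ≫ fst G X) this

end Groth.Agent.S7494
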