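import Groth.Statements.S9526
import Groth.Agent.HomShEval.QCoh
import Groth.Agent.CohDev.Loc
-- import your own Groth.Agent.* helpers here

set_option autoImplicit false
universe u
open Coherent

namespace Groth.Agent.S9526

open CategoryTheory AlgebraicGeometry Opposite Groth.Agent.PullStalk.Sky
open Groth.Agent.HomShEval.QCoh (ext_germ germ_app)

variable {X : Scheme.{u}} {G F : X.Modules} {U : X.Opens} (g : Γ(RefHull.homSh G F, U))

lemma image_le (W : (U : Scheme.{u}).Opens) : U.ι ''ᵁ W ≤ U := by
  rintro _ ⟨z, -, rfl⟩; exact z.2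

/-- The maps on sections of a section of the sheaf Hom. -/
noncomputable def appHom (W : (U : Scheme.{u}).Opens) : Γ(G.restrict U.ι, W) ⟶ Γ(F.restrict U.ι, W) :=
  AddCommGrpCat.ofHom
    { toFun := fun m => HomShEval.QCoh.app G F g (image_le W) m
      map_zero' := ext_germ F _ _ fun y hy => (germ_app G F g _ _ y hy).trans
        ((congrArg _ (HomShEval.QCoh.germM_zero G _ y hy)).trans
          ((map_zero _).trans (HomShEval.QCoh.germM_zero F _ y hy).symm))
      map_add' := fun a b => ext_germ F _ _ fun y hy => (germ_app G F g _ _ y hy).trans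
        ((congrArg _ (HomShEval.QCoh.germM_add G _ y hy a b)).trans
          ((map_add _ _ _).trans ((congrArg₂ (· + ·) (germ_app G F g (image_le W) a y hy).symm
            (germ_app G F g (image_le W) b y hy).symm).trans
              (HomShEval.QCoh.germM_add F _ y hy _ _).symm))) }

/-- The map of presheaves of a section of the sheaf Hom. -/
noncomputable def secMap : (G.restrict U.ι).presheaf ⟶ (F.restrict U.ι).presheaf where
  app W := appHom g W.unop
  naturality := fun V W i => by
    refine AddCommGrpCat.hom_ext (AddMonoidHom.ext fun m => ?_)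
    have hle : U.ι ''ᵁ W.unop ≤ U.ι ''ᵁ V.unop := U.ι.image_mono i.unop.le
    change HomShEval.QCoh.app G F g (image_le W.unop) (G.presheaf.map (homOfLE hle).op m) =
      F.presheaf.map (homOfLE hle).op (HomShEval.QCoh.app G F g (image_le V.unop) m)
    refine ext_germ F _ _ fun y hy => ?_
    refine (germ_app G F g (image_le W.unop) _ y hy).trans ?_
    refine Eq.trans ?_ (F.presheaf.germ_res_apply (homOfLE hle) y hy _).symm
    refine Eq.trans ?_ (germ_app G F g (image_le V.unop) m y (hle hy)).symm
    exact congrArg (g.1 ⟨y, _⟩) (G.presheaf.germ_res_apply (homOfLE hle) y hy m)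

/-- The morphism of a section of the sheaf Hom. -/
noncomputable def homOfSec : (Scheme.Modules.restrictFunctor U.ι).obj G ⟶ (Scheme.Modules.restrictFunctor U.ι).obj F :=
  ⟨PresheafOfModules.homMk (secMap g)
    (fun W r m => by
      let r' : Γ(X, U.ι ''ᵁ W.unop) := (U.ι.appIso W.unop).inv r
      let m' : Γ(G, U.ι ''ᵁ W.unop) := m
      change HomShEval.QCoh.app G F g (image_le W.unop) (r' • m') =
        r' • HomShEval.QCoh.app G F g (image_le W.unop) m'
      refine ext_germ F _ _ fun y hy => ?_
      rw [germ_app, germM_smul, germM_smul, map_smul, germ_app])⟩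

open CategoryTheory CategoryTheory.Limits AlgebraicGeometry in
/-- Let X be a locally Noetherian scheme, F and G coherent O_X-modules, x ∈ X and ψ : G_x → F_x an
O_{X,x}-linear map. Then there are an open neighbourhood U of x and a morphism φ : G|_U → F|_U with
φ_x = ψ (the stalk map of φ at x, composed with the canonical identifications of the stalks of G|_U
and F|_U at x with G_x and F_x, is ψ). -/
theorem result (X : Scheme.{u}) [IsLocallyNoetherian X]
    (F G : X.Modules) (hF : Coh.IsCoh F) (hG : Coh.IsCoh G) (x : X)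
    (ψ : ↑(G.presheaf.stalk x) →ₗ[X.presheaf.stalk x] ↑(F.presheaf.stalk x)) :
    ∃ (U : X.Opens) (hx : x ∈ U)
      (φ : (Scheme.Modules.restrictFunctor U.ι).obj G ⟶ (Scheme.Modules.restrictFunctor U.ι).obj F),
      (Scheme.Modules.restrictStalkNatIso U.ι (⟨x, hx⟩ : U)).inv.app G ≫
          (TopCat.Presheaf.stalkFunctor _ (⟨x, hx⟩ : U)).map φ.mapPresheaf ≫
            (Scheme.Modules.restrictStalkNatIso U.ι (⟨x, hx⟩ : U)).hom.app F =
        AddCommGrpCat.ofHom ψ.toAddMonoidHom := by
  haveI : G.IsQuasicoherent := hG.1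
  obtain ⟨θ, hθ⟩ := HomShEval.evalStalk_surjective G F (HomShEval.QCoh.isFP_of_isCoh G hG) x ψ
  obtain ⟨U, hx, g, rfl⟩ := TopCat.Presheaf.exists_germ_eq (RefHull.homSh G F).presheaf θ
  rw [RefHull.evalStalk_germ] at hθ
  let U' : X.Opens := U
  refine ⟨U', hx, homOfSec (U := U') g, AddCommGrpCat.hom_ext (AddMonoidHom.ext fun t => ?_)⟩
  obtain ⟨O, hxO, m, rfl⟩ := exists_germM_eq G x t
  let z : ↥U' := ⟨x, hx⟩
  let W : (U' : Scheme.{u}).Opens := U'.ι ⁻¹ᵁ O
  have hle : U'.ι ''ᵁ W ≤ O := by
    rw [Scheme.Hom.image_preimage_eq_opensRange_inf]; exact inf_le_right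
  have hz : z ∈ W := hxO
  have hxW : x ∈ U'.ι ''ᵁ W := ⟨z, hz, rfl⟩
  let m' : Γ(G, U'.ι ''ᵁ W) := G.presheaf.map (homOfLE hle).op m
  have hm : germM G O x hxO m = germM G (U'.ι ''ᵁ W) x hxW m' :=
    (G.presheaf.germ_res_apply (homOfLE hle) x hxW m).symm
  rw [hm]
  have e1 : (Scheme.Modules.restrictStalkNatIso U'.ι z).inv.app G (germM G (U'.ι ''ᵁ W) x hxW m') =
      germM ((Scheme.Modules.restrictFunctor U'.ι).obj G) W z hz m' :=
    ConcreteCategory.congr_hom (Scheme.Modules.germ_restrictStalkNatIso_inv_app U'.ι z G hz) m'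
  have e2 := TopCat.Presheaf.stalkFunctor_map_germ_apply W z hz (homOfSec (U := U') g).mapPresheaf m'
  have e3 := ConcreteCategory.congr_hom (Scheme.Modules.germ_restrictStalkNatIso_hom_app U'.ι z F hz)
    (HomShEval.QCoh.app G F g (image_le W) m')
  change (Scheme.Modules.restrictStalkNatIso U'.ι z).hom.app F
    ((TopCat.Presheaf.stalkFunctor _ z).map (homOfSec (U := U') g).mapPresheaf
      ((Scheme.Modules.restrictStalkNatIso U'.ι z).inv.app G (germM G (U'.ι ''ᵁ W) x hxW m'))) = _
  refine ((congrArg _ (congrArg _ e1)).trans ((congrArg _ e2).trans e3)).trans ?_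
  exact (germ_app G F g (image_le W) m' x hxW).trans (LinearMap.congr_fun hθ _)

end Groth.Agent.S9526
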