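import Groth.Statements.S9523
import Groth.Agent.CohOps.Sections
import Groth.Agent.IdealSh.Comap
-- import your own Groth.Agent.* helpers here

set_option autoImplicit false
universe u
open CategoryTheory CategoryTheory.Limits AlgebraicGeometry
attribute [local instance] HasDerivedCategory.standard
open Coherent

namespace Groth.Agent.S9523

open Groth.Agent.CohDev Groth.Agent.CohOps.Sections CategoryTheory CategoryTheory.Limits AlgebraicGeometry

lemma transfer {R S N N' : Type*} [CommRing R] [CommRing S] [AddCommGroup N] [Module S N]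
    [AddCommGroup N'] [Module R N'] (φ : R →+* S) (e : N →+ N') (he : ∀ r n, e (φ r • n) = r • e n)
    {I : Ideal R} {n : N} (hn : n ∈ I.map φ • (⊤ : Submodule S N)) : e n ∈ I • (⊤ : Submodule R N') := by
  refine Submodule.smul_induction_on hn (fun r hr m _ => ?_)
    (fun x y hx hy => by rw [map_add]; exact add_mem hx hy)
  change r ∈ Ideal.span (φ '' (I : Set R)) at hr
  induction hr using Submodule.span_induction generalizing m with
  | mem c hc =>
    obtain ⟨c, hc, rfl⟩ := hc
    rw [he]
    exact Submodule.smul_mem_smul hc Submodule.mem_top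
  | zero => rw [zero_smul, map_zero]; exact zero_mem _
  | add c d _ _ hc hd => rw [add_smul, map_add]; exact add_mem (hc m trivial) (hd m trivial)
  | smul c d _ hd => rw [smul_eq_mul, mul_comm, mul_smul]; exact hd (c • m) trivial

/-- Let f : Y → X be an affine morphism of schemes, F a quasi-coherent O_Y-module and I a quasi-coherent
sheaf of ideals on X. Then I·f_*F = f_*((f⁻¹I O_Y)·F) as submodules of f_*F: there is an isomorphism
I·f_*F ≅ f_*((f⁻¹I O_Y)·F) whose composite with f_* of the inclusion (f⁻¹I O_Y)·F → F is the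
inclusion I·f_*F → f_*F. (J·M denotes the submodule sheaf Dual3.idealMul J M; f⁻¹I O_Y is the
pulled-back ideal sheaf I.comap f.) -/
theorem result {Y X : Scheme.{u}} (f : Y ⟶ X) [IsAffineHom f]
    (F : Y.Modules) (hF : Coh.IsQCoh F) (I : X.IdealSheafData) :
    ∃ e : (Dual3.idealMul I).obj ((Scheme.Modules.pushforward f).obj F) ≅
        (Scheme.Modules.pushforward f).obj ((Dual3.idealMul (I.comap f)).obj F),
      e.hom ≫ (Scheme.Modules.pushforward f).map (Dual3.idealMulι (I.comap f) F) =
        Dual3.idealMulι I ((Scheme.Modules.pushforward f).obj F) := by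
  haveI : F.IsQuasicoherent := hF
  let P := Scheme.Modules.pushforward f
  haveI : PreservesLimitsOfSize.{0, 0} P := (Scheme.Modules.pullbackPushforwardAdjunction f).rightAdjoint_preservesLimits
  haveI : PreservesFiniteLimits P := PreservesLimitsOfSize.preservesFiniteLimits P
  let J := I.comap f
  haveI : (P.obj F).IsQuasicoherent := QCoh.isQuasicoherent_pushforward f F
  haveI := isQCoh_idealMul J F
  haveI := isQCoh_idealMul I (P.obj F)
  haveI : (P.obj ((Dual3.idealMul J).obj F)).IsQuasicoherent := QCoh.isQuasicoherent_pushforward f _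
  haveI : Mono (Dual3.idealMulι J F) := inferInstanceAs (Mono (kernel.ι _))
  haveI : Mono (Dual3.idealMulι I (P.obj F)) := inferInstanceAs (Mono (kernel.ι _))
  let a := Dual3.idealMulι I (P.obj F)
  let b : P.obj ((Dual3.idealMul J).obj F) ⟶ P.obj F := P.map (Dual3.idealMulι J F)
  have key : ∀ W : X.affineOpens, LinearMap.range (appLin a W.1) = LinearMap.range (appLin b W.1) := fun W => by
    let V : Y.affineOpens := ⟨f ⁻¹ᵁ W.1, W.2.preimage f⟩
    have hJ : J.ideal V = (I.ideal W).map (f.app W.1).hom :=
      IdealSh.Comap.ideal_comap_app I f W (W.2.preimage f)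
    rw [range_idealMulι]
    have hV := range_idealMulι J F V
    apply le_antisymm
    · refine Submodule.smul_le.mpr fun r hr m _ => ?_
      have hm : (f.app W.1 r) • (show Γ(F, V.1) from m) ∈ LinearMap.range (appLin (Dual3.idealMulι J F) V.1) := by
        rw [hV]
        exact Submodule.smul_mem_smul (by rw [hJ]; exact Ideal.mem_map_of_mem _ hr) Submodule.mem_top
      obtain ⟨s, hs⟩ := hm
      exact ⟨s, hs⟩
    · rintro - ⟨s, rfl⟩
      have hs : appLin (Dual3.idealMulι J F) V.1 s ∈ J.ideal V • (⊤ : Submodule Γ(Y, V.1) Γ(F, V.1)) :=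
        hV ▸ ⟨s, rfl⟩
      rw [hJ] at hs
      exact transfer (N := Γ(F, V.1)) (N' := Γ(P.obj F, W.1)) (f.app W.1).hom (AddMonoidHom.id Γ(F, V.1))
        (fun _ _ => rfl) hs
  have heq : Subobject.mk a = Subobject.mk b :=
    le_antisymm (mk_le_mk_of_range a b fun W => (key W).le) (mk_le_mk_of_range b a fun W => (key W).ge)
  exact ⟨Subobject.isoOfMkEqMk a b heq, Subobject.ofMkLEMk_comp heq.le⟩

end Groth.Agent.S9523
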