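import Groth.Statements.S2336
import Groth.Agent.Props.AmpleQA

set_option autoImplicit false
universe u
open CategoryTheory CategoryTheory.Limits AlgebraicGeometry
open EGA2

namespace Groth.Agent.S2336

/-- Let X be a quasi-compact separated scheme (the source also allows a prescheme with Noetherian
underlying space). Then X is quasi-affine if and only if O_X is an ample invertible module. -/
theorem result (X : Scheme.{u}) [CompactSpace X] [X.IsSeparated] :
    X.IsQuasiAffine ↔ CohB1.IsAmple (Coh.structureModule X) := by
  constructor
  · intro h
    exact Groth.Agent.Props.AmpleQA.isAmple (Groth.Agent.LFFrame.isInvertible_structureModule X)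
  · intro h
    refine Scheme.IsQuasiAffine.of_forall_exists_mem_basicOpen X fun x => ?_
    obtain ⟨n, s, hx, haff⟩ := h.2.2 x
    obtain ⟨f, hf⟩ := Groth.Agent.Props.AmpleFrames.exists_fun_of_hom s
    exact ⟨f, hf ▸ haff, hf ▸ hx⟩

end Groth.Agent.S2336
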