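import Groth.Statements.S10830
import Groth.Agent.TopDimLib.Basic

set_option autoImplicit false
universe u
open Topology TopologicalSpace
open TopDim

namespace Groth.Agent.S10830

open Set Order TopologicalSpace Topology Groth.Agent.TopDimLib

/-- In an irreducible topological space X of finite Krull dimension, every proper closed subset Y has
strictly smaller Krull dimension than X. -/
theorem result (X : Type u) [TopologicalSpace X]
    [IrreducibleSpace X] (hfin : topologicalKrullDim X ≠ ⊤) (Y : Set X) (hY : IsClosed Y) (hYX : Y ≠ Set.univ) :
    topologicalKrullDim ↥Y < topologicalKrullDim X := by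
  obtain ⟨n, hn⟩ : ∃ n : ℕ, topologicalKrullDim X = n := by
    have h0 : (0 : WithBot ℕ∞) ≤ topologicalKrullDim X := topDim_nonneg_of_nonempty
    revert hfin h0
    generalize topologicalKrullDim X = d
    intro hfin h0
    induction d with
    | bot => simp at h0
    | coe d =>
      induction d with
      | top => exact absurd rfl hfin
      | coe n => exact ⟨n, rfl⟩
  by_contra hlt
  rw [not_lt, hn] at hlt
  obtain ⟨l, hl⟩ := Order.le_krullDim_iff.1 hlt
  let top : IrreducibleCloseds X := ⟨univ, IrreducibleSpace.isIrreducible_univ X, isClosed_univ⟩
  let L := l.map _ (IrreducibleCloseds.map_strictMono_of_isInducing (IsInducing.subtypeVal : IsInducing (Subtype.val : Y → X)))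
  have hltop : L.last < top := by
    refine lt_of_le_of_ne (fun z _ => trivial) (fun he => hYX ?_)
    have h2 : (L.last : Set X) ⊆ Y :=
      closure_minimal (Subtype.coe_image_subset _ _) hY
    rw [he] at h2
    exact univ_subset_iff.1 h2
  have h3 := LTSeries.length_le_krullDim (L.snoc top hltop)
  rw [← topologicalKrullDim, hn] at h3
  have : l.length + 1 ≤ n := by exact_mod_cast h3
  omega

end Groth.Agent.S10830
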