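import Groth.Statements.S4642
import Groth.Agent.FBase.Dim
import Groth.Agent.ConsPairLib.DimCons
-- import your own Groth.Agent.* helpers here

set_option autoImplicit false
open CategoryTheory AlgebraicGeometry
universe u
open FBase

namespace Groth.Agent.S4642

open CategoryTheory.Limits TopologicalSpace
open Groth.Agent.FBase.BC Groth.Agent.FBase.Topo Groth.Agent.FBase.IrredComp Groth.Agent.FBase.Dim

/-- Let X be a scheme locally of finite type over a field k and K an extension field of k. Then X ⊗_k K
and X have the same dimension. (Dimension is the Krull dimension of the underlying topological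
space, which for schemes locally of finite type over a field agrees with the supremum of the
transcendence degrees of the residue fields at maximal points.) -/
theorem result {k K : Type u} [Field k] [Field K] [Algebra k K] {X : Scheme.{u}}
    (f : X ⟶ Spec (CommRingCat.of k)) [LocallyOfFiniteType f] :
    topologicalKrullDim ↥(FBase.bc f K) = topologicalKrullDim ↥X := by
  have : IsIntegral (Spec (CommRingCat.of k)) := inferInstance
  have : Subsingleton ↥(Spec (CommRingCat.of k)) := inferInstanceAs (Subsingleton (PrimeSpectrum k))
  have : Subsingleton ↥(Spec (CommRingCat.of K)) := inferInstanceAs (Subsingleton (PrimeSpectrum K))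
  have hcov : IsOpenCover (fun V : X.affineOpens => (V : X.Opens)) := iSup_affineOpens_eq_top X
  change topologicalKrullDim ↥(pullback f (specMap k K)) = _
  rw [ConsPairLib.topDim_eq_iSup_pieces (IsPullback.of_hasPullback f (specMap k K)) hcov,
    ConsPairLib.topDim_eq_iSup_pieces (IsPullback.id_horiz f) hcov]
  refine iSup_congr fun V ↦ ?_
  have : IsAffine ((V : X.Opens) : Scheme.{u}) := V.2
  rw [ConsPairLib.topDim_baseChange_affine ((V : X.Opens).ι ≫ f)
    (IsPullback.of_hasPullback _ (specMap k K))]
  exact ConsPairLib.topDim_eq_of_iso (asIso (pullback.fst ((V : X.Opens).ι ≫ f) (𝟙 _))).symm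

end Groth.Agent.S4642
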