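import Groth.Statements.S4362
import Groth.Agent.QCNoeth.Basic
import Mathlib.Data.DFinsupp.WellFounded

set_option autoImplicit false
universe u
open FinCond

namespace Groth.Agent.S4362

open AlgebraicGeometry in
open CategoryTheory in
/-- If X is a Noetherian scheme, every increasing sequence of quasi-coherent sheaves of ideals of the
structure sheaf is eventually constant; equivalently the ordered set of quasi-coherent ideal sheaves
of X is well-founded for the reverse order. (On a locally Noetherian scheme quasi-coherent and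
coherent ideal sheaves coincide.) -/
theorem result
    (X : Scheme.{u}) [IsNoetherian X] : WellFoundedGT X.IdealSheafData := by
  obtain ⟨t, ht⟩ := isCompact_univ.elim_finite_subcover (fun W : X.affineOpens => (W.1 : Set X))
    (fun W => W.1.2) fun z _ => by
      obtain ⟨_, ⟨W, hW, rfl⟩, hz, -⟩ :=
        X.isBasis_affineOpens.exists_subset_of_mem_open (Set.mem_univ z) isOpen_univ
      exact Set.mem_iUnion.mpr ⟨⟨W, hW⟩, hz⟩
  have hcov : ⨆ i : t, (i.1 : X.affineOpens).1 = ⊤ := top_le_iff.mp fun z hz => by
    obtain ⟨W, hW, hzW⟩ := Set.mem_iUnion₂.mp (ht (Set.mem_univ z))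
    exact TopologicalSpace.Opens.mem_iSup.mpr ⟨⟨W, hW⟩, hzW⟩
  have : ∀ i : t, IsNoetherianRing Γ(X, (i.1 : X.affineOpens).1) := fun i =>
    IsLocallyNoetherian.component_noetherian i.1
  have hs : StrictMono (fun (I : X.IdealSheafData) (i : t) => I.ideal i.1) := by
    intro I J h
    refine lt_of_le_not_ge (fun i => h.le i.1) fun h' => h.not_ge ?_
    exact Scheme.IdealSheafData.le_of_iSup_eq_top _ hcov h'
  have : WellFoundedGT (∀ i : t, Ideal Γ(X, (i.1 : X.affineOpens).1)) := by
    have h := Pi.wellFoundedLT (ι := t) (α := fun i => (Ideal Γ(X, (i.1 : X.affineOpens).1))ᵒᵈ)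
    refine ⟨Subrelation.wf (fun {a b} hab => ?_)
      (InvImage.wf (fun a i => OrderDual.toDual (a i)) h.wf)⟩
    exact ⟨fun i => hab.le i, fun h' => hab.not_ge h'⟩
  exact hs.wellFoundedGT

end Groth.Agent.S4362
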