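import Groth.Statements.S0494
import Groth.Agent.CohTop.AcyclicHomology

set_option autoImplicit false
universe u
open CategoryTheory CategoryTheory.Limits
open CohTop

namespace Groth.Agent.S0494

open Opposite in
/-- If H^p(Y, R^q f_* F) = 0 for all q and all p > 0, then H^q(X, F) ≅ Γ(Y, R^q f_* F) for every q
(existence of a group isomorphism). -/
theorem result {X Y : TopCat.{u}} (f : X ⟶ Y) (F : CohTop.Ab X)
    (h : ∀ p q : ℕ, Subsingleton (CohTop.H ((CohTop.Rpush f q).obj F) (p + 1))) (q : ℕ) :
    Nonempty (CohTop.H F q ≃+ ((CohTop.Rpush f q).obj F).obj.obj (op ⊤)) := by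
  open Groth.Agent.CohTop in
  classical
  let J := injectiveResolution F
  let K := ((CohTop.push f).mapHomologicalComplex _).obj J.cocomplex
  have hK : ∀ n, AcyclicHomology.Ac (K.X n) := fun n => by
    have := J.injective n
    have := Flasque.isFlasque_of_injective (J.cocomplex.X n)
    have : TopCat.Sheaf.IsFlasque (K.X n) :=
      TopCat.Presheaf.IsFlasque.pushforward_isFlasque (J.cocomplex.X n).1 f
    exact AcyclicHomology.Ac.of_flasque _
  have hH : ∀ n, AcyclicHomology.Ac (K.homology n) := fun n => by
    refine AcyclicHomology.Ac.of_iso (J.isoRightDerivedObj (CohTop.push f) n) fun p => ?_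
    have := h p n
    exact (Basic.HEquivHUTop ((CohTop.Rpush f n).obj F) (p + 1)).symm.injective.subsingleton
  obtain ⟨e⟩ := AcyclicHomology.nonempty_sections_homology_iso K hK hH q
  let R : Groth.Agent.ModShf.AcyclicRes.Res F := ⟨J.cocomplex, J.ι, J.quasiIso⟩
  obtain ⟨e'⟩ := Descent.Compute.nonempty_homology_iso_H R
    (fun n => by have := J.injective n; exact Flasque.isFlasque_of_injective _) q
  exact ⟨(e'.symm ≪≫ e ≪≫ (Descent.Compute.Γt Y).mapIso
    (J.isoRightDerivedObj (CohTop.push f) q).symm).addCommGroupIsoToAddEquiv⟩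

end Groth.Agent.S0494
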