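import Groth.Statements.S19476
import Groth.Agent.Cube.SeesawThm
import Groth.Agent.S7817
import Groth.Agent.RankLocus.Basic
import Groth.Agent.TwistFlat.RankStrata
import Groth.Agent.MonoVal.Immersion
import Groth.Agent.PerfTri.Betti
-- import your own Groth.Agent.* helpers here

set_option autoImplicit false
universe u
open CategoryTheory CategoryTheory.Limits AlgebraicGeometry
open PicF

namespace Groth.Agent.S19476

set_option backward.isDefEq.respectTransparency.types false

/-- Rank one and invertible. -/
theorem invertible_of_rank {X : Scheme.{u}} {L : X.Modules} (hL : FlatMod.IsFinLocFreeOfRank 1 L) :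
    PicF.IsInvertible L := fun x =>
  let ⟨U, hx, ⟨e⟩⟩ := hL x
  ⟨U, hx, ⟨e ≪≫ coproductUniqueIso fun _ : Fin 1 => Coh.structureModule (U : Scheme.{u})⟩⟩

theorem rank_of_invertible {X : Scheme.{u}} {L : X.Modules} (hL : PicF.IsInvertible L) :
    FlatMod.IsFinLocFreeOfRank 1 L := fun x =>
  let ⟨U, hx, ⟨e⟩⟩ := hL x
  ⟨U, hx, ⟨e ≪≫ (coproductUniqueIso fun _ : Fin 1 => Coh.structureModule (U : Scheme.{u})).symm⟩⟩

open Groth.Agent.Props in
/-- A module whose pullback along a surjection has rank one has rank one. -/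
theorem rank_one_of_pullback {T' T : Scheme.{u}} (q : T' ⟶ T) [Surjective q] {M : T.Modules}
    (hM : FlatMod.IsFinLocFree M) {N : T'.Modules} (hN : FlatMod.IsFinLocFreeOfRank 1 N)
    (e : N ≅ (Scheme.Modules.pullback q).obj M) : FlatMod.IsFinLocFreeOfRank 1 M := by
  have := Groth.Agent.PerfTri.Betti.isQuasicoherent_of_isFinLocFree hM
  refine Groth.Agent.TwistFlat.ofRank_of_fibreRank hM fun t => ?_
  obtain ⟨t', rfl⟩ := q.surjective t
  have h1 := Groth.Agent.RankLocus.isFinLocFreeOfRank_of_iso e hN
  have := Groth.Agent.PerfTri.Betti.isQuasicoherent_of_isFinLocFree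
    (M := (Scheme.Modules.pullback q).obj M) (fun x => let ⟨U, hx, h⟩ := h1 x; ⟨U, 1, hx, h⟩)
  rw [← Groth.Agent.RankLocus.fibreRank_pullback q M t', Groth.Agent.TwistFlat.fibreRank_eq_of_ofRank h1 t']

/-- Let S be a locally Noetherian scheme, f : X → S flat and proper with integral geometric fibres, and
L a line bundle on X (a locally free module of rank 1). Then there is a closed subscheme Z ⊆ S with
the following universal property among locally Noetherian S-schemes: a morphism u : T → S with T
locally Noetherian factors through Z if and only if the pullback of L to X ×_S T is isomorphic to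
the pullback along the projection X ×_S T → T of some line bundle on T, i.e. is trivial relative to
T. (Only the existence of such a closed subscheme is asserted.) -/
theorem result {X S : Scheme.{u}} (f : X ⟶ S)
    [IsProper f] [Flat f] [GeometricallyIntegral f] [IsLocallyNoetherian S]
    (L : X.Modules) (hL : FlatMod.IsFinLocFreeOfRank 1 L) :
    ∃ (Z : Scheme.{u}) (ι : Z ⟶ S), IsClosedImmersion ι ∧
      ∀ (T : Scheme.{u}) (u : T ⟶ S), IsLocallyNoetherian T →
        ((∃ u' : T ⟶ Z, u' ≫ ι = u) ↔
          ∃ M : T.Modules, FlatMod.IsFinLocFreeOfRank 1 M ∧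
            Nonempty ((Scheme.Modules.pullback (pullback.fst f u)).obj L ≅
              (Scheme.Modules.pullback (pullback.snd f u)).obj M)) := by
  haveI : GeometricallyConnected f := by
    refine ⟨?_⟩
    intro K _ y A p q hpb
    have : IsIntegral A := GeometricallyIntegral.geometrically_isIntegral (f := f) _ _ _ hpb
    exact inferInstanceAs (ConnectedSpace A)
  haveI : LocallyOfFinitePresentation f := Groth.Agent.MonoVal.locallyOfFinitePresentation_of_lft f
  have hE : FlatMod.IsFinLocFree L := fun x => let ⟨U, hx, h⟩ := hL x; ⟨U, 1, hx, h⟩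
  obtain ⟨Z, ι, hι, -, -, hu, hr⟩ := Groth.Agent.S7817.result f L hE
  have hLi := invertible_of_rank hL
  have hcl := Groth.Agent.Cube.Seesaw.isClosed_trivial f hLi (fun z => inferInstance)
  have hrange : Set.range ι = {s | Nonempty (CohIII.fiberMod f L s ≅ Coh.structureModule (f.fiber s))} := by
    rw [hr]
    ext s
    constructor
    · rintro ⟨n, ⟨e⟩⟩
      obtain ⟨x⟩ : Nonempty (f.fiber s) := inferInstance
      have h1 := rank_of_invertible (PicLoc.isInvertible_pullback (f.fiberι s) hLi)
      have h1' : FlatMod.IsFinLocFreeOfRank 1 (FlatMod.freeMod (f.fiber s) n) :=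
        Groth.Agent.RankLocus.isFinLocFreeOfRank_of_iso e h1
      have := Groth.Agent.PerfTri.Betti.isQuasicoherent_freeMod (f.fiber s) n
      have hn : n = 1 := by
        rw [← Groth.Agent.TwistFlat.fibreRank_eq_of_ofRank h1' x,
          Groth.Agent.TwistFlat.fibreRank_eq_of_restrict_iso (FlatMod.freeMod (f.fiber s) n)
            (U := ⊤) ((Scheme.Modules.restrictFunctorIsoPullback _).app _ ≪≫
              Groth.Agent.KFlat.LocFree.pullFreeIso _ n) (TopologicalSpace.Opens.mem_top x)]
      subst hn
      exact ⟨e ≪≫ coproductUniqueIso fun _ : Fin 1 => Coh.structureModule (f.fiber s)⟩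
    · rintro ⟨e⟩
      exact ⟨1, ⟨e ≪≫ (coproductUniqueIso fun _ : Fin 1 => Coh.structureModule (f.fiber s)).symm⟩⟩
  refine ⟨Z, ι, IsClosedImmersion.of_isPreimmersion ι (hrange ▸ hcl), fun T u _ => (hu T u).trans ⟨?_, ?_⟩⟩
  · rintro ⟨M, hM, ⟨e⟩⟩
    haveI : Surjective (pullback.snd f u) := MorphismProperty.pullback_snd f u inferInstance
    exact ⟨M, rank_one_of_pullback (pullback.snd f u) hM
      (rank_of_invertible (PicLoc.isInvertible_pullback (pullback.fst f u) hLi)) e, ⟨e⟩⟩
  · rintro ⟨M, hM, he⟩
    exact ⟨M, fun x => let ⟨U, hx, h⟩ := hM x; ⟨U, 1, hx, h⟩, he⟩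

end Groth.Agent.S19476
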