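import Groth.Statements.S0491
import Groth.Agent.SiteCoh.ExtCompare
import Groth.Agent.SiteCoh.ModuleFree
import Groth.Agent.ModShf.ToSheaf

set_option autoImplicit false
universe u
open CategoryTheory
open CohSite

namespace Groth.Agent.S0491

/-- For a sheaf of rings O on a small site and an O-module M, the Ext groups Ext^n_O(O, M) in the
category of O-modules (= H^n(C, M) computed with O-module injective resolutions) are isomorphic to
H^n of the underlying abelian sheaf of M (existence of a group isomorphism). The Ext instance on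
O-modules is taken as a hypothesis. -/
theorem result {C : Type u} [SmallCategory C] (J : GrothendieckTopology C)
    (R : Sheaf J RingCat.{u}) [HasExt.{u} (SheafOfModules.{u} R)] (M : SheafOfModules.{u} R) (n : ℕ) :
    Nonempty (Abelian.Ext (SheafOfModules.unit R) M n ≃+ Sheaf.H.{u} ((SheafOfModules.toSheaf R).obj M) n) := by
  let φ₀ : (Functor.const Cᵒᵖ).obj (AddCommGrpCat.of (ULift.{u} ℤ)) ⟶
      ((SheafOfModules.toSheaf R).obj (SheafOfModules.unit R)).obj :=
    { app := fun V => AddCommGrpCat.ofHom ((AddMonoidHom.mk' (fun k : ℤ => k • (1 : R.obj.obj V))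
          (fun a b => add_zsmul (1 : R.obj.obj V) a b)).comp AddEquiv.ulift.toAddMonoidHom)
      naturality := fun V W g => by
        ext k
        exact ((map_zsmul (R.obj.map g).hom k.down (1 : R.obj.obj V)).trans
          (congrArg (k.down • ·) (map_one (R.obj.map g).hom))).symm }
  let a := sheafificationAdjunction J AddCommGrpCat.{u}
  let θ : (constantSheaf J AddCommGrpCat.{u}).obj (AddCommGrpCat.of (ULift.{u} ℤ)) ⟶
      (SheafOfModules.toSheaf R).obj (SheafOfModules.unit R) := (a.homEquiv _ _).symm φ₀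
  have hθ : ∀ X : SheafOfModules.{u} R, Function.Bijective
      (fun f : SheafOfModules.unit R ⟶ X => θ ≫ (SheafOfModules.toSheaf R).map f) := by
    intro X
    have hcomp : ∀ f : SheafOfModules.unit R ⟶ X,
        a.homEquiv _ _ (θ ≫ (SheafOfModules.toSheaf R).map f) =
          φ₀ ≫ ((SheafOfModules.toSheaf R).map f).hom := fun f => by
      rw [a.homEquiv_naturality_right, Equiv.apply_symm_apply]
      rfl
    have happ : ∀ (f : SheafOfModules.unit R ⟶ X) (V : Cᵒᵖ),
        (φ₀ ≫ ((SheafOfModules.toSheaf R).map f).hom).app V (ULift.up (1 : ℤ)) =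
          (X.unitHomEquiv f).val V := fun f V =>
      congrArg (f.val.app V) (one_zsmul (1 : R.obj.obj V))
    refine ⟨fun f g h => X.unitHomEquiv.injective (Subtype.ext (funext fun V => ?_)), fun b => ?_⟩
    · rw [← happ, ← happ, ← hcomp, ← hcomp]
      exact congrArg (fun t => (a.homEquiv _ _ t).app V (ULift.up (1 : ℤ))) h
    · let t := a.homEquiv _ _ b
      let s : X.sections := ⟨fun V => t.app V (ULift.up (1 : ℤ)), fun {V W} g =>
        (NatTrans.naturality_apply t g (ULift.up (1 : ℤ))).symm⟩
      refine ⟨X.unitHomEquiv.symm s, (a.homEquiv _ _).injective ?_⟩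
      refine (hcomp _).trans ?_
      refine NatTrans.ext (funext fun V => AddCommGrpCat.hom_ext ?_)
      refine AddMonoidHom.ext fun k => ?_
      have hk : k = k.down • (ULift.up (1 : ℤ) : ULift.{u} ℤ) :=
        ULift.ext (x := (k : ULift.{u} ℤ)) (y := k.down • ULift.up (1 : ℤ))
          (zsmul_one (R := ℤ) k.down).symm
      rw [hk, map_zsmul, map_zsmul]
      refine congrArg (k.down • ·) ((happ (X.unitHomEquiv.symm s) V).trans ?_)
      rw [Equiv.apply_symm_apply]
  refine SiteCoh.ExtCompare.nonempty_ext_equiv (SheafOfModules.toSheaf R) θ hθ (fun I _ q => ?_) n M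
  let one : Cᵒᵖ ⥤ Type u := (Functor.const Cᵒᵖ).obj PUnit.{u + 1}
  let K : Sheaf J (Type u) := (presheafToSheaf J (Type u)).obj one
  have hW := SiteCoh.Free.isIso_freePre_map_of_W J (toSheafify J one) (J.W_toSheafify _)
  let c : one ⋙ AddCommGrpCat.free.{u} ≅ (Functor.const Cᵒᵖ).obj (AddCommGrpCat.of (ULift.{u} ℤ)) :=
    NatIso.ofComponents (fun _ => ((FreeAbelianGroup.uniqueEquiv PUnit.{u + 1}).trans
      AddEquiv.ulift.symm).toAddCommGrpIso) (fun g => by
        refine AddCommGrpCat.hom_ext (FreeAbelianGroup.lift_ext _ _ fun x => ?_)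
        rfl)
  let i : (constantSheaf J AddCommGrpCat.{u}).obj (AddCommGrpCat.of (ULift.{u} ℤ)) ≅
      (SiteCoh.Free.freePre J).obj K.obj :=
    (presheafToSheaf J AddCommGrpCat.{u}).mapIso c.symm ≪≫
      asIso ((SiteCoh.Free.freePre J).map (toSheafify J one))
  exact @Equiv.subsingleton _ _ (((Abelian.extFunctor (C := Sheaf J AddCommGrpCat.{u}) (q + 1)).flip.obj
    ((SheafOfModules.toSheaf R).obj I)).mapIso i.op).addCommGroupIsoToAddEquiv.symm.toEquiv
      (SiteCoh.ModuleFree.isTotallyAcyclic_toSheaf R I K q)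

end Groth.Agent.S0491
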