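import Groth.Prelude.Def_RDerDelta
import Mathlib.Algebra.Homology.HomologySequenceLemmas
import Mathlib.Algebra.Homology.SingleHomology
import Mathlib.CategoryTheory.Abelian.FunctorCategory

/-!
The horseshoe lemma for injective resolutions and the connecting maps of right derived functors.
-/

set_option autoImplicit false

universe v u v' u'

open CategoryTheory CategoryTheory.Limits HomologicalComplex RDer

noncomputable section

namespace Groth.Agent.RDerLES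

variable {C : Type u} [Category.{v} C] [Abelian C] {D : Type u'} [Category.{v'} D] [Abelian D]

/-- `H⁰` of an injective resolution is the resolved object. -/
def h0Iso {X : C} (I : InjectiveResolution X) : X ≅ I.cocomplex.homology 0 :=
  (singleObjHomologySelfIso (ComplexShape.up ℕ) 0 X).symm ≪≫
    asIso (homologyMap I.ι 0)

lemma single_nat {X Y : C} (f : X ⟶ Y) :
    f ≫ (singleObjHomologySelfIso (ComplexShape.up ℕ) 0 Y).inv =
      (singleObjHomologySelfIso (ComplexShape.up ℕ) 0 X).inv ≫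
        homologyMap ((CochainComplex.single₀ C).map f) 0 :=
  (homologyFunctorSingleIso C (ComplexShape.up ℕ) 0).inv.naturality f

lemma h0Iso_natural {X Y : C} (f : X ⟶ Y) (I : InjectiveResolution X) (J : InjectiveResolution Y)
    (φ : I.cocomplex ⟶ J.cocomplex) (w : I.ι ≫ φ = (CochainComplex.single₀ C).map f ≫ J.ι) :
    f ≫ (h0Iso J).hom = (h0Iso I).hom ≫ homologyMap φ 0 := by
  simp only [h0Iso, Iso.trans_hom, Iso.symm_hom, asIso_hom, Category.assoc, ← homologyMap_comp, w]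
  rw [homologyMap_comp]
  rw [← Category.assoc, single_nat f, Category.assoc]

lemma epi_g {S : ShortComplex C} (T : SESRes S) : Epi S.g := by
  have : Epi (homologyMap T.g 0) := (T.shortExact.homology_exact₃ 0 1 rfl).epi_f
    (((exactAt_iff_isZero_homology _ _).1 (T.I₁.cocomplex_exactAt_succ 0)).eq_of_tgt _ _)
  have e := h0Iso_natural S.g T.I₂ T.I₃ T.g T.ι_g
  have : Epi (S.g ≫ (h0Iso T.I₃).hom) := by rw [e]; exact epi_comp _ _
  have : S.g = (S.g ≫ (h0Iso T.I₃).hom) ≫ (h0Iso T.I₃).inv := by simp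
  rw [this]
  exact epi_comp _ _

lemma ι_null {X : C} (I : InjectiveResolution X) {L : CochainComplex C ℕ}
    (H : ∀ i j, I.cocomplex.X i ⟶ L.X j) : I.ι.f 0 ≫ (Homotopy.nullHomotopicMap H).f 0 = 0 := by
  show I.ι.f 0 ≫ (dNext 0 H + prevD 0 H) = 0
  rw [Homotopy.dNext_cochainComplex, Homotopy.prevD_zero_cochainComplex, add_zero, ← Category.assoc,
    I.ι_f_zero_comp_complex_d, zero_comp]

lemma ι_comp_f_zero {X Y : C} {f : X ⟶ Y} {I : InjectiveResolution X} {J : InjectiveResolution Y}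
    {φ : I.cocomplex ⟶ J.cocomplex} (w : I.ι ≫ φ = (CochainComplex.single₀ C).map f ≫ J.ι) :
    I.ι.f 0 ≫ φ.f 0 = f ≫ J.ι.f 0 := by
  have := congr_hom w 0
  rw [HomologicalComplex.comp_f, HomologicalComplex.comp_f,
    CochainComplex.single₀_map_f_zero] at this
  exact this

lemma glue₅ {E : Type u} [Category.{v} E] {A B W V P Q R S₀ : E} {x : A ⟶ P} {g : P ⟶ Q}
    {sg : A ⟶ B} {i : B ⟶ Q} {c : Q ⟶ V} {b : P ⟶ R} {g' : R ⟶ V} {p₂ : A ⟶ W} {x' : W ⟶ R}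
    {sg' : W ⟶ S₀} {i' : S₀ ⟶ V} {p₃ : B ⟶ S₀} (h₁ : x ≫ g = sg ≫ i) (h₂ : g ≫ c = b ≫ g')
    (h₃ : x ≫ b = p₂ ≫ x') (h₄ : x' ≫ g' = sg' ≫ i') (h₅ : p₂ ≫ sg' = sg ≫ p₃) :
    sg ≫ i ≫ c = sg ≫ p₃ ≫ i' := by
  rw [← reassoc_of% h₁, h₂, reassoc_of% h₃, h₄, reassoc_of% h₅]

lemma glue₃ {E : Type u'} [Category.{v'} E] {X X' P P' Q Q' Y Y' : E} {r : X ⟶ X'} {A : X ⟶ P}
    {A' : X' ⟶ P'} {m : P ⟶ P'} {d : P ⟶ Q} {d' : P' ⟶ Q'} {m₁ : Q ⟶ Q'} {B : Q ⟶ Y}
    {B' : Q' ⟶ Y'} {r₁ : Y ⟶ Y'} (h₁ : r ≫ A' = A ≫ m) (h₂ : B ≫ r₁ = m₁ ≫ B')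
    (h₃ : d ≫ m₁ = m ≫ d') : r ≫ (A' ≫ d' ≫ B') = (A ≫ d ≫ B) ≫ r₁ := by
  rw [reassoc_of% h₁, ← reassoc_of% h₃, Category.assoc, Category.assoc, h₂]

/-- A morphism of short complexes lifts to any resolutions of them. -/
lemma exists_lift {S S' : ShortComplex C} (φ : S ⟶ S') (T : SESRes S) (T' : SESRes S') :
    ∃ Φ : T.cx ⟶ T'.cx, T.I₁.ι.f 0 ≫ Φ.τ₁.f 0 = φ.τ₁ ≫ T'.I₁.ι.f 0 ∧
      T.I₃.ι.f 0 ≫ Φ.τ₃.f 0 = φ.τ₃ ≫ T'.I₃.ι.f 0 := by
  let a := InjectiveResolution.desc φ.τ₁ T'.I₁ T.I₁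
  let b₀ := InjectiveResolution.desc φ.τ₂ T'.I₂ T.I₂
  have h : Homotopy (T.f ≫ b₀) (a ≫ T'.f) :=
    InjectiveResolution.descHomotopy (S.f ≫ φ.τ₂) _ _
      (by
        rw [← Category.assoc, T.ι_f, Category.assoc, InjectiveResolution.desc_commutes,
          Functor.map_comp, Category.assoc])
      (by
        rw [← Category.assoc, InjectiveResolution.desc_commutes, Category.assoc, T'.ι_f,
          ← Category.assoc, ← Functor.map_comp, φ.comm₁₂])
  have hmono : ∀ i, Mono (T.f.f i) := fun i =>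
    (T.shortExact.map_of_exact (HomologicalComplex.eval C _ i)).mono_f
  let H : ∀ i j, T.I₂.cocomplex.X i ⟶ T'.I₂.cocomplex.X j := fun i j =>
    have := hmono i
    Injective.factorThru (h.hom i j) (T.f.f i)
  have hH : (fun i j => T.f.f i ≫ H i j) = h.hom := by
    funext i j
    have := hmono i
    exact Injective.comp_factorThru _ _
  let b := b₀ - Homotopy.nullHomotopicMap H
  have hb : T.f ≫ b = a ≫ T'.f := by
    rw [Preadditive.comp_sub, Homotopy.comp_nullHomotopicMap, hH, sub_eq_iff_eq_add]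
    ext i
    rw [h.comm i]
    show _ = _ + (dNext i h.hom + prevD i h.hom)
    abel
  have hbg : T.f ≫ b ≫ T'.g = 0 := by
    rw [← Category.assoc, hb, Category.assoc, T'.zero, comp_zero]
  let c : T.I₃.cocomplex ⟶ T'.I₃.cocomplex :=
    T.shortExact.gIsCokernel.desc (CokernelCofork.ofπ (b ≫ T'.g) hbg)
  have hc : T.g ≫ c = b ≫ T'.g := Cofork.IsColimit.π_desc T.shortExact.gIsCokernel
  refine ⟨⟨a, b, c, hb.symm, hc.symm⟩,
    InjectiveResolution.desc_commutes_zero φ.τ₁ T'.I₁ T.I₁, ?_⟩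
  show _ ≫ c.f 0 = _
  have := epi_g T
  refine (cancel_epi S.g).1 ?_
  have e1 := ι_comp_f_zero T.ι_g
  have e2 := ι_comp_f_zero T'.ι_g
  have e3 : T.g.f 0 ≫ c.f 0 = b.f 0 ≫ T'.g.f 0 := congr_hom hc 0
  have e4 : T.I₂.ι.f 0 ≫ b.f 0 = φ.τ₂ ≫ T'.I₂.ι.f 0 := by
    show T.I₂.ι.f 0 ≫ (b₀.f 0 - (Homotopy.nullHomotopicMap H).f 0) = _
    rw [Preadditive.comp_sub, ι_null, sub_zero]
    exact InjectiveResolution.desc_commutes_zero φ.τ₂ T'.I₂ T.I₂
  exact glue₅ e1 e3 e4 e2 φ.comm₂₃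

lemma delta_natural [HasInjectiveResolutions C] (F : C ⥤ D) [F.Additive] {S S' : ShortComplex C}
    (φ : S ⟶ S') (T : SESRes S) (T' : SESRes S') (n₀ n₁ : ℕ) (h : n₀ + 1 = n₁) :
    (F.rightDerived n₀).map φ.τ₃ ≫ T'.delta F n₀ n₁ h =
      T.delta F n₀ n₁ h ≫ (F.rightDerived n₁).map φ.τ₁ := by
  obtain ⟨Φ, h1, h3⟩ := exists_lift φ T T'
  have e3 := InjectiveResolution.isoRightDerivedObj_hom_naturality φ.τ₃ T.I₃ T'.I₃ Φ.τ₃ h3 F n₀
  have e1 := InjectiveResolution.isoRightDerivedObj_inv_naturality φ.τ₁ T.I₁ T'.I₁ Φ.τ₁ h1 F n₁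
  have ed := HomologicalComplex.HomologySequence.δ_naturality
    ((F.mapHomologicalComplex (ComplexShape.up ℕ)).mapShortComplex.map Φ)
    (T.map_shortExact F) (T'.map_shortExact F) n₀ n₁ h
  exact glue₃ e3 e1 ed

/-- The augmentation in degree zero, typed on the resolved object. -/
def ι0 {X : C} (I : InjectiveResolution X) : X ⟶ I.cocomplex.X 0 := I.ι.f 0

lemma ι0_d {X : C} (I : InjectiveResolution X) : ι0 I ≫ I.cocomplex.d 0 1 = 0 :=
  I.ι_f_zero_comp_complex_d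

instance mono_ι0 {X : C} (I : InjectiveResolution X) : Mono (ι0 I) :=
  inferInstanceAs (Mono (I.ι.f 0))

section Horseshoe

variable {S : ShortComplex C} (hS : S.ShortExact) (I₁ : InjectiveResolution S.X₁)
  (I₃ : InjectiveResolution S.X₃)

/-- The component of the middle augmentation. -/
def α : S.X₂ ⟶ I₁.cocomplex.X 0 :=
  haveI := hS.mono_f
  Injective.factorThru (ι0 I₁) S.f

lemma f_α : S.f ≫ α hS I₁ = ι0 I₁ := by
  haveI := hS.mono_f
  exact Injective.comp_factorThru (ι0 I₁) S.f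

lemma exists_τ₀ : ∃ τ : I₃.cocomplex.X 0 ⟶ I₁.cocomplex.X 1,
    S.g ≫ ι0 I₃ ≫ τ = -(α hS I₁ ≫ I₁.cocomplex.d 0 1) := by
  have h0 : S.f ≫ (-(α hS I₁ ≫ I₁.cocomplex.d 0 1)) = 0 := by
    rw [Preadditive.comp_neg, ← Category.assoc, f_α hS I₁, ι0_d I₁, neg_zero]
  refine ⟨Injective.factorThru (hS.gIsCokernel.desc (CokernelCofork.ofπ _ h0)) (ι0 I₃), ?_⟩
  erw [Injective.comp_factorThru]
  exact Cofork.IsColimit.π_desc hS.gIsCokernel

/-- The degree zero twist. -/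
def τ₀ : I₃.cocomplex.X 0 ⟶ I₁.cocomplex.X 1 := (exists_τ₀ hS I₁ I₃).choose

lemma τ₀_spec : S.g ≫ ι0 I₃ ≫ τ₀ hS I₁ I₃ = -(α hS I₁ ≫ I₁.cocomplex.d 0 1) :=
  (exists_τ₀ hS I₁ I₃).choose_spec

lemma ι_τ₀_d : ι0 I₃ ≫ τ₀ hS I₁ I₃ ≫ I₁.cocomplex.d 1 2 = 0 := by
  have := hS.epi_g
  rw [← cancel_epi S.g]
  rw [comp_zero, ← Category.assoc (ι0 I₃), ← Category.assoc, τ₀_spec,
    Preadditive.neg_comp, Category.assoc, HomologicalComplex.d_comp_d, comp_zero, neg_zero]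

/-- Two consecutive twists. -/
def τAux : (n : ℕ) → Σ' (p : I₃.cocomplex.X n ⟶ I₁.cocomplex.X (n + 1))
    (q : I₃.cocomplex.X (n + 1) ⟶ I₁.cocomplex.X (n + 2)),
      I₃.cocomplex.d n (n + 1) ≫ q = -(p ≫ I₁.cocomplex.d (n + 1) (n + 2))
  | 0 => ⟨τ₀ hS I₁ I₃, I₃.exact₀.descToInjective _
      (show ι0 I₃ ≫ (-(τ₀ hS I₁ I₃ ≫ I₁.cocomplex.d 1 2)) = 0 by
        exact (Preadditive.comp_neg (ι0 I₃) _).trans (neg_eq_zero.2 (ι_τ₀_d hS I₁ I₃))),
      I₃.exact₀.comp_descToInjective _ _⟩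
  | n + 1 => ⟨(τAux n).2.1, (I₃.exact_succ n).descToInjective _
      (show I₃.cocomplex.d n (n + 1) ≫ (-((τAux n).2.1 ≫ I₁.cocomplex.d (n + 2) (n + 3))) = 0 by
        rw [Preadditive.comp_neg, ← Category.assoc, (τAux n).2.2, Preadditive.neg_comp, neg_neg,
          Category.assoc, HomologicalComplex.d_comp_d, comp_zero]),
      (I₃.exact_succ n).comp_descToInjective _ _⟩

/-- The twisting maps. -/
def τ (n : ℕ) : I₃.cocomplex.X n ⟶ I₁.cocomplex.X (n + 1) := (τAux hS I₁ I₃ n).1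

lemma τ_spec (n : ℕ) : I₃.cocomplex.d n (n + 1) ≫ τ hS I₁ I₃ (n + 1) =
    -(τ hS I₁ I₃ n ≫ I₁.cocomplex.d (n + 1) (n + 2)) :=
  (τAux hS I₁ I₃ n).2.2

lemma τ_zero : τ hS I₁ I₃ 0 = τ₀ hS I₁ I₃ := rfl

/-- The middle differential. -/
def dMid (n : ℕ) : I₁.cocomplex.X n ⊞ I₃.cocomplex.X n ⟶
    I₁.cocomplex.X (n + 1) ⊞ I₃.cocomplex.X (n + 1) :=
  biprod.lift (biprod.fst ≫ I₁.cocomplex.d n (n + 1) + biprod.snd ≫ τ hS I₁ I₃ n)
    (biprod.snd ≫ I₃.cocomplex.d n (n + 1))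

lemma inl_dMid (n : ℕ) : biprod.inl ≫ dMid hS I₁ I₃ n = I₁.cocomplex.d n (n + 1) ≫ biprod.inl := by
  apply biprod.hom_ext <;> simp [dMid]

lemma dMid_comp (n : ℕ) : dMid hS I₁ I₃ n ≫ dMid hS I₁ I₃ (n + 1) = 0 := by
  ext <;> simp [dMid, τ_spec hS I₁ I₃ n, Preadditive.comp_neg]

/-- The middle complex. -/
def K : CochainComplex C ℕ :=
  CochainComplex.of (fun n => I₁.cocomplex.X n ⊞ I₃.cocomplex.X n) (dMid hS I₁ I₃)
    (dMid_comp hS I₁ I₃)

lemma K_d (n : ℕ) : (K hS I₁ I₃).d n (n + 1) = dMid hS I₁ I₃ n := CochainComplex.of_d _ (dMid hS I₁ I₃) n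

/-- The inclusion. -/
def kf : I₁.cocomplex ⟶ K hS I₁ I₃ where
  f n := (biprod.inl : _ ⟶ I₁.cocomplex.X n ⊞ I₃.cocomplex.X n)
  comm' := by
    rintro i j (rfl : i + 1 = j)
    rw [K_d]
    exact inl_dMid hS I₁ I₃ i

/-- The projection. -/
def kg : K hS I₁ I₃ ⟶ I₃.cocomplex where
  f n := (biprod.snd : I₁.cocomplex.X n ⊞ I₃.cocomplex.X n ⟶ _)
  comm' := by
    rintro i j (rfl : i + 1 = j)
    rw [K_d]
    exact (biprod.lift_snd _ _).symm

lemma kf_kg : kf hS I₁ I₃ ≫ kg hS I₁ I₃ = 0 := by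
  ext n
  exact biprod.inl_snd

lemma k_shortExact : (ShortComplex.mk _ _ (kf_kg hS I₁ I₃)).ShortExact := by
  apply HomologicalComplex.shortExact_of_degreewise_shortExact
  intro n
  exact ShortComplex.Splitting.shortExact
    { r := biprod.fst
      s := biprod.inr
      f_r := biprod.inl_fst
      s_g := biprod.inr_snd
      id := biprod.total }

/-- The middle augmentation in degree zero. -/
def kι₀ : S.X₂ ⟶ (K hS I₁ I₃).X 0 := biprod.lift (α hS I₁) (S.g ≫ ι0 I₃)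

lemma kι₀_dMid : biprod.lift (α hS I₁) (S.g ≫ ι0 I₃) ≫ dMid hS I₁ I₃ 0 = 0 := by
  apply biprod.hom_ext
  · simp only [dMid, Category.assoc, biprod.lift_fst, Preadditive.comp_add,
      biprod.lift_fst_assoc, biprod.lift_snd_assoc, zero_comp]
    rw [τ_zero, τ₀_spec hS I₁ I₃]
    exact add_neg_cancel _
  · simp only [dMid, Category.assoc, biprod.lift_snd, biprod.lift_snd_assoc, zero_comp]
    erw [ι0_d I₃, comp_zero]

lemma kι₀_d : kι₀ hS I₁ I₃ ≫ (K hS I₁ I₃).d 0 1 = 0 := by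
  rw [K_d]
  exact kι₀_dMid hS I₁ I₃

/-- The middle augmentation. -/
def kι : (CochainComplex.single₀ C).obj S.X₂ ⟶ K hS I₁ I₃ :=
  (CochainComplex.fromSingle₀Equiv _ _).symm ⟨kι₀ hS I₁ I₃, kι₀_d hS I₁ I₃⟩

lemma kι_f_zero : (kι hS I₁ I₃).f 0 = kι₀ hS I₁ I₃ :=
  congrArg Subtype.val
    ((CochainComplex.fromSingle₀Equiv (K hS I₁ I₃) S.X₂).apply_symm_apply
      ⟨kι₀ hS I₁ I₃, kι₀_d hS I₁ I₃⟩)

lemma ι0_inl : ι0 I₁ ≫ biprod.inl = S.f ≫ biprod.lift (α hS I₁) (S.g ≫ ι0 I₃) := by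
  apply biprod.hom_ext
  · simp [f_α hS I₁]
  · simp [S.zero_assoc]

lemma ι_kf : I₁.ι ≫ kf hS I₁ I₃ = (CochainComplex.single₀ C).map S.f ≫ kι hS I₁ I₃ := by
  apply (CochainComplex.fromSingle₀Equiv _ _).injective
  apply Subtype.ext
  show (I₁.ι ≫ kf hS I₁ I₃).f 0 = ((CochainComplex.single₀ C).map S.f ≫ kι hS I₁ I₃).f 0
  rw [HomologicalComplex.comp_f, HomologicalComplex.comp_f, kι_f_zero,
    CochainComplex.single₀_map_f_zero]
  exact ι0_inl hS I₁ I₃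

lemma kι_kg : kι hS I₁ I₃ ≫ kg hS I₁ I₃ = (CochainComplex.single₀ C).map S.g ≫ I₃.ι := by
  apply (CochainComplex.fromSingle₀Equiv _ _).injective
  apply Subtype.ext
  show (kι hS I₁ I₃ ≫ kg hS I₁ I₃).f 0 = ((CochainComplex.single₀ C).map S.g ≫ I₃.ι).f 0
  rw [HomologicalComplex.comp_f, HomologicalComplex.comp_f, kι_f_zero,
    CochainComplex.single₀_map_f_zero]
  exact biprod.lift_snd _ _

lemma kι_quasiIso : QuasiIso (kι hS I₁ I₃) := by
  have hK := k_shortExact hS I₁ I₃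
  rw [quasiIso_iff]
  intro n
  cases n with
  | zero =>
    rw [quasiIsoAt_iff_isIso_homologyMap]
    have : Mono (homologyMap (kf hS I₁ I₃) 0) :=
      have : Mono ((kf hS I₁ I₃).f 0) := inferInstanceAs (Mono biprod.inl)
      mono_homologyMap_of_mono_of_not_rel _ _ (by simp)
    have : Epi (homologyMap (kg hS I₁ I₃) 0) := (hK.homology_exact₃ 0 1 rfl).epi_f
      (((exactAt_iff_isZero_homology _ _).1 (I₁.cocomplex_exactAt_succ 0)).eq_of_tgt _ _)
    let S' : ShortComplex C := ShortComplex.mk (homologyMap (kf hS I₁ I₃) 0)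
      (homologyMap (kg hS I₁ I₃) 0) (by rw [← homologyMap_comp, kf_kg, homologyMap_zero])
    have hS' : S'.ShortExact := { exact := hK.homology_exact₂ 0 }
    let Φ : S ⟶ S' :=
      { τ₁ := (h0Iso I₁).hom
        τ₂ := (singleObjHomologySelfIso (ComplexShape.up ℕ) 0 S.X₂).inv ≫
          homologyMap (kι hS I₁ I₃) 0
        τ₃ := (h0Iso I₃).hom
        comm₁₂ := by
          dsimp [S', h0Iso]
          rw [Category.assoc, ← homologyMap_comp, ι_kf, homologyMap_comp, reassoc_of% (single_nat S.f)]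
        comm₂₃ := by
          dsimp [S', h0Iso]
          rw [Category.assoc, ← homologyMap_comp, kι_kg, homologyMap_comp, reassoc_of% (single_nat S.g)] }
    have : IsIso Φ.τ₂ := ShortComplex.isIso₂_of_shortExact_of_isIso₁₃' Φ hS hS'
      (inferInstanceAs (IsIso (h0Iso I₁).hom)) (inferInstanceAs (IsIso (h0Iso I₃).hom))
    have : homologyMap (kι hS I₁ I₃) 0 =
        (singleObjHomologySelfIso (ComplexShape.up ℕ) 0 S.X₂).hom ≫ Φ.τ₂ := by simp [Φ]
    rw [this]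
    exact IsIso.comp_isIso
  | succ n =>
    rw [quasiIsoAt_iff_exactAt _ _ (CochainComplex.exactAt_succ_single_obj _ _),
      exactAt_iff_isZero_homology]
    exact (hK.homology_exact₂ (n + 1)).isZero_X₂
      (((exactAt_iff_isZero_homology _ _).1 (I₁.cocomplex_exactAt_succ n)).eq_of_src _ _)
      (((exactAt_iff_isZero_homology _ _).1 (I₃.cocomplex_exactAt_succ n)).eq_of_tgt _ _)

/-- The horseshoe resolution. -/
def horseshoe : SESRes S where
  I₁ := I₁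
  I₃ := I₃
  I₂ :=
    { cocomplex := K hS I₁ I₃
      injective := fun n => inferInstanceAs (Injective (I₁.cocomplex.X n ⊞ I₃.cocomplex.X n))
      ι := kι hS I₁ I₃
      quasiIso := kι_quasiIso hS I₁ I₃ }
  f := kf hS I₁ I₃
  g := kg hS I₁ I₃
  zero := kf_kg hS I₁ I₃
  ι_f := ι_kf hS I₁ I₃
  ι_g := kι_kg hS I₁ I₃
  shortExact := k_shortExact hS I₁ I₃

end Horseshoe

lemma nonempty_sesRes [HasInjectiveResolutions C] {S : ShortComplex C} (hS : S.ShortExact) :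
    Nonempty (SESRes S) :=
  ⟨horseshoe hS (injectiveResolution _) (injectiveResolution _)⟩

section LES

variable [HasInjectiveResolutions C] (F : C ⥤ D) [F.Additive]

lemma map_eq {X Y : C} {f : X ⟶ Y} {I : InjectiveResolution X} {J : InjectiveResolution Y}
    {φ : I.cocomplex ⟶ J.cocomplex} (w : I.ι ≫ φ = (CochainComplex.single₀ C).map f ≫ J.ι)
    (n : ℕ) : (F.rightDerived n).map f ≫ (J.isoRightDerivedObj F n).hom =
      (I.isoRightDerivedObj F n).hom ≫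
        homologyMap ((F.mapHomologicalComplex _).map φ) n :=
  InjectiveResolution.isoRightDerivedObj_hom_naturality f I J φ (ι_comp_f_zero w) F n

lemma conj {E : Type u'} [Category.{v'} E] {X Y P Q : E} {r : X ⟶ Y} {A : X ≅ P} {B : Y ≅ Q}
    {m : P ⟶ Q} (w : r ≫ B.hom = A.hom ≫ m) : A.inv ≫ r = m ≫ B.inv := by
  rw [Iso.inv_comp_eq, ← reassoc_of% w, Iso.hom_inv_id, Category.comp_id]

lemma glue_comp_δ {E : Type u'} [Category.{v'} E] [HasZeroMorphisms E] {X Y Z P Q R : E}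
    {r : X ⟶ Y} {A : Y ≅ Q} {B : X ≅ P} {d : Q ⟶ R} {C' : Z ≅ R} {m : P ⟶ Q}
    (w : r ≫ A.hom = B.hom ≫ m) (h : m ≫ d = 0) : r ≫ (A.hom ≫ d ≫ C'.inv) = 0 := by
  rw [reassoc_of% w, reassoc_of% h, zero_comp, comp_zero]

lemma glue_δ_comp {E : Type u'} [Category.{v'} E] [HasZeroMorphisms E] {X Y Z P Q R : E}
    {r : Y ⟶ Z} {A : X ≅ P} {B : Y ≅ Q} {C' : Z ≅ R} {d : P ⟶ Q} {m : Q ⟶ R}
    (w : r ≫ C'.hom = B.hom ≫ m) (h : d ≫ m = 0) : (A.hom ≫ d ≫ B.inv) ≫ r = 0 := by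
  rw [Category.assoc, Category.assoc, conj w, reassoc_of% h, zero_comp, comp_zero]

lemma glue_inv {E : Type u'} [Category.{v'} E] {X Y P Q : E} (A : X ≅ P) (B : Y ≅ Q) (d : P ⟶ Q) :
    A.inv ≫ (A.hom ≫ d ≫ B.inv) = d ≫ B.inv := Iso.inv_hom_id_assoc _ _

/-- The long exact sequence of right derived functors. -/
def derivedLES : DerivedLES F where
  δ S hS n₀ n₁ h := (nonempty_sesRes hS).some.delta F n₀ n₁ h
  δ_eq S hS T n₀ n₁ h := by
    simpa using delta_natural F (𝟙 S) T (nonempty_sesRes hS).some n₀ n₁ h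
  δ_natural hS hS' φ n₀ n₁ h := delta_natural F φ _ _ n₀ n₁ h
  exact₂ S hS n :=
    let T := (nonempty_sesRes hS).some
    ShortComplex.exact_of_iso (ShortComplex.isoMk (T.I₁.isoRightDerivedObj F n).symm
      (T.I₂.isoRightDerivedObj F n).symm (T.I₃.isoRightDerivedObj F n).symm
      (conj (map_eq F T.ι_f n)) (conj (map_eq F T.ι_g n)))
      ((T.map_shortExact F).homology_exact₂ n)
  comp_δ S hS n₀ n₁ h :=
    let T := (nonempty_sesRes hS).some
    glue_comp_δ (map_eq F T.ι_g n₀) ((T.map_shortExact F).comp_δ n₀ n₁ h)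
  exact₃ S hS n₀ n₁ h :=
    let T := (nonempty_sesRes hS).some
    ShortComplex.exact_of_iso (ShortComplex.isoMk (T.I₂.isoRightDerivedObj F n₀).symm
      (T.I₃.isoRightDerivedObj F n₀).symm (T.I₁.isoRightDerivedObj F n₁).symm
      (conj (map_eq F T.ι_g n₀)) (glue_inv _ _ _))
      ((T.map_shortExact F).homology_exact₃ n₀ n₁ h)
  δ_comp S hS n₀ n₁ h :=
    let T := (nonempty_sesRes hS).some
    glue_δ_comp (map_eq F T.ι_f n₁) ((T.map_shortExact F).δ_comp n₀ n₁ h)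
  exact₁ S hS n₀ n₁ h :=
    let T := (nonempty_sesRes hS).some
    ShortComplex.exact_of_iso (ShortComplex.isoMk (T.I₃.isoRightDerivedObj F n₀).symm
      (T.I₁.isoRightDerivedObj F n₁).symm (T.I₂.isoRightDerivedObj F n₁).symm
      (glue_inv _ _ _) (conj (map_eq F T.ι_f n₁)))
      ((T.map_shortExact F).homology_exact₁ n₀ n₁ h)

end LES

end Groth.Agent.RDerLES
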