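import Groth.Statements.S2150
import Mathlib
import Groth.Agent.FBase.SepClosed
-- import your own Groth.Agent.* helpers here

set_option autoImplicit false
universe u
open CAlg

namespace Groth.Agent.S2150

open TensorProduct in
/-- For a field extension `K/k`, the spectrum of `k' ⊗_k K` is irreducible for every field extension
`k'/k` (geometric irreducibility, extensions in the same universe) if and only if every element of
`K` which is separable algebraic over `k` lies in `k`. -/
theorem result {k K : Type u} [Field k] [Field K] [Algebra k K] :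
    (∀ (k' : Type u) [Field k'] [Algebra k k'], IrreducibleSpace (PrimeSpectrum (k' ⊗[k] K))) ↔
      ∀ α : K, IsSeparable k α → α ∈ Set.range (algebraMap k K) := by
  constructor
  · intro h α hα
    by_contra hα'
    have hint : IsIntegral k α := hα.isIntegral
    let F := IntermediateField.adjoin k {α}
    haveI : FiniteDimensional k F := IntermediateField.adjoin.finiteDimensional hint
    haveI : IrreducibleSpace (PrimeSpectrum (F ⊗[k] K)) := h F
    haveI : (nilradical (F ⊗[k] K)).IsPrime := PrimeSpectrum.irreducibleSpace_iff_isPrime_nilradical.mp inferInstance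
    haveI : (nilradical (K ⊗[k] F)).IsPrime := Groth.Agent.FBase.TensorAlgClosed.isPrime_nilradical_of_injective (A := K ⊗[k] F) (B := F ⊗[k] K)
      (Algebra.TensorProduct.comm k K F).toAlgHom.toRingHom (Algebra.TensorProduct.comm k K F).injective
    haveI := Groth.Agent.FBase.SepClosed.subsingleton_primeSpectrum_of_isIntegral (κ := K) (A := K ⊗[k] F) ‹_›
    let i : K →ₐ[k] AlgebraicClosure K := IsScalarTower.toAlgHom k K _
    let σ₁ : F →ₐ[k] AlgebraicClosure K := i.comp F.val
    have hdeg : 1 < (minpoly k α).natDegree := by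
      show 2 ≤ _
      rw [minpoly.two_le_natDegree_iff hint]
      rintro ⟨c, hc⟩; exact hα' ⟨c, hc⟩
    obtain ⟨β, hβ, hne⟩ : ∃ β : AlgebraicClosure K, Polynomial.aeval β (minpoly k α) = 0 ∧ β ≠ i α := by
      classical
      by_contra hall
      push Not at hall
      have hsub : (minpoly k α).rootSet (AlgebraicClosure K) ⊆ {i α} := fun β hβ =>
        hall β ((Polynomial.mem_rootSet.mp hβ).2)
      have hcard := Polynomial.card_rootSet_eq_natDegree (K := AlgebraicClosure K) hα (IsAlgClosed.splits _)
      rw [← Nat.card_eq_fintype_card] at hcard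
      have := Nat.card_mono (Set.finite_singleton (i α)) hsub
      rw [hcard] at this
      simp at this
      omega
    let pb := IntermediateField.adjoin.powerBasis hint
    let σ₂ : F →ₐ[k] AlgebraicClosure K := pb.lift β (by
      rw [IntermediateField.adjoin.powerBasis_gen, IntermediateField.minpoly_gen]; exact hβ)
    let Φ₁ : K ⊗[k] F →ₐ[k] AlgebraicClosure K := Algebra.TensorProduct.productMap i σ₁
    let Φ₂ : K ⊗[k] F →ₐ[k] AlgebraicClosure K := Algebra.TensorProduct.productMap i σ₂
    have hker : RingHom.ker Φ₁.toRingHom = RingHom.ker Φ₂.toRingHom :=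
      congrArg PrimeSpectrum.asIdeal (Subsingleton.elim
        (⟨_, RingHom.ker_isPrime Φ₁.toRingHom⟩ : PrimeSpectrum (K ⊗[k] F)) ⟨_, RingHom.ker_isPrime Φ₂.toRingHom⟩)
    let g : F := ⟨α, IntermediateField.mem_adjoin_simple_self k α⟩
    have h1 : (1 : K) ⊗ₜ[k] g - α ⊗ₜ[k] (1 : F) ∈ RingHom.ker Φ₁.toRingHom := by
      show Φ₁ _ = 0
      simp [Φ₁, σ₁, g]
    rw [hker] at h1
    have h2 : σ₂ g = i α := by
      have h3 : Φ₂ ((1 : K) ⊗ₜ[k] g - α ⊗ₜ[k] (1 : F)) = 0 := h1
      simpa [Φ₂, sub_eq_zero] using h3
    refine hne ?_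
    rw [← h2, show g = pb.gen from (Subtype.ext (by rfl))]
    exact (pb.lift_gen _ _).symm
  · intro h k' _ _
    have hbot : separableClosure k K = ⊥ := le_antisymm (fun x hx => by
      obtain ⟨c, hc⟩ := h x (mem_separableClosure_iff.mp hx)
      exact IntermediateField.mem_bot.mpr ⟨c, hc⟩) bot_le
    haveI := Groth.Agent.FBase.SepClosed.isPrime_nilradical_tensor hbot k'
    rw [PrimeSpectrum.irreducibleSpace_iff_isPrime_nilradical]
    exact Groth.Agent.FBase.TensorAlgClosed.isPrime_nilradical_of_injective
      (Algebra.TensorProduct.comm k k' K).toRingHom (Algebra.TensorProduct.comm k k' K).injective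

end Groth.Agent.S2150
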