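import Groth.Statements.S19702
import Groth.Agent.GrpScheme.AntiAffine
import Mathlib.AlgebraicGeometry.Morphisms.FlatDescent
-- import your own Groth.Agent.* helpers here

set_option autoImplicit false
universe u
open CategoryTheory MonoidalCategory CartesianMonoidalCategory MonObj GrpObj AlgebraicGeometry CategoryTheory.Limits
open AlgGrp

namespace Groth.Agent.S19702

/-- Let k be a field, K a field extension of k and G a k-group scheme of finite type. Then G is
anti-affine, i.e. O(G) = k, if and only if the base change G_K is anti-affine, i.e. O(G_K) = K. -/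
theorem result (k : Type u) [Field k] (K : Type u) [Field K] [Algebra k K]
    (G : Over (Spec (CommRingCat.of k))) [GrpObj G] [LocallyOfFiniteType G.hom] [QuasiCompact G.hom] :
    Function.Bijective ((Scheme.ΓSpecIso (CommRingCat.of k)).inv ≫ G.hom.appTop).hom ↔
      Function.Bijective ((Scheme.ΓSpecIso (CommRingCat.of K)).inv ≫ (Red.bc (Spec.map (CommRingCat.ofHom (algebraMap k K))) G).hom.appTop).hom := by
  rw [GrpScheme.AntiAffine.bijective_iff_isIso G, GrpScheme.AntiAffine.bijective_iff_isIso]
  have : CompactSpace G.left := QuasiCompact.compactSpace_of_compactSpace G.hom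
  have : IsLocallyNoetherian G.left := LocallyOfFiniteType.isLocallyNoetherian G.hom
  have : QuasiSeparated G.hom := (quasiSeparated_iff_quasiSeparatedSpace G.hom).2 inferInstance
  let P : Over (Spec (CommRingCat.of k)) := Over.mk (Spec.map (CommRingCat.ofHom (algebraMap k K)))
  have : CompactSpace P.left := inferInstanceAs (CompactSpace (Spec (CommRingCat.of K)))
  have : QuasiSeparated P.hom := inferInstanceAs (QuasiSeparated (Spec.map _))
  have h := GrpScheme.QuasiAffine.isPushout_tensor G P
  have h' : IsPushout G.hom.appTop P.hom.appTop (fst G P).left.appTop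
      (Red.bc P.hom G).hom.appTop := h
  constructor
  · intro
    exact h'.isIso_inr_of_isIso
  · intro hK
    have : IsAffine P.left := inferInstanceAs (IsAffine (Spec (CommRingCat.of K)))
    let eP := arrowIsoSpecΓOfIsAffine P.hom
    have : Nonempty P.left := inferInstanceAs (Nonempty (PrimeSpectrum K))
    have : Surjective P.hom := ⟨fun y => ⟨Classical.arbitrary P.left, Subsingleton.elim (α := PrimeSpectrum k) _ _⟩⟩
    have hflat : Flat (Spec.map P.hom.appTop) :=
      haveI : MorphismProperty.RespectsIso (@Flat : MorphismProperty Scheme.{u}) :=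
        (MorphismProperty.IsStableUnderBaseChange.respectsIso (P := (@Flat : MorphismProperty Scheme.{u})))
      (MorphismProperty.arrow_mk_iso_iff @Flat eP).1 inferInstance
    have hsurj : Surjective (Spec.map P.hom.appTop) :=
      (MorphismProperty.arrow_mk_iso_iff @Surjective eP).1 inferInstance
    have hK' : MorphismProperty.isomorphisms Scheme.{u} (Spec.map (Red.bc P.hom G).hom.appTop) :=
      have : IsIso (Red.bc P.hom G).hom.appTop := hK
      inferInstanceAs (IsIso (Spec.map _))
    have : IsIso (Spec.map G.hom.appTop) := MorphismProperty.of_isPullback_of_descendsAlong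
      (P := MorphismProperty.isomorphisms Scheme.{u}) (Q := @Surjective ⊓ @Flat ⊓ @QuasiCompact)
      (isPullback_SpecMap_of_isPushout _ _ _ _ h').flip ⟨⟨hsurj, hflat⟩, inferInstance⟩ hK'
    have : IsIso (Scheme.Spec.map G.hom.appTop.op) := this
    have := isIso_of_reflects_iso G.hom.appTop.op Scheme.Spec
    exact isIso_of_op _

end Groth.Agent.S19702
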