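import Groth.Statements.S10205
import Groth.Agent.AlgSpB.Art.EtaleChart
import Mathlib.AlgebraicGeometry.Artinian
import Mathlib.AlgebraicGeometry.Morphisms.FlatDescent
import Mathlib.RingTheory.Unramified.Finite

set_option autoImplicit false
set_option backward.isDefEq.respectTransparency false
set_option backward.isDefEq.respectTransparency.types false

universe u
open CategoryTheory CategoryTheory.Limits AlgebraicGeometry Topology TopologicalSpace
open AlgSp

namespace Groth.Agent.S10205

theorem isFinite_of_etale_qc {R : Scheme.{u}} {k : Type u} [Field k] (s : R ⟶ Spec (CommRingCat.of k))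
    [Etale s] [QuasiCompact s] : IsFinite s := by
  have hR : IsLocallyArtinian R :=
    have : LocallyQuasiFinite s := AlgSpB.lqf_of_lft_unramified s
    IsLocallyArtinian.of_locallyQuasiFinite s
  have : CompactSpace R := QuasiCompact.compactSpace_of_compactSpace s
  have : IsArtinianScheme R := { hR with }
  obtain ⟨φ, hφ⟩ := Spec.map_surjective (R.isoSpec.inv ≫ s)
  have : Etale (Spec.map φ) := hφ ▸ inferInstance
  have het : φ.hom.Etale := (HasRingHomProperty.Spec_iff (P := @Etale)).1 ‹_›
  have hfin : φ.hom.Finite := by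
    algebraize [φ.hom]
    exact RingHom.finite_algebraMap.2 (Algebra.FormallyUnramified.finite_of_free k _)
  have : IsFinite (Spec.map φ) := (IsFinite.SpecMap_iff (f := φ)).2 hfin
  have e : s = R.isoSpec.hom ≫ Spec.map φ := by rw [hφ, Iso.hom_inv_id_assoc]
  rw [e]
  infer_instance

/-- Let X be an algebraic space over a scheme S, k a field with a structure morphism Spec k ⟶ S, and p :
h_{Spec k} ⟶ X a surjective etale map. If the diagonal of X over S is quasi-compact, then X ≅
h_{Spec k'} for a field k' over S, where p corresponds to a finite etale morphism Spec k ⟶ Spec k'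
over S (that is, k is a finite separable extension of k'). (The published statement assumes X
quasi-separated in the absolute sense; the argument only uses that Spec k ×_X Spec k is
quasi-compact, which already follows from quasi-compactness of the diagonal over S since Spec k ×_S
Spec k is affine.) -/
theorem result {S : Scheme.{u}} (X : AlgSp.Space S)
    (hX : AlgSp.IsQuasiSeparatedSp X.obj) (k : Type u) [Field k] (str : Spec (CommRingCat.of k) ⟶ S)
    (p : (AlgSp.yon S).obj (Over.mk str) ⟶ X.obj) (hp : AlgSp.RepWith @Etale p) (hs : AlgSp.RepWith @Surjective p) :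
    ∃ (k' : Type u) (_ : Field k') (str' : Spec (CommRingCat.of k') ⟶ S)
      (e : (AlgSp.yon S).obj (Over.mk str') ≅ X.obj) (c : Over.mk str ⟶ Over.mk str'),
      (AlgSp.yon S).map c ≫ e.hom = p ∧ IsFinite c.left ∧ Etale c.left := by
  obtain ⟨R, t, s, sq⟩ := AlgSpB.exists_pullback_yon hp.1 p
  let U : Over S := Over.mk str
  have : Etale s.left := hp.2 _ _ _ sq
  have hqcU : QuasiCompact U.hom := ⟨fun W _ _ => by
    have : Subsingleton ↥U.left := inferInstanceAs (Subsingleton (PrimeSpectrum k))
    exact (Set.subsingleton_of_subsingleton.finite).isCompact⟩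
  have hpr : IsPullback (prod.fst : U ⨯ U ⟶ U).left (prod.snd : U ⨯ U ⟶ U).left U.hom U.hom :=
    CategoryTheory.Over.isPullback_of_binaryFan_isLimit (BinaryFan.mk prod.fst prod.snd) (prodIsProd U U)
  have hsnd : QuasiCompact (prod.snd : U ⨯ U ⟶ U).left := MorphismProperty.of_isPullback hpr hqcU
  have hlift : QuasiCompact (prod.lift t s).left := by
    have h : AlgSp.RepWith @QuasiCompact (prod.lift ((AlgSp.yon S).map t) ((AlgSp.yon S).map s)) :=
      MorphismProperty.of_isPullback (AlgSp.isPullback_diag_prodMap p sq) hX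
    rw [AlgSp.prodLift_map] at h
    exact (AlgSp.repWith_yon_map_iff _ _).1 ((MorphismProperty.cancel_right_of_respectsIso _ _ _).1 h)
  have : QuasiCompact s.left := by
    rw [show s.left = (prod.lift t s).left ≫ (prod.snd : U ⨯ U ⟶ U).left by rw [← Over.comp_left, prod.lift_snd]]
    infer_instance
  have : IsFinite s.left := isFinite_of_etale_qc s.left
  have hE : AlgSp.IsEqvRel s t := AlgSpB.isEqvRel_of_isPullback sq
  obtain ⟨M, q, _, _, _, _, sqM⟩ := AlgSpB.Art.exists_finLocFree_quotient t s hE
    (fun x => ⟨⊤, @isAffineOpen_top _ (inferInstanceAs (IsAffine (Spec (CommRingCat.of k)))), fun _ _ => trivial⟩)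
  have : Sheaf.IsLocallySurjective ((AlgSp.yon S).map q) := AlgSp.isLocallySurjective_of_fppf_lift _
    fun T g => by
      obtain ⟨g, rfl⟩ := (AlgSp.yon S).map_surjective g
      refine ⟨pullback g q, pullback.fst g q, (AlgSp.yon S).map (pullback.snd g q),
        MorphismProperty.of_isPullback ((IsPullback.of_hasPullback g q).map (Over.forget S)).flip ‹Flat q.left›,
        MorphismProperty.of_isPullback ((IsPullback.of_hasPullback g q).map (Over.forget S)).flip ‹Surjective q.left›,
        MorphismProperty.of_isPullback ((IsPullback.of_hasPullback g q).map (Over.forget S)).flip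
          ‹LocallyOfFinitePresentation q.left›, ?_⟩
      rw [← Functor.map_comp, ← Functor.map_comp, pullback.condition]
  have := AlgSp.isLocallySurjective_of_etale_surjective p hp hs
  obtain ⟨hA⟩ := AlgSp.isColimit_of_isPullback ((AlgSp.yon S).map q) sqM
  obtain ⟨hB⟩ := AlgSp.isColimit_of_isPullback p sq
  let e := hA.coconePointUniqueUpToIso hB
  have he : (AlgSp.yon S).map q ≫ e.hom = p :=
    IsColimit.comp_coconePointUniqueUpToIso_hom hA hB WalkingParallelPair.one
  have : Subsingleton ↥M.left := ⟨fun a b => by
    obtain ⟨x, rfl⟩ := q.left.surjective a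
    obtain ⟨y, rfl⟩ := q.left.surjective b
    have : Subsingleton ↥(Over.mk str).left := inferInstanceAs (Subsingleton (PrimeSpectrum k))
    rw [Subsingleton.elim x y]⟩
  have : IsAffine M.left := inferInstance
  obtain ⟨φ, hφ⟩ := Spec.map_surjective (q.left ≫ M.left.isoSpec.hom)
  have : IsFinite (Spec.map φ) := hφ ▸ inferInstance
  have : Surjective (Spec.map φ) := hφ ▸ inferInstance
  have : Flat (Spec.map φ) := hφ ▸ inferInstance
  have hff : φ.hom.FaithfullyFlat := (flat_and_surjective_SpecMap_iff φ).1 ⟨inferInstance, inferInstance⟩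
  have hfin : φ.hom.Finite := (IsFinite.SpecMap_iff (f := φ)).1 inferInstance
  have hfield : IsField Γ(M.left, ⊤) := by
    algebraize [φ.hom]
    have : FaithfulSMul Γ(M.left, ⊤) k := (faithfulSMul_iff_algebraMap_injective _ _).2 hff.injective
    have : IsDomain Γ(M.left, ⊤) := Function.Injective.isDomain φ.hom hff.injective
    exact isField_of_isIntegral_of_isField (R := Γ(M.left, ⊤)) (S := k) hff.injective (Field.toIsField k)
  refine ⟨Γ(M.left, ⊤), hfield.toField, M.left.isoSpec.inv ≫ M.hom, ?_⟩
  let i : Over.mk (M.left.isoSpec.inv ≫ M.hom) ≅ M := Over.isoMk M.left.isoSpec.symm rfl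
  let c : Over.mk str ⟶ Over.mk (M.left.isoSpec.inv ≫ M.hom) := q ≫ i.inv
  have hc : (AlgSp.yon S).map c ≫ ((AlgSp.yon S).mapIso i ≪≫ e).hom = p := by
    simp [c, ← he]
  refine ⟨(AlgSp.yon S).mapIso i ≪≫ e, c, hc, inferInstanceAs (IsFinite (q.left ≫ M.left.isoSpec.hom)), ?_⟩
  refine (AlgSp.repWith_yon_map_iff _ _).1 ?_
  exact (MorphismProperty.cancel_right_of_respectsIso _ _ ((AlgSp.yon S).mapIso i ≪≫ e).hom).1 (hc.symm ▸ hp)

end Groth.Agent.S10205
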