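import Groth.Statements.S0342
import Groth.Agent.Gor.FlatLocal
import Groth.Agent.RegLoc.Homological

set_option autoImplicit false
universe u v
open Goren

namespace Groth.Agent.S0342

/-- Regular local rings have finite injective dimension over themselves, i.e. are Gorenstein. -/
theorem result (A : Type u) [CommRing A] [IsRegularLocalRing A] : LocCoh.IsGorensteinLocalRing A := by
  obtain ⟨d, hd⟩ := Gor.Basic.exists_natCast_ringKrullDim (A := A)
  refine Gor.Basic.gorenstein_mk (Gor.InjDim.hasInjectiveDimensionLT_of_residue A d fun i hi => ?_)
  have := RegLoc.Homological.pd_le_dim hd (IsLocalRing.ResidueField A)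
  exact CategoryTheory.HasProjectiveDimensionLT.subsingleton _ (d + 1) i hi _

end Groth.Agent.S0342
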