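import Groth.Statements.S5373
import Mathlib
-- import your own Groth.Agent.* helpers here

set_option autoImplicit false
universe u
open CategoryTheory CategoryTheory.Limits MonoidalCategory CartesianMonoidalCategory MonObj GrpObj AlgebraicGeometry
open SGA3
set_option backward.isDefEq.respectTransparency false

namespace Groth.Agent.S5373

lemma isClosed_of_preimage {Y Z T : Scheme.{u}} (q : Z ⟶ Y) [Flat q]
    (hcov : ∀ V : Y.Opens, IsAffineOpen V → ∃ W : Z.Opens, IsCompact (W : Set Z) ∧ q.base '' (W : Set Z) = (V : Set Y))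
    (ρ : T ⟶ Y) (A : Set T)
    (hA : ∀ (P : Scheme.{u}) (g : P ⟶ T) (z : P ⟶ Z), g ≫ ρ = z ≫ q → IsClosed (g ⁻¹' A)) :
    IsClosed A := by
  refine (TopologicalSpace.IsOpenCover.isClosed_iff_coe_preimage
    (U := fun V : Y.affineOpens => ρ ⁻¹ᵁ V.1) ?_).mpr fun V => ?_
  · refine top_le_iff.mp fun x _ => TopologicalSpace.Opens.mem_iSup.mpr ?_
    obtain ⟨V, hV, hxV, -⟩ := exists_isAffineOpen_mem_and_subset (x := ρ x) (U := ⊤) trivial
    exact ⟨⟨V, hV⟩, hxV⟩
  obtain ⟨W, hW, hWV⟩ := hcov V.1 V.2
  have hWV' : W ≤ q ⁻¹ᵁ V.1 := fun x hx => by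
    show q x ∈ (V.1 : Set Y)
    rw [← hWV]
    exact ⟨x, hx, rfl⟩
  let qW : (W : Scheme) ⟶ V.1 := q.resLE V.1 W hWV'
  have : IsAffine (V.1 : Scheme) := V.2
  have : CompactSpace (W : Scheme) := isCompact_iff_compactSpace.mp hW
  have : QuasiCompact qW := (quasiCompact_iff_compactSpace qW).mpr inferInstance
  have : Flat qW := by
    show Flat (q.resLE V.1 W hWV')
    delta Scheme.Hom.resLE
    infer_instance
  have : Surjective qW := ⟨fun y => by
    obtain ⟨x, hx, hxy⟩ := (hWV.ge y.2 : y.1 ∈ q.base '' (W : Set Z))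
    exact ⟨⟨x, hx⟩, Subtype.ext (by
      rw [← hxy]
      show ((qW ≫ V.1.ι) ⟨x, hx⟩) = _
      rw [Scheme.Hom.resLE_comp_ι]; rfl)⟩⟩
  let g' := Limits.pullback.fst (ρ ∣_ V.1) qW
  have hq := Flat.isQuotientMap_of_surjective g'
  refine hq.isClosed_preimage.mp ?_
  refine hA _ (g' ≫ (ρ ⁻¹ᵁ V.1).ι) (Limits.pullback.snd (ρ ∣_ V.1) qW ≫ W.ι) ?_
  rw [Category.assoc, Category.assoc, ← morphismRestrict_ι, ← Scheme.Hom.resLE_comp_ι q hWV',
    reassoc_of% Limits.pullback.condition]

set_option backward.isDefEq.respectTransparency false in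
lemma isPullback_diagonal (S : Scheme.{u}) (X Y : Over S) (p : X ⟶ Y) :
    IsPullback ((Limits.pullback.fst p p).left ≫ p.left)
      (lift (Limits.pullback.fst p p) (Limits.pullback.snd p p)).left
      (Limits.pullback.diagonal Y.hom)
      (Limits.pullback.map X.hom X.hom Y.hom Y.hom p.left p.left (𝟙 S)
        (by rw [Category.comp_id, Over.w]) (by rw [Category.comp_id, Over.w])) := by
  have h := Limits.pullback_map_diagonal_isPullback p.left p.left Y.hom
  let e : (Limits.pullback p p).left ≅ Limits.pullback p.left p.left := ((IsPullback.of_hasPullback p p).map (Over.forget S)).isoPullback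
  have e1 : e.hom ≫ Limits.pullback.fst p.left p.left = (Limits.pullback.fst p p).left :=
    IsPullback.isoPullback_hom_fst _
  have e2 : e.hom ≫ Limits.pullback.snd p.left p.left = (Limits.pullback.snd p p).left :=
    IsPullback.isoPullback_hom_snd _
  refine h.of_iso e.symm (Iso.refl _) (Limits.pullback.congrHom (Over.w p) (Over.w p)) (Iso.refl _) ?_ ?_ ?_ ?_
  · simp [← e1]
  · refine Limits.pullback.hom_ext (f := X.hom) (g := X.hom) ?_ ?_
    · show (_ ≫ _) ≫ _ = (_ ≫ _) ≫ (fst X X).left
      simp [← e1, Limits.pullback.map]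
    · show (_ ≫ _) ≫ _ = (_ ≫ _) ≫ (snd X X).left
      simp [← e2, Limits.pullback.map]
  · simp
  · apply Limits.pullback.hom_ext <;> simp [Limits.pullback.map]

/-- Let p : X → Y be a morphism of S-schemes and v : X ×_Y X → X ×_S X the canonical monomorphism (the
graph of the effective equivalence relation defined by p). Then (i) v is an immersion, and a closed
immersion if Y is separated over S; (ii) if p is covering for the fpqc topology (some Z → Y which is
flat, surjective, with every affine open of Y the image of a quasi-compact open of Z, factors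
through p), so that Y represents the quotient sheaf of X by this equivalence relation, and v is a
closed immersion, then Y is separated over S. -/
theorem result (S : Scheme.{u}) (X Y : Over S) (p : X ⟶ Y) :
    letI v : (pullback p p) ⟶ X ⊗ X := lift (pullback.fst p p) (pullback.snd p p)
    IsImmersion v.left ∧ (IsSeparated Y.hom → IsClosedImmersion v.left) ∧
    ((∃ (Z : Scheme.{u}) (q : Z ⟶ Y.left) (r : Z ⟶ X.left), r ≫ p.left = q ∧ Surjective q ∧ Flat q ∧
        ∀ V : Y.left.Opens, IsAffineOpen V → ∃ W : Z.Opens, IsCompact (W : Set Z) ∧ q.base '' (W : Set Z) = (V : Set Y.left)) →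
      IsClosedImmersion v.left → IsSeparated Y.hom) := by
  let v : (Limits.pullback p p) ⟶ X ⊗ X := lift (Limits.pullback.fst p p) (Limits.pullback.snd p p)
  have sq := isPullback_diagonal S X Y p
  have himm : IsImmersion v.left := MorphismProperty.of_isPullback sq inferInstance
  refine ⟨himm, fun _ => MorphismProperty.of_isPullback sq inferInstance, ?_⟩
  rintro ⟨Z, q, r, hr, -, hq, hcov⟩ hv
  set Δ := Limits.pullback.diagonal Y.hom
  set PP := Limits.pullback.map X.hom X.hom Y.hom Y.hom p.left p.left (𝟙 S)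
    (by rw [Category.comp_id, Over.w]) (by rw [Category.comp_id, Over.w]) with hPP
  have hrange : Set.range v.left = PP ⁻¹' Set.range Δ := by
    rw [← Scheme.Pullback.range_snd, ← sq.isoPullback_hom_snd, Scheme.Hom.comp_base, TopCat.coe_comp,
      Set.range_comp, Set.range_eq_univ.mpr sq.isoPullback.hom.surjective, Set.image_univ]
    rfl
  refine ⟨IsClosedImmersion.of_isPreimmersion Δ ?_⟩
  refine isClosed_of_preimage q hcov (Limits.pullback.fst Y.hom Y.hom) _ fun P g z hz => ?_
  refine isClosed_of_preimage q hcov (g ≫ Limits.pullback.snd Y.hom Y.hom) _ fun P' g' z' hz' => ?_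
  let a := g' ≫ z ≫ r
  let b := z' ≫ r
  have ha : a ≫ p.left = g' ≫ g ≫ Limits.pullback.fst Y.hom Y.hom := by simp [a, hr, hz]
  have hb : b ≫ p.left = g' ≫ g ≫ Limits.pullback.snd Y.hom Y.hom := by simp [b, hr, hz']
  have hab : a ≫ X.hom = b ≫ X.hom := by
    rw [← Over.w p, reassoc_of% ha, reassoc_of% hb, Limits.pullback.condition]
  have hl : Limits.pullback.lift a b hab ≫ PP = g' ≫ g := by
    apply Limits.pullback.hom_ext <;> simp [hPP, ha, hb]
  have hcl : IsClosed (Limits.pullback.lift a b hab ⁻¹' Set.range v.left) :=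
    hv.isClosedEmbedding.isClosed_range.preimage (Limits.pullback.lift a b hab).continuous
  rw [hrange, ← Set.preimage_comp, ← TopCat.coe_comp, ← Scheme.Hom.comp_base, hl] at hcl
  exact hcl

end Groth.Agent.S5373
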