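import Groth.Statements.S5369
import Mathlib
import Groth.Agent.FpqcCov27.Quot
import Groth.Agent.AlgSpCov.SchemeDescent
import Groth.Agent.S5373
-- import your own Groth.Agent.* helpers here

set_option autoImplicit false
universe u
open CategoryTheory CategoryTheory.Limits MonoidalCategory CartesianMonoidalCategory MonObj GrpObj AlgebraicGeometry
open SGA3
set_option backward.isDefEq.respectTransparency false

namespace Groth.Agent.S5369

/-- Let u : G' → G be a monomorphism of S-group schemes and p : G → G'' a morphism of S-schemes which is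
covering for the fpqc topology (some Z → G'' which is flat, surjective, with every affine open of
G'' the image of a quasi-compact open of Z, factors through p) and such that the square (g, h) ↦
g·u(h), first projection G ×_S G' → G, p, p is cartesian, so that G'' represents the fpqc quotient
sheaf G/G'. Let ε'' be the composite of the unit section of G with p. Then the square formed by u,
the structure morphism G' → S, p and ε'' is cartesian; u is an immersion; and G'' is separated over
S if and only if u is a closed immersion, if and only if ε'' is a closed immersion. -/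
theorem result (S : Scheme.{u}) (G G' G'' : Over S) [GrpObj G] [GrpObj G']
    (u : G' ⟶ G) [IsMonHom u] [Mono u] (p : G ⟶ G'')
    (hcov : (∃ (Z : Scheme.{u}) (q : Z ⟶ G''.left) (r : Z ⟶ G.left), r ≫ p.left = q ∧ Surjective q ∧ Flat q ∧
        ∀ V : G''.left.Opens, IsAffineOpen V → ∃ W : Z.Opens, IsCompact (W : Set Z) ∧ q.base '' (W : Set Z) = (V : Set G''.left)))
    (hsq : IsPullback ((G ◁ u) ≫ μ[G]) (fst G G') p p) :
    IsPullback u (toUnit G') p (η[G] ≫ p) ∧ IsImmersion u.left ∧
    (IsSeparated G''.hom ↔ IsClosedImmersion u.left) ∧ (IsClosedImmersion u.left ↔ IsClosedImmersion (η[G] ≫ p).left) := by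
  obtain ⟨Z, q, r, hr, hs, hf, hc⟩ := hcov
  have h1 := Groth.Agent.FpqcCov27.isPullback_unit hsq
  have h1' := Groth.Agent.GrpdLib.GrpOver.isPullback_left h1
  have himm := Groth.Agent.FpqcCov27.isImmersion_unit_comp (G := G) (p := p)
  have hu : IsImmersion u.left := MorphismProperty.of_isPullback h1'.flip himm
  have hsc : IsSeparated G''.hom → IsClosedImmersion (η[G] ≫ p).left := fun _ => by
    have : IsClosedImmersion ((η[G] ≫ p).left ≫ G''.hom) := by
      rw [Over.w]; exact inferInstanceAs (IsClosedImmersion (𝟙 S))
    exact IsClosedImmersion.of_comp _ G''.hom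
  have hcu : IsClosedImmersion (η[G] ≫ p).left → IsClosedImmersion u.left := fun h =>
    MorphismProperty.of_isPullback h1'.flip h
  have hus : IsClosedImmersion u.left → IsSeparated G''.hom := fun h => by
    refine (Groth.Agent.S5373.result S G G'' p).2.2 ⟨Z, q, r, hr, hs, hf, hc⟩ ?_
    have h2 : IsClosedImmersion (G ◁ u).left :=
      MorphismProperty.of_isPullback (Groth.Agent.GrpdLib.GrpOver.isPullback_left
        (Groth.Agent.FpqcCov27.isPullback_whiskerLeft_snd (T := G) u)).flip h
    let sw : G ⊗ G ≅ G ⊗ G :=
      { hom := lift (snd G G) (fst G G)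
        inv := lift (snd G G) (fst G G)
        hom_inv_id := CartesianMonoidalCategory.hom_ext _ _ (by simp) (by simp)
        inv_hom_id := CartesianMonoidalCategory.hom_ext _ _ (by simp) (by simp) }
    let φ := Groth.Agent.GrpScheme.Basic.shear (Groth.Agent.GrpScheme.Basic.leftAction G) (𝟙 G) ≪≫ sw
    have hφ : φ.hom = lift μ[G] (fst G G) := by
      refine CartesianMonoidalCategory.hom_ext _ _ ?_ ?_
      · simp only [φ, sw, Iso.trans_hom, Category.assoc, lift_fst]
        rw [← Groth.Agent.GrpScheme.Basic.mul_eq_shear_comp_snd]
      · simp [φ, sw, Groth.Agent.GrpScheme.Basic.shear]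
    have he : hsq.isoPullback.hom ≫ lift (pullback.fst p p) (pullback.snd p p) = (G ◁ u) ≫ φ.hom := by
      rw [hφ]
      refine CartesianMonoidalCategory.hom_ext _ _ ?_ ?_
      · simp only [Category.assoc, lift_fst, IsPullback.isoPullback_hom_fst]
      · simp only [Category.assoc, lift_snd, IsPullback.isoPullback_hom_snd, whiskerLeft_fst]
    have := Groth.Agent.GrpScheme.Basic.isIso_left φ.hom
    have := Groth.Agent.GrpScheme.Basic.isIso_left hsq.isoPullback.hom
    have h3 : IsClosedImmersion (hsq.isoPullback.hom ≫ lift (pullback.fst p p) (pullback.snd p p)).left := by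
      rw [he, Over.comp_left]
      infer_instance
    rw [Over.comp_left, MorphismProperty.cancel_left_of_respectsIso (P := @IsClosedImmersion)] at h3
    exact h3
  exact ⟨h1, hu, ⟨fun h => hcu (hsc h), hus⟩, ⟨fun h => hsc (hus h), hcu⟩⟩

end Groth.Agent.S5369
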