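import Groth.Statements.S9408
import Groth.Agent.EGA4Lib.SmoothRegular
import Mathlib

set_option autoImplicit false
universe u
open CAlg

namespace Groth.Agent.S9408

/-- Over a field k, geometric regularity ascends along smooth maps of k-algebras: for A Noetherian and
geometrically regular over k and B smooth over A, B is geometrically regular over k. -/
theorem result (k : Type u) [Field k] (A : Type u) [CommRing A]
    [Algebra k A] [IsNoetherianRing A] (B : Type u) [CommRing B] [Algebra k B] [Algebra A B]
    [IsScalarTower k A B] [Algebra.Smooth A B] (hA : CAlg.IsGeometricallyRegular k A) :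
    CAlg.IsGeometricallyRegular k B := by
  intro k' _ _ hk'
  haveI := hA k' hk'
  let P := TensorProduct k A k'
  haveI : IsRegularRing P := IsRegularRing.of_ringEquiv (Algebra.TensorProduct.comm k k' A).toRingEquiv
  let Q := TensorProduct A P B
  haveI : Algebra.Smooth P Q := inferInstance
  haveI : IsNoetherianRing Q := Algebra.FiniteType.isNoetherianRing P Q
  haveI : IsRegularRing Q := isRegularRing_iff.mpr fun q _ =>
    EGA4Lib.mem_regLocus_of_smooth (R := P) ⟨q, inferInstance⟩
      (IsRegularRing.isRegularLocalRing_localization (R := P) (q.comap (algebraMap P Q)))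
  exact IsRegularRing.of_ringEquiv ((Algebra.TensorProduct.comm A P B).toRingEquiv.trans
    ((Algebra.TensorProduct.cancelBaseChange k A A B k').toRingEquiv.trans
      (Algebra.TensorProduct.comm k B k').toRingEquiv))

end Groth.Agent.S9408
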