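import Groth.Statements.S18490
import Mathlib.AlgebraicGeometry.Morphisms.Immersion

set_option autoImplicit false
universe u
open CategoryTheory CategoryTheory.Limits AlgebraicGeometry
open FlatMor

namespace Groth.Agent.S18490

open AlgebraicGeometry CategoryTheory Limits

/-- Flatness descends along a retraction. -/
theorem flat_of_retract {X P S : Scheme.{u}} (f : X ⟶ S) (s : X ⟶ P) (r : P ⟶ X) (hsr : s ≫ r = 𝟙 X)
    [Flat (r ≫ f)] : Flat f := by
  rw [Flat.iff_flat_stalkMap]
  intro x
  have hr : r (s x) = x := by rw [← Scheme.Hom.comp_apply, hsr]; rfl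
  suffices h : (f.stalkMap (r (s x))).hom.Flat by rwa [hr] at h
  have hfl := Flat.stalkMap (r ≫ f) (s x)
  rw [Scheme.Hom.stalkMap_comp] at hfl
  have hbij : Function.Bijective ((r.stalkMap (s x)) ≫ s.stalkMap x).hom := by
    have : IsIso (r.stalkMap (s x) ≫ s.stalkMap x) := by
      have h := Scheme.Hom.stalkMap_congr_hom (s ≫ r) (𝟙 X) hsr x
      rw [Scheme.Hom.stalkMap_comp, Scheme.Hom.stalkMap_id] at h
      rw [h]; exact IsIso.comp_isIso' inferInstance (IsIso.id _)
    exact ConcreteCategory.bijective_of_isIso _
  set a := (f.stalkMap (r (s x))).hom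
  set b := (r.stalkMap (s x)).hom
  set c := (s.stalkMap x).hom
  letI := a.toAlgebra
  letI := (b.comp a).toAlgebra
  haveI : Module.Flat (S.presheaf.stalk (f (r (s x)))) (P.presheaf.stalk (s x)) := hfl
  let i : X.presheaf.stalk (r (s x)) →ₗ[S.presheaf.stalk (f (r (s x)))] P.presheaf.stalk (s x) :=
    { toFun := b, map_add' := map_add b, map_smul' := fun m y => by
        show b (a m * y) = b (a m) * b y
        exact map_mul b _ _ }
  let e : X.presheaf.stalk (r (s x)) →+* X.presheaf.stalk x := c.comp b
  let ee := RingEquiv.ofBijective e hbij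
  let q : P.presheaf.stalk (s x) →ₗ[S.presheaf.stalk (f (r (s x)))] X.presheaf.stalk (r (s x)) :=
    { toFun := fun y => ee.symm (c y), map_add' := fun _ _ => by simp, map_smul' := fun m y => by
        show ee.symm (c (b (a m) * y)) = a m * ee.symm (c y)
        rw [map_mul, map_mul, show c (b (a m)) = ee (a m) from rfl, ee.symm_apply_apply] }
  exact Module.Flat.of_retract i q (LinearMap.ext fun y => ee.symm_apply_apply y)

/-- Let f : X → S and g : Y → S be morphisms of schemes and suppose that g has a section y : S → Y. If
the structure morphism X ×_S Y → S (first projection followed by f) is quasi-compact, then so is f;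
likewise for locally of finite type, for separated, and for flat. (Finite type, also listed in the
source, is the conjunction of the first two.) -/
theorem result {X Y S : Scheme.{u}} (f : X ⟶ S) (g : Y ⟶ S)
    (y : S ⟶ Y) (hy : y ≫ g = 𝟙 S) :
    (QuasiCompact (pullback.fst f g ≫ f) → QuasiCompact f) ∧
    (LocallyOfFiniteType (pullback.fst f g ≫ f) → LocallyOfFiniteType f) ∧
    (IsSeparated (pullback.fst f g ≫ f) → IsSeparated f) ∧
    (Flat (pullback.fst f g ≫ f) → Flat f) := by
  let s : X ⟶ pullback f g := pullback.lift (𝟙 X) (f ≫ y) (by simp [hy])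
  have hs : s ≫ pullback.fst f g = 𝟙 X := pullback.lift_fst _ _ _
  have hf : f = s ≫ pullback.fst f g ≫ f := by rw [← Category.assoc, hs, Category.id_comp]
  refine ⟨fun h => ?_, fun h => ?_, fun h => ?_, fun h => flat_of_retract f s _ hs⟩
  · refine ⟨fun U hU hUc => ?_⟩
    have h1 := h.isCompact_preimage U hU hUc
    have hsurj : Function.Surjective (pullback.fst f g) := fun x => ⟨s x, by
      rw [← Scheme.Hom.comp_apply, hs]; rfl⟩
    have h2 := h1.image (pullback.fst f g).continuous
    rwa [Scheme.Hom.comp_base, TopCat.coe_comp, Set.preimage_comp, Set.image_preimage_eq _ hsurj] at h2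
  · have : IsImmersion (s ≫ pullback.fst f g) := by rw [hs]; infer_instance
    have := IsImmersion.of_comp s (pullback.fst f g)
    rw [hf]; infer_instance
  · have := IsSeparated.of_comp (pullback.fst f g) f
    have : IsClosedImmersion (s ≫ pullback.fst f g) := by rw [hs]; infer_instance
    have := IsClosedImmersion.of_comp s (pullback.fst f g)
    rw [hf]; infer_instance

end Groth.Agent.S18490
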