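import Groth.Statements.S5371
import Mathlib
import Groth.Agent.FpqcCov27.Quot
import Groth.Agent.AlgSpCov.SchemeDescent
import Groth.Agent.AlgSpCov.FppfSource
import Groth.Agent.FpqcDesc.Props
import Groth.Agent.AlgSpB.OverField
import Groth.Agent.GrpdLib.FppfSourceDescentScheme
import Groth.Agent.S5373
import Groth.Agent.GrpScheme.FlatFib.Scheme
-- import your own Groth.Agent.* helpers here

set_option autoImplicit false
universe u
open CategoryTheory CategoryTheory.Limits MonoidalCategory CartesianMonoidalCategory MonObj GrpObj AlgebraicGeometry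
open SGA3
set_option backward.isDefEq.respectTransparency false

namespace Groth.Agent.S5371

open Groth.Agent in
lemma locallyQuasiFinite_of_comp {X Y T : Scheme.{u}} (f : X ⟶ Y) (g : Y ⟶ T) [Surjective f]
    [UniversallyOpen f] [LocallyOfFiniteType g] [LocallyQuasiFinite (f ≫ g)] : LocallyQuasiFinite g := by
  refine locallyQuasiFinite_iff_isDiscrete_preimage_singleton.mpr fun t => ?_
  let A : Set Y := g ⁻¹' {t}
  have hd : DiscreteTopology ↥(f ⁻¹' A) := by
    have h := (f ≫ g).isDiscrete_preimage_singleton t
    rw [Scheme.Hom.comp_base, TopCat.coe_comp, Set.preimage_comp] at h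
    exact h.to_subtype
  have h := (f.isOpenMap.restrictPreimage A).isDiscrete_range
  rw [(A.restrictPreimage_surjective f.surjective).range_eq, isDiscrete_univ_iff] at h
  exact ⟨h⟩

lemma quasiSeparated_quot {S : Scheme.{u}} {G G'' : Over S} (p : G ⟶ G'') [Surjective p.left] [Flat p.left]
    [QuasiCompact p.left] [QuasiSeparated G.hom] : QuasiSeparated G''.hom := by
  have hF : ((@Surjective ⊓ @Flat ⊓ @QuasiCompact) : MorphismProperty Scheme.{u}) p.left := ⟨⟨‹_›, ‹_›⟩, ‹_›⟩
  have sq := Groth.Agent.S5373.isPullback_diagonal S G G'' p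
  have hmap : ((@Surjective ⊓ @Flat ⊓ @QuasiCompact) : MorphismProperty Scheme.{u})
      (Limits.pullback.map G.hom G.hom G''.hom G''.hom p.left p.left (𝟙 S)
        (by rw [Category.comp_id, Over.w]) (by rw [Category.comp_id, Over.w])) :=
    MorphismProperty.pullbackMap hF hF (Over.w p).symm (Over.w p).symm
  have h1 : QuasiCompact (pullback.fst p p).left :=
    MorphismProperty.of_isPullback (P := @QuasiCompact)
      (Groth.Agent.GrpdLib.GrpOver.isPullback_left (IsPullback.of_hasPullback p p)).flip ‹_›
  let v : (Limits.pullback p p) ⟶ G ⊗ G := lift (Limits.pullback.fst p p) (Limits.pullback.snd p p)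
  have : QuasiSeparated (fst G G).left := inferInstanceAs (QuasiSeparated (pullback.fst G.hom G.hom))
  have : QuasiCompact (v.left ≫ (fst G G).left) := by
    rw [← Over.comp_left, lift_fst]; exact h1
  have hv : QuasiCompact v.left := QuasiCompact.of_comp v.left (fst G G).left
  have := Groth.Agent.FpqcDesc.descendsAlong_quasiCompact.{u}
  exact ⟨MorphismProperty.of_isPullback_of_descendsAlong sq.flip hmap hv⟩

lemma formallyUnramified_quot {S : Scheme.{u}} {G G' G'' : Over S} [GrpObj G] [GrpObj G'] (u : G' ⟶ G)
    [IsMonHom u] [Mono u] (p : G ⟶ G'') (hsq : IsPullback ((G ◁ u) ≫ μ[G]) (fst G G') p p)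
    [Surjective p.left] [Flat p.left] [LocallyOfFinitePresentation p.left]
    [Flat G'.hom] [LocallyOfFinitePresentation G'.hom]
    [FormallyUnramified G.hom] [LocallyOfFiniteType G.hom] : FormallyUnramified G''.hom := by
  have : Flat (u.left ≫ G.hom) := by rw [Over.w]; infer_instance
  have : Flat u.left := Groth.Agent.AlgSpB.flat_of_comp_unramified u.left G.hom
  have : LocallyOfFinitePresentation (u.left ≫ G.hom) := by rw [Over.w]; infer_instance
  have : LocallyOfFinitePresentation u.left := Groth.Agent.GrpScheme.FlatFib.locallyOfFinitePresentation_of_comp u.left G.hom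
  have : Mono u.left := (Over.forget S).map_mono u
  have : IsOpenImmersion u.left := IsOpenImmersion.of_flat_of_mono u.left
  have : IsOpenImmersion (G ◁ u).left :=
    MorphismProperty.of_isPullback (P := @IsOpenImmersion) (Groth.Agent.GrpdLib.GrpOver.isPullback_left
      (Groth.Agent.FpqcCov27.isPullback_whiskerLeft_snd (T := G) u)).flip ‹IsOpenImmersion u.left›
  let sw : G ⊗ G ≅ G ⊗ G :=
    { hom := lift (snd G G) (fst G G)
      inv := lift (snd G G) (fst G G)
      hom_inv_id := CartesianMonoidalCategory.hom_ext _ _ (by simp) (by simp)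
      inv_hom_id := CartesianMonoidalCategory.hom_ext _ _ (by simp) (by simp) }
  let φ := Groth.Agent.GrpScheme.Basic.shear (Groth.Agent.GrpScheme.Basic.leftAction G) (𝟙 G) ≪≫ sw
  have hφ : φ.hom = lift μ[G] (fst G G) := by
    refine CartesianMonoidalCategory.hom_ext _ _ ?_ ?_
    · simp only [φ, sw, Iso.trans_hom, Category.assoc, lift_fst]
      rw [← Groth.Agent.GrpScheme.Basic.mul_eq_shear_comp_snd]
    · simp [φ, sw, Groth.Agent.GrpScheme.Basic.shear]
  let v : (Limits.pullback p p) ⟶ G ⊗ G := lift (Limits.pullback.fst p p) (Limits.pullback.snd p p)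
  have he : hsq.isoPullback.hom ≫ v = (G ◁ u) ≫ φ.hom := by
    rw [hφ]
    refine CartesianMonoidalCategory.hom_ext _ _ ?_ ?_
    · simp only [v, Category.assoc, lift_fst, IsPullback.isoPullback_hom_fst]
    · simp only [v, Category.assoc, lift_snd, IsPullback.isoPullback_hom_snd, whiskerLeft_fst]
  have := Groth.Agent.GrpScheme.Basic.isIso_left φ.hom
  have := Groth.Agent.GrpScheme.Basic.isIso_left hsq.isoPullback.hom
  have hv : IsOpenImmersion v.left := by
    have h : IsOpenImmersion (hsq.isoPullback.hom ≫ v).left := by
      rw [he, Over.comp_left]; infer_instance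
    rw [Over.comp_left, MorphismProperty.cancel_left_of_respectsIso (P := @IsOpenImmersion)] at h
    exact h
  have sq := Groth.Agent.S5373.isPullback_diagonal S G G'' p
  have hF : ((@Surjective ⊓ @Flat ⊓ @LocallyOfFinitePresentation) : MorphismProperty Scheme.{u}) p.left := ⟨⟨‹_›, ‹_›⟩, ‹_›⟩
  have hmap : ((@Surjective ⊓ @Flat ⊓ @LocallyOfFinitePresentation) : MorphismProperty Scheme.{u})
      (Limits.pullback.map G.hom G.hom G''.hom G''.hom p.left p.left (𝟙 S)
        (by rw [Category.comp_id, Over.w]) (by rw [Category.comp_id, Over.w])) :=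
    MorphismProperty.pullbackMap hF hF (Over.w p).symm (Over.w p).symm
  have : IsOpenImmersion (Limits.pullback.diagonal G''.hom) :=
    MorphismProperty.of_isPullback_of_descendsAlong (P := @IsOpenImmersion)
      (Q := @Surjective ⊓ @Flat ⊓ @LocallyOfFinitePresentation) sq.flip hmap hv
  infer_instance

/-- Let u : G' → G be a monomorphism of S-group schemes and p : G → G'' a morphism of S-schemes which is
covering for the fpqc topology (some Z → G'' which is flat, surjective, with every affine open of
G'' the image of a quasi-compact open of Z, factors through p) and such that the square (g, h) ↦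
g·u(h), first projection G ×_S G' → G, p, p is cartesian, so that G'' represents the fpqc quotient
sheaf G/G'. (xii) G' is flat and locally of finite presentation over S if and only if p is
surjective, flat and locally of finite presentation; in that case, if G is locally of finite
presentation (resp. locally of finite type, of finite type, smooth, etale, unramified, locally
quasi-finite) over S, so is G''. (xiii) If G' is flat and of finite presentation over S then p is of
finite presentation, and G is of finite presentation over S if and only if G'' is. -/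
theorem result (S : Scheme.{u}) (G G' G'' : Over S) [GrpObj G] [GrpObj G']
    (u : G' ⟶ G) [IsMonHom u] [Mono u] (p : G ⟶ G'')
    (hcov : (∃ (Z : Scheme.{u}) (q : Z ⟶ G''.left) (r : Z ⟶ G.left), r ≫ p.left = q ∧ Surjective q ∧ Flat q ∧
        ∀ V : G''.left.Opens, IsAffineOpen V → ∃ W : Z.Opens, IsCompact (W : Set Z) ∧ q.base '' (W : Set Z) = (V : Set G''.left)))
    (hsq : IsPullback ((G ◁ u) ≫ μ[G]) (fst G G') p p) :
    ((Flat G'.hom ∧ LocallyOfFinitePresentation G'.hom) ↔
      (Surjective p.left ∧ Flat p.left ∧ LocallyOfFinitePresentation p.left)) ∧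
    (Flat p.left → LocallyOfFinitePresentation p.left →
      (LocallyOfFinitePresentation G.hom → LocallyOfFinitePresentation G''.hom) ∧
      (LocallyOfFiniteType G.hom → LocallyOfFiniteType G''.hom) ∧
      (LocallyOfFiniteType G.hom → QuasiCompact G.hom → QuasiCompact G''.hom) ∧
      (Smooth G.hom → Smooth G''.hom) ∧ (Etale G.hom → Etale G''.hom) ∧
      (FormallyUnramified G.hom → LocallyOfFinitePresentation G.hom → FormallyUnramified G''.hom) ∧
      (LocallyQuasiFinite G.hom → LocallyOfFiniteType G.hom → LocallyQuasiFinite G''.hom)) ∧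
    (Flat G'.hom → LocallyOfFinitePresentation G'.hom → QuasiCompact G'.hom → QuasiSeparated G'.hom →
      QuasiCompact p.left ∧ QuasiSeparated p.left ∧ LocallyOfFinitePresentation p.left ∧
      ((LocallyOfFinitePresentation G.hom ∧ QuasiCompact G.hom ∧ QuasiSeparated G.hom) ↔
        (LocallyOfFinitePresentation G''.hom ∧ QuasiCompact G''.hom ∧ QuasiSeparated G''.hom))) := by
  obtain ⟨Z, q, r, hr, hs, hf, hc⟩ := hcov
  have hsp : Surjective p.left := ⟨fun y => by
    obtain ⟨z, rfl⟩ := q.surjective y
    exact ⟨r z, by rw [← Scheme.Hom.comp_apply, hr]⟩⟩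
  have hsq' := Groth.Agent.GrpdLib.GrpOver.isPullback_left hsq
  have hdown : ∀ (P : MorphismProperty Scheme.{u}) [P.IsStableUnderBaseChange] [IsZariskiLocalAtTarget P]
      [P.DescendsAlong (@Surjective ⊓ @Flat ⊓ @QuasiCompact)], P G'.hom → P p.left := fun P _ _ _ h =>
    Groth.Agent.FpqcCov27.of_fst q r hr hc hsq
      (MorphismProperty.of_isPullback Groth.Agent.FpqcCov27.isPullback_fst h)
  have hup : ∀ (P : MorphismProperty Scheme.{u}) [P.IsStableUnderBaseChange], P p.left → P G'.hom := fun P _ h =>
    Groth.Agent.FpqcCov27.of_fst_left (G := G) (MorphismProperty.of_isPullback hsq' h)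
  refine ⟨⟨fun h => ⟨hsp, hdown @Flat h.1, hdown @LocallyOfFinitePresentation h.2⟩,
    fun h => ⟨hup @Flat h.2.1, hup @LocallyOfFinitePresentation h.2.2⟩⟩, ?_, ?_⟩
  · intro h1 h2
    have hft : LocallyOfFiniteType G.hom → LocallyOfFiniteType G''.hom := fun _ => by
      have : LocallyOfFiniteType (p.left ≫ G''.hom) := by rw [Over.w]; infer_instance
      exact Groth.Agent.GrpdLib.FppfSourceDescent.locallyOfFiniteType_of_comp_fppf p.left G''.hom
    have : Flat G'.hom := hup @Flat h1
    have : LocallyOfFinitePresentation G'.hom := hup @LocallyOfFinitePresentation h2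
    refine ⟨fun _ => ?_, hft, fun _ _ => ?_, fun _ => ?_, fun _ => ?_, fun _ _ => ?_, fun _ _ => ?_⟩
    · have : LocallyOfFinitePresentation (p.left ≫ G''.hom) := by rw [Over.w]; infer_instance
      exact Groth.Agent.GrpdLib.FppfSourceDescent.locallyOfFinitePresentation_of_comp_fppf p.left G''.hom
    · have : QuasiCompact (p.left ≫ G''.hom) := by rw [Over.w]; infer_instance
      exact Groth.Agent.GrpdLib.FppfSourceDescent.quasiCompact_of_comp_surjective p.left G''.hom
    · have : Smooth (p.left ≫ G''.hom) := by rw [Over.w]; infer_instance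
      exact Groth.Agent.RelDiv.smooth_of_fppf_comp p.left G''.hom
    · have hE : Etale (p.left ≫ G''.hom) := by rw [Over.w]; infer_instance
      exact Groth.Agent.AlgSpCov.etale_of_family_fppf (κ := PUnit.{u + 1}) (fun _ => G.left) (fun _ => p.left)
        (fun _ => ⟨h1, h2⟩) (fun x => ⟨PUnit.unit, p.left.surjective x⟩) G''.hom (fun _ => hE)
    · exact formallyUnramified_quot u p hsq
    · have := hft inferInstance
      have : LocallyQuasiFinite (p.left ≫ G''.hom) := by rw [Over.w]; infer_instance
      have : UniversallyOpen p.left := UniversallyOpen.of_flat p.left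
      exact locallyQuasiFinite_of_comp p.left G''.hom
  · intro h1 h2 h3 h4
    have := Groth.Agent.FpqcDesc.descendsAlong_quasiCompact.{u}
    have := Groth.Agent.FpqcDesc.descendsAlong_quasiSeparated.{u}
    have hpf : Flat p.left := hdown @Flat h1
    have hpl : LocallyOfFinitePresentation p.left := hdown @LocallyOfFinitePresentation h2
    have hpc : QuasiCompact p.left := hdown @QuasiCompact h3
    have hps : QuasiSeparated p.left := hdown @QuasiSeparated h4
    refine ⟨hpc, hps, hpl, ⟨fun ⟨_, _, _⟩ => ?_, fun ⟨_, _, _⟩ => ?_⟩⟩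
    · refine ⟨?_, ?_, quasiSeparated_quot p⟩
      · have : LocallyOfFinitePresentation (p.left ≫ G''.hom) := by rw [Over.w]; infer_instance
        exact Groth.Agent.GrpdLib.FppfSourceDescent.locallyOfFinitePresentation_of_comp_fppf p.left G''.hom
      · have : QuasiCompact (p.left ≫ G''.hom) := by rw [Over.w]; infer_instance
        exact Groth.Agent.GrpdLib.FppfSourceDescent.quasiCompact_of_comp_surjective p.left G''.hom
    · rw [← Over.w p]
      exact ⟨inferInstance, inferInstance, inferInstance⟩

end Groth.Agent.S5371
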