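import Groth.Statements.S3030
import Groth.Agent.GrpQuot19.Props
import Groth.Agent.S3036
import Groth.Agent.S5369
import Groth.Agent.S5370
import Groth.Agent.S5371
import Groth.Agent.S5372

set_option autoImplicit false
set_option backward.isDefEq.respectTransparency false
set_option synthInstance.maxHeartbeats 200000
universe u
open CategoryTheory MonoidalCategory CartesianMonoidalCategory MonObj GrpObj AlgebraicGeometry TensorProduct
open SGA3

namespace Groth.Agent.S3030

/-- Let A be a local artinian ring, F and G group schemes flat and locally of finite type over A, and u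
: F → G a homomorphism which is a quasi-compact monomorphism with F normal in G. Then there are a
group scheme Q over A and a homomorphism p : G → Q which is faithfully flat and locally of finite
presentation, with kernel F (the square u, p, unit is cartesian); Q is separated and flat over A,
and smooth over A when G is. -/
theorem result (A : Type u) [CommRing A] [IsArtinianRing A] [IsLocalRing A]
    (F G : Over (Spec (CommRingCat.of A))) [GrpObj F] [GrpObj G] [Flat F.hom] [LocallyOfFiniteType F.hom]
    [Flat G.hom] [LocallyOfFiniteType G.hom] (u : F ⟶ G) [IsMonHom u] [Mono u] [QuasiCompact u.left]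
    (hN : AlgGrp.IsNormalHom u) :
    ∃ (Q : Over (Spec (CommRingCat.of A))) (_ : GrpObj Q) (p : G ⟶ Q), IsMonHom p ∧
      Flat p.left ∧ Surjective p.left ∧ LocallyOfFinitePresentation p.left ∧ AlgGrp.IsKernel u p ∧
      IsSeparated Q.hom ∧ Flat Q.hom ∧ (Smooth G.hom → Smooth Q.hom) := by
  haveI : IsClosedImmersion u.left := Groth.Agent.S3036.result A F G u
  obtain ⟨X, p, hf, hs, hl, hsq⟩ := GrpQuot19.Artinian.exists_quotient_of_closedSubgroup u
  haveI := hf; haveI := hs; haveI := hl
  obtain ⟨hX, hp, -⟩ := Groth.Agent.S5372.result _ G F X u p (GrpQuot19.hcov p) hsq hN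
  letI := hX; haveI := hp
  refine ⟨X, hX, p, hp, hf, hs, hl, ?_, ?_, ?_, ?_⟩
  · have h := (Groth.Agent.S5369.result _ G F X u p (GrpQuot19.hcov p) hsq).1
    rwa [IsMonHom.one_hom] at h
  · exact (Groth.Agent.S5369.result _ G F X u p (GrpQuot19.hcov p) hsq).2.2.1.mpr ‹_›
  · exact ((Groth.Agent.S5370.result _ G F X u p (GrpQuot19.hcov p) hsq).2.2 hf).mpr ‹_›
  · exact ((Groth.Agent.S5371.result _ G F X u p (GrpQuot19.hcov p) hsq).2.1 hf hl).2.2.2.1

end Groth.Agent.S3030
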