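import Groth.Statements.S5340
import Groth.Agent.GrpSGA.ArtThick
import Groth.Agent.GrpSGA.FieldDescent
import Groth.Agent.GrpScheme.Points

set_option autoImplicit false
universe u
open CategoryTheory CategoryTheory.Limits MonoidalCategory CartesianMonoidalCategory MonObj GrpObj AlgebraicGeometry
open SGA3

namespace Groth.Agent.S5340

open Groth.Agent.GrpSGA Groth.Agent.GrpSGA.LocalProp

/-- The property passes to a point which is a translate. -/
lemma atPt_translate {P : MorphismProperty Scheme.{u}} [P.RespectsIso] [IsZariskiLocalAtSource P]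
    {S : Scheme.{u}} {G : Over S} [GrpObj G] (a b : 𝟙_ (Over S) ⟶ G) (p : ↥(𝟙_ (Over S)).left)
    (h : AtPt P G.hom (b.left p)) : AtPt P G.hom (a.left p) := by
  let t : (𝟙_ (Over S) ⟶ G) → (G ⟶ G) := fun c => (toUnit G ≫ c) * 𝟙 G
  have ht : ∀ (c : 𝟙_ (Over S) ⟶ G) {T : Over S} (x : T ⟶ G), x ≫ t c = (toUnit T ≫ c) * x := by
    intro c T x
    rw [MonObj.comp_mul, Category.comp_id, ← Category.assoc, toUnit_unique (x ≫ toUnit G) (toUnit T)]
  have hiso : IsIso (t (b * a⁻¹)) := by
    refine ⟨t (b * a⁻¹)⁻¹, ?_, ?_⟩ <;>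
      simp only [ht] <;> simp only [t, ← _root_.mul_assoc, ← MonObj.comp_mul] <;>
      simp [← Hom.one_def]
  have hl : IsIso (t (b * a⁻¹)).left := inferInstanceAs (IsIso ((Over.forget S).map (t (b * a⁻¹))))
  have hab : a ≫ t (b * a⁻¹) = b := by
    rw [ht, toUnit_unique (toUnit _) (𝟙 _), Category.id_comp, inv_mul_cancel_right]
  obtain ⟨W, hbW, hW⟩ := h
  refine ⟨(t (b * a⁻¹)).left ⁻¹ᵁ W, ?_, ?_⟩
  · show (t (b * a⁻¹)).left (a.left p) ∈ W
    rw [← Scheme.Hom.comp_apply, ← Over.comp_left, hab]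
    exact hbW
  · rw [← Over.w (t (b * a⁻¹)), ← morphismRestrict_ι_assoc]
    exact (P.cancel_left_of_respectsIso _ _).mpr hW

/-- The field case. -/
lemma over_field (k : Type u) [Field k] (G : Over (Spec (CommRingCat.of k))) [GrpObj G]
    (w : G.left) (hw : AtPt @LocallyOfFiniteType G.hom w) : LocallyOfFiniteType G.hom := by
  refine of_forall_atPt G.hom fun x => ?_
  have : Subsingleton ↥(Spec (CommRingCat.of k)) := inferInstanceAs (Subsingleton (PrimeSpectrum k))
  obtain ⟨z, hz₁, hz₂⟩ := Scheme.Pullback.exists_preimage_pullback (f := G.hom) (g := G.hom) x w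
    (Subsingleton.elim _ _)
  let κ := (pullback G.hom G.hom).fromSpecResidueField z
  let h : Spec (CommRingCat.of ((pullback G.hom G.hom).residueField z)) ⟶ Spec (CommRingCat.of k) :=
    κ ≫ pullback.fst G.hom G.hom ≫ G.hom
  let GK := (Over.pullback h).obj G
  let _ : GrpObj GK := Functor.grpObjObj
  let a : 𝟙_ (Over (Spec (CommRingCat.of ((pullback G.hom G.hom).residueField z)))) ⟶ GK :=
    Over.homMk (pullback.lift (κ ≫ pullback.fst G.hom G.hom) (𝟙 _) (by simp [h]))
      (pullback.lift_snd _ _ _)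
  let b : 𝟙_ (Over (Spec (CommRingCat.of ((pullback G.hom G.hom).residueField z)))) ⟶ GK :=
    Over.homMk (pullback.lift (κ ≫ pullback.snd G.hom G.hom) (𝟙 _)
      (by simp [h, pullback.condition]))
      (pullback.lift_snd _ _ _)
  let p : ↥(Spec (CommRingCat.of ((pullback G.hom G.hom).residueField z))) := IsLocalRing.closedPoint _
  have hκ : κ p = z := Scheme.fromSpecResidueField_apply _ _
  have hpa : pullback.fst G.hom h (a.left p) = x := by
    rw [← Scheme.Hom.comp_apply, show a.left ≫ pullback.fst G.hom h = κ ≫ pullback.fst G.hom G.hom from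
      pullback.lift_fst _ _ _, Scheme.Hom.comp_apply, hκ, hz₁]
  have hpb : pullback.fst G.hom h (b.left p) = w := by
    rw [← Scheme.Hom.comp_apply, show b.left ≫ pullback.fst G.hom h = κ ≫ pullback.snd G.hom G.hom from
      pullback.lift_fst _ _ _, Scheme.Hom.comp_apply, hκ, hz₂]
  have hb : AtPt @LocallyOfFiniteType GK.hom (b.left p) :=
    bc_atPt (IsPullback.of_hasPullback G.hom h) _ (hpb.symm ▸ hw)
  rw [← hpa]
  exact FieldDescent.atPt_lft_of_isPullback (IsPullback.of_hasPullback G.hom h) _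
    (atPt_translate a b p hb)

/-- Let A be a local artinian ring and G an A-group scheme. If some nonempty open subscheme of G is of
finite type over A, then G is locally of finite type over A. -/
theorem result (A : Type u) [CommRing A] [IsArtinianRing A] [IsLocalRing A] (G : Over (Spec (CommRingCat.of A))) [GrpObj G]
    (W : G.left.Opens) (hW : (W : Set G.left).Nonempty) [LocallyOfFiniteType (W.ι ≫ G.hom)] [QuasiCompact (W.ι ≫ G.hom)] :
    LocallyOfFiniteType G.hom := by
  let j := ArtThick.closedPt A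
  let G₀ := (Over.pullback j).obj G
  let _ : GrpObj G₀ := Functor.grpObjObj
  obtain ⟨w, hw⟩ := hW
  obtain ⟨w₀, hw₀⟩ := (pullback.fst G.hom j).surjective w
  have hG₀ : LocallyOfFiniteType G₀.hom := over_field (IsLocalRing.ResidueField A) G₀ w₀
    (bc_atPt (IsPullback.of_hasPullback G.hom j) w₀ ⟨W, hw₀.symm ▸ hw, ‹_›⟩)
  exact FlatMor.Thickening.locallyOfFiniteType_of_isPullback (F₀ := G₀.hom)
    (ArtThick.isNilpotent_ker_closedPt A) (IsPullback.of_hasPullback G.hom j)

end Groth.Agent.S5340
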