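import Groth.Statements.S5318
import Groth.Agent.S5340
import Groth.Agent.GrpSGA.FibreCrit
import Groth.Agent.GrpScheme.Basic

set_option autoImplicit false
universe u
open CategoryTheory CategoryTheory.Limits MonoidalCategory CartesianMonoidalCategory MonObj GrpObj AlgebraicGeometry
open SGA3

namespace Groth.Agent.S5318

open Groth.Agent.GrpSGA Groth.Agent.GrpSGA.LocalProp

/-- A morphism locally of finite type with unramified fibres is unramified. -/
lemma formallyUnramified_of_fibres {X Y : Scheme.{u}} (f : X ⟶ Y) [LocallyOfFiniteType f]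
    (h : ∀ y, FormallyUnramified (f.fiberToSpecResidueField y)) : FormallyUnramified f := by
  refine of_forall_atPt f fun x => (EtStruct.formallyUnramified_nhd_iff f x).mpr ?_
  exact UnramFib.stalkMap_formallyUnramified_of_fiber_nhd f x ⊤ trivial
    (IsZariskiLocalAtSource.comp (P := @FormallyUnramified) (h _) _)

/-- A section of an unramified morphism is an open immersion. -/
lemma isOpenImmersion_of_section {P T : Scheme.{u}} (p : P ⟶ T) [FormallyUnramified p]
    [LocallyOfFiniteType p] (l : T ⟶ P) (h : l ≫ p = 𝟙 T) : IsOpenImmersion l := by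
  have : MorphismProperty.HasOfPostcompProperty @IsOpenImmersion
      (@FormallyUnramified ⊓ @LocallyOfFiniteType : MorphismProperty Scheme.{u}) :=
    MorphismProperty.hasOfPostcompProperty_iff_le_diagonal.mpr fun _ _ f hf =>
      have := hf.1
      have := hf.2
      inferInstanceAs (IsOpenImmersion (pullback.diagonal f))
  refine MorphismProperty.of_postcomp (W := @IsOpenImmersion)
    (W' := (@FormallyUnramified ⊓ @LocallyOfFiniteType : MorphismProperty Scheme.{u})) l p ⟨‹_›, ‹_›⟩ ?_
  rw [h]
  infer_instance

lemma section_w {S : Scheme.{u}} (G : Over S) [GrpObj G] : η[G].left ≫ G.hom = 𝟙 S := Over.w _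

lemma unramified_of_isOpenImmersion {S : Scheme.{u}} (G : Over S) [GrpObj G]
    (h : IsOpenImmersion η[G].left) : FormallyUnramified G.hom := by
  have : IsOpenImmersion (pullback.diagonal G.hom) := GrpScheme.Basic.diagonal_mem _ h
  infer_instance

/-- (ii) ⟺ (iii) and, for G locally of finite presentation over S, (ii) ⟺ (iv): let G be an S-group
scheme. The unit section of G is an open immersion if and only if G is locally of finite
presentation over S on some open containing the unit section and every fibre G_s is unramified
(formally unramified and locally of finite presentation) over κ(s). If G is locally of finite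
presentation over S, the unit section is an open immersion if and only if G is unramified over S. -/
theorem result (S : Scheme.{u}) (G : Over S) [GrpObj G] :
    (IsOpenImmersion η[G].left ↔
      ((∃ W : G.left.Opens, (∀ p : ↥(𝟙_ (Over S)).left, η[G].left.base p ∈ W) ∧ LocallyOfFinitePresentation (W.ι ≫ G.hom)) ∧
        ∀ s : S, FormallyUnramified (G.hom.fiberToSpecResidueField s) ∧ LocallyOfFinitePresentation (G.hom.fiberToSpecResidueField s))) ∧
    (LocallyOfFinitePresentation G.hom → (IsOpenImmersion η[G].left ↔ FormallyUnramified G.hom)) := by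
  let e : S ⟶ G.left := η[G].left
  have he : e ≫ G.hom = 𝟙 S := section_w G
  refine ⟨⟨fun h => ?_, fun ⟨⟨W, hW, hWfp⟩, hfib⟩ => ?_⟩, fun hfp => ⟨unramified_of_isOpenImmersion G,
    fun h => isOpenImmersion_of_section G.hom e he⟩⟩
  · have h' : IsOpenImmersion e := h
    have hiso : LocallyOfFinitePresentation (e.opensRange.ι ≫ G.hom) := by
      rw [← e.isoOpensRange_inv_comp, Category.assoc, he, Category.comp_id]
      infer_instance
    refine ⟨⟨e.opensRange, fun p => ⟨p, rfl⟩, hiso⟩, fun s => ?_⟩
    have hU := unramified_of_isOpenImmersion G h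
    have hfu : FormallyUnramified (G.hom.fiberToSpecResidueField s) :=
      MorphismProperty.pullback_snd _ _ hU
    let Gs := Fibre.fib G s
    have hle : AtPt @LocallyOfFiniteType Gs.hom (GrpScheme.IdComponent.e₀ Gs) := by
      refine bc_atPt (IsPullback.of_hasPullback G.hom (S.fromSpecResidueField s)) _
        ⟨e.opensRange, ?_, inferInstanceAs (LocallyOfFiniteType (e.opensRange.ι ≫ G.hom))⟩
      exact ⟨s, (Fibre.fibι_unit G s).symm⟩
    obtain ⟨V₀, hV₀, hlft⟩ := hle
    obtain ⟨V, hV, hxV, hVV₀⟩ := exists_isAffineOpen_mem_and_subset (U := V₀) hV₀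
    have : LocallyOfFiniteType (V.ι ≫ Gs.hom) := by
      rw [← Scheme.homOfLE_ι _ (show V ≤ V₀ from hVV₀), Category.assoc]
      exact IsZariskiLocalAtSource.comp (P := @LocallyOfFiniteType) hlft _
    have : QuasiCompact (V.ι ≫ Gs.hom) := by
      rw [quasiCompact_iff_compactSpace]
      exact isCompact_iff_compactSpace.mp hV.isCompact
    have : LocallyOfFiniteType Gs.hom := Groth.Agent.S5340.result (S.residueField s) Gs V ⟨_, hxV⟩
    have hfld : IsLocallyNoetherian (Spec (CommRingCat.of (S.residueField s))) := inferInstance
    exact ⟨hfu, inferInstanceAs (LocallyOfFinitePresentation Gs.hom)⟩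
  · have : FormallyUnramified (W.ι ≫ G.hom) := by
      refine formallyUnramified_of_fibres _ fun s => ?_
      let φ := pullback.map (W.ι ≫ G.hom) (S.fromSpecResidueField s) G.hom (S.fromSpecResidueField s)
        W.ι (𝟙 _) (𝟙 _) (Category.comp_id _) (by simp)
      have hsnd : φ ≫ pullback.snd G.hom (S.fromSpecResidueField s) =
          pullback.snd (W.ι ≫ G.hom) (S.fromSpecResidueField s) :=
        (pullback.lift_snd _ _ _).trans (Category.comp_id _)
      have hsq : IsPullback (pullback.fst (W.ι ≫ G.hom) (S.fromSpecResidueField s)) φ W.ι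
          (pullback.fst G.hom (S.fromSpecResidueField s)) := by
        refine IsPullback.of_bot ?_ (pullback.lift_fst _ _ _).symm
          (IsPullback.of_hasPullback G.hom (S.fromSpecResidueField s))
        rw [hsnd]
        exact IsPullback.of_hasPullback _ _
      have : IsOpenImmersion φ := MorphismProperty.of_isPullback hsq (inferInstance : IsOpenImmersion W.ι)
      rw [show (W.ι ≫ G.hom).fiberToSpecResidueField s = φ ≫ G.hom.fiberToSpecResidueField s from
        ((pullback.lift_snd _ _ _).trans (Category.comp_id _)).symm]
      exact @IsZariskiLocalAtSource.comp @FormallyUnramified inferInstance _ _ _ _ (hfib s).1 φ this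
    have hrange : Set.range e ⊆ Set.range W.ι := by
      rintro _ ⟨p, rfl⟩
      rw [Scheme.Opens.range_ι]
      exact hW p
    have := isOpenImmersion_of_section (W.ι ≫ G.hom) (IsOpenImmersion.lift W.ι e hrange)
      (by rw [IsOpenImmersion.lift_fac_assoc, he])
    show IsOpenImmersion e
    rw [← IsOpenImmersion.lift_fac W.ι e hrange]
    infer_instance

end Groth.Agent.S5318
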