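import Groth.Statements.S5353
import Groth.Agent.S5318
import Groth.Agent.Thick.FlatCancel
import Groth.Agent.GrpdLib.FppfSourceDescentScheme
import Mathlib.AlgebraicGeometry.Morphisms.FlatDescent

set_option autoImplicit false
universe u
open CategoryTheory CategoryTheory.Limits MonoidalCategory CartesianMonoidalCategory MonObj GrpObj AlgebraicGeometry
open SGA3

namespace Groth.Agent.S5353

lemma isPullback_of_comp_mono {P X Y Z W : Scheme.{u}} {a : P ⟶ X} {b : P ⟶ Y} {f : X ⟶ Z} {g : Y ⟶ Z}
    {j : Z ⟶ W} [Mono j] (h : IsPullback a b (f ≫ j) (g ≫ j)) : IsPullback a b f g := by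
  have w : a ≫ f = b ≫ g := by
    rw [← cancel_mono j, Category.assoc, Category.assoc]
    exact h.w
  exact IsPullback.of_isLimit' ⟨w⟩ (PullbackCone.IsLimit.mk w
    (fun s => h.lift s.fst s.snd (by simp [s.condition_assoc]))
    (fun s => h.lift_fst _ _ _) (fun s => h.lift_snd _ _ _)
    (fun s m h1 h2 => h.hom_ext (by simp [h1]) (by simp [h2])))

/-- Let A be a local artinian ring, G an A-group scheme which is flat and locally of finite type, i : G⁰
→ G an open subgroup scheme whose image is the connected component of the unit (the neutral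
component), and p : G → Q a homomorphism of A-group schemes which is surjective, flat and locally of
finite presentation with kernel G⁰ (Q is the quotient of G by G⁰). Then Q is etale over A. -/
theorem result (A : Type u) [CommRing A] [IsArtinianRing A] [IsLocalRing A] (G0 G Q : Over (Spec (CommRingCat.of A))) [GrpObj G0] [GrpObj G] [GrpObj Q]
    [Flat G.hom] [LocallyOfFiniteType G.hom] (i : G0 ⟶ G) [IsMonHom i] [IsOpenImmersion i.left]
    (pt : ↥(𝟙_ (Over (Spec (CommRingCat.of A)))).left) (hi : Set.range i.left.base = connectedComponent (η[G].left.base pt))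
    (p : G ⟶ Q) [IsMonHom p] [Surjective p.left] [Flat p.left] [LocallyOfFinitePresentation p.left]
    (hK : AlgGrp.IsKernel i p) : Etale Q.hom := by
  let e : Spec (CommRingCat.of A) ⟶ Q.left := η[Q].left
  have : Subsingleton ↥(Spec (CommRingCat.of A)) := inferInstanceAs (Subsingleton (PrimeSpectrum A))
  have hw : p.left ≫ Q.hom = G.hom := Over.w p
  have : LocallyOfFiniteType Q.hom := by
    have : LocallyOfFiniteType (p.left ≫ Q.hom) := hw ▸ ‹LocallyOfFiniteType G.hom›
    exact Groth.Agent.GrpdLib.FppfSourceDescent.locallyOfFiniteType_of_comp_fppf p.left Q.hom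
  have : Flat Q.hom := by
    have : Flat (p.left ≫ Q.hom) := hw ▸ ‹Flat G.hom›
    exact Groth.Agent.Thick.FlatCancel.flat_of_comp p.left Q.hom
  have sq : IsPullback i.left (toUnit G0).left p.left e := hK.map (Over.forget _)
  -- the unit point of `Q` is open
  have himg : Set.range e = p.left '' Set.range i.left := by
    ext y
    constructor
    · rintro ⟨s, rfl⟩
      obtain ⟨x, hx⟩ := p.left.surjective (e s)
      obtain ⟨w, hw1, hw2⟩ := Scheme.exists_preimage_of_isPullback sq x s hx
      exact ⟨x, ⟨w, hw1⟩, hx⟩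
    · rintro ⟨_, ⟨w, rfl⟩, rfl⟩
      refine ⟨(toUnit G0).left w, ?_⟩
      rw [← Scheme.Hom.comp_apply, ← Scheme.Hom.comp_apply, sq.w]
  let V : Q.left.Opens := ⟨Set.range e, himg ▸ p.left.isOpenMap _ i.left.isOpenEmbedding.isOpen_range⟩
  let e' := IsOpenImmersion.lift V.ι e (by rw [Scheme.Opens.range_ι]; rfl)
  obtain ⟨w, hw⟩ : ∃ w, w ∈ p.left ⁻¹ᵁ V := by
    obtain ⟨x, hx⟩ := p.left.surjective (e (IsLocalRing.closedPoint A))
    exact ⟨x, ⟨_, hx.symm⟩⟩
  obtain ⟨D, hD, hwD, hDV⟩ := exists_isAffineOpen_mem_and_subset (U := p.left ⁻¹ᵁ V) hw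
  let q := IsOpenImmersion.lift V.ι (D.ι ≫ p.left) (by
    rintro _ ⟨x, rfl⟩
    rw [Scheme.Opens.range_ι]
    exact hDV x.2)
  have hq : q ≫ V.ι = D.ι ≫ p.left := IsOpenImmersion.lift_fac _ _ _
  have hsub : Subsingleton (V : Scheme.{u}) := ⟨fun ⟨a, ha⟩ ⟨b, hb⟩ => by
    obtain ⟨a', rfl⟩ := ha
    obtain ⟨b', rfl⟩ := hb
    exact Subtype.ext (congrArg e (Subsingleton.elim _ _))⟩
  have : Surjective q := ⟨fun v => ⟨⟨w, hwD⟩, Subsingleton.elim _ _⟩⟩
  have : Flat q := Groth.Agent.Thick.Topo.of_comp_mono q V.ι (by rw [hq]; exact inferInstanceAs (Flat (D.ι ≫ p.left)))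
  have : QuasiCompact q := by
    have hc : CompactSpace D := isCompact_iff_compactSpace.mp hD.isCompact
    refine ⟨fun O hO hOc => ?_⟩
    rcases Set.eq_empty_or_nonempty O with rfl | ⟨o, ho⟩
    · simp
    · rw [show O = Set.univ from Set.eq_univ_of_forall fun x => Subsingleton.elim o x ▸ ho, Set.preimage_univ]
      exact isCompact_univ
  have hfac : e' ≫ V.ι = e := IsOpenImmersion.lift_fac _ _ _
  have big : IsPullback (i.left ∣_ D) ((i.left ⁻¹ᵁ D).ι ≫ (toUnit G0).left) (D.ι ≫ p.left) e :=
    (isPullback_morphismRestrict i.left D).paste_vert sq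
  have small := isPullback_of_comp_mono (j := V.ι) (f := q) (g := e') (by rw [hq, hfac]; exact big)
  have hopen : IsOpenImmersion e' := MorphismProperty.of_isPullback_of_descendsAlong
    (P := @IsOpenImmersion) (Q := @Surjective ⊓ @Flat ⊓ @QuasiCompact) small
    ⟨⟨‹_›, ‹_›⟩, ‹_›⟩ inferInstance
  have hη : IsOpenImmersion η[Q].left := by
    show IsOpenImmersion e
    rw [← hfac]
    infer_instance
  have : LocallyOfFinitePresentation Q.hom := inferInstance
  have := ((Groth.Agent.S5318.result _ Q).2 inferInstance).mp hη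
  exact Etale.of_formallyUnramified_of_flat _

end Groth.Agent.S5353
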