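import Groth.Statements.S15745
import Groth.Agent.Props.AmpleFrames

set_option autoImplicit false
universe u
open QCohSup

namespace Groth.Agent.S15745

open AlgebraicGeometry in
open CategoryTheory in
/-- Let `X` be a scheme, `L` and `L'` invertible `O_X`-modules, `f` a global section of `L` and `g` a
global section of `L'`. Then the open `X_{f ⊗ g}` where `f ⊗ g` generates `L ⊗ L'` is the
intersection of the open `X_f` where `f` generates `L` and the open `X_g` where `g` generates `L'`.
(The published statement is for a locally ringed space; this row is its case of a scheme.) -/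
theorem result
    (X : Scheme.{u}) (L L' : X.Modules) (hL : PicF.IsInvertible L) (hL' : PicF.IsInvertible L')
    (f : Coh.structureModule X ⟶ L) (g : Coh.structureModule X ⟶ L') :
    CohB1.genLocus (CohB1.tensorMod L L') (SecTwist.tmulHom f g) =
      CohB1.genLocus L f ⊓ CohB1.genLocus L' g := by
  refine TopologicalSpace.Opens.ext (Set.ext fun x => ?_)
  obtain ⟨U, e, hxU, he⟩ := Groth.Agent.Props.GenLocus.exists_isGen hL x
  obtain ⟨V, e', hxV, he'⟩ := Groth.Agent.Props.GenLocus.exists_isGen hL' x
  have hU := he.restrict (inf_le_left : U ⊓ V ≤ U)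
  have hV := he'.restrict (inf_le_right : U ⊓ V ≤ V)
  obtain ⟨a, ha, -⟩ := hU.exists_eq le_rfl (Groth.Agent.Props.GenLocus.sec f (U ⊓ V))
  obtain ⟨b, hb, -⟩ := hV.exists_eq le_rfl (Groth.Agent.Props.GenLocus.sec g (U ⊓ V))
  rw [Groth.Agent.QCoh.res_self] at ha hb
  have key : Groth.Agent.Props.GenLocus.sec (SecTwist.tmulHom f g) (U ⊓ V) = (a * b) •
      Groth.Agent.Props.GenTensor.tmul (Groth.Agent.QCoh.res L inf_le_left e)
        (Groth.Agent.QCoh.res L' inf_le_right e') := by
    refine (SecTwist.val_tmulHom f g (U ⊓ V)).trans ?_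
    change Groth.Agent.Props.GenTensor.tmul (Groth.Agent.Props.GenLocus.sec f (U ⊓ V))
      (Groth.Agent.Props.GenLocus.sec g (U ⊓ V)) = _
    rw [ha, hb, Groth.Agent.Props.GenTensor.tmul_smul_left,
      Groth.Agent.Props.GenTensor.tmul_smul_right, smul_smul]
  have h := Groth.Agent.Props.GenLocus.genLocus_inf (Groth.Agent.Props.GenTensor.isGen_tmul hU hV) _ key
  rw [Scheme.basicOpen_mul, ← Groth.Agent.Props.GenLocus.genLocus_inf hU f ha,
    ← Groth.Agent.Props.GenLocus.genLocus_inf hV g hb] at h
  have h2 := congrArg (fun O : X.Opens => x ∈ O) h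
  simp only [TopologicalSpace.Opens.mem_inf, eq_iff_iff, SetLike.mem_coe] at h2 ⊢
  tauto

end Groth.Agent.S15745
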