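import Groth.Statements.S2921
import Groth.Agent.EtRamLib.Kummer.KummerEtale
import Groth.Agent.RegLoc.Basic
import Groth.Agent.VarDim.Algebra
import Mathlib.RingTheory.Etale.Basic
-- import your own Groth.Agent.* helpers here

set_option autoImplicit false
set_option linter.style.haveILetI false
universe u
open IsLocalRing
open SGA1

namespace Groth.Agent.S2921

open EtRamLib.Kummer.Basis in
/-- A linearly independent family in the cotangent space extends to generators of the maximal ideal. -/
theorem exists_generators (A : Type u) [CommRing A] [IsRegularLocalRing A] {r : ℕ} (f : Fin r → A)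
    (hm : ∀ i, f i ∈ maximalIdeal A)
    (hf : LinearIndependent (ResidueField A) (fun i => (maximalIdeal A).toCotangent ⟨f i, hm i⟩)) :
    ∃ (s : ℕ) (g : Fin s → A), maximalIdeal A = Ideal.span (Set.range f ∪ Set.range g) ∧
      ((r + s : ℕ) : WithBot ℕ∞) = ringKrullDim A := by
  let v := fun i => (maximalIdeal A).toCotangent ⟨f i, hm i⟩
  let W := Submodule.span (ResidueField A) (Set.range v)
  obtain ⟨W', hW'⟩ := Submodule.exists_isCompl W
  let c := Module.finBasis (ResidueField A) ↥W'
  choose g hg using fun j => (maximalIdeal A).toCotangent_surjective (c j : CotangentSpace A)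
  refine ⟨_, fun j => (g j : A), (RegLoc.eq_maximalIdeal_of_le_sup_sq (Ideal.span_le.2 ?_) ?_).symm, ?_⟩
  · rintro x (⟨i, rfl⟩ | ⟨j, rfl⟩)
    · exact hm i
    · exact (g j).2
  · have htop : Submodule.span (ResidueField A)
        (Set.range v ∪ Set.range fun j => (c j : CotangentSpace A)) = ⊤ := by
      rw [Submodule.span_union, ← hW'.sup_eq_top]
      congr 1
      rw [show (Set.range fun j => (c j : CotangentSpace A)) = W'.subtype '' Set.range c from
        Set.range_comp W'.subtype c, Submodule.span_image, c.span_eq, Submodule.map_top, Submodule.range_subtype]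
    intro x hx
    have hx' : (maximalIdeal A).toCotangent ⟨x, hx⟩ ∈ Submodule.span A
        (Set.range v ∪ Set.range fun j => (c j : CotangentSpace A)) := by
      rw [← Submodule.restrictScalars_mem A, ← Submodule.restrictScalars_span A (ResidueField A)
        IsLocalRing.residue_surjective, htop] at *
      trivial
    rw [show (Set.range v ∪ Set.range fun j => (c j : CotangentSpace A)) = (maximalIdeal A).toCotangent ''
        (Set.range (fun i => (⟨f i, hm i⟩ : maximalIdeal A)) ∪ Set.range g) by
      rw [Set.image_union, ← Set.range_comp, ← Set.range_comp]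
      exact congrArg _ (congrArg Set.range (funext fun j => (hg j).symm)),
      Submodule.span_image] at hx'
    obtain ⟨y, hy, hxy⟩ := hx'
    rw [Ideal.toCotangent_eq] at hxy
    refine Submodule.mem_sup.2 ⟨(y : A), ?_, x - y, ?_, add_sub_cancel _ _⟩
    · have := Submodule.mem_map_of_mem (f := (maximalIdeal A).subtype) hy
      rw [← Submodule.span_image] at this
      refine Submodule.span_mono ?_ this
      rintro _ ⟨_, ⟨i, rfl⟩ | ⟨j, rfl⟩, rfl⟩
      · exact Or.inl ⟨i, rfl⟩
      · exact Or.inr ⟨j, rfl⟩
    · simpa using neg_mem hxy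
  · rw [← IsRegularLocalRing.iff_finrank_cotangentSpace A |>.1 ‹_›]
    congr 1
    rw [← Submodule.finrank_add_eq_of_isCompl hW', finrank_span_eq_card hf, Fintype.card_fin]

open EtRamLib.Kummer.Basis in
theorem regular (A : Type u) [CommRing A] [IsRegularLocalRing A] (r : ℕ) (f : Fin r → A)
    (hm : ∀ i, f i ∈ maximalIdeal A)
    (hf : LinearIndependent (ResidueField A) (fun i => (maximalIdeal A).toCotangent ⟨f i, hm i⟩))
    (n : Fin r → ℕ) [∀ i, NeZero (n i)] : IsRegularLocalRing (SGA1.kummerAlg A f n) := by
  classical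
  let K := SGA1t.kummer A f n
  show IsRegularLocalRing K
  let b := kbasis f n
  haveI : Module.Finite A K := Module.Finite.of_basis b
  haveI : Module.Free A K := Module.Free.of_basis b
  haveI : Nontrivial K := b.repr.toEquiv.nontrivial
  haveI := isLocalRing_kummer f n hm
  haveI : IsNoetherianRing K := inferInstance
  obtain ⟨s, g, hg, hd⟩ := exists_generators A f hm hf
  let J : Ideal K := Ideal.span (Set.range (fun i => T f n i) ∪ Set.range fun j => algebraMap A K (g j))
  have hmJ : (maximalIdeal A).map (algebraMap A K) ≤ J := by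
    rw [hg, Ideal.map_span, Ideal.span_le]
    rintro _ ⟨_, ⟨i, rfl⟩ | ⟨j, rfl⟩, rfl⟩
    · rw [SetLike.mem_coe, ← T_pow]
      exact J.pow_mem_of_mem (Ideal.subset_span (Or.inl ⟨i, rfl⟩)) _ (NeZero.pos _)
    · exact Ideal.subset_span (Or.inr ⟨j, rfl⟩)
  have hsub : ∀ p : MvPolynomial (Fin r) A,
      (Ideal.Quotient.mk _ p : K) - algebraMap A K (MvPolynomial.constantCoeff p) ∈ J := fun p => by
    induction p using MvPolynomial.induction_on with
    | C a => rw [MvPolynomial.constantCoeff_C]; exact (sub_self (algebraMap A K a)).symm ▸ J.zero_mem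
    | add p q hp hq =>
      rw [map_add, map_add, map_add, add_sub_add_comm]
      exact J.add_mem hp hq
    | mul_X p i hp =>
      rw [map_mul, map_mul, MvPolynomial.constantCoeff_X, mul_zero, map_zero, sub_zero]
      exact J.mul_mem_left _ (Ideal.subset_span (Or.inl ⟨i, rfl⟩))
  have hcomap : (maximalIdeal K).comap (algebraMap A K) = maximalIdeal A :=
    IsLocalRing.eq_maximalIdeal (Ideal.isMaximal_comap_of_isIntegral_of_isMaximal _)
  have hJle : J ≤ maximalIdeal K := by
    refine Ideal.span_le.2 ?_
    rintro _ (⟨i, rfl⟩ | ⟨j, rfl⟩)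
    · refine (maximalIdeal.isMaximal K).isPrime.mem_of_pow_mem (n i) ?_
      rw [T_pow, ← Ideal.mem_comap, hcomap]
      exact hm i
    · show g j ∈ (maximalIdeal K).comap (algebraMap A K)
      rw [hcomap, hg]
      exact Ideal.subset_span (Or.inr ⟨j, rfl⟩)
  have hJ : maximalIdeal K = J := by
    refine le_antisymm (fun x hx => ?_) hJle
    obtain ⟨p, rfl⟩ := Ideal.Quotient.mk_surjective x
    have hc : MvPolynomial.constantCoeff p ∈ maximalIdeal A := by
      rw [← hcomap, Ideal.mem_comap]
      simpa using sub_mem hx (hJle (hsub p))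
    simpa using J.add_mem (hsub p) (hmJ (Ideal.mem_map_of_mem _ hc))
  refine IsRegularLocalRing.of_spanFinrank_maximalIdeal_le K ?_
  haveI : Algebra.IsIntegral A K := Algebra.IsIntegral.of_finite A K
  haveI : FaithfulSMul A K := Module.Free.instFaithfulSMulOfNontrivial A K
  rw [VarDim.ringKrullDim_eq_of_isIntegral (R := A) (S := K), ← hd]
  refine WithBot.coe_le_coe.2 (Nat.cast_le.2 ?_)
  rw [hJ]
  refine (Submodule.spanFinrank_span_le_ncard_of_finite ((Set.finite_range _).union (Set.finite_range _))).trans ?_
  refine (Set.ncard_union_le _ _).trans (Nat.add_le_add ?_ ?_) <;>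
  · rw [← Set.image_univ]
    exact (Set.ncard_image_le Set.finite_univ).trans (by simp [Set.ncard_univ])

open EtRamLib.Kummer.Basis in
theorem etale (A : Type u) [CommRing A] [IsLocalRing A] {r : ℕ} (f : Fin r → A)
    (n : Fin r → ℕ) [∀ i, NeZero (n i)] (hu : ∀ i, IsUnit ((n i : ℕ) : ResidueField A)) :
    letI := (Localization.awayMap (algebraMap A (SGA1.kummerAlg A f n)) (∏ i, f i)).toAlgebra
    Algebra.Etale (Localization.Away (∏ i, f i))
      (Localization.Away (algebraMap A (SGA1.kummerAlg A f n) (∏ i, f i))) := by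
  classical
  show letI := (Localization.awayMap (algebraMap A (SGA1t.kummer A f n)) (∏ i, f i)).toAlgebra
    Algebra.Etale (Localization.Away (∏ i, f i))
      (Localization.Away (algebraMap A (SGA1t.kummer A f n) (∏ i, f i)))
  have hn : ∀ i, IsUnit ((n i : ℕ) : A) := fun i =>
    isUnit_of_map_unit (residue A) _ (by rw [map_natCast]; exact hu i)
  haveI := etale_away f n hn
  let x := algebraMap A (SGA1t.kummer A f n) (∏ i, f i)
  let L := Localization.Away (tt f n)
  let M := Localization.Away x
  have hx : x = ∏ i, T f n i ^ n i := by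
    simp only [x, map_prod, T_pow]
  have h₁ : IsUnit (algebraMap (SGA1t.kummer A f n) L x) := by
    rw [hx, map_prod]
    exact IsUnit.prod_iff.2 fun i _ => by
      rw [map_pow]
      exact (isUnit_of_dvd_unit (map_dvd _ (Finset.dvd_prod_of_mem _ (Finset.mem_univ i)))
        (IsLocalization.Away.algebraMap_isUnit (tt f n))).pow _
  have h₂ : IsUnit (algebraMap (SGA1t.kummer A f n) M (tt f n)) := by
    refine isUnit_of_dvd_unit (map_dvd _ ?_) (IsLocalization.Away.algebraMap_isUnit x)
    rw [hx]
    exact Finset.prod_dvd_prod_of_dvd _ _ fun i _ => dvd_pow_self _ (NeZero.ne (n i))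
  let e : L ≃ₐ[SGA1t.kummer A f n] M := AlgEquiv.ofAlgHom
    (IsLocalization.Away.liftAlgHom (tt f n) (f := Algebra.ofId _ _) h₂)
    (IsLocalization.Away.liftAlgHom x (f := Algebra.ofId _ _) h₁) 
    (AlgHom.coe_ringHom_injective (IsLocalization.ringHom_ext (Submonoid.powers x) (RingHom.ext fun k => by simp [M])))
    (AlgHom.coe_ringHom_injective (IsLocalization.ringHom_ext (Submonoid.powers (tt f n)) (RingHom.ext fun k => by simp [L])))
  haveI : Algebra.Etale A M := Algebra.Etale.of_equiv (e.restrictScalars A)
  letI := (Localization.awayMap (algebraMap A (SGA1t.kummer A f n)) (∏ i, f i)).toAlgebra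
  haveI : IsScalarTower A (Localization.Away (∏ i, f i)) M := IsScalarTower.of_algebraMap_eq fun a => by
    rw [RingHom.algebraMap_toAlgebra, Localization.awayMap, IsLocalization.Away.map, IsLocalization.map_eq]
    rfl
  haveI : Algebra.Etale A (Localization.Away (∏ i, f i)) := Algebra.Etale.of_isLocalizationAway (∏ i, f i)
  exact Algebra.Etale.of_restrictScalars A (Localization.Away (∏ i, f i)) M

/-- Regularity and etaleness; the tameness assertion is not stated: Let A be a regular local ring, f_1,
…, f_r elements of the maximal ideal whose images in the cotangent space are linearly independent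
(part of a regular system of parameters), and n_1, …, n_r ≥ 1. Then A' = A[T_1, …, T_r]/(T_i^{n_i} −
f_i) is a regular local ring; and if each n_i is invertible in the residue field of A, then A'
becomes etale over A after inverting f_1 ⋯ f_r. -/
theorem result (A : Type u) [CommRing A] [IsRegularLocalRing A] (r : ℕ) (f : Fin r → A)
    (hm : ∀ i, f i ∈ maximalIdeal A)
    (hf : LinearIndependent (ResidueField A) (fun i => (maximalIdeal A).toCotangent ⟨f i, hm i⟩))
    (n : Fin r → ℕ) (hn : ∀ i, 1 ≤ n i) :
    IsRegularLocalRing (SGA1.kummerAlg A f n) ∧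
    ((∀ i, IsUnit ((n i : ℕ) : ResidueField A)) →
      letI := (Localization.awayMap (algebraMap A (SGA1.kummerAlg A f n)) (∏ i, f i)).toAlgebra
      Algebra.Etale (Localization.Away (∏ i, f i)) (Localization.Away (algebraMap A (SGA1.kummerAlg A f n) (∏ i, f i)))) := by
  haveI : ∀ i, NeZero (n i) := fun i => ⟨Nat.one_le_iff_ne_zero.1 (hn i)⟩
  exact ⟨regular A r f hm hf n, fun hu => etale A f n hu⟩

end Groth.Agent.S2921
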