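import Groth.Statements.S7139
import Mathlib

set_option autoImplicit false
universe u
open scoped Pointwise
open EtAlg

namespace Groth.Agent.S7139

open scoped Pointwise in
lemma card_stabilizer {R S H : Type u} [CommRing R] [CommRing S] [IsDomain R] [IsDomain S] [Algebra R S]
    [Module.Finite R S] [Module.Flat R S] [Group H] [Finite H] [MulSemiringAction H S] [IsGaloisGroup H R S]
    (p : Ideal R) [p.IsPrime] (P : Ideal S) [P.IsPrime] [P.LiesOver p] :
    Nat.card (MulAction.stabilizer H P) = P.ramificationIdx R * P.inertiaDeg R := by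
  have hH : (p.primesOver S).ncard * Nat.card (MulAction.stabilizer H P) = Nat.card H := by
    rw [← Algebra.IsInvariant.orbit_eq_primesOver R S H p P]
    simpa using Nat.card_congr (MulAction.orbitProdStabilizerEquivGroup H P)
  rw [← Ideal.ncard_primesOver_mul_ramificationIdxIn_mul_inertiaDegIn p S H,
    Ideal.ramificationIdxIn_eq_ramificationIdx p P H, Ideal.inertiaDegIn_eq_inertiaDeg p P H] at hH
  refine mul_left_cancel₀ (fun h0 ↦ ?_) hH
  have := Ideal.ncard_primesOver_mul_ramificationIdxIn_mul_inertiaDegIn p S H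
  rw [h0, zero_mul] at this
  exact Nat.card_pos.ne' this.symm

open scoped Pointwise in
lemma card_stabilizer_eq_card_inertia_mul_sep {R S H : Type u} [CommRing R] [CommRing S] [Algebra R S]
    [Group H] [Finite H] [MulSemiringAction H S] [IsGaloisGroup H R S]
    (p : Ideal R) [p.IsMaximal] (P : Ideal S) [P.IsMaximal] [P.LiesOver p] :
    letI : Field (R ⧸ p) := Ideal.Quotient.field p
    letI : Field (S ⧸ P) := Ideal.Quotient.field P
    Nat.card (MulAction.stabilizer H P) = Nat.card (P.inertia H) * Field.finSepDegree (R ⧸ p) (S ⧸ P) := by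
  letI : Field (R ⧸ p) := Ideal.Quotient.field p
  letI : Field (S ⧸ P) := Ideal.Quotient.field P
  haveI : Normal (R ⧸ p) (S ⧸ P) := Ideal.Quotient.normal H p P
  have hidx : ((Ideal.inertia H P).subgroupOf (MulAction.stabilizer H P)).index = Field.finSepDegree (R ⧸ p) (S ⧸ P) := by
    rw [Field.finSepDegree, Field.Emb, Nat.card_congr (Normal.algHomEquivAut (R ⧸ p) (AlgebraicClosure (S ⧸ P)) (S ⧸ P)),
      AddSubgroup.subgroupOf_inertia]
    exact Nat.card_congr (Ideal.Quotient.stabilizerQuotientInertiaEquiv H p P).toEquiv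
  rw [← hidx, ← ((Ideal.inertia H P).subgroupOf (MulAction.stabilizer H P)).card_mul_index,
    Nat.card_congr (Subgroup.subgroupOfEquivOfLe (Ideal.inertia_le_stabilizer (M := H) P)).toEquiv]

/-- An unramified point of a finite flat algebra with finitely many points: étale localisation. -/
lemma etale_localization {A S : Type u} [CommRing A] [IsDomain A] [IsDiscreteValuationRing A] [CommRing S]
    [IsDedekindDomain S] [Algebra A S] [Module.Finite A S] [FaithfulSMul A S] (p : Ideal A) [p.IsMaximal]
    (P : Ideal S) [P.IsMaximal] (hP : P ≠ ⊥) [Algebra.IsUnramifiedAt A P] :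
    Algebra.Etale A (Localization.AtPrime P) := by
  classical
  haveI : Algebra.IsIntegral A S := Algebra.IsIntegral.of_finite A S
  have hp : p = IsLocalRing.maximalIdeal A := IsLocalRing.eq_maximalIdeal ‹_›
  have hfin : {M : Ideal S | M.IsMaximal}.Finite := by
    refine Set.Finite.subset (Algebra.QuasiFinite.finite_primesOver (R := A) (S := S) p) fun M hM ↦ ?_
    haveI : M.IsMaximal := hM
    exact ⟨hM.isPrime, ⟨by rw [hp]; exact (IsLocalRing.eq_maximalIdeal (Ideal.isMaximal_comap_of_isIntegral_of_isMaximal M)).symm⟩⟩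
  have hex : ∀ M : Ideal S, M.IsMaximal → M ≠ P → ∃ x ∈ M, x ∉ P := fun M hM hne ↦
    SetLike.not_le_iff_exists.1 fun hle ↦ hne (hM.eq_of_le (Ideal.IsPrime.ne_top inferInstance) hle)
  choose! x hxM hxP using hex
  let s := ∏ M ∈ hfin.toFinset.erase P, x M
  have hsP : s ∈ P.primeCompl := prod_mem fun M hM ↦ by
    rw [Finset.mem_erase, Set.Finite.mem_toFinset] at hM
    exact hxP M hM.2 hM.1
  haveI : IsLocalization P.primeCompl (Localization.Away s) := by
    refine IsLocalization.of_le (M := Submonoid.powers s) P.primeCompl ((Submonoid.powers_le).2 hsP) fun y hy ↦ ?_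
    by_contra hu
    obtain ⟨Q, hQ, hyQ⟩ := exists_max_ideal_of_mem_nonunits hu
    haveI := hQ
    have hsQ : s ∉ Q.comap (algebraMap S (Localization.Away s)) := fun h ↦
      hQ.ne_top (Ideal.eq_top_of_isUnit_mem _ h (IsLocalization.Away.algebraMap_isUnit s))
    haveI hprime : (Q.comap (algebraMap S (Localization.Away s))).IsPrime := Ideal.IsPrime.comap _
    rcases eq_or_ne (Q.comap (algebraMap S (Localization.Away s))) ⊥ with h0 | h0
    · have : y ∈ Q.comap (algebraMap S (Localization.Away s)) := hyQ
      rw [h0, Ideal.mem_bot] at this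
      exact hy (this ▸ zero_mem P)
    · have hmax : (Q.comap (algebraMap S (Localization.Away s))).IsMaximal := hprime.isMaximal h0
      refine hy ?_
      by_cases heq : Q.comap (algebraMap S (Localization.Away s)) = P
      · exact heq ▸ hyQ
      · refine absurd (Ideal.mem_of_dvd _ (Finset.dvd_prod_of_mem x ?_) (hxM _ hmax heq)) hsQ
        rw [Finset.mem_erase, Set.Finite.mem_toFinset]
        exact ⟨heq, hmax⟩
  let e : Localization.Away s ≃ₐ[A] Localization.AtPrime P :=
    (IsLocalization.algEquiv P.primeCompl (Localization.Away s) (Localization.AtPrime P)).restrictScalars A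
  haveI : Algebra.FormallyUnramified A (Localization.AtPrime P) := ‹Algebra.IsUnramifiedAt A P›
  haveI : Algebra.FormallyUnramified A (Localization.Away s) := Algebra.FormallyUnramified.of_equiv e.symm
  haveI : Module.IsTorsionFree A S := inferInstance
  haveI : Module.Flat A S := inferInstance
  haveI : Module.Flat S (Localization.Away s) := IsLocalization.flat _ (Submonoid.powers s)
  haveI : Module.Flat A (Localization.Away s) := Module.Flat.trans A S _
  haveI : Algebra.FinitePresentation A S := Algebra.FinitePresentation.of_finiteType.1 inferInstance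
  haveI : Algebra.FinitePresentation A (Localization.Away s) := Algebra.FinitePresentation.trans A S _
  haveI : Algebra.Etale A (Localization.Away s) := Algebra.Etale.of_formallyUnramified_of_flat
  exact Algebra.Etale.of_equiv e

/-- A is a discrete valuation ring, K its field of fractions, and L/K is finite Galois with Galois group
G. Write B for the integral closure of A in L, equipped with the induced G-action, m a maximal ideal
of B and I ⊆ G its inertia group. Denote by B' the integral closure of A inside the fixed field L^I,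
with a map to B compatible with L^I ⊆ L. Then the image of B' in B is the ring of invariants B^I,
and A → B'_{m'} is étale, where m' = m ∩ B'. -/
theorem result (A K L B : Type u) [CommRing A] [IsDomain A]
    [IsDiscreteValuationRing A] [Field K] [Field L] [Algebra A K] [IsFractionRing A K] [Algebra K L]
    [Algebra A L] [IsScalarTower A K L] [FiniteDimensional K L] [IsGalois K L]
    [CommRing B] [Algebra A B] [Algebra B L] [IsScalarTower A B L] [IsIntegralClosure B A L]
    [MulSemiringAction (L ≃ₐ[K] L) B]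
    (hact : ∀ (σ : L ≃ₐ[K] L) (b : B), algebraMap B L (σ • b) = σ (algebraMap B L b))
    (m : Ideal B) [m.IsMaximal]
    (B' : Type u) [CommRing B'] [Algebra A B'] [Algebra B' B] [IsScalarTower A B' B] [Algebra B' L]
    [IsScalarTower B' B L]
    [Algebra B' (IntermediateField.fixedField (m.inertia (L ≃ₐ[K] L)))]
    [IsScalarTower B' (IntermediateField.fixedField (m.inertia (L ≃ₐ[K] L))) L]
    [IsIntegralClosure B' A (IntermediateField.fixedField (m.inertia (L ≃ₐ[K] L)))] :
    (∀ b : B, (∀ σ ∈ m.inertia (L ≃ₐ[K] L), σ • b = b) ↔ b ∈ Set.range (algebraMap B' B)) ∧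
      Algebra.Etale A (Localization.AtPrime (m.comap (algebraMap B' B))) := by
  classical
  haveI : IsScalarTower A B' L := IsScalarTower.of_algebraMap_eq fun a ↦ by
    rw [IsScalarTower.algebraMap_apply B' B L, ← IsScalarTower.algebraMap_apply A B' B,
      ← IsScalarTower.algebraMap_apply A B L]
  haveI : IsScalarTower A (IntermediateField.fixedField (m.inertia (L ≃ₐ[K] L))) L := IsScalarTower.of_algebraMap_eq fun a ↦ rfl
  haveI : IsScalarTower A B' (IntermediateField.fixedField (m.inertia (L ≃ₐ[K] L))) := IsScalarTower.of_algebraMap_eq fun a ↦ (algebraMap (IntermediateField.fixedField (m.inertia (L ≃ₐ[K] L))) L).injective (by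
    rw [← IsScalarTower.algebraMap_apply A (IntermediateField.fixedField (m.inertia (L ≃ₐ[K] L))) L, ← IsScalarTower.algebraMap_apply B' (IntermediateField.fixedField (m.inertia (L ≃ₐ[K] L))) L,
      ← IsScalarTower.algebraMap_apply A B' L])
  have hinjB : Function.Injective (algebraMap B L) := IsIntegralClosure.algebraMap_injective B A L
  have hinjB' : Function.Injective (algebraMap B' B) := by
    intro x y h
    apply IsIntegralClosure.algebraMap_injective B' A (IntermediateField.fixedField (m.inertia (L ≃ₐ[K] L)))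
    apply (algebraMap (IntermediateField.fixedField (m.inertia (L ≃ₐ[K] L))) L).injective
    rw [← IsScalarTower.algebraMap_apply B' (IntermediateField.fixedField (m.inertia (L ≃ₐ[K] L))) L, ← IsScalarTower.algebraMap_apply B' (IntermediateField.fixedField (m.inertia (L ≃ₐ[K] L))) L,
      IsScalarTower.algebraMap_apply B' B L, IsScalarTower.algebraMap_apply B' B L, h]
  have hfix : ∀ (x : B') (σ : (L ≃ₐ[K] L)), σ ∈ (m.inertia (L ≃ₐ[K] L)) → σ • algebraMap B' B x = algebraMap B' B x := by
    intro x σ hσ
    apply hinjB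
    rw [hact, ← IsScalarTower.algebraMap_apply B' B L, IsScalarTower.algebraMap_apply B' (IntermediateField.fixedField (m.inertia (L ≃ₐ[K] L))) L]
    exact (algebraMap B' (IntermediateField.fixedField (m.inertia (L ≃ₐ[K] L))) x).2 ⟨σ, hσ⟩
  have hinv : ∀ b : B, (∀ σ ∈ (m.inertia (L ≃ₐ[K] L)), σ • b = b) ↔ b ∈ Set.range (algebraMap B' B) := by
    intro b
    refine ⟨fun h ↦ ?_, fun ⟨x, hx⟩ σ hσ ↦ hx ▸ hfix x σ hσ⟩
    let c : (IntermediateField.fixedField (m.inertia (L ≃ₐ[K] L))) := ⟨algebraMap B L b, fun σ ↦ by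
      change (σ : (L ≃ₐ[K] L)) (algebraMap B L b) = algebraMap B L b
      rw [← hact, h _ σ.2]⟩
    have hc : IsIntegral A c := by
      have : IsIntegral A (algebraMap (IntermediateField.fixedField (m.inertia (L ≃ₐ[K] L))) L c) := IsIntegral.map (IsScalarTower.toAlgHom A B L) (IsIntegralClosure.isIntegral A L b)
      exact (isIntegral_algebraMap_iff (algebraMap (IntermediateField.fixedField (m.inertia (L ≃ₐ[K] L))) L).injective).1 this
    obtain ⟨x, hx⟩ := (IsIntegralClosure.isIntegral_iff (A := B')).1 hc
    refine ⟨x, hinjB ?_⟩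
    rw [← IsScalarTower.algebraMap_apply B' B L, IsScalarTower.algebraMap_apply B' (IntermediateField.fixedField (m.inertia (L ≃ₐ[K] L))) L, hx]
    rfl
  refine ⟨hinv, ?_⟩
  haveI : IsDomain B := hinjB.isDomain
  haveI : IsDomain B' := hinjB'.isDomain
  haveI : Algebra.IsSeparable K L := inferInstance
  haveI : Module.Finite A B := IsIntegralClosure.finite A K L B
  haveI : IsDedekindDomain B := IsIntegralClosure.isDedekindDomain A K L B
  haveI : Module.Finite A B' := IsIntegralClosure.finite A K (IntermediateField.fixedField (m.inertia (L ≃ₐ[K] L))) B'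
  haveI : IsDedekindDomain B' := IsIntegralClosure.isDedekindDomain A K (IntermediateField.fixedField (m.inertia (L ≃ₐ[K] L))) B'
  haveI : FaithfulSMul B' B := (faithfulSMul_iff_algebraMap_injective B' B).2 hinjB'
  haveI : Module.Finite B' B := Module.Finite.of_restrictScalars_finite A B' B
  have hAL : Function.Injective (algebraMap A L) := by
    rw [IsScalarTower.algebraMap_eq A K L]
    exact (algebraMap K L).injective.comp (IsFractionRing.injective A K)
  haveI : FaithfulSMul A B := (faithfulSMul_iff_algebraMap_injective A B).2 fun a b h ↦ hAL (by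
    rw [IsScalarTower.algebraMap_apply A B L, h, ← IsScalarTower.algebraMap_apply A B L])
  haveI : FaithfulSMul A B' := (faithfulSMul_iff_algebraMap_injective A B').2 fun a b h ↦ hAL (by
    rw [IsScalarTower.algebraMap_apply A B' L, h, ← IsScalarTower.algebraMap_apply A B' L])
  haveI : IsFractionRing B L := IsIntegralClosure.isFractionRing_of_finite_extension A K L B
  haveI : SMulDistribClass (L ≃ₐ[K] L) B L := ⟨fun σ b x ↦ by
    rw [Algebra.smul_def, Algebra.smul_def, smul_mul', AlgEquiv.smul_def σ (algebraMap B L b), ← hact]⟩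
  haveI : IsGaloisGroup (L ≃ₐ[K] L) A B := IsGaloisGroup.of_isFractionRing (L ≃ₐ[K] L) A B K L
  haveI : IsGaloisGroup (m.inertia (L ≃ₐ[K] L)) B' B :=
    { faithful := ⟨fun {σ τ} h ↦ Subtype.ext ((IsGaloisGroup.faithful (G := (L ≃ₐ[K] L)) (A := A) (B := B)).eq_of_smul_eq_smul h)⟩
      commutes := ⟨fun σ x b ↦ by
        rw [Algebra.smul_def, Algebra.smul_def, smul_mul']
        congr 1
        exact hfix x σ σ.2⟩
      isInvariant := ⟨fun b hb ↦ (hinv b).1 fun σ hσ ↦ hb ⟨σ, hσ⟩⟩ }
  set p := IsLocalRing.maximalIdeal A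
  set m' := m.comap (algebraMap B' B) with hm'
  haveI : Algebra.IsIntegral A B := Algebra.IsIntegral.of_finite A B
  haveI : Algebra.IsIntegral B' B := Algebra.IsIntegral.of_finite B' B
  haveI : m'.IsMaximal := Ideal.isMaximal_comap_of_isIntegral_of_isMaximal m
  haveI hmp : m.LiesOver p := ⟨(IsLocalRing.eq_maximalIdeal (Ideal.isMaximal_comap_of_isIntegral_of_isMaximal m)).symm⟩
  haveI : m.LiesOver m' := ⟨rfl⟩
  haveI : m'.LiesOver p := Ideal.LiesOver.tower_bot m m' p
  have h1 := card_stabilizer (H := (L ≃ₐ[K] L)) p m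
  have h2 := card_stabilizer (H := (m.inertia (L ≃ₐ[K] L))) m' m
  have h3 := card_stabilizer_eq_card_inertia_mul_sep (H := (L ≃ₐ[K] L)) p m
  have h4 := card_stabilizer_eq_card_inertia_mul_sep (H := (m.inertia (L ≃ₐ[K] L))) m' m
  have hI : Nat.card (m.inertia (m.inertia (L ≃ₐ[K] L))) = Nat.card (m.inertia (L ≃ₐ[K] L)) := by
    have : m.inertia (m.inertia (L ≃ₐ[K] L)) = ⊤ := eq_top_iff.2 fun σ _ ↦ σ.2
    rw [this, Subgroup.card_top]
  have hstab : Nat.card (MulAction.stabilizer (m.inertia (L ≃ₐ[K] L)) m) = Nat.card (m.inertia (L ≃ₐ[K] L)) := by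
    have : MulAction.stabilizer (m.inertia (L ≃ₐ[K] L)) m = ⊤ := eq_top_iff.2 fun σ _ ↦ Ideal.inertia_le_stabilizer (M := (L ≃ₐ[K] L)) m σ.2
    rw [this, Subgroup.card_top]
  rw [hI] at h4
  replace h4 := hstab.symm.trans h4
  replace h2 := hstab.symm.trans h2
  letI : Field (A ⧸ p) := Ideal.Quotient.field p
  letI : Field (B' ⧸ m') := Ideal.Quotient.field m'
  letI : Field (B ⧸ m) := Ideal.Quotient.field m
  haveI : IsScalarTower (A ⧸ p) (B' ⧸ m') (B ⧸ m) := IsScalarTower.of_algebraMap_eq fun x ↦ by
    obtain ⟨a, rfl⟩ := Ideal.Quotient.mk_surjective x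
    change Ideal.Quotient.mk m (algebraMap A B a) = Ideal.Quotient.mk m (algebraMap B' B (algebraMap A B' a))
    rw [← IsScalarTower.algebraMap_apply]
  haveI : Module.Finite (A ⧸ p) (B' ⧸ m') := Module.Finite.of_restrictScalars_finite A _ _
  haveI : Module.Finite (A ⧸ p) (B ⧸ m) := Module.Finite.of_restrictScalars_finite A _ _
  haveI : Module.Finite (B' ⧸ m') (B ⧸ m) := Module.Finite.of_restrictScalars_finite B' _ _
  have hfs1 : Field.finSepDegree (B' ⧸ m') (B ⧸ m) = 1 :=
    mul_left_cancel₀ Nat.card_pos.ne' (h4.symm.trans (mul_one _).symm)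
  have hmul := Field.finSepDegree_mul_finSepDegree_of_isAlgebraic (A ⧸ p) (B' ⧸ m') (B ⧸ m)
  rw [hfs1, mul_one] at hmul
  have hef : m'.ramificationIdx A * m'.inertiaDeg A = Field.finSepDegree (A ⧸ p) (B' ⧸ m') := by
    rw [hmul]
    rw [h1, Ideal.ramificationIdx_tower m' m, Ideal.inertiaDeg_tower m' m, mul_mul_mul_comm, ← h2, mul_comm] at h3
    exact mul_left_cancel₀ Nat.card_pos.ne' h3
  have hf : m'.inertiaDeg A = Module.finrank (A ⧸ p) (B' ⧸ m') :=
    Ideal.inertiaDeg_eq_of_isFractionRing p m' (A ⧸ p) (B' ⧸ m')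
  have hle : Field.finSepDegree (A ⧸ p) (B' ⧸ m') ≤ Module.finrank (A ⧸ p) (B' ⧸ m') := Field.finSepDegree_le_finrank _ _
  have hepos := m'.ramificationIdx_pos A
  have he : m'.ramificationIdx A = 1 := by
    refine le_antisymm ?_ hepos
    rw [← hef, hf] at hle
    exact Nat.le_of_mul_le_mul_right (by simpa using hle) Module.finrank_pos
  haveI : Algebra.IsSeparable (A ⧸ p) (B' ⧸ m') :=
    (Field.finSepDegree_eq_finrank_iff _ _).1 (by rw [← hef, he, one_mul, hf])
  have hm'0 : m' ≠ ⊥ := Ideal.ne_bot_of_liesOver_of_ne_bot (IsDiscreteValuationRing.not_a_field A) m'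
  haveI : Algebra.IsUnramifiedAt A m' := by
    letI := Localization.AtPrime.algebraOfLiesOver p m'
    rw [Algebra.isUnramifiedAt_iff_map_eq A p m']
    refine ⟨inferInstance, ?_⟩
    have hover : p.map (algebraMap A B') ≤ m' := Ideal.map_le_iff_le_comap.2 (Ideal.LiesOver.over (P := m') (p := p)).le
    rw [← Ideal.IsDedekindDomain.ramificationIdx'_eq_one_iff hm'0 hover,
      Ideal.ramificationIdx'_eq_ramificationIdx p m' (IsDiscreteValuationRing.not_a_field A), he]
  exact etale_localization p m' hm'0

end Groth.Agent.S7139
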