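import Groth.Statements.S0247
import Groth.Agent.PurityReg.Sections

set_option autoImplicit false
universe u
open Pi1

namespace Groth.Agent.S0247

open AlgebraicGeometry CategoryTheory CategoryTheory.Limits in
/-- For a regular local ring A of Krull dimension at least 2, every finite etale cover of the punctured
spectrum of A extends to a finite etale cover of Spec A. -/
theorem result (A : Type u) [CommRing A] [IsRegularLocalRing A] (h : (2 : WithBot ℕ∞) ≤ ringKrullDim A) :
    FEt.PurityHolds A := by
  have := Groth.Agent.RegLoc.isDomain A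
  have := Groth.Agent.RegLoc.UFD.uniqueFactorizationMonoid A
  refine ⟨fun V => ?_⟩
  obtain ⟨hfin, hiff⟩ := Groth.Agent.S1185.result A h V
  have hP := Groth.Agent.S1185.isPullback_toSpecΓ V (Groth.Agent.ParaFLib.PicUFD.two_le_depth_of_normal A h)
  let := (Groth.Agent.S1185.strMap V).hom.toAlgebra
  have : Module.Finite A Γ(V.left, ⊤) := RingHom.finite_algebraMap.mp hfin
  obtain ⟨Y, hY⟩ := hiff.mpr (RingHom.etale_algebraMap.mpr (Groth.Agent.PurityReg.etale_of_saturated h Γ(V.left, ⊤)
    (Groth.Agent.PurityReg.sections_torsion_free V hP) (Groth.Agent.PurityReg.sections_saturated V hP)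
    fun a ha _ => (Groth.Agent.S1185.finite_etale_away V hP a ha).2.1))
  exact ⟨Y, hY⟩

end Groth.Agent.S0247
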