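import Groth.Statements.S1989
import Mathlib
import Groth.Agent.EtRamLib.ValTower

set_option autoImplicit false
universe u
open EtAlg

namespace Groth.Agent.S1989

/-- Let K be the fraction field of a discrete valuation ring A, and K ⊂ L ⊂ M finite separable
extensions. If M is tamely ramified, respectively unramified, with respect to A, then so is L. -/
theorem result (A K : Type u) [CommRing A] [IsDomain A] [IsDiscreteValuationRing A] [Field K] [Algebra A K] [IsFractionRing A K] (L M : Type u) [Field L] [Field M]
    [Algebra K L] [Algebra K M] [Algebra L M] [IsScalarTower K L M] [FiniteDimensional K M] [Algebra.IsSeparable K M] :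
    (EtRam.IsTamelyRamified A ((algebraMap K M).comp (algebraMap A K)) →
      EtRam.IsTamelyRamified A ((algebraMap K L).comp (algebraMap A K))) ∧
    (EtRam.IsUnramifiedExt A ((algebraMap K M).comp (algebraMap A K)) →
      EtRam.IsUnramifiedExt A ((algebraMap K L).comp (algebraMap A K))) := by
  have hL : FiniteDimensional K L := Module.Finite.of_injective (IsScalarTower.toAlgHom K L M).toLinearMap
    (algebraMap L M).injective
  have hLs : Algebra.IsSeparable K L := Algebra.isSeparable_tower_bot_of_isSeparable K L M
  refine ⟨?_, ?_⟩
  · intro h V hV
    obtain ⟨W, hW0, hWV⟩ := EtRamLib.ValTower.exists_extension (M := M) A _ V hV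
    have hgeq : (algebraMap L M).comp ((algebraMap K L).comp (algebraMap A K)) = (algebraMap K M).comp (algebraMap A K) :=
      RingHom.ext fun a ↦ (IsScalarTower.algebraMap_apply K L M _).symm
    have hW : EtRam.Dominates A ((algebraMap K M).comp (algebraMap A K)) W := hgeq ▸ hW0
    have hVW : EtRam.Dominates V ((algebraMap L M).comp V.subtype) W := by
      subst hWV
      exact (EtRamLib.ValTower.dominates_tower A K L M W hW).2
    letI : Algebra A V := (RingHom.codRestrict ((algebraMap K L).comp (algebraMap A K)) V hV.1).toAlgebra
    letI : Algebra A W := (RingHom.codRestrict ((algebraMap K M).comp (algebraMap A K)) W hW.1).toAlgebra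
    letI : Algebra V W := (RingHom.codRestrict ((algebraMap L M).comp V.subtype) W hVW.1).toAlgebra
    haveI : IsScalarTower A V W := IsScalarTower.of_algebraMap_eq fun a ↦
      Subtype.ext (IsScalarTower.algebraMap_apply K L M (algebraMap A K a))
    haveI : IsDiscreteValuationRing V := EtRamLib.ValTower.isDiscreteValuationRing_of_dominates A K L V hV
    haveI : IsDiscreteValuationRing W := EtRamLib.ValTower.isDiscreteValuationRing_of_dominates A K M W hW
    haveI : IsLocalHom (algebraMap A V) := EtRamLib.ValTower.isLocalHom_of_dominates V hV
    haveI : IsLocalHom (algebraMap A W) := EtRamLib.ValTower.isLocalHom_of_dominates W hW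
    haveI : IsLocalHom (algebraMap V W) := EtRamLib.ValTower.isLocalHom_of_dominates W hVW
    haveI := EtRamLib.ValTower.residue_tower A V W
    have hAV : Function.Injective (algebraMap A V) := EtRamLib.ValTower.algebraMap_injective_of_dominates V hV
    have hVW' : Function.Injective (algebraMap V W) := fun x y h ↦
      Subtype.ext ((algebraMap L M).injective (congrArg Subtype.val h))
    have hAW : Function.Injective (algebraMap A W) := EtRamLib.ValTower.algebraMap_injective_of_dominates W hW
    intro _
    obtain ⟨hsep, hp⟩ := h W hW
    haveI := hsep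
    refine ⟨Algebra.isSeparable_tower_bot_of_isSeparable (IsLocalRing.ResidueField A)
      (IsLocalRing.ResidueField V) (IsLocalRing.ResidueField W), fun p hp' hc hd ↦ hp p hp' hc ?_⟩
    rw [EtRamLib.ValTower.ramificationIdx'_tower A V W hAV hVW']
    exact hd.mul_right _
  · intro h V hV
    obtain ⟨W, hW0, hWV⟩ := EtRamLib.ValTower.exists_extension (M := M) A _ V hV
    have hgeq : (algebraMap L M).comp ((algebraMap K L).comp (algebraMap A K)) = (algebraMap K M).comp (algebraMap A K) :=
      RingHom.ext fun a ↦ (IsScalarTower.algebraMap_apply K L M _).symm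
    have hW : EtRam.Dominates A ((algebraMap K M).comp (algebraMap A K)) W := hgeq ▸ hW0
    have hVW : EtRam.Dominates V ((algebraMap L M).comp V.subtype) W := by
      subst hWV
      exact (EtRamLib.ValTower.dominates_tower A K L M W hW).2
    letI : Algebra A V := (RingHom.codRestrict ((algebraMap K L).comp (algebraMap A K)) V hV.1).toAlgebra
    letI : Algebra A W := (RingHom.codRestrict ((algebraMap K M).comp (algebraMap A K)) W hW.1).toAlgebra
    letI : Algebra V W := (RingHom.codRestrict ((algebraMap L M).comp V.subtype) W hVW.1).toAlgebra
    haveI : IsScalarTower A V W := IsScalarTower.of_algebraMap_eq fun a ↦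
      Subtype.ext (IsScalarTower.algebraMap_apply K L M (algebraMap A K a))
    haveI : IsDiscreteValuationRing V := EtRamLib.ValTower.isDiscreteValuationRing_of_dominates A K L V hV
    haveI : IsDiscreteValuationRing W := EtRamLib.ValTower.isDiscreteValuationRing_of_dominates A K M W hW
    haveI : IsLocalHom (algebraMap A V) := EtRamLib.ValTower.isLocalHom_of_dominates V hV
    haveI : IsLocalHom (algebraMap A W) := EtRamLib.ValTower.isLocalHom_of_dominates W hW
    haveI : IsLocalHom (algebraMap V W) := EtRamLib.ValTower.isLocalHom_of_dominates W hVW
    haveI := EtRamLib.ValTower.residue_tower A V W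
    have hAV : Function.Injective (algebraMap A V) := EtRamLib.ValTower.algebraMap_injective_of_dominates V hV
    have hVW' : Function.Injective (algebraMap V W) := fun x y h ↦
      Subtype.ext ((algebraMap L M).injective (congrArg Subtype.val h))
    have hAW : Function.Injective (algebraMap A W) := EtRamLib.ValTower.algebraMap_injective_of_dominates W hW
    intro _
    obtain ⟨hwu, hsep⟩ := h W hW
    haveI := hsep
    refine ⟨?_, Algebra.isSeparable_tower_bot_of_isSeparable (IsLocalRing.ResidueField A)
      (IsLocalRing.ResidueField V) (IsLocalRing.ResidueField W)⟩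
    rw [EtRamLib.ValTower.isWeaklyUnramified_iff A W hAW,
      EtRamLib.ValTower.ramificationIdx'_tower A V W hAV hVW'] at hwu
    rw [EtRamLib.ValTower.isWeaklyUnramified_iff A V hAV]
    exact Nat.eq_one_of_mul_eq_one_right hwu

end Groth.Agent.S1989
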