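import Groth.Prelude.Def_AdFn
import Groth.Agent.FF.Linear

set_option autoImplicit false
universe u

namespace Groth.Agent.AdFnApprox65

open AdFn

variable {k K : Type u} [Field k] [Field K] [Algebra k K]

/-- `K` is dense in `K_v`: every element of `K_v` is congruent modulo `O_v` to an element of `K`. -/
lemma exists_sub_toKv_mem (v : FunFld.Place k K) (a : Kv v) : ∃ x : K, a - toKv v x ∈ Ov v := by
  have hopen : IsOpen ((fun y : Kv v => a - y) ⁻¹' (Ov v : Set (Kv v))) :=
    (AdFn.isOpen_Ov v).preimage (continuous_const.sub continuous_id)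
  have hne : ((fun y : Kv v => a - y) ⁻¹' (Ov v : Set (Kv v))).Nonempty :=
    ⟨a, by simp⟩
  obtain ⟨x, hx⟩ := (UniformSpace.Completion.denseRange_coe (α := WithVal v.1)).exists_mem_open hopen hne
  exact ⟨x.ofVal, hx⟩

/-- The valuation ring `O_v` as a `k`-submodule of `K_v`. -/
noncomputable def OvSub (v : FunFld.Place k K) : Submodule k (Kv v) where
  carrier := Ov v
  add_mem' := fun {a b} ha hb => add_mem ha hb
  zero_mem' := zero_mem _
  smul_mem' c a ha := by
    rw [SetLike.mem_coe, Algebra.smul_def, IsScalarTower.algebraMap_apply k K (Kv v)]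
    exact mul_mem ((toKv_mem_Ov v _).2 (v.2.1 c)) ha

lemma span_Ov (v : FunFld.Place k K) : Submodule.span k (Ov v : Set (Kv v)) = OvSub v :=
  (OvSub v).span_eq

lemma mem_span_Ov (v : FunFld.Place k K) (a : Kv v) :
    a ∈ Submodule.span k (Ov v : Set (Kv v)) ↔ a ∈ Ov v := by
  rw [span_Ov]; rfl

end Groth.Agent.AdFnApprox65
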