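import Groth.Statements.S17856
import Groth.Agent.AlgzW.PiPoints
import Groth.Agent.LimLib.Approx

set_option autoImplicit false
open CategoryTheory AlgebraicGeometry
universe u
open Algz

namespace Groth.Agent.S17856

/-- Let `X` be a quasi-compact quasi-separated scheme and `A i` an arbitrary family of commutative
rings. Sending a morphism from the spectrum of the product ring to `X` to the family of its
composites with the morphisms `Spec (A i) ⟶ Spec (∏ A i)` induced by the projections is a bijection
onto the set of all families of morphisms `Spec (A i) ⟶ X`. (Both quasi-compactness and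
quasi-separatedness of `X` are needed.) -/
theorem result (X : Scheme.{u}) [CompactSpace X] [QuasiSeparatedSpace X]
    {ι : Type u} (A : ι → CommRingCat.{u}) :
    Function.Bijective (fun f : Spec (CommRingCat.of (∀ i, A i)) ⟶ X =>
      fun i : ι => Spec.map (CommRingCat.ofHom (Pi.evalRingHom (fun j => (A j : Type u)) i)) ≫ f) := by
  classical
  obtain ⟨S⟩ := Groth.Agent.LimLib.nonempty_ftSystem X
  have key : ∀ (j : S.Jᵒᵖ) (F G : Spec (CommRingCat.of (∀ i, A i)) ⟶ S.D.obj j),
      (∀ i, Spec.map (CommRingCat.ofHom (Pi.evalRingHom (fun j => (A j : Type u)) i)) ≫ F =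
        Spec.map (CommRingCat.ofHom (Pi.evalRingHom (fun j => (A j : Type u)) i)) ≫ G) → F = G :=
    fun j F G h => Groth.Agent.AlgzW.PiPoints.hom_ext (A := fun i => (A i : Type u)) F G h
  have lim := S.isLimit.some
  refine ⟨fun F G h => lim.hom_ext fun j => key j _ _ fun i => ?_, fun f => ?_⟩
  · have := congrArg (· ≫ S.π.app j) (congrFun h i)
    simp only [Category.assoc] at this
    exact this
  choose F hF using fun j : S.Jᵒᵖ =>
    Groth.Agent.AlgzW.PiPoints.exists_hom (A := fun i => (A i : Type u)) (X := S.D.obj j) fun i => f i ≫ S.π.app j
  let c : Limits.Cone S.D :=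
    { pt := Spec (CommRingCat.of (∀ i, A i))
      π := { app := F
             naturality := fun j j' a => by
               change 𝟙 _ ≫ F j' = F j ≫ S.D.map a
               rw [Category.id_comp]
               refine key j' _ _ fun i => ?_
               refine (hF j' i).trans ((congrArg (f i ≫ ·) ?_).trans ((Category.assoc _ _ _).symm.trans
                 ((congrArg (· ≫ S.D.map a) (hF j i).symm).trans (Category.assoc _ _ _))))
               simpa using S.π.naturality a } }
  refine ⟨lim.lift c, funext fun i => lim.hom_ext fun j => ?_⟩
  exact (Category.assoc _ _ _).trans ((congrArg (_ ≫ ·) (lim.fac c j)).trans (hF j i))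

end Groth.Agent.S17856
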