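import Groth.Statements.S4571
import Groth.Agent.AdicFS.Jacobian
import Groth.Agent.FieldSep.Cartier

set_option autoImplicit false
universe u
open TensorProduct KaehlerDifferential IsLocalRing
open EGA41

namespace Groth.Agent.S4571

open KaehlerDifferential TensorProduct IsLocalRing

/-- For an arbitrary local algebra: let k be a field and A a local k-algebra with maximal ideal m and
residue field K. Then A is formally smooth over k for the m-adic topology if and only if the
canonical maps Sym^n_K(m/m²) → m^n/m^(n+1) are bijective for n ≥ 1 and the canonical map Ω_{k/ℤ} ⊗_k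
K → Ω_{A/ℤ} ⊗_A K is injective (absolute differentials, which agree with differentials over the
prime field). -/
theorem result {k A : Type u} [Field k] [CommRing A]
    [IsLocalRing A] [Algebra k A] :
    CAlgX.IsAdicFormallySmooth k A (maximalIdeal A) ↔
      (PP16.SymGrBijective A (maximalIdeal A) ∧
        Function.Injective ((mapBaseChange ℤ k A).lTensor (ResidueField A))) := by
  let k₀ : Subfield k := ⊥
  have : PerfectField k₀ := Groth.Agent.FieldSep.Cartier.perfectField_bot k
  have : Subsingleton Ω[k₀⁄ℤ] := Groth.Agent.FieldSep.Cartier.subsingleton_kaehler_bot k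
  let K := A ⧸ maximalIdeal A
  let : Field K := Ideal.Quotient.field (maximalIdeal A)
  have : Algebra.FormallySmooth k₀ K := Groth.Agent.FieldSep.Cartier.formallySmooth_of_perfectField k₀ K
  have : Algebra.FormallySmooth k₀ k := Groth.Agent.FieldSep.Cartier.formallySmooth_of_perfectField k₀ k
  have key : ∀ (S : Type u) [CommRing S] [Algebra k₀ S], Function.Bijective (map ℤ k₀ S S) := fun S _ _ => by
    refine ⟨(injective_iff_map_eq_zero _).mpr fun t ht => ?_, map_surjective ℤ k₀ S⟩
    obtain ⟨s, rfl⟩ := (exact_mapBaseChange_map ℤ k₀ S t).mp ht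
    rw [Subsingleton.elim s 0, map_zero]
  have hcomm := Groth.Agent.FieldSep.Imperfection.map_comp_mapBaseChange ℤ k₀ k A
  let e1 := ((LinearEquiv.ofBijective (map ℤ k₀ k k) (key k)).baseChange k A _ _).lTensor K
  let e2 := (LinearEquiv.ofBijective ((map ℤ k₀ A A).restrictScalars A) (key A)).lTensor K
  have hsq : ∀ x, e2 ((mapBaseChange ℤ k A).lTensor K x) = (mapBaseChange k₀ k A).lTensor K (e1 x) := by
    intro x
    induction x with
    | zero => simp
    | add a b ha hb => simp only [map_add, ha, hb]
    | tmul c t =>
      simp only [e1, e2, LinearMap.lTensor_tmul, LinearEquiv.lTensor_tmul]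
      exact congrArg (c ⊗ₜ[A] ·) (DFunLike.congr_fun hcomm t)
  have hγ : Function.Injective ((mapBaseChange ℤ k A).lTensor K) ↔
      Function.Injective ((mapBaseChange k₀ k A).lTensor K) := by
    constructor
    · intro h a b hab
      obtain ⟨a, rfl⟩ := e1.surjective a
      obtain ⟨b, rfl⟩ := e1.surjective b
      rw [← hsq, ← hsq] at hab
      rw [h (e2.injective hab)]
    · intro h a b hab
      refine e1.injective (h ?_)
      rw [← hsq, ← hsq, hab]
  refine ⟨fun h => ⟨?_, hγ.mpr (Groth.Agent.AdicFS.Jacobian.injective_lTensor h)⟩, fun ⟨hβ, hinj⟩ => ?_⟩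
  · exact ((Groth.Agent.AdicFS.SymGrCriterion.isAdicFormallySmooth_iff (maximalIdeal A)).mp
      (Groth.Agent.AdicFS.Jacobian.trans (Λ := k₀) h)).2
  · have : Module.Projective K (maximalIdeal A).Cotangent := Module.Projective.of_free
    exact Groth.Agent.AdicFS.Jacobian.of_injective_of_projective
      (Groth.Agent.AdicFS.SymGrCriterion.isAdicFormallySmooth_of_symGr hβ) (hγ.mp hinj) Module.Projective.of_free

end Groth.Agent.S4571
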