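import Groth.Statements.S4595
import Groth.Agent.FieldSep.LocalCart
import Mathlib.LinearAlgebra.Dimension.OrzechProperty

set_option autoImplicit false
universe u
open TensorProduct IsLocalRing
open EGA41

namespace Groth.Agent.S4595

lemma not_isUnit_of_nilpotent_aux {B : Type*} [CommRing B] [Nontrivial B] {x : B}
    (h : IsNilpotent x) : ¬ IsUnit x := fun hu => by
  obtain ⟨n, hn⟩ := h
  exact not_isUnit_zero (hn ▸ hu.pow n)

open Groth.Agent.FieldSep

lemma injective_aux (A C : Type u) [CommRing A] [Field C] (σ : Type) [Fintype σ]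
    [Algebra A C] [Algebra (MvPolynomial σ A) C] [IsScalarTower A (MvPolynomial σ A) C] :
    Function.Injective ((KaehlerDifferential.mapBaseChange ℤ A (MvPolynomial σ A)).baseChange C) :=
  (LocalCart.fred_mvPolynomial A σ C).1

theorem main_aux {A B : Type u} [CommRing A] [IsArtinianRing A] [IsLocalRing A] [CommRing B] [IsLocalRing B]
    (p : ℕ) [Fact p.Prime] [CharP A p] [CharP B p] {r : ℕ} (f : Fin r → A)
    [Algebra (MvPolynomial (Fin r) A) B] [Algebra A B] [IsScalarTower A (MvPolynomial (Fin r) A) B]
    [Module.Finite A B] [IsNoetherianRing B] [IsLocalHom (algebraMap A B)]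
    (hsurj : Function.Surjective (algebraMap (MvPolynomial (Fin r) A) B))
    (hker : RingHom.ker (algebraMap (MvPolynomial (Fin r) A) B) =
      Ideal.span (Set.range fun i => MvPolynomial.X i ^ p - MvPolynomial.C (f i))) :
    (Module.finrank (ResidueField A) (CotangentSpace A) = Module.finrank (ResidueField B) (CotangentSpace B) ↔
      LinearIndependent (ResidueField A) (fun i => (1 : ResidueField A) ⊗ₜ[A] KaehlerDifferential.D ℤ A (f i))) := by
  have : IsArtinianRing A := ‹_›
  let g : Fin r → MvPolynomial (Fin r) A := fun i => MvPolynomial.X i ^ p - MvPolynomial.C (f i)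
  have : Module.Finite (ResidueField A) (ResidueField B) := Module.Finite.of_restrictScalars_finite A _ _
  have hcP : CharP (MvPolynomial (Fin r) A) p := inferInstance
  -- index computations
  obtain ⟨d, hd, hcart⟩ := Groth.Agent.FieldSep.Cartier.cart_int (ResidueField A) (ResidueField B)
  have hd0 : d = 0 := by
    have : Algebra.IsAlgebraic (ResidueField A) (ResidueField B) := Algebra.IsAlgebraic.of_finite (ResidueField A) (ResidueField B)
    exact_mod_cast (hd.symm.trans trdeg_eq_zero)
  have hA : Groth.Agent.FieldSep.Cartier.Fred (KaehlerDifferential.mapBaseChange ℤ A (ResidueField B))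
      (Module.finrank (ResidueField A) (CotangentSpace A)) := by
    have := Groth.Agent.FieldSep.LocalCart.fred_comp
      ((Groth.Agent.FieldSep.LocalCart.fred_residueField p A).baseChange (ResidueField B)) hcart
    rw [hd0, Nat.cast_zero, neg_zero, zero_add] at this
    exact this
  have hB := Groth.Agent.FieldSep.LocalCart.fred_residueField p B
  let cb := AlgebraTensorModule.cancelBaseChange (MvPolynomial (Fin r) A) B (ResidueField B) (ResidueField B) Ω[(MvPolynomial (Fin r) A)⁄ℤ]
  let w := ((KaehlerDifferential.mapBaseChange ℤ (MvPolynomial (Fin r) A) B).baseChange (ResidueField B)) ∘ₗ cb.symm.toLinearMap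
  have hwk : w.ker = Submodule.span (ResidueField B)
      (Set.range fun i => (1 : (ResidueField B)) ⊗ₜ[(MvPolynomial (Fin r) A)] KaehlerDifferential.D ℤ (MvPolynomial (Fin r) A) (g i)) :=
    Groth.Agent.FieldSep.LocalCart.ker_baseChange_of_surjective hsurj g hker
  have hws : Function.Surjective w :=
    (LinearMap.lTensor_surjective (ResidueField B) (KaehlerDifferential.mapBaseChange_surjective ℤ (MvPolynomial (Fin r) A) B hsurj)).comp
      cb.symm.surjective
  have : Module.Finite (ResidueField B) w.ker := by rw [hwk]; exact Module.Finite.span_of_finite (ResidueField B) (Set.finite_range _)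
  have hwc : Module.Finite (ResidueField B) (_ ⧸ LinearMap.range w) := by
    rw [LinearMap.range_eq_top.mpr hws]; infer_instance
  have hP : Groth.Agent.FieldSep.Cartier.Fred (KaehlerDifferential.mapBaseChange ℤ (MvPolynomial (Fin r) A) (ResidueField B))
      ((Module.finrank (ResidueField B) (CotangentSpace B) : ℤ) + Module.finrank (ResidueField B) w.ker) := by
    have h1 : Groth.Agent.FieldSep.Cartier.Fred w (Module.finrank (ResidueField B) w.ker) :=
      ⟨inferInstance, hwc, LinearMap.index_of_surjective hws⟩
    have h2 := h1.comp hB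
    have e : KaehlerDifferential.mapBaseChange ℤ (MvPolynomial (Fin r) A) (ResidueField B) =
        (KaehlerDifferential.mapBaseChange ℤ B (ResidueField B)) ∘ₗ w := by
      rw [← LinearMap.comp_assoc, Groth.Agent.FieldSep.Imperfection.mapBaseChange_comp,
        LinearMap.comp_assoc, LinearEquiv.comp_symm, LinearMap.comp_id]
    rwa [e]
  have hj' : Groth.Agent.FieldSep.Cartier.Fred
      ((KaehlerDifferential.mapBaseChange ℤ A (MvPolynomial (Fin r) A)).baseChange (ResidueField B)) (-(r : ℤ)) := by
    simpa using (Groth.Agent.FieldSep.LocalCart.fred_mvPolynomial A (Fin r) (ResidueField B)).2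
  have hA' := Groth.Agent.FieldSep.LocalCart.fred_comp hj' hP
  have hidx := hA.index_eq.symm.trans hA'.index_eq
  -- the kernel of `w` is spanned by the images of `df_i`
  let ca := AlgebraTensorModule.cancelBaseChange A (MvPolynomial (Fin r) A) (ResidueField B) (ResidueField B) Ω[A⁄ℤ]
  let jm := ((KaehlerDifferential.mapBaseChange ℤ A (MvPolynomial (Fin r) A)).baseChange (ResidueField B)) ∘ₗ ca.symm.toLinearMap
  have hjinj : Function.Injective jm := by
    have : Function.Injective ((KaehlerDifferential.mapBaseChange ℤ A (MvPolynomial (Fin r) A)).baseChange (ResidueField B)) :=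
      injective_aux A (ResidueField B) (Fin r)
    exact this.comp ca.symm.injective
  let v : Fin r → (ResidueField B) ⊗[A] Ω[A⁄ℤ] := fun i => 1 ⊗ₜ KaehlerDifferential.D ℤ A (f i)
  have hg : ∀ i, (1 : (ResidueField B)) ⊗ₜ[(MvPolynomial (Fin r) A)] KaehlerDifferential.D ℤ (MvPolynomial (Fin r) A) (g i) = - jm (v i) := by
    intro i
    have hX : KaehlerDifferential.D ℤ (MvPolynomial (Fin r) A) (MvPolynomial.X i ^ p : (MvPolynomial (Fin r) A)) = 0 := by
      rw [Derivation.leibniz_pow, ← Nat.cast_smul_eq_nsmul (MvPolynomial (Fin r) A), CharP.cast_eq_zero, zero_smul]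
    simp only [g, jm, v, ca, map_sub, hX, zero_sub, LinearMap.comp_apply, LinearEquiv.coe_coe,
      AlgebraTensorModule.cancelBaseChange_symm_tmul, LinearMap.baseChange_tmul,
      KaehlerDifferential.mapBaseChange_tmul, one_smul, KaehlerDifferential.map_D, tmul_neg]
    rfl
  have hspan : w.ker = (Submodule.span (ResidueField B) (Set.range v)).map jm := by
    rw [hwk, Submodule.map_span, ← Set.range_comp]
    refine le_antisymm (Submodule.span_le.mpr ?_) (Submodule.span_le.mpr ?_)
    · rintro _ ⟨i, rfl⟩
      simp only [hg]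
      exact Submodule.neg_mem _ (Submodule.subset_span ⟨i, rfl⟩)
    · rintro _ ⟨i, rfl⟩
      have := Submodule.neg_mem _ (Submodule.subset_span (R := (ResidueField B)) (M := (ResidueField B) ⊗[(MvPolynomial (Fin r) A)] Ω[(MvPolynomial (Fin r) A)⁄ℤ])
        (s := Set.range fun i => (1 : (ResidueField B)) ⊗ₜ[(MvPolynomial (Fin r) A)] KaehlerDifferential.D ℤ (MvPolynomial (Fin r) A) (g i)) ⟨i, rfl⟩)
      simpa [hg] using this
  have hrank : Module.finrank (ResidueField B) w.ker = (Set.range v).finrank (ResidueField B) := by
    rw [hspan]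
    exact ((Submodule.equivMapOfInjective jm hjinj _).finrank_eq).symm
  -- independence over `(ResidueField A)` and over `(ResidueField B)` agree
  have hli : LinearIndependent (ResidueField B) v ↔
      LinearIndependent (ResidueField A) (fun i => (1 : (ResidueField A)) ⊗ₜ[A] KaehlerDifferential.D ℤ A (f i)) := by
    let e := AlgebraTensorModule.cancelBaseChange A (ResidueField A) (ResidueField B) (ResidueField B) Ω[A⁄ℤ]
    have hv : v = e.toLinearMap ∘ fun i => (1 : (ResidueField B)) ⊗ₜ[(ResidueField A)] ((1 : (ResidueField A)) ⊗ₜ[A] KaehlerDifferential.D ℤ A (f i)) := by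
      funext i
      simp [v, e]
    rw [hv, e.toLinearMap.linearIndependent_iff e.ker]
    refine ⟨fun h => ?_, fun h => Module.Flat.linearIndependent_one_tmul h⟩
    exact (h.restrict_scalars' (ResidueField A)).of_comp ((TensorProduct.mk (ResidueField A) (ResidueField B) ((ResidueField A) ⊗[A] Ω[A⁄ℤ])) 1)
  rw [← hli, linearIndependent_iff_card_eq_finrank_span, Fintype.card_fin, ← hrank]
  omega


/-- Let A be an Artinian local ring of characteristic p > 0 with maximal ideal m of square zero and
residue field K, f_1, …, f_r ∈ A, and B = A[T_1, …, T_r]/(T_1^p − f_1, …, T_r^p − f_r). Then B is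
local, and dim_K m = dim_{K'}(m'/m'²) (m', K' the maximal ideal and residue field of B) if and only
if the d f_i ⊗ 1 are linearly independent in Ω_A ⊗_A K. -/
theorem result {A : Type u} [CommRing A]
    [IsArtinianRing A] [IsLocalRing A] (hm : maximalIdeal A ^ 2 = ⊥) (p : ℕ) [Fact p.Prime] [CharP A p]
    {r : ℕ} (f : Fin r → A) :
    let B := MvPolynomial (Fin r) A ⧸ Ideal.span (Set.range fun i => MvPolynomial.X i ^ p - MvPolynomial.C (f i))
    ∃ _ : IsLocalRing B,
      (Module.finrank (ResidueField A) (CotangentSpace A) = Module.finrank (ResidueField B) (CotangentSpace B) ↔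
        LinearIndependent (ResidueField A) (fun i => (1 : ResidueField A) ⊗ₜ[A] KaehlerDifferential.D ℤ A (f i))) := by
  intro B
  let P := MvPolynomial (Fin r) A
  let g : Fin r → P := fun i => MvPolynomial.X i ^ p - MvPolynomial.C (f i)
  -- nontriviality: evaluate at `p`-th roots in an algebraic closure of the residue field
  let Ω' := AlgebraicClosure (ResidueField A)
  have hroot : ∀ i, ∃ t : Ω', t ^ p = algebraMap A Ω' (f i) := fun i =>
    IsAlgClosed.exists_pow_nat_eq _ (Fact.out : p.Prime).pos
  choose t ht using hroot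
  let ev : B →+* Ω' := Ideal.Quotient.lift _ (MvPolynomial.aeval (R := A) t).toRingHom fun x hx => by
    refine (Ideal.span_le (I := RingHom.ker _)).mpr ?_ hx
    rintro _ ⟨i, rfl⟩
    simp [ht]
  have hnt : Nontrivial B := ev.domain_nontrivial
  have hp0 : ∀ (S : Type u) [CommRing S] [Algebra A S], (p : S) = 0 := fun S _ _ => by
    rw [← map_natCast (algebraMap A S), CharP.cast_eq_zero, map_zero]
  have hcB : CharP B p := (CharP.charP_iff_prime_eq_zero Fact.out).mpr (hp0 B)
  have hcP : CharP P p := (CharP.charP_iff_prime_eq_zero Fact.out).mpr (hp0 P)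
  have : ExpChar B p := ExpChar.prime Fact.out
  have : ExpChar P p := ExpChar.prime Fact.out
  -- `p`-th powers come from `A`
  have hpow : ∀ b : B, ∃ a : A, algebraMap A B a = b ^ p := by
    intro b
    obtain ⟨q, rfl⟩ := Ideal.Quotient.mk_surjective b
    have key : frobenius B p (Ideal.Quotient.mk _ q) ∈ (algebraMap A B).range := by
      induction q using MvPolynomial.induction_on with
      | C a => exact ⟨a ^ p, by rw [map_pow]; rfl⟩
      | add x y hx hy => rw [map_add, map_add]; exact add_mem hx hy
      | mul_X x i hx =>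
        rw [map_mul, map_mul]
        refine mul_mem hx ⟨f i, ?_⟩
        rw [frobenius_def, ← map_pow]
        refine ((Ideal.Quotient.eq).mpr ?_).symm
        exact Ideal.subset_span ⟨i, rfl⟩
    exact key
  have hmnil : ∀ a ∈ maximalIdeal A, IsNilpotent a := fun a ha => ⟨2, by
    have := Ideal.pow_mem_pow ha 2
    rwa [hm, Ideal.mem_bot] at this⟩
  have hun : ∀ b : B, IsUnit b ∨ IsNilpotent b := fun b => by
    obtain ⟨a, ha⟩ := hpow b
    by_cases h : IsUnit a
    · exact Or.inl ((isUnit_pow_iff (Fact.out : p.Prime).ne_zero).mp (ha ▸ h.map _))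
    · exact Or.inr (IsNilpotent.of_pow (m := p) (ha ▸ (hmnil a h).map _))
  have hloc : IsLocalRing B := IsLocalRing.of_isUnit_or_isUnit_one_sub_self fun b =>
    (hun b).imp id IsNilpotent.isUnit_one_sub
  refine ⟨hloc, ?_⟩
  have : IsLocalHom (algebraMap A B) := ⟨fun a ha => by
    by_contra h
    exact not_isUnit_of_nilpotent_aux ((hmnil a h).map (algebraMap A B)) ha⟩
  have : Module.Finite A B := by
    have : Algebra.IsIntegral A B := ⟨fun b => by
      obtain ⟨a, ha⟩ := hpow b
      exact IsIntegral.of_pow (Fact.out : p.Prime).pos (ha ▸ isIntegral_algebraMap)⟩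
    exact Algebra.IsIntegral.finite
  have : Module.Finite (ResidueField A) (ResidueField B) := Module.Finite.of_restrictScalars_finite A (ResidueField A) (ResidueField B)
  have : IsNoetherianRing B := IsNoetherianRing.of_finite A B
  exact main_aux p f Ideal.Quotient.mk_surjective Ideal.mk_ker

end Groth.Agent.S4595
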