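import Groth.Statements.S2473
import Groth.Agent.S4595
import Groth.Agent.InvQLib.FiniteFree
import Groth.Agent.RegLoc.Basic
import Groth.Agent.RegLoc.Homological

set_option autoImplicit false
universe u
open EGA41

namespace Groth.Agent.S2473

section

open IsLocalRing TensorProduct

/-- Surjections of Noetherian local rings with kernel in `m²` preserve the embedding dimension. -/
theorem spanFinrank_eq_of_ker_le_sq {R S : Type*} [CommRing R] [IsLocalRing R] [IsNoetherianRing R]
    [CommRing S] [IsLocalRing S] [IsNoetherianRing S] (φ : R →+* S) (hφ : Function.Surjective φ)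
    (hker : RingHom.ker φ ≤ maximalIdeal R ^ 2) :
    (maximalIdeal S).spanFinrank = (maximalIdeal R).spanFinrank := by
  classical
  have hmap : (maximalIdeal R).map φ = maximalIdeal S := map_maximalIdeal_of_surjective φ hφ
  refine le_antisymm (hmap ▸ Ideal.spanFinrank_map_le_of_fg φ (IsNoetherian.noetherian _)) ?_
  obtain ⟨s, hs, hs'⟩ := Submodule.FG.exists_span_finset_card_eq_spanFinrank
    (IsNoetherian.noetherian (maximalIdeal S))
  choose g hg using hφ
  set J := Ideal.span ((s.image g : Finset R) : Set R) with hJdef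
  have hJmap : J.map φ = maximalIdeal S := by
    rw [hJdef, Ideal.map_span, Finset.coe_image, ← Set.image_comp]
    simpa [Function.comp_def, hg] using hs'
  have hJ : J ≤ maximalIdeal R := by
    refine Ideal.span_le.mpr fun x hx => (IsLocalRing.mem_maximalIdeal x).mpr fun hu => ?_
    have : φ x ∈ maximalIdeal S := hJmap ▸ Ideal.mem_map_of_mem φ (Ideal.subset_span hx)
    exact (IsLocalRing.mem_maximalIdeal _).mp this (hu.map φ)
  have hle : maximalIdeal R ≤ J ⊔ maximalIdeal R ^ 2 := by
    intro x hx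
    have : φ x ∈ J.map φ := hJmap ▸ hmap ▸ Ideal.mem_map_of_mem φ hx
    obtain ⟨y, hy, hxy⟩ := (Ideal.mem_map_iff_of_surjective φ (fun t => ⟨g t, hg t⟩)).mp this
    have : x - y ∈ maximalIdeal R ^ 2 := hker (by rw [RingHom.mem_ker, map_sub, hxy, sub_self])
    simpa using Submodule.add_mem_sup hy this
  rw [← Groth.Agent.RegLoc.eq_maximalIdeal_of_le_sup_sq hJ hle, ← hs]
  refine (Submodule.spanFinrank_span_le_ncard_of_finite (Finset.finite_toSet _)).trans ?_
  rw [Set.ncard_coe_finset]
  exact Finset.card_image_le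

/-- Comparison of the differentials of `A` and `A/m²` after base change to the residue field. -/
theorem linearIndependent_quot_iff {A : Type u} [CommRing A] [IsLocalRing A] {I : Ideal A}
    (hI : I = maximalIdeal A ^ 2) [IsLocalRing (A ⧸ I)] {ι : Type*} (f : ι → A) :
    LinearIndependent (ResidueField A) (fun i => (1 : ResidueField A) ⊗ₜ[A] KaehlerDifferential.D ℤ A (f i)) ↔
      LinearIndependent (ResidueField (A ⧸ I))
        (fun i => (1 : ResidueField (A ⧸ I)) ⊗ₜ[A ⧸ I] KaehlerDifferential.D ℤ (A ⧸ I) (Ideal.Quotient.mk I (f i))) := by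
  obtain rfl : I = RingHom.ker (algebraMap A (ResidueField A)) ^ 2 := by
    rw [hI, ResidueField.algebraMap_eq, IsLocalRing.ker_residue]
  set Q := A ⧸ RingHom.ker (algebraMap A (ResidueField A)) ^ 2
  have hQs : Function.Surjective (algebraMap Q (ResidueField A)) :=
    Function.Surjective.of_comp (g := algebraMap A Q) residue_surjective
  have : IsLocalHom (algebraMap Q (ResidueField A)) :=
    hQs.isLocalHom _
  let e₀ : ResidueField Q →ₐ[Q] ResidueField A :=
    AlgHom.mk (ResidueField.lift (algebraMap Q (ResidueField A))) fun q => ResidueField.lift_residue_apply _ q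
  have he₀ : Function.Bijective e₀ := ⟨RingHom.injective e₀.toRingHom,
    fun x => by obtain ⟨q, rfl⟩ := hQs x; exact ⟨residue Q q, e₀.commutes q⟩⟩
  let e := AlgEquiv.ofBijective e₀ he₀
  let t := tensorKaehlerQuotKerSqEquiv ℤ A (ResidueField A)
  let j : ResidueField Q ⊗[Q] Ω[Q⁄ℤ] ≃ₗ[Q] ResidueField A ⊗[Q] Ω[Q⁄ℤ] :=
    TensorProduct.congr e.toLinearEquiv (LinearEquiv.refl Q _)
  have h1 : LinearIndependent (ResidueField A) (fun i => (1 : ResidueField A) ⊗ₜ[A] KaehlerDifferential.D ℤ A (f i)) ↔
      LinearIndependent (ResidueField A)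
        (fun i => (1 : ResidueField A) ⊗ₜ[Q] KaehlerDifferential.D ℤ Q (Ideal.Quotient.mk _ (f i))) := by
    rw [← t.toLinearMap.linearIndependent_iff (v := fun i => (1 : ResidueField A) ⊗ₜ[Q] KaehlerDifferential.D ℤ Q (Ideal.Quotient.mk _ (f i))) t.ker]
    have : (t.toLinearMap ∘ fun i => (1 : ResidueField A) ⊗ₜ[Q] KaehlerDifferential.D ℤ Q (Ideal.Quotient.mk _ (f i))) =
        fun i => (1 : ResidueField A) ⊗ₜ[A] KaehlerDifferential.D ℤ A (f i) :=
      funext fun i => tensorKaehlerQuotKerSqEquiv_tmul_D 1 (f i)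
    rw [this]
  rw [h1]
  have hsm : ∀ (a : ResidueField Q) (m : ResidueField Q ⊗[Q] Ω[Q⁄ℤ]), j (a • m) = e a • j m := by
    intro a m
    induction m with
    | zero => simp
    | add x y hx hy => simp only [smul_add, map_add, hx, hy]
    | tmul b ω => simp [j, smul_tmul', map_mul]
  constructor
  · intro h
    have := h.map_of_surjective_injective e.symm j.symm.toAddMonoidHom e.symm.surjective
      (fun m hm => j.symm.map_eq_zero_iff.mp hm) (fun r m => by
        apply j.injective
        show j (j.symm (r • m)) = j (e.symm r • j.symm m)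
        rw [hsm]; simp)
    convert this using 1
    funext i
    show _ = j.symm _
    rw [LinearEquiv.eq_symm_apply]
    show e 1 ⊗ₜ[Q] KaehlerDifferential.D ℤ Q _ = _
    rw [map_one]
  · intro h
    have := h.map_of_surjective_injective e j.toAddMonoidHom e.surjective
      (fun m hm => j.map_eq_zero_iff.mp hm) hsm
    convert this using 1
    funext i
    show _ = e 1 ⊗ₜ[Q] KaehlerDifferential.D ℤ Q _
    rw [map_one]

theorem main {A : Type u} [CommRing A] [IsRegularLocalRing A] [IsDomain A] (p : ℕ) [Fact p.Prime]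
    [CharP (ResidueField A) p] {r : ℕ} (f : Fin r → A) (hp : (p : A) ∈ maximalIdeal A ^ 2)
    (F : Fin r → MvPolynomial (Fin r) A) (G : Fin r → Polynomial A) (hGm : ∀ i, (G i).Monic)
    (hdeg : ∀ i, (G i).degree ≠ 0)
    (hFG : ∀ i, F i = Polynomial.aeval (MvPolynomial.X i : MvPolynomial (Fin r) A) (G i))
    (hFI : ∀ i, ∀ I : Ideal A, (p : A) ∈ I → MvPolynomial.map (Ideal.Quotient.mk I) (F i) =
      MvPolynomial.X i ^ p - MvPolynomial.C (Ideal.Quotient.mk I (f i))) :
    IsLocalRing (MvPolynomial (Fin r) A ⧸ Ideal.span (Set.range F)) ∧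
      (IsRegularRing (MvPolynomial (Fin r) A ⧸ Ideal.span (Set.range F)) ↔
        LinearIndependent (ResidueField A) (fun i => (1 : ResidueField A) ⊗ₜ[A] KaehlerDifferential.D ℤ A (f i))) := by
  -- injectivity
  let Ω' := AlgebraicClosure (FractionRing A)
  have hΩinj : Function.Injective (algebraMap A Ω') := by
    rw [IsScalarTower.algebraMap_eq A (FractionRing A) Ω']
    exact (algebraMap (FractionRing A) Ω').injective.comp (IsFractionRing.injective A (FractionRing A))
  have hroot : ∀ i, ∃ t : Ω', Polynomial.aeval t (G i) = 0 := fun i => by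
    exact IsAlgClosed.exists_aeval_eq_zero_of_injective Ω' hΩinj _ (hdeg i)
  choose t ht using hroot
  let ev : (MvPolynomial (Fin r) A ⧸ Ideal.span (Set.range F)) →ₐ[A] Ω' := Ideal.Quotient.liftₐ _ (MvPolynomial.aeval t) fun x hx => by
    refine (Ideal.span_le (I := RingHom.ker (MvPolynomial.aeval (R := A) t))).mpr ?_ hx
    rintro _ ⟨i, rfl⟩
    show MvPolynomial.aeval t (F i) = 0
    rw [hFG, ← Polynomial.aeval_algHom_apply, MvPolynomial.aeval_X, ht]
  have hinj : Function.Injective (algebraMap A (MvPolynomial (Fin r) A ⧸ Ideal.span (Set.range F))) := by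
    refine Function.Injective.of_comp (f := ev) ?_
    have : (ev ∘ algebraMap A (MvPolynomial (Fin r) A ⧸ Ideal.span (Set.range F))) = algebraMap A Ω' := funext fun a => ev.commutes a
    rw [this]
    exact hΩinj
  -- finiteness
  have hint : Algebra.IsIntegral A (MvPolynomial (Fin r) A ⧸ Ideal.span (Set.range F)) := ⟨fun b => by
    obtain ⟨q, rfl⟩ := Ideal.Quotient.mk_surjective b
    induction q using MvPolynomial.induction_on with
    | C a => exact isIntegral_algebraMap (R := A) (A := (MvPolynomial (Fin r) A ⧸ Ideal.span (Set.range F))) (x := a)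
    | add x y hx hy => rw [map_add]; exact hx.add hy
    | mul_X x i hx =>
      rw [map_mul]
      refine hx.mul ⟨G i, hGm i, ?_⟩
      rw [← Polynomial.aeval_def, ← Ideal.Quotient.mkₐ_eq_mk A, Polynomial.aeval_algHom_apply, ← hFG]
      exact Ideal.Quotient.eq_zero_iff_mem.mpr (Ideal.subset_span ⟨i, rfl⟩)⟩
  have : Module.Finite A (MvPolynomial (Fin r) A ⧸ Ideal.span (Set.range F)) := Algebra.IsIntegral.finite
  have : IsNoetherianRing (MvPolynomial (Fin r) A ⧸ Ideal.span (Set.range F)) := IsNoetherianRing.of_finite A (MvPolynomial (Fin r) A ⧸ Ideal.span (Set.range F))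
  -- reduction modulo `m²`
  obtain ⟨I, hI⟩ : ∃ I, I = maximalIdeal A ^ 2 := ⟨_, rfl⟩
  rw [← hI] at hp
  have hIle : I ≤ maximalIdeal A := hI ▸ Ideal.pow_le_self two_ne_zero
  have hloc : IsLocalRing (A ⧸ I) := Groth.Agent.RegLoc.isLocalRing_quotient hIle
  have hmax : maximalIdeal (A ⧸ I) = (maximalIdeal A).map (Ideal.Quotient.mk I) :=
    Groth.Agent.RegLoc.maximalIdeal_quotient_eq_map I
  have hsq : maximalIdeal (A ⧸ I) ^ 2 = ⊥ := by
    rw [hmax, ← Ideal.map_pow, ← hI, Ideal.map_quotient_self]
  have : IsArtinianRing (A ⧸ I) :=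
    (isArtinianRing_iff_isNilpotent_maximalIdeal _).mpr ⟨2, hsq⟩
  have hpI : (p : A ⧸ I) = 0 := by
    rw [← map_natCast (Ideal.Quotient.mk I)]
    exact Ideal.Quotient.eq_zero_iff_mem.mpr hp
  have : CharP (A ⧸ I) p := (CharP.charP_iff_prime_eq_zero Fact.out).mpr hpI
  obtain ⟨hloc', hiff⟩ := Groth.Agent.S4595.result hsq p (fun i => Ideal.Quotient.mk I (f i))
  let μ : (MvPolynomial (Fin r) A) →+* MvPolynomial (Fin r) (A ⧸ I) := MvPolynomial.map (Ideal.Quotient.mk I)
  have hμs : Function.Surjective μ := MvPolynomial.map_surjective _ Ideal.Quotient.mk_surjective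
  let ψ : (MvPolynomial (Fin r) A) →+* (MvPolynomial (Fin r) (A ⧸ I) ⧸ Ideal.span (Set.range fun i => MvPolynomial.X i ^ p - MvPolynomial.C (Ideal.Quotient.mk I (f i)))) := (Ideal.Quotient.mk _).comp μ
  have hμF : ∀ i, μ (F i) = MvPolynomial.X i ^ p - MvPolynomial.C (Ideal.Quotient.mk I (f i)) :=
    fun i => hFI i I hp
  let φ : (MvPolynomial (Fin r) A ⧸ Ideal.span (Set.range F)) →+* (MvPolynomial (Fin r) (A ⧸ I) ⧸ Ideal.span (Set.range fun i => MvPolynomial.X i ^ p - MvPolynomial.C (Ideal.Quotient.mk I (f i)))) := Ideal.Quotient.lift _ ψ fun x hx => by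
    refine (Ideal.span_le (I := RingHom.ker ψ)).mpr ?_ hx
    rintro _ ⟨i, rfl⟩
    show Ideal.Quotient.mk _ (μ (F i)) = 0
    rw [hμF]
    exact Ideal.Quotient.eq_zero_iff_mem.mpr (Ideal.subset_span ⟨i, rfl⟩)
  have hφs : Function.Surjective φ := fun y => by
    obtain ⟨z, rfl⟩ := Ideal.Quotient.mk_surjective y
    obtain ⟨x, rfl⟩ := hμs z
    exact ⟨Ideal.Quotient.mk _ x, rfl⟩
  have hφker : RingHom.ker φ ≤ I.map (algebraMap A (MvPolynomial (Fin r) A ⧸ Ideal.span (Set.range F))) := by
    intro b hb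
    obtain ⟨x, rfl⟩ := Ideal.Quotient.mk_surjective b
    have hx : μ x ∈ (Ideal.span (Set.range F)).map μ := by
      rw [Ideal.map_span, ← Set.range_comp, show (μ ∘ F) = _ from funext hμF]
      exact Ideal.Quotient.eq_zero_iff_mem.mp hb
    obtain ⟨y, hy, hxy⟩ := (Ideal.mem_map_iff_of_surjective μ hμs).mp hx
    have hxy' : x - y ∈ RingHom.ker μ := by rw [RingHom.mem_ker, map_sub, hxy, sub_self]
    rw [MvPolynomial.ker_map, Ideal.mk_ker] at hxy'
    have := Ideal.mem_map_of_mem (Ideal.Quotient.mk (Ideal.span (Set.range F))) hxy'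
    rw [Ideal.map_map, map_sub, Ideal.Quotient.eq_zero_iff_mem.mpr hy, sub_zero] at this
    exact this
  have hmB : ∀ M : Ideal (MvPolynomial (Fin r) A ⧸ Ideal.span (Set.range F)), M.IsMaximal → (maximalIdeal A).map (algebraMap A (MvPolynomial (Fin r) A ⧸ Ideal.span (Set.range F))) ≤ M := fun M hM =>
    Ideal.map_le_iff_le_comap.mpr
      (le_of_eq (IsLocalRing.eq_maximalIdeal (Ideal.isMaximal_comap_of_isIntegral_of_isMaximal M)).symm)
  have : Nontrivial (MvPolynomial (Fin r) A ⧸ Ideal.span (Set.range F)) := ev.toRingHom.domain_nontrivial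
  have hlocB : IsLocalRing (MvPolynomial (Fin r) A ⧸ Ideal.span (Set.range F)) := by
    refine IsLocalRing.of_unique_max_ideal ⟨(maximalIdeal (MvPolynomial (Fin r) (A ⧸ I) ⧸ Ideal.span (Set.range fun i => MvPolynomial.X i ^ p - MvPolynomial.C (Ideal.Quotient.mk I (f i))))).comap φ,
      Ideal.comap_isMaximal_of_surjective φ hφs, fun M hM => ?_⟩
    have hle : RingHom.ker φ ≤ M := (hφker.trans (Ideal.map_mono hIle)).trans (hmB M hM)
    have hM' : M = (M.map φ).comap φ := by
      rw [Ideal.comap_map_of_surjective _ hφs, ← RingHom.ker_eq_comap_bot, sup_eq_left.mpr hle]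
    rcases Ideal.map_eq_top_or_isMaximal_of_surjective φ hφs hM with h | h
    · rw [h, Ideal.comap_top] at hM'; exact absurd hM' hM.ne_top
    · rw [hM', IsLocalRing.eq_maximalIdeal (I := M.map φ) h]
  refine ⟨hlocB, ?_⟩
  have hkersq : RingHom.ker φ ≤ maximalIdeal (MvPolynomial (Fin r) A ⧸ Ideal.span (Set.range F)) ^ 2 := by
    refine hφker.trans ?_
    rw [hI, Ideal.map_pow]
    exact Ideal.pow_right_mono (hmB _ (maximalIdeal.isMaximal (MvPolynomial (Fin r) A ⧸ Ideal.span (Set.range F)))) 2
  have : IsNoetherianRing (MvPolynomial (Fin r) (A ⧸ I) ⧸ Ideal.span (Set.range fun i => MvPolynomial.X i ^ p - MvPolynomial.C (Ideal.Quotient.mk I (f i)))) := isNoetherianRing_of_surjective _ _ φ hφs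
  have hB := @spanFinrank_eq_of_ker_le_sq _ _ _ hlocB inferInstance _ hloc' inferInstance φ hφs hkersq
  have hA := spanFinrank_eq_of_ker_le_sq (Ideal.Quotient.mk I) Ideal.Quotient.mk_surjective
    (le_of_eq (Ideal.mk_ker.trans hI))
  refine (Iff.trans ?_ hiff).trans (linearIndependent_quot_iff hI f).symm
  rw [← spanFinrank_maximalIdeal_eq_finrank_cotangentSpace (R := A ⧸ I), hA,
    ← @spanFinrank_maximalIdeal_eq_finrank_cotangentSpace _ _ hloc' inferInstance, hB]
  have hdim : ringKrullDim (MvPolynomial (Fin r) A ⧸ Ideal.span (Set.range F)) = ringKrullDim A :=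
    Groth.Agent.InvQLib.FiniteFree.ringKrullDim_eq_of_integral A (MvPolynomial (Fin r) A ⧸ Ideal.span (Set.range F)) hinj
  have hAreg := (isRegularLocalRing_iff A).mp ‹_›
  constructor
  · intro h
    have := IsRegularLocalRing.of_isRegularRing_of_isLocalRing (R := (MvPolynomial (Fin r) A ⧸ Ideal.span (Set.range F)))
    have h2 := (isRegularLocalRing_iff (MvPolynomial (Fin r) A ⧸ Ideal.span (Set.range F))).mp this
    rw [hdim, ← hAreg] at h2
    exact_mod_cast h2.symm
  · intro h
    have : IsRegularLocalRing (MvPolynomial (Fin r) A ⧸ Ideal.span (Set.range F)) := (isRegularLocalRing_iff (MvPolynomial (Fin r) A ⧸ Ideal.span (Set.range F))).mpr (by rw [hdim, ← hAreg, h])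
    exact Groth.Agent.RegLoc.Homological.isRegularRing (R := (MvPolynomial (Fin r) A ⧸ Ideal.span (Set.range F)))


end

open IsLocalRing TensorProduct in
/-- Let A be a regular local ring whose residue field K has characteristic p > 0; for 1 ≤ i ≤ r let F_i
= T_i^p + p Σ_{j=1}^{p-1} c_{ij} T_i^{p-j} − f_i with c_{ij}, f_i ∈ A, and let B be the quotient of
A[T_1, …, T_r] by the ideal generated by the F_i. Then B is a local ring, and B is regular if and
only if the elements d f_i ⊗ 1 of Ω_{A/ℤ} ⊗_A K are linearly independent over K. Assumed in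
addition: p lies in the square of the maximal ideal of A (which covers the case where A has
characteristic p); the printed statement omits this, and the equivalence can fail for A absolutely
unramified, e.g. A = ℤ_(p), r = 1, f_1 = p. (Condition (c) of the source, on the characteristic
homomorphism Ξ, is not stated.) -/
theorem result {A : Type u} [CommRing A] [IsRegularLocalRing A] (p : ℕ) [Fact p.Prime] [CharP (ResidueField A) p]
    {r : ℕ} (c : Fin r → Fin p → A) (f : Fin r → A)
    (hp : (p : A) ∈ maximalIdeal A ^ 2) :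
    let F : Fin r → MvPolynomial (Fin r) A := fun i =>
      MvPolynomial.X i ^ p + (p : MvPolynomial (Fin r) A) * (Finset.univ.sum fun j : Fin p =>
        if (j : ℕ) = 0 then 0 else MvPolynomial.C (c i j) * MvPolynomial.X i ^ (p - (j : ℕ))) - MvPolynomial.C (f i)
    IsLocalRing (MvPolynomial (Fin r) A ⧸ Ideal.span (Set.range F)) ∧
      (IsRegularRing (MvPolynomial (Fin r) A ⧸ Ideal.span (Set.range F)) ↔
        LinearIndependent (ResidueField A) (fun i => (1 : ResidueField A) ⊗ₜ[A] KaehlerDifferential.D ℤ A (f i))) := by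
  intro F
  have : IsDomain A := Groth.Agent.RegLoc.isDomain A
  let low : Fin r → Polynomial A := fun i => ((p : Polynomial A) * (Finset.univ.sum fun j : Fin p =>
    if (j : ℕ) = 0 then 0 else Polynomial.C (c i j) * Polynomial.X ^ (p - (j : ℕ))) - Polynomial.C (f i))
  have hp0 : 0 < p := (Fact.out : p.Prime).pos
  have hlow : ∀ i, (low i).degree < (p : WithBot ℕ) := fun i => by
    refine lt_of_le_of_lt (Polynomial.degree_sub_le _ _) (max_lt ?_ ?_)
    · rw [← Polynomial.C_eq_natCast, Finset.mul_sum]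
      refine lt_of_le_of_lt (Polynomial.degree_sum_le _ _) ((Finset.sup_lt_iff (by exact_mod_cast WithBot.bot_lt_coe p)).mpr fun j _ => ?_)
      split_ifs with h
      · simp
      · refine lt_of_le_of_lt (b := ((p - (j : ℕ) : ℕ) : WithBot ℕ)) ?_ (by exact_mod_cast Nat.sub_lt hp0 (Nat.pos_of_ne_zero h))
        rw [← mul_assoc, ← map_mul]
        exact Polynomial.degree_C_mul_X_pow_le _ _
    · exact lt_of_le_of_lt Polynomial.degree_C_le (by exact_mod_cast hp0)
  refine main p f hp F (fun i => Polynomial.X ^ p + low i) (fun i => Polynomial.monic_X_pow_add (hlow i))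
    (fun i => ?_) (fun i => ?_) (fun i => ?_)
  · rw [Polynomial.degree_add_eq_left_of_degree_lt (by rw [Polynomial.degree_X_pow]; exact hlow i), Polynomial.degree_X_pow]
    exact_mod_cast hp0.ne'
  · simp only [F, low, map_add, map_sub, map_mul, map_pow, map_natCast, map_sum, Polynomial.aeval_X,
      Polynomial.aeval_C, MvPolynomial.algebraMap_eq, apply_ite (Polynomial.aeval (MvPolynomial.X i : MvPolynomial (Fin r) A)),
      map_zero]
    abel
  · intro I hpI
    have h0 : MvPolynomial.map (σ := Fin r) (Ideal.Quotient.mk I) (p : MvPolynomial (Fin r) A) = 0 := by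
      rw [map_natCast, ← MvPolynomial.C_eq_coe_nat, ← map_natCast (Ideal.Quotient.mk I),
        Ideal.Quotient.eq_zero_iff_mem.mpr hpI, map_zero]
    simp only [F, map_add, map_sub, map_mul, map_pow, h0, zero_mul, add_zero, MvPolynomial.map_X, MvPolynomial.map_C]

end Groth.Agent.S2473
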