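import Groth.Statements.S9294
import Groth.Agent.GeomFieldLib.HomBC
-- import your own Groth.Agent.* helpers here

set_option autoImplicit false
universe u
open CAlg

namespace Groth.Agent.S9294
open TensorProduct

/-- A geometrically regular algebra is regular. -/
theorem isRegularRing_of_geom (k : Type u) [Field k] (S : Type u) [CommRing S] [Algebra k S]
    (h : CAlg.IsGeometricallyRegular k S) : IsRegularRing S := by
  haveI := h k (Module.Finite.self _)
  exact IsRegularRing.of_ringEquiv (R := k ⊗[k] S) (Algebra.TensorProduct.lid k S).toRingEquiv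

/-- If A → B and B → C are regular ring maps and every fibre ring of the composite A → C is Noetherian,
the composite is regular. -/
theorem result (A B C : Type u) [CommRing A] [CommRing B] [CommRing C]
    [Algebra A B] [Algebra B C] [Algebra A C] [IsScalarTower A B C]
    (hAB : CAlg.IsRegularHom A B) (hBC : CAlg.IsRegularHom B C)
    (hN : ∀ (p : Ideal A) [p.IsPrime], IsNoetherianRing (p.Fiber C)) :
    CAlg.IsRegularHom A C := by
  haveI := hAB.1
  haveI := hBC.1
  refine ⟨Module.Flat.trans A B C, fun p _ => ⟨hN p, fun K' _ _ hf => ?_⟩⟩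
  letI : Algebra A K' := ((algebraMap p.ResidueField K').comp (algebraMap A p.ResidueField)).toAlgebra
  haveI : IsScalarTower A p.ResidueField K' := IsScalarTower.of_algebraMap_eq' rfl
  haveI := hN p
  haveI : IsNoetherianRing (K' ⊗[p.ResidueField] p.Fiber C) := by
    haveI : IsNoetherianRing ((p.Fiber C) ⊗[p.ResidueField] K') :=
      IsNoetherianRing.of_finite (p.Fiber C) _
    exact isNoetherianRing_of_ringEquiv _ (Algebra.TensorProduct.comm p.ResidueField (p.Fiber C) K').toRingEquiv
  haveI := (hAB.2 p).2 K' hf
  let A' := B ⊗[A] K'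
  haveI : IsRegularRing A' := IsRegularRing.of_ringEquiv (R := K' ⊗[p.ResidueField] p.Fiber B)
    ((Algebra.TensorProduct.cancelBaseChange A p.ResidueField K' K' B).toRingEquiv.trans
      (Algebra.TensorProduct.comm A K' B).toRingEquiv)
  let e : K' ⊗[p.ResidueField] p.Fiber C ≃+* A' ⊗[B] C :=
    (Algebra.TensorProduct.cancelBaseChange A p.ResidueField K' K' C).toRingEquiv.trans
      ((Algebra.TensorProduct.comm A K' C).toRingEquiv.trans
        ((Algebra.TensorProduct.cancelBaseChange A B C C K').symm.toRingEquiv.trans
          (Algebra.TensorProduct.comm B C A').toRingEquiv))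
  haveI : IsNoetherianRing (A' ⊗[B] C) := isNoetherianRing_of_ringEquiv _ e
  have hreg := GeomFieldLib.isRegularHom_tensor B C A' hBC
  haveI := hreg.1
  suffices IsRegularRing (A' ⊗[B] C) from IsRegularRing.of_ringEquiv e.symm
  rw [isRegularRing_iff]
  intro Q _
  let q := Q.comap (algebraMap A' (A' ⊗[B] C))
  haveI : IsRegularRing (q.Fiber (A' ⊗[B] C)) := isRegularRing_of_geom q.ResidueField _ (hreg.2 q).2
  haveI := GeomFieldLib.isRegularLocalRing_fibLocRing_of_regular_fiber (A := A') Q
  haveI : IsRegularLocalRing (Localization.AtPrime q) := IsRegularRing.isRegularLocalRing_localization q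
  exact EGA4Lib.isRegularLocalRing_of_regular_fibre (A := A') Q

end Groth.Agent.S9294
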