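import Groth.Statements.S9406
import Groth.Agent.CAlg48.FFDescent
import Groth.Agent.EGA4Lib.RkFlat

set_option autoImplicit false
universe u
open CAlg

namespace Groth.Agent.S9406

/-- Regularity descends along faithfully flat ring maps: whenever S is a faithfully flat R-algebra whose
underlying ring is regular, the base ring R is regular as well. -/
theorem result (R : Type u) [CommRing R] (S : Type u) [CommRing S]
    [Algebra R S] [Module.FaithfullyFlat R S] [IsRegularRing S] : IsRegularRing R := by
  haveI := CAlg48.FFDescent.isNoetherianRing R S
  refine ⟨fun p _ => ?_⟩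
  obtain ⟨q, hq, hqp, -⟩ := CAlg48.FFDescent.exists_minimal_over S p
  letI : Algebra (Localization.AtPrime p) (Localization.AtPrime q) :=
    (Localization.localRingHom p q (algebraMap R S) hqp.symm).toAlgebra
  haveI : IsLocalHom (algebraMap (Localization.AtPrime p) (Localization.AtPrime q)) :=
    Localization.isLocalHom_localRingHom _ _ _ hqp.symm
  haveI : Module.Flat (Localization.AtPrime p) (Localization.AtPrime q) :=
    RingHom.flat_algebraMap_iff.1 (EGA4Lib.flat_localRingHom q p hqp.symm)
  exact RegLoc.Homological.isRegularLocalRing_of_flat (Localization.AtPrime q)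

end Groth.Agent.S9406
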