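import Groth.Statements.S9295
import Groth.Agent.FDesc.Algebra
import Groth.Agent.S9406
import Groth.Agent.CAlg48.FFDescent
import Mathlib

set_option autoImplicit false
universe u
open CAlg

namespace Groth.Agent.S9295

open TensorProduct

/-- Base change of a faithfully flat map is faithfully flat. -/
theorem ff_map (A B C K : Type u) [CommRing A] [CommRing B] [CommRing C] [CommRing K] [Algebra A B]
    [Algebra B C] [Algebra A C] [IsScalarTower A B C] [Algebra A K] [Module.FaithfullyFlat B C] :
    (Algebra.TensorProduct.map (AlgHom.id A K) (IsScalarTower.toAlgHom A B C)).toRingHom.FaithfullyFlat := by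
  let P := B ⊗[A] K
  let e₁ : K ⊗[A] B ≃+* P := (Algebra.TensorProduct.comm A K B).toRingEquiv
  let e₂ : P ⊗[B] C ≃+* K ⊗[A] C := (Algebra.TensorProduct.comm B P C).toRingEquiv.trans
    ((Algebra.TensorProduct.cancelBaseChange A B B C K).toRingEquiv.trans
      (Algebra.TensorProduct.comm A C K).toRingEquiv)
  have hff : (algebraMap P (P ⊗[B] C)).FaithfullyFlat := RingHom.faithfullyFlat_algebraMap_iff.mpr inferInstance
  have heq : (Algebra.TensorProduct.map (AlgHom.id A K) (IsScalarTower.toAlgHom A B C)).toRingHom =
      e₂.toRingHom.comp ((algebraMap P (P ⊗[B] C)).comp e₁.toRingHom) := by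
    refine RingHom.ext fun x => ?_
    induction x using TensorProduct.induction_on with
    | zero => rw [map_zero, map_zero]
    | tmul a b =>
      show a ⊗ₜ[A] algebraMap B C b = e₂ ((b ⊗ₜ[A] a) ⊗ₜ[B] 1)
      show _ = Algebra.TensorProduct.comm A C K (Algebra.TensorProduct.cancelBaseChange A B B C K
        (Algebra.TensorProduct.comm B (B ⊗[A] K) C ((b ⊗ₜ[A] a) ⊗ₜ[B] (1 : C))))
      rw [Algebra.TensorProduct.comm_tmul, Algebra.TensorProduct.cancelBaseChange_tmul,
        Algebra.TensorProduct.comm_tmul, Algebra.algebraMap_eq_smul_one]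
    | add a b ha hb => rw [map_add, map_add, ha, hb]
  rw [heq]
  exact RingHom.FaithfullyFlat.stableUnderComposition _ _
    (RingHom.FaithfullyFlat.stableUnderComposition _ _ (RingHom.FaithfullyFlat.of_bijective e₁.bijective) hff)
    (RingHom.FaithfullyFlat.of_bijective e₂.bijective)

/-- For ring maps A → B → C, if the composite A → C is a regular map and C is flat over B with every
prime of B lying under a prime of C (that is, B → C is faithfully flat), then A → B is a regular
map. -/
theorem result (A B C : Type u) [CommRing A] [CommRing B] [CommRing C]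
    [Algebra A B] [Algebra B C] [Algebra A C] [IsScalarTower A B C]
    (hAC : CAlg.IsRegularHom A C) [Module.Flat B C]
    (hsurj : Function.Surjective (PrimeSpectrum.comap (algebraMap B C))) :
    CAlg.IsRegularHom A B := by
  haveI : Module.FaithfullyFlat B C := Module.FaithfullyFlat.of_comap_surjective hsurj
  haveI := hAC.1
  refine ⟨FDesc.Algebra.flat_of_comp_faithfullyFlat (A := A) (B := B) (C := C), fun p _ => ?_⟩
  obtain ⟨hN, hG⟩ := hAC.2 p
  constructor
  · have hff := ff_map A B C p.ResidueField
    algebraize [(Algebra.TensorProduct.map (AlgHom.id A p.ResidueField) (IsScalarTower.toAlgHom A B C)).toRingHom]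
    exact CAlg48.FFDescent.isNoetherianRing (p.Fiber B) (p.Fiber C)
  · intro k' _ _ hk'
    haveI : IsRegularRing (k' ⊗[p.ResidueField] p.Fiber C) := hG k' hk'
    letI : Algebra A k' := ((algebraMap p.ResidueField k').comp (algebraMap A p.ResidueField)).toAlgebra
    haveI : IsScalarTower A p.ResidueField k' := IsScalarTower.of_algebraMap_eq' rfl
    haveI : IsRegularRing (k' ⊗[A] C) := IsRegularRing.of_ringEquiv
      (Algebra.TensorProduct.cancelBaseChange A p.ResidueField k' k' C).toRingEquiv
    have hff := ff_map A B C k'
    haveI : IsRegularRing (k' ⊗[A] B) := by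
      algebraize [(Algebra.TensorProduct.map (AlgHom.id A k') (IsScalarTower.toAlgHom A B C)).toRingHom]
      exact S9406.result (k' ⊗[A] B) (k' ⊗[A] C)
    exact IsRegularRing.of_ringEquiv
      (Algebra.TensorProduct.cancelBaseChange A p.ResidueField k' k' B).symm.toRingEquiv

end Groth.Agent.S9295
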