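import Groth.Statements.S2053
import Groth.Agent.Nagata.CohenMap

set_option autoImplicit false
universe u
open CAlg

namespace Groth.Agent.S2053

open IsLocalRing Groth.Agent.Nagata

/-- A Cohen ring for the residue field, with its map to a complete local ring. -/
theorem exists_cohen (R : Type u) [CommRing R] [IsLocalRing R] [IsAdicComplete (maximalIdeal R) R]
    (p : ℕ) [hp : Fact p.Prime] [CharP (ResidueField R) p] :
    ∃ (Λ : Type u) (_ : CommRing Λ) (_ : IsDomain Λ) (_ : IsDiscreteValuationRing Λ)
      (_ : IsAdicComplete (maximalIdeal Λ) Λ), maximalIdeal Λ = Ideal.span {(p : Λ)} ∧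
        ∃ g : Λ →+* R, Function.Surjective ((residue R).comp g) := by
  obtain ⟨Λ, _, _, hΛ, ⟨e⟩⟩ := CohenRing.exists_cohenRing p (ResidueField R)
  obtain ⟨hdom, hdvr, hcpl, q, hq, hm⟩ := id hΛ
  have hqp : q = p := by
    have h1 : residue Λ (q : Λ) = 0 :=
      Ideal.Quotient.eq_zero_iff_mem.mpr (hm ▸ Ideal.mem_span_singleton_self _)
    have h2 : (q : ResidueField R) = 0 := by
      rw [← map_natCast e, ← map_natCast (residue Λ), h1, map_zero]
    exact ((Nat.prime_dvd_prime_iff_eq hp.out hq).mp ((CharP.cast_eq_zero_iff _ p q).mp h2)).symm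
  subst hqp
  have hpR : (q : R) ∈ maximalIdeal R := Ideal.Quotient.eq_zero_iff_mem.mp (by
    change residue R (q : R) = 0
    rw [map_natCast]; exact CharP.cast_eq_zero _ _)
  have : IsHausdorff ((maximalIdeal R).map (residue R)) (ResidueField R) := by
    rw [(Ideal.map_eq_bot_iff_le_ker (residue R)).mpr (IsLocalRing.ker_residue (R := R)).ge]
    infer_instance
  obtain ⟨g, hg⟩ := CohenMap.exists_lift (residue R) residue_surjective
    (e.toRingHom.comp (residue Λ)) (CohenMap.lifts_of_cohen q hq hm R hpR)
  exact ⟨Λ, inferInstance, hdom, hdvr, hcpl, hm, g,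
    hg ▸ (e.surjective.comp residue_surjective)⟩

/-- Consider a local homomorphism `A → B` between complete Noetherian local rings. Then there are power
series rings `R`, `S` in finitely many variables over coefficient rings which are both fields (when
the residue characteristic of `A` is zero) or both Cohen rings (when it is positive), surjections `R
→ A`, `S → B` and a ring map `R → S` making the square commute, such that `R → S` is flat and `S/𝔪_R
S` is a regular ring. (The published statement also arranges that a regular system of parameters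
maps into one; that is not asserted here.) -/
theorem result {A B : Type u} [CommRing A] [CommRing B]
    [IsLocalRing A] [IsLocalRing B] [IsNoetherianRing A] [IsNoetherianRing B]
    [IsAdicComplete (IsLocalRing.maximalIdeal A) A] [IsAdicComplete (IsLocalRing.maximalIdeal B) B]
    [Algebra A B] [IsLocalHom (algebraMap A B)] :
    ∃ (Λ Λ' : Type u) (_ : CommRing Λ) (_ : CommRing Λ') (_ : IsLocalRing Λ) (n m : ℕ)
      (ρ : MvPowerSeries (Fin n) Λ →+* A) (σ : MvPowerSeries (Fin m) Λ' →+* B)
      (τ : MvPowerSeries (Fin n) Λ →+* MvPowerSeries (Fin m) Λ'),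
      ((CharZero (IsLocalRing.ResidueField A) ∧ IsField Λ ∧ IsField Λ') ∨
        (¬ CharZero (IsLocalRing.ResidueField A) ∧ CAlg.IsCohenRing Λ ∧ CAlg.IsCohenRing Λ')) ∧
        Function.Surjective ρ ∧ Function.Surjective σ ∧ σ.comp τ = (algebraMap A B).comp ρ ∧
        τ.Flat ∧ IsRegularRing (MvPowerSeries (Fin m) Λ' ⧸
          (IsLocalRing.maximalIdeal (MvPowerSeries (Fin n) Λ)).map τ) := by
  classical
  have hloc : (maximalIdeal A).map (algebraMap A B) ≤ maximalIdeal B :=
    IsLocalRing.map_maximalIdeal_le _
  let φ : ResidueField A →+* ResidueField B := IsLocalRing.ResidueField.map (algebraMap A B)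
  by_cases h0 : CharZero (ResidueField A)
  · have : CharZero (ResidueField B) := charZero_of_injective_ringHom φ.injective
    obtain ⟨s, hs⟩ := Groth.Agent.RegLoc.exists_coefficient_field A
    obtain ⟨s', hs'⟩ := Groth.Agent.RegLoc.exists_coefficient_field B
    have hbot : ∀ (F : Type u) [Field F], maximalIdeal F = Ideal.span {((0 : ℕ) : F)} := fun F _ => by
      rw [Nat.cast_zero, Ideal.span_singleton_eq_bot.mpr rfl]
      exact IsLocalRing.isField_iff_maximalIdeal_eq.mp (Field.toIsField F)
    have : IsAdicComplete (maximalIdeal (ResidueField B)) (ResidueField B) := by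
      rw [IsLocalRing.isField_iff_maximalIdeal_eq.mp (Field.toIsField (ResidueField B))]
      infer_instance
    obtain ⟨n, m, ρ, σ, τ, h⟩ := CohenMap.exists_presentation (A := A) (B := B)
      (Λ := ResidueField A) (Λ' := ResidueField B) (e := 0)
      (by simp) (by simp)
      0 (hbot _) (hbot _) (fun _ => Nat.cast_zero) (fun _ => Nat.cast_zero)
      s (fun x => ⟨x, RingHom.congr_fun hs x⟩) s' (fun x => ⟨x, RingHom.congr_fun hs' x⟩)
      (fun m _ => by
        have : CharZero (ResidueField (MvPowerSeries (Fin m) (ResidueField B))) :=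
          charZero_of_injective_ringHom ((residue (MvPowerSeries (Fin m) (ResidueField B))).comp
            MvPowerSeries.C).injective
        exact CohenMap.lifts_of_charZero _)
    exact ⟨_, _, _, _, inferInstance, n, m, ρ, σ, τ,
      Or.inl ⟨h0, Field.toIsField _, Field.toIsField _⟩, h⟩
  · obtain ⟨p, hchar⟩ := CharP.exists (ResidueField A)
    have hp : p.Prime := by
      rcases CharP.char_is_prime_or_zero (ResidueField A) p with hp | rfl
      · exact hp
      · exact absurd (CharP.charP_to_charZero (ResidueField A)) h0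
    have := Fact.mk hp
    have : CharP (ResidueField B) p := charP_of_injective_ringHom φ.injective p
    obtain ⟨Λ, _, hd, hv, hc, hm, g, hg⟩ := exists_cohen A p
    obtain ⟨Λ', _, hd', hv', hc', hm', g', hg'⟩ := exists_cohen B p
    have hdim : ∀ (D : Type u) [CommRing D] [IsDomain D] [IsDiscreteValuationRing D],
        ((1 : ℕ) : WithBot ℕ∞) ≤ ringKrullDim D := fun D _ _ _ =>
      (IsPrincipalIdealRing.ringKrullDim_eq_one D (IsDiscreteValuationRing.not_isField D)).ge
    obtain ⟨n, m, ρ, σ, τ, h⟩ := CohenMap.exists_presentation (A := A) (B := B)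
      (Λ := Λ) (Λ' := Λ') (e := 1) (hdim _) (hdim _) p hm hm'
      (fun h => absurd h one_ne_zero) (fun h => absurd h one_ne_zero) g hg g' hg'
      (fun m _ => CohenMap.lifts_of_cohen p hp hm _ (by
        rw [Normalization.maximalIdeal_eq hm', map_natCast]
        exact Ideal.subset_span (Or.inl rfl)))
    exact ⟨Λ, Λ', _, _, inferInstance, n, m, ρ, σ, τ,
      Or.inr ⟨h0, ⟨hd, hv, hc, p, hp, hm⟩, ⟨hd', hv', hc', p, hp, hm'⟩⟩, h⟩

end Groth.Agent.S2053
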