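import Groth.Statements.S9443
import Groth.Agent.S11741
import Groth.Agent.CAlg48.PSEval

set_option autoImplicit false
universe u
open CAlg

namespace Groth.Agent.S9443

open IsLocalRing

/-- A complete regular local ring R with a coefficient field k (a subfield mapping isomorphically onto
the residue field) is k-isomorphic to a power series ring over k in finitely many variables
(existence of an isomorphism only; the number of variables is then the dimension of R). -/
theorem result (R : Type u)
    [CommRing R] [IsRegularLocalRing R] [IsAdicComplete (IsLocalRing.maximalIdeal R) R]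
    (k : Type u) [Field k] [Algebra k R]
    (hk : Function.Bijective (algebraMap k (IsLocalRing.ResidueField R))) :
    ∃ d : ℕ, Nonempty (R ≃ₐ[k] MvPowerSeries (Fin d) k) := by
  classical
  set m := maximalIdeal R
  obtain ⟨T, hT, hTs⟩ := Submodule.FG.exists_span_finset_card_eq_spanFinrank (IsNoetherian.noetherian m)
  let s : Fin T.card → R := fun i => T.equivFin.symm i
  have hspan : Ideal.span (Set.range s) = m := by
    refine Eq.trans ?_ hTs
    congr 1
    ext x
    refine ⟨fun ⟨i, hi⟩ => hi ▸ (T.equivFin.symm i).2, fun hx => ⟨T.equivFin ⟨x, hx⟩, by simp [s]⟩⟩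
  have hb : ∀ i, s i ∈ m := fun i => hspan ▸ Ideal.subset_span ⟨i, rfl⟩
  obtain ⟨ψ, hψ⟩ := CAlg48.PSEval.exists_algHom (k := k) m s hb
  have hR : Function.Surjective ((residue R).comp (algebraMap k R)) := hk.surjective
  have hψm : ∀ i, ψ (MvPowerSeries.X i) ∈ m := fun i => (hψ i).symm ▸ hb i
  have hsp : Submodule.span (ResidueField R)
      (Set.range (fun i => m.toCotangent ⟨ψ (MvPowerSeries.X i), hψm i⟩)) = ⊤ := by
    have h1 : Submodule.span R (Set.range fun i => (⟨ψ (MvPowerSeries.X i), hψm i⟩ : m)) = ⊤ := by
      apply Submodule.map_injective_of_injective (f := m.subtype) Subtype.val_injective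
      rw [Submodule.map_span, Submodule.map_top, Submodule.range_subtype, ← Set.range_comp]
      refine Eq.trans ?_ hspan
      exact congrArg _ (congrArg _ (funext fun i => hψ i))
    rw [← top_le_iff]
    intro x _
    obtain ⟨y, rfl⟩ := Ideal.toCotangent_surjective m x
    have hy : y ∈ Submodule.span R (Set.range fun i => (⟨ψ (MvPowerSeries.X i), hψm i⟩ : m)) := h1 ▸ Submodule.mem_top
    have := Submodule.mem_map_of_mem (f := m.toCotangent) hy
    rw [Submodule.map_span, ← Set.range_comp] at this
    exact Submodule.span_le_restrictScalars R (ResidueField R) _ this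
  have hli := linearIndependent_of_top_le_span_of_card_eq_finrank hsp.ge
    (by rw [Fintype.card_fin, hT, spanFinrank_maximalIdeal_eq_finrank_cotangentSpace])
  exact ⟨_, ⟨(AlgEquiv.ofBijective ψ ((S11741.result k R hR _ ψ hψm hli hsp).1 inferInstance)).symm⟩⟩

end Groth.Agent.S9443
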