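import Groth.Statements.S4512
import Groth.Agent.AdicFS.PRadical
import Groth.Agent.S9444
import Groth.Agent.RegLoc.Completion
import Mathlib

set_option autoImplicit false
universe u
open EGA41

namespace Groth.Agent.S4512

open IsLocalRing in
/-- Let k be a field and A a Noetherian local k-algebra with residue field K, and suppose A is formally
smooth over k for the adic topology of its maximal ideal (k discrete). Then A is geometrically
regular over k, i.e. A ⊗_k k' is a regular ring for every finite extension k' of k; and the adic
completion of A is isomorphic, as a ring, to a power series ring K[[T_1, …, T_n]] (existence of a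
ring isomorphism; no compatibility with k is asserted, and none holds in general when K is
inseparable over k). -/
theorem result {k A : Type u} [Field k] [CommRing A]
    [IsLocalRing A] [IsNoetherianRing A] [Algebra k A] (h : CAlgX.IsAdicFormallySmooth k A (maximalIdeal A)) :
    CAlg.IsGeometricallyRegular k A ∧
      ∃ n : ℕ, Nonempty (AdicCompletion (maximalIdeal A) A ≃+* MvPowerSeries (Fin n) (ResidueField A)) := by
  obtain ⟨hreg, -⟩ := Groth.Agent.S2471.result.mp h
  refine ⟨fun k' _ _ hfin => ?_, ?_⟩
  · letI : Algebra A (TensorProduct k k' A) := Algebra.TensorProduct.rightAlgebra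
    haveI hfinA : Module.Finite A (TensorProduct k k' A) :=
      Module.Finite.equiv ({ Algebra.TensorProduct.comm k A k' with
        map_smul' := fun c x => by
          induction x using TensorProduct.induction_on with
          | zero => simp
          | tmul y z => simp [TensorProduct.smul_tmul', Algebra.smul_def, RingHom.algebraMap_toAlgebra]
          | add x y hx hy =>
            simp only [AlgEquiv.toEquiv_eq_coe, Equiv.toFun_as_coe, EquivLike.coe_coe, smul_add, map_add, RingHom.id_apply] at hx hy ⊢
            exact congrArg₂ (· + ·) hx hy } :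
        (TensorProduct k A k') ≃ₗ[A] (TensorProduct k k' A))
    haveI : Algebra.IsIntegral A (TensorProduct k k' A) := Algebra.IsIntegral.of_finite A _
    haveI : IsNoetherianRing (TensorProduct k k' A) := IsNoetherianRing.of_finite A _
    rw [isRegularRing_iff]
    intro P hP
    obtain ⟨Q, hQ, hPQ⟩ := Ideal.exists_le_maximal P hP.ne_top
    let BQ := Localization.AtPrime Q
    haveI hBQ : IsRegularLocalRing BQ := by
      refine (Groth.Agent.S2471.result (k := k') (A := BQ)).mp ?_ |>.1
      intro C _ _ J hJ u ⟨m, hm⟩
      letI : Algebra k C := ((algebraMap k' C).comp (algebraMap k k')).toAlgebra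
      haveI : IsScalarTower k k' C := .of_algebraMap_eq' rfl
      let u' : TensorProduct k k' A →ₐ[k'] C ⧸ J := u.comp (IsScalarTower.toAlgHom k' _ BQ)
      obtain ⟨v, hv⟩ := h C J hJ ((u'.restrictScalars k).comp Algebra.TensorProduct.includeRight)
        ⟨m, fun x hx => hm _ (by
          have h1 : (maximalIdeal A ^ m).map ((algebraMap (TensorProduct k k' A) BQ).comp
              (algebraMap A (TensorProduct k k' A))) ≤ maximalIdeal BQ ^ m := by
            rw [Ideal.map_pow, ← Ideal.map_map, ← Localization.AtPrime.map_eq_maximalIdeal]
            refine Ideal.pow_right_mono (Ideal.map_mono (Ideal.map_le_iff_le_comap.mpr ?_)) m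
            exact (IsLocalRing.eq_maximalIdeal
              (Ideal.isMaximal_comap_of_isIntegral_of_isMaximal (R := A) Q)).ge
          exact h1 (Ideal.mem_map_of_mem _ hx))⟩
      let w : TensorProduct k k' A →ₐ[k'] C :=
        Algebra.TensorProduct.lift (Algebra.ofId k' C) v (fun _ _ => Commute.all _ _)
      have hw : (Ideal.Quotient.mkₐ k' J).comp w = u' := Algebra.TensorProduct.ext' fun c b => by
        show Ideal.Quotient.mk J (Algebra.TensorProduct.lift (Algebra.ofId k' C) v
          (fun _ _ => Commute.all _ _) (c ⊗ₜ b)) = u' (c ⊗ₜ b)
        have h1 : Ideal.Quotient.mk J (v b) = u' (1 ⊗ₜ b) := DFunLike.congr_fun hv b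
        rw [Algebra.TensorProduct.lift_tmul, map_mul, h1,
          show c ⊗ₜ[k] b = algebraMap k' (TensorProduct k k' A) c * (1 ⊗ₜ b) by
            simp [Algebra.TensorProduct.algebraMap_apply], map_mul, u'.commutes]
        rfl
      have hunit : ∀ s : Q.primeCompl, IsUnit (w s) := fun s => by
        have h1 : IsUnit (Ideal.Quotient.mk J (w s)) := by
          rw [show Ideal.Quotient.mk J (w s) = u (algebraMap _ BQ (s : TensorProduct k k' A)) from
            DFunLike.congr_fun hw (s : TensorProduct k k' A)]
          exact (IsLocalization.map_units BQ s).map u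
        obtain ⟨y, hy⟩ := h1.exists_right_inv
        obtain ⟨y, rfl⟩ := Ideal.Quotient.mk_surjective y
        rw [← map_mul, ← map_one (Ideal.Quotient.mk J), Ideal.Quotient.eq] at hy
        have h3 : IsNilpotent (w s * y - 1) := ⟨2, by
          have := Ideal.pow_mem_pow hy 2
          rwa [hJ, Ideal.mem_bot] at this⟩
        have h4 := h3.isUnit_one_add
        rw [add_sub_cancel] at h4
        exact isUnit_of_mul_isUnit_left h4
      refine ⟨IsLocalization.liftAlgHom (S := BQ) hunit,
        AlgHom.coe_ringHom_injective (IsLocalization.ringHom_ext Q.primeCompl (RingHom.ext fun b => ?_))⟩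
      show Ideal.Quotient.mk J (IsLocalization.liftAlgHom (S := BQ) hunit (algebraMap _ BQ b)) = u (algebraMap _ BQ b)
      rw [IsLocalization.liftAlgHom_apply, IsLocalization.lift_eq]
      exact DFunLike.congr_fun hw b
    have hdisj : Disjoint (Q.primeCompl : Set (TensorProduct k k' A)) (P : Set (TensorProduct k k' A)) :=
      Set.disjoint_left.mpr fun x hx hxP => hx (hPQ hxP)
    let P' : Ideal BQ := P.map (algebraMap _ BQ)
    haveI : P'.IsPrime := IsLocalization.isPrime_of_isPrime_disjoint Q.primeCompl BQ P hP hdisj
    haveI := Groth.Agent.RegLoc.Homological.isRegularLocalRing_localization P'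
    haveI : IsLocalization.AtPrime (Localization.AtPrime P') (P'.comap (algebraMap _ BQ)) :=
      IsLocalization.isLocalization_isLocalization_atPrime_isLocalization Q.primeCompl (Localization.AtPrime P') P'
    have hP' : P'.comap (algebraMap (TensorProduct k k' A) BQ) = P :=
      IsLocalization.under_map_of_isPrime_disjoint Q.primeCompl BQ hP hdisj
    haveI : IsLocalization P.primeCompl (Localization.AtPrime P') := by
      have : IsLocalization (P'.comap (algebraMap (TensorProduct k k' A) BQ)).primeCompl (Localization.AtPrime P') := ‹_›
      simp only [hP'] at this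
      exact this
    exact IsRegularLocalRing.of_ringEquiv (R := Localization.AtPrime P')
      (IsLocalization.algEquiv P.primeCompl (Localization.AtPrime P') (Localization.AtPrime P)).toRingEquiv
  · haveI := hreg
    haveI : IsRegularLocalRing (AdicCompletion (maximalIdeal A) A) :=
      (Groth.Agent.RegLoc.Completion.isRegularLocalRing_completion_iff A).mp hreg
    letI : Algebra k (AdicCompletion (maximalIdeal A) A) :=
      ((algebraMap A (AdicCompletion (maximalIdeal A) A)).comp (algebraMap k A)).toAlgebra
    obtain ⟨d, ⟨e⟩⟩ := Groth.Agent.S9444.result (AdicCompletion (maximalIdeal A) A) k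
    let e' := RingEquiv.ofBijective _ (AdicCompletion.residueField_map_bijective (R := A))
    exact ⟨d, ⟨e.trans (RingEquiv.ofRingHom (MvPowerSeries.map (σ := Fin d) e'.symm.toRingHom)
      (MvPowerSeries.map e'.toRingHom) (RingHom.ext fun f => MvPowerSeries.ext fun n => by simp)
      (RingHom.ext fun f => MvPowerSeries.ext fun n => by simp))⟩⟩

end Groth.Agent.S4512
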