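import Groth.Statements.S9316
import Groth.Agent.CAlg48.SmallExt

set_option autoImplicit false
universe u
open CAlg

namespace Groth.Agent.S9316

open IsLocalRing in
/-- Let `R → S` be a local homomorphism of local rings with `S` Noetherian. Then `R → S` is formally
smooth for the adic topology of the maximal ideal of `S` if and only if lifts exist along small
extensions: for every Artinian local ring `A` with a local structure map `R → A`, every ideal `J` of
`A` of square zero which has length one as an `A`-module, and every local `R`-algebra homomorphism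
`ψ : S → A/J` inducing a bijection on residue fields, there is an `R`-algebra homomorphism `S → A`
lifting `ψ`. -/
theorem result {R S : Type u} [CommRing R] [CommRing S]
    [IsLocalRing R] [IsLocalRing S] [IsNoetherianRing S] [Algebra R S] [IsLocalHom (algebraMap R S)] :
    CAlgX.IsAdicFormallySmooth R S (maximalIdeal S) ↔
      ∀ (A : Type u) [CommRing A] [IsLocalRing A] [IsArtinianRing A] [Algebra R A]
        [IsLocalHom (algebraMap R A)] (J : Ideal A), J ^ 2 = ⊥ → Module.length A J = 1 →
        ∀ [IsLocalRing (A ⧸ J)] (ψ : S →ₐ[R] A ⧸ J) [IsLocalHom ψ.toRingHom],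
          Function.Bijective (ResidueField.map ψ.toRingHom) →
          ∃ χ : S →ₐ[R] A, (Ideal.Quotient.mkₐ R J).comp χ = ψ := by
  constructor
  · intro h A _ _ _ _ _ J hJ _ _ ψ _ hres
    obtain ⟨n, hn⟩ : IsNilpotent (maximalIdeal A) := (isArtinianRing_iff_isNilpotent_maximalIdeal A).mp ‹_›
    refine h A J hJ ψ ⟨n, fun x hx => ?_⟩
    have h1 : (maximalIdeal S).map ψ ≤ (maximalIdeal A).map (Ideal.Quotient.mk J) := by
      rw [Ideal.map_le_iff_le_comap]
      intro s hs
      obtain ⟨a, ha⟩ := Ideal.Quotient.mk_surjective (ψ s)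
      rw [Ideal.mem_comap, ← ha]
      refine Ideal.mem_map_of_mem _ fun hu => hs ?_
      exact isUnit_of_map_unit ψ.toRingHom s (show IsUnit (ψ s) from ha ▸ hu.map (Ideal.Quotient.mk J))
    have h2 := Ideal.pow_right_mono h1 n (Ideal.map_pow ψ (maximalIdeal S) n ▸ Ideal.mem_map_of_mem ψ hx)
    rw [← Ideal.map_pow, hn, Submodule.zero_eq_bot, Ideal.map_bot, Ideal.mem_bot] at h2
    exact h2
  · intro H
    refine CAlg48.SmallExt.isAdicFormallySmooth_of_surjective fun A _ _ K hK hK' ψ hψ ⟨k, hk⟩ => ?_
    obtain ⟨_, hnil, hloc⟩ := CAlg48.SmallExt.of_surjective K ⟨2, hK⟩ hK' ψ hψ hk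
    haveI := @hloc _ _
    obtain ⟨n, hn⟩ := hnil
    exact CAlg48.SmallExt.lift_of_pow_mul_eq_bot H n A ⟨n, hn⟩ K hK
      (by rw [hn, zero_mul, Submodule.zero_eq_bot]) ψ hψ

end Groth.Agent.S9316
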