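import Groth.Statements.S0024
import Groth.Agent.ProjTwist.Pn.H0
import Groth.Agent.ProjTwist.Zero

set_option autoImplicit false
universe u
open Coherent

namespace Groth.Agent.S0024

section
open Twist

set_option synthInstance.maxHeartbeats 200000

variable {R A : Type u} [CommRing R] [CommRing A] [Algebra R A] (𝒜 : ℕ → Submodule R A)
  [GradedAlgebra 𝒜]

/-- Scalar multiplication on sections of `O(0)`. -/
noncomputable def smulO (c : O (𝒜 := 𝒜) (Opposite.op ⊤)) (s : sectN (𝒜 := 𝒜) 0 (Opposite.op ⊤)) :
    sectN (𝒜 := 𝒜) 0 (Opposite.op ⊤) := c • s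

/-- `c ↦ c • 1`. -/
noncomputable def smulOne (c : O (𝒜 := 𝒜) (Opposite.op ⊤)) :
    sectN (𝒜 := 𝒜) 0 (Opposite.op ⊤) := c • Groth.Agent.ProjTwist.oneSec 𝒜 (Opposite.op ⊤)

theorem smulOne_mul (a c : O (𝒜 := 𝒜) (Opposite.op ⊤)) :
    smulOne 𝒜 (a * c) = smulO 𝒜 a (smulOne 𝒜 c) := mul_smul _ _ _

theorem smulOne_bijective : Function.Bijective (smulOne 𝒜) :=
  Groth.Agent.ProjTwist.bijective_smul_oneSec 𝒜 (Opposite.op ⊤)

end

open AlgebraicGeometry CategoryTheory in
/-- Special case d = 0, q = 0: the map R → Γ(P^n_R, O) induced by the structure morphism P^n_R → Spec R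
is an isomorphism (global functions on projective space are the degree-zero part R of the polynomial
ring). -/
theorem result (n : ℕ) (R : Type u) [CommRing R] :
    IsIso (CohB1.ProjSpace.toSpec n R).appTop := by
  classical
  let M := Twist.twistProjSpace n R 0
  let e₀ := CategoryTheory.Sheaf.H.equiv₀ (Coh.toAb M) CategoryTheory.Limits.isTerminalTop
  let g := Coh.toGlobal (CohB1.ProjSpace.toSpec n R)
  let one' : MvPolynomial.homogeneousSubmodule (Fin (n + 1)) R 0 :=
    ⟨1, MvPolynomial.isHomogeneous_one _ _⟩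
  let x := Groth.Agent.ProjTwist.Pn.h0Equiv n R 0 one'
  have hx : Function.Bijective fun r : R => r • x := by
    have h1 : Function.Bijective fun r : R => r • one' := by
      refine ⟨fun a b h => ?_, fun p => ?_⟩
      · have := congrArg (fun q : MvPolynomial.homogeneousSubmodule (Fin (n + 1)) R 0 =>
          MvPolynomial.coeff 0 q.1) (show a • one' = b • one' from h)
        simpa [one'] using this
      · refine ⟨MvPolynomial.coeff 0 p.1, Subtype.ext ?_⟩
        have hp : p.1.totalDegree = 0 :=
          Nat.le_zero.mp ((MvPolynomial.mem_homogeneousSubmodule 0 p.1).mp p.2).totalDegree_le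
        conv_rhs => rw [MvPolynomial.totalDegree_eq_zero_iff_eq_C.mp hp]
        simp [one', MvPolynomial.smul_eq_C_mul]
    convert (Groth.Agent.ProjTwist.Pn.h0Equiv n R 0).bijective.comp h1 using 1
    funext r
    exact ((Groth.Agent.ProjTwist.Pn.h0Equiv n R 0).map_smul r one').symm
  have hone := smulOne_bijective (CohB1.polyGrading n R)
  obtain ⟨c0, hc0⟩ := hone.2 (e₀ x)
  let res' : Coh.Γtop (CohB1.ProjSpace n R) → Twist.O (𝒜 := CohB1.polyGrading n R) (Opposite.op ⊤) := fun s =>
    Coh.resTop (CohB1.ProjSpace n R) (Opposite.op ⊤) s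
  have hnat : ∀ r : R, e₀ (r • x) = smulOne (CohB1.polyGrading n R) (res' (g r) * c0) := by
    intro r
    refine (CategoryTheory.Sheaf.H.equiv₀_naturality
      (hT := CategoryTheory.Limits.isTerminalTop) (f := Coh.smulAb M (g r)) x).symm.trans ?_
    refine Eq.trans ?_ (smulOne_mul _ _ _).symm
    exact congrArg (smulO (CohB1.polyGrading n R) (res' (g r))) hc0.symm
  have hres : Function.Bijective res' := by
    have : ∀ s, Coh.resTop (CohB1.ProjSpace n R) (Opposite.op ⊤) s = s := fun s => by
      rw [Coh.resTop, show (homOfLE (le_top (a := (⊤ : (CohB1.ProjSpace n R).Opens)))).op = 𝟙 _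
        from rfl, CategoryTheory.Functor.map_id]
      rfl
    simp only [res', this]
    exact Function.bijective_id
  have hmul : Function.Bijective fun r : R => res' (g r) * c0 := by
    refine (Function.Bijective.of_comp_iff' hone _).mp ?_
    have h3 := e₀.bijective.comp hx
    rw [show (⇑e₀ ∘ fun r : R => r • x) = _ from funext hnat] at h3
    exact h3
  obtain ⟨r0, hr0⟩ := hmul.2 1
  have hu : IsUnit c0 := IsUnit.of_mul_eq_one_right _ hr0
  have hg : Function.Bijective g := by
    refine (Function.Bijective.of_comp_iff' hres _).mp ?_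
    exact (Function.Bijective.of_comp_iff' (hu.unit.mulRight_bijective) _).mp hmul
  rw [ConcreteCategory.isIso_iff_bijective]
  have h2 : Function.Bijective
      ⇑(Scheme.ΓSpecIso (CommRingCat.of R)).inv.hom :=
    ConcreteCategory.bijective_of_isIso (Scheme.ΓSpecIso (CommRingCat.of R)).inv
  exact (Function.Bijective.of_comp_iff _ h2).mp hg

end Groth.Agent.S0024
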