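import Groth.Statements.S9675
import Groth.Agent.Nagata.NormalizationFinite

set_option autoImplicit false
universe u
open CategoryTheory CategoryTheory.Limits AlgebraicGeometry
open Mor

namespace Groth.Agent.S9675

/-- Let f : X ⟶ S be of finite type with X reduced and every affine open of S having Nagata coordinate
ring. Then the normalization of S in X is finite over S. (Such an f is automatically
quasi-separated; the binder is carried only to form the relative normalization.) -/
theorem result {X S : Scheme.{u}} (f : X ⟶ S)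
    [LocallyOfFiniteType f] [QuasiCompact f] [QuasiSeparated f] [IsReduced X]
    (hS : ∀ U : S.affineOpens, CAlg.IsNagata Γ(S, U)) :
    IsFinite f.fromNormalization := by
  classical
  refine Groth.Agent.Nagata.NormalizationFinite.isFinite_fromNormalization f fun U hU => ?_
  let _ := (f.app U).hom.toAlgebra
  have hA := hS ⟨U, hU⟩
  have := hA.1
  obtain ⟨s, hs, e⟩ := isCompact_iff_finite_and_eq_biUnion_affineOpens.mp
    (f.isCompact_preimage hU.isCompact)
  have : Finite s := hs.to_subtype
  have hle : ∀ i : s, (i.1 : X.Opens) ≤ f ⁻¹ᵁ U := fun i =>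
    (le_iSup₂ (f := fun (i : X.affineOpens) (_ : i ∈ s) => (i : X.Opens)) i.1 i.2).trans e.ge
  let _ : ∀ i : s, Algebra Γ(S, U) Γ(X, i.1) := fun i => (f.appLE U i.1 (hle i)).hom.toAlgebra
  let φ : ∀ i : s, Γ(X, f ⁻¹ᵁ U) →ₐ[Γ(S, U)] Γ(X, i.1) := fun i =>
    { (X.presheaf.map (homOfLE (hle i)).op).hom with commutes' := fun _ => rfl }
  refine Groth.Agent.Nagata.NormalizationFinite.finite_integralClosure_of_pi _ φ (fun i => ?_)
    fun b hb => ?_
  · have : Algebra.FiniteType Γ(S, U) Γ(X, i.1) := f.finiteType_appLE hU i.1.2 (hle i)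
    exact S0573.result _ hA _
  · refine TopCat.Sheaf.eq_of_locally_eq' X.sheaf (fun i : s => (i.1 : X.Opens)) (f ⁻¹ᵁ U)
      (fun i => homOfLE (hle i)) (fun x hx => ?_) b 0 fun i => ?_
    · obtain ⟨i, hx⟩ := TopologicalSpace.Opens.mem_iSup.mp (e.le hx)
      obtain ⟨hi, hx⟩ := TopologicalSpace.Opens.mem_iSup.mp hx
      exact TopologicalSpace.Opens.mem_iSup.mpr ⟨⟨i, hi⟩, hx⟩
    · exact (hb i).trans (map_zero _).symm

end Groth.Agent.S9675
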