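import Groth.Statements.S1288
import Groth.Agent.QDom.Main
import Groth.Agent.QDom.Graph

set_option maxHeartbeats 1000000
set_option backward.isDefEq.respectTransparency false
set_option backward.defeqAttrib.useBackward true

set_option autoImplicit false
universe u
open FlatMor

namespace Groth.Agent.S1288

open AlgebraicGeometry CategoryTheory Limits in
/-- Let S be quasi-compact and quasi-separated, g : U → S separated and of finite type, V ⊆ U a
quasi-compact open, and j : V → Y a quasi-compact open immersion over S into a scheme Y proper over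
S. Then there are a blow-up b : Y' → Y in a finite type ideal with support disjoint from j(V), an
open V' of Y' containing b⁻¹(j(V)), and a proper morphism h : V' → U which extends V → U: on
b⁻¹(j(V)) it is the identification with V followed by the inclusion of V in U. -/
theorem result {U S Y : Scheme.{u}} [CompactSpace S] [QuasiSeparatedSpace S]
    (g : U ⟶ S) [IsSeparated g] [LocallyOfFiniteType g] [QuasiCompact g]
    (V : U.Opens) (hV : IsCompact (V : Set U)) (j : (V : Scheme.{u}) ⟶ Y) [IsOpenImmersion j] [QuasiCompact j]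
    (πY : Y ⟶ S) [IsProper πY] (hj : j ≫ πY = V.ι ≫ g) :
    ∃ (𝓘 : Y.IdealSheafData) (Y' : Scheme.{u}) (b : Y' ⟶ Y), BlowUp.IsBlowUp b 𝓘 ∧ BlowUp.IsAdmissibleFor j.opensRange 𝓘 ∧
      ∃ (V' : Y'.Opens) (hle : b ⁻¹ᵁ j.opensRange ≤ V') (h : (V' : Scheme.{u}) ⟶ U),
        IsProper h ∧
        ∃ k : ((b ⁻¹ᵁ j.opensRange : Y'.Opens) : Scheme.{u}) ⟶ V,
          k ≫ j = (b ∣_ j.opensRange) ≫ j.opensRange.ι ∧ Y'.homOfLE hle ≫ h = k ≫ V.ι := by
  have : CompactSpace Y := QuasiCompact.compactSpace_of_compactSpace πY
  have : QuasiSeparatedSpace Y := quasiSeparatedSpace_of_quasiSeparated πY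
  have : CompactSpace U := QuasiCompact.compactSpace_of_compactSpace g
  have : QuasiSeparatedSpace U := quasiSeparatedSpace_of_quasiSeparated g
  have : CompactSpace (V : Scheme.{u}) := isCompact_iff_compactSpace.mp hV
  let P := j.opensRange
  have hP : IsCompact (P : Set Y) := isCompact_range j.continuous
  let f : P.toScheme ⟶ U := j.isoOpensRange.inv ≫ V.ι
  have hf : P.ι ≫ πY = f ≫ g := by
    rw [← Scheme.Hom.isoOpensRange_inv_comp j, Category.assoc, hj, Category.assoc]
  obtain ⟨𝓘, Y', b, hb, hadm, -, V', hle, h, hh, hag, hclosed, -⟩ :=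
    QDom.Main.exists_extension' πY g P P le_rfl hP hP f hf
      (QDom.Graph.closure_inter_subset πY g P f hf)
  have : IsProper b := BlowUpProper.Basic.isProper hb hadm.1
  let Γ := Limits.pullback.lift (f := b ≫ πY) (g := g) V'.ι h hh
  have : IsImmersion (Γ ≫ Limits.pullback.fst (b ≫ πY) g) := by
    rw [Limits.pullback.lift_fst]; infer_instance
  have : IsImmersion Γ := IsImmersion.of_comp Γ (Limits.pullback.fst (b ≫ πY) g)
  have : IsClosedImmersion Γ := IsClosedImmersion.of_isPreimmersion _ hclosed
  have hp : IsProper h := by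
    rw [← Limits.pullback.lift_snd (f := b ≫ πY) (g := g) V'.ι h hh]
    infer_instance
  refine ⟨𝓘, Y', b, hb, hadm, V', hle, h, hp, (b ∣_ P) ≫ j.isoOpensRange.inv, ?_, ?_⟩
  · rw [Category.assoc, Scheme.Hom.isoOpensRange_inv_comp]
  · rw [hag, Category.assoc]

end Groth.Agent.S1288
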