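import Groth.Statements.S17381
import Groth.Agent.QDom.Birational
set_option backward.isDefEq.respectTransparency false
set_option backward.defeqAttrib.useBackward true

set_option autoImplicit false
universe u
open FlatMor

namespace Groth.Agent.S17381

open AlgebraicGeometry CategoryTheory Limits in
/-- Let f : X' → X be a proper morphism with X quasi-compact and quasi-separated (so X' is too), and let
U ⊆ X be a quasi-compact dense open subscheme such that f restricts to an isomorphism over U and the
preimage of U is dense in X'. Then X' and X admit a common blow-up over f: there are a scheme X̃, a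
morphism c' : X̃ → X' which is a blowing up of X' in a quasi-coherent ideal of finite type with
support disjoint from the preimage of U, and a quasi-coherent ideal of finite type on X with support
disjoint from U in which the composite c' ≫ f is a blowing up of X. (A proper morphism is birational
in this sense exactly when source and target have a common admissible blow-up.) -/
theorem result
    {X X' : Scheme.{u}} [CompactSpace X] [QuasiSeparatedSpace X]
    (f : X' ⟶ X) [IsProper f] (U : X.Opens) (hU : IsCompact (U : Set X)) (hUd : Dense (U : Set X))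
    [IsIso (f ∣_ U)] (hU' : Dense ((f ⁻¹ᵁ U : X'.Opens) : Set X')) :
    ∃ (𝓘' : X'.IdealSheafData) (𝓘 : X.IdealSheafData) (Y : Scheme.{u}) (c' : Y ⟶ X'),
      BlowUp.IsBlowUp c' 𝓘' ∧ BlowUp.IsAdmissibleFor (f ⁻¹ᵁ U) 𝓘' ∧
      BlowUp.IsBlowUp (c' ≫ f) 𝓘 ∧ BlowUp.IsAdmissibleFor U 𝓘 := by
  obtain ⟨𝓙, Y', c, W, b, hb, hc, hadm, -, hbl, -, hWd, hcl⟩ :=
    QDom.Birational.exists_blowUp f U hU hUd
  let Γ := CategoryTheory.Limits.pullback.lift W.ι b hb
  have : IsImmersion (Γ ≫ CategoryTheory.Limits.pullback.fst c f) := by
    rw [CategoryTheory.Limits.pullback.lift_fst]; infer_instance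
  have : IsImmersion Γ := IsImmersion.of_comp Γ (CategoryTheory.Limits.pullback.fst c f)
  have : IsClosedImmersion Γ := IsClosedImmersion.of_isPreimmersion _ hcl
  have : IsProper W.ι := by
    have h : W.ι = Γ ≫ CategoryTheory.Limits.pullback.fst c f :=
      (CategoryTheory.Limits.pullback.lift_fst _ _ _).symm
    rw [h]; infer_instance
  have hW : (W : Set Y') = Set.univ := by
    have h := W.ι.isClosedMap.isClosed_range
    rw [Scheme.Opens.range_ι] at h
    rw [← h.closure_eq, hWd.closure_eq]
  have hWtop : W = ⊤ := TopologicalSpace.Opens.ext hW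
  have : IsIso W.ι := by subst hWtop; exact inferInstanceAs (IsIso Y'.topIso.hom)
  refine ⟨𝓙.comap f, 𝓙, W, b, hbl, IdealSh.FinType.admissible_comap f hadm, ?_, hadm⟩
  rw [← hb]
  exact BlowUp.Basic.isBlowUp_iso_comp hc (asIso W.ι)

end Groth.Agent.S17381
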