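import Groth.Statements.S2331
import Groth.Agent.AmpleLib.CompLemma

set_option autoImplicit false
set_option linter.style.haveILetI false
universe u
open CategoryTheory CategoryTheory.Limits AlgebraicGeometry
open EGA2

namespace Groth.Agent.S2331

/-- Let Z be quasi-compact, f : X → Y and g : Y → Z quasi-compact morphisms, L an O_X-module ample
relative to f and K an O_Y-module ample relative to g. Then there is n₀ > 0 such that L ⊗
f^*(K^{⊗n}) is ample relative to g ∘ f for every n ≥ n₀. -/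
theorem result {X Y Z : Scheme.{u}} [CompactSpace Z] (f : X ⟶ Y) (g : Y ⟶ Z)
    [QuasiCompact f] [QuasiCompact g] (L : X.Modules) (K : Y.Modules)
    (hL : RelAmple.IsRelAmple f L) (hK : RelAmple.IsRelAmple g K) :
    ∃ n₀ : ℕ, 0 < n₀ ∧ ∀ n, n₀ ≤ n →
      RelAmple.IsRelAmple (f ≫ g) (CohB1.tensorMod L ((Scheme.Modules.pullback f).obj (CohB1.tensorPow K n))) := by
  obtain ⟨-, hLi, hLV⟩ := AmpleLib.isRelAmple_iff.mp hL
  obtain ⟨-, hKi, hKV⟩ := AmpleLib.isRelAmple_iff.mp hK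
  haveI := AmpleLib.isSeparated_of_isRelAmple hL
  haveI := AmpleLib.isSeparated_of_isRelAmple hK
  choose W hW hzW _ using fun z : Z =>
    exists_isAffineOpen_mem_and_subset (X := Z) (x := z) (U := ⊤) trivial
  obtain ⟨t, ht⟩ := isCompact_univ.elim_finite_subcover (fun z : Z => (W z : Set Z))
    (fun z => (W z).2) fun z _ => Set.mem_iUnion.mpr ⟨z, hzW z⟩
  choose N hN using fun p : t => AmpleLib.eventually_ampleOn_comp f hLi hKi hLV
    (hKV ⟨W p.1, hW p.1⟩) (g.isQuasiSeparated_preimage (hW p.1).isQuasiSeparated)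
  obtain ⟨N₀, hN₀⟩ : ∃ N₀, ∀ p, N p ≤ N₀ := Finite.exists_le N
  refine ⟨N₀ + 1, Nat.succ_pos _, fun n hn => ?_⟩
  obtain ⟨φ⟩ := AmpleLib.exists_iso_pullback_tensorPow f hKi n
  have hP := PicCl.isInvertible_pullback f hKi
  refine AmpleLib.isRelAmple_of_cover (f ≫ g) (fun p : t => W p.1) ?_
    (AmpleLib.isInvertible_tensorMod hLi
      (PicCl.isInvertible_pullback f (AmpleLib.isInvertible_tensorPow hKi n))) fun p => ?_
  · intro z _
    obtain ⟨y, hy, hzy⟩ := Set.mem_iUnion₂.mp (ht (Set.mem_univ z))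
    exact TopologicalSpace.Opens.mem_iSup.mpr ⟨⟨y, hy⟩, hzy⟩
  · exact AmpleLib.ampleOn_of_iso (PicGrp.tensorModIso (Iso.refl L) φ.symm)
      (hN p n ((hN₀ p).trans (Nat.le_of_succ_le hn)))

end Groth.Agent.S2331
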