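import Groth.Statements.S2348
import Groth.Agent.BlowUp.Basic
import Mathlib.AlgebraicGeometry.FunctionField
import Mathlib.AlgebraicGeometry.ResidueField

set_option autoImplicit false
universe u
open CategoryTheory CategoryTheory.Limits AlgebraicGeometry
open EGA2

namespace Groth.Agent.S2348

set_option backward.isDefEq.respectTransparency.types false in
/-- For an ideal of O_Y: let Y be an integral scheme, I a nonzero quasi-coherent ideal sheaf and b : X →
Y a blowing up of Y in I (characterised by its universal property). Then X is integral, b sends the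
generic point of X to that of Y and induces a bijection on their residue fields (b is birational).
The printed statement also asserts that b is surjective; the proof does not show this and it fails
when I is not of finite type, so it is left out. -/
theorem result {X Y : Scheme.{u}} [IsIntegral Y] (I : Y.IdealSheafData) (hI : I ≠ ⊥)
    (b : X ⟶ Y) (hb : BlowUp.IsBlowUp b I) :
    ∃ (_ : IsIntegral X), ∃ hgen : b.base (genericPoint X) = genericPoint Y,
      Function.Bijective (b.residueFieldMap (genericPoint X)).hom := by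
  let U : Y.Opens := I.support.compl
  have hd : Disjoint (U : Set Y) (I.support : Set Y) := disjoint_compl_left
  have := Groth.Agent.BlowUp.Basic.isReduced hb
  have := Groth.Agent.BlowUp.Basic.isIso_restrict hb U hd
  -- the complement of the exceptional divisor is dense
  have hdense : Dense ((b ⁻¹ᵁ U : X.Opens) : Set X) := by
    rw [dense_iff_inter_open]
    rintro O hO ⟨x, hx⟩
    obtain ⟨W, hxW, hWO, c, hc, hce⟩ :=
      Groth.Agent.IdealSh.EffCartier.exists_equation hb.1 x ⟨O, hO⟩ hx
    by_contra hne
    have hbot : X.basicOpen c = ⊥ := by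
      refine TopologicalSpace.Opens.ext (Set.eq_empty_of_forall_notMem fun z hz0 => ?_)
      have hz := (Groth.Agent.IdealSh.Regular.basicOpen_eq_compl_support hce).subset hz0
      refine hne ⟨z, hWO hz.1, ?_⟩
      show b z ∉ I.support
      have h2 := hz.2
      rw [Scheme.IdealSheafData.support_comap] at h2
      exact h2
    have h0 : c = 0 := (basicOpen_eq_bot_iff c).mp hbot
    have : Nontrivial Γ(X, W.1) :=
      have : Nonempty (W.1 : Scheme.{u}) := ⟨⟨x, hxW⟩⟩
      Scheme.component_nontrivial X W.1
    exact zero_notMem_nonZeroDivisors (h0 ▸ hc)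
  -- the complement of the centre is nonempty
  obtain ⟨y, hy⟩ : ∃ y : Y, y ∈ U := by
    by_contra hne
    push_neg at hne
    refine hI ?_
    have htop : I.support = ⊤ := SetLike.ext fun y => ⟨fun _ => trivial, fun _ => not_not.mp (hne y)⟩
    exact Scheme.IdealSheafData.support_eq_top_iff.mp htop
  have : Nonempty (U : Scheme.{u}) := ⟨⟨y, hy⟩⟩
  have : IsIntegral (U : Scheme.{u}) := isIntegral_of_isOpenImmersion U.ι
  have hne : Nonempty ((b ⁻¹ᵁ U : X.Opens) : Scheme.{u}) := ⟨(inv (b ∣_ U)).base ⟨y, hy⟩⟩
  have : IsIntegral ((b ⁻¹ᵁ U : X.Opens) : Scheme.{u}) := isIntegral_of_isOpenImmersion (b ∣_ U)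
  have hirrV : IsIrreducible ((b ⁻¹ᵁ U : X.Opens) : Set X) := by
    rw [← (b ⁻¹ᵁ U).range_ι, ← Set.image_univ]
    exact (IrreducibleSpace.isIrreducible_univ _).image _ (b ⁻¹ᵁ U).ι.continuous.continuousOn
  have : IrreducibleSpace X := (irreducibleSpace_def X).mpr (by
    have h := hirrV.closure
    rwa [hdense.closure_eq] at h)
  have : IsIntegral X := isIntegral_of_irreducibleSpace_of_isReduced X
  have hoi : IsOpenImmersion ((b ⁻¹ᵁ U).ι ≫ b) := by
    rw [← morphismRestrict_ι]; infer_instance
  have e1 := genericPoint_eq_of_isOpenImmersion (b ⁻¹ᵁ U).ι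
  have e2 := genericPoint_eq_of_isOpenImmersion ((b ⁻¹ᵁ U).ι ≫ b)
  refine ⟨inferInstance, ?_, ?_⟩
  · rw [← e1, ← e2]
    rfl
  · rw [← e1]
    generalize genericPoint ((b ⁻¹ᵁ U : X.Opens) : Scheme.{u}) = v
    have h := Scheme.Hom.stalkMap_comp (b ⁻¹ᵁ U).ι b v
    have hiso : IsIso (b.stalkMap ((b ⁻¹ᵁ U).ι.base v)) := by
      have h3 : IsIso (Scheme.Hom.stalkMap ((b ⁻¹ᵁ U).ι ≫ b) v) := by
        infer_instance
      have : IsIso (b.stalkMap ((b ⁻¹ᵁ U).ι.base v) ≫ (b ⁻¹ᵁ U).ι.stalkMap v) := h ▸ h3
      exact IsIso.of_isIso_comp_right _ ((b ⁻¹ᵁ U).ι.stalkMap v)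
    refine ⟨(b.residueFieldMap _).hom.injective, ?_⟩
    refine Function.Surjective.of_comp (g := (Y.residue _).hom) ?_
    rw [← RingHom.coe_comp, ← CommRingCat.hom_comp, Scheme.residue_residueFieldMap, CommRingCat.hom_comp,
      RingHom.coe_comp]
    exact (Scheme.residue_surjective _ _).comp (ConcreteCategory.bijective_of_isIso _).2

end Groth.Agent.S2348
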