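import Groth.Statements.S9802
import Groth.Agent.Props.N2Local
import Mathlib.AlgebraicGeometry.Noetherian
import Mathlib.AlgebraicGeometry.IdealSheaf.Subscheme
import Mathlib.AlgebraicGeometry.Morphisms.ClosedImmersion

set_option autoImplicit false
universe u
open CategoryTheory AlgebraicGeometry TopologicalSpace
open Props

namespace Groth.Agent.S9802

open Groth.Agent.Props.N2Local

/-- The image of an integral scheme is integral. -/
theorem isIntegral_image {T X : Scheme.{u}} (f : T ⟶ X) [QuasiCompact f] [IsIntegral T] :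
    IsIntegral f.image := by
  have : IsReduced f.image := by
    have hcov : (⨆ U : X.affineOpens, f.imageι ⁻¹ᵁ U.1) = ⊤ := by
      rw [← Scheme.Hom.preimage_iSup, iSup_affineOpens_eq_top, Scheme.Hom.preimage_top]
    let 𝒰 := f.image.openCoverOfIsOpenCover (fun U : X.affineOpens => f.imageι ⁻¹ᵁ U.1) hcov
    have : ∀ U, IsReduced (𝒰.X U) := fun U => by
      have : IsAffine (𝒰.X U) := U.2.preimage f.imageι
      have h1 : _root_.IsReduced Γ(f.image, f.imageι ⁻¹ᵁ U.1) :=
        isReduced_of_injective (f.toImage.app (f.imageι ⁻¹ᵁ U.1)).hom (f.toImage_app_injective U)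
      have : _root_.IsReduced Γ(𝒰.X U, ⊤) :=
        isReduced_of_injective (f.imageι ⁻¹ᵁ U.1).topIso.hom.hom
          (ConcreteCategory.bijective_of_isIso _).1
      exact isReduced_of_isAffine_isReduced (X := 𝒰.X U)
    exact IsReduced.of_openCover f.image 𝒰
  have : IrreducibleSpace f.image := by
    have h1 := (IrreducibleSpace.isIrreducible_univ T).image f.toImage f.toImage.continuous.continuousOn
    have h2 := h1.closure
    rw [Set.image_univ, f.toImage.denseRange.closure_range] at h2
    exact (irreducibleSpace_def _).mpr h2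
  exact isIntegral_of_irreducibleSpace_of_isReduced _

/-- A locally Noetherian scheme is Nagata (every affine open has a Nagata coordinate ring) if and only
if every integral closed subscheme is Japanese (every nonempty affine open of it has an N-2
coordinate ring). -/
theorem result (X : Scheme.{u})
    [IsLocallyNoetherian X] :
    (∀ U : X.Opens, IsAffineOpen U → CAlg.IsNagata Γ(X, U)) ↔
      ∀ (Z : Scheme.{u}) (i : Z ⟶ X) [IsClosedImmersion i] [IsIntegral Z]
        (V : Z.Opens) [Nonempty V], IsAffineOpen V → CAlg.IsN2 Γ(Z, V) := by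
  constructor
  · intro hN Z i _ _ V _ hV
    classical
    have key : ∀ z : V, ∃ f : Γ(Z, V), z.1 ∈ Z.basicOpen f ∧
        ∀ (_ : IsDomain Γ(Z, Z.basicOpen f)), CAlg.IsN2 Γ(Z, Z.basicOpen f) := by
      intro z
      obtain ⟨U, hU, hzU, -⟩ :=
        exists_isAffineOpen_mem_and_subset (U := (⊤ : X.Opens)) (x := i z.1) trivial
      obtain ⟨f, g, hfg, hzf⟩ :=
        exists_basicOpen_le_affine_inter hV (hU.preimage i) z.1 ⟨z.2, hzU⟩
      refine ⟨f, hzf, fun _ => ?_⟩
      have : Nonempty (i ⁻¹ᵁ U : Z.Opens) := ⟨⟨z.1, hzU⟩⟩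
      have hN2 : CAlg.IsN2 Γ(Z, i ⁻¹ᵁ U) :=
        letI := (i.app U).hom.toAlgebra
        ((isNagata_iff).mp (hN U hU)).2 Γ(Z, i ⁻¹ᵁ U) (i.app_surjective U hU)
      have hg : g ≠ 0 := fun h => by
        rw [hfg, h, Scheme.basicOpen_zero] at hzf
        exact hzf
      have := (hU.preimage i).isLocalization_basicOpen g
      have key : ∀ (W : Z.Opens), W = Z.basicOpen g → ∀ (_ : IsDomain Γ(Z, W)), CAlg.IsN2 Γ(Z, W) := by
        rintro W rfl _
        exact isN2_localization hN2 (Submonoid.powers g) _ (powers_le_nonZeroDivisors_of_noZeroDivisors hg)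
      exact key _ hfg _
    choose f hf hfN using key
    have hcov : Ideal.span (Set.range f) = ⊤ := by
      rw [← hV.self_le_iSup_basicOpen_iff]
      exact fun x hx => Opens.mem_iSup.mpr ⟨⟨_, ⟨x, hx⟩, rfl⟩, hf ⟨x, hx⟩⟩
    obtain ⟨s, hs, hs1⟩ : ∃ s : Finset Γ(Z, V), (s : Set Γ(Z, V)) ⊆ Set.range f ∧
        Ideal.span (s : Set Γ(Z, V)) = ⊤ := by
      obtain ⟨s, hs, hs1⟩ := Submodule.mem_span_finite_of_mem_span
        (R := Γ(Z, V)) (show (1 : Γ(Z, V)) ∈ Ideal.span (Set.range f) by rw [hcov]; trivial)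
      exact ⟨s, hs, (Ideal.eq_top_iff_one _).mpr hs1⟩
    have hloc : ∀ a : Γ(Z, V), IsLocalization.Away a Γ(Z, Z.basicOpen a) := fun a =>
      hV.isLocalization_basicOpen a
    refine isN2_of_span s hs1 (fun a => Γ(Z, Z.basicOpen a)) fun a ha _ => ?_
    obtain ⟨z, rfl⟩ := hs ha
    intro _
    exact hfN z _
  · intro h U hU
    rw [CAlg.IsNagata]
    refine ⟨IsLocallyNoetherian.component_noetherian ⟨U, hU⟩, fun p _ => ?_⟩
    let q : Spec (CommRingCat.of (Γ(X, U) ⧸ p)) ⟶ Spec Γ(X, U) :=
      Spec.map (CommRingCat.ofHom (Ideal.Quotient.mk p))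
    let j : Spec (CommRingCat.of (Γ(X, U) ⧸ p)) ⟶ X := q ≫ hU.fromSpec
    have : QuasiCompact j := quasiCompact_of_compactSpace j
    have : IsIntegral j.image := isIntegral_image j
    have hq : q.app (hU.fromSpec ⁻¹ᵁ U) = (Spec Γ(X, U)).presheaf.map (eqToHom hU.fromSpec_preimage_self.symm).op ≫
        q.appTop ≫ (Spec (CommRingCat.of (Γ(X, U) ⧸ p))).presheaf.map
          (eqToHom (by rw [hU.fromSpec_preimage_self]; rfl)).op := by
      have key : ∀ (W : (Spec Γ(X, U)).Opens) (hW : W = ⊤) (hW' : q ⁻¹ᵁ W = ⊤),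
          q.app W = (Spec Γ(X, U)).presheaf.map (eqToHom hW.symm).op ≫ q.appTop ≫
            (Spec (CommRingCat.of (Γ(X, U) ⧸ p))).presheaf.map (eqToHom hW').op := by
        rintro W rfl hW'
        simp [Scheme.Hom.appTop]
      exact key _ hU.fromSpec_preimage_self _
    have happ : j.app U = CommRingCat.ofHom (Ideal.Quotient.mk p) ≫
        (Scheme.ΓSpecIso _).inv ≫ (Spec (CommRingCat.of (Γ(X, U) ⧸ p))).presheaf.map
          (eqToHom (by rw [Scheme.Hom.comp_preimage, hU.fromSpec_preimage_self]; rfl)).op := by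
      rw [Scheme.Hom.comp_app, hU.fromSpec_app_self, hq, Scheme.ΓSpecIso_inv_naturality_assoc]
      simp only [Category.assoc, ← Functor.map_comp_assoc, ← op_comp, eqToHom_trans, eqToHom_refl,
        op_id, CategoryTheory.Functor.map_id, Category.id_comp]
      rfl
    have hker : j.ker.ideal ⟨U, hU⟩ = p := by
      rw [Scheme.Hom.ker_apply, happ]
      ext a
      simp only [CommRingCat.hom_comp, RingHom.mem_ker, RingHom.comp_apply]
      rw [map_eq_zero_iff _ (ConcreteCategory.bijective_of_isIso _).1,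
        map_eq_zero_iff _ (ConcreteCategory.bijective_of_isIso _).1]
      exact Ideal.Quotient.eq_zero_iff_mem
    let V := j.imageι ⁻¹ᵁ U
    have hsurj : Function.Surjective (j.imageι.app U) := j.imageι.app_surjective U hU
    have hkerV : RingHom.ker (j.imageι.app U).hom = p :=
      ((Scheme.Hom.ker_apply j.imageι ⟨U, hU⟩).symm.trans
        (congrArg (fun I : X.IdealSheafData => I.ideal ⟨U, hU⟩) (Scheme.IdealSheafData.ker_subschemeι _))).trans hker
    have : Nonempty V := by
      obtain ⟨t⟩ : Nonempty (Spec (CommRingCat.of (Γ(X, U) ⧸ p))) := inferInstance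
      refine ⟨⟨j.toImage t, ?_⟩⟩
      show j.imageι (j.toImage t) ∈ U
      rw [← Scheme.Hom.comp_apply, Scheme.Hom.toImage_imageι, Scheme.Hom.comp_apply]
      exact hU.fromSpec_preimage_self.ge (x := q t) trivial
    exact isN2_of_ringEquiv (((Ideal.quotEquivOfEq hkerV).symm.trans
      (RingHom.quotientKerEquivOfSurjective hsurj)).symm) (h j.image j.imageι V (hU.preimage _))

end Groth.Agent.S9802
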