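import Groth.Prelude.Def_AlgGrp
import Groth.Prelude.Def_Red
import Groth.Agent.AbVarLib.RatPoints
import Mathlib.AlgebraicGeometry.Morphisms.Separated
import Mathlib.AlgebraicGeometry.Morphisms.Proper
import Mathlib.Algebra.MvPolynomial.Nilpotent
import Mathlib.RingTheory.TensorProduct.Basic
import Mathlib.RingTheory.Ideal.Quotient.Basic

/-!
# Morphisms from affine spaces to large groups are constant
-/

set_option autoImplicit false
set_option backward.isDefEq.respectTransparency false
universe u
open CategoryTheory MonoidalCategory CartesianMonoidalCategory MonObj GrpObj AlgebraicGeometry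
open Groth.Agent.AbVarLib.RatLine Groth.Agent.AbVarLib.RatPoints
open Limits (pullback)

namespace Groth.Agent.AffConst67

variable {k : Type u} [Field k]

abbrev P (n : ℕ) (L : Type u) [CommRing L] : Type u := MvPolynomial (Fin n) L

section
variable {L : Type u} [Field L] [Algebra k L] {n : ℕ}

noncomputable def cC : L →ₐ[k] P n L := IsScalarTower.toAlgHom k L (P n L)
noncomputable def ev (v : Fin n → L) : P n L →ₐ[k] L := (MvPolynomial.aeval v).restrictScalars k

theorem ev_cC (v : Fin n → L) : (ev v).comp (cC (k := k)) = AlgHom.id k L := by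
  ext x; simp [ev, cC]

theorem sp_ev_cC (v : Fin n → L) : sp (ev (k := k) v) ≫ sp cC = 𝟙 (O k L) := by
  rw [← sp_comp, ev_cC, sp_id]

/-- The constant family with the value at `v`. -/
noncomputable def cst {G : Over (Spec (CommRingCat.of k))} (v : Fin n → L) (h : O k (P n L) ⟶ G) :
    O k (P n L) ⟶ G :=
  sp cC ≫ sp (ev v) ≫ h

theorem isDominant_sp {R S : Type u} [CommRing R] [Algebra k R] [CommRing S] [Algebra k S]
    (φ : R →ₐ[k] S) (hφ : Function.Injective φ) : IsDominant (sp φ).left := ⟨by
  show DenseRange (PrimeSpectrum.comap φ.toRingHom)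
  rw [PrimeSpectrum.denseRange_comap_iff_ker_le_nilRadical,
    (RingHom.injective_iff_ker_eq_bot φ.toRingHom).mp hφ]
  exact bot_le⟩

theorem cancel_sp {R S : Type u} [CommRing R] [Algebra k R] [IsReduced R] [CommRing S] [Algebra k S]
    (φ : R →ₐ[k] S) (hφ : Function.Injective φ)
    {G : Over (Spec (CommRingCat.of k))} [IsSeparated G.hom] {f g : O k R ⟶ G}
    (h : sp φ ≫ f = sp φ ≫ g) : f = g := by
  have := isDominant_sp φ hφ
  have : IsReduced (CommRingCat.of R) := ‹IsReduced R›
  have : IsReduced (O k R).left := inferInstanceAs (IsReduced (Spec (CommRingCat.of R)))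
  exact Over.OverMorphism.ext (ext_of_isDominant_of_isSeparated G.hom (by rw [Over.w, Over.w])
    (sp φ).left (congrArg CommaMorphism.left h))

noncomputable def mapP (M : Type u) [Field M] [Algebra k M] [Algebra L M] [IsScalarTower k L M] :
    P n L →ₐ[k] P n M :=
  (MvPolynomial.mapAlgHom (IsScalarTower.toAlgHom k L M))

theorem mapP_injective (M : Type u) [Field M] [Algebra k M] [Algebra L M] [IsScalarTower k L M] :
    Function.Injective (mapP (k := k) (L := L) (n := n) M) :=
  MvPolynomial.map_injective _ (algebraMap L M).injective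

theorem cst_natural {G : Over (Spec (CommRingCat.of k))} (M : Type u) [Field M] [Algebra k M]
    [Algebra L M] [IsScalarTower k L M] (v : Fin n → L) (h : O k (P n L) ⟶ G) :
    sp (mapP M) ≫ cst v h = cst (fun i => algebraMap L M (v i)) (sp (mapP M) ≫ h) := by
  have e1 : (mapP (k := k) (n := n) M).comp cC = cC.comp (IsScalarTower.toAlgHom k L M) := by
    ext x; simp [mapP, cC]
  have e2 : (ev (k := k) (fun i => algebraMap L M (v i))).comp (mapP M) =
      (IsScalarTower.toAlgHom k L M).comp (ev v) := by
    refine AlgHom.coe_ringHom_injective ?_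
    refine MvPolynomial.ringHom_ext (fun r => ?_) (fun i => ?_) <;> simp [ev, mapP]
  unfold cst
  simp only [← Category.assoc, ← sp_comp]
  congr 2
  rw [← AlgHom.comp_assoc, e1, AlgHom.comp_assoc, ← e2, ← AlgHom.comp_assoc]

/-- Morphisms from affine space to a proper group are constant. -/
theorem proper_const {A : Over (Spec (CommRingCat.of k))} [GrpObj A] [IsProper A.hom]
    (h : O k (P n L) ⟶ A) (v : Fin n → L) : h = cst v h := by
  let s : Spec (CommRingCat.of L) ⟶ Spec (CommRingCat.of k) :=
    Spec.map (CommRingCat.ofHom (algebraMap k L))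
  let GB : Over (Spec (CommRingCat.of L)) := (Over.pullback s).obj A
  let : GrpObj GB := ((Over.pullback s).mapGrp.obj (.mk A)).grp
  have : IsProper GB.hom := inferInstanceAs (IsProper (Limits.pullback.snd A.hom s))
  let Q : Type u := FractionRing (P n L)
  let j : P n L →ₐ[k] Q := IsScalarTower.toAlgHom k (P n L) Q
  let zQ : O L Q ⟶ GB := Over.homMk (Limits.pullback.lift (sp j ≫ h).left
    (Spec.map (CommRingCat.ofHom (algebraMap L Q))) (by
      rw [Over.w (sp j ≫ h)]
      show Spec.map _ = Spec.map _ ≫ Spec.map _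
      rw [← Spec.map_comp, ← CommRingCat.ofHom_comp, ← IsScalarTower.algebraMap_eq]))
    (Limits.pullback.lift_snd _ _ _)
  obtain ⟨cL, hcL⟩ := exists_const_fractionRing_mvPolynomial (k := L) (G := GB) n Q zQ
  let c' : O k L ⟶ A := Over.homMk (cL.left ≫ Limits.pullback.fst A.hom s) (by
    have := Over.w cL
    rw [Category.assoc, Limits.pullback.condition, ← Category.assoc]
    refine (congrArg (· ≫ s) this).trans ?_
    show Spec.map _ ≫ s = Spec.map _
    rw [← Spec.map_comp, ← CommRingCat.ofHom_comp]
    rfl)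
  have hh : h = sp cC ≫ c' := by
    refine cancel_sp j (IsFractionRing.injective (P n L) Q) (Over.OverMorphism.ext ?_)
    calc (sp j ≫ h).left = zQ.left ≫ Limits.pullback.fst A.hom s :=
          (Limits.pullback.lift_fst _ _ _).symm
      _ = (sp (Algebra.ofId L Q)).left ≫ c'.left := by
          rw [hcL, Over.comp_left, Category.assoc]; rfl
      _ = _ := by
          rw [← Category.assoc, ← sp_comp, Over.comp_left]
          congr 1
  unfold cst
  rw [hh, ← Category.assoc (sp (ev v)), sp_ev_cC, Category.id_comp]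

/-- Units of a polynomial ring over a field are constants. -/
theorem eq_C_of_isUnit (v : Fin n → L) {f : P n L} (hf : IsUnit f) :
    MvPolynomial.C (MvPolynomial.aeval v f) = f := by
  obtain ⟨-, hd⟩ := MvPolynomial.isUnit_iff_totalDegree_of_isReduced.mp hf
  rw [MvPolynomial.totalDegree_eq_zero_iff_eq_C.mp hd]
  simp

end

section
variable {n : ℕ} {L : Type u} [Field L] [Algebra k L]

/-- Morphisms from affine space to the spectrum of a group algebra are constant. -/
theorem groupAlgebra_const (M0 : Type) [AddCommGroup M0] (v : Fin n → L)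
    (z : Spec (CommRingCat.of (P n L)) ⟶
      Spec (CommRingCat.of (MonoidAlgebra (ULift.{u} ℤ) (Multiplicative M0)))) :
    (sp ((cC (k := k)).comp (ev v))).left ≫ z = z := by
  obtain ⟨φ, rfl⟩ := Spec.map_surjective z
  show Spec.map _ ≫ Spec.map φ = _
  rw [← Spec.map_comp]
  congr 1
  ext1
  refine MonoidAlgebra.ringHom_ext (fun r => ?_) (fun m => ?_)
  · exact RingHom.congr_fun (RingHom.ext_int
      ((((cC (k := k)).comp (ev v)).toRingHom.comp (φ.hom.comp MonoidAlgebra.singleOneRingHom)).comp
        ULift.ringEquiv.symm.toRingHom)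
      ((φ.hom.comp MonoidAlgebra.singleOneRingHom).comp ULift.ringEquiv.symm.toRingHom)) r.down
  · have hu : IsUnit (φ.hom (MonoidAlgebra.single m 1)) :=
      ((Group.isUnit m).map (MonoidAlgebra.of (ULift.{u} ℤ) (Multiplicative M0))).map φ.hom
    exact eq_C_of_isUnit v hu

set_option maxHeartbeats 600000 in
/-- Morphisms from affine space to a torus are constant. -/
theorem torus_const {T : Over (Spec (CommRingCat.of k))} [GrpObj T] [IsSeparated T.hom]
    (hT : Red.IsTorus T) (h : O k (P n L) ⟶ T) (v : Fin n → L) : h = cst v h := by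
  obtain ⟨S', f, -, hf, -, hsplit⟩ := hT
  obtain ⟨s', -⟩ := f.surjective (default : PrimeSpectrum k)
  obtain ⟨U, hs, r, ⟨e⟩⟩ := hsplit s'
  let K : Type u := S'.residueField s'
  let : Algebra k K := (Spec.preimage (S'.fromSpecResidueField s' ≫ f)).hom.toAlgebra
  obtain ⟨m, hm⟩ := Ideal.exists_maximal (TensorProduct k L K)
  let M : Type u := TensorProduct k L K ⧸ m
  let : Field M := Ideal.Quotient.field m
  let iK : K →ₐ[k] M := (Ideal.Quotient.mkₐ k m).comp Algebra.TensorProduct.includeRight
  have hK : Spec.map (CommRingCat.ofHom (algebraMap k K)) = S'.fromSpecResidueField s' ≫ f := by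
    rw [RingHom.algebraMap_toAlgebra, CommRingCat.ofHom_hom, Spec.map_preimage]
  have hrange : Set.range ((sp iK).left ≫ S'.fromSpecResidueField s') ⊆ (U : Set S') := by
    rintro _ ⟨w, rfl⟩
    rw [Scheme.Hom.comp_apply]
    erw [Scheme.fromSpecResidueField_apply]
    exact hs
  let mU : Spec (CommRingCat.of M) ⟶ (U : Scheme.{u}) :=
    IsOpenImmersion.lift U.ι ((sp iK).left ≫ S'.fromSpecResidueField s')
      (by rw [Scheme.Opens.range_ι]; exact hrange)
  have hmU : mU ≫ U.ι ≫ f = (O k M).hom := by
    rw [IsOpenImmersion.lift_fac_assoc, Category.assoc, ← hK]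
    exact Over.w (sp iK)
  refine cancel_sp (mapP M) (mapP_injective M) ?_
  rw [cst_natural]
  generalize sp (mapP M) ≫ h = h'
  generalize (fun i => algebraMap L M (v i)) = w
  let rr : P n M →ₐ[k] P n M := cC.comp (ev w)
  let Yo : Over (U : Scheme.{u}) := Over.mk ((sp (cC (k := k) (L := M) (n := n))).left ≫ mU)
  let y : Yo ⟶ Red.bc (U.ι ≫ f) T :=
    Over.homMk (pullback.lift h'.left Yo.hom (by
      show _ = ((sp (cC (k := k) (L := M) (n := n))).left ≫ mU) ≫ U.ι ≫ f
      rw [Category.assoc, hmU, Over.w, Over.w]))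
      (pullback.lift_snd _ _ _)
  have hr : (sp rr).left ≫ Yo.hom = Yo.hom := by
    show _ ≫ (sp (cC (k := k) (L := M) (n := n))).left ≫ mU = _
    rw [← Category.assoc, ← Over.comp_left, ← sp_comp, AlgHom.comp_assoc, ev_cC, AlgHom.comp_id]
    rfl
  have hDS : ∀ z : Yo ⟶ Red.DS (U : Scheme.{u}) (Fin r → ℤ),
      (sp rr).left ≫ z.left = z.left := by
    intro z
    apply pullback.hom_ext
    · rw [Category.assoc]
      exact groupAlgebra_const (Fin r → ℤ) w (z.left ≫ pullback.fst _ _)
    · rw [Category.assoc]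
      erw [Over.w z]
      exact hr
  have hy : (sp rr).left ≫ y.left = y.left := by
    have h1 := hDS (y ≫ e.hom.hom.hom)
    have h2 := congrArg (fun t => t ≫ e.inv.hom.hom.left) h1
    simp only [Over.comp_left, Category.assoc] at h2
    have h3 : e.hom.hom.hom.left ≫ e.inv.hom.hom.left = 𝟙 _ := by
      rw [← Over.comp_left, show e.hom.hom.hom ≫ e.inv.hom.hom = (e.hom ≫ e.inv).hom.hom from rfl,
        e.hom_inv_id]
      rfl
    simpa only [h3, Category.comp_id] using h2
  have h4 := congrArg (fun t => t ≫ pullback.fst T.hom (U.ι ≫ f)) hy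
  simp only [Category.assoc] at h4
  erw [pullback.lift_fst] at h4
  unfold cst
  rw [← Category.assoc, ← sp_comp]
  exact Over.OverMorphism.ext h4.symm

set_option maxHeartbeats 1000000 in
/-- Morphisms from affine space to a large group are constant. -/
theorem large_const {G : Over (Spec (CommRingCat.of k))} [GrpObj G] [IsSeparated G.hom]
    {G0 : Over (Spec (CommRingCat.of k))} [GrpObj G0] (e : G0 ⟶ G) [IsMonHom e] [IsOpenImmersion e.left]
    {T : Over (Spec (CommRingCat.of k))} [GrpObj T] (i : T ⟶ G0) [IsMonHom i] [IsClosedImmersion i.left]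
    (hT : Red.IsTorus T)
    {A : Over (Spec (CommRingCat.of k))} [GrpObj A] [IsProper A.hom]
    (q : G0 ⟶ A) [IsMonHom q] (hker : AlgGrp.IsKernel i q)
    (h : O k (P n L) ⟶ G) : h = cst 0 h := by
  have : Mono e := Over.mono_of_mono_left e
  have : IsSeparated G0.hom := by rw [← Over.w e]; infer_instance
  have : IsSeparated T.hom := by rw [← Over.w i]; infer_instance
  -- points in the range of `e` are closed under the group operations
  have hlift : ∀ (R : Over (Spec (CommRingCat.of k))) (p : R ⟶ G),
      Set.range p.left ⊆ Set.range e.left → ∃ p0 : R ⟶ G0, p0 ≫ e = p := fun R p hp =>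
    ⟨Over.homMk (IsOpenImmersion.lift e.left p.left hp) (by
      rw [← Over.w e, IsOpenImmersion.lift_fac_assoc, Over.w p]),
      Over.OverMorphism.ext (IsOpenImmersion.lift_fac _ _ _)⟩
  have hrange : ∀ (R : Over (Spec (CommRingCat.of k))) (p0 : R ⟶ G0),
      Set.range (p0 ≫ e).left ⊆ Set.range e.left := fun R p0 => by
    rintro _ ⟨x, rfl⟩; exact ⟨p0.left x, rfl⟩
  -- a morphism with value one somewhere sends the generic point into the range of `e`
  have hgen : ∀ (M : Type u) [Field M] [Algebra k M] (g : O k (P n M) ⟶ G) (v : Fin n → M),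
      sp (ev v) ≫ g = 1 →
      ∃ a : O k (FractionRing (P n M)) ⟶ G0,
        a ≫ e = sp (IsScalarTower.toAlgHom k (P n M) (FractionRing (P n M))) ≫ g := by
    intro M _ _ g v hv
    refine hlift _ _ ?_
    rintro _ ⟨x, rfl⟩
    let pt : Spec (CommRingCat.of M) := (⟨⊥, Ideal.isPrime_bot⟩ : PrimeSpectrum M)
    have hmem : g.left ((sp (ev v)).left pt) ∈ Set.range e.left := by
      rw [← Scheme.Hom.comp_apply, ← Over.comp_left, hv, ← MonObj.one_comp (X := O k M) e]
      exact hrange _ (1 : O k M ⟶ G0) ⟨pt, rfl⟩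
    refine Specializes.mem_open ?_ e.left.isOpenEmbedding.isOpen_range hmem
    refine Specializes.map ?_ g.left.continuous
    refine (PrimeSpectrum.le_iff_specializes _ _).mp ?_
    intro p hp
    have h0 : algebraMap (P n M) (FractionRing (P n M)) p = 0 := by
      have hx : (x.asIdeal : Ideal _) = ⊥ :=
        (Ideal.eq_bot_or_top _).resolve_right x.2.ne_top
      have hp' : algebraMap (P n M) (FractionRing (P n M)) p ∈ x.asIdeal := hp
      rw [hx] at hp'
      simpa using hp'
    rw [IsFractionRing.injective (P n M) (FractionRing (P n M)) (h0.trans (map_zero _).symm)]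
    exact Ideal.zero_mem _
  let g := h * (cst 0 h)⁻¹
  have hg0 : sp (ev 0) ≫ g = 1 := by
    simp only [g, cst, MonObj.comp_mul, GrpObj.comp_inv]
    rw [← Category.assoc (sp (ev 0)) (sp cC), sp_ev_cC, Category.id_comp, mul_inv_cancel]
  have hsub : Set.range g.left ⊆ Set.range e.left := by
    rintro _ ⟨p, rfl⟩
    let M : Type u := p.asIdeal.ResidueField
    let : Algebra L M := ((algebraMap (P n L) M).comp MvPolynomial.C).toAlgebra
    have : IsScalarTower k L M := IsScalarTower.of_algebraMap_eq fun x => by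
      rw [RingHom.algebraMap_toAlgebra, RingHom.comp_apply,
        IsScalarTower.algebraMap_apply k (P n L) M]
      rfl
    let g' := sp (mapP M) ≫ g
    let v : Fin n → M := fun j => algebraMap (P n L) M (MvPolynomial.X j)
    have hev : (ev (k := k) v).comp (mapP M) = IsScalarTower.toAlgHom k (P n L) M := by
      refine AlgHom.coe_ringHom_injective ?_
      refine MvPolynomial.ringHom_ext (fun r => ?_) (fun j => ?_) <;>
        simp [ev, mapP, v, RingHom.algebraMap_toAlgebra]
    have hg'0 : sp (ev 0) ≫ g' = 1 := by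
      have e0 : (ev (k := k) (0 : Fin n → M)).comp (mapP M) =
          (IsScalarTower.toAlgHom k L M).comp (ev 0) := by
        refine AlgHom.coe_ringHom_injective ?_
        refine MvPolynomial.ringHom_ext (fun r => ?_) (fun j => ?_) <;> simp [ev, mapP]
      simp only [g']
      rw [← Category.assoc, ← sp_comp, e0, sp_comp, Category.assoc, hg0, MonObj.comp_one]
    obtain ⟨a, ha⟩ := hgen M g' 0 hg'0
    obtain ⟨b, hb⟩ := hgen M (g' * (cst v g')⁻¹) v (by
      simp only [cst, MonObj.comp_mul, GrpObj.comp_inv]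
      rw [← Category.assoc (sp (ev v)) (sp cC), sp_ev_cC, Category.id_comp, mul_inv_cancel])
    rw [MonObj.comp_mul, ← ha, GrpObj.comp_inv] at hb
    have hc : sp (IsScalarTower.toAlgHom k (P n M) (FractionRing (P n M))) ≫ cst v g' =
        (b⁻¹ * a) ≫ e := by
      rw [MonObj.mul_comp, GrpObj.inv_comp, hb, _root_.mul_inv_rev, _root_.inv_inv, inv_mul_cancel_right]
    let pt : Spec (CommRingCat.of (FractionRing (P n M))) := (⟨⊥, Ideal.isPrime_bot⟩ : PrimeSpectrum _)
    have hmem := hrange _ (b⁻¹ * a) ⟨pt, rfl⟩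
    rw [← hc] at hmem
    let pM : Spec (CommRingCat.of M) := (⟨⊥, Ideal.isPrime_bot⟩ : PrimeSpectrum M)
    have hp : (sp (IsScalarTower.toAlgHom k (P n L) M)).left pM = p := by
      apply PrimeSpectrum.ext
      show Ideal.comap (algebraMap (P n L) M) pM.asIdeal = p.asIdeal
      rw [(Ideal.eq_bot_or_top pM.asIdeal).resolve_right pM.2.ne_top]
      exact p.asIdeal.ker_algebraMap_residueField
    rw [← hp, ← hev, sp_comp]
    simp only [cst, g', Over.comp_left, Scheme.Hom.comp_apply] at hmem ⊢
    convert hmem using 4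
    exact Subsingleton.elim (α := PrimeSpectrum M) _ _
  obtain ⟨g0, hg⟩ := hlift _ g hsub
  have hz : sp (ev 0) ≫ g0 = 1 := by
    rw [← cancel_mono e, Category.assoc, hg, hg0, MonObj.one_comp]
  have hq : g0 ≫ q = 1 := by
    rw [proper_const (g0 ≫ q) 0, cst, ← Category.assoc (sp (ev 0)), hz, MonObj.one_comp,
      MonObj.comp_one]
  have hk : g0 ≫ q = toUnit _ ≫ η[A] := hq.trans (by rw [Hom.one_def])
  let t := hker.lift g0 (toUnit _) hk
  have ht : t ≫ i = g0 := hker.lift_fst _ _ _
  have hg1 : g = 1 := by
    rw [← hg, ← ht, torus_const hT t 0, cst]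
    simp only [Category.assoc]
    rw [← Category.assoc t i, ht, ← Category.assoc (sp (ev 0)), hz, MonObj.one_comp,
      MonObj.comp_one]
  exact mul_inv_eq_one.mp hg1

end

end Groth.Agent.AffConst67
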