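import Groth.Statements.S15129
import Groth.Agent.NilFree.Basic
import Mathlib
-- import your own Groth.Agent.* helpers here

set_option autoImplicit false
universe u v
open CAlg

namespace Groth.Agent.S15129

open TensorProduct

theorem one_tmul_eq_zero_iff {A : Type u} [CommRing A] [IsLocalRing A] {N : Type v} [AddCommGroup N]
    [Module A N] (x : N) :
    (1 : IsLocalRing.ResidueField A) ⊗ₜ[A] x = 0 ↔ x ∈ IsLocalRing.maximalIdeal A • (⊤ : Submodule A N) := by
  have h : ((Ideal.Quotient.mk (IsLocalRing.maximalIdeal A) 1) ⊗ₜ[A] x : (A ⧸ IsLocalRing.maximalIdeal A) ⊗[A] N) = 0 ↔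
      x ∈ IsLocalRing.maximalIdeal A • (⊤ : Submodule A N) := by
    rw [← (TensorProduct.quotTensorEquivQuotSMul N (IsLocalRing.maximalIdeal A)).map_eq_zero_iff,
      TensorProduct.quotTensorEquivQuotSMul_mk_tmul, one_smul, Submodule.Quotient.mk_eq_zero]
  exact h


/-- Over an Artinian local ring A with residue field k, for an exact sequence 0 → M → N → P → 0 of
A-modules with N flat: if k ⊗_A M → k ⊗_A N is injective then P is flat; if P is flat then M is flat
and k ⊗_A M → k ⊗_A N is injective. (The published statement is for local Artinian algebras over an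
algebraically closed field of characteristic zero having that field as residue field; this row
allows any Artinian local ring.) -/
theorem result
    (A : Type u) [CommRing A] [IsLocalRing A] [IsArtinianRing A]
    (M N P : Type v) [AddCommGroup M] [Module A M] [AddCommGroup N] [Module A N]
    [AddCommGroup P] [Module A P] [Module.Flat A N] (f : M →ₗ[A] N) (g : N →ₗ[A] P)
    (hf : Function.Injective f) (hg : Function.Surjective g) (hfg : Function.Exact f g) :
    (Function.Injective (f.lTensor (IsLocalRing.ResidueField A)) → Module.Flat A P) ∧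
    (Module.Flat A P → Module.Flat A M ∧ Function.Injective (f.lTensor (IsLocalRing.ResidueField A))) := by
  have hm : IsNilpotent (IsLocalRing.maximalIdeal A) := by
    have := IsArtinianRing.isNilpotent_jacobson_bot (R := A)
    rwa [IsLocalRing.jacobson_eq_maximalIdeal ⊥ bot_ne_top] at this
  refine ⟨fun hinj => ?_, fun hP => ⟨?_, ?_⟩⟩
  · have hfree : Module.Free (A ⧸ IsLocalRing.maximalIdeal A) ((A ⧸ IsLocalRing.maximalIdeal A) ⊗[A] P) := by
      let := Ideal.Quotient.field (IsLocalRing.maximalIdeal A)
      exact Module.Free.of_divisionRing _ _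
    obtain ⟨ι, φ, hφ, hker⟩ := Groth.Agent.NilFree.exists_presentation _ hm hfree
    obtain ⟨ψ, hψ⟩ := Module.projective_lifting_property g φ hg
    have hψ' : ∀ x, g (ψ x) = φ x := LinearMap.congr_fun hψ
    suffices Function.Injective φ from Module.Flat.of_linearEquiv (LinearEquiv.ofBijective φ ⟨this, hφ⟩).symm
    let T := ψ.coprod f
    have hTs : Function.Surjective T := fun n => by
      obtain ⟨z, hz⟩ := hφ (g n)
      obtain ⟨w, hw⟩ := (hfg (n - ψ z)).mp (by rw [map_sub, hψ', hz, sub_self])
      exact ⟨(z, w), by rw [LinearMap.coprod_apply, hw, add_sub_cancel]⟩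
    have hTk : LinearMap.ker T ≤ IsLocalRing.maximalIdeal A • (⊤ : Submodule A ((ι →₀ A) × M)) := by
      rintro ⟨z, w⟩ hzw
      rw [LinearMap.mem_ker, LinearMap.coprod_apply] at hzw
      have hz : z ∈ IsLocalRing.maximalIdeal A • (⊤ : Submodule A (ι →₀ A)) := by
        refine hker ?_
        rw [LinearMap.mem_ker, ← hψ', eq_neg_of_add_eq_zero_left hzw, map_neg, hfg.apply_apply_eq_zero, neg_zero]
      have hw : f w ∈ IsLocalRing.maximalIdeal A • (⊤ : Submodule A N) := by
        rw [eq_neg_of_add_eq_zero_right hzw]
        have := Submodule.mem_map_of_mem (f := ψ) hz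
        rw [Submodule.map_smul''] at this
        exact neg_mem (Submodule.smul_mono le_rfl le_top this)
      have hw' : w ∈ IsLocalRing.maximalIdeal A • (⊤ : Submodule A M) := by
        have h2 : (1 : IsLocalRing.ResidueField A) ⊗ₜ[A] w = 0 := by
          apply hinj
          rw [LinearMap.lTensor_tmul, map_zero]
          exact (one_tmul_eq_zero_iff _).mpr hw
        exact (one_tmul_eq_zero_iff _).mp h2
      have h6 := Submodule.mem_map_of_mem (f := LinearMap.inl A (ι →₀ A) M) hz
      have h7 := Submodule.mem_map_of_mem (f := LinearMap.inr A (ι →₀ A) M) hw'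
      rw [Submodule.map_smul''] at h6 h7
      simpa using add_mem (Submodule.smul_mono le_rfl le_top h6) (Submodule.smul_mono le_rfl le_top h7)
    have hTi := Groth.Agent.NilFree.injective_of_ker_le_smul_of_flat T hTs hm hTk
    intro x y hxy
    obtain ⟨w, hw⟩ := (hfg (ψ x - ψ y)).mp (by rw [map_sub, hψ', hψ', hxy, sub_self])
    have h0 : T (x - y, -w) = T 0 := by
      rw [LinearMap.coprod_apply, map_sub, map_neg, hw, map_zero, add_neg_cancel]
    exact sub_eq_zero.mp (congrArg Prod.fst (hTi h0))
  · rw [Module.Flat.iff_lTensor_preserves_injective_linearMap]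
    intro Q Q' _ _ _ _ q hq
    have h1 : Function.Injective (f.rTensor Q) := by
      rw [← LinearMap.lTensor_inj_iff_rTensor_inj]
      exact LinearMap.lTensor_injective_of_exact_of_flat g hg f hf hfg Q
    have h2 : Function.Injective ((q.lTensor N).comp (f.rTensor Q)) :=
      (Module.Flat.lTensor_preserves_injective_linearMap q hq).comp h1
    rw [LinearMap.lTensor_comp_rTensor, ← LinearMap.rTensor_comp_lTensor] at h2
    exact Function.Injective.of_comp h2
  · exact LinearMap.lTensor_injective_of_exact_of_flat g hg f hf hfg _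

end Groth.Agent.S15129
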