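import Groth.Statements.S12708
import Mathlib.RingTheory.LocalRing.Length

set_option autoImplicit false
universe u v
open CategoryTheory
open ArtFun

namespace Groth.Agent.S12708

/-- For Λ Noetherian with a finite map to a field k, A a local Λ-algebra whose residue field is k
(through a surjective Λ-algebra map A → k) and M an A-module, the length of M over Λ equals the
degree of k over the image of Λ times the length of M over A. The degree is written as the length of
k as a Λ-module, which is the same number; lengths are in ℕ∞. -/
theorem result {Λ : Type u} {k : Type u} [CommRing Λ] [Field k] [Algebra Λ k]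
    [IsNoetherianRing Λ] [Module.Finite Λ k]
    (A : Type u) [CommRing A] [Algebra Λ A] [IsLocalRing A] [Algebra A k] [IsScalarTower Λ A k]
    (hres : Function.Surjective (algebraMap A k))
    (M : Type v) [AddCommGroup M] [Module A M] [Module Λ M] [IsScalarTower Λ A M] :
    Module.length Λ k * Module.length A M = Module.length Λ M := by
  classical
  haveI : Nontrivial A := inferInstance
  have hker : LinearMap.ker (Algebra.linearMap A k) = IsLocalRing.maximalIdeal A := by
    have h : (RingHom.ker (algebraMap A k)).IsMaximal := RingHom.ker_isMaximal_of_surjective _ hres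
    rw [← IsLocalRing.eq_maximalIdeal h]
    rfl
  let ek : (A ⧸ IsLocalRing.maximalIdeal A) ≃ₗ[A] k :=
    (Submodule.quotEquivOfEq _ _ hker.symm) ≪≫ₗ LinearMap.quotKerEquivOfSurjective (Algebra.linearMap A k) hres
  have step : ∀ {p q : Submodule A M}, p ⋖ q → Module.length Λ q = Module.length Λ p + Module.length Λ k := by
    intro p q h
    let f : p →ₗ[A] q := Submodule.inclusion h.le
    have key : IsSimpleModule A (q ⧸ LinearMap.range f) := by
      rwa [Submodule.range_inclusion, ← covBy_iff_quot_is_simple h.le]
    obtain ⟨m, hm, ⟨e⟩⟩ := isSimpleModule_iff_quot_maximal.mp key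
    obtain rfl := IsLocalRing.eq_maximalIdeal hm
    let g : q →ₗ[A] k := (e.trans ek).toLinearMap.comp (LinearMap.range f).mkQ
    have h1 : Function.Injective f := Submodule.inclusion_injective _
    have h2 : Function.Surjective g := (e.trans ek).surjective.comp (LinearMap.range f).mkQ_surjective
    have h3 : Function.Exact f g := LinearMap.exact_iff.mpr
      (((e.trans ek).ker_comp (LinearMap.range f).mkQ).trans (LinearMap.range f).ker_mkQ)
    exact Module.length_eq_add_of_exact (f.restrictScalars Λ) (g.restrictScalars Λ) h1 h2 h3
  by_cases h : IsFiniteLength A M
  · obtain ⟨s, hs_bot, hs_top⟩ := isFiniteLength_iff_exists_compositionSeries.mp h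
    rw [← Module.length_compositionSeries s hs_bot hs_top, mul_comm]
    suffices ∀ i, Module.length Λ (s i) = i * Module.length Λ k by
      rw [← Fin.val_last s.length, ← this, ← RelSeries.last, hs_top]
      exact Module.length_top
    intro i
    induction i using Fin.induction with
    | zero => rw [← RelSeries.head, hs_bot]; simp
    | succ i hi => simpa [hi, add_one_mul] using step (s.step i)
  · have h' : ¬ IsFiniteLength Λ M := by
      contrapose! h
      rw [isFiniteLength_iff_isNoetherian_isArtinian] at h ⊢
      exact h.imp (isNoetherian_of_tower Λ) (isArtinian_of_tower Λ)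
    rw [← Module.length_ne_top_iff, not_ne_iff] at h h'
    have hne : Module.length Λ k ≠ 0 := Module.length_pos.ne'
    rw [h, h', ENat.mul_top hne]

end Groth.Agent.S12708
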