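import Groth.Statements.S2081
import Groth.Agent.GenFinite.Basic
-- import your own Groth.Agent.* helpers here

set_option autoImplicit false
universe u
open CategoryTheory AlgebraicGeometry
open Mor

namespace Groth.Agent.S2081
set_option backward.isDefEq.respectTransparency.types false

/-- Let `f : X → Y` be locally of finite type and quasi-compact. Suppose `X` and `Y` have finitely many
irreducible components and that a point of `X` is a generic point of an irreducible component
exactly when its image is one in `Y`. Then `f⁻¹(V) → V` is finite for some dense open `V ⊆ Y`. -/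
theorem result {X Y : Scheme.{u}} (f : X ⟶ Y) [LocallyOfFiniteType f]
    [QuasiCompact f] (hX : (irreducibleComponents (X : Type u)).Finite) (hY : (irreducibleComponents (Y : Type u)).Finite)
    (hgen : ∀ x : X, closure {x} ∈ irreducibleComponents (X : Type u) ↔
      closure {f.base x} ∈ irreducibleComponents (Y : Type u)) :
    ∃ V : Y.Opens, Dense (V : Set Y) ∧ IsFinite (f ∣_ V) := by
  have hgfin : {x : X | closure {x} ∈ irreducibleComponents (X : Type u)}.Finite :=
    Set.Finite.of_finite_image (f := fun x => closure ({x} : Set X))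
      (hX.subset (by rintro _ ⟨x, hx, rfl⟩; exact hx))
      (fun a ha b hb h => Groth.Agent.GenFinite.eq_of_specializes_generic
        hb
        (specializes_iff_closure_subset.mpr (h : closure ({a} : Set X) = closure {b}).ge))
  let S : Set Y.Opens := {V | IsFinite (f ∣_ V)}
  refine ⟨sSup S, ?_, ?_⟩
  · rw [dense_iff_inter_open]
    rintro O hO ⟨y, hy⟩
    obtain ⟨η, hη, hηy⟩ := Groth.Agent.FlatMor.GenericPts.exists_generic_specializes y
    refine ⟨η, hηy.mem_open hO hy, ?_⟩
    have hfib : (f.base ⁻¹' {η}).Finite := hgfin.subset fun x hx =>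
      (hgen x).mpr (by rw [Set.mem_singleton_iff.mp hx]; exact hη)
    obtain ⟨U, hU, hd⟩ := Groth.Agent.GenFinite.exists_disjoint_affine_nhds_of_finite hX
      (fun x : ↥(f.base ⁻¹' {η}) => x.1) (fun x => (hgen _).mpr (by rw [x.2]; exact hη))
      Subtype.val_injective
    haveI := hfib.to_subtype
    haveI : IsAffine ((⨆ i, U i : X.Opens) : Scheme.{u}) :=
      IsAffineOpen.iSup_of_disjoint (fun i => (hU i).1) hd
    obtain ⟨V, hV, hηV, hf⟩ := Groth.Agent.GenFinite.exists_affine_isFinite f hη hfib
      (⨆ i, U i) inferInstance (fun x hx => TopologicalSpace.Opens.mem_iSup.mpr ⟨⟨x, hx⟩, (hU ⟨x, hx⟩).2⟩)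
    exact TopologicalSpace.Opens.mem_sSup.mpr ⟨V, hf, hηV⟩
  · rw [IsZariskiLocalAtTarget.iff_of_iSup_eq_top (P := @IsFinite.{u})
      (fun W : S => (sSup S).ι ⁻¹ᵁ W.1)]
    · intro W
      rw [(MorphismProperty.arrow_mk_iso_iff @IsFinite.{u} (morphismRestrictRestrict f (sSup S)
        ((sSup S).ι ⁻¹ᵁ W.1)))]
      have e : (sSup S).ι ''ᵁ ((sSup S).ι ⁻¹ᵁ W.1) = W.1 := by
        simpa [Scheme.Hom.image_preimage_eq_opensRange_inf] using le_sSup W.2
      rw [e]; exact W.2
    · refine top_le_iff.mp fun x _ => ?_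
      obtain ⟨W, hW, hxW⟩ := TopologicalSpace.Opens.mem_sSup.mp x.2
      exact TopologicalSpace.Opens.mem_iSup.mpr ⟨⟨W, hW⟩, hxW⟩

end Groth.Agent.S2081
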