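import Groth.Statements.S9682
import Mathlib.AlgebraicGeometry.Morphisms.QuasiFinite
import Mathlib.AlgebraicGeometry.Artinian
import Groth.Agent.DimLift.Basic
import Groth.Agent.FlatMor.GenericPts
-- import your own Groth.Agent.* helpers here

set_option autoImplicit false
universe u
open CategoryTheory CategoryTheory.Limits AlgebraicGeometry
open Mor

namespace Groth.Agent.S9682
set_option backward.isDefEq.respectTransparency.types false

/-- Take f : X ⟶ Y locally of finite type and η the generic point of some irreducible component of Y.
Three conditions turn out to coincide: (1) each point of X mapping to η is the generic point of some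
irreducible component of X; (2) f is quasi-finite at every point over η; (3) f is quasi-finite at
each point over η that is generic in some irreducible component of X. Stated as (1) iff (2) together
with (1) iff (3). -/
theorem result {X Y : Scheme.{u}} (f : X ⟶ Y)
    [LocallyOfFiniteType f] (η : Y) (hη : closure {η} ∈ irreducibleComponents ↥Y) :
    ((∀ x : X, f.base x = η → closure {x} ∈ irreducibleComponents ↥X) ↔
      (∀ x : X, f.base x = η → f.QuasiFiniteAt x)) ∧
    ((∀ x : X, f.base x = η → closure {x} ∈ irreducibleComponents ↥X) ↔
      (∀ x : X, f.base x = η → closure {x} ∈ irreducibleComponents ↥X → f.QuasiFiniteAt x)) := by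
  have h12 : (∀ x : X, f.base x = η → closure {x} ∈ irreducibleComponents ↥X) →
      ∀ x : X, f.base x = η → f.QuasiFiniteAt x := by
    intro h x hx
    subst hx
    rw [Scheme.Hom.quasiFiniteAt_iff_isOpen_singleton_asFiber]
    haveI : LocallyOfFiniteType (f.fiberToSpecResidueField (f.base x)) :=
      MorphismProperty.pullback_snd _ _ inferInstance
    haveI : IsLocallyNoetherian (f.fiber (f.base x)) :=
      LocallyOfFiniteType.isLocallyNoetherian (f.fiberToSpecResidueField (f.base x))
    haveI : IsLocallyArtinian (f.fiber (f.base x)) := by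
      refine IsLocallyArtinian.of_topologicalKrullDim_le_zero ?_
      rw [Groth.Agent.DimLift.topDim_eq_krullDim_points]
      letI : PartialOrder ↥(f.fiber (f.base x)) := specializationOrder _
      refine Order.krullDim_nonpos_iff_forall_isMax.mpr fun a b (hab : b ⤳ a) => ?_
      have hb : f.base ((f.fiberι (f.base x)).base b) = f.base x :=
        (f.range_fiberι (f.base x)).le ⟨b, rfl⟩
      have ha : f.base ((f.fiberι (f.base x)).base a) = f.base x :=
        (f.range_fiberι (f.base x)).le ⟨a, rfl⟩
      have := (Groth.Agent.FlatMor.GenericPts.closure_mem_irreducibleComponents_iff _).mp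
        (h _ ha) _ (hab.map (f.fiberι (f.base x)).continuous)
      exact (f.fiberι (f.base x)).isEmbedding.isInducing.specializes_iff.mp this
    exact isOpen_discrete _
  have h31 : (∀ x : X, f.base x = η → closure {x} ∈ irreducibleComponents ↥X → f.QuasiFiniteAt x) →
      ∀ x : X, f.base x = η → closure {x} ∈ irreducibleComponents ↥X := by
    intro h x hx
    obtain ⟨ξ, hξ, hξx⟩ := Groth.Agent.FlatMor.GenericPts.exists_generic_specializes x
    have hs : f.base ξ ⤳ η := hx ▸ hξx.map f.continuous
    have hfξ : f.base ξ = η :=
      (hs.antisymm ((Groth.Agent.FlatMor.GenericPts.closure_mem_irreducibleComponents_iff η).mp hη _ hs)).eq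
    have hq := h ξ hfξ hξ
    have hcl : IsClosed {f.asFiber ξ} := hq.isClopen_singleton_asFiber.1
    let x' : f.fiber (f.base ξ) := (f.fiberHomeo (f.base ξ)).symm ⟨x, hx.trans hfξ.symm⟩
    have hx' : (f.fiberι (f.base ξ)).base x' = x := f.fiberι_fiberHomeo_symm _ _
    have h1 : f.asFiber ξ ⤳ x' := by
      rw [← (f.fiberι (f.base ξ)).isEmbedding.isInducing.specializes_iff, hx', f.fiberι_asFiber]
      exact hξx
    have h2 : x' ∈ ({f.asFiber ξ} : Set _) := h1.mem_closed hcl rfl
    have h3 : x = ξ := by
      rw [← hx', Set.mem_singleton_iff.mp h2, f.fiberι_asFiber]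
    rwa [h3]
  exact ⟨⟨h12, fun h => h31 fun x hx _ => h x hx⟩, ⟨fun h x hx _ => h12 h x hx, h31⟩⟩

end Groth.Agent.S9682
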