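import Groth.Statements.S7178
import Groth.Agent.FlatMor.LmulFlat

set_option autoImplicit false
universe u
open FlatMor

namespace Groth.Agent.S7178

open AlgebraicGeometry CategoryTheory Limits in
/-- (1) ⇔ (2): f : X → S is weakly étale if and only if, whenever U ⊆ X and V ⊆ S are affine opens and f
maps U into V, the ring O_X(U) is a weakly étale O_S(V)-algebra (flat, with flat multiplication map
O_X(U) ⊗ O_X(U) → O_X(U) over O_S(V)). -/
theorem result {X S : Scheme.{u}} (f : X ⟶ S) :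
    WeaklyEtale f ↔ ∀ (U : X.Opens) (V : S.Opens) (_ : IsAffineOpen U) (_ : IsAffineOpen V) (hUV : U ≤ f ⁻¹ᵁ V),
      (letI := (f.appLE V U hUV).hom.toAlgebra
       Algebra.WeaklyEtale Γ(S, V) Γ(X, U)) := by
  refine ⟨fun hf U V hU hV hUV ↦ ?_, fun H ↦ ?_⟩
  · let _ := (f.appLE V U hUV).hom.toAlgebra
    exact ⟨f.flat_appLE hV hU hUV, Groth.Agent.FlatMor.LmulFlat.lmul_flat_appLE f hU hV hUV⟩
  · have hchart : ∀ x : X, ∃ (U : X.Opens) (V : S.Opens), IsAffineOpen U ∧ IsAffineOpen V ∧ x ∈ U ∧ U ≤ f ⁻¹ᵁ V := by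
      intro x
      obtain ⟨V, hV, hxV, -⟩ := exists_isAffineOpen_mem_and_subset (x := f x) (U := ⊤) trivial
      obtain ⟨U, hU, hxU, hUV⟩ := exists_isAffineOpen_mem_and_subset (x := x) (U := f ⁻¹ᵁ V) hxV
      exact ⟨U, V, hU, hV, hxU, hUV⟩
    choose W O hW hO hxW hWO using hchart
    refine IsZariskiLocalAtSource.of_iSup_eq_top W
      (top_le_iff.mp fun x _ ↦ TopologicalSpace.Opens.mem_iSup.mpr ⟨x, hxW x⟩) fun x ↦ ?_
    let U := W x
    let V := O x
    have hU : IsAffineOpen U := hW x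
    have hV : IsAffineOpen V := hO x
    have hUV : U ≤ f ⁻¹ᵁ V := hWO x
    show WeaklyEtale (U.ι ≫ f)
    let _ := (f.appLE V U hUV).hom.toAlgebra
    have hw := H U V hU hV hUV
    have h1 : Flat (Spec.map (f.appLE V U hUV)) :=
      (HasRingHomProperty.Spec_iff (P := @Flat)).mpr hw.flat
    have h2 : Flat (Limits.pullback.diagonal (Spec.map (f.appLE V U hUV))) := by
      show Flat (Limits.pullback.diagonal (Spec.map (CommRingCat.ofHom (algebraMap Γ(S, V) Γ(X, U)))))
      rw [diagonal_SpecMap, MorphismProperty.cancel_right_of_respectsIso (P := @Flat)]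
      exact (HasRingHomProperty.Spec_iff (P := @Flat)).mpr (Algebra.WeaklyEtale.flat_lmul' Γ(S, V) Γ(X, U))
    have : WeaklyEtale (Spec.map (f.appLE V U hUV)) := ⟨h1, h2⟩
    rw [← hU.isoSpec_hom_fromSpec, Category.assoc, ← IsAffineOpen.SpecMap_appLE_fromSpec f hV hU hUV]
    infer_instance

end Groth.Agent.S7178
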