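import Groth.Statements.S7179
import Groth.Agent.S7178
import Mathlib.RingTheory.LocalProperties.Reduced

set_option autoImplicit false
universe u
open FlatMor

namespace Groth.Agent.S7179

open scoped TensorProduct

/-- Every module over a product of fields is flat. -/
theorem flat_pi_field {ι : Type u} (k : ι → Type u) [∀ i, Field (k i)] (M : Type u) [AddCommGroup M]
    [Module (∀ i, k i) M] : Module.Flat (∀ i, k i) M := by
  have hid : ∀ I : Ideal (∀ i, k i), I.FG → ∃ e, IsIdempotentElem e ∧ I = Ideal.span {e} := by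
    refine fun I hI ↦ Submodule.fg_induction
      (motive := fun (I : Ideal (∀ i, k i)) _ ↦ ∃ e, IsIdempotentElem e ∧ I = Ideal.span {e}) ?_ ?_ I hI
    · intro x
      refine ⟨x * fun i ↦ (x i)⁻¹, funext fun i ↦ ?_, ?_⟩
      · show x i * (x i)⁻¹ * (x i * (x i)⁻¹) = x i * (x i)⁻¹
        by_cases h : x i = 0 <;> simp [h]
      · apply le_antisymm
        · refine Ideal.span_le.mpr (Set.singleton_subset_iff.mpr (Ideal.mem_span_singleton'.mpr ⟨x, funext fun i ↦ ?_⟩))
          show x i * (x i * (x i)⁻¹) = x i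
          by_cases h : x i = 0 <;> simp [h]
        · exact Ideal.span_le.mpr (Set.singleton_subset_iff.mpr
            (Ideal.mem_span_singleton'.mpr ⟨fun i ↦ (x i)⁻¹, mul_comm _ _⟩))
    · rintro I J - - ⟨e, he, rfl⟩ ⟨f, hf, rfl⟩
      refine ⟨e + f - e * f, ?_, ?_⟩
      · unfold IsIdempotentElem at *
        linear_combination (2 * f - 1) * (1 - f) * 0 + (1 - 2 * f + f * f) * he + (1 - e) * hf
      · apply le_antisymm
        · refine sup_le ?_ ?_ <;>
            refine Ideal.span_le.mpr (Set.singleton_subset_iff.mpr (Ideal.mem_span_singleton'.mpr ?_))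
          · exact ⟨e, by unfold IsIdempotentElem at *; linear_combination (1 - f) * he⟩
          · exact ⟨f, by unfold IsIdempotentElem at *; linear_combination (1 - e) * hf⟩
        · refine Ideal.span_le.mpr (Set.singleton_subset_iff.mpr ?_)
          exact sub_mem (add_mem (Ideal.mem_sup_left (Ideal.subset_span rfl))
            (Ideal.mem_sup_right (Ideal.subset_span rfl)))
            (Ideal.mem_sup_left (Ideal.mul_mem_right _ _ (Ideal.subset_span rfl)))
  rw [Module.Flat.iff_rTensor_injective]
  intro I hI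
  obtain ⟨e, he, rfl⟩ := hid I hI
  let r : (∀ i, k i) →ₗ[∀ i, k i] Ideal.span {e} :=
    LinearMap.toSpanSingleton _ _ ⟨e, Ideal.subset_span rfl⟩
  have hr : r ∘ₗ (Ideal.span {e}).subtype = LinearMap.id := by
    ext ⟨x, hx⟩
    obtain ⟨c, rfl⟩ := Ideal.mem_span_singleton'.mp hx
    simp [r, mul_assoc, he.eq]
  intro a b hab
  have := congr_arg (r.rTensor M) hab
  rwa [← LinearMap.comp_apply, ← LinearMap.comp_apply, ← LinearMap.rTensor_comp, hr, LinearMap.rTensor_id] at this

/-- A ring all of whose modules are flat is reduced. -/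
theorem isReduced_of_all_flat {A : Type u} [CommRing A]
    (h : ∀ (M : Type u) [AddCommGroup M] [Module A M], Module.Flat A M) : IsReduced A := by
  constructor
  intro x hx
  have key : ∀ y : A, y * y = 0 → y = 0 := by
    intro y hy
    let J := Ideal.span {y}
    have hJ := Module.Flat.rTensor_preserves_injective_linearMap (M := A ⧸ J) J.subtype J.injective_subtype
    have h0 : (⟨y, Ideal.subset_span rfl⟩ : J) ⊗ₜ[A] (1 : A ⧸ J) = 0 := by
      apply hJ
      rw [map_zero, LinearMap.rTensor_tmul]
      show y ⊗ₜ[A] (1 : A ⧸ J) = 0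
      have : y ⊗ₜ[A] (1 : A ⧸ J) = (1 : A) ⊗ₜ[A] (y • (1 : A ⧸ J)) := by
        rw [← TensorProduct.smul_tmul, smul_eq_mul, mul_one]
      rw [this, show y • (1 : A ⧸ J) = 0 from Ideal.Quotient.eq_zero_iff_mem.mpr
        (Ideal.mul_mem_right _ _ (Ideal.subset_span rfl) : y * 1 ∈ J), TensorProduct.tmul_zero]
    have hker : ∀ z ∈ J, ∀ w ∈ J, z * w = 0 := by
      intro z hz w hw
      obtain ⟨a, rfl⟩ := Ideal.mem_span_singleton'.mp hz
      obtain ⟨b, rfl⟩ := Ideal.mem_span_singleton'.mp hw
      linear_combination a * b * hy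
    let bil : J →ₗ[A] (A ⧸ J) →ₗ[A] A :=
      { toFun := fun z ↦ Submodule.liftQ J (LinearMap.mulLeft A z.1) fun w hw ↦ hker z.1 z.2 w hw
        map_add' := fun a b ↦ Submodule.linearMap_qext _ (LinearMap.ext fun w ↦ add_mul a.1 b.1 w)
        map_smul' := fun a b ↦ Submodule.linearMap_qext _ (LinearMap.ext fun w ↦ mul_assoc a b.1 w) }
    have h1 := congr_arg (TensorProduct.lift bil) h0
    rw [map_zero, TensorProduct.lift.tmul] at h1
    have h2 : bil ⟨y, Ideal.subset_span rfl⟩ (Ideal.Quotient.mk J 1) = y * 1 := rfl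
    rw [map_one, h1, mul_one] at h2
    exact h2.symm
  obtain ⟨n, hn⟩ := hx
  revert x
  induction n using Nat.strong_induction_on with
  | _ n ih =>
    intro x hn
    rcases Nat.lt_or_ge n 2 with h2 | h2
    · interval_cases n
      · rw [pow_zero] at hn
        rw [← mul_one x, hn, mul_zero]
      · rwa [pow_one] at hn
    · refine ih (n - 1) (by omega) x (key _ ?_)
      rw [← pow_add, show n - 1 + (n - 1) = n + (n - 2) by omega, pow_add, hn, zero_mul]

theorem isReduced_of_weaklyEtale_aux (R S K : Type u) [CommRing R] [CommRing S] [CommRing K] [Algebra R S]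
    [Algebra R K] [Algebra.WeaklyEtale R S] (hK : Function.Injective (Algebra.linearMap R K))
    (hflat : ∀ (M : Type u) [AddCommGroup M] [Module K M], Module.Flat K M) : IsReduced S := by
  have : IsReduced (K ⊗[R] S) := by
    apply isReduced_of_all_flat
    intro M _ _
    let _ : Module K M := Module.compHom M (algebraMap K (K ⊗[R] S))
    have : IsScalarTower K (K ⊗[R] S) M := .of_algebraMap_smul fun _ _ ↦ rfl
    have : Module.Flat K M := hflat M
    exact Groth.Agent.FlatMor.LmulFlat.flat_of_flat_lmul K (K ⊗[R] S)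
      (Algebra.WeaklyEtale.flat_lmul' K (K ⊗[R] S)) M
  refine isReduced_of_injective (Algebra.TensorProduct.includeRight (R := R) (A := K) (B := S)) ?_
  have h2 := Module.Flat.rTensor_preserves_injective_linearMap (M := S) _ hK
  intro a b hab
  apply (TensorProduct.lid R S).symm.injective
  apply h2
  simpa [Algebra.linearMap] using hab

theorem isReduced_of_weaklyEtale (R S : Type u) [CommRing R] [CommRing S] [Algebra R S]
    [Algebra.WeaklyEtale R S] [IsReduced R] : IsReduced S := by
  refine isReduced_of_weaklyEtale_aux R S (∀ p : PrimeSpectrum R, p.asIdeal.ResidueField) ?_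
    fun M _ _ ↦ flat_pi_field _ M
  rw [← LinearMap.ker_eq_bot, eq_bot_iff]
  intro a ha
  rw [Submodule.mem_bot]
  refine IsNilpotent.eq_zero ?_
  rw [nilpotent_iff_mem_prime]
  intro P hP
  exact Ideal.algebraMap_residueField_eq_zero.mp (congr_fun (LinearMap.mem_ker.mp ha) ⟨P, hP⟩)

open AlgebraicGeometry CategoryTheory Limits in
/-- The source of a weakly étale morphism with reduced target is reduced. -/
theorem result {X Y : Scheme.{u}} (f : X ⟶ Y) [WeaklyEtale f] [IsReduced Y] : IsReduced X := by
  have : ∀ x : X, _root_.IsReduced (X.presheaf.stalk x) := by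
    intro x
    obtain ⟨V, hV, hxV, -⟩ := exists_isAffineOpen_mem_and_subset (x := f x) (U := ⊤) trivial
    obtain ⟨U, hU, hxU, hUV⟩ := exists_isAffineOpen_mem_and_subset (x := x) (U := f ⁻¹ᵁ V) hxV
    let _ := (f.appLE V U hUV).hom.toAlgebra
    have hw : Algebra.WeaklyEtale Γ(Y, V) Γ(X, U) :=
      (Groth.Agent.S7178.result f).mp ‹_› U V hU hV hUV
    have : _root_.IsReduced Γ(X, U) := isReduced_of_weaklyEtale Γ(Y, V) Γ(X, U)
    let _ : Algebra Γ(X, U) (X.presheaf.stalk x) := (X.presheaf.germ U x hxU).hom.toAlgebra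
    have : IsLocalization.AtPrime (X.presheaf.stalk x) (hU.primeIdealOf ⟨x, hxU⟩).asIdeal :=
      hU.isLocalization_stalk ⟨x, hxU⟩
    exact isReduced_localizationPreserves (hU.primeIdealOf ⟨x, hxU⟩).asIdeal.primeCompl _ inferInstance
  exact isReduced_of_isReduced_stalk X

end Groth.Agent.S7179
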