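import Groth.Statements.S0345
import Groth.Agent.Gor.FlatLocal
import Mathlib.RingTheory.LocalProperties.InjectiveDimension

set_option autoImplicit false
universe u v
open Goren

namespace Groth.Agent.S0345

/-- For a Noetherian ring A, the A-module A has finite injective dimension exactly when every
localization of A at a prime is Gorenstein and A has finite Krull dimension. -/
theorem result (A : Type u) [CommRing A] [IsNoetherianRing A] : (∃ n : ℕ, CategoryTheory.HasInjectiveDimensionLT (ModuleCat.of A A) n) ↔ (LocCoh.IsGorensteinRing A ∧ ringKrullDim A < ⊤) := by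
  constructor
  · rintro ⟨n, hn⟩
    have hle : CategoryTheory.HasInjectiveDimensionLE (ModuleCat.of A A) n :=
      CategoryTheory.hasInjectiveDimensionLT_of_ge _ n (n + 1) n.le_succ
    have hprime := (ModuleCat.hasInjectiveDimensionLE_iff_forall_primeSpectrum n (ModuleCat.of A A)).mp hle
    have hgor : ∀ (p : Ideal A) [p.IsPrime],
        LocCoh.IsGorensteinLocalRing (Localization.AtPrime p) ∧ ringKrullDim (Localization.AtPrime p) ≤ n := by
      intro p hp
      have h1 := hprime ⟨p, hp⟩
      have h2 : CategoryTheory.HasInjectiveDimensionLT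
          (ModuleCat.of (Localization.AtPrime p) (Localization.AtPrime p)) (n + 1) :=
        (ModuleCat.hasInjectiveDimensionLE_iff_of_linearEquiv
          (M := (ModuleCat.of A A).localizedModule p.primeCompl)
          (N := ModuleCat.of (Localization.AtPrime p) (Localization.AtPrime p))
          ((equivShrink _).symm.linearEquiv (Localization.AtPrime p) |>.trans
            (Depth.localizedModuleSelfEquiv p.primeCompl)) n).mp h1
      refine ⟨Gor.Basic.gorenstein_mk h2, ?_⟩
      exact Gor.Basic.dim_le_of_id n (Localization.AtPrime p) h2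
    refine ⟨{ isGorensteinLocalRing_localization := fun p _ => (hgor p).1 }, ?_⟩
    refine lt_of_le_of_lt (b := ((n : ℕ∞) : WithBot ℕ∞)) ?_ (WithBot.coe_lt_coe.mpr (ENat.natCast_lt_top n))
    refine (ringKrullDim_le_iff_height_le _).mpr fun p hp => ?_
    rw [← IsLocalization.AtPrime.ringKrullDim_eq_height p (Localization.AtPrime p)]
    exact (hgor p).2
  · rintro ⟨hg, hd⟩
    obtain ⟨d, hd'⟩ : ∃ d : ℕ, ringKrullDim A ≤ d := by
      cases hh : ringKrullDim A with
      | bot => exact ⟨0, by simp⟩
      | coe a =>
        rw [hh] at hd
        lift a to ℕ using (by rintro rfl; exact lt_irrefl _ hd)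
        exact ⟨a, le_rfl⟩
    refine ⟨d + 1, (ModuleCat.hasInjectiveDimensionLE_iff_forall_primeSpectrum d (ModuleCat.of A A)).mpr
      fun p => ?_⟩
    have := hg.isGorensteinLocalRing_localization p.asIdeal
    obtain ⟨e, he⟩ := Gor.Basic.exists_natCast_ringKrullDim (A := Localization.AtPrime p.asIdeal)
    have hed : e ≤ d := by
      have h1 : ringKrullDim (Localization.AtPrime p.asIdeal) ≤ ringKrullDim A := by
        rw [IsLocalization.AtPrime.ringKrullDim_eq_height p.asIdeal (Localization.AtPrime p.asIdeal)]
        exact Ideal.height_le_ringKrullDim_of_ne_top p.2.ne_top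
      have h2 := h1.trans hd'
      rw [he] at h2
      exact_mod_cast h2
    exact (ModuleCat.hasInjectiveDimensionLE_iff_of_linearEquiv
      (M := (ModuleCat.of A A).localizedModule p.asIdeal.primeCompl)
      (N := ModuleCat.of (Localization.AtPrime p.asIdeal) (Localization.AtPrime p.asIdeal))
      ((equivShrink _).symm.linearEquiv (Localization.AtPrime p.asIdeal) |>.trans
        (Depth.localizedModuleSelfEquiv p.asIdeal.primeCompl)) d).mpr
      (have := Gor.Basic.hasInjectiveDimensionLT_dim he
       CategoryTheory.hasInjectiveDimensionLT_of_ge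
        (ModuleCat.of (Localization.AtPrime p.asIdeal) (Localization.AtPrime p.asIdeal))
        (e + 1) (d + 1) (by omega))

end Groth.Agent.S0345
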