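import Groth.Statements.S1760
import Groth.Agent.Gor.Ring
import Mathlib.RingTheory.FiniteStability

set_option autoImplicit false
universe u
open scoped TensorProduct
open Goren

namespace Groth.Agent.S1760

/-- First assertion, written for the local ring B = O_{X,x}. Let k'/k be a finitely generated field
extension, B a Noetherian local k-algebra, and q a prime of B ⊗_k k' lying over the maximal ideal of
B. Then B is Gorenstein if and only if the localization of B ⊗_k k' at q is Gorenstein. -/
theorem result (k k' : Type u) [Field k] [Field k'] [Algebra k k'] (hfg : ∃ s : Finset k', IntermediateField.adjoin k (s : Set k') = ⊤) (B : Type u) [CommRing B] [IsLocalRing B] [IsNoetherianRing B] [Algebra k B] (q : PrimeSpectrum (B ⊗[k] k')) (hq : q.asIdeal.comap (algebraMap B (B ⊗[k] k')) = IsLocalRing.maximalIdeal B) : LocCoh.IsGorensteinLocalRing B ↔ LocCoh.IsGorensteinLocalRing (Localization.AtPrime q.asIdeal) := by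
  obtain ⟨s, hs⟩ := hfg
  have : Algebra.EssFiniteType k k' := IntermediateField.fg_top_iff.mp ⟨s, hs⟩
  have := Gor.Ring.isNoetherianRing_tensor k k' B
  have hF : LocCoh.IsGorensteinRing
      ((q.asIdeal.comap (algebraMap B (B ⊗[k] k'))).Fiber (B ⊗[k] k')) :=
    Gor.Ring.isGorensteinRing_of_ringEquiv
      (Algebra.TensorProduct.cancelBaseChange k B B _ k').symm.toRingEquiv
      (Gor.Ring.isGorensteinRing_fg_field_tensor k k' _)
  rw [Gor.Ring.gorenstein_atPrime_iff q.asIdeal hF]
  have key : ∀ (p : Ideal B) [p.IsPrime], p = IsLocalRing.maximalIdeal B →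
      (LocCoh.IsGorensteinLocalRing (Localization.AtPrime p) ↔ LocCoh.IsGorensteinLocalRing B) := by
    rintro p _ rfl
    exact Gor.Ring.gorenstein_localization_maximal_iff
  exact (key _ hq).symm

end Groth.Agent.S1760
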