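import Groth.Statements.S0116
import Groth.Agent.S2492
import Mathlib.AlgebraicGeometry.Morphisms.UniversallyOpen

set_option autoImplicit false
open CategoryTheory CategoryTheory.Limits AlgebraicGeometry Opposite
universe u
open EtBase

namespace Groth.Agent.S0116

/-- If f : X → Y is surjective, flat and locally of finite presentation and X is locally Noetherian,
then Y is locally Noetherian. (This is the descent half of the statement that, for such f, X is
locally Noetherian if and only if Y is; the ascent half is the fact that a scheme locally of finite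
type over a locally Noetherian scheme is locally Noetherian, and is not stated here.) -/
theorem result {X Y : Scheme.{u}} (f : X ⟶ Y) [Surjective f] [Flat f] [LocallyOfFinitePresentation f]
    [IsLocallyNoetherian X] : IsLocallyNoetherian Y := by
  suffices h : ∀ U : Y.affineOpens, IsLocallyNoetherian U.1.toScheme by
    refine ⟨fun U => ?_⟩
    have := h U
    have : IsAffine U.1.toScheme := U.2
    have : IsNoetherianRing Γ(U.1.toScheme, ⊤) :=
      IsLocallyNoetherian.component_noetherian ⟨⊤, isAffineOpen_top U.1.toScheme⟩
    exact isNoetherianRing_of_ringEquiv _ (Scheme.Opens.topIso U.1).commRingCatIsoToRingEquiv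
  intro U
  have : CompactSpace U.1.toScheme := isCompact_iff_compactSpace.mp U.2.isCompact
  have : QuasiSeparatedSpace U.1.toScheme := (isQuasiSeparated_iff_quasiSeparatedSpace _ U.1.2).1 U.2.isQuasiSeparated
  let g := f ∣_ U.1
  have : Surjective g := MorphismProperty.of_isPullback (isPullback_morphismRestrict f U.1).flip ‹_›
  obtain ⟨V, hV, e⟩ := g.isOpenMap.exists_opens_image_eq_of_prespectralSpace
    g.continuous (by simp) isOpen_univ isCompact_univ
  let V : (f ⁻¹ᵁ U.1).toScheme.Opens := V
  have : CompactSpace V.toScheme := isCompact_iff_compactSpace.mp hV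
  have : QuasiCompact (V.ι ≫ g) := inferInstance
  have : Surjective (V.ι ≫ g) := ⟨fun x => by
    obtain ⟨y, hy, rfl⟩ := e.ge (Set.mem_univ x)
    exact ⟨⟨y, hy⟩, rfl⟩⟩
  exact S2492.result (V.ι ≫ g)

end Groth.Agent.S0116
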