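import Groth.Statements.S10262
import Groth.Agent.AlgSpCov.EtaleMono
import Groth.Agent.AlgSpCov.Instances
import Groth.Agent.AlgSp.Diag
import Mathlib.AlgebraicGeometry.Morphisms.FormallyUnramified
import Mathlib.AlgebraicGeometry.Morphisms.FlatMono

set_option autoImplicit false
universe u
open CategoryTheory CategoryTheory.Limits AlgebraicGeometry
open AlgSp

namespace Groth.Agent.S10262

set_option backward.isDefEq.respectTransparency false
open Groth.Agent.AlgSpCov

variable {S : Scheme.{u}} {F G : AlgSp.Sp S}

theorem openImmersion_of_etale_mono {f : F ⟶ G} (h : RepWith @Etale f) [Mono f] :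
    RepWith @IsOpenImmersion f := by
  refine ⟨h.1, fun V W g fst snd sq => ?_⟩
  have : Etale snd.left := h.2 g fst snd sq
  have : Mono ((yon S).map snd) :=
    (MorphismProperty.monomorphisms (Sp S)).of_isPullback sq (MorphismProperty.monomorphisms.infer_property f)
  have : Mono snd := (yon S).mono_of_mono_map this
  exact IsOpenImmersion.of_flat_of_mono snd.left

theorem diagonal_etale {f : F ⟶ G} (h : RepWith @Etale f) {U : Over S} (e : F = (yon S).obj U) :
    RepWith @IsOpenImmersion (pullback.diagonal f) := by
  subst e
  refine openImmersion_of_etale_mono (repWith_etale_cancel _ (pullback.fst f f)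
    (repWith_bc (IsPullback.of_hasPullback f f).flip h) ?_)
  rw [pullback.diagonal_fst, ← (yon S).map_id]
  exact (repWith_yon_map_iff _ _).2 (inferInstanceAs (Etale (𝟙 U.left)))

theorem etale_of_comp_source {E : AlgSp.Sp S} {a : E ⟶ F} {d : F ⟶ G} (hd : Representable d)
    (ha : RepWith @Etale a) (hs : RepWith @Surjective a) (h : RepWith @Etale (a ≫ d)) :
    RepWith @Etale d := by
  refine ⟨hd, fun V W g fst snd sq => ?_⟩
  obtain ⟨W', w, fst', sq'⟩ := ha.1 fst
  have hc : Etale (w ≫ snd).left := h.2 g fst' (w ≫ snd) (by
    rw [Functor.map_comp]; exact sq'.paste_vert sq)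
  have : Etale w.left := ha.2 fst fst' w sq'
  have : Surjective w.left := hs.2 fst fst' w sq'
  exact etale_of_comp_smooth w.left snd.left (by rwa [Over.comp_left] at hc)

theorem isPullback_mono {A B C : AlgSp.Sp S} (e : A ⟶ B) (g : B ⟶ C) [Mono g] :
    IsPullback (𝟙 A) e (e ≫ g) g :=
  IsPullback.of_isLimit' ⟨by simp⟩ (PullbackCone.IsLimit.mk _ (fun c => c.fst) (fun c => Category.comp_id _)
    (fun c => by rw [← cancel_mono g, ← c.condition, Category.assoc]) (fun c m h _ => by simpa using h))

/-- (1) an unramified morphism of algebraic spaces has diagonal an open immersion; (2) a morphism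
locally of finite type whose diagonal is an open immersion is unramified. -/
theorem result {S : Scheme.{u}} {X Y : AlgSp.Space S} (f : X ⟶ Y) :
    (AlgSp.LocP (@LocallyOfFiniteType ⊓ @FormallyUnramified) f.hom →
      AlgSp.RepWith @IsOpenImmersion (pullback.diagonal f.hom)) ∧
    (AlgSp.LocP @LocallyOfFiniteType f.hom → AlgSp.RepWith @IsOpenImmersion (pullback.diagonal f.hom) →
      AlgSp.LocP (@LocallyOfFiniteType ⊓ @FormallyUnramified) f.hom) := by
  obtain ⟨d₀, dl, dm, -⟩ := AlgSp.diagonal_props X.property f.hom
  constructor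
  · intro hf
    obtain ⟨U, a₀, ha₀, ha₀s⟩ := X.property.atlas
    obtain ⟨V, b, hb, hbs⟩ := Y.property.atlas
    obtain ⟨U', t, h', sq⟩ := hb.1 (a₀ ≫ f.hom)
    obtain ⟨h, rfl⟩ := (yon S).map_surjective h'
    have : Etale t.left := hb.2 _ _ _ sq
    have : Surjective t.left := hbs.2 _ _ _ sq
    let a : (yon S).obj U' ⟶ X.obj := (yon S).map t ≫ a₀
    have ha : RepWith @Etale a := repWith_comp ((repWith_yon_map_iff _ _).2 ‹_›) ha₀
    have has : RepWith @Surjective a := repWith_comp ((repWith_yon_map_iff _ _).2 ‹_›) ha₀s
    have w : a ≫ f.hom = (yon S).map h ≫ b := by rw [sq.w, Category.assoc]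
    obtain ⟨_, _⟩ := hf (U := U') (V := V) a b h ha hb w
    have hdh : RepWith @Etale (pullback.diagonal ((yon S).map h)) :=
      (repWith_diagonal_yon_map_iff _ h).2 (inferInstance : Etale (pullback.diagonal h.left))
    have hdb : RepWith @Etale (pullback.diagonal b) := AlgSp.repWith_mono
      (Q := @Etale) (fun g (hg : IsOpenImmersion g) => (inferInstance : Etale g)) (diagonal_etale hb rfl)
    have hmd : RepWith @Etale (pullback.mapDesc ((yon S).map h) ((yon S).map h) b) :=
      AlgSp.mapDesc_mem_of_diagonal _ _ _ b hdb
    have hmap : RepWith @Etale (pullback.map ((yon S).map h ≫ b) ((yon S).map h ≫ b) f.hom f.hom a a (𝟙 _)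
        (by rw [w, Category.comp_id]) (by rw [w, Category.comp_id])) :=
      MorphismProperty.pullbackMap (P := RepWith @Etale) ha ha w.symm w.symm
    have hc : RepWith @Etale (a ≫ pullback.diagonal f.hom) := by
      have e : a ≫ pullback.diagonal f.hom = pullback.diagonal ((yon S).map h) ≫
          pullback.mapDesc ((yon S).map h) ((yon S).map h) b ≫
          pullback.map ((yon S).map h ≫ b) ((yon S).map h ≫ b) f.hom f.hom a a (𝟙 _)
            (by rw [w, Category.comp_id]) (by rw [w, Category.comp_id]) := by
        apply pullback.hom_ext <;> simp [pullback.mapDesc]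
      rw [e]; exact repWith_comp hdh (repWith_comp hmd hmap)
    exact openImmersion_of_etale_mono (etale_of_comp_source d₀ ha has hc)
  · intro hft hd U V a b h ha hb w
    refine ⟨hft a b h ha hb w, ?_⟩
    have haf : (RepWith @IsOpenImmersion).diagonal (a ≫ f.hom) :=
      MorphismProperty.comp_mem (RepWith @IsOpenImmersion).diagonal a f.hom (diagonal_etale ha rfl) hd
    rw [w] at haf
    have e : pullback.diagonal ((yon S).map h ≫ b) = pullback.diagonal ((yon S).map h) ≫
        pullback.mapDesc ((yon S).map h) ((yon S).map h) b := by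
      apply pullback.hom_ext <;> simp [pullback.mapDesc]
    have : Mono (pullback.mapDesc ((yon S).map h) ((yon S).map h) b) :=
      (MorphismProperty.monomorphisms (Sp S)).of_isPullback (pullback_map_diagonal_isPullback _ _ b)
        (MorphismProperty.monomorphisms.infer_property _)
    have hh : RepWith @IsOpenImmersion (pullback.diagonal ((yon S).map h)) :=
      by
      have haf' : RepWith @IsOpenImmersion (pullback.diagonal ((yon S).map h ≫ b)) := haf
      rw [e] at haf'
      exact repWith_bc (isPullback_mono _ _) haf'
    have : IsOpenImmersion (pullback.diagonal h.left) := (repWith_diagonal_yon_map_iff _ h).1 hh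
    exact (inferInstance : FormallyUnramified h.left)

end Groth.Agent.S10262
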