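import Groth.Statements.S10215
import Groth.Agent.AlgSpB.FieldPoints

set_option autoImplicit false
set_option backward.isDefEq.respectTransparency false
universe u
open CategoryTheory CategoryTheory.Limits AlgebraicGeometry Topology TopologicalSpace
open AlgSp

namespace Groth.Agent.S10215

/-- Let X be an algebraic space over a scheme S and p : Spec K ⟶ X, q : Spec L ⟶ X morphisms from
spectra of fields over S which determine the same point of |X|, with p a monomorphism. Then q
factors uniquely through p. -/
theorem result {S : Scheme.{u}} (X : AlgSp.Space S) (p q : AlgSp.FieldPt X.obj)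
    (h : AlgSp.Points.mk p = AlgSp.Points.mk q) [Mono p.toHom] :
    ∃! c : q.pt ⟶ p.pt, (AlgSp.yon S).map c ≫ p.toHom = q.toHom := by
  obtain ⟨W, fst, snd, sq⟩ := Groth.Agent.AlgSpB.exists_pullback_yon
    (X.property.representable_from_yon p.toHom) q.toHom
  have : Mono ((AlgSp.yon S).map snd) := MorphismProperty.of_isPullback
    (P := MorphismProperty.monomorphisms _) sq ‹Mono p.toHom›
  have : Mono snd := Functor.mono_of_mono_map (AlgSp.yon S) this
  have : Mono snd.left := inferInstance
  have : Nonempty ↥W.left := by
    obtain ⟨w, -⟩ := (Groth.Agent.AlgSpB.ofPt_eq_ofPt_iff sq (IsLocalRing.closedPoint p.K)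
      (IsLocalRing.closedPoint q.K)).1
        (((AlgSp.Points.ofPt_toHom p _).trans h).trans (AlgSp.Points.ofPt_toHom q _).symm)
    exact ⟨w⟩
  obtain ⟨s, hs⟩ := Groth.Agent.AlgSpB.exists_section_of_mono (K := q.K) snd.left
  let c' : q.pt ⟶ W := Over.homMk s (by
    rw [← Over.w snd, ← Category.assoc, hs]; exact Category.id_comp _)
  have hc : c' ≫ snd = 𝟙 _ := Over.OverMorphism.ext hs
  refine ⟨c' ≫ fst, ?_, fun c hcq => ?_⟩
  · show (AlgSp.yon S).map (c' ≫ fst) ≫ p.toHom = q.toHom
    rw [Functor.map_comp, Category.assoc, sq.w, ← Category.assoc, ← Functor.map_comp, hc,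
      CategoryTheory.Functor.map_id, Category.id_comp]
  · have e : (AlgSp.yon S).map (c' ≫ fst) ≫ p.toHom = q.toHom := by
      rw [Functor.map_comp, Category.assoc, sq.w, ← Category.assoc, ← Functor.map_comp, hc,
        CategoryTheory.Functor.map_id, Category.id_comp]
    exact (AlgSp.yon S).map_injective ((cancel_mono p.toHom).1 (hcq.trans e.symm))

end Groth.Agent.S10215
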