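import Groth.Statements.S10272
import Groth.Agent.AlgSpD.ProperMor

set_option autoImplicit false
universe u
open CategoryTheory CategoryTheory.Limits AlgebraicGeometry
open AlgSp

namespace Groth.Agent.S10272

/-- If g is separated and the composite of f and g is finite (resp. integral) then f is finite (resp.
integral). -/
theorem result {S : Scheme.{u}} {X Y Z : AlgSp.Space S} (f : X ⟶ Y) (g : Y ⟶ Z)
    (hg : AlgSp.IsSeparatedMor g.hom) :
    (AlgSp.IsFiniteMor (f ≫ g).hom → AlgSp.IsFiniteMor f.hom) ∧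
    (AlgSp.IsIntegralMor (f ≫ g).hom → AlgSp.IsIntegralMor f.hom) := by
  have e : f.hom = pullback.lift (𝟙 _) f.hom (by simp) ≫ pullback.snd (f.hom ≫ g.hom) g.hom := by
    rw [pullback.lift_snd]
  have h1 : AlgSp.RepWith @IsClosedImmersion
      (pullback.lift (𝟙 _) f.hom (by simp) : X.obj ⟶ pullback (f.hom ≫ g.hom) g.hom) :=
    MorphismProperty.of_isPullback (pullback_lift_diagonal_isPullback f.hom g.hom) hg
  refine ⟨fun h => (AlgSpD.isFiniteMor_iff f.hom).2 ?_, fun h => (AlgSpD.isIntegralMor_iff f.hom).2 ?_⟩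
  · rw [e]
    exact (AlgSp.RepWith _).comp_mem _ _
      (Groth.Agent.AlgSp.repWith_mono (Q := @IsFinite) (fun i (hi : IsClosedImmersion i) => (inferInstance : IsFinite i)) h1)
      (MorphismProperty.pullback_snd _ _ ((AlgSpD.isFiniteMor_iff (f.hom ≫ g.hom)).1 h))
  · rw [e]
    exact (AlgSp.RepWith _).comp_mem _ _
      (Groth.Agent.AlgSp.repWith_mono (Q := @IsIntegralHom) (fun i (hi : IsClosedImmersion i) => (inferInstance : IsIntegralHom i)) h1)
      (MorphismProperty.pullback_snd _ _ ((AlgSpD.isIntegralMor_iff (f.hom ≫ g.hom)).1 h))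

end Groth.Agent.S10272
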