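import Groth.Statements.S6361
import Groth.Agent.MLMod.Countable

set_option autoImplicit false
universe u
open CAlg

namespace Groth.Agent.S6361

/-- Let M be a Mittag-Leffler, countably generated module over a commutative ring R, and f : P → M a
linear map with P finitely generated. Then there is an endomorphism a of M which factors through
some finitely presented module and satisfies a ∘ f = f. -/
theorem result (R : Type u)
    [CommRing R] (M : Type u) [AddCommGroup M] [Module R M] (hML : CAlg.IsMittagLeffler R M)
    (hc : CAlg.IsCountablyGenerated R M) {P : Type u} [AddCommGroup P] [Module R P] [Module.Finite R P]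
    (f : P →ₗ[R] M) :
    ∃ (Q : Type u) (_ : AddCommGroup Q) (_ : Module R Q) (_ : Module.FinitePresentation R Q)
      (b : M →ₗ[R] Q) (c : Q →ₗ[R] M), (c ∘ₗ b) ∘ₗ f = f := by
  classical
  let e := MLMod.Colim.colimitEquiv (R := R) (M := M)
  haveI : ∀ i, Module.FinitePresentation R (MLMod.Colim.Stage (R := R) (M := M) i) :=
    MLMod.Colim.stage_finitePresentation
  have hc' : CAlg.IsCountablyGenerated R (Module.DirectLimit _ (MLMod.Colim.stageMap (R := R) (M := M))) := by
    obtain ⟨s, hs, hspan⟩ := hc
    exact ⟨e.symm '' s, hs.image _, by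
      rw [← LinearEquiv.coe_toLinearMap, ← Submodule.map_span, hspan, Submodule.map_top, LinearEquiv.range]⟩
  obtain ⟨Q, _, _, hQ, b, c, hbc⟩ :=
    MLMod.exists_endo_factor_colim (MLMod.isMittagLeffler_congr e.symm hML) hc' (e.symm.toLinearMap ∘ₗ f)
  refine ⟨Q, _, _, hQ, b ∘ₗ e.symm.toLinearMap, e.toLinearMap ∘ₗ c, LinearMap.ext fun p => ?_⟩
  have := LinearMap.congr_fun hbc p
  simp only [LinearMap.comp_apply, LinearEquiv.coe_coe] at this ⊢
  rw [this, LinearEquiv.apply_symm_apply]

end Groth.Agent.S6361
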