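import Groth.Statements.S10290
import Mathlib.AlgebraicGeometry.Morphisms.ClosedImmersion

set_option autoImplicit false
universe u
open CategoryTheory CategoryTheory.Limits AlgebraicGeometry
open AlgSp

namespace Groth.Agent.S10290

set_option backward.isDefEq.respectTransparency false

/-- A separated morphism of algebraic spaces satisfies the uniqueness part of the valuative criterion. -/
theorem result {S : Scheme.{u}} {X Y : AlgSp.Space S} (f : X ⟶ Y)
    (hf : AlgSp.IsSeparatedMor f.hom) : AlgSp.UniqVC f.hom := by
  intro sq l l' h1 h2 h1' h2'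
  let g := pullback.lift l l' (h2.trans h2'.symm)
  obtain ⟨W, snd, fst, hW⟩ := hf.1 g
  have hc : IsClosedImmersion snd.left := hf.2 _ _ _ hW
  obtain ⟨t, ht⟩ := (AlgSp.yon S).map_surjective (hW.lift sq.top ((AlgSp.yon S).map sq.j) (by
    apply pullback.hom_ext <;> simp [g, h1, h1']))
  have htj : t ≫ snd = sq.j := (AlgSp.yon S).map_injective (by rw [Functor.map_comp, ht, hW.lift_snd])
  let z : ↥(Spec (CommRingCat.of sq.K)) := (⟨⊥, Ideal.isPrime_bot⟩ : PrimeSpectrum sq.K)
  have hsurj : Surjective snd.left := by
    constructor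
    intro p
    have hp : p ∈ Set.range snd.left := by
      refine Specializes.mem_closed ?_ snd.left.isClosedEmbedding.isClosed_range ⟨t.left z, rfl⟩
      rw [← Scheme.Hom.comp_apply, ← Over.comp_left, htj]
      have e : (sq.j.left z : PrimeSpectrum sq.A).asIdeal = ⊥ :=
        Ideal.comap_bot_of_injective _ (IsFractionRing.injective sq.A sq.K)
      have key : ∀ q r : PrimeSpectrum sq.A, q.asIdeal = ⊥ → q ⤳ r := fun q r hq =>
        (PrimeSpectrum.le_iff_specializes _ _).1 (by rw [← PrimeSpectrum.asIdeal_le_asIdeal, hq]; exact bot_le)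
      exact key _ p e
    exact hp
  have : IsReduced sq.ptA.left := inferInstanceAs (IsReduced (Spec (CommRingCat.of sq.A)))
  have : IsIso snd.left := isIso_of_isClosedImmersion_of_surjective snd.left
  have : IsIso snd := by
    have : IsIso ((Over.forget S).map snd) := this
    exact isIso_of_reflects_iso snd (Over.forget S)
  have e1 := congrArg (· ≫ pullback.fst f.hom f.hom) hW.w
  have e2 := congrArg (· ≫ pullback.snd f.hom f.hom) hW.w
  simp only [g, Category.assoc, pullback.diagonal_fst, pullback.diagonal_snd, pullback.lift_fst,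
    pullback.lift_snd, Category.comp_id] at e1 e2
  rw [← cancel_epi ((AlgSp.yon S).map snd), ← e1, ← e2]

end Groth.Agent.S10290
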