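import Groth.Statements.S10053
import Groth.Agent.AlgSpB.Art.AffineSpaceClosed
import Groth.Agent.AlgSp.Space
import Groth.Agent.AlgSpCov.LocPBasic
import Groth.Agent.AlgSpCov.Instances
import Groth.Agent.S9923
import Groth.Agent.S9924

set_option autoImplicit false
set_option backward.isDefEq.respectTransparency false
set_option backward.isDefEq.respectTransparency.types false

universe u
open CategoryTheory CategoryTheory.Limits AlgebraicGeometry
open AlgSp

namespace Groth.Agent.S10053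

/-- Closedness over affine spaces of a scheme with a surjective etale map gives universal closedness. -/
theorem univClosed_of_affineSpaces {S : Scheme.{u}} {X Y : AlgSp.Space S} (f : X ⟶ Y)
    (hqc : AlgSp.IsQuasiCompactMor f.hom) (V : Over S) (p : (AlgSp.yon S).obj V ⟶ Y.obj)
    (hpe : AlgSp.RepWith @Etale p) (hps : AlgSp.RepWith @Surjective p)
    (H : ∀ n : ℕ, IsClosedMap (AlgSp.Points.map (pullback.snd f.hom ((AlgSp.yon S).map
      (Over.homMk (𝔸(ULift.{u} (Fin n); V.left) ↘ V.left) :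
        Over.mk ((𝔸(ULift.{u} (Fin n); V.left) ↘ V.left) ≫ V.hom) ⟶ V) ≫ p)))) :
    AlgSp.IsUnivClosedMor f.hom := by
  refine Groth.Agent.S9924.result f V p hpe hps _ _ (IsPullback.of_hasPullback f.hom p) ?_
  let Q : AlgSp.Space S := ⟨_, Groth.Agent.AlgSp.isAlgSpace_pullback Y.property X.property
    (AlgSp.IsAlgSpace.yon_obj V) f.hom p⟩
  let q : Q ⟶ (AlgSp.ofScheme S).obj V := ObjectProperty.homMk (pullback.snd f.hom p)
  refine (Groth.Agent.S9923.result q).2 fun Z hZ g P fst snd sq C hC => ?_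
  obtain ⟨k, rfl⟩ := (AlgSp.yon S).map_surjective g
  have big : IsPullback (fst ≫ pullback.fst f.hom p) snd f.hom ((AlgSp.yon S).map k ≫ p) :=
    sq.paste_horiz (IsPullback.of_hasPullback f.hom p)
  refine (AlgSp.Points.schemeHomeo Z).isClosed_preimage.1
    (isOpen_compl_iff.1 (isOpen_iff_forall_mem_open.2 fun z hz => ?_))
  obtain ⟨O, hO, hzO, -⟩ := exists_isAffineOpen_mem_and_subset (x := k.left z) (U := ⊤) trivial
  obtain ⟨Z', hZ', hzZ', hZ'O⟩ := exists_isAffineOpen_mem_and_subset (x := z) (U := k.left ⁻¹ᵁ O) hzO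
  let VO : Over S := Over.mk (O.ι ≫ V.hom)
  let ιO : VO ⟶ V := Over.homMk O.ι rfl
  let ZO : Over S := Over.mk (Z'.ι ≫ Z.hom)
  let j : ZO ⟶ Z := Over.homMk Z'.ι rfl
  have : IsAffine VO.left := hO
  have : IsAffine ZO.left := hZ'
  let k' : ZO ⟶ VO := Over.homMk (k.left.resLE O Z' hZ'O) (by
    change k.left.resLE O Z' hZ'O ≫ O.ι ≫ V.hom = Z'.ι ≫ Z.hom
    rw [Scheme.Hom.resLE_comp_ι_assoc, Over.w k])
  have hk : k' ≫ ιO = j ≫ k := Over.OverMorphism.ext (Scheme.Hom.resLE_comp_ι _ _)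
  have hclosed : IsClosedMap (AlgSp.Points.map (pullback.snd f.hom ((AlgSp.yon S).map k' ≫ (AlgSp.yon S).map ιO ≫ p))) := by
    refine Groth.Agent.AlgSpB.Art.isClosedMap_of_affineSpace X.property Y.property f.hom hqc
      ((AlgSp.yon S).map ιO ≫ p) (fun n => ?_) k'
    let AO : Over S := Over.mk ((𝔸(ULift.{u} (Fin n); O.toScheme) ↘ O.toScheme) ≫ VO.hom)
    let AV : Over S := Over.mk ((𝔸(ULift.{u} (Fin n); V.left) ↘ V.left) ≫ V.hom)
    let pO : AO ⟶ VO := Over.homMk (𝔸(ULift.{u} (Fin n); O.toScheme) ↘ O.toScheme)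
    let pV : AV ⟶ V := Over.homMk (𝔸(ULift.{u} (Fin n); V.left) ↘ V.left)
    let μ : AO ⟶ AV := Over.homMk (AffineSpace.map _ O.ι) (by
      change AffineSpace.map _ O.ι ≫ _ ≫ V.hom = _ ≫ O.ι ≫ V.hom
      rw [AffineSpace.map_over_assoc])
    have hμp : μ ≫ pV = pO ≫ ιO := Over.OverMorphism.ext (AffineSpace.map_over _)
    have hμ : AlgSp.RepWith @IsOpenImmersion ((AlgSp.yon S).map μ) := (AlgSp.repWith_yon_map_iff _ _).2
      (MorphismProperty.of_isPullback (P := @IsOpenImmersion) (AffineSpace.isPullback_map (n := ULift.{u} (Fin n)) O.ι).flip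
        (inferInstance : IsOpenImmersion O.ι))
    have hw : (AlgSp.yon S).map pO ≫ (AlgSp.yon S).map ιO ≫ p = (AlgSp.yon S).map μ ≫ (AlgSp.yon S).map pV ≫ p := by
      rw [← Functor.map_comp_assoc, ← hμp, Functor.map_comp_assoc]
    let m := pullback.lift (f := f.hom) (g := (AlgSp.yon S).map pV ≫ p)
      (pullback.fst f.hom ((AlgSp.yon S).map pO ≫ (AlgSp.yon S).map ιO ≫ p))
      (pullback.snd f.hom ((AlgSp.yon S).map pO ≫ (AlgSp.yon S).map ιO ≫ p) ≫ (AlgSp.yon S).map μ)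
      (by rw [Category.assoc, ← hw]; exact pullback.condition)
    refine Groth.Agent.AlgSpB.Art.isClosedMap_restrict (m := m) ?_ hμ (H n)
    refine IsPullback.of_right ?_ (pullback.lift_snd _ _ _) (IsPullback.of_hasPullback f.hom ((AlgSp.yon S).map pV ≫ p))
    rw [pullback.lift_fst, ← hw]
    exact IsPullback.of_hasPullback _ _
  have hw : (AlgSp.yon S).map k' ≫ (AlgSp.yon S).map ιO ≫ p = (AlgSp.yon S).map j ≫ (AlgSp.yon S).map k ≫ p := by
    rw [← Functor.map_comp_assoc, hk, Functor.map_comp_assoc]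
  let m := big.lift (pullback.fst f.hom ((AlgSp.yon S).map k' ≫ (AlgSp.yon S).map ιO ≫ p))
    (pullback.snd f.hom _ ≫ (AlgSp.yon S).map j) (by rw [Category.assoc, ← hw]; exact pullback.condition)
  have sqm : IsPullback m (pullback.snd f.hom ((AlgSp.yon S).map k' ≫ (AlgSp.yon S).map ιO ≫ p)) snd
      ((AlgSp.yon S).map j) :=
    IsPullback.of_right (by rw [big.lift_fst, ← hw]; exact IsPullback.of_hasPullback _ _) (big.lift_snd _ _ _) big
  have hE := (AlgSp.Points.schemeHomeo ZO).isClosed_preimage.2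
    (hclosed _ (hC.preimage (AlgSp.Points.continuous_map m)))
  have : IsOpenImmersion j.left := inferInstanceAs (IsOpenImmersion Z'.ι)
  refine ⟨j.left '' (AlgSp.Points.schemeHomeo ZO ⁻¹' (AlgSp.Points.map (pullback.snd f.hom ((AlgSp.yon S).map k' ≫ (AlgSp.yon S).map ιO ≫ p)) '' (AlgSp.Points.map m ⁻¹' C)))ᶜ, ?_,
    j.left.isOpenEmbedding.isOpenMap _ hE.isOpen_compl, ⟨(⟨z, hzZ'⟩ : Z'.toScheme), ?_, rfl⟩⟩
  · rintro _ ⟨w, hw', rfl⟩ ⟨c, hc, hcw⟩
    obtain ⟨d, hd1, hd2⟩ := Groth.Agent.AlgSpB.exists_of_isPullback sqm c (AlgSp.Points.schemeHomeo ZO w)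
      (hcw.trans (AlgSp.Points.map_yon_map_apply j w).symm)
    exact hw' ⟨d, show AlgSp.Points.map m d ∈ C by rw [hd1]; exact hc, hd2⟩
  · rintro ⟨d, hd, hdz⟩
    refine hz ⟨_, hd, ?_⟩
    rw [← AlgSp.Points.map_comp, sqm.w, AlgSp.Points.map_comp, hdz]
    exact AlgSp.Points.map_yon_map_apply j _

/-- For a quasi-compact morphism `f : X ⟶ Y` of algebraic spaces over `S` these conditions are
equivalent: (1) `f` is universally closed; (2) for every `Z ⟶ Y` locally of finite presentation,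
with `Z` an algebraic space, the map `|X ×_Y Z| → |Z|` is closed; (3) for some scheme `V` with a
surjective etale morphism `V ⟶ Y`, the maps `|X ×_Y 𝐀^n_V| → |𝐀^n_V|` are closed for all `n`. Stated
as (1) ↔ (2) and (1) ↔ (3). -/
theorem result (S : Scheme.{u}) {X Y : AlgSp.Space S} (f : X ⟶ Y)
    (hqc : AlgSp.IsQuasiCompactMor f.hom) :
    (AlgSp.IsUnivClosedMor f.hom ↔
      ∀ (Z : AlgSp.Space S) (g : Z ⟶ Y), AlgSp.LocP @LocallyOfFinitePresentation g.hom →
        ∀ (P : AlgSp.Sp S) (fst : P ⟶ X.obj) (snd : P ⟶ Z.obj), IsPullback fst snd f.hom g.hom →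
          IsClosedMap (AlgSp.Points.map snd)) ∧
    (AlgSp.IsUnivClosedMor f.hom ↔
      ∃ (V : Over S) (p : (AlgSp.yon S).obj V ⟶ Y.obj), AlgSp.RepWith @Etale p ∧ AlgSp.RepWith @Surjective p ∧
        ∀ (n : ℕ) (P : AlgSp.Sp S) (fst : P ⟶ X.obj)
          (snd : P ⟶ (AlgSp.yon S).obj (Over.mk ((𝔸(ULift.{u} (Fin n); V.left) ↘ V.left) ≫ V.hom))),
          IsPullback fst snd f.hom ((AlgSp.yon S).map (Over.homMk (𝔸(ULift.{u} (Fin n); V.left) ↘ V.left)) ≫ p) →
            IsClosedMap (AlgSp.Points.map snd)) := by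
  have h12 : AlgSp.IsUnivClosedMor f.hom → ∀ (Z : AlgSp.Space S) (g : Z ⟶ Y),
      AlgSp.LocP @LocallyOfFinitePresentation g.hom →
        ∀ (P : AlgSp.Sp S) (fst : P ⟶ X.obj) (snd : P ⟶ Z.obj), IsPullback fst snd f.hom g.hom →
          IsClosedMap (AlgSp.Points.map snd) := fun h Z g _ P fst snd sq => h Z.property g.hom fst snd sq
  have h31 : (∃ (V : Over S) (p : (AlgSp.yon S).obj V ⟶ Y.obj), AlgSp.RepWith @Etale p ∧ AlgSp.RepWith @Surjective p ∧
        ∀ (n : ℕ) (P : AlgSp.Sp S) (fst : P ⟶ X.obj)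
          (snd : P ⟶ (AlgSp.yon S).obj (Over.mk ((𝔸(ULift.{u} (Fin n); V.left) ↘ V.left) ≫ V.hom))),
          IsPullback fst snd f.hom ((AlgSp.yon S).map (Over.homMk (𝔸(ULift.{u} (Fin n); V.left) ↘ V.left)) ≫ p) →
            IsClosedMap (AlgSp.Points.map snd)) → AlgSp.IsUnivClosedMor f.hom := fun ⟨V, p, hpe, hps, h⟩ =>
    univClosed_of_affineSpaces f hqc V p hpe hps fun n => h n _ _ _ (IsPullback.of_hasPullback _ _)
  refine ⟨⟨h12, fun h => ?_⟩, ⟨fun h => ?_, h31⟩⟩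
  · obtain ⟨V, p, hpe, hps⟩ := Y.property.atlas
    refine h31 ⟨V, p, hpe, hps, fun n P fst snd sq => ?_⟩
    refine h ((AlgSp.ofScheme S).obj _) (ObjectProperty.homMk _)
      (Groth.Agent.AlgSpCov.locP_of_repWith Groth.Agent.AlgSpCov.etaleLocal_locallyOfFinitePresentation ?_) P fst snd sq
    refine (AlgSp.RepWith @LocallyOfFinitePresentation : MorphismProperty (AlgSp.Sp S)).comp_mem _ _
      ((AlgSp.repWith_yon_map_iff _ _).2 ?_)
      (Groth.Agent.AlgSp.repWith_mono (Q := @LocallyOfFinitePresentation)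
        (fun g (hg : Etale g) => (inferInstance : LocallyOfFinitePresentation g)) hpe)
    exact (inferInstance : LocallyOfFinitePresentation (𝔸(ULift.{u} (Fin n); V.left) ↘ V.left))
  · obtain ⟨V, p, hpe, hps⟩ := Y.property.atlas
    exact ⟨V, p, hpe, hps, fun n P fst snd sq => h (AlgSp.IsAlgSpace.yon_obj _) _ fst snd sq⟩

end Groth.Agent.S10053
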