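import Groth.Statements.S9798
import Groth.Agent.Props.DimZero
import Mathlib.AlgebraicGeometry.Noetherian
-- import your own Groth.Agent.* helpers here

set_option autoImplicit false
universe u
open CategoryTheory AlgebraicGeometry TopologicalSpace
open Props

namespace Groth.Agent.S9798

/-- A point of a locally Noetherian scheme has local dimension zero exactly when it is isolated. -/
theorem result (X : Scheme.{u}) [IsLocallyNoetherian X] (x : X) :
    FlatMor.localDim X x = 0 ↔ IsOpen ({x} : Set X) := by
  constructor
  · intro h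
    obtain ⟨⟨U, hxU⟩, hU⟩ : ∃ U : {U : TopologicalSpace.Opens X // x ∈ U},
        topologicalKrullDim (U.1 : Set X) = FlatMor.localDim X x := by
      haveI : Nonempty {U : TopologicalSpace.Opens X // x ∈ U} := ⟨⟨⊤, trivial⟩⟩
      exact ciInf_mem _
    haveI : T1Space (U : Set X) :=
      Props.DimZero.t1Space_of_topologicalKrullDim_le_zero (hU.trans h).le
    obtain ⟨_, ⟨V, hV, rfl⟩, hxV, hVU⟩ :=
      X.isBasis_affineOpens.exists_subset_of_mem_open (show x ∈ U from hxU) U.2
    haveI : T1Space (V : Set X) := (Topology.IsEmbedding.inclusion hVU).t1Space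
    haveI := IsLocallyNoetherian.component_noetherian (X := X) ⟨V, hV⟩
    haveI : TopologicalSpace.NoetherianSpace (V : Set X) := noetherianSpace_of_isAffineOpen V hV
    haveI : QuasiSober (V : Set X) := V.2.isOpenEmbedding_subtypeVal.quasiSober
    -- a Noetherian sober `T1` space is finite
    obtain ⟨F, hFf, hFc, hFirr, hFu⟩ :=
      TopologicalSpace.NoetherianSpace.exists_finite_set_isClosed_irreducible
        (α := (V : Set X)) (s := Set.univ) isClosed_univ
    haveI : Finite (V : Set X) := by
      refine Set.finite_univ_iff.mp ((hFf.biUnion (t := id) fun t ht => ?_).subset ?_)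
      · have hg := (hFirr t ht).isGenericPoint_genericPoint (hFc t ht)
        refine (Set.finite_singleton (hFirr t ht).genericPoint).subset fun y hy => ?_
        exact (hg.specializes hy).eq.symm
      · rw [hFu, Set.sUnion_eq_biUnion]; rfl
    convert! V.2.isOpenMap_subtype_val _ (isOpen_discrete ({⟨x, hxV⟩} : Set (V : Set X)))
    simp
  · intro h
    let W : {U : TopologicalSpace.Opens X // x ∈ U} := ⟨⟨{x}, h⟩, rfl⟩
    haveI : Subsingleton ((W.1 : Set X)) := ⟨fun a b => Subtype.ext (a.2.trans b.2.symm)⟩
    refine le_antisymm ?_ (le_iInf fun U => ?_)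
    · refine (iInf_le _ W).trans (Order.krullDim_nonpos_iff_forall_isMax.mpr fun A B hAB => ?_)
      intro b hb
      obtain ⟨a, ha⟩ := A.isIrreducible.nonempty
      exact Subsingleton.elim a b ▸ ha
    · haveI : Nonempty (TopologicalSpace.IrreducibleCloseds (U.1 : Set X)) :=
        ⟨⟨closure {⟨x, U.2⟩}, isIrreducible_singleton.closure, isClosed_closure⟩⟩
      exact Order.krullDim_nonneg

end Groth.Agent.S9798
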