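import Groth.Statements.S10286
-- import your own Groth.Agent.* helpers here

set_option autoImplicit false
universe u
open CategoryTheory CategoryTheory.Limits AlgebraicGeometry
open AlgSp

namespace Groth.Agent.S10286

/-- The existence and uniqueness parts of the valuative criterion are stable under base change. -/
theorem result {S : Scheme.{u}} {X Y Z X' : AlgSp.Space S} (f : X ⟶ Y) (g : Z ⟶ Y)
    (fst : X' ⟶ X) (f' : X' ⟶ Z) (sq : IsPullback fst.hom f'.hom f.hom g.hom) :
    (AlgSp.ExistVC f.hom → AlgSp.ExistVC f'.hom) ∧ (AlgSp.UniqVC f.hom → AlgSp.UniqVC f'.hom) := by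
  refine ⟨fun hf s => ?_, fun hf s l l' h1 h2 h1' h2' => ?_⟩
  · let sf : AlgSp.ValSq f.hom :=
      { A := s.A, K := s.K, str := s.str, top := s.top ≫ fst.hom, bot := s.bot ≫ g.hom
        comm := by rw [Category.assoc, sq.w, ← Category.assoc, s.comm, Category.assoc] }
    obtain ⟨e, l, hl, hl'⟩ := hf sf
    refine ⟨{ A' := e.A', K' := e.K', φ := e.φ, ψ := e.ψ, comm := e.comm, isLocalHom := e.isLocalHom },
      sq.lift l ((AlgSp.yon S).map
        (Over.homMk (Spec.map (CommRingCat.ofHom e.φ)) rfl : e.ptA' ⟶ sf.ptA) ≫ s.bot) ?_, ?_, ?_⟩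
    · rw [Category.assoc]; exact hl'
    · apply sq.hom_ext
      · rw [Category.assoc, sq.lift_fst, Category.assoc]; exact hl
      · rw [Category.assoc, sq.lift_snd, Category.assoc, s.comm]
        rw [← Functor.map_comp_assoc, ← Functor.map_comp_assoc]
        congr 2
        ext1
        simp [sf, ← Spec.map_comp, ← CommRingCat.ofHom_comp, e.comm]
    · exact sq.lift_snd _ _ _
  · let sf : AlgSp.ValSq f.hom :=
      { A := s.A, K := s.K, str := s.str, top := s.top ≫ fst.hom, bot := s.bot ≫ g.hom
        comm := by rw [Category.assoc, sq.w, ← Category.assoc, s.comm, Category.assoc] }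
    apply sq.hom_ext
    · refine hf sf _ _ ?_ ?_ ?_ ?_
      · rw [← Category.assoc]; exact congrArg (· ≫ fst.hom) h1
      · rw [Category.assoc, sq.w, ← Category.assoc, h2]
      · rw [← Category.assoc]; exact congrArg (· ≫ fst.hom) h1'
      · rw [Category.assoc, sq.w, ← Category.assoc, h2']
    · rw [h2, h2']

end Groth.Agent.S10286
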