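import Groth.Statements.S10341
import Groth.Agent.AlgSpD.Decent

set_option autoImplicit false
universe u
open CategoryTheory CategoryTheory.Limits AlgebraicGeometry Topology TopologicalSpace
open AlgSp

namespace Groth.Agent.S10341

/-- Let X be an algebraic space over a scheme S and x a point of |X| such that for every affine scheme V
and every representable etale h_V ⟶ X the fibre of |V| → |X| over x is finite. If a : h_U ⟶ X is
representable etale from a scheme U and u, u' are points of U over x with u' specializing to u, then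
u = u'. -/
theorem result {S : Scheme.{u}} (X : AlgSp.Space S) (x : AlgSp.Points X.obj)
    (hx : ∀ (V : Over S) (b : (AlgSp.yon S).obj V ⟶ X.obj), IsAffine V.left → AlgSp.RepWith @Etale b →
      (AlgSp.Points.ofPt b ⁻¹' {x}).Finite)
    {U : Over S} (a : (AlgSp.yon S).obj U ⟶ X.obj) (ha : AlgSp.RepWith @Etale a) (u u' : ↥U.left)
    (hu : AlgSp.Points.ofPt a u = x) (hu' : AlgSp.Points.ofPt a u' = x) (hs : u' ⤳ u) : u = u' := by
  by_contra hne
  obtain ⟨W, hW, huW, -⟩ := exists_isAffineOpen_mem_and_subset (x := u) (U := ⊤) trivial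
  let E : Set ↥U.left := {v | AlgSp.Points.ofPt a v = x ∧ v ⤳ u ∧ v ≠ u}
  have hE : E.Finite := by
    let W' : Over S := Over.mk (W.ι ≫ U.hom)
    let c : W' ⟶ U := Over.homMk W.ι rfl
    have : IsAffine W'.left := hW
    have : Etale c.left := inferInstanceAs (Etale W.ι)
    refine ((hx W' _ inferInstance (AlgSpB.repWith_etale_map_comp c ha)).image c.left).subset ?_
    rintro v ⟨hv, hvu, -⟩
    have hvW : v ∈ W := hvu.mem_open W.2 huW
    refine ⟨⟨v, hvW⟩, ?_, rfl⟩
    change AlgSp.Points.ofPt ((AlgSp.yon S).map c ≫ a) _ = x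
    rw [AlgSpB.ofPt_map_comp]
    exact hv
  obtain ⟨v, ⟨hv, hvu, hvne⟩, hmax⟩ := hE.exists_maximal ⟨u', hu', hs, fun h => hne h.symm⟩
  obtain ⟨R, s, t, r, sq, hp, hq, hr, hr'⟩ := AlgSpD.exists_common_chart ha ha (hu.trans hv.symm)
  obtain ⟨r', hr1, hr2⟩ := Flat.generalizingMap s.left (show v ⤳ s.left r by rw [hr]; exact hvu)
  have hsp : t.left r' ⤳ v := hr' ▸ hr1.map t.left.continuous
  have hw : AlgSp.Points.ofPt a (t.left r') = x := by
    rw [← (AlgSpB.ofPt_eq_ofPt_iff sq _ _).2 ⟨r', rfl, rfl⟩, hr2, hv]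
  have hne' : t.left r' ≠ v := fun h => hvne (by
    have := AlgSpD.locallyQuasiFinite_of_etale t.left
    have h' := AlgSpD.eq_of_specializes_of_apply_eq t.left hr1 (h.trans hr'.symm)
    rw [← hr2, h', hr])
  have hmem : t.left r' ∈ E := ⟨hw, hsp.trans hvu, fun h => hvne
    ((hvu.antisymm (h ▸ hsp)).eq)⟩
  exact hne' ((Specializes.antisymm hsp (hmax hmem hsp)).eq)

end Groth.Agent.S10341
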