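import Groth.Statements.S10343
import Groth.Agent.AlgSpD.Decent
import Groth.Agent.SchPoints.Basic

set_option autoImplicit false
universe u
open CategoryTheory CategoryTheory.Limits AlgebraicGeometry Topology TopologicalSpace
open AlgSp

namespace Groth.Agent.S10343

/-- Let X be an algebraic space over a scheme S and x' ⤳ x a specialization in |X|, where x' is
represented by a monomorphism Spec k ⟶ X which is representable quasi-compact. Then for every
representable etale a : h_U ⟶ X from a scheme U and every point u of U over x there is a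
generization u' of u in U mapping to x'. -/
theorem result {S : Scheme.{u}} (X : AlgSp.Space S) (x x' : AlgSp.Points X.obj)
    (h : x' ⤳ x)
    (hx' : ∃ p : AlgSp.FieldPt X.obj, AlgSp.Points.mk p = x' ∧ Mono p.toHom ∧ AlgSp.RepWith @QuasiCompact p.toHom)
    {U : Over S} (a : (AlgSp.yon S).obj U ⟶ X.obj) (ha : AlgSp.RepWith @Etale a) (u : ↥U.left)
    (hu : AlgSp.Points.ofPt a u = x) :
    ∃ u' : ↥U.left, u' ⤳ u ∧ AlgSp.Points.ofPt a u' = x' := by
  obtain ⟨p, rfl, -, hq⟩ := hx'
  obtain ⟨P, fst, snd, sq⟩ := AlgSpB.exists_pullback_yon hq.1 a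
  have : QuasiCompact snd.left := hq.2 _ _ _ sq
  have key : ∀ z : ↥P.left, AlgSp.Points.ofPt a (snd.left z) = AlgSp.Points.mk p := fun z =>
    ((AlgSpB.ofPt_eq_ofPt_iff sq (fst.left z) _).2 ⟨z, rfl, rfl⟩).symm.trans (AlgSp.Points.ofPt_toHom p _)
  have hmem : u ∈ closure (Set.range snd.left) := by
    rw [mem_closure_iff]
    intro O hO huO
    obtain ⟨v, hvO, hv⟩ := h.mem_open (AlgSpB.isOpenMap_ofPt ha _ hO) ⟨u, huO, hu⟩
    obtain ⟨z, -, hz⟩ := (AlgSpB.ofPt_eq_ofPt_iff sq (IsLocalRing.closedPoint p.K) v).1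
      ((AlgSp.Points.ofPt_toHom p _).trans hv.symm)
    exact ⟨v, hvO, z, hz⟩
  obtain ⟨z, hz⟩ := SchPoints.exists_specializes_of_mem_closure_range snd.left hmem
  exact ⟨snd.left z, hz, key z⟩

end Groth.Agent.S10343
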