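import Groth.Statements.S10338
import Groth.Agent.AlgSpD.Decent
import Groth.Agent.S10340
import Groth.Agent.S10343

set_option autoImplicit false
universe u
open CategoryTheory CategoryTheory.Limits AlgebraicGeometry Topology TopologicalSpace
open AlgSp

namespace Groth.Agent.S10338

/-- For a decent algebraic space X over a scheme S the topological space |X| is Kolmogorov (T0). -/
theorem result {S : Scheme.{u}} (X : AlgSp.Space S) (hX : AlgSp.IsDecent X.obj) :
    T0Space (AlgSp.Points X.obj) := by
  refine t0Space_iff_inseparable _ |>.2 fun x x' hxx => ?_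
  obtain ⟨U, a, ha, has⟩ := X.property.atlas
  obtain ⟨u, hu⟩ := AlgSpB.surjective_ofPt has x
  obtain ⟨u', h1, hu'⟩ := S10343.result X x x' hxx.specializes' (hX x') a ha u hu
  obtain ⟨u'', h2, hu''⟩ := S10343.result X x' x hxx.specializes (hX x) a ha u' hu'
  have e : u = u'' := S10340.result X hX a ha u u'' (hu.trans hu''.symm) (h2.trans h1)
  subst e
  rw [← hu, ← hu', (h1.antisymm h2).eq]

end Groth.Agent.S10338
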