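import Groth.Statements.S10201
import Groth.Agent.S10338
import Groth.Agent.S10339
import Groth.Agent.S10350
import Groth.Agent.AlgSp.QCMor

set_option autoImplicit false
universe u
open CategoryTheory CategoryTheory.Limits AlgebraicGeometry Topology TopologicalSpace
open AlgSp

namespace Groth.Agent.S10201

/-- Let S be a quasi-separated scheme and X a quasi-compact algebraic space over S whose diagonal over S
is quasi-compact. Then |X| is a spectral space. (The published statement assumes X quasi-separated
in the absolute sense; over a quasi-separated base that is the same as quasi-separated over S, while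
for S quasi-compact and not quasi-separated the space h_S is quasi-compact with quasi-compact
diagonal over S and |h_S| = |S| is not spectral.) -/
theorem result {S : Scheme.{u}} [QuasiSeparatedSpace ↥S]
    (X : AlgSp.Space S) (hqc : AlgSp.IsQuasiCompactSp X.obj) (hqs : AlgSp.IsQuasiSeparatedSp X.obj) :
    SpectralSpace (AlgSp.Points X.obj) := by
  have hd : AlgSp.IsDecent X.obj := Groth.Agent.S10350.result X hqs
  have : CompactSpace (AlgSp.Points X.obj) := Groth.Agent.AlgSp.compactSpace_points hqc
  have : QuasiSober (AlgSp.Points X.obj) := Groth.Agent.S10339.result X hd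
  have : T0Space (AlgSp.Points X.obj) := Groth.Agent.S10338.result X hd
  obtain ⟨U₀, p, hp, hps⟩ := X.property.atlas
  obtain ⟨U, g, hU, ha, has⟩ := Groth.Agent.AlgSpB.exists_affine_chart_of_compactSpace hp hps
  let a := (AlgSp.yon S).map g ≫ p
  have hqm : AlgSp.IsQuasiCompactMor a := Groth.Agent.AlgSp.isQuasiCompactMor_of_quasiCompactSp
    (AlgSp.IsAlgSpace.yon_obj U) X.property a (Groth.Agent.AlgSp.isQuasiCompactSp_yon U) hqs
  have hpre : ∀ K : Set (AlgSp.Points X.obj), IsOpen K → IsCompact K → IsCompact (AlgSp.Points.ofPt a ⁻¹' K) := by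
    intro K hK hKc
    have := Groth.Agent.AlgSp.isCompact_preimage X.property a hqm K hK hKc
    rw [show AlgSp.Points.ofPt a = AlgSp.Points.map a ∘ AlgSp.Points.schemeHomeo U from
      funext fun u => AlgSp.Points.ofPt_eq_map_ofScheme a u, Set.preimage_comp]
    exact (AlgSp.Points.schemeHomeo U).isCompact_preimage.2 this
  have : PrespectralSpace (AlgSp.Points X.obj) := ⟨TopologicalSpace.isTopologicalBasis_of_isOpen_of_nhds
    (fun _ h => h.1) fun x W hx hW => by
      obtain ⟨V, h1, h2, h3, h4⟩ := Groth.Agent.AlgSpB.exists_isOpen_isCompact_nhd ha has x W hW hx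
      exact ⟨V, ⟨h1, h2⟩, h3, h4⟩⟩
  have : QuasiSeparatedSpace (AlgSp.Points X.obj) := ⟨fun K L hK hKc hL hLc => by
    have hc : Continuous (AlgSp.Points.ofPt a) := AlgSp.Points.continuous_ofPt a
    rw [← Set.image_preimage_eq (K ∩ L) (Groth.Agent.AlgSpB.surjective_ofPt has)]
    exact (QuasiSeparatedSpace.inter_isCompact _ _ (hK.preimage hc) (hpre K hK hKc) (hL.preimage hc)
      (hpre L hL hLc)).image hc⟩
  exact {}

end Groth.Agent.S10201
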