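import Groth.Statements.S10356
import Groth.Agent.S10373
import Groth.Agent.AlgSpB.Open

set_option autoImplicit false
universe u
open CategoryTheory CategoryTheory.Limits AlgebraicGeometry Topology TopologicalSpace
open AlgSp

namespace Groth.Agent.S10356

/-- A reduced decent algebraic space X over a scheme S whose space of points is a single point is
isomorphic to h_{Spec k} for a field k over S. -/
theorem result {S : Scheme.{u}} (X : AlgSp.Space S)
    (hX : AlgSp.IsDecent X.obj) (hr : AlgSp.EtaleLocally (fun U => IsReduced U) X.obj)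
    [Nonempty (AlgSp.Points X.obj)] [Subsingleton (AlgSp.Points X.obj)] :
    ∃ (k : Type u) (_ : Field k) (str : Spec (CommRingCat.of k) ⟶ S),
      Nonempty ((AlgSp.yon S).obj (Over.mk str) ≅ X.obj) := by
  obtain ⟨x⟩ := ‹Nonempty (AlgSp.Points X.obj)›
  obtain ⟨p, hp, hm, hq⟩ := hX x
  obtain ⟨g, hg⟩ := S10373.result (𝟙 X) x p hp hm hq hr (fun _ => Subsingleton.elim _ _)
  refine ⟨p.K, p.field, p.str, ⟨{ hom := p.toHom, inv := g, hom_inv_id := ?_, inv_hom_id := hg }⟩⟩
  have := hm
  rw [← cancel_mono p.toHom, Category.assoc, hg]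
  exact (Category.comp_id _).trans (Category.id_comp _).symm

end Groth.Agent.S10356
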