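import Groth.Statements.S9991
import Groth.Agent.AlgSpQC.ClosedImm
-- import your own Groth.Agent.* helpers here

set_option autoImplicit false
universe u
open CategoryTheory CategoryTheory.Limits AlgebraicGeometry Opposite
open AlgSp

set_option backward.isDefEq.respectTransparency.types false

namespace Groth.Agent.S9991

/-- For a closed immersion i : Z ⟶ X of algebraic spaces over S cut out by the sheaf of ideals I, the
direct image i_* sends every O_Z-module to an O_X-module annihilated by I, and every quasi-coherent
O_X-module annihilated by I is isomorphic to i_* G for some quasi-coherent O_Z-module G. (The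
published statement also records that i_* carries quasi-coherent modules to quasi-coherent modules
and is exact and fully faithful on them; the first is the closed-immersion case of the fact that
direct images along quasi-compact quasi-separated morphisms preserve quasi-coherence, full
faithfulness follows from the adjunction map i^* i_* G ⟶ G being an isomorphism, and none of these
clauses is restated here.) -/
theorem result {S : Scheme.{u}} {Z X : AlgSp.Space S} (i : Z ⟶ X)
    (hi : AlgSp.RepWith @IsClosedImmersion i.hom) (I : AlgSp.IdealEt X.obj) (hZ : AlgSp.IsCutOutBy I i.hom) :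
    (∀ (G : AlgSp.ModEt Z.obj) (E : AlgSp.EtOver X.obj) (hE : IsAffine E.obj.left.left)
        (s : AlgSp.sectModEt ((AlgSp.pushModEt hi.1).obj G) E), I.ideal E hE ≤ AlgSp.annSect s) ∧
      ∀ F : AlgSp.ModEt X.obj, F.IsQuasicoherent →
        (∀ (E : AlgSp.EtOver X.obj) (hE : IsAffine E.obj.left.left) (s : AlgSp.sectModEt F E),
            I.ideal E hE ≤ AlgSp.annSect s) →
          ∃ G : AlgSp.ModEt Z.obj, G.IsQuasicoherent ∧ Nonempty ((AlgSp.pushModEt hi.1).obj G ≅ F) := by
  refine ⟨fun G E hE s => Groth.Agent.AlgSpQC.annihilated_push hi I hZ G E hE s, fun F hF hann => ?_⟩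
  haveI := hF
  haveI := Groth.Agent.AlgSpQC.isIso_pullUnit hi I hZ hann
  exact ⟨Groth.Agent.AlgSpQC.pullQC hi.1 F, Groth.Agent.AlgSpQC.isQuasicoherent_pullQC hi.1 F,
    ⟨(asIso (Groth.Agent.AlgSpQC.pullUnit hi.1 F)).symm⟩⟩

end Groth.Agent.S9991
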