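import Groth.Statements.S10583
import Groth.Agent.AlgSpCov.ThickTopo
import Groth.Agent.AlgSpB.Open
set_option backward.isDefEq.respectTransparency.types false

set_option autoImplicit false
universe u
open CategoryTheory CategoryTheory.Limits AlgebraicGeometry
open AlgSp

namespace Groth.Agent.S10583

/-- Let i : X ⟶ X' be a thickening of algebraic spaces (representable, every base change to a scheme a
surjective closed immersion) and let u : U ⟶ X be an open immersion. Then there is an open immersion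
u' : U' ⟶ X' with U = X ×_{X'} U' (a pullback square), and any two open subspaces of X' with this
property are isomorphic over X'. -/
theorem result {S : Scheme.{u}} {X X' U : AlgSp.Space S} (i : X ⟶ X')
    (hi : AlgSp.IsThickMor i.hom)
    (u : U ⟶ X) (hu : AlgSp.RepWith @IsOpenImmersion u.hom) :
    (∃ (U' : AlgSp.Space S) (u' : U' ⟶ X') (k : U ⟶ U'),
      AlgSp.RepWith @IsOpenImmersion u'.hom ∧ IsPullback u.hom k.hom i.hom u'.hom) ∧
    (∀ (U₁ U₂ : AlgSp.Space S) (u₁ : U₁ ⟶ X') (u₂ : U₂ ⟶ X') (k₁ : U ⟶ U₁) (k₂ : U ⟶ U₂),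
      AlgSp.RepWith @IsOpenImmersion u₁.hom → IsPullback u.hom k₁.hom i.hom u₁.hom →
      AlgSp.RepWith @IsOpenImmersion u₂.hom → IsPullback u.hom k₂.hom i.hom u₂.hom →
      ∃ e : U₁ ≅ U₂, e.hom ≫ u₂ = u₁) := by
  have hh := Groth.Agent.AlgSpCov.ThickTopo.isHomeomorph_map X.property X'.property hi
  have hrange : ∀ {U' P : AlgSp.Sp S} {u' : U' ⟶ X'.obj} {q : P ⟶ X.obj} {k : P ⟶ U'},
      IsPullback q k i.hom u' → Set.range (AlgSp.Points.map q) =
        AlgSp.Points.map i.hom ⁻¹' Set.range (AlgSp.Points.map u') := by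
    intro U' P u' q k h
    ext x
    constructor
    · rintro ⟨y, rfl⟩
      exact ⟨AlgSp.Points.map k y, by rw [← AlgSp.Points.map_comp, ← h.w, AlgSp.Points.map_comp]⟩
    · rintro ⟨y, hy⟩
      obtain ⟨p, hp, -⟩ := Groth.Agent.AlgSpB.exists_of_isPullback h x y hy.symm
      exact ⟨p, hp⟩
  refine ⟨?_, fun U₁ U₂ u₁ u₂ k₁ k₂ h₁ s₁ h₂ s₂ => ?_⟩
  · obtain ⟨U', u', hu', hr⟩ := Groth.Agent.AlgSpB.exists_openSubspace X'
      (hh.isOpenMap _ (Groth.Agent.AlgSpB.isOpen_range_of_isOpenImmersion hu))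
    have := Groth.Agent.AlgSpB.mono_of_isOpenImmersion hu
    have sq := IsPullback.of_hasPullback i.hom u'.hom
    have hq : AlgSp.RepWith @IsOpenImmersion (pullback.fst i.hom u'.hom) :=
      Groth.Agent.AlgSpCov.repWith_bc sq.flip hu'
    have := Groth.Agent.AlgSpB.mono_of_isOpenImmersion hq
    have e : Set.range (AlgSp.Points.map (pullback.fst i.hom u'.hom)) = Set.range (AlgSp.Points.map u.hom) := by
      rw [hrange sq, hr, Set.preimage_image_eq _ hh.injective]
    obtain ⟨l, hl⟩ := (Groth.Agent.AlgSpB.exists_factor_isOpenImmersion_iff hq u.hom).2 e.ge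
    obtain ⟨l', hl'⟩ := (Groth.Agent.AlgSpB.exists_factor_isOpenImmersion_iff hu (pullback.fst i.hom u'.hom)).2 e.le
    have : IsIso l := ⟨l', by rw [← cancel_mono u.hom, Category.assoc, hl', hl, Category.id_comp],
      by rw [← cancel_mono (pullback.fst i.hom u'.hom), Category.assoc, hl, hl', Category.id_comp]⟩
    refine ⟨U', u', ObjectProperty.homMk (l ≫ pullback.snd i.hom u'.hom), hu', ?_⟩
    exact sq.of_iso (asIso l).symm (Iso.refl _) (Iso.refl _) (Iso.refl _) (by simp [← hl])
      (by simp) (by simp) (by simp)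
  · have := Groth.Agent.AlgSpB.mono_of_isOpenImmersion h₁
    have := Groth.Agent.AlgSpB.mono_of_isOpenImmersion h₂
    have e : Set.range (AlgSp.Points.map u₁.hom) = Set.range (AlgSp.Points.map u₂.hom) :=
      hh.surjective.preimage_injective ((hrange s₁).symm.trans (hrange s₂))
    obtain ⟨l, hl⟩ := (Groth.Agent.AlgSpB.exists_factor_isOpenImmersion_iff h₂ u₁.hom).2 e.le
    obtain ⟨l', hl'⟩ := (Groth.Agent.AlgSpB.exists_factor_isOpenImmersion_iff h₁ u₂.hom).2 e.ge
    exact ⟨⟨ObjectProperty.homMk l, ObjectProperty.homMk l',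
      ObjectProperty.hom_ext _ (by
        change l ≫ l' = 𝟙 _
        rw [← cancel_mono u₁.hom, Category.assoc, hl', hl, Category.id_comp]),
      ObjectProperty.hom_ext _ (by
        change l' ≫ l = 𝟙 _
        rw [← cancel_mono u₂.hom, Category.assoc, hl, hl', Category.id_comp])⟩,
      ObjectProperty.hom_ext _ hl⟩

end Groth.Agent.S10583
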