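import Groth.Statements.S10033
import Groth.Agent.AlgSpSpec.Stages
-- import your own Groth.Agent.* helpers here

set_option autoImplicit false
set_option backward.isDefEq.respectTransparency false
set_option backward.isDefEq.respectTransparency.types false
universe u
open CategoryTheory CategoryTheory.Limits AlgebraicGeometry
open AlgSp

namespace Groth.Agent.S10033

/-- Let `Y` be an algebraic space, quasi-compact and quasi-separated over the scheme `S`, and `f : X ⟶
Y` an integral morphism from another algebraic space. Then `X` is the limit of a directed system of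
algebraic spaces `X_i`, each finite and of finite presentation over `Y` (limit in fppf sheaves,
indexed by a nonempty directed preorder, affine transition maps, compatible with `f`). (The
published statement allows any base scheme and uses absolute quasi-separatedness; this row assumes
the base quasi-separated, over which quasi-separatedness relative to the base is the absolute
notion.) -/
theorem result (S : Scheme.{u}) [QuasiSeparatedSpace S]
    {X Y : AlgSp.Space S} (f : X ⟶ Y) (hf : AlgSp.IsIntegralMor f.hom) (hYqc : AlgSp.IsQuasiCompactSp Y.obj) (hYqs : AlgSp.IsQuasiSeparatedSp Y.obj) :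
    ∃ (I : Type u) (_ : Preorder I) (_ : IsDirected I (fun a b => a ≤ b)) (_ : Nonempty I) (D : Iᵒᵖ ⥤ AlgSp.Sp S)
      (t : D ⟶ (Functor.const Iᵒᵖ).obj Y.obj) (c : Cone D) (_ : IsLimit c) (e : c.pt ≅ X.obj),
      (∀ i, AlgSp.IsAlgSpace (D.obj i)) ∧ (∀ (i j : Iᵒᵖ) (φ : i ⟶ j), AlgSp.IsAffineMor (D.map φ)) ∧
      (∀ i, AlgSp.IsFiniteMor (t.app i) ∧ AlgSp.IsFinitePresentationMor (t.app i)) ∧ (∀ i, e.inv ≫ c.π.app i ≫ t.app i = f.hom) := by
  have haff : AlgSp.IsAffineMor f.hom := fun Z hZ g => by
    obtain ⟨W, i, fst, h, hW, -⟩ := hf hZ g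
    exact ⟨W, i, fst, h, hW⟩
  obtain ⟨B, hdir, hne, ⟨hlim⟩⟩ := Groth.Agent.AlgSpSpec.exists_limit_affine haff hYqc hYqs
    (Good := fun B n => AlgSp.RepWith @IsFinite (Groth.Agent.AlgSpSpec.Basic.inc n ≫ B.base n.1)) (fun _ n => Groth.Agent.AlgSpSpec.Basic.exists_finite_ge hf n)
  refine ⟨_, inferInstance, hdir, hne, B.system _, B.systemT _, B.systemCone _, hlim, Iso.refl _,
    fun i => Groth.Agent.AlgSpSpec.Basic.isAlgSpace_Z i.unop.1,
    fun _ _ φ => Groth.Agent.AlgSpSpec.affine_systemMap φ,
    fun i => ⟨(Groth.Agent.AlgSpCov.isFiniteMor_iff _).2 i.unop.2, Groth.Agent.AlgSpSpec.Basic.fp_str i.unop.1⟩, fun i => ?_⟩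
  refine (Category.id_comp _).trans ?_
  change Groth.Agent.AlgSpSpec.Basic.toZ i.unop.1 ≫ Groth.Agent.AlgSpSpec.Basic.inc i.unop.1 ≫ B.base i.unop.1.1 = f.hom
  rw [← Category.assoc, Groth.Agent.AlgSpSpec.Basic.toZ_inc, B.θW_base]

end Groth.Agent.S10033
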