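import Groth.Statements.S10045
import Groth.Agent.AlgSpB.IdealApprox.ThickScheme

set_option autoImplicit false
set_option backward.isDefEq.respectTransparency false
set_option backward.isDefEq.respectTransparency.types false

universe u
open CategoryTheory CategoryTheory.Limits AlgebraicGeometry
open AlgSp

namespace Groth.Agent.S10045

/-- Let `X` be an algebraic space over `S` and `X_red ⟶ X` its reduction (the reduced closed subspace
with the same points). If `X_red` is a scheme, then `X` is a scheme. -/
theorem result (S : Scheme.{u}) (X Z : AlgSp.Space S) (i : Z ⟶ X)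
    (hi : AlgSp.IsRedInduced Set.univ i.hom) (hZ : Z.obj.obj.IsRepresentable) : X.obj.obj.IsRepresentable := by
  obtain ⟨T, ⟨e⟩⟩ := Groth.Agent.AlgSpB.exists_iso_of_isRepresentable hZ
  have hs : AlgSp.RepWith @Surjective i.hom := (Groth.Agent.AlgSp.repWith_surjective_iff i.hom hi.1.1).2
    (Set.range_eq_univ.1 hi.2.1)
  have ht : AlgSp.IsThickMor i.hom := ⟨hi.1.1, fun _ _ g fst snd sq => ⟨hi.1.2 g fst snd sq, hs.2 g fst snd sq⟩⟩
  obtain ⟨T', ⟨e'⟩⟩ := Groth.Agent.AlgSpB.IdealApprox.exists_iso_yon_of_thick i ht e
  exact Groth.Agent.AlgSpB.isRepresentable_of_iso e'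

end Groth.Agent.S10045
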