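import Groth.Statements.S10048
import Groth.Agent.S10375
import Groth.Agent.S10033
import Groth.Agent.AlgSpB.SchStage.Main

set_option autoImplicit false
set_option backward.isDefEq.respectTransparency false
set_option backward.isDefEq.respectTransparency.types false

universe u
open CategoryTheory CategoryTheory.Limits AlgebraicGeometry
open AlgSp

namespace Groth.Agent.S10048

/-- Let `X` be an algebraic space, quasi-compact and quasi-separated over the scheme `S`, and `U ⟶ X` a
surjective etale morphism from a scheme. Then there are a scheme `Y` and a finite surjective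
morphism `Y ⟶ X` of finite presentation such that every point of `Y` has an open neighbourhood whose
map to `X` factors through `U`. (The published statement lets `U` be any algebraic space; this row
takes `U` a scheme, which is equivalent after composing with an etale atlas of `U`; its part (1), a
finite surjective finitely presented cover of `X` by a scheme, is the case where `U` is an etale
atlas of `X`.) (The published statement allows any base scheme and uses absolute
quasi-separatedness; this row assumes the base quasi-separated, over which quasi-separatedness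
relative to the base is the absolute notion.) -/
theorem result (S : Scheme.{u}) [QuasiSeparatedSpace S]
    (X : AlgSp.Space S) (hXqc : AlgSp.IsQuasiCompactSp X.obj) (hXqs : AlgSp.IsQuasiSeparatedSp X.obj)
    (U : Over S) (p : (AlgSp.yon S).obj U ⟶ X.obj) (hpe : AlgSp.RepWith @Etale p) (hps : AlgSp.RepWith @Surjective p) :
    ∃ (Y : Over S) (g : (AlgSp.yon S).obj Y ⟶ X.obj),
      AlgSp.IsFiniteMor g ∧ AlgSp.IsSurjectiveMor g ∧ AlgSp.IsFinitePresentationMor g ∧
      ∀ y : ↥Y.left, ∃ (V : Y.left.Opens), y ∈ V ∧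
        ∃ k : Over.mk (V.ι ≫ Y.hom) ⟶ U, (AlgSp.yon S).map k ≫ p = (AlgSp.yon S).map (Over.homMk V.ι) ≫ g := by
  obtain ⟨Y₀, g₀, hg₀, hg₀s, hloc⟩ := Groth.Agent.S10375.result X hXqc hXqs p hpe hps
  let Y₀' : AlgSp.Space S := ⟨(yon S).obj Y₀, IsAlgSpace.yon_obj Y₀⟩
  obtain ⟨I, _, hdir, _, D, t, c, hc, e, hD, hDa, ht, hcomp⟩ := Groth.Agent.S10033.result S
    (X := Y₀') (Y := X) (ObjectProperty.homMk g₀) ((Groth.Agent.AlgSpD.isIntegralMor_iff g₀).2 hg₀) hXqc hXqs
  have : IsDirectedOrder I := hdir
  have hfa : ∀ i, RepWith @IsAffineHom (t.app i) := fun i => Groth.Agent.AlgSp.repWith_mono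
    (fun g (hg : IsFinite g) => (inferInstance : IsAffineHom g))
    ((Groth.Agent.AlgSpD.isFiniteMor_iff _).1 (ht i).1)
  have hqcqs := fun i => Groth.Agent.AlgSpSpec.qcqs_of_affine (hD i) X.property (hfa i) hXqc hXqs
  obtain ⟨i, Y, ε, hY⟩ := Groth.Agent.AlgSpB.SchStage.exists_stage p hpe hD hDa (fun i => (hqcqs i).1)
    (fun i => (hqcqs i).2) t hc e (g₀ := g₀) (fun i => by
      have := hcomp i
      rwa [← cancel_epi e.inv, e.inv_hom_id_assoc]) (fun y => by
      obtain ⟨W, k, hy, hk⟩ := hloc y
      exact ⟨W, hy, k, hk⟩)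
  refine ⟨Y, ε.hom ≫ t.app i, ?_, ?_, ?_, fun y => ?_⟩
  · exact (Groth.Agent.AlgSpD.isFiniteMor_iff _).2
      ((MorphismProperty.cancel_left_of_respectsIso _ ε.hom _).2
        ((Groth.Agent.AlgSpD.isFiniteMor_iff _).1 (ht i).1))
  · intro x
    obtain ⟨y, hy⟩ := (Groth.Agent.AlgSp.repWith_surjective_iff g₀ hg₀s.1).1 hg₀s x
    refine ⟨Points.map (e.inv ≫ c.π.app i ≫ ε.inv) y, ?_⟩
    rw [← Points.map_comp, Category.assoc, Category.assoc, ε.inv_hom_id_assoc]
    exact (congrArg (fun m => Points.map m y) (hcomp i)).trans hy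
  · obtain ⟨h1, h2, h3⟩ := (ht i).2
    exact Groth.Agent.AlgSpSpec.isFinitePresentationMor_of_affine (IsAlgSpace.yon_obj Y) X.property
      ((MorphismProperty.cancel_left_of_respectsIso _ ε.hom _).2 (hfa i))
      ((MorphismProperty.cancel_left_of_respectsIso _ ε.hom _).2
        (Groth.Agent.AlgSpCov.repWith_of_locP Groth.Agent.AlgSpCov.etaleLocal_locallyOfFinitePresentation
          (hD i) X.property (hfa i).1 h1))
  · obtain ⟨W, hy, k, hk⟩ := hY y
    exact ⟨W, hy, k, hk⟩

end Groth.Agent.S10048
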