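import Groth.Statements.S1402
import Mathlib.AlgebraicGeometry.ZariskisMainTheorem
-- import your own Groth.Agent.* helpers here

set_option autoImplicit false
universe u
open FlatMor

namespace Groth.Agent.S1402

open AlgebraicGeometry CategoryTheory Limits in
/-- A separated, locally quasi-finite morphism is ind-quasi-affine. -/
theorem result {X Y : Scheme.{u}} (f : X ⟶ Y) [IsSeparated f] [LocallyQuasiFinite f] [LocallyOfFiniteType f] :
    MoreMor.IsIndQuasiAffineHom f := by
  intro V hV U hU
  have : IsAffine V.toScheme := hV
  have : CompactSpace U.toScheme := isCompact_iff_compactSpace.mp hU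
  let g := U.ι ≫ f ∣_ V
  have : QuasiCompact g := (quasiCompact_iff_compactSpace g).mpr inferInstance
  have : IsAffine g.normalization := isAffine_of_isAffineHom g.fromNormalization
  exact Scheme.IsQuasiAffine.of_isImmersion g.toNormalization

end Groth.Agent.S1402
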