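import Groth.Statements.S10337
import Groth.Agent.AlgSpD.DenseMain

set_option autoImplicit false
universe u
open CategoryTheory CategoryTheory.Limits AlgebraicGeometry Topology TopologicalSpace
open AlgSp

namespace Groth.Agent.S10337

/-- For a scheme S, a decent algebraic space X over S contains a dense open subspace that is a scheme:
there is an open subspace X' ⟶ X whose underlying sheaf is representable by a scheme and whose set
of points is dense in |X|. -/
theorem result {S : Scheme.{u}} (X : AlgSp.Space S)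
    (hX : AlgSp.IsDecent X.obj) :
    ∃ (X' : AlgSp.Space S) (j : X' ⟶ X), AlgSp.RepWith @IsOpenImmersion j.hom ∧ X'.obj.obj.IsRepresentable ∧
      Dense (Set.range (AlgSp.Points.map j.hom)) := by
  open Groth.Agent in
  refine AlgSpD.exists_dense_scheme X fun Ω hΩo ⟨x, hxΩ⟩ => ?_
  obtain ⟨U, a, u, ha, rfl⟩ := AlgSpD.exists_chart X x
  obtain ⟨W, hW, huW, hr⟩ := AlgSpD.exists_affine_restrict X a ha Ω hΩo u hxΩ
  have : IsAffine (Over.mk (W.ι ≫ U.hom) : Over S).left := hW
  refine ⟨_, ‹_›, ⟨(⟨u, huW⟩ : ↥W)⟩, _, AlgSpD.repWith_etale_restrict a ha W, hr, fun q hq => ?_⟩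
  obtain ⟨p, hp, hm, hqc⟩ := hX (AlgSp.Points.mk q)
  exact AlgSpD.finite_lifts_of_qc X _ (AlgSpD.repWith_etale_restrict a ha W) q
    (AlgSpD.repWith_quasiCompact_of_eq X p q hm hqc hp.symm)

end Groth.Agent.S10337
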