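import Groth.Statements.S10397
import Groth.Agent.AlgSpD.DecentLifts
import Groth.Agent.S10337

set_option autoImplicit false
universe u
open CategoryTheory CategoryTheory.Limits AlgebraicGeometry Topology TopologicalSpace
open AlgSp

namespace Groth.Agent.S10397

/-- Components of an open subspace come from components of the space. -/
theorem finite_components_of_openEmbedding {A B : Type*} [TopologicalSpace A] [TopologicalSpace B] (f : A → B)
    (hf : Topology.IsOpenEmbedding f) (h : (irreducibleComponents B).Finite) :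
    (irreducibleComponents A).Finite := by
  refine (h.image (f ⁻¹' ·)).subset fun T hT => ?_
  have hi : IsIrreducible (f '' T) := hT.1.image f hf.continuous.continuousOn
  obtain ⟨C, hC, hsub⟩ := exists_mem_irreducibleComponents_subset_of_isIrreducible _ hi
  refine ⟨C, hC, ?_⟩
  have hle : T ⊆ f ⁻¹' C := Set.image_subset_iff.1 hsub
  have hne : (C ∩ Set.range f).Nonempty := by
    obtain ⟨z, hz⟩ := hT.1.nonempty
    exact ⟨f z, hle hz, z, rfl⟩
  exact Set.Subset.antisymm (hT.2 (hC.1.preimage hf hne) hle) hle

/-- A dense image of a space with finitely many components has finitely many components. -/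
theorem finite_components_of_dense {A B : Type*} [TopologicalSpace A] [TopologicalSpace B] (f : A → B)
    (hf : Continuous f) (hd : DenseRange f) (h : (irreducibleComponents A).Finite) :
    (irreducibleComponents B).Finite := by
  classical
  refine (h.image fun T => closure (f '' T)).subset fun C hC => ?_
  have hcov : C ⊆ ⋃₀ ↑(h.toFinset.image fun T => closure (f '' T)) := by
    intro y _
    have hu : closure (Set.range f) ⊆ ⋃₀ ↑(h.toFinset.image fun T => closure (f '' T)) := by
      refine closure_minimal ?_ ?_
      · rintro _ ⟨x, rfl⟩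
        refine ⟨closure (f '' irreducibleComponent x), Finset.mem_image.2 ⟨_, h.mem_toFinset.2
          (irreducibleComponent_mem_irreducibleComponents x), rfl⟩,
          subset_closure ⟨x, mem_irreducibleComponent, rfl⟩⟩
      · rw [Set.sUnion_eq_biUnion]
        refine (Finset.finite_toSet _).isClosed_biUnion fun s hs => ?_
        obtain ⟨T, -, rfl⟩ := Finset.mem_image.1 hs
        exact isClosed_closure
    exact hu (hd y)
  obtain ⟨s, hs, hCs⟩ := isIrreducible_iff_sUnion_isClosed.1 hC.1 _ (fun z hz => by
    obtain ⟨T, -, rfl⟩ := Finset.mem_image.1 hz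
    exact isClosed_closure) hcov
  obtain ⟨T, hT, rfl⟩ := Finset.mem_image.1 hs
  refine ⟨T, h.mem_toFinset.1 hT, ?_⟩
  exact Set.Subset.antisymm (hC.2 ((h.mem_toFinset.1 hT).1.image f hf.continuousOn).closure hCs) hCs


/-- (1) ⇔ (3): an algebraic space X over a scheme S is decent with |X| having finitely many irreducible
components if and only if X has a dense open subscheme X' with finitely many irreducible components
whose generic points x'_j give quasi-compact morphisms Spec κ(x'_j) ⟶ X. -/
theorem result {S : Scheme.{u}} (X : AlgSp.Space S) :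
    (AlgSp.IsDecent X.obj ∧ (irreducibleComponents (AlgSp.Points X.obj)).Finite) ↔
      ∃ (X' : Over S) (j : (AlgSp.yon S).obj X' ⟶ X.obj), AlgSp.RepWith @IsOpenImmersion j ∧
        Dense (Set.range (AlgSp.Points.ofPt j)) ∧ (irreducibleComponents ↥X'.left).Finite ∧
        ∀ x' : ↥X'.left, (∃ T ∈ irreducibleComponents ↥X'.left, IsGenericPoint x' T) →
          AlgSp.RepWith @QuasiCompact (AlgSp.FieldPt.ofPt j x').toHom := by
  open Groth.Agent in
  have hemb : ∀ {X' : Over S} (j : (AlgSp.yon S).obj X' ⟶ X.obj), AlgSp.RepWith @IsOpenImmersion j →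
      Topology.IsOpenEmbedding (AlgSp.Points.ofPt j) := by
    intro X' j hj
    have := AlgSpB.mono_of_isOpenImmersion hj
    have hje : AlgSp.RepWith @Etale j :=
      AlgSp.repWith_mono (Q := @Etale) (fun g (hg : IsOpenImmersion g) => (inferInstance : Etale g)) hj
    refine Topology.IsOpenEmbedding.of_continuous_injective_isOpenMap (AlgSp.Points.continuous_ofPt j)
      (fun x y e => ?_) (AlgSpB.isOpenMap_ofPt hje)
    rw [AlgSp.Points.ofPt_eq_map_ofScheme, AlgSp.Points.ofPt_eq_map_ofScheme] at e
    rw [← AlgSp.Points.toScheme_ofScheme X' x, ← AlgSp.Points.toScheme_ofScheme X' y, AlgSpB.injective_map_of_mono j e]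
  constructor
  · rintro ⟨hd, hfin⟩
    obtain ⟨Y, j, hj, hrep, hdense⟩ := Groth.Agent.S10337.result X hd
    obtain ⟨X', ⟨e⟩⟩ := hrep.has_representation
    let i := AlgSp.isoOfRepresentableBy e
    have hij : AlgSp.RepWith @IsOpenImmersion (i.hom ≫ j.hom) :=
      ((AlgSp.RepWith @IsOpenImmersion).cancel_left_of_respectsIso i.hom j.hom).2 hj
    refine ⟨X', i.hom ≫ j.hom, hij, ?_, finite_components_of_openEmbedding _ (hemb _ hij) hfin, fun x' _ => ?_⟩
    · refine hdense.mono ?_
      rintro _ ⟨y, rfl⟩
      refine ⟨AlgSp.Points.toScheme X' (AlgSp.Points.map i.inv y), ?_⟩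
      rw [AlgSp.Points.ofPt_eq_map_ofScheme, AlgSp.Points.ofScheme_toScheme, ← AlgSp.Points.map_comp,
        i.inv_hom_id_assoc]
    · obtain ⟨p, hp, hm, hqc⟩ := hd (AlgSp.Points.ofPt (i.hom ≫ j.hom) x')
      exact AlgSpD.repWith_quasiCompact_of_eq X p _ hm hqc hp.symm
  · rintro ⟨X', j, hj, hdense, hcomp, hgen⟩
    refine ⟨AlgSpD.isDecent_of_finite_lifts X fun U a hU ha q hq => ?_,
      finite_components_of_dense _ (AlgSp.Points.continuous_ofPt j) hdense hcomp⟩
    -- generic geometric points and their (finitely many) lifts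
    let Gen := {x' : ↥X'.left // ∃ T ∈ irreducibleComponents ↥X'.left, IsGenericPoint x' T}
    have hGen : Finite Gen := by
      have := hcomp.to_subtype
      refine Finite.of_injective (fun g : Gen => (⟨g.2.choose, g.2.choose_spec.1⟩ : irreducibleComponents ↥X'.left))
        fun g g' e => Subtype.ext ?_
      have h1 := g.2.choose_spec.2
      have h2 := g'.2.choose_spec.2
      rw [show g.2.choose = g'.2.choose from congrArg Subtype.val e] at h1
      exact h1.eq h2
    have hjmono := AlgSpB.mono_of_isOpenImmersion hj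
    have hgq : ∀ g : Gen, ∃ q' : AlgSp.FieldPt X.obj, q'.IsGeometric ∧
        AlgSp.Points.mk q' = AlgSp.Points.ofPt j g.1 ∧ Finite (AlgSpD.Lifts X a q') := fun g => by
      have hje : AlgSp.RepWith @Etale j :=
        AlgSp.repWith_mono (Q := @Etale) (fun m (hm : IsOpenImmersion m) => (inferInstance : Etale m)) hj
      obtain ⟨q', hq', l, -, hqm⟩ := AlgSpD.exists_geometric_lift X (AlgSp.EtOver.mk j hje) g.1
      refine ⟨q', hq', hqm, ?_⟩
      have hm : Mono (AlgSp.FieldPt.ofPt j g.1).toHom := by
        rw [AlgSp.FieldPt.toHom_ofPt]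
        let c : (Over.mk (X'.left.fromSpecResidueField g.1 ≫ X'.hom) : Over S) ⟶ X' :=
          Over.homMk (X'.left.fromSpecResidueField g.1) rfl
        have : Mono c.left := inferInstanceAs (Mono (X'.left.fromSpecResidueField g.1))
        have : Mono c := Functor.mono_of_mono_map (Over.forget S) this
        have : Mono ((AlgSp.yon S).map c) := Functor.map_mono _ _
        exact @mono_comp _ _ _ _ _ _ this _ hjmono
      exact AlgSpD.finite_lifts_of_qc X a ha q'
        (AlgSpD.repWith_quasiCompact_of_eq X _ q' hm (hgen g.1 g.2) hqm)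
    choose qg hqg hqgm hqgf using hgq
    have : Fintype Gen := Fintype.ofFinite _
    let N := Finset.univ.sup fun g : Gen => Nat.card (AlgSpD.Lifts X a (qg g))
    by_contra hinf
    rw [not_finite_iff_infinite] at hinf
    obtain ⟨T, hT⟩ := Infinite.exists_subset_card_eq (AlgSpD.Lifts X a q) (N + 1)
    obtain ⟨Ω, hΩo, hqΩ, hΩ⟩ := AlgSpD.exists_open_le X a ha q T
    obtain ⟨_, hy, z, rfl⟩ := hdense.inter_open_nonempty Ω hΩo ⟨_, hqΩ⟩
    have hirr : IsIrreducible (irreducibleComponent z) := isIrreducible_irreducibleComponent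
    have hgp : IsGenericPoint hirr.genericPoint (irreducibleComponent z) := by
      have h := hirr.isGenericPoint_genericPoint_closure
      rwa [isClosed_irreducibleComponent.closure_eq] at h
    let g : Gen := ⟨hirr.genericPoint, _, irreducibleComponent_mem_irreducibleComponents z, hgp⟩
    have hgΩ : AlgSp.Points.ofPt j g.1 ∈ Ω :=
      (hgp.specializes mem_irreducibleComponent).mem_open
        (hΩo.preimage (AlgSp.Points.continuous_ofPt j)) hy
    have h := hΩ (qg g) (hqg g) (hqgm g ▸ hgΩ)
    have := hqgf g
    rw [hT, ENat.card_eq_coe_natCard] at h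
    have h1 : N + 1 ≤ Nat.card (AlgSpD.Lifts X a (qg g)) := by exact_mod_cast h
    have h2 : Nat.card (AlgSpD.Lifts X a (qg g)) ≤ N :=
      Finset.le_sup (f := fun g : Gen => Nat.card (AlgSpD.Lifts X a (qg g))) (Finset.mem_univ g)
    omega

end Groth.Agent.S10397
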