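import Groth.Statements.S10119
import Groth.Agent.AlgSpB.BigField.Locus
import Groth.Agent.AlgSpB.OpenGlue
import Groth.Agent.AlgSp.LimSepAbs
import Groth.Agent.S10200
import Groth.Prelude.Def_AlgSpGpd

set_option autoImplicit false
set_option backward.isDefEq.respectTransparency false
set_option backward.isDefEq.respectTransparency.types false

universe u
open CategoryTheory CategoryTheory.Limits AlgebraicGeometry MonoidalCategory MonObj
open AlgSp

namespace Groth.Agent.S10119

open scoped MonObj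

section
variable {S : Scheme.{u}} {T : AlgSp.Sp S} (hT : IsTerminal T) (G : Over T) [GrpObj G]

include hT in
/-- Translations on a product with a group object act transitively on the sections. -/
theorem exists_translation {B : AlgSp.Sp S} (u g : B ⟶ G.left) :
    ∃ τ : G.left ⨯ B ≅ G.left ⨯ B, prod.lift u (𝟙 B) ≫ τ.hom = prod.lift g (𝟙 B) := by
  let Bo : Over T := Over.mk (hT.from B)
  let A : Over T := Over.mk (hT.from (G.left ⨯ B))
  let u' : Bo ⟶ G := Over.homMk u (hT.hom_ext _ _)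
  let g' : Bo ⟶ G := Over.homMk g (hT.hom_ext _ _)
  let a : A ⟶ G := Over.homMk prod.fst (hT.hom_ext _ _)
  let s : A ⟶ Bo := Over.homMk prod.snd (hT.hom_ext _ _)
  let tr : (Bo ⟶ G) → (A ⟶ A) := fun h => Over.homMk (prod.lift ((s ≫ h) * a).left prod.snd) (hT.hom_ext _ _)
  have hs : ∀ h, tr h ≫ s = s := fun h => Over.OverMorphism.ext (prod.lift_snd _ _)
  have ha : ∀ h, tr h ≫ a = (s ≫ h) * a := fun h => Over.OverMorphism.ext (prod.lift_fst _ _)
  have hmul : ∀ h₁ h₂, tr h₁ ≫ tr h₂ = tr (h₂ * h₁) := fun h₁ h₂ => by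
    have e : tr h₁ ≫ ((s ≫ h₂) * a) = (s ≫ (h₂ * h₁)) * a := by
      rw [MonObj.comp_mul, reassoc_of% hs h₁, ha, MonObj.comp_mul, _root_.mul_assoc]
    apply Over.OverMorphism.ext
    apply prod.hom_ext
    · refine (Category.assoc _ _ _).trans (Eq.trans ?_ (prod.lift_fst _ _).symm)
      refine Eq.trans ?_ (congrArg CommaMorphism.left e)
      exact congrArg ((tr h₁).left ≫ ·) (prod.lift_fst _ _)
    · refine (Category.assoc _ _ _).trans (Eq.trans ?_ (prod.lift_snd _ _).symm)
      exact (congrArg ((tr h₁).left ≫ ·) (prod.lift_snd _ _)).trans (prod.lift_snd _ _)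
  have hone : tr 1 = 𝟙 A := by
    apply Over.OverMorphism.ext
    apply prod.hom_ext
    · refine (prod.lift_fst _ _).trans ?_
      rw [MonObj.comp_one, _root_.one_mul]
      exact (Category.id_comp _).symm
    · exact (prod.lift_snd _ _).trans (Category.id_comp _).symm
  let h := g' * u'⁻¹
  let τ : G.left ⨯ B ≅ G.left ⨯ B :=
    { hom := (tr h).left
      inv := (tr h⁻¹).left
      hom_inv_id := congrArg CommaMorphism.left ((hmul h h⁻¹).trans ((congrArg tr (inv_mul_cancel h)).trans hone))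
      inv_hom_id := congrArg CommaMorphism.left ((hmul h⁻¹ h).trans ((congrArg tr (mul_inv_cancel h)).trans hone)) }
  refine ⟨τ, ?_⟩
  let l : Bo ⟶ A := Over.homMk (prod.lift u (𝟙 B)) (hT.hom_ext _ _)
  have hl : l ≫ ((s ≫ h) * a) = g' := by
    have h1 : l ≫ s = 𝟙 Bo := Over.OverMorphism.ext (prod.lift_snd _ _)
    have h2 : l ≫ a = u' := Over.OverMorphism.ext (prod.lift_fst _ _)
    rw [MonObj.comp_mul, reassoc_of% h1, h2, inv_mul_cancel_right]
  apply prod.hom_ext
  · rw [Category.assoc, prod.lift_fst]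
    exact (congrArg (prod.lift u (𝟙 B) ≫ ·) (prod.lift_fst _ _)).trans (congrArg CommaMorphism.left hl)
  · rw [Category.assoc, prod.lift_snd]
    exact (congrArg (prod.lift u (𝟙 B) ≫ ·) (prod.lift_snd _ _)).trans (prod.lift_snd _ _)

end

/-- Let `k` be a field with algebraic closure `k̄` and `G` a separated group algebraic space over `k`.
Then `G_{k̄}` is a scheme. -/
theorem result (k : Type u) [Field k]
    (G : Over ((AlgSp.yon (Spec (CommRingCat.of k))).obj (Over.mk (𝟙 _)))) [GrpObj G]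
    (hG : AlgSp.IsAlgSpace G.left) (hsep : AlgSp.IsSeparatedSp G.left) :
    (G.left ⨯ ((AlgSp.yon (Spec (CommRingCat.of k))).obj (Over.mk (Spec.map (CommRingCat.ofHom (algebraMap k (AlgebraicClosure k))))))).obj.IsRepresentable := by
  classical
  let S := Spec (CommRingCat.of k)
  let hT := Groth.Agent.AlgSp.LimSepAbs.isTerminalBase (S := S)
  let L := AlgebraicClosure k
  let σ : Spec (CommRingCat.of L) ⟶ S := Spec.map (CommRingCat.ofHom (algebraMap k L))
  let Lo : Over S := Over.mk σ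
  have sqX : IsPullback (prod.fst : G.left ⨯ (yon S).obj Lo ⟶ G.left) prod.snd G.hom (hT.from _) :=
    by rw [hT.hom_ext G.hom (hT.from _)]; exact IsPullback.of_is_product (prodIsProd _ _) hT
  have hX : IsAlgSpace (G.left ⨯ (yon S).obj Lo) :=
    Groth.Agent.AlgSp.isAlgSpace_of_isPullback' (IsAlgSpace.yon_obj _) hG (IsAlgSpace.yon_obj Lo) sqX
  have hGqs : IsQuasiSeparatedSp G.left :=
    Groth.Agent.AlgSp.repWith_mono (fun g hg => (have : IsClosedImmersion g := hg; inferInstance : QuasiCompact g)) hsep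
  have haff : RepWith @IsAffineHom (prod.fst : G.left ⨯ (yon S).obj Lo ⟶ G.left) := by
    refine MorphismProperty.of_isPullback sqX.flip ?_
    rw [hT.hom_ext (hT.from _) ((yon S).map (Over.homMk σ (Category.comp_id _) : Lo ⟶ Over.mk (𝟙 S)))]
    exact (repWith_yon_map_iff _ _).2 (inferInstanceAs (IsAffineHom (Spec.map _)))
  have hXqs : IsQuasiSeparatedSp (G.left ⨯ (yon S).obj Lo) :=
    Groth.Agent.AlgSp.LimAffine.isQuasiSeparatedSp_of_mor _ (Groth.Agent.AlgSp.repWith_mono
      (fun g hg => (have : IsClosedImmersion g := hg; inferInstance : QuasiCompact g))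
      (Groth.Agent.AlgSp.LimMono.diagonal_of_isAffineMor hX ((Groth.Agent.AlgSp.isAffineMor_iff _).2 haff))) hGqs
  obtain ⟨U', jU', hjU', hUrep, hUd, -⟩ := Groth.Agent.S10200.result ⟨G.left, hG⟩
    ⟨PUnit, fun _ => ⟨G.left, hG⟩, fun _ => 𝟙 _,
      ⟨fun _ => MorphismProperty.id_mem (RepWith @IsOpenImmersion) _, fun x => ⟨PUnit.unit, x, Points.map_id x⟩⟩,
      fun _ => hGqs⟩
  obtain ⟨U, ⟨eU⟩⟩ := Groth.Agent.AlgSpB.exists_iso_of_isRepresentable hUrep
  let jU : (yon S).obj U ⟶ G.left := eU.hom ≫ jU'.hom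
  have hjU : RepWith @IsOpenImmersion jU :=
    (MorphismProperty.cancel_left_of_respectsIso (RepWith @IsOpenImmersion : MorphismProperty (Sp S)) _ _).2 hjU'
  obtain ⟨X', j, hj, hjrep, hmax⟩ := Groth.Agent.AlgSpB.exists_largest_open_subscheme ⟨_, hX⟩
  suffices h : ∀ x, x ∈ Set.range (Points.map j.hom) by
    obtain ⟨l, hl⟩ := (Groth.Agent.AlgSpB.exists_factor_isOpenImmersion_iff hj (𝟙 _)).2 fun x _ => h x
    have := Groth.Agent.AlgSpB.mono_of_isOpenImmersion hj
    obtain ⟨Z, ⟨e⟩⟩ := Groth.Agent.AlgSpB.exists_iso_of_isRepresentable hjrep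
    exact Groth.Agent.AlgSpB.isRepresentable_of_iso
      (e ≪≫ ⟨j.hom, l, (cancel_mono j.hom).1 (by rw [Category.assoc, hl]; exact (Category.comp_id _).trans (Category.id_comp _).symm), hl⟩)
  intro x
  obtain ⟨p, hp⟩ := Groth.Agent.AlgSpB.exists_eq_ofPt_toHom x
  obtain ⟨ψ, hψ⟩ := (yon S).map_surjective (p.toHom ≫ prod.snd)
  obtain ⟨u₀⟩ : Nonempty U.left := by
    obtain ⟨y, y', hy⟩ := hUd.nonempty_iff.2 ⟨Points.map prod.fst x⟩
    exact ⟨Points.toScheme U (Points.map eU.inv y')⟩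
  obtain ⟨pt₀⟩ : Nonempty p.pt.left := inferInstanceAs (Nonempty (Spec (CommRingCat.of p.K)))
  have : Subsingleton S := inferInstanceAs (Subsingleton (PrimeSpectrum k))
  obtain ⟨z, -, -⟩ := Scheme.Pullback.exists_preimage_pullback (f := U.hom) (g := p.pt.hom) u₀ pt₀
    (Subsingleton.elim _ _)
  let Z := pullback U.hom p.pt.hom
  let To : Over S := Over.mk (Z.fromSpecResidueField z ≫ pullback.fst U.hom p.pt.hom ≫ U.hom)
  let fU : To ⟶ U := Over.homMk (Z.fromSpecResidueField z ≫ pullback.fst U.hom p.pt.hom) (Category.assoc _ _ _)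
  let fF : To ⟶ p.pt := Over.homMk (Z.fromSpecResidueField z ≫ pullback.snd U.hom p.pt.hom) (by
    change _ = Z.fromSpecResidueField z ≫ pullback.fst U.hom p.pt.hom ≫ U.hom
    rw [pullback.condition, Category.assoc])
  let φ : To ⟶ Lo := fF ≫ ψ
  obtain ⟨κ, hκ⟩ := Spec.map_surjective (R := CommRingCat.of L) φ.left
  let : Algebra L (Z.residueField z) := κ.hom.toAlgebra
  obtain ⟨τ, hτ⟩ := exists_translation hT G ((yon S).map fU ≫ jU) ((yon S).map fF ≫ p.toHom ≫ prod.fst)
  let b : (yon S).obj (U ⨯ To) ⟶ G.left ⨯ (yon S).obj To :=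
    (PreservesLimitPair.iso (yon S) U To).hom ≫ prod.map jU (𝟙 _) ≫ τ.hom
  have hb : RepWith @IsOpenImmersion b := by
    refine (MorphismProperty.cancel_left_of_respectsIso (RepWith @IsOpenImmersion : MorphismProperty (Sp S)) _ _).2 ?_
    refine (MorphismProperty.cancel_right_of_respectsIso (RepWith @IsOpenImmersion : MorphismProperty (Sp S)) _ _).2 ?_
    exact MorphismProperty.of_isPullback (IsPullback.of_prod_fst_with_id jU ((yon S).obj To)) hjU
  have sq : IsPullback (prod.snd : G.left ⨯ (yon S).obj To ⟶ _) (prod.map (𝟙 G.left) ((yon S).map φ))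
      ((yon S).map φ) (prod.snd : G.left ⨯ (yon S).obj Lo ⟶ _) := by
    refine IsPullback.of_isLimit' ⟨by simp⟩ (PullbackCone.IsLimit.mk _
      (fun c => prod.lift (c.snd ≫ prod.fst) c.fst) (fun c => prod.lift_snd _ _) (fun c => ?_) (fun c m h1 h2 => ?_))
    · apply prod.hom_ext
      · simp
      · simp [c.condition]
    · apply prod.hom_ext
      · simp [← h2]
      · simp [← h1]
  obtain ⟨V', jV', hjV', hx⟩ := Groth.Agent.AlgSpB.BigField.mem_schemeLocus (K := Z.residueField z) σ hX hXqs prod.snd φ (Iso.refl _)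
    (by rw [Iso.refl_hom, Category.id_comp, ← hκ]; rfl) _ _ sq b hb
    ((prod.lift fU (𝟙 To)).left (IsLocalRing.closedPoint _))
  obtain ⟨l, hl⟩ := hmax ⟨(yon S).obj V', IsAlgSpace.yon_obj V'⟩ (ObjectProperty.homMk jV') hjV'
    (Groth.Agent.AlgSpB.isRepresentable_of_iso (Iso.refl ((yon S).obj V')))
  have e : (yon S).map (prod.lift fU (𝟙 To)) ≫ b ≫ prod.map (𝟙 G.left) ((yon S).map φ) =
      (yon S).map fF ≫ p.toHom := by
    have e1 : (yon S).map (prod.lift fU (𝟙 To)) ≫ (PreservesLimitPair.iso (yon S) U To).hom ≫ prod.map jU (𝟙 _) =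
        prod.lift ((yon S).map fU ≫ jU) (𝟙 _) := by
      apply prod.hom_ext <;> simp [← Functor.map_comp, ← Functor.map_comp_assoc]
    simp only [b, Category.assoc]
    rw [reassoc_of% e1, reassoc_of% hτ]
    apply prod.hom_ext
    · simp
    · simp [φ, ← hψ]
  rw [← Groth.Agent.AlgSpB.ofPt_map_comp, e, Groth.Agent.AlgSpB.ofPt_map_comp, hp] at hx
  obtain ⟨y, hy⟩ := hx
  exact ⟨Points.map l.hom y, by rw [← Points.map_comp]; exact (congrArg (fun f => Points.map f.hom y) hl).trans hy⟩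

end Groth.Agent.S10119
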