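import Groth.Statements.S1231
import Mathlib.RingTheory.Flat.Stability
import Mathlib.RingTheory.Flat.Localization
import Mathlib.RingTheory.Etale.Basic
import Mathlib.RingTheory.Unramified.Finite

set_option autoImplicit false
universe u
open FlatMor

namespace Groth.Agent.S1231

open TensorProduct in
theorem flat_restrict {R T : Type u} [CommRing R] [CommRing T] [Algebra R T] [Algebra.Etale R T]
    (N : Type u) [AddCommGroup N] [Module T N] [Module R N] [IsScalarTower R T N] :
    Module.Flat R N ↔ Module.Flat T N := by
  constructor
  · intro hN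
    have : Algebra.FiniteType R T := inferInstance
    have hfg := KaehlerDifferential.ideal_fg R T
    obtain ⟨e, he, hspan⟩ := (Ideal.isIdempotentElem_iff_of_fg _ hfg).mp
      ((Ideal.cotangent_subsingleton_iff _).mp (inferInstanceAs <| Subsingleton Ω[T⁄R]))
    let Φ : T ⊗[R] T →ₗ[R] (N →ₗ[R] T ⊗[R] N) :=
      TensorProduct.lift (LinearMap.mk₂ R
        (fun a b => (TensorProduct.mk R T N a).comp ((LinearMap.lsmul T N b).restrictScalars R))
        (fun a a' b => by ext n; simp [add_tmul])
        (fun r a b => by ext n; simp [smul_tmul'])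
        (fun a b b' => by ext n; simp [add_smul, tmul_add])
        (fun r a b => by ext n; simp [tmul_smul]))
    have hΦr : ∀ z t n, Φ (z * (1 ⊗ₜ t)) n = Φ z (t • n) := by
      intro z t n
      induction z with
      | zero => simp
      | tmul a b => simp [Φ, mul_smul, smul_comm t b]
      | add x y hx hy => simp only [add_mul, map_add, LinearMap.add_apply, hx, hy]
    have hΦl : ∀ z t n, Φ ((t ⊗ₜ 1) * z) n = t • Φ z n := by
      intro z t n
      induction z with
      | zero => simp
      | tmul a b => simp [Φ, smul_tmul']
      | add x y hx hy => simp only [mul_add, map_add, LinearMap.add_apply, smul_add, hx, hy]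
    have hcomm : ∀ t : T, (1 - e) * ((1 : T) ⊗ₜ[R] t) = (t ⊗ₜ[R] (1 : T)) * (1 - e) := by
      intro t
      have hker : (1 : T) ⊗ₜ[R] t - t ⊗ₜ[R] 1 ∈ KaehlerDifferential.ideal R T := by
        simp [KaehlerDifferential.ideal, RingHom.mem_ker]
      rw [hspan] at hker
      obtain ⟨c, hc⟩ := Ideal.mem_span_singleton'.mp hker
      have : (1 - e) * ((1 : T) ⊗ₜ[R] t - t ⊗ₜ[R] 1) = 0 := by
        rw [← hc, mul_comm c, ← mul_assoc, sub_mul, one_mul, he.eq, sub_self, zero_mul]
      rw [mul_comm _ (1 - e)]
      rwa [mul_sub, sub_eq_zero] at this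
    let s : N →ₗ[T] T ⊗[R] N :=
      { toFun := fun n => Φ (1 - e) n
        map_add' := fun a b => map_add _ a b
        map_smul' := fun t n => by
          show Φ (1 - e) (t • n) = t • Φ (1 - e) n
          rw [← hΦr, hcomm, hΦl] }
    let μ : T ⊗[R] N →ₗ[T] N := (LinearMap.id : N →ₗ[R] N).liftBaseChange T
    have hμ : ∀ z n, μ (Φ z n) = Algebra.TensorProduct.lmul' R (S := T) z • n := by
      intro z n
      induction z with
      | zero => simp
      | tmul a b => simp [Φ, μ, mul_smul]
      | add x y hx hy => simp only [map_add, LinearMap.add_apply, hx, hy, add_smul]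
    refine Module.Flat.of_retract s μ (LinearMap.ext fun n => ?_)
    show μ (Φ (1 - e) n) = n
    have he0 : Algebra.TensorProduct.lmul' R (S := T) e = 0 := by
      have : e ∈ KaehlerDifferential.ideal R T := hspan ▸ Ideal.mem_span_singleton_self e
      exact this
    rw [hμ, map_sub, map_one, he0, sub_zero, one_smul]
  · intro hN
    exact Module.Flat.trans R T N

/-- Let R → T be an étale ring map, C a T-algebra, N a C-module and q a prime of C. Then the
localization N_q is flat over R if and only if it is flat over T. In particular N is flat over R if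
and only if it is flat over T. -/
theorem result {R T C : Type u} [CommRing R] [CommRing T] [CommRing C] [Algebra R T] [Algebra.Etale R T]
    [Algebra T C] [Algebra R C] [IsScalarTower R T C]
    (N : Type u) [AddCommGroup N] [Module C N] [Module T N] [Module R N] [IsScalarTower T C N] [IsScalarTower R C N] [IsScalarTower R T N]
    (q : Ideal C) [q.IsPrime] :
    (FlatCA.FlatAt R q N ↔ FlatCA.FlatAt T q N) ∧ (Module.Flat R N ↔ Module.Flat T N) := by
  refine ⟨?_, flat_restrict N⟩
  have : IsScalarTower R T (LocalizedModule q.primeCompl N) := inferInstance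
  exact flat_restrict (LocalizedModule q.primeCompl N)

end Groth.Agent.S1231
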