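import Groth.Statements.S1235
import Groth.Agent.S1231
import Groth.Agent.Hensel.EtLike
import Mathlib.RingTheory.Flat.EquationalCriterion
import Mathlib.Tactic.TFAE

set_option autoImplicit false
universe u
open FlatMor

namespace Groth.Agent.S1235

theorem flat_of_isEtLike {R S : Type u} [CommRing R] [IsLocalRing R] [CommRing S] [IsLocalRing S]
    [Algebra R S] (h : Groth.Agent.Hensel.IsEtLike R S) (N : Type u) [AddCommGroup N] [Module S N]
    [Module R N] [IsScalarTower R S N] [Module.Flat R N] : Module.Flat S N := by
  classical
  rw [Module.Flat.iff_forall_isTrivialRelation]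
  intro l f x hfx
  obtain ⟨A, _, _, hA, θ, hθ⟩ := h.stage (Finset.univ.image f)
  let : Algebra A S := θ.toRingHom.toAlgebra
  have : IsScalarTower R A S := .of_algebraMap_eq' θ.comp_algebraMap.symm
  let : Module A N := Module.compHom N θ.toRingHom
  have : IsScalarTower A S N := IsScalarTower.of_algebraMap_smul fun a x => rfl
  have : IsScalarTower R A N := IsScalarTower.of_algebraMap_smul fun r x => by
    show θ (algebraMap R A r) • x = r • x
    rw [θ.commutes, algebraMap_smul]
  have : Module.Flat A N := (Groth.Agent.S1231.flat_restrict (R := R) (T := A) N).mp ‹Module.Flat R N›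
  choose a ha using fun i => hθ (f i) (Finset.mem_image_of_mem _ (Finset.mem_univ i))
  replace ha : ∀ i, θ (a i) = f i := ha
  have h0 : ∑ i, a i • x i = 0 := by
    rw [← hfx]
    exact Finset.sum_congr rfl fun i _ => by rw [← ha i]; rfl
  obtain ⟨k, b, y, hxy, hb⟩ := (Module.Flat.iff_forall_isTrivialRelation (R := A) (M := N)).mp inferInstance h0
  refine ⟨k, fun i j => θ (b i j), y, fun i => ?_, fun j => ?_⟩
  · rw [hxy i]; rfl
  · simp only [← ha, ← map_mul, ← map_sum, hb j, map_zero]

open IsLocalRing in
/-- Let p be a prime of a ring A, Ah a henselization and Ash a strict henselization of A_p, with Ash an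
Ah-algebra compatibly with the maps from A_p. For a module Msh over Ash the following are
equivalent: Msh is flat over A_p; Msh is flat over Ah; Msh is flat over Ash. For a module Mh over
Ah: Mh is flat over A_p if and only if it is flat over Ah. (This is the ring form, over the base
Spec A, of a statement about stalks on a scheme; the published statement also relates the two groups
of equivalences when Msh = Ash ⊗_{Ah} Mh and has one further item, neither of which is stated here.) -/
theorem result {A : Type u} [CommRing A] (p : Ideal A) [p.IsPrime]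
    (Ah Ash : Type u) [CommRing Ah] [IsLocalRing Ah] [CommRing Ash] [IsLocalRing Ash]
    [Algebra (Localization.AtPrime p) Ah] [IsLocalHom (algebraMap (Localization.AtPrime p) Ah)] [Hensel.IsHenselization (Localization.AtPrime p) Ah]
    [Algebra (Localization.AtPrime p) Ash] [IsLocalHom (algebraMap (Localization.AtPrime p) Ash)] [Hensel.IsStrictHenselization (Localization.AtPrime p) Ash]
    [Algebra Ah Ash] [IsScalarTower (Localization.AtPrime p) Ah Ash]
    (Msh : Type u) [AddCommGroup Msh] [Module Ash Msh] [Module Ah Msh] [Module (Localization.AtPrime p) Msh]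
    [IsScalarTower Ah Ash Msh] [IsScalarTower (Localization.AtPrime p) Ash Msh] [IsScalarTower (Localization.AtPrime p) Ah Msh]
    (Mh : Type u) [AddCommGroup Mh] [Module Ah Mh] [Module (Localization.AtPrime p) Mh] [IsScalarTower (Localization.AtPrime p) Ah Mh] :
    [Module.Flat (Localization.AtPrime p) Msh, Module.Flat Ah Msh, Module.Flat Ash Msh].TFAE ∧
    (Module.Flat (Localization.AtPrime p) Mh ↔ Module.Flat Ah Mh) := by
  have h1 := Groth.Agent.Hensel.isEtLike_of_isHenselization (Localization.AtPrime p) Ah
  have h2 := Groth.Agent.Hensel.isEtLike_of_isStrictHenselization (Localization.AtPrime p) Ash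
  have := h1.flat
  have := h2.flat
  have : Module.Flat Ah Ash := flat_of_isEtLike h1 Ash
  refine ⟨?_, fun _ => flat_of_isEtLike h1 Mh, fun _ => Module.Flat.trans (Localization.AtPrime p) Ah Mh⟩
  tfae_have 1 → 2 := fun _ => flat_of_isEtLike h1 Msh
  tfae_have 1 → 3 := fun _ => flat_of_isEtLike h2 Msh
  tfae_have 2 → 1 := fun _ => Module.Flat.trans (Localization.AtPrime p) Ah Msh
  tfae_have 3 → 2 := fun _ => Module.Flat.trans Ah Ash Msh
  tfae_finish

end Groth.Agent.S1235
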