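import Groth.Statements.S9237
import Groth.Agent.Hens.BranchCount

set_option linter.style.haveILetI false

set_option autoImplicit false
universe u
open Brnch

namespace Groth.Agent.S9237

/-- Let A be a local ring and S a henselization of A. Then the number of minimal prime ideals of S, a
natural number or infinity, equals the number of branches of A as computed from the integral closure
of A_red in its total ring of fractions: infinity if A has infinitely many minimal primes, and
otherwise the number of maximal ideals of that integral closure. -/
theorem result (A S : Type u) [CommRing A]
    [IsLocalRing A] [CommRing S] [IsLocalRing S] [Algebra A S] [IsLocalHom (algebraMap A S)]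
    [Hensel.IsHenselization A S] :
    ENat.card (minimalPrimes S) = Brnch.numBranches A := by
  haveI : HenselianLocalRing S := Hensel.IsHenselization.henselian (R := A)
  have h := Groth.Agent.Hensel.isEtLike_of_isHenselization A S
  by_cases hA : (minimalPrimes A).Finite
  · rw [Brnch.numBranches, if_pos hA]
    obtain ⟨e⟩ := Groth.Agent.Hens.nonempty_minimalPrimes_equiv_maximalSpectrum h hA
    haveI : Algebra.IsIntegral A (CAlg2.normRed A) := by
      haveI : Algebra.IsIntegral A (CAlg2.red A) := Algebra.IsIntegral.of_finite A _
      exact Algebra.IsIntegral.trans (CAlg2.red A)
    obtain ⟨e', -⟩ := Groth.Agent.Hens.exists_maximalSpectrum_tensor_equiv (A := A) (S := S)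
      (N := CAlg2.normRed A) (Groth.Agent.Hens.residueMap_bijective_of_isHenselization (R := A) S)
    exact ENat.card_congr (e.trans e')
  · rw [Brnch.numBranches, if_neg hA, Groth.Agent.Hens.card_minimalPrimes_eq_top_of_infinite h hA]

end Groth.Agent.S9237
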