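import Groth.Statements.S9238
import Groth.Agent.Hens.BranchCount

set_option linter.style.haveILetI false

set_option autoImplicit false
universe u
open Brnch

namespace Groth.Agent.S9238

/-- Let A be a local ring and S a strict henselization of A. Then the number of minimal prime ideals of
S, a natural number or infinity, equals the number of geometric branches of A as computed from the
integral closure of A_red in its total ring of fractions (maximal ideals counted with multiplicity
the separable degree of their residue field over that of A; infinity if A has infinitely many
minimal primes). -/
theorem result (A S : Type u) [CommRing A]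
    [IsLocalRing A] [CommRing S] [IsLocalRing S] [Algebra A S] [IsLocalHom (algebraMap A S)]
    [Hensel.IsStrictHenselization A S] :
    ENat.card (minimalPrimes S) = Brnch.numGeomBranches A := by
  haveI : HenselianLocalRing S := Hensel.IsStrictHenselization.henselian (R := A)
  have h := Groth.Agent.Hensel.isEtLike_of_isStrictHenselization A S
  haveI : IsSepClosure (IsLocalRing.ResidueField A) (IsLocalRing.ResidueField S) :=
    Hensel.IsStrictHenselization.isSepClosure
  by_cases hA : (minimalPrimes A).Finite
  · rw [Brnch.numGeomBranches, if_pos hA]
    obtain ⟨e⟩ := Groth.Agent.Hens.nonempty_minimalPrimes_equiv_maximalSpectrum h hA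
    haveI : Algebra.IsIntegral A (CAlg2.normRed A) := by
      haveI : Algebra.IsIntegral A (CAlg2.red A) := Algebra.IsIntegral.of_finite A _
      exact Algebra.IsIntegral.trans (CAlg2.red A)
    obtain ⟨e'⟩ := Groth.Agent.Hens.exists_sigma_emb_equiv (A := A) (S := S) (N := CAlg2.normRed A)
    exact ENat.card_congr (e.trans e'.symm)
  · rw [Brnch.numGeomBranches, if_neg hA, Groth.Agent.Hens.card_minimalPrimes_eq_top_of_infinite h hA]

end Groth.Agent.S9238
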