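import Groth.Statements.S10463
import Groth.Agent.AlgSpB.BigField.Locus
import Groth.Agent.AlgSpB.OpenGlue
import Groth.Agent.AlgSp.LimSepAbs

set_option autoImplicit false
set_option backward.isDefEq.respectTransparency false
set_option backward.isDefEq.respectTransparency.types false

universe u
open CategoryTheory CategoryTheory.Limits AlgebraicGeometry Topology TopologicalSpace
open AlgSp

namespace Groth.Agent.S10463

/-- Products are stable under base change in the second variable. -/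
theorem isPullback_prod_snd {C : Type*} [Category C] [HasBinaryProducts C] (X : C) {A B : C} (φ : A ⟶ B) :
    IsPullback (prod.snd : X ⨯ A ⟶ A) (prod.map (𝟙 X) φ) φ (prod.snd : X ⨯ B ⟶ B) := by
  refine IsPullback.of_isLimit' ⟨by simp⟩ (PullbackCone.IsLimit.mk _
    (fun c => prod.lift (c.snd ≫ prod.fst) c.fst) (fun c => prod.lift_snd _ _) (fun c => ?_) (fun c m h1 h2 => ?_))
  · apply prod.hom_ext
    · simp
    · simp [c.condition]
  · apply prod.hom_ext
    · simp [← h2]
    · simp [← h1]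

/-- Let k be a field with algebraic closure k̄ and X a quasi-separated algebraic space over k. If X_K is
a scheme for some field extension K of k, then X_{k̄} is a scheme. -/
theorem result (k : Type u) [Field k]
    (X : AlgSp.Space (Spec (CommRingCat.of k))) (hqs : AlgSp.IsQuasiSeparatedSp X.obj)
    (K : Type u) [Field K] [Algebra k K] (h : (X.obj ⨯ (AlgSp.yon (Spec (CommRingCat.of k))).obj (Over.mk (Spec.map (CommRingCat.ofHom (algebraMap k K))))).obj.IsRepresentable)
    (kbar : Type u) [Field kbar] [Algebra k kbar] [IsAlgClosure k kbar] :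
    (X.obj ⨯ (AlgSp.yon (Spec (CommRingCat.of k))).obj (Over.mk (Spec.map (CommRingCat.ofHom (algebraMap k kbar))))).obj.IsRepresentable := by
  classical
  let S := Spec (CommRingCat.of k)
  let hT := Groth.Agent.AlgSp.LimSepAbs.isTerminalBase (S := S)
  have : IsAlgClosed kbar := IsAlgClosure.isAlgClosed k
  let σ : Spec (CommRingCat.of kbar) ⟶ S := Spec.map (CommRingCat.ofHom (algebraMap k kbar))
  let Lo : Over S := Over.mk σ
  let Ko : Over S := Over.mk (Spec.map (CommRingCat.ofHom (algebraMap k K)))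
  have sqX : IsPullback (prod.fst : X.obj ⨯ (yon S).obj Lo ⟶ X.obj) prod.snd (hT.from _) (hT.from _) :=
    IsPullback.of_is_product (prodIsProd _ _) hT
  have hX : IsAlgSpace (X.obj ⨯ (yon S).obj Lo) :=
    Groth.Agent.AlgSp.isAlgSpace_of_isPullback' (IsAlgSpace.yon_obj _) X.property (IsAlgSpace.yon_obj Lo) sqX
  have haff : RepWith @IsAffineHom (prod.fst : X.obj ⨯ (yon S).obj Lo ⟶ X.obj) := by
    refine MorphismProperty.of_isPullback sqX.flip ?_
    rw [hT.hom_ext (hT.from _) ((yon S).map (Over.homMk σ (Category.comp_id _) : Lo ⟶ Over.mk (𝟙 S)))]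
    exact (repWith_yon_map_iff _ _).2 (inferInstanceAs (IsAffineHom (Spec.map _)))
  have hXqs : IsQuasiSeparatedSp (X.obj ⨯ (yon S).obj Lo) :=
    Groth.Agent.AlgSp.LimAffine.isQuasiSeparatedSp_of_mor _ (Groth.Agent.AlgSp.repWith_mono
      (fun g hg => (have : IsClosedImmersion g := hg; inferInstance : QuasiCompact g))
      (Groth.Agent.AlgSp.LimMono.diagonal_of_isAffineMor hX ((Groth.Agent.AlgSp.isAffineMor_iff _).2 haff))) hqs
  obtain ⟨Z, ⟨eZ⟩⟩ := Groth.Agent.AlgSpB.exists_iso_of_isRepresentable h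
  obtain ⟨X', j, hj, hjrep, hmax⟩ := Groth.Agent.AlgSpB.exists_largest_open_subscheme ⟨_, hX⟩
  suffices h : ∀ x, x ∈ Set.range (Points.map j.hom) by
    obtain ⟨l, hl⟩ := (Groth.Agent.AlgSpB.exists_factor_isOpenImmersion_iff hj (𝟙 _)).2 fun x _ => h x
    have := Groth.Agent.AlgSpB.mono_of_isOpenImmersion hj
    obtain ⟨Z', ⟨e⟩⟩ := Groth.Agent.AlgSpB.exists_iso_of_isRepresentable hjrep
    exact Groth.Agent.AlgSpB.isRepresentable_of_iso
      (e ≪≫ ⟨j.hom, l, (cancel_mono j.hom).1
        (by rw [Category.assoc, hl]; exact (Category.comp_id _).trans (Category.id_comp _).symm), hl⟩)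
  intro x
  obtain ⟨p, hp⟩ := Groth.Agent.AlgSpB.exists_eq_ofPt_toHom x
  obtain ⟨ψ, hψ⟩ := (yon S).map_surjective (p.toHom ≫ prod.snd)
  obtain ⟨pt₀⟩ : Nonempty p.pt.left := inferInstanceAs (Nonempty (Spec (CommRingCat.of p.K)))
  obtain ⟨u₀⟩ : Nonempty Ko.left := inferInstanceAs (Nonempty (PrimeSpectrum K))
  have : Subsingleton S := inferInstanceAs (Subsingleton (PrimeSpectrum k))
  obtain ⟨z, -, -⟩ := Scheme.Pullback.exists_preimage_pullback (f := Ko.hom) (g := p.pt.hom) u₀ pt₀
    (Subsingleton.elim _ _)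
  let P := pullback Ko.hom p.pt.hom
  let To : Over S := Over.mk (P.fromSpecResidueField z ≫ pullback.fst Ko.hom p.pt.hom ≫ Ko.hom)
  let fK : To ⟶ Ko := Over.homMk (P.fromSpecResidueField z ≫ pullback.fst Ko.hom p.pt.hom) (Category.assoc _ _ _)
  let fF : To ⟶ p.pt := Over.homMk (P.fromSpecResidueField z ≫ pullback.snd Ko.hom p.pt.hom) (by
    change _ = P.fromSpecResidueField z ≫ pullback.fst Ko.hom p.pt.hom ≫ Ko.hom
    rw [pullback.condition, Category.assoc])
  let φ : To ⟶ Lo := fF ≫ ψ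
  obtain ⟨κ, hκ⟩ := Spec.map_surjective (R := CommRingCat.of kbar) φ.left
  let : Algebra kbar (P.residueField z) := κ.hom.toAlgebra
  -- the base change to `To` is a scheme
  obtain ⟨W, a₁, a₂, sW⟩ := Groth.Agent.AlgSpB.exists_pullback_yon (representable_yon_map fK) (eZ.hom ≫ prod.snd)
  have sQ : IsPullback (prod.snd : X.obj ⨯ (yon S).obj To ⟶ _) (prod.map (𝟙 X.obj) ((yon S).map fK) ≫ eZ.inv)
      ((yon S).map fK) (eZ.hom ≫ prod.snd) :=
    (isPullback_prod_snd X.obj ((yon S).map fK)).of_iso (Iso.refl _) (Iso.refl _) eZ.symm (Iso.refl _)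
      (by simp) (by simp) (by simp) (by simp; rfl)
  let b : (yon S).obj W ⟶ X.obj ⨯ (yon S).obj To := (sW.isoIsPullback _ _ sQ).hom
  have hb : RepWith @IsOpenImmersion b := by
    have : IsIso b := inferInstanceAs (IsIso (sW.isoIsPullback _ _ sQ).hom)
    refine ⟨Functor.relativelyRepresentable.of_isIso (F := yon S) _, fun _ _ g fst snd sq => ?_⟩
    have : IsIso ((yon S).map snd) := sq.isIso_snd_of_isIso
    have : IsIso snd := isIso_of_reflects_iso _ (yon S)
    have : IsIso snd.left := inferInstanceAs (IsIso ((Over.forget S).map snd))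
    exact (inferInstance : IsOpenImmersion snd.left)
  obtain ⟨l₀, hl₀⟩ := (yon S).map_surjective
    (prod.lift ((yon S).map fF ≫ p.toHom ≫ prod.fst) (𝟙 _) ≫ inv b)
  obtain ⟨V', jV', hjV', hx⟩ := Groth.Agent.AlgSpB.BigField.mem_schemeLocus (K := P.residueField z) σ hX hXqs
    prod.snd φ (Iso.refl _) (by rw [Iso.refl_hom, Category.id_comp, ← hκ]; rfl) _ _
    (isPullback_prod_snd X.obj ((yon S).map φ)) b hb (l₀.left (IsLocalRing.closedPoint _))
  obtain ⟨l, hl⟩ := hmax ⟨(yon S).obj V', IsAlgSpace.yon_obj V'⟩ (ObjectProperty.homMk jV') hjV'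
    (Groth.Agent.AlgSpB.isRepresentable_of_iso (Iso.refl ((yon S).obj V')))
  have e : (yon S).map l₀ ≫ b ≫ prod.map (𝟙 X.obj) ((yon S).map φ) = (yon S).map fF ≫ p.toHom := by
    rw [hl₀, Category.assoc, IsIso.inv_hom_id_assoc]
    apply prod.hom_ext
    · simp
    · simp [φ, ← hψ]
  rw [← Groth.Agent.AlgSpB.ofPt_map_comp, e, Groth.Agent.AlgSpB.ofPt_map_comp, hp] at hx
  obtain ⟨y, hy⟩ := hx
  exact ⟨Points.map l.hom y, by rw [← Points.map_comp]; exact (congrArg (fun f => Points.map f.hom y) hl).trans hy⟩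

end Groth.Agent.S10463
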