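import Groth.Statements.S10424
import Groth.Agent.AlgSpCov.UnivBddOps
-- import your own Groth.Agent.* helpers here

set_option autoImplicit false
universe u
open CategoryTheory CategoryTheory.Limits AlgebraicGeometry Topology TopologicalSpace
open AlgSp

set_option backward.isDefEq.respectTransparency false

namespace Groth.Agent.S10424

open Groth.Agent

/-- Let X be an algebraic space over a scheme S, V ⟶ U a morphism of schemes over S and U ⟶ X a
morphism. Suppose that the fibres of V ⟶ U and of U ⟶ X are universally bounded. Then V ⟶ X also has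
universally bounded fibres. -/
theorem result {S : Scheme.{u}} (X : AlgSp.Space S) {U V : Over S} (f : V ⟶ U)
    (g : (AlgSp.yon S).obj U ⟶ X.obj) (hf : W4dec.HasUnivBddFibres ((AlgSp.yon S).map f)) (hg : W4dec.HasUnivBddFibres g) :
    W4dec.HasUnivBddFibres ((AlgSp.yon S).map f ≫ g) := by
  obtain ⟨n, hn⟩ := hf
  obtain ⟨m, hm⟩ := hg
  refine ⟨n * m, fun q T c snd sq => ?_⟩
  obtain ⟨TU, d, e, sqU⟩ := AlgSpB.exists_pullback_yon (X.property.representable_from_yon q.toHom) g
  obtain ⟨hfinU, hleU⟩ := hm q TU d ((AlgSp.yon S).map e) sqU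
  let l := sqU.lift ((AlgSp.yon S).map c) (snd ≫ (AlgSp.yon S).map f) (by rw [sq.w, Category.assoc])
  have hl : IsPullback snd l ((AlgSp.yon S).map f) ((AlgSp.yon S).map e) := by
    refine IsPullback.of_bot ?_ (sqU.lift_snd _ _ _).symm sqU.flip
    rw [sqU.lift_fst]
    exact sq.flip
  obtain ⟨l', hl'⟩ := (AlgSp.yon S).map_surjective l
  rw [← hl'] at hl
  have hb := AlgSpCov.UnivBddOps.bdd_of_sq hn hl
  have hc : c.left = l'.left ≫ d.left := by
    rw [← Over.comp_left]
    exact congrArg CommaMorphism.left ((AlgSp.yon S).map_injective (by rw [Functor.map_comp, hl', sqU.lift_fst]))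
  rw [hc]
  exact AlgSpCov.RankBound.bdd_comp hleU hb

end Groth.Agent.S10424
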