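import Groth.Statements.S10084
import Groth.Agent.AlgSpB.IdealApprox.Main
import Groth.Agent.AlgSp.IdealEtLib
import Groth.Agent.AlgSpB.RedInduced

set_option autoImplicit false
set_option backward.isDefEq.respectTransparency false
set_option backward.isDefEq.respectTransparency.types false

universe u
open CategoryTheory CategoryTheory.Limits AlgebraicGeometry Opposite
open AlgSp

namespace Groth.Agent.S10084

open Groth.Agent.AlgSp.CartierDesc (subOver subι exists_ideal comap_eq)
open Groth.Agent in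
/-- The inverse image of a closed subspace on a chart is the support of its ideal. -/
theorem preimage_range {S : Scheme.{u}} {F Z : AlgSp.Sp S} {i : Z ⟶ F} {U : Over S} {p : (AlgSp.yon S).obj U ⟶ F}
    {I : U.left.IdealSheafData} {fst : (AlgSp.yon S).obj (subOver U I) ⟶ Z}
    (sq : IsPullback fst ((AlgSp.yon S).map (subι U I)) i p) :
    AlgSp.Points.ofPt p ⁻¹' Set.range (AlgSp.Points.map i) = (I.support : Set U.left) := by
  rw [← I.range_subschemeι]
  ext x
  constructor
  · rintro ⟨z, hz⟩
    rw [AlgSp.Points.ofPt_eq_map_ofScheme] at hz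
    obtain ⟨w, -, hw⟩ := AlgSpB.exists_of_isPullback sq z _ hz
    refine ⟨AlgSp.Points.toScheme _ w, ?_⟩
    have := AlgSp.Points.ofPt_eq_map_ofScheme ((AlgSp.yon S).map (subι U I)) (AlgSp.Points.toScheme _ w)
    rw [AlgSp.Points.ofScheme_toScheme, hw] at this
    have h2 := congrArg (AlgSp.Points.toScheme U) this
    rw [AlgSp.Points.toScheme_ofPt, AlgSp.Points.toScheme_ofScheme] at h2
    exact h2
  · rintro ⟨w, rfl⟩
    refine ⟨AlgSp.Points.ofPt fst w, ?_⟩
    rw [AlgSp.Points.map_ofPt, sq.w, AlgSpB.ofPt_map_comp]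
    rfl

/-- Let `S` be a quasi-separated scheme, `X` an algebraic space over `S`, quasi-compact and
quasi-separated over `S`, and `j : U ⟶ X` an open subspace. Then `U` is quasi-compact exactly when
there are a quasi-coherent sheaf of ideals `I` of finite type on the small etale site of `X`
(finitely generated ideal of sections on every affine object) and a closed subspace `Z ⟶ X` cut out
by `I` whose points are exactly the points of `X` outside the image of `U`. (The further equivalent
condition that `j` is quasi-compact is not included.) (The published statement allows any base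
scheme and uses absolute quasi-separatedness; this row assumes the base quasi-separated, over which
quasi-separatedness relative to the base is the absolute notion.) -/
theorem result {S : Scheme.{u}} [QuasiSeparatedSpace ↥S] (X : AlgSp.Space S)
    (hqc : AlgSp.IsQuasiCompactSp X.obj) (hqs : AlgSp.IsQuasiSeparatedSp X.obj)
    (U : AlgSp.Space S) (j : U ⟶ X) (hj : AlgSp.RepWith @IsOpenImmersion j.hom) :
    AlgSp.IsQuasiCompactSp U.obj ↔
      ∃ (I : AlgSp.IdealEt X.obj), I.IsQCoh ∧
        (∀ (E : AlgSp.EtOver X.obj) (hE : IsAffine E.obj.left.left), (I.ideal E hE).FG) ∧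
        ∃ (Z : AlgSp.Space S) (i : Z ⟶ X), AlgSp.IsCutOutBy I i.hom ∧
          Set.range (AlgSp.Points.map i.hom) = (Set.range (AlgSp.Points.map j.hom))ᶜ := by
  obtain ⟨V, p, hV, hp, hps⟩ := Groth.Agent.AlgSpEN.exists_affine_atlas X hqc
  have := hV
  obtain ⟨R, t, s, sq⟩ := Groth.Agent.AlgSp.exists_isPullback_yon X.property.diag p p
  have hopen := Groth.Agent.AlgSpB.isOpen_range_of_isOpenImmersion hj
  let A : Set (AlgSp.Points X.obj) := Set.range (AlgSp.Points.map j.hom)
  have htop : IsAffineOpen (⊤ : V.left.Opens) := isAffineOpen_top _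
  constructor
  · intro hU
    have hA : IsCompact A := Groth.Agent.AlgSpEN.isCompact_range_map j hU
    obtain ⟨Z₀, i₀, -, hi₀, hr₀, -⟩ := Groth.Agent.AlgSpB.exists_redInduced X.property Aᶜ hopen.isClosed_compl
    obtain ⟨I, fI, sqI⟩ := exists_ideal hi₀ p
    have hI : I.comap t.left = I.comap s.left := Groth.Agent.AlgSp.ClosedSub.comap_eq_comap hi₀ sq.w sqI
    have hsupp : AlgSp.Points.ofPt p ⁻¹' A = ((I.support : Set V.left))ᶜ := by
      rw [← preimage_range sqI, hr₀, Set.preimage_compl, compl_compl]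
    have : QuasiCompact t.left := (Groth.Agent.AlgSpEN.repWith_quasiCompact_chart X hqs p).2 _ _ _ sq.flip
    have hK : IsCompact (AlgSp.Points.ofPt p ⁻¹' A) :=
      Groth.Agent.AlgSpB.IdealApprox.isCompact_preimage_ofPt sq A hA hopen hp (Groth.Agent.AlgSpB.surjective_ofPt hps)
    have hsup := Groth.Agent.AlgSpB.IdealApprox.iSup_idx_eq hqc hqs hp hps sq hI
    obtain ⟨J, hJ⟩ : ∃ J : Groth.Agent.AlgSpB.IdealApprox.Idx t s I,
        AlgSp.Points.ofPt p ⁻¹' A ⊆ ((J.1.support : Set V.left))ᶜ := by
      refine hK.elim_directed_cover (fun J : Groth.Agent.AlgSpB.IdealApprox.Idx t s I => ((J.1.support : Set V.left))ᶜ)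
        (fun J => J.1.support.isClosed.isOpen_compl) (fun x hx => ?_)
        (Monotone.directed_le fun a b hab => Set.compl_subset_compl.2 (Scheme.IdealSheafData.support_antitone hab))
      rw [hsupp] at hx
      by_contra hc
      simp only [Set.mem_iUnion, Set.mem_compl_iff, not_exists, not_not] at hc
      apply hx
      rw [SetLike.mem_coe, Scheme.IdealSheafData.mem_support_iff_of_mem (U := ⟨⊤, htop⟩) trivial, Scheme.mem_zeroLocus_iff]
      intro a ha
      rw [← hsup, Scheme.IdealSheafData.ideal_iSup, iSup_apply, SetLike.mem_coe] at ha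
      obtain ⟨J, hJ⟩ := (Submodule.mem_iSup_of_directed _
        (Monotone.directed_le fun (a b : Groth.Agent.AlgSpB.IdealApprox.Idx t s I) hab => (show a.1 ≤ b.1 from hab) ⟨⊤, htop⟩)).1 ha
      have := hc J
      rw [SetLike.mem_coe, Scheme.IdealSheafData.mem_support_iff_of_mem (U := ⟨⊤, htop⟩) trivial, Scheme.mem_zeroLocus_iff] at this
      exact this a hJ
    obtain ⟨Z, i, fst, hZ, hi, sqZ⟩ := Groth.Agent.AlgSp.ClosedSub.exists_closed hp hps sq J.1 J.2.2.2
    refine ⟨AlgSp.idealOfRep hi.1, Groth.Agent.AlgSp.IdealEtLib.isQCoh_idealOfRep hi, fun E hE => ?_,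
      ⟨Z, hZ⟩, ObjectProperty.homMk i, ⟨hi, rfl⟩, ?_⟩
    · obtain ⟨JE, fE, sqE⟩ := exists_ideal hi E.obj.hom
      rw [← Groth.Agent.AlgSp.IdealEtLib.ideal_top_eq hi E hE sqE]
      obtain ⟨P, a, b, sqP⟩ := Groth.Agent.AlgSpB.exists_pullback_yon hp.1 E.obj.hom
      have : Etale b.left := hp.2 _ _ _ sqP
      have : Surjective b.left := hps.2 _ _ _ sqP
      have : QuasiCompact b.left := (Groth.Agent.AlgSpEN.repWith_quasiCompact_chart X hqs p).2 _ _ _ sqP
      obtain ⟨JP, fP, sqJP⟩ := exists_ideal hi ((AlgSp.yon S).map a ≫ p)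
      have h1 : J.1.comap a.left = JP := comap_eq a sqZ sqJP
      rw [sqP.w] at sqJP
      have h2 : JE.comap b.left = JP := comap_eq b sqE sqJP
      refine Groth.Agent.AlgSpB.IdealApprox.fg_of_comap b.left JE (fun W => ?_) _
      rw [h2, ← h1]
      exact Groth.Agent.LimLib.fg_comap J.2.1 _ W
    · change Set.range (AlgSp.Points.map i) = Aᶜ
      ext x
      obtain ⟨y, rfl⟩ := Groth.Agent.AlgSpB.surjective_ofPt hps x
      have e1 : AlgSp.Points.ofPt p y ∈ Set.range (AlgSp.Points.map i) ↔ y ∈ (J.1.support : Set V.left) := by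
        rw [← preimage_range sqZ]; rfl
      rw [e1, Set.mem_compl_iff]
      refine ⟨fun hy hyA => hJ hyA hy, fun hy => ?_⟩
      have : y ∈ (I.support : Set V.left) := by
        have h3 : y ∉ AlgSp.Points.ofPt p ⁻¹' A := hy
        rwa [hsupp, Set.mem_compl_iff, not_not] at h3
      exact Scheme.IdealSheafData.support_antitone J.2.2.1 this
  · rintro ⟨I, -, hfg, Z, i, ⟨hi, rfl⟩, hr⟩
    obtain ⟨J, fst, sqJ⟩ := exists_ideal hi p
    let E : AlgSp.EtOver X.obj := ⟨CostructuredArrow.mk p, hp⟩
    obtain ⟨T, hT⟩ : ∃ T : Finset Γ(V.left, ⊤), Ideal.span (T : Set Γ(V.left, ⊤)) = J.ideal ⟨⊤, htop⟩ := by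
      have h1 := hfg E hV
      rw [← Groth.Agent.AlgSp.IdealEtLib.ideal_top_eq hi E hV sqJ] at h1
      exact h1
    have e : AlgSp.Points.ofPt p ⁻¹' A = ⋃ a ∈ T, (V.left.basicOpen a : Set V.left) := by
      have h1 : AlgSp.Points.ofPt p ⁻¹' A = ((J.support : Set V.left))ᶜ := by
        rw [← preimage_range sqJ, hr, Set.preimage_compl, compl_compl]
      rw [h1]
      ext x
      rw [Set.mem_compl_iff, SetLike.mem_coe, Scheme.IdealSheafData.mem_support_iff_of_mem (U := ⟨⊤, htop⟩) trivial,
        ← hT, Scheme.zeroLocus_span, Scheme.mem_zeroLocus_iff]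
      simp
    refine Groth.Agent.AlgSpEN.isQuasiCompactSp_of_isCompact_range j hj ?_
    rw [show Set.range (AlgSp.Points.map j.hom) = AlgSp.Points.ofPt p '' (AlgSp.Points.ofPt p ⁻¹' A) from
      (Set.image_preimage_eq A (Groth.Agent.AlgSpB.surjective_ofPt hps)).symm, e]
    exact (T.isCompact_biUnion fun a _ => (htop.basicOpen a).isCompact).image (AlgSp.Points.continuous_ofPt p)

end Groth.Agent.S10084
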