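import Groth.Statements.S10068
import Groth.Agent.AlgSpSpec.OverV
-- import your own Groth.Agent.* helpers here

set_option autoImplicit false
set_option backward.isDefEq.respectTransparency false
set_option backward.isDefEq.respectTransparency.types false
universe u
open CategoryTheory CategoryTheory.Limits AlgebraicGeometry
open AlgSp

namespace Groth.Agent.S10068

/-- Let `f : X ⟶ Y`, a morphism of algebraic spaces over `S`, be integral, with `Y` quasi-compact and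
quasi-separated over `S`, and let `V ⊂ Y` be an open subspace, quasi-compact, over which the base
change `f⁻¹(V) ⟶ V` is finite as well as of finite presentation. Then `X` is the limit of a directed
system of algebraic spaces `X_i`, each finite and of finite presentation over `Y` (limit in fppf
sheaves, indexed by a nonempty directed preorder, affine transitions, compatible with `f`), such
that `f⁻¹(V) ⟶ f_i⁻¹(V)` is an isomorphism for every `i`. (The published statement allows any base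
scheme and uses absolute quasi-separatedness; this row assumes the base quasi-separated, over which
quasi-separatedness relative to the base is the absolute notion.) -/
theorem result (S : Scheme.{u}) [QuasiSeparatedSpace S]
    {X Y : AlgSp.Space S} (f : X ⟶ Y) (hf : AlgSp.IsIntegralMor f.hom)
    (hYqc : AlgSp.IsQuasiCompactSp Y.obj) (hYqs : AlgSp.IsQuasiSeparatedSp Y.obj)
    (V : AlgSp.Space S) (j : V ⟶ Y) (hj : AlgSp.RepWith @IsOpenImmersion j.hom) (hVqc : AlgSp.IsQuasiCompactSp V.obj)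
    (PV : AlgSp.Sp S) (pv₁ : PV ⟶ X.obj) (pv₂ : PV ⟶ V.obj) (hPV : IsPullback pv₁ pv₂ f.hom j.hom)
    (hfin : AlgSp.IsFiniteMor pv₂) (hfp : AlgSp.IsFinitePresentationMor pv₂) :
    ∃ (I : Type u) (_ : Preorder I) (_ : IsDirected I (fun a b => a ≤ b)) (_ : Nonempty I) (D : Iᵒᵖ ⥤ AlgSp.Sp S)
      (t : D ⟶ (Functor.const Iᵒᵖ).obj Y.obj) (c : Cone D) (_ : IsLimit c) (e : c.pt ≅ X.obj),
      (∀ i, AlgSp.IsAlgSpace (D.obj i)) ∧ (∀ (i j : Iᵒᵖ) (φ : i ⟶ j), AlgSp.IsAffineMor (D.map φ)) ∧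
      (∀ i, AlgSp.IsFiniteMor (t.app i) ∧ AlgSp.IsFinitePresentationMor (t.app i)) ∧ (∀ i, e.inv ≫ c.π.app i ≫ t.app i = f.hom) ∧
      (∀ (i : Iᵒᵖ) (Pi : AlgSp.Sp S) (q₁ : Pi ⟶ D.obj i) (q₂ : Pi ⟶ V.obj), IsPullback q₁ q₂ (t.app i) j.hom →
        ∀ k : PV ⟶ Pi, k ≫ q₁ = pv₁ ≫ e.inv ≫ c.π.app i → k ≫ q₂ = pv₂ → IsIso k) := by
  have haff : AlgSp.IsAffineMor f.hom := fun Z hZ g => by
    obtain ⟨W, i, fst, h, hW, -⟩ := hf hZ g
    exact ⟨W, i, fst, h, hW⟩
  obtain ⟨B, hdir, hne, ⟨hlim⟩⟩ := Groth.Agent.AlgSpSpec.exists_limit_affine haff hYqc hYqs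
    (Good := fun B n => AlgSp.RepWith @IsFinite (Groth.Agent.AlgSpSpec.Basic.inc n ≫ B.base n.1) ∧
      ∀ (P : AlgSp.Sp S) (q₁ : P ⟶ Groth.Agent.AlgSpSpec.Basic.Z n) (q₂ : P ⟶ V.obj),
        IsPullback q₁ q₂ (Groth.Agent.AlgSpSpec.Basic.inc n ≫ B.base n.1) j.hom →
        ∀ k : PV ⟶ P, k ≫ q₁ = pv₁ ≫ Groth.Agent.AlgSpSpec.Basic.toZ n → k ≫ q₂ = pv₂ → IsIso k)
    (fun B n => by
      have H : Groth.Agent.AlgSpSpec.Basic.OpenData j pv₁ pv₂ B := ⟨hj, hPV, hfin, hfp.1, hVqc⟩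
      obtain ⟨Vo, jU, fV, L, sV, hjU, hL, hcov⟩ := Groth.Agent.AlgSpSpec.Basic.exists_cover H
      obtain ⟨m, hnm, hm, hiso⟩ :=
        Groth.Agent.AlgSpSpec.Basic.exists_isoAt_ge hf L (fun a ha => (hL a ha).2) n
      exact ⟨m, hnm, hm, fun P q₁ q₂ sP k h₁ h₂ =>
        Groth.Agent.AlgSpSpec.Basic.isIso_of_isoAt H sV hjU hcov hiso sP k h₁ h₂⟩)
  refine ⟨_, inferInstance, hdir, hne, B.system _, B.systemT _, B.systemCone _, hlim, Iso.refl _,
    fun i => Groth.Agent.AlgSpSpec.Basic.isAlgSpace_Z i.unop.1,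
    fun _ _ φ => Groth.Agent.AlgSpSpec.affine_systemMap φ,
    fun i => ⟨(Groth.Agent.AlgSpCov.isFiniteMor_iff _).2 i.unop.2.1, Groth.Agent.AlgSpSpec.Basic.fp_str i.unop.1⟩,
    fun i => ?_, fun i Pi q₁ q₂ sP k h₁ h₂ => i.unop.2.2 Pi q₁ q₂ sP k ?_ h₂⟩
  · refine (Category.id_comp _).trans ?_
    change Groth.Agent.AlgSpSpec.Basic.toZ i.unop.1 ≫ Groth.Agent.AlgSpSpec.Basic.inc i.unop.1 ≫ B.base i.unop.1.1 = f.hom
    rw [← Category.assoc, Groth.Agent.AlgSpSpec.Basic.toZ_inc, B.θW_base]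
  · refine h₁.trans (congrArg (pv₁ ≫ ·) ?_)
    exact Category.id_comp _

end Groth.Agent.S10068
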