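import Groth.Statements.S10620
-- import your own Groth.Agent.* helpers here

set_option autoImplicit false
universe u
open CategoryTheory CategoryTheory.Limits AlgebraicGeometry
open AlgSp

namespace Groth.Agent.S10620

/-- Let a : F ⟶ G and b : H ⟶ G be morphisms of fppf sheaves on (Sch/S) and let a' : P ⟶ H be the base
change of a along b (any pullback square). If a is formally smooth, resp. formally etale, resp.
formally unramified, then so is a'. (The published statement is for transformations of arbitrary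
presheaves of sets on (Sch/S)_fppf; this row takes fppf sheaves, the case of algebraic spaces.) -/
theorem result {S : Scheme.{u}} {F G H P : AlgSp.Sp S} (a : F ⟶ G) (b : H ⟶ G)
    (b' : P ⟶ F) (a' : P ⟶ H) (hP : IsPullback b' a' a b) :
    (AlgSp.IsFormallySmoothMor a → AlgSp.IsFormallySmoothMor a') ∧
    (AlgSp.IsFormallyEtaleMor a → AlgSp.IsFormallyEtaleMor a') ∧
    (AlgSp.IsFormallyUnramifiedMor a → AlgSp.IsFormallyUnramifiedMor a') := by
  refine ⟨fun h sq => ?_, fun h sq => ?_, fun h sq => ?_⟩
  all_goals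
    let sqa : InfSq a := ⟨sq.A, sq.I, sq.sq_zero, sq.str, sq.top ≫ b', sq.bot ≫ b, by
      rw [Category.assoc, hP.w, ← Category.assoc, sq.comm, Category.assoc]⟩
  · obtain ⟨l, h1, h2⟩ := h sqa
    refine ⟨hP.lift l sq.bot h2, hP.hom_ext ?_ ?_, hP.lift_snd _ _ _⟩
    · rw [Category.assoc, hP.lift_fst]; exact h1
    · rw [Category.assoc, hP.lift_snd]; exact sq.comm.symm
  · obtain ⟨l, ⟨h1, h2⟩, hu⟩ := h sqa
    refine ⟨hP.lift l sq.bot h2, ⟨hP.hom_ext ?_ ?_, hP.lift_snd _ _ _⟩, fun m hm => ?_⟩
    · rw [Category.assoc, hP.lift_fst]; exact h1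
    · rw [Category.assoc, hP.lift_snd]; exact sq.comm.symm
    · refine hP.hom_ext ?_ ?_
      · rw [hP.lift_fst]
        exact hu _ ⟨by erw [← Category.assoc, hm.1], by
          rw [Category.assoc, hP.w, ← Category.assoc, hm.2]⟩
      · rw [hP.lift_snd]; exact hm.2
  · intro l l' h1 h2 h3 h4
    refine hP.hom_ext ?_ (h2.trans h4.symm)
    exact h sqa _ _ (by erw [← Category.assoc, h1]) (by rw [Category.assoc, hP.w, ← Category.assoc, h2])
      (by erw [← Category.assoc, h3]) (by rw [Category.assoc, hP.w, ← Category.assoc, h4])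

end Groth.Agent.S10620
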