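import Groth.Statements.S0392
import Groth.Agent.LocFlat.Fibre

set_option autoImplicit false
universe u
open FlatMor

namespace Groth.Agent.S0392

open TensorProduct in
/-- Fibrewise criterion of flatness, Noetherian local form: for local homomorphisms R → S → S' of
Noetherian local rings and a nonzero finite S'-module M that is flat over R and whose reduction
modulo the maximal ideal of R is flat over the corresponding fibre ring of S, the ring S is flat
over R and M is flat over S. -/
theorem result {R S S' M : Type u} [CommRing R] [CommRing S] [CommRing S'] [IsLocalRing R] [IsLocalRing S] [IsLocalRing S']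
    [IsNoetherianRing R] [IsNoetherianRing S] [IsNoetherianRing S'] [Algebra R S] [Algebra S S'] [Algebra R S'] [IsScalarTower R S S']
    [IsLocalHom (algebraMap R S)] [IsLocalHom (algebraMap S S')]
    [AddCommGroup M] [Module S' M] [Module S M] [Module R M] [IsScalarTower S S' M] [IsScalarTower R S M]
    [Module.Finite S' M] [Nontrivial M] [Module.Flat R M]
    (h : Module.Flat (S ⧸ ((IsLocalRing.maximalIdeal R).map (algebraMap R S))) ((S ⧸ ((IsLocalRing.maximalIdeal R).map (algebraMap R S))) ⊗[S] M)) :
    Module.Flat R S ∧ Module.Flat S M := by
  have hM : Module.Flat S M := Groth.Agent.LocFlat.flat_criterion (S := S') M _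
    (Groth.Agent.LocFlat.map_le_jacobson _ (ne_top_of_le_ne_top
      (IsLocalRing.maximalIdeal.isMaximal S).ne_top
      (((IsLocalRing.local_hom_TFAE (algebraMap R S)).out 0 2).mp ‹_›)))
    (Groth.Agent.LocFlat.rTensor_map_injective (IsLocalRing.maximalIdeal R) M) h
  have : Module.FaithfullyFlat S M := Groth.Agent.LocFlat.faithfullyFlat_of_local (S' := S') M
  exact ⟨Groth.Agent.LocFlat.flat_of_faithfullyFlat_tower (S := S) M, hM⟩

end Groth.Agent.S0392
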