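import Groth.Statements.S1386
import Groth.Agent.GrpScheme.FlatFib.Scheme
import Groth.Agent.FlatOpen.Scheme
-- import your own Groth.Agent.* helpers here

set_option autoImplicit false
universe u
open FlatMor

namespace Groth.Agent.S1386

open AlgebraicGeometry CategoryTheory Limits in
/-- Fibrewise flatness criterion (critère de platitude par fibres), for the structure sheaf: let f : X →
Y and g : Y → S be morphisms of schemes with X locally of finite presentation over S (via g ∘ f) and
Y locally of finite type over S. For a point x of X with images y = f(x) and s = g(y) the following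
are equivalent: (1) X → S is flat at x and the induced morphism of fibres X_s → Y_s is flat at x;
(2) Y → S is flat at y and f is flat at x. Moreover the set of points x at which (2) holds is open
in X. The published statement treats a finitely presented quasi-coherent O_X-module; here the module
is O_X. -/
theorem result {X Y S : Scheme.{u}} (f : X ⟶ Y) (g : Y ⟶ S) [LocallyOfFinitePresentation (f ≫ g)] [LocallyOfFiniteType g] :
    (∀ x : X, ((f ≫ g).stalkMap x).hom.Flat ∧ ((MoreMor.fiberMap f g (g (f x))).stalkMap ((f ≫ g).asFiber x)).hom.Flat ↔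
        (g.stalkMap (f x)).hom.Flat ∧ (f.stalkMap x).hom.Flat) ∧
      IsOpen {x : ↑X | (g.stalkMap (f x)).hom.Flat ∧ (f.stalkMap x).hom.Flat} := by
  have hf : LocallyOfFinitePresentation f :=
    Groth.Agent.GrpScheme.FlatFib.locallyOfFinitePresentation_of_comp f g
  refine ⟨fun x => ⟨fun h => Groth.Agent.GrpScheme.FlatFib.flat_of_fibre f g x h.1 h.2,
    fun h => Groth.Agent.GrpScheme.FlatFib.fibre_of_flat f g x h.1 h.2⟩, ?_⟩
  have e : {x : ↑X | (g.stalkMap (f x)).hom.Flat ∧ (f.stalkMap x).hom.Flat} =
      {x : ↑X | ((f ≫ g).stalkMap x).hom.Flat} ∩ {x : ↑X | (f.stalkMap x).hom.Flat} := by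
    ext x
    refine ⟨fun h => ⟨(Groth.Agent.GrpScheme.FlatFib.fibre_of_flat f g x h.1 h.2).1, h.2⟩,
      fun h => ⟨?_, h.2⟩⟩
    have h1 := h.1
    refine Groth.Agent.GrpScheme.FlatFib.flat_of_comp_flat_local _ (f.stalkMap x).hom h.2 ?_
    rw [← Groth.Agent.GrpScheme.FlatFib.stalkMap_comp_hom]
    exact h1
  rw [e]
  exact (Groth.Agent.FlatOpen.Scheme.isOpen_stalkMap_flat (f ≫ g)).inter
    (Groth.Agent.FlatOpen.Scheme.isOpen_stalkMap_flat f)

end Groth.Agent.S1386
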