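import Groth.Statements.S10344
import Groth.Agent.AlgSpD.Decent
import Groth.Agent.S10343

set_option autoImplicit false
universe u
open CategoryTheory CategoryTheory.Limits AlgebraicGeometry Topology TopologicalSpace
open AlgSp

namespace Groth.Agent.S10344

/-- Let S be a scheme, Y and X algebraic spaces over S, and f : Y ⟶ X a flat morphism, and let x' ⤳ x be
a specialization in |X|, where x' is represented by a monomorphism Spec k ⟶ X which is representable
quasi-compact (for instance X decent). Then generalizations lift along f at x: every y ∈ |Y| over x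
has a generization y' over x'. -/
theorem result {S : Scheme.{u}} {X Y : AlgSp.Space S} (f : Y ⟶ X)
    (hf : AlgSp.LocP @Flat f.hom) (x x' : AlgSp.Points X.obj) (h : x' ⤳ x)
    (hx' : ∃ p : AlgSp.FieldPt X.obj, AlgSp.Points.mk p = x' ∧ Mono p.toHom ∧ AlgSp.RepWith @QuasiCompact p.toHom)
    (y : AlgSp.Points Y.obj) (hy : AlgSp.Points.map f.hom y = x) :
    ∃ y' : AlgSp.Points Y.obj, y' ⤳ y ∧ AlgSp.Points.map f.hom y' = x' := by
  obtain ⟨V, b, hb, hbs⟩ := X.property.atlas
  obtain ⟨U, a, u, ha, rfl⟩ := AlgSpD.exists_chart Y y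
  obtain ⟨v, hv⟩ := AlgSpB.surjective_ofPt hbs x
  obtain ⟨R, p, g, r, hR, hp, w, hr, hr'⟩ := AlgSpD.exists_diagram_over f ha u hb (hv.trans hy.symm)
  obtain ⟨v', hv', hvx⟩ := S10343.result X x x' h hx' b hb v hv
  have : Flat g.left := hf _ b g hR hb w
  obtain ⟨r', hr1, hr2⟩ := Flat.generalizingMap g.left (show v' ⤳ g.left r by rw [hr']; exact hv')
  refine ⟨AlgSp.Points.ofPt ((AlgSp.yon S).map p ≫ a) r', ?_, ?_⟩
  · have h1 := hr1.map (AlgSp.Points.continuous_ofPt ((AlgSp.yon S).map p ≫ a))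
    rwa [AlgSpB.ofPt_map_comp p a r, hr] at h1
  · rw [AlgSp.Points.map_ofPt, w, AlgSpB.ofPt_map_comp, hr2, hvx]

end Groth.Agent.S10344
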