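import Groth.Statements.S10394
import Groth.Agent.AlgSpD.DecentDim
import Groth.Agent.S10344

set_option autoImplicit false
universe u
open CategoryTheory CategoryTheory.Limits AlgebraicGeometry Topology TopologicalSpace
open AlgSp

namespace Groth.Agent.S10394

set_option backward.isDefEq.respectTransparency false
open Groth.Agent

/-- (1) ⇔ (4): let S be a scheme, X a decent algebraic space over S and x ∈ |X|. Then x is the generic
point of some irreducible component of |X| if and only if the local ring of X at x has dimension
zero (x is a codimension 0 point of X). -/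
theorem result {S : Scheme.{u}} (X : AlgSp.Space S)
    (hX : AlgSp.IsDecent X.obj) (x : AlgSp.Points X.obj) :
    (∃ T ∈ irreducibleComponents (AlgSp.Points X.obj), IsGenericPoint x T) ↔ AlgSp.HasAt (fun U u => ringKrullDim ↥(U.presheaf.stalk u) = 0) X.obj x := by
  obtain ⟨U, a, u, ha, rfl⟩ := AlgSpD.exists_chart X x
  rw [AlgSpD.isGenericPoint_component_iff, AlgSpD.coheight_pointClosure_ofPt X hX a ha,
    AlgSpD.hasAt_iff_chart (AlgSpD.stalkDim_invariant 0) ha, ringKrullDim_stalk_eq_coheight]
  exact_mod_cast Iff.rfl

end Groth.Agent.S10394
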