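import Groth.Statements.S10399
import Groth.Agent.AlgSpD.LqfLocus

set_option autoImplicit false
universe u
open CategoryTheory CategoryTheory.Limits AlgebraicGeometry Topology TopologicalSpace
open AlgSp

namespace Groth.Agent.S10399

set_option backward.isDefEq.respectTransparency false
open Groth.Agent

theorem coheight_asFiber {U V : Scheme.{u}} (h : U ⟶ V) (v : V) (hv : IsMax v) (z : h.fiber v) :
    Order.coheight (h.fiberι v z) = Order.coheight z := by
  refine le_antisymm (AlgSpD.coheight_apply_le _ (fun a b hb => ?_) z) (AlgSpD.coheight_le_apply _ z)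
  have hz : h (h.fiberι v a) = v := by
    have := Set.mem_range_self (f := h.fiberι v) a
    rwa [Scheme.Hom.range_fiberι] at this
  have h1 : h b ⤳ v := hz ▸ hb.map h.continuous
  have h2 : h b = v := ((show h b ⤳ v from h1).antisymm (hv (b := h b) h1)).eq
  obtain ⟨c, hc⟩ : b ∈ Set.range (h.fiberι v) := by rw [Scheme.Hom.range_fiberι]; exact h2
  exact ⟨c, (h.fiberι v).isEmbedding.isInducing.specializes_iff.1 (hc ▸ hb), hc⟩

theorem key {S : Scheme.{u}} {X Y : AlgSp.Space S} (f : X ⟶ Y)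
    (hf : AlgSp.LocP @LocallyOfFiniteType f.hom) (y : AlgSp.Points Y.obj)
    (hy : AlgSp.HasAt (fun U u => ringKrullDim ↥(U.presheaf.stalk u) = 0) Y.obj y)
    (x : AlgSp.Points X.obj) (hx : AlgSp.Points.map f.hom x = y) :
    ∃ (U V : Over S) (a : (AlgSp.yon S).obj U ⟶ X.obj) (b : (AlgSp.yon S).obj V ⟶ Y.obj) (h : U ⟶ V)
      (u : ↥U.left) (v : ↥V.left),
      AlgSp.RepWith @Etale a ∧ AlgSp.RepWith @Etale b ∧ a ≫ f.hom = (AlgSp.yon S).map h ≫ b ∧
      AlgSp.Points.ofPt a u = x ∧ h.left u = v ∧ AlgSp.Points.ofPt b v = y ∧ IsMax v ∧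
      LocallyOfFiniteType h.left ∧
      ∀ z : h.left.fiber v,
        AlgSp.Points.map f.hom (AlgSp.Points.ofPt a (h.left.fiberι v z)) = y ∧
        (AlgSp.HasAt (fun U u => ringKrullDim ↥(U.presheaf.stalk u) = 0) X.obj
          (AlgSp.Points.ofPt a (h.left.fiberι v z)) ↔ Order.coheight z = 0) ∧
        (AlgSp.HasAtMor AlgSpD.LqfNear f.hom (AlgSp.Points.ofPt a (h.left.fiberι v z)) ↔
          Order.coheight z = 0 ∧ Order.height z = 0) := by
  obtain ⟨V, b, v, hb, rfl⟩ := AlgSpD.exists_chart Y y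
  rw [AlgSpD.hasAt_iff_chart (AlgSpD.stalkDim_invariant 0) hb, ringKrullDim_stalk_eq_coheight] at hy
  have hv : IsMax v := Order.coheight_eq_zero.1 (by exact_mod_cast hy)
  obtain ⟨U₀, a₀, u₀, ha₀, rfl⟩ := AlgSpD.exists_chart X x
  obtain ⟨U, p, h, u, ha, -, w, hu, huv⟩ := AlgSpD.exists_diagram_over f ha₀ u₀ hb hx.symm
  have := hf _ b h ha hb w
  refine ⟨U, V, _, b, h, u, v, ha, hb, w, by rw [AlgSpB.ofPt_map_comp, hu], huv, rfl, hv, this, fun z => ?_⟩
  have hz : h.left (h.left.fiberι v z) = v := by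
    have := Set.mem_range_self (f := h.left.fiberι v) z
    rwa [Scheme.Hom.range_fiberι] at this
  refine ⟨by rw [AlgSp.Points.map_ofPt, w, AlgSpB.ofPt_map_comp, hz], ?_, ?_⟩
  · rw [AlgSpD.hasAt_iff_chart (AlgSpD.stalkDim_invariant 0) ha, ringKrullDim_stalk_eq_coheight,
      coheight_asFiber h.left v hv]
    exact_mod_cast Iff.rfl
  · rw [AlgSpD.hasAtMor_lqfNear_iff f.hom hf, AlgSpD.hasAtMor_iff_chart (AlgSpD.morEtaleInv_fibreDimAt 0) f ha hb w]
    have key : ∀ (t : ↥U.left) (y' : ↥V.left) (z' : h.left.fiber y'), h.left.fiberι y' z' = t → h.left t = y' →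
        (FlatMor.fibreDimAt h.left t = 0 ↔ Order.coheight z' = 0 ∧ Order.height z' = 0) := by
      rintro t y' z' hzt rfl
      obtain rfl : z' = h.left.asFiber t :=
        (h.left.fiberι _).isEmbedding.injective (hzt.trans (h.left.fiberι_asFiber t).symm)
      obtain ⟨n, m, -, h1, h2, h3⟩ := AlgSpD.exists_fibre_dims h.left t
      rw [ringKrullDim_stalk_eq_coheight] at h2
      rw [h3, show Order.coheight (h.left.asFiber t) = (n : ℕ∞) by exact_mod_cast h2, h1]
      norm_cast
      omega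
    exact key _ v z rfl hz

/-- Let f : X ⟶ Y be a morphism locally of finite type of algebraic spaces over a scheme S and y a
codimension 0 point of Y. The following are equivalent: (1) every point of |X| over y has
codimension 0 on X; (2) f is quasi-finite at all points over y; (3) f is quasi-finite at all
codimension 0 points of X over y. Stated as (1) ⇔ (2) together with (3) ⇒ (1). -/
theorem result {S : Scheme.{u}} {X Y : AlgSp.Space S} (f : X ⟶ Y)
    (hf : AlgSp.LocP @LocallyOfFiniteType f.hom) (y : AlgSp.Points Y.obj) (hy : AlgSp.HasAt (fun U u => ringKrullDim ↥(U.presheaf.stalk u) = 0) Y.obj y) :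
    ((∀ x : AlgSp.Points X.obj, AlgSp.Points.map f.hom x = y → AlgSp.HasAt (fun U u => ringKrullDim ↥(U.presheaf.stalk u) = 0) X.obj x) ↔
        (∀ x : AlgSp.Points X.obj, AlgSp.Points.map f.hom x = y → AlgSp.HasAtMor (fun U _ h u => ∃ W : U.Opens, u ∈ W ∧ LocallyQuasiFinite (W.ι ≫ h) ∧ LocallyOfFiniteType (W.ι ≫ h)) f.hom x)) ∧
      ((∀ x : AlgSp.Points X.obj, AlgSp.Points.map f.hom x = y → AlgSp.HasAt (fun U u => ringKrullDim ↥(U.presheaf.stalk u) = 0) X.obj x → AlgSp.HasAtMor (fun U _ h u => ∃ W : U.Opens, u ∈ W ∧ LocallyQuasiFinite (W.ι ≫ h) ∧ LocallyOfFiniteType (W.ι ≫ h)) f.hom x) →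
        ∀ x : AlgSp.Points X.obj, AlgSp.Points.map f.hom x = y → AlgSp.HasAt (fun U u => ringKrullDim ↥(U.presheaf.stalk u) = 0) X.obj x) := by
  refine ⟨⟨fun h1 x hx => ?_, fun h2 x hx => ?_⟩, fun h3 x hx => ?_⟩
  · obtain ⟨U, V, a, b, h, u, v, -, -, -, rfl, rfl, -, -, hl, hz⟩ := key f hf y hy x hx
    have hmax : ∀ z : h.left.fiber (h.left u), IsMax z := fun z =>
      Order.coheight_eq_zero.1 ((hz z).2.1.1 (h1 _ (hz z).1))
    rw [← h.left.fiberι_asFiber u]
    refine (hz (h.left.asFiber u)).2.2.2 ⟨Order.coheight_eq_zero.2 (hmax _), Order.height_eq_zero.2 fun z hle => ?_⟩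
    exact hmax z hle
  · obtain ⟨U, V, a, b, h, u, v, -, -, -, rfl, rfl, -, -, hl, hz⟩ := key f hf y hy x hx
    rw [← h.left.fiberι_asFiber u]
    exact (hz (h.left.asFiber u)).2.1.2 ((hz _).2.2.1 (by rw [h.left.fiberι_asFiber]; exact h2 _ hx)).1
  · obtain ⟨U, V, a, b, h, u, v, -, -, -, rfl, rfl, -, -, hl, hz⟩ := key f hf y hy x hx
    rw [← h.left.fiberι_asFiber u]
    refine (hz (h.left.asFiber u)).2.1.2 (Order.coheight_eq_zero.2 ?_)
    obtain ⟨T, hT, hTu, hmaxT⟩ := exists_preirreducible ({h.left.asFiber u} : Set (h.left.fiber (h.left u)))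
      isIrreducible_singleton.isPreirreducible
    have hTi : IsIrreducible T := ⟨⟨_, hTu rfl⟩, hT⟩
    obtain ⟨η, hη⟩ := QuasiSober.sober hTi.closure isClosed_closure
    have hle : h.left.asFiber u ≤ η := hη.specializes (subset_closure (hTu rfl))
    have hηmax : IsMax η := fun z (hz' : z ⤳ η) => by
      have e1 : closure ({z} : Set _) = T := hmaxT _ isIrreducible_singleton.closure.isPreirreducible
        (subset_closure.trans (hη.def ▸ specializes_iff_closure_subset.1 hz'))
      exact specializes_iff_closure_subset.2 (by rw [e1, hη.def]; exact subset_closure)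
    have h4 := h3 _ (hz η).1 ((hz η).2.1.2 (Order.coheight_eq_zero.2 hηmax))
    have h5 : IsMin η := Order.height_eq_zero.1 ((hz η).2.2.1 h4).2
    exact fun z hz' => (hηmax ((h5 hle).trans hz')).trans (h5 hle)

end Groth.Agent.S10399
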