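import Groth.Statements.S10400
import Groth.Agent.AlgSp.FiniteChart
import Groth.Agent.AlgSp.QfPoint
import Groth.Agent.AlgSpD.Decent
import Groth.Agent.AlgSp.DenseFinite
import Groth.Agent.S10190
import Groth.Agent.S10272
-- import your own Groth.Agent.* helpers here

set_option autoImplicit false
universe u
open CategoryTheory CategoryTheory.Limits AlgebraicGeometry Topology TopologicalSpace
open AlgSp

namespace Groth.Agent.S10400
set_option backward.isDefEq.respectTransparency.types false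
set_option maxHeartbeats 1000000

/-- Let f : X ⟶ Y be a morphism locally of finite type of algebraic spaces over a scheme S with Y
decent. Assume the codimension 0 points of X and of Y form finite sets, that a point of X has
codimension 0 exactly when its image does, and that f is quasi-compact or separated. Then there is a
dense open subspace V ⊆ Y with f⁻¹(V) ⟶ V finite. -/
theorem result {S : Scheme.{u}} {X Y : AlgSp.Space S} (f : X ⟶ Y)
    (hf : AlgSp.LocP @LocallyOfFiniteType f.hom) (hY : AlgSp.IsDecent Y.obj)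
    (hX0 : {x : AlgSp.Points X.obj | AlgSp.HasAt (fun U u => ringKrullDim ↥(U.presheaf.stalk u) = 0) X.obj x}.Finite)
    (hY0 : {y : AlgSp.Points Y.obj | AlgSp.HasAt (fun U u => ringKrullDim ↥(U.presheaf.stalk u) = 0) Y.obj y}.Finite)
    (hpre : ∀ x : AlgSp.Points X.obj, AlgSp.HasAt (fun U u => ringKrullDim ↥(U.presheaf.stalk u) = 0) X.obj x ↔ AlgSp.HasAt (fun U u => ringKrullDim ↥(U.presheaf.stalk u) = 0) Y.obj (AlgSp.Points.map f.hom x))
    (hqs : AlgSp.IsQuasiCompactMor f.hom ∨ AlgSp.IsSeparatedMor f.hom) :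
    ∃ (V X' : AlgSp.Space S) (j : V ⟶ Y) (fst : X' ⟶ V) (snd : X' ⟶ X), AlgSp.RepWith @IsOpenImmersion j.hom ∧
      Dense (Set.range (AlgSp.Points.map j.hom)) ∧ IsPullback fst.hom snd.hom j.hom f.hom ∧
      AlgSp.IsFiniteMor fst.hom := by
  classical
  -- an affine chart containing all points of codimension zero of the target
  obtain ⟨A0, c0, hc0, hc0s⟩ := Y.property.atlas
  choose u0 hu0 using fun y : AlgSp.Points Y.obj => Groth.Agent.AlgSpB.surjective_ofPt hc0s y
  choose W0 hW0 hu0W using fun y : AlgSp.Points Y.obj => (⟨_,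
    (exists_isAffineOpen_mem_and_subset (x := u0 y) (U := (⊤ : A0.left.Opens)) trivial).choose_spec.1,
    (exists_isAffineOpen_mem_and_subset (x := u0 y) (U := (⊤ : A0.left.Opens)) trivial).choose_spec.2.1⟩ :
      ∃ W : A0.left.Opens, IsAffineOpen W ∧ u0 y ∈ W)
  let K : Set ↥A0.left := ⋃ y ∈ {y : AlgSp.Points Y.obj | AlgSp.HasAt (fun U u => ringKrullDim ↥(U.presheaf.stalk u) = 0) Y.obj y}, (W0 y : Set ↥A0.left)
  have hKo : IsOpen K := isOpen_biUnion fun y _ => (W0 y).2
  have hKc : IsCompact K := hY0.isCompact_biUnion fun y _ => (hW0 y).isCompact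
  obtain ⟨Y1, jY, hjY, hjr⟩ := Groth.Agent.AlgSpB.exists_openSubspace Y
    (W := AlgSp.Points.ofPt c0 '' K) (Groth.Agent.AlgSpB.isOpenMap_ofPt hc0 _ hKo)
  have : CompactSpace (AlgSp.Points Y1.obj) := by
    let KO : A0.left.Opens := ⟨K, hKo⟩
    let iK : Over.mk (KO.ι ≫ A0.hom) ⟶ A0 := Over.homMk KO.ι rfl
    have : IsOpenImmersion iK.left := inferInstanceAs (IsOpenImmersion KO.ι)
    have hrK : Set.range (AlgSp.Points.map jY.hom) =
        Set.range (AlgSp.Points.ofPt ((AlgSp.yon S).map iK ≫ c0)) := by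
      rw [hjr, Groth.Agent.AlgSpB.range_ofPt_map_comp]
      congr 1
      exact (Scheme.Opens.range_ι KO).symm
    obtain ⟨c', -, -, hc's⟩ := Groth.Agent.AlgSpB.exists_chart_into_subspace
      (Groth.Agent.AlgSpB.repWith_etale_map_comp iK hc0) hjY hrK
    have : CompactSpace ↥(Over.mk (KO.ι ≫ A0.hom)).left := isCompact_iff_compactSpace.1 hKc
    exact ⟨(Groth.Agent.AlgSpB.surjective_ofPt hc's).range_eq ▸ isCompact_range (AlgSp.Points.continuous_ofPt c')⟩
  obtain ⟨A1, c1, hc1, hc1s⟩ := Y1.property.atlas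
  obtain ⟨B, gB, hBaff, hb1, hb1s⟩ := Groth.Agent.AlgSpB.exists_affine_chart_of_compactSpace hc1 hc1s
  let b := ((AlgSp.yon S).map gB ≫ c1) ≫ jY.hom
  have hb : AlgSp.RepWith @Etale b := (AlgSp.RepWith _).comp_mem _ _ hb1
    (Groth.Agent.AlgSp.repWith_mono (fun g hg => (have : IsOpenImmersion g := hg; inferInstance : Etale g)) hjY)
  have hbY0 : ∀ y, AlgSp.HasAt (fun U u => ringKrullDim ↥(U.presheaf.stalk u) = 0) Y.obj y →
      ∃ v : ↥B.left, AlgSp.Points.ofPt b v = y := fun y hy => by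
    obtain ⟨z, hz⟩ : y ∈ Set.range (AlgSp.Points.map jY.hom) :=
      hjr.ge ⟨u0 y, Set.mem_iUnion₂.2 ⟨y, hy, hu0W y⟩, hu0 y⟩
    obtain ⟨v, rfl⟩ := Groth.Agent.AlgSpB.surjective_ofPt hb1s z
    exact ⟨v, by rw [← hz, AlgSp.Points.map_ofPt]⟩
  have hgB : {v : ↥B.left | closure {v} ∈ irreducibleComponents (B.left : Type u)}.Finite := by
    refine (hY0.biUnion fun y _ => (?_ : (AlgSp.Points.ofPt b ⁻¹' {y}).Finite)).subset fun v hv =>
      Set.mem_iUnion₂.2 ⟨_, (Groth.Agent.AlgSp.codim0_iff_chart hb v).2 hv, rfl⟩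
    obtain ⟨p, hp, -, hq⟩ := hY y
    rw [← hp]
    exact Groth.Agent.AlgSpD.finite_preimage_of_qc_point p hq b hb
  have hcB := Groth.Agent.AlgSp.finite_irreducibleComponents_of_generic hgB
  -- the base change
  have sq := IsPullback.of_hasPullback f.hom b
  have hP := Groth.Agent.AlgSp.isAlgSpace_pullback Y.property X.property (AlgSp.IsAlgSpace.yon_obj B) f.hom b
  let snd := pullback.snd f.hom b
  have hlP := Groth.Agent.AlgSpCov.locP_baseChange Groth.Agent.AlgSpCov.etaleLocal_locallyOfFiniteType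
    X.property Y.property sq hf
  have hfst : AlgSp.RepWith @Etale (pullback.fst f.hom b) := MorphismProperty.pullback_fst _ _ hb
  have hkey : ∀ {A : Over S} (α : (AlgSp.yon S).obj A ⟶ pullback f.hom b) (k : A ⟶ B),
      AlgSp.RepWith @Etale α → α ≫ snd = (AlgSp.yon S).map k → ∀ z : ↥A.left,
      (closure {z} ∈ irreducibleComponents (A.left : Type u) ↔
        closure {k.left z} ∈ irreducibleComponents (B.left : Type u)) := by
    intro A α k hα hk z
    have hαX : AlgSp.RepWith @Etale (α ≫ pullback.fst f.hom b) := (AlgSp.RepWith _).comp_mem _ _ hα hfst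
    rw [← Groth.Agent.AlgSp.codim0_iff_chart hαX, ← Groth.Agent.AlgSp.codim0_iff_chart hb, hpre,
      AlgSp.Points.map_ofPt, Category.assoc, sq.w, ← Category.assoc, hk, Groth.Agent.AlgSpB.ofPt_map_comp]
  let G0 : Set (AlgSp.Points (pullback f.hom b)) :=
    {p | AlgSp.HasAt (fun U u => ringKrullDim ↥(U.presheaf.stalk u) = 0) (pullback f.hom b) p}
  have hG0 : G0.Finite := by
    refine (hX0.biUnion fun x _ => (?_ : (AlgSp.Points.map (pullback.fst f.hom b) ⁻¹' {x}).Finite)).subset ?_
    · obtain ⟨xp, rfl⟩ := AlgSp.Points.mk_surjective x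
      obtain ⟨p, hp, hpm, hpq⟩ := hY (AlgSp.Points.map f.hom (AlgSp.Points.mk xp))
      have hq : AlgSp.RepWith @QuasiCompact (xp.map f.hom).toHom :=
        Groth.Agent.AlgSpD.repWith_quasiCompact_of_eq Y p _ hpm hpq (by rw [hp]; rfl)
      obtain ⟨W, w1, w2, sqW⟩ := Groth.Agent.AlgSpB.exists_pullback_yon hq.1 b
      have : Etale w1.left := hb.2 _ _ _ sqW.flip
      have : QuasiCompact w2.left := hq.2 _ _ _ sqW
      have : CompactSpace ↥W.left := QuasiCompact.compactSpace_of_compactSpace w2.left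
      have : IsAffine (xp.map f.hom).pt.left :=
        inferInstanceAs (IsAffine (Spec (CommRingCat.of (xp.map f.hom).K)))
      have : QuasiCompact w1.left := (quasiCompact_iff_compactSpace w1.left).2 inferInstance
      have : LocallyQuasiFinite w1.left :=
        Groth.Agent.AlgSpCov.etale_le_locallyQuasiFinite _ _ w1.left ‹Etale w1.left›
      have : Finite ↥W.left := Set.finite_univ_iff.1
        ((w1.left.finite_preimage_singleton (IsLocalRing.closedPoint (xp.map f.hom).K)).subset fun _ _ =>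
          @Subsingleton.elim _ (inferInstanceAs (Subsingleton (PrimeSpectrum (xp.map f.hom).K))) _ _)
      have sqW' : IsPullback ((AlgSp.yon S).map w1) ((AlgSp.yon S).map w2) (xp.toHom ≫ f.hom) b := by
        exact (AlgSp.FieldPt.toHom_map f.hom xp) ▸ sqW
      let e := sq.lift ((AlgSp.yon S).map w1 ≫ xp.toHom) ((AlgSp.yon S).map w2)
        (by rw [Category.assoc]; exact sqW'.w)
      have se : IsPullback e ((AlgSp.yon S).map w1) (pullback.fst f.hom b) xp.toHom :=
        IsPullback.of_right (h₁₂ := snd) (h₂₂ := f.hom) (v₁₃ := b)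
          (by rw [sq.lift_snd]; exact sqW'.flip) (sq.lift_fst _ _ _) sq.flip
      have : Finite (AlgSp.Points ((AlgSp.yon S).obj W)) :=
        Finite.of_equiv _ (AlgSp.Points.schemeHomeo W).toEquiv
      refine (Set.finite_range (AlgSp.Points.map e)).subset fun z hz => ?_
      obtain ⟨w, hw, -⟩ := Groth.Agent.AlgSpB.exists_of_isPullback se z
        (AlgSp.Points.ofScheme xp.pt (IsLocalRing.closedPoint xp.K))
        ((Set.mem_singleton_iff.1 hz).trans ((AlgSp.Points.ofPt_toHom xp _).symm.trans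
          (AlgSp.Points.ofPt_eq_map_ofScheme _ _)))
      exact ⟨w, hw⟩
    · rintro z ⟨U, a, u, ha, rfl, hu⟩
      refine Set.mem_iUnion₂.2 ⟨_, ?_, rfl⟩
      rw [AlgSp.Points.map_ofPt]
      exact (Groth.Agent.AlgSp.codim0_iff_chart ((AlgSp.RepWith _).comp_mem _ _ ha hfst) u).2
        ((Groth.Agent.AlgSp.stalkDim_zero_iff u).1 hu)
  -- finiteness over a dense open of any quasi-compact open part containing all generic points
  have core : ∀ (P1 : AlgSp.Space S) (i : P1.obj ⟶ pullback f.hom b), AlgSp.RepWith @IsOpenImmersion i →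
      CompactSpace (AlgSp.Points P1.obj) →
      ∃ O : B.left.Opens, Dense (O : Set ↥B.left) ∧ AlgSp.IsFiniteMor (pullback.snd (i ≫ snd)
        ((AlgSp.yon S).map (Over.homMk O.ι rfl : Over.mk (O.ι ≫ B.hom) ⟶ B))) := fun P1 i hi hcomp =>
    have hie : AlgSp.RepWith @Etale i :=
      Groth.Agent.AlgSp.repWith_mono (fun g hg => (have : IsOpenImmersion g := hg; inferInstance : Etale g)) hi
    Groth.Agent.AlgSp.exists_dense_open_finite hgB P1.property (i ≫ snd)
      (Groth.Agent.AlgSpCov.locP_comp Groth.Agent.AlgSpCov.etaleLocal_locallyOfFiniteType hP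
        (AlgSp.IsAlgSpace.yon_obj B)
        (Groth.Agent.AlgSpCov.locP_of_repWith Groth.Agent.AlgSpCov.etaleLocal_locallyOfFiniteType
          (Groth.Agent.AlgSp.repWith_mono (fun g hg => (have : IsOpenImmersion g := hg; inferInstance : LocallyOfFiniteType g)) hi))
        hlP)
      (fun α k hα hk => hkey (α ≫ i) k ((AlgSp.RepWith _).comp_mem _ _ hα hie) ((Category.assoc α i snd).trans hk))
  -- finiteness of the whole base change over a dense open
  have main : ∃ O : B.left.Opens, Dense (O : Set ↥B.left) ∧ AlgSp.IsFiniteMor (pullback.snd snd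
      ((AlgSp.yon S).map (Over.homMk O.ι rfl : Over.mk (O.ι ≫ B.hom) ⟶ B))) := by
    rcases hqs with hqc | hsep
    · have hid : AlgSp.RepWith @IsOpenImmersion (𝟙 (pullback f.hom b)) :=
        (AlgSp.RepWith @IsOpenImmersion).id_mem _
      obtain ⟨O, hO, hfinO⟩ := core ⟨_, hP⟩ (𝟙 _) hid (Groth.Agent.AlgSp.compactSpace_points
        (hqc (AlgSp.IsAlgSpace.yon_obj B) (AlgSp.isQuasiCompactSp_yon B) b _ _ sq))
      refine ⟨O, hO, ?_⟩
      have e : 𝟙 (pullback f.hom b) ≫ snd = snd := Category.id_comp _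
      exact e ▸ hfinO
    · obtain ⟨A, c, hc, hcs⟩ := hP.atlas
      choose ug hug using fun p => Groth.Agent.AlgSpB.surjective_ofPt hcs p
      choose WA hWA hugW using fun z : ↥A.left => (⟨_,
        (exists_isAffineOpen_mem_and_subset (x := z) (U := (⊤ : A.left.Opens)) trivial).choose_spec.1,
        (exists_isAffineOpen_mem_and_subset (x := z) (U := (⊤ : A.left.Opens)) trivial).choose_spec.2.1⟩ :
          ∃ W : A.left.Opens, IsAffineOpen W ∧ z ∈ W)
      let KA : Set ↥A.left := ⋃ p ∈ G0, (WA (ug p) : Set ↥A.left)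
      obtain ⟨P1, i, hi, hir⟩ := Groth.Agent.AlgSpB.exists_openSubspace ⟨_, hP⟩
        (W := AlgSp.Points.ofPt c '' KA)
        (Groth.Agent.AlgSpB.isOpenMap_ofPt hc _ (isOpen_biUnion fun p _ => (WA (ug p)).2))
      have hcomp : CompactSpace (AlgSp.Points P1.obj) := by
        let KO : A.left.Opens := ⟨KA, isOpen_biUnion fun p _ => (WA (ug p)).2⟩
        let iK : Over.mk (KO.ι ≫ A.hom) ⟶ A := Over.homMk KO.ι rfl
        have : IsOpenImmersion iK.left := inferInstanceAs (IsOpenImmersion KO.ι)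
        have hrK : Set.range (AlgSp.Points.map i.hom) =
            Set.range (AlgSp.Points.ofPt ((AlgSp.yon S).map iK ≫ c)) := by
          rw [hir, Groth.Agent.AlgSpB.range_ofPt_map_comp]
          congr 1
          exact (Scheme.Opens.range_ι KO).symm
        obtain ⟨c', -, -, hc's⟩ := Groth.Agent.AlgSpB.exists_chart_into_subspace
          (Groth.Agent.AlgSpB.repWith_etale_map_comp iK hc) hi hrK
        have : CompactSpace ↥(Over.mk (KO.ι ≫ A.hom)).left :=
          isCompact_iff_compactSpace.1 (hG0.isCompact_biUnion fun p _ => (hWA _).isCompact)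
        exact ⟨(Groth.Agent.AlgSpB.surjective_ofPt hc's).range_eq ▸ isCompact_range (AlgSp.Points.continuous_ofPt c')⟩
      obtain ⟨O, hO, hfinO⟩ := core P1 i.hom hi hcomp
      refine ⟨O, hO, ?_⟩
      let j := (AlgSp.yon S).map (Over.homMk O.ι rfl : Over.mk (O.ι ≫ B.hom) ⟶ B)
      have hje : AlgSp.RepWith @Etale j :=
        (AlgSp.repWith_yon_map_iff _ _).2 (inferInstanceAs (Etale O.ι))
      have s1 := IsPullback.of_hasPullback (i.hom ≫ snd) j
      have sO := IsPullback.of_hasPullback snd j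
      let i3 := sO.lift (pullback.fst (i.hom ≫ snd) j ≫ i.hom) (pullback.snd (i.hom ≫ snd) j)
        (by rw [Category.assoc]; exact s1.w)
      have si : IsPullback (pullback.fst (i.hom ≫ snd) j) i3 i.hom (pullback.fst snd j) :=
        IsPullback.of_bot (by rw [sO.lift_snd]; exact s1) (sO.lift_fst _ _ _).symm sO
      let PO : AlgSp.Space S := ⟨_, Groth.Agent.AlgSp.isAlgSpace_pullback (AlgSp.IsAlgSpace.yon_obj B) hP
        (AlgSp.IsAlgSpace.yon_obj _) snd j⟩
      let P1O : AlgSp.Space S := ⟨_, Groth.Agent.AlgSp.isAlgSpace_pullback (AlgSp.IsAlgSpace.yon_obj B) P1.property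
        (AlgSp.IsAlgSpace.yon_obj _) (i.hom ≫ snd) j⟩
      let BO : AlgSp.Space S := ⟨_, AlgSp.IsAlgSpace.yon_obj (Over.mk (O.ι ≫ B.hom))⟩
      let i3s : P1O ⟶ PO := ObjectProperty.homMk i3
      let sndO : PO ⟶ BO := ObjectProperty.homMk (pullback.snd snd j)
      have hsepO : AlgSp.IsSeparatedMor sndO.hom :=
        Groth.Agent.AlgSp.repWith_diagonal_baseChange sO (Groth.Agent.AlgSp.repWith_diagonal_baseChange sq hsep)
      have hcompF : AlgSp.IsFiniteMor (i3s ≫ sndO).hom := by
        show AlgSp.IsFiniteMor (i3 ≫ pullback.snd snd j)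
        rw [sO.lift_snd]
        exact hfinO
      have hi3fin := (Groth.Agent.S10272.result i3s sndO hsepO).1 hcompF
      have hi3e : AlgSp.RepWith @Etale i3 := MorphismProperty.of_isPullback si
        (Groth.Agent.AlgSp.repWith_mono (fun g hg => (have : IsOpenImmersion g := hg; inferInstance : Etale g)) hi)
      have hcl : IsClosed (Set.range (AlgSp.Points.map i3)) :=
        (((Groth.Agent.AlgSpD.isFiniteMor_iff_proper i3s.hom).1 hi3fin).2.2.2 PO.property (𝟙 _) (𝟙 _) i3
          IsPullback.of_id_fst).isClosed_range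
      refine Groth.Agent.S16833.result i3s sndO ?_ ?_ hsepO hcompF
      · exact fun Z φ hφ => (AlgSp.RepWith _).comp_mem _ _ hφ hi3e
      · intro z
        obtain ⟨A', c', hc', hc's⟩ := PO.property.atlas
        obtain ⟨u, rfl⟩ := Groth.Agent.AlgSpB.surjective_ofPt hc's z
        obtain ⟨η, hη, hηu⟩ := Groth.Agent.FlatMor.GenericPts.exists_generic_specializes u
        have hfO : AlgSp.RepWith @Etale (c' ≫ pullback.fst snd j) :=
          (AlgSp.RepWith _).comp_mem _ _ hc' (MorphismProperty.pullback_fst _ _ hje)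
        have hG : AlgSp.Points.ofPt (c' ≫ pullback.fst snd j) η ∈ G0 :=
          (Groth.Agent.AlgSp.codim0_iff_chart hfO η).2 hη
        obtain ⟨w, hw⟩ : AlgSp.Points.ofPt (c' ≫ pullback.fst snd j) η ∈ Set.range (AlgSp.Points.map i.hom) :=
          hir.ge ⟨ug _, Set.mem_iUnion₂.2 ⟨_, hG, hugW _⟩, hug _⟩
        obtain ⟨w', -, hw'⟩ := Groth.Agent.AlgSpB.exists_of_isPullback si w (AlgSp.Points.ofPt c' η)
          (by rw [hw, AlgSp.Points.map_ofPt])
        exact hηu.mem_closed (hcl.preimage (AlgSp.Points.continuous_ofPt c')) ⟨w', hw'⟩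
  obtain ⟨O, hO, hfinO⟩ := main
  let jB : Over.mk (O.ι ≫ B.hom) ⟶ B := Over.homMk O.ι rfl
  have : IsOpenImmersion jB.left := inferInstanceAs (IsOpenImmersion O.ι)
  obtain ⟨V, X', j, fst', snd', hj, hjrange, hsq', hfin'⟩ := Groth.Agent.AlgSp.exists_open_finite_of_chart f
    ((AlgSp.yon S).map jB ≫ b) (Groth.Agent.AlgSpB.repWith_etale_map_comp jB hb)
    ((IsPullback.of_hasPullback snd ((AlgSp.yon S).map jB)).paste_horiz sq) hfinO
  refine ⟨V, X', j, fst', snd', hj, ?_, hsq', hfin'⟩
  refine (Groth.Agent.S10190.result Y).mono fun y hy => ?_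
  obtain ⟨v, rfl⟩ := hbY0 y hy
  rw [hjrange]
  exact ⟨(⟨v, Groth.Agent.AlgSp.generic_mem_of_dense O hO ((Groth.Agent.AlgSp.codim0_iff_chart hb v).1 hy) hcB⟩ :
    ↥O.toScheme), Groth.Agent.AlgSpB.ofPt_map_comp jB b _⟩

end Groth.Agent.S10400
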