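import Groth.Statements.S7490
import Mathlib.CategoryTheory.Sites.RegularEpi
import Mathlib.CategoryTheory.Sites.Limits

set_option autoImplicit false
open CategoryTheory CategoryTheory.Limits AlgebraicGeometry
universe u
open QuotSh

namespace Groth.Agent.S7490

/-- Let K be a precoverage on schemes (the topology τ), S a scheme, s, t : R -> U morphisms of schemes
over S (a pre-relation) and q : U -> M a morphism over S such that (1) q coequalizes s and t, (2)
the induced map of τ-sheaves h_U -> h_M is an epimorphism, and (3) the map h_R -> h_(U x_M U)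
induced by (t, s) is an epimorphism of τ-sheaves. Then M, through q, represents the quotient sheaf
U/R: the canonical map from the coequalizer of h_s, h_t to h_M is an isomorphism. (The published
statement takes τ to be the Zariski, étale, fppf, smooth or syntomic topology; this row allows the
topology generated by any precoverage K.) -/
theorem result (K : Precoverage Scheme.{u}) {S : Scheme.{u}} {R U M : Over S} (s t : R ⟶ U) (q : U ⟶ M) (w : s ≫ q = t ≫ q) (w' : t.left ≫ q.left = s.left ≫ q.left) (h₂ : Epi (QuotSh.repMap K q)) (h₃ : Epi (QuotSh.repMap K (Over.homMk (pullback.lift t.left s.left w') (((Category.assoc _ _ _).symm.trans (congrArg (fun k => k ≫ U.hom) (pullback.lift_fst t.left s.left w'))).trans (Over.w t)) : R ⟶ Over.mk (pullback.fst q.left q.left ≫ U.hom)))) : QuotSh.IsQuotient K s t q := by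
  let P : Over S := Over.mk (pullback.fst q.left q.left ≫ U.hom)
  let a : P ⟶ U := Over.homMk (pullback.fst q.left q.left) rfl
  let b : P ⟶ U := Over.homMk (pullback.snd q.left q.left) (by
    show pullback.snd q.left q.left ≫ U.hom = pullback.fst q.left q.left ≫ U.hom
    rw [← Over.w q, ← Category.assoc, ← Category.assoc, ← pullback.condition])
  have hPab : IsPullback a b q q := by
    have : IsPullback ((Over.forget S).map a) ((Over.forget S).map b) ((Over.forget S).map q)
        ((Over.forget S).map q) := IsPullback.of_hasPullback q.left q.left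
    exact IsPullback.of_map (Over.forget S) (Over.OverMorphism.ext pullback.condition) this
  let F : Over S ⥤ QuotSh.Sh K S := yoneda ⋙ (Functor.whiskeringRight _ _ _).obj uliftFunctor.{u + 1, u} ⋙
    presheafToSheaf (QuotSh.J K S) (Type (u + 1))
  have hF : IsKernelPair (F.map q) (F.map a) (F.map b) := hPab.map F
  have : Epi (F.map q) := h₂
  have : IsRegularEpiCategory (Sheaf (QuotSh.J K S) (Type (u + 1))) := inferInstance
  have : IsRegularEpi (F.map q) := IsRegularEpiCategory.regularEpiOfEpi _
  have hc := hF.toCoequalizer'
  let c : R ⟶ P := Over.homMk (pullback.lift t.left s.left w')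
    (((Category.assoc _ _ _).symm.trans (congrArg (fun k => k ≫ U.hom) (pullback.lift_fst t.left s.left w'))).trans (Over.w t))
  have : Epi (F.map c) := h₃
  have hca : F.map c ≫ F.map a = F.map t := by
    rw [← F.map_comp]; congr 1; ext; exact pullback.lift_fst _ _ _
  have hcb : F.map c ≫ F.map b = F.map s := by
    rw [← F.map_comp]; congr 1; ext; exact pullback.lift_snd _ _ _
  refine ⟨w, ?_⟩
  have hπ : QuotSh.quotπ K s t ≫ QuotSh.quotDesc K q w = F.map q := coequalizer.π_desc _ _
  have hcond : F.map a ≫ QuotSh.quotπ K s t = F.map b ≫ QuotSh.quotπ K s t := by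
    rw [← cancel_epi (F.map c), reassoc_of% hca, reassoc_of% hcb]
    exact (QuotSh.quot_condition K s t).symm
  let g : QuotSh.rep K M ⟶ QuotSh.quot K s t := hc.desc (Cofork.ofπ (QuotSh.quotπ K s t) hcond)
  have hg : F.map q ≫ g = QuotSh.quotπ K s t :=
    hc.fac (Cofork.ofπ (QuotSh.quotπ K s t) hcond) WalkingParallelPair.one
  refine ⟨g, ?_, ?_⟩
  · have : Epi (QuotSh.quotπ K s t) := inferInstanceAs (Epi (coequalizer.π _ _))
    rw [← cancel_epi (QuotSh.quotπ K s t), reassoc_of% hπ, hg, Category.comp_id]
  · rw [← cancel_epi (F.map q), reassoc_of% hg, hπ]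
    exact (Category.comp_id _).symm

end Groth.Agent.S7490
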