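import Groth.Statements.S5690
import Groth.Agent.GrpdLib.QuotientEquiv
-- import your own Groth.Agent.* helpers here

set_option autoImplicit false
universe u
open CategoryTheory CategoryTheory.Limits AlgebraicGeometry
open FGA

namespace Groth.Agent.S5690

theorem aux_flip {C : Type*} [Category C] {X Y P : C} {f g : X ⟶ Y} (π : Y ⟶ P) (w : f ≫ π = g ≫ π)
    (h : IsColimit (Cofork.ofπ π w)) : Nonempty (IsColimit (Cofork.ofπ π w.symm)) :=
  ⟨Cofork.IsColimit.mk' _ fun t => ⟨Cofork.IsColimit.desc h t.π t.condition.symm,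
    Cofork.IsColimit.π_desc' h t.π t.condition.symm,
    fun hm => Cofork.IsColimit.hom_ext h (hm.trans (Cofork.IsColimit.π_desc' h t.π t.condition.symm).symm)⟩⟩

/-- Let (U, R, s, t, c) be a groupoid scheme over a scheme S whose source morphism s : R ⟶ U is finite
locally free (finite, flat and locally of finite presentation), and suppose every equivalence class
t(s⁻¹(x)), x a point of U, is contained in some affine open of U. Then there are a scheme Y and a
morphism q : U ⟶ Y with s ≫ q = t ≫ q which is a coequalizer of s and t in the category of schemes,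
affine, integral and surjective, whose fibres are the equivalence classes; and if (t, s) : R ⟶ U ×_S
U is a monomorphism then q is moreover finite, flat and locally of finite presentation and (t, s) :
R ⟶ U ×_Y U is an isomorphism. Only the sufficiency of the affine-class condition is stated (the
published statement is an equivalence: the quotient with these properties exists if and only if
every class lies in an affine open). -/
theorem result {S : Scheme.{u}} (G : Grpd.GroupoidScheme S)
    [IsFinite G.s] [Flat G.s] [LocallyOfFinitePresentation G.s]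
    (haff : ∀ x : ↥G.U, ∃ V : G.U.Opens, IsAffineOpen V ∧ G.t.base '' (G.s.base ⁻¹' {x}) ⊆ (V : Set ↥G.U)) :
    ∃ (Y : Scheme.{u}) (q : G.U ⟶ Y) (w : G.s ≫ q = G.t ≫ q),
      Nonempty (IsColimit (Cofork.ofπ q w)) ∧ IsAffineHom q ∧ IsIntegralHom q ∧ Surjective q ∧
      (∀ x x' : ↥G.U, q.base x = q.base x' ↔ ∃ r : ↥G.R, G.s.base r = x ∧ G.t.base r = x') ∧
      (Mono G.j → IsFinite q ∧ Flat q ∧ LocallyOfFinitePresentation q ∧
        IsIso (pullback.lift G.t G.s w.symm : G.R ⟶ pullback q q)) := by
  have hG : GrpdLib.OrbitsInAffines G := fun x => by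
    obtain ⟨V, hV, hsub⟩ := haff x
    exact ⟨V, hV, fun r hr => hsub ⟨r, hr, rfl⟩⟩
  haveI := GrpdLib.isIntegralHom_quotMap hG
  refine ⟨GrpdLib.quot G, GrpdLib.quotMap hG, (GrpdLib.quotMap_condition hG).symm,
    aux_flip _ (GrpdLib.quotMap_condition hG) (GrpdLib.isColimitQuot hG), inferInstance, inferInstance,
    ⟨GrpdLib.surjective_quotMap hG⟩, fun x x' => ?_, fun _ => ?_⟩
  · rw [eq_comm, GrpdLib.quotMap_eq_iff hG]
    constructor <;> rintro ⟨r, h1, h2⟩ <;> first | exact ⟨r, h1, h2⟩ | exact ⟨r, h2, h1⟩
  · obtain ⟨f1, f2, f3⟩ := GrpdLib.finLocFree_quotMap hG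
    refine ⟨f1, f2, f3, ?_⟩
    exact (GrpdLib.isPullback_quotMap hG).isoPullback.isIso_hom

end Groth.Agent.S5690
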