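import Groth.Statements.S10393
import Groth.Agent.AlgSpD.SinglePoint
import Groth.Agent.S10350
-- import your own Groth.Agent.* helpers here

set_option autoImplicit false
universe u
open CategoryTheory CategoryTheory.Limits AlgebraicGeometry Topology TopologicalSpace
open AlgSp

namespace Groth.Agent.S10393

/-- Let S be a scheme, Y a scheme over S whose underlying topological space is discrete (equivalently, Y
is a disjoint union of spectra of local rings of dimension zero), and X an algebraic space over S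
with a monomorphism X ⟶ Y over S. Then X is a scheme. -/
theorem result {S : Scheme.{u}} (Y : Over S) [DiscreteTopology ↥Y.left]
    (X : AlgSp.Space S) (f : X ⟶ (AlgSp.ofScheme S).obj Y) [Mono f.hom] : X.obj.obj.IsRepresentable := by
  open Groth.Agent in
  have hY : AlgSp.RepWith @QuasiCompact (Limits.diag ((AlgSp.yon S).obj Y)) := by
    refine (AlgSp.repWith_diag_yon_iff _ _).2 ?_
    refine quasiCompact_iff_forall_isAffineOpen.2 fun W hW => ?_
    refine (((hW.isCompact.image (pullback.fst Y.hom Y.hom).continuous).finite_of_discrete).subset ?_).isCompact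
    intro y hy
    exact ⟨pullback.diagonal Y.hom y, hy, by rw [← Scheme.Hom.comp_apply, pullback.diagonal_fst]; rfl⟩
  have hm : Mono f.hom := inferInstance
  have hX : AlgSp.IsQuasiSeparatedSp X.obj :=
    MorphismProperty.of_isPullback (P := AlgSp.RepWith @QuasiCompact) (AlgSpB.isPullback_diag_of_mono f.hom) hY
  have hdec : AlgSp.IsDecent X.obj := S10350.result X hX
  obtain ⟨X', j, hj, hrep, hmax⟩ := AlgSpB.exists_largest_open_subscheme X
  have hinj := AlgSpB.injective_map_of_mono f.hom
  have hsurj : Set.range (AlgSp.Points.map j.hom) = Set.univ := by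
    refine Set.eq_univ_of_forall fun x => ?_
    have hW : IsOpen ({x} : Set (AlgSp.Points X.obj)) := by
      refine AlgSp.Points.isOpen_iff.2 fun T g => ?_
      obtain ⟨h, hh⟩ := (AlgSp.yon S).map_surjective (g ≫ f.hom)
      have e : AlgSp.Points.ofPt g ⁻¹' {x} =
          h.left ⁻¹' {v | AlgSp.Points.ofPt (𝟙 ((AlgSp.yon S).obj Y)) v = AlgSp.Points.map f.hom x} := by
        ext t
        have k : AlgSp.Points.ofPt (𝟙 ((AlgSp.yon S).obj Y)) (h.left t) =
            AlgSp.Points.map f.hom (AlgSp.Points.ofPt g t) := by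
          rw [← AlgSpB.ofPt_map_comp, Category.comp_id]
          exact (congrArg (fun m : (AlgSp.yon S).obj T ⟶ (AlgSp.yon S).obj Y => AlgSp.Points.ofPt m t) hh).trans
            (AlgSp.Points.map_ofPt g f.hom t).symm
        exact ⟨fun ht => k.trans (congrArg _ ht), fun ht => hinj (k.symm.trans ht)⟩
      rw [e]
      exact (isOpen_discrete _).preimage h.left.continuous
    obtain ⟨X'', j'', hj'', hr⟩ := AlgSpB.exists_openSubspace X hW
    have := AlgSpB.mono_of_isOpenImmersion hj''
    have : Subsingleton (AlgSp.Points X''.obj) := ⟨fun a b => AlgSpB.injective_map_of_mono j''.hom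
      ((hr.le ⟨a, rfl⟩ : _ ∈ ({x} : Set _)).trans (hr.le ⟨b, rfl⟩ : _ ∈ ({x} : Set _)).symm)⟩
    obtain ⟨z, hz⟩ : x ∈ Set.range (AlgSp.Points.map j''.hom) := by rw [hr]; rfl
    have : Nonempty (AlgSp.Points X''.obj) := ⟨z⟩
    obtain ⟨k, hk⟩ := hmax X'' j'' hj''
      (AlgSpD.isRepresentable_of_subsingleton X'' (AlgSpD.isDecent_of_representable j''.hom hj''.1 hdec))
    refine ⟨AlgSp.Points.map k.hom z, ?_⟩
    rw [← AlgSp.Points.map_comp, ← hz, ← hk]
    rfl
  obtain ⟨l, hl⟩ := (AlgSpB.exists_factor_isOpenImmersion_iff hj (𝟙 X.obj)).2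
    (by rw [hsurj]; exact Set.subset_univ _)
  have := AlgSpB.mono_of_isOpenImmersion hj
  obtain ⟨M, ⟨e⟩⟩ := AlgSpB.exists_iso_of_isRepresentable hrep
  exact AlgSpB.isRepresentable_of_iso (e ≪≫ ⟨j.hom, l, by
    rw [← cancel_mono j.hom, Category.assoc, hl, Category.comp_id, Category.id_comp], hl⟩)

end Groth.Agent.S10393
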