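import Groth.Statements.S1316
import Groth.Agent.Thick.Unram

set_option autoImplicit false
universe u
open FlatMor

namespace Groth.Agent.S1316

open AlgebraicGeometry CategoryTheory Limits in
/-- Let Y ⟶ Y' be a thickening, let X be the base change to Y of a scheme X' over Y', and assume both X
⟶ Y and X' ⟶ Y' are locally of finite type. Then X ⟶ Y is an immersion if and only if X' ⟶ Y' is. -/
theorem result {X X' Y Y' : Scheme.{u}} (iX : X ⟶ X') (iY : Y ⟶ Y') (f : X ⟶ Y) (f' : X' ⟶ Y')
    (hY : MoreMor.IsThickening iY) (hc : IsPullback iX f f' iY) [LocallyOfFiniteType f] [LocallyOfFiniteType f'] :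
    IsImmersion f ↔ IsImmersion f' := by
  obtain ⟨h1, h2⟩ := hY
  have hX1 : IsClosedImmersion iX := MorphismProperty.of_isPullback hc.flip h1
  have hX2 : Surjective iX := MorphismProperty.of_isPullback hc.flip h2
  constructor
  · intro _
    have := Groth.Agent.Thick.Unram.mono_of_locallyOfFiniteType hc
    have hr : Set.range f' = iY '' Set.range f := by
      rw [← Set.range_comp, ← iX.surjective.range_comp f']
      congr 1
      funext x
      simp only [Function.comp_apply, ← Scheme.Hom.comp_apply, hc.w]
    have hl : IsLocallyClosed (Set.range f') :=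
      hr ▸ f.isLocallyClosed_range.image iY.isClosedEmbedding.isInducing
        iY.isClosedEmbedding.isClosed_range.isLocallyClosed
    let V : Y'.Opens := ⟨coborder (Set.range f'), hl.isOpen_coborder⟩
    have hV : Set.range f' ⊆ (V : Set Y') := subset_coborder
    have hVs : Set.range f' ⊆ Set.range V.ι := by simpa using hV
    let g' := IsOpenImmersion.lift V.ι f' hVs
    have hg' : g' ≫ V.ι = f' := IsOpenImmersion.lift_fac _ _ _
    have hf0 : Set.range f ⊆ Set.range (iY ⁻¹ᵁ V).ι := by
      rintro _ ⟨x, rfl⟩
      simp only [Scheme.Opens.range_ι]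
      exact hV ⟨iX x, by simp only [← Scheme.Hom.comp_apply, hc.w]⟩
    let g := IsOpenImmersion.lift (iY ⁻¹ᵁ V).ι f hf0
    have hg : g ≫ (iY ⁻¹ᵁ V).ι = f := IsOpenImmersion.lift_fac _ _ _
    have : IsImmersion (g ≫ (iY ⁻¹ᵁ V).ι) := by rw [hg]; infer_instance
    have : IsImmersion g := IsImmersion.of_comp g (iY ⁻¹ᵁ V).ι
    have wg : iX ≫ g' = g ≫ iY ∣_ V := by
      rw [← cancel_mono V.ι, Category.assoc, hg', Category.assoc, morphismRestrict_ι,
        reassoc_of% hg, hc.w]
    have : IsClosedImmersion g := by
      rw [IsClosedImmersion.iff_isPreimmersion]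
      refine ⟨inferInstance, ?_⟩
      have hc' : IsClosed (V.ι ⁻¹' Set.range f') := isClosed_preimage_val_coborder
      have : Set.range g = (iY ∣_ V ≫ V.ι) ⁻¹' Set.range f' := by
        rw [morphismRestrict_ι]
        ext z
        constructor
        · rintro ⟨x, rfl⟩
          exact ⟨iX x, by simp only [← Scheme.Hom.comp_apply, reassoc_of% hg, hc.w]⟩
        · intro h
          rw [Set.mem_preimage, hr] at h
          obtain ⟨_, ⟨x, rfl⟩, e⟩ := h
          refine ⟨x, (iY ⁻¹ᵁ V).ι.isOpenEmbedding.injective ?_⟩
          rw [← Scheme.Hom.comp_apply, hg]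
          refine iY.isClosedEmbedding.injective ?_
          rw [e, Scheme.Hom.comp_apply]
      rw [this, Scheme.Hom.comp_base, TopCat.coe_comp, Set.preimage_comp]
      exact hc'.preimage (iY ∣_ V).continuous
    have hs : Surjective (iY ∣_ V) := IsZariskiLocalAtTarget.restrict h2 V
    have hci : IsClosedImmersion (iY ∣_ V) := IsZariskiLocalAtTarget.restrict h1 V
    have : LocallyOfFiniteType (g' ≫ V.ι) := by rw [hg']; infer_instance
    have : LocallyOfFiniteType g' := locallyOfFiniteType_of_comp g' V.ι
    have : Mono (g' ≫ V.ι) := by rw [hg']; infer_instance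
    have : Mono g' := mono_of_mono g' V.ι
    have := Groth.Agent.Thick.Unram.isClosedImmersion_of_mono iX (iY ∣_ V) g g' wg
    rw [← hg']
    infer_instance
  · intro h
    exact MorphismProperty.of_isPullback (P := @IsImmersion) hc h

end Groth.Agent.S1316
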