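import Groth.Statements.S10364
import Groth.Agent.AlgSpD.Decent

set_option autoImplicit false
universe u
open CategoryTheory CategoryTheory.Limits AlgebraicGeometry Topology TopologicalSpace
open AlgSp

namespace Groth.Agent.S10364

/-- Let X be an algebraic space over a scheme S with a Zariski covering by open subspaces X_i ⟶ X. If
each X_i is decent then X is decent. -/
theorem result {S : Scheme.{u}} (X : AlgSp.Space S) {ι : Type u} (Xi : ι → AlgSp.Space S)
    (j : ∀ i, Xi i ⟶ X) (hj : AlgSp.IsZarCover (fun i => (Xi i).obj) (fun i => (j i).hom))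
    (hd : ∀ i, AlgSp.IsDecent (Xi i).obj) : AlgSp.IsDecent X.obj := by
  intro x
  obtain ⟨i, hi⟩ := hj.2 x
  obtain ⟨y, rfl⟩ := hi
  obtain ⟨p, hp, hm, hq⟩ := hd i y
  have hmj : Mono (j i).hom := AlgSpB.mono_of_isOpenImmersion (hj.1 i)
  have hm' : Mono (p.map (j i).hom).toHom := by
    rw [AlgSp.FieldPt.toHom_map]; exact @mono_comp _ _ _ _ _ _ hm _ hmj
  refine ⟨p.map (j i).hom, by rw [← AlgSp.Points.map_mk, hp], hm', ?_⟩
  choose V a ha has using fun k => (Xi k).property.atlas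
  have hopen : ∀ k, AlgSp.RepWith @Etale (j k).hom := fun k =>
    Groth.Agent.AlgSp.repWith_mono (fun f hf => (have : IsOpenImmersion f := hf; inferInstance : Etale f)) (hj.1 k)
  obtain ⟨U, b, hb, hbs⟩ := X.property.atlas
  refine AlgSpD.repWith_quasiCompact_of_finite X _ hm' b hb hbs fun W hW => ?_
  let W' : Over S := Over.mk (W.ι ≫ U.hom)
  let c : W' ⟶ U := Over.homMk W.ι rfl
  have : IsAffine W'.left := hW
  have : Etale c.left := inferInstanceAs (Etale W.ι)
  refine ((AlgSpD.finite_preimage_of_cover X (AlgSp.Points.mk (p.map (j i).hom)) V (fun k => a k ≫ (j k).hom)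
    (fun k => (AlgSp.RepWith _).comp_mem _ _ (ha k) (hopen k)) (fun z => ?_) (fun k O hO => ?_)
    ((AlgSp.yon S).map c ≫ b) (AlgSpB.repWith_etale_map_comp c hb)).image c.left).subset ?_
  · obtain ⟨k, z', rfl⟩ := hj.2 z
    obtain ⟨v, rfl⟩ := AlgSpB.surjective_ofPt (has k) z'
    exact ⟨k, v, rfl⟩
  · let O' : Over S := Over.mk (O.ι ≫ (V k).hom)
    let d : O' ⟶ V k := Over.homMk O.ι rfl
    have : IsAffine O'.left := hO
    have : Etale d.left := inferInstanceAs (Etale O.ι)
    by_cases hex : ∃ z : AlgSp.Points (Xi k).obj, AlgSp.Points.map (j k).hom z = AlgSp.Points.mk (p.map (j i).hom)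
    · obtain ⟨z, hz⟩ := hex
      obtain ⟨q, hq', -, hqq⟩ := hd k z
      refine ((AlgSpD.finite_preimage_of_qc_point q hqq ((AlgSp.yon S).map d ≫ a k)
        (AlgSpB.repWith_etale_map_comp d (ha k))).image d.left).subset ?_
      rintro v ⟨hv, hvO⟩
      refine ⟨⟨v, hvO⟩, ?_, rfl⟩
      change AlgSp.Points.ofPt _ _ = _
      rw [AlgSpB.ofPt_map_comp, hq']
      have := AlgSpB.mono_of_isOpenImmersion (hj.1 k)
      refine AlgSpB.injective_map_of_mono (j k).hom ?_
      rw [AlgSp.Points.map_ofPt, hz]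
      exact hv
    · rw [show AlgSp.Points.ofPt (a k ≫ (j k).hom) ⁻¹' {AlgSp.Points.mk (p.map (j i).hom)} ∩ (O : Set _) = ∅ from
        Set.eq_empty_of_forall_notMem fun v hv => hex ⟨AlgSp.Points.ofPt (a k) v, (AlgSp.Points.map_ofPt _ _ _).trans hv.1⟩]
      exact Set.finite_empty
  · rintro v ⟨hv, hvW⟩
    refine ⟨⟨v, hvW⟩, ?_, rfl⟩
    change AlgSp.Points.ofPt _ _ = _
    rw [AlgSpB.ofPt_map_comp]
    exact hv

end Groth.Agent.S10364
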