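import Groth.Statements.S0658
import Groth.Agent.EtaleSite.SplitScheme
import Mathlib.RingTheory.Etale.Field
import Mathlib.AlgebraicGeometry.Morphisms.IsIso
-- import your own Groth.Agent.* helpers here

set_option autoImplicit false
open CategoryTheory CategoryTheory.Limits AlgebraicGeometry Opposite
universe u
open EtCore

namespace Groth.Agent.S0658

/-- A point of an étale scheme over a field is the spectrum of a finite separable extension. -/
theorem exists_piece {k : Type u} [Field k] {U : Scheme.{u}} (φ : U ⟶ Spec (CommRingCat.of k))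
    [AlgebraicGeometry.Etale φ] (x : U) :
    ∃ (K : Type u) (_ : Field K) (_ : Algebra k K) (_ : FiniteDimensional k K)
      (_ : Algebra.IsSeparable k K) (j : Spec (CommRingCat.of K) ⟶ U) (_ : IsOpenImmersion j),
      j ≫ φ = Spec.map (CommRingCat.ofHom (algebraMap k K)) ∧ Set.range j = {x} := by
  obtain ⟨R, j, hj, ⟨w, rfl⟩, -⟩ := Scheme.exists_affine_mem_range_and_range_subset
    (x := x) (U := ⊤) (by trivial)
  obtain ⟨c, hc⟩ := Spec.map_surjective (j ≫ φ)
  letI : Algebra k R := c.hom.toAlgebra
  haveI : Algebra.Etale k R := by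
    have : AlgebraicGeometry.Etale (Spec.map c) := by rw [hc]; infer_instance
    exact RingHom.etale_algebraMap.1 ((HasRingHomProperty.Spec_iff (P := @AlgebraicGeometry.Etale)).1 this)
  obtain ⟨I, _, Ai, _, _, e, hA⟩ := (Algebra.Etale.iff_exists_algEquiv_prod k R).1 ‹Algebra.Etale k R›
  haveI : IsIso (CommRingCat.ofHom e.symm.toAlgHom.toRingHom :
      CommRingCat.of (∀ i, Ai i) ⟶ R) :=
    (ConcreteCategory.isIso_iff_bijective _).2 e.symm.bijective
  let s : Spec R ⟶ Spec (CommRingCat.of (∀ i, Ai i)) :=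
    Spec.map (CommRingCat.ofHom e.symm.toAlgHom.toRingHom)
  let σ : (∐ fun i => Spec (CommRingCat.of (Ai i))) ⟶ Spec R :=
    sigmaSpec (fun i => CommRingCat.of (Ai i)) ≫ inv s
  obtain ⟨z, rfl⟩ := σ.surjective w
  obtain ⟨i, z, rfl⟩ := Scheme.Cover.exists_eq (sigmaOpenCover fun i => Spec (CommRingCat.of (Ai i))) z
  let m : Spec (CommRingCat.of (Ai i)) ⟶ Spec R :=
    Sigma.ι (fun i => Spec (CommRingCat.of (Ai i))) i ≫ σ
  have hm : m = Spec.map (CommRingCat.ofHom
      ((Pi.evalAlgHom k Ai i).comp e.toAlgHom).toRingHom) := by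
    rw [show m = Spec.map (CommRingCat.ofHom (Pi.evalRingHom Ai i)) ≫ inv s from
      (Category.assoc _ _ _).symm.trans (congrArg (· ≫ inv s) (ι_sigmaSpec _ i)), IsIso.comp_inv_eq,
      ← Spec.map_comp]
    refine congrArg Spec.map (CommRingCat.hom_ext (RingHom.ext fun a => ?_))
    exact congrArg (fun v => v i) (e.apply_symm_apply a).symm
  refine ⟨Ai i, inferInstance, inferInstance, (hA i).1, (hA i).2, m ≫ j, inferInstance, ?_, ?_⟩
  · rw [Category.assoc, ← hc, hm, ← Spec.map_comp]
    exact congrArg Spec.map (CommRingCat.hom_ext (RingHom.ext fun a =>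
      ((Pi.evalAlgHom k Ai i).comp e.toAlgHom).commutes a))
  · ext y
    constructor
    · rintro ⟨z', rfl⟩
      rw [Subsingleton.elim z' z]
      rfl
    · rintro rfl
      exact ⟨z, rfl⟩

/-- Let k be a field and φ : U → Spec k a morphism of schemes. Then φ is étale if and only if U is
isomorphic over k to a disjoint union ∐ Spec K_i with each K_i a finite separable field extension of
k. -/
theorem result (k : Type u) [Field k] (U : Scheme.{u}) (φ : U ⟶ Spec (CommRingCat.of k)) :
    AlgebraicGeometry.Etale φ ↔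
      ∃ (ι : Type u) (K : ι → Type u) (_ : ∀ i, Field (K i)) (_ : ∀ i, Algebra k (K i))
        (_ : ∀ i, FiniteDimensional k (K i)) (_ : ∀ i, Algebra.IsSeparable k (K i))
        (e : (∐ fun i => Spec (CommRingCat.of (K i))) ≅ U),
        ∀ i, Sigma.ι (fun i => Spec (CommRingCat.of (K i))) i ≫ e.hom ≫ φ =
          Spec.map (CommRingCat.ofHom (algebraMap k (K i))) := by
  constructor
  · intro _
    choose K hF hAlg hfd hsep j hj hjφ hjr using exists_piece φ
    haveI : IsOpenImmersion (Sigma.desc j) := isOpenImmersion_sigmaDesc (g := fun i => Spec (CommRingCat.of (K i))) (α := j) (hα := fun a b hab => by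
      show Disjoint (Set.range (j a)) (Set.range (j b))
      rw [hjr, hjr]
      exact Set.disjoint_singleton.2 hab)
    haveI : AlgebraicGeometry.Surjective (Sigma.desc j) := ⟨fun x => by
      obtain ⟨z, hz⟩ : x ∈ Set.range (j x) := by rw [hjr]; rfl
      exact ⟨Sigma.ι (fun i => Spec (CommRingCat.of (K i))) x z,
        (congrArg (fun q : _ ⟶ U => q z) (Sigma.ι_desc j x)).trans hz⟩⟩
    haveI : IsIso (Sigma.desc j) := (isIso_iff_isOpenImmersion_and_surjective _).2 ⟨‹_›, ‹_›⟩
    exact ⟨U, K, hF, hAlg, hfd, hsep, asIso (Sigma.desc j), fun i => by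
      rw [asIso_hom, ← Category.assoc, Sigma.ι_desc, hjφ]⟩
  · rintro ⟨ι, K, _, _, hfd, hsep, e, he⟩
    haveI : ∀ i, AlgebraicGeometry.Etale (Spec.map (CommRingCat.ofHom (algebraMap k (K i)))) :=
      fun i => by
        haveI := hfd i
        haveI := hsep i
        haveI : Algebra.Etale k (K i) := (Algebra.Etale.iff_exists_algEquiv_prod k (K i)).2
          ⟨PUnit, inferInstance, fun _ => K i, fun _ => inferInstance, fun _ => inferInstance,
            (AlgEquiv.funUnique k PUnit (K i)).symm, fun _ => ⟨inferInstance, inferInstance⟩⟩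
        exact (HasRingHomProperty.Spec_iff (P := @AlgebraicGeometry.Etale)).2
          (RingHom.etale_algebraMap.2 ‹_›)
    haveI := Groth.Agent.EtaleSite.etale_sigmaDesc
      fun i => Spec.map (CommRingCat.ofHom (algebraMap k (K i)))
    have : φ = e.inv ≫ Sigma.desc fun i => Spec.map (CommRingCat.ofHom (algebraMap k (K i))) := by
      rw [Iso.eq_inv_comp]
      exact Sigma.hom_ext _ _ fun i => (he i).trans (Sigma.ι_desc (fun i => Spec.map (CommRingCat.ofHom (algebraMap k (K i)))) i).symm
    rw [this]
    infer_instance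

end Groth.Agent.S0658
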