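import Groth.Statements.S9180
import Groth.Agent.TrdegDim.Tensor
import Mathlib.RingTheory.Localization.Ideal
import Mathlib.RingTheory.FiniteStability

set_option autoImplicit false
set_option linter.style.haveILetI false
universe u
open CAlg

namespace Groth.Agent.S9180

section Aux

/-- The dimension of `T_P / J T_P` is the height of `P / J`. -/
lemma ringKrullDim_loc_quot {T : Type u} [CommRing T] (P J : Ideal T) [P.IsPrime] (h : J ≤ P) :
    ringKrullDim (Localization.AtPrime P ⧸ J.map (algebraMap T (Localization.AtPrime P))) =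
      ((P.map (Ideal.Quotient.mk J)).height : WithBot ℕ∞) := by
  haveI hp : (P.map (Ideal.Quotient.mk J)).IsPrime :=
    Ideal.map_isPrime_of_surjective Ideal.Quotient.mk_surjective (by rwa [Ideal.mk_ker])
  haveI : IsLocalization.AtPrime
      (Localization.AtPrime P ⧸ J.map (algebraMap T (Localization.AtPrime P)))
      (P.map (Ideal.Quotient.mk J)) := by
    have he : Algebra.algebraMapSubmonoid (T ⧸ J) P.primeCompl =
        (P.map (Ideal.Quotient.mk J)).primeCompl := by
      ext x
      constructor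
      · rintro ⟨y, hy, rfl⟩ hmem
        exact hy ((Ideal.mem_quotient_iff_mem h).1 hmem)
      · intro hx
        obtain ⟨y, rfl⟩ := Ideal.Quotient.mk_surjective x
        exact ⟨y, fun hy => hx (Ideal.mem_map_of_mem _ hy), rfl⟩
    show IsLocalization (P.map (Ideal.Quotient.mk J)).primeCompl _
    rw [← he]
    infer_instance
  exact IsLocalization.AtPrime.ringKrullDim_eq_height (P.map (Ideal.Quotient.mk J)) _

open TensorProduct in
/-- The fibre local ring of `S → T` at a prime `Q` over `q`. -/
lemma ringKrullDim_fibLocRing {S T : Type u} [CommRing S] [CommRing T] [Algebra S T] (q : Ideal S)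
    (Q : Ideal T) [Q.IsPrime] [hQ : Q.LiesOver q] :
    ringKrullDim (EGA4.FibLocRing S T Q) =
      ((Q.map (Ideal.Quotient.mk (q.map (algebraMap S T)))).height : WithBot ℕ∞) := by
  have h : q.map (algebraMap S T) ≤ Q := Ideal.map_le_iff_le_comap.2 (le_of_eq hQ.over)
  rw [← ringKrullDim_loc_quot Q (q.map (algebraMap S T)) h]
  refine ringKrullDim_eq_of_ringEquiv (Ideal.quotEquivOfEq ?_)
  rw [Ideal.map_map, ← IsScalarTower.algebraMap_eq, ← Ideal.under_def, ← hQ.over]

end Aux

open TensorProduct in
/-- Let S be of finite type over a field k, K an extension field of k, S_K = S ⊗_k K, q a prime of S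
whose residue field has transcendence degree r over k, and q_K a prime of S_K lying over q whose
residue field has transcendence degree r_K over K. Then the local ring at q_K of the fibre of S →
S_K over q has dimension dim (S_K)_{q_K} − dim S_q = r − r_K (stated additively), and there is a
prime of S_K over q for which this dimension is zero. -/
theorem result (k S K : Type u) [Field k] [CommRing S] [Algebra k S]
    [Algebra.FiniteType k S] [Field K] [Algebra k K] (q : Ideal S) [q.IsPrime] (r : ℕ)
    (hr : Algebra.trdeg k q.ResidueField = r) (qK : Ideal (S ⊗[k] K)) [qK.IsPrime] [qK.LiesOver q]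
    (rK : ℕ)
    (hrK : letI : Algebra K (S ⊗[k] K) := Algebra.TensorProduct.rightAlgebra
      Algebra.trdeg K qK.ResidueField = rK) :
    ringKrullDim (EGA4.FibLocRing S (S ⊗[k] K) qK) + ringKrullDim (Localization.AtPrime q) =
        ringKrullDim (Localization.AtPrime qK) ∧
      ringKrullDim (EGA4.FibLocRing S (S ⊗[k] K) qK) + (rK : WithBot ℕ∞) = (r : WithBot ℕ∞) ∧
      ∃ (q' : Ideal (S ⊗[k] K)) (_ : q'.IsPrime), q'.LiesOver q ∧
        ringKrullDim (EGA4.FibLocRing S (S ⊗[k] K) q') = 0 := by
  letI : Algebra K (S ⊗[k] K) := Algebra.TensorProduct.rightAlgebra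
  haveI : Algebra.FiniteType K (S ⊗[k] K) :=
    Algebra.FiniteType.equiv inferInstance (Algebra.TensorProduct.commRight k K S)
  haveI : IsNoetherianRing (S ⊗[k] K) := Algebra.FiniteType.isNoetherianRing K _
  haveI : IsNoetherianRing S := Algebra.FiniteType.isNoetherianRing k S
  -- the two sums `ht + r` agree
  have key : (qK.height : WithBot ℕ∞) + rK = (q.height : WithBot ℕ∞) + r := by
    refine le_antisymm ?_ ?_
    · obtain ⟨Q, hQ, hle, hdim⟩ := TrdegDim.exists_minimalPrime_eq qK rK hrK
      haveI := hQ.1.1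
      rw [← hdim, (TrdegDim.under_mem_minimalPrimes_and_ringKrullDim_eq k K S Q hQ).2]
      refine TrdegDim.ringKrullDim_quotient_le q (Q.under S) ?_ r hr
      rw [qK.over_def q]
      exact Ideal.comap_mono hle
    · obtain ⟨P, hP, hPle, hdim⟩ := TrdegDim.exists_minimalPrime_eq q r hr
      haveI := hP.1.1
      obtain ⟨Q, hQle, hQp, hQo⟩ := Ideal.exists_ideal_le_liesOver_of_le (p := P) (q := q) qK hPle
      obtain ⟨Q0, hQ0, hQ0le⟩ := Ideal.exists_minimalPrimes_le (bot_le : (⊥ : Ideal (S ⊗[k] K)) ≤ Q)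
      haveI := hQ0.1.1
      obtain ⟨-, hd⟩ := TrdegDim.under_mem_minimalPrimes_and_ringKrullDim_eq k K S Q0 hQ0
      have h1 : Q0.under S ≤ P := by
        rw [hQo.over]
        exact Ideal.comap_mono hQ0le
      have h2 : Q0.under S = P := le_antisymm h1 (hP.2 ⟨inferInstance, bot_le⟩ h1)
      rw [← hdim, ← h2, ← hd]
      exact TrdegDim.ringKrullDim_quotient_le qK Q0 (hQ0le.trans hQle) rK hrK
  -- additivity of heights
  have hadd := Ideal.height_eq_height_add_of_liesOver_of_hasGoingDown q qK
  obtain ⟨n, hn⟩ := ENat.ne_top_iff_exists.1 (Ideal.height_ne_top_of_isPrime (I := q))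
  obtain ⟨m, hm⟩ := ENat.ne_top_iff_exists.1 (Ideal.height_ne_top_of_isPrime (I := qK))
  haveI : (qK.map (Ideal.Quotient.mk (q.map (algebraMap S (S ⊗[k] K))))).IsPrime :=
    Ideal.map_isPrime_of_surjective Ideal.Quotient.mk_surjective (by
      rw [Ideal.mk_ker]
      exact Ideal.map_le_iff_le_comap.2 (le_of_eq (qK.over_def q)))
  obtain ⟨f, hf⟩ := ENat.ne_top_iff_exists.1 (Ideal.height_ne_top_of_isPrime
    (I := qK.map (Ideal.Quotient.mk (q.map (algebraMap S (S ⊗[k] K))))))
  rw [← hn, ← hm, ← hf] at hadd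
  rw [← hn, ← hm] at key
  have hmnf : m = n + f := by exact_mod_cast hadd
  have hkey : m + rK = n + r := by exact_mod_cast key
  rw [ringKrullDim_fibLocRing q qK, ← hf,
    IsLocalization.AtPrime.ringKrullDim_eq_height q (Localization.AtPrime q), ← hn,
    IsLocalization.AtPrime.ringKrullDim_eq_height qK (Localization.AtPrime qK), ← hm]
  refine ⟨?_, ?_, ?_⟩
  · exact_mod_cast show f + n = m by omega
  · exact_mod_cast show f + rK = r by omega
  obtain ⟨q', hq', hq'le⟩ := Ideal.exists_minimalPrimes_le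
    (I := q.map (algebraMap S (S ⊗[k] K))) (J := qK)
    (Ideal.map_le_iff_le_comap.2 (le_of_eq (qK.over_def q)))
  haveI := hq'.1.1
  haveI hlo : q'.LiesOver q := ⟨le_antisymm (Ideal.map_le_iff_le_comap.1 hq'.1.2)
    ((Ideal.comap_mono hq'le).trans_eq (qK.over_def q).symm)⟩
  refine ⟨q', inferInstance, hlo, ?_⟩
  rw [ringKrullDim_fibLocRing q q']
  haveI : (q'.map (Ideal.Quotient.mk (q.map (algebraMap S (S ⊗[k] K))))).IsPrime :=
    Ideal.map_isPrime_of_surjective Ideal.Quotient.mk_surjective (by rw [Ideal.mk_ker]; exact hq'.1.2)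
  have hmin : q'.map (Ideal.Quotient.mk (q.map (algebraMap S (S ⊗[k] K)))) ∈
      minimalPrimes ((S ⊗[k] K) ⧸ q.map (algebraMap S (S ⊗[k] K))) := by
    refine ⟨⟨inferInstance, bot_le⟩, fun p hp hle => ?_⟩
    haveI := hp.1
    have hJ : q.map (algebraMap S (S ⊗[k] K)) ≤ p.comap (Ideal.Quotient.mk _) := fun x hx => by
      rw [Ideal.mem_comap, Ideal.Quotient.eq_zero_iff_mem.2 hx]
      exact p.zero_mem
    have h1 : q' ≤ p.comap (Ideal.Quotient.mk _) := hq'.2 ⟨inferInstance, hJ⟩ (by
      refine (Ideal.comap_mono hle).trans ?_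
      rw [Ideal.comap_map_of_surjective' _ Ideal.Quotient.mk_surjective, Ideal.mk_ker]
      exact sup_le le_rfl hq'.1.2)
    exact Ideal.map_le_iff_le_comap.2 h1
  rw [Ideal.height_eq_zero_iff.2 hmin]
  rfl

end Groth.Agent.S9180
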