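import Groth.Statements.S10346
import Groth.Agent.AlgSpD.DecentDim
import Groth.Agent.TopDimLib.Basic
import Groth.Agent.S10344

set_option autoImplicit false
universe u
open CategoryTheory CategoryTheory.Limits AlgebraicGeometry Topology TopologicalSpace
open AlgSp

namespace Groth.Agent.S10346

set_option backward.isDefEq.respectTransparency false
open Groth.Agent

/-- Let S be a scheme and X a decent algebraic space over S. Then for every representable etale a : h_U
⟶ X from a scheme U and every point u of U with image x ∈ |X|, the local dimension of U at u (the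
dimension of X at x) equals the local dimension of the topological space |X| at x. -/
theorem result {S : Scheme.{u}} (X : AlgSp.Space S)
    (hX : AlgSp.IsDecent X.obj) {U : Over S} (a : (AlgSp.yon S).obj U ⟶ X.obj) (ha : AlgSp.RepWith @Etale a)
    (u : ↥U.left) :
    FlatMor.localDim ↥U.left u = FlatMor.localDim (AlgSp.Points X.obj) (AlgSp.Points.ofPt a u) := by
  apply le_antisymm
  · refine le_iInf fun V => ?_
    let W : U.left.Opens := ⟨AlgSp.Points.ofPt a ⁻¹' (V.1 : Set _), V.1.2.preimage (AlgSp.Points.continuous_ofPt a)⟩
    refine (iInf_le _ ⟨W, V.2⟩).trans ?_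
    rw [← AlgSpD.topologicalKrullDim_image_eq X hX a ha W]
    exact TopDimLib.topDim_le_of_subset (Set.image_preimage_subset _ _)
  · refine le_iInf fun W => ?_
    exact (iInf_le _ ⟨⟨_, AlgSpB.isOpenMap_ofPt ha _ W.1.2⟩, u, W.2, rfl⟩).trans
      (AlgSpD.topologicalKrullDim_image_eq X hX a ha W.1).le

end Groth.Agent.S10346
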