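import Groth.Statements.S10342
import Groth.Agent.AlgSpD.HasAt
import Mathlib.RingTheory.Ideal.KrullsHeightTheorem

set_option autoImplicit false
universe u
open CategoryTheory CategoryTheory.Limits AlgebraicGeometry Topology TopologicalSpace
open AlgSp

namespace Groth.Agent.S10342

/-- Let X be a locally Noetherian algebraic space over a scheme S and a : h_U ⟶ X a representable etale
map from a scheme U. If two points u, u' of U have the same image in |X| and u' specializes to u,
then u = u'. -/
theorem result {S : Scheme.{u}} (X : AlgSp.Space S)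
    (hX : AlgSp.IsLocNoethSp X.obj) {U : Over S} (a : (AlgSp.yon S).obj U ⟶ X.obj) (ha : AlgSp.RepWith @Etale a)
    (u u' : ↥U.left) (he : AlgSp.Points.ofPt a u = AlgSp.Points.ofPt a u') (hs : u' ⤳ u) : u = u' := by
  obtain ⟨U₀, p, hp, hps, hN⟩ := hX
  obtain ⟨W, f₁, f₂, sq⟩ := AlgSpB.exists_pullback_yon hp.1 a
  have : Etale f₁.left := ha.2 _ _ _ sq.flip
  have : Etale f₂.left := hp.2 _ _ _ sq
  have : Surjective f₂.left := hps.2 _ _ _ sq
  have hfin : ∀ v : ↥U.left, Order.coheight v < ⊤ := by
    intro v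
    obtain ⟨w, rfl⟩ := f₂.left.surjective v
    rw [AlgSpD.coheight_apply_eq_of_etale]
    have := LocallyOfFiniteType.isLocallyNoetherian f₁.left
    have h1 : ringKrullDim ↥(W.left.presheaf.stalk w) < ⊤ := ringKrullDim_lt_top
    rw [ringKrullDim_stalk_eq_coheight] at h1
    exact WithBot.coe_lt_coe.1 h1
  by_contra hne
  obtain ⟨R, q₁, q₂, r, -, hq₁, hq₂, e₁, e₂⟩ := AlgSpD.exists_common_chart ha ha he
  have e : Order.coheight u = Order.coheight u' := by
    rw [← e₁, ← e₂, AlgSpD.coheight_apply_eq_of_etale, AlgSpD.coheight_apply_eq_of_etale]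
  have hlt : u < u' := lt_iff_le_not_ge.2 ⟨hs, fun h => hne ((Specializes.antisymm h hs).eq)⟩
  exact (Order.coheight_strictAnti hlt (hfin _)).ne e.symm

end Groth.Agent.S10342
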