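import Groth.Statements.S12231
import Groth.Agent.Dim.Support
import Groth.Agent.VarDim.Algebra
import Mathlib.RingTheory.TensorProduct.MvPolynomial
import Mathlib.RingTheory.NoetherNormalization
import Mathlib.RingTheory.IsTensorProduct
import Mathlib.RingTheory.TensorProduct.Quotient
import Mathlib.Algebra.Category.Ring.Constructions
import Mathlib.AlgebraicGeometry.Pullbacks

set_option autoImplicit false
universe u
open TensorProduct
open FlatMor

namespace Groth.Agent.S12231

open AlgebraicGeometry CategoryTheory in
theorem of_isPushout_spec (P : MorphismProperty Scheme.{u}) [P.IsStableUnderBaseChange]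
    (R R' D D' : Type u) [CommRing R] [CommRing R'] [CommRing D] [CommRing D']
    [Algebra R R'] [Algebra R D] [Algebra R' D'] [Algebra D D'] [Algebra R D']
    [IsScalarTower R R' D'] [IsScalarTower R D D'] [Algebra.IsPushout R R' D D']
    (h : P (Spec.map (CommRingCat.ofHom (algebraMap R D)))) :
    P (Spec.map (CommRingCat.ofHom (algebraMap R' D'))) :=
  MorphismProperty.of_isPullback
    (isPullback_SpecMap_of_isPushout _ _ _ _ (CommRingCat.isPushout_of_isPushout R R' D D')).flip h

theorem ringKrullDim_baseChange (k K : Type u) [Field k] [Field K] [Algebra k K]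
    (A : Type u) [CommRing A] [Algebra k A] [Algebra.FiniteType k A] :
    ringKrullDim (K ⊗[k] A) = ringKrullDim A := by
  rcases subsingleton_or_nontrivial A with hA | hA
  · have h1 : Subsingleton (K ⊗[k] A) := inferInstance
    rw [ringKrullDim_eq_bot_of_subsingleton, ringKrullDim_eq_bot_of_subsingleton]
  obtain ⟨s, g, hg, hfin⟩ := exists_finite_inj_algHom_of_fg k A
  let φ : K ⊗[k] MvPolynomial (Fin s) k →ₐ[k] K ⊗[k] A :=
    Algebra.TensorProduct.map (AlgHom.id k K) g
  have hφinj : Function.Injective φ :=
    Module.Flat.lTensor_preserves_injective_linearMap (R := k) (M := K) g.toLinearMap hg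
  have e1 : ringKrullDim A = s := by
    letI := g.toRingHom.toAlgebra
    haveI : Module.Finite (MvPolynomial (Fin s) k) A := hfin
    haveI : FaithfulSMul (MvPolynomial (Fin s) k) A :=
      (faithfulSMul_iff_algebraMap_injective _ _).mpr hg
    rw [VarDim.ringKrullDim_eq_of_isIntegral (R := MvPolynomial (Fin s) k) (S := A),
      MvPolynomial.ringKrullDim_of_isNoetherianRing, ringKrullDim_eq_zero_of_field]
    simp
  have hint : φ.toRingHom.IsIntegral := by
    intro x
    induction x using TensorProduct.induction_on with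
    | zero => exact φ.toRingHom.isIntegralElem_zero
    | tmul a b =>
      have ha : φ.toRingHom.IsIntegralElem (a ⊗ₜ[k] (1 : A)) := by
        rw [show a ⊗ₜ[k] (1 : A) = φ.toRingHom (a ⊗ₜ[k] 1) by simp [φ]]
        exact φ.toRingHom.isIntegralElem_map
      have hb : φ.toRingHom.IsIntegralElem ((1 : K) ⊗ₜ[k] b) := by
        obtain ⟨P, hP, hP0⟩ := hfin.to_isIntegral b
        refine ⟨P.map (Algebra.TensorProduct.includeRight : _ →ₐ[k] K ⊗[k] MvPolynomial (Fin s) k).toRingHom,
          hP.map _, ?_⟩
        rw [Polynomial.eval₂_map]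
        have hcomp : φ.toRingHom.comp (Algebra.TensorProduct.includeRight : _ →ₐ[k] K ⊗[k] MvPolynomial (Fin s) k).toRingHom
            = (Algebra.TensorProduct.includeRight : A →ₐ[k] K ⊗[k] A).toRingHom.comp g.toRingHom :=
          RingHom.ext fun y => by simp [φ]
        rw [hcomp, show (1 : K) ⊗ₜ[k] b = (Algebra.TensorProduct.includeRight : A →ₐ[k] K ⊗[k] A).toRingHom b from rfl,
          ← Polynomial.hom_eval₂, hP0, map_zero]
      rw [show a ⊗ₜ[k] b = (a ⊗ₜ[k] (1 : A)) * ((1 : K) ⊗ₜ[k] b) by simp]
      exact ha.mul _ hb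
    | add x y hx hy => exact hx.add _ hy
  letI := φ.toRingHom.toAlgebra
  haveI : Algebra.IsIntegral (K ⊗[k] MvPolynomial (Fin s) k) (K ⊗[k] A) := ⟨hint⟩
  haveI : FaithfulSMul (K ⊗[k] MvPolynomial (Fin s) k) (K ⊗[k] A) :=
    (faithfulSMul_iff_algebraMap_injective _ _).mpr hφinj
  rw [e1, VarDim.ringKrullDim_eq_of_isIntegral (R := K ⊗[k] MvPolynomial (Fin s) k) (S := K ⊗[k] A),
    ringKrullDim_eq_of_ringEquiv
      (MvPolynomial.algebraTensorAlgEquiv (R := k) (σ := Fin s) (A := K)).toRingEquiv,
    MvPolynomial.ringKrullDim_of_isNoetherianRing, ringKrullDim_eq_zero_of_field]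
  simp

section
attribute [local instance] Algebra.TensorProduct.rightAlgebra

theorem supportDim_fiberMod {R : Type u} [CommRing R] (p : Ideal R) [p.IsPrime] (S N : Type u)
    [CommRing S] [Algebra R S] [AddCommGroup N] [Module S N] [Module R N] [IsScalarTower R S N]
    [Module.Finite S N] (I : Ideal S) (hI : Module.support S N = PrimeSpectrum.zeroLocus I) :
    Module.supportDim (p.Fiber S) (FlatCA.fiberMod p S N) =
      ringKrullDim (p.Fiber S ⧸ I.map
        (Algebra.TensorProduct.includeRight : S →ₐ[R] p.Fiber S).toRingHom) := by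
  refine Dim.supportDim_eq_ringKrullDim_of_support_eq ?_
  refine (Dim.support_tensor S (p.Fiber S) (p.Fiber S) N).trans ?_
  rw [Module.support_of_algebra, hI, PrimeSpectrum.preimage_comap_zeroLocus]
  have h0 : PrimeSpectrum.zeroLocus (RingHom.ker (algebraMap (p.Fiber S) (p.Fiber S)) : Set (p.Fiber S)) = Set.univ := by
    rw [(RingHom.injective_iff_ker_eq_bot _).mp (fun _ _ h => h)]
    exact PrimeSpectrum.zeroLocus_bot
  rw [h0, Set.univ_inter, Ideal.map, PrimeSpectrum.zeroLocus_span]
  rfl

end

theorem ker_map_mk {R A S : Type u} [CommRing R] [CommRing A] [CommRing S] [Algebra R A] [Algebra R S]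
    (I : Ideal S) :
    RingHom.ker (Algebra.TensorProduct.map (AlgHom.id R A) (Ideal.Quotient.mkₐ R I)) =
      I.map (Algebra.TensorProduct.includeRight : S →ₐ[R] A ⊗[R] S).toRingHom := by
  rw [Algebra.TensorProduct.lTensor_ker (A := A) (Ideal.Quotient.mkₐ R I) (Ideal.Quotient.mkₐ_surjective R I)]
  congr 1
  exact Ideal.Quotient.mkₐ_ker R I

noncomputable def quotIncludeRight {R A S : Type u} [CommRing R] [CommRing A] [CommRing S] [Algebra R A]
    [Algebra R S] (I : Ideal S) :
    (A ⊗[R] S ⧸ I.map (Algebra.TensorProduct.includeRight : S →ₐ[R] A ⊗[R] S).toRingHom) ≃+*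
      A ⊗[R] (S ⧸ I) :=
  (Ideal.quotEquivOfEq (ker_map_mk I).symm).trans
    (RingHom.quotientKerEquivOfSurjective
      (f := (Algebra.TensorProduct.map (AlgHom.id R A) (Ideal.Quotient.mkₐ R I)).toRingHom)
      (Algebra.TensorProduct.map_surjective (AlgHom.id R A) (Ideal.Quotient.mkₐ R I)
        Function.surjective_id (Ideal.Quotient.mkₐ_surjective R I)))

theorem dim_fibre_baseChange {R R' S S' : Type u} [CommRing R] [CommRing R'] [CommRing S] [CommRing S']
    [Algebra R R'] [Algebra R S] [Algebra.FiniteType R S] [Algebra R' S'] [Algebra R S'] [Algebra S S']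
    [IsScalarTower R R' S'] [IsScalarTower R S S'] [Algebra.IsPushout R R' S S']
    (p : Ideal R) [p.IsPrime] (p' : Ideal R') [p'.IsPrime] [p'.LiesOver p] (I : Ideal S) :
    ringKrullDim (p'.Fiber S' ⧸ (I.map (algebraMap S S')).map
        (Algebra.TensorProduct.includeRight : S' →ₐ[R'] p'.Fiber S').toRingHom) =
      ringKrullDim (p.Fiber S ⧸ I.map
        (Algebra.TensorProduct.includeRight : S →ₐ[R] p.Fiber S).toRingHom) := by
  letI : Algebra p.ResidueField p'.ResidueField :=
    (Ideal.ResidueField.map p p' (algebraMap R R') (Ideal.LiesOver.over (p := p) (P := p'))).toAlgebra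
  haveI : IsScalarTower R p.ResidueField p'.ResidueField :=
    IsScalarTower.of_algebraMap_eq fun a => by
      rw [RingHom.algebraMap_toAlgebra, IsScalarTower.algebraMap_apply R R' p'.ResidueField]
      exact (Ideal.ResidueField.map_algebraMap _ _ _ _ _).symm
  let e : p'.Fiber S' ≃ₐ[p'.ResidueField] p'.ResidueField ⊗[R] S :=
    (Algebra.TensorProduct.congr AlgEquiv.refl (Algebra.IsPushout.equiv R R' S S').symm).trans
      (Algebra.TensorProduct.cancelBaseChange R R' p'.ResidueField p'.ResidueField S)
  have he : (e.toRingEquiv : p'.Fiber S' →+* p'.ResidueField ⊗[R] S).comp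
      ((Algebra.TensorProduct.includeRight : S' →ₐ[R'] p'.Fiber S').toRingHom.comp (algebraMap S S')) =
      (Algebra.TensorProduct.includeRight : S →ₐ[R] p'.ResidueField ⊗[R] S).toRingHom := by
    ext s
    simp [e, Algebra.IsPushout.equiv_symm_algebraMap_right]
  have e2 := Ideal.quotientEquiv
    ((I.map (algebraMap S S')).map
      (Algebra.TensorProduct.includeRight : S' →ₐ[R'] p'.Fiber S').toRingHom)
    (I.map (Algebra.TensorProduct.includeRight : S →ₐ[R] p'.ResidueField ⊗[R] S).toRingHom)
    e.toRingEquiv (by rw [Ideal.map_map, Ideal.map_map, RingHom.comp_assoc]; exact congrArg (fun φ : S →+* _ => I.map φ) he.symm)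
  rw [ringKrullDim_eq_of_ringEquiv (e2.trans (quotIncludeRight I)),
    ringKrullDim_eq_of_ringEquiv (R := p.ResidueField ⊗[R] S ⧸ _) (quotIncludeRight (R := R) (A := p.ResidueField) I),
    ringKrullDim_eq_of_ringEquiv (Algebra.TensorProduct.cancelBaseChange R p.ResidueField
      p.ResidueField p'.ResidueField (S ⧸ I)).symm.toRingEquiv]
  exact ringKrullDim_baseChange p.ResidueField p'.ResidueField _

theorem support_baseChange {S S' N N' : Type u} [CommRing S] [CommRing S'] [Algebra S S']
    [AddCommGroup N] [Module S N] [Module.Finite S N] [AddCommGroup N'] [Module S N'] [Module S' N']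
    [IsScalarTower S S' N'] {f : N →ₗ[S] N'} (hf : IsBaseChange S' f) :
    Module.support S' N' = PrimeSpectrum.zeroLocus (Ideal.map (algebraMap S S') (Module.annihilator S N)) := by
  rw [← hf.equiv.support_eq, Dim.support_tensor S S' S' N, Module.support_eq_zeroLocus (M := S'),
    Module.support_eq_zeroLocus (M := N), PrimeSpectrum.preimage_comap_zeroLocus]
  have : Module.annihilator S' S' = ⊥ := Module.annihilator_eq_bot.mpr inferInstance
  rw [this, PrimeSpectrum.zeroLocus_bot, Set.univ_inter, Ideal.map, PrimeSpectrum.zeroLocus_span]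



/-- All schemes are affine here, as in the ambient rendering of a one-step dévissage. Let R → S be a
ring map of finite type, N a finite S-module, p a prime of R and (C, D, G, n) a one-step dévissage
of N/S/R over p — C a finitely presented quotient of S with a finite C-module G identified with N
over S, D an R-algebra smooth of relative dimension n with geometrically irreducible fibres and a
finite map D → C over R, n the dimension of the support of the fibre module of N over p. Let R → R'
be a ring map, p' a prime of R' over p, and let S', C', D' be the base changes of S, C, D to R'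
(pushout squares, with the R'-algebra maps S' → C' ← D' induced from S → C ← D) and N' = N ⊗_S S',
G' = G ⊗_C C' (base-change maps f, g). Then (C', D', G', n) is a one-step dévissage of N'/S'/R' over
p'. -/
theorem result
    (R S : Type u) [CommRing R] [CommRing S] [Algebra R S] [Algebra.FiniteType R S]
    (N : Type u) [AddCommGroup N] [Module S N] [Module R N] [IsScalarTower R S N] [Module.Finite S N]
    (p : Ideal R) [p.IsPrime]
    (C D G : Type u) [CommRing C] [CommRing D] [Algebra S C] [Algebra R C] [IsScalarTower R S C]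
    [Algebra R D] [Algebra D C] [IsScalarTower R D C] [AddCommGroup G] [Module C G] [Module S G]
    [IsScalarTower S C G] (n : ℕ)
    (h : FlatCA.IsOneStepDevissage R S N p C D G n)
    (R' : Type u) [CommRing R'] [Algebra R R'] (p' : Ideal R') [p'.IsPrime] [p'.LiesOver p]
    (S' C' D' : Type u) [CommRing S'] [CommRing C'] [CommRing D']
    [Algebra R' S'] [Algebra R S'] [Algebra S S'] [IsScalarTower R R' S'] [IsScalarTower R S S']
    [Algebra.IsPushout R R' S S']
    [Algebra R' C'] [Algebra R C'] [Algebra C C'] [IsScalarTower R R' C'] [IsScalarTower R C C']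
    [Algebra.IsPushout R R' C C']
    [Algebra R' D'] [Algebra R D'] [Algebra D D'] [IsScalarTower R R' D'] [IsScalarTower R D D']
    [Algebra.IsPushout R R' D D']
    [Algebra S' C'] [IsScalarTower R' S' C'] [Algebra S C'] [IsScalarTower S S' C'] [IsScalarTower S C C']
    [Algebra D' C'] [IsScalarTower R' D' C'] [Algebra D C'] [IsScalarTower D D' C'] [IsScalarTower D C C']
    (N' : Type u) [AddCommGroup N'] [Module S' N'] [Module R' N'] [IsScalarTower R' S' N']
    [Module S N'] [IsScalarTower S S' N'] (f : N →ₗ[S] N') (hf : IsBaseChange S' f)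
    (G' : Type u) [AddCommGroup G'] [Module C' G'] [Module S' G'] [IsScalarTower S' C' G']
    [Module C G'] [IsScalarTower C C' G'] (g : G →ₗ[C] G') (hg : IsBaseChange C' g) :
    FlatCA.IsOneStepDevissage R' S' N' p' C' D' G' n := by
  obtain ⟨⟨e⟩, hsurj, hfp, hDC, hCG, hsm, hgi, hdim⟩ := h
  haveI hSR : Algebra.IsPushout R S R' S' := Algebra.IsPushout.symm inferInstance
  haveI : IsScalarTower R S' C' := IsScalarTower.of_algebraMap_eq fun r => by
    rw [IsScalarTower.algebraMap_apply R R' C', IsScalarTower.algebraMap_apply R' S' C',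
      ← IsScalarTower.algebraMap_apply R R' S']
  haveI hSC : Algebra.IsPushout S S' C C' :=
    Algebra.IsPushout.symm ((Algebra.IsPushout.comp_iff (R := R) (S := S) (R' := R') (S' := S')
      (T := C) (T' := C')).mp (Algebra.IsPushout.symm inferInstance))
  haveI hDR : Algebra.IsPushout R D R' D' := Algebra.IsPushout.symm inferInstance
  haveI : IsScalarTower R D' C' := IsScalarTower.of_algebraMap_eq fun r => by
    rw [IsScalarTower.algebraMap_apply R R' C', IsScalarTower.algebraMap_apply R' D' C',
      ← IsScalarTower.algebraMap_apply R R' D']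
  haveI hDC' : Algebra.IsPushout D D' C C' :=
    Algebra.IsPushout.symm ((Algebra.IsPushout.comp_iff (R := R) (S := D) (R' := R') (S' := D')
      (T := C) (T' := C')).mp (Algebra.IsPushout.symm inferInstance))
  haveI := hfp
  haveI := hDC
  haveI := hCG
  let eG : S' ⊗[S] G ≃ₗ[S'] G' :=
    (Algebra.IsPushout.cancelBaseChange S S' C C' G).symm ≪≫ₗ hg.equiv.restrictScalars S'
  haveI : Module.Finite S' N' := Module.Finite.equiv hf.equiv
  refine ⟨⟨hf.equiv.symm ≪≫ₗ e.baseChange S S' ≪≫ₗ eG⟩, ?_, ?_, ?_, ?_, ?_, ?_, ?_⟩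
  · intro c
    obtain ⟨t, rfl⟩ := (Algebra.IsPushout.equiv S S' C C').surjective c
    induction t using TensorProduct.induction_on with
    | zero => exact ⟨0, by simp⟩
    | tmul a b =>
      obtain ⟨s, rfl⟩ := hsurj b
      refine ⟨a * algebraMap S S' s, ?_⟩
      rw [Algebra.IsPushout.equiv_tmul, map_mul, ← IsScalarTower.algebraMap_apply S S' C',
        ← IsScalarTower.algebraMap_apply S C C']
    | add x y hx hy =>
      obtain ⟨a, ha⟩ := hx
      obtain ⟨b, hb⟩ := hy
      exact ⟨a + b, by rw [map_add, map_add, ha, hb]⟩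
  · exact Algebra.FinitePresentation.equiv (Algebra.IsPushout.equiv S S' C C')
  · exact Module.Finite.equiv (Algebra.IsPushout.equiv D D' C C').toLinearEquiv
  · exact Module.Finite.equiv hg.equiv
  · haveI := AlgebraicGeometry.smoothOfRelativeDimension_isStableUnderBaseChange (n := n)
    exact of_isPushout_spec _ R R' D D' hsm
  · exact of_isPushout_spec _ R R' D D' hgi
  · rw [supportDim_fiberMod p' S' N' _ (support_baseChange hf), dim_fibre_baseChange p p',
      ← supportDim_fiberMod p S N (Module.annihilator S N) Module.support_eq_zeroLocus, hdim]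

end Groth.Agent.S12231
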