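import Groth.Statements.S12239
import Groth.Agent.S12231
import Groth.Agent.FlatMisc.FibreDimScheme
import Groth.Agent.FlatMisc.Fiber
import Groth.Agent.RGFlat.FibreReg
import Mathlib.RingTheory.AlgebraicIndependent.TranscendenceBasis
import Mathlib.RingTheory.LocalRing.ResidueField.Fiber


set_option autoImplicit false
universe u
open FlatMor

namespace Groth.Agent.S12239


open _root_.TensorProduct

section Fibre

variable {R R' S S' : Type u} [CommRing R] [CommRing R'] [CommRing S] [CommRing S']
  [Algebra R R'] [Algebra R S] [Algebra R' S'] [Algebra R S'] [Algebra S S']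
  [IsScalarTower R R' S'] [IsScalarTower R S S'] [Algebra.IsPushout R R' S S']
  (p : Ideal R) [p.IsPrime] (p' : Ideal R') [p'.IsPrime] [hp' : p'.LiesOver p]
  (hκ : Function.Bijective (Ideal.ResidueField.mapₐ p p' (Algebra.ofId R R') hp'.over))

/-- The fibre rings agree. -/
noncomputable def fibreEquiv : p'.Fiber S' ≃+* p.Fiber S :=
  (((Algebra.TensorProduct.congr AlgEquiv.refl (Algebra.IsPushout.equiv R R' S S').symm).trans
      (Algebra.TensorProduct.cancelBaseChange R R' p'.ResidueField p'.ResidueField S)).toRingEquiv).trans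
    (Algebra.TensorProduct.congr (AlgEquiv.ofBijective _ hκ).symm AlgEquiv.refl).toRingEquiv

theorem fibreEquiv_include (s : S) :
    fibreEquiv p p' hκ ((Algebra.TensorProduct.includeRight : S' →ₐ[R'] p'.Fiber S') (algebraMap S S' s)) =
      (Algebra.TensorProduct.includeRight : S →ₐ[R] p.Fiber S) s := by
  simp [fibreEquiv, Algebra.IsPushout.equiv_symm_algebraMap_right]

theorem comap_fibre_point (x : PrimeSpectrum (p.Fiber S)) :
    ((PrimeSpectrum.homeomorphOfRingEquiv (fibreEquiv p p' hκ)).symm x).asIdeal.comap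
        ((Algebra.TensorProduct.includeRight : S' →ₐ[R'] p'.Fiber S').toRingHom.comp (algebraMap S S')) =
      x.asIdeal.comap (Algebra.TensorProduct.includeRight : S →ₐ[R] p.Fiber S).toRingHom := by
  ext s
  simp only [Ideal.mem_comap, RingHom.comp_apply, AlgHom.toRingHom_eq_coe, RingHom.coe_coe]
  show fibreEquiv p p' hκ ((Algebra.TensorProduct.includeRight : S' →ₐ[R'] p'.Fiber S') (algebraMap S S' s)) ∈ x.asIdeal ↔ _
  rw [fibreEquiv_include]

include hκ in
theorem unique_over (q : Ideal S) (Q₁ Q₂ : Ideal S') [Q₁.IsPrime] [Q₂.IsPrime] [Q₁.LiesOver q] [Q₂.LiesOver q]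
    [Q₁.LiesOver p'] [Q₂.LiesOver p'] : Q₁ = Q₂ := by
  let i' := (Algebra.TensorProduct.includeRight : S' →ₐ[R'] p'.Fiber S').toRingHom
  let x₁ : PrimeSpectrum (p'.Fiber S') := ⟨FlatCA.fiberIdeal p' Q₁, RGFlat.fiberIdeal_isPrime p' Q₁⟩
  let x₂ : PrimeSpectrum (p'.Fiber S') := ⟨FlatCA.fiberIdeal p' Q₂, RGFlat.fiberIdeal_isPrime p' Q₂⟩
  let h := PrimeSpectrum.homeomorphOfRingEquiv (fibreEquiv (S := S) (S' := S') p p' hκ)
  have hc : ∀ (Q : Ideal S') [Q.IsPrime] [Q.LiesOver q] [Q.LiesOver p'] (x : PrimeSpectrum (p'.Fiber S')),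
      x.asIdeal = FlatCA.fiberIdeal p' Q →
      (h x).asIdeal.comap (Algebra.TensorProduct.includeRight : S →ₐ[R] p.Fiber S).toRingHom = q := by
    intro Q _ _ _ x hx
    rw [← comap_fibre_point (S := S) (S' := S') p p' hκ (h x), Homeomorph.symm_apply_apply, ← Ideal.comap_comap, hx,
      FlatMisc.Fiber.comap_fiberIdeal p' Q]
    exact (Ideal.LiesOver.over (P := Q) (p := q)).symm
  have h12 : (h x₁) = (h x₂) := by
    apply (PrimeSpectrum.preimageOrderIsoFiber R S ⟨p, inferInstance⟩).symm.injective
    refine Subtype.ext (PrimeSpectrum.ext ?_)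
    exact (hc Q₁ x₁ rfl).trans (hc Q₂ x₂ rfl).symm
  have : x₁ = x₂ := h.injective h12
  rw [← FlatMisc.Fiber.comap_fiberIdeal p' Q₁, ← FlatMisc.Fiber.comap_fiberIdeal p' Q₂]
  exact congrArg (fun x : PrimeSpectrum (p'.Fiber S') => x.asIdeal.comap i') this

include hκ in
theorem pureTrans_baseChange (y : Ideal S) [y.IsPrime] [y.LiesOver p] (y' : Ideal S') [y'.IsPrime]
    [y'.LiesOver y] [y'.LiesOver p'] (h : FlatCA.PurelyTranscendental p y) :
    FlatCA.PurelyTranscendental p' y' := by
  letI : Algebra p.ResidueField y.ResidueField :=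
    (Ideal.ResidueField.mapₐ p y (Algebra.ofId R S) (Ideal.LiesOver.over (P := y) (p := p))).toRingHom.toAlgebra
  letI : Algebra p'.ResidueField y'.ResidueField :=
    (Ideal.ResidueField.mapₐ p' y' (Algebra.ofId R' S') (Ideal.LiesOver.over (P := y') (p := p'))).toRingHom.toAlgebra
  obtain ⟨ι, x, hx, hgen⟩ := h
  let σ : p.ResidueField →+* p'.ResidueField := (Ideal.ResidueField.mapₐ p p' (Algebra.ofId R R') hp'.over).toRingHom
  let ψ : y.ResidueField →+* y'.ResidueField :=
    Ideal.ResidueField.map y y' (algebraMap S S') (Ideal.LiesOver.over (P := y') (p := y))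
  have hσ : Function.Surjective σ := hκ.2
  have hcomp : (algebraMap p'.ResidueField y'.ResidueField).comp σ = ψ.comp (algebraMap p.ResidueField y.ResidueField) := by
    ext r
    simp [σ, ψ, RingHom.algebraMap_toAlgebra]
    rw [IsScalarTower.algebraMap_apply R S y.ResidueField, Ideal.ResidueField.map_algebraMap,
      IsScalarTower.algebraMap_apply R S' y'.ResidueField, IsScalarTower.algebraMap_apply R S S']
  have hψ : Function.Surjective ψ := by
    have hD : ∀ d : S', algebraMap S' y'.ResidueField d ∈ ψ.range := by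
      intro d
      obtain ⟨t, rfl⟩ := (Algebra.IsPushout.equiv R R' S S').surjective d
      induction t using TensorProduct.induction_on with
      | zero => simp
      | tmul a b =>
        rw [Algebra.IsPushout.equiv_tmul, map_mul]
        refine mul_mem ?_ ⟨algebraMap S y.ResidueField b, Ideal.ResidueField.map_algebraMap _ _ _ _ _⟩
        obtain ⟨u, hu⟩ := hσ (algebraMap R' p'.ResidueField a)
        refine ⟨algebraMap p.ResidueField y.ResidueField u, ?_⟩
        rw [← RingHom.comp_apply, ← hcomp, RingHom.comp_apply, hu, RingHom.algebraMap_toAlgebra]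
        exact Ideal.ResidueField.map_algebraMap _ _ _ _ _
      | add u v hu hv => rw [map_add, map_add]; exact add_mem hu hv
    intro w
    obtain ⟨a, b, hb, rfl⟩ := IsFractionRing.div_surjective (A := S' ⧸ y') w
    obtain ⟨a, rfl⟩ := Ideal.Quotient.mk_surjective a
    obtain ⟨b, rfl⟩ := Ideal.Quotient.mk_surjective b
    obtain ⟨a', ha'⟩ := hD a
    obtain ⟨b', hb'⟩ := hD b
    exact ⟨a' / b', by rw [map_div₀, ha', hb']; rfl⟩
  refine ⟨ι, ψ ∘ x, ?_, ?_⟩
  · have hind : AlgebraicIndependent p'.ResidueField (ψ ∘ x) :=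
      hx.1.ringHom_of_comp_eq σ ψ hσ ψ.injective hcomp
    refine hind.isTranscendenceBasis_iff_isAlgebraic.mpr ⟨fun w => ?_⟩
    obtain ⟨v, rfl⟩ := hψ w
    haveI := hx.isAlgebraic
    have hv : IsAlgebraic (Algebra.adjoin p.ResidueField (Set.range x)) v := Algebra.IsAlgebraic.isAlgebraic v
    let χ : Algebra.adjoin p.ResidueField (Set.range x) →+* Algebra.adjoin p'.ResidueField (Set.range (ψ ∘ x)) :=
      (ψ.comp (Algebra.adjoin p.ResidueField (Set.range x)).val.toRingHom).codRestrict
        (Algebra.adjoin p'.ResidueField (Set.range (ψ ∘ x))) (fun a => by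
          obtain ⟨a, ha⟩ := a
          show ψ a ∈ _
          induction ha using Algebra.adjoin_induction with
          | mem z hz => obtain ⟨i, rfl⟩ := hz; exact Algebra.subset_adjoin ⟨i, rfl⟩
          | algebraMap c =>
            rw [← RingHom.comp_apply, ← hcomp]
            exact Subalgebra.algebraMap_mem _ _
          | add u v _ _ hu hv => rw [map_add]; exact add_mem hu hv
          | mul u v _ _ hu hv => rw [map_mul]; exact mul_mem hu hv)
    exact hv.ringHom_of_comp_eq χ ψ (fun u v huv => Subtype.ext (ψ.injective (congrArg Subtype.val huv))) rfl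
  · rw [eq_top_iff]
    intro w hw
    clear hw
    obtain ⟨v, rfl⟩ := hψ w
    have hv : v ∈ IntermediateField.adjoin p.ResidueField (Set.range x) := hgen ▸ IntermediateField.mem_top
    induction hv using IntermediateField.adjoin_induction with
    | mem z hz => obtain ⟨i, rfl⟩ := hz; exact IntermediateField.subset_adjoin _ _ ⟨i, rfl⟩
    | algebraMap c =>
      rw [← RingHom.comp_apply, ← hcomp]
      exact IntermediateField.algebraMap_mem _ _
    | add u v _ _ hu hv => rw [map_add]; exact add_mem hu hv
    | inv u _ hu => rw [map_inv₀]; exact inv_mem hu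
    | mul u v _ _ hu hv => rw [map_mul]; exact mul_mem hu hv

end Fibre

open TensorProduct in
/-- All schemes are affine, as in the ambient rendering of a one-step dévissage. Let R → S be of finite
type, N a finite S-module, p a prime of R and q a prime of S over p (the points s and x). Let (C, D,
G, n) be a one-step dévissage of N/S/R over p — C a finitely presented quotient of S carrying a
finite module G identified with N, D smooth over R of relative dimension n with geometrically
irreducible fibres, D → C finite over R, n the dimension of the support of the fibre module N ⊗ κ(p)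
— which is moreover a one-step dévissage at q for primes z of C and y of D: the local dimension of
that support at the point given by q equals n; z lies over q and over y; z is the only prime of C
over y; and κ(y) is purely transcendental over κ(p). Let R → R' be a ring map and p' a prime of R'
over p such that κ(p) → κ(p') is bijective, and let S', C', D', N', G' be the base changes along R →
R' (pushout squares compatible with S → C ← D, and N' = N ⊗_S S', G' = G ⊗_C C'). Let q', z', y' be
primes of S', C', D' lying over q, z, y respectively and over p'. Then q' is the only prime of S'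
over both q and p', and the base-changed data is again a one-step dévissage at q': (C', D', G', n)
is a one-step dévissage of N'/S'/R' over p'; the local dimension at q' of the support of N' ⊗ κ(p')
equals n; z' lies over q' and over y'; z' is the only prime of C' over y'; and κ(y') is purely
transcendental over κ(p'). -/
theorem result
    (R S : Type u) [CommRing R] [CommRing S] [Algebra R S] [Algebra.FiniteType R S]
    (N : Type u) [AddCommGroup N] [Module S N] [Module R N] [IsScalarTower R S N] [Module.Finite S N]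
    (p : Ideal R) [p.IsPrime] (q : Ideal S) [q.IsPrime] [q.LiesOver p]
    (C D G : Type u) [CommRing C] [CommRing D] [Algebra S C] [Algebra R C] [IsScalarTower R S C]
    [Algebra R D] [Algebra D C] [IsScalarTower R D C] [AddCommGroup G] [Module C G] [Module S G]
    [IsScalarTower S C G] (n : ℕ)
    (h : FlatCA.IsOneStepDevissage R S N p C D G n)
    (z : Ideal C) [z.IsPrime] (y : Ideal D) [y.IsPrime] [z.LiesOver q] [z.LiesOver y] [y.LiesOver p]
    (h1 : ∃ (ξ : PrimeSpectrum (p.Fiber S)) (hξ : ξ ∈ Module.support (p.Fiber S) (FlatCA.fiberMod p S N)),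
      ξ.asIdeal = FlatCA.fiberIdeal p q ∧
      FlatMor.localDim (Module.support (p.Fiber S) (FlatCA.fiberMod p S N)) ⟨ξ, hξ⟩ = n)
    (h3 : ∀ (z₁ : Ideal C) [z₁.IsPrime], z₁.LiesOver y → z₁ = z)
    (h4 : FlatCA.PurelyTranscendental p y)
    (R' : Type u) [CommRing R'] [Algebra R R'] (p' : Ideal R') [p'.IsPrime] [hp' : p'.LiesOver p]
    (hκ : Function.Bijective (Ideal.ResidueField.mapₐ p p' (Algebra.ofId R R') hp'.over))
    (S' C' D' : Type u) [CommRing S'] [CommRing C'] [CommRing D']
    [Algebra R' S'] [Algebra R S'] [Algebra S S'] [IsScalarTower R R' S'] [IsScalarTower R S S']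
    [Algebra.IsPushout R R' S S']
    [Algebra R' C'] [Algebra R C'] [Algebra C C'] [IsScalarTower R R' C'] [IsScalarTower R C C']
    [Algebra.IsPushout R R' C C']
    [Algebra R' D'] [Algebra R D'] [Algebra D D'] [IsScalarTower R R' D'] [IsScalarTower R D D']
    [Algebra.IsPushout R R' D D']
    [Algebra S' C'] [IsScalarTower R' S' C'] [Algebra S C'] [IsScalarTower S S' C'] [IsScalarTower S C C']
    [Algebra D' C'] [IsScalarTower R' D' C'] [Algebra D C'] [IsScalarTower D D' C'] [IsScalarTower D C C']
    (N' : Type u) [AddCommGroup N'] [Module S' N'] [Module R' N'] [IsScalarTower R' S' N']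
    [Module S N'] [IsScalarTower S S' N'] (f : N →ₗ[S] N') (hf : IsBaseChange S' f)
    (G' : Type u) [AddCommGroup G'] [Module C' G'] [Module S' G'] [IsScalarTower S' C' G']
    [Module C G'] [IsScalarTower C C' G'] (g : G →ₗ[C] G') (hg : IsBaseChange C' g)
    (q' : Ideal S') [q'.IsPrime] [q'.LiesOver q] [q'.LiesOver p']
    (z' : Ideal C') [z'.IsPrime] [z'.LiesOver z] [z'.LiesOver p']
    (y' : Ideal D') [y'.IsPrime] [y'.LiesOver y] [y'.LiesOver p'] :
    (∀ (q₁ : Ideal S') [q₁.IsPrime], q₁.LiesOver q → q₁.LiesOver p' → q₁ = q') ∧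
    FlatCA.IsOneStepDevissage R' S' N' p' C' D' G' n ∧
    (∃ (ξ' : PrimeSpectrum (p'.Fiber S')) (hξ' : ξ' ∈ Module.support (p'.Fiber S') (FlatCA.fiberMod p' S' N')),
      ξ'.asIdeal = FlatCA.fiberIdeal p' q' ∧
      FlatMor.localDim (Module.support (p'.Fiber S') (FlatCA.fiberMod p' S' N')) ⟨ξ', hξ'⟩ = n) ∧
    z'.LiesOver q' ∧ z'.LiesOver y' ∧
    (∀ (z₁ : Ideal C') [z₁.IsPrime], z₁.LiesOver y' → z₁ = z') ∧
    FlatCA.PurelyTranscendental p' y' := by
  have huS : ∀ (q₁ : Ideal S') [q₁.IsPrime], q₁.LiesOver q → q₁.LiesOver p' → q₁ = q' := fun q₁ _ _ _ =>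
    unique_over (S := S) p p' hκ q q₁ q'
  have huD : ∀ (y₁ : Ideal D') [y₁.IsPrime], y₁.LiesOver y → y₁.LiesOver p' → y₁ = y' := fun y₁ _ _ _ =>
    unique_over (S := D) p p' hκ y y₁ y'
  have huC : ∀ (z₁ : Ideal C') [z₁.IsPrime], z₁.LiesOver z → z₁.LiesOver p' → z₁ = z' := fun z₁ _ _ _ =>
    unique_over (S := C) p p' hκ z z₁ z'
  refine ⟨huS, S12231.result R S N p C D G n h R' p' S' C' D' N' f hf G' g hg, ?_, ?_, ?_, ?_, ?_⟩
  · haveI : Module.Finite S' N' := Module.Finite.equiv hf.equiv
    obtain ⟨ξ, hξ, hξq, hloc⟩ := h1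
    let hh := PrimeSpectrum.homeomorphOfRingEquiv (fibreEquiv (S := S) (S' := S') p p' hκ)
    let i := (Algebra.TensorProduct.includeRight : S →ₐ[R] p.Fiber S).toRingHom
    let i' := (Algebra.TensorProduct.includeRight : S' →ₐ[R'] p'.Fiber S').toRingHom
    have hsupp : ∀ x : PrimeSpectrum (p.Fiber S), x ∈ Module.support (p.Fiber S) (FlatCA.fiberMod p S N) ↔
        PrimeSpectrum.comap i x ∈ Module.support S N := by
      letI : Algebra S (p.Fiber S) := Algebra.TensorProduct.rightAlgebra
      intro x
      show x ∈ Module.support (p.Fiber S) ((p.Fiber S) ⊗[S] N) ↔ _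
      rw [Dim.support_tensor S (p.Fiber S) (p.Fiber S) N]
      have h0 : x ∈ Module.support (p.Fiber S) (p.Fiber S) := by
        rw [Module.mem_support_iff_of_finite, Module.annihilator_eq_bot.mpr inferInstance]
        exact bot_le
      exact ⟨fun h => h.2, fun h => ⟨h0, h⟩⟩
    have hsupp' : ∀ x : PrimeSpectrum (p'.Fiber S'), x ∈ Module.support (p'.Fiber S') (FlatCA.fiberMod p' S' N') ↔
        hh x ∈ Module.support (p.Fiber S) (FlatCA.fiberMod p S N) := by
      letI : Algebra S' (p'.Fiber S') := Algebra.TensorProduct.rightAlgebra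
      intro x
      have h0 : x ∈ Module.support (p'.Fiber S') (p'.Fiber S') := by
        rw [Module.mem_support_iff_of_finite, Module.annihilator_eq_bot.mpr inferInstance]
        exact bot_le
      show x ∈ Module.support (p'.Fiber S') ((p'.Fiber S') ⊗[S'] N') ↔ _
      rw [Dim.support_tensor S' (p'.Fiber S') (p'.Fiber S') N', hsupp, S12231.support_baseChange hf,
        Module.support_eq_zeroLocus (M := N)]
      have hxS : (PrimeSpectrum.comap i (hh x)).asIdeal =
          (PrimeSpectrum.comap i' x).asIdeal.comap (algebraMap S S') := by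
        show (hh x).asIdeal.comap i = (x.asIdeal.comap i').comap (algebraMap S S')
        rw [Ideal.comap_comap, ← comap_fibre_point (S := S) (S' := S') p p' hκ (hh x), Homeomorph.symm_apply_apply]
      refine ⟨fun h => ?_, fun h => ⟨h0, ?_⟩⟩
      · exact (Ideal.map_le_iff_le_comap.mp h.2).trans_eq hxS.symm
      · exact Ideal.map_le_iff_le_comap.mpr (le_of_le_of_eq h hxS)
    let ξ' : PrimeSpectrum (p'.Fiber S') := hh.symm ξ
    have hξ' : ξ' ∈ Module.support (p'.Fiber S') (FlatCA.fiberMod p' S' N') :=
      (hsupp' _).mpr (by rw [Homeomorph.apply_symm_apply]; exact hξ)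
    refine ⟨ξ', hξ', ?_, ?_⟩
    · let Q : Ideal S' := ξ'.asIdeal.comap i'
      haveI : Q.IsPrime := Ideal.IsPrime.comap _
      haveI : Q.LiesOver p' :=
        ⟨((congrArg PrimeSpectrum.asIdeal ((PrimeSpectrum.preimageOrderIsoFiber R' S' ⟨p', inferInstance⟩).symm ξ').2)).symm⟩
      haveI : Q.LiesOver q := ⟨by
        show q = (ξ'.asIdeal.comap i').comap (algebraMap S S')
        rw [Ideal.comap_comap]
        refine (comap_fibre_point (S := S) (S' := S') p p' hκ ξ).symm ▸ ?_
        rw [hξq]
        exact (FlatMisc.Fiber.comap_fiberIdeal p q).symm⟩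
      have hQ : Q = q' := huS Q inferInstance inferInstance
      haveI := RGFlat.fiberIdeal_isPrime p' q'
      refine congrArg PrimeSpectrum.asIdeal (?_ : ξ' = ⟨FlatCA.fiberIdeal p' q', inferInstance⟩)
      apply (PrimeSpectrum.preimageOrderIsoFiber R' S' ⟨p', inferInstance⟩).symm.injective
      refine Subtype.ext (PrimeSpectrum.ext ?_)
      exact hQ.trans (FlatMisc.Fiber.comap_fiberIdeal p' q').symm
    · let e : Module.support (p'.Fiber S') (FlatCA.fiberMod p' S' N') ≃ₜ Module.support (p.Fiber S) (FlatCA.fiberMod p S N) :=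
        hh.subtype hsupp'
      have hee : e ⟨ξ', hξ'⟩ = ⟨ξ, hξ⟩ := Subtype.ext (hh.apply_symm_apply ξ)
      rw [← hloc]
      refine le_antisymm ?_ ?_
      · have := FlatMisc.FibreDimScheme.localDim_homeo e.symm (e ⟨ξ', hξ'⟩)
        rw [Homeomorph.symm_apply_apply, hee] at this
        exact this
      · have := FlatMisc.FibreDimScheme.localDim_homeo e ⟨ξ', hξ'⟩
        rw [hee] at this
        exact this
  · let Q := z'.under S'
    haveI : Q.LiesOver p' := ⟨by
      show p' = (z'.comap (algebraMap S' C')).comap (algebraMap R' S')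
      rw [Ideal.comap_comap, ← IsScalarTower.algebraMap_eq]
      exact Ideal.LiesOver.over (P := z') (p := p')⟩
    haveI : Q.LiesOver q := ⟨by
      show q = (z'.comap (algebraMap S' C')).comap (algebraMap S S')
      rw [Ideal.comap_comap, ← IsScalarTower.algebraMap_eq, IsScalarTower.algebraMap_eq S C C', ← Ideal.comap_comap,
        ← Ideal.under, ← Ideal.under, ← Ideal.over_def z' z, ← Ideal.over_def z q]⟩
    exact ⟨(huS Q inferInstance inferInstance).symm⟩
  · let Q := z'.under D'
    haveI : Q.LiesOver p' := ⟨by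
      show p' = (z'.comap (algebraMap D' C')).comap (algebraMap R' D')
      rw [Ideal.comap_comap, ← IsScalarTower.algebraMap_eq]
      exact Ideal.LiesOver.over (P := z') (p := p')⟩
    haveI : Q.LiesOver y := ⟨by
      show y = (z'.comap (algebraMap D' C')).comap (algebraMap D D')
      rw [Ideal.comap_comap, ← IsScalarTower.algebraMap_eq, IsScalarTower.algebraMap_eq D C C', ← Ideal.comap_comap,
        ← Ideal.under, ← Ideal.under, ← Ideal.over_def z' z, ← Ideal.over_def z y]⟩
    exact ⟨(huD Q inferInstance inferInstance).symm⟩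
  · intro z₁ _ hz₁
    haveI := hz₁
    let Q := z₁.under C
    haveI : Q.LiesOver y := ⟨by
      show y = (z₁.comap (algebraMap C C')).comap (algebraMap D C)
      rw [Ideal.comap_comap, ← IsScalarTower.algebraMap_eq, IsScalarTower.algebraMap_eq D D' C', ← Ideal.comap_comap,
        ← Ideal.under, ← Ideal.under, ← Ideal.over_def z₁ y', ← Ideal.over_def y' y]⟩
    haveI : z₁.LiesOver z := ⟨(h3 Q inferInstance).symm⟩
    haveI : z₁.LiesOver p' := Ideal.LiesOver.trans z₁ y' p'
    exact huC z₁ inferInstance inferInstance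
  · exact pureTrans_baseChange (S := D) p p' hκ y y' h4

end Groth.Agent.S12239
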