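import Groth.Statements.S12242
import Groth.Agent.S12231
import Groth.Agent.S12239
import Groth.Agent.CAlg76.SmoothRelDim
import Groth.Agent.FlatMisc.FibreDimScheme
import Mathlib.RingTheory.LocalRing.ResidueField.Fiber
import Mathlib.RingTheory.Localization.BaseChange
import Mathlib.RingTheory.IsTensorProduct
import Mathlib.RingTheory.Smooth.Flat
import Mathlib.RingTheory.Spectrum.Prime.ChevalleyComplexity
import Mathlib.AlgebraicGeometry.Morphisms.Smooth
import Mathlib.AlgebraicGeometry.Geometrically.Irreducible


set_option autoImplicit false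
universe u
open FlatMor

namespace Groth.Agent.S12242


open _root_.TensorProduct

section Fibre

variable {R R' S S' : Type u} [CommRing R] [CommRing R'] [CommRing S] [CommRing S']
  [Algebra R R'] [Algebra R S] [Algebra R' S'] [Algebra R S'] [Algebra S S']
  [IsScalarTower R R' S'] [IsScalarTower R S S']
  {N N' : Type u} [AddCommGroup N] [Module S N] [Module R N] [IsScalarTower R S N] [Module.Finite S N]
  [AddCommGroup N'] [Module S' N'] [Module S N'] [IsScalarTower S S' N'] [Module R' N'] [IsScalarTower R' S' N']
  (p : Ideal R) [p.IsPrime] (p' : Ideal R') [p'.IsPrime]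

attribute [local instance] Algebra.TensorProduct.rightAlgebra

theorem mem_support_fiberMod (x : PrimeSpectrum (p.Fiber S)) :
    x ∈ Module.support (p.Fiber S) (FlatCA.fiberMod p S N) ↔
      ((PrimeSpectrum.preimageHomeomorphFiber R S ⟨p, inferInstance⟩).symm x).1 ∈ Module.support S N := by
  show x ∈ Module.support (p.Fiber S) ((p.Fiber S) ⊗[S] N) ↔ _
  rw [Dim.support_tensor S (p.Fiber S) (p.Fiber S) N]
  have h0 : x ∈ Module.support (p.Fiber S) (p.Fiber S) := by
    rw [Module.mem_support_iff_of_finite, Module.annihilator_eq_bot.mpr inferInstance]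
    exact bot_le
  exact ⟨fun h => h.2, fun h => ⟨h0, h⟩⟩

/-- The primes over `p` in the support. -/
def fibSupp (p : Ideal R) [p.IsPrime] (S N : Type u) [CommRing S] [Algebra R S] [AddCommGroup N] [Module S N] :
    Set (PrimeSpectrum S) :=
  {Q | PrimeSpectrum.comap (algebraMap R S) Q = ⟨p, inferInstance⟩ ∧ Q ∈ Module.support S N}

/-- The support of the fibre module. -/
noncomputable def suppHomeo :
    Module.support (p.Fiber S) (FlatCA.fiberMod p S N) ≃ₜ fibSupp p S N where
  toFun x := ⟨((PrimeSpectrum.preimageHomeomorphFiber R S ⟨p, inferInstance⟩).symm x.1).1,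
    ((PrimeSpectrum.preimageHomeomorphFiber R S ⟨p, inferInstance⟩).symm x.1).2, (mem_support_fiberMod p x.1).mp x.2⟩
  invFun Q := ⟨PrimeSpectrum.preimageHomeomorphFiber R S ⟨p, inferInstance⟩ ⟨Q.1, Q.2.1⟩,
    (mem_support_fiberMod p _).mpr (by rw [Homeomorph.symm_apply_apply]; exact Q.2.2)⟩
  left_inv x := Subtype.ext ((PrimeSpectrum.preimageHomeomorphFiber R S ⟨p, inferInstance⟩).apply_symm_apply x.1)
  right_inv Q := Subtype.ext
    (show ((PrimeSpectrum.preimageHomeomorphFiber R S ⟨p, inferInstance⟩).symm
      (PrimeSpectrum.preimageHomeomorphFiber R S ⟨p, inferInstance⟩ ⟨Q.1, Q.2.1⟩)).1 = Q.1 by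
        rw [Homeomorph.symm_apply_apply])
  continuous_toFun := by
    refine Continuous.subtype_mk (continuous_subtype_val.comp ?_) _
    exact (PrimeSpectrum.preimageHomeomorphFiber R S ⟨p, inferInstance⟩).symm.continuous.comp continuous_subtype_val
  continuous_invFun := by
    refine Continuous.subtype_mk ?_ _
    exact (PrimeSpectrum.preimageHomeomorphFiber R S ⟨p, inferInstance⟩).continuous.comp
      (continuous_subtype_val.subtype_mk _)

theorem supportDim_eq_topDim {A M : Type u} [CommRing A] [AddCommGroup M] [Module A M] [Module.Finite A M] :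
    Module.supportDim A M = topologicalKrullDim (Module.support A M) := by
  rw [Dim.supportDim_eq_ringKrullDim_of_support_eq Module.support_eq_zeroLocus, Module.support_eq_zeroLocus]
  have hemb := PrimeSpectrum.isClosedEmbedding_comap_of_surjective _ (Ideal.Quotient.mk (Module.annihilator A M))
    Ideal.Quotient.mk_surjective
  have hrange : Set.range (PrimeSpectrum.comap (Ideal.Quotient.mk (Module.annihilator A M))) =
      PrimeSpectrum.zeroLocus (Module.annihilator A M : Set A) := by
    rw [range_comap_of_surjective _ _ Ideal.Quotient.mk_surjective, Ideal.mk_ker]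
  rw [← hrange, ← PrimeSpectrum.topologicalKrullDim_eq_ringKrullDim]
  exact IsHomeomorph.topologicalKrullDim_eq _ hemb.isEmbedding.toHomeomorph.isHomeomorph

theorem topDim_supportDim :
    Module.supportDim (p.Fiber S) (FlatCA.fiberMod p S N) = topologicalKrullDim (fibSupp p S N) := by
  haveI : Module.Finite (p.Fiber S) (FlatCA.fiberMod p S N) :=
    inferInstanceAs (Module.Finite (p.Fiber S) ((p.Fiber S) ⊗[S] N))
  rw [supportDim_eq_topDim]
  exact IsHomeomorph.topologicalKrullDim_eq _ (suppHomeo p).isHomeomorph

theorem localDim_supp (x : Module.support (p.Fiber S) (FlatCA.fiberMod p S N)) :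
    FlatMor.localDim (Module.support (p.Fiber S) (FlatCA.fiberMod p S N)) x =
      FlatMor.localDim (fibSupp p S N) (suppHomeo p x) := by
  refine le_antisymm ?_ (FlatMisc.FibreDimScheme.localDim_homeo (suppHomeo p) x)
  have := FlatMisc.FibreDimScheme.localDim_homeo (suppHomeo (N := N) p).symm (suppHomeo p x)
  rw [Homeomorph.symm_apply_apply] at this
  exact this

theorem localDim_open {X : Type u} [TopologicalSpace X] {U : Set X} (hU : IsOpen U) (x : U) :
    FlatMor.localDim U x = FlatMor.localDim X x.1 := by
  refine le_antisymm (le_iInf fun V => ?_) (le_iInf fun V => ?_)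
  · refine iInf_le_of_le ⟨⟨Subtype.val ⁻¹' (V.1 : Set X), V.1.2.preimage continuous_subtype_val⟩, V.2⟩ ?_
    refine Topology.IsInducing.topologicalKrullDim_le
      (f := fun w : (Subtype.val ⁻¹' (V.1 : Set X) : Set U) => (⟨w.1.1, w.2⟩ : (V.1 : Set X))) ?_
    exact Topology.IsInducing.of_comp (by fun_prop) continuous_subtype_val
      (show Topology.IsInducing (fun w : (Subtype.val ⁻¹' (V.1 : Set X) : Set U) => (w.1.1 : X)) from
        Topology.IsInducing.subtypeVal.comp Topology.IsInducing.subtypeVal)
  · refine iInf_le_of_le ⟨⟨Subtype.val '' (V.1 : Set U), hU.isOpenMap_subtype_val _ V.1.2⟩, ⟨x, V.2, rfl⟩⟩ ?_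
    exact le_of_eq (IsHomeomorph.topologicalKrullDim_eq _
      (Topology.IsEmbedding.subtypeVal.homeomorphImage (V.1 : Set U)).isHomeomorph).symm

theorem topDim_open_of_localDim {X : Type u} [TopologicalSpace X] {U : Set X} (hU : IsOpen U) (x : U) (n : WithBot ℕ∞)
    (hX : topologicalKrullDim X = n) (hx : FlatMor.localDim X x.1 = n) : topologicalKrullDim U = n := by
  refine le_antisymm (hX ▸ Topology.IsInducing.subtypeVal.topologicalKrullDim_le) ?_
  rw [← hx]
  exact iInf_le (fun V : {V : TopologicalSpace.Opens X // x.1 ∈ V} => topologicalKrullDim (V.1 : Set X)) ⟨⟨U, hU⟩, x.2⟩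

variable (a : S) [IsLocalization.Away a S'] (f : N →ₗ[S] N') (hf : IsBaseChange S' f)
  (hover : ∀ P : PrimeSpectrum R', P.asIdeal = p' ↔ P.asIdeal.comap (algebraMap R R') = p)

include hf hover a in
/-- Shrinking does not change the dimensions of the support in the fibre. -/
theorem fibre_shrink (q : Ideal S) [q.IsPrime] [q.LiesOver p] (q' : Ideal S') [q'.IsPrime] [q'.LiesOver p'] (hq : q'.comap (algebraMap S S') = q)
    (ha : a ∉ q) (n : ℕ) (hdim : Module.supportDim (p.Fiber S) (FlatCA.fiberMod p S N) = n)
    (h1 : ∃ (ξ : PrimeSpectrum (p.Fiber S)) (hξ : ξ ∈ Module.support (p.Fiber S) (FlatCA.fiberMod p S N)),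
      ξ.asIdeal = FlatCA.fiberIdeal p q ∧
      FlatMor.localDim (Module.support (p.Fiber S) (FlatCA.fiberMod p S N)) ⟨ξ, hξ⟩ = n) :
    Module.supportDim (p'.Fiber S') (FlatCA.fiberMod p' S' N') = n ∧
    ∃ (ξ : PrimeSpectrum (p'.Fiber S')) (hξ : ξ ∈ Module.support (p'.Fiber S') (FlatCA.fiberMod p' S' N')),
      ξ.asIdeal = FlatCA.fiberIdeal p' q' ∧
      FlatMor.localDim (Module.support (p'.Fiber S') (FlatCA.fiberMod p' S' N')) ⟨ξ, hξ⟩ = n := by
  haveI : Module.Finite S' N' := Module.Finite.equiv hf.equiv
  let j := PrimeSpectrum.comap (algebraMap S S')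
  have hj : Topology.IsOpenEmbedding j := PrimeSpectrum.localization_away_isOpenEmbedding S' a
  have hmem : ∀ Q, Q ∈ fibSupp p' S' N' ↔ j Q ∈ fibSupp p S N := by
    intro Q
    have h2 : Q ∈ Module.support S' N' ↔ j Q ∈ Module.support S N := by
      rw [S12231.support_baseChange hf, Module.support_eq_zeroLocus (M := N)]
      exact Ideal.map_le_iff_le_comap
    refine and_congr ?_ h2
    rw [PrimeSpectrum.ext_iff, PrimeSpectrum.ext_iff]
    refine (hover (PrimeSpectrum.comap (algebraMap R' S') Q)).trans ?_
    show ((Q.asIdeal.comap (algebraMap R' S')).comap (algebraMap R R') = p) ↔ ((Q.asIdeal.comap (algebraMap S S')).comap (algebraMap R S) = p)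
    rw [Ideal.comap_comap, Ideal.comap_comap, ← IsScalarTower.algebraMap_eq, ← IsScalarTower.algebraMap_eq]
  let U : Set (fibSupp p S N) := Subtype.val ⁻¹' (Set.range j)
  have hU : IsOpen U := hj.isOpen_range.preimage continuous_subtype_val
  let e₀ : fibSupp p' S' N' → U := fun Q => ⟨⟨j Q.1, (hmem _).mp Q.2⟩, Q.1, rfl⟩
  have he₀ : Topology.IsEmbedding e₀ := by
    refine Topology.IsEmbedding.of_comp (Continuous.subtype_mk (Continuous.subtype_mk (hj.continuous.comp continuous_subtype_val) _) _)
      (continuous_subtype_val.comp continuous_subtype_val) ?_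
    exact hj.isEmbedding.comp Topology.IsEmbedding.subtypeVal
  have he₀s : Function.Surjective e₀ := by
    rintro ⟨⟨Q, hQ⟩, hQr⟩
    obtain ⟨P, hPQ⟩ := id hQr
    change j P = Q at hPQ
    subst hPQ
    exact ⟨⟨P, (hmem _).mpr hQ⟩, rfl⟩
  let e : fibSupp p' S' N' ≃ₜ U := he₀.toHomeomorphOfSurjective he₀s
  obtain ⟨ξ, hξ, hξq, hloc⟩ := h1
  have hξpt : (suppHomeo p ⟨ξ, hξ⟩).1.asIdeal = q := by
    show ξ.asIdeal.comap _ = q
    rw [hξq]
    exact FlatMisc.Fiber.comap_fiberIdeal p q
  let P : PrimeSpectrum S' := ⟨q', inferInstance⟩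
  have hjP : j P = (suppHomeo p ⟨ξ, hξ⟩).1 := PrimeSpectrum.ext (hq.trans hξpt.symm)
  have hP : P ∈ fibSupp p' S' N' := (hmem P).mpr (hjP ▸ (suppHomeo p ⟨ξ, hξ⟩).2)
  have heP : (e ⟨P, hP⟩).1 = suppHomeo p ⟨ξ, hξ⟩ := Subtype.ext hjP
  rw [localDim_supp] at hloc
  rw [topDim_supportDim] at hdim
  refine ⟨?_, ?_⟩
  · rw [topDim_supportDim, IsHomeomorph.topologicalKrullDim_eq _ e.isHomeomorph]
    exact topDim_open_of_localDim hU (e ⟨P, hP⟩) n hdim (by rw [heP]; exact hloc)
  · let x := (suppHomeo (N := N') p').symm ⟨P, hP⟩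
    refine ⟨x.1, x.2, ?_, ?_⟩
    · have hx : (suppHomeo (N := N') p' x).1.asIdeal = q' := by
        simp only [x, Homeomorph.apply_symm_apply]
        rfl
      haveI := RGFlat.fiberIdeal_isPrime p' q'
      refine congrArg PrimeSpectrum.asIdeal (?_ : x.1 = ⟨FlatCA.fiberIdeal p' q', inferInstance⟩)
      apply (PrimeSpectrum.preimageHomeomorphFiber R' S' ⟨p', inferInstance⟩).symm.injective
      refine Subtype.ext (PrimeSpectrum.ext ?_)
      exact hx.trans (FlatMisc.Fiber.comap_fiberIdeal p' q').symm
    · rw [localDim_supp, show suppHomeo p' x = ⟨P, hP⟩ from Homeomorph.apply_symm_apply _ _]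
      have h1 := FlatMisc.FibreDimScheme.localDim_homeo e ⟨P, hP⟩
      have h2 := FlatMisc.FibreDimScheme.localDim_homeo e.symm (e ⟨P, hP⟩)
      rw [Homeomorph.symm_apply_apply] at h2
      rw [le_antisymm h2 h1, localDim_open hU, heP]
      exact hloc

end Fibre

section Trans

variable {R R' S S' : Type u} [CommRing R] [CommRing R'] [CommRing S] [CommRing S']
  [Algebra R R'] [Algebra R S] [Algebra R' S'] [Algebra R S'] [Algebra S S']
  [IsScalarTower R R' S'] [IsScalarTower R S S']
  (p : Ideal R) [p.IsPrime] (p' : Ideal R') [p'.IsPrime] [hp' : p'.LiesOver p]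

theorem surjective_residueMap {A B : Type u} [CommRing A] [CommRing B] [Algebra A B] (M : Submonoid A)
    [IsLocalization M B] (P : Ideal A) [P.IsPrime] (Q : Ideal B) [Q.IsPrime] (h : P = Q.comap (algebraMap A B)) :
    Function.Surjective (Ideal.ResidueField.map P Q (algebraMap A B) h) := by
  let ψ := Ideal.ResidueField.map P Q (algebraMap A B) h
  have hD : ∀ d : B, algebraMap B Q.ResidueField d ∈ ψ.fieldRange := by
    intro d
    obtain ⟨⟨a, s⟩, has⟩ := IsLocalization.surj M d
    have hu : IsUnit (algebraMap B Q.ResidueField (algebraMap A B s)) := (IsLocalization.map_units B s).map _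
    have : algebraMap B Q.ResidueField d = algebraMap B Q.ResidueField (algebraMap A B a) /
        algebraMap B Q.ResidueField (algebraMap A B s) := by
      rw [eq_div_iff hu.ne_zero, ← map_mul, has]
    rw [this]
    exact div_mem ⟨_, Ideal.ResidueField.map_algebraMap _ _ _ _ _⟩ ⟨_, Ideal.ResidueField.map_algebraMap _ _ _ _ _⟩
  intro w
  obtain ⟨a, b, hb, rfl⟩ := IsFractionRing.div_surjective (A := B ⧸ Q) w
  obtain ⟨a, rfl⟩ := Ideal.Quotient.mk_surjective a
  obtain ⟨b, rfl⟩ := Ideal.Quotient.mk_surjective b
  obtain ⟨a', ha'⟩ := hD a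
  obtain ⟨b', hb'⟩ := hD b
  exact ⟨a' / b', by rw [map_div₀, ha', hb']; rfl⟩

/-- Transport of pure transcendence along surjective maps of residue fields. -/
theorem pureTrans_of_surjective (y : Ideal S) [y.IsPrime] [y.LiesOver p] (y' : Ideal S') [y'.IsPrime]
    [y'.LiesOver y] [y'.LiesOver p']
    (hσ : Function.Surjective (Ideal.ResidueField.map p p' (algebraMap R R') (Ideal.LiesOver.over (P := p') (p := p))))
    (hψ : Function.Surjective (Ideal.ResidueField.map y y' (algebraMap S S') (Ideal.LiesOver.over (P := y') (p := y))))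
    (h : FlatCA.PurelyTranscendental p y) :
    FlatCA.PurelyTranscendental p' y' := by
  letI : Algebra p.ResidueField y.ResidueField :=
    (Ideal.ResidueField.mapₐ p y (Algebra.ofId R S) (Ideal.LiesOver.over (P := y) (p := p))).toRingHom.toAlgebra
  letI : Algebra p'.ResidueField y'.ResidueField :=
    (Ideal.ResidueField.mapₐ p' y' (Algebra.ofId R' S') (Ideal.LiesOver.over (P := y') (p := p'))).toRingHom.toAlgebra
  obtain ⟨ι, x, hx, hgen⟩ := h
  let σ : p.ResidueField →+* p'.ResidueField := Ideal.ResidueField.map p p' (algebraMap R R') (Ideal.LiesOver.over (P := p') (p := p))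
  let ψ : y.ResidueField →+* y'.ResidueField :=
    Ideal.ResidueField.map y y' (algebraMap S S') (Ideal.LiesOver.over (P := y') (p := y))
  replace hσ : Function.Surjective σ := hσ
  replace hψ : Function.Surjective ψ := hψ
  have hcomp : (algebraMap p'.ResidueField y'.ResidueField).comp σ = ψ.comp (algebraMap p.ResidueField y.ResidueField) := by
    ext r
    simp [σ, ψ, RingHom.algebraMap_toAlgebra]
    rw [IsScalarTower.algebraMap_apply R S y.ResidueField, Ideal.ResidueField.map_algebraMap,
      ← IsScalarTower.algebraMap_apply R S S', IsScalarTower.algebraMap_apply R R' S']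
    rfl
  refine ⟨ι, ψ ∘ x, ?_, ?_⟩
  · have hind : AlgebraicIndependent p'.ResidueField (ψ ∘ x) :=
      hx.1.ringHom_of_comp_eq σ ψ hσ ψ.injective hcomp
    refine hind.isTranscendenceBasis_iff_isAlgebraic.mpr ⟨fun w => ?_⟩
    obtain ⟨v, rfl⟩ := hψ w
    haveI := hx.isAlgebraic
    have hv : IsAlgebraic (Algebra.adjoin p.ResidueField (Set.range x)) v := Algebra.IsAlgebraic.isAlgebraic v
    let χ : Algebra.adjoin p.ResidueField (Set.range x) →+* Algebra.adjoin p'.ResidueField (Set.range (ψ ∘ x)) :=
      (ψ.comp (Algebra.adjoin p.ResidueField (Set.range x)).val.toRingHom).codRestrict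
        (Algebra.adjoin p'.ResidueField (Set.range (ψ ∘ x))) (fun a => by
          obtain ⟨a, ha⟩ := a
          show ψ a ∈ _
          induction ha using Algebra.adjoin_induction with
          | mem z hz => obtain ⟨i, rfl⟩ := hz; exact Algebra.subset_adjoin ⟨i, rfl⟩
          | algebraMap c =>
            rw [← RingHom.comp_apply, ← hcomp]
            exact Subalgebra.algebraMap_mem _ _
          | add u v _ _ hu hv => rw [map_add]; exact add_mem hu hv
          | mul u v _ _ hu hv => rw [map_mul]; exact mul_mem hu hv)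
    exact hv.ringHom_of_comp_eq χ ψ (fun u v huv => Subtype.ext (ψ.injective (congrArg Subtype.val huv))) rfl
  · rw [eq_top_iff]
    intro w hw
    clear hw
    obtain ⟨v, rfl⟩ := hψ w
    have hv : v ∈ IntermediateField.adjoin p.ResidueField (Set.range x) := hgen ▸ IntermediateField.mem_top
    induction hv using IntermediateField.adjoin_induction with
    | mem z hz => obtain ⟨i, rfl⟩ := hz; exact IntermediateField.subset_adjoin _ _ ⟨i, rfl⟩
    | algebraMap c =>
      rw [← RingHom.comp_apply, ← hcomp]
      exact IntermediateField.algebraMap_mem _ _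
    | add u v _ _ hu hv => rw [map_add]; exact add_mem hu hv
    | inv u _ hu => rw [map_inv₀]; exact inv_mem hu
    | mul u v _ _ hu hv => rw [map_mul]; exact mul_mem hu hv

end Trans

open AlgebraicGeometry CategoryTheory in
/-- Smoothness and geometric irreducibility of the shrunken smooth algebra. -/
theorem smooth_geomIrred_shrink {R D : Type u} [CommRing R] [CommRing D] [Algebra R D] (n : ℕ)
    (hsm : FlatCA.SmoothRelDim n R D) (hgi : FlatCA.GeomIrredFibres R D) (g : R) (w : D)
    (R' : Type u) [CommRing R'] [Algebra R R'] [IsLocalization.Away g R']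
    (D' : Type u) [CommRing D'] [Algebra D D'] [IsLocalization.Away (w * algebraMap R D g) D']
    [Algebra R D'] [IsScalarTower R D D'] [Algebra R' D'] [IsScalarTower R R' D']
    (hne : ∀ P : PrimeSpectrum R, g ∉ P.asIdeal → ∃ Q : PrimeSpectrum D, w ∉ Q.asIdeal ∧ PrimeSpectrum.comap (algebraMap R D) Q = P) :
    FlatCA.SmoothRelDim n R' D' ∧ FlatCA.GeomIrredFibres R' D' := by
  let Dg := Localization.Away (algebraMap R D g)
  letI : Algebra R' Dg := (IsLocalization.Away.lift (S := R') g (g := algebraMap R Dg)
    (by rw [IsScalarTower.algebraMap_apply R D Dg]; exact IsLocalization.Away.algebraMap_isUnit _)).toAlgebra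
  haveI : IsScalarTower R R' Dg := IsScalarTower.of_algebraMap_eq fun x => (IsLocalization.Away.lift_eq g _ x).symm
  haveI : IsLocalization (Algebra.algebraMapSubmonoid D (Submonoid.powers g)) Dg := by
    rw [Algebra.algebraMapSubmonoid_powers]
    infer_instance
  haveI : Algebra.IsPushout R D R' Dg := Algebra.isPushout_of_isLocalization (Submonoid.powers g) R' D Dg
  haveI : Algebra.IsPushout R R' D Dg := Algebra.IsPushout.symm inferInstance
  have hgD : IsUnit (algebraMap D D' (algebraMap R D g)) :=
    isUnit_of_dvd_unit (map_dvd _ (Dvd.intro_left w rfl)) (IsLocalization.Away.algebraMap_isUnit (w * algebraMap R D g))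
  letI : Algebra Dg D' := (IsLocalization.Away.lift (algebraMap R D g) hgD).toAlgebra
  haveI : IsScalarTower D Dg D' := IsScalarTower.of_algebraMap_eq fun x => (IsLocalization.Away.lift_eq _ _ x).symm
  haveI : IsScalarTower R' Dg D' := IsScalarTower.of_algebraMap_eq' (IsLocalization.ringHom_ext (Submonoid.powers g) (by
    rw [RingHom.comp_assoc, ← IsScalarTower.algebraMap_eq R R' Dg, ← IsScalarTower.algebraMap_eq R R' D',
      IsScalarTower.algebraMap_eq R D Dg, ← RingHom.comp_assoc, ← IsScalarTower.algebraMap_eq D Dg D',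
      ← IsScalarTower.algebraMap_eq R D D']))
  let j := Spec.map (CommRingCat.ofHom (algebraMap Dg D'))
  let π := Spec.map (CommRingCat.ofHom (algebraMap R' Dg))
  haveI : IsOpenImmersion (Spec.map (CommRingCat.ofHom (algebraMap D Dg))) :=
    IsOpenImmersion.of_isLocalization (algebraMap R D g)
  haveI : IsOpenImmersion (j ≫ Spec.map (CommRingCat.ofHom (algebraMap D Dg))) := by
    rw [← Spec.map_comp, ← CommRingCat.ofHom_comp, ← IsScalarTower.algebraMap_eq]
    exact IsOpenImmersion.of_isLocalization (w * algebraMap R D g)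
  haveI : IsOpenImmersion j := IsOpenImmersion.of_comp j (Spec.map (CommRingCat.ofHom (algebraMap D Dg)))
  haveI hπ1 : SmoothOfRelativeDimension n π := by
    haveI := smoothOfRelativeDimension_isStableUnderBaseChange (n := n)
    exact S12231.of_isPushout_spec _ R R' D Dg hsm
  haveI hπ2 : GeometricallyIrreducible π := S12231.of_isPushout_spec _ R R' D Dg hgi
  have hcomp : j ≫ π = Spec.map (CommRingCat.ofHom (algebraMap R' D')) := by
    rw [← Spec.map_comp, ← CommRingCat.ofHom_comp, ← IsScalarTower.algebraMap_eq]
  refine ⟨?_, ?_⟩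
  · show SmoothOfRelativeDimension n _
    rw [← hcomp]
    have := smoothOfRelativeDimension_comp (n := 0) (m := n) j π
    rwa [zero_add] at this
  · show GeometricallyIrreducible _
    rw [← hcomp]
    haveI : Surjective (j ≫ π) := by
      rw [hcomp]
      refine ⟨fun P => ?_⟩
      have hgP : g ∉ (PrimeSpectrum.comap (algebraMap R R') P).asIdeal := fun h =>
        P.2.ne_top (Ideal.eq_top_of_isUnit_mem _ h (IsLocalization.Away.algebraMap_isUnit g))
      obtain ⟨Q, hwQ, hQ⟩ := hne _ hgP
      have hQ' : Q ∈ Set.range (PrimeSpectrum.comap (algebraMap D D')) := by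
        rw [PrimeSpectrum.localization_away_comap_range D' (w * algebraMap R D g)]
        refine fun h => (Q.2.mem_or_mem h).elim hwQ fun h' => hgP ?_
        rw [← hQ]
        exact h'
      obtain ⟨Q', rfl⟩ := hQ'
      refine ⟨Q', PrimeSpectrum.localization_comap_injective R' (Submonoid.powers g) ?_⟩
      rw [← hQ]
      show PrimeSpectrum.comap (algebraMap R R') (PrimeSpectrum.comap (algebraMap R' D') Q') = _
      rw [← PrimeSpectrum.comap_comp_apply, ← PrimeSpectrum.comap_comp_apply,
        ← IsScalarTower.algebraMap_eq, ← IsScalarTower.algebraMap_eq]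
    infer_instance


open TensorProduct in
/-- Standard shrinking along a section of `C`. -/
theorem shrink
    (R S : Type u) [CommRing R] [CommRing S] [Algebra R S] [Algebra.FiniteType R S]
    (N : Type u) [AddCommGroup N] [Module S N] [Module R N] [IsScalarTower R S N] [Module.Finite S N]
    (p : Ideal R) [p.IsPrime] (q : Ideal S) [q.IsPrime] [q.LiesOver p]
    (C D G : Type u) [CommRing C] [CommRing D] [Algebra S C] [Algebra R C] [IsScalarTower R S C]
    [Algebra R D] [Algebra D C] [IsScalarTower R D C] [AddCommGroup G] [Module C G] [Module S G]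
    [IsScalarTower S C G] (n : ℕ)
    (h : FlatCA.IsOneStepDevissage R S N p C D G n)
    (z : Ideal C) [z.IsPrime] (y : Ideal D) [y.IsPrime] [z.LiesOver q] [z.LiesOver y] [y.LiesOver p]
    (h1 : ∃ (ξ : PrimeSpectrum (p.Fiber S)) (hξ : ξ ∈ Module.support (p.Fiber S) (FlatCA.fiberMod p S N)),
      ξ.asIdeal = FlatCA.fiberIdeal p q ∧
      FlatMor.localDim (Module.support (p.Fiber S) (FlatCA.fiberMod p S N)) ⟨ξ, hξ⟩ = n)
    (h3 : ∀ (z₁ : Ideal C) [z₁.IsPrime], z₁.LiesOver y → z₁ = z)
    (h4 : FlatCA.PurelyTranscendental p y)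
    (w : D) (hw : w ∉ y) (x₀ : S) (hx₀ : algebraMap S C x₀ = algebraMap D C w) :
    ∃ (g : R) (hX : S) (hZ : C), g ∉ p ∧ hX ∉ q ∧ hZ ∉ z ∧ hX = x₀ * algebraMap R S g ∧
      ∃ (_ : Algebra (Localization.Away g) (Localization.Away hX)) (_ : IsScalarTower R (Localization.Away g) (Localization.Away hX))
        (_ : Algebra (Localization.Away g) (Localization.Away hZ)) (_ : IsScalarTower R (Localization.Away g) (Localization.Away hZ))
        (_ : Algebra (Localization.Away g) (Localization.Away (w * algebraMap R D g))) (_ : IsScalarTower R (Localization.Away g) (Localization.Away (w * algebraMap R D g)))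
        (_ : Algebra (Localization.Away hX) (Localization.Away hZ)) (_ : IsScalarTower S (Localization.Away hX) (Localization.Away hZ))
        (_ : IsScalarTower (Localization.Away g) (Localization.Away hX) (Localization.Away hZ))
        (_ : Algebra (Localization.Away (w * algebraMap R D g)) (Localization.Away hZ)) (_ : IsScalarTower D (Localization.Away (w * algebraMap R D g)) (Localization.Away hZ))
        (_ : IsScalarTower (Localization.Away g) (Localization.Away (w * algebraMap R D g)) (Localization.Away hZ))
        (_ : Module (Localization.Away g) (LocalizedModule (Submonoid.powers hX) N)) (_ : IsScalarTower (Localization.Away g) (Localization.Away hX) (LocalizedModule (Submonoid.powers hX) N))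
        (_ : Module (Localization.Away hX) (LocalizedModule (Submonoid.powers hZ) G)) (_ : IsScalarTower (Localization.Away hX) (Localization.Away hZ) (LocalizedModule (Submonoid.powers hZ) G))
        (_ : (Ideal.map (algebraMap R (Localization.Away g)) p).IsPrime) (_ : (Ideal.map (algebraMap D (Localization.Away (w * algebraMap R D g))) y).IsPrime) (_ : (Ideal.map (algebraMap D (Localization.Away (w * algebraMap R D g))) y).LiesOver (Ideal.map (algebraMap R (Localization.Away g)) p)),
        FlatCA.IsOneStepDevissage (Localization.Away g) (Localization.Away hX) (LocalizedModule (Submonoid.powers hX) N) (Ideal.map (algebraMap R (Localization.Away g)) p) (Localization.Away hZ) (Localization.Away (w * algebraMap R D g)) (LocalizedModule (Submonoid.powers hZ) G) n ∧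
        (∃ (ξ : PrimeSpectrum ((Ideal.map (algebraMap R (Localization.Away g)) p).Fiber (Localization.Away hX)))
            (hξ : ξ ∈ Module.support ((Ideal.map (algebraMap R (Localization.Away g)) p).Fiber (Localization.Away hX)) (FlatCA.fiberMod (Ideal.map (algebraMap R (Localization.Away g)) p) (Localization.Away hX) (LocalizedModule (Submonoid.powers hX) N))),
          ξ.asIdeal = FlatCA.fiberIdeal (Ideal.map (algebraMap R (Localization.Away g)) p) (Ideal.map (algebraMap S (Localization.Away hX)) q) ∧
          FlatMor.localDim (Module.support ((Ideal.map (algebraMap R (Localization.Away g)) p).Fiber (Localization.Away hX)) (FlatCA.fiberMod (Ideal.map (algebraMap R (Localization.Away g)) p) (Localization.Away hX) (LocalizedModule (Submonoid.powers hX) N))) ⟨ξ, hξ⟩ = n) ∧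
        (Ideal.map (algebraMap C (Localization.Away hZ)) z).LiesOver (Ideal.map (algebraMap S (Localization.Away hX)) q) ∧ (Ideal.map (algebraMap C (Localization.Away hZ)) z).LiesOver (Ideal.map (algebraMap D (Localization.Away (w * algebraMap R D g))) y) ∧
        (∀ (z₂ : Ideal (Localization.Away hZ)) [z₂.IsPrime], z₂.LiesOver (Ideal.map (algebraMap D (Localization.Away (w * algebraMap R D g))) y) → z₂ = Ideal.map (algebraMap C (Localization.Away hZ)) z) ∧
        FlatCA.PurelyTranscendental (Ideal.map (algebraMap R (Localization.Away g)) p) (Ideal.map (algebraMap D (Localization.Away (w * algebraMap R D g))) y) := by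
  obtain ⟨⟨e⟩, hsurj, hfp, hDC, hCG, hsm, hgi, hdim⟩ := h
  haveI := hDC
  haveI := hCG
  haveI := hfp
  haveI : Algebra.Smooth R D := CAlg76.SmoothRelDim.smooth_of_rel hsm
  -- the open in the base
  have hopen : IsOpen (PrimeSpectrum.comap (algebraMap R D) '' (PrimeSpectrum.basicOpen w : Set _)) :=
    PrimeSpectrum.isOpenMap_comap_of_hasGoingDown_of_finitePresentation _ (PrimeSpectrum.isOpen_basicOpen)
  have hpm : (⟨p, inferInstance⟩ : PrimeSpectrum R) ∈
      PrimeSpectrum.comap (algebraMap R D) '' (PrimeSpectrum.basicOpen w : Set _) :=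
    ⟨⟨y, inferInstance⟩, hw, PrimeSpectrum.ext (Ideal.LiesOver.over (p := p) (P := y)).symm⟩
  obtain ⟨-, ⟨_, ⟨g, rfl⟩, rfl⟩, hgp, hg⟩ :=
    PrimeSpectrum.isBasis_basic_opens.exists_subset_of_mem_open hpm hopen
  have hne : ∀ P : PrimeSpectrum R, g ∉ P.asIdeal →
      ∃ Q : PrimeSpectrum D, w ∉ Q.asIdeal ∧ PrimeSpectrum.comap (algebraMap R D) Q = P := fun P hP => by
    obtain ⟨Q, hQ, hQP⟩ := hg (show P ∈ PrimeSpectrum.basicOpen g from hP)
    exact ⟨Q, hQ, hQP⟩
  let hX := x₀ * algebraMap R S g
  let hY := w * algebraMap R D g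
  let hZ := algebraMap S C hX
  have hZY : hZ = algebraMap D C hY := by
    show algebraMap S C (x₀ * algebraMap R S g) = algebraMap D C (w * algebraMap R D g)
    rw [map_mul, map_mul, hx₀, ← IsScalarTower.algebraMap_apply, ← IsScalarTower.algebraMap_apply]
  have hyY : hY ∉ y := fun h => (‹y.IsPrime›.mem_or_mem h).elim hw fun h' => hgp ((Ideal.mem_of_liesOver y p g).mpr h')
  have hzZ : hZ ∉ z := fun h => hyY ((Ideal.mem_of_liesOver z y hY).mpr (hZY ▸ h))
  have hqX : hX ∉ q := fun h => hzZ ((Ideal.mem_of_liesOver z q hX).mp h)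
  refine ⟨g, hX, hZ, hgp, hqX, hzZ, rfl, ?_⟩
  let R' := Localization.Away g
  let S' := Localization.Away hX
  let C' := Localization.Away hZ
  let D' := Localization.Away hY
  have hgS : IsUnit (algebraMap R S' g) := by
    rw [IsScalarTower.algebraMap_apply R S S']
    exact isUnit_of_dvd_unit (map_dvd _ (Dvd.intro_left x₀ rfl)) (IsLocalization.Away.algebraMap_isUnit hX)
  have hgD : IsUnit (algebraMap R D' g) := by
    rw [IsScalarTower.algebraMap_apply R D D']
    exact isUnit_of_dvd_unit (map_dvd _ (Dvd.intro_left w rfl)) (IsLocalization.Away.algebraMap_isUnit hY)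
  have hgC : IsUnit (algebraMap R C' g) := by
    rw [IsScalarTower.algebraMap_apply R C C', IsScalarTower.algebraMap_apply R D C]
    refine isUnit_of_dvd_unit (map_dvd _ ?_) (IsLocalization.Away.algebraMap_isUnit hZ)
    rw [hZY]
    exact map_dvd _ (Dvd.intro_left w rfl)
  have hXC : IsUnit (algebraMap S C' hX) := by
    rw [IsScalarTower.algebraMap_apply S C C']
    exact IsLocalization.Away.algebraMap_isUnit hZ
  have hYC : IsUnit (algebraMap D C' hY) := by
    rw [IsScalarTower.algebraMap_apply D C C', ← hZY]
    exact IsLocalization.Away.algebraMap_isUnit hZ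
  letI aRS : Algebra R' S' := (IsLocalization.Away.lift g hgS).toAlgebra
  letI aRC : Algebra R' C' := (IsLocalization.Away.lift g hgC).toAlgebra
  letI aRD : Algebra R' D' := (IsLocalization.Away.lift g hgD).toAlgebra
  letI aSC : Algebra S' C' := (IsLocalization.Away.lift hX hXC).toAlgebra
  letI aDC : Algebra D' C' := (IsLocalization.Away.lift hY hYC).toAlgebra
  haveI tRS : IsScalarTower R R' S' := IsScalarTower.of_algebraMap_eq fun x => (IsLocalization.Away.lift_eq g hgS x).symm
  haveI tRC : IsScalarTower R R' C' := IsScalarTower.of_algebraMap_eq fun x => (IsLocalization.Away.lift_eq g hgC x).symm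
  haveI tRD : IsScalarTower R R' D' := IsScalarTower.of_algebraMap_eq fun x => (IsLocalization.Away.lift_eq g hgD x).symm
  haveI tSC : IsScalarTower S S' C' := IsScalarTower.of_algebraMap_eq fun x => (IsLocalization.Away.lift_eq hX hXC x).symm
  haveI tDC : IsScalarTower D D' C' := IsScalarTower.of_algebraMap_eq fun x => (IsLocalization.Away.lift_eq hY hYC x).symm
  haveI tRSC : IsScalarTower R' S' C' := IsScalarTower.of_algebraMap_eq' (IsLocalization.ringHom_ext (Submonoid.powers g) (by
    rw [RingHom.comp_assoc, ← IsScalarTower.algebraMap_eq R R' S', ← IsScalarTower.algebraMap_eq R R' C',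
      IsScalarTower.algebraMap_eq R S S', ← RingHom.comp_assoc, ← IsScalarTower.algebraMap_eq S S' C',
      IsScalarTower.algebraMap_eq S C C', RingHom.comp_assoc, ← IsScalarTower.algebraMap_eq R S C,
      ← IsScalarTower.algebraMap_eq R C C']))
  haveI tRDC : IsScalarTower R' D' C' := IsScalarTower.of_algebraMap_eq' (IsLocalization.ringHom_ext (Submonoid.powers g) (by
    rw [RingHom.comp_assoc, ← IsScalarTower.algebraMap_eq R R' D', ← IsScalarTower.algebraMap_eq R R' C',
      IsScalarTower.algebraMap_eq R D D', ← RingHom.comp_assoc, ← IsScalarTower.algebraMap_eq D D' C',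
      IsScalarTower.algebraMap_eq D C C', RingHom.comp_assoc, ← IsScalarTower.algebraMap_eq R D C,
      ← IsScalarTower.algebraMap_eq R C C']))
  let N' := LocalizedModule (Submonoid.powers hX) N
  let G' := LocalizedModule (Submonoid.powers hZ) G
  letI mRN : Module R' N' := Module.compHom N' (algebraMap R' S')
  haveI tRN : IsScalarTower R' S' N' := IsScalarTower.of_algebraMap_smul fun _ _ => rfl
  letI mSG : Module S' G' := Module.compHom G' (algebraMap S' C')
  haveI tSG : IsScalarTower S' C' G' := IsScalarTower.of_algebraMap_smul fun _ _ => rfl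
  have hdR : Disjoint (Submonoid.powers g : Set R) p := Set.disjoint_left.mpr fun x ⟨k, hk⟩ hx =>
    hgp (‹p.IsPrime›.mem_of_pow_mem k (show g ^ k ∈ p by rw [show g ^ k = x from hk]; exact hx))
  have hdS : Disjoint (Submonoid.powers hX : Set S) q := Set.disjoint_left.mpr fun x ⟨k, hk⟩ hx =>
    hqX (‹q.IsPrime›.mem_of_pow_mem k (show hX ^ k ∈ q by rw [show hX ^ k = x from hk]; exact hx))
  have hdC : Disjoint (Submonoid.powers hZ : Set C) z := Set.disjoint_left.mpr fun x ⟨k, hk⟩ hx =>
    hzZ (‹z.IsPrime›.mem_of_pow_mem k (show hZ ^ k ∈ z by rw [show hZ ^ k = x from hk]; exact hx))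
  have hdD : Disjoint (Submonoid.powers hY : Set D) y := Set.disjoint_left.mpr fun x ⟨k, hk⟩ hx =>
    hyY (‹y.IsPrime›.mem_of_pow_mem k (show hY ^ k ∈ y by rw [show hY ^ k = x from hk]; exact hx))
  let p' := p.map (algebraMap R R')
  let q' := q.map (algebraMap S S')
  let z' := z.map (algebraMap C C')
  let y' := y.map (algebraMap D D')
  haveI hp' : p'.IsPrime := IsLocalization.isPrime_of_isPrime_disjoint (Submonoid.powers g) R' p ‹_› hdR
  haveI hq' : q'.IsPrime := IsLocalization.isPrime_of_isPrime_disjoint (Submonoid.powers hX) S' q ‹_› hdS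
  haveI hz' : z'.IsPrime := IsLocalization.isPrime_of_isPrime_disjoint (Submonoid.powers hZ) C' z ‹_› hdC
  haveI hy' : y'.IsPrime := IsLocalization.isPrime_of_isPrime_disjoint (Submonoid.powers hY) D' y ‹_› hdD
  have hp'c : p'.comap (algebraMap R R') = p := IsLocalization.under_map_of_isPrime_disjoint (Submonoid.powers g) R' ‹_› hdR
  have hq'c : q'.comap (algebraMap S S') = q := IsLocalization.under_map_of_isPrime_disjoint (Submonoid.powers hX) S' ‹_› hdS
  have hz'c : z'.comap (algebraMap C C') = z := IsLocalization.under_map_of_isPrime_disjoint (Submonoid.powers hZ) C' ‹_› hdC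
  have hy'c : y'.comap (algebraMap D D') = y := IsLocalization.under_map_of_isPrime_disjoint (Submonoid.powers hY) D' ‹_› hdD
  have hover : ∀ P : PrimeSpectrum R', P.asIdeal = p' ↔ P.asIdeal.comap (algebraMap R R') = p := fun P =>
    ⟨fun h => h ▸ hp'c, fun h => by
      rw [← IsLocalization.map_under (Submonoid.powers g) R' P.asIdeal]
      exact congrArg (Ideal.map (algebraMap R R')) h⟩
  haveI hy'p' : y'.LiesOver p' := ⟨((hover ⟨y'.comap (algebraMap R' D'), inferInstance⟩).mpr (by
    show (y'.comap (algebraMap R' D')).comap (algebraMap R R') = p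
    rw [Ideal.comap_comap, ← IsScalarTower.algebraMap_eq, IsScalarTower.algebraMap_eq R D D', ← Ideal.comap_comap, hy'c]
    exact (Ideal.LiesOver.over (p := p) (P := y)).symm)).symm⟩
  haveI hq'p' : q'.LiesOver p' := ⟨((hover ⟨q'.comap (algebraMap R' S'), inferInstance⟩).mpr (by
    show (q'.comap (algebraMap R' S')).comap (algebraMap R R') = p
    rw [Ideal.comap_comap, ← IsScalarTower.algebraMap_eq, IsScalarTower.algebraMap_eq R S S', ← Ideal.comap_comap, hq'c]
    exact (Ideal.LiesOver.over (p := p) (P := q)).symm)).symm⟩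
  have hzq : z'.comap (algebraMap S' C') = q' := by
    rw [← IsLocalization.map_under (Submonoid.powers hX) S' (z'.comap (algebraMap S' C'))]
    refine congrArg (Ideal.map (algebraMap S S')) ?_
    show (z'.comap (algebraMap S' C')).comap (algebraMap S S') = q
    rw [Ideal.comap_comap, ← IsScalarTower.algebraMap_eq, IsScalarTower.algebraMap_eq S C C', ← Ideal.comap_comap, hz'c]
    exact (Ideal.LiesOver.over (p := q) (P := z)).symm
  have hzy : z'.comap (algebraMap D' C') = y' := by
    rw [← IsLocalization.map_under (Submonoid.powers hY) D' (z'.comap (algebraMap D' C'))]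
    refine congrArg (Ideal.map (algebraMap D D')) ?_
    show (z'.comap (algebraMap D' C')).comap (algebraMap D D') = y
    rw [Ideal.comap_comap, ← IsScalarTower.algebraMap_eq, IsScalarTower.algebraMap_eq D C C', ← Ideal.comap_comap, hz'c]
    exact (Ideal.LiesOver.over (p := y) (P := z)).symm
  have hNbc : IsBaseChange S' (LocalizedModule.mkLinearMap (Submonoid.powers hX) N) :=
    (isLocalizedModule_iff_isBaseChange (Submonoid.powers hX) S' _).mp inferInstance
  obtain ⟨hdim', hξ'⟩ := fibre_shrink p p' hX (LocalizedModule.mkLinearMap (Submonoid.powers hX) N) hNbc hover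
    q q' hq'c hqX n hdim h1
  refine ⟨aRS, tRS, aRC, tRC, aRD, tRD, aSC, tSC, tRSC, aDC, tDC, tRDC, mRN, tRN, mSG, tSG, hp', hy', hy'p',
    ⟨?_, ?_, ?_, ?_, ?_, ?_, ?_, hdim'⟩, hξ', ⟨hzq.symm⟩, ⟨hzy.symm⟩, ?_, ?_⟩
  · -- the identification
    haveI : IsScalarTower S S' G' := IsScalarTower.of_algebraMap_smul fun a x => by
      show algebraMap S' C' (algebraMap S S' a) • x = a • x
      rw [← IsScalarTower.algebraMap_apply, IsScalarTower.algebraMap_apply S C C', IsScalarTower.algebraMap_smul,
        IsScalarTower.algebraMap_smul]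
    haveI : IsLocalizedModule (Submonoid.powers hX)
        ((LocalizedModule.mkLinearMap (Submonoid.powers hZ) G).restrictScalars S) :=
      IsLocalizedModule.restrictScalars_powers hX _
    let ψ := ((LocalizedModule.mkLinearMap (Submonoid.powers hZ) G).restrictScalars S).comp e.toLinearMap
    haveI : IsLocalizedModule (Submonoid.powers hX) ψ := IsLocalizedModule.of_linearEquiv_right _ _ e
    exact ⟨(IsLocalizedModule.iso (Submonoid.powers hX) ψ).extendScalarsOfIsLocalization (Submonoid.powers hX) S'⟩
  · intro c
    obtain ⟨⟨c₀, ⟨_, k, rfl⟩⟩, hc⟩ := IsLocalization.surj (Submonoid.powers hZ) c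
    obtain ⟨s, rfl⟩ := hsurj c₀
    refine ⟨IsLocalization.mk' S' s (⟨hX ^ k, k, rfl⟩ : Submonoid.powers hX), ?_⟩
    refine ((hXC.pow k).mul_left_inj).mp ?_
    have h1 : algebraMap S' C' (IsLocalization.mk' S' s (⟨hX ^ k, k, rfl⟩ : Submonoid.powers hX)) *
        algebraMap S C' (hX ^ k) = algebraMap S C' s := by
      rw [IsScalarTower.algebraMap_apply S S' C' (hX ^ k), ← map_mul,
        show IsLocalization.mk' S' s (⟨hX ^ k, k, rfl⟩ : Submonoid.powers hX) * algebraMap S S' (hX ^ k) = algebraMap S S' s
          from IsLocalization.mk'_spec S' s _, ← IsScalarTower.algebraMap_apply]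
    rw [← map_pow, h1, IsScalarTower.algebraMap_apply S C C', IsScalarTower.algebraMap_apply S C C', map_pow]
    exact hc.symm
  · haveI : IsLocalization (Algebra.algebraMapSubmonoid C (Submonoid.powers hX)) C' := by
      rw [Algebra.algebraMapSubmonoid_powers]
      infer_instance
    haveI : Algebra.IsPushout S C S' C' := Algebra.isPushout_of_isLocalization (Submonoid.powers hX) S' C C'
    haveI : Algebra.IsPushout S S' C C' := Algebra.IsPushout.symm inferInstance
    exact Algebra.FinitePresentation.equiv (Algebra.IsPushout.equiv S S' C C')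
  · haveI : IsLocalization (Algebra.algebraMapSubmonoid C (Submonoid.powers hY)) C' := by
      rw [Algebra.algebraMapSubmonoid_powers, ← hZY]
      infer_instance
    haveI : Algebra.IsPushout D C D' C' := Algebra.isPushout_of_isLocalization (Submonoid.powers hY) D' C C'
    haveI : Algebra.IsPushout D D' C C' := Algebra.IsPushout.symm inferInstance
    exact Module.Finite.equiv (Algebra.IsPushout.equiv D D' C C').toLinearEquiv
  · exact Module.Finite.of_isLocalizedModule (Submonoid.powers hZ) (LocalizedModule.mkLinearMap (Submonoid.powers hZ) G)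
  · exact (smooth_geomIrred_shrink n hsm hgi g w R' D' hne).1
  · exact (smooth_geomIrred_shrink n hsm hgi g w R' D' hne).2
  · intro z₂ _ hz₂
    rw [← IsLocalization.map_under (Submonoid.powers hZ) C' z₂]
    refine congrArg (Ideal.map (algebraMap C C')) (h3 _ ⟨?_⟩)
    show y = (z₂.comap (algebraMap C C')).comap (algebraMap D C)
    rw [Ideal.comap_comap, ← IsScalarTower.algebraMap_eq, IsScalarTower.algebraMap_eq D D' C', ← Ideal.comap_comap,
      ← Ideal.under, ← Ideal.under, ← Ideal.over_def z₂ y']
    exact hy'c.symm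
  · haveI : p'.LiesOver p := ⟨hp'c.symm⟩
    haveI : y'.LiesOver y := ⟨hy'c.symm⟩
    exact pureTrans_of_surjective p p' y y' (surjective_residueMap (Submonoid.powers g) p p' hp'c.symm)
      (surjective_residueMap (Submonoid.powers hY) y y' hy'c.symm) h4

open TensorProduct in
/-- All schemes are affine and standard opens are rendered as localizations away from one element. Let R
→ S be of finite type, N a finite S-module, p ⊆ R and q ⊆ S primes with q over p, and (C, D, G, n;
z, y) a one-step dévissage of N/S/R at q: (C, D, G, n) is a one-step dévissage over p (C a finitely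
presented quotient of S carrying a finite module G identified with N, D smooth of relative dimension
n over R with geometrically irreducible fibres, D → C finite, n the dimension of the support of N ⊗
κ(p)), z is a prime of C over q and over the prime y of D, the local dimension at q of that support
is n, z is the only prime of C over y, and κ(y)/κ(p) is purely transcendental. Then for every w ∈ D
outside y (a standard open neighbourhood D(w) of the point y) there is a standard shrinking whose
piece of Spec D is D(w) pulled back to the shrunken base: elements g ∉ p, hX ∉ q, hZ ∉ z, and ring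
and module structures making S[1/hX], C[1/hZ], D[1/wg] algebras over R[1/g], C[1/hZ] an algebra over
S[1/hX] and over D[1/wg], all compatibly with the given maps, such that (C[1/hZ], D[1/wg], G[1/hZ],
n) is a one-step dévissage of N[1/hX] over S[1/hX] relative to R[1/g] at the extended prime of q,
with the extended primes of z and y as its points (z-point over the q-point and the y-point, unique
over the y-point, purely transcendental residue field over that of pR[1/g], and local dimension n of
the fibre support at the q-point). Here wg denotes the product of w with the image of g in D. -/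
theorem result
    (R S : Type u) [CommRing R] [CommRing S] [Algebra R S] [Algebra.FiniteType R S]
    (N : Type u) [AddCommGroup N] [Module S N] [Module R N] [IsScalarTower R S N] [Module.Finite S N]
    (p : Ideal R) [p.IsPrime] (q : Ideal S) [q.IsPrime] [q.LiesOver p]
    (C D G : Type u) [CommRing C] [CommRing D] [Algebra S C] [Algebra R C] [IsScalarTower R S C]
    [Algebra R D] [Algebra D C] [IsScalarTower R D C] [AddCommGroup G] [Module C G] [Module S G]
    [IsScalarTower S C G] (n : ℕ)
    (h : FlatCA.IsOneStepDevissage R S N p C D G n)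
    (z : Ideal C) [z.IsPrime] (y : Ideal D) [y.IsPrime] [z.LiesOver q] [z.LiesOver y] [y.LiesOver p]
    (h1 : ∃ (ξ : PrimeSpectrum (p.Fiber S)) (hξ : ξ ∈ Module.support (p.Fiber S) (FlatCA.fiberMod p S N)),
      ξ.asIdeal = FlatCA.fiberIdeal p q ∧
      FlatMor.localDim (Module.support (p.Fiber S) (FlatCA.fiberMod p S N)) ⟨ξ, hξ⟩ = n)
    (h3 : ∀ (z₁ : Ideal C) [z₁.IsPrime], z₁.LiesOver y → z₁ = z)
    (h4 : FlatCA.PurelyTranscendental p y)
    (w : D) (hw : w ∉ y) :
    ∃ (g : R) (hX : S) (hZ : C), g ∉ p ∧ hX ∉ q ∧ hZ ∉ z ∧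
      ∃ (_ : Algebra (Localization.Away g) (Localization.Away hX)) (_ : IsScalarTower R (Localization.Away g) (Localization.Away hX))
        (_ : Algebra (Localization.Away g) (Localization.Away hZ)) (_ : IsScalarTower R (Localization.Away g) (Localization.Away hZ))
        (_ : Algebra (Localization.Away g) (Localization.Away (w * algebraMap R D g))) (_ : IsScalarTower R (Localization.Away g) (Localization.Away (w * algebraMap R D g)))
        (_ : Algebra (Localization.Away hX) (Localization.Away hZ)) (_ : IsScalarTower S (Localization.Away hX) (Localization.Away hZ))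
        (_ : IsScalarTower (Localization.Away g) (Localization.Away hX) (Localization.Away hZ))
        (_ : Algebra (Localization.Away (w * algebraMap R D g)) (Localization.Away hZ)) (_ : IsScalarTower D (Localization.Away (w * algebraMap R D g)) (Localization.Away hZ))
        (_ : IsScalarTower (Localization.Away g) (Localization.Away (w * algebraMap R D g)) (Localization.Away hZ))
        (_ : Module (Localization.Away g) (LocalizedModule (Submonoid.powers hX) N)) (_ : IsScalarTower (Localization.Away g) (Localization.Away hX) (LocalizedModule (Submonoid.powers hX) N))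
        (_ : Module (Localization.Away hX) (LocalizedModule (Submonoid.powers hZ) G)) (_ : IsScalarTower (Localization.Away hX) (Localization.Away hZ) (LocalizedModule (Submonoid.powers hZ) G))
        (_ : (Ideal.map (algebraMap R (Localization.Away g)) p).IsPrime) (_ : (Ideal.map (algebraMap D (Localization.Away (w * algebraMap R D g))) y).IsPrime) (_ : (Ideal.map (algebraMap D (Localization.Away (w * algebraMap R D g))) y).LiesOver (Ideal.map (algebraMap R (Localization.Away g)) p)),
        FlatCA.IsOneStepDevissage (Localization.Away g) (Localization.Away hX) (LocalizedModule (Submonoid.powers hX) N) (Ideal.map (algebraMap R (Localization.Away g)) p) (Localization.Away hZ) (Localization.Away (w * algebraMap R D g)) (LocalizedModule (Submonoid.powers hZ) G) n ∧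
        (∃ (ξ : PrimeSpectrum ((Ideal.map (algebraMap R (Localization.Away g)) p).Fiber (Localization.Away hX)))
            (hξ : ξ ∈ Module.support ((Ideal.map (algebraMap R (Localization.Away g)) p).Fiber (Localization.Away hX)) (FlatCA.fiberMod (Ideal.map (algebraMap R (Localization.Away g)) p) (Localization.Away hX) (LocalizedModule (Submonoid.powers hX) N))),
          ξ.asIdeal = FlatCA.fiberIdeal (Ideal.map (algebraMap R (Localization.Away g)) p) (Ideal.map (algebraMap S (Localization.Away hX)) q) ∧
          FlatMor.localDim (Module.support ((Ideal.map (algebraMap R (Localization.Away g)) p).Fiber (Localization.Away hX)) (FlatCA.fiberMod (Ideal.map (algebraMap R (Localization.Away g)) p) (Localization.Away hX) (LocalizedModule (Submonoid.powers hX) N))) ⟨ξ, hξ⟩ = n) ∧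
        (Ideal.map (algebraMap C (Localization.Away hZ)) z).LiesOver (Ideal.map (algebraMap S (Localization.Away hX)) q) ∧ (Ideal.map (algebraMap C (Localization.Away hZ)) z).LiesOver (Ideal.map (algebraMap D (Localization.Away (w * algebraMap R D g))) y) ∧
        (∀ (z₂ : Ideal (Localization.Away hZ)) [z₂.IsPrime], z₂.LiesOver (Ideal.map (algebraMap D (Localization.Away (w * algebraMap R D g))) y) → z₂ = Ideal.map (algebraMap C (Localization.Away hZ)) z) ∧
        FlatCA.PurelyTranscendental (Ideal.map (algebraMap R (Localization.Away g)) p) (Ideal.map (algebraMap D (Localization.Away (w * algebraMap R D g))) y) := by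
  obtain ⟨x₀, hx₀⟩ := h.2.1 (algebraMap D C w)
  obtain ⟨g, hX, hZ, h₁, h₂, h₃, -, rest⟩ := shrink R S N p q C D G n h z y h1 h3 h4 w hw x₀ hx₀
  exact ⟨g, hX, hZ, h₁, h₂, h₃, rest⟩

end Groth.Agent.S12242
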