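import Groth.Statements.S10390
import Groth.Agent.AlgSpD.Residual
import Groth.Agent.AlgSpD.DecentPoint
import Groth.Agent.AlgSpD.HasAt
import Groth.Agent.S10341
-- import your own Groth.Agent.* helpers here

set_option autoImplicit false
universe u
open CategoryTheory CategoryTheory.Limits AlgebraicGeometry Topology TopologicalSpace
open AlgSp

namespace Groth.Agent.S10390

set_option backward.isDefEq.respectTransparency false
open Groth.Agent

/-- Over an affine chart a quasi-compact monomorphic point is a preimmersion. -/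
theorem isPreimmersion_point {S : Scheme.{u}} (Y : AlgSp.Space S) (r : AlgSp.FieldPt Y.obj)
    (hm : Mono r.toHom) (hq : AlgSp.RepWith @QuasiCompact r.toHom) {V E : Over S} [IsAffine V.left]
    (b : (AlgSp.yon S).obj V ⟶ Y.obj) (hb : AlgSp.RepWith @Etale b) (e₁ : E ⟶ r.pt) (e₂ : E ⟶ V)
    (sq : IsPullback ((AlgSp.yon S).map e₁) ((AlgSp.yon S).map e₂) r.toHom b) : IsPreimmersion e₂.left := by
  have := hm
  have : Mono ((AlgSp.yon S).map e₂) := MorphismProperty.of_isPullback
    (P := MorphismProperty.monomorphisms _) sq hm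
  have : Mono e₂ := Functor.mono_of_mono_map (AlgSp.yon S) this
  have : Mono e₂.left := inferInstance
  have hE : ∀ z, AlgSp.Points.ofPt b (e₂.left z) = AlgSp.Points.mk r := fun z =>
    ((AlgSpB.ofPt_eq_ofPt_iff sq (e₁.left z) _).2 ⟨z, rfl, rfl⟩).symm.trans (AlgSp.Points.ofPt_toHom r _)
  have hfin : ∀ (V' : Over S) (b' : (AlgSp.yon S).obj V' ⟶ Y.obj), IsAffine V'.left → AlgSp.RepWith @Etale b' →
      (AlgSp.Points.ofPt b' ⁻¹' {AlgSp.Points.mk r}).Finite := fun V' b' _ hb' => by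
    have : CompactSpace ↥V'.left := inferInstance
    exact AlgSpD.finite_preimage_of_qc_point r hq b' hb'
  have hinj : Function.Injective e₂.left := e₂.left.injective
  have : CompactSpace ↥V.left := inferInstance
  have : Finite ↥E.left := by
    rw [← Set.finite_univ_iff]
    exact ((hfin V b ‹_› hb).preimage hinj.injOn).subset fun z _ => hE z
  have : DiscreteTopology ↥E.left := DiscreteTopology.of_finite_of_isClosed_singleton fun z => by
    refine closure_subset_iff_isClosed.1 fun z' hz' => hinj ?_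
    exact S10341.result Y _ hfin b hb (e₂.left z') (e₂.left z) (hE z') (hE z)
      ((specializes_iff_mem_closure.2 hz').map e₂.left.continuous)
  refine { isEmbedding := ⟨⟨?emb⟩, hinj⟩, stalkMap_surjective := fun z => ?stalk }
  case emb =>
    have hT1 : ∀ z z', e₂.left z ⤳ e₂.left z' → z = z' := fun z z' h => hinj
      (S10341.result Y _ hfin b hb (e₂.left z') (e₂.left z) (hE z') (hE z) h).symm
    refine le_antisymm (continuous_iff_le_induced.1 e₂.left.continuous) ?_
    rw [DiscreteTopology.eq_bot (α := ↥E.left)]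
    intro W _
    rw [isOpen_induced_iff]
    refine ⟨(⋃ z ∈ Wᶜ, closure {e₂.left z})ᶜ,
      ((Set.toFinite _).isClosed_biUnion fun _ _ => isClosed_closure).isOpen_compl, ?_⟩
    ext z
    constructor
    · intro hz
      by_contra hzW
      exact hz (Set.mem_iUnion₂.2 ⟨z, hzW, subset_closure rfl⟩)
    · intro hzW hz
      obtain ⟨z', hz', hzz'⟩ := Set.mem_iUnion₂.1 hz
      exact hz' (hT1 z' z (specializes_iff_mem_closure.2 hzz') ▸ hzW)
  case stalk =>
    obtain ⟨c, -, hc⟩ := AlgSpD.exists_finite_factor_of_chart Y r hm b hb (e₂.left z) (hE z)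
    obtain ⟨l, hl₁, hl₂⟩ := sq.exists_lift ((AlgSp.yon S).map c)
      ((AlgSp.yon S).map (Over.homMk (V.left.fromSpecResidueField (e₂.left z)) rfl :
        (AlgSp.FieldPt.ofPt b (e₂.left z)).pt ⟶ V))
      (by rw [hc, AlgSp.FieldPt.toHom_ofPt])
    obtain ⟨l, rfl⟩ := (AlgSp.yon S).map_surjective l
    rw [← Functor.map_comp] at hl₂
    have h2 : l.left ≫ e₂.left = V.left.fromSpecResidueField (e₂.left z) :=
      congrArg (fun k : (AlgSp.FieldPt.ofPt b (e₂.left z)).pt ⟶ V => k.left) ((AlgSp.yon S).map_injective hl₂)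
    let l₀ : Spec (V.left.residueField (e₂.left z)) ⟶ E.left := l.left
    let o : ↥(Spec (V.left.residueField (e₂.left z))) := IsLocalRing.closedPoint (V.left.residueField (e₂.left z))
    have h2' : l₀ ≫ e₂.left = V.left.fromSpecResidueField (e₂.left z) := h2
    have hlo : l₀ o = z := hinj (by
      rw [← Scheme.Hom.comp_apply, h2', Scheme.fromSpecResidueField_apply])
    have hsurj : Function.Surjective ((l₀ ≫ e₂.left).stalkMap o) := by
      rw [Scheme.Hom.stalkMap_congr_hom _ _ h2']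
      exact ((V.left.fromSpecResidueField (e₂.left z)).stalkMap_surjective o).comp
        (ConcreteCategory.bijective_of_isIso _).2
    rw [Scheme.Hom.stalkMap_comp] at hsurj
    have hred : AlgSpD.RedZeroDim E.left := by
      have : Etale e₁.left := hb.2 _ _ _ sq.flip
      exact (show AlgSpD.RedZeroDim r.pt.left from AlgSpD.redZeroDim_spec_field r.K).etale e₁.left
    rw [← hlo]
    intro y
    obtain ⟨w, hw⟩ := hsurj (l₀.stalkMap o y)
    let := (hred.isField (l₀ o)).toField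
    exact ⟨w, (l₀.stalkMap o).hom.injective hw⟩

/-- Let S be a scheme, X and Y algebraic spaces over S, and f : X ⟶ Y a morphism, and let y ∈ |Y| be a
point represented by a monomorphism Spec k ⟶ Y which is representable quasi-compact. Then for the
fibre X_k = Spec k ×_Y X the map |X_k| → |X| is a homeomorphism of |X_k| onto f⁻¹({y}) with its
induced topology. -/
theorem result {S : Scheme.{u}} {X Y : AlgSp.Space S} (f : X ⟶ Y)
    (r : AlgSp.FieldPt Y.obj) (hm : Mono r.toHom) (hq : AlgSp.RepWith @QuasiCompact r.toHom)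
    (Xk : AlgSp.Space S) (fst : Xk ⟶ X) (snd : Xk.obj ⟶ (AlgSp.yon S).obj r.pt) (hsq : IsPullback fst.hom snd f.hom r.toHom) :
    IsEmbedding (AlgSp.Points.map fst.hom) ∧
      Set.range (AlgSp.Points.map fst.hom) = AlgSp.Points.map f.hom ⁻¹' {AlgSp.Points.mk r} := by
  have := hm
  have : Mono fst.hom := MorphismProperty.of_isPullback (P := MorphismProperty.monomorphisms _) hsq.flip hm
  have hinj : Function.Injective (AlgSp.Points.map fst.hom) := AlgSpB.injective_map_of_mono fst.hom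
  have hrange : Set.range (AlgSp.Points.map fst.hom) = AlgSp.Points.map f.hom ⁻¹' {AlgSp.Points.mk r} := by
    have hpt : ∀ s : AlgSp.Points ((AlgSp.yon S).obj r.pt), AlgSp.Points.map r.toHom s = AlgSp.Points.mk r := by
      intro s
      obtain ⟨s, rfl⟩ := (AlgSp.Points.schemeEquiv r.pt).surjective s
      exact (AlgSp.Points.ofPt_eq_map_ofScheme r.toHom s).symm.trans (AlgSp.Points.ofPt_toHom r s)
    ext x
    constructor
    · rintro ⟨ξ, rfl⟩
      rw [Set.mem_preimage, ← AlgSp.Points.map_comp, hsq.w, AlgSp.Points.map_comp, hpt]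
      rfl
    · intro hx
      obtain ⟨ξ, hξ, -⟩ := AlgSpB.exists_of_isPullback hsq x
        (AlgSp.Points.ofScheme r.pt (IsLocalRing.closedPoint r.K)) (hx.trans (hpt _).symm)
      exact ⟨ξ, hξ⟩
  refine ⟨⟨⟨le_antisymm (continuous_iff_le_induced.1 (AlgSp.Points.continuous_map _)) ?_⟩, hinj⟩, hrange⟩
  intro O hO
  rw [isOpen_induced_iff]
  suffices key : ∀ ξ ∈ O, ∃ G : Set (AlgSp.Points X.obj), IsOpen G ∧ AlgSp.Points.map fst.hom ξ ∈ G ∧
      AlgSp.Points.map fst.hom ⁻¹' G ⊆ O by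
    choose G hG hmem hsub using key
    refine ⟨⋃ ξ, ⋃ h : ξ ∈ O, G ξ h, isOpen_iUnion fun ξ => isOpen_iUnion fun h => hG ξ h, ?_⟩
    ext ξ
    constructor
    · intro hξ
      obtain ⟨η, hη, h⟩ := Set.mem_iUnion₂.1 hξ
      exact hsub η hη h
    · intro hξ
      exact Set.mem_iUnion₂.2 ⟨ξ, hξ, hmem ξ hξ⟩
  intro ξ hξ
  obtain ⟨U₀, a₀, u₀, ha₀, hu₀⟩ := AlgSpD.exists_chart X (AlgSp.Points.map fst.hom ξ)
  obtain ⟨V, b, v, hV, hb, hv⟩ := AlgSpD.exists_affine_chart Y
    (AlgSp.Points.map f.hom (AlgSp.Points.ofPt a₀ u₀))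
  obtain ⟨U, p, h, u, ha, -, hw, hpu, -⟩ := AlgSpD.exists_diagram_over f ha₀ u₀ hb hv
  generalize hadef : (AlgSp.yon S).map p ≫ a₀ = a at ha hw
  have hu : AlgSp.Points.ofPt a u = AlgSp.Points.map fst.hom ξ := by
    rw [← hadef, AlgSpB.ofPt_map_comp, hpu, hu₀]
  obtain ⟨E, e₁, e₂, sqE⟩ := AlgSpB.exists_pullback_yon hq.1 b
  have := hV
  have hE := isPreimmersion_point Y r hm hq b hb e₁ e₂ sqE
  let k₁ := pullback.fst h e₂
  let k₂ := pullback.snd h e₂
  have eQ : IsPullback k₁ k₂ h e₂ := IsPullback.of_hasPullback h e₂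
  have : IsPreimmersion k₁.left :=
    MorphismProperty.of_isPullback (P := @IsPreimmersion) (eQ.map (Over.forget S)).flip hE
  have hbig : IsPullback ((AlgSp.yon S).map k₁) ((AlgSp.yon S).map k₂ ≫ (AlgSp.yon S).map e₁)
      (a ≫ f.hom) r.toHom := by
    rw [hw]
    exact (eQ.map (AlgSp.yon S)).paste_vert sqE.flip |> fun t => by simpa using t
  obtain ⟨g, hg₁, hg₂⟩ := hsq.exists_lift ((AlgSp.yon S).map k₁ ≫ a)
    ((AlgSp.yon S).map k₂ ≫ (AlgSp.yon S).map e₁) (by rw [Category.assoc, hbig.w])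
  have sqg : IsPullback g ((AlgSp.yon S).map k₁) fst.hom a := IsPullback.flip (IsPullback.of_bot
    (by rw [hg₂]; exact hbig) hg₁.symm hsq)
  have hopen : IsOpen (AlgSp.Points.ofPt g ⁻¹' O) := AlgSp.Points.isOpen_iff.1 hO _ g
  obtain ⟨G₀, hG₀, hG₀'⟩ := k₁.left.isEmbedding.isInducing.isOpen_iff.1 hopen
  have hback : ∀ (η : AlgSp.Points Xk.obj) (u' : ↥U.left), AlgSp.Points.map fst.hom η = AlgSp.Points.ofPt a u' →
      ∃ z, k₁.left z = u' ∧ AlgSp.Points.ofPt g z = η := by
    intro η u' hη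
    obtain ⟨s, hs1, hs2⟩ := AlgSpB.exists_of_isPullback sqg η (AlgSp.Points.ofScheme U u')
      (hη.trans (AlgSp.Points.ofPt_eq_map_ofScheme a u'))
    obtain ⟨z, rfl⟩ := (AlgSp.Points.schemeEquiv _).surjective s
    refine ⟨z, ?_, (AlgSp.Points.ofPt_eq_map_ofScheme g z).trans hs1⟩
    have e1 : AlgSp.Points.ofPt ((AlgSp.yon S).map k₁) z = AlgSp.Points.ofScheme U u' :=
      (AlgSp.Points.ofPt_eq_map_ofScheme _ z).trans hs2
    have e2 := congrArg (AlgSp.Points.toScheme U) e1
    rwa [AlgSp.Points.toScheme_ofPt, AlgSp.Points.toScheme_ofScheme] at e2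
  refine ⟨AlgSp.Points.ofPt a '' G₀, AlgSpB.isOpenMap_ofPt ha _ hG₀, ?_, ?_⟩
  · obtain ⟨z, hz, hzξ⟩ := hback ξ u hu.symm
    refine ⟨u, ?_, hu⟩
    rw [← hz]
    show z ∈ k₁.left ⁻¹' G₀
    rw [hG₀', Set.mem_preimage, hzξ]
    exact hξ
  · rintro η ⟨u', hu', hη⟩
    obtain ⟨z, hz, hzη⟩ := hback η u' hη.symm
    rw [← hzη]
    have : z ∈ k₁.left ⁻¹' G₀ := by show k₁.left z ∈ G₀; rw [hz]; exact hu'
    rw [hG₀'] at this
    exact this

end Groth.Agent.S10390
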