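import Groth.Statements.S10404
import Groth.Agent.AlgSpD.DecentJacobson

set_option autoImplicit false
universe u
open CategoryTheory CategoryTheory.Limits AlgebraicGeometry Topology TopologicalSpace
open AlgSp

namespace Groth.Agent.S10404

open Groth.Agent

/-- A decent algebraic space X over a scheme S is Jacobson if and only if the topological space |X| is
Jacobson. -/
theorem result {S : Scheme.{u}} (X : AlgSp.Space S) (hd : AlgSp.IsDecent X.obj) :
    AlgSp.EtaleLocally (fun U => JacobsonSpace ↥U) X.obj ↔ JacobsonSpace (AlgSp.Points X.obj) := by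
  constructor
  · rintro ⟨U, a, ha, hs, hJ⟩
    rw [jacobsonSpace_iff_locallyClosed]
    intro Z hZ hZ'
    obtain ⟨x, hx⟩ := hZ
    obtain ⟨u, rfl⟩ := AlgSpB.surjective_ofPt hs x
    obtain ⟨v, hv, hv'⟩ := nonempty_inter_closedPoints (Z := AlgSp.Points.ofPt a ⁻¹' Z) ⟨u, hx⟩
      (hZ'.preimage (AlgSp.Points.continuous_ofPt a))
    exact ⟨_, hv, AlgSpD.isClosed_of_hasAt X hd U a ha hs ⟨U, a, v, ha, rfl, hv'⟩⟩
  · intro h
    obtain ⟨U, a, ha, hs⟩ := X.property.atlas
    exact ⟨U, a, ha, hs, AlgSpD.jacobsonSpace_chart X hd a ha⟩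

end Groth.Agent.S10404
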