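import Groth.Statements.S5792
import Groth.Agent.TopDimLib.Basic

set_option autoImplicit false
universe u
open TopDim

namespace Groth.Agent.S5792

open Set Order TopologicalSpace Topology Groth.Agent.TopDimLib

/-- For every topological space X one has dim(X) = sup_{x ∈ X} dim_x(X), the supremum of the local
combinatorial dimensions. -/
theorem result (X : Type u) [TopologicalSpace X] :
    topologicalKrullDim X = ⨆ x : X, FlatMor.localDim X x := by
  refine le_antisymm (topDim_le_iff.2 fun l => ?_) (iSup_le fun x => localDim_le_topDim x)
  obtain ⟨x, hx⟩ := l.head.isIrreducible.1
  exact le_iSup_of_le x (length_le_localDim l hx)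

end Groth.Agent.S5792
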