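import Groth.Statements.S0431
import Groth.Agent.FlatMisc.SchemePushout
import Groth.Agent.S0440

set_option autoImplicit false
universe u
open FlatMor

namespace Groth.Agent.S0431

open AlgebraicGeometry CategoryTheory Limits in
/-- For a thickening X → X' (a surjective closed immersion) and an affine morphism X → Y, the pushout Y'
of X' and Y along X exists in schemes, Y → Y' is again a thickening and X is the fibre product of Y
and X' over Y' (the source's description of the structure sheaf of the pushout as a fibre product of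
sheaves is not restated). -/
theorem result {X X' Y : Scheme.{u}} (t : X ⟶ X') [IsClosedImmersion t] (ht : Function.Surjective t) (f : X ⟶ Y) [IsAffineHom f] :
    ∃ (Y' : Scheme.{u}) (f' : X' ⟶ Y') (b : Y ⟶ Y'), IsPushout t f f' b ∧ IsPullback t f f' b ∧
      IsClosedImmersion b ∧ Function.Surjective b := by
  have hh : IsHomeomorph t := isHomeomorph_iff_isEmbedding_surjective.mpr
    ⟨t.isClosedEmbedding.isEmbedding, ht⟩
  obtain ⟨P, a, b, h₁, h₂, hb, -, -, hs⟩ :=
    Groth.Agent.FlatMisc.SchemePushout.exists_pushout t f fun y => by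
      obtain ⟨V, hV, hy, -⟩ := exists_isAffineOpen_mem_and_subset
        (U := (⊤ : Y.Opens)) (x := y) trivial
      let U : X'.Opens := ⟨t '' (f ⁻¹ᵁ V : Set X), hh.isOpenMap _ (f ⁻¹ᵁ V).isOpen⟩
      have e : t ⁻¹ᵁ U = f ⁻¹ᵁ V :=
        TopologicalSpace.Opens.ext (Set.preimage_image_eq _ hh.injective)
      refine ⟨U, V, ?_, hV, hy, e⟩
      haveI : IsAffine (t ⁻¹ᵁ U).toScheme := e ▸ hV.preimage f
      haveI : IsClosedImmersion (t ∣_ U) := IsZariskiLocalAtTarget.restrict ‹_› U
      refine Groth.Agent.S0440.result (t ∣_ U) fun x => ?_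
      obtain ⟨z, hz⟩ := ht x.1
      refine ⟨⟨z, by show t z ∈ U; rw [hz]; exact x.2⟩, Subtype.ext ?_⟩
      rw [morphismRestrict_base_coe]
      exact hz
  refine ⟨P, a, b, h₁, h₂, hb, fun p => (hs p).elim (fun ⟨x, hx⟩ => ?_) id⟩
  obtain ⟨z, rfl⟩ := ht x
  refine ⟨f z, ?_⟩
  rw [← hx, ← Scheme.Hom.comp_apply, ← Scheme.Hom.comp_apply, h₁.w]

end Groth.Agent.S0431
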