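import Groth.Statements.S6900
import Groth.Agent.EtMilLib.AlgDescent

set_option autoImplicit false
universe u
open TensorProduct
open EtAlg

namespace Groth.Agent.S6900

/-- Let `B' = B ×_A A'` be a fibre square of rings with `A' → A` surjective. Let `D` be a `B`-algebra
and `C'` an `A'`-algebra with a common base change `C = D ⊗_B A = C' ⊗_{A'} A`, and let `D' = D ×_C
C'` be the fibre product ring with its `B'`-algebra structure. Then `B' → D'` is of finite type
(resp. flat, resp. flat and of finite presentation, resp. smooth, resp. étale) if and only if `B →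
D` and `A' → C'` both are. -/
theorem result (B' B A' A : Type u) [CommRing B'] [CommRing B] [CommRing A'] [CommRing A]
    [Algebra B' B] [Algebra B' A'] [Algebra B A] [Algebra A' A] [Algebra B' A] [IsScalarTower B' B A] [IsScalarTower B' A' A]
    (hsq : EtMil.IsFibreSquare B' B A' A)
    (D' D C' C : Type u) [CommRing D'] [CommRing D] [CommRing C'] [CommRing C]
    [Algebra D' D] [Algebra D' C'] [Algebra D C] [Algebra C' C] [Algebra D' C] [IsScalarTower D' D C] [IsScalarTower D' C' C]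
    (hsq' : EtMil.IsFibreSquare D' D C' C)
    [Algebra B' D'] [Algebra B D] [Algebra A' C'] [Algebra A C]
    [Algebra B' D] [IsScalarTower B' B D] [IsScalarTower B' D' D]
    [Algebra B' C'] [IsScalarTower B' A' C'] [IsScalarTower B' D' C']
    [Algebra B C] [IsScalarTower B A C] [IsScalarTower B D C]
    [Algebra A' C] [IsScalarTower A' A C] [IsScalarTower A' C' C]
    [Algebra.IsPushout B D A C] [Algebra.IsPushout A' C' A C] :
    (Algebra.FiniteType B' D' ↔ Algebra.FiniteType B D ∧ Algebra.FiniteType A' C') ∧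
    (Module.Flat B' D' ↔ Module.Flat B D ∧ Module.Flat A' C') ∧
    (Module.Flat B' D' ∧ Algebra.FinitePresentation B' D' ↔
      (Module.Flat B D ∧ Algebra.FinitePresentation B D) ∧ (Module.Flat A' C' ∧ Algebra.FinitePresentation A' C')) ∧
    (Algebra.Smooth B' D' ↔ Algebra.Smooth B D ∧ Algebra.Smooth A' C') ∧
    (Algebra.Etale B' D' ↔ Algebra.Etale B D ∧ Algebra.Etale A' C') := by
  haveI : Algebra.IsPushout B A D C := Algebra.IsPushout.symm inferInstance
  haveI : Algebra.IsPushout A' A C' C := Algebra.IsPushout.symm inferInstance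
  let eD : A ⊗[B] D ≃ₗ[A] C := IsBaseChange.equiv (Algebra.IsPushout.out (R := B) (S := A) (R' := D) (S' := C))
  let eC : A ⊗[A'] C' ≃ₗ[A] C := IsBaseChange.equiv (Algebra.IsPushout.out (R := A') (S := A) (R' := C') (S' := C))
  let φ : A ⊗[B] D ≃ₗ[A] A ⊗[A'] C' := eD ≪≫ₗ eC.symm
  have hmem : ∀ x : D × C', x ∈ EtMil.glue B' φ ↔ algebraMap D C x.1 = algebraMap C' C x.2 := by
    intro x
    rw [Groth.Agent.EtMilLib.mem_glue]
    simp only [φ, LinearEquiv.trans_apply]
    rw [LinearEquiv.symm_apply_eq]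
    simp [eD, eC, IsBaseChange.equiv_tmul]
  let f : D' →ₗ[B'] EtMil.glue B' φ :=
    ((IsScalarTower.toAlgHom B' D' D).toLinearMap.prod (IsScalarTower.toAlgHom B' D' C').toLinearMap).codRestrict _
      fun d => (hmem _).mpr ((IsScalarTower.algebraMap_apply D' D C d).symm.trans (IsScalarTower.algebraMap_apply D' C' C d))
  have hf : Function.Bijective f := by
    refine ⟨fun x y hxy => ?_, fun ⟨x, hx⟩ => ?_⟩
    · have h := congrArg Subtype.val hxy
      exact Groth.Agent.EtMilLib.eq_of_maps_eq hsq' (congrArg Prod.fst h) (congrArg Prod.snd h)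
    · obtain ⟨d, ⟨h1, h2⟩, -⟩ := hsq'.2 x.1 x.2 ((hmem x).mp hx)
      exact ⟨d, Subtype.ext (Prod.ext h1 h2)⟩
  let e := LinearEquiv.ofBijective f hf
  haveI : Algebra.IsPushout B' B D' D := ⟨IsBaseChange.of_equiv
    (TensorProduct.AlgebraTensorModule.congr (LinearEquiv.refl B B) e ≪≫ₗ LinearEquiv.ofBijective _
      (Groth.Agent.EtMilLib.liftBaseChange_glueFst_bijective hsq φ)) fun d => by simp [e, f, EtMil.glueFst]⟩
  haveI : Algebra.IsPushout B' A' D' C' := ⟨IsBaseChange.of_equiv
    (TensorProduct.AlgebraTensorModule.congr (LinearEquiv.refl A' A') e ≪≫ₗ LinearEquiv.ofBijective _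
      (Groth.Agent.EtMilLib.liftBaseChange_glueSnd_bijective hsq φ)) fun d => by simp [e, f, EtMil.glueSnd]⟩
  let aD : B ⊗[B'] D' ≃ₐ[B] D := Algebra.IsPushout.equiv B' B D' D
  let aC : A' ⊗[B'] D' ≃ₐ[A'] C' := Algebra.IsPushout.equiv B' A' D' C'
  have bwdFlat : Module.Flat B D → Module.Flat A' C' → Module.Flat B' D' := fun h1 h2 => by
    haveI := Module.Flat.of_linearEquiv aD.toLinearEquiv
    haveI := Module.Flat.of_linearEquiv aC.toLinearEquiv
    exact Groth.Agent.EtMilLib.flat_of_baseChange hsq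
  refine ⟨⟨fun h => ?_, fun ⟨h1, h2⟩ => ?_⟩, ⟨fun h => ?_, fun ⟨h1, h2⟩ => bwdFlat h1 h2⟩,
    ⟨fun ⟨h, h'⟩ => ?_, fun ⟨⟨h1, h1'⟩, h2, h2'⟩ => ?_⟩, ⟨fun h => ?_, fun ⟨h1, h2⟩ => ?_⟩,
    ⟨fun h => ?_, fun ⟨h1, h2⟩ => ?_⟩⟩
  · exact ⟨Algebra.FiniteType.equiv inferInstance aD, Algebra.FiniteType.equiv inferInstance aC⟩
  · haveI := Algebra.FiniteType.equiv h1 aD.symm
    haveI := Algebra.FiniteType.equiv h2 aC.symm
    exact Groth.Agent.EtMilLib.finiteType_of_baseChange hsq
  · exact ⟨Module.Flat.of_linearEquiv aD.symm.toLinearEquiv, Module.Flat.of_linearEquiv aC.symm.toLinearEquiv⟩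
  · exact ⟨⟨Module.Flat.of_linearEquiv aD.symm.toLinearEquiv, Algebra.FinitePresentation.equiv aD⟩,
      Module.Flat.of_linearEquiv aC.symm.toLinearEquiv, Algebra.FinitePresentation.equiv aC⟩
  · haveI := bwdFlat h1 h2
    haveI : Algebra.FinitePresentation B (B ⊗[B'] D') := Algebra.FinitePresentation.equiv aD.symm
    haveI : Algebra.FinitePresentation A' (A' ⊗[B'] D') := Algebra.FinitePresentation.equiv aC.symm
    exact ⟨inferInstance, Groth.Agent.EtMilLib.finitePresentation_algebra_of_baseChange hsq⟩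
  · exact ⟨Algebra.Smooth.of_equiv aD, Algebra.Smooth.of_equiv aC⟩
  · haveI := Algebra.Smooth.of_equiv aD.symm
    haveI := Algebra.Smooth.of_equiv aC.symm
    exact Groth.Agent.EtMilLib.smooth_of_baseChange hsq
  · exact ⟨Algebra.Etale.of_equiv aD, Algebra.Etale.of_equiv aC⟩
  · haveI := Algebra.Etale.of_equiv aD.symm
    haveI := Algebra.Etale.of_equiv aC.symm
    exact Groth.Agent.EtMilLib.etale_of_baseChange hsq

end Groth.Agent.S6900
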