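import Groth.Statements.S5075
import Mathlib
-- import your own Groth.Agent.* helpers here

set_option autoImplicit false
open CategoryTheory AlgebraicGeometry
universe u
open Unram

namespace Groth.Agent.S5075

open Limits


/-- Let p : X ⟶ S be étale, g : S' ⟶ S a morphism and i : S'₀ ⟶ S' a surjective closed immersion (a
closed subscheme with the same underlying space). Then for every f₀ : S'₀ ⟶ X over S there is
exactly one f : S' ⟶ X over S with i ≫ f = f₀. -/
theorem result {X S S' S'₀ : Scheme.{u}} (p : X ⟶ S) [Etale p]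
    (g : S' ⟶ S) (i : S'₀ ⟶ S') [IsClosedImmersion i] [Surjective i]
    (f₀ : S'₀ ⟶ X) (h₀ : f₀ ≫ p = i ≫ g) :
    ∃! f : S' ⟶ X, f ≫ p = g ∧ i ≫ f = f₀ := by
  let q := pullback.snd p g
  let s₀ : S'₀ ⟶ pullback p g := pullback.lift f₀ i h₀
  let σ : S'₀ ⟶ pullback q i := pullback.lift s₀ (𝟙 S'₀) (by simp only [s₀, q, pullback.lift_snd, Category.id_comp])
  let j := pullback.fst q i
  have hσs : σ ≫ pullback.snd q i = 𝟙 _ := pullback.lift_snd ..
  have : Mono σ := mono_of_mono_fac hσs
  have : Etale (σ ≫ pullback.snd q i) := by rw [hσs]; infer_instance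
  have : Etale σ := Etale.of_comp σ (pullback.snd q i)
  have : IsOpenImmersion σ := IsOpenImmersion.of_flat_of_mono σ
  have hjh : Topology.IsClosedEmbedding j := j.isClosedEmbedding
  have hjsurj : Surjective j := inferInstance
  have hjs : Function.Surjective j := hjsurj.surj
  have hUo : IsOpen (Set.range s₀) := by
    have hs₀j : σ ≫ j = s₀ := pullback.lift_fst ..
    rw [← hs₀j, Scheme.Hom.comp_base, TopCat.coe_comp, Set.range_comp]
    have hjo : IsOpenMap j :=
      (hjh.isEmbedding.toHomeomorphOfSurjective hjs).isOpenMap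
    exact hjo _ σ.isOpenEmbedding.isOpen_range
  let W : (pullback p g).Opens := ⟨Set.range s₀, hUo⟩
  let r := W.ι ≫ q
  let t : S'₀ ⟶ W := IsOpenImmersion.lift W.ι s₀ (by rw [Scheme.Opens.range_ι]; exact subset_rfl)
  have htι : t ≫ W.ι = s₀ := IsOpenImmersion.lift_fac ..
  have htr : t ≫ r = i := by simp only [r, q, reassoc_of% htι, s₀, pullback.lift_snd]
  have : Surjective t := ⟨fun w ↦ by
    obtain ⟨a, ha⟩ := w.2
    exact ⟨a, W.ι.isOpenEmbedding.injective (by rw [← Scheme.Hom.comp_apply, htι]; exact ha)⟩⟩
  have hd : Surjective (pullback.diagonal r) := by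
    let m : pullback i i ⟶ pullback r r :=
      pullback.map i i r r t t (𝟙 _) (by simp [htr]) (by simp [htr])
    set_option backward.isDefEq.respectTransparency false in
    have hm : Surjective m := MorphismProperty.pullbackMap (P := @Surjective.{u}) (i₁ := t) (i₂ := t) inferInstance inferInstance htr.symm htr.symm
    have hfac : t ≫ pullback.diagonal r = pullback.diagonal i ≫ m := by
      apply pullback.hom_ext <;> simp [m]
    have : IsIso (pullback.diagonal i) := (pullback.isIso_diagonal_iff i).mpr inferInstance
    have : Surjective (t ≫ pullback.diagonal r) := by rw [hfac]; infer_instance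
    exact Surjective.of_comp t _
  have : Etale r := inferInstance
  have : IsIso (pullback.diagonal r) :=
    (isIso_iff_isOpenImmersion_and_surjective _).mpr ⟨inferInstance, hd⟩
  have : Mono r := (pullback.isIso_diagonal_iff r).mp this
  have : IsOpenImmersion r := IsOpenImmersion.of_flat_of_mono r
  have hr : Surjective r := by
    have : Surjective (t ≫ r) := by rw [htr]; infer_instance
    exact Surjective.of_comp t r
  have : IsIso r := (isIso_iff_isOpenImmersion_and_surjective r).mpr ⟨inferInstance, hr⟩
  refine ⟨inv r ≫ W.ι ≫ pullback.fst p g, ⟨?_, ?_⟩, ?_⟩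
  · rw [Category.assoc, Category.assoc, pullback.condition, IsIso.inv_comp_eq]
    simp [r, q]
  · rw [← htr, Category.assoc, IsIso.hom_inv_id_assoc, reassoc_of% htι]
    exact pullback.lift_fst ..
  · rintro f' ⟨hf', hif'⟩
    let s' : S' ⟶ pullback p g := pullback.lift f' (𝟙 S') (by simp [hf'])
    have hrange : Set.range s' ⊆ Set.range W.ι := by
      rintro _ ⟨a, rfl⟩
      obtain ⟨b, rfl⟩ := (inferInstance : Surjective i).surj a
      have hb : i ≫ s' = s₀ := by
        apply pullback.hom_ext
        · rw [Category.assoc, pullback.lift_fst, pullback.lift_fst, hif']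
        · rw [Category.assoc, pullback.lift_snd, pullback.lift_snd, Category.comp_id]
      simp only [Scheme.Opens.range_ι]
      exact ⟨b, by rw [← hb]; rfl⟩
    let s'' := IsOpenImmersion.lift W.ι s' hrange
    have hs'' : s'' = inv r := by
      rw [← cancel_mono r, IsIso.inv_hom_id]
      simp only [s'', r, q, s', IsOpenImmersion.lift_fac_assoc, pullback.lift_snd]
    rw [← hs'']
    simp only [s'', IsOpenImmersion.lift_fac_assoc]
    exact (pullback.lift_fst ..).symm

end Groth.Agent.S5075
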