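import Groth.Statements.S14766
import Groth.Agent.SubtrLib.Val
-- import your own Groth.Agent.* helpers here

set_option autoImplicit false
universe u
open CategoryTheory CategoryTheory.Limits AlgebraicGeometry
open Subtr

namespace Groth.Agent.S14766

/-- Let V be a discrete valuation ring and f : X ⟶ Spec V any morphism of schemes. Then the underlying
continuous map of f is a quotient map (f is submersive) if and only if every ordered pair of points
of Spec V lifts to an ordered pair of points of X. -/
theorem result (V : Type u) [CommRing V] [IsDomain V]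
    [IsDiscreteValuationRing V] {X : Scheme.{u}} (f : X ⟶ Spec (CommRingCat.of V)) :
    Topology.IsQuotientMap f ↔ Subtr.IsSSubtrusive f := by
  open Groth.Agent.SubtrLib in
  have two : ∀ y : Spec (CommRingCat.of V), y = gen V ∨ y = IsLocalRing.closedPoint V := fun y => by
    by_cases h : (y : PrimeSpectrum V).asIdeal = ⊥
    · exact Or.inl (PrimeSpectrum.ext h)
    · exact Or.inr (PrimeSpectrum.ext (IsLocalRing.eq_maximalIdeal
        ((y : PrimeSpectrum V).2.isMaximal h)))
  constructor
  · intro h
    refine ((Groth.Agent.SubtrLib.tfae V f).out 3 1 rfl rfl).1 ?_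
    have hs : ¬ IsOpen ({IsLocalRing.closedPoint V} : Set (Spec (CommRingCat.of V))) := fun ho => by
      have h0 := (Groth.Agent.SubtrLib.gen_specializes (IsLocalRing.closedPoint V :
        Spec (CommRingCat.of V))).mem_open ho rfl
      exact IsDiscreteValuationRing.not_a_field V (congrArg PrimeSpectrum.asIdeal h0).symm
    rw [← h.isOpen_preimage, ← isClosed_compl_iff, ← closure_subset_iff_isClosed] at hs
    obtain ⟨x, hx, hx'⟩ := Set.not_subset.1 hs
    rw [Set.mem_compl_iff, not_not] at hx'
    have hx2 : x ∈ closure (f ⁻¹' {Groth.Agent.SubtrLib.gen V}) :=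
      closure_mono (fun z hz => (two (f z)).resolve_right hz) hx
    obtain ⟨x', h1, h2⟩ := Groth.Agent.SubtrLib.exists_specializes_fibre f hx2
    exact ⟨x, x', h1, hx', h2⟩
  · intro h
    refine ⟨Topology.IsCoinducing.of_isOpen_preimage_iff_isOpen fun U => ⟨fun hU => ?_, fun hU => hU.preimage f.continuous⟩, fun y => ?_⟩
    · have hmax : IsClosed ({IsLocalRing.closedPoint V} : Set (Spec (CommRingCat.of V))) :=
        (PrimeSpectrum.isClosed_singleton_iff_isMaximal _).2 (IsLocalRing.maximalIdeal.isMaximal V)
      have hgen : IsLocalRing.closedPoint V ∈ U → Groth.Agent.SubtrLib.gen V ∈ U := fun hs => by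
        obtain ⟨x, x', hx, h1, h2⟩ := h (Groth.Agent.SubtrLib.gen_specializes
          (IsLocalRing.closedPoint V : Spec (CommRingCat.of V)))
        have hx' : f x ∈ U := by rw [h1]; exact hs
        have := hx.mem_open hU hx'
        exact h2 ▸ this
      by_cases hs : IsLocalRing.closedPoint V ∈ U
      · convert isOpen_univ
        exact Set.eq_univ_of_forall fun y => (two y).elim (fun e => e ▸ hgen hs) (fun e => e ▸ hs)
      · by_cases hg : Groth.Agent.SubtrLib.gen V ∈ U
        · convert hmax.isOpen_compl
          exact Set.ext fun y => ⟨fun hy e => hs (e ▸ hy), fun hy => (two y).resolve_right hy ▸ hg⟩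
        · convert isOpen_empty
          exact Set.eq_empty_of_forall_notMem fun y hy =>
            (two y).elim (fun e => hg (e ▸ hy)) (fun e => hs (e ▸ hy))
    · obtain ⟨x, _, _, hx, _⟩ := h (specializes_refl y)
      exact ⟨x, hx⟩

end Groth.Agent.S14766
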