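import Groth.Statements.S2079
import Groth.Agent.LimLib.FPSystem
import Groth.Agent.LimLib.Proper

set_option backward.isDefEq.respectTransparency false
set_option backward.defeqAttrib.useBackward true

set_option autoImplicit false
universe u
open CategoryTheory AlgebraicGeometry
open Lim

namespace Groth.Agent.S2079

/-- Let `f : X → S` be proper with `S` quasi-compact and quasi-separated. Then `X` is the limit of a
cofiltered diagram of `S`-schemes which are proper and of finite presentation over `S`, with all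
transition morphisms and all projections `X → X_i` closed immersions. -/
theorem result {X S : Scheme.{u}} (f : X ⟶ S) [IsProper f] [CompactSpace S]
    [QuasiSeparatedSpace S] :
    ∃ (I : Type u) (_ : SmallCategory I) (_ : IsCofiltered I) (D : I ⥤ Over S) (c : Limits.Cone D)
      (_ : Limits.IsLimit c) (e : c.pt ≅ Over.mk f),
      (∀ (i j : I) (a : i ⟶ j), IsClosedImmersion (D.map a).left) ∧
      (∀ i, IsClosedImmersion (c.π.app i).left ∧ IsProper (D.obj i).hom ∧
        LocallyOfFinitePresentation (D.obj i).hom) := by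
  have : CompactSpace X := QuasiCompact.compactSpace_of_compactSpace f
  have : QuasiSeparatedSpace X := quasiSeparatedSpace_of_quasiSeparated f
  obtain ⟨P, hP, hπ⟩ := LimLib.exists_closedFPSystem f
  have (i j : P.Jᵒᵖ) (a : i ⟶ j) : IsClosedImmersion (P.sch.map a) := hP a
  have (i : P.Jᵒᵖ) : QuasiCompact (P.str.app i) := P.quasiCompact i
  obtain ⟨i₀⟩ : Nonempty P.Jᵒᵖ := ⟨Opposite.op (Classical.arbitrary _)⟩
  have : UniversallyClosed (P.cone.π.app i₀ ≫ P.str.app i₀) := by
    rw [LimLib.FPSystem.π_str]; infer_instance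
  obtain ⟨j, -, hj⟩ := LimLib.exists_universallyClosed_stage_of_isClosedImmersion P.sch P.str P.cone
    P.isLimit_cone.some i₀
  obtain ⟨k, hk⟩ := P.eventually_isSeparated
  obtain ⟨m, a, b, -⟩ := IsCofilteredOrEmpty.cone_objs j k
  let σ : {k : P.J // m.unop ≤ k} →o P.J := ⟨Subtype.val, fun _ _ h => h⟩
  have : Nonempty {k : P.J // m.unop ≤ k} := ⟨⟨m.unop, le_rfl⟩⟩
  have : IsDirectedOrder {k : P.J // m.unop ≤ k} := ⟨fun p q => by
    obtain ⟨c, hp, hq⟩ := exists_ge_ge p.1 q.1
    exact ⟨⟨c, p.2.trans hp⟩, hp, hq⟩⟩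
  have : σ.monotone.functor.Final := Functor.final_of_exists_of_isFiltered _
    (fun d => by
      obtain ⟨c, hd, hc⟩ := exists_ge_ge d m.unop
      exact ⟨⟨c, hc⟩, ⟨homOfLE hd⟩⟩)
    (fun s s' => ⟨_, 𝟙 _, Subsingleton.elim _ _⟩)
  have hσ : ∀ i, m.unop ≤ σ i := fun i => i.2
  refine ⟨_, inferInstance, inferInstance, σ.monotone.functor.op ⋙ P.D,
    (Limits.Cone.mk (Over.mk f) P.π).whisker σ.monotone.functor.op,
    (Functor.Initial.isLimitWhiskerEquiv _ _).symm P.isLimit.some, Iso.refl _,
    fun i j a => hP _, fun i => ⟨hπ _, ?_, P.lfp _⟩⟩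
  · let l : Opposite.op (σ i.unop) ⟶ m := (homOfLE (hσ i.unop)).op
    have : IsSeparated (P.D.obj (Opposite.op (σ i.unop))).hom := hk _ (l ≫ b)
    have : LocallyOfFiniteType (P.D.obj (Opposite.op (σ i.unop))).hom :=
      inferInstanceAs (LocallyOfFiniteType (P.str.app _))
    have : UniversallyClosed (P.D.obj (Opposite.op (σ i.unop))).hom := by
      have : UniversallyClosed (P.D.obj j).hom := hj
      have : IsClosedImmersion (P.D.map (l ≫ a)).left := hP _
      rw [← Over.w (P.D.map (l ≫ a))]
      infer_instance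
    show IsProper (P.D.obj (Opposite.op (σ i.unop))).hom
    exact { }

end Groth.Agent.S2079
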