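import Groth.Statements.S2147
import Groth.Agent.LimLib.FPSystem
import Groth.Agent.LimLib.Model
import Groth.Agent.LimLib.Approx
import Groth.Agent.LimLib.Proper
import Groth.Agent.S2079

set_option backward.isDefEq.respectTransparency false
set_option backward.defeqAttrib.useBackward true

set_option autoImplicit false
universe u
open CategoryTheory AlgebraicGeometry
open Lim

namespace Groth.Agent.S2147

/-- Let `f : X → S` be proper with `S` quasi-compact and quasi-separated. Then `f` is a limit of proper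
morphisms `f_i : X_i → S_i` with `S_i` of finite type over `ℤ`: there are cofiltered diagrams of
schemes `X_i`, `S_i` with affine transition morphisms, a natural transformation with proper
components, and limit cones identified with `X` and `S` compatibly with `f`. -/
theorem result {X S : Scheme.{u}} (f : X ⟶ S) [IsProper f] [CompactSpace S]
    [QuasiSeparatedSpace S] :
    ∃ (I : Type u) (_ : SmallCategory I) (_ : IsCofiltered I) (DX DS : I ⥤ Scheme.{u}) (φ : DX ⟶ DS)
      (cX : Limits.Cone DX) (cS : Limits.Cone DS) (_ : Limits.IsLimit cX) (_ : Limits.IsLimit cS)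
      (eX : cX.pt ≅ X) (eS : cS.pt ≅ S),
      (∀ (i j : I) (a : i ⟶ j), IsAffineHom (DX.map a) ∧ IsAffineHom (DS.map a)) ∧
      (∀ i, IsProper (φ.app i) ∧ CompactSpace (DS.obj i) ∧
        LocallyOfFiniteType (Limits.IsTerminal.from specULiftZIsTerminal (DS.obj i))) ∧
      (∀ i, cX.π.app i ≫ φ.app i = eX.hom ≫ f ≫ eS.inv ≫ cS.π.app i) := by
  -- a proper and finitely presented ambient scheme
  obtain ⟨I, _, _, D, c, hc, e, -, hall⟩ := S2079.result f
  obtain ⟨i⟩ := IsCofiltered.nonempty (C := I)
  obtain ⟨hπ, hpr, hfp⟩ := hall i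
  let X' := (D.obj i).left
  let f' : X' ⟶ S := (D.obj i).hom
  have : IsIso e.inv.left := inferInstanceAs (IsIso ((Over.forget S).map e.inv))
  let ι₁ : X ⟶ X' := e.inv.left ≫ (c.π.app i).left
  have hι₁ : ι₁ ≫ f' = f := by
    show (e.inv.left ≫ _) ≫ _ = _
    rw [Category.assoc, Over.w (c.π.app i)]
    exact Over.w e.inv
  have : CompactSpace X' := QuasiCompact.compactSpace_of_compactSpace f'
  have : QuasiSeparatedSpace X' := quasiSeparatedSpace_of_quasiSeparated f'
  -- models over schemes of finite type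
  obtain ⟨P⟩ := LimLib.nonempty_ftSystem S
  have : ∀ (i j : P.Jᵒᵖ) (a : i ⟶ j), IsAffineHom (P.D.map a) := fun _ _ a => P.isAffineHom a
  have : ∀ j, CompactSpace (P.D.obj j) := P.compactSpace
  have (j : P.Jᵒᵖ) : LocallyOfFiniteType (specULiftZIsTerminal.from (P.D.obj j)) := P.lft j
  have (j : P.Jᵒᵖ) : IsLocallyNoetherian (P.D.obj j) :=
    LocallyOfFiniteType.isLocallyNoetherian (specULiftZIsTerminal.from (P.D.obj j))
  let cS : Limits.Cone P.D := Limits.Cone.mk S P.π
  obtain ⟨hcS⟩ := P.isLimit
  obtain ⟨j, W, w, g, hw, hWc, hWq, sq⟩ := LimLib.hasModel (c := cS) hcS f'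
  obtain ⟨k, φ, hk⟩ := LimLib.descends_isProper P.D cS hcS inferInstance inferInstance inferInstance
    j W w hWc hWq inferInstance X' g f' sq hpr
  -- restrict to the stages over `k`
  let F : Over (Over.mk φ : Over j) ⥤ Over j := Over.forget _
  have hcX := LimLib.isLimitBcCone (D := P.D) (c := cS) hcS sq
  let cW := (LimLib.bcCone (D := P.D) (c := cS) sq).whisker F
  have hcW : Limits.IsLimit cW := (Functor.Initial.isLimitWhiskerEquiv F _).symm hcX
  let G : Over (Over.mk φ : Over j) ⥤ P.Jᵒᵖ := F ⋙ Over.forget j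
  have hcG : Limits.IsLimit (cS.whisker G) :=
    (Functor.Initial.isLimitWhiskerEquiv G _).symm hcS
  have (a b : Over (Over.mk φ : Over j)) (u : a ⟶ b) :
      IsAffineHom ((F ⋙ LimLib.bcDiag P.D j w).map u) :=
    inferInstanceAs (IsAffineHom ((LimLib.bcDiag P.D j w).map _))
  have (a : Over (Over.mk φ : Over j)) : QuasiSeparatedSpace ((F ⋙ LimLib.bcDiag P.D j w).obj a) :=
    inferInstanceAs (QuasiSeparatedSpace ((LimLib.bcDiag P.D j w).obj _))
  let ι : X ⟶ cW.pt := ι₁
  have : IsClosedImmersion ι := inferInstanceAs (IsClosedImmersion (e.inv.left ≫ (c.π.app i).left))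
  obtain ⟨hlim⟩ := LimLib.nonempty_isLimit_imageCone (c := cW) ι hcW
  let ψ : LimLib.imageDiag (c := cW) ι ⟶ G ⋙ P.D :=
    LimLib.imageDiagι ι ≫ Functor.whiskerLeft F (LimLib.bcι P.D j w)
  refine ⟨Over (Over.mk φ : Over j), inferInstance, inferInstance, LimLib.imageDiag ι, G ⋙ P.D, ψ,
    LimLib.imageCone ι, cS.whisker G, hlim, hcG, Iso.refl _, Iso.refl _,
    fun a b u => ⟨inferInstance, P.isAffineHom _⟩, fun a => ⟨?_, P.compactSpace _, P.lft _⟩,
    fun a => ?_⟩
  · have hprop : IsProper ((LimLib.bcι P.D j w).app a.left) := by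
      refine LimLib.property_of_factor (P := @IsProper) (IsPullback.of_hasPullback _ _)
        (IsPullback.of_hasPullback _ _) (P.D.map a.hom.left) ?_ hk
      rw [← P.D.map_comp]
      exact congrArg P.D.map (Over.w a.hom)
    show IsProper ((LimLib.imageDiagι ι).app a ≫ (LimLib.bcι P.D j w).app a.left)
    infer_instance
  · show (LimLib.imageCone ι).π.app a ≫ (LimLib.imageDiagι ι).app a ≫
      (LimLib.bcι P.D j w).app a.left = 𝟙 X ≫ f ≫ 𝟙 S ≫ cS.π.app a.left.left
    rw [← Category.assoc, LimLib.imageCone_fac, Category.id_comp, Category.id_comp, ← hι₁,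
      Category.assoc, Category.assoc]
    exact congrArg (ι₁ ≫ ·) (LimLib.isPullback_bcCone (c := cS) sq a.left).w

end Groth.Agent.S2147
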