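import Groth.Statements.S0402
import Groth.Agent.FlatMisc.FibreDimScheme

set_option autoImplicit false
universe u
open FlatMor

namespace Groth.Agent.S0402

open AlgebraicGeometry CategoryTheory Limits in
/-- For a morphism locally of finite type and an integer n, the points of the source at which the fibre
through them has local dimension at most n form an open set (upper semicontinuity of fibre dimension
on the source). -/
theorem result {X S : Scheme.{u}} (f : X ⟶ S) [LocallyOfFiniteType f] (n : ℕ) :
    IsOpen {x : X | FlatMor.fibreDimAt f x ≤ n} := by
  exact Groth.Agent.FlatMisc.FibreDimScheme.isOpen_fibreDimAt_le f n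

end Groth.Agent.S0402
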