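import Groth.Statements.S0404
import Groth.Agent.DimSpec.Scheme
import Groth.Agent.Wt.GenFibDim
import Groth.Agent.LimTop.Closure
import Mathlib.AlgebraicGeometry.Morphisms.UniversallyOpen
-- import your own Groth.Agent.* helpers here

set_option autoImplicit false
universe u
open FlatMor

namespace Groth.Agent.S0404

open AlgebraicGeometry CategoryTheory Limits in
/-- For a flat morphism of finite presentation (here: flat, quasi-compact, quasi-separated and locally
of finite presentation) the dimension of the fibre is a lower semicontinuous function on the target. -/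
theorem result {X S : Scheme.{u}} (f : X ⟶ S) [Flat f] [LocallyOfFinitePresentation f] [QuasiCompact f] [QuasiSeparated f] (c : WithBot ℕ∞) :
    IsOpen {s : S | c < topologicalKrullDim (f.fiber s)} := by
  rw [← isClosed_compl_iff]
  have heq : {s : S | c < topologicalKrullDim (f.fiber s)}ᶜ =
      ConsPropPair.locusPair (fun (X _ _ : Scheme.{u}) _ _ => topologicalKrullDim X ∈ {d | ¬ c < d}) f f :=
    rfl
  have hcons : Topology.IsLocallyConstructible {s : S | c < topologicalKrullDim (f.fiber s)}ᶜ := by
    rw [heq]
    exact Groth.Agent.ConsPairLib.isLocallyConstructible_locusPair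
      (Groth.Agent.Wt.GenFib.isConsPair_topDim _) f f
  refine isClosed_of_closure_subset fun y hy => ?_
  obtain ⟨z, hz, hzy⟩ := Groth.Agent.LimTop.exists_specializes_of_mem_closure
    (Groth.Agent.LimTop.isProConstructible_of_isLocallyConstructible hcons) hy
  intro hcy
  refine hz (show c < topologicalKrullDim (f.fiber z) from lt_of_lt_of_le (show c < topologicalKrullDim (f.fiber y) from hcy) ?_)
  have h := Groth.Agent.DimSpec.dim_clSet_le (f := f) (ι := PUnit.{u+1}) (fun _ => f) (fun _ => 𝟙 X)
    (fun _ => Category.id_comp f) hzy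
  have hcl : ∀ t : S, topologicalKrullDim (Groth.Agent.DimSpec.clSet f (fun _ : PUnit.{u+1} => 𝟙 X) t) =
      topologicalKrullDim (f.fiber t) := fun t => by
    have : Groth.Agent.DimSpec.clSet f (fun _ : PUnit.{u+1} => 𝟙 X) t = f ⁻¹' {t} := by
      refine Set.Subset.antisymm Set.inter_subset_left fun x hx => ⟨hx, subset_closure ⟨?_, hx⟩⟩
      exact Set.mem_iUnion.mpr ⟨PUnit.unit, x, rfl⟩
    rw [this]
    exact (f.fiberHomeo t).symm.isHomeomorph.topologicalKrullDim_eq
  rwa [hcl, hcl] at h

end Groth.Agent.S0404
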