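import Groth.Statements.S10727
import Groth.Agent.EtGlueLib.Beauville

set_option autoImplicit false
universe u
open TensorProduct
open EtAlg

namespace Groth.Agent.S10727

/-- Glueing affine schemes along a glueing pair, stated for their coordinate rings. Let `(R → R', f)` be
a glueing pair, `A₁` an `R`-algebra in which `f` is invertible, `A'` an `R'`-algebra and `φ : A'_f ≅
R' ⊗_R A₁` an isomorphism of `R'`-algebras. Then there is an `R`-algebra `A`, glueable as an
`R`-module, with isomorphisms `A_f ≅ A₁` of `R`-algebras and `R' ⊗_R A ≅ A'` of `R'`-algebras under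
which `φ` is the canonical identification `(R' ⊗_R A)_f = R' ⊗_R A_f`. (The published statement is
that base change is an equivalence between affine schemes over `Spec R` that are glueable and
triples of affine schemes over `Spec R_f`, `Spec R'_f`, `Spec R'` with cartesian squares; this row
states only that every such triple arises, on coordinate rings.) -/
theorem result (R : Type u) [CommRing R] (R' : Type u) [CommRing R'] [Algebra R R']
    (f : R) (hRR' : EtGlue.IsGlueingPair R R' f) (A₁ : Type u) [CommRing A₁] [Algebra R A₁]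
    (h₁ : IsUnit (algebraMap R A₁ f)) (A' : Type u) [CommRing A'] [Algebra R A'] [Algebra R' A']
    [IsScalarTower R R' A'] (φ : Localization.Away (algebraMap R A' f) ≃ₐ[R'] R' ⊗[R] A₁) :
    ∃ (A : Type u) (_ : CommRing A) (_ : Algebra R A) (_ : EtGlue.IsGlueable R R' f A)
      (e₁ : Localization.Away (algebraMap R A f) ≃ₐ[R] A₁) (e' : R' ⊗[R] A ≃ₐ[R'] A'),
      ∀ a : A, φ (algebraMap A' (Localization.Away (algebraMap R A' f)) (e' ((1 : R') ⊗ₜ[R] a))) =
        (1 : R') ⊗ₜ[R] e₁ (algebraMap A (Localization.Away (algebraMap R A f)) a) := by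
  classical
  let g := algebraMap R A' f
  have hsub : Algebra.algebraMapSubmonoid A' (Submonoid.powers (algebraMap R R' f)) = Submonoid.powers g := by
    rw [Algebra.algebraMapSubmonoid_powers, ← IsScalarTower.algebraMap_apply]
  let loc : A' →ₗ[R'] Localization.Away g := (IsScalarTower.toAlgHom R' A' (Localization.Away g)).toLinearMap
  haveI : IsLocalizedModule (Submonoid.powers (algebraMap R R' f)) loc :=
    isLocalizedModule_iff_isLocalization.mpr (by rw [hsub]; exact (inferInstance : IsLocalization.Away g (Localization.Away g)))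
  let α : LocalizedModule (Submonoid.powers (algebraMap R R' f)) A' ≃ₗ[R'] R' ⊗[R] A₁ :=
    (IsLocalizedModule.iso (Submonoid.powers (algebraMap R R' f)) loc).trans φ.toLinearEquiv
  have hα : ∀ x : A', Groth.Agent.EtGlueLib.toTensor α x = φ (algebraMap A' _ x) := fun x => by
    show φ (IsLocalizedModule.iso (Submonoid.powers (algebraMap R R' f)) loc (LocalizedModule.mk x 1)) = _
    rw [IsLocalizedModule.iso_mk_one]
    rfl
  have hf : Function.Bijective fun x : A₁ => f • x := by
    simp_rw [Algebra.smul_def]
    exact ⟨fun x y => h₁.mul_left_cancel, fun y => ⟨↑h₁.unit⁻¹ * y, by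
      show _ * (_ * _) = _
      rw [← mul_assoc, IsUnit.mul_val_inv, one_mul]⟩⟩
  have hmem : ∀ {z : A' × A₁}, z ∈ Groth.Agent.EtGlueLib.glued α ↔
      φ (algebraMap A' _ z.1) = (1 : R') ⊗ₜ[R] z.2 := fun {z} => by
    rw [Groth.Agent.EtGlueLib.mem_glued, hα]
  let A : Subalgebra R (A' × A₁) := (Groth.Agent.EtGlueLib.glued α).toSubalgebra
    (hmem.mpr (by simp [Algebra.TensorProduct.one_def]))
    (fun x y hx hy => hmem.mpr (by
      rw [Prod.fst_mul, Prod.snd_mul, map_mul, map_mul, hmem.mp hx, hmem.mp hy,
        Algebra.TensorProduct.tmul_mul_tmul, one_mul]))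
  have hglue : EtGlue.IsGlueable R R' f A := Groth.Agent.EtGlueLib.isGlueable_glued hRR' hf α
  let p₁ : A →ₐ[R] A' := (AlgHom.fst R A' A₁).comp A.val
  let p₂ : A →ₐ[R] A₁ := (AlgHom.snd R A' A₁).comp A.val
  letI : Algebra A A₁ := p₂.toRingHom.toAlgebra
  haveI : IsScalarTower R A A₁ := IsScalarTower.of_algebraMap_eq fun r => (p₂.commutes r).symm
  have h2 : IsLocalizedModule (Submonoid.powers f) (IsScalarTower.toAlgHom R A A₁).toLinearMap :=
    Groth.Agent.EtGlueLib.isLocalizedModule_gluedSnd hf α
  haveI : IsLocalization.Away (algebraMap R A f) A₁ := by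
    have := isLocalizedModule_iff_isLocalization.mp h2
    rwa [Algebra.algebraMapSubmonoid_powers] at this
  let e₁ : Localization.Away (algebraMap R A f) ≃ₐ[R] A₁ :=
    (IsLocalization.algEquiv (Submonoid.powers (algebraMap R A f)) (Localization.Away (algebraMap R A f)) A₁).restrictScalars R
  let ψ : R' ⊗[R] A →ₐ[R'] A' := Algebra.TensorProduct.lift (Algebra.ofId R' A') p₁ (fun _ _ => mul_comm _ _)
  have hψ : Function.Bijective ψ := by
    have hψ' : (ψ : R' ⊗[R] A → A') = LinearMap.liftBaseChange R' (Groth.Agent.EtGlueLib.gluedFst α) := by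
      funext z
      induction z with
      | zero => rw [map_zero]; exact (map_zero _).symm
      | tmul r a =>
        erw [Algebra.TensorProduct.lift_tmul]
        refine Eq.trans ?_ (LinearMap.liftBaseChange_tmul (A := R') (l := Groth.Agent.EtGlueLib.gluedFst α) (x := r) (y := a)).symm
        rw [Algebra.smul_def]
        rfl
      | add x y hx hy => rw [map_add, hx, hy]; exact (map_add _ _ _).symm
    rw [hψ']
    exact Groth.Agent.EtGlueLib.liftBaseChange_gluedFst_bijective hRR' hf α
  refine ⟨A, inferInstance, inferInstance, hglue, e₁, AlgEquiv.ofBijective ψ hψ, fun a => ?_⟩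
  have h1 : ψ ((1 : R') ⊗ₜ[R] a) = p₁ a := by
    erw [Algebra.TensorProduct.lift_tmul]
    rw [map_one, one_mul]
  have he : e₁ (algebraMap A _ a) = p₂ a :=
    (IsLocalization.algEquiv (Submonoid.powers (algebraMap R A f)) (Localization.Away (algebraMap R A f)) A₁).commutes a
  rw [he, AlgEquiv.ofBijective_apply, h1]
  exact hmem.mp a.2

end Groth.Agent.S10727
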