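import Groth.Statements.S10706
import Groth.Agent.S2005
import Groth.Agent.AlgSpB.Points
import Mathlib.RingTheory.Flat.FaithfullyFlat.Basic
import Mathlib.AlgebraicGeometry.AffineScheme

set_option autoImplicit false
set_option backward.isDefEq.respectTransparency false
set_option backward.isDefEq.respectTransparency.types false
universe u
open CategoryTheory CategoryTheory.Limits AlgebraicGeometry TensorProduct
open AlgSp

namespace Groth.Agent.S10706

section Algebra

variable {R R' : Type u} [CommRing R] [CommRing R'] [Algebra R R'] {f : R}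

/-- No torsion element is killed by `R → R'`. -/
def TorInj (R' : Type u) [CommRing R'] [Algebra R R'] (f : R) (A : Type u) [AddCommGroup A] [Module R A] : Prop :=
  ∀ m : A, (∃ n : ℕ, f ^ n • m = 0) → (1 : R') ⊗ₜ[R] m = 0 → m = 0

theorem glueable_iff (h : EtGlue.IsGlueingPair R R' f) (A : Type u) [AddCommGroup A] [Module R A] :
    EtGlue.IsGlueable R R' f A ↔ TorInj R' f A :=
  (Groth.Agent.S2005.result R R' f h.1 A).2 h

variable {A B : Type u} [CommRing A] [CommRing B] [Algebra R A] [Algebra R B] [Algebra A B] [IsScalarTower R A B]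

/-- Torsion injectivity passes to flat algebras. -/
theorem torInj_of_flat [Module.Flat A B] (h : TorInj R' f A) : TorInj R' f B := by
  rintro b ⟨n, hn⟩ hb
  let a : A := algebraMap R A (f ^ n)
  let N : Submodule A A := LinearMap.ker (LinearMap.mulLeft A a)
  let ψ : A →ₗ[A] A ⊗[R] R' := LinearMap.toSpanSingleton A _ ((1 : A) ⊗ₜ[R] (1 : R'))
  have hψ : Function.Injective (ψ ∘ₗ N.subtype) := by
    refine (injective_iff_map_eq_zero _).2 fun x hx => Subtype.ext (h x.1 ⟨n, ?_⟩ ?_)
    · have := x.2
      rwa [LinearMap.mem_ker, LinearMap.mulLeft_apply, ← Algebra.smul_def] at this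
    · have e : (x.1 : A) ⊗ₜ[R] (1 : R') = 0 := by
        simpa [ψ, TensorProduct.smul_tmul', mul_one] using hx
      simpa using congrArg (TensorProduct.comm R A R') e
  have ha : a • b = 0 := by rw [algebraMap_smul]; exact hn
  obtain ⟨t, ht⟩ : ∃ t : B ⊗[A] N, TensorProduct.rid A B (LinearMap.lTensor B N.subtype t) = b := by
    have ex : Function.Exact N.subtype (LinearMap.mulLeft A a) :=
      fun x => ⟨fun hx => ⟨⟨x, hx⟩, rfl⟩, by rintro ⟨y, rfl⟩; exact y.2⟩
    obtain ⟨t, ht⟩ := (Module.Flat.lTensor_exact B ex (b ⊗ₜ[A] (1 : A))).1 (by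
      rw [LinearMap.lTensor_tmul, LinearMap.mulLeft_apply, mul_one, ← mul_one a, ← smul_eq_mul,
        TensorProduct.tmul_smul, TensorProduct.smul_tmul', ha, TensorProduct.zero_tmul])
    exact ⟨t, by rw [ht]; simp⟩
  let Φ : B ⊗[A] (A ⊗[R] R') →ₗ[A] B ⊗[R] R' :=
    (TensorProduct.AlgebraTensorModule.cancelBaseChange R A A B R').toLinearMap
  have key : ∀ s : B ⊗[A] N, Φ (LinearMap.lTensor B (ψ ∘ₗ N.subtype) s) =
      (TensorProduct.rid A B (LinearMap.lTensor B N.subtype s)) ⊗ₜ[R] (1 : R') := by
    intro s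
    induction s with
    | zero => simp
    | tmul x y => simp [Φ, ψ, TensorProduct.smul_tmul']
    | add x y hx hy => simp only [map_add, hx, hy, TensorProduct.add_tmul]
  have h0 : b ⊗ₜ[R] (1 : R') = 0 := by
    simpa using congrArg (TensorProduct.comm R R' B) hb
  have : t = 0 := by
    refine Module.Flat.lTensor_preserves_injective_linearMap (M := B) _ hψ ?_
    refine (TensorProduct.AlgebraTensorModule.cancelBaseChange R A A B R').injective ?_
    change Φ _ = Φ _
    rw [key t, ht, h0, map_zero, map_zero]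
  rw [← ht, this, map_zero, map_zero]

/-- An element killed in flat algebras hitting every prime is zero. -/
theorem eq_zero_of_flat_cover (m : A)
    (h : ∀ p : PrimeSpectrum A, ∃ (B : Type u) (_ : CommRing B) (_ : Algebra A B) (_ : Module.Flat A B)
      (q : PrimeSpectrum B), q.asIdeal.comap (algebraMap A B) = p.asIdeal ∧ algebraMap A B m = 0) : m = 0 := by
  by_contra hm
  have htop : Ideal.torsionOf A A m ≠ ⊤ := fun e => hm (by
    have : (1 : A) ∈ Ideal.torsionOf A A m := e ▸ trivial
    simpa using this)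
  obtain ⟨M, hM, hle⟩ := Ideal.exists_le_maximal _ htop
  obtain ⟨B, _, _, _, q, hq, hmB⟩ := h ⟨M, hM.isPrime⟩
  have hexact : Function.Exact (Ideal.torsionOf A A m).subtype (LinearMap.toSpanSingleton A A m) :=
    fun x => ⟨fun hx => ⟨⟨x, hx⟩, rfl⟩, by rintro ⟨y, rfl⟩; exact y.2⟩
  obtain ⟨t, ht⟩ := (Module.Flat.lTensor_exact B hexact ((1 : B) ⊗ₜ[A] (1 : A))).1 (by
    rw [LinearMap.lTensor_tmul, LinearMap.toSpanSingleton_apply, one_smul]
    refine (TensorProduct.rid A B).injective ?_
    rw [TensorProduct.rid_tmul, map_zero, Algebra.smul_def, hmB, zero_mul])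
  have hall : ∀ s : B ⊗[A] (Ideal.torsionOf A A m),
      TensorProduct.rid A B (LinearMap.lTensor B (Ideal.torsionOf A A m).subtype s) ∈ q.asIdeal := by
    intro s
    induction s with
    | zero => simp
    | tmul x y =>
      have hy : algebraMap A B y.1 ∈ q.asIdeal := Ideal.mem_comap.1 (hq.symm ▸ hle y.2)
      simpa [Algebra.smul_def] using q.asIdeal.mul_mem_right x hy
    | add x y hx hy => simpa using q.asIdeal.add_mem hx hy
  have := hall t
  rw [ht, TensorProduct.rid_tmul, one_smul] at this
  exact q.isPrime.ne_top ((Ideal.eq_top_iff_one _).2 this)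

/-- Torsion injectivity descends along flat covers. -/
theorem torInj_of_cover (h : ∀ p : PrimeSpectrum A, ∃ (B : Type u) (_ : CommRing B) (_ : Algebra R B) (_ : Algebra A B)
    (_ : IsScalarTower R A B) (_ : Module.Flat A B) (q : PrimeSpectrum B),
      q.asIdeal.comap (algebraMap A B) = p.asIdeal ∧ TorInj R' f B) : TorInj R' f A := by
  rintro m ⟨n, hn⟩ hm
  refine eq_zero_of_flat_cover m fun p => ?_
  obtain ⟨B, _, _, _, _, _, q, hq, hB⟩ := h p
  refine ⟨B, inferInstance, inferInstance, inferInstance, q, hq, hB _ ⟨n, ?_⟩ ?_⟩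
  · rw [← IsScalarTower.toAlgHom_apply R, ← map_smul, hn, map_zero]
  · rw [← IsScalarTower.toAlgHom_apply R]
    have := congrArg (LinearMap.lTensor R' (IsScalarTower.toAlgHom R A B).toLinearMap) hm
    simpa using this

end Algebra

variable {R : Type u} [CommRing R]

/-- `Spec A` over `Spec R`. -/
noncomputable abbrev spec (A : Type u) [CommRing A] [Algebra R A] : Over (Spec (CommRingCat.of R)) :=
  Over.mk (Spec.map (CommRingCat.ofHom (algebraMap R A)))

/-- An affine neighbourhood, as a spectrum. -/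
theorem exists_affine_nhd (W : Over (Spec (CommRingCat.of R))) (w : W.left) :
    ∃ (B : Type u) (_ : CommRing B) (_ : Algebra R B) (ι : spec (R := R) B ⟶ W) (b : (spec (R := R) B).left),
      IsOpenImmersion ι.left ∧ ι.left b = w := by
  obtain ⟨_, ⟨V, hV, rfl⟩, hx, -⟩ := W.left.isBasis_affineOpens.exists_subset_of_mem_open
    (Set.mem_univ w) isOpen_univ
  let V' : W.left.Opens := V
  obtain ⟨φ, hφ⟩ := Spec.map_surjective (hV.fromSpec ≫ W.hom)
  let : Algebra R Γ(W.left, V') := φ.hom.toAlgebra
  obtain ⟨b, hb⟩ : w ∈ Set.range hV.fromSpec := by rw [hV.range_fromSpec]; exact hx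
  exact ⟨Γ(W.left, V'), inferInstance, inferInstance, Over.homMk hV.fromSpec hφ.symm, b,
    inferInstanceAs (IsOpenImmersion hV.fromSpec), hb⟩

/-- A map of spectra over `Spec R` comes from an algebra map. -/
theorem exists_algHom {A B : Type u} [CommRing A] [CommRing B] [Algebra R A] [Algebra R B]
    (g : spec (R := R) B ⟶ spec (R := R) A) :
    ∃ φ : A →ₐ[R] B, Spec.map (CommRingCat.ofHom φ.toRingHom) = g.left := by
  obtain ⟨ψ, hψ⟩ := Spec.map_surjective g.left
  have w : CommRingCat.ofHom (algebraMap R A) ≫ ψ = CommRingCat.ofHom (algebraMap R B) :=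
    Spec.map_injective (by rw [Spec.map_comp, hψ]; exact Over.w g)
  exact ⟨{ ψ.hom with commutes' := fun r => congrArg (fun m => (CommRingCat.Hom.hom m) r) w }, hψ⟩

/-- Let `(R → R', f)` be a glueing pair and `Y` an algebraic space over `Spec R`. The following are
equivalent: (1) there is an etale covering of `Y` by affine schemes `Spec A_k` with every `A_k`
glueable as an `R`-module; (2) for every affine scheme `Spec A` etale over `Y`, the `R`-module `A`
is glueable. -/
theorem result (R : Type u) [CommRing R] (R' : Type u) [CommRing R'] [Algebra R R']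
    (f : R) (hRR' : EtGlue.IsGlueingPair R R' f) (Y : AlgSp.Space (Spec (CommRingCat.of R))) :
    (∃ (ι : Type u) (A : ι → Type u) (_ : ∀ k, CommRing (A k)) (_ : ∀ k, Algebra R (A k))
        (g : ∀ k, (AlgSp.yon (Spec (CommRingCat.of R))).obj (Over.mk (Spec.map (CommRingCat.ofHom (algebraMap R (A k)))) : Over (Spec (CommRingCat.of R))) ⟶ Y.obj),
        (∀ k, AlgSp.RepWith @Etale (g k)) ∧ (∀ y : AlgSp.Points Y.obj, ∃ k, y ∈ Set.range (AlgSp.Points.map (g k))) ∧
          ∀ k, EtGlue.IsGlueable R R' f (A k)) ↔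
      (∀ (A : Type u) [CommRing A] [Algebra R A]
      (g : (AlgSp.yon (Spec (CommRingCat.of R))).obj (Over.mk (Spec.map (CommRingCat.ofHom (algebraMap R A))) : Over (Spec (CommRingCat.of R))) ⟶ Y.obj),
      AlgSp.RepWith @Etale g → EtGlue.IsGlueable R R' f A) := by
  constructor
  · rintro ⟨ι, Ak, _, _, g, hg, hcov, hglue⟩ A _ _ a ha
    rw [glueable_iff hRR']
    refine torInj_of_cover fun p => ?_
    let T := Over.mk (Spec.map (CommRingCat.ofHom (algebraMap R A)))
    obtain ⟨k, z, hz⟩ := hcov (Points.ofPt a (p : T.left))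
    obtain ⟨W, fst, snd, sq⟩ := Groth.Agent.AlgSpB.exists_pullback_yon ha.1 (g k)
    have hfst : Etale fst.left := (hg k).2 _ _ _ sq.flip
    have hsnd : Etale snd.left := ha.2 _ _ _ sq
    rw [← Points.ofScheme_toScheme _ z, ← Points.ofPt_eq_map_ofScheme] at hz
    obtain ⟨w, hw, -⟩ := (Groth.Agent.AlgSpB.ofPt_eq_ofPt_iff sq (p : T.left) _).1 hz.symm
    obtain ⟨B, _, _, i, b, hi, hb⟩ := exists_affine_nhd W w
    obtain ⟨φ₁, hφ₁⟩ := exists_algHom (A := A) (i ≫ fst)
    obtain ⟨φ₂, hφ₂⟩ := exists_algHom (A := Ak k) (i ≫ snd)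
    have h1 : φ₁.toRingHom.Flat := by
      have : Etale (i ≫ fst).left := inferInstanceAs (Etale (i.left ≫ fst.left))
      exact HasRingHomProperty.Spec_iff.1 (show Flat (Spec.map (CommRingCat.ofHom φ₁.toRingHom)) by
        rw [hφ₁]; infer_instance)
    have h2 : φ₂.toRingHom.Flat := by
      have : Etale (i ≫ snd).left := inferInstanceAs (Etale (i.left ≫ snd.left))
      exact HasRingHomProperty.Spec_iff.1 (show Flat (Spec.map (CommRingCat.ofHom φ₂.toRingHom)) by
        rw [hφ₂]; infer_instance)
    have hbp : Spec.map (CommRingCat.ofHom φ₁.toRingHom) b = p := by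
      rw [hφ₁]
      change fst.left (i.left b) = _
      rw [hb, hw]
    let : Algebra A B := φ₁.toRingHom.toAlgebra
    let : Algebra (Ak k) B := φ₂.toRingHom.toAlgebra
    have : IsScalarTower R A B := IsScalarTower.of_algebraMap_eq fun r => (φ₁.commutes r).symm
    have : IsScalarTower R (Ak k) B := IsScalarTower.of_algebraMap_eq fun r => (φ₂.commutes r).symm
    have : Module.Flat (Ak k) B := h2
    exact ⟨B, inferInstance, inferInstance, inferInstance, inferInstance, h1, b,
      congrArg PrimeSpectrum.asIdeal hbp, torInj_of_flat ((glueable_iff hRR' _).1 (hglue k))⟩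
  · intro h
    obtain ⟨U, p, hp, hps⟩ := Y.property.atlas
    choose A _ _ i b hi hb using fun x : U.left => exists_affine_nhd U x
    have hg : ∀ x, RepWith @Etale ((yon _).map (i x) ≫ p) := fun x => by
      have := hi x
      exact Groth.Agent.AlgSpB.repWith_etale_map_comp (i x) hp
    refine ⟨U.left, A, inferInstance, inferInstance, fun x => (yon _).map (i x) ≫ p, hg, fun y => ?_,
      fun x => h _ _ (hg x)⟩
    obtain ⟨x, rfl⟩ := Groth.Agent.AlgSpB.surjective_ofPt hps y
    refine ⟨x, Points.ofScheme _ (b x), ?_⟩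
    rw [← Points.ofPt_eq_map_ofScheme, Groth.Agent.AlgSpB.ofPt_map_comp, hb]

end Groth.Agent.S10706
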