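import Groth.Statements.S5038
import Groth.Agent.Hensel.SmoothLift
import Mathlib.AlgebraicGeometry.Morphisms.Smooth

set_option autoImplicit false
open CategoryTheory AlgebraicGeometry
universe u
open Hensel

namespace Groth.Agent.S5038

/-- Let A be a henselian local ring with residue field k, S = Spec A, and f : X ⟶ S a smooth morphism.
Then the map from sections of f to k-points of the closed fibre is surjective: every u₀ : Spec k ⟶ X
lying over the closed point extends to a section u of f. -/
theorem result (A : Type u) [CommRing A] [HenselianLocalRing A]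
    {X : Scheme.{u}} (f : X ⟶ Spec (CommRingCat.of A)) [Smooth f]
    (u₀ : Spec (CommRingCat.of (IsLocalRing.ResidueField A)) ⟶ X)
    (h₀ : u₀ ≫ f = Spec.map (CommRingCat.ofHom (IsLocalRing.residue A))) :
    ∃ u : Spec (CommRingCat.of A) ⟶ X, u ≫ f = 𝟙 _ ∧
      Spec.map (CommRingCat.ofHom (IsLocalRing.residue A)) ≫ u = u₀ := by
  let m := IsLocalRing.maximalIdeal A
  let z : ↥(Spec (CommRingCat.of (IsLocalRing.ResidueField A))) :=
    (⊥ : PrimeSpectrum (IsLocalRing.ResidueField A))
  obtain ⟨U, hU, hxU, -⟩ := exists_isAffineOpen_mem_and_subset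
    (show u₀.base z ∈ (⊤ : X.Opens) from trivial)
  have hrange : Set.range u₀.base ⊆ Set.range hU.fromSpec.base := by
    rintro _ ⟨w, rfl⟩
    rw [hU.range_fromSpec]
    rwa [show w = z from Subsingleton.elim (α := PrimeSpectrum (IsLocalRing.ResidueField A)) w z]
  let v := IsOpenImmersion.lift hU.fromSpec u₀ hrange
  obtain ⟨φ, hφ⟩ := Spec.map_surjective (hU.fromSpec ≫ f)
  have hsm : φ.hom.Smooth := by
    have : Smooth (Spec.map φ) := by rw [hφ]; infer_instance
    exact (HasRingHomProperty.Spec_iff (P := @Smooth)).1 this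
  obtain ⟨ψ, hψ⟩ := Spec.map_surjective v
  letI : Algebra A Γ(X, U) := φ.hom.toAlgebra
  haveI : Algebra.Smooth A Γ(X, U) := RingHom.smooth_algebraMap.1 hsm
  have hc : φ ≫ ψ = CommRingCat.ofHom (IsLocalRing.residue A) := by
    apply Spec.map_injective
    rw [Spec.map_comp, hψ, hφ, ← Category.assoc, IsOpenImmersion.lift_fac, h₀]
  let σ : Γ(X, U) →ₐ[A] A ⧸ m :=
    { toRingHom := ψ.hom
      commutes' := fun a => RingHom.congr_fun (congrArg CommRingCat.Hom.hom hc) a }
  obtain ⟨τ, hτ⟩ := Hensel.exists_algHom_lift_smooth (I := m) _ σ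
  refine ⟨Spec.map (CommRingCat.ofHom τ.toRingHom) ≫ hU.fromSpec, ?_, ?_⟩
  · rw [Category.assoc, ← hφ, ← Spec.map_comp, ← Spec.map_id]
    congr 1
    ext a
    exact τ.commutes a
  · rw [← Category.assoc, ← Spec.map_comp, show CommRingCat.ofHom τ.toRingHom ≫
      CommRingCat.ofHom (IsLocalRing.residue A) = ψ from CommRingCat.hom_ext (RingHom.ext fun x =>
        DFunLike.congr_fun hτ x), hψ, IsOpenImmersion.lift_fac]

end Groth.Agent.S5038
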