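import Groth.Statements.S11306
import Mathlib.RingTheory.LocalRing.Module
import Mathlib.RingTheory.Flat.Basic
import Mathlib.LinearAlgebra.FiniteDimensional.Lemmas
import Mathlib.RingTheory.Localization.FractionRing
-- import your own Groth.Agent.* helpers here

set_option autoImplicit false
universe u
open TensorProduct
open CAlg

namespace Groth.Agent.S11306

/-- Take a Noetherian local domain A, with residue field k and fraction field K, and let M be a finitely
generated A-module. If k ⊗_A M and K ⊗_A M have the same dimension r (over k and over K
respectively), then M is a free A-module of rank r. -/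
theorem result (A : Type u) [CommRing A] [IsDomain A]
    [IsNoetherianRing A] [IsLocalRing A] (M : Type u) [AddCommGroup M] [Module A M] [Module.Finite A M] (r : ℕ)
    (hk : Module.finrank (IsLocalRing.ResidueField A) (IsLocalRing.ResidueField A ⊗[A] M) = r)
    (hK : Module.finrank (FractionRing A) (FractionRing A ⊗[A] M) = r) :
    Module.Free A M ∧ Module.finrank A M = r := by
  classical
  obtain ⟨n, g, hg, hn⟩ : ∃ (n : ℕ) (g : Fin n → M), Submodule.span A (Set.range g) = ⊤ ∧ n = r := by
    let b := Module.finBasisOfFinrankEq (IsLocalRing.ResidueField A) (IsLocalRing.ResidueField A ⊗[A] M) hk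
    have hs := fun i => LinearMap.range_eq_top.mp (TensorProduct.mk_surjective A M (IsLocalRing.ResidueField A) IsLocalRing.residue_surjective |> LinearMap.range_eq_top.mpr) (b i)
    choose g hg using hs
    exact ⟨r, g, IsLocalRing.span_eq_top_of_tmul_eq_basis g b hg, rfl⟩
  subst hn
  let l : (Fin n → A) →ₗ[A] M := Fintype.linearCombination A g
  have hl : Function.Surjective l := by
    rw [← LinearMap.range_eq_top, Fintype.range_linearCombination, hg]
  have hsurj : Function.Surjective (l.baseChange (FractionRing A)) :=
    LinearMap.lTensor_surjective (FractionRing A) hl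
  have hinj : Function.Injective (l.baseChange (FractionRing A)) := by
    refine (LinearMap.injective_iff_surjective_of_finrank_eq_finrank ?_).mpr hsurj
    rw [hK, Module.finrank_baseChange, Module.finrank_fin_fun]
  have hlinj : Function.Injective l := fun a b hab => by
    have : (1 : FractionRing A) ⊗ₜ[A] a = (1 : FractionRing A) ⊗ₜ[A] b := hinj (by simp [hab])
    exact Module.Flat.tensorProduct_mk_injective A (Fin n → A) (FractionRing A) this
  let e := LinearEquiv.ofBijective l ⟨hlinj, hl⟩
  exact ⟨Module.Free.of_equiv e, by rw [← e.finrank_eq, Module.finrank_fin_fun]⟩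

end Groth.Agent.S11306
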