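import Groth.Statements.S14436
import Mathlib
-- import your own Groth.Agent.* helpers here

set_option autoImplicit false
universe u
open CAlg

namespace Groth.Agent.S14436

/-- Let L/K be a finitely generated field extension which is separable in the sense that it has a
transcendence basis a_1, …, a_n over which L is a (finite) separable extension of K(a_1, …, a_n).
Then dim_L Ω_{L/K} = n, the transcendence degree of L over K. -/
theorem result (K L : Type u) [Field K] [Field L] [Algebra K L]
    (hfg : ∃ s : Finset L, IntermediateField.adjoin K (s : Set L) = ⊤)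
    (n : ℕ) (a : Fin n → L) (ha : IsTranscendenceBasis K a)
    (hsep : Algebra.IsSeparable ↥(IntermediateField.adjoin K (Set.range a)) L) :
    Module.finrank L (Ω[L⁄K]) = n := by
  let P := MvPolynomial (Fin n) K
  let F := FractionRing P
  have hind : AlgebraicIndependent K a := ha.1
  let φ : P →ₐ[K] L := MvPolynomial.aeval a
  let : Algebra P L := φ.toRingHom.toAlgebra
  have : IsScalarTower K P L := IsScalarTower.of_algebraMap_eq fun x => (φ.commutes x).symm
  have : FaithfulSMul P L := (faithfulSMul_iff_algebraMap_injective P L).mpr hind
  let : Algebra F L := FractionRing.liftAlgebra P L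
  have hsepF : Algebra.IsSeparable F L := by
    refine Algebra.IsSeparable.of_equiv_equiv (hind.aevalEquivField.symm.toRingEquiv) (RingEquiv.refl L) ?_
    refine RingHom.ext fun x => ?_
    obtain ⟨y, rfl⟩ := hind.aevalEquivField.surjective x
    simp only [RingHom.comp_apply, RingEquiv.toRingHom_eq_coe, RingEquiv.coe_toRingHom]
    rw [show hind.aevalEquivField.symm.toRingEquiv (hind.aevalEquivField y) = y from
      hind.aevalEquivField.symm_apply_apply y]
    obtain ⟨⟨r, s⟩, hy⟩ := IsLocalization.surj (M := nonZeroDivisors P) y
    have h1 := congrArg (algebraMap F L) hy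
    rw [map_mul, ← IsScalarTower.algebraMap_apply, ← IsScalarTower.algebraMap_apply] at h1
    have key : ∀ z : P, ((hind.aevalEquivField (algebraMap P F z) : _) : L) = algebraMap P L z :=
      fun z => hind.aevalEquivField_algebraMap_apply_coe z
    have h2 := congrArg (fun z => ((hind.aevalEquivField z : _) : L)) hy
    simp only [map_mul, MulMemClass.coe_mul] at h2
    have hs : algebraMap P L s ≠ 0 := fun h => nonZeroDivisors.coe_ne_zero s (hind (h.trans (map_zero _).symm))
    refine mul_right_cancel₀ hs ?_
    rw [h1]
    rw [← key, ← key]
    exact h2.symm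
  have := Algebra.FormallyEtale.of_isSeparable F L
  have := Algebra.FormallyEtale.of_isLocalization (Rₘ := F) (nonZeroDivisors P)
  have : Algebra.FormallyEtale P L := Algebra.FormallyEtale.comp P F L
  let b := (KaehlerDifferential.mvPolynomialBasis K (Fin n)).baseChange L
  let b' := b.map (KaehlerDifferential.tensorKaehlerEquivOfFormallyEtale K P L)
  rw [Module.finrank_eq_card_basis b', Fintype.card_fin]

end Groth.Agent.S14436
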