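import Groth.Statements.S11311
import Groth.Agent.S11306
import Groth.Agent.S14436
import Groth.Agent.VarDim.Algebra
import Groth.Agent.RegLoc.Basic
import Mathlib.RingTheory.Smooth.Kaehler
import Mathlib.RingTheory.Smooth.Basic
import Mathlib.RingTheory.Kaehler.TensorProduct
import Mathlib.FieldTheory.SeparablyGenerated
import Mathlib.RingTheory.EssentialFiniteness
-- import your own Groth.Agent.* helpers here

set_option autoImplicit false
universe u
open CAlg

namespace Groth.Agent.S11311


open scoped TensorProduct
open IsLocalRing
set_option linter.style.haveILetI false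

theorem finrank_cotangent_eq (k B : Type u) [Field k] [CommRing B] [Algebra k B] [IsLocalRing B]
    (hres : Function.Bijective (algebraMap k (ResidueField B))) :
    Module.finrank (ResidueField B) (CotangentSpace B) =
      Module.finrank (ResidueField B) (ResidueField B ⊗[B] Ω[B⁄k]) := by
  let κ := ResidueField B
  haveI : Subsingleton Ω[κ⁄k] := KaehlerDifferential.subsingleton_of_surjective k κ hres.2
  have hs : Function.Surjective (algebraMap B κ) := residue_surjective
  let ek : k ≃ₐ[k] κ := AlgEquiv.ofBijective (Algebra.ofId k κ) hres
  let g : κ →ₐ[k] B ⧸ (RingHom.ker (IsScalarTower.toAlgHom k B κ).toRingHom) ^ 2 := (Algebra.ofId k _).comp ek.symm.toAlgHom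
  obtain ⟨l, hl⟩ := (retractionKerCotangentToTensorEquivSection (R := k) (P := B) (S := κ) hs).symm ⟨g, AlgHom.ext fun x => by
    obtain ⟨c, rfl⟩ := ek.surjective x
    show (IsScalarTower.toAlgHom k B κ).kerSquareLift (Algebra.ofId k _ (ek.symm (ek c))) = ek c
    rw [AlgEquiv.symm_apply_apply]
    exact (IsScalarTower.toAlgHom k B κ).kerSquareLift.commutes c⟩
  let f := KaehlerDifferential.kerCotangentToTensor k B κ
  have hinj : Function.Injective f := fun a b h => by
    have := congrArg l h
    rwa [← LinearMap.comp_apply, ← LinearMap.comp_apply, hl] at this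
  have hsurj : Function.Surjective f := fun x =>
    ((KaehlerDifferential.exact_kerCotangentToTensor_mapBaseChange k B κ hs x).mp
      (Subsingleton.elim _ _))
  have hker : RingHom.ker (algebraMap B κ) = maximalIdeal B := ker_residue
  obtain ⟨e₀⟩ : Nonempty (CotangentSpace B ≃ₗ[B] (RingHom.ker (algebraMap B κ)).Cotangent) :=
    (fun {I J : Ideal B} (h : I = J) => h ▸ ⟨LinearEquiv.refl B I.Cotangent⟩ :
      ∀ {I J : Ideal B}, I = J → Nonempty (I.Cotangent ≃ₗ[B] J.Cotangent)) hker.symm
  let e := e₀.trans (LinearEquiv.ofBijective f ⟨hinj, hsurj⟩)
  exact (e.extendScalarsOfSurjective hs).finrank_eq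

theorem finrank_kaehler_fractionRing (k B : Type u) [Field k] [PerfectField k] [CommRing B] [IsDomain B]
    [IsLocalRing B] [Algebra k B] [Algebra.EssFiniteType k B]
    (hres : Function.Bijective (algebraMap k (ResidueField B)))
    (d : ℕ) (hd : ringKrullDim B = (d : WithBot ℕ∞)) :
    Module.finrank (FractionRing B) (FractionRing B ⊗[B] Ω[B⁄k]) = d := by
  let K := FractionRing B
  let S := Algebra.EssFiniteType.subalgebra k B
  let M := Algebra.EssFiniteType.submonoid k B
  haveI : IsLocalization M B := inferInstance
  haveI : Algebra.EssFiniteType k K := Algebra.EssFiniteType.comp k B K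
  let q : Ideal S := (maximalIdeal B).comap (algebraMap S B)
  haveI : q.IsMaximal := by
    refine Ideal.Quotient.maximal_of_isField _ (MulEquiv.isField (Field.toIsField k) ?_)
    let g : S →ₐ[k] ResidueField B := (IsScalarTower.toAlgHom k B (ResidueField B)).comp S.val
    have hg : Function.Surjective g := fun x => by
      obtain ⟨c, rfl⟩ := hres.2 x
      exact ⟨algebraMap k S c, g.commutes c⟩
    have hq : RingHom.ker g = q := by
      ext x
      exact residue_eq_zero_iff _
    exact ((Ideal.quotientEquivAlgOfEq k hq.symm).trans (Ideal.quotientKerAlgEquivOfSurjective hg)).toMulEquiv.trans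
      (AlgEquiv.ofBijective (Algebra.ofId k (ResidueField B)) hres).symm.toMulEquiv
  have hdim : ringKrullDim S = d := by
    rw [← Groth.Agent.VarDim.height_eq_ringKrullDim_of_isMaximal (k := k) (A := S) q, ← hd, ← maximalIdeal_height_eq_ringKrullDim]
    exact congrArg _ (IsLocalization.height_comap M (maximalIdeal B))
  have htr := Groth.Agent.VarDim.trdeg_eq_of_ringKrullDim_eq (k := k) (A := S) hdim
  haveI : Algebra.IsAlgebraic S K := by
    haveI : Algebra.IsAlgebraic S B := IsLocalization.isAlgebraic B M
    haveI : Algebra.IsAlgebraic B K := IsLocalization.isAlgebraic K (nonZeroDivisors B)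
    exact Algebra.IsAlgebraic.trans S B K
  have htK : Algebra.trdeg k K = d := by
    have h := trdeg_add_eq k S (A := K)
    rwa [trdeg_eq_zero (R := S) (A := K), add_zero, htr, eq_comm] at h
  obtain ⟨s, hs, hsep⟩ := exists_isTranscendenceBasis_and_isSeparable_of_perfectField k K
  have hcard : s.card = d := by
    have := hs.cardinalMk_eq_trdeg
    rw [htK, Cardinal.mk_coe_finset] at this
    exact_mod_cast this
  let a : Fin d → K := fun i => ((s.equivFinOfCardEq hcard).symm i : K)
  have ha : IsTranscendenceBasis k a := hs.comp_equiv (s.equivFinOfCardEq hcard).symm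
  have hr : Set.range a = (s : Set K) := by
    show Set.range ((fun x : s => (x : K)) ∘ (s.equivFinOfCardEq hcard).symm) = _
    rw [(s.equivFinOfCardEq hcard).symm.surjective.range_comp]
    simp
  have h := Groth.Agent.S14436.result k K (IntermediateField.fg_top k K) d a ha (hr.symm ▸ hsep)
  rw [← h]
  haveI := Algebra.FormallyEtale.of_isLocalization (Rₘ := K) (nonZeroDivisors B)
  exact (KaehlerDifferential.isBaseChange_of_formallyEtale k B K).equiv.finrank_eq

/-- Let k be a field and B a local ring containing k whose residue field is k (the composite k → B → B/m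
is bijective), and which is a localization of a finitely generated k-algebra (essentially of finite
type over k); let d = dim B. If the module of differentials Ω_{B/k} is free of rank d then B is a
regular local ring. Conversely, if k is perfect and B is a regular local ring, then Ω_{B/k} is free
of rank d. (The published statement assumes k perfect as one of its hypotheses and asserts the
equivalence; its proof of the first implication does not use perfectness, so that hypothesis is
placed on the converse only.) -/
theorem result (k B : Type u) [Field k] [CommRing B] [Algebra k B]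
    [IsLocalRing B] [Algebra.EssFiniteType k B]
    (hres : Function.Bijective (algebraMap k (IsLocalRing.ResidueField B)))
    (d : ℕ) (hd : ringKrullDim B = (d : WithBot ℕ∞)) :
    ((Module.Free B (KaehlerDifferential k B) ∧ Module.finrank B (KaehlerDifferential k B) = d) →
        IsRegularLocalRing B) ∧
      (PerfectField k → IsRegularLocalRing B →
        Module.Free B (KaehlerDifferential k B) ∧ Module.finrank B (KaehlerDifferential k B) = d) := by
  constructor
  · rintro ⟨hfree, hrk⟩
    haveI := hfree
    haveI : IsNoetherianRing B := Algebra.EssFiniteType.isNoetherianRing k B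
    rw [IsRegularLocalRing.iff_finrank_cotangentSpace, hd, finrank_cotangent_eq k B hres, Module.finrank_baseChange, hrk]
  · intro hperf hreg
    haveI : IsDomain B := Groth.Agent.RegLoc.isDomain B
    refine Groth.Agent.S11306.result B (Ω[B⁄k]) d ?_ (finrank_kaehler_fractionRing k B hres d hd)
    rw [← finrank_cotangent_eq k B hres]
    have := (IsRegularLocalRing.iff_finrank_cotangentSpace (R := B)).mp hreg
    rw [hd] at this
    exact_mod_cast this

end Groth.Agent.S11311
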