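import Groth.Statements.S1182
import Groth.Agent.Omega.SmoothNormalScheme

set_option autoImplicit false
universe u
open Desc

namespace Groth.Agent.S1182

/-- Let A → B be a smooth ring map. If A is a normal ring (all local rings integrally closed domains)
then so is B; and if moreover A → B is faithfully flat and B is normal, then A is normal. So
normality can be checked smooth-locally. -/
theorem result (A B : Type u) [CommRing A] [CommRing B] [Algebra A B] [Algebra.Smooth A B] :
    (EGA4.IsNormalRing A → EGA4.IsNormalRing B) ∧
    (Module.FaithfullyFlat A B → EGA4.IsNormalRing B → EGA4.IsNormalRing A) := by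
  refine ⟨fun hA q _ => ?_, fun hff hB p _ => ?_⟩
  · haveI := (hA (q.comap (algebraMap A B))).1
    haveI := (hA (q.comap (algebraMap A B))).2
    exact Omega.SmoothNormal.isNormal_localization (q.comap (algebraMap A B)) q rfl
  · obtain ⟨q, hq⟩ := PrimeSpectrum.comap_surjective_of_faithfullyFlat (A := A) (B := B) ⟨p, inferInstance⟩
    haveI : q.asIdeal.LiesOver p := ⟨(congrArg PrimeSpectrum.asIdeal hq).symm⟩
    letI := Localization.AtPrime.algebraOfLiesOver p q.asIdeal
    haveI : IsLocalHom (algebraMap (Localization.AtPrime p) (Localization.AtPrime q.asIdeal)) :=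
      Localization.isLocalHom_localRingHom p q.asIdeal (algebraMap A B) (congrArg PrimeSpectrum.asIdeal hq).symm
    haveI : Module.Flat (Localization.AtPrime p) (Localization.AtPrime q.asIdeal) := inferInstance
    haveI := Module.FaithfullyFlat.of_flat_of_isLocalHom (A := Localization.AtPrime p) (B := Localization.AtPrime q.asIdeal)
    haveI := (hB q.asIdeal).1
    haveI := (hB q.asIdeal).2
    exact Omega.SmoothNormal.isIntegrallyClosed_descend (A := Localization.AtPrime p) (B := Localization.AtPrime q.asIdeal)

end Groth.Agent.S1182
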