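import Groth.Statements.S2107
import Groth.Agent.FlatOpen.FibreLocal
import Groth.Agent.FlatOpen.SchemeMap
-- import your own Groth.Agent.* helpers here

set_option autoImplicit false
universe u
open CAlg

namespace Groth.Agent.S2107

/-- Let `R → S` be a local homomorphism of local rings with `S` essentially of finite presentation over
`R`, `M`, `N` finitely presented `S`-modules with `N` flat over `R`, and `u : M → N` an `S`-linear
map which is injective modulo `𝔪_R`. Then `u` is injective and its cokernel is flat over `R`. -/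
theorem result {R S M N : Type u} [CommRing R] [CommRing S] [IsLocalRing R]
    [IsLocalRing S] [Algebra R S] [IsLocalHom (algebraMap R S)] (hS : CAlgX.IsEssFinitePresentation R S)
    [AddCommGroup M] [Module S M] [Module R M] [IsScalarTower R S M] [Module.FinitePresentation S M]
    [AddCommGroup N] [Module S N] [Module R N] [IsScalarTower R S N] [Module.FinitePresentation S N] [Module.Flat R N]
    (u : M →ₗ[S] N)
    (hu : ∀ x : M, u x ∈ (IsLocalRing.maximalIdeal R).map (algebraMap R S) • (⊤ : Submodule S N) →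
      x ∈ (IsLocalRing.maximalIdeal R).map (algebraMap R S) • (⊤ : Submodule S M)) :
    Function.Injective u ∧ Module.Flat R (N ⧸ LinearMap.range u) := by
  classical
  obtain ⟨S₀, _, _, _, _, MS, hS₀, hloc⟩ := hS
  let Q := (IsLocalRing.maximalIdeal S).comap (algebraMap S₀ S)
  haveI hSq : IsLocalization.AtPrime S Q :=
    Groth.Agent.FlatOpen.atPrime_of_fractions (B := S₀) (C := S₀) (A := S) MS
      fun c => ⟨c, 1, one_mem _, by simp⟩
  letI : Module S₀ M := Module.compHom M (algebraMap S₀ S)
  haveI : IsScalarTower S₀ S M := IsScalarTower.of_algebraMap_smul fun _ _ => rfl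
  letI : Module S₀ N := Module.compHom N (algebraMap S₀ S)
  haveI : IsScalarTower S₀ S N := IsScalarTower.of_algebraMap_smul fun _ _ => rfl
  haveI : IsScalarTower R S₀ N := IsScalarTower.of_algebraMap_smul fun a x => by
    show algebraMap S₀ S (algebraMap R S₀ a) • x = a • x
    rw [← IsScalarTower.algebraMap_apply, algebraMap_smul]
  obtain ⟨M₀, _, _, gM, hfpM, hgM⟩ := Groth.Agent.FlatOpen.exists_fp_localized (A := S) Q.primeCompl M
  obtain ⟨N₀, _, _, gN, hfpN, hgN⟩ := Groth.Agent.FlatOpen.exists_fp_localized (A := S) Q.primeCompl N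
  obtain ⟨u₀, t, hu₀⟩ := Module.FinitePresentation.exists_lift_of_isLocalizedModule Q.primeCompl gN
    ((u.restrictScalars S₀).comp gM)
  have hu0 : ∀ m, gN (u₀ m) = (t : S₀) • u (gM m) := fun m => LinearMap.congr_fun hu₀ m
  have htu : IsUnit (algebraMap S₀ S (t : S₀)) := IsLocalization.map_units S t
  letI : Module R N₀ := Module.compHom N₀ (algebraMap R S₀)
  haveI : IsScalarTower R S₀ N₀ := IsScalarTower.of_algebraMap_smul fun _ _ => rfl
  letI : Module R M₀ := Module.compHom M₀ (algebraMap R S₀)
  haveI : IsScalarTower R S₀ M₀ := IsScalarTower.of_algebraMap_smul fun _ _ => rfl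
  have hflat : FlatCA.FlatAt R Q N₀ :=
    Module.Flat.of_linearEquiv ((IsLocalizedModule.iso Q.primeCompl gN).restrictScalars R)
  have hp : (Q.comap (algebraMap R S₀)).map (algebraMap R S₀) =
      (IsLocalRing.maximalIdeal R).map (algebraMap R S₀) := by
    simp only [Q, Ideal.comap_comap, ← IsScalarTower.algebraMap_eq]
    have hloc' : (IsLocalRing.maximalIdeal S).comap (algebraMap R S) = IsLocalRing.maximalIdeal R :=
      ((IsLocalRing.local_hom_TFAE (algebraMap R S)).out 0 4).1 ‹_›
    rw [hloc']
  have hmS : ((IsLocalRing.maximalIdeal R).map (algebraMap R S₀)).map (algebraMap S₀ S) =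
      (IsLocalRing.maximalIdeal R).map (algebraMap R S) := by
    rw [Ideal.map_map, ← IsScalarTower.algebraMap_eq]
  obtain ⟨hC, hinj⟩ := Groth.Agent.FlatOpen.injective_coker_flat_of_fibEq R S₀ u₀ Q hflat (fun m hm => by
    rw [hp] at hm ⊢
    have h1 := (Groth.Agent.FlatOpen.Scheme.mem_map_smul_top_iff (A := S) Q.primeCompl gN
      ((IsLocalRing.maximalIdeal R).map (algebraMap R S₀)) (u₀ m)).mpr
      ⟨1, one_mem _, by rwa [one_smul]⟩
    rw [hmS, hu0, ← algebraMap_smul S (t : S₀), Submodule.smul_mem_iff_of_isUnit _ htu] at h1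
    have h2 := hu _ h1
    rw [← hmS, Groth.Agent.FlatOpen.Scheme.mem_map_smul_top_iff (A := S) Q.primeCompl gM] at h2
    exact h2)
  constructor
  · have h3 : Function.Injective ((t : S₀) • u.restrictScalars S₀) :=
      (Groth.Agent.FlatOpen.Scheme.injective_localized_iff Q.primeCompl gM gN u₀ _ fun m => (hu0 m).symm).mpr hinj
    intro x y hxy
    exact h3 (by simp [hxy])
  · have hr : (LinearMap.range u₀).localized' S Q.primeCompl gN = LinearMap.range u := by
      refine le_antisymm ?_ ?_
      · rintro x ⟨_, ⟨m, rfl⟩, s, rfl⟩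
        have h4 : (s : S₀) • IsLocalizedModule.mk' gN (u₀ m) s ∈ LinearMap.range u := by
          rw [← Submonoid.smul_def, IsLocalizedModule.mk'_cancel', hu0, ← algebraMap_smul S (t : S₀)]
          exact Submodule.smul_mem _ _ ⟨_, rfl⟩
        rwa [← algebraMap_smul S (s : S₀), Submodule.smul_mem_iff_of_isUnit _ (IsLocalization.map_units S s)] at h4
      · rintro x ⟨y, rfl⟩
        obtain ⟨⟨m, s⟩, hs⟩ := IsLocalizedModule.surj Q.primeCompl gM y
        refine ⟨u₀ m, ⟨m, rfl⟩, t * s, ?_⟩
        rw [IsLocalizedModule.mk'_eq_iff, Submonoid.smul_def, Submonoid.coe_mul, mul_smul, hu0, ← hs,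
          Submonoid.smul_def, LinearMap.map_smul_of_tower]
    let q := Submodule.toLocalizedQuotient' S Q.primeCompl gN (LinearMap.range u₀)
    let e₁ : LocalizedModule Q.primeCompl (N₀ ⧸ LinearMap.range u₀) ≃ₗ[S₀] (N ⧸ LinearMap.range u) :=
      (IsLocalizedModule.iso Q.primeCompl q).trans ((Submodule.quotEquivOfEq _ _ hr).restrictScalars S₀)
    haveI : Module.Flat R (LocalizedModule Q.primeCompl (N₀ ⧸ LinearMap.range u₀)) := hC
    exact Module.Flat.of_linearEquiv (e₁.restrictScalars R).symm

end Groth.Agent.S2107
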