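import Groth.Statements.S1351
import Groth.Agent.S2107
import Groth.Agent.FlatMisc.ValuationEFT

set_option autoImplicit false
universe u
open FlatMor

namespace Groth.Agent.S1351

/-- Let A be a valuation ring, A → B a local homomorphism of local rings essentially of finite type, and
u : N → M a B-linear map of finite B-modules with M flat over A. If u is injective after tensoring
with the residue field of A (that is, modulo the maximal ideal of A), then u is injective and its
cokernel is flat over A. -/
theorem result {A B : Type u} [CommRing A] [IsDomain A] [ValuationRing A] [CommRing B] [IsLocalRing B]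
    [Algebra A B] [IsLocalHom (algebraMap A B)] [Algebra.EssFiniteType A B]
    {N M : Type u} [AddCommGroup N] [Module B N] [Module A N] [IsScalarTower A B N] [Module.Finite B N]
    [AddCommGroup M] [Module B M] [Module A M] [IsScalarTower A B M] [Module.Finite B M] [Module.Flat A M]
    (u : N →ₗ[B] M)
    (hu : Function.Injective (Submodule.mapQ (IsLocalRing.maximalIdeal A • ⊤ : Submodule A N) (IsLocalRing.maximalIdeal A • ⊤ : Submodule A M) (u.restrictScalars A)
      (fun n hn => Submodule.smul_top_le_comap_smul_top _ _ hn))) :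
    Function.Injective u ∧ Module.Flat A (M ⧸ LinearMap.range u) := by
  classical
  let S₀ := Algebra.EssFiniteType.subalgebra A B
  obtain ⟨n, f, hf⟩ := Algebra.FiniteType.iff_quotient_mvPolynomial''.mp
    (inferInstance : Algebra.FiniteType A S₀)
  let φ : MvPolynomial (Fin n) A →ₐ[A] B := S₀.val.comp f
  let 𝔫 : Ideal (MvPolynomial (Fin n) A) := (IsLocalRing.maximalIdeal B).comap φ.toRingHom
  haveI : 𝔫.IsPrime := Ideal.comap_isPrime _ _
  let P := Localization.AtPrime 𝔫
  have hunit : ∀ t : 𝔫.primeCompl, IsUnit (φ.toRingHom t) := fun t =>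
    IsLocalRing.notMem_maximalIdeal.mp t.2
  let ψ : P →+* B := IsLocalization.lift hunit
  have hψ : ∀ x, ψ (algebraMap (MvPolynomial (Fin n) A) P x) = φ x := fun x => IsLocalization.lift_eq hunit x
  letI : Algebra P B := ψ.toAlgebra
  haveI : IsScalarTower A P B := IsScalarTower.of_algebraMap_eq fun a => by
    show algebraMap A B a = ψ (algebraMap A P a)
    rw [IsScalarTower.algebraMap_apply A (MvPolynomial (Fin n) A) P, hψ, φ.commutes]
  have hsurj : Function.Surjective (algebraMap P B) := by
    intro b
    obtain ⟨⟨s, t⟩, hst⟩ := IsLocalization.surj (Algebra.EssFiniteType.submonoid A B) b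
    obtain ⟨s', hs'⟩ := hf s
    obtain ⟨t', ht'⟩ := hf t
    have ht : IsUnit (φ t') := by
      show IsUnit (S₀.val (f t'))
      rw [ht']; exact t.2
    refine ⟨IsLocalization.mk' P s' (⟨t', IsLocalRing.notMem_maximalIdeal.mpr ht⟩ : 𝔫.primeCompl), ?_⟩
    refine (IsLocalization.lift_mk'_spec ..).mpr ?_
    show S₀.val (f s') = S₀.val (f t') * b
    rw [hs', ht', mul_comm]
    exact hst.symm
  haveI : IsLocalHom (algebraMap P B) := IsLocalHom.of_surjective _ hsurj
  haveI : IsLocalHom (algebraMap A P) := ⟨fun a ha => by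
    refine IsUnit.of_map (algebraMap A B) a ?_
    rw [IsScalarTower.algebraMap_apply A P B]; exact ha.map _⟩
  letI : Module P M := Module.compHom M (algebraMap P B)
  letI : Module P N := Module.compHom N (algebraMap P B)
  haveI : IsScalarTower P B M := IsScalarTower.of_algebraMap_smul fun _ _ => rfl
  haveI : IsScalarTower P B N := IsScalarTower.of_algebraMap_smul fun _ _ => rfl
  haveI : IsScalarTower A P M := IsScalarTower.of_algebraMap_smul fun a x => by
    show algebraMap P B (algebraMap A P a) • x = a • x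
    rw [← IsScalarTower.algebraMap_apply, algebraMap_smul]
  haveI : IsScalarTower A P N := IsScalarTower.of_algebraMap_smul fun a x => by
    show algebraMap P B (algebraMap A P a) • x = a • x
    rw [← IsScalarTower.algebraMap_apply, algebraMap_smul]
  haveI : Module.Finite P B := Module.Finite.of_surjective (Algebra.linearMap P B) hsurj
  haveI : Module.Finite P M := Module.Finite.trans B M
  haveI : Module.Finite P N := Module.Finite.trans B N
  have hefp : CAlgX.IsEssFinitePresentation A P :=
    ⟨MvPolynomial (Fin n) A, inferInstance, inferInstance, inferInstance, inferInstance, 𝔫.primeCompl, inferInstance, inferInstance⟩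
  haveI : Algebra.EssFiniteType (MvPolynomial (Fin n) A) P := .of_isLocalization P 𝔫.primeCompl
  haveI : Algebra.EssFiniteType A P := Algebra.EssFiniteType.comp A (MvPolynomial (Fin n) A) P
  haveI : Module.FinitePresentation P M := FlatMisc.ValuationEFT.finitePresentation (A := A) M fun a m h => by
    haveI : Module.IsTorsionFree A M := Module.Flat.isTorsionFree
    exact smul_eq_zero.mp h
  let J : Ideal P := (IsLocalRing.maximalIdeal A).map (algebraMap A P)
  haveI : IsNoetherianRing (P ⧸ J) := by
    let k := IsLocalRing.ResidueField A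
    let g : k →+* P ⧸ J := Ideal.quotientMap (I := IsLocalRing.maximalIdeal A) J (algebraMap A P) Ideal.le_comap_map
    letI : Algebra k (P ⧸ J) := RingHom.toAlgebra (R := k) (S := P ⧸ J) g
    haveI : IsScalarTower A k (P ⧸ J) := IsScalarTower.of_algebraMap_eq fun _ => rfl
    haveI : Algebra.EssFiniteType k (P ⧸ J) := Algebra.EssFiniteType.of_comp A k (P ⧸ J)
    exact Algebra.EssFiniteType.isNoetherianRing k (P ⧸ J)
  have hJ : ∀ (W : Type u) [AddCommGroup W] [Module A W] [Module P W] [IsScalarTower A P W] (y : W),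
      y ∈ J • (⊤ : Submodule P W) ↔ y ∈ IsLocalRing.maximalIdeal A • (⊤ : Submodule A W) := fun W _ _ _ _ y => by
    rw [← Submodule.restrictScalars_mem A, Ideal.smul_restrictScalars, Submodule.restrictScalars_top]
  obtain ⟨r, q₀, hq₀⟩ := Module.Finite.exists_fin' P N
  let F := Fin r → P
  haveI : Module.Finite (P ⧸ J) (F ⧸ J • (⊤ : Submodule P F)) :=
    Module.Finite.of_restrictScalars_finite P (P ⧸ J) _
  haveI : IsNoetherian P (F ⧸ J • (⊤ : Submodule P F)) :=
    isNoetherian_def.mpr fun K' => by
      let K'' : Submodule (P ⧸ J) (F ⧸ J • (⊤ : Submodule P F)) :=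
        { K'.toAddSubmonoid with
          smul_mem' := fun c y hy => by
            obtain ⟨c, rfl⟩ := Ideal.Quotient.mk_surjective c
            rw [← Ideal.Quotient.algebraMap_eq, algebraMap_smul]
            exact K'.smul_mem c hy }
      have h := (IsNoetherian.noetherian K'').restrictScalars_of_surjective (R := P) Ideal.Quotient.mk_surjective
      exact (show K''.restrictScalars P = K' from Submodule.ext fun _ => Iff.rfl) ▸ h
  obtain ⟨T, hT⟩ := IsNoetherian.noetherian ((LinearMap.ker q₀).map (J • (⊤ : Submodule P F)).mkQ)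
  have hpre : ∀ t : T, ∃ v ∈ LinearMap.ker q₀, (J • (⊤ : Submodule P F)).mkQ v = t := fun t =>
    (Submodule.mem_map.mp (hT.le (Submodule.subset_span t.2)))
  choose v hv hv' using hpre
  let K₀ : Submodule P F := Submodule.span P (Set.range v)
  have hK₀ : K₀ ≤ LinearMap.ker q₀ := Submodule.span_le.mpr (Set.range_subset_iff.mpr hv)
  have hK : LinearMap.ker q₀ ≤ K₀ ⊔ J • ⊤ := fun w hw => by
    have h1 : (J • (⊤ : Submodule P F)).mkQ w ∈ Submodule.map (J • (⊤ : Submodule P F)).mkQ K₀ := by
      rw [Submodule.map_span, ← Set.range_comp]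
      have h2 : (J • (⊤ : Submodule P F)).mkQ w ∈ Submodule.span P (T : Set (F ⧸ J • (⊤ : Submodule P F))) :=
        hT.symm ▸ Submodule.mem_map_of_mem hw
      refine Submodule.span_mono ?_ h2
      exact fun t ht => ⟨⟨t, ht⟩, hv' ⟨t, ht⟩⟩
    have h3 : w ∈ (Submodule.map (J • (⊤ : Submodule P F)).mkQ K₀).comap (J • (⊤ : Submodule P F)).mkQ := h1
    rw [Submodule.comap_map_eq, Submodule.ker_mkQ] at h3
    exact h3
  haveI : Module.FinitePresentation P (F ⧸ K₀) := Module.finitePresentation_of_surjective K₀.mkQ K₀.mkQ_surjective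
    (by rw [Submodule.ker_mkQ]; exact Submodule.fg_span (Set.finite_range v))
  let p₀ : (F ⧸ K₀) →ₗ[P] N := K₀.liftQ q₀ hK₀
  let u₀ : (F ⧸ K₀) →ₗ[P] M := (u.restrictScalars P).comp p₀
  have hmod : ∀ x : F ⧸ K₀, u₀ x ∈ J • (⊤ : Submodule P M) → x ∈ J • (⊤ : Submodule P (F ⧸ K₀)) := by
    intro x hx
    obtain ⟨w, rfl⟩ := K₀.mkQ_surjective x
    have h1 : q₀ w ∈ IsLocalRing.maximalIdeal A • (⊤ : Submodule A N) := by
      rw [← Submodule.Quotient.mk_eq_zero]
      refine hu ?_
      rw [map_zero]
      exact (Submodule.Quotient.mk_eq_zero _).mpr ((hJ M _).mp hx)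
    rw [← hJ N] at h1
    have h2 : q₀ w ∈ Submodule.map q₀ (J • (⊤ : Submodule P F)) := by
      rw [Submodule.map_smul'', Submodule.map_top, LinearMap.range_eq_top.mpr hq₀]; exact h1
    obtain ⟨w', hw', hww⟩ := h2
    have h3 : w ∈ K₀ ⊔ J • ⊤ := by
      have : w - w' ∈ LinearMap.ker q₀ := by rw [LinearMap.mem_ker, map_sub, hww, sub_self]
      have h4 := add_mem (hK this) (Submodule.mem_sup_right (S := K₀) hw')
      rwa [sub_add_cancel] at h4
    have h5 := Submodule.mem_map_of_mem (f := K₀.mkQ) h3
    rw [Submodule.map_sup, Submodule.map_smul'', Submodule.map_top, Submodule.range_mkQ,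
      show Submodule.map K₀.mkQ K₀ = ⊥ from Submodule.mkQ_map_self K₀, bot_sup_eq] at h5
    exact h5
  obtain ⟨hinj, hflat⟩ := Groth.Agent.S2107.result (R := A) (S := P) hefp u₀ hmod
  refine ⟨?_, ?_⟩
  · rw [← LinearMap.ker_eq_bot, eq_bot_iff]
    intro y hy
    obtain ⟨w, rfl⟩ := hq₀ y
    have h1 : u₀ (K₀.mkQ w) = 0 := hy
    have h2 : p₀ (K₀.mkQ w) = 0 := by rw [hinj (h1.trans (map_zero u₀).symm), map_zero]
    exact (Submodule.mem_bot _).mpr h2
  · have hr : (LinearMap.range u₀).restrictScalars A = (LinearMap.range u).restrictScalars A := by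
      ext y
      constructor
      · rintro ⟨x, rfl⟩; exact ⟨p₀ x, rfl⟩
      · rintro ⟨z, rfl⟩
        obtain ⟨w, rfl⟩ := hq₀ z
        exact ⟨K₀.mkQ w, rfl⟩
    haveI := hflat
    exact Module.Flat.of_linearEquiv
      ((Submodule.Quotient.restrictScalarsEquiv A (LinearMap.range u)).symm.trans
        ((Submodule.quotEquivOfEq _ _ hr.symm).trans (Submodule.Quotient.restrictScalarsEquiv A (LinearMap.range u₀))))

end Groth.Agent.S1351
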