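import Groth.Statements.S14726
import Groth.Agent.EtValLib.Etale

-- import your own Groth.Agent.* helpers here

set_option autoImplicit false
universe u
open ValPrufer

namespace Groth.Agent.S14726

theorem exists_dvd_all {V : Type*} [CommRing V] [IsDomain V] [ValuationRing V] {ι : Type*} (c : ι → V)
    (s : Finset ι) (hs : s.Nonempty) : ∃ i ∈ s, ∀ j ∈ s, c i ∣ c j := by
  induction hs using Finset.Nonempty.cons_induction with
  | singleton a => exact ⟨a, Finset.mem_singleton_self a, fun j hj => by rw [Finset.mem_singleton.mp hj]⟩
  | cons a s ha hs ih =>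
    obtain ⟨i, hi, hall⟩ := ih
    rcases ValuationRing.dvd_total (c a) (c i) with h | h
    · refine ⟨a, Finset.mem_cons_self a s, fun j hj => ?_⟩
      rcases Finset.mem_cons.mp hj with rfl | hj
      · exact dvd_rfl
      · exact h.trans (hall j hj)
    · refine ⟨i, Finset.mem_cons_of_mem hi, fun j hj => ?_⟩
      rcases Finset.mem_cons.mp hj with rfl | hj
      · exact h
      · exact hall j hj

theorem exists_iso (A Af T : Type*) [CommRing A] [CommRing Af] [CommRing T] [Algebra A Af] [Algebra Af T]
    (p : Ideal A) [p.IsPrime] (p' : Ideal Af) [p'.IsPrime] [IsLocalization.AtPrime T p']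
    [IsLocalization.AtPrime (Localization.AtPrime p') p] :
    ∃ e : Localization.AtPrime p ≃+* T, ∀ a : A, e (algebraMap A _ a) = algebraMap Af T (algebraMap A Af a) := by
  refine ⟨(IsLocalization.algEquiv p.primeCompl (Localization.AtPrime p) (Localization.AtPrime p')).toRingEquiv.trans
    (IsLocalization.algEquiv p'.primeCompl (Localization.AtPrime p') T).toRingEquiv, fun a => ?_⟩
  show (IsLocalization.algEquiv p'.primeCompl _ T) ((IsLocalization.algEquiv p.primeCompl _ _) (algebraMap A _ a)) = _
  rw [AlgEquiv.commutes, IsScalarTower.algebraMap_apply A Af (Localization.AtPrime p'), AlgEquiv.commutes]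

theorem transfer (V A Af W0 B : Type u) [CommRing V] [IsLocalRing V] [CommRing A] [IsDomain A] [CommRing Af]
    [CommRing W0] [IsDomain W0] [ValuationRing W0] [CommRing B] [Algebra V A] [Algebra A Af] [Algebra V W0]
    [Algebra Af B] [Algebra W0 B] [Algebra.Etale W0 B] (M : Submonoid Af) [IsLocalization M B]
    (p : Ideal A) [p.IsPrime] (p' : Ideal Af) [p'.IsPrime] [IsLocalization.AtPrime (Localization.AtPrime p') p]
    (m : Ideal B) [m.IsPrime] (hmc : m.comap (algebraMap Af B) = p')
    (hcm : m.comap (algebraMap W0 B) = IsLocalRing.maximalIdeal W0)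
    (hsq : ∀ v : V, algebraMap W0 B (algebraMap V W0 v) = algebraMap Af B (algebraMap A Af (algebraMap V A v)))
    (hW : ∀ x : W0, ∃ (v : V) (u : W0ˣ), x = algebraMap V W0 v * u)
    (hinjW : Function.Injective (algebraMap V W0))
    (hmp : ∀ v ∈ IsLocalRing.maximalIdeal V, algebraMap V A v ∈ p) :
    ValuationRing (Localization.AtPrime p) ∧
      Function.Injective (algebraMap V (Localization.AtPrime p)) ∧
      IsLocalHom (algebraMap V (Localization.AtPrime p)) ∧
      ∀ x : Localization.AtPrime p, x ≠ 0 →
        ∃ (v : V) (w : (Localization.AtPrime p)ˣ), x = algebraMap V (Localization.AtPrime p) v * w := by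
  obtain ⟨hdom, hval, hinj, hloc, hvalue⟩ := Groth.Agent.EtValLib.valuationRing_localization W0 B m hcm
  haveI : IsLocalization.AtPrime (Localization.AtPrime m) p' := by
    have := IsLocalization.isLocalization_isLocalization_atPrime_isLocalization M (Localization.AtPrime m) m
    simp only [hmc] at this
    exact this
  obtain ⟨e, hea⟩ := exists_iso A Af (Localization.AtPrime m) p p'
  have he : ∀ v : V, e (algebraMap V _ v) = algebraMap W0 (Localization.AtPrime m) (algebraMap V W0 v) := fun v => by
    rw [IsScalarTower.algebraMap_apply V A (Localization.AtPrime p), hea,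
      IsScalarTower.algebraMap_apply Af B (Localization.AtPrime m), ← hsq, ← IsScalarTower.algebraMap_apply W0 B (Localization.AtPrime m)]
  haveI := hdom
  haveI := hval hdom
  refine ⟨Function.Surjective.valuationRing e.symm.toRingHom e.symm.surjective, ?_, ⟨fun v hv => ?_⟩, fun x hx => ?_⟩
  · intro v w h
    have := congrArg e h
    rw [he, he] at this
    exact hinjW (hinj this)
  · by_contra hvu
    have h1 : algebraMap A (Localization.AtPrime p) (algebraMap V A v) ∈ IsLocalRing.maximalIdeal (Localization.AtPrime p) :=
      (IsLocalization.AtPrime.to_map_mem_maximal_iff _ p _).mpr (hmp v ((IsLocalRing.mem_maximalIdeal v).mpr hvu))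
    rw [← IsScalarTower.algebraMap_apply] at h1
    exact (IsLocalRing.mem_maximalIdeal _).mp h1 hv
  · obtain ⟨a, u, hau⟩ := hvalue (e x) ((map_ne_zero_iff _ e.injective).mpr hx)
    obtain ⟨v, w, rfl⟩ := hW a
    refine ⟨v, Units.map (e.symm : Localization.AtPrime m →* Localization.AtPrime p) (u * Units.map (algebraMap W0 (Localization.AtPrime m) : W0 →* Localization.AtPrime m) w), e.injective ?_⟩
    rw [map_mul e, he, hau, Units.coe_map, map_mul (algebraMap W0 (Localization.AtPrime m))]
    simp only [MonoidHom.coe_coe, RingEquiv.apply_symm_apply, Units.val_mul, Units.coe_map]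
    ring


set_option synthInstance.maxHeartbeats 100000 in
set_option backward.isDefEq.respectTransparency false in
set_option maxHeartbeats 1000000 in
open TensorProduct in

/-- Let V be a valuation ring with maximal ideal m, A an integral domain that is a smooth V-algebra, and
p a prime ideal of A minimal among the primes containing mA (a generic point of the special fibre of
Spec A over V). Then A_p is a valuation ring, V → A_p is an injective local homomorphism, and every
nonzero element of A_p is a unit of A_p times the image of an element of V, so that V → A_p induces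
a bijection on value groups. (The published statement takes A faithfully flat and a semilocalisation
of a smooth V-algebra at finitely many primes; the local ring A_p is then a local ring of the smooth
algebra itself at such a prime, and faithful flatness follows from the existence of p, so this row
states the smooth case, which carries the whole content.) -/
theorem result
    (V : Type u) [CommRing V] [IsDomain V] [ValuationRing V]
    (A : Type u) [CommRing A] [IsDomain A] [Algebra V A] [Algebra.Smooth V A]
    (p : Ideal A) [p.IsPrime]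
    (hp : p ∈ ((IsLocalRing.maximalIdeal V).map (algebraMap V A)).minimalPrimes) :
    ValuationRing (Localization.AtPrime p) ∧
      Function.Injective (algebraMap V (Localization.AtPrime p)) ∧
      IsLocalHom (algebraMap V (Localization.AtPrime p)) ∧
      ∀ x : Localization.AtPrime p, x ≠ 0 →
        ∃ (v : V) (w : (Localization.AtPrime p)ˣ), x = algebraMap V (Localization.AtPrime p) v * w := by
  classical
  obtain ⟨f, hfp, n, algP, hTP, hstd⟩ := Algebra.IsSmoothAt.exists_isStandardEtale_mvPolynomial (R := V) (p := p)
  letI := algP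
  haveI := hTP
  haveI := hstd
  set Af := Localization.Away f
  set P := MvPolynomial (Fin n) V
  let q0 : Ideal P := RingHom.ker (MvPolynomial.map (IsLocalRing.residue V) : P →+* MvPolynomial (Fin n) (IsLocalRing.ResidueField V))
  haveI : q0.IsPrime := RingHom.ker_isPrime _
  have hq0 : q0 = (IsLocalRing.maximalIdeal V).map (MvPolynomial.C : V →+* P) := by
    rw [← IsLocalRing.ker_residue]; exact MvPolynomial.ker_map _
  let p' : Ideal Af := p.map (algebraMap A Af)
  have hdis : Disjoint (Submonoid.powers f : Set A) (p : Set A) :=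
    (Ideal.disjoint_powers_iff_notMem_of_isPrime _).mpr hfp
  haveI hp' : p'.IsPrime := IsLocalization.isPrime_of_isPrime_disjoint (Submonoid.powers f) _ _ ‹_› hdis
  have hp'c : p'.comap (algebraMap A Af) = p :=
    IsLocalization.comap_map_of_isPrime_disjoint (Submonoid.powers f) _ ‹p.IsPrime› hdis
  let q : Ideal P := p'.comap (algebraMap P Af)
  haveI : p'.LiesOver q := ⟨rfl⟩
  have hmp : ∀ v ∈ IsLocalRing.maximalIdeal V, algebraMap V A v ∈ p := fun v hv =>
    hp.1.2 (Ideal.mem_map_of_mem _ hv)
  have hCP : ∀ v : V, algebraMap P Af (MvPolynomial.C v) = algebraMap A Af (algebraMap V A v) := fun v => by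
    rw [← IsScalarTower.algebraMap_apply V A Af, IsScalarTower.algebraMap_apply V P Af]; rfl
  have hle : q0 ≤ q := by
    rw [hq0, Ideal.map_le_iff_le_comap]
    intro v hv
    show algebraMap P Af (MvPolynomial.C v) ∈ p'
    rw [hCP]; exact Ideal.mem_map_of_mem _ (hmp v hv)
  have hqeq : q0 = q := by
    by_contra hne
    haveI : Module.Flat P Af := inferInstance
    obtain ⟨P'', hlt, hP'', hlo⟩ := Ideal.exists_ideal_lt_liesOver_of_lt (p := q0) (q := q) p' (lt_of_le_of_ne hle hne)
    have h1 : P''.comap (algebraMap A Af) ≤ p := hp'c ▸ Ideal.comap_mono hlt.le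
    have h2 : (IsLocalRing.maximalIdeal V).map (algebraMap V A) ≤ P''.comap (algebraMap A Af) := by
      rw [Ideal.map_le_iff_le_comap]
      intro v hv
      show algebraMap A Af (algebraMap V A v) ∈ P''
      rw [← hCP, ← Ideal.mem_comap]
      have := hlo.over
      rw [Ideal.under_def] at this
      rw [← this, hq0]
      exact Ideal.mem_map_of_mem _ hv
    have h3 : p ≤ P''.comap (algebraMap A Af) := hp.2 ⟨Ideal.comap_isPrime _ _, h2⟩ h1
    exact absurd (Ideal.map_le_of_le_comap h3) (not_le_of_gt hlt)
  let W0 := Localization.AtPrime q0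
  -- content
  have hfac : ∀ g : P, g ≠ 0 → ∃ (v : V) (u : W0ˣ), algebraMap P W0 g = algebraMap V W0 v * u := by
    intro g hg
    obtain ⟨i, hi, hdvd⟩ := exists_dvd_all (fun i => g.coeff i) g.support (MvPolynomial.support_nonempty.mpr hg)
    have hC : MvPolynomial.C (g.coeff i) ∣ g := by
      rw [MvPolynomial.C_dvd_iff_dvd_coeff]
      intro j
      by_cases hj : j ∈ g.support
      · exact hdvd j hj
      · rw [MvPolynomial.notMem_support_iff.mp hj]; exact dvd_zero _
    obtain ⟨h, hh⟩ := hC
    have hne : g.coeff i ≠ 0 := MvPolynomial.mem_support_iff.mp hi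
    have h1 : h.coeff i = 1 := by
      have := congrArg (MvPolynomial.coeff i) hh
      rw [MvPolynomial.coeff_C_mul] at this
      exact (mul_eq_left₀ hne).mp this.symm
    have hh0 : h ∈ q0.primeCompl := by
      intro hmem
      have := congrArg (MvPolynomial.coeff i) (RingHom.mem_ker.mp hmem)
      rw [MvPolynomial.coeff_map, h1, map_one, MvPolynomial.coeff_zero] at this
      exact one_ne_zero this
    refine ⟨g.coeff i, (IsLocalization.map_units W0 (⟨h, hh0⟩ : q0.primeCompl)).unit, ?_⟩
    rw [IsScalarTower.algebraMap_apply V P W0, IsUnit.unit_spec, ← map_mul]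
    exact congrArg _ hh
  haveI : IsDomain W0 := IsLocalization.isDomain_localization q0.primeCompl_le_nonZeroDivisors
  have hW : ∀ x : W0, ∃ (v : V) (u : W0ˣ), x = algebraMap V W0 v * u := by
    intro x
    obtain ⟨⟨g, t⟩, rfl⟩ := IsLocalization.mk'_surjective q0.primeCompl x
    dsimp only
    by_cases hg : g = 0
    · exact ⟨0, 1, by rw [hg, IsLocalization.mk'_zero, map_zero, zero_mul]⟩
    · obtain ⟨v, u, hvu⟩ := hfac g hg
      refine ⟨v, u * (IsLocalization.map_units W0 t).unit⁻¹, ?_⟩
      rw [Units.val_mul, ← mul_assoc, ← hvu, eq_comm, Units.mul_inv_eq_iff_eq_mul, IsUnit.unit_spec,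
        IsLocalization.mk'_spec]
  haveI : ValuationRing W0 := ValuationRing.iff_dvd_total.mpr ⟨fun a b => by
    obtain ⟨va, ua, rfl⟩ := hW a
    obtain ⟨vb, ub, rfl⟩ := hW b
    rcases ValuationRing.dvd_total va vb with h | h
    · exact Or.inl (Units.mul_right_dvd.mpr (Units.dvd_mul_right.mpr (map_dvd _ h)))
    · exact Or.inr (Units.mul_right_dvd.mpr (Units.dvd_mul_right.mpr (map_dvd _ h)))⟩
  -- base change
  letI : Algebra Af (TensorProduct P W0 Af) := Algebra.TensorProduct.rightAlgebra
  let B := TensorProduct P W0 Af
  haveI : IsLocalization (Algebra.algebraMapSubmonoid Af q0.primeCompl) B := IsLocalization.tensorRight _ _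
  have hdis2 : Disjoint (Algebra.algebraMapSubmonoid Af q0.primeCompl : Set Af) (p' : Set Af) := by
    rw [Set.disjoint_left]
    rintro _ ⟨y, hy, rfl⟩ hmem
    exact hy (hqeq ▸ hmem)
  let m : Ideal B := p'.map (algebraMap Af B)
  haveI hm : m.IsPrime := IsLocalization.isPrime_of_isPrime_disjoint _ B _ hp' hdis2
  have hmc : m.comap (algebraMap Af B) = p' := IsLocalization.comap_map_of_isPrime_disjoint _ B hp' hdis2
  have hsq : ∀ g : P, algebraMap W0 B (algebraMap P W0 g) = algebraMap Af B (algebraMap P Af g) := fun g => by
    rw [← IsScalarTower.algebraMap_apply P W0 B, ← IsScalarTower.algebraMap_apply P Af B]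
  have hcm : m.comap (algebraMap W0 B) = IsLocalRing.maximalIdeal W0 := by
    refine le_antisymm (IsLocalRing.le_maximalIdeal (Ideal.comap_ne_top _ hm.ne_top)) ?_
    rw [← Localization.AtPrime.map_eq_maximalIdeal, Ideal.map_le_iff_le_comap]
    intro g hg
    show algebraMap W0 B (algebraMap P W0 g) ∈ m
    rw [hsq]
    exact Ideal.mem_map_of_mem _ (show g ∈ q from hqeq ▸ hg)
  have hinjW : Function.Injective (algebraMap V W0) := by
    intro v w h
    rw [IsScalarTower.algebraMap_apply V P W0, IsScalarTower.algebraMap_apply V P W0] at h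
    exact MvPolynomial.C_injective _ _ (IsLocalization.injective W0 q0.primeCompl_le_nonZeroDivisors h)
  haveI : IsLocalization.AtPrime (Localization.AtPrime p') p := by
    have := IsLocalization.isLocalization_isLocalization_atPrime_isLocalization (Submonoid.powers f) (Localization.AtPrime p') p'
    simp only [hp'c] at this
    exact this
  exact transfer V A Af W0 B (Algebra.algebraMapSubmonoid Af q0.primeCompl) p p' m hmc hcm
    (fun v => by rw [IsScalarTower.algebraMap_apply V P W0, hsq, ← hCP]; rfl) hW hinjW hmp

end Groth.Agent.S14726
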