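import Groth.Statements.S10665
import Groth.Agent.RegImm44.KoszulMor
import Groth.Agent.AlgSpB.Points
-- import your own Groth.Agent.* helpers here

set_option autoImplicit false
universe u
open CategoryTheory CategoryTheory.Limits AlgebraicGeometry
open AlgSp

namespace Groth.Agent.S10665

set_option backward.isDefEq.respectTransparency.types false

/-- The identity is a Koszul-regular immersion. -/
theorem isRegularImmersion_id (X : Scheme.{u}) : RegImm.IsRegularImmersion .koszul (𝟙 X) := by
  refine ⟨inferInstance, fun x => ?_⟩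
  obtain ⟨U, hU, hx, -⟩ := exists_isAffineOpen_mem_and_subset (x := x) (U := ⊤) trivial
  refine ⟨⟨U, hU⟩, hx, inferInstance, [], ?_, ?_⟩
  · exact fun j hj => ((Koszul.koszul Γ(X, U) []).exactAt_iff_isZero_homology j).1
      (HomologicalComplex.exactAt_single_obj _ _ _ _ hj)
  · rw [Ideal.ofList_nil]
    exact (RingHom.injective_iff_ker_eq_bot _).1 fun a b h => h

theorem isKoszulAt_of_immersion {X Y : Scheme.{u}} (i : X ⟶ Y) (hi : RegImm.IsRegularImmersion .koszul i) (x : X) :
    Synt.IsKoszulAt i x := by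
  have := hi.1
  exact ⟨⊤, Y, (⊤ : X.Opens).ι ≫ i, 𝟙 Y, trivial, inferInstance,
    Groth.Agent.RegImm44.isRegularImmersion_open_comp i _ hi, inferInstance, Category.comp_id _⟩

theorem isKoszulAt_of_smooth {X Y : Scheme.{u}} (f : X ⟶ Y) [Smooth f] (x : X) : Synt.IsKoszulAt f x := by
  refine ⟨⊤, X, (⊤ : X.Opens).ι, f, trivial, inferInstance, ?_, inferInstance, rfl⟩
  simpa using Groth.Agent.RegImm44.isRegularImmersion_open_comp (𝟙 X) (⊤ : X.Opens).ι (isRegularImmersion_id X)

/-- A Koszul-regular immersion between algebraic spaces over S (representable, Koszul-regular immersion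
on every etale scheme chart of the target) is a local complete intersection morphism (Koszul at
every point, etale locally on source and target). -/
theorem result {S : Scheme.{u}} {X Y : AlgSp.Space S} (i : X ⟶ Y) (hi : AlgSp.IsRegImmMor RegImm.Kind.koszul i.hom) :
    AlgSp.IsLCIMor i.hom := by
  intro U V a b h ha hb w
  obtain ⟨W, snd, fst₀, sq⟩ := hi.1 b
  have hr : RegImm.IsRegularImmersion .koszul snd.left := hi.2 b fst₀ snd hb sq
  have hfe : AlgSp.RepWith @Etale fst₀ := MorphismProperty.of_isPullback sq.flip hb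
  obtain ⟨m, hm1, hm2⟩ := sq.exists_lift a ((AlgSp.yon S).map h) w
  obtain ⟨m, rfl⟩ := (AlgSp.yon S).map_surjective m
  obtain ⟨R, r₁, r₂, sqR⟩ := Groth.Agent.AlgSpB.exists_pullback_yon ha.1 fst₀
  obtain ⟨δ, hδ1, hδ2⟩ := sqR.exists_lift (𝟙 _) ((AlgSp.yon S).map m) (by rw [Category.id_comp, hm1])
  obtain ⟨δ, rfl⟩ := (AlgSp.yon S).map_surjective δ
  have hre : Etale r₂.left := ha.2 _ _ _ sqR
  have hr1e : Etale r₁.left := hfe.2 _ _ _ sqR.flip
  rw [← Functor.map_comp] at hδ1 hδ2
  have hd1 : δ ≫ r₁ = 𝟙 U := (AlgSp.yon S).map_injective (hδ1.trans ((AlgSp.yon S).map_id U).symm)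
  have hd : Etale (δ.left ≫ r₁.left) := by
    rw [← Over.comp_left, hd1]
    exact inferInstanceAs (Etale (𝟙 U.left))
  have : Etale δ.left := MorphismProperty.of_postcomp @Etale δ.left r₁.left hr1e hd
  have hme : Etale m.left := by
    rw [← (AlgSp.yon S).map_injective hδ2, Over.comp_left]
    infer_instance
  have e : h = m ≫ snd := (AlgSp.yon S).map_injective (by rw [Functor.map_comp, hm2])
  intro x
  rw [e, Over.comp_left]
  exact Groth.Agent.RegImm44.isKoszulAt_comp m.left snd.left
    (fun y => isKoszulAt_of_smooth m.left y) (fun y => isKoszulAt_of_immersion snd.left hr y) x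

end Groth.Agent.S10665
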