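import Groth.Statements.S8658
import Groth.Agent.RegImm44.BaseChange

set_option autoImplicit false
universe u
open CategoryTheory CategoryTheory.Limits AlgebraicGeometry
open Synt

namespace Groth.Agent.S8658

/-- Let f : X ⟶ Y be a local complete intersection morphism in the factorisation sense (around each
point of X, f is locally of finite type and factors as a Koszul-regular immersion followed by a
smooth morphism), and let g : Y' ⟶ Y be flat. Then for any cartesian square, the base change f' : X'
⟶ Y' is a local complete intersection morphism in the same sense. -/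
theorem result {X Y X' Y' : Scheme.{u}} (f : X ⟶ Y) (g : Y' ⟶ Y) [Flat g]
    (f' : X' ⟶ Y') (g' : X' ⟶ X) (hsq : IsPullback g' f' f g)
    (hf : ∀ x : X, Synt.IsKoszulAt f x) : ∀ x' : X', Synt.IsKoszulAt f' x' := by
  intro x'
  obtain ⟨U, P, i, π, hxU, hlft, hi, hπ, hfac⟩ := hf (g' x')
  have top := (isPullback_morphismRestrict g' U).paste_vert hsq
  rw [← hfac] at top
  let i' : ((g' ⁻¹ᵁ U) : Scheme.{u}) ⟶ pullback π g :=
    pullback.lift ((g' ∣_ U) ≫ i) ((g' ⁻¹ᵁ U).ι ≫ f') ((Category.assoc _ _ _).trans top.w)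
  have htop : IsPullback (g' ∣_ U) ((g' ⁻¹ᵁ U).ι ≫ f') (i ≫ π) g := top
  have hi2 : i' ≫ pullback.snd π g = (g' ⁻¹ᵁ U).ι ≫ f' := pullback.lift_snd _ _ _
  have hi1 : i' ≫ pullback.fst π g = (g' ∣_ U) ≫ i := pullback.lift_fst _ _ _
  rw [← hi2] at htop
  have sq : IsPullback (g' ∣_ U) i' i (pullback.fst π g) :=
    IsPullback.of_bot htop hi1.symm (IsPullback.of_hasPullback π g)
  haveI := hπ
  haveI : IsImmersion i := hi.1
  refine ⟨g' ⁻¹ᵁ U, pullback π g, i', pullback.snd π g, hxU, ?_, ⟨?_, fun z => ?_⟩, inferInstance, hi2⟩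
  · rw [← hi2]
    exact MorphismProperty.of_isPullback htop (by rw [hfac]; exact hlft)
  · exact MorphismProperty.of_isPullback sq inferInstance
  · haveI : Flat (pullback.fst π g) := inferInstance
    exact RegImm44.isRegularImmersionAt_baseChange sq (hi.2 _)

end Groth.Agent.S8658
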