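import Groth.Statements.S9729
import Groth.Agent.RegImm44.KoszulMor

set_option autoImplicit false
universe u
open FlatMor

namespace Groth.Agent.S9729

open AlgebraicGeometry CategoryTheory Limits in
/-- Let f : X ⟶ Y and g : Y ⟶ S be morphisms with g smooth. If f ≫ g is a local complete intersection
morphism (Koszul at every point of X) then f is a local complete intersection morphism. -/
theorem result {X Y S : Scheme.{u}} (f : X ⟶ Y) (g : Y ⟶ S) [Smooth g]
    (h : ∀ x : X, Synt.IsKoszulAt (f ≫ g) x) (x : X) : Synt.IsKoszulAt f x := by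
  haveI := Groth.Agent.RegImm44.locallyOfFiniteType_of_isKoszulAt h
  haveI : LocallyOfFiniteType f := locallyOfFiniteType_of_comp f g
  obtain ⟨U, P, i, π, hxU, hi, hπ, hfac⟩ := Groth.Agent.RegImm44.exists_factorisation f x
  haveI := hi
  haveI := hπ
  refine ⟨U, P, i, π, hxU, inferInstance, ?_, hπ, hfac⟩
  exact Groth.Agent.RegImm44.isRegularImmersion_of_isKoszulAt
    (fun u => Groth.Agent.RegImm44.isKoszulAt_open_comp U.ι u (h _)) (π ≫ g) i
    (by rw [← Category.assoc, hfac, Category.assoc])

end Groth.Agent.S9729
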