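import Groth.Prelude.Def_BigSite
import Mathlib.CategoryTheory.Sites.Localization
import Mathlib.CategoryTheory.Sites.LocallyBijective
import Mathlib.CategoryTheory.Limits.Types.Products
import Mathlib.CategoryTheory.IsConnected
import Mathlib.CategoryTheory.Sites.EpiMono
import Mathlib.CategoryTheory.Sites.Abelian
import Mathlib.Algebra.Category.Grp.Zero

/-!
Pushforward along an almost cocontinuous continuous functor: comparison with sheafification and
preservation of finite connected colimits.
-/

universe w v u

open CategoryTheory Limits Opposite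

namespace Groth.Agent.AlmostCocont

variable {C D : Type u} [Category.{v} C] [Category.{v} D]
    (J : GrothendieckTopology C) (K : GrothendieckTopology D) (F : C ⥤ D)
    [HasSheafify J (Type w)] [HasSheafify K (Type w)]
    [J.WEqualsLocallyBijective (Type w)] [K.WEqualsLocallyBijective (Type w)]

/-- The presheaf is a singleton on every object covered by the empty sieve. -/
def Triv (G : Dᵒᵖ ⥤ Type w) : Prop :=
  ∀ V : D, (⊥ : Sieve V) ∈ K V → Nonempty (Unique (G.obj (op V)))

theorem triv_of_sheaf (G : Sheaf K (Type w)) : Triv K G.obj := fun V hV =>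
  ⟨Types.isTerminalEquivUnique _ (Sheaf.isTerminalOfBotCover G V hV)⟩

variable {J K F}

theorem W_whiskerLeft (hu : BigSite.IsAlmostCocontinuous F J K) (G : Dᵒᵖ ⥤ Type w) (hG : Triv K G) :
    J.W (Functor.whiskerLeft F.op (toSheafify K G)) := by
  have hW := K.W_toSheafify G
  rw [K.W_iff_isLocallyBijective] at hW
  obtain ⟨hinj, hsurj⟩ := hW
  rw [J.W_iff_isLocallyBijective]
  refine ⟨⟨fun {X} x y h => ?_⟩, ⟨fun {U} s => ?_⟩⟩
  · obtain ⟨R', hR', hR⟩ := hu X.unop _
      (Presheaf.equalizerSieve_mem K (toSheafify K G) (X := op (F.obj X.unop)) x y h)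
    refine J.superset_covering ?_ hR'
    intro V g hg
    rcases hR g hg with he | he
    · obtain ⟨hu'⟩ := hG _ he
      exact Subsingleton.elim _ _
    · exact he
  · obtain ⟨R', hR', hR⟩ := hu U _ (Presheaf.imageSieve_mem K (toSheafify K G) (U := op (F.obj U)) s)
    refine J.superset_covering ?_ hR'
    intro V g hg
    rcases hR g hg with he | he
    · obtain ⟨hu'⟩ := hG _ he
      obtain ⟨hs'⟩ := triv_of_sheaf K ((presheafToSheaf K (Type w)).obj G) _ he
      refine ⟨(default : G.obj (op (F.obj V))), ?_⟩
      exact @Subsingleton.elim _ (hs'.instSubsingleton) _ _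
    · exact he

theorem comp_aux {A B : Type*} [Category A] [Category B] (L : A ⥤ B) {a b a' b' : A} {c c' : B}
    {f : a ⟶ b} {w : b ⟶ b'} {w' : a ⟶ a'} {g' : a' ⟶ b'} {ε : L.obj b' ⟶ c} {ε' : L.obj a' ⟶ c'}
    {g : c' ⟶ c} (h : f ≫ w = w' ≫ g') (e : L.map g' ≫ ε = ε' ≫ g) :
    L.map f ≫ L.map w ≫ ε = (L.map w' ≫ ε') ≫ g := by
  rw [← L.map_comp_assoc, h, L.map_comp_assoc, e, Category.assoc]

variable (J K F) [F.IsContinuous J K]

/-- The comparison `(F^* G)^# ⟶ F^* (G^#)`. -/
noncomputable def θ : (Functor.whiskeringLeft _ _ (Type w)).obj F.op ⋙ presheafToSheaf J (Type w) ⟶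
    presheafToSheaf K (Type w) ⋙ F.sheafPushforwardContinuous (Type w) J K where
  app G := (presheafToSheaf J (Type w)).map (Functor.whiskerLeft F.op (toSheafify K G)) ≫
    (sheafificationAdjunction J (Type w)).counit.app
      ((F.sheafPushforwardContinuous (Type w) J K).obj ((presheafToSheaf K (Type w)).obj G))
  naturality G H f := by
    let P := F.sheafPushforwardContinuous (Type w) J K
    let g := P.map ((presheafToSheaf K (Type w)).map f)
    have h1 : Functor.whiskerLeft F.op f ≫ Functor.whiskerLeft F.op (toSheafify K H) =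
        Functor.whiskerLeft F.op (toSheafify K G) ≫ g.hom := by
      ext X x
      exact congrArg (fun φ => (φ.app (F.op.obj X)) x) (toSheafify_naturality K f)
    exact comp_aux (presheafToSheaf J (Type w)) h1 ((sheafificationAdjunction J (Type w)).counit_naturality g)

variable {J K F}

theorem isIso_θ (hu : BigSite.IsAlmostCocontinuous F J K) (G : Dᵒᵖ ⥤ Type w) (hG : Triv K G) :
    IsIso ((θ J K F).app G) := by
  have h := (J.W_iff_isIso_map_of_adjunction (sheafificationAdjunction J (Type w)) _).1
    (W_whiskerLeft hu G hG)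
  exact IsIso.comp_isIso' h
    ((asIso (sheafificationAdjunction J (Type w)).counit).app
      ((F.sheafPushforwardContinuous (Type w) J K).obj ((presheafToSheaf K (Type w)).obj G))).isIso_hom

theorem isIso_homEquiv_symm (hu : BigSite.IsAlmostCocontinuous F J K) (G : Dᵒᵖ ⥤ Type w)
    (hG : Triv K G) :
    IsIso (((sheafificationAdjunction J (Type w)).homEquiv (F.op ⋙ G)
      ((F.sheafPushforwardContinuous (Type w) J K).obj ((presheafToSheaf K (Type w)).obj G))).symm
        (Functor.whiskerLeft F.op (toSheafify K G))) := by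
  have h := isIso_θ hu G hG
  exact (Adjunction.homEquiv_counit (adj := sheafificationAdjunction J (Type w)) ..).symm ▸ h

theorem triv_colimit {I : Type} [SmallCategory I] [IsConnected I] (H : I ⥤ Dᵒᵖ ⥤ Type w)
    (hH : ∀ i, Triv K (H.obj i)) : Triv K (colimit H) := by
  intro V hV
  let i₀ : I := Classical.arbitrary I
  obtain ⟨h₀⟩ := hH i₀ V hV
  have hc := isColimitOfPreserves ((evaluation Dᵒᵖ (Type w)).obj (op V)) (colimit.isColimit H)
  let a : (colimit H).obj (op V) := (colimit.ι H i₀).app (op V) default
  have key : ∀ (i : I) (x : (H.obj i).obj (op V)), (colimit.ι H i).app (op V) x = a := by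
    let g : I → (colimit H).obj (op V) := fun i =>
      (colimit.ι H i).app (op V) (hH i V hV).some.default
    have hg : ∀ i j, (i ⟶ j) → g i = g j := fun i j f => by
      have := (hH j V hV).some.instSubsingleton
      refine (congrArg (fun φ => φ.app (op V) (hH i V hV).some.default) (colimit.w H f)).symm.trans ?_
      exact congrArg ((colimit.ι H j).app (op V)) (Subsingleton.elim _ _)
    intro i x
    have := (hH i V hV).some.instSubsingleton
    have := (hH i₀ V hV).some.instSubsingleton
    refine (congrArg ((colimit.ι H i).app (op V)) (Subsingleton.elim x (hH i V hV).some.default)).trans ?_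
    refine (constant_of_preserves_morphisms g hg i i₀).trans ?_
    exact congrArg ((colimit.ι H i₀).app (op V)) (Subsingleton.elim _ _)
  refine ⟨{ default := a, uniq := fun x => ?_ }⟩
  obtain ⟨i, y, rfl⟩ := Types.jointly_surjective _ hc x
  exact key i y

theorem preservesColimitsOfShape (hu : BigSite.IsAlmostCocontinuous F J K) (I : Type)
    [SmallCategory I] [IsConnected I] :
    PreservesColimitsOfShape I (F.sheafPushforwardContinuous (Type w) J K) where
  preservesColimit {K₀} := by
    let H := K₀ ⋙ sheafToPresheaf K (Type w)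
    let L := presheafToSheaf K (Type w)
    let P := F.sheafPushforwardContinuous (Type w) J K
    let W := (Functor.whiskeringLeft _ _ (Type w)).obj F.op ⋙ presheafToSheaf J (Type w)
    suffices PreservesColimit (H ⋙ L) P from
      preservesColimit_of_iso_diagram P
        (Functor.associator _ _ _ ≪≫ Functor.isoWhiskerLeft K₀ (asIso (sheafificationAdjunction K (Type w)).counit) ≪≫
          K₀.rightUnitor)
    refine preservesColimit_of_preserves_colimit_cocone
      (isColimitOfPreserves L (colimit.isColimit H)) ?_
    have hθ : ∀ i, IsIso ((θ J K F).app (H.obj i)) := fun i =>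
      isIso_θ hu _ (triv_of_sheaf K (K₀.obj i))
    have hθc : IsIso ((θ J K F).app (colimit H)) :=
      isIso_θ hu _ (triv_colimit H fun i => triv_of_sheaf K (K₀.obj i))
    let α : H ⋙ W ≅ (H ⋙ L) ⋙ P :=
      NatIso.ofComponents (fun i => @asIso _ _ _ _ ((θ J K F).app (H.obj i)) (hθ i))
        (fun {i j} f => (θ J K F).naturality (H.map f))
    have hW : IsColimit (W.mapCocone (colimit.cocone H)) := isColimitOfPreserves W (colimit.isColimit H)
    refine (IsColimit.ofIsoColimit ((IsColimit.precomposeInvEquiv α _).symm hW) ?_)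
    refine Cocone.ext (@asIso _ _ _ _ ((θ J K F).app (colimit H)) hθc) fun i => ?_
    show ((α.inv.app i) ≫ W.map (colimit.ι H i)) ≫ (θ J K F).app (colimit H) = P.map (L.map (colimit.ι H i))
    rw [Category.assoc, (θ J K F).naturality (colimit.ι H i)]
    exact (α.app i).inv_hom_id_assoc _

end Groth.Agent.AlmostCocont

namespace Groth.Agent.AlmostCocont

section Ab

variable {C D : Type u} [Category.{v} C] [Category.{v} D]
    {J : GrothendieckTopology C} {K : GrothendieckTopology D} {F : C ⥤ D}
    [HasSheafify J AddCommGrpCat.{w}] [HasSheafify K AddCommGrpCat.{w}]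
    [J.WEqualsLocallyBijective AddCommGrpCat.{w}] [K.WEqualsLocallyBijective AddCommGrpCat.{w}]
    [J.HasSheafCompose (forget AddCommGrpCat.{w})] [K.HasSheafCompose (forget AddCommGrpCat.{w})]
    [F.IsContinuous J K]

theorem preservesEpimorphisms_ab (hu : BigSite.IsAlmostCocontinuous F J K) :
    (F.sheafPushforwardContinuous AddCommGrpCat.{w} J K).PreservesEpimorphisms where
  preserves {A B} φ hφ := by
    rw [← Sheaf.isLocallySurjective_iff_epi'] at hφ ⊢
    refine ⟨fun {U} s => ?_⟩
    obtain ⟨R', hR', hR⟩ := hu U _
      (Presheaf.imageSieve_mem K φ.hom (U := op (F.obj U)) s)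
    refine J.superset_covering ?_ hR'
    intro V g hg
    rcases hR g hg with he | he
    · have hz := (Sheaf.isTerminalOfBotCover B (F.obj V) he)
      have : Subsingleton (B.obj.obj (op (F.obj V))) :=
        AddCommGrpCat.subsingleton_of_isZero (IsZero.of_iso (isZero_zero _)
          (hz.uniqueUpToIso HasZeroObject.zeroIsTerminal))
      exact ⟨0, @Subsingleton.elim _ this _ _⟩
    · exact he

end Ab

end Groth.Agent.AlmostCocont
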