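import Groth.Statements.S0015
-- import your own Groth.Agent.* helpers here

set_option autoImplicit false
universe u
open Coherent

namespace Groth.Agent.S0015

open AlgebraicGeometry in
/-- Let X be quasi-compact and quasi-separated and P a property of opens of X. If P holds for affine
opens, and P(U ∪ V) follows from P(U), P(V), P(U ∩ V) whenever U is quasi-compact open and V affine
open, then P holds for every quasi-compact open, in particular for X. -/
theorem result (X : Scheme.{u}) [CompactSpace X] [QuasiSeparatedSpace X]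
    (P : X.Opens → Prop) (h₁ : ∀ U : X.Opens, IsAffineOpen U → P U)
    (h₂ : ∀ U V : X.Opens, IsCompact (U : Set X) → IsAffineOpen V → P U → P V → P (U ⊓ V) →
      P (U ⊔ V))
    (U : X.Opens) (hU : IsCompact (U : Set X)) : P U := by
  have key : ∀ {V : X.Opens}, IsAffineOpen V → ∀ (n : ℕ) (f : Fin n → Γ(X, V)),
      P (⨆ i, X.basicOpen (f i)) := by
    intro V hV n
    induction n with
    | zero =>
      intro f
      rw [iSup_of_empty]
      exact h₁ _ (isAffineOpen_bot X)
    | succ n ih =>
      intro f
      have e : (⨆ i, X.basicOpen (f i)) =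
          (⨆ i : Fin n, X.basicOpen (f i.castSucc)) ⊔ X.basicOpen (f (Fin.last n)) := by
        refine le_antisymm (iSup_le fun i => ?_)
          (sup_le (iSup_le fun i => le_iSup (fun j => X.basicOpen (f j)) _)
            (le_iSup (fun j => X.basicOpen (f j)) _))
        rcases Fin.eq_castSucc_or_eq_last i with ⟨j, rfl⟩ | rfl
        · exact le_sup_of_le_left (le_iSup (fun j : Fin n => X.basicOpen (f j.castSucc)) j)
        · exact le_sup_right
      rw [e]
      refine h₂ _ _ ?_ (hV.basicOpen _) (ih _) (h₁ _ (hV.basicOpen _)) ?_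
      · rw [TopologicalSpace.Opens.coe_iSup]
        exact isCompact_iUnion fun i => (hV.basicOpen _).isCompact
      · rw [iSup_inf_eq]
        simp_rw [← X.basicOpen_mul]
        exact ih _
  have small : ∀ {V W : X.Opens}, IsAffineOpen V → IsCompact (W : Set X) → W ≤ V → P W := by
    intro V W hV hW hle
    have hx : ∀ x : W, ∃ f : Γ(X, V), X.basicOpen f ≤ W ∧ x.1 ∈ X.basicOpen f :=
      fun x => hV.exists_basicOpen_le ⟨x.1, x.2⟩ (hle x.2)
    choose f hf hxf using hx
    obtain ⟨t, ht⟩ := hW.elim_finite_subcover (fun x : W => ((X.basicOpen (f x)) : Set X))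
      (fun x => (X.basicOpen (f x)).2) (fun x hx => Set.mem_iUnion.mpr ⟨⟨x, hx⟩, hxf ⟨x, hx⟩⟩)
    have e : W = ⨆ i, X.basicOpen (f ((t.equivFin.symm i).1)) := by
      refine le_antisymm (fun x hx => ?_) (iSup_le fun i => hf _)
      obtain ⟨y, hy, hxy⟩ := Set.mem_iUnion₂.mp (ht hx)
      refine TopologicalSpace.Opens.mem_iSup.mpr ⟨t.equivFin ⟨y, hy⟩, ?_⟩
      simpa using hxy
    rw [e]
    exact key hV _ _
  refine compact_open_induction_on U hU (h₁ _ (isAffineOpen_bot X)) ?_
  intro S hS V hPS
  refine h₂ _ _ hS V.2 hPS (h₁ _ V.2) (small V.2 ?_ inf_le_right)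
  exact QuasiSeparatedSpace.inter_isCompact _ _ S.2 hS V.1.2 V.2.isCompact

end Groth.Agent.S0015
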