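import Groth.Statements.S0016
import Groth.Agent.CohAff.Vanishing
import Groth.Agent.S0015

set_option autoImplicit false
universe u
open Coherent

namespace Groth.Agent.S0016

open AlgebraicGeometry in
/-- For a quasi-compact quasi-separated scheme X there is a natural number d such that H^p(X, F) = 0 for
every quasi-coherent F and every p ≥ d; vanishing is stated as Subsingleton of the cohomology group.
(The published statement gives an explicit d in terms of a covering by quasi-compact separated
opens; here only existence of some d is asserted.) -/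
theorem result (X : Scheme.{u}) [CompactSpace X]
    [QuasiSeparatedSpace X] :
    ∃ d : ℕ, ∀ (M : X.Modules), Coh.IsQCoh M → ∀ p : ℕ, d ≤ p → Subsingleton (Coh.HH X M p) := by
  suffices h : ∃ d : ℕ, Groth.Agent.CohAff.VanishOn (Groth.Agent.CohAff.affCov X) (⊤ : X.Opens) d by
    obtain ⟨d, hd⟩ := h
    refine ⟨d + 1, fun M hM p hp => ?_⟩
    obtain ⟨m, rfl⟩ := Nat.exists_eq_add_of_le' hp
    exact (Groth.Agent.CohAff.subsingleton_H_iff (Coh.toAb M) (m + d)).2
      (hd.mono (Nat.le_add_left d m) _ (Groth.Agent.CohAff.good_affCov M))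
  refine Groth.Agent.S0015.result X
    (fun U => ∃ d, Groth.Agent.CohAff.VanishOn (Groth.Agent.CohAff.affCov X) U d)
    (fun U hU => ⟨0, Groth.Agent.CohAff.vanishOn_of_mem (C := Groth.Agent.CohAff.affCov X) hU 0⟩)
    ?_ ⊤ isCompact_univ
  rintro U V - - ⟨a, ha⟩ ⟨b, hb⟩ ⟨c, hc⟩
  exact ⟨max a (max b c) + 1,
    (ha.mono (by omega)).sup (hb.mono (by omega)) (hc.mono (by omega))⟩

end Groth.Agent.S0016
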