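import Groth.Statements.S2332
import Groth.Agent.AmpleLib.Functorial

set_option autoImplicit false
set_option linter.style.haveILetI false
universe u
open CategoryTheory CategoryTheory.Limits AlgebraicGeometry
open EGA2

namespace Groth.Agent.S2332

/-- Let f : X → Y be quasi-compact, g : Y' → Y any morphism, and L an O_X-module ample relative to f.
Then the pullback of L to X ×_Y Y' is ample relative to the base-changed morphism X ×_Y Y' → Y'. -/
theorem result {X Y Y' : Scheme.{u}} (f : X ⟶ Y) [QuasiCompact f] (g : Y' ⟶ Y) (L : X.Modules)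
    (hL : RelAmple.IsRelAmple f L) :
    RelAmple.IsRelAmple (pullback.snd f g) ((Scheme.Modules.pullback (pullback.fst f g)).obj L) := by
  obtain ⟨-, hL', hV⟩ := AmpleLib.isRelAmple_iff.mp hL
  have hLP := PicCl.isInvertible_pullback (pullback.fst f g) hL'
  choose V hVa hyV _ using fun y : Y' ↦
    exists_isAffineOpen_mem_and_subset (X := Y) (x := g y) (U := ⊤) trivial
  choose W hW hyW hWV using fun y : Y' ↦
    exists_isAffineOpen_mem_and_subset (X := Y') (x := y) (U := g ⁻¹ᵁ V y) (hyV y)
  refine AmpleLib.isRelAmple_of_cover (pullback.snd f g) W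
    (fun y _ ↦ TopologicalSpace.Opens.mem_iSup.mpr ⟨y, hyW y⟩) hLP fun y ↦ ?_
  have hle : pullback.snd f g ⁻¹ᵁ W y ≤ pullback.fst f g ⁻¹ᵁ (f ⁻¹ᵁ V y) := by
    intro p hp
    have hp' : g (pullback.snd f g p) ∈ V y := hWV y hp
    show f (pullback.fst f g p) ∈ V y
    rw [← Scheme.Hom.comp_apply, pullback.condition, Scheme.Hom.comp_apply]
    exact hp'
  refine AmpleLib.ampleOn_pullback_of_qa hL' (pullback.fst f g) hle (hV ⟨V y, hVa y⟩)
    fun U hU hUO ↦ AmpleLib.isQuasiAffine_of_isAffineOpen ?_
  haveI : IsAffine U.toScheme := hU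
  haveI : IsAffine (V y).toScheme := hVa y
  haveI : IsAffine (W y).toScheme := hW y
  let f' : U.toScheme ⟶ (V y).toScheme := f.resLE (V y) U hUO
  let g' : (W y).toScheme ⟶ (V y).toScheme := g.resLE (V y) (W y) (hWV y)
  let p : pullback f' g' ⟶ pullback f g :=
    pullback.map _ _ _ _ U.ι (W y).ι (V y).ι (by simp [f']) (by simp [g'])
  convert isAffineOpen_opensRange p
  ext1
  simp [p, Scheme.Pullback.range_map]

end Groth.Agent.S2332
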