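import Groth.Statements.S4652
import Groth.Agent.Props.QProj
import Groth.Agent.KFlat.LocFree

set_option autoImplicit false
set_option linter.style.haveILetI false
open CategoryTheory AlgebraicGeometry
universe u
open FDesc

namespace Groth.Agent.S4652

open AlgebraicGeometry CategoryTheory in
theorem isFinLocFree_freeMod (Z : Scheme.{u}) (n : ℕ) : FlatMod.IsFinLocFree (FlatMod.freeMod Z n) :=
  fun _ => ⟨⊤, n, trivial, ⟨(Scheme.Modules.restrictFunctorIsoPullback _).app _ ≪≫
    Groth.Agent.KFlat.LocFree.pullFreeIso _ n⟩⟩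

/-- Let X be a scheme, F a finitely presented O_X-module and x a point of X. Then F_x is a flat module
over the local ring O_{X,x} if and only if x has an open neighbourhood U such that the restriction
of F to U is finite locally free. -/
theorem result {X : Scheme.{u}} (F : X.Modules) (hF : CohB1.IsFP F) (x : X) :
    FlatMod.IsFlatAt F x ↔ ∃ U : X.Opens, x ∈ U ∧ FlatMod.IsFinLocFree ((Scheme.Modules.pullback U.ι).obj F) := by
  haveI : SheafOfModules.IsFinitePresentation.{u} F := hF
  haveI : F.IsQuasicoherent := SheafOfModules.IsQuasicoherent.mk (R := X.ringCatSheaf) ⟨(SheafOfModules.IsFinitePresentation.exists_quasicoherentData.{u} (R := X.ringCatSheaf) F).choose⟩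
  constructor
  · intro h
    obtain ⟨_, ⟨W, hW, rfl⟩, hx, -⟩ := X.isBasis_affineOpens.exists_subset_of_mem_open
      (Set.mem_univ x) isOpen_univ
    replace hW : IsAffineOpen W := hW
    have hfp : Module.FinitePresentation Γ(X, W) Γ(F, W) :=
      Groth.Agent.Props.QFP.finitePresentation_sections_of_isFP F hW
    haveI := Groth.Agent.Props.QProj.finite_stalk F hW hx
    haveI : Module.Flat (X.presheaf.stalk x) (F.presheaf.stalk x) := h
    obtain ⟨V, n, hxV, ⟨e⟩⟩ := Groth.Agent.Props.QProj.exists_free_nhd F hW hx hfp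
      Module.free_of_flat_of_isLocalRing
    exact ⟨V, hxV, Groth.Agent.KFlat.LocFree.isFinLocFree_of_iso
      (e.symm ≪≫ (Scheme.Modules.restrictFunctorIsoPullback V.ι).app F) (isFinLocFree_freeMod _ n)⟩
  · rintro ⟨U, hxU, h⟩
    obtain ⟨V', n, hxV, ⟨e⟩⟩ := Groth.Agent.KFlat.LocFree.isFinLocFree_of_iso
      ((Scheme.Modules.restrictFunctorIsoPullback U.ι).app F).symm h ⟨x, hxU⟩
    let j := (U.ι.isoImage V').inv
    let e' : F.restrict (U.ι ''ᵁ V').ι ≅ FlatMod.freeMod ↑(U.ι ''ᵁ V') n :=
      (Scheme.Modules.restrictFunctorCongr (U.ι.isoImage_inv_ι V').symm).app F ≪≫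
        (Scheme.Modules.restrictFunctorComp j (V'.ι ≫ U.ι)).app F ≪≫
        (Scheme.Modules.restrictFunctor j).mapIso
          ((Scheme.Modules.restrictFunctorComp V'.ι U.ι).app F ≪≫ e) ≪≫
        (Scheme.Modules.restrictFunctorIsoPullback j).app _ ≪≫
        Groth.Agent.KFlat.LocFree.pullFreeIso j n
    have hxV' : x ∈ U.ι ''ᵁ V' := ⟨⟨x, hxU⟩, hxV, rfl⟩
    obtain ⟨_, ⟨W, hW, rfl⟩, hxW, hWV⟩ :=
      X.isBasis_affineOpens.exists_subset_of_mem_open hxV' (U.ι ''ᵁ V').2
    replace hW : IsAffineOpen W := hW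
    obtain ⟨b⟩ := Groth.Agent.Props.QProj.free_sections_of_restrict_iso F e' hW hWV
    haveI : Module.Free Γ(X, W) Γ(F, W) := .of_basis b
    haveI : Module.Finite Γ(X, W) Γ(F, W) := .of_basis b
    haveI := Groth.Agent.Props.QProj.free_stalk_of_flat F hW hxW
    show Module.Flat (X.presheaf.stalk x) (F.presheaf.stalk x)
    infer_instance

end Groth.Agent.S4652
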