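import Groth.Statements.S4790
import Groth.Agent.LimTop.ModEventual

set_option autoImplicit false
universe u
open CategoryTheory AlgebraicGeometry
open Lim8

namespace Groth.Agent.S4790

/-- Let S = lim S_i be a cofiltered limit of schemes with affine transition maps and S_{i₀} a
quasi-compact quasi-separated stage; let F₀ and G₀ be quasi-coherent O-modules of finite
presentation on S_{i₀}. Then the pullbacks of F₀ and G₀ along S ⟶ S_{i₀} are isomorphic if and only
if, for some index j over i₀, their pullbacks along S_j ⟶ S_{i₀} are isomorphic. -/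
theorem result {I : Type u} [SmallCategory I] [IsCofiltered I]
    (D : I ⥤ Scheme.{u}) (c : Limits.Cone D) (hc : Limits.IsLimit c)
    [∀ (i j : I) (f : i ⟶ j), IsAffineHom (D.map f)] (i₀ : I) [CompactSpace (D.obj i₀)]
    [QuasiSeparatedSpace (D.obj i₀)] (F₀ G₀ : (D.obj i₀).Modules)
    [Coh.IsQCoh F₀] (hF₀fp : CohB1.IsFP F₀)
    [Coh.IsQCoh G₀] (hG₀fp : CohB1.IsFP G₀) :
    Nonempty ((Scheme.Modules.pullback (c.π.app i₀)).obj F₀ ≅ (Scheme.Modules.pullback (c.π.app i₀)).obj G₀) ↔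
      ∃ (j : I) (φ : j ⟶ i₀),
        Nonempty ((Scheme.Modules.pullback (D.map φ)).obj F₀ ≅ (Scheme.Modules.pullback (D.map φ)).obj G₀) := by
  open CategoryTheory.Limits Groth.Agent.LimTop in
  constructor
  · rintro ⟨e⟩
    obtain ⟨j, φ, hj, hh⟩ := exists_hom_descend hc F₀ G₀ (fpOn_of_isFP F₀ hF₀fp ⊤) e.hom
    have := compactSpace_stage (D := D) φ
    have hiso : IsIso ((Scheme.Modules.pullback (c.π.app j)).map hj) := by
      rw [(((compIso (c.π.app j) (D.map φ) (c.w φ)).app F₀).inv_comp_eq).mp hh |> fun h =>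
        (Iso.eq_comp_inv _).mpr h]
      infer_instance
    obtain ⟨k, ψ, hk⟩ := eventually_isIso hc
      ((fpOn_of_isFP F₀ hF₀fp ⊤).finOn.pullback (D.map φ) le_top)
      ((fpOn_of_isFP G₀ hG₀fp ⊤).pullback (D.map φ) le_top) hj hiso
    exact ⟨k, ψ ≫ φ, ⟨((compIso (D.map ψ) (D.map φ) (w_comp ψ φ)).app F₀).symm ≪≫
      @asIso _ _ _ _ _ hk ≪≫ (compIso (D.map ψ) (D.map φ) (w_comp ψ φ)).app G₀⟩⟩
  · rintro ⟨j, φ, ⟨e⟩⟩
    exact ⟨((compIso (c.π.app j) (D.map φ) (c.w φ)).app F₀).symm ≪≫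
      (Scheme.Modules.pullback (c.π.app j)).mapIso e ≪≫
        (compIso (c.π.app j) (D.map φ) (c.w φ)).app G₀⟩

end Groth.Agent.S4790
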