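import Groth.Statements.S0054
import Groth.Agent.FormalFun.AmpleFibre
import Groth.Agent.S0051
import Groth.Agent.AmpleDesc.RelLimit
import Groth.Agent.LimLib.StalkSystem

set_option autoImplicit false
universe u
open Coherent

namespace Groth.Agent.S0054

open AlgebraicGeometry CategoryTheory in
/-- Let f : X → Y be proper with Y Noetherian, L invertible on X, and y a point such that the pullback
of L to the fibre X_y is ample. Then there is an open neighbourhood V of y such that L is ample on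
f⁻¹(W) for every affine open W ⊆ V (i.e. L is relatively ample over V). -/
theorem result {X Y : Scheme.{u}} (f : X ⟶ Y) [IsProper f] [IsNoetherian Y]
    (L : X.Modules) (hL : PicF.IsInvertible L) (y : Y)
    (hy : CohB1.IsAmple ((Scheme.Modules.pullback (f.fiberι y)).obj L)) :
    ∃ V : Y.Opens, y ∈ V ∧ ∀ W : Y.Opens, W ≤ V → IsAffineOpen W →
      CohB1.IsAmple (L.restrict (f ⁻¹ᵁ W).ι) := by
  let R := Y.presheaf.stalk y
  let X₁ := Limits.pullback f (Y.fromSpecStalk y)
  let g : X₁ ⟶ X := Limits.pullback.fst _ _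
  let : X₁.Over (Spec (CommRingCat.of R)) := ⟨Limits.pullback.snd _ _⟩
  have hsq : IsPullback g (X₁ ↘ Spec (CommRingCat.of R)) f (Y.fromSpecStalk y) :=
    IsPullback.of_hasPullback _ _
  haveI : IsProper (X₁ ↘ Spec (CommRingCat.of R)) := MorphismProperty.of_isPullback hsq ‹IsProper f›
  haveI := FormalFun.isLocallyNoetherian_of_proper R X₁
  haveI := FormalFun.compactSpace_of_proper R X₁
  obtain ⟨e, he⟩ := FormalFun.exists_fiber_iso_fst hsq (IsLocalRing.closedPoint R) y
    Scheme.fromSpecStalk_closedPoint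
  haveI := FormalFun.isClosedImmersion_cι R X₁
  haveI : CompactSpace ↥(FormalFun.cfib R X₁) := (FormalFun.cι R X₁).isClosedEmbedding.compactSpace
  have hg : PicF.IsInvertible ((Scheme.Modules.pullback g).obj L) := PicCl.isInvertible_pullback g hL
  have ha : CohB1.IsAmple ((Scheme.Modules.pullback (FormalFun.cι R X₁)).obj
      ((Scheme.Modules.pullback g).obj L)) :=
    AmpleLib.isAmple_of_iso ((LimTop.compIso e.hom (f.fiberι y) he).app L ≪≫
        ((LimTop.compIso (FormalFun.cι R X₁) g rfl).app L).symm)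
      (AmpleLib.isAmple_pullback_of_isInducing e.hom e.hom.homeomorph.isInducing hy)
  -- ampleness over the local ring
  have hloc : CohB1.IsAmple ((Scheme.Modules.pullback g).obj L) :=
    (S0051.result R X₁ (X₁ ↘ Spec (CommRingCat.of R)) _ hg).2 fun M hM =>
      FormalFun.exists_bound_of_ample_cfib R X₁ hg ha hM
  -- spreading out
  obtain ⟨T⟩ := LimLib.nonempty_stalkSystem Y y
  obtain ⟨hT⟩ := T.isLimit
  obtain ⟨i₀⟩ : Nonempty T.Jᵒᵖ := ⟨Opposite.op T.ne.some⟩
  haveI := T.isAffine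
  haveI := T.isOpenImmersion
  haveI : ∀ (i j : T.Jᵒᵖ) (a : i ⟶ j), IsAffineHom (T.D.map a) := fun i j a => isAffineHom_of_isAffine _
  let X₀ := Limits.pullback f (T.ι.app i₀)
  let f₀ : X₀ ⟶ T.D.obj i₀ := Limits.pullback.snd _ _
  let r : X₀ ⟶ X := Limits.pullback.fst _ _
  let q : X₁ ⟶ X₀ := Limits.pullback.lift g ((X₁ ↘ Spec (CommRingCat.of R)) ≫ T.π.app i₀)
    (by rw [hsq.w, Category.assoc]; exact congrArg (_ ≫ ·) (T.fac i₀).symm)
  have hq : IsPullback q (X₁ ↘ Spec (CommRingCat.of R)) f₀ (T.π.app i₀) := by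
    refine IsPullback.of_right (h₁₂ := r) (v₁₃ := f) (h₂₂ := T.ι.app i₀) ?_
      (Limits.pullback.lift_snd _ _ _) (IsPullback.of_hasPullback f (T.ι.app i₀))
    show IsPullback (q ≫ r) _ f (T.π.app i₀ ≫ T.ι.app i₀)
    rw [T.fac i₀, Limits.pullback.lift_fst]
    exact hsq
  haveI : IsProper f₀ := MorphismProperty.pullback_snd (P := @IsProper) _ _ ‹_›
  haveI : CompactSpace X₀ := QuasiCompact.compactSpace_of_compactSpace f₀
  haveI : QuasiSeparatedSpace X₀ := quasiSeparatedSpace_of_quasiSeparated f₀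
  let i₁ : Over i₀ := Over.mk (𝟙 i₀)
  let r₁ : (LimLib.bcDiag T.D i₀ f₀).obj i₁ ⟶ X := Limits.pullback.fst f₀ (T.D.map i₁.hom) ≫ r
  let hY : IsPullback q (X₁ ↘ Spec (CommRingCat.of R)) f₀
      ((Limits.Cone.mk _ T.π).π.app i₀) := hq
  have hu : (LimLib.bcCone (c := Limits.Cone.mk _ T.π) hY).π.app i₁ ≫ r₁ = g := by
    show Limits.pullback.lift _ _ _ ≫ Limits.pullback.fst _ _ ≫ r = g
    rw [Limits.pullback.lift_fst_assoc, Limits.pullback.lift_fst]
  have h1 : CohB1.IsAmple ((Scheme.Modules.pullback ((LimLib.bcCone (c := Limits.Cone.mk _ T.π) hY).π.app i₁)).obj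
      ((Scheme.Modules.pullback r₁).obj L)) :=
    AmpleLib.isAmple_of_iso ((Scheme.Modules.pullbackCongr hu.symm).app L ≪≫
      ((Scheme.Modules.pullbackComp _ r₁).app L).symm) hloc
  obtain ⟨j, hj⟩ := AmpleDesc.exists_isAmple_descend (LimLib.isLimitBcCone hT hY) (i₀ := i₁)
    (PicCl.isInvertible_pullback r₁ hL) h1
  let k := j.left.left
  let rk : (LimLib.bcDiag T.D i₀ f₀).obj j.left ⟶ X := (LimLib.bcDiag T.D i₀ f₀).map j.hom ≫ r₁
  have hrk : CohB1.IsAmple ((Scheme.Modules.pullback rk).obj L) :=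
    AmpleLib.isAmple_of_iso ((Scheme.Modules.pullbackComp _ r₁).app L) hj
  have hrkpb : IsPullback rk (Limits.pullback.snd f₀ (T.D.map j.left.hom)) f (T.ι.app k) := by
    have h := (IsPullback.of_hasPullback f₀ (T.D.map j.left.hom)).paste_horiz
      (IsPullback.of_hasPullback f (T.ι.app i₀))
    have e1 : T.D.map j.left.hom ≫ T.ι.app i₀ = T.ι.app k :=
      (T.ι.naturality j.left.hom).trans (Category.comp_id _)
    rw [e1] at h
    have e2 : rk = Limits.pullback.fst f₀ (T.D.map j.left.hom) ≫ r := by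
      show Limits.pullback.lift _ _ _ ≫ Limits.pullback.fst _ _ ≫ r = _
      rw [Limits.pullback.lift_fst_assoc]
      rfl
    rw [e2]
    exact h
  refine ⟨(T.ι.app k).opensRange, T.mem k, fun W hW hWa => ?_⟩
  have hsub : Set.range W.ι ⊆ Set.range (T.ι.app k) := by
    rw [Scheme.Opens.range_ι]
    exact hW
  let w : W.toScheme ⟶ T.D.obj k := IsOpenImmersion.lift (T.ι.app k) W.ι hsub
  have hw : w ≫ T.ι.app k = W.ι := IsOpenImmersion.lift_fac _ _ _
  haveI : IsAffine W.toScheme := hWa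
  haveI : IsAffineHom w := isAffineHom_of_isAffine _
  let v : (f ⁻¹ᵁ W).toScheme ⟶ (LimLib.bcDiag T.D i₀ f₀).obj j.left :=
    hrkpb.lift (f ⁻¹ᵁ W).ι ((f ∣_ W) ≫ w) (by rw [Category.assoc, hw, morphismRestrict_ι])
  haveI : IsAffineHom v := by
    refine MorphismProperty.of_isPullback (P := @IsAffineHom) (f' := f ∣_ W) (g' := v) (g := w)
      (f := Limits.pullback.snd f₀ (T.D.map j.left.hom)) ?_ ‹IsAffineHom w›
    refine IsPullback.flip (IsPullback.of_right (h₁₂ := rk) (v₁₃ := f) (h₂₂ := T.ι.app k) ?_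
      (hrkpb.lift_snd _ _ _) hrkpb)
    rw [hrkpb.lift_fst, hw]
    exact (isPullback_morphismRestrict f W).flip
  refine AmpleLib.isAmple_of_iso ?_
    (AmpleLib.isAmple_pullback_of_qaMor v (AmpleDesc.qaMor_of_isAffineHom _) hrk)
  exact (Scheme.Modules.pullbackComp v rk).app L ≪≫
    (Scheme.Modules.pullbackCongr (hrkpb.lift_fst _ _ _)).app L ≪≫
    ((Scheme.Modules.restrictFunctorIsoPullback (f ⁻¹ᵁ W).ι).app L).symm

end Groth.Agent.S0054
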