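import Groth.Statements.S4385
import Groth.Agent.Props.AmpleCoprod

set_option autoImplicit false
universe u
open CategoryTheory CategoryTheory.Limits AlgebraicGeometry
open EGA2

namespace Groth.Agent.S4385

/-- Let f : X → Y and f' : X' → Y be quasi-compact morphisms, X'' = X ⨿ X' their disjoint union with f''
: X'' → Y the morphism restricting to f and f', and L'' an O_{X''}-module whose inverse images L on
X and L' on X' (along the two coprojections) are invertible. Then L'' is ample relative to f'' if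
and only if L is ample relative to f and L' is ample relative to f'. -/
theorem result {X X' Y : Scheme.{u}} (f : X ⟶ Y) (f' : X' ⟶ Y) [QuasiCompact f] [QuasiCompact f']
    (L'' : (X ⨿ X').Modules)
    (hL : PicF.IsInvertible ((Scheme.Modules.pullback (coprod.inl : X ⟶ X ⨿ X')).obj L''))
    (hL' : PicF.IsInvertible ((Scheme.Modules.pullback (coprod.inr : X' ⟶ X ⨿ X')).obj L'')) :
    RelAmple.IsRelAmple (coprod.desc f f') L'' ↔
      RelAmple.IsRelAmple f ((Scheme.Modules.pullback (coprod.inl : X ⟶ X ⨿ X')).obj L'') ∧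
        RelAmple.IsRelAmple f' ((Scheme.Modules.pullback (coprod.inr : X' ⟶ X ⨿ X')).obj L'') := by
  have hc := isCompl_opensRange_inl_inr X X'
  have hinv : PicF.IsInvertible L'' := by
    refine AmpleLib.isInvertible_of_forall_restrict
      (fun b : Bool => cond b (coprod.inl : X ⟶ X ⨿ X').opensRange (coprod.inr : X' ⟶ X ⨿ X').opensRange)
      ?_ ?_
    · rw [← hc.sup_eq_top]
      exact sup_le (le_iSup (fun b : Bool => cond b (coprod.inl : X ⟶ X ⨿ X').opensRange
        (coprod.inr : X' ⟶ X ⨿ X').opensRange) true) (le_iSup (fun b : Bool => cond b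
        (coprod.inl : X ⟶ X ⨿ X').opensRange (coprod.inr : X' ⟶ X ⨿ X').opensRange) false)
    · intro b
      have key : ∀ {Z : Scheme.{u}} (j : Z ⟶ X ⨿ X') [IsOpenImmersion j],
          PicF.IsInvertible ((Scheme.Modules.pullback j).obj L'') →
            PicF.IsInvertible (L''.restrict j.opensRange.ι) := by
        intro Z j _ h
        exact PicCl.isInvertible_of_iso ((Scheme.Modules.pullbackComp j.isoOpensRange.inv j).app L'' ≪≫
          (Scheme.Modules.pullbackCongr j.isoOpensRange_inv_comp).app L'' ≪≫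
          ((Scheme.Modules.restrictFunctorIsoPullback j.opensRange.ι).app L'').symm)
          (PicCl.isInvertible_pullback _ h)
      cases b
      · exact key _ hL'
      · exact key _ hL
  rw [Props.AmpleCoprod.isRelAmple_pullback_iff hinv (coprod.inl : X ⟶ X ⨿ X') (coprod.desc f f') f
      (coprod.inl_desc f f'),
    Props.AmpleCoprod.isRelAmple_pullback_iff hinv (coprod.inr : X' ⟶ X ⨿ X') (coprod.desc f f') f'
      (coprod.inr_desc f f'), AmpleLib.isRelAmple_iff]
  constructor
  · rintro ⟨hq, -, h⟩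
    have aux : ∀ {Z : Scheme.{u}} (j : Z ⟶ X ⨿ X') [IsOpenImmersion j] (k : Z ⟶ Y) [QuasiCompact k],
        j ≫ coprod.desc f f' = k → ∀ V : Y.affineOpens,
          AmpleLib.AmpleOn L'' (j.opensRange ⊓ coprod.desc f f' ⁻¹ᵁ V.1) := by
      intro Z j _ k _ hk V
      refine AmpleLib.ampleOn_mono hinv (h V) inf_le_right ?_
      rw [← Scheme.Hom.image_preimage_eq_opensRange_inf, ← Scheme.Hom.comp_preimage, hk]
      exact (k.isCompact_preimage V.2.isCompact).image j.continuous
    exact ⟨⟨inferInstance, aux _ f (coprod.inl_desc f f')⟩,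
      ⟨inferInstance, aux _ f' (coprod.inr_desc f f')⟩⟩
  · rintro ⟨⟨-, h⟩, -, h'⟩
    have e : ∀ P : (X ⨿ X').Opens, ((coprod.inl : X ⟶ X ⨿ X').opensRange ⊓ P) ⊔
        ((coprod.inr : X' ⟶ X ⨿ X').opensRange ⊓ P) = P := fun P => by
      rw [← inf_sup_right, hc.sup_eq_top, top_inf_eq]
    have hA : ∀ V : Y.affineOpens, AmpleLib.AmpleOn L'' (coprod.desc f f' ⁻¹ᵁ V.1) := fun V => by
      rw [← e (coprod.desc f f' ⁻¹ᵁ V.1)]
      refine Props.AmpleCoprod.ampleOn_sup hinv ?_ (h V) (h' V)
      rw [← hc.inf_eq_bot]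
      exact inf_le_inf inf_le_left inf_le_left
    exact ⟨quasiCompact_iff_forall_isAffineOpen.mpr fun V hV => (hA ⟨V, hV⟩).1, hinv, hA⟩

end Groth.Agent.S4385
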