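import Groth.Statements.S4417
import Groth.Agent.S4385
import Groth.Agent.AmpleLib.CompLemma

set_option autoImplicit false
universe u
open CategoryTheory CategoryTheory.Limits AlgebraicGeometry
open EGA2

namespace Groth.Agent.S4417

attribute [local instance] preservesBinaryBiproducts_of_preservesBinaryCoproducts

open Groth.Agent in
lemma isZero_restrict_pushforward {A B Z : Scheme.{u}} (a : A ⟶ Z) (b : B ⟶ Z) [IsOpenImmersion a]
    (h : Disjoint (Set.range a) (Set.range b)) (M : B.Modules) :
    IsZero (((Scheme.Modules.pushforward b).obj M).restrict a) := by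
  rw [IsZero.iff_id_eq_zero]
  refine Scheme.Modules.hom_ext _ _ fun U => ?_
  ext x
  have hle : b ⁻¹ᵁ (a ''ᵁ U) ≤ ⊥ := fun z hz => by
    obtain ⟨w, -, hw⟩ := hz
    exact (Set.disjoint_left.mp h ⟨w, hw⟩ ⟨z, rfl⟩).elim
  exact Props.AmpleCoprod.eq_of_le_bot (M := M) hle _ _

/-- The module on the disjoint union with given restrictions. -/
noncomputable def glueMod {X X' : Scheme.{u}} (L : X.Modules) (L' : X'.Modules) : (X ⨿ X').Modules :=
  (Scheme.Modules.pushforward (coprod.inl : X ⟶ X ⨿ X')).obj L ⊞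
    (Scheme.Modules.pushforward (coprod.inr : X' ⟶ X ⨿ X')).obj L'

lemma disjoint_range (X X' : Scheme.{u}) :
    Disjoint (Set.range (coprod.inl : X ⟶ X ⨿ X')) (Set.range (coprod.inr : X' ⟶ X ⨿ X')) := by
  rw [Set.disjoint_left]
  rintro _ ⟨a, rfl⟩ ⟨b, hb⟩
  exact inl_ne_inr X X' a b hb.symm

/-- The first restriction. -/
noncomputable def glueModInl {X X' : Scheme.{u}} (L : X.Modules) (L' : X'.Modules) :
    (Scheme.Modules.pullback (coprod.inl : X ⟶ X ⨿ X')).obj (glueMod L L') ≅ L :=
  ((Scheme.Modules.restrictFunctorIsoPullback _).app _).symm ≪≫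
    (Scheme.Modules.restrictFunctor _).mapBiprod _ _ ≪≫
    (isoBiprodZero (isZero_restrict_pushforward _ _ (disjoint_range X X') L')).symm ≪≫
    (Scheme.Modules.restrictFunctorAdjCounitIso _).app L

/-- The second restriction. -/
noncomputable def glueModInr {X X' : Scheme.{u}} (L : X.Modules) (L' : X'.Modules) :
    (Scheme.Modules.pullback (coprod.inr : X' ⟶ X ⨿ X')).obj (glueMod L L') ≅ L' :=
  ((Scheme.Modules.restrictFunctorIsoPullback _).app _).symm ≪≫
    (Scheme.Modules.restrictFunctor _).mapBiprod _ _ ≪≫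
    (isoZeroBiprod (isZero_restrict_pushforward _ _ (disjoint_range X X').symm L)).symm ≪≫
    (Scheme.Modules.restrictFunctorAdjCounitIso _).app L'

open Groth.Agent in
lemma isRelAmple_of_iso {X Y : Scheme.{u}} {f : X ⟶ Y} {L M : X.Modules} (e : L ≅ M)
    (h : RelAmple.IsRelAmple f L) : RelAmple.IsRelAmple f M := by
  rw [AmpleLib.isRelAmple_iff] at h ⊢
  exact ⟨h.1, PicCl.isInvertible_of_iso e h.2.1, fun V => AmpleLib.ampleOn_of_iso e (h.2.2 V)⟩

/-- Let f : X → Y and f' : X' → Y be quasi-projective morphisms (of finite type, each admitting a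
relatively ample module). Then the morphism X ⨿ X' → Y restricting to f and f' on the two summands
is quasi-projective. -/
theorem result {X X' Y : Scheme.{u}} (f : X ⟶ Y) (f' : X' ⟶ Y)
    (hf : RelProj.IsQuasiProjective f) (hf' : RelProj.IsQuasiProjective f') :
    RelProj.IsQuasiProjective (coprod.desc f f') := by
  obtain ⟨hft, hqc, L, hL⟩ := hf
  obtain ⟨hft', hqc', L', hL'⟩ := hf'
  have hiL := Groth.Agent.AmpleLib.isInvertible_of_isRelAmple hL
  have hiL' := Groth.Agent.AmpleLib.isInvertible_of_isRelAmple hL'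
  have hamp : RelAmple.IsRelAmple (coprod.desc f f') (glueMod L L') :=
    (Groth.Agent.S4385.result f f' (glueMod L L') (PicCl.isInvertible_of_iso (glueModInl L L').symm hiL)
      (PicCl.isInvertible_of_iso (glueModInr L L').symm hiL')).mpr
      ⟨isRelAmple_of_iso (glueModInl L L').symm hL, isRelAmple_of_iso (glueModInr L L').symm hL'⟩
  refine ⟨?_, hamp.1, _, hamp⟩
  refine (IsZariskiLocalAtSource.iff_of_openCover (P := @LocallyOfFiniteType) (coprodOpenCover.{u, 0} X X')).mpr ?_
  rintro (⟨⟨⟩⟩|⟨⟨⟩⟩)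
  · change LocallyOfFiniteType (coprod.inl ≫ coprod.desc f f')
    rw [coprod.inl_desc]; exact hft
  · change LocallyOfFiniteType (coprod.inr ≫ coprod.desc f f')
    rw [coprod.inr_desc]; exact hft'

end Groth.Agent.S4417
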