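import Groth.Statements.S10963
import Groth.Agent.LineCoc.Basic

set_option autoImplicit false
universe u
open CategoryTheory AlgebraicGeometry TopologicalSpace Opposite
open PicF

namespace Groth.Agent.S10963

/-- Let X be a scheme, (U_i)_{i ∈ ι} an open cover of X and, for all i, j, a unit η_ij of the ring of
functions on U_i ∩ U_j, such that on every triple intersection U_i ∩ U_j ∩ U_k the cocycle identity
η_ik = η_ij · η_jk holds. Then there exist an invertible O_X-module L and sections s_i of L over U_i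
such that each s_i generates L over U_i — for every open V ⊆ U_i the map r ↦ r · s_i|_V from
functions on V to sections of L over V is bijective — and s_i|_{U_i ∩ U_j} = η_ij · s_j|_{U_i ∩ U_j}
for all i, j. (This is the surjectivity of the map from invertible modules trivialised by the cover
to Čech 1-cohomology classes of the cover with values in the sheaf of units.) -/
theorem result (X : Scheme.{u}) {ι : Type u} (U : ι → X.Opens)
    (hU : iSup U = ⊤) (η : ∀ i j : ι, (Γ(X, U i ⊓ U j))ˣ)
    (hη : ∀ i j k : ι,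
      X.presheaf.map (homOfLE (inf_le_inf_right (U k) inf_le_left : U i ⊓ U j ⊓ U k ≤ U i ⊓ U k)).op
          (η i k : Γ(X, U i ⊓ U k)) =
        X.presheaf.map (homOfLE (inf_le_left : U i ⊓ U j ⊓ U k ≤ U i ⊓ U j)).op (η i j : Γ(X, U i ⊓ U j)) *
          X.presheaf.map (homOfLE (inf_le_inf_right (U k) inf_le_right : U i ⊓ U j ⊓ U k ≤ U j ⊓ U k)).op
            (η j k : Γ(X, U j ⊓ U k))) :
    ∃ (L : X.Modules) (s : ∀ i : ι, Γ(L, U i)),
      PicF.IsInvertible L ∧
      (∀ (i : ι) (V : X.Opens) (h : V ≤ U i),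
        Function.Bijective (fun r : Γ(X, V) => r • L.presheaf.map (homOfLE h).op (s i))) ∧
      ∀ i j : ι, L.presheaf.map (homOfLE (inf_le_left : U i ⊓ U j ≤ U i)).op (s i) =
        (η i j : Γ(X, U i ⊓ U j)) • L.presheaf.map (homOfLE (inf_le_right : U i ⊓ U j ≤ U j)).op (s j) := by
  classical
  have hself : ∀ i, (η i i : Γ(X, U i ⊓ U i)) = 1 := fun i => by
    have h := hη i i i
    have h2 := congrArg (fun z => X.presheaf.map (homOfLE (le_inf le_rfl inf_le_left : U i ⊓ U i ≤ (U i ⊓ U i) ⊓ U i)).op z) h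
    simp only [map_mul, ← ConcreteCategory.comp_apply, ← Functor.map_comp] at h2
    have e : ∀ (h' : U i ⊓ U i ≤ U i ⊓ U i) (z : Γ(X, U i ⊓ U i)), X.presheaf.map (homOfLE h').op z = z :=
      fun h' z => QCoh.rres_self h' z
    have h3 : (η i i : Γ(X, U i ⊓ U i)) = (η i i : Γ(X, U i ⊓ U i)) * (η i i : Γ(X, U i ⊓ U i)) :=
      (e le_rfl _).symm.trans (h2.trans (congrArg₂ (· * ·) (e le_rfl _) (e le_rfl _)))
    exact ((η i i).isUnit.mul_left_cancel (h3.symm.trans (mul_one _).symm))
  let C : LineCoc.Cocycle X :=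
    { ι := ι
      W := U
      a := fun i j => QCoh.rres (le_inf inf_le_right inf_le_left : U i ⊓ U j ≤ U j ⊓ U i) (η j i : Γ(X, U j ⊓ U i))
      cover := hU.ge
      self := fun i => by rw [hself, map_one]
      coc := fun i j k V h₁ h₂ h₃ => by
        have hV : V ≤ U k ⊓ U j ⊓ U i := le_inf (le_inf (h₂.trans inf_le_right) (h₂.trans inf_le_left))
          (h₁.trans inf_le_left)
        have h := congrArg (QCoh.rres hV) (hη k j i)
        simp only [QCoh.rres, map_mul, ← ConcreteCategory.comp_apply, ← Functor.map_comp] at h ⊢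
        rw [mul_comm]
        exact h.symm }
  refine ⟨LineCoc.mod C, fun i => LineCoc.gen C i, LineCoc.isInvertible C,
    fun i V h => LineCoc.isGen_gen C i V h, fun i j => ?_⟩
  have h := LineCoc.res_gen_eq C j i
  have e : ∀ z : Γ(X, U i ⊓ U j), QCoh.rres (le_inf inf_le_right inf_le_left : U i ⊓ U j ≤ U j ⊓ U i)
      (QCoh.rres (le_inf inf_le_right inf_le_left : U j ⊓ U i ≤ U i ⊓ U j) z) = z := fun z =>
    (QCoh.rres_rres _ _ z).trans (QCoh.rres_self _ z)
  have h2 := congrArg (QCoh.res (LineCoc.mod C) (le_inf inf_le_right inf_le_left : U i ⊓ U j ≤ U j ⊓ U i)) h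
  rw [QCoh.res_res, Scheme.Modules.map_smul, QCoh.res_res] at h2
  exact h2.trans (congrArg₂ (· • ·) (e _) rfl)

end Groth.Agent.S10963
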