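import Groth.Statements.S0478
import Groth.Agent.DHA.KInjectiveResolution
import Groth.Agent.DHA.KInj.Products
-- import your own Groth.Agent.* helpers here

set_option autoImplicit false
universe v u
open CategoryTheory
open CohDer

namespace Groth.Agent.S0478

open CategoryTheory.Limits in
/-- For a Grothendieck abelian category A the derived category D(A) has all products indexed by small
types. The published statement also computes them as termwise products of K-injective
representatives, which is not asserted here. -/
theorem result {A : Type u} [Category.{v} A] [Abelian A] [IsGrothendieckAbelian.{v} A]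
    [HasDerivedCategory.{v} A] : HasProducts.{v} (DerivedCategory A) := by
  exact fun J => ⟨fun F => by
    let I : J → CochainComplex A ℤ := fun j =>
      (Groth.Agent.DHA.KInj.resolution A).obj (DerivedCategory.Q.objPreimage (F.obj ⟨j⟩))
    have := Groth.Agent.DHA.KInj.hasProduct_of_isKInjective I
    have e : ∀ j, DerivedCategory.Q.obj (I j) ≅ F.obj ⟨j⟩ := fun j =>
      (asIso (DerivedCategory.Q.map ((Groth.Agent.DHA.KInj.resolutionι A).app
        (DerivedCategory.Q.objPreimage (F.obj ⟨j⟩))))).symm ≪≫
        DerivedCategory.Q.objObjPreimageIso (F.obj ⟨j⟩)
    exact hasLimit_of_iso (Discrete.natIso (fun j => e j.as) :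
      Discrete.functor (fun j => DerivedCategory.Q.obj (I j)) ≅ F)⟩

end Groth.Agent.S0478
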