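import Groth.Statements.S0481
-- import your own Groth.Agent.* helpers here

set_option autoImplicit false
universe v u
open CategoryTheory
open CohDer

namespace Groth.Agent.S0481

open CategoryTheory.Limits in
/-- Let u : A ⥤ B be right adjoint to an exact additive functor w : B ⥤ A between abelian categories.
Then u applied termwise sends K-injective complexes to K-injective complexes. -/
theorem result {A : Type u} [Category.{v} A] [Abelian A]
    {B : Type u} [Category.{v} B] [Abelian B] (u : A ⥤ B) (w : B ⥤ A) (adj : w ⊣ u)
    [u.Additive] [w.Additive] [PreservesFiniteLimits w] [PreservesFiniteColimits w]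
    (I : CochainComplex A ℤ) (h : I.IsKInjective) :
    CochainComplex.IsKInjective ((u.mapHomologicalComplex (ComplexShape.up ℤ)).obj I) := by
  refine ⟨fun {K} f hK => ?_⟩
  let a : ∀ i, K.X i ⟶ u.obj (I.X i) := fun i => f.f i
  have ha : ∀ i j, a i ≫ u.map (I.d i j) = K.d i j ≫ a j := fun i j => f.comm i j
  let f' : (w.mapHomologicalComplex (ComplexShape.up ℤ)).obj K ⟶ I :=
    { f := fun i => (adj.homEquiv _ _).symm (a i)
      comm' := fun i j _ => by
        change (adj.homEquiv _ _).symm (a i) ≫ I.d i j =
          w.map (K.d i j) ≫ (adj.homEquiv _ _).symm (a j)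
        rw [← adj.homEquiv_naturality_left_symm, ← adj.homEquiv_naturality_right_symm]
        exact congrArg (adj.homEquiv _ _).symm (ha i j) }
  have hK' : ((w.mapHomologicalComplex (ComplexShape.up ℤ)).obj K).Acyclic := fun n =>
    ShortComplex.Exact.map (hK n) w
  obtain ⟨H⟩ := h.nonempty_homotopy_zero f' hK'
  let η : K ⟶ (u.mapHomologicalComplex (ComplexShape.up ℤ)).obj
      ((w.mapHomologicalComplex (ComplexShape.up ℤ)).obj K) :=
    { f := fun i => adj.unit.app _
      comm' := fun i j _ => (adj.unit.naturality (K.d i j)).symm }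
  refine ⟨((Homotopy.ofEq ?_).trans ((u.mapHomotopy H).compLeft η)).trans (Homotopy.ofEq (by simp))⟩
  ext i
  exact ((Adjunction.homEquiv_unit adj _ _ _).symm.trans ((adj.homEquiv _ _).apply_symm_apply (a i))).symm

end Groth.Agent.S0481
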