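import Groth.Statements.S17356
import Groth.Agent.AzInvLib.EtSplit
-- import your own Groth.Agent.* helpers here

set_option autoImplicit false
universe u v w
open scoped TensorProduct
open AzInv

namespace Groth.Agent.S17356

/-- Let `R` be a commutative ring with an involution `lam` whose fixed ring is exactly `S`, and let `A`
be an Azumaya `R`-algebra of degree `n ≥ 1`. Then `A` becomes a matrix algebra after base change
along an etale covering of `S` (and not merely of `R`): there are an etale faithfully flat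
`S`-algebra `S'` and an `S'`-algebra isomorphism from `S' ⊗_S A` to the `n × n` matrices over `S'
⊗_S R` that carries multiplication by `1 ⊗ r`, for `r` in `R`, to multiplication by the scalar
matrix `1 ⊗ r`. (The source states this for a good quotient of schemes by an involution; the row is
the affine case `Spec R → Spec S`.) -/
theorem result (S : Type u) (R : Type v) [CommRing S] [CommRing R] [Algebra S R]
    (lam : R ≃ₐ[S] R) (hlam : ∀ r, lam (lam r) = r) (hfix : RInv.IsFixedRing S R lam.toRingEquiv)
    (A : Type w) [Ring A] [Algebra S A] [Algebra R A] [IsScalarTower S R A]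
    (n : ℕ) (hn : 0 < n) (hA : AzInv.IsAzumayaDeg R A n) :
    ∃ (S' : Type u) (_ : CommRing S') (_ : Algebra S S') (_ : Algebra.Etale S S')
      (_ : Module.FaithfullyFlat S S') (f : S' ⊗[S] A ≃ₐ[S'] Matrix (Fin n) (Fin n) (S' ⊗[S] R)),
      ∀ (r : R) (x : S' ⊗[S] A),
        f (((1 : S') ⊗ₜ[S] algebraMap R A r) * x) = Matrix.scalar (Fin n) ((1 : S') ⊗ₜ[S] r) * f x := by
  classical
  obtain ⟨hAz, hrk⟩ := hA
  haveI := hAz
  obtain ⟨T, _, _, hE, hF, ⟨g⟩⟩ := Groth.Agent.AzInvLib.exists_cover (S := S)
    (fun T _ _ => Groth.Agent.AzInvLib.Splits (R := R) S A n T)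
    (fun P => Groth.Agent.AzInvLib.splits_near hrk lam hlam hfix P)
    (fun T _ _ h => Groth.Agent.AzInvLib.splits_pi T h)
  haveI := Groth.Agent.Azu.baseChange (R := R) (A := A) (R ⊗[S] T)
  let G : (R ⊗[S] T) ⊗[R] A →ₐ[R ⊗[S] T] Matrix (Fin n) (Fin n) (R ⊗[S] T) :=
    Algebra.TensorProduct.lift (Algebra.ofId _ _) g (fun c a => Algebra.commutes c _)
  have hrk' : ∀ q : PrimeSpectrum (R ⊗[S] T),
      Module.rankAtStalk (R := R ⊗[S] T) ((R ⊗[S] T) ⊗[R] A) q = n ^ 2 := fun q =>
    Groth.Agent.AzInvLib.rankAtStalk_baseChange_eq (R := R) (A := A) (R' := R ⊗[S] T) (d := n ^ 2) hrk q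
  have hG : Function.Bijective G :=
    Groth.Agent.AzInvLib.algHom_matrix_bijective (R := R ⊗[S] T) (A := (R ⊗[S] T) ⊗[R] A) hn hrk' G
  let Φ : Matrix (Fin n) (Fin n) (R ⊗[S] T) ≃ₐ[S] Matrix (Fin n) (Fin n) (T ⊗[S] R) :=
    (Algebra.TensorProduct.comm S R T).mapMatrix
  let f : T ⊗[S] A →ₐ[T] Matrix (Fin n) (Fin n) (T ⊗[S] R) :=
    Algebra.TensorProduct.lift (Algebra.ofId _ _) (Φ.toAlgHom.comp (g.restrictScalars S))
      (fun c a => Algebra.commutes c _)
  let κ : (R ⊗[S] T) ⊗[R] A →ₐ[R] A ⊗[S] T :=
    Algebra.TensorProduct.lift (Algebra.TensorProduct.map (Algebra.ofId R A) (AlgHom.id S T))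
      Algebra.TensorProduct.includeLeft (fun x a => by
        induction x using TensorProduct.induction_on with
        | zero => simp
        | tmul r c =>
          show _ * _ = _ * _
          simp [Algebra.TensorProduct.tmul_mul_tmul, Algebra.commutes r a]
        | add x y hx hy => rw [map_add]; exact hx.add_left hy)
  let σ := Algebra.TensorProduct.comm S A T
  have hκ : Function.Surjective κ := fun x => by
    induction x using TensorProduct.induction_on with
    | zero => exact ⟨0, map_zero κ⟩
    | tmul a c => exact ⟨((1 : R) ⊗ₜ c) ⊗ₜ a, by simp [κ]⟩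
    | add a b ha hb =>
      obtain ⟨a', rfl⟩ := ha
      obtain ⟨b', rfl⟩ := hb
      exact ⟨a' + b', map_add κ _ _⟩
  have hsc : ∀ r : R, f (1 ⊗ₜ algebraMap R A r) = Matrix.scalar (Fin n) ((1 : T) ⊗ₜ[S] r) := fun r => by
    rw [Algebra.TensorProduct.lift_tmul, map_one, one_mul]
    show Φ (g (algebraMap R A r)) = _
    rw [AlgHom.commutes]
    ext i j
    by_cases hij : i = j <;> simp [Φ, Matrix.algebraMap_matrix_apply, hij]
  have hcomp : ∀ x, f (σ (κ x)) = Φ (G x) := fun x => by
    induction x using TensorProduct.induction_on with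
    | zero => simp
    | add a b ha hb => rw [map_add, map_add, map_add, map_add, map_add, ha, hb]
    | tmul x a =>
      induction x using TensorProduct.induction_on with
      | zero => rw [TensorProduct.zero_tmul]; simp
      | add y z hy hz => rw [TensorProduct.add_tmul, map_add, map_add, map_add, map_add, map_add, hy, hz]
      | tmul r c =>
        have h1 : σ (κ ((r ⊗ₜ c) ⊗ₜ a)) = c ⊗ₜ (algebraMap R A r * a) := by simp [σ, κ]
        rw [h1]
        simp only [f, G, Algebra.TensorProduct.lift_tmul, AlgHom.comp_apply]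
        show algebraMap T _ c * Φ (g (algebraMap R A r * a)) = Φ (algebraMap (R ⊗[S] T) _ (r ⊗ₜ c) * g a)
        rw [map_mul g, map_mul Φ, map_mul Φ, ← mul_assoc]
        congr 1
        rw [AlgHom.commutes]
        ext i j
        simp only [Matrix.mul_apply, Φ, AlgEquiv.mapMatrix_apply, Matrix.map_apply]
        by_cases hij : i = j <;> simp [Matrix.algebraMap_matrix_apply, hij, Algebra.TensorProduct.tmul_mul_tmul]
  have hinj : Function.Injective f := fun x y h => by
    obtain ⟨x', rfl⟩ := (σ.surjective.comp hκ) x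
    obtain ⟨y', rfl⟩ := (σ.surjective.comp hκ) y
    simp only [Function.comp_apply] at h ⊢
    rw [hcomp, hcomp] at h
    rw [hG.1 (Φ.injective h)]
  have hsurj : Function.Surjective f := fun M => by
    obtain ⟨x, hx⟩ := hG.2 (Φ.symm M)
    exact ⟨σ (κ x), by rw [hcomp, hx, Φ.apply_symm_apply]⟩
  refine ⟨T, inferInstance, inferInstance, hE, hF, AlgEquiv.ofBijective f ⟨hinj, hsurj⟩, fun r x => ?_⟩
  show f _ = _ * f x
  rw [map_mul, hsc]

end Groth.Agent.S17356
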