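import Groth.Statements.S15574
import Groth.Agent.AzInvLib.Quad

set_option autoImplicit false
universe u v
open RInv

namespace Groth.Agent.S15574

/-- Let `R` be a commutative ring with an involution `lam` whose fixed ring `S` is local, and suppose
`R` is a quadratic etale `S`-algebra. Then some `r` in `R` has `r - lam r` invertible. -/
theorem result (S : Type u) (R : Type v) [CommRing S] [CommRing R]
    [Algebra S R] (lam : R ≃+* R) (hlam : Function.Involutive lam) (hS : RInv.IsFixedRing S R lam)
    [IsLocalRing S] (hq : RInv.IsQuadEtale S R) : ∃ r : R, IsUnit (r - lam r) := by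
  classical
  haveI := hq.1
  haveI := hq.2.1
  haveI : Module.Free S R := Module.free_of_flat_of_isLocalRing
  have hrk : Module.finrank S R = 2 := by
    have := hq.2.2.2 (IsLocalRing.closedPoint S)
    rwa [Module.rankAtStalk_eq_finrank_of_free] at this
  let b := Module.finBasisOfFinrankEq S R hrk
  have hL := Groth.Agent.AzInvLib.lam_algebraMap hS
  have hffl := Groth.Agent.AzInvLib.faithfullyFlat hq
  have hunit : ∃ i, IsUnit (b.repr 1 i) := by
    by_contra! h
    obtain ⟨P, hP⟩ := PrimeSpectrum.comap_surjective_of_faithfullyFlat (A := S) (B := R)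
      (IsLocalRing.closedPoint S)
    refine P.isPrime.ne_top ((Ideal.eq_top_iff_one _).mpr ?_)
    rw [← b.sum_repr 1]
    refine Submodule.sum_mem _ fun i _ => ?_
    rw [Algebra.smul_def]
    refine Ideal.mul_mem_right _ _ ?_
    have h2 : b.repr 1 i ∈ (IsLocalRing.closedPoint S).asIdeal := h i
    rw [← hP] at h2
    exact h2
  obtain ⟨i, w, hw⟩ := hunit
  let j : Fin 2 := if i = 0 then 1 else 0
  refine ⟨b j, Ideal.span_singleton_eq_top.mp (eq_top_iff.mpr ?_)⟩
  rw [← Groth.Agent.AzInvLib.diffIdeal_eq_top hlam hS hq]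
  refine Ideal.span_le.mpr ?_
  rintro _ ⟨x, rfl⟩
  rw [SetLike.mem_coe, Ideal.mem_span_singleton]
  have h1 : (1 : R) = b.repr 1 i • b i + b.repr 1 j • b j := by
    conv_lhs => rw [← b.sum_repr 1, Fin.sum_univ_two]
    fin_cases i <;> simp [j, add_comm]
  have hx : x = b.repr x i • b i + b.repr x j • b j := by
    conv_lhs => rw [← b.sum_repr x, Fin.sum_univ_two]
    fin_cases i <;> simp [j, add_comm]
  have hd : ∀ (s t : S), s • b i + t • b j - lam (s • b i + t • b j) =
      algebraMap S R s * (b i - lam (b i)) + algebraMap S R t * (b j - lam (b j)) := fun s t => by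
    simp only [Algebra.smul_def, map_add, map_mul, hL]; ring
  have hi : b i - lam (b i) = -(algebraMap S R (↑w⁻¹ * b.repr 1 j)) * (b j - lam (b j)) := by
    have e := hd (b.repr 1 i) (b.repr 1 j)
    rw [← h1, map_one, sub_self, ← hw] at e
    have hwi : algebraMap S R (↑w⁻¹) * algebraMap S R (↑w : S) = 1 := by
      rw [← map_mul, Units.inv_mul, map_one]
    rw [map_mul]
    linear_combination (-(algebraMap S R (↑w⁻¹))) * e - (b i - lam (b i)) * hwi
  dsimp only
  rw [hx, hd, hi]
  exact ⟨-(algebraMap S R (↑w⁻¹ * b.repr 1 j)) * algebraMap S R (b.repr x i) + algebraMap S R (b.repr x j), by ring⟩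

end Groth.Agent.S15574
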