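import Groth.Statements.S15573
import Groth.Agent.AzInvLib.Quad

set_option autoImplicit false
universe u v
open RInv

namespace Groth.Agent.S15573

/-- Let `R` be a commutative ring with an involution `lam` and let `S` be its fixed ring. If there is an
element `r` of `R` such that `r - lam r` is a unit, then `R` is a quadratic etale `S`-algebra. -/
theorem result (S : Type u) (R : Type v) [CommRing S] [CommRing R]
    [Algebra S R] (lam : R ≃+* R) (hlam : Function.Involutive lam) (hS : RInv.IsFixedRing S R lam)
    (h : ∃ r : R, IsUnit (r - lam r)) : RInv.IsQuadEtale S R := by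
  classical
  obtain ⟨r, hu⟩ := h
  have hL := Groth.Agent.AzInvLib.lam_algebraMap hS
  obtain ⟨v, hv⟩ := hu.exists_left_inv
  have hlv : lam v = -v := by
    have h1 : lam v * (lam r - r) = 1 := by
      have := congrArg lam hv
      rwa [map_mul, map_sub, hlam r, map_one] at this
    calc lam v = lam v * (v * (r - lam r)) := by rw [hv, mul_one]
      _ = -(v * (lam v * (lam r - r))) := by ring
      _ = -v := by rw [h1, mul_one]
  have hspan : ∀ x : R, ∃ a c : S, algebraMap S R a + algebraMap S R c * r = x := fun x => by
    obtain ⟨c, hc⟩ := (hS.2 (v * (x - lam x))).mp (by rw [map_mul, map_sub, hlam x, hlv]; ring)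
    obtain ⟨a, ha⟩ := (hS.2 (x - algebraMap S R c * r)).mp (by
      rw [map_sub, map_mul, hL, hc]
      linear_combination (x - lam x) * hv)
    exact ⟨a, c, by rw [ha]; ring⟩
  have hli : ∀ a c : S, algebraMap S R a + algebraMap S R c * r = 0 → a = 0 ∧ c = 0 := fun a c e => by
    have e2 := congrArg lam e
    rw [map_add, map_mul, hL, hL, map_zero] at e2
    have hc : algebraMap S R c = 0 := by
      have : algebraMap S R c * (r - lam r) = 0 := by linear_combination e - e2
      calc algebraMap S R c = algebraMap S R c * (v * (r - lam r)) := by rw [hv, mul_one]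
        _ = 0 := by rw [mul_left_comm, this, mul_zero]
    have ha : algebraMap S R a = 0 := by simpa [hc] using e
    exact ⟨hS.1 (ha.trans (map_zero _).symm), hS.1 (hc.trans (map_zero _).symm)⟩
  let f : (Fin 2 → S) →ₗ[S] R :=
    { toFun := fun p => algebraMap S R (p 0) + algebraMap S R (p 1) * r
      map_add' := fun p q => by simp only [Pi.add_apply, map_add]; ring
      map_smul' := fun s p => by
        simp only [Pi.smul_apply, smul_eq_mul, map_mul, RingHom.id_apply, Algebra.smul_def]; ring }
  have hf : Function.Bijective f := by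
    refine ⟨LinearMap.ker_eq_bot.mp (LinearMap.ker_eq_bot'.mpr fun p hp => ?_), fun x => ?_⟩
    · obtain ⟨h0, h1⟩ := hli _ _ hp
      funext j; fin_cases j <;> assumption
    · obtain ⟨a, c, e⟩ := hspan x
      exact ⟨![a, c], by simpa [f] using e⟩
  let e := LinearEquiv.ofBijective f hf
  haveI : Module.Free S R := Module.Free.of_equiv e
  refine ⟨Module.Finite.equiv e, inferInstance, ⟨?_⟩, fun p => ?_⟩
  · refine subsingleton_of_forall_eq 0 fun w => ?_
    have hD : KaehlerDifferential.D S R r = 0 := by
      obtain ⟨s₁, hs₁⟩ := (hS.2 (r + lam r)).mp (by rw [map_add, hlam r]; ring)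
      obtain ⟨s₀, hs₀⟩ := (hS.2 (r * lam r)).mp (by rw [map_mul, hlam r]; ring)
      have h0 : r * r - algebraMap S R s₁ * r + algebraMap S R s₀ = 0 := by rw [hs₁, hs₀]; ring
      have h1 := congrArg (KaehlerDifferential.D S R) h0
      simp only [map_add, map_sub, Derivation.leibniz, Derivation.map_algebraMap, smul_zero,
        add_zero, map_zero, ← add_smul, ← sub_smul] at h1
      rw [hs₁, show r + r - (r + lam r) = r - lam r by ring] at h1
      calc KaehlerDifferential.D S R r = (v * (r - lam r)) • KaehlerDifferential.D S R r := by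
            rw [hv, one_smul]
        _ = 0 := by rw [mul_smul, h1, smul_zero]
    have hw : w ∈ Submodule.span R (Set.range (KaehlerDifferential.D S R)) := by
      rw [KaehlerDifferential.span_range_derivation]; trivial
    have hle : Submodule.span R (Set.range (KaehlerDifferential.D S R)) ≤ ⊥ := by
      refine Submodule.span_le.mpr ?_
      rintro _ ⟨x, rfl⟩
      obtain ⟨a, c, rfl⟩ := hspan x
      simp [hD]
    exact (Submodule.mem_bot R).mp (hle hw)
  · haveI : Nontrivial S := p.nontrivial
    rw [← Module.rankAtStalk_eq_of_equiv e, Module.rankAtStalk_eq_finrank_of_free]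
    simp

end Groth.Agent.S15573
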