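import Groth.Statements.S5702
import Groth.Agent.CSA.LocalAzu
import Groth.Agent.CSA.SepSubfield
import Mathlib.FieldTheory.Finite.Extension
import Mathlib.FieldTheory.PrimitiveElement
import Mathlib.RingTheory.LittleWedderburn
-- import your own Groth.Agent.* helpers here

set_option autoImplicit false
universe u v
open TensorProduct
open Dix

namespace Groth.Agent.S5702

open Polynomial in
theorem of_separable_minpoly {k : Type u} [Field k] {A : Type v} [Ring A] [Algebra k A] [FiniteDimensional k A]
    (x : A) (hx : (minpoly k x).Separable) {r : ℕ} (hr : (minpoly k x).natDegree = r) :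
    Algebra.IsSeparable k (Algebra.adjoin k ({x} : Set A)) ∧
      Module.finrank k (Algebra.adjoin k ({x} : Set A)) = r :=
  ⟨Groth.Agent.CSA.EtaleSub.isSeparable_adjoin
    (fun a ha b hb => by rw [Set.mem_singleton_iff] at ha hb; rw [ha, hb])
    (fun a ha => by rw [Set.mem_singleton_iff] at ha; rw [ha]; exact hx),
   ((Groth.Agent.CSA.LocalAzu.powers_of_finrank_adjoin x rfl).1.symm.trans hr)⟩

theorem finite_case (k : Type u) [Field k] [Finite k] (r : ℕ) [NeZero r] :
    ∃ x : Matrix (Fin r) (Fin r) k, (minpoly k x).Separable ∧ (minpoly k x).natDegree = r := by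
  classical
  obtain ⟨p, _⟩ := CharP.exists k
  have : Fact p.Prime := ⟨CharP.char_is_prime k p⟩
  let L := FiniteField.Extension k p r
  have hL : Module.finrank k L = r := FiniteField.finrank_extension k p r
  have : FiniteDimensional k L := Module.finite_of_finrank_pos (by rw [hL]; exact Nat.pos_of_ne_zero (NeZero.ne r))
  obtain ⟨θ, hθ⟩ := Field.exists_primitive_element k L
  let b := Module.finBasisOfFinrankEq k L hL
  refine ⟨Algebra.leftMulMatrix b θ, ?_⟩
  rw [minpoly.algHom_eq _ (Algebra.leftMulMatrix_injective b) θ]
  refine ⟨Algebra.IsSeparable.isSeparable k θ, ?_⟩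
  rw [← IntermediateField.adjoin.finrank (Algebra.IsIntegral.isIntegral (R := k) θ), hθ,
    IntermediateField.finrank_top', hL]

theorem infinite_case (k : Type u) [Field k] [Infinite k] (D : Type v) [DivisionRing D] [Algebra k D]
    [Algebra.IsCentral k D] [FiniteDimensional k D] (n d : ℕ) (hd : Module.finrank k D = d ^ 2) :
    ∃ x : Matrix (Fin n) (Fin n) D, (minpoly k x).Separable ∧ (minpoly k x).natDegree = n * d := by
  classical
  obtain ⟨S, hcomm, hsep, hcen⟩ := Groth.Agent.CSA.exists_separable_selfCentralizing k D
  let : CommRing S := { (inferInstance : Ring S) with mul_comm := fun a b => Subtype.ext (hcomm a a.2 b b.2) }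
  have : FiniteDimensional k S := FiniteDimensional.finiteDimensional_submodule (Subalgebra.toSubmodule S)
  have : IsDomain S := S.toSubring.instIsDomainSubtypeMem
  letI : Field S := fieldOfFiniteDimensional k S
  have hS : Module.finrank k S = d := by
    have h1 := Groth.Agent.CSA.finrank_sq_of_centralizer S.val fun c hc => by
      rw [Subalgebra.range_val]; exact hcen c fun x hx => hc ⟨x, hx⟩
    rw [hd] at h1
    exact (Nat.pow_left_injective two_ne_zero h1).symm
  obtain ⟨θ, hθ⟩ := Field.exists_primitive_element k S
  have hint : IsIntegral k θ := Algebra.IsIntegral.isIntegral θ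
  have hdeg : (minpoly k θ).natDegree = d := by
    rw [← IntermediateField.adjoin.finrank hint, hθ, IntermediateField.finrank_top', hS]
  let q : k → Polynomial k := fun c => minpoly k (θ + algebraMap k S c)
  have hint' : ∀ c, IsIntegral k (θ + algebraMap k S c) := fun c => Algebra.IsIntegral.isIntegral _
  have hq : ∀ c, (q c).natDegree = d := fun c => by
    simp only [q, minpoly.add_algebraMap, Polynomial.natDegree_comp, Polynomial.natDegree_X_sub_C, mul_one, hdeg]
  have hrange : (Set.range q).Infinite := fun hfin => by
    refine Set.infinite_univ (α := k) ?_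
    refine (hfin.biUnion (t := fun Q => q ⁻¹' {Q}) fun Q hQ => ?_).subset fun c _ => Set.mem_biUnion ⟨c, rfl⟩ rfl
    obtain ⟨c₀, rfl⟩ := hQ
    refine Set.Finite.of_finite_image (f := fun c => θ + algebraMap k S c)
      ((Polynomial.finite_setOf_isRoot (p := (q c₀).map (algebraMap k S))
        (Polynomial.map_ne_zero (minpoly.ne_zero (hint' c₀)))).subset ?_) ?_
    · rintro _ ⟨c, hc, rfl⟩
      rw [Set.mem_preimage, Set.mem_singleton_iff] at hc
      rw [Set.mem_setOf_eq, Polynomial.IsRoot, Polynomial.eval_map_algebraMap, ← hc]
      exact minpoly.aeval k _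
    · exact fun a _ b _ h => (algebraMap k S).injective (add_left_cancel h)
  obtain ⟨F, hF, hFn⟩ := hrange.exists_subset_card_eq n
  let e : Fin n ≃ F := (Fintype.equivFinOfCardEq (by simpa using hFn)).symm
  choose c hc using fun i : Fin n => hF (e i).2
  let s : Fin n → S := fun i => θ + algebraMap k S (c i)
  let φ : (Fin n → S) →ₐ[k] Matrix (Fin n) (Fin n) D :=
    { toFun := fun f => Matrix.diagonal fun i => (f i : D)
      map_one' := by simp
      map_mul' := fun f g => by simp
      map_zero' := by simp
      map_add' := fun f g => by simp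
      commutes' := fun a => by ext i j; simp [Matrix.algebraMap_matrix_apply, Matrix.diagonal_apply] }
  have hφ : Function.Injective φ := fun f g h => funext fun i =>
    Subtype.ext (by simpa [φ] using congrFun (congrFun h i) i)
  refine ⟨φ s, ?_⟩
  rw [minpoly.algHom_eq φ hφ s]
  let qi : Fin n → Polynomial k := fun i => minpoly k (s i)
  have hqi : ∀ i, qi i = (e i : Polynomial k) := fun i => hc i
  have hinj : ∀ i j, qi i = qi j → i = j := fun i j h =>
    e.injective (Subtype.ext (by rw [← hqi, ← hqi, h]))
  have hcop : Pairwise (Function.onFun IsCoprime qi) := fun i j hij => by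
    refine (minpoly.irreducible (hint' (c i))).coprime_iff_not_dvd.2 fun h => hij (hinj i j ?_)
    exact Polynomial.eq_of_monic_of_associated (minpoly.monic (hint' _)) (minpoly.monic (hint' _))
      ((minpoly.irreducible (hint' (c i))).associated_of_dvd (minpoly.irreducible (hint' (c j))) h)
  have heq : minpoly k s = ∏ i, qi i := by
    have hs : IsIntegral k s := IsIntegral.of_finite k s
    refine Polynomial.eq_of_monic_of_associated (minpoly.monic hs)
      (Polynomial.monic_prod_of_monic _ _ fun i _ => minpoly.monic (hint' _))
      (associated_of_dvd_dvd (minpoly.dvd k s (funext fun i => ?_))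
        (Fintype.prod_dvd_of_coprime hcop fun i => minpoly.dvd k _ ?_))
    · rw [← Pi.evalAlgHom_apply k (fun _ : Fin n => S) i (Polynomial.aeval s _), ← Polynomial.aeval_algHom_apply,
        Pi.evalAlgHom_apply, Pi.zero_apply, map_prod]
      exact Finset.prod_eq_zero (Finset.mem_univ i) (minpoly.aeval k _)
    · rw [← Pi.evalAlgHom_apply k (fun _ : Fin n => S) i s, Polynomial.aeval_algHom_apply, minpoly.aeval, map_zero]
  rw [heq]
  refine ⟨Polynomial.separable_prod hcop fun i => Algebra.IsSeparable.isSeparable k _, ?_⟩
  rw [Polynomial.natDegree_prod _ _ fun i _ => minpoly.ne_zero (hint' _)]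
  exact (Finset.sum_congr rfl fun i _ => hq (c i)).trans (by simp)


/-- Let A be a finite-dimensional central simple algebra over a field k, of dimension r² over k. Then
there is an element x of A such that the commutative subalgebra k[x] it generates is étale over k
(all its elements are separable over k) and has dimension r over k. -/
theorem result (k : Type u) [Field k] (A : Type v) [Ring A] [Algebra k A] [Algebra.IsCentral k A] [IsSimpleRing A] [FiniteDimensional k A] (r : ℕ) (hA : Module.finrank k A = r ^ 2) : ∃ x : A, Algebra.IsSeparable k (Algebra.adjoin k ({x} : Set A)) ∧ Module.finrank k (Algebra.adjoin k ({x} : Set A)) = r := by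
  classical
  obtain ⟨n, hn, D, _, _, _, _, ⟨e⟩⟩ := Groth.Agent.CSA.exists_algEquiv_matrix_divisionRing k A
  obtain ⟨d, hd0, hd⟩ := Groth.Agent.CSA.exists_finrank_eq_sq k D
  have hr : r = n * d := by
    have h := e.toLinearEquiv.finrank_eq
    rw [hA, Module.finrank_matrix, hd, Fintype.card_fin] at h
    exact Nat.pow_left_injective two_ne_zero (h.trans (by ring))
  suffices h : ∃ x : A, (minpoly k x).Separable ∧ (minpoly k x).natDegree = r by
    obtain ⟨x, hx, hdeg⟩ := h
    exact ⟨x, of_separable_minpoly x hx hdeg⟩
  rcases finite_or_infinite k with hk | hk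
  · have hfinD : Finite D := Module.finite_of_finite k
    have hbij : Function.Bijective (algebraMap k D) := by
      refine ⟨(algebraMap k D).injective, fun y => ?_⟩
      have hy : y ∈ Subalgebra.center k D := Subalgebra.mem_center_iff.2 fun z =>
        (littleWedderburn D).mul_comm z y
      exact Algebra.mem_bot.1 (Algebra.IsCentral.out hy)
    let eD : k ≃ₐ[k] D := AlgEquiv.ofBijective (Algebra.ofId k D) hbij
    have hd1 : d = 1 := by
      have h := eD.toLinearEquiv.finrank_eq
      rw [Module.finrank_self, hd] at h
      exact (pow_eq_one_iff_left two_ne_zero).1 h.symm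
    rw [hr, hd1, mul_one]
    obtain ⟨x, hx⟩ := finite_case k n
    refine ⟨(eD.mapMatrix.trans e.symm) x, ?_⟩
    rw [minpoly.algEquiv_eq (eD.mapMatrix.trans e.symm) x]
    exact hx
  · obtain ⟨x, hx⟩ := infinite_case k D n d hd
    refine ⟨e.symm x, ?_⟩
    rw [minpoly.algEquiv_eq e.symm x, hr]
    exact hx

end Groth.Agent.S5702
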