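import Groth.Statements.S5710
import Groth.Agent.S5702
import Groth.Agent.CSA.LocalAzu
import Mathlib.RingTheory.AdjoinRoot
import Mathlib.RingTheory.Etale.StandardEtale
import Mathlib.RingTheory.Ideal.GoingUp
-- import your own Groth.Agent.* helpers here

set_option autoImplicit false
universe u v
open TensorProduct
open Dix

namespace Groth.Agent.S5710

open Polynomial IsLocalRing in
theorem etale_adjoinRoot {R : Type u} [CommRing R] [IsLocalRing R] (P : R[X]) (hP : P.Monic)
    (hsep : (P.map (IsLocalRing.residue R)).Separable) : Algebra.Etale R (AdjoinRoot P) := by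
  have : Module.Finite R (AdjoinRoot P) := (AdjoinRoot.powerBasis' hP).finite
  have hunit : IsUnit (AdjoinRoot.mk P (derivative P)) := by
    by_contra h
    obtain ⟨M, hM, hmem⟩ := exists_max_ideal_of_mem_nonunits h
    have hc : (M.comap (algebraMap R (AdjoinRoot P))).IsMaximal :=
      Ideal.isMaximal_comap_of_isIntegral_of_isMaximal M
    have hle : IsLocalRing.maximalIdeal R ≤ M.comap (algebraMap R (AdjoinRoot P)) :=
      (IsLocalRing.eq_maximalIdeal hc).ge
    let ψ : ResidueField R →+* AdjoinRoot P ⧸ M := Ideal.Quotient.lift _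
      ((Ideal.Quotient.mk M).comp (algebraMap R _)) fun a ha => Ideal.Quotient.eq_zero_iff_mem.2 (hle ha)
    obtain ⟨a, b, hab⟩ := hsep
    have heval : ∀ q : R[X], (q.map (IsLocalRing.residue R)).eval₂ ψ (Ideal.Quotient.mk M (AdjoinRoot.root P)) =
        Ideal.Quotient.mk M (AdjoinRoot.mk P q) := fun q => by
      rw [eval₂_map, ← AdjoinRoot.aeval_eq, aeval_def, hom_eval₂]
      rfl
    have h1 := congrArg (Polynomial.eval₂ ψ (Ideal.Quotient.mk M (AdjoinRoot.root P))) hab
    rw [eval₂_add, eval₂_mul, eval₂_mul, derivative_map, heval, heval, AdjoinRoot.mk_self, map_zero, mul_zero,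
      Ideal.Quotient.eq_zero_iff_mem.2 hmem, mul_zero, add_zero, eval₂_one] at h1
    have := Ideal.Quotient.zero_ne_one_iff.2 hM.ne_top
    exact this h1
  let Q : StandardEtalePair R := ⟨P, hP, derivative P, 1, 0, 1, by simp⟩
  have : IsLocalization.Away (AdjoinRoot.mk P (derivative P)) (AdjoinRoot P) :=
    IsLocalization.away_of_isUnit_of_bijective _ hunit Function.bijective_id
  have e : Localization.Away (AdjoinRoot.mk Q.f Q.g) ≃ₐ[AdjoinRoot P] AdjoinRoot P :=
    IsLocalization.algEquiv (.powers (AdjoinRoot.mk P (derivative P))) _ _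
  exact Algebra.Etale.of_equiv (Q.equivAwayAdjoinRoot.trans (e.restrictScalars R))


/-- Over a local base where the open neighbourhood is the whole scheme. Let R be a local ring with
residue field k and A an Azumaya algebra over R whose rank as a (free) R-module is r². Then A has a
maximal étale subalgebra: there are a commutative R-algebra E, finite étale and free of rank r over
R, and an R-algebra homomorphism u : E → A which is injective on the special fibre, k ⊗_R E → k ⊗_R
A. -/
theorem result (R : Type u) [CommRing R] [IsLocalRing R] (A : Type u) [Ring A] [Algebra R A] [IsAzumaya R A] (r : ℕ) (hA : Module.finrank R A = r ^ 2) : ∃ (E : Type u) (_ : CommRing E) (_ : Algebra R E), Algebra.Etale R E ∧ Module.Finite R E ∧ Module.Free R E ∧ Module.finrank R E = r ∧ ∃ u : E →ₐ[R] A, Function.Injective (u.toLinearMap.lTensor (IsLocalRing.ResidueField R)) := by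
  classical
  let k := IsLocalRing.ResidueField R
  have := Groth.Agent.CSA.LocalAzu.free R A
  obtain ⟨_, _, _⟩ := Groth.Agent.CSA.LocalAzu.isCSA_fibre R A
  obtain ⟨x, hsep, hrk⟩ := Groth.Agent.S5702.result k (k ⊗[R] A) r
    (by rw [Groth.Agent.CSA.LocalAzu.finrank_fibre, hA])
  obtain ⟨ξ, rfl⟩ := TensorProduct.mk_surjective R A k Ideal.Quotient.mk_surjective x
  obtain ⟨-, hrel⟩ := Groth.Agent.CSA.LocalAzu.regular_powers R A r hA ξ hsep hrk
  obtain ⟨hdeg, hli, -⟩ := Groth.Agent.CSA.LocalAzu.powers_of_finrank_adjoin _ hrk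
  obtain ⟨c, hc⟩ := (Submodule.mem_span_range_iff_exists_fun R).1 hrel
  let x : k ⊗[R] A := (1 : k) ⊗ₜ ξ
  let P : Polynomial R := Polynomial.X ^ r - ∑ i : Fin r, Polynomial.C (c i) * Polynomial.X ^ (i : ℕ)
  have hPm : P.Monic := Polynomial.monic_X_pow_sub (Polynomial.degree_sum_fin_lt c)
  have hPξ : Polynomial.aeval ξ P = 0 := by
    simp only [P, map_sub, map_pow, map_sum, map_mul, Polynomial.aeval_X, Polynomial.aeval_C]
    rw [← hc]
    exact sub_eq_zero.2 (Finset.sum_congr rfl fun i _ => Algebra.smul_def _ _)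
  have hPdeg : P.natDegree = r := by
    rw [Polynomial.natDegree_eq_of_degree_eq_some]
    rw [Polynomial.degree_sub_eq_left_of_degree_lt (by
      rw [Polynomial.degree_X_pow]; exact Polynomial.degree_sum_fin_lt c), Polynomial.degree_X_pow]
  have hPbar : (P.map (IsLocalRing.residue R)) = minpoly k x := by
    have hint : IsIntegral k x := IsIntegral.of_finite k x
    refine (Polynomial.eq_of_monic_of_dvd_of_natDegree_le (minpoly.monic hint) (hPm.map _)
      (minpoly.dvd k x ?_) ?_)
    · rw [show IsLocalRing.residue R = algebraMap R k from rfl, Polynomial.aeval_map_algebraMap]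
      exact (Polynomial.aeval_algHom_apply (Algebra.TensorProduct.includeRight : A →ₐ[R] k ⊗[R] A) ξ P).trans
        (by rw [hPξ, map_zero])
    · rw [hPm.natDegree_map, hPdeg]; exact hdeg.ge
  have hsepP : (P.map (IsLocalRing.residue R)).Separable := by
    rw [hPbar]
    have hsx : Algebra.IsSeparable k (Algebra.adjoin k {x}) := hsep
    have h := Algebra.IsSeparable.isSeparable k (⟨x, Algebra.self_mem_adjoin_singleton k x⟩ : Algebra.adjoin k {x})
    exact (Groth.Agent.CSA.EtaleSub.isSeparable_coe_iff (S := Algebra.adjoin k {x})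
      ⟨x, Algebra.self_mem_adjoin_singleton k x⟩).2 h
  let S := Algebra.adjoin R ({ξ} : Set A)
  letI : CommRing S := { (inferInstance : Ring S) with
    mul_comm := fun a b => Subtype.ext (congrArg Subtype.val ((Algebra.isMulCommutative_adjoin R (s := ({ξ} : Set A))
      (fun p hp q hq => by rw [Set.mem_singleton_iff] at hp hq; rw [hp, hq])).is_comm.comm a b)) }
  let u : AdjoinRoot P →ₐ[R] A := S.val.comp (AdjoinRoot.liftAlgHom P (Algebra.ofId R S)
    (⟨ξ, Algebra.self_mem_adjoin_singleton R ξ⟩ : S) (Subtype.ext (by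
      exact (Polynomial.aeval_algHom_apply S.val (⟨ξ, Algebra.self_mem_adjoin_singleton R ξ⟩ : S) P).symm.trans hPξ)))
  let pb := AdjoinRoot.powerBasis' hPm
  have hpbdim : pb.dim = r := (AdjoinRoot.powerBasis'_dim hPm).trans hPdeg
  refine ⟨AdjoinRoot P, inferInstance, inferInstance, etale_adjoinRoot P hPm hsepP, pb.finite,
    Module.Free.of_basis pb.basis, by rw [pb.finrank, hpbdim], u, ?_⟩
  let b := pb.basis.baseChange k
  rw [injective_iff_map_eq_zero]
  intro y hy
  rw [← b.sum_repr y] at hy ⊢
  have hb : ∀ i, (u.toLinearMap.lTensor k) (b i) = x ^ (i : ℕ) := fun i => by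
    rw [Module.Basis.baseChange_apply, LinearMap.lTensor_tmul, pb.basis_eq_pow,
      AdjoinRoot.powerBasis'_gen, AlgHom.toLinearMap_apply, map_pow]
    have : u (AdjoinRoot.root P) = ξ := by simp [u]
    rw [this]
    exact map_pow (Algebra.TensorProduct.includeRight : A →ₐ[R] k ⊗[R] A) ξ i
  have hy' : ∑ i, b.repr y i • x ^ (i : ℕ) = 0 := by
    rw [← hy, show (u.toLinearMap.lTensor k) (∑ i, b.repr y i • b i) =
      (u.toLinearMap.baseChange k) (∑ i, b.repr y i • b i) from rfl, map_sum]
    refine Finset.sum_congr rfl fun i _ => ?_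
    rw [map_smul, show (u.toLinearMap.baseChange k) (b i) = (u.toLinearMap.lTensor k) (b i) from rfl, hb]
  have hli' : LinearIndependent k fun i : Fin pb.dim => x ^ (i : ℕ) :=
    hli.comp (Fin.cast hpbdim) (Fin.cast_injective _)
  have := Fintype.linearIndependent_iff.1 hli' _ hy'
  exact Finset.sum_eq_zero fun i _ => by rw [this i, zero_smul]

end Groth.Agent.S5710
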