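import Groth.Statements.S5720
import Groth.Agent.S5702
import Groth.Agent.S5710
import Groth.Agent.CSA.SplitSpread
-- import your own Groth.Agent.* helpers here

set_option autoImplicit false
universe u v
open TensorProduct
open Dix

namespace Groth.Agent.S5720

theorem exists_scalar {R : Type u} [CommRing R] (p : Ideal R) [p.IsPrime] {A : Type u} [AddCommGroup A] [Module R A]
    (y : p.ResidueField ⊗[R] A) :
    ∃ t : R, t ∉ p ∧ ∃ a : A, algebraMap R p.ResidueField t • y = (1 : p.ResidueField) ⊗ₜ[R] a := by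
  induction y using TensorProduct.induction_on with
  | zero => exact ⟨1, p.one_notMem, 0, by simp⟩
  | tmul q a =>
      obtain ⟨q', rfl⟩ := IsLocalRing.residue_surjective q
      obtain ⟨⟨r, s⟩, hrs⟩ := IsLocalization.surj p.primeCompl q'
      refine ⟨s, s.2, r • a, ?_⟩
      rw [TensorProduct.smul_tmul', ← TensorProduct.smul_tmul r (1 : p.ResidueField) a]
      congr 1
      rw [smul_eq_mul, Algebra.smul_def, mul_one, IsScalarTower.algebraMap_apply R (Localization.AtPrime p) p.ResidueField,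
        IsScalarTower.algebraMap_apply R (Localization.AtPrime p) p.ResidueField, mul_comm]
      exact ((map_mul (IsLocalRing.residue (Localization.AtPrime p)) _ _).symm.trans (congrArg _ hrs))
  | add x z hx hz =>
      obtain ⟨c, hc, a, ha⟩ := hx
      obtain ⟨d, hd, b, hb⟩ := hz
      refine ⟨c * d, fun h => (‹p.IsPrime›.mem_or_mem h).elim hc hd, d • a + c • b, ?_⟩
      rw [algebraMap_smul] at ha hb ⊢
      rw [smul_add, TensorProduct.tmul_add, TensorProduct.tmul_smul, TensorProduct.tmul_smul, ← ha, ← hb, smul_smul,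
        smul_smul, mul_comm d c]

open Polynomial in
theorem etale_of_separable {R : Type u} [CommRing R] (P : R[X]) (hP : P.Monic) (hsep : P.Separable) :
    Algebra.Etale R (AdjoinRoot P) := by
  obtain ⟨a, b, hab⟩ := hsep
  have hunit : IsUnit (AdjoinRoot.mk P (derivative P)) := by
    refine IsUnit.of_mul_eq_one_right (AdjoinRoot.mk P b) ?_
    have h := congrArg (AdjoinRoot.mk P) hab
    rwa [map_add, map_mul, map_mul, AdjoinRoot.mk_self, mul_zero, zero_add, map_one] at h
  let Q : StandardEtalePair R := ⟨P, hP, derivative P, 1, 0, 1, by simp⟩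
  have : IsLocalization.Away (AdjoinRoot.mk P (derivative P)) (AdjoinRoot P) :=
    IsLocalization.away_of_isUnit_of_bijective _ hunit Function.bijective_id
  have e : Localization.Away (AdjoinRoot.mk Q.f Q.g) ≃ₐ[AdjoinRoot P] AdjoinRoot P :=
    IsLocalization.algEquiv (.powers (AdjoinRoot.mk P (derivative P))) _ _
  exact Algebra.Etale.of_equiv (Q.equivAwayAdjoinRoot.trans (e.restrictScalars R))

theorem transfer {k : Type u} [Field k] {B C : Type u} [Ring B] [Ring C] [Algebra k B] [Algebra k C] (e : B ≃ₐ[k] C)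
    (y : B) (x : C) {r : ℕ} (he : Algebra.adjoin k {e y} = Algebra.adjoin k {x})
    (hs : Algebra.IsSeparable k (Algebra.adjoin k ({x} : Set C)))
    (hr : Module.finrank k (Algebra.adjoin k ({x} : Set C)) = r) :
    Algebra.IsSeparable k (Algebra.adjoin k ({y} : Set B)) ∧ Module.finrank k (Algebra.adjoin k ({y} : Set B)) = r := by
  have h : (Algebra.adjoin k ({y} : Set B)).map e.toAlgHom = Algebra.adjoin k {x} := by
    rw [AlgHom.map_adjoin, Set.image_singleton]; exact he
  let ee := (e.subalgebraMap (Algebra.adjoin k {y})).trans (Subalgebra.equivOfEq _ _ h)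
  exact ⟨AlgEquiv.Algebra.isSeparable ee.symm, ee.toLinearEquiv.finrank_eq.trans hr⟩

theorem exists_product_basis {k : Type u} [Field k] {B : Type u} [Ring B] [Algebra k B] [Algebra.IsCentral k B]
    [IsSimpleRing B] [FiniteDimensional k B] {L : Type u} [CommRing L] [Algebra k L] [IsReduced L]
    (ι : L →ₐ[k] B) (hι : Function.Injective ι) {r : ℕ} (hB : Module.finrank k B = r ^ 2)
    (powb : Module.Basis (Fin r) k L) :
    ∃ (β : Fin r → B) (b : Module.Basis (Fin r × Fin r) k B), ∀ q, b q = β q.2 * ι (powb q.1) := by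
  letI := Groth.Agent.CSA.MaxEtale.rightModule ι
  have hmodk : ∀ (l : L) (b : B), l • b = b * ι l := fun _ _ => rfl
  have := Groth.Agent.CSA.MaxEtale.isScalarTower ι hmodk
  obtain ⟨hfree, hrkL⟩ := Groth.Agent.CSA.MaxEtale.free_of_finrank ι hι hmodk hB
    (by rw [Module.finrank_eq_card_basis powb, Fintype.card_fin])
  have : Module.Finite L B := Module.Finite.of_restrictScalars_finite k L B
  have : Nontrivial L := ι.toRingHom.domain_nontrivial
  let β := Module.finBasisOfFinrankEq L B hrkL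
  exact ⟨β, powb.smulTower β, fun q => by rw [Module.Basis.smulTower_apply, hmodk]⟩

theorem pow_scale {R : Type u} [CommRing R] {A : Type u} [Ring A] [Algebra R A] (r : ℕ) (a : A) (t : R) (d : Fin r → R)
    (s : R) (hr : 0 < r) (h : s • (t • a ^ r - ∑ j : Fin r, d j • a ^ (j : ℕ)) = 0) :
    ((s * t) • a) ^ r = ∑ j : Fin r, (s * d j * (s * t) ^ (r - 1 - (j : ℕ))) • ((s * t) • a) ^ (j : ℕ) := by
  simp_rw [smul_pow, smul_smul]
  rw [smul_sub, smul_smul, Finset.smul_sum, sub_eq_zero] at h
  obtain ⟨r, rfl⟩ : ∃ m, r = m + 1 := ⟨r - 1, by omega⟩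
  rw [pow_succ, mul_smul, h, Finset.smul_sum]
  refine Finset.sum_congr rfl fun j _ => ?_
  rw [smul_smul, smul_smul]
  congr 1
  have hj : (j : ℕ) ≤ r := Nat.lt_succ_iff.1 j.2
  rw [Nat.add_sub_cancel, mul_assoc (s * d j), ← pow_add, Nat.sub_add_cancel hj]
  ring


/-- (ii) ⇒ (iii), over an affine base X = Spec R. Let A be an Azumaya algebra over the commutative ring
R and p a prime ideal of R. Then there exist f ∈ R with f ∉ p, a finite étale and faithfully flat
R_f-algebra R' (a finite étale surjective cover of the neighbourhood D(f) of p) and an integer r ≥ 1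
such that R' ⊗_R A is isomorphic as an R'-algebra to the matrix algebra M_r(R'). (Existence of the
isomorphism only.) -/
theorem result (R : Type u) [CommRing R] (A : Type u) [Ring A] [Algebra R A] [IsAzumaya R A] (p : Ideal R) [p.IsPrime] : ∃ f : R, f ∉ p ∧ ∃ (R' : Type u) (_ : CommRing R') (_ : Algebra R R') (_ : Algebra (Localization.Away f) R') (_ : IsScalarTower R (Localization.Away f) R'), Module.Finite (Localization.Away f) R' ∧ Algebra.Etale (Localization.Away f) R' ∧ Module.FaithfullyFlat (Localization.Away f) R' ∧ ∃ r : ℕ, 1 ≤ r ∧ Nonempty ((R' ⊗[R] A) ≃ₐ[R'] Matrix (Fin r) (Fin r) R') := by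
  classical
  let k := p.ResidueField
  have hbc := Groth.Agent.Azu.baseChange (R := R) (A := A) k
  obtain ⟨_, _, _⟩ := Groth.Agent.Azu.isCSA (k := k) (D := k ⊗[R] A)
  obtain ⟨r, hr0, hdim⟩ := Groth.Agent.CSA.exists_finrank_eq_sq k (k ⊗[R] A)
  have hr : 0 < r := Nat.pos_of_ne_zero hr0
  obtain ⟨x, hxs, hxr⟩ := Groth.Agent.S5702.result k (k ⊗[R] A) r hdim
  obtain ⟨t₁, ht₁, a, ha⟩ := exists_scalar p x
  have hne : ∀ t : R, t ∉ p → algebraMap R k t ≠ 0 := fun t ht h => ht (Ideal.algebraMap_residueField_eq_zero.1 h)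
  have hadj : ∀ (c : k) (y : k ⊗[R] A), c ≠ 0 → Algebra.adjoin k {c • y} = Algebra.adjoin k ({y} : Set (k ⊗[R] A)) := by
    intro c y hc
    refine le_antisymm (Algebra.adjoin_le (Set.singleton_subset_iff.2 ?_)) (Algebra.adjoin_le (Set.singleton_subset_iff.2 ?_))
    · exact Subalgebra.smul_mem _ (Algebra.self_mem_adjoin_singleton k y) c
    · have h := Subalgebra.smul_mem _ (Algebra.self_mem_adjoin_singleton k (c • y)) c⁻¹
      rwa [smul_smul, inv_mul_cancel₀ hc, one_smul] at h
  have hxa : Algebra.adjoin k {(1 : k) ⊗ₜ[R] a} = Algebra.adjoin k {x} := ha ▸ hadj _ x (hne _ ht₁)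
  let Rp := Localization.AtPrime p
  have := Groth.Agent.Azu.baseChange (R := R) (A := A) Rp
  have hloc : ∃ c : Fin r → Rp,
      ((1 : Rp) ⊗ₜ[R] a) ^ r = ∑ j, c j • ((1 : Rp) ⊗ₜ[R] a) ^ (j : ℕ) := by
    let f : k ⊗[R] A →ₐ[k] k ⊗[Rp] (Rp ⊗[R] A) := Algebra.TensorProduct.lift (Algebra.ofId k _)
      ((((Algebra.TensorProduct.includeRight : Rp ⊗[R] A →ₐ[Rp] k ⊗[Rp] (Rp ⊗[R] A)).restrictScalars R)).comp
        Algebra.TensorProduct.includeRight) (fun c b => Algebra.commutes c _)
    have hf : Function.Bijective f := by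
      have hfe : ∀ z, f z = (TensorProduct.AlgebraTensorModule.cancelBaseChange R Rp k k A).symm z := fun z => by
        induction z using TensorProduct.induction_on with
        | zero => simp
        | tmul c b =>
            simp [f]
            exact (Algebra.smul_def c _).symm.trans (by rw [TensorProduct.smul_tmul', smul_eq_mul, mul_one])
        | add b c hb hc => rw [map_add, map_add, hb, hc]
      rw [show (f : k ⊗[R] A → k ⊗[Rp] (Rp ⊗[R] A)) = _ from funext hfe]
      exact LinearEquiv.bijective _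
    let cb := (AlgEquiv.ofBijective f hf).symm
    have hrk : Module.finrank Rp (Rp ⊗[R] A) = r ^ 2 := by
      rw [← Groth.Agent.CSA.LocalAzu.finrank_fibre Rp (Rp ⊗[R] A), ← hdim]
      exact cb.toLinearEquiv.finrank_eq
    let y : IsLocalRing.ResidueField Rp ⊗[Rp] (Rp ⊗[R] A) := 1 ⊗ₜ ((1 : Rp) ⊗ₜ[R] a)
    have hcy : cb y = (1 : k) ⊗ₜ[R] a := by
      refine (AlgEquiv.ofBijective f hf).symm_apply_eq.2 ?_
      simp [f, y]
      exact (one_mul (1 ⊗ₜ ((1 : Rp) ⊗ₜ[R] a) : k ⊗[Rp] (Rp ⊗[R] A))).symm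
    obtain ⟨-, hmem⟩ := Groth.Agent.CSA.LocalAzu.regular_powers Rp (Rp ⊗[R] A) r hrk ((1 : Rp) ⊗ₜ a)
      (transfer cb _ x (by erw [hcy]; exact hxa) hxs hxr).1 (transfer cb _ x (by erw [hcy]; exact hxa) hxs hxr).2
    obtain ⟨c, hc⟩ := (Submodule.mem_span_range_iff_exists_fun Rp).1 hmem
    exact ⟨c, hc.symm⟩
  obtain ⟨c, hc⟩ := hloc
  obtain ⟨t₂, ht₂⟩ := IsLocalization.exist_integer_multiples_of_finite p.primeCompl c
  choose d hd using ht₂
  have hrel : TensorProduct.mk R Rp A 1 ((t₂ : R) • a ^ r - ∑ j : Fin r, d j • a ^ (j : ℕ)) =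
      TensorProduct.mk R Rp A 1 0 := by
    have hp : ∀ i : ℕ, TensorProduct.mk R Rp A 1 (a ^ i) = ((1 : Rp) ⊗ₜ[R] a) ^ i := fun i =>
      map_pow (Algebra.TensorProduct.includeRight : A →ₐ[R] Rp ⊗[R] A) a i
    rw [map_sub, map_smul, map_sum, map_zero, hp, hc, Finset.smul_sum, sub_eq_zero]
    refine Finset.sum_congr rfl fun j _ => ?_
    rw [map_smul, hp, ← smul_assoc, ← hd j, ← algebraMap_smul Rp (d j)]
  obtain ⟨s₂, hs₂⟩ := IsLocalizedModule.exists_of_eq (S := p.primeCompl) hrel
  rw [smul_zero, Submonoid.smul_def] at hs₂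
  let T : R := (s₂ : R) * t₂
  have hT : T ∉ p := fun h => (‹p.IsPrime›.mem_or_mem h).elim s₂.2 t₂.2
  let η : A := T • a
  let cc : Fin r → R := fun j => (s₂ : R) * d j * T ^ (r - 1 - (j : ℕ))
  have hη : η ^ r = ∑ j : Fin r, cc j • η ^ (j : ℕ) := pow_scale r a (t₂ : R) d (s₂ : R) hr hs₂
  let y : k ⊗[R] A := (1 : k) ⊗ₜ η
  have hy : y = algebraMap R k T • ((1 : k) ⊗ₜ[R] a) := by
    rw [algebraMap_smul, ← TensorProduct.tmul_smul]
  have hys : Algebra.adjoin k {y} = Algebra.adjoin k {x} := by rw [hy, hadj _ _ (hne _ hT), hxa]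
  have hysep : Algebra.IsSeparable k (Algebra.adjoin k {y}) := by rw [hys]; exact hxs
  have hyr : Module.finrank k (Algebra.adjoin k {y}) = r := by rw [hys]; exact hxr
  obtain ⟨hydeg, hyli, hyspan⟩ := Groth.Agent.CSA.LocalAzu.powers_of_finrank_adjoin y hyr
  let P : Polynomial R := Polynomial.X ^ r - ∑ i : Fin r, Polynomial.C (cc i) * Polynomial.X ^ (i : ℕ)
  have hPm : P.Monic := Polynomial.monic_X_pow_sub (Polynomial.degree_sum_fin_lt cc)
  have hPη : Polynomial.aeval η P = 0 := by
    simp only [P, map_sub, map_pow, map_sum, map_mul, Polynomial.aeval_X, Polynomial.aeval_C]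
    rw [hη]
    exact sub_eq_zero.2 (Finset.sum_congr rfl fun i _ => Algebra.smul_def _ _)
  have hPdeg : ∀ (S : Type u) [CommRing S] [Nontrivial S] [Algebra R S], (P.map (algebraMap R S)).natDegree = r := by
    intro S _ _ _
    rw [hPm.natDegree_map]
    have : Nontrivial R := (algebraMap R S).domain_nontrivial
    rw [Polynomial.natDegree_eq_of_degree_eq_some]
    rw [Polynomial.degree_sub_eq_left_of_degree_lt (by
      rw [Polynomial.degree_X_pow]; exact Polynomial.degree_sum_fin_lt cc), Polynomial.degree_X_pow]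
  have hPk : (P.map (algebraMap R k)).Separable := by
    have hint : IsIntegral k y := IsIntegral.of_finite k y
    have hroot : Polynomial.aeval y (P.map (algebraMap R k)) = 0 := by
      rw [Polynomial.aeval_map_algebraMap]
      exact (Polynomial.aeval_algHom_apply (Algebra.TensorProduct.includeRight : A →ₐ[R] k ⊗[R] A) η P).trans
        (by rw [hPη, map_zero])
    have heq : P.map (algebraMap R k) = minpoly k y :=
      Polynomial.eq_of_monic_of_dvd_of_natDegree_le (minpoly.monic hint) (hPm.map _) (minpoly.dvd k y hroot)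
        (by rw [hPdeg k]; exact hydeg.ge)
    rw [heq]
    exact (Groth.Agent.CSA.EtaleSub.isSeparable_coe_iff (S := Algebra.adjoin k {y})
      ⟨y, Algebra.self_mem_adjoin_singleton k y⟩).2 (Algebra.IsSeparable.isSeparable k _)
  obtain ⟨D, hD, hDsep⟩ := Groth.Agent.CSA.SplitSpread.exists_separable_away p P hPm hPk
  let L := Algebra.adjoin k ({y} : Set (k ⊗[R] A))
  letI : CommRing L := { (inferInstance : Ring L) with
    mul_comm := fun a b => Subtype.ext (Groth.Agent.CSA.EtaleSub.adjoin_comm (k := k) (s := ({y} : Set (k ⊗[R] A)))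
      (fun p hp q hq => by rw [Set.mem_singleton_iff] at hp hq; rw [hp, hq]) (a : k ⊗[R] A) a.2 (b : k ⊗[R] A) b.2) }
  have : Algebra.FormallyUnramified k L := Groth.Agent.CSA.EtaleSub.unramified_of_isSeparable k L
  have : IsReduced L := Algebra.FormallyUnramified.isReduced_of_field k L
  let powb : Module.Basis (Fin r) k L := by
    refine Module.Basis.mk (v := fun i : Fin r => (⟨y, Algebra.self_mem_adjoin_singleton k y⟩ : L) ^ (i : ℕ)) ?_ ?_
    · refine LinearIndependent.of_comp L.val.toLinearMap ?_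
      convert hyli using 1
      funext i
      simp
    · intro z _
      have hz : (z : k ⊗[R] A) ∈ Submodule.span k (Set.range fun i : Fin r => y ^ (i : ℕ)) := hyspan ▸ z.2
      obtain ⟨g, hg⟩ := (Submodule.mem_span_range_iff_exists_fun k).1 hz
      refine (Submodule.mem_span_range_iff_exists_fun k).2 ⟨g, Subtype.ext ?_⟩
      simpa using hg
  obtain ⟨β, B₀, hB₀⟩ := exists_product_basis L.val Subtype.val_injective hdim powb
  choose tt htt aa haa using fun i => exists_scalar p (β i)
  have hv : ∀ q : Fin r × Fin r, (1 : k) ⊗ₜ[R] (aa q.2 * η ^ (q.1 : ℕ)) = algebraMap R k (tt q.2) • B₀ q := by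
    intro q
    rw [hB₀, ← smul_mul_assoc, haa]
    have hpow : L.val (powb q.1) = y ^ (q.1 : ℕ) := by simp [powb]
    rw [hpow]
    exact (map_mul (Algebra.TensorProduct.includeRight : A →ₐ[R] k ⊗[R] A) _ _).trans
      (congrArg _ (map_pow (Algebra.TensorProduct.includeRight : A →ₐ[R] k ⊗[R] A) η _))
  let B₁ := (B₀.unitsSMul fun q => Units.mk0 _ (hne _ (htt q.2))).reindex Equiv.ulift.{u}.symm
  let v : ULift.{u} (Fin r × Fin r) → A := fun q => aa q.down.2 * η ^ (q.down.1 : ℕ)
  obtain ⟨g, hg, hbasis⟩ := Groth.Agent.CSA.SplitSpread.exists_basis_away p v (by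
    have h1 : (fun q => (1 : k) ⊗ₜ[R] v q) = ⇑B₁ := funext fun q => by
      simp only [B₁, v, Module.Basis.reindex_apply, Equiv.symm_symm, Module.Basis.unitsSMul_apply, hv]
      rfl
    rw [h1, show (Finsupp.linearCombination k ⇑B₁ : _ → _) = B₁.repr.symm from
        funext fun f => (B₁.repr_symm_apply f).symm]
    exact B₁.repr.symm.bijective)
  refine ⟨D * g, fun h => (‹p.IsPrime›.mem_or_mem h).elim hD hg, ?_⟩
  let S := Localization.Away (D * g)
  have hDu : IsUnit (algebraMap R S D) :=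
    isUnit_of_dvd_unit (map_dvd _ (dvd_mul_right D g)) (IsLocalization.Away.algebraMap_isUnit (D * g))
  have : Nontrivial S := ((IsLocalization.Away.lift (D * g) (g := algebraMap R k)
    (Ne.isUnit (hne _ (fun h => (‹p.IsPrime›.mem_or_mem h).elim hD hg))) : S →+* k)).domain_nontrivial
  have := Groth.Agent.Azu.baseChange (R := R) (A := A) S
  let PS := P.map (algebraMap R S)
  let E := AdjoinRoot PS
  have hPS : PS.Monic := hPm.map _
  let pb := AdjoinRoot.powerBasis' hPS
  have hpd : pb.dim = r := (AdjoinRoot.powerBasis'_dim hPS).trans (hPdeg S)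
  let eB := pb.basis.reindex (finCongr hpd)
  let ηS : S ⊗[R] A := 1 ⊗ₜ η
  let C := Algebra.adjoin S ({ηS} : Set (S ⊗[R] A))
  letI : CommRing C := { (inferInstance : Ring C) with
    mul_comm := fun a b => Subtype.ext (congrArg Subtype.val ((Algebra.isMulCommutative_adjoin S (s := ({ηS} : Set (S ⊗[R] A)))
      (fun p hp q hq => by rw [Set.mem_singleton_iff] at hp hq; rw [hp, hq])).is_comm.comm a b)) }
  let u : E →ₐ[S] S ⊗[R] A := C.val.comp (AdjoinRoot.liftAlgHom PS (Algebra.ofId S C)
    (⟨ηS, Algebra.self_mem_adjoin_singleton S ηS⟩ : C) (Subtype.ext (by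
      refine (Polynomial.aeval_algHom_apply C.val (⟨ηS, Algebra.self_mem_adjoin_singleton S ηS⟩ : C) PS).symm.trans ?_
      change Polynomial.aeval ηS (P.map (algebraMap R S)) = 0
      rw [Polynomial.aeval_map_algebraMap]
      exact (Polynomial.aeval_algHom_apply (Algebra.TensorProduct.includeRight : A →ₐ[R] S ⊗[R] A) η P).trans
        (by rw [hPη, map_zero]))))
  letI := Groth.Agent.CSA.MaxEtale.rightModule u
  have hmod : ∀ (c : E) (b : S ⊗[R] A), c • b = b * u c := fun _ _ => rfl
  have := Groth.Agent.CSA.MaxEtale.isScalarTower u hmod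
  have hbij := hbasis (D * g) (dvd_mul_left g D)
  let bR : Module.Basis (Fin r × Fin r) S (S ⊗[R] A) :=
    (Module.Basis.ofRepr (LinearEquiv.ofBijective _ hbij).symm).reindex Equiv.ulift.{u}
  obtain ⟨bE, -⟩ := Groth.Agent.CSA.SplitSpread.exists_basis_of_tower eB (fun i => (1 : S) ⊗ₜ[R] aa i) bR
    (fun q => by
      have hroot : u (AdjoinRoot.root PS) = ηS := by
        simp only [u, AlgHom.comp_apply]
        erw [AdjoinRoot.liftAlgHom_root]
        rfl
      rw [hmod]
      simp only [eB, Module.Basis.reindex_apply, pb.basis_eq_pow, map_pow]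
      rw [show pb.gen = AdjoinRoot.root PS from AdjoinRoot.powerBasis'_gen hPS, hroot]
      simp [bR, Module.Basis.coe_ofRepr, v, ηS, Algebra.TensorProduct.tmul_pow]
      have hh := Algebra.TensorProduct.tmul_mul_tmul (R := R) (A := S) (B := A) 1 1 (aa q.2) (η ^ (q.1 : ℕ))
      rw [one_mul] at hh
      exact hh.symm.trans (congrArg (fun z => (1 : S) ⊗ₜ[R] aa q.2 * z)
        (map_pow (Algebra.TensorProduct.includeRight : A →ₐ[R] S ⊗[R] A) η _)))
  have : NeZero r := ⟨hr0⟩
  have hsplit := Groth.Agent.CSA.SplitSpread.action_bijective eB (Fintype.card_fin r) u hmod bE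
  obtain ⟨cbE⟩ := Groth.Agent.Azu.nonempty_cancelBaseChange (R := R) (A := A) S E
  have hfin : Module.Finite S E := pb.finite
  have hfree : Module.Free S E := .of_basis pb.basis
  have : Nontrivial E := nontrivial_of_ne (eB ⟨0, hr⟩) 0 (eB.ne_zero _)
  refine ⟨E, inferInstance, inferInstance, inferInstance, inferInstance, hfin, ?_, inferInstance, r, hr,
    ⟨cbE.symm.trans ((AlgEquiv.ofBijective _ hsplit).trans (algEquivMatrix bE))⟩⟩
  have hsepS : PS.Separable := hDsep S hDu
  exact etale_of_separable PS hPS hsepS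

end Groth.Agent.S5720
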