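import Groth.Statements.S10723
import Groth.Agent.EtGlueLib.Relative

set_option autoImplicit false
universe u
open TensorProduct
open EtAlg

namespace Groth.Agent.S10723

/-- Glueing along a glueing pair detects morphisms of affine schemes that are flat and of finite
presentation, stated for coordinate rings. Let `(R → R', f)` be a glueing pair and `φ : A → B` a
homomorphism of `R`-algebras with `A`, `B` glueable as `R`-modules (so `Spec A`, `Spec B` are affine
and glueable over `Spec R`). Then `φ` is flat and of finite presentation if and only if `A_f → B_f`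
and `R' ⊗_R A → R' ⊗_R B` are. -/
theorem result (R : Type u) [CommRing R] (R' : Type u) [CommRing R'] [Algebra R R'] (f : R)
    (hRR' : EtGlue.IsGlueingPair R R' f) (A B : Type u) [CommRing A] [Algebra R A] [CommRing B] [Algebra R B]
    (hA : EtGlue.IsGlueable R R' f A) (hB : EtGlue.IsGlueable R R' f B) (φ : A →ₐ[R] B) :
    (φ.toRingHom.Flat ∧ φ.toRingHom.FinitePresentation) ↔
      ((Localization.awayMap φ.toRingHom (algebraMap R A f)).Flat ∧ (Localization.awayMap φ.toRingHom (algebraMap R A f)).FinitePresentation) ∧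
        ((Algebra.TensorProduct.map (AlgHom.id R R') φ).toRingHom.Flat ∧ (Algebra.TensorProduct.map (AlgHom.id R R') φ).toRingHom.FinitePresentation) := by
  refine Groth.Agent.EtGlueLib.relative_setup (R' := R') (f := f) φ
    (fun A' Ag B B' Bg _ _ _ _ _ _ _ _ _ _ => (Module.Flat A B ∧ Algebra.FinitePresentation A B) ↔ (Module.Flat Ag Bg ∧ Algebra.FinitePresentation Ag Bg) ∧ (Module.Flat A' B' ∧ Algebra.FinitePresentation A' B')) ?_
  intro A' Ag B' Bg _ _ _ _ _ _ _ _ _ _ _ _ _ _ _ _ _ _ _ _ _ _ _ _ _ _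
  have hq := Groth.Agent.EtGlueLib.quotPowBijective_baseChange (f := f) hRR'.1 A A'
  have hA' := Groth.Agent.EtGlueLib.isGlueingPair_of_isGlueable hRR' A A' hA
  constructor
  · rintro ⟨_, _⟩
    exact ⟨⟨Module.Flat.of_linearEquiv (Groth.Agent.EtGlueLib.pushoutEquiv A B Ag Bg).toLinearEquiv.symm,
      Algebra.FinitePresentation.equiv (Groth.Agent.EtGlueLib.pushoutEquiv A B Ag Bg)⟩,
      Module.Flat.of_linearEquiv (Groth.Agent.EtGlueLib.pushoutEquiv A B A' B').toLinearEquiv.symm,
      Algebra.FinitePresentation.equiv (Groth.Agent.EtGlueLib.pushoutEquiv A B A' B')⟩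
  · rintro ⟨⟨_, _⟩, _, _⟩
    haveI hfl : Module.Flat A B := Groth.Agent.EtGlueLib.flat_of_glue (B' := B') (Ag := Ag) (Bg := Bg) hA'
    exact ⟨hfl, Groth.Agent.EtGlueLib.finitePresentation_of_glue (B' := B') (Ag := Ag) (Bg := Bg) hq⟩

end Groth.Agent.S10723
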