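import Groth.Statements.S6295
import Mathlib
-- import your own Groth.Agent.* helpers here

set_option autoImplicit false
universe u
open CAlg

namespace Groth.Agent.S6295

/-- Let R be a reduced ring. Then every localization R_p at a minimal prime p is a field and the map R →
∏_{p minimal} R_p is injective (so R is a subring of a product of fields); moreover the set of
zerodivisors of R is the union of the minimal primes. -/
theorem result (R : Type u) [CommRing R] [IsReduced R] : (∀ p : PrimeSpectrum R, p.asIdeal ∈ minimalPrimes R → IsField (Localization.AtPrime p.asIdeal)) ∧ Function.Injective (algebraMap R (∀ p : {p : PrimeSpectrum R // p.asIdeal ∈ minimalPrimes R}, Localization.AtPrime p.1.asIdeal)) ∧ (∀ x : R, x ∉ nonZeroDivisors R ↔ ∃ p ∈ minimalPrimes R, x ∈ p) := by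
  have h1 : ∀ p : PrimeSpectrum R, p.asIdeal ∈ minimalPrimes R → IsField (Localization.AtPrime p.asIdeal) := by
    intro p hp
    haveI : IsReduced (Localization.AtPrime p.asIdeal) := isReduced_localizationPreserves p.asIdeal.primeCompl _ ‹_›
    exact PrimeSpectrum.subsingleton_iff_isField_of_isReduced.mp
      (IsLocalization.subsingleton_primeSpectrum_of_mem_minimalPrimes p.asIdeal hp _)
  refine ⟨h1, ?_, fun x => ⟨fun hx => ?_, ?_⟩⟩
  · rw [injective_iff_map_eq_zero]
    intro x hx
    rw [← Ideal.mem_bot, ← Ideal.zero_eq_bot, ← nilradical_eq_zero R, nilradical, Ideal.zero_eq_bot, ← Ideal.sInf_minimalPrimes, Submodule.mem_sInf]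
    intro P hP
    have := congrFun hx ⟨⟨P, hP.1.1⟩, hP⟩
    rw [Pi.algebraMap_apply, Pi.zero_apply] at this
    obtain ⟨c, hc⟩ := (IsLocalization.map_eq_zero_iff (Ideal.primeCompl (hp := hP.1.1) P) _ _).mp this
    exact (hP.1.1.mem_or_mem (hc ▸ P.zero_mem)).resolve_left c.2
  · rw [mem_nonZeroDivisors_iff_right] at hx
    push_neg at hx
    obtain ⟨z, hz, hz0⟩ := hx
    by_contra! hcon
    apply hz0
    rw [← Ideal.mem_bot, ← Ideal.zero_eq_bot, ← nilradical_eq_zero R, nilradical, Ideal.zero_eq_bot, ← Ideal.sInf_minimalPrimes, Submodule.mem_sInf]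
    intro P hP
    exact (hP.1.1.mem_or_mem (hz ▸ P.zero_mem)).resolve_right (hcon P hP)
  · rintro ⟨P, hP, hx⟩ hnz
    exact Set.disjoint_left.mp (Ideal.disjoint_nonZeroDivisors_of_mem_minimalPrimes hP) hx hnz

end Groth.Agent.S6295
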