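import Groth.Statements.S9442
import Groth.Agent.EGA4Lib.SmoothRegular
import Groth.Agent.RegLoc.Completion
import Groth.Agent.CAlg48.PowerSeriesAFS
import Groth.Agent.CAlg48.CoeffField
import Groth.Agent.AdicFS.Conormal
import Groth.Agent.S9443
import Mathlib

set_option autoImplicit false
universe u
open CAlg

namespace Groth.Agent.S9442

open IsLocalRing

/-- A complete regular local algebra with formally smooth residue field is adically formally smooth. -/
theorem afs_of_complete (k : Type u) [Field k] (R : Type u) [CommRing R] [IsRegularLocalRing R]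
    [IsAdicComplete (maximalIdeal R) R] [Algebra k R] [Algebra.FormallySmooth k (ResidueField R)] :
    CAlgX.IsAdicFormallySmooth k R (maximalIdeal R) := by
  obtain ⟨s, hs⟩ := CAlg48.CoeffField.exists_section R k
  letI : Algebra (ResidueField R) R := s.toRingHom.toAlgebra
  haveI : IsScalarTower k (ResidueField R) R := IsScalarTower.of_algebraMap_eq fun x => (s.commutes x).symm
  obtain ⟨d, ⟨e⟩⟩ := S9443.result R (ResidueField R)
    ⟨fun a b hab => (hs a).symm.trans ((hab : _ = _).trans (hs b)), fun y => ⟨y, hs y⟩⟩
  let K := ResidueField R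
  have hP : CAlgX.IsAdicFormallySmooth k (MvPowerSeries (Fin d) K) (maximalIdeal (MvPowerSeries (Fin d) K)) := by
    refine CAlg48.PowerSeriesAFS.isAdicFormallySmooth (⊥ : Ideal K)
      (AdicFS.Basic.of_formallySmooth _) _ (fun i hu => ?_) (by simp [Ideal.map_bot])
    rw [MvPowerSeries.isUnit_iff_constantCoeff, MvPowerSeries.constantCoeff_X] at hu
    exact not_isUnit_zero hu
  intro A _ _ J hJ ψ ⟨n, hn⟩
  let e' := e.restrictScalars k
  obtain ⟨χ, hχ⟩ := hP A J hJ (ψ.comp e'.symm.toAlgHom) ⟨n, fun x hx => by
    refine hn _ ?_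
    have h1 := Ideal.mem_map_of_mem e'.symm.toRingEquiv.toRingHom hx
    rwa [Ideal.map_pow, IsLocalRing.map_maximalIdeal_of_surjective e'.symm.toRingEquiv.toRingHom e'.symm.surjective] at h1⟩
  refine ⟨χ.comp e'.toAlgHom, AlgHom.ext fun x => ?_⟩
  have := AlgHom.congr_fun hχ (e' x)
  simpa using this

/-- A regular local algebra with formally smooth residue field is adically formally smooth. -/
theorem afs_of_regular (k : Type u) [Field k] (C : Type u) [CommRing C] [IsRegularLocalRing C]
    [Algebra k C] [Algebra.FormallySmooth k (ResidueField C)] :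
    CAlgX.IsAdicFormallySmooth k C (maximalIdeal C) := by
  let m := maximalIdeal C
  let C' := AdicCompletion m C
  haveI := RegLoc.Completion.isNoetherianRing_adicCompletion' m
  haveI : IsRegularLocalRing C' := (RegLoc.Completion.isRegularLocalRing_completion_iff C).mp inferInstance
  haveI : Algebra.FormallySmooth k (ResidueField C') :=
    Algebra.FormallySmooth.of_equiv
      (AlgEquiv.ofRingEquiv (f := RingEquiv.ofBijective _ (AdicCompletion.residueField_map_bijective C))
        fun x => by
          show IsLocalRing.ResidueField.map (algebraMap C C') (residue C (algebraMap k C x)) = _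
          rw [IsLocalRing.ResidueField.map_residue, ← IsScalarTower.algebraMap_apply k C C']
          rfl)
  have h' := afs_of_complete k C'
  intro A _ _ J hJ ψ ⟨n, hn⟩
  let ψ₁ : C ⧸ m ^ n →ₐ[k] A ⧸ J := Ideal.Quotient.liftₐ (m ^ n) ψ hn
  let ψ' : C' →ₐ[k] A ⧸ J := ψ₁.comp ((AdicCompletion.evalₐ m n).restrictScalars k)
  obtain ⟨χ, hχ⟩ := h' A J hJ ψ' ⟨n, fun x hx => by
    have h1 := Ideal.mem_map_of_mem ((AdicCompletion.evalₐ m n : C' →ₐ[C] C ⧸ m ^ n) : C' →+* C ⧸ m ^ n) hx
    rw [AdicCompletion.maximalIdeal_eq_map, Ideal.map_pow, Ideal.map_map, AlgHom.comp_algebraMap,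
      Ideal.Quotient.algebraMap_eq, ← Ideal.map_pow, Ideal.map_quotient_self, Ideal.mem_bot] at h1
    show ψ₁ (AdicCompletion.evalₐ m n x) = 0
    exact (congrArg ψ₁ h1).trans (map_zero ψ₁)⟩
  refine ⟨χ.comp (IsScalarTower.toAlgHom k C C'), AlgHom.ext fun x => ?_⟩
  refine (AlgHom.congr_fun hχ (algebraMap C C' x)).trans ?_
  show ψ₁ (AdicCompletion.evalₐ m n (algebraMap C C' x)) = ψ x
  rw [AlgHom.commutes]
  rfl

/-- For a finite type algebra S over a field k and a prime q of S with κ(q) separable over k, S is
smooth over k at q if and only if S_q is a regular local ring. -/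
theorem result (k : Type u) [Field k]
    (S : Type u) [CommRing S] [Algebra k S] [Algebra.FiniteType k S] (q : Ideal S) [q.IsPrime]
    [Algebra.IsGeometricallyReduced k q.ResidueField] :
    Algebra.IsSmoothAt k q ↔ IsRegularLocalRing (Localization.AtPrime q) := by
  constructor
  · intro h
    haveI := h
    haveI : Algebra.FinitePresentation k S := Algebra.FinitePresentation.of_finiteType.mp inferInstance
    obtain ⟨f, hf, hstd⟩ := Algebra.IsSmoothAt.exists_notMem_isStandardSmooth k (S := S) q
    haveI := hstd
    let Sf := Localization.Away f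
    have hdisj : Disjoint (Submonoid.powers f : Set S) (q : Set S) :=
      (Ideal.disjoint_powers_iff_notMem_of_isPrime _).mpr hf
    haveI hQ : (q.map (algebraMap S Sf)).IsPrime :=
      IsLocalization.isPrime_of_isPrime_disjoint (Submonoid.powers f) _ _ ‹q.IsPrime› hdisj
    have hk : PrimeSpectrum.comap (algebraMap k Sf) ⟨q.map (algebraMap S Sf), hQ⟩ ∈ EGA4.regLocus k := by
      show IsRegularLocalRing _
      haveI : IsDomain k := inferInstance
      set P := (PrimeSpectrum.comap (algebraMap k Sf) ⟨q.map (algebraMap S Sf), hQ⟩).asIdeal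
      have hbot : P = ⊥ := (Ideal.eq_bot_or_top P).resolve_right (PrimeSpectrum.comap (algebraMap k Sf) ⟨q.map (algebraMap S Sf), hQ⟩).2.ne_top
      haveI := IsRegularRing.isRegularLocalRing_localization (R := k) P
      infer_instance
    haveI : IsRegularLocalRing (Localization.AtPrime (q.map (algebraMap S Sf))) :=
      EGA4Lib.mem_regLocus_of_smooth (R := k) ⟨q.map (algebraMap S Sf), hQ⟩ hk
    haveI h1 := IsLocalization.isLocalization_isLocalization_atPrime_isLocalization (Submonoid.powers f)
      (Localization.AtPrime (q.map (algebraMap S Sf))) (q.map (algebraMap S Sf))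
    have hq : (q.map (algebraMap S Sf)).under S = q :=
      IsLocalization.under_map_of_isPrime_disjoint (Submonoid.powers f) _ ‹q.IsPrime› hdisj
    haveI : IsLocalization q.primeCompl (Localization.AtPrime (q.map (algebraMap S Sf))) := by
      have : ((q.map (algebraMap S Sf)).under S).primeCompl = q.primeCompl := by ext; simp [hq]
      exact this ▸ h1
    exact IsRegularLocalRing.of_ringEquiv (R := Localization.AtPrime (q.map (algebraMap S Sf)))
      (IsLocalization.algEquiv q.primeCompl _ (Localization.AtPrime q)).toRingEquiv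
  · intro h
    haveI : Algebra.FormallySmooth k q.ResidueField := by
      rw [FieldSep.MacLane.formallySmooth_iff]; infer_instance
    haveI : IsNoetherianRing S := Algebra.FiniteType.isNoetherianRing k S
    haveI : Algebra.EssFiniteType S (Localization.AtPrime q) :=
      Algebra.EssFiniteType.of_isLocalization _ q.primeCompl
    haveI : Algebra.EssFiniteType k (Localization.AtPrime q) := Algebra.EssFiniteType.comp k S _
    exact AdicFS.Conormal.formallySmooth_of_adic (afs_of_regular k (Localization.AtPrime q))

end Groth.Agent.S9442
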