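import Groth.Statements.S16234
import Mathlib

set_option autoImplicit false
universe u v
open CAlg

namespace Groth.Agent.S16234

/-- For a finitely generated module M over a Noetherian commutative ring A, every prime ideal in the
support of M is a maximal ideal if and only if M has finite length. -/
theorem result (A : Type u) [CommRing A] [IsNoetherianRing A]
    (M : Type v) [AddCommGroup M] [Module A M] [Module.Finite A M] :
    (∀ p ∈ Module.support A M, p.asIdeal.IsMaximal) ↔ IsFiniteLength A M := by
  rw [isFiniteLength_iff_isNoetherian_isArtinian]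
  constructor
  · intro h
    refine ⟨inferInstance, ?_⟩
    let I := Module.annihilator A M
    letI : Module (A ⧸ I) M := Module.IsTorsionBySet.module (fun m r => Module.mem_annihilator.1 r.2 m)
    haveI : IsScalarTower A (A ⧸ I) M := Module.IsTorsionBySet.isScalarTower _
    haveI : Ring.KrullDimLE 0 (A ⧸ I) := Ring.KrullDimLE.mk₀ fun P hP => by
      have h1 : (⟨P.comap (Ideal.Quotient.mk I), hP.comap _⟩ : PrimeSpectrum A) ∈ Module.support A M := by
        rw [Module.support_eq_zeroLocus, PrimeSpectrum.mem_zeroLocus]
        intro a ha
        show Ideal.Quotient.mk I a ∈ P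
        rw [Ideal.Quotient.eq_zero_iff_mem.2 ha]
        exact P.zero_mem
      haveI := h _ h1
      rw [← Ideal.map_comap_of_surjective (Ideal.Quotient.mk I) Ideal.Quotient.mk_surjective P]
      refine (Ideal.map_eq_top_or_isMaximal_of_surjective _ Ideal.Quotient.mk_surjective this).resolve_left ?_
      rw [Ideal.map_comap_of_surjective _ Ideal.Quotient.mk_surjective P]
      exact hP.ne_top
    haveI : IsArtinianRing (A ⧸ I) := IsNoetherianRing.isArtinianRing_of_krullDimLE_zero
    haveI : Module.Finite (A ⧸ I) M := Module.Finite.of_restrictScalars_finite A _ _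
    haveI : IsArtinian (A ⧸ I) M := inferInstance
    exact isArtinian_of_surjective_algebraMap (S := A) (R := A ⧸ I) Ideal.Quotient.mk_surjective
  · rintro ⟨-, hA⟩ p hp
    haveI := hA
    obtain ⟨n, g, hg⟩ := Module.Finite.exists_fin (R := A) (M := M)
    let e : A →ₗ[A] (Fin n → M) := LinearMap.pi fun i => LinearMap.toSpanSingleton A M (g i)
    have he : LinearMap.ker e = Module.annihilator A M := by
      ext a
      simp only [LinearMap.mem_ker, e, funext_iff, LinearMap.pi_apply, LinearMap.toSpanSingleton_apply,
        Pi.zero_apply, Module.mem_annihilator]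
      refine ⟨fun h m => ?_, fun h i => h _⟩
      have hm : m ∈ Submodule.span A (Set.range g) := hg ▸ Submodule.mem_top
      induction hm using Submodule.span_induction with
      | mem x hx => obtain ⟨i, rfl⟩ := hx; exact h i
      | zero => simp
      | add x y _ _ hx hy => simp [hx, hy]
      | smul r x _ hx => rw [smul_comm, hx, smul_zero]
    haveI : IsArtinian A (A ⧸ LinearMap.ker e) := isArtinian_of_linearEquiv e.quotKerEquivRange.symm
    rw [Module.support_eq_zeroLocus, PrimeSpectrum.mem_zeroLocus] at hp
    haveI : IsArtinian A (A ⧸ p.asIdeal) :=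
      isArtinian_of_surjective (A ⧸ LinearMap.ker e) (Submodule.factor (he.trans_le hp)) (Submodule.factor_surjective _)
    haveI : IsArtinianRing (A ⧸ p.asIdeal) := isArtinian_of_tower A inferInstance
    exact Ideal.Quotient.maximal_of_isField _ (IsArtinianRing.isField_of_isDomain _)

end Groth.Agent.S16234
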