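import Groth.Statements.S5767
import Mathlib

set_option autoImplicit false
universe u
open EGA41

namespace Groth.Agent.S5767

/-- Let A be a semi-local Noetherian ring, M a finitely generated A-module and x an element of the
Jacobson radical of A. One always has dim(M/xM) ≥ dim(M) - 1; equality dim(M/xM) = dim(M) - 1 holds
if and only if x belongs to none of the prime ideals p of Supp(M) with dim(A/p) = dim(M). Stated as:
dim(M/xM) + 1 = dim(M) iff x avoids those primes. -/
theorem result (A : Type u) [CommRing A] [IsNoetherianRing A]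
    [Finite (MaximalSpectrum A)] (M : Type u) [AddCommGroup M] [Module A M] [Module.Finite A M] (x : A)
    (hx : x ∈ Ring.jacobson A) :
    Module.supportDim A (QuotSMulTop x M) + 1 = Module.supportDim A M ↔
      ∀ p : PrimeSpectrum A, p ∈ Module.support A M →
        ringKrullDim (A ⧸ p.asIdeal) = Module.supportDim A M → x ∉ p.asIdeal := by
  rcases subsingleton_or_nontrivial M with hM | hM
  · rw [Module.supportDim_eq_bot_of_subsingleton, Module.supportDim_eq_bot_of_subsingleton]
    refine ⟨fun _ p hp => ?_, fun _ => WithBot.bot_add _⟩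
    rw [Module.support_eq_empty_iff.mpr hM] at hp
    exact absurd hp (Set.notMem_empty p)
  -- the dimension is finite
  obtain ⟨d, hd⟩ : ∃ d : ℕ, Module.supportDim A M = d := by
    haveI := Fintype.ofFinite (MaximalSpectrum A)
    let N : ℕ := Finset.univ.sup fun m : MaximalSpectrum A => m.asIdeal.height.toNat
    have hN : ringKrullDim A ≤ (N : WithBot ℕ∞) := by
      rw [ringKrullDim_le_iff_isMaximal_height_le]
      intro m hm
      have hfin : m.height ≠ ⊤ := Ideal.height_ne_top hm.ne_top
      rw [← ENat.coe_toNat hfin]
      exact_mod_cast Finset.le_sup (f := fun m : MaximalSpectrum A => m.asIdeal.height.toNat)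
        (Finset.mem_univ ⟨m, hm⟩)
    have hle := (Module.supportDim_le_ringKrullDim A M).trans hN
    have hne := Module.supportDim_ne_bot_iff_nontrivial A M |>.mpr hM
    match h : Module.supportDim A M, hle, hne with
    | ⊥, _, hne => exact absurd rfl hne
    | ((⊤ : ℕ∞) : WithBot ℕ∞), hle, _ =>
      exact absurd (WithBot.coe_le_coe.mp hle) (not_le.mpr (ENat.natCast_lt_top N))
    | ((n : ℕ) : ℕ∞), _, _ => exact ⟨n, rfl⟩
  have hjac : x ∈ (Module.annihilator A M).jacobson := by
    refine Ideal.jacobson_mono bot_le ?_
    rwa [Ideal.jacobson_bot]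
  have hge := Module.supportDim_le_supportDim_quotSMulTop_succ_of_mem_jacobson (M := M) hjac
  have hle : Module.supportDim A (QuotSMulTop x M) ≤ Module.supportDim A M :=
    Module.supportDim_le_of_surjective _ (Submodule.mkQ_surjective _)
  -- `dim A/P ≤ dim M` on the support
  have hquot : ∀ P ∈ Module.support A M, ringKrullDim (A ⧸ P.asIdeal) ≤ Module.supportDim A M := by
    intro P hP
    rw [Module.supportDim_eq_ringKrullDim_quotient_annihilator]
    exact ringKrullDim_le_of_surjective (Ideal.Quotient.factor (Module.mem_support_iff_of_finite.mp hP))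
      (Ideal.Quotient.factor_surjective _)
  constructor
  · intro heq P hP hPd hxP
    have : ringKrullDim (A ⧸ P.asIdeal) ≤ Module.supportDim A (QuotSMulTop x M) := by
      rw [ringKrullDim_quotient, Module.supportDim]
      refine Order.krullDim_le_of_strictMono (fun Q => ⟨Q.1, ?_⟩) fun _ _ h => h
      rw [Module.support_quotSMulTop]
      refine ⟨Module.mem_support_mono (show P ≤ Q.1 from Q.2) hP, ?_⟩
      simpa using Q.2 hxP
    rw [hPd] at this
    rw [le_antisymm hle this, hd] at heq
    have : d + 1 = d := by exact_mod_cast heq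
    omega
  · intro h
    refine le_antisymm ?_ hge
    rw [hd]
    rw [hd] at hle
    by_contra hcon
    have hdle : ((d : ℕ) : WithBot ℕ∞) ≤ Module.supportDim A (QuotSMulTop x M) := by
      match hs : Module.supportDim A (QuotSMulTop x M), hcon with
      | ⊥, hcon => simp at hcon
      | ((⊤ : ℕ∞) : WithBot ℕ∞), _ => exact WithBot.coe_le_coe.mpr le_top
      | ((n : ℕ) : ℕ∞), hcon =>
        have : ¬ (n + 1 ≤ d) := fun hh => hcon (by exact_mod_cast hh)
        exact_mod_cast (by omega : d ≤ n)
    obtain ⟨l, hl⟩ := Order.le_krullDim_iff.mp hdle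
    have hP : l.head.1 ∈ Module.support A M ∩ PrimeSpectrum.zeroLocus {x} := by
      rw [← Module.support_quotSMulTop]; exact l.head.2
    refine h l.head.1 hP.1 (le_antisymm (hquot _ hP.1) ?_) (by simpa using hP.2)
    rw [hd, ringKrullDim_quotient]
    let l' : LTSeries ↥(PrimeSpectrum.zeroLocus (l.head.1.asIdeal : Set A)) :=
      LTSeries.mk l.length (fun i => ⟨(l i).1, (LTSeries.monotone l (Fin.zero_le i) :)⟩)
        fun i j hij => (LTSeries.strictMono l hij :)
    exact Order.le_krullDim_iff.mpr ⟨l', hl⟩

end Groth.Agent.S5767
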