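import Groth.Statements.S5758
import Mathlib
import Groth.Agent.Depth.CM
import Groth.Agent.EGA41Lib.Params

set_option autoImplicit false
universe u
open EGA41

namespace Groth.Agent.S5758

open scoped Pointwise in
theorem aux (A : Type u) [CommRing A] [IsLocalRing A] [IsNoetherianRing A] :
    ∀ (xs : List A) (M : Type u) [AddCommGroup M] [Module A M] [Module.Finite A M],
    LocCoh.IsCohenMacaulayModule A M → (∀ x ∈ xs, x ∈ IsLocalRing.maximalIdeal A) →
    (RingTheory.Sequence.IsWeaklyRegular M xs ↔
        Module.supportDim A (M ⧸ (Ideal.ofList xs • (⊤ : Submodule A M))) + xs.length =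
          Module.supportDim A M) ∧
      (RingTheory.Sequence.IsWeaklyRegular M xs →
        LocCoh.IsCohenMacaulayModule A (M ⧸ (Ideal.ofList xs • (⊤ : Submodule A M)))) := by
  haveI : Finite (MaximalSpectrum A) := by
    haveI : Subsingleton (MaximalSpectrum A) := ⟨fun a b => MaximalSpectrum.ext
      ((IsLocalRing.eq_maximalIdeal a.isMaximal).trans (IsLocalRing.eq_maximalIdeal b.isMaximal).symm)⟩
    exact Finite.of_subsingleton
  have hjac : ∀ x ∈ IsLocalRing.maximalIdeal A, x ∈ Ring.jacobson A := fun x hx => by
    rw [← Ideal.jacobson_bot]; exact IsLocalRing.maximalIdeal_le_jacobson _ hx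
  intro xs
  induction xs with
  | nil =>
    intro M _ _ _ hM _
    have e := Submodule.quotEquivOfEqBot (Ideal.ofList ([] : List A) • (⊤ : Submodule A M))
      (by rw [Ideal.ofList_nil, Submodule.bot_smul])
    refine ⟨iff_of_true (RingTheory.Sequence.IsWeaklyRegular.nil A M) ?_, fun _ =>
      (Groth.Agent.Depth.isCohenMacaulayModule_congr e).mpr hM⟩
    rw [Module.supportDim_eq_of_equiv e, List.length_nil, Nat.cast_zero, add_zero]
  | cons x xs ih =>
    intro M _ _ _ hM h
    have hx := h x List.mem_cons_self
    have hxs : ∀ y ∈ xs, y ∈ IsLocalRing.maximalIdeal A := fun y hy => h y (List.mem_cons_of_mem _ hy)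
    have e := Submodule.quotOfListConsSMulTopEquivQuotSMulTopInner M x xs
    haveI := Groth.Agent.Depth.nontrivial_of_isCohenMacaulayModule hM
    rw [RingTheory.Sequence.isWeaklyRegular_cons_iff, Module.supportDim_eq_of_equiv e]
    refine ⟨⟨fun ⟨hreg, hrest⟩ => ?_, fun heq => ?_⟩, fun ⟨hreg, hrest⟩ => ?_⟩
    · have := (ih _ ((Groth.Agent.Depth.isCohenMacaulayModule_quotSMulTop_iff hx hreg).mpr hM) hxs).1.mp hrest
      rw [← Module.supportDim_quotSMulTop_succ_eq_supportDim hreg hx, ← this, List.length_cons,
        Nat.cast_add, Nat.cast_one, add_assoc]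
    · have h1 := Groth.Agent.EGA41Lib.supportDim_le_quotient_add_length xs (QuotSMulTop x M)
        (fun y hy => hjac y (hxs y hy))
      have h2 := Module.supportDim_le_supportDim_quotSMulTop_succ (M := M) hx
      have hdrop : Module.supportDim A (QuotSMulTop x M) + 1 = Module.supportDim A M := by
        refine le_antisymm ((add_le_add h1 le_rfl).trans (le_of_eq ?_)) h2
        rw [← heq, List.length_cons, Nat.cast_add, Nat.cast_one, add_assoc]
      have hreg : IsSMulRegular M x := by
        by_contra hnreg
        have hmem : x ∈ ⋃ p ∈ associatedPrimes A M, (p : Set A) := by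
          rw [biUnion_associatedPrimes_eq_compl_regular]; exact hnreg
        obtain ⟨p, hp, hxp⟩ := Set.mem_iUnion₂.mp hmem
        have hprime := Groth.Agent.Depth.isPrime_of_mem_associatedPrimes hp
        exact (Groth.Agent.S5767.result A M x (hjac x hx)).mp hdrop ⟨p, hprime⟩
          (Module.mem_support_iff_of_finite.mpr (Groth.Agent.Depth.annihilator_le_associatedPrime hp))
          (Groth.Agent.Depth.ringKrullDim_quotient_associatedPrime hM hp) hxp
      refine ⟨hreg, (ih _ ((Groth.Agent.Depth.isCohenMacaulayModule_quotSMulTop_iff hx hreg).mpr hM) hxs).1.mpr ?_⟩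
      have hne : ((1 : ℕ) : WithBot ℕ∞) = 1 := Nat.cast_one
      have hfin : ∃ d : ℕ, Module.supportDim A M = d := Groth.Agent.EGA41Lib.exists_supportDim_eq_natCast M
      obtain ⟨d, hd⟩ := hfin
      rw [List.length_cons, Nat.cast_add, Nat.cast_one, ← add_assoc, ← hdrop] at heq
      exact Groth.Agent.Depth.withBot_add_one_right_cancel heq
    · exact (Groth.Agent.Depth.isCohenMacaulayModule_congr e).mpr
        ((ih _ ((Groth.Agent.Depth.isCohenMacaulayModule_quotSMulTop_iff hx hreg).mpr hM) hxs).2 hrest)


/-- Let A be a Noetherian local ring, M a nonzero finitely generated Cohen-Macaulay A-module and x_1,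
..., x_r elements of the maximal ideal. The sequence (x_i) is M-regular if and only if dim(M/(x_1 M
+ ... + x_r M)) = dim(M) - r, i.e. if and only if the x_i are part of a system of parameters for M;
and when this holds the quotient M/(x_1 M + ... + x_r M) is again a Cohen-Macaulay module. -/
theorem result (A : Type u) [CommRing A]
    [IsLocalRing A] [IsNoetherianRing A] (M : Type u) [AddCommGroup M] [Module A M] [Module.Finite A M]
    (hM : LocCoh.IsCohenMacaulayModule A M) (xs : List A) (hxs : ∀ x ∈ xs, x ∈ IsLocalRing.maximalIdeal A) :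
    (RingTheory.Sequence.IsWeaklyRegular M xs ↔
        Module.supportDim A (M ⧸ (Ideal.ofList xs • (⊤ : Submodule A M))) + xs.length =
          Module.supportDim A M) ∧
      (RingTheory.Sequence.IsWeaklyRegular M xs →
        LocCoh.IsCohenMacaulayModule A (M ⧸ (Ideal.ofList xs • (⊤ : Submodule A M)))) := by
  exact aux A xs M hM hxs

end Groth.Agent.S5758
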