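import Groth.Statements.S10903
import Groth.Agent.S5758
import Groth.Agent.Depth.CM
import Mathlib.RingTheory.RegularLocalRing.Polynomial
import Mathlib.RingTheory.MvPolynomial.Homogeneous
import Mathlib.RingTheory.MvPolynomial.Ideal
-- import your own Groth.Agent.* helpers here

set_option autoImplicit false
universe u
open CInt

namespace Groth.Agent.S10903

open MvPolynomial

/-- `dim (R ⧸ J) + r ≤ dim R` when every prime over `J` has height `≥ r`. -/
theorem ringKrullDim_quotient_add_le {R : Type*} [CommRing R] (J : Ideal R) (r : ℕ)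
    (hr : ∀ q : Ideal R, q.IsPrime → J ≤ q → (r : ℕ∞) ≤ q.height) (l : ℕ)
    (hl : (l : WithBot ℕ∞) ≤ ringKrullDim (R ⧸ J)) : ((l + r : ℕ) : WithBot ℕ∞) ≤ ringKrullDim R := by
  obtain ⟨s, hs⟩ := Order.le_krullDim_iff.mp hl
  let c : PrimeSpectrum (R ⧸ J) → PrimeSpectrum R := PrimeSpectrum.comap (Ideal.Quotient.mk J)
  have hc : StrictMono c := by
    refine fun a b hab => lt_of_le_of_ne (fun z hz => hab.le hz) fun h => hab.ne ?_
    exact PrimeSpectrum.comap_injective_of_surjective _ Ideal.Quotient.mk_surjective h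
  let s' : LTSeries (PrimeSpectrum R) := s.map c hc
  have hJ : J ≤ s'.head.asIdeal := by
    intro z hz
    show Ideal.Quotient.mk J z ∈ s.head.asIdeal
    rw [Ideal.Quotient.eq_zero_iff_mem.mpr hz]
    exact zero_mem _
  have hh := hr s'.head.asIdeal s'.head.2 hJ
  rw [PrimeSpectrum.height_eq_orderHeight] at hh
  obtain ⟨t, ht, htl⟩ := Order.exists_series_of_le_height _ hh
  refine Order.le_krullDim_iff.mpr ⟨t.smash s' ht, ?_⟩
  simp [s', hs, htl, add_comm]

theorem ker_constantCoeff_eq (k : Type u) [Field k] (m : ℕ) :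
    RingHom.ker (constantCoeff (R := k) (σ := Fin m)) = idealOfVars (Fin m) k := by
  ext p
  rw [← pow_one (idealOfVars (Fin m) k), mem_pow_idealOfVars_iff', RingHom.mem_ker]
  constructor
  · intro h x hx
    have : x = 0 := by simpa [Finsupp.degree_eq_zero_iff] using hx
    rw [this]; exact h
  · intro h; exact h 0 (by simp)

theorem le_height_ker_constantCoeff (k : Type u) [Field k] (m : ℕ) :
    (m : ℕ∞) ≤ (RingHom.ker (constantCoeff (R := k) (σ := Fin m))).height := by
  let φ : ℕ → MvPolynomial (Fin m) k →ₐ[k] MvPolynomial (Fin m) k := fun i =>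
    aeval (fun t => if (t : ℕ) < i then 0 else X t)
  have hp : ∀ i, (RingHom.ker (φ i)).IsPrime := fun i => RingHom.ker_isPrime _
  have main : ∀ i, i ≤ m → (i : ℕ∞) ≤ (RingHom.ker (φ i)).height := by
    intro i
    induction i with
    | zero => exact fun _ => zero_le
    | succ i ih =>
      intro hi
      have hlt : RingHom.ker (φ i) < RingHom.ker (φ (i + 1)) := by
        have hcomp : (φ (i + 1)).comp (φ i) = φ (i + 1) := by
          refine MvPolynomial.algHom_ext fun t => ?_
          simp only [φ, AlgHom.comp_apply, aeval_X]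
          split_ifs with h h' <;> simp_all
          omega
        refine SetLike.lt_iff_le_and_exists.mpr ⟨fun z hz => ?_, X (⟨i, by omega⟩ : Fin m), ?_, ?_⟩
        · rw [RingHom.mem_ker] at hz ⊢
          rw [← hcomp, AlgHom.comp_apply, hz, map_zero]
        · simp [φ, RingHom.mem_ker]
        · simp [φ, RingHom.mem_ker, X_ne_zero]
      haveI := hp i
      haveI := hp (i + 1)
      refine le_trans ?_ (Ideal.height_add_one_le_of_lt_of_isPrime hlt)
      push_cast
      exact add_le_add_left (ih (by omega)) 1
  refine (main m le_rfl).trans (Ideal.height_mono fun p hp => ?_)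
  rw [RingHom.mem_ker] at hp ⊢
  have : ((constantCoeff : MvPolynomial (Fin m) k →+* k).comp (φ m).toRingHom) = constantCoeff :=
    MvPolynomial.ringHom_ext (fun r => by simp [φ]) (fun t => by simp [φ, t.2])
  have h := RingHom.congr_fun this p
  rw [RingHom.comp_apply] at h
  rw [← h, show (φ m).toRingHom p = 0 from hp, map_zero]

/-- Let k be a field, S = k[x_0, …, x_n], and f_1, …, f_r with r ≤ n homogeneous polynomials of positive
degrees whose ideal J = (f_1, …, f_r) has height r — the subscheme of P^n_k cut out by the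
hypersurfaces f_i = 0 has codimension r, an ideal-theoretic complete intersection. Then J is
saturated with respect to the irrelevant ideal (x_0, …, x_n): an element g of S such that, for each
i, x_i^m g ∈ J for some m, already lies in J. Hence J is the full homogeneous ideal of that
subscheme (a global complete intersection). -/
theorem result (k : Type u) [Field k] (n r : ℕ)
    (hr : r ≤ n) (f : Fin r → MvPolynomial (Fin (n + 1)) k) (d : Fin r → ℕ)
    (hf : ∀ i, (f i).IsHomogeneous (d i)) (hd : ∀ i, 0 < d i)
    (hJ : (Ideal.span (Set.range f)).height = r) (g : MvPolynomial (Fin (n + 1)) k)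
    (hg : ∀ i : Fin (n + 1), ∃ m : ℕ, MvPolynomial.X i ^ m * g ∈ Ideal.span (Set.range f)) :
    g ∈ Ideal.span (Set.range f) := by
  classical
  set J := Ideal.span (Set.range f) with hJdef
  let M := RingHom.ker (constantCoeff (R := k) (σ := Fin (n + 1)))
  haveI hM : M.IsPrime := RingHom.ker_isPrime _
  have hfM : ∀ i, f i ∈ M := fun i => by
    rw [RingHom.mem_ker, constantCoeff_eq]
    exact (hf i).coeff_eq_zero (by simpa using (hd i).ne)
  let L := Localization.AtPrime M
  haveI : IsRegularLocalRing L := isRegularRing_iff.mp inferInstance M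
  have hCM := Depth.isCohenMacaulayModule_self (R := L)
    (h := Depth.isCohenMacaulayLocalRing_of_isRegularLocalRing)
  set a := algebraMap (MvPolynomial (Fin (n + 1)) k) L
  let xs : List L := List.ofFn fun i => a (f i)
  have hofList : Ideal.ofList xs = J.map a := by
    rw [hJdef, Ideal.map_span, Ideal.ofList]
    congr 1
    ext z
    simp [xs, List.mem_ofFn]
  have hxs : ∀ x ∈ xs, x ∈ IsLocalRing.maximalIdeal L := by
    intro x hx
    obtain ⟨i, rfl⟩ := List.mem_ofFn.mp hx
    rw [← Localization.AtPrime.map_eq_maximalIdeal]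
    exact Ideal.mem_map_of_mem _ (hfM i)
  have hdimL : (n + 1 : ℕ) ≤ ringKrullDim L := by
    rw [IsLocalization.AtPrime.ringKrullDim_eq_height M L]
    exact WithBot.coe_le_coe.mpr (le_height_ker_constantCoeff k (n + 1))
  let JL := Ideal.ofList xs
  have hJLm : JL ≤ IsLocalRing.maximalIdeal L := Ideal.span_le.mpr hxs
  haveI : Nontrivial (L ⧸ JL) :=
    Ideal.Quotient.nontrivial_iff.mpr fun h =>
      (IsLocalRing.maximalIdeal.isMaximal L).ne_top (top_le_iff.mp (h ▸ hJLm))
  haveI : IsLocalRing (L ⧸ JL) := IsLocalRing.of_surjective' _ Ideal.Quotient.mk_surjective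
  obtain ⟨e, he', -⟩ := RegLoc.exists_natCast_eq_ringKrullDim (L ⧸ JL)
  have he := he'.symm
  obtain ⟨D, hD', -⟩ := RegLoc.exists_natCast_eq_ringKrullDim L
  have hD := hD'.symm
  have h1 : D ≤ e + r := by
    have := ringKrullDim_le_ringKrullDim_quotient_add_card (R := L) xs.toFinset (fun x hx => by
      rw [IsLocalRing.ringJacobson_eq_maximalIdeal]
      exact hxs x (List.mem_toFinset.mp hx))
    rw [List.coe_toFinset] at this
    change ringKrullDim L ≤ ringKrullDim (L ⧸ JL) + _ at this
    rw [← he, ← hD] at this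
    have hc : xs.toFinset.card ≤ r := (List.toFinset_card_le _).trans_eq (by simp [xs])
    have h' : D ≤ e + xs.toFinset.card := by exact_mod_cast this
    omega
  have h2 : e + r ≤ D := by
    have := ringKrullDim_quotient_add_le JL r (fun q hq hle => by
      rw [← hJ, ← IsLocalization.height_under M.primeCompl q]
      exact Ideal.height_mono fun z hz => hle (by
        show a z ∈ Ideal.ofList xs
        rw [hofList]; exact Ideal.mem_map_of_mem a hz)) e he.le
    rw [← hD] at this
    exact_mod_cast this
  have he0 : 0 < e := by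
    rw [← hD] at hdimL
    have : n + 1 ≤ D := by exact_mod_cast hdimL
    omega
  -- the quotient is Cohen-Macaulay
  have hsupp : ∀ I : Ideal L, Module.supportDim L (L ⧸ (I • (⊤ : Submodule L L))) =
      ringKrullDim (L ⧸ I) := fun I => by
    rw [Module.supportDim_eq_of_equiv (Submodule.quotEquivOfEq _ I
      (by rw [smul_eq_mul, Ideal.mul_top]))]
    exact Module.supportDim_quotient_eq_ringKrullDim I
  have hreg : RingTheory.Sequence.IsWeaklyRegular L xs := by
    rw [(S5758.result L L hCM xs hxs).1, hsupp, Module.supportDim_self_eq_ringKrullDim]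
    change ringKrullDim (L ⧸ JL) + _ = _
    rw [← he, ← hD, show xs.length = r by simp [xs]]
    exact_mod_cast le_antisymm h2 h1
  have hCMq := Depth.isCohenMacaulayModule_congr (Submodule.quotEquivOfEq _ JL
    (by rw [smul_eq_mul, Ideal.mul_top])) |>.mp ((S5758.result L L hCM xs hxs).2 hreg)
  have hnass : IsLocalRing.maximalIdeal L ∉ associatedPrimes L (L ⧸ JL) := by
    intro h
    have h0 := Depth.ringKrullDim_quotient_associatedPrime hCMq h
    have hf0 : ringKrullDim (L ⧸ IsLocalRing.maximalIdeal L) = 0 :=
      ringKrullDim_eq_zero_of_isField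
        ((Ideal.Quotient.maximal_ideal_iff_isField_quotient _).mp inferInstance)
    rw [Module.supportDim_quotient_eq_ringKrullDim, ← he, hf0] at h0
    have : (0 : ℕ) = e := by exact_mod_cast h0
    omega
  -- `g` lies in `J L`
  have hgL : a g ∈ JL := by
    by_contra hgn
    apply hnass
    set y : L ⧸ JL := Ideal.Quotient.mk JL (a g)
    have hy : y ≠ 0 := fun h => hgn (Ideal.Quotient.eq_zero_iff_mem.mp h)
    obtain ⟨p, hp, hle⟩ := exists_le_isAssociatedPrime_of_isNoetherianRing L y hy
    have hpm : p = IsLocalRing.maximalIdeal L := by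
      refine le_antisymm (IsLocalRing.le_maximalIdeal hp.isPrime.ne_top) ?_
      rw [← Localization.AtPrime.map_eq_maximalIdeal, Ideal.map_le_iff_le_comap]
      intro z hz
      rw [show M = idealOfVars (Fin (n + 1)) k from ker_constantCoeff_eq k (n + 1)] at hz
      revert z
      show idealOfVars (Fin (n + 1)) k ≤ p.comap a
      refine Ideal.span_le.mpr ?_
      rintro _ ⟨i, rfl⟩
      obtain ⟨m, hm⟩ := hg i
      refine hp.isPrime.mem_of_pow_mem m (hle ?_)
      rw [Submodule.mem_colon_singleton, Submodule.mem_bot, ← map_pow]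
      show Ideal.Quotient.mk JL (a (X i ^ m)) * y = 0
      rw [← map_mul, ← map_mul, Ideal.Quotient.eq_zero_iff_mem]
      show _ ∈ Ideal.ofList xs
      rw [hofList]
      exact Ideal.mem_map_of_mem a hm
    rw [← hpm]
    exact hp
  change a g ∈ Ideal.ofList xs at hgL
  rw [hofList, IsLocalization.algebraMap_mem_map_algebraMap_iff M.primeCompl] at hgL
  obtain ⟨s, hs, hsg⟩ := hgL
  -- the colon ideal is the whole ring
  let C : Ideal (MvPolynomial (Fin (n + 1)) k) := J.colon {g}
  suffices h : C = ⊤ by
    simpa using Submodule.mem_colon_singleton.mp (h ▸ Submodule.mem_top : (1 : _) ∈ C)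
  by_contra hC
  obtain ⟨P, hP, hCP⟩ := Ideal.exists_le_maximal C hC
  have hMP : M ≤ P := by
    rw [show M = idealOfVars (Fin (n + 1)) k from ker_constantCoeff_eq k (n + 1)]
    refine Ideal.span_le.mpr ?_
    rintro _ ⟨i, rfl⟩
    obtain ⟨m, hm⟩ := hg i
    exact hP.isPrime.mem_of_pow_mem m (hCP (Submodule.mem_colon_singleton.mpr hm))
  have hsP : s ∈ P := hCP (Submodule.mem_colon_singleton.mpr hsg)
  have hMmax : M.IsMaximal :=
    RingHom.ker_isMaximal_of_surjective _ (fun c => ⟨MvPolynomial.C c, constantCoeff_C _ c⟩)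
  exact hs ((hMmax.eq_of_le hP.ne_top hMP).symm ▸ hsP)

end Groth.Agent.S10903
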