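import Groth.Statements.S3205
import Groth.Agent.ExtFilt.Sheaf
import Groth.Agent.KFlat.TensorLocFree
import Groth.Agent.ResK0.Basic

set_option autoImplicit false
universe u
open CategoryTheory CategoryTheory.Limits AlgebraicGeometry
attribute [local instance] HasDerivedCategory.standard
open SGA6

namespace Groth.Agent.S3205

section Helpers

open Groth.Agent.ExtFilt Groth.Agent.ExtFilt.Stalkwise Groth.Agent.ExtPowSt Groth.Agent.Omega.Stalks
  Groth.Agent.PullStalk.Exact Groth.Agent.KFlat.StalkTensor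

variable {X : Scheme.{u}}

theorem flf_of_isZero {M : X.Modules} (h : IsZero M) : FlatMod.IsFinLocFree M := fun x => by
  haveI : (Scheme.Modules.restrictFunctor (⊤ : X.Opens).ι).IsLeftAdjoint :=
    (Scheme.Modules.restrictAdjunction _).isLeftAdjoint
  have h0 : IsZero (FlatMod.freeMod ((⊤ : X.Opens) : Scheme.{u}) 0) :=
    (IsZero.iff_id_eq_zero _).2 (Sigma.hom_ext _ _ fun k => k.elim0)
  exact ⟨⊤, 0, trivial, ⟨((Scheme.Modules.restrictFunctor _).map_isZero h).iso h0⟩⟩

theorem clSub_eq_zero {P : ObjectProperty X.Modules} {M : X.Modules} (hM : P M) (h : IsZero M) :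
    KZero.clSub P M = 0 := by
  have hS : (ShortComplex.mk (𝟙 M) (𝟙 M) (h.eq_of_src _ _)).ShortExact :=
    { exact := ShortComplex.exact_of_isZero_X₂ _ h }
  exact left_eq_add.1 (ResK0.Basic.clSub_add P hS hM hM hM)

theorem clSub_congr {M N : X.Modules} (e : M ⟶ N) [IsIso e] (hN : FlatMod.IsFinLocFree N) :
    KZero.clSub (fun M : X.Modules => FlatMod.IsFinLocFree M) M =
      KZero.clSub (fun M : X.Modules => FlatMod.IsFinLocFree M) N := by
  have hM : FlatMod.IsFinLocFree M := KFlat.LocFree.isFinLocFree_of_iso (asIso e).symm hN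
  obtain ⟨Z, hZ⟩ : ∃ Z : X.Modules, IsZero Z := HasZeroObject.zero
  have hS : (ShortComplex.mk e (0 : N ⟶ Z) comp_zero).ShortExact :=
    { exact := (ShortComplex.exact_iff_epi _ rfl).2 inferInstance
      epi_g := ⟨fun a b _ => hZ.eq_of_src a b⟩ }
  have := ResK0.Basic.clSub_add (fun M : X.Modules => FlatMod.IsFinLocFree M) hS hM hN (flf_of_isZero hZ)
  rw [clSub_eq_zero (flf_of_isZero hZ) hZ, add_zero] at this
  exact this.symm

end Helpers

/-- Let X be a scheme and 0 → E' → E → E'' → 0 a short exact sequence of finite locally free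
O_X-modules. Let L'_i, L_n, L''_j be finite locally free exterior powers of E', E, E'' (in the sense
of the affine-local predicate ExtPow.IsExtPow). Then in K₀ of finite locally free modules, [L_n] =
Σ_{i=0}^{n} [L'_i ⊗ L''_{n-i}] for every n. (The source constructs a filtration of Λⁿ E with
successive quotients Λ^i E' ⊗ Λ^{n-i} E''; the equality of classes is its consequence in K₀.) -/
theorem result (X : Scheme.{u}) (S : ShortComplex X.Modules) (hS : S.ShortExact)
    (h₁ : FlatMod.IsFinLocFree S.X₁) (h₂ : FlatMod.IsFinLocFree S.X₂) (h₃ : FlatMod.IsFinLocFree S.X₃)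
    (L' L L'' : ℕ → X.Modules)
    (hL' : ∀ i, FlatMod.IsFinLocFree (L' i) ∧ ExtPow.IsExtPow i S.X₁ (L' i))
    (hL : ∀ i, FlatMod.IsFinLocFree (L i) ∧ ExtPow.IsExtPow i S.X₂ (L i))
    (hL'' : ∀ i, FlatMod.IsFinLocFree (L'' i) ∧ ExtPow.IsExtPow i S.X₃ (L'' i)) (n : ℕ) :
    KZero.clSub (fun M : X.Modules => FlatMod.IsFinLocFree M) (L n) =
      ∑ i ∈ Finset.range (n + 1), KZero.clSub (fun M : X.Modules => FlatMod.IsFinLocFree M) (((DCoh.tensorBi (X := X)).obj (L' i)).obj (L'' (n - i))) := by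
  classical
  haveI := PerfTri.Betti.isQuasicoherent_of_isFinLocFree h₁
  haveI := PerfTri.Betti.isQuasicoherent_of_isFinLocFree h₂
  haveI := PerfTri.Betti.isQuasicoherent_of_isFinLocFree h₃
  let Φ : ExtPowSt.Sys n S.X₂ (L n) := ⟨(hL n).2.choose, (hL n).2.choose_spec⟩
  let cl := KZero.clSub (fun M : X.Modules => FlatMod.IsFinLocFree M)
  let T : ℕ → X.Modules := fun i => KFlat.StalkTensor.tensM (L' i) (L'' (n - i))
  have hT : ∀ i, FlatMod.IsFinLocFree (T i) := fun i =>
    KFlat.TensorLocFree.isFinLocFree_tensM (hL' i).1 (hL'' (n - i)).1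
  have hproj : ∀ x, Module.Projective (X.presheaf.stalk x) (S.X₃.presheaf.stalk x) := fun x =>
    haveI := (Props.QProj.free_stalk _ h₃ x).1
    inferInstance
  have hex := fun x => PullStalk.Exact.stalk_exact hS x
  have main : ∀ i, i ≤ n + 1 → FlatMod.IsFinLocFree (ExtFilt.Sheaf.Q Φ S.f i) ∧
      cl (ExtFilt.Sheaf.Q Φ S.f i) = ∑ k ∈ Finset.range i, cl (T k) := by
    intro i
    induction i with
    | zero =>
      intro _
      have h0 : IsZero (ExtFilt.Sheaf.Q Φ S.f 0) :=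
        (IsZero.iff_id_eq_zero _).2 (Omega.Stalks.hom_ext_stalk fun x => LinearMap.ext fun t => by
          rw [ExtFilt.Sheaf.Q_zero_eq_zero Φ S.f x t, map_zero, map_zero])
      exact ⟨flf_of_isZero h0, by rw [Finset.sum_range_zero]; exact clSub_eq_zero (flf_of_isZero h0) h0⟩
    | succ i ih =>
      intro hi
      obtain ⟨hQ, hcl⟩ := ih (by omega)
      have gen : ∀ m i j (_ : m = i + j) (Φ : ExtPowSt.Sys m S.X₂ (L n)),
          ∃ S' : ShortComplex X.Modules, S'.ShortExact ∧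
            S'.X₁ = KFlat.StalkTensor.tensM (L' i) (L'' j) ∧
            S'.X₂ = ExtFilt.Sheaf.Q Φ S.f (i + 1) ∧ S'.X₃ = ExtFilt.Sheaf.Q Φ S.f i := by
        rintro _ i j rfl Φ
        exact ExtFilt.Sheaf.exists_shortExact (g := S.g) ⟨(hL' i).2.choose, (hL' i).2.choose_spec⟩ Φ
          ⟨(hL'' j).2.choose, (hL'' j).2.choose_spec⟩ (fun x => (hex x).1) (fun x => (hex x).2.2)
          (fun x => (hex x).2.1) hproj
      obtain ⟨S', hS', e₁, e₂, e₃⟩ := gen n i (n - i) (by omega) Φ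
      have h1 : FlatMod.IsFinLocFree S'.X₁ := e₁ ▸ hT i
      have h3 : FlatMod.IsFinLocFree S'.X₃ := e₃ ▸ hQ
      have h2 := ExtFilt.Stalkwise.isFinLocFree_X₂ hS' h1 h3
      refine ⟨e₂ ▸ h2, ?_⟩
      rw [← e₂, Finset.sum_range_succ, ← hcl, ← e₃, add_comm]
      refine (ResK0.Basic.clSub_add _ hS' h1 h2 h3).trans ?_
      rw [e₁]
  obtain ⟨hQ, hcl⟩ := main (n + 1) le_rfl
  haveI := ExtFilt.Sheaf.isIso_π_last Φ S.f
  exact (clSub_congr (ExtFilt.Stalkwise.quotπ (ExtFilt.Sheaf.St Φ S.f (n + 1))) hQ).trans hcl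

end Groth.Agent.S3205
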