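import Groth.Statements.S3203
import Groth.Agent.S3205
import Groth.Agent.KFlat.StalkFlat
import Groth.Agent.KFlat.FlatQuot
import Groth.Agent.KFlat.Assoc
import Mathlib.RingTheory.PowerSeries.Inverse

set_option autoImplicit false
universe u
open CategoryTheory CategoryTheory.Limits AlgebraicGeometry
attribute [local instance] HasDerivedCategory.standard
open SGA6

namespace Groth.Agent.S3203

section Helpers

open Groth.Agent.ExtFilt Groth.Agent.ExtFilt.Stalkwise Groth.Agent.ExtPowSt Groth.Agent.Omega.Stalks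
  Groth.Agent.PullStalk.Exact Groth.Agent.PullStalk.Sky Groth.Agent.KFlat.StalkTensor Opposite

noncomputable section

variable {X : Scheme.{u}}

local notation "FLF" => (fun M : AlgebraicGeometry.Scheme.Modules _ => FlatMod.IsFinLocFree M)

/-- The class of a module. -/
abbrev cl (E : X.Modules) : SGA6.Kvb X := KZero.clSub (fun M : X.Modules => FlatMod.IsFinLocFree M) E

theorem cl_congr {M N : X.Modules} (e : M ≅ N) (hN : FlatMod.IsFinLocFree N) : cl M = cl N :=
  S3205.clSub_congr e.hom hN

/-- An additive function on finite locally free modules descends to `K₀`. -/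
theorem exists_desc {G : Type*} [AddCommGroup G] (v : ∀ E : X.Modules, FlatMod.IsFinLocFree E → G)
    (hv : ∀ (S : ShortComplex X.Modules) (h₁ : FlatMod.IsFinLocFree S.X₁) (h₂ : FlatMod.IsFinLocFree S.X₂)
      (h₃ : FlatMod.IsFinLocFree S.X₃), S.ShortExact → v S.X₂ h₂ = v S.X₁ h₁ + v S.X₃ h₃) :
    ∃ F : SGA6.Kvb X →+ G, ∀ E (hE : FlatMod.IsFinLocFree E), F (cl E) = v E hE := by
  refine ⟨QuotientAddGroup.lift _ (FreeAbelianGroup.lift fun E => v E.1 E.2) ?_, fun E hE => ?_⟩
  · refine (AddSubgroup.closure_le _).2 ?_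
    rintro _ ⟨S, h₁, h₂, h₃, hS, rfl⟩
    rw [SetLike.mem_coe, AddMonoidHom.mem_ker, map_sub, map_sub, FreeAbelianGroup.lift_apply_of,
      FreeAbelianGroup.lift_apply_of, FreeAbelianGroup.lift_apply_of, hv S h₁ h₂ h₃ hS]
    abel
  · rw [cl, KZero.clSub, dif_pos hE]
    exact FreeAbelianGroup.lift_apply_of _ _

/-- Classes generate. -/
theorem kvb_ext {G : Type*} [AddCommGroup G] {F F' : SGA6.Kvb X →+ G}
    (h : ∀ E : X.Modules, FlatMod.IsFinLocFree E → F (cl E) = F' (cl E)) : F = F' := by
  refine QuotientAddGroup.addMonoidHom_ext _ (FreeAbelianGroup.lift_ext _ _ fun E => ?_)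
  have := h E.1 E.2
  rw [cl, KZero.clSub, dif_pos E.2] at this
  exact this

theorem flf_structure : FlatMod.IsFinLocFree (Coh.structureModule X) := fun _ =>
  ⟨⊤, 1, trivial, ⟨Scheme.Modules.restrictUnitIso _ ≪≫
    (coproductUniqueIso fun _ : Fin 1 => Coh.structureModule ((⊤ : X.Opens) : Scheme.{u})).symm⟩⟩

theorem flat_of_flf {M : X.Modules} (h : FlatMod.IsFinLocFree M) :
    KFlat.TensorMono (O := X.sheaf) M := by
  haveI := PerfTri.Betti.isQuasicoherent_of_isFinLocFree h
  refine KFlat.StalkTensor.tensorMono_of_flat fun x => ?_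
  haveI := (Props.QProj.free_stalk _ h x).1
  exact inferInstanceAs (Module.Flat (X.presheaf.stalk x) (M.presheaf.stalk x))

theorem exists_mul (X : Scheme.{u}) : ∃ mul : SGA6.Kvb X →+ SGA6.Kvb X →+ SGA6.Kvb X,
    ∀ E F : X.Modules, FlatMod.IsFinLocFree E → FlatMod.IsFinLocFree F →
      mul (cl E) (cl F) = cl (tensM E F) := by
  have key : ∀ E : X.Modules, FlatMod.IsFinLocFree E → ∃ t : SGA6.Kvb X →+ SGA6.Kvb X,
      ∀ F, FlatMod.IsFinLocFree F → t (cl F) = cl (tensM E F) := fun E hE => by
    obtain ⟨t, ht⟩ := exists_desc (fun F _ => cl (tensM E F)) fun S h₁ h₂ h₃ hS =>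
      ResK0.Basic.clSub_add _ (KFlat.shortExact_tensorBi_map hS (flat_of_flf h₃) E)
        (KFlat.TensorLocFree.isFinLocFree_tensM hE h₁) (KFlat.TensorLocFree.isFinLocFree_tensM hE h₂)
        (KFlat.TensorLocFree.isFinLocFree_tensM hE h₃)
    exact ⟨t, ht⟩
  choose t ht using key
  obtain ⟨mul, hmul⟩ := exists_desc t fun S h₁ h₂ h₃ hS => kvb_ext fun F hF => by
    let comm : ∀ E : X.Modules, tensM E F ≅ tensM F E := fun E =>
      (((KFlat.tensorBiFlipIso X.sheaf).app F).app E : _)
    rw [AddMonoidHom.add_apply, ht _ _ _ hF, ht _ _ _ hF, ht _ _ _ hF,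
      cl_congr (comm _) (KFlat.TensorLocFree.isFinLocFree_tensM hF h₁),
      cl_congr (comm _) (KFlat.TensorLocFree.isFinLocFree_tensM hF h₂),
      cl_congr (comm _) (KFlat.TensorLocFree.isFinLocFree_tensM hF h₃)]
    exact ResK0.Basic.clSub_add _ (KFlat.shortExact_tensorBi_map hS (flat_of_flf h₃) F)
      (KFlat.TensorLocFree.isFinLocFree_tensM hF h₁) (KFlat.TensorLocFree.isFinLocFree_tensM hF h₂)
      (KFlat.TensorLocFree.isFinLocFree_tensM hF h₃)
  exact ⟨mul, fun E F hE hF => by rw [hmul E hE, ht E hE F hF]⟩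

/-- Exterior powers are unique up to isomorphism. -/
theorem extPow_iso {i : ℕ} {E L L' : X.Modules} [E.IsQuasicoherent] (h : ExtPow.IsExtPow i E L)
    (h' : ExtPow.IsExtPow i E L') : Nonempty (L ≅ L') := by
  let Φ : Sys i E L := ⟨h.choose, h.choose_spec⟩
  let Φ' : Sys i E L' := ⟨h'.choose, h'.choose_spec⟩
  let φ := fun x => ((stalkEquiv Φ x).trans (stalkEquiv Φ' x).symm).toLinearMap
  have hloc : ∀ x t, Loc φ x t := by
    intro x t
    rw [← (stalkEquiv Φ x).symm_apply_apply t]
    generalize stalkEquiv Φ x t = z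
    have hz : z ∈ Submodule.span (X.presheaf.stalk x)
        (Set.range (exteriorPower.ιMulti (X.presheaf.stalk x) i (M := E.presheaf.stalk x))) := by
      rw [exteriorPower.ιMulti_span]; trivial
    induction hz using Submodule.span_induction with
    | mem z hz =>
      obtain ⟨v, rfl⟩ := hz
      obtain ⟨U, hx, -, s, hs⟩ := ExtFilt.Sheaf.exists_lifts E x v ⊤ trivial
      refine ⟨U.1, hx, ExtFilt.Sheaf.wsec Φ U s, ExtFilt.Sheaf.wsec Φ' U s,
        (stalkEquiv Φ x).injective ?_, fun y hy => ?_⟩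
      · rw [ExtFilt.Sheaf.equiv_wedge, LinearEquiv.apply_symm_apply]
        exact congrArg _ (funext hs)
      · refine (stalkEquiv Φ' y).injective ?_
        simp only [φ, LinearEquiv.coe_coe, LinearEquiv.trans_apply, LinearEquiv.apply_symm_apply]
        rw [ExtFilt.Sheaf.equiv_wedge, ExtFilt.Sheaf.equiv_wedge]
    | zero => rw [map_zero]; exact loc_zero x
    | add p q _ _ hp hq => rw [map_add]; exact loc_add hp hq
    | smul c p _ hp => rw [LinearEquiv.map_smul]; exact loc_smul c hp
  obtain ⟨f, hf⟩ := exists_hom hloc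
  haveI := isIso_of_stalk (φ := f) fun x => by
    rw [show stalkLin f x = φ x from LinearMap.ext (hf x)]
    exact ((stalkEquiv Φ x).trans (stalkEquiv Φ' x).symm).bijective
  exact ⟨asIso f⟩

theorem isExtPow_one (E : X.Modules) : ExtPow.IsExtPow 1 E E :=
  ⟨fun U => (exteriorPower.oneEquiv Γ(X, U.1) (E.val.obj (op U.1))).symm, fun U V h e => by
    change E.val.map (homOfLE h).op (exteriorPower.oneEquiv Γ(X, U.1) (E.val.obj (op U.1)) (exteriorPower.ιMulti Γ(X, U.1) 1 e)) = _
    rw [exteriorPower.oneEquiv_ιMulti]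
    exact (exteriorPower.oneEquiv_ιMulti (R := Γ(X, V.1)) (M := E.val.obj (op V.1))
      fun j => E.val.map (homOfLE h).op (e j)).symm⟩

theorem isExtPow_zero (E : X.Modules) : ExtPow.IsExtPow 0 E (Coh.structureModule X) :=
  ⟨fun U => (exteriorPower.zeroEquiv Γ(X, U.1) (E.val.obj (op U.1))).symm, fun U V h e => by
    change X.presheaf.map (homOfLE h).op (exteriorPower.zeroEquiv Γ(X, U.1) (E.val.obj (op U.1)) (exteriorPower.ιMulti Γ(X, U.1) 0 e)) = _
    rw [exteriorPower.zeroEquiv_ιMulti]
    exact (map_one (X.presheaf.map (homOfLE h).op).hom).trans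
      (exteriorPower.zeroEquiv_ιMulti (R := Γ(X, V.1)) (M := E.val.obj (op V.1))
        fun j => E.val.map (homOfLE h).op (e j)).symm⟩

end

end Helpers

/-- Let X be a scheme such that every finite locally free O_X-module has finite locally free exterior
powers (hypothesis hext, phrased with the affine-local predicate ExtPow.IsExtPow). Then K₀ of finite
locally free O_X-modules carries a biadditive, commutative, associative multiplication with unit
[O_X] such that [E]·[F] = [E ⊗ F], and operations λ^i with λ^i[E] = [Λ^i E], λ⁰ = [O_X], λ¹ = id and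
λ^k(x + y) = Σ_{i+j=k} λ^i(x)·λ^j(y): it is a pre-λ-ring. (Such a structure is unique since the
classes of finite locally free modules generate. The identities of a special λ-ring are not
asserted.) -/
theorem result (X : Scheme.{u})
    (hext : ∀ (i : ℕ) (E : X.Modules), FlatMod.IsFinLocFree E → ∃ L : X.Modules, FlatMod.IsFinLocFree L ∧ ExtPow.IsExtPow i E L) :
    ∃ (mul : SGA6.Kvb X →+ SGA6.Kvb X →+ SGA6.Kvb X) (lam : ℕ → SGA6.Kvb X → SGA6.Kvb X), SGA6.IsLambdaStructureVb X mul lam := by
  classical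
  obtain ⟨mul, hmul⟩ := exists_mul X
  have hmulT := hmul
  have hcomm : ∀ x y, mul x y = mul y x := by
    have : mul = mul.flip := kvb_ext fun E hE => kvb_ext fun F hF => by
      rw [AddMonoidHom.flip_apply, hmul E F hE hF, hmul F E hF hE]
      exact cl_congr (((KFlat.tensorBiFlipIso X.sheaf).app F).app E : _)
        (KFlat.TensorLocFree.isFinLocFree_tensM hF hE)
    exact fun x y => DFunLike.congr_fun (DFunLike.congr_fun this x) y
  have hassoc : ∀ x y z, mul (mul x y) z = mul x (mul y z) := by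
    intro x y z
    have h : ∀ E, FlatMod.IsFinLocFree E → ∀ F, FlatMod.IsFinLocFree F →
        mul (mul (cl E) (cl F)) = (mul (cl E)).comp (mul (cl F)) := fun E hE F hF =>
      kvb_ext fun G hG => by
        rw [AddMonoidHom.comp_apply, hmul E F hE hF, hmul F G hF hG,
          hmul _ G (KFlat.TensorLocFree.isFinLocFree_tensM hE hF) hG,
          hmul E _ hE (KFlat.TensorLocFree.isFinLocFree_tensM hF hG)]
        exact cl_congr (KFlat.assocApp X.sheaf E F G)
          (KFlat.TensorLocFree.isFinLocFree_tensM hE (KFlat.TensorLocFree.isFinLocFree_tensM hF hG))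
    have h1 : ∀ E, FlatMod.IsFinLocFree E → mul (mul (cl E) y) z = mul (cl E) (mul y z) := fun E hE =>
      DFunLike.congr_fun (kvb_ext (F := (mul.flip z).comp (mul (cl E)))
        (F' := (mul (cl E)).comp (mul.flip z)) fun F hF => DFunLike.congr_fun (h E hE F hF) z) y
    exact DFunLike.congr_fun (kvb_ext (F := (mul.flip z).comp (mul.flip y))
      (F' := mul.flip (mul y z)) fun E hE => h1 E hE) x
  have hone : ∀ x, mul (cl (Coh.structureModule X)) x = x := fun x =>
    DFunLike.congr_fun (kvb_ext (F := mul (cl (Coh.structureModule X))) (F' := AddMonoidHom.id _)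
      fun E hE => (hmul _ E flf_structure hE).trans
        (cl_congr (KFlat.TensorLocFree.unitTensorIso E) hE)) x
  letI : CommRing (SGA6.Kvb X) :=
    { (inferInstance : AddCommGroup (SGA6.Kvb X)) with
      mul := fun a b => mul a b
      one := cl (Coh.structureModule X)
      mul_assoc := hassoc
      mul_comm := hcomm
      one_mul := hone
      mul_one := fun a => (hcomm a _).trans (hone a)
      left_distrib := fun a b c => map_add (mul a) b c
      right_distrib := fun a b c => DFunLike.congr_fun (map_add mul a b) c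
      zero_mul := fun a => DFunLike.congr_fun (map_zero mul) a
      mul_zero := fun a => map_zero (mul a) }
  have hext' := fun (i : ℕ) (E : X.Modules) (hE : FlatMod.IsFinLocFree E) => hext i E hE
  choose Lc hLc hLc' using hext'
  have hwd : ∀ (i : ℕ) (E L : X.Modules) (hE : FlatMod.IsFinLocFree E),
      ExtPow.IsExtPow i E L → cl L = cl (Lc i E hE) := fun i E L hE hL => by
    haveI := PerfTri.Betti.isQuasicoherent_of_isFinLocFree hE
    exact cl_congr (extPow_iso hL (hLc' i E hE)).some (hLc i E hE)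
  let ser : ∀ E : X.Modules, FlatMod.IsFinLocFree E → PowerSeries (SGA6.Kvb X) := fun E hE =>
    PowerSeries.mk fun i => cl (Lc i E hE)
  have hunit : ∀ E hE, IsUnit (ser E hE) := fun E hE => by
    rw [PowerSeries.isUnit_iff_constantCoeff, ← PowerSeries.coeff_zero_eq_constantCoeff_apply,
      PowerSeries.coeff_mk, ← hwd 0 E _ hE (isExtPow_zero E)]
    exact isUnit_one
  obtain ⟨H, hH⟩ := exists_desc (X := X) (G := Additive (PowerSeries (SGA6.Kvb X))ˣ)
    (fun E hE => Additive.ofMul (hunit E hE).unit) fun S h₁ h₂ h₃ hS => by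
      apply Additive.toMul.injective
      refine Units.ext ?_
      change ser S.X₂ h₂ = ser S.X₁ h₁ * ser S.X₃ h₃
      ext n
      rw [PowerSeries.coeff_mul, Finset.Nat.sum_antidiagonal_eq_sum_range_succ_mk, PowerSeries.coeff_mk]
      refine (S3205.result X S hS h₁ h₂ h₃ (fun i => Lc i S.X₁ h₁) (fun i => Lc i S.X₂ h₂)
        (fun i => Lc i S.X₃ h₃) (fun i => ⟨hLc i _ h₁, hLc' i _ h₁⟩) (fun i => ⟨hLc i _ h₂, hLc' i _ h₂⟩)
        (fun i => ⟨hLc i _ h₃, hLc' i _ h₃⟩) n).trans (Finset.sum_congr rfl fun k _ => ?_)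
      rw [PowerSeries.coeff_mk, PowerSeries.coeff_mk]
      exact (hmul _ _ (hLc k _ h₁) (hLc (n - k) _ h₃)).symm
  let lam : ℕ → SGA6.Kvb X → SGA6.Kvb X := fun i x =>
    PowerSeries.coeff i ((Additive.toMul (H x) : (PowerSeries (SGA6.Kvb X))ˣ) : PowerSeries (SGA6.Kvb X))
  have hlam : ∀ i E (hE : FlatMod.IsFinLocFree E), lam i (cl E) = cl (Lc i E hE) := fun i E hE => by
    simp only [lam, hH E hE, toMul_ofMul, IsUnit.unit_spec, ser, PowerSeries.coeff_mk]
  have hsum : ∀ k x y, lam k (x + y) = ∑ i ∈ Finset.range (k + 1), lam i x * lam (k - i) y := fun k x y => by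
    simp only [lam, map_add, toMul_add, Units.val_mul]
    rw [PowerSeries.coeff_mul, Finset.Nat.sum_antidiagonal_eq_sum_range_succ_mk]
  let c₀ : SGA6.Kvb X →+ Additive (SGA6.Kvb X)ˣ :=
    (Units.map (PowerSeries.constantCoeff (R := SGA6.Kvb X)).toMonoidHom).toAdditive.comp H
  have hc₀ : c₀ = 0 := kvb_ext fun E hE => Additive.toMul.injective (Units.ext (by
    change PowerSeries.constantCoeff (R := SGA6.Kvb X)
      (((Additive.toMul (H (cl E))) : (PowerSeries (SGA6.Kvb X))ˣ) : PowerSeries (SGA6.Kvb X)) = (1 : SGA6.Kvb X)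
    rw [← PowerSeries.coeff_zero_eq_constantCoeff_apply]
    exact (hlam 0 E hE).trans (hwd 0 E _ hE (isExtPow_zero E)).symm))
  have h0 : ∀ x, lam 0 x = 1 := fun x => by
    simp only [lam, PowerSeries.coeff_zero_eq_constantCoeff_apply]
    exact congrArg (fun u : Additive (SGA6.Kvb X)ˣ => (u.toMul : (SGA6.Kvb X))) (DFunLike.congr_fun hc₀ x)
  have hadd : ∀ x y, lam 1 (x + y) = lam 1 x + lam 1 y := fun x y => by
    rw [hsum, Finset.sum_range_succ, Finset.sum_range_one, Nat.sub_zero, Nat.sub_self, h0, h0, one_mul, mul_one,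
      add_comm]
  have h1 : ∀ x, lam 1 x = x := fun x =>
    DFunLike.congr_fun (kvb_ext (F := AddMonoidHom.mk' (lam 1) hadd) (F' := AddMonoidHom.id _)
      fun E hE => (hlam 1 E hE).trans (hwd 1 E _ hE (isExtPow_one E)).symm) x
  exact ⟨mul, lam, hcomm, hassoc, hone, hmulT,
    fun i E L hE hL => (hlam i E hE).trans (hwd i E L hE hL).symm, h0, h1, hsum⟩

end Groth.Agent.S3203
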