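import Groth.Statements.S1688
import Groth.Agent.Props.QProj
import Groth.Agent.QCoh.FiniteType
import Groth.Agent.FDesc.QuasiFlat
import Groth.Agent.RegLoc.Basic
import Mathlib.AlgebraicGeometry.Properties
import Mathlib.LinearAlgebra.FreeModule.PID
import Mathlib.RingTheory.DiscreteValuationRing.TFAE
-- import your own Groth.Agent.* helpers here

set_option autoImplicit false
universe u
open CategoryTheory CategoryTheory.Limits AlgebraicGeometry TopologicalSpace
open SDiv

namespace Groth.Agent.S1688

set_option linter.style.haveILetI false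

theorem krullDimLE_stalk {X : Scheme.{u}} {n : ℕ} (h : topologicalKrullDim ↥X ≤ n) (x : X) :
    Ring.KrullDimLE n (X.presheaf.stalk x) := by
  rw [Ring.krullDimLE_iff, ringKrullDim_stalk_eq_coheight]
  refine le_trans ?_ h
  rw [show topologicalKrullDim ↥X = Order.krullDim ↥X from
    Order.krullDim_eq_of_orderIso irreducibleSetEquivPoints]
  exact Order.coheight_le_krullDim x

/-- For a coherent module on a locally Noetherian scheme, finite locally free means free stalks. -/
theorem finLocFree_iff {X : Scheme.{u}} [IsLocallyNoetherian X] (F : X.Modules) (hF : Coh.IsCoh F) :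
    FlatMod.IsFinLocFree F ↔ ∀ x : X, Module.Free (X.presheaf.stalk x) (F.presheaf.stalk x) := by
  haveI := hF.1
  refine ⟨fun h x => (Groth.Agent.Props.QProj.free_stalk F h x).1, fun h => ?_⟩
  refine Groth.Agent.Props.QProj.isFinLocFree_of F (fun x => ?_) h
  obtain ⟨U, hU, hx, -⟩ := exists_isAffineOpen_mem_and_subset (X := X) (TopologicalSpace.Opens.mem_top x)
  haveI : IsNoetherianRing Γ(X, U) := IsLocallyNoetherian.component_noetherian ⟨U, hU⟩
  haveI := hF.2
  haveI := Groth.Agent.QCoh.finite_sections_of_isFiniteType F hU
  exact ⟨U, hU, hx, Module.finitePresentation_of_finite _ _⟩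

theorem isPrincipalIdealRing_of_regular (R : Type*) [CommRing R] [IsRegularLocalRing R]
    [Ring.KrullDimLE 1 R] : IsPrincipalIdealRing R := by
  haveI := Groth.Agent.RegLoc.isDomain R
  have h : (IsLocalRing.maximalIdeal R).IsPrincipal := by
    refine (IsLocalRing.finrank_cotangentSpace_le_one_iff (R := R)).mp ?_
    have h1 : ringKrullDim R ≤ 1 := Ring.krullDimLE_iff.mp inferInstance
    rw [← (IsRegularLocalRing.iff_finrank_cotangentSpace R).mp inferInstance] at h1
    exact_mod_cast h1
  exact ((tfae_of_isNoetherianRing_of_isLocalRing_of_isDomain R).out 4 0).mp h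

/-- Let X be a locally Noetherian integral scheme of dimension at most 1 all of whose local rings are
regular, and F a coherent module on X. Then F is torsion free (every stalk is a torsion-free module
over the local ring) if and only if F is finite locally free. -/
theorem result (X : Scheme.{u}) [IsIntegral X] [IsLocallyNoetherian X] (hreg : ∀ x : ↥X, IsRegularLocalRing (X.presheaf.stalk x))
    (hdim : topologicalKrullDim ↥X ≤ 1) (F : X.Modules) (hF : Coh.IsCoh F) :
    (∀ x : ↥X, NoZeroSMulDivisors (X.presheaf.stalk x) (F.presheaf.stalk x)) ↔ FlatMod.IsFinLocFree F := by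
  rw [finLocFree_iff F hF]
  refine forall_congr' fun x => ?_
  haveI := hreg x
  haveI : Ring.KrullDimLE 1 (X.presheaf.stalk x) := krullDimLE_stalk (n := 1) hdim x
  haveI := isPrincipalIdealRing_of_regular (X.presheaf.stalk x)
  haveI := Groth.Agent.FDesc.QuasiFlat.finite_stalk_of_isCoh F hF x
  refine ⟨fun h => ?_, fun h => ⟨fun {c v} hcv => smul_eq_zero.mp hcv⟩⟩
  haveI := h
  exact Module.free_of_finite_type_torsion_free'

end Groth.Agent.S1688
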