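import Groth.Statements.S10829
import Groth.Agent.ProjDim.Points
import Groth.Agent.TopDimLib.Basic
-- import your own Groth.Agent.* helpers here

set_option autoImplicit false
universe u
open AlgebraicGeometry
open Variety

namespace Groth.Agent.S10829


/-- For a field k and a natural number n, projective n-space over k (Proj of the polynomial ring in n +
1 variables graded by degree) has Krull dimension n as a topological space. (The published statement
also gives affine n-space dimension n; that half is the Krull dimension of a polynomial ring and is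
not restated here.) -/
theorem result (k : Type u) [Field k] (n : ℕ) :
    topologicalKrullDim ↥(CohB1.ProjSpace n k) = (n : WithBot ℕ∞) := by
  open Groth.Agent.ProjDim in
  have hd : dimQ (⊥ : Ideal (MvPolynomial (Fin (n + 1)) k)) = n + 1 := by
    have h := dimQ_spec (⊥ : Ideal (MvPolynomial (Fin (n + 1)) k))
    rw [ringKrullDim_eq_of_ringEquiv (RingEquiv.quotientBot _),
      MvPolynomial.ringKrullDim_of_isNoetherianRing, ringKrullDim_eq_zero_of_field] at h
    simp at h
    exact_mod_cast h.symm
  obtain ⟨x, hx⟩ := Groth.Agent.ProjDim.exists_pt_of_dim (k := k) (n := n) ⊥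
    (Ideal.IsHomogeneous.bot _) (by omega)
  have hu : closure {x} = Set.univ := Set.eq_univ_of_forall fun y ↦
    (Groth.Agent.ProjDim.mem_closure_iff x y).mpr (hx ▸ bot_le)
  have h := Groth.Agent.ProjDim.topDim_closure_singleton_add_one x
  rw [Groth.Agent.ProjDim.dimQ_eq_of_eq hx, hd, hu,
    IsHomeomorph.topologicalKrullDim_eq _ (Homeomorph.Set.univ _).isHomeomorph] at h
  obtain ⟨c, hc⟩ : ∃ c : ℕ∞, topologicalKrullDim ↥(CohB1.ProjSpace n k) = (c : WithBot ℕ∞) := by
    have : Nonempty ↥(CohB1.ProjSpace n k) := ⟨x⟩
    exact ⟨_, (WithBot.coe_unbot _ (fun hb ↦ by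
      have := TopDimLib.topDim_nonneg_of_nonempty (X := ↥(CohB1.ProjSpace n k))
      rw [hb] at this
      exact absurd this (by simp))).symm⟩
  have h' : (c : WithBot ℕ∞) + 1 = ((n + 1 : ℕ) : WithBot ℕ∞) := hc ▸ h
  rw [hc]
  have h2 : c + 1 = ((n + 1 : ℕ) : ℕ∞) := by exact_mod_cast h'
  have h3 : c = n := by
    induction c using ENat.recTopCoe with
    | top => exact absurd h2.symm (by exact_mod_cast ENat.natCast_ne_top (n + 1))
    | coe m => norm_cast at h2 ⊢; omega
  rw [h3]
  rfl

end Groth.Agent.S10829
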