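import Groth.Statements.S4643
import Groth.Agent.FBase.Dim
-- import your own Groth.Agent.* helpers here

set_option autoImplicit false
open CategoryTheory AlgebraicGeometry
universe u
open FBase

namespace Groth.Agent.S4643

open CategoryTheory.Limits TopologicalSpace
open Groth.Agent.FBase.BC Groth.Agent.FBase.Topo Groth.Agent.FBase.IrredComp Groth.Agent.FBase.Dim

/-- Components of products have the sum of the dimensions of the components below. -/
lemma topDim_component_prod {k : Type u} [Field k] {X Y : Scheme.{u}}
    (f : X ⟶ Spec (CommRingCat.of k)) (g : Y ⟶ Spec (CommRingCat.of k)) [LocallyOfFiniteType f]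
    [LocallyOfFiniteType g] {W : Set ↥(pullback f g)}
    (hW : W ∈ irreducibleComponents ↥(pullback f g)) {w : ↥(pullback f g)}
    (hw : IsGenericPoint w W) :
    closure {pullback.fst f g w} ∈ irreducibleComponents ↥X ∧
      closure {pullback.snd f g w} ∈ irreducibleComponents ↥Y ∧
        topologicalKrullDim W = topologicalKrullDim (closure {pullback.fst f g w} : Set X) +
          topologicalKrullDim (closure {pullback.snd f g w} : Set Y) := by
  have hmax := fun v ↦ specializes_of_isGenericPoint_component (y := v) hW hw
  have h1 := closure_singleton_mem_irreducibleComponents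
    (fun z hz ↦ generization_maximal_map (pullback.fst f g) hmax (z := z) hz)
  have h2 := closure_singleton_mem_irreducibleComponents
    (fun z hz ↦ generization_maximal_map (pullback.snd f g) hmax (z := z) hz)
  refine ⟨h1, h2, ?_⟩
  let IX := Scheme.IdealSheafData.vanishingIdeal
    (⟨closure {pullback.fst f g w}, isClosed_closure⟩ : Closeds X)
  let IY := Scheme.IdealSheafData.vanishingIdeal
    (⟨closure {pullback.snd f g w}, isClosed_closure⟩ : Closeds Y)
  have hrX : Set.range IX.subschemeι = closure {pullback.fst f g w} :=
    RedSub.range_vanishingIdeal_subschemeι _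
  have hrY : Set.range IY.subschemeι = closure {pullback.snd f g w} :=
    RedSub.range_vanishingIdeal_subschemeι _
  have : IsIntegral IX.subscheme := isIntegral_vanishingIdeal _ h1.1
  have : IsIntegral IY.subscheme := isIntegral_vanishingIdeal _ h2.1
  let m := pullback.map (IX.subschemeι ≫ f) (IY.subschemeι ≫ g) f g IX.subschemeι IY.subschemeι
    (𝟙 _) (Category.comp_id _) (Category.comp_id _)
  have : MorphismProperty.IsStableUnderComposition @IsPreimmersion := ⟨fun f g hf hg =>
    @IsPreimmersion.comp _ _ _ f g hf hg⟩
  have : IsPreimmersion m := MorphismProperty.pullbackMap (P := @IsPreimmersion) inferInstance inferInstance rfl rfl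
  have hm : Set.range m = ⇑(pullback.fst f g) ⁻¹' closure {pullback.fst f g w} ∩
      ⇑(pullback.snd f g) ⁻¹' closure {pullback.snd f g w} :=
    (Scheme.Pullback.range_map ..).trans (by rw [hrX, hrY])
  obtain ⟨W₀, hW₀, hd⟩ := exists_component_of_embedding m.isEmbedding hm (W := W)
    (fun v hv ↦ ⟨((hw.specializes hv).map (pullback.fst f g).continuous).mem_closure,
      ((hw.specializes hv).map (pullback.snd f g).continuous).mem_closure⟩)
    hW.1 (fun V hV _ hle ↦ hW.2 hV hle)
  rw [hd, topDim_component_prod_of_integral _ _ hW₀]
  exact congrArg₂ (· + ·) ((topDim_range IX.subschemeι.isEmbedding).trans (topDim_congr hrX))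
    ((topDim_range IY.subschemeι.isEmbedding).trans (topDim_congr hrY))

/-- Chains lie in components. -/
lemma exists_component_le {α : Type u} [TopologicalSpace α] {n : ℕ}
    (h : (n : WithBot ℕ∞) ≤ topologicalKrullDim α) :
    ∃ T ∈ irreducibleComponents α, (n : WithBot ℕ∞) ≤ topologicalKrullDim T := by
  obtain ⟨l, hl⟩ := Order.le_krullDim_iff.mp h
  obtain ⟨T, hT, hle⟩ := exists_preirreducible (l.last : Set α) l.last.isIrreducible.2
  refine ⟨T, ⟨⟨l.last.isIrreducible.1.mono hle.1, hT⟩, fun U hU hTU ↦ (hle.2 U hU.2 hTU).le⟩, ?_⟩
  rw [← hl]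
  exact TopDimLib.length_le_of_subset l hle.1

lemma add_le_of_forall_natCast {a b c : WithBot ℕ∞}
    (h : ∀ n m : ℕ, (n : WithBot ℕ∞) ≤ a → (m : WithBot ℕ∞) ≤ b → ((n + m : ℕ) : WithBot ℕ∞) ≤ c) :
    a + b ≤ c := by
  induction a using WithBot.recBotCoe with
  | bot => rw [WithBot.bot_add]; exact bot_le
  | coe a =>
    induction b using WithBot.recBotCoe with
    | bot => rw [WithBot.add_bot]; exact bot_le
    | coe b =>
      induction c using WithBot.recBotCoe with
      | bot =>
        have := h 0 0 (by exact_mod_cast zero_le) (by exact_mod_cast zero_le)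
        exact absurd this (not_le.mpr (WithBot.bot_lt_coe _))
      | coe c =>
        rw [← WithBot.coe_add, WithBot.coe_le_coe]
        cases a with
        | top =>
          rw [top_add, top_le_iff, ENat.eq_top_iff_forall_ge]
          intro n
          have := h n 0 (by exact_mod_cast le_top) (by exact_mod_cast zero_le)
          exact_mod_cast this
        | coe a =>
          cases b with
          | top =>
            rw [add_top, top_le_iff, ENat.eq_top_iff_forall_ge]
            intro n
            have := h 0 n (by exact_mod_cast zero_le) (by exact_mod_cast le_top)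
            rw [zero_add] at this
            exact_mod_cast this
          | coe b => exact_mod_cast h a b le_rfl le_rfl

open CategoryTheory.Limits in
/-- Let X and Y be schemes locally of finite type over a field k. Then the dimension of X ×_k Y is the
sum of the dimensions of X and Y (Krull dimensions of the underlying spaces, valued in WithBot ℕ∞,
the empty scheme having dimension ⊥). -/
theorem result {k : Type u} [Field k] {X Y : Scheme.{u}}
    (f : X ⟶ Spec (CommRingCat.of k)) (g : Y ⟶ Spec (CommRingCat.of k)) [LocallyOfFiniteType f] [LocallyOfFiniteType g] :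
    topologicalKrullDim ↥(pullback f g) = topologicalKrullDim ↥X + topologicalKrullDim ↥Y := by
  refine le_antisymm (topDim_le_of_components fun W hW ↦ ?_)
    (add_le_of_forall_natCast fun n m hn hm ↦ ?_)
  · obtain ⟨w, hw⟩ : ∃ w, IsGenericPoint w W :=
      QuasiSober.sober hW.1 (isClosed_of_mem_irreducibleComponents W hW)
    rw [(topDim_component_prod f g hW hw).2.2]
    exact add_le_add (topologicalKrullDim_subspace_le _ _) (topologicalKrullDim_subspace_le _ _)
  · obtain ⟨S, hS, hnS⟩ := exists_component_le hn
    obtain ⟨T, hT, hmT⟩ := exists_component_le hm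
    obtain ⟨ξ, hξ⟩ : ∃ ξ, IsGenericPoint ξ S :=
      QuasiSober.sober hS.1 (isClosed_of_mem_irreducibleComponents S hS)
    obtain ⟨ζ, hζ⟩ : ∃ ζ, IsGenericPoint ζ T :=
      QuasiSober.sober hT.1 (isClosed_of_mem_irreducibleComponents T hT)
    have : Subsingleton ↥(Spec (CommRingCat.of k)) :=
      inferInstanceAs (Subsingleton (PrimeSpectrum k))
    obtain ⟨z, hz1, hz2⟩ := Scheme.Pullback.exists_preimage_pullback (f := f) (g := g) ξ ζ
      (Subsingleton.elim _ _)
    have hW := irreducibleComponent_mem_irreducibleComponents z
    obtain ⟨w, hw⟩ : ∃ w, IsGenericPoint w (irreducibleComponent z) :=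
      QuasiSober.sober hW.1 (isClosed_of_mem_irreducibleComponents _ hW)
    have hs := hw.specializes mem_irreducibleComponent
    have e1 : pullback.fst f g w = ξ := by
      have h3 : pullback.fst f g w ⤳ ξ := hz1 ▸ hs.map (pullback.fst f g).continuous
      exact (h3.antisymm (specializes_of_isGenericPoint_component hS hξ h3)).eq
    have e2 : pullback.snd f g w = ζ := by
      have h3 : pullback.snd f g w ⤳ ζ := hz2 ▸ hs.map (pullback.snd f g).continuous
      exact (h3.antisymm (specializes_of_isGenericPoint_component hT hζ h3)).eq
    refine le_trans ?_ (topologicalKrullDim_subspace_le _ (irreducibleComponent z))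
    rw [(topDim_component_prod f g hW hw).2.2, topDim_congr (show closure {pullback.fst f g w} = S by
      rw [e1]; exact hξ.def), topDim_congr (show closure {pullback.snd f g w} = T by
      rw [e2]; exact hζ.def), Nat.cast_add]
    exact add_le_add hnS hmT

end Groth.Agent.S4643
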