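import Groth.Statements.S6184
import Groth.Agent.BigBC.SmallBig
-- import your own Groth.Agent.* helpers here

set_option autoImplicit false
open CategoryTheory CategoryTheory.Limits AlgebraicGeometry Opposite
universe u
open BigSite

namespace Groth.Agent.S6184

/-- Let X be a scheme, u the inclusion of the small etale site of X into the big etale site (X-schemes
with the etale topology), u_* restriction of sheaves along it and u^* its left adjoint. For every
sheaf of sets G and every abelian sheaf G on the small etale site, the unit G -> u_* u^* G is an
isomorphism (so u^* is fully faithful). Stated for sheaves of sets (first conjunct, with Mathlib's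
sheaf pullback along the inclusion) and for abelian sheaves (second conjunct, the prelude's
adjunction on the big etale site). -/
theorem result (X : Scheme.{u}) :
    (∀ G : EtDesc.Sh X, IsIso (((EtFppf.a X).sheafAdjunctionContinuous (Type (u + 1)) X.smallEtaleTopology
      (QuotSh.J Scheme.etalePrecoverage X)).unit.app G)) ∧
    (∀ G : EtCoh.Ab X, IsIso ((BigSite.piEtAdj Scheme.etalePrecoverage X).unit.app G)) := by
  have : (EtFppf.a X).Full := inferInstanceAs (Scheme.Etale.forget X).Full
  have : (EtFppf.a X).Faithful := inferInstanceAs (Scheme.Etale.forget X).Faithful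
  constructor
  · intro G
    let t : CategoryTheory.Adjunction.Triple _ _ _ :=
      ⟨(EtFppf.a X).sheafAdjunctionContinuous (Type (u + 1)) X.smallEtaleTopology
        (QuotSh.J Scheme.etalePrecoverage X),
       (EtFppf.a X).sheafAdjunctionCocontinuous (Type (u + 1)) X.smallEtaleTopology
        (QuotSh.J Scheme.etalePrecoverage X)⟩
    have h : ((EtFppf.a X).sheafPushforwardCocontinuous (Type (u + 1)) X.smallEtaleTopology
        (QuotSh.J Scheme.etalePrecoverage X)).FullyFaithful := by
      have hr : ((EtFppf.a X).op.ran (H := (Type (u + 1)))).FullyFaithful :=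
        ((EtFppf.a X).op.ranAdjunction (Type (u + 1))).fullyFaithfulROfIsIsoCounit
      exact Functor.FullyFaithful.ofCompFaithful (G := sheafToPresheaf (QuotSh.J Scheme.etalePrecoverage X) (Type (u + 1)))
        ((fullyFaithfulSheafToPresheaf _ _).comp hr)
    have := h.full
    have := h.faithful
    have : IsIso t.adj₂.counit := inferInstance
    have := t.isIso_unit_iff_isIso_counit.2 this
    exact inferInstanceAs (IsIso (t.adj₁.unit.app G))
  · intro G
    let t : CategoryTheory.Adjunction.Triple _ _ _ :=
      ⟨BigSite.piEtAdj Scheme.etalePrecoverage X, BigSite.iEtAdj Scheme.etalePrecoverage X⟩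
    have h : ((EtFppf.a X).sheafPushforwardCocontinuous AddCommGrpCat.{u + 1} X.smallEtaleTopology
        (QuotSh.J Scheme.etalePrecoverage X)).FullyFaithful := by
      have hr : ((EtFppf.a X).op.ran (H := AddCommGrpCat.{u + 1})).FullyFaithful :=
        ((EtFppf.a X).op.ranAdjunction AddCommGrpCat.{u + 1}).fullyFaithfulROfIsIsoCounit
      exact Functor.FullyFaithful.ofCompFaithful (G := sheafToPresheaf (QuotSh.J Scheme.etalePrecoverage X) AddCommGrpCat.{u + 1})
        ((fullyFaithfulSheafToPresheaf _ _).comp hr)
    have := h.full
    have := h.faithful
    have : IsIso t.adj₂.counit := inferInstance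
    have := t.isIso_unit_iff_isIso_counit.2 this
    exact inferInstanceAs (IsIso (t.adj₁.unit.app G))

end Groth.Agent.S6184
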