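import Groth.Statements.S9691
import Groth.Agent.Props.AmpleRel

set_option autoImplicit false
universe u
open CategoryTheory CategoryTheory.Limits AlgebraicGeometry
open Mor

namespace Groth.Agent.S9691

/-- Let f : X ⟶ S be a morphism of schemes and L an invertible O_X-module which is ample relative to f.
Then f is separated. -/
theorem result {X S : Scheme.{u}} (f : X ⟶ S) (L : X.Modules)
    (hL : RelAmple.IsRelAmple f L) : IsSeparated f := by
  refine Groth.Agent.Props.AmpleRel.isSeparated_of_cover (L := L) f fun y => ?_
  obtain ⟨V, hV, hy, -⟩ := exists_isAffineOpen_mem_and_subset (U := (⊤ : S.Opens)) (x := y) trivial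
  exact ⟨V, hy, Groth.Agent.Props.AmpleRel.isAmple_pullback_preimage hL ⟨V, hV⟩⟩

end Groth.Agent.S9691
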