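import Groth.Statements.S12131
import Groth.Agent.AffPBC.Alg
import Groth.Agent.Thick.Unram
import Groth.Agent.LimTop.PullSec
import Groth.Agent.DirImgAff.Basic
import Groth.Agent.QCoh.Qcqs
-- import your own Groth.Agent.* helpers here

set_option autoImplicit false
universe u
open EGA2

namespace Groth.Agent.S12131

open CategoryTheory CategoryTheory.Limits AlgebraicGeometry TopologicalSpace Opposite Groth.Agent.QCoh in
/-- A morphism bijective on affine opens inside the members of a cover is an isomorphism. -/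
theorem _root_.Groth.Agent.S12131.isIso_of_affine_cover {Z : Scheme.{u}} {M N : Z.Modules} (φ : M ⟶ N) (P : Z.Opens → Prop)
    (hP : ∀ (V : Z.Opens) (x : Z), x ∈ V → ∃ W, IsAffineOpen W ∧ P W ∧ x ∈ W ∧ W ≤ V)
    (h : ∀ W : Z.Opens, IsAffineOpen W → P W → Function.Bijective (φ.app W)) : IsIso φ := by
  rw [Scheme.Modules.Hom.isIso_iff_isIso_app]
  intro V
  rw [ConcreteCategory.isIso_iff_bijective]
  have hcov : ∀ V : Z.Opens, V ≤ ⨆ W : {W : Z.Opens // IsAffineOpen W ∧ P W ∧ W ≤ V}, W.1 := fun V x hx => by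
    obtain ⟨W, h1, h2, h3, h4⟩ := hP V x hx
    exact Opens.mem_iSup.2 ⟨⟨W, h1, h2, h4⟩, h3⟩
  have hinj : ∀ (W : Z.Opens) (a b : Γ(M, W)), φ.app W a = φ.app W b → a = b := fun W a b hab =>
    eq_of_locally_eq M (fun i : {W' : Z.Opens // IsAffineOpen W' ∧ P W' ∧ W' ≤ W} => i.2.2.2) (hcov W) a b
      fun i => (h _ i.2.1 i.2.2.1).1 (by rw [app_res, app_res, hab])
  refine ⟨fun a b hab => hinj V a b hab, fun t => ?_⟩
  choose s hs using fun i : {W : Z.Opens // IsAffineOpen W ∧ P W ∧ W ≤ V} => (h _ i.2.1 i.2.2.1).2 (res N i.2.2.2 t)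
  obtain ⟨m, hm⟩ := exists_glue M (fun i : {W : Z.Opens // IsAffineOpen W ∧ P W ∧ W ≤ V} => i.2.2.2) (hcov V) s
    fun i j => hinj _ _ _ (by rw [app_res, app_res, hs, hs, res_res, res_res])
  refine ⟨m, eq_of_locally_eq N (fun i : {W : Z.Opens // IsAffineOpen W ∧ P W ∧ W ≤ V} => i.2.2.2) (hcov V) _ _ fun i => ?_⟩
  rw [← app_res, hm, hs]


open AlgebraicGeometry CategoryTheory Scheme.Modules in
/-- Let f : X → S be an affine morphism, g : S' → S a morphism, X' = X ×_S S' with projections g' : X' →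
X and f' : X' → S', and F a quasi-coherent O_X-module. Let ρ : F → g'_* g'^* F be the unit of
adjunction and v = f_*(ρ) : f_* F → f_* g'_* g'^* F = g_* f'_* g'^* F; then the map u : g^*(f_* F) →
f'_*(g'^* F) adjoint to v is an isomorphism. -/
theorem result {X S X' S' : Scheme.{u}} (f : X ⟶ S) (g : S' ⟶ S)
    (g' : X' ⟶ X) (f' : X' ⟶ S') (h : IsPullback g' f' f g) [IsAffineHom f]
    (F : X.Modules) [Coh.IsQCoh F] :
    IsIso (((pullbackPushforwardAdjunction g).homEquiv ((pushforward f).obj F)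
        ((pushforward f').obj ((pullback g').obj F))).symm
      ((pushforward f).map ((pullbackPushforwardAdjunction g').unit.app F) ≫
        (pushforwardComp g' f).hom.app ((pullback g').obj F) ≫
        (pushforwardCongr h.w).hom.app ((pullback g').obj F) ≫
        (pushforwardComp f' g).inv.app ((pullback g').obj F))) := by
  have : F.IsQuasicoherent := ‹Coh.IsQCoh F›
  set G := (pullback g').obj F with hG
  set v : (pushforward f).obj F ⟶ (pushforward g).obj ((pushforward f').obj G) :=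
    (pushforward f).map ((pullbackPushforwardAdjunction g').unit.app F) ≫
      (pushforwardComp g' f).hom.app G ≫ (pushforwardCongr h.w).hom.app G ≫
      (pushforwardComp f' g).inv.app G with hv
  set φ := ((pullbackPushforwardAdjunction g).homEquiv _ _).symm v with hφ
  have hφv : (pullbackPushforwardAdjunction g).unit.app ((pushforward f).obj F) ≫ (pushforward g).map φ = v :=
    ((pullbackPushforwardAdjunction g).homEquiv_unit _ _ _).symm.trans (Equiv.apply_symm_apply _ v)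
  have hFq : ((pushforward f).obj F).IsQuasicoherent := QCoh.isQuasicoherent_pushforward f F
  refine isIso_of_affine_cover φ (fun W => ∃ U : S.Opens, IsAffineOpen U ∧ W ≤ g ⁻¹ᵁ U) (fun V x hx => ?_) ?_
  · obtain ⟨_, ⟨U, hU, rfl⟩, hxU, -⟩ := S.isBasis_affineOpens.exists_subset_of_mem_open
      (Set.mem_univ (g x)) isOpen_univ
    obtain ⟨_, ⟨W, hW, rfl⟩, hxW, hWV⟩ := S'.isBasis_affineOpens.exists_subset_of_mem_open
      (show x ∈ V ⊓ g ⁻¹ᵁ U from ⟨hx, hxU⟩) (V ⊓ g ⁻¹ᵁ U).2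
    exact ⟨W, hW, ⟨U, hU, hWV.trans Set.inter_subset_right⟩, hxW, hWV.trans Set.inter_subset_left⟩
  rintro W hW ⟨U, hU, e⟩
  obtain ⟨h', hp⟩ := Thick.Unram.isPushout_appLE h.flip hU hW e
  have : IsAffineHom f' := MorphismProperty.of_isPullback h ‹IsAffineHom f›
  let a := g.appLE U W e
  let b := f.app U
  let c := f'.app W
  let d := g'.appLE (f ⁻¹ᵁ U) (f' ⁻¹ᵁ W) h'
  let := a.hom.toAlgebra
  let := b.hom.toAlgebra
  let := c.hom.toAlgebra
  let := d.hom.toAlgebra
  let := (a ≫ c).hom.toAlgebra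
  have : IsScalarTower Γ(S, U) Γ(S', W) Γ(X', f' ⁻¹ᵁ W) := .of_algebraMap_eq fun _ => rfl
  have : IsScalarTower Γ(S, U) Γ(X, f ⁻¹ᵁ U) Γ(X', f' ⁻¹ᵁ W) := .of_algebraMap_eq fun r => congr($(hp.w) r)
  have : Algebra.IsPushout Γ(S, U) Γ(S', W) Γ(X, f ⁻¹ᵁ U) Γ(X', f' ⁻¹ᵁ W) :=
    CommRingCat.isPushout_iff_isPushout.mp hp
  let : Module Γ(S, U) Γ(F, f ⁻¹ᵁ U) := (inferInstance : Module Γ(S, U) Γ((pushforward f).obj F, U))
  have : IsScalarTower Γ(S, U) Γ(X, f ⁻¹ᵁ U) Γ(F, f ⁻¹ᵁ U) := .of_algebraMap_smul fun _ _ => rfl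
  let := LimTop.secModule g ((pushforward f).obj F) e
  have : IsScalarTower Γ(S, U) Γ(S', W) Γ((pullback g).obj ((pushforward f).obj F), W) := .of_algebraMap_smul fun _ _ => rfl
  let := LimTop.secModule g' F h'
  have : IsScalarTower Γ(X, f ⁻¹ᵁ U) Γ(X', f' ⁻¹ᵁ W) Γ(G, f' ⁻¹ᵁ W) := .of_algebraMap_smul fun _ _ => rfl
  let := Module.compHom Γ(G, f' ⁻¹ᵁ W) c.hom
  have : IsScalarTower Γ(S', W) Γ(X', f' ⁻¹ᵁ W) Γ(G, f' ⁻¹ᵁ W) := .of_algebraMap_smul fun _ _ => rfl
  refine AffPBC.bijective_of_comp (R := Γ(S, U)) (B := Γ(S', W)) (A := Γ(X, f ⁻¹ᵁ U)) (C := Γ(X', f' ⁻¹ᵁ W))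
    (M := Γ(F, f ⁻¹ᵁ U))
    (LimTop.isBaseChange_unitSec g ((pushforward f).obj F) e hU hW)
    (LimTop.isBaseChange_unitSec g' F h' (hU.preimage f) (hW.preimage f'))
    (φ.app W) (fun x y => map_add (φ.app W).hom x y) (fun r x => Hom.app_smul φ r x) (fun m => ?_)
  show φ.app W (LimTop.unitSec g ((pushforward f).obj F) e m) = LimTop.unitSec g' F h' m
  rw [LimTop.unitSec_apply, QCoh.app_res]
  have hvm : φ.app (g ⁻¹ᵁ U) (((pullbackPushforwardAdjunction g).unit.app ((pushforward f).obj F)).app U m) = v.app U m :=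
    congr(($hφv).app U m)
  rw [hvm, LimTop.unitSec_apply]
  exact QCoh.res_res G _ _ _

end Groth.Agent.S12131
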