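import Groth.Statements.S4357
import Groth.Agent.FDesc.QuasiFlat
import Groth.Agent.PullStalk.Basic

set_option autoImplicit false
universe u
open QCohSup

namespace Groth.Agent.S4357

open scoped TensorProduct in
/-- A finite module over a local ring with zero base change along a local homomorphism is zero. -/
theorem subsingleton_tensor_iff {A B : Type u} [CommRing A] [CommRing B] [IsLocalRing A]
    [IsLocalRing B] [Algebra A B] [IsLocalHom (algebraMap A B)] (N : Type u) [AddCommGroup N]
    [Module A N] [Module.Finite A N] : Subsingleton (B ⊗[A] N) ↔ Subsingleton N := by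
  refine ⟨fun h => ?_, fun _ => inferInstance⟩
  let q : B →ₗ[A] IsLocalRing.ResidueField B :=
    (IsScalarTower.toAlgHom A B (IsLocalRing.ResidueField B)).toLinearMap
  have hq : Function.Surjective q := Ideal.Quotient.mk_surjective
  have h1 : Subsingleton (IsLocalRing.ResidueField B ⊗[A] N) :=
    (LinearMap.rTensor_surjective N hq).subsingleton
  have h2 : Subsingleton (IsLocalRing.ResidueField B ⊗[IsLocalRing.ResidueField A]
      (IsLocalRing.ResidueField A ⊗[A] N)) :=
    (TensorProduct.AlgebraTensorModule.cancelBaseChange A (IsLocalRing.ResidueField A)
      (IsLocalRing.ResidueField A) (IsLocalRing.ResidueField B) N).toEquiv.subsingleton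
  rw [Module.FaithfullyFlat.subsingleton_tensorProduct_iff_right,
    IsLocalRing.subsingleton_tensorProduct] at h2
  exact h2

open AlgebraicGeometry in
open CategoryTheory in
/-- Consider a scheme morphism f : Y -> X together with an O_X-module F that is quasi-coherent and of
finite type. The support of the pullback of F along f (those points of Y at which its stalk does not
vanish) coincides with the inverse image under f of the support of F. (When applied to the closed
immersions cut out by the powers of an ideal sheaf on a locally Noetherian scheme, this describes
the support of each level of a completed coherent module.) -/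
theorem result
    {X Y : Scheme.{u}} (f : Y ⟶ X) (F : X.Modules) [Coh.IsQCoh F] (hF : CohB1.IsFT F) :
    CohB1.support ((Scheme.Modules.pullback f).obj F) = f.base ⁻¹' CohB1.support F := by
  ext y
  simp only [CohB1.support, Set.mem_setOf_eq, Set.mem_preimage]
  refine not_congr ?_
  let := (f.stalkMap y).hom.toAlgebra
  let := Groth.Agent.PullStalk.Basic.moduleOver f F y
  have : IsScalarTower (X.presheaf.stalk (f y)) (Y.presheaf.stalk y)
      (((Scheme.Modules.pullback f).obj F).presheaf.stalk y) :=
    IsScalarTower.of_algebraMap_smul fun _ _ => rfl
  have hb := Groth.Agent.PullStalk.Basic.isBaseChange_unitStalk f F y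
  have : IsLocalHom (algebraMap (X.presheaf.stalk (f y)) (Y.presheaf.stalk y)) :=
    inferInstanceAs (IsLocalHom (f.stalkMap y).hom)
  have : Module.Finite (X.presheaf.stalk (f y)) (F.presheaf.stalk (f y)) :=
    Groth.Agent.FDesc.QuasiFlat.finite_stalk_of_isCoh F ⟨inferInstance, hF⟩ (f y)
  exact hb.equiv.toEquiv.subsingleton_congr.symm.trans (subsingleton_tensor_iff _)

end Groth.Agent.S4357
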