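import Groth.Statements.S14172
import Groth.Agent.BigVol.PowReg
import Groth.Agent.ProjTwist.Pn.TopCohom
import Groth.Agent.ProjTwist.Pn.Twist
import Groth.Agent.ProjProper.Basic
import Groth.Agent.AmpleLib.Locus
-- import your own Groth.Agent.* helpers here

set_option autoImplicit false
set_option linter.style.haveILetI false
universe u
open CategoryTheory CategoryTheory.Limits AlgebraicGeometry
open Variety

namespace Groth.Agent.S14172
open Groth.Agent.ProjTwist Groth.Agent.ProjTwist.Pn Groth.Agent.BigVol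

theorem nonempty_pow_twist (k : Type u) [Field k] (n : ℕ) (d : ℤ) : ∀ p : ℕ,
    Nonempty (CohB1.tensorPow (Twist.twistProjSpace n k d) p ≅ Twist.twistProjSpace n k (d * p))
  | 0 => ⟨(twistZeroIso (CohB1.polyGrading n k)) ≪≫
      eqToIso (congrArg (Twist.twistProjSpace n k) (show (0 : ℤ) = d * ((0 : ℕ) : ℤ) by simp))⟩
  | p + 1 => by
    obtain ⟨e⟩ := nonempty_pow_twist k n d p
    obtain ⟨e'⟩ := nonempty_twistProjSpace_tensor n k (d * p) d
    exact ⟨tensCongr e (Iso.refl _) ≪≫ e' ≪≫
      eqToIso (congrArg (Twist.twistProjSpace n k) (show d * (p : ℤ) + d = d * ((p + 1 : ℕ) : ℤ) by push_cast; ring))⟩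

/-- Let k be an algebraically closed field of characteristic zero (the published statement is over the
complex numbers; this row allows any algebraically closed field of characteristic zero), I a
quasi-coherent ideal sheaf on P^n_k, viewed as an O-module, and d an integer such that I(d) = I ⊗
O(d) is generated by its global sections. Then reg(I^p) ≤ d p + e for a suitable integer e and every
p ≥ 1: the p-th power I^p is m-regular whenever m ≥ d p + e. -/
theorem result (k : Type u) [Field k] [IsAlgClosed k] [CharZero k]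
    (n : ℕ) (I : (CohB1.ProjSpace n k).IdealSheafData) (d : ℤ)
    (hd : Curv2.IsGloballyGenerated (CohB1.tensorMod (ClSub.idealMod I) (Twist.twistProjSpace n k d))) :
    ∃ e : ℤ, ∀ p : ℕ, 1 ≤ p → ∀ m : ℤ, d * (p : ℤ) + e ≤ m →
      Curv2.IsMRegular k n (ClSub.idealMod (I ^ p)) m := by
  have : IsProper (CohB1.ProjSpace.toSpec n k) := ProjProper.Basic.isProper_toSpec n k
  have := ProjTwist.Pn.isLocallyNoetherian_projSpace n k
  have : CompactSpace (CohB1.ProjSpace n k) := QuasiCompact.compactSpace_of_compactSpace (CohB1.ProjSpace.toSpec n k)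
  have : AlgebraicGeometry.IsNoetherian (CohB1.ProjSpace n k) := ⟨⟩
  have hL := isInvertible_twistProjSpace n k d
  obtain ⟨e, he⟩ := PowReg.exists_vanishing (CohB1.ProjSpace.toSpec n k) (isAmple_one (n := n) (k := k)) hL hd
  refine ⟨(e : ℤ) + n, fun p _ m hm i hi hin => ?_⟩
  obtain ⟨j, hj⟩ : ∃ j : ℕ, m - i - d * p = (j : ℤ) :=
    ⟨(m - i - d * p).toNat, (Int.toNat_of_nonneg (by omega)).symm⟩
  have hej : e ≤ j := by omega
  let L₁ := CohB1.tensorMod (Coh.structureModule (CohB1.ProjSpace n k)) (Twist.twistProjSpace n k d)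
  let eL : CohB1.tensorPow L₁ p ≅ Twist.twistProjSpace n k (d * p) :=
    AmpleLib.tensorPowIso (oneTens _) p ≪≫ (nonempty_pow_twist k n d p).some
  let eA : CohB1.tensorPow (Twist.twistProjSpace n k 1) j ≅ Twist.twistProjSpace n k j :=
    (nonempty_pow_twist k n 1 j).some ≪≫ eqToIso (by rw [one_mul])
  let eT : CohB1.tensorMod (PowReg.M I L₁ p) (CohB1.tensorPow (Twist.twistProjSpace n k 1) j) ≅
      CohB1.tensorMod (ClSub.idealMod (I ^ p)) (Twist.twistProjSpace n k (m - i)) :=
    tensCongr (tensCongr (Iso.refl _) eL) eA ≪≫ twTw _ (d * p) j (m - i) (by omega)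
  have := he j hej p i hi
  exact (CohLin.hIso eT i).toEquiv.subsingleton_congr.mp this


end Groth.Agent.S14172
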