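import Groth.Statements.S9349
import Groth.Agent.FlatSect.Basic
import Groth.Agent.QCoh.Qcqs

set_option autoImplicit false
universe u
open FlatMod

namespace Groth.Agent.S9349

open AlgebraicGeometry CategoryTheory in
/-- Let f : X → Y be an affine morphism of S-schemes, with q : Y → S, and F a quasi-coherent O_X-module.
Flatness of F over S (along f ≫ q) is equivalent to flatness of f_*F over S (along q). -/
theorem result {X Y S : Scheme.{u}} (f : X ⟶ Y) [IsAffineHom f] (q : Y ⟶ S)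
    (F : X.Modules) (hF : Coh.IsQCoh F) :
    FlatMod.IsFlatOver (f ≫ q) F ↔ FlatMod.IsFlatOver q ((Coh.push f).obj F) := by
  haveI : F.IsQuasicoherent := hF
  haveI : ((Coh.push f).obj F).IsQuasicoherent :=
    inferInstanceAs (((Scheme.Modules.pushforward f).obj F).IsQuasicoherent)
  constructor
  · intro h y
    obtain ⟨W, V, hW, hV, e, hy⟩ := FlatSect.exists_chart q y
    have e' : f ⁻¹ᵁ V ≤ (f ≫ q) ⁻¹ᵁ W := f.preimage_mono e
    have h1 := FlatSect.flat_sections_of_isFlatOverAt (f ≫ q) hW (hV.preimage f) e' F fun x _ => h x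
    refine FlatSect.isFlatOverAt_of_flat_sections q hW hV e _ ?_ y hy
    refine (@FlatSect.flat_iff_of_ringEquiv Γ(S, W) Γ(S, W) _ _ Γ(F, f ⁻¹ᵁ V) _
      (Module.compHom _ ((f ≫ q).appLE W (f ⁻¹ᵁ V) e').hom)
      (Module.compHom Γ((Scheme.Modules.pushforward f).obj F, V) (q.appLE W V e).hom)
      (RingEquiv.refl _) fun a m => ?_).mp h1
    show f.app V (q.appLE W V e a) • QCoh.unPush f F m = (f ≫ q).appLE W (f ⁻¹ᵁ V) e' a • QCoh.unPush f F m
    congr 1
    rw [← CommRingCat.comp_apply]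
    rw [Scheme.Hom.app_eq_appLE, Scheme.Hom.appLE_comp_appLE]
  · intro h x
    obtain ⟨W, V, hW, hV, e, hy⟩ := FlatSect.exists_chart q (f x)
    have e' : f ⁻¹ᵁ V ≤ (f ≫ q) ⁻¹ᵁ W := f.preimage_mono e
    have h1 := FlatSect.flat_sections_of_isFlatOverAt q hW hV e ((Coh.push f).obj F) fun x _ => h x
    refine FlatSect.isFlatOverAt_of_flat_sections (f ≫ q) hW (hV.preimage f) e' F ?_ x hy
    refine (@FlatSect.flat_iff_of_ringEquiv Γ(S, W) Γ(S, W) _ _ Γ(F, f ⁻¹ᵁ V) _
      (Module.compHom Γ((Scheme.Modules.pushforward f).obj F, V) (q.appLE W V e).hom)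
      (Module.compHom _ ((f ≫ q).appLE W (f ⁻¹ᵁ V) e').hom)
      (RingEquiv.refl _) fun a m => ?_).mp h1
    show (f ≫ q).appLE W (f ⁻¹ᵁ V) e' a • QCoh.unPush f F m = f.app V (q.appLE W V e a) • QCoh.unPush f F m
    congr 1
    rw [← CommRingCat.comp_apply]
    rw [Scheme.Hom.app_eq_appLE, Scheme.Hom.appLE_comp_appLE]

end Groth.Agent.S9349
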