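import Groth.Statements.S9693
import Groth.Agent.ProjProper.Basic
-- import your own Groth.Agent.* helpers here

set_option autoImplicit false
universe u
open CategoryTheory CategoryTheory.Limits AlgebraicGeometry
open Mor

namespace Groth.Agent.S9693
set_option backward.isDefEq.respectTransparency.types false

/-- A base change of an H-projective morphism (a closed immersion into some P^n over the base followed
by the projection) is H-projective. -/
theorem result {X S S' : Scheme.{u}} (f : X ⟶ S) (hf : RelProj.IsHProjective f)
    (g : S' ⟶ S) : RelProj.IsHProjective (pullback.snd f g) := by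
  obtain ⟨n, i, hi, rfl⟩ := hf
  haveI := hi
  -- the projective space over `S'` is the base change of the one over `S`
  let G : CohB1.ProjSpaceOver n S' ⟶ CohB1.ProjSpaceOver n S :=
    pullback.lift (pullback.fst _ _) (pullback.snd _ _ ≫ g)
      (pullback.condition.trans (by
        rw [Category.assoc]
        congr 1
        exact specULiftZIsTerminal.hom_ext _ _))
  have hG : IsPullback G (CohB1.ProjSpaceOver.toBase n S') (CohB1.ProjSpaceOver.toBase n S) g := by
    refine IsPullback.of_right ?_ (pullback.lift_snd _ _ _)
      (IsPullback.of_hasPullback (CohB1.ProjSpace.toSpec n (ULift.{u} ℤ)) (specULiftZIsTerminal.from S))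
    have h0 := IsPullback.of_hasPullback (CohB1.ProjSpace.toSpec n (ULift.{u} ℤ))
      (specULiftZIsTerminal.from S')
    rw [show g ≫ specULiftZIsTerminal.from S = specULiftZIsTerminal.from S' from
      specULiftZIsTerminal.hom_ext _ _]
    convert! h0 using 1
    exact pullback.lift_fst _ _ _
  let t : pullback (i ≫ CohB1.ProjSpaceOver.toBase n S) g ⟶ CohB1.ProjSpaceOver n S' :=
    hG.lift (pullback.fst _ _ ≫ i) (pullback.snd _ _) (by rw [Category.assoc, pullback.condition])
  have ht : IsPullback (pullback.fst (i ≫ CohB1.ProjSpaceOver.toBase n S) g) t i G := by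
    refine IsPullback.of_bot ?_ (hG.lift_fst _ _ _).symm hG
    rw [hG.lift_snd]
    exact IsPullback.of_hasPullback _ _
  exact ⟨n, t, MorphismProperty.of_isPullback ht hi, hG.lift_snd _ _ _⟩

end Groth.Agent.S9693
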