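import Groth.Statements.S0027
import Groth.Agent.CohDev.Gen

set_option autoImplicit false
universe u
open Coherent

namespace Groth.Agent.S0027

open Groth.Agent.CohDev
open scoped ZeroObject

open AlgebraicGeometry CategoryTheory CategoryTheory.Limits in
/-- Let X be a nonempty Noetherian scheme and P an isomorphism-invariant property of O_X-modules such
that (1) in a short exact sequence of coherent modules, P for the two outer terms implies P for the
middle term, and (2) P holds for the direct image of every quasi-coherent ideal sheaf of every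
integral closed subscheme of X. Then P holds for every coherent O_X-module. (Nonemptiness of X is
needed for the zero module; the published statement leaves it implicit.) -/
theorem result (X : Scheme.{u}) [IsNoetherian X] [Nonempty X]
    (P : X.Modules → Prop) (hP : ∀ M N : X.Modules, Nonempty (M ≅ N) → P M → P N)
    (h₁ : ∀ S : ShortComplex X.Modules, S.ShortExact → Coh.IsCoh S.X₁ → Coh.IsCoh S.X₂ →
      Coh.IsCoh S.X₃ → P S.X₁ → P S.X₃ → P S.X₂)
    (h₂ : ∀ (Z : Scheme.{u}) (i : Z ⟶ X), IsClosedImmersion i → IsIntegral Z →
      ∀ (I : Z.Modules) (ι : I ⟶ Coh.structureModule Z), Mono ι → Coh.IsQCoh I →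
        P ((Coh.push i).obj I))
    (M : X.Modules) (hM : Coh.IsCoh M) : P M := by
  have h0 : ∀ M : X.Modules, IsZero M → P M := fun M hM => by
    let x : X := Classical.arbitrary X
    let Z := (IntMult.ptIdeal x).subscheme
    have hI : IsZero (0 : Z.Modules) := isZero_zero _
    refine hP _ _ ⟨((Coh.push (IntMult.ptIdeal x).subschemeι).map_isZero hI).iso hM⟩
      (h₂ Z _ inferInstance (S16188.isIntegral_subscheme _ isIrreducible_singleton.closure)
        0 0 ⟨fun _ _ _ => hI.eq_of_tgt _ _⟩ (isCoh_of_isZero hI).1)
  refine devissage_on Set.univ P h0 (fun S hS a b c _ p q => h₁ S hS a b c p q)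
    (fun x _ J hJ _ => ?_) hM (Set.subset_univ _)
  obtain ⟨hZ, I, ι, hι, hI, ⟨e⟩⟩ := hJ.exists_ideal
  exact hP _ _ ⟨e.symm⟩ (h₂ _ _ inferInstance hZ I ι hι hI)

end Groth.Agent.S0027
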