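import Groth.Statements.S4413
import Groth.Agent.Props.GenPull

set_option autoImplicit false
universe u
open CategoryTheory CategoryTheory.Limits AlgebraicGeometry
open EGA2

namespace Groth.Agent.S4413

/-- Let u : Z → S be a morphism of schemes, L an invertible O_S-module, s : O_S → L a global section of
L and s' the section of u^*(L) corresponding to s, i.e. u^*(s) composed with an isomorphism O_Z ≅
u^*(O_S) (the locus in question does not depend on that choice). Then the open Z_{s'} of Z where s'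
generates u^*(L) is the preimage u⁻¹(S_s) of the open where s generates L. -/
theorem result {Z S : Scheme.{u}} (u : Z ⟶ S) (L : S.Modules) (hL : PicF.IsInvertible L)
    (s : Coh.structureModule S ⟶ L)
    (e : Coh.structureModule Z ≅ (Scheme.Modules.pullback u).obj (Coh.structureModule S)) :
    CohB1.genLocus ((Scheme.Modules.pullback u).obj L) (e.hom ≫ (Scheme.Modules.pullback u).map s) = u ⁻¹ᵁ CohB1.genLocus L s := by
  refine TopologicalSpace.Opens.ext (Set.ext fun z => ?_)
  obtain ⟨U, e₀, hzU, he⟩ := Groth.Agent.Props.GenLocus.exists_isGen hL (u z)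
  obtain ⟨a, ha, -⟩ := he.exists_eq le_rfl (Groth.Agent.Props.GenLocus.sec s U)
  rw [Groth.Agent.QCoh.res_self] at ha
  have h1 := Groth.Agent.Props.GenPull.isGen_pb u (Groth.Agent.Props.GenTensor.isGen_one (X := S) U)
  let m := e.hom.app (u ⁻¹ᵁ U) (Groth.Agent.Props.GenLocus.one' (u ⁻¹ᵁ U))
  have hm : Groth.Agent.Props.GenLocus.IsGen _ (u ⁻¹ᵁ U) m := by
    refine ((Groth.Agent.Props.GenLocus.isIso_restrict_iff e.hom (u ⁻¹ᵁ U)).mp ?_)
    infer_instance
  obtain ⟨v, hv, hmv⟩ := Groth.Agent.Props.GenProd.exists_unit_smul h1 hm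
  have hnat : ((Scheme.Modules.pullback u).map s).app (u ⁻¹ᵁ U)
      (Groth.Agent.Props.GenPull.pb u (Groth.Agent.Props.GenLocus.one' U)) =
      Groth.Agent.Props.GenPull.pb u (Groth.Agent.Props.GenLocus.sec s U) :=
    congrArg (fun φ => Scheme.Modules.Hom.app φ U (Groth.Agent.Props.GenLocus.one' U))
      ((Scheme.Modules.pullbackPushforwardAdjunction u).unit.naturality s).symm
  have key : Groth.Agent.Props.GenLocus.sec (e.hom ≫ (Scheme.Modules.pullback u).map s) (u ⁻¹ᵁ U) =
      (v * u.app U a) • Groth.Agent.Props.GenPull.pb u e₀ := by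
    change ((Scheme.Modules.pullback u).map s).app (u ⁻¹ᵁ U) m = _
    rw [hmv, Scheme.Modules.Hom.app_smul, hnat, ha, mul_smul]
    exact congrArg (v • ·) (Groth.Agent.LFFrame.unitSec_smul u L U a e₀)
  have h := Groth.Agent.Props.GenLocus.genLocus_inf (Groth.Agent.Props.GenPull.isGen_pb u he) _ key
  rw [Scheme.basicOpen_mul, Scheme.basicOpen_of_isUnit _ hv, ← Scheme.preimage_basicOpen u,
    ← Groth.Agent.Props.GenLocus.genLocus_inf he s ha] at h
  have h2 := congrArg (fun O : Z.Opens => z ∈ O) h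
  have e1 : z ∈ u ⁻¹ᵁ (CohB1.genLocus L s ⊓ U) ↔ u z ∈ CohB1.genLocus L s ∧ u z ∈ U := Iff.rfl
  have e2 : z ∈ u ⁻¹ᵁ U := hzU
  simp only [TopologicalSpace.Opens.mem_inf, eq_iff_iff, SetLike.mem_coe, e1] at h2 ⊢
  change z ∈ CohB1.genLocus _ _ ↔ u z ∈ CohB1.genLocus L s
  tauto

end Groth.Agent.S4413
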