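import Groth.Statements.S4654
import Groth.Agent.PullStalk.Exact
import Groth.Agent.FlatMor.FlatLemmas
-- import your own Groth.Agent.* helpers here

set_option autoImplicit false
open CategoryTheory AlgebraicGeometry
universe u
open FDesc

namespace Groth.Agent.S4654

/-- An extension of flat modules is flat. -/
theorem flat_middle {R : Type u} [CommRing R] {A B C : Type u} [AddCommGroup A] [AddCommGroup B]
    [AddCommGroup C] [Module R A] [Module R B] [Module R C] [Module.Flat R A] [Module.Flat R C]
    (f : A →ₗ[R] B) (g : B →ₗ[R] C) (hf : Function.Injective f) (hg : Function.Surjective g)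
    (h : Function.Exact f g) : Module.Flat R B := by
  rw [Module.Flat.iff_rTensor_preserves_injective_linearMap]
  intro N P _ _ _ _ i hi
  rw [injective_iff_map_eq_zero]
  intro b hb
  have h1 : g.lTensor N b = 0 := by
    apply Module.Flat.rTensor_preserves_injective_linearMap (M := C) i hi
    rw [map_zero, ← LinearMap.comp_apply, LinearMap.rTensor_comp_lTensor,
      ← LinearMap.lTensor_comp_rTensor, LinearMap.comp_apply, hb, map_zero]
  obtain ⟨a, rfl⟩ := (lTensor_exact N h hg b).mp h1
  have h2 : f.lTensor P (i.rTensor A a) = f.lTensor P 0 := by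
    rw [map_zero, ← LinearMap.comp_apply, LinearMap.lTensor_comp_rTensor,
      ← LinearMap.rTensor_comp_lTensor, LinearMap.comp_apply, hb]
  have h3 := LinearMap.lTensor_injective_of_exact_of_flat g hg f hf h P h2
  have h4 : a = 0 := Module.Flat.rTensor_preserves_injective_linearMap (M := A) i hi
    (h3.trans (map_zero _).symm)
  rw [h4, map_zero]

/-- Let f : X → Y be a morphism of schemes and 0 → F' → F → F'' → 0 a short exact sequence of
quasi-coherent O_X-modules such that F'' is flat over Y. Then F is flat over Y if and only if F' is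
flat over Y. -/
theorem result {X Y : Scheme.{u}} (f : X ⟶ Y) (S : ShortComplex X.Modules)
    (hS : S.ShortExact) (h₁ : Coh.IsQCoh S.X₁) (h₂ : Coh.IsQCoh S.X₂) (h₃ : Coh.IsQCoh S.X₃)
    (hflat : FlatMod.IsFlatOver f S.X₃) :
    FlatMod.IsFlatOver f S.X₂ ↔ FlatMod.IsFlatOver f S.X₁ := by
  refine forall_congr' fun x => ?_
  obtain ⟨hi, he, hs⟩ := Groth.Agent.PullStalk.Exact.stalk_exact hS x
  let := FlatMod.moduleStalkOver f S.X₁ x
  let := FlatMod.moduleStalkOver f S.X₂ x
  let := FlatMod.moduleStalkOver f S.X₃ x
  let F : S.X₁.presheaf.stalk x →ₗ[Y.presheaf.stalk (f x)] S.X₂.presheaf.stalk x :=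
    { toFun := Groth.Agent.PullStalk.Exact.stalkLin S.f x
      map_add' := map_add _
      map_smul' := fun r t => map_smul (Groth.Agent.PullStalk.Exact.stalkLin S.f x) (f.stalkMap x r) t }
  let G : S.X₂.presheaf.stalk x →ₗ[Y.presheaf.stalk (f x)] S.X₃.presheaf.stalk x :=
    { toFun := Groth.Agent.PullStalk.Exact.stalkLin S.g x
      map_add' := map_add _
      map_smul' := fun r t => map_smul (Groth.Agent.PullStalk.Exact.stalkLin S.g x) (f.stalkMap x r) t }
  have h3 : Module.Flat (Y.presheaf.stalk (f x)) (S.X₃.presheaf.stalk x) := hflat x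
  constructor
  · intro (h2 : Module.Flat (Y.presheaf.stalk (f x)) (S.X₂.presheaf.stalk x))
    have := Groth.Agent.FlatMor.FlatLemmas.flat_ker G hs
    exact Module.Flat.of_linearEquiv ((LinearEquiv.ofInjective F hi).trans
      (LinearEquiv.ofEq _ _ (LinearMap.exact_iff.mp (show Function.Exact F G from he)).symm))
  · intro (h1 : Module.Flat (Y.presheaf.stalk (f x)) (S.X₁.presheaf.stalk x))
    exact flat_middle F G hi hs he

end Groth.Agent.S4654
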