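import Groth.Statements.S7415
import Groth.Agent.FlatMor.GenericPts
import Mathlib.AlgebraicGeometry.SpreadingOut
-- import your own Groth.Agent.* helpers here

set_option autoImplicit false
universe u
open CategoryTheory AlgebraicGeometry
open Mor

namespace Groth.Agent.S7415

/-- Let `X` be a reduced scheme with finitely many irreducible components and `x ∈ X`. Then `x` has an
affine open neighbourhood `U` such that `O_X(U) → O_{X,x}` is injective. -/
theorem result (X : Scheme.{u}) [AlgebraicGeometry.IsReduced X]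
    (hirr : (irreducibleComponents (X : Type u)).Finite) (x : X) : X.IsGermInjectiveAt x := by
  classical
  let C : Set X := ⋃ Z ∈ {Z ∈ irreducibleComponents (X : Type u) | x ∉ Z}, Z
  have hC : IsClosed C := (hirr.subset (Set.sep_subset _ _)).isClosed_biUnion
    fun Z hZ => isClosed_of_mem_irreducibleComponents Z hZ.1
  have hxC : x ∉ C := by
    intro h
    obtain ⟨Z, hZ, hxZ⟩ := Set.mem_iUnion₂.mp h
    exact hZ.2 hxZ
  obtain ⟨_, ⟨U, hU, rfl⟩, hxU, hUC⟩ := X.isBasis_affineOpens.exists_subset_of_mem_open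
    (show x ∈ Cᶜ from hxC) hC.isOpen_compl
  refine ⟨U, hxU, hU, (injective_iff_map_eq_zero _).mpr fun s hs => ?_⟩
  obtain ⟨W, hxW, i₁, i₂, hW⟩ := X.presheaf.germ_eq x hxU hxU s 0 (hs.trans (map_zero _).symm)
  rw [← AlgebraicGeometry.basicOpen_eq_bot_iff]
  rw [← le_bot_iff]
  intro z hz
  obtain ⟨η, hη, hηz⟩ := Groth.Agent.FlatMor.GenericPts.exists_generic_specializes z
  have hηs : η ∈ X.basicOpen s := hηz.mem_open (X.basicOpen s).2 hz
  have hηx : η ⤳ x := by
    rw [specializes_iff_mem_closure]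
    by_contra h
    exact hUC (X.basicOpen_le s hηs) (Set.mem_iUnion₂.mpr ⟨closure {η}, ⟨hη, h⟩, subset_closure rfl⟩)
  have hηW : η ∈ W := hηx.mem_open W.2 hxW
  have hu := (X.mem_basicOpen s η (X.basicOpen_le s hηs)).mp hηs
  rw [← X.presheaf.germ_res_apply i₁ η hηW s, hW, map_zero, map_zero] at hu
  exact absurd hu not_isUnit_zero

end Groth.Agent.S7415
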