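import Groth.Statements.S9799
import Groth.Agent.Props.Components
-- import your own Groth.Agent.* helpers here

set_option autoImplicit false
universe u
open CategoryTheory AlgebraicGeometry TopologicalSpace
open Props

namespace Groth.Agent.S9799

/-- Let X be a normal scheme (all local rings are integrally closed domains) such that every
quasi-compact open subset has finitely many irreducible components. Then the irreducible components
of X are open and pairwise disjoint; hence X is the disjoint union of its irreducible components,
each an open subscheme which is normal and integral. -/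
theorem result (X : Scheme.{u})
    (hfin : ∀ U : X.Opens, IsCompact (U : Set X) → (irreducibleComponents ↥U).Finite)
    (hN : Pi1.IsNormalScheme X) :
    (∀ Z ∈ irreducibleComponents X, IsOpen Z) ∧
      ∀ Z ∈ irreducibleComponents X, ∀ Z' ∈ irreducibleComponents X, Z ≠ Z' → Disjoint Z Z' := by
  refine ⟨fun Z hZ => Props.Components.isOpen_of_locally_finite (fun x => (hN x).1)
    (fun x => ?_) Z hZ, fun Z hZ Z' hZ' hne => Set.disjoint_left.mpr fun x hx hx' => hne
      ((Props.Components.existsUnique_component (fun x => (hN x).1) x).unique ⟨hZ, hx⟩ ⟨hZ', hx'⟩)⟩
  obtain ⟨_, ⟨U, hU, rfl⟩, hxU, -⟩ :=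
    X.isBasis_affineOpens.exists_subset_of_mem_open (Set.mem_univ x) isOpen_univ
  exact ⟨U, hxU, Props.Components.finite_meeting U (hfin U hU.isCompact)⟩

end Groth.Agent.S9799
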