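import Groth.Statements.S2351
import Groth.Agent.Curv2Norm.Basic
import Groth.Agent.NormUniv.Curv2

set_option autoImplicit false
set_option linter.style.haveILetI false
set_option backward.isDefEq.respectTransparency.types false
universe u
open CategoryTheory CategoryTheory.Limits AlgebraicGeometry
open EGA2

namespace Groth.Agent.S2351

/-- Let X be an integral scheme and X' → X its normalization (integral closure of X in its function
field). Then X' is integral with integrally closed local rings, the morphism X' → X is surjective,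
maps the generic point to the generic point and induces a bijection between the residue fields of
the generic points. (The quasi-compactness/quasi-separatedness binders on Spec K(X) → X always hold;
they are only needed to form Mathlib's relative normalization.) -/
theorem result (X : Scheme.{u}) [IsIntegral X]
    [QuasiCompact (X.fromSpecStalk (genericPoint X))] [QuasiSeparated (X.fromSpecStalk (genericPoint X))] :
    ∃ (_ : IsIntegral (Curv2.normalization X)), Pi1.IsNormalScheme (Curv2.normalization X) ∧ Surjective (Curv2.normalizationι X) ∧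
      ∃ hgen : (Curv2.normalizationι X).base (genericPoint (Curv2.normalization X)) = genericPoint X,
        Function.Bijective ((Curv2.normalizationι X).residueFieldMap (genericPoint (Curv2.normalization X))).hom := by
  haveI hint := Curv2Norm.isIntegral X
  haveI := Curv2Norm.isIntegralHom X
  refine ⟨hint, Curv2Norm.isDomain_isIntegrallyClosed_stalk X, ?_⟩
  let g : Curv2.normalization X ⟶ X := Curv2.normalizationι X
  let t : Spec X.functionField ⟶ Curv2.normalization X :=
    (X.fromSpecStalk (genericPoint X)).toNormalization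
  have ht : t ≫ g = X.fromSpecStalk (genericPoint X) :=
    (X.fromSpecStalk (genericPoint X)).toNormalization_fromNormalization
  haveI : IsDominant t :=
    inferInstanceAs (IsDominant (X.fromSpecStalk (genericPoint X)).toNormalization)
  let p0 : Spec X.functionField := IsLocalRing.closedPoint _
  have hp0 : g (t p0) = genericPoint X := by
    rw [← Scheme.Hom.comp_apply, ht]
    exact Scheme.fromSpecStalk_closedPoint
  have htp : t p0 = genericPoint (Curv2.normalization X) := by
    refine ((genericPoint_spec (Curv2.normalization X)).eq ?_).symm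
    rw [isGenericPoint_def]
    have hr : Set.range t = {t p0} := by
      refine Set.eq_singleton_iff_unique_mem.mpr ⟨⟨p0, rfl⟩, ?_⟩
      rintro _ ⟨q, rfl⟩
      exact congrArg t (Subsingleton.elim (α := PrimeSpectrum X.functionField) q p0)
    rw [← hr]
    exact t.denseRange.closure_range
  have hgen : g (genericPoint (Curv2.normalization X)) = genericPoint X := by rw [← htp, hp0]
  refine ⟨⟨fun x ↦ ?_⟩, hgen, ?_⟩
  · exact (genericPoint_specializes x).mem_closed g.isClosedMap.isClosed_range ⟨_, hgen⟩
  set ξ' := genericPoint (Curv2.normalization X) with hξ'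
  have hfield : ∀ z : X.presheaf.stalk (g ξ'), z ≠ 0 → IsUnit z := by
    intro z hz
    let e := X.presheaf.stalkSpecializes (specializes_of_eq hgen)
    let e' := X.presheaf.stalkSpecializes (specializes_of_eq hgen.symm)
    have he : e (e' z) = z := by
      show X.presheaf.stalkSpecializes _ (X.presheaf.stalkSpecializes _ z) = z
      rw [TopCat.Presheaf.stalkSpecializes_comp_apply, TopCat.Presheaf.stalkSpecializes_refl]
      rfl
    rw [← he]
    refine IsUnit.map e.hom (isUnit_iff_ne_zero.mpr fun h0 ↦ hz ?_)
    rw [← he, h0]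
    exact map_zero _
  have hsurj : Function.Surjective (g.stalkMap ξ') := by
    obtain ⟨U, hU, hξU, -⟩ := exists_isAffineOpen_mem_and_subset (X := X) (x := g ξ')
      (U := ⊤) trivial
    obtain ⟨hinj, hfrac⟩ := NormUniv.normalizationι_frac X U hU ⟨_, hξU⟩
    have hgerm : ∀ x : Γ(Curv2.normalization X, g ⁻¹ᵁ U), ∃ c,
        g.stalkMap ξ' c = (Curv2.normalization X).presheaf.germ (g ⁻¹ᵁ U) ξ' hξU x := by
      intro x
      obtain ⟨a, b, hb, hab⟩ := hfrac x
      obtain ⟨v, hv⟩ := hfield (X.presheaf.germ U (g ξ') hξU b) (fun h0 ↦ hb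
        (germ_injective_of_isIntegral X (g ξ') hξU (h0.trans (map_zero _).symm)))
      refine ⟨↑v⁻¹ * X.presheaf.germ U (g ξ') hξU a, ?_⟩
      rw [map_mul, Scheme.Hom.germ_stalkMap_apply, ← hab, map_mul, ← mul_assoc,
        ← Scheme.Hom.germ_stalkMap_apply, ← map_mul, ← hv, Units.inv_mul, map_one, one_mul]
    intro y
    haveI : Nonempty (g ⁻¹ᵁ U) := ⟨⟨ξ', hξU⟩⟩
    haveI := functionField_isFractionRing_of_isAffineOpen (Curv2.normalization X) (g ⁻¹ᵁ U)
      (hU.preimage g)
    obtain ⟨a, b, hb, hab⟩ := IsFractionRing.div_surjective (A := Γ(Curv2.normalization X, g ⁻¹ᵁ U))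
      (K := (Curv2.normalization X).functionField) y
    obtain ⟨ca, hca⟩ := hgerm a
    obtain ⟨cb, hcb⟩ := hgerm b
    have hcb0 : cb ≠ 0 := fun h0 ↦ nonZeroDivisors.ne_zero hb
      (germ_injective_of_isIntegral (Curv2.normalization X) ξ' hξU
        (hcb.symm.trans ((congrArg _ h0).trans ((map_zero _).trans (map_zero _).symm))))
    obtain ⟨v, hv⟩ := hfield cb hcb0
    refine ⟨ca * ↑v⁻¹, ?_⟩
    have hb0 : g.stalkMap ξ' cb ≠ 0 := fun h0 ↦ nonZeroDivisors.ne_zero hb
      (germ_injective_of_isIntegral (Curv2.normalization X) ξ' hξU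
        (hcb.symm.trans (h0.trans (map_zero _).symm)))
    rw [← hab]
    refine (eq_div_iff ?_).mpr ?_
    · exact hcb ▸ hb0
    · show g.stalkMap ξ' (ca * ↑v⁻¹) * (Curv2.normalization X).presheaf.germ _ ξ' hξU b =
        (Curv2.normalization X).presheaf.germ _ ξ' hξU a
      rw [← hca, ← hcb, ← map_mul, mul_assoc, ← hv, Units.inv_mul, mul_one]
  refine ⟨RingHom.injective _, fun y ↦ ?_⟩
  obtain ⟨y, rfl⟩ := (Curv2.normalization X).residue_surjective _ y
  obtain ⟨z, rfl⟩ := hsurj y
  exact ⟨X.residue _ z, ConcreteCategory.congr_hom (Scheme.residue_residueFieldMap g ξ') z⟩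

end Groth.Agent.S2351
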