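import Groth.Statements.S5022
import Groth.Agent.Omega.SmoothFibreDim
import Groth.Agent.Omega.SmoothPoint
import Groth.Agent.Omega.LocalStructure
import Groth.Agent.Props.QProj
import Groth.Agent.EtStruct.SmoothSource
-- import your own Groth.Agent.* helpers here

set_option autoImplicit false
universe u
open CategoryTheory CategoryTheory.Limits AlgebraicGeometry TopologicalSpace
open Unram17

namespace Groth.Agent.S5022

open TensorProduct

attribute [local instance] Algebra.TensorProduct.rightAlgebra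

/-- Flat, and the fibre rank of `Ω` at most the fibre dimension: smooth. -/
theorem isSmoothAt_of_rank (A B : Type u) [CommRing A] [CommRing B] [Algebra A B]
    [Algebra.FinitePresentation A B] (Q : PrimeSpectrum B) [Module.Flat A (Localization.AtPrime Q.asIdeal)]
    [Module.Free B Ω[B⁄A]] [Module.Finite B Ω[B⁄A]] (n : ℕ) (hn : Module.finrank B Ω[B⁄A] = n)
    (hdim : FlatMor.fibreDimAt (Spec.map (CommRingCat.ofHom (algebraMap A B))) Q = (n : WithBot ℕ∞)) :
    Algebra.IsSmoothAt A Q.asIdeal := by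
  obtain ⟨P, hP, h⟩ := Omega.SmoothFibreDim.fibreDimAt_eq_localDim_fiber A B Q
  haveI : Nontrivial B := Q.nontrivial
  haveI : Q.asIdeal.LiesOver (PrimeSpectrum.comap (algebraMap A B) Q).asIdeal := ⟨rfl⟩
  let κ := (PrimeSpectrum.comap (algebraMap A B) Q).asIdeal.ResidueField
  let C := (PrimeSpectrum.comap (algebraMap A B) Q).asIdeal.Fiber B
  haveI : Nontrivial C := P.nontrivial
  let eK := KaehlerDifferential.tensorKaehlerEquiv A κ B C
  haveI : Module.Free C Ω[C⁄κ] := Module.Free.of_equiv eK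
  haveI : Module.Finite C Ω[C⁄κ] := Module.Finite.equiv eK
  have hrk : Omega.RankDim.rank κ P.asIdeal = n := by
    rw [Omega.RankDim.rank, Module.finrank_baseChange, ← eK.finrank_eq, Module.finrank_baseChange, hn]
  haveI : Algebra.FormallySmooth κ (Localization.AtPrime P.asIdeal) :=
    Omega.RankDim.formallySmooth_of_rank_le κ P.asIdeal (by rw [hrk, ← hdim, h])
  exact EtStruct.isSmoothAt_of_fiber_at (PrimeSpectrum.comap (algebraMap A B) Q).asIdeal Q.asIdeal P.asIdeal
    (congrArg PrimeSpectrum.asIdeal hP)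

/-- Let f : X ⟶ Y be locally of finite presentation, (Ω', d) a sheaf of differentials of X over Y (d
universal) and x a point of X. Then f is smooth at x if and only if the stalk map at x is flat and
there are an open neighbourhood U of x and an integer n with Ω' free of rank n on U and n equal to
the local dimension at x of the fibre of f through x. -/
theorem result {X Y : Scheme.{u}} (f : X ⟶ Y)
    [LocallyOfFinitePresentation f] (Ω' : X.Modules) (d : OmegaSh.Der f Ω') (hd : OmegaSh.IsUniversal d) (x : ↥X) :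
    x ∈ f.smoothLocus ↔
      (f.stalkMap x).hom.Flat ∧
        ∃ (U : X.Opens) (n : ℕ), x ∈ U ∧ Nonempty (Ω'.restrict U.ι ≅ FlatMod.freeMod (↑U) n) ∧
          FlatMor.fibreDimAt f x = (n : WithBot ℕ∞) := by
  constructor
  · intro hx
    refine ⟨Omega.SmoothPoint.flat_stalkMap f hx, ?_⟩
    obtain ⟨W, hW, V, hV, e, hxV, hs⟩ := exists_smooth_of_formallySmooth_stalk f x hx
    letI := (f.appLE W V e).hom.toAlgebra
    haveI : Algebra.Smooth Γ(Y, W) Γ(X, V) := RingHom.smooth_algebraMap.mp hs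
    obtain ⟨r, e', hxr, hnt, hfin, hfree, hiso⟩ :=
      Omega.LocalStructure.exists_free_of_chart hd hW hV e hxV ⟨inferInstance, inferInstance⟩
    refine ⟨X.basicOpen r, _, hxr, hiso, ?_⟩
    letI := (f.appLE W (X.basicOpen r) e').hom.toAlgebra
    letI : Algebra Γ(X, V) Γ(X, X.basicOpen r) :=
      (X.presheaf.map (homOfLE (X.basicOpen_le r)).op).hom.toAlgebra
    haveI : IsScalarTower Γ(Y, W) Γ(X, V) Γ(X, X.basicOpen r) := IsScalarTower.of_algebraMap_eq fun a => by
      change f.appLE W (X.basicOpen r) e' a = (f.appLE W V e ≫ X.presheaf.map (homOfLE (X.basicOpen_le r)).op) a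
      rw [Scheme.Hom.appLE_map]
    haveI : IsLocalization.Away r Γ(X, X.basicOpen r) := hV.isLocalization_basicOpen r
    haveI : Algebra.Smooth Γ(X, V) Γ(X, X.basicOpen r) := Algebra.Smooth.of_isLocalization_Away r
    haveI : Algebra.Smooth Γ(Y, W) Γ(X, X.basicOpen r) := Algebra.Smooth.comp _ Γ(X, V) _
    obtain ⟨Q, rfl⟩ := Omega.SmoothFibreDim.exists_pt (hV.basicOpen r) hxr
    haveI := hfin
    haveI := hfree
    haveI := hnt
    rw [← Omega.SmoothFibreDim.fibreDimAt_appLE f hW (hV.basicOpen r) e']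
    erw [Omega.SmoothFibreDim.fibreDimAt_spec Γ(Y, W) Γ(X, X.basicOpen r) Q]
    rw [Module.rankAtStalk_eq_finrank_of_free]
    rfl
  · rintro ⟨hflat, U, n, hxU, ⟨i⟩, hdim⟩
    obtain ⟨W, hW, hxW⟩ := Omega.SmoothFibreDim.exists_mem (f x)
    obtain ⟨V, hV, hxV, hVle⟩ := Omega.SmoothFibreDim.exists_nhd (𝟙 X) x (V := U ⊓ f ⁻¹ᵁ W) ⟨hxU, hxW⟩
    have e : V ≤ f ⁻¹ᵁ W := fun z hz => (hVle hz).2
    have hVU : V ≤ U := fun z hz => (hVle hz).1
    obtain ⟨b⟩ := Props.QProj.free_sections_of_restrict_iso Ω' i hV hVU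
    letI := (f.appLE W V e).hom.toAlgebra
    obtain ⟨j⟩ := Omega.LocalStructure.exists_tilde_iso hd hW hV e
    let eK : Ω[Γ(X, V)⁄Γ(Y, W)] ≃ₗ[Γ(X, V)] Γ(Ω', V) :=
      (tilde.isoTop (Omega.SpecDer.omegaMod Γ(Y, W) Γ(X, V))).toLinearEquiv ≪≫ₗ Props.QFP.topEquivOfIso j ≪≫ₗ
        QCoh.toSpecTopLinearEquiv hV Ω'
    let bK := b.map eK.symm
    haveI : Module.Free Γ(X, V) Ω[Γ(X, V)⁄Γ(Y, W)] := .of_basis bK
    haveI : Module.Finite Γ(X, V) Ω[Γ(X, V)⁄Γ(Y, W)] := .of_basis bK
    haveI : Algebra.FinitePresentation Γ(Y, W) Γ(X, V) := f.finitePresentation_appLE hW hV e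
    let Q := hV.primeIdealOf ⟨x, hxV⟩
    haveI : Nontrivial Γ(X, V) := Q.nontrivial
    rw [Scheme.Hom.mem_smoothLocus, formallySmooth_stalkMap_iff W hW V hV e hxV]
    haveI : Q.asIdeal.LiesOver (hW.primeIdealOf ⟨f x, e hxV⟩).asIdeal :=
      ⟨congr($(IsAffineOpen.comap_primeIdealOf_appLE W hW V hV e hxV).1).symm⟩
    haveI : Module.Flat Γ(Y, W) (Localization.AtPrime Q.asIdeal) := by
      let p := (hW.primeIdealOf ⟨f x, e hxV⟩).asIdeal
      letI := Localization.AtPrime.algebraOfLiesOver p Q.asIdeal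
      haveI : Module.Flat (Localization.AtPrime p) (Localization.AtPrime Q.asIdeal) := by
        rw [← RingHom.flat_algebraMap_iff]
        exact (RingHom.Flat.respectsIso.arrow_mk_iso_iff
          (IsAffineOpen.arrowStalkMapIso f W hW V hV e hxV)).mp hflat
      haveI : Module.Flat Γ(Y, W) (Localization.AtPrime p) := IsLocalization.flat _ p.primeCompl
      exact Module.Flat.trans Γ(Y, W) (Localization.AtPrime p) _
    refine isSmoothAt_of_rank Γ(Y, W) Γ(X, V) Q n
      ((Module.finrank_eq_card_basis bK).trans (Fintype.card_fin n)) ?_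
    refine Eq.trans ?_ hdim
    erw [Omega.SmoothFibreDim.fibreDimAt_appLE f hW hV e]
    exact congrArg (FlatMor.fibreDimAt f) (hV.fromSpec_primeIdealOf ⟨x, hxV⟩)

end Groth.Agent.S5022
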