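import Groth.Statements.S4440
import Groth.Agent.CurveExt.Basic
import Groth.Agent.RegLoc.Basic
import Groth.Agent.CurveDVR.Stalk
-- import your own Groth.Agent.* helpers here

set_option autoImplicit false
universe u
open CategoryTheory CategoryTheory.Limits AlgebraicGeometry
open EGA2

namespace Groth.Agent.S4440

/-- Let S be a locally Noetherian scheme, X proper over S, and Y a reduced S-scheme whose non-regular
locus has codimension at least two (the local ring at every point with local ring of dimension at
most one is regular). Then the locus where an S-rational map from Y to X is not defined has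
codimension at least two: an S-morphism given on a dense open V of Y extends to an S-morphism on an
open containing V and every point whose local ring has dimension at most one. (The published
statement does not ask Y to be locally Noetherian; this row does, which is the setting in which
regularity of local rings is defined.) -/
theorem result {S X Y : Scheme.{u}} [IsLocallyNoetherian S]
    (p : X ⟶ S) [IsProper p] (q : Y ⟶ S) [IsLocallyNoetherian Y] [IsReduced Y]
    (hreg : ∀ y : Y, ringKrullDim (Y.presheaf.stalk y) ≤ 1 → IsRegularLocalRing (Y.presheaf.stalk y))
    (V : Y.Opens) (hV : Dense (V : Set Y)) (g : (V : Scheme.{u}) ⟶ X) (hg : g ≫ p = V.ι ≫ q) :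
    ∃ (U : Y.Opens) (hVU : V ≤ U) (g' : (U : Scheme.{u}) ⟶ X), g' ≫ p = U.ι ≫ q ∧ Y.homOfLE hVU ≫ g' = g ∧
      ∀ y : Y, ringKrullDim (Y.presheaf.stalk y) ≤ 1 → y ∈ U := by
  obtain ⟨W, hVW, w, hP, hw, hres⟩ := CurveExt.exists_glue_extensions q p hV g hg
    {y : Y | ringKrullDim (Y.presheaf.stalk y) ≤ 1} fun y hy => by
    have hR := hreg y hy
    have : IsDomain (Y.presheaf.stalk y) := RegLoc.isDomain _
    have hval : ValuationRing (Y.presheaf.stalk y) := by
      by_cases hf : IsField (Y.presheaf.stalk y)
      · let := hf.toField
        infer_instance
      · have h1 : ringKrullDim (Y.presheaf.stalk y) = 1 := by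
          refine le_antisymm hy ?_
          by_contra h
          refine hf ?_
          have hdec : ringKrullDim (Y.presheaf.stalk y) ≤ 0 := by
            rcases h' : ringKrullDim (Y.presheaf.stalk y) with _ | n
            · exact bot_le
            · rw [h'] at h
              exact WithBot.coe_le_coe.2 (ENat.lt_one_iff_eq_zero.1 (not_le.1 fun hn => h (WithBot.coe_le_coe.2 hn))).le
          have : Ring.KrullDimLE 0 (Y.presheaf.stalk y) := Ring.krullDimLE_iff.2 hdec
          exact Ring.KrullDimLE.isField_of_isDomain
        have := CurveDVR.isDiscreteValuationRing_of_regular (Y.presheaf.stalk y) h1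
        infer_instance
    refine CurveExt.exists_extend_at q p hV g hg y fun i hi _ => ?_
    have hex : ValuativeCriterion.Existence p := by
      have h := (inferInstance : UniversallyClosed p)
      rw [UniversallyClosed.eq_valuativeCriterion] at h
      exact h.1
    let S' : ValuativeCommSq p :=
      { R := Y.presheaf.stalk y
        domain := this
        valuationRing := hval
        K := FractionRing (Y.presheaf.stalk y)
        i₁ := i
        i₂ := Y.fromSpecStalk y ≫ q
        commSq := ⟨hi⟩ }
    obtain ⟨l, hl₁, hl₂⟩ := (hex S').exists_lift
    exact ⟨(l : Spec (CommRingCat.of (Y.presheaf.stalk y)) ⟶ X), hl₂, hl₁⟩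
  exact ⟨W, hVW, w, hw, hres, fun y hy => hP y hy⟩

end Groth.Agent.S4440
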