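import Groth.Statements.S11107
import Groth.Agent.S4440
import Groth.Agent.CurveDVR.Stalk

set_option autoImplicit false
universe u
open CategoryTheory AlgebraicGeometry
open Neron

namespace Groth.Agent.S11107

/-- A scheme smooth over a regular ring has regular local rings. -/
theorem isRegularLocalRing_stalk {R : Type u} [CommRing R] [IsRegularRing R] {X : Scheme.{u}}
    (f : X ⟶ Spec (CommRingCat.of R)) [Smooth f] (x : X) : IsRegularLocalRing (X.presheaf.stalk x) := by
  obtain ⟨U, hU, hxU, -⟩ := AlgebraicGeometry.exists_isAffineOpen_mem_and_subset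
    (x := x) (U := (⊤ : X.Opens)) trivial
  have hφ : RingHom.Smooth (f.appLE ⊤ U le_top).hom := f.smooth_appLE (isAffineOpen_top _) hU le_top
  let g : R →+* Γ(X, U) := (f.appLE ⊤ U le_top).hom.comp (Scheme.ΓSpecIso (CommRingCat.of R)).inv.hom
  have hg : RingHom.Smooth g := RingHom.Smooth.propertyIsLocal.respectsIso.2 _
    (Scheme.ΓSpecIso (CommRingCat.of R)).commRingCatIsoToRingEquiv.symm hφ
  let _ : Algebra R Γ(X, U) := g.toAlgebra
  have : Algebra.Smooth R Γ(X, U) := hg
  let q := hU.primeIdealOf ⟨x, hxU⟩
  have hk : PrimeSpectrum.comap (algebraMap R Γ(X, U)) q ∈ EGA4.regLocus R :=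
    IsRegularRing.isRegularLocalRing_localization _
  have hq : IsRegularLocalRing (Localization.AtPrime q.asIdeal) := EGA4Lib.mem_regLocus_of_smooth q hk
  letI := TopCat.Presheaf.algebra_section_stalk X.presheaf ⟨x, hxU⟩
  have := hU.isLocalization_stalk ⟨x, hxU⟩
  exact IsRegularLocalRing.of_ringEquiv
    (IsLocalization.algEquiv q.asIdeal.primeCompl (Localization.AtPrime q.asIdeal)
      (X.presheaf.stalk x)).toRingEquiv

/-- Let R be a Dedekind domain, X → Spec R a smooth morphism, Y → Spec R a proper morphism, U ⊆ X a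
dense open subscheme and f : U → Y a morphism over Spec R (a rational map X ⇢ Y over R). Then f
extends, over Spec R, to an open subscheme V ⊇ U of X such that every point of X outside V has a
local ring of Krull dimension at least 2: the locus where the rational map is undefined has
codimension at least two. (The published statement assumes the rational map dominant; this row does
not.) -/
theorem result {R : Type u} [CommRing R] [IsDedekindDomain R]
    {X Y : Scheme.{u}} (pX : X ⟶ Spec (CommRingCat.of R)) (pY : Y ⟶ Spec (CommRingCat.of R))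
    [Smooth pX] [IsProper pY] (U : X.Opens) (hU : Dense (U : Set X))
    (f : (U : Scheme.{u}) ⟶ Y) (hf : f ≫ pY = U.ι ≫ pX) :
    ∃ (V : X.Opens) (hUV : U ≤ V) (g : (V : Scheme.{u}) ⟶ Y),
      g ≫ pY = V.ι ≫ pX ∧ X.homOfLE hUV ≫ g = f ∧
      ∀ x : X, x ∉ V → (2 : WithBot ℕ∞) ≤ ringKrullDim (X.presheaf.stalk x) := by
  have : IsNoetherianRing ↑(CommRingCat.of R) := inferInstanceAs (IsNoetherianRing R)
  have : IsLocallyNoetherian (Spec (CommRingCat.of R)) := inferInstance
  have : IsLocallyNoetherian X := LocallyOfFiniteType.isLocallyNoetherian pX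
  have hreg := isRegularLocalRing_stalk pX
  have : ∀ x : X, _root_.IsReduced (X.presheaf.stalk x) := fun x => by
    have := hreg x
    have := RegLoc.isDomain (X.presheaf.stalk x)
    infer_instance
  have : IsReduced X := isReduced_of_isReduced_stalk X
  obtain ⟨V, hUV, g, hg, hres, hV⟩ := S4440.result pY pX (fun x _ => hreg x) U hU f hf
  refine ⟨V, hUV, g, hg, hres, fun x hx => ?_⟩
  rcases h : ringKrullDim (X.presheaf.stalk x) with _ | m
  · exact absurd (hV x (by rw [h]; exact bot_le)) hx
  · refine WithBot.coe_le_coe.mpr ?_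
    by_contra hm
    exact hx (hV x (by rw [h]; exact WithBot.coe_le_coe.mpr (Order.le_of_lt_succ (by
      rw [not_le] at hm
      exact hm.trans_le (by simp [Order.succ_eq_add_one]; norm_num)))))

end Groth.Agent.S11107
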