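import Groth.Statements.S15942
import Groth.Agent.WeilExt.GlueStalks
import Groth.Agent.FDesc.BaseChangeStalk
import Groth.Agent.S11107
import Groth.Agent.RegLoc.Homological
-- import your own Groth.Agent.* helpers here

set_option autoImplicit false
universe u
open Neron

namespace Groth.Agent.S15942

open CategoryTheory CategoryTheory.Limits AlgebraicGeometry in
theorem regular_of_smooth {Y S : Scheme.{u}} (f : Y ⟶ S) [Smooth f] [IsLocallyNoetherian S]
    (hreg : ∀ s : S, IsRegularLocalRing (S.presheaf.stalk s)) (y : Y) :
    IsRegularLocalRing (Y.presheaf.stalk y) := by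
  let s := f.base y
  let g := pullback.snd f (S.fromSpecStalk s)
  have := hreg s
  obtain ⟨p, hp, -⟩ := Scheme.Pullback.exists_preimage_pullback (f := f) (g := S.fromSpecStalk s) y
    (IsLocalRing.closedPoint (S.presheaf.stalk s)) (by rw [Scheme.fromSpecStalk_closedPoint])
  let j := pullback.fst f (S.fromSpecStalk s)
  have := FDesc.BaseChangeStalk.flat_fromSpecStalk s
  have hrr : IsRegularRing (S.presheaf.stalk s) := RegLoc.Homological.isRegularRing
  have := @S11107.isRegularLocalRing_stalk (S.presheaf.stalk s) _ hrr _ g _ p
  have hb : Function.Bijective (j.stalkMap p).hom := by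
    have hfl : (j.stalkMap p).hom.Flat := AlgebraicGeometry.Flat.stalkMap j p
    refine ⟨?_, j.stalkMap_surjective p⟩
    letI := (j.stalkMap p).hom.toAlgebra
    have : Module.Flat (Y.presheaf.stalk (j.base p)) ((pullback f (S.fromSpecStalk s)).presheaf.stalk p) := hfl
    have : IsLocalHom (algebraMap (Y.presheaf.stalk (j.base p)) ((pullback f (S.fromSpecStalk s)).presheaf.stalk p)) :=
      inferInstanceAs (IsLocalHom (j.stalkMap p).hom)
    have := Module.FaithfullyFlat.of_flat_of_isLocalHom
      (A := Y.presheaf.stalk (j.base p)) (B := (pullback f (S.fromSpecStalk s)).presheaf.stalk p)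
    exact FaithfulSMul.algebraMap_injective _ _
  rw [← hp]
  exact IsRegularLocalRing.of_ringEquiv (RingEquiv.ofBijective _ hb).symm

open CategoryTheory AlgebraicGeometry in
/-- Let S be a Dedekind scheme (integral, Noetherian, separated, of dimension one, with regular local
rings), K its function field with generic point η : Spec K → S, and G → S a smooth separated
S-scheme. Suppose that for every closed point p of S the base change G_p = G ×_S Spec O_{S,p} is a
Néron lft-model of its generic fibre over Spec O_{S,p}: for every smooth scheme Y over Spec O_{S,p},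
restricting to generic fibres is a bijection from morphisms Y → G_p over Spec O_{S,p} onto morphisms
of generic fibres over K. Then G is a Néron lft-model of its generic fibre over S: for every smooth
S-scheme Y, restriction along η is a bijection from S-morphisms Y → G onto K-morphisms Y_η → G_η.
(The published statement is for a smooth separated group scheme; the group structure plays no part
in the property or in its proof and is not assumed here.) -/
theorem result
    {S : Scheme.{u}} [IsIntegral S] [IsNoetherian S] [S.IsSeparated]
    (hreg : ∀ s : S, IsRegularLocalRing (S.presheaf.stalk s)) (hdim : topologicalKrullDim S = 1)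
    (G : Over S) [Smooth G.hom] [IsSeparated G.hom]
    (hloc : ∀ p : S, IsClosed ({p} : Set S) →
      ∀ Y : Over (Spec (S.presheaf.stalk p)), Smooth Y.hom →
        Function.Bijective (fun g : Y ⟶ (Over.pullback (S.fromSpecStalk p)).obj G =>
          (Over.pullback (Spec.map (S.presheaf.stalkSpecializes (genericPoint_specializes p)))).map g)) :
    ∀ Y : Over S, Smooth Y.hom →
      Function.Bijective (fun g : Y ⟶ G => (Over.pullback (S.fromSpecStalk (genericPoint S))).map g) := by
  intro Y hYs
  haveI := hYs
  let σ₀ := S.fromSpecStalk (genericPoint S)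
  have hflat : Flat σ₀ := FDesc.BaseChangeStalk.flat_fromSpecStalk _
  have hrange : Set.range σ₀.base = {genericPoint S} := by
    refine subset_antisymm ?_ ?_
    · rintro _ ⟨q, rfl⟩
      exact Set.mem_singleton_iff.2 (Specializes.antisymm
        (S.range_fromSpecStalk.le ⟨q, rfl⟩) (genericPoint_specializes _)).eq
    · rintro _ rfl
      exact S.range_fromSpecStalk.ge specializes_rfl
  have hdom : IsDominant σ₀ := ⟨by
    rw [DenseRange, hrange, dense_iff_closure_eq]
    exact genericPoint_spec S⟩
  have hgen : ∀ s t : S, s ⤳ t → t ∈ Set.range σ₀.base → s ∈ Set.range σ₀.base := fun s t h ht => by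
    rw [hrange, Set.mem_singleton_iff] at ht ⊢
    exact (Specializes.antisymm (ht ▸ h) (genericPoint_specializes s)).eq
  have hY := regular_of_smooth Y.hom hreg
  haveI : IsReduced Y.left := by
    have : ∀ y : Y.left, _root_.IsReduced (Y.left.presheaf.stalk y) := fun y => by
      have := hY y
      have := RegLoc.isDomain (Y.left.presheaf.stalk y)
      infer_instance
    exact isReduced_of_isReduced_stalk _
  refine ⟨fun f g h => ?_, fun b => ?_⟩
  · ext1
    have h1 := congrArg (fun k => k.left ≫ Limits.pullback.fst G.hom σ₀) h
    change ((Over.pullback σ₀).map f).left ≫ _ = ((Over.pullback σ₀).map g).left ≫ _ at h1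
    have e : ∀ k : Y ⟶ G, ((Over.pullback σ₀).map k).left ≫ Limits.pullback.fst G.hom σ₀ =
        Limits.pullback.fst Y.hom σ₀ ≫ k.left := fun k => Limits.pullback.lift_fst _ _ _
    rw [e, e] at h1
    have : IsDominant (Limits.pullback.fst Y.hom σ₀) := ⟨by
      rw [DenseRange, Scheme.Pullback.range_fst]
      exact Dense.preimage (Scheme.Hom.denseRange σ₀) Y.hom.isOpenMap⟩
    exact ext_of_isDominant_of_isSeparated G.hom ((Over.w f).trans (Over.w g).symm) _ h1
  let a : Limits.pullback Y.hom σ₀ ⟶ G.left := b.left ≫ Limits.pullback.fst G.hom σ₀
  have hb : b.left ≫ Limits.pullback.snd G.hom σ₀ = Limits.pullback.snd Y.hom σ₀ := Over.w b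
  have ha : a ≫ G.hom = Limits.pullback.fst Y.hom _ ≫ Y.hom := by
    rw [Category.assoc, Limits.pullback.condition, reassoc_of% hb, ← Limits.pullback.condition]
  obtain ⟨U, g, hU, hg, hga⟩ := WeilExt.exists_glue_stalks σ₀ Y.hom G.hom hY hgen a ha Set.univ
    (Set.subset_univ _) fun y _ => by
      by_cases hgy : Y.hom.base y = genericPoint S
      · -- over the generic point
        obtain ⟨t, ht⟩ : ∃ t : Spec (Y.left.presheaf.stalk y) ⟶ Spec (S.presheaf.stalk (genericPoint S)),
            t ≫ σ₀ = Y.left.fromSpecStalk y ≫ Y.hom := by
          have key : ∀ s, Y.hom.base y = s → ∃ t : Spec (Y.left.presheaf.stalk y) ⟶ Spec (S.presheaf.stalk s),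
              t ≫ S.fromSpecStalk s = Y.left.fromSpecStalk y ≫ Y.hom := by
            rintro _ rfl
            exact ⟨_, Scheme.SpecMap_stalkMap_fromSpecStalk _⟩
          exact key _ hgy
        let l : Spec (Y.left.presheaf.stalk y) ⟶ Limits.pullback Y.hom σ₀ :=
          Limits.pullback.lift (Y.left.fromSpecStalk y) t ht.symm
        have hl : l ≫ Limits.pullback.fst Y.hom σ₀ = Y.left.fromSpecStalk y := Limits.pullback.lift_fst _ _ _
        have hl' : l ≫ Limits.pullback.snd Y.hom σ₀ = t := Limits.pullback.lift_snd _ _ _
        refine ⟨l ≫ a, by rw [Category.assoc, ha, reassoc_of% hl], fun q m hm => ?_⟩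
        refine (congrArg (· ≫ a) (show m = q ≫ l from Limits.pullback.hom_ext ?_ ?_)).trans (Category.assoc _ _ _)
        · rw [Category.assoc, hl, hm]
        · rw [Category.assoc, hl', ← cancel_mono σ₀, Category.assoc, Category.assoc,
            ← Limits.pullback.condition, reassoc_of% hm, ht]
      · -- over a closed point
        let p := Y.hom.base y
        have hp : IsClosed ({p} : Set S) := by
          by_contra hc
          obtain ⟨p', hp', hne⟩ : ∃ p', p ⤳ p' ∧ p' ≠ p := by
            by_contra h
            push_neg at h
            refine hc ?_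
            rw [show ({p} : Set S) = closure {p} from subset_antisymm subset_closure fun z hz =>
              h z (specializes_iff_mem_closure.2 hz)]
            exact isClosed_closure
          let I : ℕ → TopologicalSpace.IrreducibleCloseds S := fun i =>
            TopologicalSpace.IrreducibleCloseds.mk (closure {if i = 0 then p' else if i = 1 then p else genericPoint S})
              isIrreducible_singleton.closure isClosed_closure
          have hlt : ∀ a b : S, a ⤳ b → a ≠ b → closure ({b} : Set S) ⊂ closure {a} := fun a b hab hne' =>
            ⟨closure_minimal (Set.singleton_subset_iff.2 (specializes_iff_mem_closure.1 hab)) isClosed_closure,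
              fun h => hne' (Specializes.antisymm hab (specializes_iff_mem_closure.2 (h (subset_closure rfl)))).eq⟩
          have h01 : I 0 < I 1 := by
            simp only [I]; exact hlt p p' hp' hne.symm
          have h12 : I 1 < I 2 := by
            simp only [I]; exact hlt _ p (genericPoint_specializes p) (Ne.symm hgy)
          have h2 : (2 : WithBot ℕ∞) ≤ topologicalKrullDim S := by
            exact_mod_cast Order.LTSeries.length_le_krullDim (((RelSeries.singleton _ (I 0)).snoc (I 1) (by simpa using h01)).snoc (I 2) (by simpa using h12))
          rw [hdim] at h2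
          exact absurd h2 (by decide)
        let σ := Spec.map (S.presheaf.stalkSpecializes (genericPoint_specializes p))
        have hσ : σ ≫ S.fromSpecStalk p = σ₀ := Scheme.SpecMap_stalkSpecializes_fromSpecStalk _
        let Yp := (Over.pullback (S.fromSpecStalk p)).obj Y
        let Gp := (Over.pullback (S.fromSpecStalk p)).obj G
        haveI : Smooth Yp.hom := inferInstanceAs (Smooth (Limits.pullback.snd _ _))
        obtain ⟨-, hsurj⟩ := hloc p hp Yp inferInstance
        let α : Limits.pullback Yp.hom σ ⟶ Limits.pullback Y.hom σ₀ :=
          Limits.pullback.lift (Limits.pullback.fst Yp.hom σ ≫ Limits.pullback.fst Y.hom (S.fromSpecStalk p))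
            (Limits.pullback.snd Yp.hom σ) (by
              rw [← hσ, Category.assoc, Limits.pullback.condition, ← Category.assoc, ← Category.assoc]
              exact congrArg (· ≫ S.fromSpecStalk p) Limits.pullback.condition)
        let b' : (Over.pullback σ).obj Yp ⟶ (Over.pullback σ).obj Gp :=
          Over.homMk (Limits.pullback.lift
            (Limits.pullback.lift (α ≫ a) (Limits.pullback.snd Yp.hom σ ≫ σ) (by
              rw [Category.assoc, ha, Limits.pullback.lift_fst_assoc, Category.assoc, Category.assoc, hσ,
                Limits.pullback.condition, ← hσ, ← Category.assoc, ← Category.assoc]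
              exact congrArg (· ≫ S.fromSpecStalk p) Limits.pullback.condition))
            (Limits.pullback.snd Yp.hom σ) (Limits.pullback.lift_snd _ _ _))
            (Limits.pullback.lift_snd _ _ _)
        obtain ⟨g', hg'⟩ := hsurj b'
        have hg'fst : Limits.pullback.fst Yp.hom σ ≫ g'.left ≫ Limits.pullback.fst G.hom (S.fromSpecStalk p) =
            α ≫ a := by
          have h1 : ((Over.pullback σ).map g').left ≫ Limits.pullback.fst Gp.hom σ =
              Limits.pullback.fst Yp.hom σ ≫ g'.left := Limits.pullback.lift_fst _ _ _
          rw [← Category.assoc, ← h1, Category.assoc, show (Over.pullback σ).map g' = b' from hg']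
          simp only [b', Over.homMk_left]
          rw [← Category.assoc]
          erw [Limits.pullback.lift_fst, Limits.pullback.lift_fst]
        let l : Spec (Y.left.presheaf.stalk y) ⟶ Yp.left :=
          Limits.pullback.lift (Y.left.fromSpecStalk y) (Spec.map (Y.hom.stalkMap y))
            (Scheme.SpecMap_stalkMap_fromSpecStalk _).symm
        have hl1 : l ≫ Limits.pullback.fst Y.hom (S.fromSpecStalk p) = Y.left.fromSpecStalk y :=
          Limits.pullback.lift_fst _ _ _
        refine ⟨l ≫ g'.left ≫ Limits.pullback.fst G.hom (S.fromSpecStalk p), ?_, fun {Q} q m hm => ?_⟩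
        · simp only [Category.assoc]
          rw [Limits.pullback.condition, ← Category.assoc g'.left]
          erw [Over.w g']
          change l ≫ Limits.pullback.snd Y.hom (S.fromSpecStalk p) ≫ S.fromSpecStalk p = _
          rw [← Limits.pullback.condition, reassoc_of% hl1]
        · let n : Q ⟶ Limits.pullback Yp.hom σ :=
            Limits.pullback.lift (q ≫ l) (m ≫ Limits.pullback.snd Y.hom σ₀) (by
              rw [← cancel_mono (S.fromSpecStalk p)]
              simp only [Category.assoc, hσ]
              change q ≫ l ≫ Limits.pullback.snd Y.hom (S.fromSpecStalk p) ≫ S.fromSpecStalk p = _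
              rw [← Limits.pullback.condition, reassoc_of% hl1, ← Limits.pullback.condition, reassoc_of% hm])
          have hn : n ≫ α = m := by
            refine Limits.pullback.hom_ext ?_ ?_
            · simp only [Category.assoc, α, n, Limits.pullback.lift_fst, Limits.pullback.lift_fst_assoc]
              rw [hl1, hm]
            · simp only [Category.assoc, α, n, Limits.pullback.lift_snd]
          rw [← hn, Category.assoc, ← hg'fst]
          simp only [n, Limits.pullback.lift_fst_assoc, Category.assoc]
  have hUtop : U = ⊤ := eq_top_iff.2 fun y _ => hU (Set.mem_univ y)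
  subst hUtop
  refine ⟨Over.homMk ((Y.left.topIso).inv ≫ g) ?_, ?_⟩
  · rw [Category.assoc, hg, ← Category.assoc, ← Scheme.topIso_hom, Iso.inv_hom_id, Category.id_comp]
  · ext1
    refine Limits.pullback.hom_ext ?_ ?_
    · refine (Limits.pullback.lift_fst _ _ _).trans ?_
      simp only [Over.homMk_left]
      refine Eq.trans ?_ (hga (Limits.pullback.fst Y.hom σ₀ ≫ Y.left.topIso.inv) ?_)
      · exact (Category.assoc _ _ _).symm
      · rw [Category.assoc, ← Scheme.topIso_hom, Iso.inv_hom_id, Category.comp_id]
    · exact (Limits.pullback.lift_snd _ _ _).trans hb.symm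

end Groth.Agent.S15942
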