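import Groth.Statements.S12422
import Groth.Agent.S11581
import Groth.Agent.S15942
import Groth.Agent.FFCurve.Smooth
import Groth.Agent.FibBound.Basic
import Groth.Agent.FlatMor.FibreStalk
import Groth.Agent.LangWeil.Dim

set_option autoImplicit false
universe u
open CategoryTheory CategoryTheory.Limits AlgebraicGeometry
open NonsingVar

namespace Groth.Agent.S12422

theorem fibreDimAt_eq (k : Type u) [Field k] {X : Scheme.{u}} [X.Over (Spec (CommRingCat.of k))]
    [IrreducibleSpace ↥X] [LocallyOfFiniteType (X ↘ Spec (CommRingCat.of k))] (n : ℕ)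
    (hn : topologicalKrullDim ↥X = (n : WithBot ℕ∞)) (x : X) :
    FlatMor.fibreDimAt (X ↘ Spec (CommRingCat.of k)) x = (n : WithBot ℕ∞) := by
  set f := X ↘ Spec (CommRingCat.of k)
  refine le_antisymm ?_ ?_
  · refine le_trans (iInf_le _ ⟨⊤, trivial⟩) ?_
    rw [← hn]
    exact ((f.fiberι _).isEmbedding.isInducing.comp Topology.IsInducing.subtypeVal).topologicalKrullDim_le
  · have hmax : ∀ z, z ⤳ genericPoint X → z = genericPoint X := fun z hz =>
      (hz.antisymm (genericPoint_specializes z)).eq
    refine le_trans (le_of_eq ?_) (FibBound.le_fibreDimAt_of_max f (genericPoint_specializes x) hmax)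
    rw [← FibBound.krullDim_specs_of_max f hmax]
    have h0 : VarDim.dimPt k X (genericPoint X) = n := by
      have h := FibBound.topDim_closure_singleton k (genericPoint X)
      rw [(genericPoint_spec X).def,
        IsHomeomorph.topologicalKrullDim_eq _ (Homeomorph.Set.univ X).isHomeomorph, hn] at h
      exact_mod_cast h.symm
    have hset : {z : X | f z = f (genericPoint X) ∧ genericPoint X ⤳ z} = Set.Iic (genericPoint X) :=
      Set.ext fun z => ⟨fun _ => genericPoint_specializes z,
        fun h => ⟨Subsingleton.elim (α := PrimeSpectrum k) _ _, h⟩⟩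
    rw [hset, ← Order.height_eq_krullDim_Iic, VarDim.height_eq_dimPt k (genericPoint X), h0]
    rfl

theorem dimFormula (k : Type u) [Field k] {X : Scheme.{u}} [X.Over (Spec (CommRingCat.of k))]
    (x : X) :
    ringKrullDim (X.presheaf.stalk x) =
      ringKrullDim (((X ↘ Spec (CommRingCat.of k)).fiber ((X ↘ Spec (CommRingCat.of k)) x)).presheaf.stalk
        ((X ↘ Spec (CommRingCat.of k)).asFiber x)) +
      ringKrullDim ((Spec (CommRingCat.of k)).presheaf.stalk ((X ↘ Spec (CommRingCat.of k)) x)) := by
  set f := X ↘ Spec (CommRingCat.of k)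
  have hfld : ∀ s : Spec (CommRingCat.of k), IsField ((Spec (CommRingCat.of k)).presheaf.stalk s) := by
    intro s
    obtain rfl : s = genericPoint (Spec (CommRingCat.of k)) := Subsingleton.elim (α := PrimeSpectrum k) _ _
    exact Field.toIsField (Spec (CommRingCat.of k)).functionField
  rw [ringKrullDim_eq_zero_of_isField (hfld _), add_zero]
  have key : ∀ (x' : X) (_ : x' = f.fiberι (f x) (f.asFiber x)),
      ringKrullDim ((f.fiber (f x)).presheaf.stalk (f.asFiber x)) = ringKrullDim (X.presheaf.stalk x') := by
    rintro _ rfl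
    refine (ringKrullDim_eq_of_ringEquiv (RingEquiv.ofBijective _
      ⟨?_, (f.fiberι (f x)).stalkMap_surjective (f.asFiber x)⟩)).symm
    rw [RingHom.injective_iff_ker_eq_bot, FlatMor.FibreStalk.ker_stalkMap_fiberι,
      IsLocalRing.isField_iff_maximalIdeal_eq.1 (hfld _), Ideal.map_bot]
  exact (key x (f.fiberι_asFiber x).symm).symm

/-- Let k be an algebraically closed field, X an irreducible scheme which is separated and of finite
type over k, n = dim X, and (Ω, d) a sheaf of relative differentials of X over k, i.e. d : O_X → Ω a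
universal k-derivation. Then Ω is locally free of rank n if and only if every local ring of X is
regular (X is a nonsingular variety over k). -/
theorem result (k : Type u) [Field k] [IsAlgClosed k] (n : ℕ)
    (X : Scheme.{u}) [X.Over (Spec (CommRingCat.of k))] [IrreducibleSpace ↥X]
    [IsSeparated (X ↘ (Spec (CommRingCat.of k)))] [LocallyOfFiniteType (X ↘ (Spec (CommRingCat.of k)))]
    [QuasiCompact (X ↘ (Spec (CommRingCat.of k)))]
    (hn : topologicalKrullDim ↥X = (n : WithBot ℕ∞))
    (Ω : X.Modules) (d : OmegaSh.Der (X ↘ (Spec (CommRingCat.of k))) Ω) (hd : OmegaSh.IsUniversal d) :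
    FlatMod.IsFinLocFreeOfRank n Ω ↔ ∀ x : ↥X, IsRegularLocalRing ↑(X.presheaf.stalk x) := by
  let f := X ↘ Spec (CommRingCat.of k)
  haveI : IsLocallyNoetherian (Spec (CommRingCat.of k)) := inferInstance
  haveI : LocallyOfFinitePresentation f :=
    LocallyOfFinitePresentation.iff_locallyOfFiniteType.2 inferInstance
  haveI : ConnectedSpace ↥(Spec (CommRingCat.of k)) := inferInstance
  have hS : ∀ s : Spec (CommRingCat.of k), IsRegularLocalRing ((Spec (CommRingCat.of k)).presheaf.stalk s) := by
    intro s
    obtain rfl : s = genericPoint (Spec (CommRingCat.of k)) := Subsingleton.elim (α := PrimeSpectrum k) _ _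
    letI : Field ((Spec (CommRingCat.of k)).presheaf.stalk (genericPoint (Spec (CommRingCat.of k)))) :=
      inferInstanceAs (Field (Spec (CommRingCat.of k)).functionField)
    infer_instance
  have key := fun x => S11581.result f hS Ω d hd x (dimFormula k x)
  constructor
  · intro h
    have htop : f.smoothLocus = ⊤ := top_le_iff.1 fun x _ => by
      obtain ⟨U, hxU, hU⟩ := h x
      exact (key x).2 ⟨U, n, hxU, hU, fibreDimAt_eq k n hn x⟩
    haveI : Smooth f := Scheme.Hom.smoothLocus_eq_top_iff.1 htop
    exact S15942.regular_of_smooth f hS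
  · intro hreg x
    haveI : Smooth f := FFCurve.smooth_of_regular f hreg
    obtain ⟨U, m, hxU, hU, hm⟩ := (key x).1 (by rw [f.smoothLocus_eq_top]; trivial)
    obtain rfl : m = n := by
      have := hm.symm.trans (fibreDimAt_eq k n hn x)
      exact_mod_cast this
    exact ⟨U, hxU, hU⟩

end Groth.Agent.S12422
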