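import Groth.Statements.S9126
import Groth.Agent.PtTop.Catenary
import Mathlib.RingTheory.Localization.Basic
import Mathlib.RingTheory.EssentialFiniteness
import Mathlib.RingTheory.FiniteType
import Mathlib.RingTheory.MvPolynomial.Localization
-- import your own Groth.Agent.* helpers here

set_option autoImplicit false
universe u
open CAlg

namespace Groth.Agent.S9126

/-- An algebra essentially of finite type over a Noetherian universally catenary ring is universally
catenary. -/
theorem result (A : Type u) [CommRing A] (B : Type u) [CommRing B]
    [Algebra A B] [Algebra.EssFiniteType A B]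
    (hA : CAlg.IsUniversallyCatenary A) : CAlg.IsUniversallyCatenary B := by
  classical
  open Groth.Agent.PtTop.Catenary in
  haveI := hA.1
  refine ⟨Algebra.EssFiniteType.isNoetherianRing A B, fun S _ _ hS => ?_⟩
  obtain ⟨n, φ, hφ⟩ := Algebra.FiniteType.iff_quotient_mvPolynomial''.mp hS
  let B0 := Algebra.EssFiniteType.subalgebra A B
  let M := Algebra.EssFiniteType.submonoid A B
  haveI : IsLocalization M B := inferInstance
  letI := MvPolynomial.algebraMvPolynomial (σ := Fin n) (R := B0) (S := B)
  haveI : IsLocalization (M.map (MvPolynomial.C (σ := Fin n))) (MvPolynomial (Fin n) B) := inferInstance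
  refine isCatenary_of_surjective φ.toRingHom hφ (isCatenary_of_isLocalization (M.map (MvPolynomial.C (σ := Fin n))) (MvPolynomial (Fin n) B) ?_)
  haveI : Algebra.FiniteType A B0 := inferInstance
  exact hA.2 _ (Algebra.FiniteType.trans (S := B0) inferInstance inferInstance)

end Groth.Agent.S9126
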