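import Groth.Statements.S17576
import Groth.Agent.CycLib.MapLib
import Groth.Agent.AlgSpD.RelDim
import Groth.Agent.CycLib.SchemeDim
import Groth.Agent.S9126
import Groth.Agent.S1855

set_option autoImplicit false
universe u
open CategoryTheory AlgebraicGeometry
open Bivar

namespace Groth.Agent.S17576

theorem exists_setup {A B : Scheme.{u}} (a : A ⟶ B) [LocallyOfFiniteType a] {δ : B → ℤ}
    (hB : Cyc.IsSetup B δ) : ∃ δA : A → ℤ, Cyc.IsSetup A δA ∧ Cyc.DeltaCompat a δA δ := by
  haveI := hB.1
  choose n m hm hh using fun x : A => AlgSpD.exists_fibre_dims a x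
  let δA : A → ℤ := fun x => δ (a x) + (m x : ℤ)
  have hc : Cyc.DeltaCompat a δA δ := fun x => ⟨m x, hm x, rfl⟩
  refine ⟨δA, ⟨LocallyOfFiniteType.isLocallyNoetherian a, fun x => ?_,
    CycLib.isDimFun_of_deltaCompat a hB.2.1 hB.2.2 hc⟩, hc⟩
  letI : Algebra (B.presheaf.stalk (a x)) (A.presheaf.stalk x) := (a.stalkMap x).hom.toAlgebra
  haveI : Algebra.EssFiniteType (B.presheaf.stalk (a x)) (A.presheaf.stalk x) :=
    LocallyOfFiniteType.stalkMap a x
  exact S9126.result _ _ (hB.2.1 (a x))

theorem isSetup_of_compat {A B : Scheme.{u}} (a : A ⟶ B) [LocallyOfFiniteType a] {δ : B → ℤ}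
    (hB : Cyc.IsSetup B δ) {δA : A → ℤ} (h : Cyc.DeltaCompat a δA δ) : Cyc.IsSetup A δA := by
  obtain ⟨δ', hs, hc⟩ := exists_setup a hB
  have e : δA = δ' := by
    funext x
    obtain ⟨n, hn, hn'⟩ := h x
    obtain ⟨m, hm, hm'⟩ := hc x
    have : n = m := by exact_mod_cast hn.symm.trans hm
    rw [hn', hm', this]
  exact e ▸ hs

/-- Proper push-forward respects classes. -/
theorem cl_map_eq {X Y : Scheme.{u}} {δX : X → ℤ} {δY : Y → ℤ} (hX : Cyc.IsSetup X δX)
    (hY : Cyc.IsSetup Y δY) (p : X ⟶ Y) [IsProper p] (hδ : Cyc.DeltaCompat p δX δY) (k : ℤ)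
    (α β : AlgebraicCycle X ℤ) (hα : α ∈ Cyc.Zk X δX k) (hβ : β ∈ Cyc.Zk X δX k)
    (h : ChowOps.cl α hα = ChowOps.cl β hβ) :
    ChowOps.cl (AlgebraicCycle.map p δX δY α) (Bivar.cycMap_mem_Zk p δX δY k hα) =
      ChowOps.cl (AlgebraicCycle.map p δX δY β) (Bivar.cycMap_mem_Zk p δX δY k hβ) := by
  let F : ↥(ChowOps.zk X δX k) →+ ChowOps.CH Y δY k :=
    { toFun := fun a => ChowOps.cl (AlgebraicCycle.map p δX δY a.1) (Bivar.cycMap_mem_Zk p δX δY k a.2)
      map_zero' := (Bivar.cl_congr (Bivar.cycMap_zero p δX δY) _ _).trans Bivar.cl_zero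
      map_add' := fun a b => (Bivar.cl_congr (Bivar.cycMap_add p δX δY a.1 b.1) _ _).trans
        (Bivar.cl_add _ _ (Bivar.cycMap_mem_Zk p δX δY k a.2) (Bivar.cycMap_mem_Zk p δX δY k b.2)) }
  have hker : ChowOps.ratTriv X δX k ≤ F.ker := by
    refine (AddSubgroup.closure_le _).2 fun a ha => ?_
    have h1 := Groth.Agent.S1855.result X Y δX δY hX hY p hδ k a.1 0 a.2 (ChowOps.zk X δX k).zero_mem
      (by rw [Cyc.RatEquiv, sub_zero]; exact ha)
    rw [Cyc.RatEquiv, Bivar.cycMap_zero, sub_zero] at h1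
    exact (QuotientAddGroup.eq_zero_iff _).2 (AddSubgroup.subset_closure h1)
  exact congrArg (QuotientAddGroup.lift _ F hker) h

theorem deltaCompat_cancel {X M Z : Scheme.{u}} (f : X ⟶ M) (g : M ⟶ Z) {δX : X → ℤ} {δM : M → ℤ}
    {δZ : Z → ℤ} (hfg : Cyc.DeltaCompat (f ≫ g) δX δZ) (hg : Cyc.DeltaCompat g δM δZ) :
    Cyc.DeltaCompat f δX δM := by
  intro x
  obtain ⟨n, hn, hn'⟩ := hfg x
  obtain ⟨m, hm, hm'⟩ := hg (f x)
  letI i₁ := (f.residueFieldMap x).hom.toAlgebra
  letI i₂ := (g.residueFieldMap (f x)).hom.toAlgebra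
  letI i₃ : Algebra (Z.residueField (g (f x))) (X.residueField x) :=
    ((f.residueFieldMap x).hom.comp (g.residueFieldMap (f x)).hom).toAlgebra
  haveI : IsScalarTower (Z.residueField (g (f x))) (M.residueField (f x)) (X.residueField x) :=
    IsScalarTower.of_algebraMap_eq' rfl
  haveI : FaithfulSMul (Z.residueField (g (f x))) (M.residueField (f x)) :=
    (faithfulSMul_iff_algebraMap_injective _ _).2 (algebraMap (Z.residueField (g (f x))) _).injective
  haveI : FaithfulSMul (M.residueField (f x)) (X.residueField x) :=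
    (faithfulSMul_iff_algebraMap_injective _ _).2 (algebraMap (M.residueField (f x)) _).injective
  have e := trdeg_add_eq (Z.residueField (g (f x))) (M.residueField (f x)) (A := X.residueField x)
  have hn2 : Algebra.trdeg (Z.residueField (g (f x))) (X.residueField x) = n := by
    rw [← hn]
    congr 1
    show RingHom.toAlgebra _ = RingHom.toAlgebra ((f ≫ g).residueFieldMap x).hom
    rw [Scheme.residueFieldMap_comp f g x]
    rfl
  rw [hn2, hm] at e
  obtain ⟨j, hj⟩ : ∃ j : ℕ, Algebra.trdeg (M.residueField (f x)) (X.residueField x) = j :=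
    Cardinal.lt_aleph0.1 (lt_of_le_of_lt (le_add_self.trans e.le) (Cardinal.natCast_lt_aleph0))
  refine ⟨j, hj, ?_⟩
  rw [hj] at e
  have e' : m + j = n := by exact_mod_cast e
  rw [hn', hm']
  show δZ (g (f x)) + (n : ℤ) = _
  omega

theorem surjective_residueFieldMap_of_eq {A B : Scheme.{u}} {f g : A ⟶ B} (e : g = f) (x : A)
    (h : Function.Surjective (f.residueFieldMap x).hom) : Function.Surjective (g.residueFieldMap x).hom := by
  subst e; exact h

theorem surjective_residueFieldMap_fst {A B C : Scheme.{u}} (m : A ⟶ B) (h : B ⟶ C) (x : A)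
    (hs : Function.Surjective ((m ≫ h).residueFieldMap x).hom) :
    Function.Surjective (h.residueFieldMap (m x)).hom := by
  intro z
  obtain ⟨c, hc⟩ := hs ((m.residueFieldMap x).hom z)
  refine ⟨c, (m.residueFieldMap x).hom.injective ?_⟩
  rw [Scheme.residueFieldMap_comp] at hc
  exact hc

theorem surjective_residueFieldMap_preimmersion {A B : Scheme.{u}} (i : A ⟶ B) [IsPreimmersion i] (x : A) :
    Function.Surjective (i.residueFieldMap x).hom := by
  intro z
  obtain ⟨c, rfl⟩ := IsLocalRing.residue_surjective z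
  obtain ⟨b, rfl⟩ := i.stalkMap_surjective x c
  exact ⟨IsLocalRing.residue _ b, rfl⟩

/-- Complete decomposedness is stable under base change. -/
theorem exists_lift {Y' Y₀ Y : Scheme.{u}} (g : Y' ⟶ Y) (g₀ : Y₀ ⟶ Y)
    (hcd : Cyc.IsCompletelyDecomposed g₀) (y : Y') :
    ∃ w : ↥(Limits.pullback g g₀), (Limits.pullback.fst g g₀) w = y ∧
      Function.Surjective ((Limits.pullback.fst g g₀).residueFieldMap w).hom := by
  obtain ⟨y₀, hy₀, hs⟩ := hcd (g y)
  haveI : IsIso (g₀.residueFieldMap y₀) :=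
    (ConcreteCategory.isIso_iff_bijective _).2 ⟨(g₀.residueFieldMap y₀).hom.injective, hs⟩
  let r : Y.residueField (g₀ y₀) ⟶ Y'.residueField y :=
    (Y.residueFieldCongr hy₀).hom ≫ g.residueFieldMap y
  let b : Spec (Y'.residueField y) ⟶ Y₀ :=
    Spec.map (inv (g₀.residueFieldMap y₀) ≫ r) ≫ Y₀.fromSpecResidueField y₀
  have hb : Y'.fromSpecResidueField y ≫ g = b ≫ g₀ := by
    show _ = (Spec.map _ ≫ _) ≫ _
    rw [Category.assoc, ← Scheme.Hom.SpecMap_residueFieldMap_fromSpecResidueField g₀, ← Spec.map_comp_assoc,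
      IsIso.hom_inv_id_assoc, ← Scheme.Hom.SpecMap_residueFieldMap_fromSpecResidueField g]
    simp [r, Spec.map_comp]
  let m := Limits.pullback.lift (Y'.fromSpecResidueField y) b hb
  let pt : Spec (Y'.residueField y) := IsLocalRing.closedPoint (Y'.residueField y)
  have hm : m ≫ Limits.pullback.fst g g₀ = Y'.fromSpecResidueField y := Limits.pullback.lift_fst _ _ _
  refine ⟨m pt, ?_, ?_⟩
  · rw [← Scheme.Hom.comp_apply, hm, Scheme.fromSpecResidueField_apply]
  · exact surjective_residueFieldMap_fst m _ pt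
      (surjective_residueFieldMap_of_eq hm pt
        (surjective_residueFieldMap_preimmersion (Y'.fromSpecResidueField y) pt))

/-- Cycles lift along a proper completely decomposed morphism. -/
theorem exists_map_eq {W V : Scheme.{u}} (h : W ⟶ V) [QuasiCompact h] (δW : W → ℤ) (δV : V → ℤ)
    (hδ : Cyc.DeltaCompat h δW δV) (σ : V → W) (hσ : ∀ y, h (σ y) = y)
    (hs : ∀ y, Function.Surjective (h.residueFieldMap (σ y)).hom) (k : ℤ) (α : AlgebraicCycle V ℤ)
    (hα : α ∈ Cyc.Zk V δV k) :
    ∃ β ∈ Cyc.Zk W δW k, AlgebraicCycle.map h δW δV β = α := by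
  classical
  let β : AlgebraicCycle W ℤ :=
    { toFun := fun w => if w = σ (h w) then α (h w) else 0
      supportWithinDomain' := fun _ _ => trivial
      supportLocallyFiniteWithinDomain' := fun w _ => by
        obtain ⟨U, hU, hfin⟩ := α.supportLocallyFiniteWithinDomain' (h w) trivial
        refine ⟨h ⁻¹' U, h.continuous.continuousAt.preimage_mem_nhds hU,
          (hfin.image σ).subset fun z hz => ?_⟩
        obtain ⟨hzU, hz0⟩ := hz
        by_cases hzσ : z = σ (h z)
        · refine ⟨h z, ⟨hzU, ?_⟩, hzσ.symm⟩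
          rw [Function.mem_support] at hz0 ⊢
          simpa [if_pos hzσ] using hz0
        · exact absurd (if_neg hzσ) hz0 }
  have hd : ∀ y, δW (σ y) = δV y := fun y => by
    rw [CycLib.delta_eq_of_surjective h hδ _ (hs y), hσ]
  refine ⟨β, fun w hw => ?_, ?_⟩
  · show (if w = σ (h w) then α (h w) else 0) = 0
    split_ifs with he
    · exact hα _ (by rw [← hd, ← he]; exact hw)
    · rfl
  · ext y
    rw [CycLib.map_apply_eq_sum h δW δV β y {σ y} (fun x hx hne => by
      rw [Finset.mem_singleton, ← hx]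
      by_contra hne'
      exact hne (if_neg hne'))]
    rw [Finset.filter_singleton, if_pos (hσ y), Finset.sum_singleton, AlgebraicCycle.mapCoeff,
      if_pos (show δW (σ y) = δV (h (σ y)) by rw [hσ, hd]), CycLib.residueDegree_eq_one h _ (hs y),
      Nat.cast_one, mul_one]
    show (if σ y = σ (h (σ y)) then α (h (σ y)) else 0) = α y
    simp only [hσ, if_true]

/-- Let f : X → Y be locally of finite type, g : Y' → Y an envelope (a proper, completely decomposed
morphism: over every point of Y lies a point of Y' with trivial residue field extension) and X' = Y'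
×_Y X. Then a bivariant class c ∈ A^p(X → Y) is determined by its restriction res(c) ∈ A^p(X' → Y'):
two classes with the same restriction along the square (g, X') are equal. (The existence part — a
class c' on X' → Y' whose two restrictions to X' ×_X X' → Y' ×_Y Y' agree descends — is not stated
here.) Here a pair (X, δ) with Cyc.IsSetup plays the role of a scheme locally of finite type over
the base (S, δ) (X locally Noetherian with universally catenary local rings, δ a dimension
function), Cyc.DeltaCompat records that a dimension function is the induced one, and bivariant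
classes are taken in the operational sense of the prelude: additive operations on the Chow groups
CH_k (k-cycles modulo rational equivalence) of all test schemes, compatible with proper pushforward,
flat pullback and the Gysin maps of zero schemes of sections of invertible modules in representative
form (Bivar.Cl for A^p(X → Y), Bivar.OpCl for A^p(X)). -/
theorem result (X Y : Scheme.{u}) (δX : X → ℤ) (δY : Y → ℤ) (hX : Cyc.IsSetup X δX) (hY : Cyc.IsSetup Y δY) (f : X ⟶ Y) [LocallyOfFiniteType f] (hδ : Cyc.DeltaCompat f δX δY) (p : ℤ) (s₀ : Bivar.Sq f δX δY) [IsProper s₀.g] (hcd : Cyc.IsCompletelyDecomposed s₀.g) (c₁ c₂ : Bivar.Cl p f δX δY) (heq : c₁.res s₀ = c₂.res s₀) : c₁ = c₂ := by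
  refine Bivar.Cl.ext (funext fun s => funext fun k => AddMonoidHom.ext fun x => ?_)
  haveI := s.lft
  obtain ⟨α, hα, rfl⟩ := Bivar.exists_rep x
  let h := Limits.pullback.fst s.g s₀.g
  let a := Limits.pullback.snd s.g s₀.g
  haveI : IsProper h := inferInstance
  haveI : LocallyOfFiniteType a := inferInstance
  haveI := s₀.lft
  haveI : LocallyOfFiniteType s₀.g' := MorphismProperty.of_isPullback (P := @LocallyOfFiniteType) s₀.isPullback inferInstance
  haveI : LocallyOfFiniteType s.g' := MorphismProperty.of_isPullback (P := @LocallyOfFiniteType) s.isPullback inferInstance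
  have hX₀ : Cyc.IsSetup s₀.X' s₀.δX' := isSetup_of_compat s₀.g' hX s₀.compatX
  obtain ⟨δW, -, hW⟩ := exists_setup a (isSetup_of_compat s₀.g hY s₀.compatY)
  obtain ⟨δZ, hZs, hZ⟩ := exists_setup (Limits.pullback.snd a s₀.f') hX₀
  let t : Bivar.Sq s₀.f' s₀.δX' s₀.δY' :=
    ⟨_, _, a, Limits.pullback.fst a s₀.f', Limits.pullback.snd a s₀.f', IsPullback.of_hasPullback _ _,
      inferInstance, δW, δZ, hW, hZ⟩
  have w1 : h ≫ s.g = a ≫ s₀.g := Limits.pullback.condition
  let h' : t.X' ⟶ s.X' := s.isPullback.lift (t.f' ≫ h) (t.g' ≫ s₀.g') (by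
    rw [Category.assoc, w1, ← Category.assoc, t.isPullback.w, Category.assoc, Category.assoc,
      s₀.isPullback.w])
  have w2 : h' ≫ s.f' = t.f' ≫ h := s.isPullback.lift_fst _ _ _
  have w3 : h' ≫ s.g' = t.g' ≫ s₀.g' := s.isPullback.lift_snd _ _ _
  have hbig : IsPullback t.f' (h' ≫ s.g') (h ≫ s.g) f := by
    rw [w3, w1]; exact (s₀.paste t).isPullback
  haveI : IsProper h' :=
    MorphismProperty.of_isPullback (P := @IsProper)
      (IsPullback.of_bot hbig w2.symm s.isPullback) inferInstance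
  have hcomp : Cyc.DeltaCompat (h ≫ s.g) δW δY := by rw [w1]; exact (s₀.paste t).compatY
  choose σ hσ hs using exists_lift s.g s₀.g hcd
  obtain ⟨β, hβ, rfl⟩ := exists_map_eq h δW s.δY' (deltaCompat_cancel h s.g hcomp s.compatY) σ hσ hs k α hα
  have e : c₁.op (s₀.paste t) k = c₂.op (s₀.paste t) k :=
    congrArg (fun c : Bivar.Cl p s₀.f' s₀.δX' s₀.δY' => c.op t k) heq
  obtain ⟨γ₁, hγ₁, e₁, f₁⟩ := c₁.push s (s₀.paste t) h h' w1 w2 w3 k β hβ
  obtain ⟨γ₂, hγ₂, e₂, f₂⟩ := c₂.push s (s₀.paste t) h h' w1 w2 w3 k β hβ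
  refine f₁.trans (Eq.trans ?_ f₂.symm)
  have hcompX : Cyc.DeltaCompat (h' ≫ s.g') t.δX' δX := by rw [w3]; exact (s₀.paste t).compatX
  exact cl_map_eq hZs (isSetup_of_compat s.g' hX s.compatX) h'
    (deltaCompat_cancel h' s.g' hcompX s.compatX) _ γ₁ γ₂ hγ₁ hγ₂
    (e₁.symm.trans ((DFunLike.congr_fun e _).trans e₂))

end Groth.Agent.S17576
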