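import Groth.Statements.S17573
import Groth.Agent.S17576
import Groth.Agent.CycLib.DevC1
import Groth.Agent.PicCl.Basic

set_option autoImplicit false
universe u
open CategoryTheory AlgebraicGeometry
open Bivar

namespace Groth.Agent.S17573

variable {Y : Scheme.{u}} {L : Y.Modules}

theorem mk_ne_zero_of_isBas {ξ : Y} {σ : L.presheaf.stalk ξ} (hσ : CycLib.Dev.IsBas σ) :
    (Submodule.Quotient.mk σ : Cyc.secFibre L ξ) ≠ 0 := by
  intro h
  rw [Submodule.Quotient.mk_eq_zero] at h
  have key : ∀ n ∈ IsLocalRing.maximalIdeal (Y.presheaf.stalk ξ) • (⊤ : Submodule (Y.presheaf.stalk ξ) (L.presheaf.stalk ξ)),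
      ∃ y ∈ IsLocalRing.maximalIdeal (Y.presheaf.stalk ξ), y • σ = n := by
    intro n0 hn0
    refine Submodule.smul_induction_on hn0 (fun r hr n _ => ?_) ?_
    · obtain ⟨c, rfl⟩ := hσ.2 n
      exact ⟨r * c, Ideal.mul_mem_right _ _ hr, mul_smul r c σ⟩
    · rintro a b ⟨ya, ha, rfl⟩ ⟨yb, hb, rfl⟩
      exact ⟨ya + yb, add_mem ha hb, add_smul ya yb σ⟩
  obtain ⟨y, hy⟩ := key σ h
  exact (Ideal.ne_top_iff_one _).1 (IsLocalRing.maximalIdeal.isMaximal _).ne_top
    ((hσ.1 (show y • σ = (1 : Y.presheaf.stalk ξ) • σ by rw [hy.2, one_smul])) ▸ hy.1)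

open CycLib.Dev in
theorem exists_secFibre_ne_zero (hL : PicF.IsInvertible L) :
    ∃ w : (ξ : Y) → Cyc.secFibre L ξ, ∀ ξ, w ξ ≠ 0 := by
  choose t ht using fun x : Y => exists_isBas hL x
  exact ⟨fun x => Submodule.Quotient.mk (t x), fun x => mk_ne_zero_of_isBas (ht x)⟩

/-- The identity is the zero scheme of the zero section of an invertible module. -/
theorem isZeroSchemeOf_id (hL : PicF.IsInvertible L) : Cyc.IsZeroSchemeOf (𝟙 Y) L 0 := by
  refine ⟨?_, fun d => ?_⟩
  · ext x
    simp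
  · obtain ⟨t, ht⟩ := CycLib.Dev.exists_isBas hL ((𝟙 Y : Y ⟶ Y) d)
    refine ⟨t, 0, eq_top_iff.2 fun v _ => Submodule.mem_span_singleton.2 (ht.2 v),
      (map_zero _).trans (zero_smul _ _).symm, ?_⟩
    rw [Ideal.span_singleton_eq_bot.2 rfl, ← RingHom.injective_iff_ker_eq_bot]
    exact (ConcreteCategory.isIso_iff_bijective ((𝟙 Y : Y ⟶ Y).stalkMap d)).1 inferInstance |>.1

theorem gysinChoice_zero (w : (ξ : Y) → Cyc.secFibre L ξ) : Cyc.gysinChoice L 0 w = w := by
  funext ξ
  simp [Cyc.gysinChoice]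

/-- The cap product of a cycle with the first Chern class exists as a cycle. -/
theorem exists_c1_cycle {δ : Y → ℤ} (hY : Cyc.IsSetup Y δ) (hL : PicF.IsInvertible L) {k : ℤ}
    (α : AlgebraicCycle Y ℤ) (hα : α ∈ Cyc.Zk Y δ k) (w : (ξ : Y) → Cyc.secFibre L ξ) (hw : ∀ ξ, w ξ ≠ 0) :
    ∃ γ : AlgebraicCycle Y ℤ, γ ∈ Cyc.Zk Y δ (k - 1) ∧ ⇑γ = Cyc.c1CapFun δ L ⇑α w := by
  haveI := hY.1
  exact (CycLib.Dev.isCyc_c1 hY.2.2 hL (k := k - 1)
    (by rw [sub_add_cancel]; exact CycLib.Dev.IsCyc.of_cycle α hα) w hw).exists_cycle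

/-- Let L be an invertible O_X-module and c_1(L) ∈ A^1(X) its first Chern class. Then c_1(L) is in the
centre of the ring A^*(X) of operational classes: for every operational class d ∈ A^q(X), every test
scheme g : Y → X locally of finite type (with induced dimension function) and every x ∈ CH_k(Y) one
has c_1(L) ∩ (d ∩ x) = d ∩ (c_1(L) ∩ x) in CH_{k−q−1}(Y). Here c_1(L) is given through the binder
Bivar.IsC1Class (on every test scheme it caps a cycle class to the class of c_1(g^*L) ∩ α computed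
with any nowhere-zero rational sections), and the two sides, of weights k − q − 1 and k − 1 − q, are
compared through the transport Bivar.chCast. Here a pair (X, δ) with Cyc.IsSetup plays the role of a
scheme locally of finite type over the base (S, δ) (X locally Noetherian with universally catenary
local rings, δ a dimension function), Cyc.DeltaCompat records that a dimension function is the
induced one, and bivariant classes are taken in the operational sense of the prelude: additive
operations on the Chow groups CH_k (k-cycles modulo rational equivalence) of all test schemes,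
compatible with proper pushforward, flat pullback and the Gysin maps of zero schemes of sections of
invertible modules in representative form (Bivar.Cl for A^p(X → Y), Bivar.OpCl for A^p(X)). -/
theorem result (X : Scheme.{u}) (δX : X → ℤ) (hX : Cyc.IsSetup X δX) (L : X.Modules) (c : Bivar.OpCl 1 X δX) (hc : Bivar.IsC1Class L c) (q : ℤ) (d : Bivar.OpCl q X δX) (s : Bivar.OSq X δX) (k : ℤ) (x : ChowOps.CH s.Y s.δ k) : c.op s (k - q) (d.op s k x) = Bivar.chCast s.Y s.δ (sub_right_comm k 1 q) (d.op s (k - 1) (c.op s k x)) := by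
  haveI := s.lft
  have hY : Cyc.IsSetup s.Y s.δ := S17576.isSetup_of_compat s.g hX s.compat
  have hL : PicF.IsInvertible ((Scheme.Modules.pullback s.g).obj L) := PicCl.isInvertible_pullback s.g hc.1
  obtain ⟨α, hα, rfl⟩ := Bivar.exists_rep x
  obtain ⟨w, hw⟩ := exists_secFibre_ne_zero hL
  obtain ⟨β, hβ, e, H⟩ := d.gysin s s (𝟙 s.Y) (Category.id_comp _) _ hL 0 (isZeroSchemeOf_id hL) k α hα
  obtain ⟨γ, hγ, hγ'⟩ := exists_c1_cycle hY hL α hα w hw
  obtain ⟨ζ, hζ, hζ', e2⟩ := H w hw γ
    (fun y => by rw [gysinChoice_zero, hγ']; rfl) hγ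
  have hζ'' : ⇑ζ = Cyc.c1CapFun s.δ ((Scheme.Modules.pullback s.g).obj L) ⇑β w := funext fun y => by
    rw [hζ' y, gysinChoice_zero]; rfl
  have hζk : ζ ∈ Cyc.Zk s.Y s.δ (k - q - 1) := sub_right_comm k 1 q ▸ hζ
  rw [e, hc.2 s (k - q) β hβ w hw ζ hζ'' hζk, hc.2 s k α hα w hw γ hγ' hγ, e2, Bivar.chCast_cl]

end Groth.Agent.S17573
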