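import Groth.Statements.S17574
import Groth.Agent.S17573

set_option autoImplicit false
universe u
open CategoryTheory AlgebraicGeometry
open Bivar

namespace Groth.Agent.S17574

open CycLib.Dev Groth.Agent.PullStalk.Sky Groth.Agent.PullStalk.Exact in
/-- The cap product with the first Chern class only depends on the module up to isomorphism. -/
theorem exists_transport {Z : Scheme.{u}} {δ : Z → ℤ} (hZ : Cyc.IsSetup Z δ) {M M' : Z.Modules}
    (hM : PicF.IsInvertible M) (hM' : PicF.IsInvertible M') (φ : M ≅ M') :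
    ∃ (v : (ξ : Z) → Cyc.secFibre M ξ) (v' : (ξ : Z) → Cyc.secFibre M' ξ), (∀ ξ, v ξ ≠ 0) ∧ (∀ ξ, v' ξ ≠ 0) ∧
      ∀ a : Z → ℤ, Cyc.c1CapFun δ M a v = Cyc.c1CapFun δ M' a v' := by
  haveI := hZ.1
  have hbas : ∀ (y : Z) {t : M.presheaf.stalk y}, IsBas t → IsBas (stalkLin φ.hom y t) := fun y t ht => by
    refine isBas_of_span hM' (eq_top_iff.2 fun v _ => ?_)
    obtain ⟨c, hc⟩ := ht.2 (stalkLin φ.inv y v)
    replace hc : c • t = stalkLin φ.inv y v := hc
    refine Submodule.mem_span_singleton.2 ⟨c, ?_⟩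
    obtain ⟨U, hU, m, rfl⟩ := exists_germM_eq M' y v
    rw [← map_smul, hc, stalkLin_germ, stalkLin_germ]
    refine congrArg (germM M' U y hU) ?_
    show (φ.inv ≫ φ.hom).app U m = m
    rw [φ.inv_hom_id]
    rfl
  choose σ hσ using fun x : Z => exists_isBas hM x
  refine ⟨fun x => Submodule.Quotient.mk (σ x), fun x => Submodule.Quotient.mk (stalkLin φ.hom x (σ x)),
    fun x => S17573.mk_ne_zero_of_isBas (hσ x), fun x => S17573.mk_ne_zero_of_isBas (hbas x (hσ x)),
    fun a => funext fun x => finsum_congr fun ξ => ?_⟩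
  congr 1
  by_cases h : ξ ⤳ x ∧ δ x + 1 = δ ξ
  swap
  · rw [Cyc.secDivFun, dif_neg h, Cyc.secDivFun, dif_neg h]
  obtain ⟨h, h1⟩ := h
  obtain ⟨t, ht⟩ := exists_isBas hM x
  obtain ⟨c, hc⟩ := (hσ ξ).2 (Ref1.sp M h t)
  replace hc : c • σ ξ = Ref1.sp M h t := hc
  rw [secDivFun_of_bas hZ.2.2 hM h rfl h1.symm (hσ ξ) ht hc.symm,
    secDivFun_of_bas hZ.2.2 hM' h rfl h1.symm (hbas ξ (hσ ξ)) (hbas x ht)
      (by rw [← stalkLin_sp, ← hc, map_smul])]

/-- Let f : X' → X be locally of finite type, L an invertible O_X-module, and c ∈ A^p(X' → X) a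
bivariant class. Then c ∘ c_1(L) = c_1(f^*L) ∘ c in A^{p+1}(X' → X): for every cartesian square (g :
Y → X, Y' = Y ×_X X', g' : Y' → X') with g locally of finite type and every x ∈ CH_k(Y), c ∩
(c_1(g^*L) ∩ x) = c_1((g')^*f^*L) ∩ (c ∩ x) in CH_{k−1−p}(Y'). Here the first Chern classes of L on
X and of f^*L on X' are given as operational classes cX ∈ A^1(X), cX' ∈ A^1(X') through the binder
Bivar.IsC1Class, evaluated on the test schemes Y → X and Y' → X' of the square (Y' → X' is locally
of finite type as a base change of g), and the two sides, of weights k − p − 1 and k − 1 − p, are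
compared through the transport Bivar.chCast. Here a pair (X, δ) with Cyc.IsSetup plays the role of a
scheme locally of finite type over the base (S, δ) (X locally Noetherian with universally catenary
local rings, δ a dimension function), Cyc.DeltaCompat records that a dimension function is the
induced one, and bivariant classes are taken in the operational sense of the prelude: additive
operations on the Chow groups CH_k (k-cycles modulo rational equivalence) of all test schemes,
compatible with proper pushforward, flat pullback and the Gysin maps of zero schemes of sections of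
invertible modules in representative form (Bivar.Cl for A^p(X → Y), Bivar.OpCl for A^p(X)). -/
theorem result (X X' : Scheme.{u}) (δX : X → ℤ) (δX' : X' → ℤ) (hX : Cyc.IsSetup X δX) (hX' : Cyc.IsSetup X' δX') (f : X' ⟶ X) [LocallyOfFiniteType f] (hδ : Cyc.DeltaCompat f δX' δX) (L : X.Modules) (cX : Bivar.OpCl 1 X δX) (hcX : Bivar.IsC1Class L cX) (cX' : Bivar.OpCl 1 X' δX') (hcX' : Bivar.IsC1Class ((Scheme.Modules.pullback f).obj L) cX') (p : ℤ) (c : Bivar.Cl p f δX' δX) (s : Bivar.Sq f δX' δX) (k : ℤ) (x : ChowOps.CH s.Y' s.δY' k) : c.op s (k - 1) (cX.op ⟨s.Y', s.g, s.lft, s.δY', s.compatY⟩ k x) = Bivar.chCast s.X' s.δX' (sub_right_comm k p 1) (cX'.op ⟨s.X', s.g', MorphismProperty.of_isPullback s.isPullback s.lft, s.δX', s.compatX⟩ (k - p) (c.op s k x)) := by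
  haveI := s.lft
  haveI : LocallyOfFiniteType s.g' := MorphismProperty.of_isPullback s.isPullback s.lft
  have hY : Cyc.IsSetup s.Y' s.δY' := S17576.isSetup_of_compat s.g hX s.compatY
  have hX'' : Cyc.IsSetup s.X' s.δX' := S17576.isSetup_of_compat s.g' hX' s.compatX
  have hL : PicF.IsInvertible ((Scheme.Modules.pullback s.g).obj L) := PicCl.isInvertible_pullback s.g hcX.1
  have hN : PicF.IsInvertible ((Scheme.Modules.pullback s.f').obj ((Scheme.Modules.pullback s.g).obj L)) :=
    PicCl.isInvertible_pullback s.f' hL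
  have hM : PicF.IsInvertible ((Scheme.Modules.pullback s.g').obj ((Scheme.Modules.pullback f).obj L)) :=
    PicCl.isInvertible_pullback s.g' hcX'.1
  obtain ⟨α, hα, rfl⟩ := Bivar.exists_rep x
  obtain ⟨w, hw⟩ := S17573.exists_secFibre_ne_zero hL
  obtain ⟨v, v', hv, hv', hvv⟩ := exists_transport hX'' hM hN
    (((Scheme.Modules.pullbackComp s.g' f).app L) ≪≫
      (Scheme.Modules.pullbackCongr s.isPullback.w.symm).app L ≪≫
      ((Scheme.Modules.pullbackComp s.f' s.g).app L).symm)
  obtain ⟨β, hβ, e, H⟩ := c.gysin s s (𝟙 s.Y') (𝟙 s.X') (Category.id_comp _)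
    (by rw [Category.id_comp, Category.comp_id]) (Category.id_comp _) _ hL 0 (S17573.isZeroSchemeOf_id hL)
    0 (S17573.isZeroSchemeOf_id hN) k α hα
  obtain ⟨γ, hγ, hγ'⟩ := S17573.exists_c1_cycle hY hL α hα w hw
  obtain ⟨ζ, hζ, hζ', e2⟩ := H w hw γ (fun y => by rw [S17573.gysinChoice_zero, hγ']; rfl) hγ v' hv'
  have hζ'' : ⇑ζ = Cyc.c1CapFun s.δX' ((Scheme.Modules.pullback s.g').obj ((Scheme.Modules.pullback f).obj L))
      ⇑β v := by
    rw [hvv]
    funext y
    rw [hζ' y, S17573.gysinChoice_zero]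
    rfl
  have hζk : ζ ∈ Cyc.Zk s.X' s.δX' (k - p - 1) := sub_right_comm k 1 p ▸ hζ
  rw [e, hcX.2 ⟨s.Y', s.g, s.lft, s.δY', s.compatY⟩ k α hα w hw γ hγ' hγ, e2,
    hcX'.2 ⟨s.X', s.g', MorphismProperty.of_isPullback s.isPullback s.lft, s.δX', s.compatX⟩ (k - p) β hβ v hv ζ
      hζ'' hζk, Bivar.chCast_cl]

end Groth.Agent.S17574
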