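import Groth.Statements.S8862
import Groth.Agent.IdealSh.GenericPts

set_option autoImplicit false
universe u
open CategoryTheory CategoryTheory.Limits AlgebraicGeometry TopologicalSpace
open SDiv

namespace Groth.Agent.S8862

/-- Let f : X ⟶ Y be a morphism of schemes with X reduced and 𝓘 the ideal sheaf of an effective Cartier
divisor D ⊆ Y. If f ξ ∉ D for every generic point ξ of an irreducible component of X (every point of
X with no proper generization), then the inverse image ideal sheaf of 𝓘 on X is the ideal of an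
effective Cartier divisor. -/
theorem result {X Y : Scheme.{u}} [IsReduced X] (f : X ⟶ Y) (𝓘 : Y.IdealSheafData)
    (hD : BlowUp.IsEffCartierIdeal 𝓘)
    (h : ∀ ξ : ↥X, (∀ y : ↥X, y ⤳ ξ → y = ξ) → f ξ ∉ 𝓘.support) :
    BlowUp.IsEffCartierIdeal (𝓘.comap f) := by
  refine IdealSh.EffCartier.comap_of_forall f hD fun U V e a _ he => ?_
  have hgerm : ∀ (x : X) (hxV : x ∈ V.1), f x ∉ 𝓘.support →
      IsUnit (X.presheaf.germ V.1 x hxV ((f.appLE U.1 V.1 e).hom a)) := by
    intro x hxV hns
    have h2 : f x ∈ Y.basicOpen a := by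
      rw [← SetLike.mem_coe, IdealSh.Regular.basicOpen_eq_compl_support he]
      exact ⟨e hxV, hns⟩
    have h3 : x ∈ X.basicOpen ((f.appLE U.1 V.1 e).hom a) := by
      rw [Scheme.basicOpen_appLE]
      exact ⟨hxV, h2⟩
    exact (Scheme.mem_basicOpen _ _ x hxV).mp h3
  rw [mem_nonZeroDivisors_iff_right]
  intro y hy
  refine IdealSh.GenericPts.eq_zero_of_germ_maximal y fun ξ hξV hmax => ?_
  have hz := congrArg (X.presheaf.germ V.1 ξ hξV) hy
  rw [map_mul, map_zero] at hz
  exact (hgerm ξ hξV (h ξ hmax)).mul_left_eq_zero.mp hz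

end Groth.Agent.S8862
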