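import Groth.Statements.S1617
import Groth.Agent.VarDim.Scheme

set_option autoImplicit false
universe u
open CategoryTheory CategoryTheory.Limits AlgebraicGeometry
open Variety

namespace Groth.Agent.S1617

/-- Let X be locally of finite type over a field k and x a closed point. Then the local dimension of X
at x (infimum of the dimensions of open neighbourhoods) equals the Krull dimension of the local ring
at x. -/
theorem result (k : Type u) [Field k] (X : Scheme.{u}) [X.Over (Spec (CommRingCat.of k))] [LocallyOfFiniteType (X ↘ (Spec (CommRingCat.of k)))] (x : X) (hx : IsClosed ({x} : Set X)) :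
    FlatMor.localDim X x = ringKrullDim (X.presheaf.stalk x) := by
  obtain ⟨n, hn, h⟩ := VarDim.localDim_eq_coheight_add k x
  have hmin : IsMin x := fun y hy => by
    have hy' : x ⤳ y := hy
    have : y ∈ ({x} : Set X) := hx.closure_eq ▸ specializes_iff_mem_closure.mp hy'
    rw [Set.mem_singleton_iff.mp this]
  have h0 : VarDim.dimPt k X x = 0 := by
    have := VarDim.height_eq_dimPt k x
    rw [Order.height_eq_zero.mpr hmin] at this
    exact_mod_cast this.symm
  rw [h, ringKrullDim_stalk_eq_coheight, hn, h0, add_zero]
  rfl

end Groth.Agent.S1617
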