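import Groth.Statements.S18573
import Mathlib
import Groth.Agent.ProperFin.PnBase
-- import your own Groth.Agent.* helpers here

set_option autoImplicit false
universe u
open CategoryTheory AlgebraicGeometry
open REq

namespace Groth.Agent.S18573

open CategoryTheory Limits

theorem irreducibleSpace_projSpace (n : ℕ) (K : Type u) [Field K] :
    IrreducibleSpace (CohB1.ProjSpace n K) := by
  let η : ProjectiveSpectrum (CohB1.polyGrading n K) :=
    { asHomogeneousIdeal := ⊥
      isPrime := by
        rw [HomogeneousIdeal.toIdeal_bot]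
        exact Ideal.isPrime_bot
      not_irrelevant_le := fun hle => by
        have hX : (MvPolynomial.X 0 : MvPolynomial (Fin (n + 1)) K) ∈
            (HomogeneousIdeal.irrelevant (CohB1.polyGrading n K)).toIdeal := by
          apply HomogeneousIdeal.mem_irrelevant_of_mem (CohB1.polyGrading n K) (i := 1) one_pos
          exact MvPolynomial.isHomogeneous_X K 0
        have : (MvPolynomial.X 0 : MvPolynomial (Fin (n + 1)) K) ∈
            (⊥ : HomogeneousIdeal (CohB1.polyGrading n K)).toIdeal := hle hX
        rw [HomogeneousIdeal.toIdeal_bot, Ideal.mem_bot] at this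
        exact MvPolynomial.X_ne_zero (R := K) (0 : Fin (n + 1)) this }
  have key : ∀ Z : Set (ProjectiveSpectrum (CohB1.polyGrading n K)), IsClosed Z → η ∈ Z → Z = Set.univ := by
    intro Z hZ hη
    obtain ⟨s, rfl⟩ := (ProjectiveSpectrum.isClosed_iff_zeroLocus _ Z).1 hZ
    refine Set.eq_univ_of_forall fun x => ?_
    rw [ProjectiveSpectrum.mem_zeroLocus] at hη ⊢
    intro a ha
    have := hη ha
    simp [η] at this
    subst this
    exact x.asHomogeneousIdeal.toIdeal.zero_mem
  have : IrreducibleSpace (ProjectiveSpectrum (CohB1.polyGrading n K)) :=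
    (irreducibleSpace_def _).2 (by
      rw [Set.top_eq_univ, ← key (closure {η}) isClosed_closure (subset_closure rfl)]
      exact isIrreducible_singleton.closure)
  exact this

theorem preirreducible_opens (K : Type u) [Field K] (U : (REq.P1K K).Opens) :
    IsPreirreducible (Set.univ : Set (U : Scheme.{u})) := by
  obtain ⟨e, -⟩ := Groth.Agent.ProperFin.exists_iso_projSpaceOver 1 K
  have := irreducibleSpace_projSpace 1 K
  have hirr : IsPreirreducible (Set.univ : Set (REq.P1K K)) := by
    have h := (IrreducibleSpace.isIrreducible_univ (CohB1.ProjSpace 1 K)).2.image e.inv.base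
      e.inv.continuous.continuousOn
    rwa [Set.image_univ, e.inv.surjective.range_eq] at h
  have : PreirreducibleSpace (REq.P1K K) := ⟨hirr⟩
  exact hirr.preimage U.ι.isOpenEmbedding

/-- Let Y be a scheme over a field k and K a field containing k. Let V and W be closed subsets of Y with
V ∪ W = Y such that no K-point of Y has its image in V ∩ W. If p is a K-point of Y lying in V and q
a K-point of Y lying in W, then p and q are not R-equivalent on Y. (The published step concerns
k-points of the special fibre of a proper flat scheme over a discrete valuation ring, that is K = k;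
this row is stated for any scheme Y over k and K-points for any field K containing k.) -/
theorem result (k : Type u) [Field k] (Y : Scheme.{u})
    (g : Y ⟶ Spec (CommRingCat.of k)) (K : Type u) [Field K] [Algebra k K]
    (V W : Set Y) (hV : IsClosed V) (hW : IsClosed W) (hVW : V ∪ W = Set.univ)
    (hT : ∀ z : REq.Pts g K, ¬ (Set.range z.1.base ⊆ V ∩ W))
    (p q : REq.Pts g K) (hp : Set.range p.1.base ⊆ V) (hq : Set.range q.1.base ⊆ W) :
    ¬ REq.REquiv g K p q := by
  intro hR
  have hsub : ∀ A : REq.Pts g K, ∃ y, Set.range A.1.base = {y} := fun A => by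
    have : Subsingleton (Spec (CommRingCat.of K)) := inferInstanceAs (Subsingleton (PrimeSpectrum K))
    obtain ⟨z⟩ : Nonempty (Spec (CommRingCat.of K)) := inferInstanceAs (Nonempty (PrimeSpectrum K))
    exact ⟨A.1.base z, Set.eq_singleton_iff_unique_mem.2 ⟨⟨z, rfl⟩, fun w ⟨z', hz'⟩ => by
      rw [← hz', Subsingleton.elim z' z]⟩⟩
  have hex : ∀ A : REq.Pts g K, Set.range A.1.base ⊆ V ↔ ¬ Set.range A.1.base ⊆ W := fun A => by
    obtain ⟨y, hy⟩ := hsub A
    have h1 := hT A
    have h2 : y ∈ V ∪ W := hVW ▸ Set.mem_univ y
    rw [hy, Set.singleton_subset_iff] at h1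
    rw [hy, Set.singleton_subset_iff, Set.singleton_subset_iff]
    exact ⟨fun hv hw => h1 ⟨hv, hw⟩, fun hw => h2.resolve_right hw⟩
  have key : ∀ A B : REq.Pts g K, REq.REquiv g K A B →
      (Set.range A.1.base ⊆ V ↔ Set.range B.1.base ⊆ V) := by
    intro A B h
    induction h with
    | refl => exact Iff.rfl
    | symm _ _ _ ih => exact ih.symm
    | trans _ _ _ _ _ ih1 ih2 => exact ih1.trans ih2
    | rel A B h =>
      obtain ⟨U, φ, a, b, -, -, -, ha, hb⟩ := h
      have hA : ∀ C : Set Y, Set.univ ⊆ φ.base ⁻¹' C →
          Set.range A.1.base ⊆ C ∧ Set.range B.1.base ⊆ C := fun C hC => by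
        constructor
        · rintro _ ⟨z, rfl⟩; rw [← ha]; exact hC (Set.mem_univ (a.base z))
        · rintro _ ⟨z, rfl⟩; rw [← hb]; exact hC (Set.mem_univ (b.base z))
      rcases (isPreirreducible_iff_isClosed_union_isClosed.1 (preirreducible_opens K U))
          (φ.base ⁻¹' V) (φ.base ⁻¹' W) (hV.preimage φ.continuous) (hW.preimage φ.continuous)
          (by rw [← Set.preimage_union, hVW, Set.preimage_univ]) with h' | h'
      · exact ⟨fun _ => (hA V h').2, fun _ => (hA V h').1⟩
      · exact ⟨fun h => absurd (hA W h').1 ((hex A).1 h), fun h => absurd (hA W h').2 ((hex B).1 h)⟩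
  exact (hex q).1 ((key p q hR).1 hp) hq

end Groth.Agent.S18573
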