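import Groth.Statements.S4466
import Groth.Agent.ProjTwist.Pn.Top
import Groth.Agent.ProjTwist.Pn.H0
import Groth.Agent.PlanePts.Forms

set_option autoImplicit false
universe u
open Coherent

namespace Groth.Agent.S4466

open AlgebraicGeometry CategoryTheory in
/-- Let k be a field, r > 0 and n any integer. Then the Euler characteristic of the twisting sheaf O(n)
on projective r-space over k, namely the alternating sum of the dimensions of H^j(P^r_k, O(n)) for 0
≤ j ≤ r, equals the binomial coefficient C(n+r, r), understood as the binomial polynomial evaluated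
at the integer n+r (so that it makes sense and is correct for negative n too). -/
theorem result (k : Type u) [Field k] (r : ℕ) (hr : 0 < r)
    (n : ℤ) :
    ((Finset.range (r + 1)).sum fun j => (-1 : ℤ) ^ j *
        (Module.finrank k (Coh.HH (CohB1.ProjSpace r k) (Twist.twistProjSpace r k n) j) : ℤ)) =
      Ring.choose (n + r) r := by
  open Groth.Agent.ProjTwist.Pn in
  have hmid : ∀ j, 1 ≤ j → j ≠ r → Module.finrank k
      (Coh.HH (CohB1.ProjSpace r k) (Twist.twistProjSpace r k n) j) = 0 := fun j h1 hj => by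
    obtain ⟨q, rfl⟩ := Nat.exists_eq_add_of_le' h1
    have := subsingleton_twist (n := r) (R := k) n q (Or.inl hj)
    exact Module.finrank_zero_of_subsingleton
  rcases le_or_gt 0 n with hn | hn
  · obtain ⟨d, rfl⟩ := Int.eq_ofNat_of_zero_le hn
    have h0 : Module.finrank k
        (Coh.HH (CohB1.ProjSpace r k) (Twist.twistProjSpace r k (d : ℤ)) 0) = (r + d).choose r :=
      (Groth.Agent.ProjTwist.Pn.h0Equiv r k d).finrank_eq.symm.trans
        (Groth.Agent.PlanePts.finrank_forms k r d)
    rw [Finset.sum_eq_single_of_mem 0 (by simp) fun j _ hj => ?_, h0, pow_zero, one_mul,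
      ← Nat.cast_add, Ring.choose_natCast, add_comm r d]
    · obtain ⟨q, rfl⟩ := Nat.exists_eq_add_of_le' (Nat.one_le_iff_ne_zero.2 hj)
      have := Groth.Agent.ProjTwist.Pn.subsingleton_twist (n := r) (R := k) (d : ℤ) q
        (Or.inr (by omega))
      rw [Module.finrank_zero_of_subsingleton, Nat.cast_zero, mul_zero]
  · have := Groth.Agent.ProjTwist.Pn.subsingleton_H0 (n := r) (R := k) (d := n) hr hn
    rw [Finset.sum_eq_single_of_mem r (by simp) fun j _ hj => ?_]
    swap
    · rcases Nat.eq_zero_or_pos j with rfl | h1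
      · rw [Module.finrank_zero_of_subsingleton, Nat.cast_zero, mul_zero]
      · rw [hmid j h1 hj, Nat.cast_zero, mul_zero]
    rcases le_or_gt (-(r : ℤ)) n with hn' | hn'
    · obtain ⟨q, rfl⟩ := Nat.exists_eq_add_of_le' hr
      have := Groth.Agent.ProjTwist.Pn.subsingleton_twist (n := q + 1) (R := k) n q
        (Or.inr (by omega))
      obtain ⟨m, hm⟩ := Int.eq_ofNat_of_zero_le (show 0 ≤ n + ((q + 1 : ℕ) : ℤ) by omega)
      rw [Module.finrank_zero_of_subsingleton, Nat.cast_zero, mul_zero, hm, Ring.choose_natCast,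
        Nat.choose_eq_zero_of_lt (by omega), Nat.cast_zero]
    · obtain ⟨m, hm⟩ := Int.eq_ofNat_of_zero_le (show 0 ≤ -((r : ℤ) + 1) - n by omega)
      obtain rfl : n = -((r : ℤ) + 1 + m) := by omega
      have h0 : Module.finrank k (Coh.HH (CohB1.ProjSpace r k)
          (Twist.twistProjSpace r k (-((r : ℤ) + 1 + m))) r) = (r + m).choose r :=
        (Groth.Agent.ProjTwist.Pn.topEquiv r k m).finrank_eq.trans
          (Groth.Agent.PlanePts.finrank_forms k r m)
      rw [h0, show -((r : ℤ) + 1 + m) + r = -((m : ℤ) + 1) by ring, Ring.choose_neg,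
        show ((m : ℤ) + 1 + r - 1) = ((r + m : ℕ) : ℤ) by push_cast; ring, Ring.choose_natCast]
      simp [Int.negOnePow, Units.smul_def]

end Groth.Agent.S4466
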