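import Groth.Statements.S4992
import Groth.Agent.Omega.SmoothFibreDim
-- import your own Groth.Agent.* helpers here

set_option autoImplicit false
universe u
open CategoryTheory CategoryTheory.Limits AlgebraicGeometry TopologicalSpace
open Unram17

namespace Groth.Agent.S4992

/-- Let f : X ⟶ Y and g : Y ⟶ Z be smooth. For every point x of X, the local dimension at x of the fibre
of f ≫ g through x equals the local dimension at x of the fibre of f through x plus the local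
dimension at f(x) of the fibre of g through f(x). -/
theorem result {X Y Z : Scheme.{u}} (f : X ⟶ Y) (g : Y ⟶ Z) [Smooth f] [Smooth g]
    (x : ↥X) :
    FlatMor.fibreDimAt (f ≫ g) x = FlatMor.fibreDimAt f x + FlatMor.fibreDimAt g (f.base x) := by
  obtain ⟨W, hW, hxW⟩ := Omega.SmoothFibreDim.exists_mem (g (f x))
  obtain ⟨V, hV, hxV, eV⟩ := Omega.SmoothFibreDim.exists_nhd g (f x) hxW
  obtain ⟨U, hU, hxU, eU⟩ := Omega.SmoothFibreDim.exists_nhd f x hxV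
  obtain ⟨Q, rfl⟩ := Omega.SmoothFibreDim.exists_pt hU hxU
  have e : U ≤ (f ≫ g) ⁻¹ᵁ W := fun z hz => eV (eU hz)
  letI : Algebra Γ(Z, W) Γ(Y, V) := (g.appLE W V eV).hom.toAlgebra
  letI : Algebra Γ(Y, V) Γ(X, U) := (f.appLE V U eU).hom.toAlgebra
  letI : Algebra Γ(Z, W) Γ(X, U) := ((f ≫ g).appLE W U e).hom.toAlgebra
  have hc : g.appLE W V eV ≫ f.appLE V U eU = (f ≫ g).appLE W U e :=
    Scheme.Hom.appLE_comp_appLE f g W V U eV eU
  haveI : IsScalarTower Γ(Z, W) Γ(Y, V) Γ(X, U) :=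
    IsScalarTower.of_algebraMap_eq' (congrArg CommRingCat.Hom.hom hc).symm
  haveI : Algebra.Smooth Γ(Z, W) Γ(Y, V) :=
    RingHom.smooth_algebraMap.mp (HasRingHomProperty.appLE @Smooth g ‹_› ⟨W, hW⟩ ⟨V, hV⟩ eV)
  haveI : Algebra.Smooth Γ(Y, V) Γ(X, U) :=
    RingHom.smooth_algebraMap.mp (HasRingHomProperty.appLE @Smooth f ‹_› ⟨V, hV⟩ ⟨U, hU⟩ eU)
  haveI : Algebra.Smooth Γ(Z, W) Γ(X, U) :=
    RingHom.smooth_algebraMap.mp (HasRingHomProperty.appLE @Smooth (f ≫ g) inferInstance ⟨W, hW⟩ ⟨U, hU⟩ e)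
  have h1 : f (hU.fromSpec Q) = hV.fromSpec (Spec.map (f.appLE V U eU) Q) := by
    rw [← Scheme.Hom.comp_apply, ← Scheme.Hom.comp_apply, hV.SpecMap_appLE_fromSpec f hU eU]
  rw [← Omega.SmoothFibreDim.fibreDimAt_appLE (f ≫ g) hW hU e,
    ← Omega.SmoothFibreDim.fibreDimAt_appLE f hV hU eU,
    show f.base (hU.fromSpec Q) = _ from h1, ← Omega.SmoothFibreDim.fibreDimAt_appLE g hW hV eV]
  erw [Omega.SmoothFibreDim.fibreDimAt_spec Γ(Z, W) Γ(X, U) Q,
    Omega.SmoothFibreDim.fibreDimAt_spec Γ(Y, V) Γ(X, U) Q, Omega.SmoothFibreDim.fibreDimAt_spec Γ(Z, W) Γ(Y, V)]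
  rw [Omega.SmoothFibreDim.rankAtStalk_kaehler_comp Γ(Z, W) Γ(Y, V) Γ(X, U) Q, Nat.cast_add]
  rfl

end Groth.Agent.S4992
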