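import Groth.Statements.S2092
import Groth.Agent.GeomFieldLib.CMTensor
-- import your own Groth.Agent.* helpers here

set_option autoImplicit false
universe u
open CAlg

namespace Groth.Agent.S2092

/-- Case `M = R`: if `R` is a Cohen–Macaulay ring then so is the polynomial ring `R[x_1, …, x_n]`. -/
theorem result {R : Type u} [CommRing R] [LocCoh.IsCohenMacaulayRing R] (n : ℕ) :
    LocCoh.IsCohenMacaulayRing (MvPolynomial (Fin n) R) := by
  refine Groth.Agent.GeomFieldLib.isCohenMacaulayRing_of_flat R (MvPolynomial (Fin n) R) inferInstance fun p _ => ?_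
  have := Groth.Agent.GeomFieldLib.isCohenMacaulayRing_of_isRegularRing (MvPolynomial (Fin n) p.ResidueField)
  exact Groth.Agent.GeomFieldLib.isCohenMacaulayRing_of_ringEquiv
    (MvPolynomial.algebraTensorAlgEquiv R p.ResidueField).symm.toRingEquiv this

end Groth.Agent.S2092
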