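import Groth.Statements.S12474
import Groth.Agent.ProjBundleLib.BaseChange
-- import your own Groth.Agent.* helpers here

set_option autoImplicit false
universe u
open CategoryTheory CategoryTheory.Limits AlgebraicGeometry TopologicalSpace Opposite
open scoped HomogeneousIdeal
open EGA2

namespace Groth.Agent.S12474

/-- Let f : X → Y and g : Y' → Y be morphisms of schemes and let X', with g' : X' → X and f' : X' → Y',
be a fibre product of X and Y' over Y (the square is cartesian). If L is an invertible O_X-module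
which is very ample relative to f (isomorphic to the inverse image of O(1) along a Y-immersion of X
into the projective bundle P(E) of a quasi-coherent O_Y-module E), then the inverse image g'^*L is
very ample relative to f'. -/
theorem result {X Y X' Y' : Scheme.{u}} (f : X ⟶ Y) (g : Y' ⟶ Y) (g' : X' ⟶ X) (f' : X' ⟶ Y')
    (hsq : IsPullback g' f' f g) (L : X.Modules) (hL : PicF.IsInvertible L) (hva : RelProj.IsRelVeryAmple f L) :
    RelProj.IsRelVeryAmple f' ((Scheme.Modules.pullback g').obj L) := by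
  obtain ⟨E, hE, 𝒮, j, hj, P, p, chart, hP, O1, lam, hO1, i, hi, hip, ⟨e⟩⟩ := hva
  have : E.IsQuasicoherent := hE
  obtain ⟨φ, hφ⟩ := ProjBundleLib.exists_isCan hj hO1 hP
  obtain ⟨B'⟩ := ProjBundleLib.exists_bundle ((Scheme.Modules.pullback g).obj E)
  obtain ⟨θ, hθ, ⟨τ⟩⟩ := ProjBundleLib.exists_baseChange (ψ := g) ⟨𝒮, j, hj, P, p, chart, hP, O1, lam, hO1, φ, hφ⟩ B'
  have hab : (g' ≫ i) ≫ p = f' ≫ g := by rw [Category.assoc, hip]; exact hsq.w
  let c : X' ⟶ B'.P := hθ.lift (g' ≫ i) f' hab
  have h1 : IsPullback g' c i θ :=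
    IsPullback.of_bot (by rw [hθ.lift_snd, hip]; exact hsq) (hθ.lift_fst _ _ hab).symm hθ
  have : IsImmersion i := hi
  have hc : IsImmersion c := MorphismProperty.of_isPullback h1 inferInstance
  refine ⟨_, inferInstance, B'.alg, B'.j, B'.hj, B'.P, B'.p, B'.chart, B'.hP, B'.O1, B'.lam, B'.hO1, c, hc,
    hθ.lift_snd _ _ _, ⟨?_⟩⟩
  exact (Scheme.Modules.pullback g').mapIso e ≪≫ (Scheme.Modules.pullbackComp g' i).app O1 ≪≫
    (Scheme.Modules.pullbackCongr (hθ.lift_fst _ _ hab).symm).app O1 ≪≫
    ((Scheme.Modules.pullbackComp c θ).app O1).symm ≪≫ (Scheme.Modules.pullback c).mapIso τ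

end Groth.Agent.S12474
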