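import Groth.Statements.S12467
import Groth.Agent.ProjBundleLib.PushId
import Groth.Agent.ProjBundleLib.Tensor
import Groth.Agent.S12474
-- import your own Groth.Agent.* helpers here

set_option autoImplicit false
universe u
open CategoryTheory CategoryTheory.Limits AlgebraicGeometry TopologicalSpace Opposite
open scoped HomogeneousIdeal
open EGA2

namespace Groth.Agent.S12467

/-- Let q : X → Y be a quasi-compact morphism, L an invertible O_X-module and (U_i) a cover of Y by open
subsets. Then L is very ample relative to q (isomorphic to i^*O_{P(E)}(1) for a Y-immersion i of X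
into the projective bundle of a quasi-coherent O_Y-module E) if and only if, for every i, the
restriction of L to q⁻¹(U_i) is very ample relative to the restriction q⁻¹(U_i) → U_i of q. (The
published statement asks for one such open cover; this row states the equivalence for every open
cover, which is what the published proof, the locality on Y of the defining condition, establishes.) -/
theorem result {X Y : Scheme.{u}} (q : X ⟶ Y) [QuasiCompact q] (L : X.Modules)
    (hL : PicF.IsInvertible L) {ι : Type u} (U : ι → Y.Opens) (hU : ⨆ i, U i = ⊤) :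
    RelProj.IsRelVeryAmple q L ↔
      ∀ i, RelProj.IsRelVeryAmple (q ∣_ (U i)) (L.restrict (q ⁻¹ᵁ (U i)).ι) := by
  constructor
  · intro h i
    exact ProjBundleLib.isRelVeryAmple_of_iso
      (((Scheme.Modules.restrictFunctorIsoPullback (q ⁻¹ᵁ (U i)).ι).app L).symm)
      (S12474.result q (U i).ι (q ⁻¹ᵁ (U i)).ι (q ∣_ (U i)) (isPullback_morphismRestrict q (U i)).flip L hL h)
  intro h
  have hsep : IsSeparated q := (IsZariskiLocalAtTarget.iff_of_iSup_eq_top (P := @IsSeparated) U hU).2
    fun i => ProjBundleLib.isSeparated_of_isRelVeryAmple (h i)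
  have := ProjBundleLib.isQuasicoherent_push (g := q) hL
  have H : ∀ x : X, ∃ (V : Y.Opens) (_ : IsAffineOpen V)
      (e : Γ((Scheme.Modules.pushforward q).obj L, V)),
      x ∈ ProjBundleLib.gLoc (𝟙 ((Scheme.Modules.pushforward q).obj L)) V e ∧
        ProjBundleLib.SubImm (ProjBundleLib.gLoc (𝟙 ((Scheme.Modules.pushforward q).obj L)) V e)
          (ProjBundleLib.coefRing (𝟙 ((Scheme.Modules.pushforward q).obj L)) V e
            (ProjBundleLib.gLoc (𝟙 ((Scheme.Modules.pushforward q).obj L)) V e)) := by
    intro x
    obtain ⟨i, hi⟩ := Opens.mem_iSup.mp (hU.ge (trivial : q x ∈ (⊤ : Y.Opens)))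
    obtain ⟨E, hE, v, hv, hc⟩ := ProjBundleLib.exists_of_isRelVeryAmple (h i)
    exact ProjBundleLib.exists_frame_push (ι := (U i).ι) (κ := (q ⁻¹ᵁ (U i)).ι)
      (fun W => (image_morphismRestrict_preimage q (U i) W).ge) (morphismRestrict_ι q (U i)) hv hc ⟨x, hi⟩
  have hv := ProjBundleLib.gens_of_frames (v := 𝟙 ((Scheme.Modules.pushforward q).obj L)) hL fun x => by
    obtain ⟨V, -, e, hx, -⟩ := H x
    exact ⟨V, e, _, hx, ProjBundleLib.frame_gLoc⟩
  exact ProjBundleLib.isRelVeryAmple_of hv (ProjBundleLib.clsImm_of_subImm hv H)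

end Groth.Agent.S12467
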