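import Groth.Statements.S12479
import Groth.Agent.ProjBundleLib.AmpleVA
import Groth.Agent.S12467
-- import your own Groth.Agent.* helpers here

set_option autoImplicit false
universe u
open CategoryTheory CategoryTheory.Limits AlgebraicGeometry TopologicalSpace Opposite
open scoped HomogeneousIdeal
open EGA2

namespace Groth.Agent.S12479

/-- Let Y be a quasi-compact scheme, f : X → Y a morphism of finite type, L an invertible O_X-module
which is ample relative to f and L' an invertible O_X-module. Then there is an integer n₀ such that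
for every n ≥ n₀ the module L^{⊗n} ⊗ L' is very ample relative to f (isomorphic to the inverse image
of O(1) along a Y-immersion of X into the projective bundle P(E) of a quasi-coherent O_Y-module E). -/
theorem result {X Y : Scheme.{u}} [CompactSpace Y] (f : X ⟶ Y)
    [QuasiCompact f] [LocallyOfFiniteType f] (L L' : X.Modules) (hL : PicF.IsInvertible L) (hL' : PicF.IsInvertible L')
    (h : RelAmple.IsRelAmple f L) :
    ∃ n₀ : ℕ, ∀ n : ℕ, n₀ ≤ n → RelProj.IsRelVeryAmple f (CohB1.tensorMod (CohB1.tensorPow L n) L') := by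
  classical
  obtain ⟨s, hcov⟩ := (isCompact_univ (X := Y)).elim_finite_subfamily_closed
    (fun V : Y.affineOpens => ((V.1 : Set Y))ᶜ) (fun V => V.1.2.isClosed_compl) (by
      ext y
      simp only [Set.univ_inter, Set.mem_iInter, Set.mem_compl_iff, Set.mem_empty_iff_false, iff_false, not_forall,
        not_not]
      obtain ⟨V, hV, hy, -⟩ := exists_isAffineOpen_mem_and_subset (X := Y) (x := y) (U := ⊤) trivial
      exact ⟨⟨V, hV⟩, hy⟩)
  have key : ∀ V : Y.affineOpens, ∃ n₀ : ℕ, ∀ n, n₀ ≤ n → RelProj.IsRelVeryAmple (f ∣_ V.1)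
      ((CohB1.tensorMod (CohB1.tensorPow L n) L').restrict (f ⁻¹ᵁ V.1).ι) := by
    intro V
    have : IsAffine V.1.toScheme := V.2
    let j := (f ⁻¹ᵁ V.1).ι
    have hA : CohB1.IsAmple ((Scheme.Modules.pullback j).obj L) :=
      AmpleLib.isAmple_of_iso ((Scheme.Modules.restrictFunctorIsoPullback j).app L) (h.2 V)
    obtain ⟨n₀, hn₀⟩ := ProjBundleLib.eventually_veryAmple (g := f ∣_ V.1)
      (PicCl.isInvertible_pullback j hL) (PicCl.isInvertible_pullback j hL')
      (AmpleLib.isRelAmple_of_isAmple _ hA)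
    refine ⟨n₀, fun n hn => ?_⟩
    obtain ⟨e⟩ := AmpleLib.exists_iso_pullback_tensorPow j hL n
    refine ProjBundleLib.isRelVeryAmple_of_iso ?_ (hn₀ n hn)
    exact ProjTwist.tensCongr e.symm (Iso.refl _) ≪≫
      (asIso (KFlat.PullTensor.pullTensor j (CohB1.tensorPow L n) L')).symm ≪≫
      ((Scheme.Modules.restrictFunctorIsoPullback j).app _).symm
  choose N hN using key
  refine ⟨s.sup N, fun n hn => ?_⟩
  have hI := AmpleLib.isInvertible_tensorMod (AmpleLib.isInvertible_tensorPow hL n) hL'
  refine (S12467.result f _ hI (fun V : s => V.1.1) ?_).2 fun V => hN V.1 n ((Finset.le_sup V.2).trans hn)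
  refine eq_top_iff.2 fun y _ => Opens.mem_iSup.2 ?_
  by_contra hne
  have hy : y ∈ Set.univ ∩ ⋂ V ∈ s, ((V.1 : Set Y))ᶜ :=
    ⟨trivial, Set.mem_iInter₂.2 fun V hV hyV => hne ⟨⟨V, hV⟩, hyV⟩⟩
  rwa [hcov] at hy

end Groth.Agent.S12479
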