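import Groth.Statements.S4418
import Groth.Agent.ProjBundleLib.VAmple
import Groth.Agent.ProjBundleLib.Projective
-- import your own Groth.Agent.* helpers here

set_option autoImplicit false
universe u
open CategoryTheory CategoryTheory.Limits AlgebraicGeometry
open EGA2

namespace Groth.Agent.S4418

/-- Every projective morphism f : X → Y is quasi-projective (of finite type with an f-ample module) and
proper. -/
theorem result {X Y : Scheme.{u}} (f : X ⟶ Y) (hf : RelProj.IsProjective f) :
    RelProj.IsQuasiProjective f ∧ IsProper f := by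
  have hp := ProjMor.isProper_of_isProjective hf
  refine ⟨?_, hp⟩
  obtain ⟨E, hE, B, i, hft, hi, hip⟩ := ProjBundleLib.exists_of_isProjective hf
  have : E.IsQuasicoherent := hE
  have : IsClosedImmersion i := hi
  refine ⟨inferInstance, inferInstance, (Scheme.Modules.pullback i).obj B.O1,
    ProjBundleLib.isRelAmple_of_isRelVeryAmple (PicCl.isInvertible_pullback i (ProjBundleLib.isInvertible_O1 B)) ?_⟩
  exact ⟨E, hE, B.alg, B.j, B.hj, B.P, B.p, B.chart, B.hP, B.O1, B.lam, B.hO1, i, inferInstance, hip, ⟨Iso.refl _⟩⟩

end Groth.Agent.S4418
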