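import Groth.Statements.S1695
import Groth.Agent.BlowUp.Existence

set_option autoImplicit false
universe u
open CategoryTheory CategoryTheory.Limits AlgebraicGeometry TopologicalSpace
open SDiv

namespace Groth.Agent.S1695

/-- Let A be a ring, I an ideal, and b : X' ⟶ Spec A a blowing-up of Spec A along the ideal sheaf of I.
Then every point of X' has an open neighbourhood which is isomorphic, over Spec A, to the spectrum
of an affine blow-up algebra A[I/a] for some a ∈ I. -/
theorem result (A : Type u) [CommRing A] (I : Ideal A) {X' : Scheme.{u}}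
    (b : X' ⟶ Spec (CommRingCat.of A)) (hb : BlowUp.IsBlowUp b (Scheme.IdealSheafData.ofIdealTop (I.map (Scheme.ΓSpecIso (CommRingCat.of A)).inv.hom))) (x' : ↥X') :
    ∃ (a : A) (_ : a ∈ I) (V : X'.Opens) (e : (V : Scheme.{u}) ≅ Spec (CommRingCat.of ↥(BlowUp.affineAlgebra A I a))),
      x' ∈ V ∧ e.hom ≫ Spec.map (CommRingCat.ofHom (algebraMap A ↥(BlowUp.affineAlgebra A I a))) = V.ι ≫ b := by
  obtain ⟨e, he⟩ := Groth.Agent.BlowUp.Basic.exists_iso hb
    (Groth.Agent.BlowUp.Existence.isBlowUp_proj I)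
  obtain ⟨a, ha⟩ := Opens.mem_iSup.mp
    ((Groth.Agent.BlowUp.ProjRees.iSup_opensRange_chart I).ge (trivial : e.inv x' ∈ ⊤))
  let φ := Groth.Agent.BlowUp.ProjRees.chart I a.2 ≫ e.hom
  refine ⟨(a : A), a.2, φ.opensRange, φ.isoOpensRange.symm, ?_, ?_⟩
  · obtain ⟨y, hy⟩ := ha
    refine ⟨y, ?_⟩
    change (Groth.Agent.BlowUp.ProjRees.chart I a.2 ≫ e.hom) y = x'
    rw [Scheme.Hom.comp_apply, hy, ← Scheme.Hom.comp_apply, Iso.inv_hom_id]
    rfl
  · have h : φ ≫ b = Groth.Agent.BlowUp.AffineChart.toBase I (a : A) := by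
      simp only [φ, Category.assoc, he, Groth.Agent.BlowUp.ProjRees.chart_over]
    calc φ.isoOpensRange.inv ≫ Groth.Agent.BlowUp.AffineChart.toBase I (a : A)
        = φ.isoOpensRange.inv ≫ φ ≫ b := by rw [h]
      _ = φ.opensRange.ι ≫ b := by
        rw [← Category.assoc]
        congr 1
        rw [Iso.inv_comp_eq]
        exact (Scheme.Hom.isoOpensRange_hom_ι φ).symm

end Groth.Agent.S1695
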