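import Groth.Statements.S14586
import Groth.Agent.GrpdLib.OrbitQuot
import Groth.Agent.GrpScheme.ClosedImage
import Mathlib.AlgebraicGeometry.AlgClosed.Basic

set_option autoImplicit false
universe u
open CategoryTheory MonoidalCategory CartesianMonoidalCategory MonObj GrpObj AlgebraicGeometry CategoryTheory.Limits
open AlgGrp

namespace Groth.Agent.S14586

variable {k : Type u} [Field k] [IsAlgClosed k]

lemma exists_pt {Y : Over (Spec (CommRingCat.of k))} [LocallyOfFiniteType Y.hom] {y : Y.left}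
    (hy : IsClosed ({y} : Set Y.left)) :
    ∃ p : 𝟙_ (Over (Spec (CommRingCat.of k))) ⟶ Y, p.left (IsLocalRing.closedPoint k) = y :=
  ⟨Over.homMk _ ((pointEquivClosedPoint Y.hom).symm ⟨y, hy⟩).2, pointOfClosedPoint_apply Y.hom y hy _⟩

variable {G X : Over (Spec (CommRingCat.of k))} [GrpObj G] (a : AlgGrp.Action G X)

/-- The orbit of a point. -/
abbrev orb (x : 𝟙_ (Over (Spec (CommRingCat.of k))) ⟶ X) : Set X.left := Set.range (a.orbitMap x).left

lemma mem_orb_iff [LocallyOfFiniteType G.hom] [LocallyOfFiniteType X.hom] (x : 𝟙_ _ ⟶ X) {z : X.left} (hz : IsClosed ({z} : Set X.left)) :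
    z ∈ orb a x ↔ ∃ h : 𝟙_ _ ⟶ G, (GrpScheme.Basic.smul a h x).left (IsLocalRing.closedPoint k) = z := by
  have hcomp : ∀ h : 𝟙_ _ ⟶ G, GrpScheme.Basic.smul a h x = h ≫ a.orbitMap x := fun h => by
    rw [GrpdLib.OrbitQuot.comp_orbitMap, toUnit_unique (toUnit (𝟙_ _)) (𝟙 _), Category.id_comp]
  have : JacobsonSpace G.left := LocallyOfFiniteType.jacobsonSpace G.hom
  refine ⟨fun ⟨g, hg⟩ => ?_, fun ⟨h, hh⟩ => ⟨h.left (IsLocalRing.closedPoint k), ?_⟩⟩
  · obtain ⟨g', hg', hg'c⟩ := nonempty_inter_closedPoints (Z := (a.orbitMap x).left ⁻¹' {z}) ⟨g, hg⟩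
      (hz.preimage (a.orbitMap x).left.continuous).isLocallyClosed
    obtain ⟨h, rfl⟩ := exists_pt hg'c
    exact ⟨h, by rw [hcomp]; exact hg'⟩
  · rw [← hh, hcomp]; rfl

lemma orb_subset_closure [LocallyOfFiniteType G.hom] [LocallyOfFiniteType X.hom] (x y : 𝟙_ _ ⟶ X)
    (hy : y.left (IsLocalRing.closedPoint k) ∈ closure (orb a x)) : orb a y ⊆ closure (orb a x) := by
  have : JacobsonSpace G.left := LocallyOfFiniteType.jacobsonSpace G.hom
  rintro _ ⟨g, rfl⟩
  have h1 : closedPoints G.left ⊆ (a.orbitMap y).left ⁻¹' closure (orb a x) := by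
    intro g hg
    obtain ⟨h, rfl⟩ := exists_pt hg
    let τ : X ⟶ X := GrpScheme.Basic.smul a (toUnit X ≫ h) (𝟙 X)
    have hτ : ∀ {T : Over (Spec (CommRingCat.of k))} (z : T ⟶ X),
        z ≫ τ = GrpScheme.Basic.smul a (toUnit T ≫ h) z := fun z => by
      rw [GrpScheme.Basic.comp_smul, Category.comp_id, ← Category.assoc, toUnit_unique (z ≫ toUnit X) (toUnit _)]
    have e : h ≫ a.orbitMap y = y ≫ τ := by
      rw [GrpdLib.OrbitQuot.comp_orbitMap, hτ, toUnit_unique (toUnit (𝟙_ _)) (𝟙 _), Category.id_comp,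
        Category.id_comp]
    have e2 : a.orbitMap x ≫ τ = ((toUnit G ≫ h) * 𝟙 G) ≫ a.orbitMap x := by
      rw [GrpdLib.OrbitQuot.comp_orbitMap, GrpScheme.Basic.mul_smul', hτ, ← GrpdLib.OrbitQuot.comp_orbitMap,
        Category.id_comp]
    show (h ≫ a.orbitMap y).left (IsLocalRing.closedPoint k) ∈ closure (orb a x)
    rw [e]
    show τ.left (y.left (IsLocalRing.closedPoint k)) ∈ _
    refine map_mem_closure τ.left.continuous hy ?_
    rintro _ ⟨g', rfl⟩
    show (a.orbitMap x ≫ τ).left g' ∈ _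
    rw [e2]
    exact ⟨((toUnit G ≫ h) * 𝟙 G).left g', rfl⟩
  have h2 := closure_minimal h1 (isClosed_closure.preimage (a.orbitMap y).left.continuous)
  rw [closure_closedPoints] at h2
  exact h2 (Set.mem_univ g)

/-- Let k be an algebraically closed field, G a smooth k-group scheme of finite type and X a non-empty
separated k-scheme of finite type with an action of G. Then there is a rational point x of X whose
orbit, the image of the orbit map g ↦ g · x, is closed in X. -/
theorem result (k : Type u) [Field k] [IsAlgClosed k]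
    (G X : Over (Spec (CommRingCat.of k))) [GrpObj G] [Smooth G.hom] [QuasiCompact G.hom]
    [LocallyOfFiniteType X.hom] [QuasiCompact X.hom] [IsSeparated X.hom] [Nonempty ↥X.left]
    (a : AlgGrp.Action G X) :
    ∃ x : 𝟙_ (Over (Spec (CommRingCat.of k))) ⟶ X, IsClosed (Set.range ⇑(a.orbitMap x).left.base) := by
  have : IsLocallyNoetherian X.left := LocallyOfFiniteType.isLocallyNoetherian X.hom
  have : CompactSpace X.left := (quasiCompact_iff_compactSpace X.hom).1 inferInstance
  have : IsNoetherian X.left := {}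
  have : TopologicalSpace.NoetherianSpace X.left := inferInstance
  have : JacobsonSpace X.left := LocallyOfFiniteType.jacobsonSpace X.hom
  have : JacobsonSpace G.left := LocallyOfFiniteType.jacobsonSpace G.hom
  let C : (𝟙_ _ ⟶ X) → TopologicalSpace.Closeds X.left := fun x => ⟨closure (orb a x), isClosed_closure⟩
  obtain ⟨x₁, -, hx₁⟩ := nonempty_inter_closedPoints (X := X.left) (Set.univ_nonempty) isClosed_univ.isLocallyClosed
  obtain ⟨x₀, -⟩ := exists_pt hx₁
  obtain ⟨c, ⟨x, rfl⟩, hmin⟩ := (wellFounded_lt (α := TopologicalSpace.Closeds X.left)).has_min (Set.range C)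
    ⟨C x₀, x₀, rfl⟩
  refine ⟨x, ?_⟩
  by_contra hnc
  have hne : ∃ b, b ∈ closure (orb a x) \ orb a x := by
    by_contra h
    push Not at h
    exact hnc (closure_subset_iff_isClosed.1 fun b hb => by_contra fun hb' => h b ⟨hb, hb'⟩)
  have := GrpdLib.GrpOver.lfp_left (a.orbitMap x)
  have := GrpdLib.GrpOver.quasiCompact_left (a.orbitMap x)
  have hO : Topology.IsLocallyConstructible (orb a x) := by
    simpa using (a.orbitMap x).left.isLocallyConstructible_image Topology.IsConstructible.univ.isLocallyConstructible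
  have hCc : Topology.IsConstructible (closure (orb a x)) := by
    rw [← Topology.isConstructible_compl]
    exact IsRetrocompact.isConstructible isClosed_closure.isOpen_compl (fun U _ _ => TopologicalSpace.NoetherianSpace.isCompact _)
  have hU : Topology.IsLocallyConstructible (closure (orb a x) \ orb a x) :=
    (hCc.sdiff hO.isConstructible).isLocallyConstructible
  obtain ⟨O', hO', hO'ne, hO's⟩ := GrpScheme.ClosedImage.exists_open_inter_closure_subset' hU hne
  obtain ⟨b, ⟨hb1, hb2⟩, hbc⟩ := nonempty_inter_closedPoints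
    (Z := O' ∩ closure (closure (orb a x) \ orb a x))
    (hO'ne.mono (Set.inter_subset_inter_right _ subset_closure))
    (hO'.isLocallyClosed.inter isClosed_closure.isLocallyClosed)
  obtain ⟨hbC, hbO⟩ := hO's ⟨hb1, hb2⟩
  obtain ⟨y, rfl⟩ := exists_pt hbc
  have hsub : closure (orb a y) ⊆ closure (orb a x) :=
    closure_minimal (orb_subset_closure a x y hbC) isClosed_closure
  have heq : closure (orb a x) ⊆ closure (orb a y) := by
    by_contra h
    exact hmin (C y) ⟨y, rfl⟩ ⟨hsub, h⟩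
  obtain ⟨W, hW, hWne, hWs⟩ := GrpScheme.ClosedImage.exists_open_inter_closure_subset' hO
    ⟨_, η[G].left (IsLocalRing.closedPoint k), rfl⟩
  obtain ⟨w, hwW, hwx⟩ := hWne
  obtain ⟨v, hvW, g, hg⟩ := mem_closure_iff.1 (heq (subset_closure hwx)) W hW hwW
  obtain ⟨g', hg', hg'c⟩ := nonempty_inter_closedPoints (Z := (a.orbitMap y).left ⁻¹' W)
    ⟨g, by show (a.orbitMap y).left g ∈ W; rw [hg]; exact hvW⟩ (hW.preimage (a.orbitMap y).left.continuous).isLocallyClosed
  obtain ⟨h, rfl⟩ := exists_pt hg'c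
  have hyx : (a.orbitMap y).left (h.left (IsLocalRing.closedPoint k)) ∈ orb a x :=
    hWs ⟨hg', hsub (subset_closure ⟨_, rfl⟩)⟩
  have hcy : IsClosed ({(h ≫ a.orbitMap y).left (IsLocalRing.closedPoint k)} : Set X.left) := by
    have hp := ((pointEquivClosedPoint X.hom) ⟨(h ≫ a.orbitMap y).left, Over.w _⟩).2
    exact hp
  obtain ⟨h', hh'⟩ := (mem_orb_iff a x hcy).1 hyx
  refine hbO ((mem_orb_iff a x hbc).2 ⟨h⁻¹ * h', ?_⟩)
  have hpt : ∀ p q : 𝟙_ (Over (Spec (CommRingCat.of k))) ⟶ X,
      p.left (IsLocalRing.closedPoint k) = q.left (IsLocalRing.closedPoint k) → p = q := fun p q e =>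
    Over.OverMorphism.ext (congrArg Subtype.val ((pointEquivClosedPoint X.hom).injective
      (a₁ := ⟨p.left, Over.w p⟩) (a₂ := ⟨q.left, Over.w q⟩) (Subtype.ext e)))
  have e := hpt _ _ hh'
  rw [GrpScheme.Basic.mul_smul', e, GrpdLib.OrbitQuot.comp_orbitMap, toUnit_unique (toUnit (𝟙_ _)) (𝟙 _),
    Category.id_comp, GrpScheme.Basic.inv_smul_smul']

end Groth.Agent.S14586
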