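import Groth.Statements.S9407
import Groth.Agent.AGFHull.Reduced
import Mathlib

set_option autoImplicit false
universe u
open CAlg

namespace Groth.Agent.S9407

open TensorProduct

/-- The Noetherian case. -/
theorem isReduced_tensor (A₀ B₀ C : Type u) [CommRing A₀] [CommRing B₀] [Algebra A₀ B₀]
    [Algebra.Smooth A₀ B₀] [CommRing C] [Algebra A₀ C] [IsNoetherianRing C] [IsReduced C] :
    IsReduced (B₀ ⊗[A₀] C) := by
  classical
  haveI : Finite (minimalPrimes C) := (minimalPrimes.finite_of_isNoetherianRing C).to_subtype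
  haveI : Fintype (minimalPrimes C) := Fintype.ofFinite _
  haveI : ∀ p : minimalPrimes C, p.1.IsPrime := fun p => p.2.1.1
  let K : minimalPrimes C → Type u := fun p => p.1.ResidueField
  let φ : C →ₐ[A₀] ∀ p, K p := Pi.algHom A₀ K fun p => IsScalarTower.toAlgHom A₀ C (K p)
  have hφ : Function.Injective φ := by
    rw [injective_iff_map_eq_zero]
    intro x hx
    have h1 : x ∈ sInf (minimalPrimes C) := Submodule.mem_sInf.2 fun p hp => by
      haveI := hp.1.1
      have h2 : algebraMap C (Ideal.ResidueField p) x = 0 := congrFun hx ⟨p, hp⟩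
      exact Ideal.algebraMap_residueField_eq_zero.1 h2
    rw [minimalPrimes, Ideal.sInf_minimalPrimes] at h1
    exact IsNilpotent.eq_zero (mem_nilradical.1 h1)
  let Φ := Algebra.TensorProduct.map (AlgHom.id A₀ B₀) φ
  have hΦ : Function.Injective Φ := by
    show Function.Injective (LinearMap.lTensor B₀ φ.toLinearMap)
    exact Module.Flat.lTensor_preserves_injective_linearMap _ hφ
  haveI : ∀ p, IsReduced (B₀ ⊗[A₀] K p) := fun p => by
    haveI : IsReduced (K p ⊗[A₀] B₀) := AGFHull.isReduced_of_smooth (K p) _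
    exact isReduced_of_injective (Algebra.TensorProduct.comm A₀ B₀ (K p)).toRingEquiv.toRingHom
      (Algebra.TensorProduct.comm A₀ B₀ (K p)).injective
  exact isReduced_of_injective ((Algebra.TensorProduct.piRight A₀ A₀ B₀ K).toAlgHom.comp Φ)
    ((Algebra.TensorProduct.piRight A₀ A₀ B₀ K).injective.comp hΦ)

/-- Reducedness ascends along smooth ring maps: if R is reduced and S is smooth over R then S is
reduced. -/
theorem result (R : Type u) [CommRing R] (S : Type u) [CommRing S]
    [Algebra R S] [Algebra.Smooth R S] [IsReduced R] : IsReduced S := by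
  letI : Algebra (ULift.{u} ℤ) R := ((Int.castRingHom R).comp ULift.ringEquiv.toRingHom).toAlgebra
  obtain ⟨A₀, B₀, _, _, hfg, hsm, ⟨e⟩⟩ := Algebra.Smooth.exists_subalgebra_fg (ULift.{u} ℤ) R S
  suffices IsReduced (TensorProduct A₀ B₀ R) by
    exact isReduced_of_injective
      ((Algebra.TensorProduct.comm A₀ R B₀).toRingEquiv.toRingHom.comp e.toRingEquiv.toRingHom)
      ((Algebra.TensorProduct.comm A₀ R B₀).injective.comp e.injective)
  refine ⟨fun x ⟨n, hn⟩ => ?_⟩
  obtain ⟨C, hC, hx⟩ := exists_fg_and_mem_baseChange x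
  obtain ⟨y, rfl⟩ := hx
  have : IsNoetherianRing (ULift.{u} ℤ) := isNoetherianRing_of_ringEquiv ℤ ULift.ringEquiv.symm
  haveI := (Subalgebra.fg_iff_finiteType A₀).mp hfg
  haveI : IsNoetherianRing A₀ := Algebra.FiniteType.isNoetherianRing (ULift.{u} ℤ) A₀
  haveI := (Subalgebra.fg_iff_finiteType C).mp hC
  haveI : IsNoetherianRing C := Algebra.FiniteType.isNoetherianRing A₀ C
  haveI : IsReduced C := isReduced_of_injective C.val Subtype.val_injective
  haveI := isReduced_tensor A₀ B₀ C
  have hinj : Function.Injective (Algebra.TensorProduct.map (AlgHom.id B₀ B₀) C.val) := by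
    show Function.Injective (LinearMap.lTensor B₀ C.val.toLinearMap)
    exact Module.Flat.lTensor_preserves_injective_linearMap _ Subtype.val_injective
  have : y = 0 := by
    refine IsNilpotent.eq_zero ⟨n, hinj ?_⟩
    rw [map_pow, map_zero]
    exact hn
  simp [this]

end Groth.Agent.S9407
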