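import Groth.Statements.S2978
-- import your own Groth.Agent.* helpers here

set_option autoImplicit false
universe u
open SGA3b

namespace Groth.Agent.S2978

/-- Let A be a Noetherian ring, M a set and a : M × M → A a family vanishing off the diagonal which is a
finite sum of decomposable families: a(m, m') = Σ_i b_i(m) c_i(m') for finitely many b_i, c_i : M →
A. Then a has finite support. -/
theorem result (A : Type u) [CommRing A] [IsNoetherianRing A] (M : Type u)
    (a : M × M → A) (hdiag : ∀ m m', m ≠ m' → a (m, m') = 0)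
    (ι : Type u) [Fintype ι] (b c : ι → M → A) (hdec : ∀ m m', a (m, m') = ∑ i, b i m * c i m') :
    Set.Finite {p : M × M | a p ≠ 0} := by
  classical
  obtain ⟨F, hF⟩ := (IsNoetherian.noetherian (Submodule.span A (Set.range fun m : M => fun i => c i m)) :
    (Submodule.span A (Set.range fun m : M => fun i => c i m)).FG)
  have hsub : ∀ x ∈ F, ∃ T : Finset M, x ∈ Submodule.span A ((fun m : M => fun i => c i m) '' (T : Set M)) := by
    intro x hx
    have hx' : x ∈ Submodule.span A (Set.range fun m : M => fun i => c i m) := hF ▸ Submodule.subset_span hx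
    obtain ⟨t, ht, hxt⟩ := Submodule.mem_span_finite_of_mem_span hx'
    choose g hg using fun y : (t : Set (ι → A)) => ht y.2
    refine ⟨Finset.univ.image g, Submodule.span_mono ?_ hxt⟩
    intro y hy
    exact ⟨g ⟨y, hy⟩, by simp, hg ⟨y, hy⟩⟩
  choose! T hT using hsub
  let T₀ : Finset M := F.biUnion T
  have hle : Submodule.span A (Set.range fun m : M => fun i => c i m) ≤
      Submodule.span A ((fun m : M => fun i => c i m) '' (T₀ : Set M)) := by
    rw [← hF, Submodule.span_le]
    intro x hx
    exact Submodule.span_mono (Set.image_mono (by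
      intro y hy; exact Finset.mem_biUnion.mpr ⟨x, hx, hy⟩)) (hT x hx)
  refine Set.Finite.subset (T₀.finite_toSet.image fun m => (m, m)) ?_
  rintro ⟨m, m'⟩ hp
  have hmm : m = m' := by_contra fun h => hp (hdiag m m' h)
  subst hmm
  refine ⟨m, ?_, rfl⟩
  by_contra hm
  apply hp
  let φ : (ι → A) →ₗ[A] A := ∑ i, b i m • LinearMap.proj i
  have hφ : ∀ m', a (m, m') = φ (fun i => c i m') := fun m' => by simp [φ, hdec]
  rw [hφ]
  have hker : Submodule.span A ((fun m : M => fun i => c i m) '' (T₀ : Set M)) ≤ LinearMap.ker φ := by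
    rw [Submodule.span_le]
    rintro _ ⟨k, hk, rfl⟩
    rw [SetLike.mem_coe, LinearMap.mem_ker, ← hφ]
    exact hdiag _ _ (fun h => hm (h ▸ hk))
  exact hker (hle (Submodule.subset_span ⟨m, rfl⟩))

end Groth.Agent.S2978
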