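import Groth.Statements.S5250
import Groth.Agent.MultType.AdicLevel

set_option autoImplicit false
universe u
open TensorProduct SGA3b
open SGA3b
open Groth.Agent.MultType

namespace Groth.Agent.S5250

/-- Let A be a Noetherian ring, separated and complete for the I-adic topology, G = Spec B an isotrivial
A-group of multiplicative type, and H = Spec C an affine A-group which is flat over A at the points
of H₀ = Spec ((A/I) ⊗ C) (C localised at any prime containing IC is flat over A) and such that H₀ is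
a quasi-isotrivial (A/I)-group of multiplicative type. Then reduction modulo I is a bijection from
homomorphisms of A-groups G ⟶ H (bialgebra maps C → B) to homomorphisms of (A/I)-groups G₀ ⟶ H₀: two
bialgebra maps C → B with the same reduction are equal, and every bialgebra map C₀ → B₀ over A/I is
a reduction. (Affine group schemes over an affine base are taken in Hopf-algebra form; base change
is the tensor product; a homomorphism of groups Spec A ⟶ Spec C is a bialgebra map C → A.) -/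
theorem result (A : Type u) [CommRing A] [IsNoetherianRing A] (I : Ideal A) [IsAdicComplete I A]
    (B : Type u) [CommRing B] [HopfAlgebra A B] (hG : IsIsotrivial A B)
    (C : Type u) [CommRing C] [HopfAlgebra A C]
    (hfl : ∀ (q : Ideal C) [q.IsPrime], Ideal.map (algebraMap A C) I ≤ q → Module.Flat A (Localization.AtPrime q))
    (h0 : IsQuasiIsotrivial (A ⧸ I) ((A ⧸ I) ⊗[A] C)) :
    (∀ φ ψ : C →ₐc[A] B, (∀ c : C, (1 : A ⧸ I) ⊗ₜ[A] (φ c) = (1 : A ⧸ I) ⊗ₜ[A] (ψ c)) → φ = ψ) ∧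
    (∀ φ₀ : ((A ⧸ I) ⊗[A] C) →ₐc[A ⧸ I] ((A ⧸ I) ⊗[A] B),
      ∃ φ : C →ₐc[A] B, ∀ c : C, φ₀ ((1 : A ⧸ I) ⊗ₜ[A] c) = (1 : A ⧸ I) ⊗ₜ[A] (φ c)) := by
  classical
  have hBmt := AdicLevel.isMultType_of_isIsotrivial hG
  obtain ⟨R', _, _, het, hfin, hff, M, _, ⟨e⟩⟩ := hG
  haveI : Module.FinitePresentation A R' := Module.finitePresentation_of_finite A R'
  haveI : Module.Projective A R' := Module.Flat.projective_of_finitePresentation
  obtain ⟨SB₀⟩ := NilLift.exists_splitting hBmt
  -- the levels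
  let S : ℕ → Type u := fun n => A ⧸ I ^ (n + 1)
  letI : ∀ n, Algebra (S n) (A ⧸ I) := fun n =>
    (Ideal.Quotient.factor (Ideal.pow_le_self (Nat.succ_ne_zero n))).toAlgebra
  haveI : ∀ n, IsScalarTower A (S n) (A ⧸ I) := fun n => IsScalarTower.of_algebraMap_eq fun a => rfl
  have hs : ∀ n, Function.Surjective (algebraMap (S n) (A ⧸ I)) := fun n => Ideal.Quotient.factor_surjective _
  have hker : ∀ n, RingHom.ker (algebraMap (S n) (A ⧸ I)) = Ideal.map (Ideal.Quotient.mk _) I := fun n =>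
    Ideal.Quotient.factor_ker _
  have hnil : ∀ n, IsNilpotent (RingHom.ker (algebraMap (S n) (A ⧸ I))) := fun n => by
    refine ⟨n + 1, ?_⟩
    rw [hker, ← Ideal.map_pow, Ideal.map_quotient_self]
    rfl
  have hn : ∀ n, ∀ x ∈ RingHom.ker (algebraMap (S n) (A ⧸ I)), IsNilpotent x := by
    intro n x hx
    obtain ⟨k, hk⟩ := hnil n
    exact ⟨k, by simpa [hk] using Ideal.pow_mem_pow hx k⟩
  have hSB : ∀ n, Nonempty (GLLift.Splitting (S n) (S n ⊗[A] B) (NilLift.FlatQ (S n))) := fun n =>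
    ⟨NilLift.baseChange SB₀ (S n) fun i => by haveI : Module.Flat A (SB₀.T i) := SB₀.mem i; infer_instance⟩
  have hSC : ∀ n, Nonempty (GLLift.Splitting (S n) (S n ⊗[A] C) (NilLift.FlatQ (S n))) := by
    intro n
    refine NilLift.exists_splitting (AdicLevel.isMultType_of_qi ?_)
    haveI : Module.Flat (S n) (S n ⊗[A] C) := AdicLevel.flat_level hfl Ideal.Quotient.mk_surjective
      fun x hx => ⟨n + 1, by
        rw [Ideal.Quotient.algebraMap_eq, ← map_pow]
        exact Ideal.Quotient.eq_zero_iff_mem.mpr (Ideal.pow_mem_pow hx _)⟩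
    refine AdicLevel.isQuasiIsotrivial_of_surjective (hs n) (hnil n) ?_
    obtain ⟨s, hs', hloc⟩ := h0
    refine ⟨s, hs', fun f hf => ?_⟩
    obtain ⟨T, _, _, h1, h2, h3⟩ := hloc f hf
    letI : Algebra (A ⧸ I) T := ((algebraMap (Localization.Away f) T).comp (algebraMap (A ⧸ I) _)).toAlgebra
    haveI : IsScalarTower (A ⧸ I) (Localization.Away f) T := IsScalarTower.of_algebraMap_eq fun x => rfl
    letI : Algebra (S n) T := ((algebraMap (A ⧸ I) T).comp (algebraMap (S n) (A ⧸ I))).toAlgebra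
    haveI : IsScalarTower (S n) (A ⧸ I) T := IsScalarTower.of_algebraMap_eq fun x => rfl
    letI : Algebra A T := ((algebraMap (A ⧸ I) T).comp (algebraMap A (A ⧸ I))).toAlgebra
    haveI : IsScalarTower A (A ⧸ I) T := IsScalarTower.of_algebraMap_eq fun x => rfl
    haveI : IsScalarTower A (S n) T := IsScalarTower.of_algebraMap_eq fun x => by
      change _ = algebraMap (A ⧸ I) T (algebraMap (S n) (A ⧸ I) (algebraMap A (S n) x))
      rw [← IsScalarTower.algebraMap_apply]
      rfl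
    refine ⟨T, inferInstance, inferInstance, h1, h2, ?_⟩
    rw [QIT.isDiag_tower_iff] at h3 ⊢
    rw [QIT.isDiag_tower_iff] at h3 ⊢
    rw [QIT.isDiag_tower_iff]
    exact h3
  -- reductions
  let g₀ : ∀ n, S n →ₐ[A] A ⧸ I := fun n => IsScalarTower.toAlgHom A (S n) (A ⧸ I)
  have huniq : ∀ n {ψ ψ' : S n ⊗[A] C →ₐc[S n] S n ⊗[A] B},
      (∀ c, GroupLike.bcMap (g₀ n) B (ψ (1 ⊗ₜ c)) = GroupLike.bcMap (g₀ n) B (ψ' (1 ⊗ₜ c))) → ψ = ψ' :=
    fun n => AdicLevel.level_unique (hs n) (hn n) (hSB n).some (hSC n).some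
  have hext : ∀ {x y : B}, (∀ n, (1 : S n) ⊗ₜ[A] x = (1 : S n) ⊗ₜ[A] y) → x = y := by
    intro x y h
    refine FormalLift.eq_of_forall_mem e I fun n => ?_
    have h1 := (Lift.red_eq_iff (R' := S n) Ideal.Quotient.mk_surjective).mp (h n)
    rw [Ideal.Quotient.algebraMap_eq, Ideal.mk_ker] at h1
    exact Ideal.map_mono (Ideal.pow_le_pow_right (Nat.le_succ n)) h1
  refine ⟨fun φ ψ h => ?_, fun φ₀ => ?_⟩
  · refine DFunLike.ext _ _ fun c => hext fun n => ?_
    have h1 := huniq n (ψ := Bialgebra.TensorProduct.map (BialgHom.id (S n) (S n)) φ)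
      (ψ' := Bialgebra.TensorProduct.map (BialgHom.id (S n) (S n)) ψ) fun c => by
        change GroupLike.bcMap (g₀ n) B ((1 : S n) ⊗ₜ φ c) = GroupLike.bcMap (g₀ n) B ((1 : S n) ⊗ₜ ψ c)
        rw [GLLift.bcMap_tmul, GLLift.bcMap_tmul, map_one]
        exact h c
    exact DFunLike.congr_fun h1 ((1 : S n) ⊗ₜ[A] c)
  · choose ψ hψ using fun n => AdicLevel.level_exists (hs n) (hn n) (hSB n).some (hSC n).some φ₀
    choose f hf using fun n c =>
      Lift.red_surjective (R := A) (R' := S n) (S := B) Ideal.Quotient.mk_surjective (ψ n (1 ⊗ₜ c))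
    have hf' : ∀ n c, ψ n (1 ⊗ₜ c) = (1 : S n) ⊗ₜ[A] f n c := fun n c => (hf n c).symm
    let t : ∀ n, S (n + 1) →ₐ[A] S n := fun n =>
      Ideal.Quotient.factorₐ A (Ideal.pow_le_pow_right (Nat.le_succ (n + 1)))
    have ht : ∀ n, (g₀ n).comp (t n) = g₀ (n + 1) := fun n => Ideal.Quotient.algHom_ext A (AlgHom.ext fun a => rfl)
    have hcompat : ∀ n c, f (n + 1) c - f n c ∈ Ideal.map (algebraMap A B) (I ^ (n + 1)) := by
      intro n c
      have h1 : HomLift.bcHom (t n) (ψ (n + 1)) = ψ n := huniq n fun c => by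
        rw [HomLift.bcHom_one_tmul, GLLift.bcMap_bcMap, ht]
        exact (hψ (n + 1) c).trans (hψ n c).symm
      have h2 := DFunLike.congr_fun h1 ((1 : S n) ⊗ₜ[A] c)
      rw [HomLift.bcHom_one_tmul, hf', hf', GLLift.bcMap_tmul, map_one] at h2
      have h3 := (Lift.red_eq_iff (R' := S n) Ideal.Quotient.mk_surjective).mp h2
      rwa [Ideal.Quotient.algebraMap_eq, Ideal.mk_ker] at h3
    obtain ⟨φ, hφ⟩ := FormalLift.exists_hom e I f hcompat fun n => ⟨ψ n, hf' n⟩
    refine ⟨φ, fun c => ?_⟩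
    rw [← hψ 0 c, hf', GLLift.bcMap_tmul, map_one]
    refine (Lift.red_eq_iff (R' := A ⧸ I) Ideal.Quotient.mk_surjective).mpr ?_
    rw [Ideal.Quotient.algebraMap_eq, Ideal.mk_ker, ← neg_sub, neg_mem_iff]
    exact Ideal.map_mono (le_of_eq (pow_one I)) (hφ 0 c)

end Groth.Agent.S5250
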