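import Groth.Statements.S5285
import Groth.Agent.S5250
import Groth.Agent.MultType.LiftApps
import Groth.Agent.MultType.ClopenSub

set_option autoImplicit false
universe u
open TensorProduct SGA3b
open SGA3b

namespace Groth.Agent.S5285

/-- Let A be a Noetherian ring, separated and complete for the I-adic topology, and H = Spec C an affine
A-group with C of finite type over A, flat over A at the points of H₀ (C localised at any prime
containing IC is flat over A), such that H₀ = Spec ((A/I) ⊗ C) is an isotrivial (A/I)-group of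
multiplicative type. Then H has an open and closed subgroup G which is an isotrivial A-group of
multiplicative type with G₀ = H₀: there is an idempotent e of C lying in IC such that the ideal (e)
is a Hopf ideal and Spec (C/(e)) is isotrivial of multiplicative type. (Affine group schemes over an
affine base are taken in Hopf-algebra form; base change is the tensor product; a homomorphism of
groups Spec A ⟶ Spec C is a bialgebra map C → A.) -/
theorem result (A : Type u) [CommRing A] [IsNoetherianRing A] (I : Ideal A) [IsAdicComplete I A]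
    (C : Type u) [CommRing C] [HopfAlgebra A C] (hft : Algebra.FiniteType A C)
    (hfl : ∀ (q : Ideal C) [q.IsPrime], Ideal.map (algebraMap A C) I ≤ q → Module.Flat A (Localization.AtPrime q))
    (h0 : IsIsotrivial (A ⧸ I) ((A ⧸ I) ⊗[A] C)) :
    ∃ e : C, IsIdempotentElem e ∧ e ∈ Ideal.map (algebraMap A C) I ∧
      ∃ _ : (Ideal.span {e}).IsHopfIdeal A, IsIsotrivial A (C ⧸ Ideal.span {e}) := by
  classical
  haveI := hft
  haveI : IsNoetherianRing C := Algebra.FiniteType.isNoetherianRing A C
  obtain ⟨B, _, _, hB, ⟨E⟩⟩ := Groth.Agent.MultType.LiftApps.exists_isotrivial_lift I h0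
  haveI : Module.Flat A B :=
    Groth.Agent.MultType.Family.flat_of_isMultType (Groth.Agent.MultType.AdicLevel.isMultType_of_isIsotrivial hB)
  have hqi : IsQuasiIsotrivial (A ⧸ I) ((A ⧸ I) ⊗[A] C) := by
    obtain ⟨T, _, _, het, _, hTff, M, _, ⟨e⟩⟩ := h0
    exact Groth.Agent.MultType.LiftApps.isQuasiIsotrivial_of_diag T het ⟨M, inferInstance, ⟨e⟩⟩
  obtain ⟨φ, hφ⟩ := (Groth.Agent.S5250.result A I B hB C hfl hqi).2 (E.symm : _ →ₐc[A ⧸ I] _)
  have hred : ∀ c, E.symm ((1 : A ⧸ I) ⊗ₜ[A] c) = (1 : A ⧸ I) ⊗ₜ[A] φ c := hφ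
  have hs : Function.Surjective φ := Groth.Agent.MultType.LiftApps.surjective_of_red I hB φ fun b => by
    obtain ⟨c, hc⟩ := Groth.Agent.MultType.Lift.red_surjective (R := A) (R' := A ⧸ I) (S := C)
      Ideal.Quotient.mk_surjective (E ((1 : A ⧸ I) ⊗ₜ[A] b))
    refine ⟨c, ?_⟩
    rw [← hred, show (1 : A ⧸ I) ⊗ₜ[A] c = E ((1 : A ⧸ I) ⊗ₜ[A] b) from hc]
    exact E.toAlgEquiv.symm_apply_apply _
  have hle : RingHom.ker (φ : C →ₐ[A] B) ≤ Ideal.map (algebraMap A C) I := by
    intro x hx
    have h1 : (1 : A ⧸ I) ⊗ₜ[A] x = (0 : (A ⧸ I) ⊗[A] C) := by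
      apply E.symm.toAlgEquiv.injective
      rw [map_zero]
      refine (hred x).trans ?_
      rw [show φ x = 0 from hx, TensorProduct.tmul_zero]
    have h2 : x ∈ RingHom.ker (Groth.Agent.MultType.Lift.red (R := A) (A ⧸ I) C) := h1
    rwa [Groth.Agent.MultType.Lift.red_ker Ideal.Quotient.mk_surjective, Ideal.Quotient.algebraMap_eq,
      Ideal.mk_ker] at h2
  obtain ⟨e, he, hker⟩ := Groth.Agent.MultType.ClopenSub.exists_idem φ I hs hle (IsNoetherian.noetherian _)
    (IsAdicComplete.le_jacobson_bot I)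
  haveI := Groth.Agent.MultType.ClopenSub.isHopfIdeal_ker φ hs hker.symm
  exact ⟨e, he, hle (hker ▸ Ideal.subset_span rfl), inferInstance,
    Groth.Agent.MultType.LiftApps.isIsotrivial_of_equiv
      (Groth.Agent.MultType.ClopenSub.quotEquiv φ hs (Ideal.span {e}) hker.symm).symm hB⟩

end Groth.Agent.S5285
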