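import Groth.Statements.S16212
import Mathlib.RingTheory.Smooth.Basic
import Mathlib.AlgebraicGeometry.Morphisms.Smooth
import Mathlib.AlgebraicGeometry.Morphisms.Affine

set_option autoImplicit false
universe u v
open CategoryTheory AlgebraicGeometry
open AlgGrp

namespace Groth.Agent.S16212

theorem smooth_of_fixed {R B C : Type u} [CommRing R] [CommRing B] [CommRing C] [Algebra R B]
    [Algebra R C] [Algebra.Smooth R B] {G : Type v} [Group G] [Fintype G] (σ : G → (B →ₐ[R] B))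
    (hσ : ∀ g h x, σ g (σ h x) = σ (h * g) x) (hn : IsUnit (Fintype.card G : R))
    (ψ : B →ₐ[R] C) (hψ : Function.Surjective ψ) (hfix : ∀ g x, ψ (σ g x) = ψ x)
    (hker : ∀ x, ψ x = 0 → x ∈ Ideal.span (Set.range fun p : G × B ↦ σ p.1 p.2 - p.2)) :
    Algebra.Smooth R C := by
  classical
  let K : Ideal B := RingHom.ker ψ.toRingHom
  have hK : ∀ g x, σ g x - x ∈ K := fun g x ↦ by simp [K, RingHom.mem_ker, hfix]
  have hfg : K.FG := by
    obtain ⟨s, hs⟩ := (inferInstance : Algebra.FiniteType R B).out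
    refine ⟨(Finset.univ ×ˢ s).image fun p : G × B ↦ σ p.1 p.2 - p.2, le_antisymm ?_ ?_⟩
    · refine Ideal.span_le.mpr fun y hy ↦ ?_
      obtain ⟨p, -, rfl⟩ := Finset.mem_image.mp hy
      exact hK _ _
    · intro x hx
      refine (Ideal.span_le.mpr ?_) (hker x hx)
      rintro _ ⟨⟨g, y⟩, rfl⟩
      let J : Ideal B := Ideal.span ((Finset.univ ×ˢ s).image fun p : G × B ↦ σ p.1 p.2 - p.2)
      have : (Ideal.Quotient.mkₐ R J).comp (σ g) = Ideal.Quotient.mkₐ R J := by
        refine AlgHom.ext_of_adjoin_eq_top hs fun z hz ↦ Ideal.Quotient.eq.mpr ?_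
        exact Ideal.subset_span (Finset.mem_coe.mpr (Finset.mem_image.mpr
          ⟨(g, z), Finset.mem_product.mpr ⟨Finset.mem_univ g, hz⟩, rfl⟩))
      exact Ideal.Quotient.eq.mp (DFunLike.congr_fun this y)
  let q := Ideal.Quotient.mkₐ R (K ^ 2)
  obtain ⟨u, hu⟩ := hn.exists_left_inv
  let Φ : B →ₗ[R] B ⧸ K ^ 2 := u • ∑ g : G, (q.comp (σ g)).toLinearMap
  have hΦ : ∀ x, Φ x = u • ∑ g : G, q (σ g x) := fun x ↦ by simp [Φ]
  have hu' : ∀ c : B ⧸ K ^ 2, u • ((Fintype.card G) • c) = c := fun c ↦ by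
    rw [← Nat.cast_smul_eq_nsmul R, smul_smul, hu, one_smul]
  have hmem : ∀ x, ∃ d ∈ K, Φ x = q x + q d := fun x ↦ by
    refine ⟨u • ∑ g : G, (σ g x - x),
      Submodule.smul_of_tower_mem _ u (Submodule.sum_mem _ fun g _ ↦ hK g x), ?_⟩
    simp only [hΦ, map_smul, map_sum, map_sub, Finset.sum_sub_distrib, Finset.sum_const,
      Finset.card_univ, smul_sub, map_nsmul, hu']
    abel
  have hz : ∀ a ∈ K, ∀ b ∈ K, q a * q b = 0 := fun a ha b hb ↦ by
    rw [← map_mul]
    exact Ideal.Quotient.eq_zero_iff_mem.mpr (pow_two K ▸ Ideal.mul_mem_mul ha hb)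
  have h1 : Φ 1 = 1 := by simp only [hΦ, map_one, Finset.sum_const, Finset.card_univ, hu']
  have hmul : ∀ x y, Φ (x * y) = Φ x * Φ y := fun x y ↦ by
    obtain ⟨d, hd, hdx⟩ := hmem x
    obtain ⟨e, he, hey⟩ := hmem y
    have key : ∀ g, q (σ g (x * y)) = q x * q (σ g y) + q (σ g x) * q y - q x * q y := fun g ↦ by
      have := hz _ (hK g x) _ (hK g y)
      simp only [map_sub, map_mul] at this ⊢
      linear_combination this
    have hx' : Φ (x * y) = q x * Φ y + Φ x * q y - q x * q y := by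
      simp only [hΦ, key, Finset.sum_sub_distrib, Finset.sum_add_distrib, smul_sub, smul_add,
        ← Finset.mul_sum, ← Finset.sum_mul, mul_smul_comm, smul_mul_assoc, Finset.sum_const,
        Finset.card_univ, hu']
    rw [hx', hdx, hey]
    linear_combination -(hz d hd e he)
  let Φ' : B →ₐ[R] B ⧸ K ^ 2 := AlgHom.ofLinearMap Φ h1 hmul
  have hinv : ∀ h x, Φ (σ h x) = Φ x := fun h x ↦ by
    simp only [hΦ, hσ]
    exact congrArg (u • ·) (Equiv.sum_comp (Equiv.mulLeft h) (fun g ↦ q (σ g x)))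
  have hkill : ∀ x ∈ K, Φ' x = 0 := fun x hx ↦ by
    refine (Ideal.span_le.mpr ?_ : _ ≤ RingHom.ker Φ'.toRingHom) (hker x hx)
    rintro _ ⟨⟨g, y⟩, rfl⟩
    have : Φ (σ g y - y) = 0 := by rw [map_sub, hinv, sub_self]
    exact this
  let g : C →ₐ[R] B ⧸ K ^ 2 := (Ideal.Quotient.liftₐ K Φ' hkill).comp
    (Ideal.quotientKerAlgEquivOfSurjective (f := ψ) hψ).symm.toAlgHom
  haveI : Algebra.FormallySmooth R C := by
    refine Algebra.FormallySmooth.of_split ψ g (AlgHom.ext fun c ↦ ?_)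
    obtain ⟨x, rfl⟩ := hψ c
    have hx : g (ψ x) = Φ x := by
      have : (Ideal.quotientKerAlgEquivOfSurjective (f := ψ) hψ).symm (ψ x) =
          Ideal.Quotient.mk _ x := by
        rw [AlgEquiv.symm_apply_eq]; rfl
      simp only [g, AlgHom.comp_apply]
      refine (congrArg (Ideal.Quotient.liftₐ K Φ' hkill) this).trans ?_
      rfl
    change ψ.kerSquareLift (g (ψ x)) = ψ x
    rw [hx, hΦ, map_smul, map_sum]
    have : ∀ h, ψ.kerSquareLift (q (σ h x)) = ψ x := fun h ↦ (hfix h x)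
    simp only [this, Finset.sum_const, Finset.card_univ]
    rw [← Nat.cast_smul_eq_nsmul R, smul_smul, hu, one_smul]
  exact ⟨inferInstance, Algebra.FinitePresentation.of_surjective hψ hfg⟩

open Limits in
theorem exists_fixed_of_finset {S : Scheme.{u}} (X : Over S) [IsSeparated X.hom]
    {G : Type v} [Group G] (ρ : G →* Aut X) (s : Finset G) :
    ∃ (E : Over S) (e : E ⟶ X), IsClosedImmersion e.left ∧ (∀ g ∈ s, e ≫ (ρ g).hom = e) ∧
      ∀ (T : Over S) (t : T ⟶ X), (∀ g ∈ s, t ≫ (ρ g).hom = t) → ∃ t', t' ≫ e = t := by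
  classical
  induction s using Finset.induction with
  | empty => exact ⟨X, 𝟙 X, inferInstanceAs (IsClosedImmersion (𝟙 X.left)), by simp,
      fun T t _ ↦ ⟨t, Category.comp_id t⟩⟩
  | insert a s ha ih =>
    obtain ⟨E, e, he, hfix, hu⟩ := ih
    refine ⟨equalizer (e ≫ (ρ a).hom) e, equalizer.ι _ _ ≫ e, ?_, ?_, ?_⟩
    · rw [Over.comp_left]; infer_instance
    · intro g hg
      rcases Finset.mem_insert.mp hg with rfl | hg
      · rw [Category.assoc, equalizer.condition]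
      · rw [Category.assoc, hfix g hg]
    · intro T t ht
      obtain ⟨t', rfl⟩ := hu T t fun g hg ↦ ht g (Finset.mem_insert_of_mem hg)
      refine ⟨equalizer.lift t' ?_, by rw [← Category.assoc, equalizer.lift_ι]⟩
      rw [← Category.assoc, ht a (Finset.mem_insert_self _ _)]

/-- Let S be a scheme, X an S-scheme that is smooth, separated and of finite presentation over S, and G
a finite group whose order is invertible on S (a unit among the global functions of S) acting on X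
by S-automorphisms. Then the scheme of G-fixed points of X, namely any S-scheme Z with an S-morphism
ι to X that is itself fixed by every element of G (ι followed by the automorphism of each g equals
ι) and such that an S-morphism T → X is fixed by every element of G exactly when it factors through
ι, and then uniquely, is a closed subscheme of X (ι is a closed immersion) which is smooth and of
finite presentation over S (smooth, quasi-compact and quasi-separated). The published statement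
assumes X only smooth and of finite presentation over S; this row also assumes X separated over S. -/
theorem result (S : Scheme.{u})
    (X : Over S) [Smooth X.hom] [QuasiCompact X.hom] [IsSeparated X.hom]
    (G : Type v) [Group G] [Finite G] (ρ : G →* Aut X)
    (hG : IsUnit (Nat.card G : Γ(S, ⊤)))
    (Z : Over S) (ι : Z ⟶ X) (hι : ∀ g : G, ι ≫ (ρ g).hom = ι)
    (hZ : ∀ (T : Over S) (t : T ⟶ X), (∀ g : G, t ≫ (ρ g).hom = t) ↔ ∃! t' : T ⟶ Z, t' ≫ ι = t) :
    IsClosedImmersion ι.left ∧ Smooth Z.hom ∧ QuasiCompact Z.hom ∧ QuasiSeparated Z.hom := by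
  classical
  haveI : Fintype G := Fintype.ofFinite G
  have hmono : ∀ {T : Over S} (a b : T ⟶ Z), a ≫ ι = b ≫ ι → a = b := fun {T} a b h ↦ by
    obtain ⟨c, -, huniq⟩ := (hZ T (b ≫ ι)).mp fun g ↦ by rw [Category.assoc, hι]
    exact (huniq a h).trans (huniq b rfl).symm
  have hci : IsClosedImmersion ι.left := by
    obtain ⟨E, e, he, hefix, heu⟩ := exists_fixed_of_finset X ρ Finset.univ
    obtain ⟨k, hk⟩ := heu Z ι fun g _ ↦ hι g
    obtain ⟨j, hj, -⟩ := (hZ E e).mp fun g ↦ hefix g (Finset.mem_univ g)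
    have hjk : k ≫ j = 𝟙 Z := hmono _ _ (by simp [hj, hk])
    have : Mono e := Over.mono_of_mono_left e
    have hkj : j ≫ k = 𝟙 E := (cancel_mono e).mp (by simp [hk, hj])
    haveI : IsIso k := ⟨j, hjk, hkj⟩
    haveI : IsIso k.left := inferInstanceAs (IsIso ((Over.forget S).map k))
    rw [← hk, Over.comp_left]
    infer_instance
  have hw : ι.left ≫ X.hom = Z.hom := Over.w ι
  refine ⟨hci, ?_, hw ▸ inferInstance, hw ▸ inferInstance⟩
  suffices hloc : ∀ z : Z.left, ∃ U : Z.left.Opens, z ∈ U ∧ Smooth (U.ι ≫ Z.hom) by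
    choose U hzU hU using hloc
    have hsup : ⨆ z, U z = ⊤ := by
      ext z
      simp only [TopologicalSpace.Opens.coe_iSup, Set.mem_iUnion, TopologicalSpace.Opens.coe_top,
        Set.mem_univ, iff_true]
      exact ⟨z, hzU z⟩
    exact IsZariskiLocalAtSource.of_iSup_eq_top (P := @Smooth) U hsup hU
  intro z
  let x := ι.left z
  have hgx : ∀ g, (ρ g).hom.left x = x := fun g ↦ by
    change ((ι ≫ (ρ g).hom).left) z = x
    rw [hι]
  obtain ⟨W, hW, hxW, -⟩ := exists_isAffineOpen_mem_and_subset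
    (show X.hom x ∈ (⊤ : S.Opens) from trivial)
  obtain ⟨U₀, hU₀, hxU₀, hU₀W⟩ := exists_isAffineOpen_mem_and_subset
    (show x ∈ X.hom ⁻¹ᵁ W from hxW)
  have hρw : ∀ g, (ρ g).hom.left ≫ X.hom = X.hom := fun g ↦ Over.w _
  haveI : ∀ g, IsIso (ρ g).hom.left := fun g ↦ inferInstanceAs (IsIso ((Over.forget S).map (ρ g).hom))
  let V : X.left.Opens := ⨅ g : G, (ρ g).hom.left ⁻¹ᵁ U₀
  have hρU₀ : ∀ g, (ρ g).hom.left ⁻¹ᵁ U₀ ≤ X.hom ⁻¹ᵁ W := fun g y hy ↦ by
    have := hU₀W hy
    change ((ρ g).hom.left ≫ X.hom) y ∈ W at this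
    rwa [hρw] at this
  have hVaff : V ≤ X.hom ⁻¹ᵁ W ∧ IsAffineOpen V := by
    let P : Set X.left.Opens := {A | A ≤ X.hom ⁻¹ᵁ W ∧ IsAffineOpen A}
    have hP : InfClosed P := fun A hA B hB ↦ ⟨inf_le_left.trans hA.1,
      isAffineHom_diagonal_iff.mp inferInstance W hW A hA.1 B hB.1 hA.2 hB.2⟩
    exact hP.iInf_mem_of_nonempty fun g ↦ ⟨hρU₀ g, hU₀.preimage_of_isIso _⟩
  have hxV : x ∈ V := by
    have : ∀ g, x ∈ (ρ g).hom.left ⁻¹ᵁ U₀ := fun g ↦ by
      change (ρ g).hom.left x ∈ U₀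
      rw [hgx]; exact hxU₀
    simpa [V, ← SetLike.mem_coe, TopologicalSpace.Opens.coe_iInf] using this
  have hVg : ∀ g, V ≤ (ρ g).hom.left ⁻¹ᵁ V := fun g y hy ↦ by
    change (ρ g).hom.left y ∈ V
    simp only [V, ← SetLike.mem_coe, TopologicalSpace.Opens.coe_iInf] at hy ⊢
    simp only [Set.mem_iInter] at hy ⊢
    intro h
    have := hy (h * g)
    simpa [map_mul, Aut.Aut_mul_def] using this
  let U := ι.left ⁻¹ᵁ V
  have hU : IsAffineOpen U := hVaff.2.preimage ι.left
  refine ⟨U, hxV, ?_⟩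
  have hUW : U ≤ Z.hom ⁻¹ᵁ W := fun y hy ↦ by
    change Z.hom y ∈ W
    rw [← hw]; exact hVaff.1 hy
  let σ : G → (Γ(X.left, V) ⟶ Γ(X.left, V)) := fun g ↦ (ρ g).hom.left.appLE V V (hVg g)
  let a : Γ(S, W) ⟶ Γ(X.left, V) := X.hom.appLE W V hVaff.1
  have haσ : ∀ g, a ≫ σ g = a := fun g ↦ by
    rw [Scheme.Hom.appLE_comp_appLE]
    simp only [hρw]
    rfl
  let ψ : Γ(X.left, V) ⟶ Γ(Z.left, U) := ι.left.app V
  have hψe : ψ = ι.left.appLE V U le_rfl := ι.left.app_eq_appLE
  have hσψ : ∀ g, σ g ≫ ψ = ψ := fun g ↦ by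
    rw [hψe, Scheme.Hom.appLE_comp_appLE]
    have : ι.left ≫ (ρ g).hom.left = ι.left := by rw [← Over.comp_left, hι]
    simp only [this]
  have hσσ : ∀ g h, σ h ≫ σ g = σ (h * g) := fun g h ↦ by
    simp only [σ]
    rw [Scheme.Hom.appLE_comp_appLE]
    simp [map_mul, Aut.Aut_mul_def]
  have hab : a ≫ ψ = Z.hom.appLE W U hUW := by
    rw [hψe, Scheme.Hom.appLE_comp_appLE]
    simp only [hw]
  have hsm : a.hom.Smooth := HasRingHomProperty.appLE @Smooth X.hom inferInstance ⟨W, hW⟩ ⟨V, hVaff.2⟩ _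
  let J : Ideal Γ(X.left, V) := Ideal.span (Set.range fun p : G × Γ(X.left, V) ↦ σ p.1 p.2 - p.2)
  let q : Γ(X.left, V) ⟶ CommRingCat.of (Γ(X.left, V) ⧸ J) := CommRingCat.ofHom (Ideal.Quotient.mk J)
  have hqσ : ∀ g, σ g ≫ q = q := fun g ↦ CommRingCat.hom_ext (RingHom.ext fun y ↦
    Ideal.Quotient.eq.mpr (Ideal.subset_span ⟨(g, y), rfl⟩))
  let j : Spec (CommRingCat.of (Γ(X.left, V) ⧸ J)) ⟶ X.left := Spec.map q ≫ hVaff.2.fromSpec
  let t : Over.mk (j ≫ X.hom) ⟶ X := Over.homMk j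
  have hjfix : ∀ g, t ≫ (ρ g).hom = t := fun g ↦ by
    ext : 1
    change (Spec.map q ≫ hVaff.2.fromSpec) ≫ (ρ g).hom.left = Spec.map q ≫ hVaff.2.fromSpec
    rw [Category.assoc, ← IsAffineOpen.SpecMap_appLE_fromSpec _ hVaff.2 hVaff.2 (hVg g),
      ← Category.assoc, ← Spec.map_comp, hqσ]
  obtain ⟨t', ht', -⟩ := (hZ _ t).mp hjfix
  have hj' : t'.left ≫ ι.left = j := congrArg CommaMorphism.left ht'
  have hrange : Set.range t'.left ⊆ Set.range hU.fromSpec := by
    rintro _ ⟨y, rfl⟩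
    rw [hU.range_fromSpec]
    change (t'.left ≫ ι.left) y ∈ V
    rw [hj']
    have : hVaff.2.fromSpec (Spec.map q y) ∈ Set.range hVaff.2.fromSpec := ⟨_, rfl⟩
    rwa [hVaff.2.range_fromSpec] at this
  obtain ⟨ξ, hξ⟩ : ∃ ξ : Γ(Z.left, U) ⟶ _, Spec.map ξ ≫ hU.fromSpec = t'.left :=
    ⟨Spec.preimage (IsOpenImmersion.lift hU.fromSpec t'.left hrange), by
      rw [Spec.map_preimage, IsOpenImmersion.lift_fac]⟩
  have hξψ : ψ ≫ ξ = q := by
    apply Spec.map_injective
    rw [← cancel_mono hVaff.2.fromSpec, Spec.map_comp, Category.assoc, hψe,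
      IsAffineOpen.SpecMap_appLE_fromSpec _ hVaff.2 hU le_rfl, ← Category.assoc, hξ, hj']
  have hker : ∀ y, ψ y = 0 → y ∈ J := fun y hy ↦ Ideal.Quotient.eq_zero_iff_mem.mp (by
    have := congr($hξψ y)
    rw [CommRingCat.comp_apply, hy, map_zero] at this
    exact this.symm)
  have hn : IsUnit (Fintype.card G : Γ(S, W)) := by
    have := hG.map (S.presheaf.map (homOfLE (le_top : W ≤ ⊤)).op).hom
    simpa [Nat.card_eq_fintype_card] using this
  have hsmC : (Z.hom.appLE W U hUW).hom.Smooth := by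
    letI := a.hom.toAlgebra
    letI := (Z.hom.appLE W U hUW).hom.toAlgebra
    haveI : Algebra.Smooth Γ(S, W) Γ(X.left, V) := hsm
    exact smooth_of_fixed (R := Γ(S, W)) (B := Γ(X.left, V)) (C := Γ(Z.left, U))
      (fun g ↦ { (σ g).hom with commutes' := fun r ↦ congr($(haσ g) r) })
      (fun g h y ↦ congr($(hσσ g h) y)) hn
      { ψ.hom with commutes' := fun r ↦ congr($hab r) }
      (ι.left.app_surjective V hVaff.2) (fun g y ↦ congr($(hσψ g) y)) hker
  haveI : Smooth (Spec.map (Z.hom.appLE W U hUW)) :=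
    (HasRingHomProperty.Spec_iff (P := @Smooth)).mpr hsmC
  have hfac : U.ι ≫ Z.hom = hU.isoSpec.hom ≫ (Spec.map (Z.hom.appLE W U hUW) ≫ hW.fromSpec) := by
    rw [IsAffineOpen.SpecMap_appLE_fromSpec _ hW hU hUW, ← Category.assoc,
      IsAffineOpen.isoSpec_hom_fromSpec]
  rw [hfac]
  infer_instance

end Groth.Agent.S16212
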