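import Groth.Statements.S17681
import Groth.Agent.GrpScheme.IdComponent

set_option autoImplicit false
universe u
open CategoryTheory MonoidalCategory CartesianMonoidalCategory MonObj GrpObj AlgebraicGeometry
open AlgGrp

namespace Groth.Agent.S17681

open Groth.Agent.GrpScheme

/-- The equalizer of two morphisms equalised by an unramified morphism is open. -/
lemma exists_open_eqLocus {Q X Y : Scheme.{u}} (a₁ a₂ : Q ⟶ X) (f : X ⟶ Y)
    [IsOpenImmersion (Limits.pullback.diagonal f)] (h : a₁ ≫ f = a₂ ≫ f) :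
    ∃ O : Q.Opens, ∀ (Z : Scheme.{u}) (π : Z ⟶ Q),
      π ≫ a₁ = π ≫ a₂ ↔ Set.range π ⊆ (O : Set Q) := by
  let l := Limits.pullback.lift a₁ a₂ h
  let u := Limits.pullback.fst l (Limits.pullback.diagonal f)
  refine ⟨u.opensRange, fun Z π => ⟨fun e => ?_, fun hπ => ?_⟩⟩
  · have e' : π ≫ l = (π ≫ a₁) ≫ Limits.pullback.diagonal f := by
      refine Limits.pullback.hom_ext ?_ ?_
      · rw [Category.assoc, Category.assoc, Category.assoc, Limits.pullback.diagonal_fst,
          show l ≫ _ = a₁ from Limits.pullback.lift_fst _ _ _, Category.comp_id]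
      · rw [Category.assoc, Category.assoc, Category.assoc, Limits.pullback.diagonal_snd,
          show l ≫ _ = a₂ from Limits.pullback.lift_snd _ _ _, Category.comp_id, e]
    rintro _ ⟨z, rfl⟩
    refine ⟨(Limits.pullback.lift π (π ≫ a₁) e') z, ?_⟩
    rw [← Scheme.Hom.comp_apply, Limits.pullback.lift_fst]
  · rw [← IsOpenImmersion.lift_fac u π hπ, Category.assoc, Category.assoc]
    congr 1
    have h₁ := congr($(Limits.pullback.condition (f := l) (g := Limits.pullback.diagonal f)) ≫
      Limits.pullback.fst f f)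
    have h₂ := congr($(Limits.pullback.condition (f := l) (g := Limits.pullback.diagonal f)) ≫
      Limits.pullback.snd f f)
    rw [Category.assoc, Category.assoc, Limits.pullback.diagonal_fst,
      show l ≫ _ = a₁ from Limits.pullback.lift_fst _ _ _, Category.comp_id] at h₁
    rw [Category.assoc, Category.assoc, Limits.pullback.diagonal_snd,
      show l ≫ _ = a₂ from Limits.pullback.lift_snd _ _ _, Category.comp_id] at h₂
    exact h₁.trans h₂.symm

lemma geometricallyIrreducible_of_connected_fibres {S : Scheme.{u}} (G : Over S) [GrpObj G]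
    (hconn : ∀ s : S, ConnectedSpace (G.hom.fiber s)) : GeometricallyIrreducible G.hom := by
  rw [GeometricallyIrreducible.iff_geometricallyIrreducible_fiber]
  intro s
  let : GrpObj (Over.mk G.hom) := ‹GrpObj G›
  let : GrpObj (Over.mk (Limits.pullback.snd G.hom (S.fromSpecResidueField s))) :=
    Over.grpObjMkPullbackSnd
  let H : Over (Spec (S.residueField s)) :=
    Over.mk (Limits.pullback.snd G.hom (S.fromSpecResidueField s))
  have : ConnectedSpace H.left := hconn s
  have : IrreducibleSpace H.left := by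
    have h := IdComponent.connectedComponent_eq (K := S.residueField s) H
    rw [PreconnectedSpace.connectedComponent_eq_univ] at h
    rw [irreducibleSpace_def, Set.top_eq_univ, h]
    exact isIrreducible_irreducibleComponent
  exact Component.geometricallyIrreducible_of_irreducibleSpace (K := S.residueField s) H

/-- If fixing holds on an open set around the unit section of an irreducible `G ⊗ T`, it holds
at every point. -/
lemma exists_fixed {S : Scheme.{u}} {G X T : Over S} [GrpObj G] (a : AlgGrp.Action G X)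
    (y : T ⟶ X) (g₀ : T ⟶ G) [IrreducibleSpace (G ⊗ T).left] [Nonempty T.left]
    (W : (G ⊗ T).left.Opens)
    (hW : ∀ {Z : Over S} (π : Z ⟶ G ⊗ T), Set.range π.left ⊆ (W : Set (G ⊗ T).left) →
      lift (π ≫ fst G T) (π ≫ snd G T ≫ y) ≫ a.act = π ≫ snd G T ≫ y)
    (hone : ∀ w, (lift (1 : T ⟶ G) (𝟙 T)).left w ∈ W) :
    ∃ (Z : Over S) (_ : Nonempty Z.left) (π : Z ⟶ T),
      lift (π ≫ g₀) (π ≫ y) ≫ a.act = π ≫ y := by
  let d : G ⊗ T ⟶ G ⊗ T := lift ((snd G T ≫ g₀) * (fst G T)⁻¹) (snd G T)
  let d' : G ⊗ T ⟶ G ⊗ T := lift ((fst G T)⁻¹ * (snd G T ≫ g₀)) (snd G T)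
  have hdd : d' ≫ d = 𝟙 _ := by
    refine CartesianMonoidalCategory.hom_ext _ _ ?_ (by simp [d, d'])
    simp [d, d', MonObj.comp_mul, GrpObj.comp_inv]
  obtain ⟨w⟩ : Nonempty T.left := inferInstance
  generalize hone₀ : lift (1 : T ⟶ G) (𝟙 T) = one₂ at hone
  have hd2 : ∀ q : (G ⊗ T).left, d.left (d'.left q) = q := fun q =>
    (Points.comp_apply d' d q).symm.trans (congrArg (fun φ : G ⊗ T ⟶ G ⊗ T => φ.left q) hdd)
  obtain ⟨h, hh₁, hh₂⟩ := nonempty_preirreducible_inter W.2
    (W.2.preimage d.left.continuous) ⟨_, hone w⟩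
    ⟨d'.left (one₂.left w), Set.mem_preimage.mpr ((hd2 (one₂.left w)).symm ▸ hone w)⟩
  let π := Points.pointHom (G ⊗ T) h
  have e₁ := hW π (by rintro _ ⟨z, rfl⟩; rw [Points.pointHom_apply]; exact hh₁)
  have e₂ := hW (π ≫ d) (by
    rintro _ ⟨z, rfl⟩; rw [Points.comp_apply, Points.pointHom_apply]; exact hh₂)
  rw [Category.assoc, Category.assoc] at e₂
  simp only [d, lift_fst, lift_snd_assoc, MonObj.comp_mul, GrpObj.comp_inv] at e₂
  generalize hyy : π ≫ snd G T ≫ y = y' at e₁ e₂
  generalize hbb : π ≫ fst G T = b at e₁ e₂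
  generalize hgg : π ≫ snd G T ≫ g₀ = g' at e₂
  refine ⟨_, inferInstance, π ≫ snd G T, ?_⟩
  rw [Category.assoc, Category.assoc, hyy, hgg]
  have := congr(lift (lift (g' * b⁻¹) b) y' ≫ $(a.mul_act))
  rw [← Category.assoc, lift_whiskerRight, ← Hom.mul_def, inv_mul_cancel_right] at this
  rw [this, lift_lift_associator_hom_assoc, lift_whiskerLeft_assoc, e₁, e₂]

/-- Let S be a scheme, G a flat S-group scheme of finite presentation with connected fibres, X and Y
S-schemes locally of finite presentation with actions of G, and f : X → Y an étale G-equivariant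
S-morphism; assume that S is locally Noetherian or that X and Y are quasi-separated over S. Then f
reflects fixed points: a T-point x of X whose image in Y is fixed by G after every base change T' →
T is itself fixed by G after every base change, so that the fixed-point subfunctor of X is the
preimage of that of Y. (The source allows X and Y to be algebraic spaces over S; this row is the
case of schemes.) -/
theorem result (S : Scheme.{u})
    (G : Over S) [GrpObj G] [Flat G.hom] [LocallyOfFinitePresentation G.hom] [QuasiCompact G.hom]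
    [QuasiSeparated G.hom] (hconn : ∀ s : S, ConnectedSpace (G.hom.fiber s))
    (X Y : Over S) [LocallyOfFinitePresentation X.hom] [LocallyOfFinitePresentation Y.hom]
    (hS : IsLocallyNoetherian S ∨ (QuasiSeparated X.hom ∧ QuasiSeparated Y.hom))
    (a : AlgGrp.Action G X) (b : AlgGrp.Action G Y) (f : X ⟶ Y) [Etale f.left]
    (hf : a.act ≫ f = (G ◁ f) ≫ b.act) (T : Over S) (x : T ⟶ X)
    (hx : ∀ (T' : Over S) (t : T' ⟶ T) (g : T' ⟶ G), lift g (t ≫ x ≫ f) ≫ b.act = t ≫ x ≫ f)
    (T' : Over S) (t : T' ⟶ T) (g : T' ⟶ G) : lift g (t ≫ x) ≫ a.act = t ≫ x := by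
  have hgi := geometricallyIrreducible_of_connected_fibres G hconn
  let a₁ : G ⊗ T ⟶ X := (G ◁ x) ≫ a.act
  let a₂ : G ⊗ T ⟶ X := snd G T ≫ x
  have h12 : a₁ ≫ f = a₂ ≫ f := by
    have h := hx (G ⊗ T) (snd G T) (fst G T)
    have e : (G ◁ x) ≫ (G ◁ f) = lift (fst G T) (snd G T ≫ x ≫ f) := by
      ext <;> simp
    simp only [a₁, a₂, Category.assoc, hf, reassoc_of% e]
    exact h
  have : IsOpenImmersion (Limits.pullback.diagonal f.left) := inferInstance
  obtain ⟨O, hO⟩ := exists_open_eqLocus a₁.left a₂.left f.left congr(($h12).left)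
  have hOhom : ∀ {Z : Over S} (π : Z ⟶ G ⊗ T),
      π ≫ a₁ = π ≫ a₂ ↔ Set.range π.left ⊆ (O : Set (G ⊗ T).left) := fun π =>
    ⟨fun e => (hO _ _).mp congr(($e).left), fun e => Over.OverMorphism.ext ((hO _ _).mpr e)⟩
  have hact : ∀ {Z : Over S} (π : Z ⟶ G ⊗ T),
      π ≫ a₁ = lift (π ≫ fst G T) (π ≫ snd G T ≫ x) ≫ a.act := by
    intro Z π
    simp only [a₁]
    rw [← Category.assoc]
    congr 1
    ext <;> simp
  have huniv : ∀ q : (G ⊗ T).left, q ∈ O := by
    intro q
    let T₂ := Points.pointObj (G ⊗ T) q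
    let g₀ : T₂ ⟶ G := Points.pointHom (G ⊗ T) q ≫ fst G T
    let t₀ : T₂ ⟶ T := Points.pointHom (G ⊗ T) q ≫ snd G T
    have : IrreducibleSpace T₂.left := by
      have : Subsingleton T₂.left := inferInstanceAs (Subsingleton (Spec ((G ⊗ T).left.residueField q)))
      exact IdComponent.irreducibleSpace_of_subsingleton
    have hirr : IrreducibleSpace (G ⊗ T₂).left :=
      inferInstanceAs (IrreducibleSpace ↥(Limits.pullback G.hom T₂.hom))
    obtain ⟨Z, ⟨z⟩, π, hπ⟩ := exists_fixed a (t₀ ≫ x) g₀ ((G ◁ t₀).left ⁻¹ᵁ O) (fun {Z} π hπ => by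
      have e := (hOhom (π ≫ (G ◁ t₀))).mpr (by
        rintro _ ⟨z, rfl⟩
        rw [Points.comp_apply]; exact hπ ⟨z, rfl⟩)
      rw [hact] at e
      simpa [a₂] using e) (fun w => by
      have e : lift (1 : T₂ ⟶ G) (𝟙 T₂) ≫ (G ◁ t₀) ≫ a₁ =
          lift (1 : T₂ ⟶ G) (𝟙 T₂) ≫ (G ◁ t₀) ≫ a₂ := by
        rw [← Category.assoc, hact]
        have := congr(lift (toUnit T₂) (t₀ ≫ x) ≫ $(a.one_act))
        rw [← Category.assoc, lift_whiskerRight, lift_leftUnitor_hom, ← Hom.one_def] at this
        simpa [a₂] using this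
      have := (hOhom (lift (1 : T₂ ⟶ G) (𝟙 T₂) ≫ (G ◁ t₀))).mp (by simpa using e) ⟨w, rfl⟩
      rwa [Points.comp_apply] at this)
    have := (hOhom (π ≫ Points.pointHom (G ⊗ T) q)).mp (by
      rw [hact]
      simpa [a₂, g₀, t₀] using hπ) ⟨z, rfl⟩
    rwa [Points.comp_apply, Points.pointHom_apply (G ⊗ T) q] at this
  have := (hOhom (lift g t)).mpr fun q _ => huniv q
  rw [hact] at this
  simpa [a₂] using this

end Groth.Agent.S17681
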