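import Groth.Statements.S5260
import Groth.Agent.DiagRig.MonoLocus.Closed
import Groth.Agent.GrpScheme.SubgroupObj

set_option autoImplicit false
open CategoryTheory MonoidalCategory CartesianMonoidalCategory MonObj GrpObj AlgebraicGeometry
universe u
open SGA3x

namespace Groth.Agent.S5260

/-- Normalizer: Let G be an S-group locally of finite type and quasi-separated over S, H an S-group
which is smooth and of finite presentation over S with connected fibres, and i : H ⟶ G a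
homomorphism which is a monomorphism. Then the normalizer of H in G is representable by a closed
subgroup scheme of G whose immersion into G is of finite presentation. -/
theorem result {S : Scheme.{u}} (G H : Over S) [GrpObj G] [GrpObj H]
    [LocallyOfFiniteType G.hom] [QuasiSeparated G.hom] [Smooth H.hom] [QuasiCompact H.hom] [QuasiSeparated H.hom]
    (hconn : ∀ s : S, ConnectedSpace ↥(Limits.pullback H.hom (S.fromSpecResidueField s)))
    (i : H ⟶ G) [IsMonHom i] [Mono i] :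
    ∃ (N : Over S) (_ : GrpObj N) (j : N ⟶ G), Red.IsNormalizerOf i j ∧ IsClosedImmersion j.left ∧
      LocallyOfFinitePresentation j.left := by
  have : LocallyOfFinitePresentation i.left := by
    have : LocallyOfFinitePresentation (i.left ≫ G.hom) := by rw [Over.w i]; infer_instance
    exact Groth.Agent.GrpScheme.FlatFib.locallyOfFinitePresentation_of_comp i.left G.hom
  let δ : G ⊗ H ⟶ G := fst G H * (snd G H ≫ i) * (fst G H)⁻¹
  have hδ : ∀ {X : Over S} (x : X ⟶ G) (a : X ⟶ H), lift x a ≫ δ = x * (a ≫ i) * x⁻¹ := fun x a => by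
    simp only [δ, MonObj.comp_mul, GrpObj.comp_inv, lift_fst, lift_snd_assoc]
  obtain ⟨T, t, ht, hlfp, hT⟩ := Groth.Agent.DiagRig.MonoLocus.exists_closed_forall δ i hconn
    ⟨1, by rw [hδ, MonObj.one_comp, _root_.mul_one, mul_inv_cancel]⟩
    fun X x a b ⟨κ, hκ⟩ ⟨κ', hκ'⟩ => ⟨κ * κ', by
      rw [hδ] at hκ hκ' ⊢
      rw [MonObj.mul_comp, hκ, hκ', MonObj.mul_comp, conj_mul]⟩
  have hT' : ∀ {X : Over S} (g : X ⟶ G), (∃ x : X ⟶ T, x ≫ t = g) ↔
      ∀ (X' : Over S) (x : X' ⟶ X) (h : X' ⟶ H), ∃ h' : X' ⟶ H, (x ≫ g) * (h ≫ i) * (x ≫ g)⁻¹ = h' ≫ i :=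
    fun {X} g => (hT X g).trans
      (forall_congr' fun X' => forall_congr' fun x => forall_congr' fun h => exists_congr fun κ => by
        rw [hδ]; exact eq_comm)
  -- intersect with the inverse
  let c : Over.mk (t.left ≫ G.hom) ⟶ G := Over.homMk t.left rfl
  let N : Over S := Over.mk (Limits.pullback.fst t.left (t.left ≫ ι[G].left) ≫ T.hom)
  let p₁ : N ⟶ T := Over.homMk (Limits.pullback.fst t.left (t.left ≫ ι[G].left)) rfl
  have hc : t.left ≫ G.hom = T.hom := Over.w t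
  let p₂ : N ⟶ T := Over.homMk (Limits.pullback.snd t.left (t.left ≫ ι[G].left)) (by
    show Limits.pullback.snd _ _ ≫ T.hom = Limits.pullback.fst _ _ ≫ T.hom
    rw [← hc, Limits.pullback.condition_assoc, Category.assoc, Over.w ι[G]])
  let j : N ⟶ G := p₁ ≫ t
  have hjl : j.left = Limits.pullback.fst t.left (t.left ≫ ι[G].left) ≫ t.left := rfl
  have : IsIso ι[G].left := (inferInstance : IsIso ((Over.forget S).map ι[G]))
  have : IsClosedImmersion (t.left ≫ ι[G].left) := inferInstance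
  have : LocallyOfFinitePresentation (t.left ≫ ι[G].left) := inferInstance
  have hj : IsClosedImmersion j.left := by
    rw [hjl]
    have : IsClosedImmersion (Limits.pullback.fst t.left (t.left ≫ ι[G].left)) :=
      MorphismProperty.pullback_fst (P := @IsClosedImmersion) _ _ ‹_›
    infer_instance
  have hjf : LocallyOfFinitePresentation j.left := by
    rw [hjl]
    have : LocallyOfFinitePresentation (Limits.pullback.fst t.left (t.left ≫ ι[G].left)) :=
      MorphismProperty.pullback_fst (P := @LocallyOfFinitePresentation) _ _ ‹_›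
    infer_instance
  have : Mono j := Over.mono_of_mono_left j
  have hN : ∀ {X : Over S} (g : X ⟶ G), (∃ z : X ⟶ N, z ≫ j = g) ↔
      (∃ x : X ⟶ T, x ≫ t = g) ∧ ∃ x : X ⟶ T, x ≫ t = g⁻¹ := by
    intro X g
    refine ⟨fun ⟨z, hz⟩ => ⟨⟨z ≫ p₁, by rw [Category.assoc]; exact hz⟩, ⟨z ≫ p₂, ?_⟩⟩, fun ⟨⟨a, ha⟩, ⟨b, hb⟩⟩ => ?_⟩
    · rw [← hz, Hom.inv_def]
      have e : p₁ ≫ t = p₂ ≫ t ≫ ι[G] := Over.OverMorphism.ext Limits.pullback.condition
      simp only [j, Category.assoc]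
      rw [reassoc_of% e]
      have e2 : ι[G] ≫ ι[G] = 𝟙 G := GrpObj.inv_comp_inv G
      rw [e2, Category.comp_id]
    · have e : a.left ≫ t.left = b.left ≫ t.left ≫ ι[G].left := by
        have : a ≫ t = b ≫ t ≫ ι[G] := by rw [ha, ← Category.assoc, hb, ← Hom.inv_def, _root_.inv_inv]
        exact congrArg CommaMorphism.left this
      refine ⟨Over.homMk (Limits.pullback.lift a.left b.left e) ?_, ?_⟩
      · show _ ≫ Limits.pullback.fst _ _ ≫ T.hom = X.hom
        rw [Limits.pullback.lift_fst_assoc, Over.w a]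
      · rw [← ha]
        exact Over.OverMorphism.ext (Limits.pullback.lift_fst_assoc _ _ _ _)
  clear_value j
  have hiff : ∀ (X : Over S) (g : X ⟶ G), (∃ z : X ⟶ N, z ≫ j = g) ↔
      ∀ (X' : Over S) (x : X' ⟶ X) (h : X' ⟶ H),
        (∃ h' : X' ⟶ H, (x ≫ g) * (h ≫ i) * (x ≫ g)⁻¹ = h' ≫ i) ∧
        (∃ h' : X' ⟶ H, (x ≫ g)⁻¹ * (h ≫ i) * (x ≫ g) = h' ≫ i) := fun X g => by
    rw [hN, hT', hT']
    refine ⟨fun ⟨h1, h2⟩ X' x h => ⟨h1 X' x h, ?_⟩, fun hh => ⟨fun X' x h => (hh X' x h).1, fun X' x h => ?_⟩⟩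
    · simpa [GrpObj.comp_inv] using h2 X' x h
    · simpa [GrpObj.comp_inv] using (hh X' x h).2
  have hone : ∀ X, ∃ z : X ⟶ N, z ≫ j = (1 : X ⟶ G) := fun X => (hiff X 1).mpr fun X' x h => by
    rw [MonObj.comp_one, inv_one, _root_.one_mul, _root_.mul_one]
    exact ⟨⟨h, rfl⟩, ⟨h, rfl⟩⟩
  have hmul : ∃ z : N ⊗ N ⟶ N, z ≫ j = (fst N N ≫ j) * (snd N N ≫ j) := (hiff _ _).mpr fun X' x h => by
    rw [MonObj.comp_mul, ← Category.assoc, ← Category.assoc]
    have h1 := (hiff X' ((x ≫ fst N N) ≫ j)).mp ⟨_, rfl⟩ X' (𝟙 X')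
    have h2 := (hiff X' ((x ≫ snd N N) ≫ j)).mp ⟨_, rfl⟩ X' (𝟙 X')
    simp only [Category.id_comp] at h1 h2
    refine ⟨?_, ?_⟩
    · obtain ⟨a, ha⟩ := (h2 h).1
      obtain ⟨b, hb⟩ := (h1 a).1
      exact ⟨b, by rw [← hb, ← ha]; simp only [Category.assoc]; group⟩
    · obtain ⟨a, ha⟩ := (h1 h).2
      obtain ⟨b, hb⟩ := (h2 a).2
      exact ⟨b, by rw [← hb, ← ha]; simp only [Category.assoc]; group⟩
  have hinv : ∃ z : N ⟶ N, z ≫ j = j⁻¹ := (hiff _ _).mpr fun X' x h => by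
    rw [GrpObj.comp_inv, _root_.inv_inv]
    exact ((hiff N j).mp ⟨𝟙 N, Category.id_comp j⟩ X' x h).symm
  obtain ⟨inst, hmon⟩ := Groth.Agent.GrpScheme.SubgroupObj.exists_grpObj j
    (hmul.imp fun z hz => hz.trans (by rw [Hom.mul_def]; congr 1))
    ((hone _).imp fun z hz => hz.trans (by rw [Hom.one_def, toUnit_unique (toUnit _) (𝟙 _), Category.id_comp]))
    (hinv.imp fun z hz => hz.trans (by rw [Hom.inv_def]))
  exact ⟨N, inst, j, ⟨hmon, ‹Mono j›, hiff⟩, hj, hjf⟩

end Groth.Agent.S5260
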