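import Groth.Statements.S5442
import Groth.Agent.DiagRig.FixedSmoothGlobal
import Groth.Agent.GrpScheme.SubgroupObj
-- import your own Groth.Agent.* helpers here

set_option autoImplicit false
universe u
open CategoryTheory MonoidalCategory CartesianMonoidalCategory MonObj GrpObj AlgebraicGeometry CategoryTheory.Limits
open SGA3x

namespace Groth.Agent.S5442

/-- Let S be a scheme, G an S-group scheme separated and smooth over S, and H an S-group of
multiplicative type and of finite type acting on G by group automorphisms (on points, h · (g g′) =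
(h · g)(h · g′)). Then the functor Z = G^H of invariants (points of G fixed by all points of H after
any base change) is representable by a closed subgroup scheme of G which is smooth over S: there are
an S-group Z and a homomorphism Z → G which is a closed immersion, with Z smooth over S, whose
points are exactly the invariant points. (The published statement allows any S-group of
multiplicative type; this row assumes it moreover of finite type.) -/
theorem result (S : Scheme.{u}) (H G : Over S) [GrpObj H] [GrpObj G] (hH : SGA3x.IsMultTypeFT H)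
    [IsSeparated G.hom] [Smooth G.hom] (a : AlgGrp.Action H G)
    (hmul : ∀ (X : Over S) (h : X ⟶ H) (g g' : X ⟶ G),
      lift h (g * g') ≫ a.act = (lift h g ≫ a.act) * (lift h g' ≫ a.act)) :
    ∃ (Z : Over S) (_ : GrpObj Z) (z : Z ⟶ G) (_ : IsMonHom z), IsClosedImmersion z.left ∧ Smooth Z.hom ∧
      ∀ (X : Over S) (g : X ⟶ G), (∃ x : X ⟶ Z, x ≫ z = g) ↔
        ∀ (X' : Over S) (f : X' ⟶ X) (h : X' ⟶ H), lift h (f ≫ g) ≫ a.act = f ≫ g := by
  open Groth.Agent.DiagRig in
  obtain ⟨Z, i, hi, hlfp, hZ⟩ := exists_closed_eqLocus (X := G) (H := H) (W := G)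
    (lift (snd G H) (fst G H) ≫ a.act) (fst G H) (splitFpqc_of_multTypeFT H hH)
  have hpts : ∀ (X : Over S) (g : X ⟶ G), (∃ x : X ⟶ Z, x ≫ i = g) ↔
      ∀ (X' : Over S) (f : X' ⟶ X) (h : X' ⟶ H), lift h (f ≫ g) ≫ a.act = f ≫ g := by
    intro X g
    rw [hZ]
    refine forall_congr' fun X' => forall_congr' fun f => forall_congr' fun h => ?_
    simp only [comp_lift_assoc, lift_fst, lift_snd]
  have : Mono i := Over.mono_of_mono_left i
  have hone : ∀ (X : Over S) (h : X ⟶ H), lift h (1 : X ⟶ G) ≫ a.act = 1 := fun X h => by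
    have e := hmul X h 1 1
    rw [_root_.mul_one] at e
    exact mul_eq_left.mp e.symm
  obtain ⟨inst, hmon⟩ : ∃ _ : GrpObj Z, IsMonHom i := by
    refine Groth.Agent.GrpScheme.SubgroupObj.exists_grpObj i ((hpts _ _).mpr ?_) ((hpts _ _).mpr ?_) ((hpts _ _).mpr ?_)
    · intro X' f h
      have e : (i ⊗ₘ i) ≫ μ[G] = (fst Z Z ≫ i) * (snd Z Z ≫ i) := by
        rw [Hom.mul_def]
        congr 1
      rw [e, MonObj.comp_mul, hmul, ← Category.assoc, ← Category.assoc f (snd Z Z) i,
        (hpts X' ((f ≫ fst Z Z) ≫ i)).mp ⟨_, rfl⟩ X' (𝟙 _) h |> fun e => (by simpa using e :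
          lift h ((f ≫ fst Z Z) ≫ i) ≫ a.act = (f ≫ fst Z Z) ≫ i),
        (hpts X' ((f ≫ snd Z Z) ≫ i)).mp ⟨_, rfl⟩ X' (𝟙 _) h |> fun e => (by simpa using e :
          lift h ((f ≫ snd Z Z) ≫ i) ≫ a.act = (f ≫ snd Z Z) ≫ i)]
    · intro X' f h
      have e : f ≫ η[G] = (1 : X' ⟶ G) := by
        rw [Hom.one_def, toUnit_unique (toUnit X') f]
      rw [e, hone]
    · intro X' f h
      have e : i ≫ ι[G] = i⁻¹ := by rw [Hom.inv_def]
      have e2 := hmul X' h (f ≫ i⁻¹) (f ≫ i)
      have e3 := (hpts Z i).mp ⟨𝟙 Z, Category.id_comp i⟩ X' f h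
      rw [← MonObj.comp_mul, inv_mul_cancel, MonObj.comp_one, hone, e3] at e2
      rw [e, GrpObj.comp_inv] at *
      exact (eq_inv_of_mul_eq_one_left e2.symm)
  refine ⟨Z, inst, i, hmon, hi, ?_, hpts⟩
  rw [← Over.w i]
  refine Groth.Agent.DiagRig.smooth_fixed a i.left ?_ (Groth.Agent.DiagRig.splitFpqc_of_multTypeFT H hH)
  intro T x
  rw [← hpts]
  exact ⟨fun ⟨y, hy⟩ => ⟨Over.homMk y (by show y ≫ Z.hom = _; rw [← Over.w i, reassoc_of% hy, Over.w x]),
    Over.OverMorphism.ext hy⟩, fun ⟨y, hy⟩ => ⟨y.left, congrArg CommaMorphism.left hy⟩⟩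

end Groth.Agent.S5442
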