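import Groth.Statements.S5420
import Groth.Agent.S5442
import Groth.Agent.GrpdLib.MultAct.SemiProd
import Groth.Agent.Borel50.GeomTorus
import Groth.Agent.Borel50.CentralTorus
-- import your own Groth.Agent.* helpers here

set_option autoImplicit false
universe u
open CategoryTheory MonoidalCategory CartesianMonoidalCategory MonObj GrpObj AlgebraicGeometry CategoryTheory.Limits
open Red

namespace Groth.Agent.S5420

open CategoryTheory.Limits
open Groth.Agent.GrpdLib.MultAct
open Groth.Agent.GrpScheme.Basic (smul comp_smul)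

lemma irreducibleSpace_of_grp {k : Type u} [Field k] (G : Over (Spec (CommRingCat.of k))) [GrpObj G]
    [ConnectedSpace G.left] [LocallyOfFiniteType G.hom] :
    IrreducibleSpace G.left ∧ GeometricallyIrreducible G.hom := by
  have : IrreducibleSpace G.left := by
    have h1 : irreducibleComponent (Groth.Agent.GrpScheme.IdComponent.e₀ G) = Set.univ := by
      rw [← Groth.Agent.GrpScheme.IdComponent.connectedComponent_eq]
      exact PreconnectedSpace.connectedComponent_eq_univ _
    exact { toPreirreducibleSpace := ⟨h1 ▸ (isIrreducible_irreducibleComponent).2⟩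
            toNonempty := ⟨Groth.Agent.GrpScheme.IdComponent.e₀ G⟩ }
  exact ⟨this, Groth.Agent.GrpScheme.Component.geometricallyIrreducible_of_irreducibleSpace G⟩

set_option backward.isDefEq.respectTransparency.types false in
set_option maxHeartbeats 1000000 in
/-- The invariants of a torus in an affine smooth group with connected fibres have connected fibres. -/
lemma connected_fixed (S : Scheme.{u}) (Q H : Over S) [GrpObj Q] [GrpObj H] (hQ : Red.IsTorus Q)
    [IsAffineHom H.hom] [Smooth H.hom] (a : AlgGrp.Action Q H) [IsGrpAct a]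
    (F : Over S) [GrpObj F] (f : F ⟶ H) [IsMonHom f] [Mono f]
    (hF : ∀ (X : Over S) (h : X ⟶ H), (∃ x : X ⟶ F, x ≫ f = h) ↔
        ∀ (X' : Over S) (g : X' ⟶ X) (q : X' ⟶ Q), lift q (g ≫ h) ≫ a.act = g ≫ h)
    (hconn : ∀ s : S, _root_.IsConnected (H.hom.base ⁻¹' {s})) (s : S) :
    _root_.IsConnected (F.hom.base ⁻¹' {s}) := by
  have comm : ∀ {Y : Over S} (x y : Y ⟶ Q), x * y = y * x := fun x y =>
    DiagRig.mul_comm_of_splitFpqc (DiagRig.splitFpqc_of_multTypeFT Q (DiagRig.multTypeFT_of_torus hQ)) x y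
  have hfix : ∀ {Y : Over S} (q : Y ⟶ Q) (x : Y ⟶ F), smul a q (x ≫ f) = x ≫ f := fun {Y} q x => by
    have e := (hF Y (x ≫ f)).mp ⟨x, rfl⟩ Y (𝟙 Y) q
    rwa [Category.id_comp] at e
  let j : F ⊗ Q ⟶ semiObj a := semiPt a (fst F Q ≫ f) (snd F Q)
  have hj : ∀ {Y : Over S} (z : Y ⟶ F ⊗ Q), z ≫ j = semiPt a ((z ≫ fst F Q) ≫ f) (z ≫ snd F Q) := fun z => by
    rw [comp_semiPt, Category.assoc]
  have : Mono j := ⟨fun z w e => by
    rw [hj, hj] at e
    refine CartesianMonoidalCategory.hom_ext _ _ ((cancel_mono f).1 ?_) ?_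
    · simpa [semiPt_fst] using congrArg (fun m => m ≫ semiFst a) e
    · simpa [semiPt_snd] using congrArg (fun m => m ≫ semiSnd a) e⟩
  obtain ⟨instC, hjm⟩ : ∃ instC : GrpObj (F ⊗ Q), @IsMonHom _ _ _ _ _ instC.toMonObj _ j := by
    refine Groth.Agent.GrpScheme.SubgroupObj.exists_grpObj j ?_ ?_ ?_
    · refine ⟨lift ((fst (F ⊗ Q) (F ⊗ Q) ≫ fst F Q) * (snd (F ⊗ Q) (F ⊗ Q) ≫ fst F Q))
        ((fst (F ⊗ Q) (F ⊗ Q) ≫ snd F Q) * (snd (F ⊗ Q) (F ⊗ Q) ≫ snd F Q)), ?_⟩
      have e : (j ⊗ₘ j) ≫ μ[semiObj a] = (fst _ _ ≫ j) * (snd _ _ ≫ j) := by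
        rw [Hom.mul_def]
        congr 1
      rw [e, hj, hj, hj, semi_mul, hfix, lift_fst, lift_snd, MonObj.mul_comp]
    · refine ⟨lift 1 1, ?_⟩
      rw [hj, lift_fst, lift_snd, MonObj.one_comp, semi_eta]
    · refine ⟨lift (fst F Q)⁻¹ (snd F Q)⁻¹, ?_⟩
      rw [hj, lift_fst, lift_snd, GrpObj.inv_comp, ← Hom.inv_def,
        show j = semiPt a (fst F Q ≫ f) (snd F Q) from rfl, semi_inv]
      congr 1
      rw [← GrpObj.inv_comp, hfix]
  have hC : Red.IsCentralizerOf (inclG a) j := by
    refine ⟨hjm, inferInstance, fun X g => ?_⟩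
    have key : ∀ {X' : Over S} (b : X' ⟶ H) (c h : X' ⟶ Q),
        semiPt a b c * (h ≫ inclG a) = (h ≫ inclG a) * semiPt a b c ↔ smul a h b = b := by
      intro X' b c h
      have h1 : smul a c (1 : X' ⟶ H) = 1 := by
        have e := IsGrpAct.smul_mul (a := a) X' c 1 1
        rw [_root_.mul_one] at e
        exact mul_eq_left.mp e.symm
      rw [comp_inclG, semi_mul, semi_mul, h1, _root_.mul_one, _root_.one_mul, comm h c]
      refine ⟨fun e => ?_, fun e => by rw [e]⟩
      simpa [semiPt_fst] using (congrArg (fun m => m ≫ semiFst a) e).symm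
    constructor
    · rintro ⟨z, rfl⟩ X' x h
      rw [← Category.assoc, hj, key, hfix]
    · intro hg
      obtain ⟨x, hx⟩ := (hF X (g ≫ semiFst a)).mpr fun X' y q => by
        have e := hg X' y q
        rw [← semiPt_eta a (y ≫ g), key, Category.assoc] at e
        exact e
      refine ⟨lift x (g ≫ semiSnd a), ?_⟩
      rw [hj, lift_fst, lift_snd, hx, semiPt_eta]
  let t : Spec (CommRingCat.of ↥(S.residueField s)) ⟶ S := S.fromSpecResidueField s
  have : Mono (inclG a) := ⟨fun z w e => by
    rw [comp_inclG, comp_inclG] at e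
    simpa [semiPt_snd] using congrArg (fun m => m ≫ semiSnd a) e⟩
  have : IsMonHom (inclG a) := DiagRig.isMonHom_of_pts _ fun Y x y => by
    rw [comp_inclG, comp_inclG, comp_inclG, semi_mul,
      show smul a x (1 : Y ⟶ H) = 1 from mul_eq_left.mp
        (((IsGrpAct.smul_mul (a := a) Y x 1 1).symm.trans (by rw [_root_.mul_one]))), _root_.mul_one]
  have : IsAffineHom Q.hom := DiagRig.multType_isAffineHom Q (DiagRig.multTypeFT_of_torus hQ)
  have hQt := AbSch51.TorusToProper.isTorus_bc t hQ
  obtain ⟨hQs, hQqc, hQc⟩ := Borel50.CentralTorus.torus_props hQt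
  have : Smooth (Red.bc t H).hom := inferInstanceAs (Smooth (pullback.snd H.hom t))
  have : ConnectedSpace (Red.bc t H).left := by
    refine connectedSpace_iff_univ.mpr ⟨⟨?_, trivial⟩, ?_⟩
    · exact Classical.choice (Set.nonempty_coe_sort.mpr (show (Set.univ : Set ↥(pullback H.hom t)).Nonempty by
        obtain ⟨y, hy⟩ := (hconn s).nonempty
        have hy' : y ∈ Set.range (pullback.fst H.hom t) := by
          rw [Scheme.Pullback.range_fst, Scheme.range_fromSpecResidueField]; exact hy
        obtain ⟨z, -⟩ := hy'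
        exact ⟨z, trivial⟩)) |>.1
    · refine (pullback.fst H.hom t).isEmbedding.isInducing.isPreconnected_image.1 ?_
      rw [Set.image_univ]
      erw [Scheme.Pullback.range_fst, Scheme.range_fromSpecResidueField]
      exact (hconn s).isPreconnected
  obtain ⟨hHi, hHg⟩ := irreducibleSpace_of_grp (Red.bc t H)
  obtain ⟨hQi, -⟩ := irreducibleSpace_of_grp (Red.bc t Q)
  let P := Red.bc t (semiObj a)
  let eP : P ≅ Red.bc t H ⊗ Red.bc t Q := (Functor.Monoidal.μIso (Over.pullback t) H Q).symm
  let ePl : P.left ≅ pullback (Red.bc t H).hom (Red.bc t Q).hom := (Over.forget _).mapIso eP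
  have : ConnectedSpace P.left := by
    have : IrreducibleSpace P.left := ePl.hom.homeomorph.irreducibleSpace_iff.mpr inferInstance
    infer_instance
  have : Smooth P.hom := by
    rw [show P.hom = ePl.hom ≫ pullback.fst _ _ ≫ (Red.bc t H).hom from (Over.w eP.hom).symm]
    infer_instance
  have : IsAffineHom (pullback.fst H.hom Q.hom) :=
    MorphismProperty.pullback_fst (P := @IsAffineHom) H.hom Q.hom inferInstance
  have : IsAffineHom (semiObj a).hom := inferInstanceAs (IsAffineHom (pullback.fst H.hom Q.hom ≫ H.hom))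
  have : IsAffine P.left := by
    have : IsAffineHom P.hom := inferInstanceAs (IsAffineHom (pullback.snd (semiObj a).hom t))
    exact isAffine_of_isAffineHom P.hom
  have hCt := Borel50.OverField.isCentralizerOf_bc t (inclG a) j hC
  have := DiagRig.isMonHom_bcMap t (inclG a)
  have hconC := (Borel50.GeomTorus.connectedSpace_centralizer ((Over.pullback t).map (inclG a)) hQt
    ((Over.pullback t).map j) hCt).1
  have hFc : ConnectedSpace (Red.bc t F).left := by
    have hsec : (Over.pullback t).map (lift (𝟙 F) (1 : F ⟶ Q)) ≫ (Over.pullback t).map (fst F Q) = 𝟙 _ := by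
      rw [← Functor.map_comp, lift_fst, CategoryTheory.Functor.map_id]
    have hsur : Function.Surjective ((Over.pullback t).map (fst F Q)).left := fun z => ⟨((Over.pullback t).map (lift (𝟙 F) (1 : F ⟶ Q))).left z, by
      rw [← Scheme.Hom.comp_apply, ← Over.comp_left, hsec]
      rfl⟩
    exact hsur.connectedSpace ((Over.pullback t).map (fst F Q)).left.continuous
  have : ConnectedSpace ↥(pullback F.hom t) := hFc
  have h := (isConnected_univ (α := ↥(pullback F.hom t))).image (pullback.fst F.hom t)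
    (pullback.fst F.hom t).continuous.continuousOn
  rw [Set.image_univ] at h
  erw [Scheme.Pullback.range_fst, Scheme.range_fromSpecResidueField] at h
  exact h


/-- Let S be a scheme, Q an S-torus acting on an S-group scheme H by group automorphisms (on points, q ·
(h h') = (q · h)(q · h')), with H separated and smooth over S. (i) The functor of invariants H^Q
(points of H fixed by all points of Q after any base change) is representable by a closed subscheme
F of H which is smooth over S. (ii) If moreover H is affine over S with connected fibres, then F is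
affine over S with connected fibres. -/
theorem result (S : Scheme.{u}) (Q H : Over S) [GrpObj Q] [GrpObj H] (hQ : Red.IsTorus Q)
    [IsSeparated H.hom] [Smooth H.hom] (a : AlgGrp.Action Q H)
    (hmul : ∀ (X : Over S) (q : X ⟶ Q) (h h' : X ⟶ H),
      lift q (h * h') ≫ a.act = (lift q h ≫ a.act) * (lift q h' ≫ a.act)) :
    ∃ (F : Over S) (f : F ⟶ H), IsClosedImmersion f.left ∧ Smooth F.hom ∧
      (∀ (X : Over S) (h : X ⟶ H), (∃ x : X ⟶ F, x ≫ f = h) ↔
        ∀ (X' : Over S) (g : X' ⟶ X) (q : X' ⟶ Q), lift q (g ≫ h) ≫ a.act = g ≫ h) ∧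
      (IsAffineHom H.hom → (∀ s : S, _root_.IsConnected (H.hom.base ⁻¹' {s})) →
        IsAffineHom F.hom ∧ ∀ s : S, _root_.IsConnected (F.hom.base ⁻¹' {s})) := by
  obtain ⟨Z, _, z, hz, hzc, hzs, hpts⟩ :=
    Groth.Agent.S5442.result S Q H (DiagRig.multTypeFT_of_torus hQ) a hmul
  refine ⟨Z, z, hzc, hzs, hpts, fun hA hconn => ?_⟩
  have : Mono z := Over.mono_of_mono_left z
  have : IsGrpAct a := ⟨hmul⟩
  refine ⟨by rw [← Over.w z]; infer_instance, connected_fixed S Q H hQ a Z z hpts hconn⟩

end Groth.Agent.S5420
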