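import Groth.Statements.S3042
import Mathlib
import Groth.Agent.UnramFib.Basic
-- import your own Groth.Agent.* helpers here

set_option autoImplicit false
universe u
open CategoryTheory MonoidalCategory CartesianMonoidalCategory MonObj GrpObj AlgebraicGeometry TensorProduct
open SGA3

namespace Groth.Agent.S3042

/-- Let f : X → Y be a morphism of schemes locally of finite type. Then f is a monomorphism if and only
if, for every point y of Y, the fibre X_y → Spec κ(y) is a monomorphism. -/
theorem result (X Y : Scheme.{u}) (f : X ⟶ Y) [LocallyOfFiniteType f] :
    Mono f ↔ ∀ y : Y, Mono (f.fiberToSpecResidueField y) := by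
  constructor
  · intro h y
    exact (Limits.pullback.snd_of_mono : Mono (Limits.pullback.snd f (Y.fromSpecResidueField y)))
  · intro h
    have : FormallyUnramified f := Groth.Agent.UnramFib.formallyUnramified_of_fibers f fun y => by
      have := h y
      have : IsIso (Limits.pullback.diagonal (f.fiberToSpecResidueField y)) := (Limits.pullback.isIso_diagonal_iff _).mpr this
      infer_instance
    have hs : Surjective (Limits.pullback.diagonal f) := ⟨fun z => by
      let c := Limits.pullback.fst f f ≫ f
      let q := Spec.map (c.residueFieldMap z)
      have hc : (Limits.pullback f f).fromSpecResidueField z ≫ c = q ≫ Y.fromSpecResidueField (c z) :=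
        (c.SpecMap_residueFieldMap_fromSpecResidueField z).symm
      let a := (Limits.pullback f f).fromSpecResidueField z ≫ Limits.pullback.fst f f
      let b := (Limits.pullback f f).fromSpecResidueField z ≫ Limits.pullback.snd f f
      have ha : a ≫ f = q ≫ Y.fromSpecResidueField (c z) := by simpa [a, c] using hc
      have hb : b ≫ f = q ≫ Y.fromSpecResidueField (c z) := by
        rw [← ha]; simp [a, b, Limits.pullback.condition]
      have := h (c z)
      have hab : Limits.pullback.lift a q ha = (Limits.pullback.lift b q hb : _ ⟶ f.fiber (c z)) := by
        refine (cancel_mono (f.fiberToSpecResidueField (c z))).mp ?_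
        exact (Limits.pullback.lift_snd _ _ _).trans (Limits.pullback.lift_snd _ _ _).symm
      have hab' : a = b := by
        exact (Limits.pullback.lift_fst _ _ ha).symm.trans ((congrArg (fun l => l ≫ f.fiberι (c z)) hab).trans (Limits.pullback.lift_fst _ _ hb))
      obtain ⟨p⟩ := (inferInstance : Nonempty (Spec ((Limits.pullback f f).residueField z)))
      refine ⟨a p, ?_⟩
      have hd : (Limits.pullback f f).fromSpecResidueField z = a ≫ Limits.pullback.diagonal f := by
        refine Limits.pullback.hom_ext ?_ ?_
        · simp [a]
        · simp only [Category.assoc, Limits.pullback.diagonal_snd, Category.comp_id]; exact hab'.symm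
      rw [← Scheme.Hom.comp_apply, ← hd, Scheme.fromSpecResidueField_apply]⟩
    exact (Limits.pullback.isIso_diagonal_iff f).mp ((isIso_iff_isOpenImmersion_and_surjective _).mpr ⟨inferInstance, hs⟩)

end Groth.Agent.S3042
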