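import Groth.Statements.S19465
import Mathlib
import Groth.Agent.S3042

set_option autoImplicit false
universe u
open CategoryTheory CategoryTheory.Limits MonoidalCategory CartesianMonoidalCategory MonObj GrpObj AlgebraicGeometry
open AlgGrp

namespace Groth.Agent.S19465

open CategoryTheory CategoryTheory.Limits AlgebraicGeometry MonObj

/-- Let S be a scheme and G an S-group scheme whose structure morphism G → S is locally of finite type.
Then G → S is an isomorphism (G is the trivial group scheme over S) if and only if every fibre G_s →
Spec κ(s), s ∈ S, is an isomorphism. -/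
theorem result (S : Scheme.{u}) (G : Over S)
    [GrpObj G] [LocallyOfFiniteType G.hom] :
    IsIso G.hom ↔ ∀ s : S, IsIso (G.hom.fiberToSpecResidueField s) := by
  constructor
  · intro h s
    exact (inferInstance : IsIso (pullback.snd G.hom (S.fromSpecResidueField s)))
  · intro h
    haveI : Mono G.hom := (S3042.result G.left S G.hom).2 fun s => by haveI := h s; infer_instance
    have he : (η[G] : 𝟙_ (Over S) ⟶ G).left ≫ G.hom = (𝟙_ (Over S)).hom := Over.w _
    have hs : (η[G] : 𝟙_ (Over S) ⟶ G).left ≫ G.hom = 𝟙 S := he
    refine ⟨⟨(η[G] : 𝟙_ (Over S) ⟶ G).left, ?_, hs⟩⟩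
    rw [← cancel_mono G.hom, Category.assoc]
    exact (congrArg (G.hom ≫ ·) hs).trans ((Category.comp_id _).trans (Category.id_comp _).symm)

end Groth.Agent.S19465
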