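import Groth.Agent.PicLaw.Swap

/-!
A module with a tensor inverse is invertible.
-/

set_option autoImplicit false
universe u

open CategoryTheory Limits AlgebraicGeometry Opposite TopologicalSpace
open scoped TensorProduct

noncomputable section

namespace Groth.Agent.InvOfTensor

open Groth.Agent.QCoh Groth.Agent.Props.GenLocus Groth.Agent.Props.GenTensor

variable {X : Scheme.{u}} {L N : X.Modules}

theorem isGen_of_iso {M M' : X.Modules} (φ : M ⟶ M') [IsIso φ] {U : X.Opens} {e : Γ(M, U)}
    (he : IsGen M U e) : IsGen M' U (φ.app U e) := fun V h => by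
  have hb : Function.Bijective (φ.app V) :=
    (ConcreteCategory.isIso_iff_bijective _).mp ((Scheme.Modules.Hom.isIso_iff_isIso_app (φ := φ)).mp ‹_› V)
  have : sm (φ.app U e) h = φ.app V ∘ sm e h := funext fun a => by
    simp only [Function.comp_apply, sm, ← app_res, Scheme.Modules.Hom.app_smul]
  rw [this]
  exact hb.comp (he V h)

/-- Near every point some pure tensor generates. -/
theorem exists_tmul_isGen {U : X.Opens} {g : Γ(CohB1.tensorMod L N, U)}
    (hg : IsGen (CohB1.tensorMod L N) U g) {x : X} (hx : x ∈ U) :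
    ∃ (W : X.Opens) (m : Γ(L, W)) (n : Γ(N, W)), x ∈ W ∧
      IsGen (CohB1.tensorMod L N) W (tmul m n) := by
  obtain ⟨W, i, ⟨t, ht⟩, hxW⟩ :=
    Presheaf.imageSieve_mem (Opens.grothendieckTopology X) (η L N) (U := op U) g x hx
  have key : ∀ s : Γ(L, W) ⊗[Γ(X, W)] Γ(N, W), ∀ a : Γ(X, W),
      (η L N).app (op W) (show (pre L N).obj (op W) from s) = a • res (CohB1.tensorMod L N) i.le g →
      IsUnit ((X.presheaf.germ W x hxW).hom a) →
      ∃ (m : Γ(L, W)) (n : Γ(N, W)) (b : Γ(X, W)),
        tmul m n = b • res (CohB1.tensorMod L N) i.le g ∧ IsUnit ((X.presheaf.germ W x hxW).hom b) := by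
    intro s
    induction s using TensorProduct.induction_on with
    | zero =>
      intro a ha hu
      have h0 : a = 0 := hg.injective i.le (a := a) (b := 0)
        (ha.symm.trans ((map_zero _).trans (zero_smul _ _).symm))
      rw [h0, map_zero] at hu
      exact (not_isUnit_zero hu).elim
    | tmul m n => exact fun a ha hu => ⟨m, n, a, ha, hu⟩
    | add s₁ s₂ h₁ h₂ =>
      intro a ha hu
      obtain ⟨a₁, ha₁, -⟩ := hg.exists_eq i.le
        ((η L N).app (op W) (show (pre L N).obj (op W) from s₁))
      obtain ⟨a₂, ha₂, -⟩ := hg.exists_eq i.le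
        ((η L N).app (op W) (show (pre L N).obj (op W) from s₂))
      have h : a = a₁ + a₂ := hg.injective i.le (a := a) (b := a₁ + a₂) (by
        rw [add_smul, ← ha₁, ← ha₂, ← ha]
        exact map_add ((η L N).app (op W)).hom _ _)
      rw [h, map_add] at hu
      rcases IsLocalRing.isUnit_or_isUnit_of_isUnit_add hu with hu | hu
      · exact h₁ a₁ ha₁ hu
      · exact h₂ a₂ ha₂ hu
  obtain ⟨m, n, b, hb, hu⟩ := key t 1 (ht.trans (one_smul _ _).symm) (by rw [map_one]; exact isUnit_one)
  have hxb : x ∈ X.basicOpen b := (X.mem_basicOpen b x hxW).mpr hu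
  refine ⟨X.basicOpen b, res L (X.basicOpen_le b) m, res N (X.basicOpen_le b) n, hxb, ?_⟩
  rw [← res_tmul, hb, res_smul, res_res]
  exact (hg.restrict _).smul_unit (RingedSpace.isUnit_res_basicOpen _ b)

/-- If `m ⊗ n` generates `L ⊗ N`, then `m` generates `L`. -/
theorem isGen_left {W : X.Opens} {m : Γ(L, W)} {n : Γ(N, W)}
    (hg : IsGen (CohB1.tensorMod L N) W (tmul m n)) : IsGen L W m := by
  have hinj : ∀ (V : X.Opens) (h : V ≤ W) (l : Γ(L, V)), tmul l (res N h n) = 0 → l = 0 := by
    intro V h l hl
    have hmem := Presheaf.equalizerSieve_mem (Opens.grothendieckTopology X) (η L N)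
      (show (pre L N).presheaf.obj (op V) from
        (l ⊗ₜ[Γ(X, V)] res N h n : Γ(L, V) ⊗[Γ(X, V)] Γ(N, V))) 0
      (hl.trans (map_zero _).symm)
    choose W' i hW hxW using fun z : V => hmem z.1 z.2
    refine eq_of_locally_eq L (fun z => (i z).le)
      (fun x hx => Opens.mem_iSup.mpr ⟨⟨x, hx⟩, hxW _⟩) _ _ fun z => ?_
    have hz : W' z ≤ W := (i z).le.trans h
    have h0 : (res L (i z).le l ⊗ₜ[Γ(X, W' z)] res N (i z).le (res N h n)) =
        (0 : Γ(L, W' z) ⊗[Γ(X, W' z)] Γ(N, W' z)) := (hW z).trans (map_zero _)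
    let φ : Γ(N, W' z) →ₗ[Γ(X, W' z)] Γ(X, W' z) :=
      { toFun := fun n' => (hg.exists_eq hz (tmul (res L hz m) n')).choose
        map_add' := fun a b => hg.injective hz (by
          rw [add_smul, ← (hg.exists_eq hz (tmul (res L hz m) a)).choose_spec.1,
            ← (hg.exists_eq hz (tmul (res L hz m) b)).choose_spec.1,
            ← (hg.exists_eq hz (tmul (res L hz m) (a + b))).choose_spec.1]
          simp only [tmul, TensorProduct.tmul_add]
          exact map_add ((η L N).app (op (W' z))).hom _ _)
        map_smul' := fun c a => hg.injective hz (by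
          rw [RingHom.id_apply, smul_eq_mul, mul_smul,
            ← (hg.exists_eq hz (tmul (res L hz m) a)).choose_spec.1,
            ← (hg.exists_eq hz (tmul (res L hz m) (c • a))).choose_spec.1]
          exact tmul_smul_right _ _ _) }
    have hφ : φ (res N (i z).le (res N h n)) = 1 := hg.injective hz (by
      show ((hg.exists_eq hz (tmul (res L hz m) (res N (i z).le (res N h n)))).choose) • _ = _
      rw [← (hg.exists_eq hz (tmul (res L hz m) (res N (i z).le (res N h n)))).choose_spec.1,
        res_res, one_smul, res_tmul])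
    have h1 := congrArg (TensorProduct.lift
      ((LinearMap.lsmul Γ(X, W' z) Γ(L, W' z)).comp φ).flip) h0
    rw [TensorProduct.lift.tmul, map_zero, LinearMap.flip_apply, LinearMap.comp_apply, hφ,
      LinearMap.lsmul_apply, one_smul] at h1
    exact h1.trans (map_zero _).symm
  intro V h
  refine ⟨fun a b hab => hg.injective h ?_, fun l => ?_⟩
  · have := congrArg (fun l => tmul l (res N h n)) hab
    simp only [sm, tmul_smul_left, ← res_tmul] at this
    exact this
  · obtain ⟨a, ha, -⟩ := hg.exists_eq h (tmul l (res N h n))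
    refine ⟨a, (sub_eq_zero.mp (hinj V h (l - a • res L h m) ?_)).symm⟩
    have : tmul (l - a • res L h m) (res N h n) =
        tmul l (res N h n) - tmul (a • res L h m) (res N h n) := by
      simp only [tmul, TensorProduct.sub_tmul]
      exact map_sub ((η L N).app (op V)).hom _ _
    rw [this, tmul_smul_left, ← res_tmul, ← ha, sub_self]

/-- A module with a tensor inverse is invertible. -/
theorem isInvertible (e : CohB1.tensorMod L N ≅ Coh.structureModule X) : PicF.IsInvertible L := by
  refine AmpleLib.isInvertible_of_exists_isGen fun x => ?_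
  obtain ⟨W, m, n, hxW, hg⟩ :=
    exists_tmul_isGen (isGen_of_iso e.inv (isGen_one (⊤ : X.Opens))) (Opens.mem_top x)
  exact ⟨W, m, hxW, isGen_left hg⟩

end Groth.Agent.InvOfTensor

end
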