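import Groth.Statements.S16576
import Groth.Agent.EGA4Lib.CplFlat
import Groth.Agent.Depth.Local
import Groth.Agent.Nagata.Normalization
import Groth.Agent.InvQLib.FiniteFree
import Groth.Agent.RegLoc.Basic
import Groth.Agent.Adic.Basic
import Mathlib

set_option autoImplicit false
universe u
open CAlg

namespace Groth.Agent.S16576

section
open IsLocalRing RingTheory.Sequence
open scoped Pointwise

/-- A regular local domain of dimension `≥ 2` contains `x, y` in the maximal ideal, `x` prime, `y ∉ (x)`. -/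
lemma exists_prime_pair (S : Type u) [CommRing S] [IsRegularLocalRing S]
    (hd : (2 : WithBot ℕ∞) ≤ ringKrullDim S) :
    ∃ x y : S, x ∈ maximalIdeal S ∧ y ∈ maximalIdeal S ∧ x ≠ 0 ∧ (Ideal.span {x}).IsPrime ∧
      y ∉ Ideal.span {x} := by
  have := Groth.Agent.RegLoc.isDomain S
  obtain ⟨d, hd', -⟩ := Groth.Agent.RegLoc.exists_natCast_eq_ringKrullDim S
  obtain ⟨x, hx, hx2⟩ : ∃ x ∈ maximalIdeal S, x ∉ maximalIdeal S ^ 2 := by
    by_contra h
    push Not at h
    have hne : maximalIdeal S ≠ ⊥ := fun hb => by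
      have := ringKrullDim_eq_zero_of_isField (IsLocalRing.isField_iff_maximalIdeal_eq.mpr hb)
      rw [this] at hd
      exact absurd hd (by decide)
    refine hne (Submodule.eq_bot_of_le_smul_of_le_jacobson_bot (maximalIdeal S) _
      (IsNoetherian.noetherian _) ?_ (maximalIdeal_le_jacobson _))
    rw [smul_eq_mul, ← pow_two]
    exact h
  obtain ⟨hreg, e, he, hen⟩ := Groth.Agent.RegLoc.isRegularLocalRing_quotient_span_singleton hx hx2 hd'
  have hdom := Groth.Agent.RegLoc.isDomain (S ⧸ Ideal.span {x})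
  have hp : (Ideal.span ({x} : Set S)).IsPrime := (Ideal.Quotient.isDomain_iff_prime _).mp hdom
  have hne : ¬ maximalIdeal S ≤ Ideal.span {x} := fun h => by
    have heq : Ideal.span {x} = maximalIdeal S :=
      le_antisymm ((Ideal.span_singleton_le_iff_mem _).mpr hx) h
    have hmax : (Ideal.span ({x} : Set S)).IsMaximal := heq ▸ maximalIdeal.isMaximal S
    have hf := (Ideal.Quotient.maximal_ideal_iff_isField_quotient _).mp hmax
    have h0 := ringKrullDim_eq_zero_of_isField hf
    rw [he] at h0
    have he0 : e = 0 := by exact_mod_cast h0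
    rw [hd'] at hd
    have : (2 : ℕ) ≤ d := by exact_mod_cast hd
    omega
  obtain ⟨y, hy, hyx⟩ := SetLike.not_le_iff_exists.mp hne
  exact ⟨x, y, hx, hy, fun h0 => hx2 (h0 ▸ zero_mem _), hp, hyx⟩

/-- A finite injective extension of domains `S ⊆ D` has a nonzero `S`-linear form. -/
lemma exists_dual_one_ne_zero (S D : Type u) [CommRing S] [IsDomain S] [CommRing D] [IsDomain D]
    [Algebra S D] [Module.Finite S D] (hinj : Function.Injective (algebraMap S D)) :
    ∃ φ : D →ₗ[S] S, φ 1 ≠ 0 := by
  have : FaithfulSMul S D := (faithfulSMul_iff_algebraMap_injective S D).mpr hinj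
  let K := FractionRing S
  let L := FractionRing D
  let _ : Algebra K L := FractionRing.liftAlgebra S L
  obtain ⟨π, hπ⟩ := (Submodule.span K {(1 : L)}).exists_isCompl
  obtain ⟨ψ, hψ⟩ : ∃ ψ : L →ₗ[K] K, ψ 1 ≠ 0 := by
    by_contra h
    push Not at h
    exact one_ne_zero ((Module.forall_dual_apply_eq_zero_iff K (1 : L)).mp h)
  obtain ⟨n, g, hg⟩ := Module.Finite.exists_fin (R := S) (M := D)
  obtain ⟨s, hs⟩ := IsLocalization.exist_integer_multiples_of_finite (nonZeroDivisors S)
    (fun i => ψ (algebraMap D L (g i)))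
  let χ : D →ₗ[S] K := (s : S) • ((ψ.restrictScalars S).comp
    (IsScalarTower.toAlgHom S D L).toLinearMap)
  have hrange : ∀ d, χ d ∈ LinearMap.range (Algebra.linearMap S K) := by
    intro d
    have hd : d ∈ Submodule.span S (Set.range g) := hg ▸ Submodule.mem_top
    induction hd using Submodule.span_induction with
    | mem x hx => obtain ⟨i, rfl⟩ := hx; obtain ⟨a, ha⟩ := hs i; exact ⟨a, ha⟩
    | zero => simp
    | add x y _ _ hx hy => rw [map_add]; exact add_mem hx hy
    | smul r x _ hx => rw [map_smul]; exact Submodule.smul_mem _ r hx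
  let e := LinearEquiv.ofInjective (Algebra.linearMap S K) (IsFractionRing.injective S K)
  refine ⟨e.symm.toLinearMap ∘ₗ χ.codRestrict _ hrange, fun h => ?_⟩
  have h1 : χ 1 = 0 := by
    have := congrArg (fun z => (e z : K)) h
    simpa using this
  have h2 : (s : S) • ψ 1 = 0 := by
    simpa [χ] using h1
  rcases smul_eq_zero.mp h2 with hs0 | h0
  · exact nonZeroDivisors.ne_zero s.2 hs0
  · exact hψ h0

variable {R : Type u} [CommRing R] {S D : Type u} [CommRing S] [CommRing D] [IsDomain S] [IsDomain D]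
  [Algebra S D] [Module.Finite S D]

lemma smul_dual_ne_zero (hinj : Function.Injective (algebraMap S D)) {d : D} (hd : d ≠ 0)
    {φ : D →ₗ[S] S} (hφ : φ ≠ 0) : φ ∘ₗ LinearMap.mul S D d ≠ 0 := by
  intro h
  have := (faithfulSMul_iff_algebraMap_injective S D).mpr hinj
  obtain ⟨r, hr, t, ht⟩ := (Algebra.IsIntegral.isIntegral (R := S) d).isAlgebraic.exists_nonzero_dvd
    (mem_nonZeroDivisors_of_ne_zero hd)
  refine hφ (LinearMap.ext fun e => ?_)
  have h1 := LinearMap.congr_fun h (t * e)
  simp only [LinearMap.coe_comp, Function.comp_apply, LinearMap.mul_apply', LinearMap.zero_apply,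
    ← mul_assoc, ← ht, ← Algebra.smul_def, map_smul] at h1
  exact (smul_eq_zero.mp h1).resolve_left hr

/-- A complete Noetherian local domain of dimension `≥ 2`, seen as a quotient `R ⧸ P`, carries a
finite `R`-module of depth `≥ 2` with an element of annihilator exactly `P`. -/
lemma exists_module_depth (R : Type u) [CommRing R] [IsLocalRing R] [IsNoetherianRing R]
    [IsAdicComplete (maximalIdeal R) R] (P : Ideal R) [hP : P.IsPrime]
    (hd : (2 : WithBot ℕ∞) ≤ ringKrullDim (R ⧸ P)) :
    ∃ (N : ModuleCat.{u} R), Module.Finite R N ∧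
      (∃ n : N, ∀ r : R, r • n = 0 ↔ r ∈ P) ∧ 2 ≤ LocCoh.idealDepth (maximalIdeal R) N := by
  have : IsLocalRing (R ⧸ P) :=
    IsLocalRing.of_surjective' (Ideal.Quotient.mk P) Ideal.Quotient.mk_surjective
  have hc : IsAdicComplete (maximalIdeal R) (R ⧸ P) :=
    Groth.Agent.Adic.isAdicComplete_of_finite (I := maximalIdeal R) (A := R) (M := R ⧸ P)
  have hmax : (maximalIdeal R).map (algebraMap R (R ⧸ P)) = maximalIdeal (R ⧸ P) := by
    refine (IsLocalRing.eq_maximalIdeal ?_)
    exact Ideal.IsMaximal.map_of_surjective_of_ker_le Ideal.Quotient.mk_surjective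
      (by rw [Ideal.mk_ker]; exact le_maximalIdeal hP.ne_top)
  have : IsAdicComplete (maximalIdeal (R ⧸ P)) (R ⧸ P) := by
    rw [← hmax, IsAdicComplete.map_algebraMap_iff]
    exact hc
  obtain ⟨Λ, _, _, n, f, -, hinj, hfin, -, hreg, -⟩ :=
    Groth.Agent.Nagata.Normalization.exists_normalization (R ⧸ P)
  let S := MvPowerSeries (Fin n) Λ
  have : IsDomain S := hinj.isDomain f
  let _ : Algebra S (R ⧸ P) := f.toAlgebra
  have : Module.Finite S (R ⧸ P) := hfin
  have hint : Algebra.IsIntegral S (R ⧸ P) := Algebra.IsIntegral.of_finite _ _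
  rw [Groth.Agent.InvQLib.FiniteFree.ringKrullDim_eq_of_integral S (R ⧸ P) hinj] at hd
  obtain ⟨x, y, hx, hy, hx0, hxp, hyx⟩ := exists_prime_pair S hd
  have hlift : ∀ s ∈ maximalIdeal S, ∃ r ∈ maximalIdeal R,
      Ideal.Quotient.mk P r = algebraMap S (R ⧸ P) s := by
    intro s hs
    obtain ⟨r, hr⟩ := Ideal.Quotient.mk_surjective (algebraMap S (R ⧸ P) s)
    refine ⟨r, (mem_maximalIdeal r).mpr fun hu => ?_, hr⟩
    have hu' := hu.map (Ideal.Quotient.mk P)
    rw [hr] at hu'
    have : IsLocalHom (algebraMap S (R ⧸ P)) :=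
      RingHom.IsIntegral.isLocalHom (algebraMap_isIntegral_iff.mpr hint) hinj
    exact (mem_maximalIdeal s).mp hs (isUnit_of_map_unit _ _ hu')
  obtain ⟨x', hx'm, hx'⟩ := hlift x hx
  obtain ⟨y', hy'm, hy'⟩ := hlift y hy
  -- the module `Hom_S(R/P, S)`
  let μ : R →+* (R ⧸ P) →ₗ[S] (R ⧸ P) :=
    (Algebra.lmul S (R ⧸ P)).toRingHom.comp (Ideal.Quotient.mk P)
  let N := (R ⧸ P) →ₗ[S] S
  letI instN : Module R N :=
    { smul := fun r φ => φ ∘ₗ μ r
      one_smul := fun φ => by
        show φ ∘ₗ μ 1 = φ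
        rw [map_one]; rfl
      mul_smul := fun a b φ => by
        show φ ∘ₗ μ (a * b) = (φ ∘ₗ μ b) ∘ₗ μ a
        rw [mul_comm, map_mul]; rfl
      smul_zero := fun r => LinearMap.zero_comp _
      smul_add := fun r φ ψ => LinearMap.add_comp _ _ _
      add_smul := fun a b φ => by
        show φ ∘ₗ μ (a + b) = φ ∘ₗ μ a + φ ∘ₗ μ b
        rw [map_add, LinearMap.comp_add]
      zero_smul := fun φ => by
        show φ ∘ₗ μ 0 = 0
        rw [map_zero, LinearMap.comp_zero] }
  have hsmul : ∀ (r : R) (φ : N) (d : R ⧸ P), (r • φ) d = φ (Ideal.Quotient.mk P r * d) :=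
    fun r φ d => rfl
  have hsmulS : ∀ (r : R) (s : S), Ideal.Quotient.mk P r = algebraMap S (R ⧸ P) s →
      ∀ φ : N, r • φ = s • φ := fun r s h φ => LinearMap.ext fun d => by
    rw [hsmul, h, ← Algebra.smul_def, map_smul, LinearMap.smul_apply]
  have hfinN : Module.Finite R N := by
    obtain ⟨m, g, hg⟩ := Module.Finite.exists_fin (R := S) (M := N)
    refine ⟨Submodule.fg_iff_exists_fin_generating_family.mpr ⟨m, g, eq_top_iff.mpr fun φ _ => ?_⟩⟩
    have hφ : φ ∈ Submodule.span S (Set.range g) := hg ▸ Submodule.mem_top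
    clear * - hφ hsmulS
    induction hφ using Submodule.span_induction with
    | mem z hz => exact Submodule.subset_span hz
    | zero => exact zero_mem _
    | add a b _ _ ha hb => exact add_mem ha hb
    | smul s z _ hz =>
      obtain ⟨r, hr⟩ := Ideal.Quotient.mk_surjective (algebraMap S (R ⧸ P) s)
      rw [← hsmulS r s hr]
      exact Submodule.smul_mem _ r hz
  refine ⟨ModuleCat.of R N, hfinN, ?_, ?_⟩
  · obtain ⟨φ, hφ⟩ := exists_dual_one_ne_zero S (R ⧸ P) hinj
    refine ⟨φ, fun r => ⟨fun h => ?_, fun h => ?_⟩⟩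
    · by_contra hr
      exact smul_dual_ne_zero hinj (mt Ideal.Quotient.eq_zero_iff_mem.mp hr)
        (fun h0 => hφ (by rw [h0]; rfl)) h
    · show φ ∘ₗ μ r = 0
      rw [show μ r = 0 by
        ext d; show Ideal.Quotient.mk P r * d = 0
        rw [Ideal.Quotient.eq_zero_iff_mem.mpr h, zero_mul], LinearMap.comp_zero]
  have hreg : IsWeaklyRegular N [x', y'] := by
    rw [isWeaklyRegular_cons_iff]
    refine ⟨fun φ ψ h => LinearMap.ext fun d => ?_, ?_⟩
    · simp only [hsmulS x' x hx'] at h
      exact mul_left_cancel₀ hx0 (LinearMap.congr_fun h d)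
    rw [isWeaklyRegular_singleton_iff, isSMulRegular_iff_right_eq_zero_of_smul]
    intro q hq
    obtain ⟨φ, rfl⟩ := Submodule.Quotient.mk_surjective _ q
    rw [← Submodule.Quotient.mk_smul, Submodule.Quotient.mk_eq_zero,
      Submodule.mem_smul_pointwise_iff_exists] at hq
    obtain ⟨ψ, -, hψ⟩ := hq
    have hdvd : ∀ d, φ d ∈ Ideal.span {x} := fun d => by
      refine (hxp.mem_or_mem (x := y) ?_).resolve_left hyx
      have := LinearMap.congr_fun hψ d
      rw [hsmulS x' x hx', hsmulS y' y hy', LinearMap.smul_apply, LinearMap.smul_apply] at this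
      rw [← smul_eq_mul, ← this]
      exact Ideal.mem_span_singleton'.mpr ⟨ψ d, mul_comm _ _⟩
    choose c hc using fun d => Ideal.mem_span_singleton'.mp (hdvd d)
    let χ : N :=
      { toFun := c
        map_add' := fun a b => mul_right_cancel₀ hx0 (by rw [hc, add_mul, hc, hc, map_add])
        map_smul' := fun s a => mul_right_cancel₀ hx0 (by
          rw [hc, RingHom.id_apply, smul_eq_mul, mul_assoc, hc, map_smul, smul_eq_mul]) }
    rw [Submodule.Quotient.mk_eq_zero, Submodule.mem_smul_pointwise_iff_exists]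
    refine ⟨χ, trivial, LinearMap.ext fun d => ?_⟩
    rw [hsmulS x' x hx', LinearMap.smul_apply, smul_eq_mul, mul_comm]
    exact hc d
  have := Groth.Agent.Depth.le_idealDepth_of_isWeaklyRegular (I := maximalIdeal R) hreg
    (by simp only [List.mem_cons, List.not_mem_nil, or_false, forall_eq_or_imp, forall_eq]; exact ⟨hx'm, hy'm⟩)
  simpa using this

end

open IsLocalRing TensorProduct in
lemma main (R T : Type u) [CommRing R] [CommRing T] [IsLocalRing R] [IsLocalRing T] [IsNoetherianRing R]
    [IsNoetherianRing T] [IsAdicComplete (maximalIdeal R) R] [Algebra R T] [IsLocalHom (algebraMap R T)]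
    [Module.Flat R T] (hA : ∀ q ∈ minimalPrimes R, (2 : WithBot ℕ∞) ≤ ringKrullDim (R ⧸ q))
    (q : Ideal T) (hq : q ∈ minimalPrimes T) : (2 : WithBot ℕ∞) ≤ ringKrullDim (T ⧸ q) := by
  have hqP : q.IsPrime := hq.1.1
  obtain ⟨P, hP, hle⟩ := Ideal.exists_minimalPrimes_le (J := q.comap (algebraMap R T))
    (bot_le (a := q.comap (algebraMap R T)))
  have hPp : P.IsPrime := hP.1.1
  have hPq : q.comap (algebraMap R T) = P := by
    obtain ⟨Q, hQle, hQp, hQ⟩ := q.exists_ideal_le_liesOver_of_le (p := P) (q := q.comap (algebraMap R T)) hle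
    have : Q = q := le_antisymm hQle (hq.2 ⟨hQp, bot_le⟩ hQle)
    subst this
    exact hQ.over.symm
  obtain ⟨N, hNfin, ⟨n, hn⟩, hdepth⟩ := exists_module_depth R P (hA P hP)
  let M := T ⊗[R] N
  have hdM : (2 : ℕ∞) ≤ LocCoh.depth T M := by
    refine hdepth.trans ((Groth.Agent.Depth.idealDepth_le_idealDepth_of_isBaseChange
      (TensorProduct.isBaseChange R N T)).trans ?_)
    exact Groth.Agent.Depth.idealDepth_mono (((local_hom_TFAE (algebraMap R T)).out 0 2 rfl rfl).mp inferInstance)
  have hann : Module.annihilator T M ≤ q := by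
    intro b hb
    let ι : (R ⧸ P) →ₗ[R] N := P.liftQ (LinearMap.toSpanSingleton R N n) fun r hr => (hn r).mpr hr
    have hι : Function.Injective ι := by
      rw [← LinearMap.ker_eq_bot]
      refine Submodule.ker_liftQ_eq_bot _ _ _ fun r hr => (hn r).mp hr
    have h1 : b • ((1 : T) ⊗ₜ[R] n) = (0 : M) := Module.mem_annihilator.mp hb _
    rw [TensorProduct.smul_tmul', smul_eq_mul, mul_one] at h1
    have h2 : (b ⊗ₜ[R] (1 : R ⧸ P) : T ⊗[R] (R ⧸ P)) = 0 := by
      apply Module.Flat.lTensor_preserves_injective_linearMap (M := T) ι hι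
      rw [LinearMap.lTensor_tmul, map_zero]
      show b ⊗ₜ[R] ((1 : R) • n) = 0
      rw [one_smul]
      exact h1
    have h3 := congrArg (TensorProduct.tensorQuotEquivQuotSMul T P) h2
    rw [map_zero, show (1 : R ⧸ P) = Ideal.Quotient.mk P 1 from rfl,
      TensorProduct.tensorQuotEquivQuotSMul_tmul_mk, one_smul, Submodule.Quotient.mk_eq_zero,
      Ideal.smul_top_eq_map, Submodule.restrictScalars_mem] at h3
    exact Ideal.map_le_iff_le_comap.mpr hPq.ge h3
  have hass : q ∈ associatedPrimes T M := by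
    refine Module.associatedPrimes.minimalPrimes_annihilator_subset_associatedPrimes T M ⟨⟨hqP, hann⟩, ?_⟩
    exact fun y hy hyq => hq.2 ⟨hy.1, bot_le⟩ hyq
  exact le_trans (WithBot.coe_le_coe.mpr hdM) (Groth.Agent.Depth.depth_le_ringKrullDim_quotient hass)

/-- Let A → B be a flat local homomorphism of Noetherian local rings and let Â, B̂ be their completions
at the maximal ideals. If every irreducible component of Spec Â has dimension at least 2, then every
irreducible component of Spec B̂ has dimension at least 2. (This is the c_2 condition in its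
completed form; globally: the preimage of a c_2 closed subset under a flat morphism of Noetherian
schemes is c_2, in particular the condition is invariant under Zariski and étale localization.) -/
theorem result
    (A B : Type u) [CommRing A] [CommRing B] [IsNoetherianRing A] [IsNoetherianRing B]
    [IsLocalRing A] [IsLocalRing B] (f : A →+* B) [IsLocalHom f] (hf : f.Flat)
    (hA : ∀ q ∈ minimalPrimes (AdicCompletion (IsLocalRing.maximalIdeal A) A), (2 : WithBot ℕ∞) ≤ ringKrullDim (AdicCompletion (IsLocalRing.maximalIdeal A) A ⧸ q)) :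
    ∀ q ∈ minimalPrimes (AdicCompletion (IsLocalRing.maximalIdeal B) B), (2 : WithBot ℕ∞) ≤ ringKrullDim (AdicCompletion (IsLocalRing.maximalIdeal B) B ⧸ q) := by
  open TensorProduct IsLocalRing in
  letI := f.toAlgebra
  haveI : IsLocalHom (algebraMap A B) := ‹IsLocalHom f›
  haveI : Module.Flat A B := hf
  haveI : IsNoetherianRing (AdicCompletion (IsLocalRing.maximalIdeal A) A) :=
    RegLoc.Completion.isNoetherianRing_adicCompletion' _
  haveI : IsNoetherianRing (AdicCompletion (IsLocalRing.maximalIdeal B) B) :=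
    RegLoc.Completion.isNoetherianRing_adicCompletion' _
  obtain ⟨hAlg, htow, hloc⟩ := EGA4Lib.exists_algebra_cpl A B
  letI := hAlg
  haveI := htow
  haveI := hloc
  haveI := EGA4Lib.flat_cpl A B
  exact fun q hq => main _ _ hA q hq

end Groth.Agent.S16576
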