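import Groth.Statements.S15774
import Groth.Agent.CAlg.AdicAux

set_option autoImplicit false
universe u
open CAlg

namespace Groth.Agent.S15774

open Polynomial in
theorem root_aux {A : Type u} [CommRing A] {t : A} [HenselianRing A (Ideal.span {t})] {ε : A}
    (hε : t ∣ ε) : ∃ u : A, ε ∣ u ∧ ε + (u + u * u) * (4 * ε + 1) = 0 := by
  have h4 : IsUnit (4 * ε + 1) := by
    obtain ⟨c, rfl⟩ := hε
    have := Ideal.mem_jacobson_bot.1 (HenselianRing.jac (I := Ideal.span {t}) (Ideal.mem_span_singleton_self t)) (4 * c)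
    rwa [show t * (4 * c) + 1 = 4 * (t * c) + 1 by ring] at this
  set v : A := ↑h4.unit⁻¹
  have hmon : (X ^ 2 + X + C (ε * v)).Monic := by
    monicity!
  obtain ⟨u, hu, hu0⟩ := HenselianRing.is_henselian (I := Ideal.span {t}) (X ^ 2 + X + C (ε * v)) hmon 0
    (by simp; exact Ideal.mem_span_singleton.2 (hε.mul_right v))
    (by simp)
  have hroot : u ^ 2 + u + ε * v = 0 := by simpa [IsRoot] using hu
  have hu1 : IsUnit (u + 1) := by
    rw [sub_zero] at hu0
    simpa using Ideal.mem_jacobson_bot.1 (HenselianRing.jac (I := Ideal.span {t}) hu0) 1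
  refine ⟨u, ?_, ?_⟩
  · refine ⟨-v * ↑hu1.unit⁻¹, ?_⟩
    calc u = u * ((u + 1) * ↑hu1.unit⁻¹) := by rw [hu1.mul_val_inv, mul_one]
      _ = (u ^ 2 + u) * ↑hu1.unit⁻¹ := by ring
      _ = _ := by rw [eq_neg_of_add_eq_zero_left hroot]; ring
  · have h1 : v * (4 * ε + 1) = 1 := h4.val_inv_mul
    linear_combination (4 * ε + 1) * hroot - ε * h1

theorem rigid {C : Type u} [CommRing C] {t : C} (hcancel : ∀ y x : C, y = t * x * y → y = 0)
    {z b : C} {n : ℕ} (hz : z * z = t ^ n * z) (hb : b * b = t ^ n * b) (h : t ^ (n + 1) ∣ z - b) :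
    ∃ M : ℕ, t ^ M * (z - b) = 0 := by
  have hd : (z - b) * (z - b) * (z - b) = t ^ (2 * n) * (z - b) := by
    linear_combination (z + t ^ n - 3 * b) * hz + (3 * z - b - t ^ n) * hb
  obtain ⟨x, hx⟩ := h
  rw [hx] at hd
  refine ⟨2 * n, ?_⟩
  have h0 := hcancel (t ^ (3 * n + 1) * x) (t * (x * x)) (by linear_combination -hd)
  rw [hx]
  linear_combination h0

theorem normalize {C : Type u} [CommRing C] (t : C) (e : Localization.Away t) (he : IsIdempotentElem e) :
    ∃ (b : C) (n : ℕ), b * b = t ^ n * b ∧ e * algebraMap C (Localization.Away t) (t ^ n) = algebraMap C _ b := by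
  obtain ⟨b, ⟨_, n, rfl⟩, rfl⟩ := IsLocalization.exists_mk'_eq (Submonoid.powers t) e
  have h := he.eq
  rw [← IsLocalization.mk'_mul, IsLocalization.mk'_eq_iff_eq, IsLocalization.eq_iff_exists (Submonoid.powers t)] at h
  obtain ⟨⟨_, m, rfl⟩, hm⟩ := h
  simp only [Submonoid.coe_mul] at hm
  refine ⟨t ^ m * (t ^ n * b), m + (n + n), ?_, ?_⟩
  · linear_combination t ^ (m + n) * hm
  · rw [show t ^ (m + (n + n)) = t ^ n * (t ^ m * t ^ n) by ring, map_mul, ← mul_assoc,
      IsLocalization.mk'_spec (Localization.Away t) b (⟨(fun x => t ^ x) n, n, rfl⟩ : Submonoid.powers t), ← map_mul]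
    congr 1
    ring
theorem core {A C : Type u} [CommRing A] [CommRing C] {t : A} [HenselianRing A (Ideal.span {t})] (f : A →+* C)
    (hsep : ∀ x : C, (∀ i : ℕ, f t ^ i ∣ x) → x = 0)
    (hdense : ∀ (k : ℕ) (x : C), ∃ a : A, f t ^ k ∣ x - f a)
    (hdvd : ∀ (k : ℕ) (a : A), f t ^ k ∣ f a → t ^ k ∣ a)
    (e : Localization.Away (f t)) (he : IsIdempotentElem e) :
    ∃! e₀ : Localization.Away t, IsIdempotentElem e₀ ∧ Localization.awayMap f t e₀ = e := by
  have hcC : ∀ y x : C, y = f t * x * y → y = 0 := fun y x h => hsep y fun i => by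
    induction i with
    | zero => simp
    | succ i ih =>
      obtain ⟨c, hc⟩ := ih
      exact ⟨x * c, by rw [h, hc]; ring⟩
  have hcA : ∀ y x : A, y = t * x * y → y = 0 := fun y x h => by
    have hu := Ideal.mem_jacobson_bot.1 (HenselianRing.jac (I := Ideal.span {t}) (Ideal.mem_span_singleton_self t)) (-x)
    exact hu.mul_left_eq_zero.1 (by linear_combination h)
  obtain ⟨b, n, hb, heb⟩ := normalize (f t) e he
  obtain ⟨a, ha⟩ := hdense (3 * n + 1) b
  obtain ⟨c, hc⟩ := hdvd (3 * n + 1) (a * a - t ^ n * a) (by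
    obtain ⟨y, hy⟩ := ha
    rw [map_sub, map_mul, map_mul, map_pow, show f a = b - f t ^ (3 * n + 1) * y by rw [← hy]; ring]
    exact ⟨y * (f t ^ (3 * n + 1) * y - 2 * b + f t ^ n), by linear_combination hb⟩)
  obtain ⟨u, ⟨w, hw⟩, hu⟩ := root_aux (t := t) (ε := t ^ (n + 1) * c) (Dvd.dvd.mul_right (dvd_pow_self t n.succ_ne_zero) c)
  set z := a + (2 * a - t ^ n) * u with hzdef
  have hz : z * z = t ^ n * z := by
    linear_combination (1 + 4 * u + 4 * (u * u)) * hc + t ^ (2 * n) * hu
  have hφ1 : ∀ x : A, Localization.awayMap f t (algebraMap A _ x) = algebraMap C _ (f x) := fun x => IsLocalization.map_eq _ _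
  have hzn : algebraMap C (Localization.Away (f t)) (f z) = algebraMap C _ b := by
    obtain ⟨M, hM⟩ := rigid hcC (z := f z) (b := b) (n := n) (by rw [← map_mul, hz, map_mul, map_pow]) hb (by
      obtain ⟨y, hy⟩ := ha
      refine ⟨-(f t ^ (2 * n) * y) + (2 * f a - f t ^ n) * (f c * f w), ?_⟩
      simp only [hzdef, hw, map_add, map_sub, map_mul, map_pow, map_ofNat]
      linear_combination -hy)
    have h1 := congrArg (algebraMap C (Localization.Away (f t))) hM
    rw [map_mul, map_pow, map_zero, map_sub] at h1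
    exact sub_eq_zero.1 (((IsLocalization.Away.algebraMap_isUnit (S := Localization.Away (f t)) (f t)).pow M).mul_right_eq_zero.1 h1)
  have hunit : IsUnit (algebraMap C (Localization.Away (f t)) (f t ^ n)) := by
    rw [map_pow]; exact (IsLocalization.Away.algebraMap_isUnit (f t)).pow n
  refine ⟨IsLocalization.mk' _ z (⟨t ^ n, n, rfl⟩ : Submonoid.powers t), ⟨?_, ?_⟩, ?_⟩
  · show _ * _ = _
    rw [← IsLocalization.mk'_mul, IsLocalization.mk'_eq_iff_eq, Submonoid.coe_mul]
    congr 1
    linear_combination t ^ n * hz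
  · apply hunit.mul_left_injective
    show Localization.awayMap f t _ * _ = e * _
    rw [heb, ← hzn, ← hφ1, ← map_pow, ← hφ1, ← map_mul, IsLocalization.mk'_spec]
  · rintro e₁ ⟨he₁, hφe₁⟩
    obtain ⟨b₁, n₁, hb₁, heb₁⟩ := normalize t e₁ he₁
    have key : algebraMap C (Localization.Away (f t)) (f (t ^ n * b₁ - t ^ n₁ * z)) = 0 := by
      rw [map_sub, map_mul, map_mul, map_sub, map_mul, map_mul, hzn, ← heb, ← hφ1 b₁, ← heb₁, map_mul, hφ1, hφe₁, map_pow f t n]
      ring
    obtain ⟨⟨_, m, rfl⟩, hm⟩ := (IsLocalization.map_eq_zero_iff (Submonoid.powers (f t)) _ _).1 key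
    have h0 : f (t ^ m * (t ^ n * b₁) - t ^ m * (t ^ n₁ * z)) = 0 := by
      rw [← mul_sub, map_mul, map_pow]; exact hm
    obtain ⟨M, hM⟩ := rigid hcA (z := t ^ m * (t ^ n * b₁)) (b := t ^ m * (t ^ n₁ * z)) (n := m + (n + n₁))
      (by linear_combination t ^ (2 * m + 2 * n) * hb₁) (by linear_combination t ^ (2 * m + 2 * n₁) * hz)
      (hdvd _ _ (by rw [h0]; exact dvd_zero _))
    have h1 := congrArg (algebraMap A (Localization.Away t)) hM
    have ut : ∀ k, IsUnit (algebraMap A (Localization.Away t) (t ^ k)) := fun k => by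
      rw [map_pow]; exact (IsLocalization.Away.algebraMap_isUnit t).pow k
    rw [map_mul, map_zero, ← mul_sub, map_mul, map_sub, map_mul, map_mul] at h1
    have h2 := (ut m).mul_right_eq_zero.1 ((ut M).mul_right_eq_zero.1 h1)
    rw [← heb₁, sub_eq_zero] at h2
    rw [eq_comm, IsLocalization.mk'_eq_iff_eq_mul]
    refine (ut n₁).mul_left_cancel ?_
    rw [← h2]
    show _ = _ * (e₁ * algebraMap A (Localization.Away t) (t ^ n))
    ring

/-- The instance A[1/t] → Â[1/t]: if (A, tA) is a Henselian pair and the t-power torsion of A is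
bounded, then every idempotent of Â[1/t] (Â the t-adic completion) comes from a unique idempotent of
A[1/t]. -/
theorem result (A : Type u) [CommRing A] (t : A) [HenselianRing A (Ideal.span {t})]
    (hbd : ∃ N : ℕ, ∀ a : A, (∃ m : ℕ, t ^ m * a = 0) → t ^ N * a = 0)
    (e : Localization.Away (algebraMap A (AdicCompletion (Ideal.span {t}) A) t)) (he : IsIdempotentElem e) :
    ∃! e₀ : Localization.Away t, IsIdempotentElem e₀ ∧ Localization.awayMap (algebraMap A (AdicCompletion (Ideal.span {t}) A)) t e₀ = e := by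
  classical
  haveI : IsAdicComplete (Ideal.span {t}) (AdicCompletion (Ideal.span {t}) A) := AdicCompletion.isAdicComplete (Submodule.fg_span_singleton t)
  have hmem : ∀ (k : ℕ) (x : AdicCompletion (Ideal.span {t}) A), x ∈ (Ideal.span {t} ^ k • ⊤ : Submodule A _) ↔
      algebraMap A (AdicCompletion (Ideal.span {t}) A) t ^ k ∣ x := fun k x => by
    rw [Ideal.smul_top_eq_map, Submodule.restrictScalars_mem, Ideal.map_pow, Ideal.map_span, Set.image_singleton,
      Ideal.span_singleton_pow, Ideal.mem_span_singleton]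
  refine core (algebraMap A (AdicCompletion (Ideal.span {t}) A)) (fun x hx => AdicCompletion.ext fun i => ?_) (fun k x => ?_) (fun k a ha => ?_) e he
  · rw [Groth.Agent.CAlg.AdicAux.val_eq_zero_of_mem ((hmem i x).2 (hx i))]
    rfl
  · obtain ⟨a, ha⟩ := Groth.Agent.CAlg.AdicAux.exists_sub_of_mem k x
    exact ⟨a, (hmem k _).1 ha⟩
  · have h := Groth.Agent.CAlg.AdicAux.mem_of_of_mem ((hmem k _).2 ha : AdicCompletion.of _ A a ∈ _)
    rwa [smul_eq_mul, Ideal.mul_top, Ideal.span_singleton_pow, Ideal.mem_span_singleton] at h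

end Groth.Agent.S15774
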