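import Groth.Statements.S1240
import Groth.Agent.FlatMisc.FlatFibreDimGen
import Groth.Agent.Wt.GenFibDim
import Groth.Agent.LimTop.Closure
-- import your own Groth.Agent.* helpers here

set_option autoImplicit false
universe u
open FlatMor

namespace Groth.Agent.S1240

open AlgebraicGeometry CategoryTheory TopologicalSpace Topology

theorem localDim_openEmbedding {Z W : Type u} [TopologicalSpace Z] [TopologicalSpace W] {j : Z → W}
    (hj : IsOpenEmbedding j) (z : Z) : FlatMor.localDim Z z = FlatMor.localDim W (j z) := by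
  refine le_antisymm (le_iInf fun O => iInf_le_of_le ⟨⟨j ⁻¹' O.1, O.1.2.preimage hj.continuous⟩, O.2⟩ ?_)
    (le_iInf fun O => iInf_le_of_le ⟨⟨j '' O.1, hj.isOpenMap _ O.1.2⟩, z, O.2, rfl⟩ ?_)
  · refine IsInducing.topologicalKrullDim_le
      (f := fun w : (j ⁻¹' O.1 : Set Z) => (⟨j w, w.2⟩ : (O.1 : Set W))) ?_
    exact IsInducing.of_comp ((hj.continuous.comp continuous_subtype_val).subtype_mk _) continuous_subtype_val
      (hj.isInducing.comp IsInducing.subtypeVal)
  · let back : (j '' O.1 : Set W) → (O.1 : Set Z) := fun w => ⟨w.2.choose, w.2.choose_spec.1⟩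
    refine IsInducing.topologicalKrullDim_le (f := back) ?_
    have hind : IsInducing (fun z : (O.1 : Set Z) => j z) := hj.isInducing.comp IsInducing.subtypeVal
    refine (hind.of_comp_iff (f := back)).mp ?_
    have : (fun z : (O.1 : Set Z) => j z) ∘ back = Subtype.val := funext fun w => w.2.choose_spec.2
    rw [this]
    exact IsInducing.subtypeVal

theorem fibreDimAt_resLE {X S : Scheme.{u}} (f : X ⟶ S) (V : S.Opens) (W : X.Opens) (e : W ≤ f ⁻¹ᵁ V)
    (z : W.toScheme) :
    FlatMor.fibreDimAt (f.resLE V W e) z = FlatMor.fibreDimAt f (W.ι z) := by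
  rw [FlatMisc.FibreDimScheme.fibreDimAt_eq, FlatMisc.FibreDimScheme.fibreDimAt_eq]
  have hc : ∀ w : W.toScheme, f (W.ι w) = V.ι (f.resLE V W e w) := fun w => by
    rw [← Scheme.Hom.comp_apply, ← Scheme.Hom.comp_apply, Scheme.Hom.resLE_comp_ι]
  let j : ↥(f.resLE V W e ⁻¹' {f.resLE V W e z}) → ↥(f ⁻¹' {f (W.ι z)}) := fun w => ⟨W.ι w.1, by
    show f _ = f _
    rw [hc, hc, show f.resLE V W e w.1 = f.resLE V W e z from w.2]⟩
  have hj : IsOpenEmbedding j := by
    refine ⟨⟨IsInducing.of_comp ((W.ι.continuous.comp continuous_subtype_val).subtype_mk _) continuous_subtype_val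
      (W.ι.isOpenEmbedding.isInducing.comp IsInducing.subtypeVal), fun a b hab => ?_⟩, ?_⟩
    · exact Subtype.ext (W.ι.isOpenEmbedding.injective (congrArg (fun q : ↥(f ⁻¹' {f (W.ι z)}) => q.1) hab))
    · have : Set.range j = Subtype.val ⁻¹' (W : Set X) := by
        ext w
        refine ⟨fun ⟨a, ha⟩ => ha ▸ a.1.2, fun hw => ⟨⟨⟨w.1, hw⟩, ?_⟩, rfl⟩⟩
        exact V.ι.isOpenEmbedding.injective ((hc _).symm.trans (w.2.trans (hc z)))
      rw [this]
      exact W.2.preimage continuous_subtype_val
  exact localDim_openEmbedding hj ⟨z, rfl⟩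

theorem fibreDimAt_le_generic {X S : Scheme.{u}} (f : X ⟶ S) [LocallyOfFinitePresentation f]
    (U : S.Opens) (hU : Dense (U : Set S)) (n : ℕ)
    (hle : ∀ x : X, f x ∈ U → FlatMor.fibreDimAt f x ≤ n) (x : X)
    (hmin : ∀ z : S, z ⤳ f x → z = f x) : FlatMor.fibreDimAt f x ≤ n := by
  by_contra hcon
  obtain ⟨V, hV, hxV, -⟩ := exists_isAffineOpen_mem_and_subset (x := f x) (U := ⊤) trivial
  obtain ⟨W, hW, hxW, hWV'⟩ := exists_isAffineOpen_mem_and_subset (x := x) (U := f ⁻¹ᵁ V) hxV
  have hWV : W ≤ f ⁻¹ᵁ V := hWV'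
  haveI : IsAffine (V : Scheme.{u}) := hV
  haveI : IsAffine (W : Scheme.{u}) := hW
  let g := f.resLE V W hWV
  haveI : LocallyOfFinitePresentation g := by
    show LocallyOfFinitePresentation (f.resLE V W hWV)
    infer_instance
  let T : Set (V : Scheme.{u}) := ConsPropPair.locusPair
    (fun (X _ _ : Scheme.{u}) _ _ => topologicalKrullDim X ∈ {d : WithBot ℕ∞ | ¬ d ≤ n}) g g
  have hT : ∀ t, t ∈ T ↔ ¬ topologicalKrullDim (g.fiber t) ≤ n := fun t => Iff.rfl
  have hcons : IsLocallyConstructible T :=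
    ConsPairLib.isLocallyConstructible_locusPair (Wt.GenFib.isConsPair_topDim _) g g
  have hη : g ⟨x, hxW⟩ ∈ T := by
    rw [hT]
    intro h
    have := (FlatMisc.FibreDimScheme.topDim_fiber_le_iff g _ n).mp h ⟨x, hxW⟩ rfl
    rw [fibreDimAt_resLE f V W hWV] at this
    exact hcon this
  have hgx : V.ι (g ⟨x, hxW⟩) = f x := by
    rw [← Scheme.Hom.comp_apply, Scheme.Hom.resLE_comp_ι]
    rfl
  have hncl : g ⟨x, hxW⟩ ∉ closure Tᶜ := fun h => by
    obtain ⟨w, hw, hwx⟩ := LimTop.exists_specializes_of_mem_closure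
      (LimTop.isProConstructible_of_isLocallyConstructible (LimTop.isLocallyConstructible_compl hcons)) h
    have h1 : V.ι w = f x := hmin _ (hgx ▸ hwx.map V.ι.continuous)
    exact hw (V.ι.isOpenEmbedding.injective (h1.trans hgx.symm) ▸ hη)
  obtain ⟨-, ⟨t, ht, rfl⟩, htU⟩ := hU.inter_open_nonempty (V.ι '' (closure Tᶜ)ᶜ)
    (V.ι.isOpenEmbedding.isOpenMap _ isClosed_closure.isOpen_compl) ⟨_, _, hncl, rfl⟩
  have htT : t ∈ T := not_not.mp fun h => ht (subset_closure h)
  refine (hT t).mp htT ((FlatMisc.FibreDimScheme.topDim_fiber_le_iff g t n).mpr fun z hz => ?_)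
  rw [fibreDimAt_resLE f V W hWV]
  refine hle _ ?_
  rw [← Scheme.Hom.comp_apply, ← Scheme.Hom.resLE_comp_ι f hWV, Scheme.Hom.comp_apply]
  show V.ι (g z) ∈ U
  rw [hz]
  exact htU

open AlgebraicGeometry CategoryTheory in
/-- Let f : X → S be flat and locally of finite type and U ⊆ S a dense open such that the fibres of f at
points over U have local dimension at most e everywhere. If f is locally of finite presentation, or
U is retrocompact in S, then every fibre of f has local dimension at most e at every point. -/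
theorem result {X S : Scheme.{u}} (f : X ⟶ S) [Flat f] [LocallyOfFiniteType f]
    (U : S.Opens) (hU : Dense (U : Set S)) (e : ℕ)
    (hle : ∀ x : X, f.base x ∈ U → FlatMor.fibreDimAt f x ≤ e)
    (h : LocallyOfFinitePresentation f ∨ IsRetrocompact (U : Set S)) (x : X) :
    FlatMor.fibreDimAt f x ≤ e := by
  let s := f x
  have hirr : IsIrreducible (irreducibleComponent s) := isIrreducible_irreducibleComponent
  let η := hirr.genericPoint
  have hgen : IsGenericPoint η (irreducibleComponent s) :=
    hirr.isGenericPoint_genericPoint isClosed_irreducibleComponent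
  have hηs : η ⤳ s := hgen.specializes mem_irreducibleComponent
  have hmin : ∀ z : S, z ⤳ η → z = η := fun z hz => by
    refine (hz.antisymm ?_).eq
    have h1 : closure {z} ≤ irreducibleComponent s :=
      (irreducibleComponent_mem_irreducibleComponents s).2 isIrreducible_singleton.closure
        (hgen.def.symm.le.trans (specializes_iff_closure_subset.mp hz))
    exact hgen.specializes (h1 (subset_closure rfl))
  refine Groth.Agent.FlatMisc.FlatFibreDimGen.fibreDimAt_le_of_generization f hηs e (fun y hy => ?_) x rfl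
  rcases h with h | h
  · exact fibreDimAt_le_generic f U hU e hle y (hy ▸ hmin)
  · refine hle y ?_
    obtain ⟨u, hu, hue⟩ := Groth.Agent.LimTop.exists_specializes_of_mem_closure
      (Groth.Agent.LimTop.isProConstructible_of_isLocallyConstructible
        (h.isConstructible U.2).isLocallyConstructible) (hU η)
    show f y ∈ U
    rw [hy, ← hmin u hue]
    exact hu

end Groth.Agent.S1240
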