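import Groth.Statements.S10135
import Groth.Agent.AlgSpB.Art.GpdTranslate
import Groth.Agent.AlgSpB.Bootstrap
import Groth.Agent.FibSemi.Basic
import Groth.Agent.S5792

set_option autoImplicit false
set_option backward.isDefEq.respectTransparency false
set_option backward.isDefEq.respectTransparency.types false

universe u
open CategoryTheory CategoryTheory.Limits AlgebraicGeometry
open AlgSp AlgSp.GroupoidSp

namespace Groth.Agent.S10135

theorem fibreDimAt_of_subsingleton {U V : Scheme.{u}} [Subsingleton ↥V] (h : U ⟶ V) (u : ↥U) :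
    FlatMor.fibreDimAt h u = FlatMor.localDim ↥U u := by
  rw [Groth.Agent.FibSemi.fibreDimAt_eq]
  let e : (h ⁻¹' {h u} : Set ↥U) ≃ₜ ↥U :=
    (Homeomorph.setCongr (Set.eq_univ_of_forall fun x => show h x = h u from Subsingleton.elim _ _)).trans
      (Homeomorph.Set.univ ↥U)
  refine le_antisymm ?_ ?_
  · exact Groth.Agent.FibSemi.localDim_homeo e.symm u
  · exact Groth.Agent.FibSemi.localDim_homeo e ⟨u, rfl⟩

/-- For a groupoid in algebraic spaces `(U, R, s, t, c)` over `B` with `U = Spec k` and `s, t` locally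
of finite type, `dim_r(R) = dim(R)` for every point `r` of `R`. -/
theorem result (S : Scheme.{u}) (B : AlgSp.Sp S) (hB : AlgSp.IsAlgSpace B)
    (G : AlgSp.GroupoidSp B) (hR : AlgSp.IsAlgSpace G.R) (k : Type u) [Field k]
    (σ : Spec (CommRingCat.of k) ⟶ S) (eU : G.U ≅ (AlgSp.yon S).obj (Over.mk σ))
    (hs : AlgSp.LocP @LocallyOfFiniteType G.s) (ht : AlgSp.LocP @LocallyOfFiniteType G.t) (r : AlgSp.Points G.R) :
    AlgSp.HasAt (fun V v => FlatMor.localDim ↥V v = AlgSp.dim G.R) G.R r := by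
  let T : Over S := Over.mk σ
  have : Subsingleton ↥T.left := inferInstanceAs (Subsingleton (PrimeSpectrum k))
  let Q : WithBot ℕ∞ → ∀ (U V : Scheme.{u}), (U ⟶ V) → ↥U → Prop := fun d _ _ h u => FlatMor.fibreDimAt h u = d
  have hQ : ∀ d, Groth.Agent.AlgSpB.Art.BCProp (fun U V h => ∀ u, Q d U V h u) (Q d) := fun d =>
    { inv := Groth.Agent.AlgSpD.morEtaleInv_fibreDimAt d
      bc := fun X Y X' Y' f _ g g' f' sq x' => by
        show FlatMor.fibreDimAt f' x' = d ↔ _
        rw [Groth.Agent.AlgSpD.fibreDimAt_of_isPullback f sq x']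
      iff := fun U V h _ => Iff.rfl }
  have hU : AlgSp.IsAlgSpace G.U := (AlgSp.IsAlgSpace.yon_obj T).of_iso eU.symm
  have key : ∀ (U : Over S) (a : (AlgSp.yon S).obj U ⟶ G.R), AlgSp.RepWith @Etale a → ∀ (u : ↥U.left)
      (d : WithBot ℕ∞), AlgSp.HasAtMor (Q d) G.s (AlgSp.Points.ofPt a u) ↔ FlatMor.localDim ↥U.left u = d := by
    intro U a ha u d
    obtain ⟨h, hh⟩ := (AlgSp.yon S).map_surjective (a ≫ G.s ≫ eU.hom)
    refine (Groth.Agent.AlgSpD.hasAtMor_iff_chart (hQ d).inv (X := ⟨G.R, hR⟩) (Y := ⟨G.U, hU⟩)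
      (ObjectProperty.homMk G.s) ha (Groth.Agent.AlgSpB.repWith_of_isIso (P := @Etale) eU.inv) (h := h)
      (by rw [hh, Category.assoc, Category.assoc, Iso.hom_inv_id, Category.comp_id]; rfl) u).trans ?_
    show FlatMor.fibreDimAt h.left u = d ↔ _
    rw [fibreDimAt_of_subsingleton]
  let e₀ := AlgSp.Points.ofPt (eU.inv ≫ G.e) (IsLocalRing.closedPoint k)
  have hpt : ∀ y : AlgSp.Points G.U, AlgSp.Points.map G.e y = e₀ := by
    intro y
    obtain ⟨z, rfl⟩ := Groth.Agent.AlgSpB.surjective_ofPt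
      (Groth.Agent.AlgSpB.repWith_of_isIso (P := @Surjective) eU.inv) y
    rw [AlgSp.Points.map_ofPt]
    exact congrArg (AlgSp.Points.ofPt (eU.inv ≫ G.e)) (Subsingleton.elim _ _)
  obtain ⟨A, p, hp, hps⟩ := hR.atlas
  obtain ⟨u₀, hu₀⟩ := Groth.Agent.AlgSpB.surjective_ofPt hps e₀
  have hconst : ∀ (U : Over S) (a : (AlgSp.yon S).obj U ⟶ G.R),
      AlgSp.RepWith @Etale a → ∀ u : ↥U.left,
        FlatMor.localDim ↥U.left u = FlatMor.localDim ↥A.left u₀ := by
    intro U a ha u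
    rw [← key U a ha u, Groth.Agent.AlgSpB.Art.hasAtMor_s_iff_unit G (hQ _) hU hR hs, hpt, ← hu₀, key A p hp u₀]
  have hdim : AlgSp.dim G.R = FlatMor.localDim ↥A.left u₀ := by
    refine le_antisymm (iSup_le fun U => iSup_le fun a => iSup_le fun ha => ?_)
      (le_iSup_of_le A (le_iSup_of_le p (le_iSup_of_le hp ?_)))
    · rw [Groth.Agent.S5792.result]
      exact iSup_le fun u => (hconst U a ha u).le
    · rw [Groth.Agent.S5792.result]
      exact le_iSup (fun u => FlatMor.localDim ↥A.left u) u₀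
  obtain ⟨u, hu⟩ := Groth.Agent.AlgSpB.surjective_ofPt hps r
  exact ⟨A, p, u, hp, hu, (hconst A p hp u).trans hdim.symm⟩

end Groth.Agent.S10135
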