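import Groth.Statements.S1522
import Groth.Agent.EulerChar.CurvePoint

set_option autoImplicit false
universe u
open CategoryTheory CategoryTheory.Limits AlgebraicGeometry
open Variety

namespace Groth.Agent.S1522

/-- On a proper curve over an algebraically closed field with g the dimension of H^1 of the structure
sheaf, every invertible module of degree at least 2g - 1 has H^1 equal to zero. -/
theorem result (k : Type u) [Field k] [IsAlgClosed k] (X : Scheme.{u}) [X.Over (Spec (CommRingCat.of k))]
    [IsIntegral X] [IsProper (X ↘ (Spec (CommRingCat.of k)))] (hdim : topologicalKrullDim X = 1)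
    (L : X.Modules) (hL : PicF.IsInvertible L)
    (hdeg : 2 * (Curv2.genus k X : ℤ) - 1 ≤ Curv2.deg k X L 1) :
    Subsingleton (Coh.HH X L 1) := by
  haveI := EulerChar.isNoetherian k (X := X)
  have hO := PicLoc.isInvertible_structureModule X
  have hO1 := ProjTwist.isFinLocFreeOfRank_one hO
  obtain ⟨n₀, h⟩ := EulerChar.exists_h0_eq k hdim
  obtain ⟨N, hN, hN0, hN1⟩ := h 0 (by omega)
  have hN1' := ProjTwist.isFinLocFreeOfRank_one hN
  obtain ⟨M, hM, ⟨e⟩⟩ := PicLaw.exists_inverse hN
  -- Euler characteristics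
  have hχN : Curv2.euler k X N = 0 := by
    rw [EulerChar.euler_eq_sum k (t := 2) fun p hp => EulerChar.subsingleton_HH_two_le k hdim _ hp,
      Finset.sum_range_succ, Finset.sum_range_one, hN0, Module.finrank_zero_of_subsingleton]
    simp
  have hχO : Curv2.euler k X (Coh.structureModule X) = 1 - (Curv2.genus k X : ℤ) := by
    rw [EulerChar.euler_eq_sum k (t := 2) fun p hp => EulerChar.subsingleton_HH_two_le k hdim _ hp,
      Finset.sum_range_succ, Finset.sum_range_one,
      VBLib.finrank_H0_structure_eq_one VBLib.bijective_toGlobal_of_isAlgClosed, Curv2.genus]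
    simp [sub_eq_add_neg]
  have hNM := EulerChar.deg_tens k hN1' hdim.le (ProjTwist.isFinLocFreeOfRank_one hM)
  have hML := EulerChar.deg_tens k (ProjTwist.isFinLocFreeOfRank_one hM) hdim.le
    (ProjTwist.isFinLocFreeOfRank_one hL)
  rw [show Curv2.deg k X (CohDev.tens N M) (1 * 1) = 0 by
    simp only [Curv2.deg, one_mul, Nat.cast_one]
    rw [EulerChar.euler_iso k (show CohDev.tens N M ≅ _ from e), sub_self]] at hNM
  let Q := CohB1.tensorMod M L
  have hQ : PicF.IsInvertible Q := AmpleLib.isInvertible_tensorMod hM hL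
  have hQ1 := ProjTwist.isFinLocFreeOfRank_one hQ
  have hpos : 0 < Module.finrank k (Coh.HH X Q 0) := by
    have hh := EulerChar.euler_le_h0 k hdim (VBLib.isCoh_of_ofRank hQ1)
    simp only [Curv2.deg, one_mul, Nat.cast_one] at hNM hML hdeg
    change Curv2.euler k X (CohB1.tensorMod M L) ≤ _ at hh
    change Curv2.euler k X (CohB1.tensorMod M L) - _ = _ at hML
    omega
  haveI := Module.nontrivial_of_finrank_pos hpos
  obtain ⟨σ, hσ⟩ := exists_ne (0 : Coh.HH X Q 0)
  let s := Props.GenLocus.homOfSec (ProperFin.h0Sec Q σ)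
  have hs : s ≠ 0 := fun h0 => hσ ((ProperFin.h0Sec Q).injective (by
    rw [map_zero]
    have h1 := Props.GenLocus.sec_homOfSec (ProperFin.h0Sec Q σ) ⊤
    rw [show Props.GenLocus.homOfSec (ProperFin.h0Sec Q σ) = 0 from h0, QCoh.res_self] at h1
    exact h1.symm.trans rfl))
  haveI := EulerChar.mono_of_ne_zero hO hQ s hs
  have hS : (ShortComplex.mk s (cokernel.π s) (cokernel.condition s)).ShortExact :=
    { exact := ShortComplex.exact_of_g_is_cokernel _ (cokernelIsCokernel s)
      mono_f := inferInstance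
      epi_g := inferInstanceAs (Epi (cokernel.π s)) }
  have hC : Coh.IsCoh (cokernel s) :=
    CohDev.isCoh_cokernel s (VBLib.isCoh_of_ofRank hO1).1 (VBLib.isCoh_of_ofRank hQ1)
  have hCd := EulerChar.dim_support_le_zero k hdim hC
    (CohDev.not_mem_support_cokernel s (EulerChar.bijective_stalk_generic hO hQ s hs).2)
  obtain ⟨f, g, w, hw⟩ := EulerChar.exists_tens_seq k hN1' hS
  haveI : Subsingleton (Coh.HH X (CohDev.tens N (cokernel s)) 1) :=
    EulerChar.subsingleton_HH_of_support k (EulerChar.isCoh_tens k hN1' hC)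
      ((TopDimLib.topDim_le_of_subset (CohDev.support_tens_subset N _)).trans hCd) 0
  haveI : Subsingleton (Coh.HH X (CohDev.tens N (Coh.structureModule X)) 1) :=
    (CohLin.hIso (EulerChar.tensOne' N) 1).toEquiv.subsingleton
  haveI := CohLin.subsingleton_X₂ hw (n := 1)
  let θ : CohDev.tens N Q ≅ L := (ProjTwist.tensAssoc N M L).symm ≪≫
    ProjTwist.tensCongr e (Iso.refl _) ≪≫ ProjTwist.oneTens _
  exact (CohLin.hIso θ.symm 1).toEquiv.subsingleton

end Groth.Agent.S1522
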