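import Groth.Statements.S1611
import Groth.Agent.CurveSimple.VeryAmple

set_option linter.style.haveILetI false
set_option backward.isDefEq.respectTransparency false
set_option backward.isDefEq.respectTransparency.types false

set_option autoImplicit false
universe u
open CategoryTheory CategoryTheory.Limits AlgebraicGeometry
open Curves

namespace Groth.Agent.S1611

/-- Let X be proper of dimension one over k with global functions k, geometrically integral, of genus g,
and L an invertible module with deg L ≥ 2g + 1. Then L is very ample: there is a closed immersion i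
of X into some projective space P^n_k over k with i^* O(1) ≅ L. -/
theorem result (k : Type u) [Field k] (X : Scheme.{u}) [X.Over (Spec (CommRingCat.of k))]
    [IsProper (X ↘ (Spec (CommRingCat.of k)))] [GeometricallyIntegral (X ↘ (Spec (CommRingCat.of k)))] (hdim : topologicalKrullDim X = 1)
    (h0 : Module.finrank k (Coh.HH X (Coh.structureModule X) 0) = 1) (L : X.Modules) (hL : PicF.IsInvertible L)
    (hdeg : 2 * (Curv2.genus k X : ℤ) + 1 ≤ Curv2.deg k X L 1) :
    ∃ (n : ℕ) (i : X ⟶ CohB1.ProjSpace n k), IsClosedImmersion i ∧ i ≫ CohB1.ProjSpace.toSpec n k = X ↘ (Spec (CommRingCat.of k)) ∧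
      Nonempty ((Scheme.Modules.pullback i).obj (Twist.twistProjSpace n k 1) ≅ L) := by
  haveI : IsIntegral X := GeometricallyIntegral.isIntegral_of_subsingleton (X ↘ Spec (CommRingCat.of k))
  set B := Groth.Agent.CohDev.tens L (Coh.structureModule X)
  have hB : PicF.IsInvertible B :=
    AmpleLib.isInvertible_tensorMod hL (PicLoc.isInvertible_structureModule X)
  let w : B ≅ L := ProjTwist.tensOne L
  have hBd : Curv2.deg k X B 1 = Curv2.deg k X L 1 := EulerChar.deg_iso k w
  have hBc := VBLib.isCoh_of_ofRank (ProjTwist.isFinLocFreeOfRank_one hB)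
  have hO := VBLib.isCoh_of_ofRank (ProjTwist.isFinLocFreeOfRank_one (PicLoc.isInvertible_structureModule X))
  haveI := EulerChar.finite_HH k B hBc 0
  have hχ : Curv2.euler k X B = Curv2.deg k X L 1 + 1 - Curv2.genus k X := by
    rw [← hBd, Curv2.deg, CurveSimple.euler_structure k hdim h0]
    push_cast; ring
  obtain ⟨n, hn⟩ : ∃ n, Module.finrank k (Coh.HH X B 0) = n + 1 := by
    have h := EulerChar.euler_le_h0 k hdim hBc
    exact ⟨Module.finrank k (Coh.HH X B 0) - 1, by omega⟩
  obtain ⟨b, hb⟩ := CurveSimple.exists_generatedBy k hn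
    (CurveSimple.exists_genLocus_of_deg_ge k hdim h0 hL (by omega))
  let K := AlgebraicClosure k
  let q := Curv2.bcSnd k X K
  letI : (Curv2.bc k X K).Over (Spec (CommRingCat.of K)) := ⟨q⟩
  haveI : IsIntegral (Curv2.bc k X K) := inferInstance
  haveI : IsProper ((Curv2.bc k X K) ↘ Spec (CommRingCat.of K)) :=
    (inferInstance : IsProper (pullback.snd (X ↘ Spec (CommRingCat.of k))
      (Spec.map (CommRingCat.ofHom (algebraMap k K)))))
  have hdK : topologicalKrullDim (Curv2.bc k X K) = 1 :=
    (S4642.result (K := K) (X ↘ Spec (CommRingCat.of k))).trans hdim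
  let u := QCoh.pullbackUnitIso (Curv2.bcFst k X K)
  have hH : ∀ j, Module.finrank K (Coh.HH (Curv2.bc k X K) (Coh.structureModule (Curv2.bc k X K)) j) =
      Module.finrank k (Coh.HH X (Coh.structureModule X) j) := fun j =>
    (LinearEquiv.ofBijective (CohLin.overLin K (CohLin.hMap u.hom j))
      (CohLin.hIso u j).bijective).finrank_eq.symm.trans
        (CMReg.finrank_baseChange (f := X ↘ Spec (CommRingCat.of k)) (Curv2.bcFst k X K) q
          (IsPullback.of_hasPullback _ _) _ hO j)
  have hdegK : Curv2.deg K (Curv2.bc k X K) ((Scheme.Modules.pullback (Curv2.bcFst k X K)).obj B) 1 =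
      Curv2.deg k X L 1 := by
    rw [← hBd, Curv2.deg, Curv2.deg, S7673.euler_pullback k X K _ hBc,
      ← EulerChar.euler_iso K u, S7673.euler_pullback k X K _ hO]
  obtain ⟨i, hi, hi', ⟨τ⟩⟩ := CurveSimple.exists_closedImmersion_of_bc k hdim hB (by omega) _ hb
    (fun σ => ⟨fun j => b.repr ((ProperFin.h0Sec B).symm σ) j, by
        conv_lhs => rw [← (ProperFin.h0Sec B).apply_symm_apply σ, ← b.sum_repr ((ProperFin.h0Sec B).symm σ),
          map_sum]
        exact Finset.sum_congr rfl fun j _ => ProperFin.h0Sec_smul B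
          (Coh.toGlobal (X ↘ Spec (CommRingCat.of k)) _) (b j)⟩)
    (CurveSimple.isTwoNonspecial_of_deg_ge K hdK ((hH 0).trans h0)
      (PicCl.isInvertible_pullback _ hB) (by rw [hdegK, Curv2.genus, hH 1]; exact hdeg))
  exact ⟨n, i, hi, hi', ⟨τ ≪≫ w⟩⟩

end Groth.Agent.S1611
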