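import Groth.Statements.S9386
import Groth.Agent.Omega.LiftCharts

set_option autoImplicit false
universe u
open OmegaSh

namespace Groth.Agent.S9386

open AlgebraicGeometry CategoryTheory in
/-- For a cartesian square X' = X ×_S S' with projection g' : X' → X, the canonical map g'^*Ω_{X/S} →
Ω_{X'/S'} is an isomorphism (receptacle form: Ω_{X/S}, Ω_{X'/S'} are any modules carrying universal
derivations and the map is pinned by its values on pulled-back differentials). -/
theorem result {X S X' S' : Scheme.{u}} (f : X ⟶ S) (g : S' ⟶ S) (g' : X' ⟶ X) (f' : X' ⟶ S')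
    (hsq : IsPullback g' f' f g) (Ω : X.Modules) (d : OmegaSh.Der f Ω) (hd : OmegaSh.IsUniversal d)
    (Ω' : X'.Modules) (d' : OmegaSh.Der f' Ω') (hd' : OmegaSh.IsUniversal d')
    (c : (Scheme.Modules.pullback g').obj Ω ⟶ Ω') (hc : OmegaSh.IsDiffCompat g' d d' c) : IsIso c := by
  refine Groth.Agent.Omega.Lift.isIso_of_local c fun x' => ?_
  obtain ⟨V, hV, U, hU, hxU, -, hUV⟩ :=
    Groth.Agent.Omega.Chart.exists_affine_pair f (g' x') (W := ⊤) (Set.mem_univ _)
  have hmem : g (f' x') ∈ V := by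
    rw [← Scheme.Hom.comp_apply, ← hsq.w]
    exact hUV hxU
  obtain ⟨_, ⟨V', hV', rfl⟩, hxV', hV'V⟩ :=
    S'.isBasis_affineOpens.exists_subset_of_mem_open (show f' x' ∈ g ⁻¹ᵁ V from hmem) (g ⁻¹ᵁ V).isOpen
  replace hV' : IsAffineOpen V' := hV'
  replace hV'V : V' ≤ g ⁻¹ᵁ V := hV'V
  let := (f.appLE V U hUV).hom.toAlgebra
  let := (g.appLE V V' hV'V).hom.toAlgebra
  obtain ⟨W, j, hj, hxj, hS, hI⟩ := Groth.Agent.Omega.LiftCharts.baseChange_chart hsq
    (Groth.Agent.Omega.Chart.fromSpec_comp f hV hU hUV).symm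
    (Groth.Agent.Omega.Chart.fromSpec_comp g hV hV' hV'V).symm x'
    (by rw [hU.range_fromSpec]; exact hxU) (by rw [hV'.range_fromSpec]; exact hxV')
  exact ⟨W, j, hj, hxj, Groth.Agent.Omega.Lift.isIso_restrict_of_ext j hS hI hd hd' hc⟩

end Groth.Agent.S9386
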