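import Groth.Statements.S17288
import Groth.Agent.AmpCrit.SerreVan
import Groth.Agent.AmpCrit.ProjForm
import Groth.Agent.S0012
import Groth.Agent.EulerChar.Cartier
import Groth.Agent.AmpleLib.CompLemma
import Groth.Agent.AmpleLib.GlobGen
import Groth.Agent.Props.AmpleGG
import Groth.Agent.DimOneAmple.AmpleOfGG
import Groth.Agent.LimTop.StalkHom
import Groth.Agent.LimTop.TensorQC
import Groth.Agent.CohDev.Piece
import Groth.Agent.CohDev.TensorCoh
import Groth.Agent.VBLib.Basic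
import Groth.Agent.PicLaw.Swap

set_option autoImplicit false
universe u
open CategoryTheory CategoryTheory.Limits AlgebraicGeometry TopologicalSpace
open Variety

namespace Groth.Agent.S17288

set_option linter.style.haveILetI false
set_option backward.isDefEq.respectTransparency.types false

section Aux

open Groth.Agent.QCoh Groth.Agent.Props.GenLocus Groth.Agent.Props.GenTensor
  Groth.Agent.Props.GenProd Groth.Agent.AmpleLib Groth.Agent.ProjTwist
  Groth.Agent.PullStalk.Sky Groth.Agent.PullStalk.Exact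

variable {X : Scheme.{u}}

/-- The ideal sequence twisted by `V`. -/
noncomputable abbrev seqT (D : X.IdealSheafData) (V : X.Modules) : ShortComplex X.Modules :=
  (ShortComplex.mk (ClSub.idealModι D) (ClSub.toSubscheme D) (kernel.condition _)).map
    (DCoh.tensorBi.obj V)

theorem seqT_exact (D : X.IdealSheafData) {V : X.Modules} (hV : PicF.IsInvertible V) :
    (seqT D V).ShortExact :=
  CohDev.tens_shortExact (ProjTwist.isFinLocFreeOfRank_one hV) (EulerChar.shortExact_ideal D)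

/-- Off the divisor the canonical section generates. -/
theorem exists_gen_off (D : X.IdealSheafData) {LD : X.Modules} (hL : PicF.IsInvertible LD)
    (e : CohB1.tensorMod LD (ClSub.idealMod D) ≅ Coh.structureModule X) {x : X}
    (hx : x ∉ (D.support : Set X)) : ∃ σ : Γ(LD, ⊤), x ∈ locus σ := by
  have hS := seqT_exact D hL
  let e1 : Coh.structureModule X ⟶ (seqT D LD).X₁ := e.inv
  let e2 : (seqT D LD).X₂ ⟶ LD := (ProjTwist.tensOne LD).hom
  let s : Coh.structureModule X ⟶ LD := e1 ≫ (seqT D LD).f ≫ e2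
  have hsub : Subsingleton ((seqT D LD).X₃.presheaf.stalk x) := by
    by_contra hn
    exact hx (EulerChar.support_quotMod_subset D
      (CohDev.support_tens_subset LD (ClSub.quotMod D) hn))
  have hf : Function.Surjective (stalkLin (seqT D LD).f x) := fun t =>
    ((stalk_exact hS x).2.1 t).1 (@Subsingleton.elim _ hsub _ _)
  haveI : IsIso e1 := inferInstanceAs (IsIso e.inv)
  haveI : IsIso e2 := inferInstanceAs (IsIso (ProjTwist.tensOne LD).hom)
  have hbij : ∀ {A B : X.Modules} (φ : A ⟶ B) [IsIso φ], Function.Surjective (stalkLin φ x) := by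
    intro A B φ _ t
    obtain ⟨W, hxW, m, rfl⟩ := exists_germM_eq B x t
    refine ⟨germM A W x hxW ((inv φ).app W m), ?_⟩
    rw [stalkLin_germ]
    refine congrArg (germM B W x hxW) ?_
    exact congrArg (fun ψ : B ⟶ B => ψ.app W m) (IsIso.inv_hom_id φ)
  refine exists_locus_mem hL (O := ⊤) (x := x) trivial fun W hxW m => ?_
  obtain ⟨a, ha⟩ := hbij e2 (germM LD W x hxW m)
  obtain ⟨b, rfl⟩ := hf a
  obtain ⟨c, rfl⟩ := hbij e1 b
  obtain ⟨V, hxV, r, rfl⟩ := exists_germM_eq (Coh.structureModule X) x c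
  have h1 : germM LD V x hxV (s.app V r) = germM LD W x hxW m := by
    rw [← ha, stalkLin_germ, stalkLin_germ, stalkLin_germ]
    rfl
  rw [← h1, app_eq, germM_smul, ← sec_res s (le_top : V ≤ ⊤), LimTop.germM_res]
  exact Submodule.smul_mem _ _ (Submodule.subset_span ⟨_, rfl⟩)

/-- Powers of a section generate where it does. -/
theorem exists_gen_pow {LD : X.Modules} {x : X} (σ : Γ(LD, ⊤)) (hσ : x ∈ locus σ) (n : ℕ) :
    ∃ τ : Γ(CohB1.tensorPow LD n, ⊤), x ∈ locus τ := by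
  refine ⟨pw LD σ n, le_locus le_top ?_ hσ⟩
  rw [res_pw]
  exact isGen_pw (isGen_locus σ) n

/-- A lift of a section generating on a closed subscheme generates along it. -/
theorem mem_locus_of_lift {Z : Scheme.{u}} (i : Z ⟶ X) {M : X.Modules} (hM : PicF.IsInvertible M)
    {N : Z.Modules} (ψ : M ⟶ (Scheme.Modules.pushforward i).obj N) (σ : Γ(M, ⊤)) (t : Γ(N, ⊤))
    (hσ : ψ.app ⊤ σ = t) {z : Z} (hz : z ∈ locus t) : i z ∈ locus σ := by
  obtain ⟨U, e, hxU, he⟩ := exists_isGen hM (i z)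
  obtain ⟨a, ha, -⟩ := he.exists_eq le_rfl (res M (le_top : U ≤ ⊤) σ)
  rw [res_self] at ha
  obtain ⟨w, hw⟩ : ∃ w : Γ(N, i ⁻¹ᵁ U), w = (ψ.app U e :) := ⟨_, rfl⟩
  have h1 : res N (le_top : i ⁻¹ᵁ U ≤ ⊤) t = i.app U a • w := by
    rw [hw]
    rw [← hσ]
    refine (app_res ψ (le_top : U ≤ ⊤) σ).symm.trans ?_
    refine (congrArg (ψ.app U) ha).trans ?_
    exact Scheme.Modules.Hom.app_smul ψ a e
  have hg := (isGen_locus t).restrict (inf_le_left : locus t ⊓ i ⁻¹ᵁ U ≤ _)
  rw [res_res] at hg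
  obtain ⟨b, hb, -⟩ := hg.exists_eq le_rfl
    (res N (inf_le_right : locus t ⊓ i ⁻¹ᵁ U ≤ i ⁻¹ᵁ U) w)
  rw [res_self] at hb
  have h2 := congrArg (res N (inf_le_right : locus t ⊓ i ⁻¹ᵁ U ≤ i ⁻¹ᵁ U)) h1
  rw [res_res, res_smul, hb, smul_smul] at h2
  have h3 := hg.injective le_rfl
    (a := 1) (b := rres (inf_le_right : locus t ⊓ i ⁻¹ᵁ U ≤ i ⁻¹ᵁ U) (i.app U a) * b)
    (by rw [one_smul, res_self]; exact h2)
  have hu : IsUnit (rres (inf_le_right : locus t ⊓ i ⁻¹ᵁ U ≤ i ⁻¹ᵁ U) (i.app U a)) :=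
    IsUnit.of_mul_eq_one b h3.symm
  have h4 : z ∈ Z.basicOpen (i.app U a) := by
    refine (Z.mem_basicOpen _ z hxU).mpr ?_
    have := hu.map (Z.presheaf.germ (locus t ⊓ i ⁻¹ᵁ U) z ⟨hz, hxU⟩).hom
    rwa [Z.presheaf.germ_res_apply] at this
  rw [← Scheme.preimage_basicOpen] at h4
  have h5 : i z ∈ locus σ ⊓ U := by
    rw [locus_inf le_top he σ ha]
    exact h4
  exact h5.1

variable (k : Type u) [Field k] [X.Over (Spec (CommRingCat.of k))]
  [IsProper (X ↘ Spec (CommRingCat.of k))]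

theorem finrank_HH_iso {M N : X.Modules} (e : M ≅ N) (n : ℕ) :
    Module.finrank k (Coh.HH X M n) = Module.finrank k (Coh.HH X N n) := by
  refine (LinearEquiv.ofBijective (CohLin.overLin k (CohLin.hMap e.hom n))
    (Function.bijective_iff_has_inverse.2 ⟨CohLin.hMap e.inv n, fun x => ?_, fun x => ?_⟩)).finrank_eq
  · change CohLin.hMap e.inv n (CohLin.hMap e.hom n x) = x
    rw [← CohLin.hMap_comp, e.hom_inv_id, CohLin.hMap_id]
  · change CohLin.hMap e.hom n (CohLin.hMap e.inv n x) = x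
    rw [← CohLin.hMap_comp, e.inv_hom_id, CohLin.hMap_id]

include k in
theorem main (D : X.IdealSheafData) (hD : PicF.IsInvertible (ClSub.idealMod D)) (LD : X.Modules)
    (hLD : ClSub.IsInverseOf LD (ClSub.idealMod D))
    (hample : CohB1.IsAmple ((Scheme.Modules.pullback D.subschemeι).obj LD)) :
    ∀ᶠ m : ℕ in Filter.atTop, Curv2.IsGloballyGenerated (CohB1.tensorPow LD m) := by
  haveI := EulerChar.isNoetherian k (X := X)
  obtain ⟨e⟩ := hLD
  have hL : PicF.IsInvertible LD := PicLaw.isInvertible_of_tensor_right hD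
    (PicCl.isInvertible_of_iso e.symm (LFFrame.isInvertible_structureModule X))
  let i := D.subschemeι
  let P := (Scheme.Modules.pullback i).obj LD
  let O := Coh.structureModule D.subscheme
  have hOi : PicF.IsInvertible O := LFFrame.isInvertible_structureModule _
  have hO : Coh.IsCoh O := VBLib.isCoh_of_ofRank (ProjTwist.isFinLocFreeOfRank_one hOi)
  obtain ⟨n₁, hn₁⟩ := AmpCrit.SerreVan.serre_vanishing (i ≫ (X ↘ Spec (CommRingCat.of k)))
    (L := P) hample O hO
  obtain ⟨n₂, hn₂⟩ := AmpleLib.eventually_globallyGenerated (L := P) hample (F := O) hO.1 hO.2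
  let N' : ℕ → D.subscheme.Modules := fun n => CohB1.tensorMod O (CohB1.tensorPow P n)
  have hpw : ∀ n, PicF.IsInvertible (CohB1.tensorPow LD n) := fun n => isInvertible_tensorPow hL n
  have hφ : ∀ n, Nonempty ((seqT D (CohB1.tensorPow LD n)).X₃ ≅
      (Scheme.Modules.pushforward i).obj (N' n)) := fun n => by
    obtain ⟨π⟩ := AmpCrit.ProjForm.nonempty_projIso i O (hpw n)
    obtain ⟨τ⟩ := AmpleLib.exists_iso_pullback_tensorPow i hL n
    exact ⟨tensComm _ _ ≪≫ π ≪≫
      (Scheme.Modules.pushforward i).mapIso (tensCongr (Iso.refl O) τ)⟩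
  let S := fun n => seqT D (CohB1.tensorPow LD n)
  have hS : ∀ n, (S n).ShortExact := fun n => seqT_exact D (hpw n)
  have h3 : ∀ n, n₁ ≤ n → Subsingleton (Coh.HH X (S n).X₃ 1) := fun n hn => by
    obtain ⟨φ⟩ := hφ n
    haveI : Coh.IsQCoh (N' n) := by
      haveI : O.IsQuasicoherent := hO.1
      haveI : (CohB1.tensorPow P n).IsQuasicoherent :=
        isQCoh_of_isInvertible (isInvertible_tensorPow hample.1 n)
      exact LimTop.TensorQC.isQuasicoherent_tensM O _
    obtain ⟨a⟩ := S0012.result i (N' n) 1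
    haveI := hn₁ n hn 1 one_pos
    haveI : Subsingleton (Coh.HH X ((Scheme.Modules.pushforward i).obj (N' n)) 1) :=
      a.symm.toEquiv.subsingleton
    exact AmpCrit.subsingleton_HH_of_iso φ.symm 1
  have hcoh : ∀ n, Coh.IsCoh (CohB1.tensorPow LD n) := fun n =>
    VBLib.isCoh_of_ofRank (ProjTwist.isFinLocFreeOfRank_one (hpw n))
  let h : ℕ → ℕ := fun n => Module.finrank k (Coh.HH X (CohB1.tensorPow LD n) 1)
  let j1 : ∀ n, (S (n + 1)).X₁ ≅ CohB1.tensorPow LD n := fun n =>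
    tensAssoc (CohB1.tensorPow LD n) LD (ClSub.idealMod D) ≪≫ tensCongr (Iso.refl _) e ≪≫ tensOne _
  let j2 : ∀ n, (S n).X₂ ≅ CohB1.tensorPow LD n := fun n => tensOne _
  have hsurj1 : ∀ n, n₁ ≤ n → Function.Surjective (CohLin.overLin k (CohLin.hMap (S n).f 1)) :=
    fun n hn z => CohLin.exists_hMap_f_eq (hS n) z (@Subsingleton.elim _ (h3 n hn) _ _)
  have hfin : ∀ n, Module.Finite k (Coh.HH X (S (n + 1)).X₁ 1) := fun n => by
    haveI := EulerChar.finite_HH k _ (hcoh n) 1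
    exact CohLin.finite_of_iso k (j1 n).symm
  have hfin2 : ∀ n, Module.Finite k (Coh.HH X (S n).X₂ 1) := fun n => by
    haveI := EulerChar.finite_HH k _ (hcoh n) 1
    exact CohLin.finite_of_iso k (j2 n).symm
  have hle : ∀ n, n₁ ≤ n → h (n + 1) ≤ h n := fun n hn => by
    haveI := hfin n
    have := LinearMap.finrank_range_le (CohLin.overLin k (CohLin.hMap (S (n + 1)).f 1))
    rw [LinearMap.range_eq_top.2 (hsurj1 (n + 1) (by omega)), finrank_top,
      finrank_HH_iso k (j2 (n + 1)) 1, finrank_HH_iso k (j1 n) 1] at this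
    exact this
  have hanti : Antitone fun j => h (n₁ + j) := antitone_nat_of_succ_le fun j => hle (n₁ + j) (by omega)
  obtain ⟨j₀, hj₀⟩ : ∃ j₀, ∀ j, h (n₁ + j₀) ≤ h (n₁ + j) := by
    classical
    have hne : ∃ v, ∃ j, h (n₁ + j) = v := ⟨_, 0, rfl⟩
    obtain ⟨j₀, hj₀⟩ := Nat.find_spec hne
    exact ⟨j₀, fun j => hj₀.le.trans (Nat.find_min' hne ⟨j, rfl⟩)⟩
  refine Filter.eventually_atTop.2 ⟨n₁ + j₀ + n₂ + 1, fun m hm => ?_⟩
  obtain ⟨n, rfl⟩ : ∃ n, m = n + 1 := ⟨m - 1, by omega⟩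
  have heq : h (n + 1) = h n := by
    obtain ⟨j, rfl⟩ : ∃ j, n = n₁ + (j₀ + j) := ⟨n - n₁ - j₀, by omega⟩
    have a1 : h (n₁ + (j₀ + j)) = h (n₁ + j₀) := le_antisymm (hanti (by omega)) (hj₀ _)
    have a2 : h (n₁ + (j₀ + j + 1)) = h (n₁ + j₀) := le_antisymm (hanti (by omega)) (hj₀ _)
    rw [a1, ← a2]
    rfl
  have hinj : Function.Injective (CohLin.overLin k (CohLin.hMap (S (n + 1)).f 1)) := by
    haveI := hfin n
    haveI := hfin2 (n + 1)
    refine (LinearMap.injective_iff_surjective_of_finrank_eq_finrank ?_).2 (hsurj1 _ (by omega))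
    rw [finrank_HH_iso k (j2 (n + 1)) 1, finrank_HH_iso k (j1 n) 1]
    exact heq.symm
  refine Props.AmpleGG.isGloballyGenerated_of_genLocus fun x => ?_
  suffices hx : ∃ τ : Γ(CohB1.tensorPow LD (n + 1), ⊤), x ∈ locus τ by
    obtain ⟨τ, hτ⟩ := hx
    exact ⟨homOfSec τ, by rwa [genLocus_homOfSec]⟩
  by_cases hx : x ∈ (D.support : Set X)
  · rw [← Scheme.IdealSheafData.range_subschemeι] at hx
    obtain ⟨z, rfl⟩ := hx
    obtain ⟨φ⟩ := hφ (n + 1)
    have hN'inv : PicF.IsInvertible (N' (n + 1)) :=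
      isInvertible_tensorMod hOi (isInvertible_tensorPow hample.1 (n + 1))
    obtain ⟨t, ht⟩ := DimOneAmple.exists_genLocus_mem hN'inv (hn₂ (n + 1) (by omega)) z
    let u : Γ((S (n + 1)).X₃, ⊤) := φ.inv.app ⊤ t
    obtain ⟨y, hy⟩ := CohLin.exists_hMap_g_eq (hS (n + 1))
      ((ProperFin.h0Sec (S (n + 1)).X₃).symm u)
      (hinj (show CohLin.hMap (S (n + 1)).f 1 _ = CohLin.hMap (S (n + 1)).f 1 0 by
        rw [CohLin.hMap_f_hδ, map_zero]))
    let σ : Γ((S (n + 1)).X₂, ⊤) := ProperFin.h0Sec _ y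
    have hgσ : (S (n + 1)).g.app ⊤ σ = u := by
      rw [← ProperFin.h0Sec_hMap, hy, AddEquiv.apply_symm_apply]
    let ψ : CohB1.tensorPow LD (n + 1) ⟶ (Scheme.Modules.pushforward i).obj (N' (n + 1)) :=
      (j2 (n + 1)).inv ≫ (S (n + 1)).g ≫ φ.hom
    refine ⟨(j2 (n + 1)).hom.app ⊤ σ, mem_locus_of_lift i (hpw _) ψ _ t ?_ ht⟩
    have h1 : (j2 (n + 1)).inv.app ⊤ ((j2 (n + 1)).hom.app ⊤ σ) = σ :=
      congrArg (fun f : (S (n + 1)).X₂ ⟶ (S (n + 1)).X₂ => f.app ⊤ σ) (j2 (n + 1)).hom_inv_id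
    show φ.hom.app ⊤ ((S (n + 1)).g.app ⊤ ((j2 (n + 1)).inv.app ⊤ ((j2 (n + 1)).hom.app ⊤ σ))) = t
    rw [h1, hgσ]
    exact congrArg (fun f : (Scheme.Modules.pushforward i).obj (N' (n + 1)) ⟶
      (Scheme.Modules.pushforward i).obj (N' (n + 1)) => f.app ⊤ t) φ.inv_hom_id
  · obtain ⟨σ, hσ⟩ := exists_gen_off D hL e hx
    exact exists_gen_pow σ hσ (n + 1)

end Aux


/-- Let X be a proper scheme over a field k, D ⊆ X an effective Cartier divisor, i.e. a closed subscheme
whose quasi-coherent ideal I_D is an invertible O_X-module, and O_X(D) an invertible module with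
O_X(D) ⊗ I_D ≅ O_X. If the restriction of O_X(D) to D is ample on D, then O_X(mD) = O_X(D)^{⊗m} is
generated by its global sections for all sufficiently large m. (The source states this for proper
algebraic spaces over k; this is the case of schemes.) -/
theorem result (k : Type u) [Field k] (X : Scheme.{u})
    [X.Over (Spec (CommRingCat.of k))] [IsProper (X ↘ (Spec (CommRingCat.of k)))] (D : X.IdealSheafData)
    (hD : PicF.IsInvertible (ClSub.idealMod D)) (LD : X.Modules) (hLD : ClSub.IsInverseOf LD (ClSub.idealMod D))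
    (hample : CohB1.IsAmple ((Scheme.Modules.pullback D.subschemeι).obj LD)) :
    ∀ᶠ m : ℕ in Filter.atTop, Curv2.IsGloballyGenerated (CohB1.tensorPow LD m) :=
  main k D hD LD hLD hample

end Groth.Agent.S17288
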