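import Groth.Statements.S0568
import Groth.Agent.Nagata.CompleteLocal
-- import your own Groth.Agent.* helpers here

set_option autoImplicit false
universe u
open CAlg

namespace Groth.Agent.S0568

/-- A Noetherian local ring which is complete with respect to its maximal ideal is a Nagata ring. -/
theorem result (R : Type u) [CommRing R] [IsLocalRing R]
    [IsNoetherianRing R] [IsAdicComplete (IsLocalRing.maximalIdeal R) R] : CAlg.IsNagata R := by
  exact Groth.Agent.Nagata.CompleteLocal.isNagata R

end Groth.Agent.S0568
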