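import Groth.Statements.S2102
import Groth.Agent.NormalSec.Basic
import Mathlib.AlgebraicGeometry.FunctionField
-- import your own Groth.Agent.* helpers here

set_option autoImplicit false
universe u
open CategoryTheory AlgebraicGeometry
open Mor

namespace Groth.Agent.S2102

/-- The ring of global sections of an integral normal scheme is an integrally closed domain. -/
theorem result (X : Scheme.{u}) [IsIntegral X] (hX : Pi1.IsNormalScheme X) :
    IsIntegrallyClosed (Γ(X, ⊤) : Type u) := by
  haveI : IsDomain Γ(X, ⊤) := inferInstance
  refine Groth.Agent.NormalSec.isIntegrallyClosed_sections ⊤ (fun y _ => (hX y).1) (fun y _ => (hX y).2)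
    fun b hb y hy h => hb (germ_injective_of_isIntegral X y hy (h.trans (map_zero _).symm))

end Groth.Agent.S2102
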