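import Groth.Statements.S1600
import Groth.Agent.S2821
import Groth.Agent.S2102
import Groth.Agent.S0565
import Groth.Agent.Hens.CoupleProper
import Mathlib.RingTheory.Spectrum.Prime.FreeLocus
import Mathlib.AlgebraicGeometry.Morphisms.SchemeTheoreticallyDominant

set_option linter.style.haveILetI false
set_option backward.isDefEq.respectTransparency false
set_option backward.isDefEq.respectTransparency.types false

set_option autoImplicit false
universe u
open CategoryTheory CategoryTheory.Limits AlgebraicGeometry
open Resolve

namespace Groth.Agent.S1600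

/-- Some nonempty open of the spectrum of a Noetherian domain has regular local rings if a finite
injective extension domain has regular local rings. -/
theorem exists_regular_open (R S : Type u) [CommRing R] [CommRing S] [IsDomain R] [IsDomain S] [IsNoetherianRing R]
    [Algebra R S] [Module.Finite R S] (hinj : Function.Injective (algebraMap R S))
    (hS : ∀ (q : Ideal S) [q.IsPrime], IsRegularLocalRing (Localization.AtPrime q)) :
    ∃ O : TopologicalSpace.Opens (PrimeSpectrum R), (O : Set (PrimeSpectrum R)).Nonempty ∧
      ∀ p ∈ O, IsRegularLocalRing (Localization.AtPrime p.asIdeal) := by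
  haveI : Module.FinitePresentation R S := Module.finitePresentation_of_finite R S
  haveI : FaithfulSMul R S := (faithfulSMul_iff_algebraMap_injective R S).mpr hinj
  let O : TopologicalSpace.Opens (PrimeSpectrum R) := ⟨Module.freeLocus R S, Module.isOpen_freeLocus⟩
  refine ⟨O, ⟨⟨⊥, Ideal.isPrime_bot⟩, ?_⟩, fun p hp => ?_⟩
  · show Module.Free _ _
    have h : IsField (Localization.AtPrime (⊥ : Ideal R)) := by
      rw [IsLocalRing.isField_iff_maximalIdeal_eq, ← Localization.AtPrime.map_eq_maximalIdeal, Ideal.map_bot]
    letI := h.toField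
    exact Module.Free.of_divisionRing _ _
  · obtain ⟨q, hq, hqp⟩ : ∃ q : Ideal S, q.IsPrime ∧ q.LiesOver p.asIdeal := by
      obtain ⟨⟨q, h1, h2⟩⟩ := (inferInstance : Nonempty (p.asIdeal.primesOver S))
      exact ⟨q, h1, h2⟩
    haveI := hS q
    let A := Localization.AtPrime p.asIdeal
    let M := Algebra.algebraMapSubmonoid S p.asIdeal.primeCompl
    haveI : Module.Free A (LocalizedModule p.asIdeal.primeCompl S) := hp
    have hM : M ≤ q.primeCompl := by
      rintro _ ⟨r, hr, rfl⟩ h
      exact hr ((q.over_def p.asIdeal).symm ▸ h)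
    let B := Localization M
    let e : LocalizedModule p.asIdeal.primeCompl S ≃ₗ[R] B :=
      IsLocalizedModule.iso p.asIdeal.primeCompl (IsScalarTower.toAlgHom R S B).toLinearMap
    haveI : Module.Free A B := Module.Free.of_equiv (e.extendScalarsOfIsLocalization p.asIdeal.primeCompl A)
    let C := Localization.AtPrime q
    letI : Algebra B C := (IsLocalization.map (T := q.primeCompl) C (RingHom.id S) hM).toAlgebra
    haveI : IsScalarTower S B C := IsScalarTower.of_algebraMap_eq fun x =>
      (IsLocalization.map_eq (g := RingHom.id S) hM x).symm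
    haveI : IsLocalization (q.primeCompl.map (algebraMap S B)) C :=
      IsLocalization.isLocalization_of_submonoid_le B C M q.primeCompl hM
    haveI : Module.Flat B C := IsLocalization.flat C (q.primeCompl.map (algebraMap S B))
    letI : Algebra A C := ((algebraMap B C).comp (algebraMap A B)).toAlgebra
    haveI : IsScalarTower A B C := IsScalarTower.of_algebraMap_eq fun _ => rfl
    haveI : Module.Flat A C := Module.Flat.trans A B C
    have hcomp : ∀ r : R, algebraMap A C (algebraMap R A r) = algebraMap S C (algebraMap R S r) := fun r => by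
      show algebraMap B C (algebraMap A B (algebraMap R A r)) = _
      rw [← IsScalarTower.algebraMap_apply R A B, IsScalarTower.algebraMap_apply R S B,
        ← IsScalarTower.algebraMap_apply S B C]
    haveI : IsLocalHom (algebraMap A C) := ⟨fun x hx => by
      obtain ⟨r, t, rfl⟩ := IsLocalization.exists_mk'_eq p.asIdeal.primeCompl x
      rw [IsLocalization.AtPrime.isUnit_mk'_iff]
      intro hr
      have h2 : algebraMap A C (IsLocalization.mk' A r t) * algebraMap A C (algebraMap R A t) =
          algebraMap S C (algebraMap R S r) := by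
        rw [← map_mul, IsLocalization.mk'_spec, hcomp]
      have h3 : IsUnit (algebraMap S C (algebraMap R S r)) :=
        h2 ▸ hx.mul ((IsLocalization.map_units A t).map _)
      rw [IsLocalization.AtPrime.isUnit_to_map_iff C q] at h3
      exact h3 ((q.over_def p.asIdeal) ▸ hr : r ∈ q.under R)⟩
    exact Groth.Agent.S0565.result A C

/-- Let A be a Noetherian domain such that Spec A admits an alteration f : X → Spec A with X regular.
Then the integral closure of A in its fraction field is a finite A-module (A is N-1), and some
nonempty open subset of Spec A consists of points whose local ring is regular. (The published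
statement is for any Noetherian integral scheme; it is stated here for an affine one.) -/
theorem result (A : Type u) [CommRing A] [IsDomain A] [IsNoetherianRing A]
    (X : Scheme.{u}) (f : X ⟶ Spec (CommRingCat.of A)) (hf : Curv2.IsAlteration f)
    (hreg : ∀ x : X, IsRegularLocalRing (X.presheaf.stalk x)) :
    CAlg.IsN1 A ∧ ∃ U : (Spec (CommRingCat.of A)).Opens, (U : Set (Spec (CommRingCat.of A))).Nonempty ∧
      ∀ y ∈ U, IsRegularLocalRing ((Spec (CommRingCat.of A)).presheaf.stalk y) := by
  classical
  obtain ⟨hp, hi, -, hdom, V, hV, hfin⟩ := hf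
  have hXn : Pi1.IsNormalScheme X := fun x => by
    haveI := hreg x
    obtain ⟨h1, h2⟩ := Groth.Agent.S2821.result (X.presheaf.stalk x)
    exact ⟨h1, inferInstance⟩
  haveI := IsSchemeTheoreticallyDominant.of_isDominant f
  refine ⟨?_, ?_⟩
  · let B : Type u := Γ(X, ⊤)
    letI : Algebra A B := (Coh.toGlobal f).toAlgebra
    haveI : Module.Finite A B := RingHom.finite_algebraMap.1 (Hens.CoupleProper.finite_toGlobal f)
    haveI : IsIntegrallyClosed B := Groth.Agent.S2102.result X hXn
    have hinj : Function.Injective (algebraMap A B) :=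
      (f.app_injective ⊤).comp (Scheme.ΓSpecIso (CommRingCat.of A)).symm.commRingCatIsoToRingEquiv.injective
    let K := FractionRing A
    let L := FractionRing B
    have hinjL : Function.Injective (algebraMap A L) := by
      rw [IsScalarTower.algebraMap_eq A B L]
      exact (IsFractionRing.injective B L).comp hinj
    let ψ : K →ₐ[A] L := IsFractionRing.liftAlgHom (K := K) (g := Algebra.ofId A L) hinjL
    have hmem : ∀ z : integralClosure A K, ∃ b : B, algebraMap B L b = ψ z.1 := fun z =>
      IsIntegrallyClosed.algebraMap_eq_of_integral ((z.2.map ψ).tower_top)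
    choose g hg using hmem
    have hgl : ∀ z, algebraMap B L (g z) = ψ z.1 := hg
    let G : integralClosure A K →ₗ[A] B :=
      { toFun := g
        map_add' := fun x y => IsFractionRing.injective B L (by rw [map_add, hgl, hgl, hgl]; exact map_add ψ _ _)
        map_smul' := fun a x => IsFractionRing.injective B L (by
          rw [hgl, RingHom.id_apply, Algebra.smul_def a (g x), map_mul, hgl, ← IsScalarTower.algebraMap_apply A B L,
            ← Algebra.smul_def]
          exact map_smul ψ a x.1) }
    exact Module.Finite.of_injective G fun x y h => Subtype.ext (ψ.toRingHom.injective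
      (by show ψ x.1 = ψ y.1; rw [← hgl, ← hgl]; exact congrArg _ h))
  · obtain ⟨y₀, hy₀⟩ := hV
    obtain ⟨W₀, hW₀, hy₀W, -⟩ :=
      exists_isAffineOpen_mem_and_subset (X := V.toScheme) (x := ⟨y₀, hy₀⟩) (U := ⊤) trivial
    haveI := hfin
    let D : (Spec (CommRingCat.of A)).Opens := V.ι ''ᵁ W₀
    have hD : IsAffineOpen D := hW₀.image_of_isOpenImmersion _
    haveI hfD : IsFinite (f ∣_ D) :=
      (MorphismProperty.arrow_mk_iso_iff @IsFinite (morphismRestrictRestrict f V W₀)).mp
        (IsZariskiLocalAtTarget.restrict hfin W₀)
    have hD' : IsAffineOpen (f ⁻¹ᵁ D) := by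
      haveI : IsAffine D.toScheme := hD
      exact isAffine_of_isAffineHom (f ∣_ D)
    have hne : (D : Set (Spec (CommRingCat.of A))).Nonempty := ⟨y₀, ⟨⟨y₀, hy₀⟩, hy₀W, rfl⟩⟩
    haveI : Nonempty D := hne.to_subtype
    haveI : Nonempty (f ⁻¹ᵁ D) := (f.denseRange.exists_mem_open D.2 hne).elim fun x hx => ⟨⟨x, hx⟩⟩
    let R : Type u := Γ(Spec (CommRingCat.of A), D)
    let S : Type u := Γ(X, f ⁻¹ᵁ D)
    letI : Algebra R S := (f.app D).hom.toAlgebra
    haveI : IsNoetherianRing R := IsLocallyNoetherian.component_noetherian ⟨D, hD⟩
    haveI : Module.Finite R S := by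
      have h := IsFinite.finite_app (f ∣_ D) ⊤ (by haveI : IsAffine D.toScheme := hD; exact isAffineOpen_top _)
      rw [morphismRestrict_app, CommRingCat.hom_comp, RingHom.finite_respectsIso.cancel_right_isIso] at h
      have key : ∀ D' : (Spec (CommRingCat.of A)).Opens, D' = D → (f.app D').hom.Finite → (f.app D).hom.Finite := by
        rintro _ rfl h'; exact h'
      exact key _ D.ι_image_top h
    have hSreg : ∀ (q : Ideal S) [q.IsPrime], IsRegularLocalRing (Localization.AtPrime q) := by
      intro q hq
      let x := hD'.fromSpec ⟨q, hq⟩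
      have hx : x ∈ f ⁻¹ᵁ D := by rw [← SetLike.mem_coe, ← hD'.range_fromSpec]; exact ⟨_, rfl⟩
      letI := TopCat.Presheaf.algebra_section_stalk X.presheaf ⟨x, hx⟩
      haveI := hD'.isLocalization_stalk' ⟨q, hq⟩ hx
      haveI := hreg x
      exact IsRegularLocalRing.of_ringEquiv
        (IsLocalization.algEquiv q.primeCompl (X.presheaf.stalk x) (Localization.AtPrime q)).toRingEquiv
    obtain ⟨O, hO, hOreg⟩ := exists_regular_open R S (f.app_injective D) hSreg
    refine ⟨hD.fromSpec ''ᵁ O, hO.image _, ?_⟩
    rintro _ ⟨p, hp, rfl⟩
    have hx : hD.fromSpec p ∈ D := by rw [← SetLike.mem_coe, ← hD.range_fromSpec]; exact ⟨_, rfl⟩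
    letI := TopCat.Presheaf.algebra_section_stalk (Spec (CommRingCat.of A)).presheaf ⟨_, hx⟩
    haveI := hD.isLocalization_stalk' p hx
    haveI := hOreg p hp
    exact IsRegularLocalRing.of_ringEquiv
      (IsLocalization.algEquiv p.asIdeal.primeCompl (Localization.AtPrime p.asIdeal)
        ((Spec (CommRingCat.of A)).presheaf.stalk (hD.fromSpec p))).toRingEquiv

end Groth.Agent.S1600
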