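import Groth.Statements.S19964
import Groth.Agent.FDesc.GenericClosure
import Groth.Agent.FlatMor.SchDom
import Groth.Agent.GrpScheme.SubgroupObj
import Groth.Agent.NeronLib.Dense
import Mathlib.RingTheory.DedekindDomain.Dvr

set_option autoImplicit false
universe u
open CategoryTheory MonoidalCategory CartesianMonoidalCategory MonObj GrpObj AlgebraicGeometry CategoryTheory.Limits
open Neron

namespace Groth.Agent.S19964

/-- the stalks of a Dedekind scheme are regular of dimension at most one -/
theorem regular_stalk (A : Type u) [CommRing A] [IsDedekindDomain A] (y : Spec (CommRingCat.of A)) :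
    IsRegularLocalRing ((Spec (CommRingCat.of A)).presheaf.stalk y) ∧
      ringKrullDim ((Spec (CommRingCat.of A)).presheaf.stalk y) ≤ 1 := by
  haveI hp : y.asIdeal.IsPrime := y.isPrime
  letI := StructureSheaf.stalkAlgebra A y
  haveI := StructureSheaf.IsLocalization.to_stalk A y
  let e : Localization.AtPrime y.asIdeal ≃+* (Spec (CommRingCat.of A)).presheaf.stalk y :=
    (IsLocalization.algEquiv (R := A) y.asIdeal.primeCompl (Localization.AtPrime y.asIdeal)
      ((Spec.structureSheaf A).presheaf.stalk y)).toRingEquiv
  have key : ∀ (P : Ideal A) [P.IsPrime], IsRegularLocalRing (Localization.AtPrime P) ∧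
      ringKrullDim (Localization.AtPrime P) ≤ 1 := by
    intro P hP
    by_cases h0 : P = ⊥
    · subst h0
      have : IsDomain (Localization.AtPrime (⊥ : Ideal A)) :=
        IsLocalization.isDomain_of_le_nonZeroDivisors (Localization.AtPrime (⊥ : Ideal A))
          (⊥ : Ideal A).primeCompl_le_nonZeroDivisors
      have hm : IsLocalRing.maximalIdeal (Localization.AtPrime (⊥ : Ideal A)) = ⊥ := by
        rw [← Localization.AtPrime.map_eq_maximalIdeal, Ideal.map_bot]
      have hf := IsLocalRing.isField_iff_maximalIdeal_eq.mpr hm
      refine ⟨?_, (ringKrullDim_eq_zero_of_isField hf).trans_le zero_le_one⟩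
      let := hf.toField
      infer_instance
    · have : IsDiscreteValuationRing (Localization.AtPrime P) :=
        IsLocalization.AtPrime.isDiscreteValuationRing_of_dedekind_domain A h0 _
      exact ⟨((Groth.Agent.RegLoc.Completion.exists_isDiscreteValuationRing_iff _).mp
          ⟨inferInstance, inferInstance⟩).1,
        (IsPrincipalIdealRing.ringKrullDim_eq_one _ (IsDiscreteValuationRing.not_isField _)).le⟩
  obtain ⟨hr, hd⟩ := key y.asIdeal
  exact ⟨IsRegularLocalRing.of_ringEquiv e, e.symm.ringKrullDim.trans_le hd⟩

/-- a morphism factors through a closed immersion if it does so on a schematically dominant scheme -/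
theorem exists_lift {W T H G : Scheme.{u}} (j : H ⟶ G) [IsClosedImmersion j] (b : T ⟶ G)
    (t : W ⟶ T) [IsSchemeTheoreticallyDominant t] (c : W ⟶ H) (w : c ≫ j = t ≫ b) :
    ∃ l : T ⟶ H, l ≫ j = b := by
  haveI := NeronLib.Dense.isIso_of_factors (pullback.snd j b) t (pullback.lift c t w)
    (pullback.lift_snd _ _ _)
  refine ⟨inv (pullback.snd j b) ≫ pullback.fst j b, ?_⟩
  rw [Category.assoc, pullback.condition, IsIso.inv_hom_id_assoc]

/-- Let R be a Dedekind domain with fraction field K, G a group scheme over Spec R and i : H_K → G_K a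
closed subgroup scheme of the generic fibre G_K = G ×_R K (a homomorphism which is a closed
immersion). Then there are a group scheme H over Spec R, flat over Spec R, and a homomorphism j : H
→ G which is a closed immersion, together with a morphism H_K → H presenting H_K as the generic
fibre H ×_R K compatibly with i and the embedding G_K → G, and with trivial kernel ideal sheaf (H_K
is schematically dense in H). In words: the schematic closure in G of a closed K-subgroup of the
generic fibre is a flat closed R-subgroup scheme of G. (The source states this for group algebraic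
spaces over a connected Dedekind scheme; the case of schemes over an affine base is stated.) -/
theorem result
    (R : Type u) [CommRing R] [IsDedekindDomain R]
    (G : Over (Spec (CommRingCat.of R))) [GrpObj G]
    (HK : Over (Spec (CommRingCat.of (FractionRing R)))) [GrpObj HK]
    (i : HK ⟶ Red.bc (Neron.genPt R) G) [IsMonHom i] [IsClosedImmersion i.left] :
    ∃ (H : Over (Spec (CommRingCat.of R))) (_ : GrpObj H) (j : H ⟶ G) (φ : HK.left ⟶ H.left),
      IsMonHom j ∧ IsClosedImmersion j.left ∧ Flat H.hom ∧
      IsPullback φ HK.hom H.hom (Neron.genPt R) ∧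
      φ ≫ j.left = i.left ≫ pullback.fst G.hom (Neron.genPt R) ∧
      φ.ker = ⊥ := by
  let t := Neron.genPt R
  let F := Over.pullback t
  haveI : Flat t := by
    show Flat (Spec.map _)
    rw [HasRingHomProperty.Spec_iff (P := @Flat)]
    exact RingHom.flat_algebraMap_iff.2 (IsLocalization.flat (FractionRing R) (nonZeroDivisors R))
  haveI : Mono t := by
    haveI : IsPreimmersion t :=
      IsPreimmersion.of_isLocalization (nonZeroDivisors R)
    infer_instance
  let π := pullback.fst G.hom t
  let f : HK.left ⟶ G.left := i.left ≫ π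
  haveI : QuasiCompact f := inferInstance
  haveI hφ : IsSchemeTheoreticallyDominant f.toImage :=
    FlatMor.SchDom.toImage_dominant f (Or.inl inferInstance)
  haveI : QuasiCompact f.toImage := by
    have : QuasiCompact (f.toImage ≫ f.imageι) := by rw [f.toImage_imageι]; infer_instance
    exact QuasiCompact.of_comp f.toImage f.imageι
  let H : Over (Spec (CommRingCat.of R)) := Over.mk (f.imageι ≫ G.hom)
  let j : H ⟶ G := Over.homMk f.imageι rfl
  haveI : IsClosedImmersion j.left := inferInstanceAs (IsClosedImmersion f.imageι)
  have hiw : i.left ≫ pullback.snd G.hom t = HK.hom := Over.w i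
  have hφw : f.toImage ≫ H.hom = HK.hom ≫ t := by
    show f.toImage ≫ f.imageι ≫ G.hom = _
    rw [f.toImage_imageι_assoc, Category.assoc, pullback.condition, reassoc_of% hiw]
  haveI : Flat H.hom := by
    refine FDesc.GenericClosure.flat_of_schemeTheoreticallyDominant (regular_stalk R) H.hom f.toImage
      fun a => ?_
    refine (Scheme.Hom.comp_apply f.toImage H.hom a).symm.trans ?_
    rw [hφw, Scheme.Hom.comp_apply]
    haveI : Subsingleton (Spec (CommRingCat.of (FractionRing R))) :=
      inferInstanceAs (Subsingleton (PrimeSpectrum _))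
    refine IsGenericPoint.eq ?_ (genericPoint_spec _)
    rw [isGenericPoint_iff_specializes]
    intro y
    simp only [Set.mem_univ, iff_true]
    refine (PrimeSpectrum.le_iff_specializes _ y).mp ?_
    show Ideal.comap (algebraMap R (FractionRing R)) (HK.hom a).asIdeal ≤ y.asIdeal
    haveI hpa : (HK.hom a).asIdeal.IsPrime := (HK.hom a).isPrime
    rw [show (HK.hom a).asIdeal = ⊥ from (Ideal.eq_bot_or_top _).resolve_right hpa.ne_top,
      Ideal.comap_bot_of_injective _ (IsFractionRing.injective R (FractionRing R))]
    exact bot_le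
  haveI hstd : ∀ (T : Over (Spec (CommRingCat.of R))) [Flat T.hom],
      IsSchemeTheoreticallyDominant (pullback.fst T.hom t) := fun T _ => inferInstance
  -- the generic fibre of the closure
  let e : HK ⟶ F.obj H := Over.homMk (pullback.lift f.toImage HK.hom hφw) (pullback.lift_snd _ _ _)
  have he : e ≫ F.map j = i := by
    ext1
    apply pullback.hom_ext
    · show pullback.lift f.toImage HK.hom hφw ≫ (F.map j).left ≫ pullback.fst G.hom t = f
      rw [show (F.map j).left ≫ pullback.fst G.hom t = pullback.fst H.hom t ≫ j.left from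
        pullback.lift_fst _ _ _, pullback.lift_fst_assoc]
      exact f.toImage_imageι
    · show pullback.lift f.toImage HK.hom hφw ≫ (F.map j).left ≫ pullback.snd G.hom t =
        i.left ≫ pullback.snd G.hom t
      rw [show (F.map j).left ≫ pullback.snd G.hom t = pullback.snd H.hom t from
        pullback.lift_snd _ _ _, pullback.lift_snd, hiw]
  haveI : IsClosedImmersion e.left := by
    haveI : IsClosedImmersion (F.map j).left := by
      have h : IsPullback (pullback.fst H.hom t) (F.map j).left j.left (pullback.fst G.hom t) := by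
        refine IsPullback.of_bot ?_ (pullback.lift_fst _ _ _).symm (IsPullback.of_hasPullback G.hom t)
        have hs : (F.map j).left ≫ pullback.snd G.hom t = pullback.snd H.hom t := pullback.lift_snd _ _ _
        rw [hs, Over.w j]
        exact IsPullback.of_hasPullback H.hom t
      exact MorphismProperty.of_isPullback h.flip.flip ‹IsClosedImmersion j.left›
    haveI : IsClosedImmersion (e.left ≫ (F.map j).left) := by
      rw [← Over.comp_left, he]; infer_instance
    exact IsClosedImmersion.of_comp e.left (F.map j).left
  have hpb : IsPullback f.toImage HK.hom H.hom t := by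
    have h1 : IsPullback (𝟙 HK.left) e.left f.toImage (pullback.fst H.hom t) :=
      IsPullback.of_horiz_isIso_mono ⟨(Category.id_comp _).trans (pullback.lift_fst _ _ _).symm⟩
    haveI : IsSchemeTheoreticallyDominant e.left := IsSchemeTheoreticallyDominant.of_isPullback h1
    haveI := NeronLib.Dense.isIso_of_factors e.left e.left (𝟙 _) (Category.id_comp _)
    exact IsPullback.of_iso_pullback ⟨hφw⟩ (asIso e.left) (pullback.lift_fst _ _ _) (pullback.lift_snd _ _ _)
  haveI : IsIso e := by
    haveI : IsIso e.left := by
      have : e.left = hpb.isoPullback.hom := by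
        apply pullback.hom_ext
        · exact (pullback.lift_fst _ _ _).trans hpb.isoPullback_hom_fst.symm
        · exact (pullback.lift_snd _ _ _).trans hpb.isoPullback_hom_snd.symm
      rw [this]; infer_instance
    haveI : IsIso ((Over.forget _).map e) := ‹IsIso e.left›
    exact isIso_of_reflects_iso e (Over.forget _)
  -- the operations
  have hlift : ∀ (T : Over (Spec (CommRingCat.of R))) [Flat T.hom] (b : T ⟶ G) (c : F.obj T ⟶ HK),
      c ≫ i = F.map b → ∃ l : T ⟶ H, l ≫ j = b := by
    intro T _ b c hc
    obtain ⟨l, hl⟩ := exists_lift j.left b.left (pullback.fst T.hom t) (c.left ≫ f.toImage) (by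
      show (c.left ≫ f.toImage) ≫ f.imageι = _
      rw [Category.assoc, f.toImage_imageι, ← Category.assoc, ← Over.comp_left, hc]
      exact pullback.lift_fst _ _ _)
    refine ⟨Over.homMk l ?_, Over.OverMorphism.ext hl⟩
    rw [← Over.w b, ← hl, Category.assoc, Over.w j]
  have hFj : inv e ≫ i = F.map j := (IsIso.inv_comp_eq e).2 he.symm
  haveI : Flat (𝟙_ (Over (Spec (CommRingCat.of R)))).hom :=
    inferInstanceAs (Flat (𝟙 (Spec (CommRingCat.of R))))
  haveI : Flat (H ⊗ H).hom := inferInstanceAs (Flat (pullback.fst H.hom H.hom ≫ H.hom))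
  let ψ := fun (A : Over (Spec (CommRingCat.of R))) =>
    Functor.homMonoidHom (X := A) (M := G) F
  have hone : ∃ o : 𝟙_ _ ⟶ H, o ≫ j = η[G] := by
    refine hlift _ _ 1 ?_
    rw [MonObj.one_comp, ← map_one (ψ (𝟙_ (Over (Spec (CommRingCat.of R)))))]
    show F.map _ = _
    congr 1
  have hinv : ∃ v : H ⟶ H, v ≫ j = j ≫ ι[G] := by
    refine hlift _ _ (inv e)⁻¹ ?_
    rw [GrpObj.inv_comp, hFj, ← Hom.inv_def]
    exact (map_inv (ψ H) j).symm
  have hmul : ∃ m : H ⊗ H ⟶ H, m ≫ j = (j ⊗ₘ j) ≫ μ[G] := by
    refine hlift _ _ ((F.map (fst H H) ≫ inv e) * (F.map (snd H H) ≫ inv e)) ?_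
    rw [MonObj.mul_comp, Category.assoc, Category.assoc, hFj, ← F.map_comp, ← F.map_comp]
    refine (map_mul (ψ (H ⊗ H)) _ _).symm.trans ?_
    show F.map _ = F.map _
    congr 1
  haveI : Mono j := Over.mono_of_mono_left j
  obtain ⟨g, hg⟩ := GrpScheme.SubgroupObj.exists_grpObj j hmul hone hinv
  exact ⟨H, g, j, f.toImage, hg, ‹_›, ‹_›, hpb, f.toImage_imageι, hφ.ker_eq_bot⟩

end Groth.Agent.S19964
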