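import Groth.Statements.S7321
import Groth.Agent.S1600
import Groth.Agent.S19964
import Groth.Agent.Curv2Norm.IsoOfNormal
import Groth.Agent.Curv2Norm.DimOne
import Groth.Agent.NormFinCpl.Scheme

set_option linter.style.haveILetI false
set_option backward.isDefEq.respectTransparency false
set_option backward.isDefEq.respectTransparency.types false
open TopologicalSpace

set_option autoImplicit false
universe u
open CategoryTheory CategoryTheory.Limits AlgebraicGeometry
open Resolve

namespace Groth.Agent.S7321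

/-- Restricting further keeps finiteness. -/
theorem isFinite_restrict_le {X Y : Scheme.{u}} (g : X ⟶ Y) {V W : Y.Opens} (hWV : W ≤ V)
    (h : IsFinite (g ∣_ V)) : IsFinite (g ∣_ W) := by
  have he : V.ι ''ᵁ (V.ι ⁻¹ᵁ W) = W := by
    rw [Scheme.Hom.image_preimage_eq_opensRange_inf, Scheme.Opens.opensRange_ι, inf_eq_right.2 hWV]
  have h1 : IsFinite ((g ∣_ V) ∣_ (V.ι ⁻¹ᵁ W)) := IsZariskiLocalAtTarget.restrict (P := @IsFinite) h _
  have h2 := (MorphismProperty.arrow_mk_iso_iff @IsFinite (morphismRestrictRestrict g V _)).1 h1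
  rw [he] at h2
  exact h2

/-- A scheme with a regular alteration has finite normalization. -/
theorem finite_integralClosure_of_alteration {X Y : Scheme.{u}} [IsIntegral Y] [IsNoetherian Y] (g : X ⟶ Y)
    (hg : Curv2.IsAlteration g) (hreg : ∀ x : X, IsRegularLocalRing (X.presheaf.stalk x))
    (U : Y.Opens) (hU : IsAffineOpen U) [Nonempty U] :
    Module.Finite Γ(Y, U) (integralClosure Γ(Y, U) Y.functionField) := by
  obtain ⟨hp, hX, -, hdom, V, hV, hfin⟩ := hg
  let A : Type u := Γ(Y, U)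
  haveI : IsDomain A := IsIntegral.component_integral U
  haveI : IsNoetherianRing A := IsLocallyNoetherian.component_noetherian ⟨U, hU⟩
  haveI : IsAffine U.toScheme := hU
  let h : (g ⁻¹ᵁ U).toScheme ⟶ Spec (CommRingCat.of A) := (g ∣_ U) ≫ hU.isoSpec.hom
  haveI : IsProper (g ∣_ U) := IsZariskiLocalAtTarget.restrict (P := @IsProper) hp U
  have hη : genericPoint Y ∈ U := by
    obtain ⟨⟨x, hx⟩⟩ := ‹Nonempty U›
    exact (genericPoint_specializes x).mem_open U.2 hx
  have hξη : g (genericPoint X) = genericPoint Y := by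
    have := ((genericPoint_spec X).image g.continuous)
    rw [Set.image_univ, hdom.denseRange.closure_range] at this
    exact this.eq (genericPoint_spec Y)
  have hξ : genericPoint X ∈ g ⁻¹ᵁ U := by rw [Scheme.Hom.mem_preimage, hξη]; exact hη
  haveI : Nonempty (g ⁻¹ᵁ U).toScheme := ⟨⟨_, hξ⟩⟩
  haveI : IsIntegral (g ⁻¹ᵁ U).toScheme := isIntegral_of_isOpenImmersion (g ⁻¹ᵁ U).ι
  haveI : IsDominant (g ∣_ U) := IsZariskiLocalAtTarget.restrict (P := @IsDominant) hdom U
  have halt : Curv2.IsAlteration h := by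
    refine ⟨inferInstance, inferInstance, inferInstance, inferInstance, hU.isoSpec.inv ⁻¹ᵁ (U.ι ⁻¹ᵁ V), ?_, ?_⟩
    · have hηV : genericPoint Y ∈ V := ((genericPoint_spec Y).mem_open_set_iff V.2).2 (by simpa using hV)
      refine ⟨hU.isoSpec.hom ⟨genericPoint Y, hη⟩, ?_⟩
      show U.ι (hU.isoSpec.inv (hU.isoSpec.hom ⟨genericPoint Y, hη⟩)) ∈ V
      rw [← Scheme.Hom.comp_apply hU.isoSpec.hom, Iso.hom_inv_id]
      exact hηV
    · rw [morphismRestrict_comp]
      have e : hU.isoSpec.hom ⁻¹ᵁ (hU.isoSpec.inv ⁻¹ᵁ (U.ι ⁻¹ᵁ V)) = U.ι ⁻¹ᵁ V := by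
        rw [← Scheme.Hom.comp_preimage, Iso.hom_inv_id]; rfl
      haveI : IsFinite ((g ∣_ U) ∣_ (U.ι ⁻¹ᵁ V)) := by
        refine (MorphismProperty.arrow_mk_iso_iff @IsFinite (morphismRestrictRestrict g U _)).2 ?_
        refine isFinite_restrict_le g ?_ hfin
        rw [Scheme.Hom.image_preimage_eq_opensRange_inf]
        exact inf_le_right
      haveI : IsFinite ((g ∣_ U) ∣_ (hU.isoSpec.hom ⁻¹ᵁ (hU.isoSpec.inv ⁻¹ᵁ (U.ι ⁻¹ᵁ V)))) := by
        rw [e]; infer_instance
      infer_instance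
  have hreg' : ∀ x : (g ⁻¹ᵁ U).toScheme, IsRegularLocalRing ((g ⁻¹ᵁ U).toScheme.presheaf.stalk x) := fun x =>
    haveI := hreg ((g ⁻¹ᵁ U).ι x)
    IsRegularLocalRing.of_ringEquiv (asIso ((g ⁻¹ᵁ U).ι.stalkMap x)).commRingCatIsoToRingEquiv
  haveI : Module.Finite A (integralClosure A (FractionRing A)) := (Groth.Agent.S1600.result A _ h halt hreg').1
  haveI := functionField_isFractionRing_of_isAffineOpen Y U hU
  exact Module.Finite.equiv (FractionRing.algEquiv A Y.functionField).mapIntegralClosure.toLinearEquiv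

/-- A finite normalization of an integral scheme is an isomorphism over some nonempty open. -/
theorem exists_isIso_restrict (Y : Scheme.{u}) [IsIntegral Y] [QuasiCompact (Y.fromSpecStalk (genericPoint Y))]
    [QuasiSeparated (Y.fromSpecStalk (genericPoint Y))] (hfin : IsFinite (Curv2.normalizationι Y)) :
    ∃ V : Y.Opens, (V : Set Y).Nonempty ∧ IsIso (Curv2.normalizationι Y ∣_ V) := by
  classical
  obtain ⟨U, hU, hηU, -⟩ := exists_isAffineOpen_mem_and_subset (X := Y) (x := genericPoint Y) (U := ⊤) trivial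
  haveI : Nonempty U := ⟨⟨_, hηU⟩⟩
  haveI := functionField_isFractionRing_of_isAffineOpen Y U hU
  haveI : IsDomain Γ(Y, U) := IsIntegral.component_integral U
  obtain ⟨φ, hφ⟩ := Curv2Norm.exists_sections_equiv Y hU
  letI := ((Curv2.normalizationι Y).app U).hom.toAlgebra
  haveI : Module.Finite Γ(Y, U) Γ(Curv2.normalization Y, Curv2.normalizationι Y ⁻¹ᵁ U) :=
    RingHom.finite_algebraMap.1 (IsFinite.finite_app (Curv2.normalizationι Y) U hU)
  let ψ : Γ(Curv2.normalization Y, Curv2.normalizationι Y ⁻¹ᵁ U) →ₐ[Γ(Y, U)] Y.functionField :=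
    { (integralClosure Γ(Y, U) Y.functionField).val.toRingHom.comp φ.toRingHom with
      commutes' := fun r => congrArg Subtype.val (hφ r) }
  obtain ⟨T, hT⟩ := Module.Finite.fg_top (R := Γ(Y, U)) (M := Γ(Curv2.normalization Y, Curv2.normalizationι Y ⁻¹ᵁ U))
  obtain ⟨⟨s, hs⟩, hsT⟩ := IsLocalization.exist_integer_multiples_of_finset (nonZeroDivisors Γ(Y, U)) (T.image ψ)
  have hsint : ∀ z : Y.functionField, IsIntegral Γ(Y, U) z → ∃ a, algebraMap Γ(Y, U) Y.functionField a = s • z := by
    intro z hz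
    obtain ⟨w, hw⟩ := φ.surjective ⟨z, hz⟩
    have hzw : ψ w = z := congrArg Subtype.val hw
    rw [← hzw]
    clear hzw hw
    induction (hT ▸ Submodule.mem_top : w ∈ Submodule.span Γ(Y, U) (T : Set _)) using Submodule.span_induction with
    | mem x hx => exact hsT (ψ x) (Finset.mem_image_of_mem _ hx)
    | zero => exact ⟨0, by rw [map_zero, map_zero, smul_zero]⟩
    | add x y _ _ hx hy =>
      obtain ⟨a, ha⟩ := hx
      obtain ⟨c, hc⟩ := hy
      exact ⟨a + c, by rw [map_add, map_add, smul_add, ha, hc]⟩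
    | smul r x _ hx =>
      obtain ⟨a, ha⟩ := hx
      exact ⟨r * a, by rw [map_mul, ha, map_smul, smul_comm, Algebra.smul_def r]⟩
  refine ⟨Y.basicOpen s, ?_, Curv2Norm.isIso_restrict Y _ fun x hx => ?_⟩
  · refine (TopologicalSpace.Opens.ne_bot_iff_nonempty _).1 fun h => ?_
    exact nonZeroDivisors.ne_zero hs ((basicOpen_eq_bot_iff s).1 h)
  · have hxU : x ∈ U := Y.basicOpen_le s hx
    letI := TopCat.Presheaf.algebra_section_stalk Y.presheaf ⟨x, hxU⟩
    haveI := hU.isLocalization_stalk ⟨x, hxU⟩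
    haveI : IsScalarTower Γ(Y, U) (Y.presheaf.stalk x) Y.functionField :=
      IsScalarTower.of_algebraMap_eq fun r =>
        (Y.presheaf.germ_stalkSpecializes_apply hxU (genericPoint_specializes x) r).symm
    haveI : IsFractionRing (Y.presheaf.stalk x) Y.functionField :=
      IsFractionRing.isFractionRing_of_isDomain_of_isLocalization
        (hU.primeIdealOf ⟨x, hxU⟩).asIdeal.primeCompl _ _
    have hsu : IsUnit (algebraMap Γ(Y, U) (Y.presheaf.stalk x) s) :=
      (Y.mem_basicOpen s x hxU).1 hx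
    refine (isIntegrallyClosed_iff Y.functionField).2 fun {z} hz => ?_
    obtain ⟨⟨t, ht⟩, htz⟩ := IsIntegral.exists_multiple_integral_of_isLocalization
      (hU.primeIdealOf ⟨x, hxU⟩).asIdeal.primeCompl z hz
    obtain ⟨a, ha⟩ := hsint _ htz
    have htu : IsUnit (algebraMap Γ(Y, U) (Y.presheaf.stalk x) t) :=
      IsLocalization.map_units (Y.presheaf.stalk x) (⟨t, ht⟩ : (hU.primeIdealOf ⟨x, hxU⟩).asIdeal.primeCompl)
    refine ⟨algebraMap Γ(Y, U) (Y.presheaf.stalk x) a * (↑(hsu.mul htu).unit⁻¹ : Y.presheaf.stalk x), ?_⟩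
    refine ((hsu.mul htu).map (algebraMap (Y.presheaf.stalk x) Y.functionField)).mul_left_cancel ?_
    rw [← map_mul, mul_comm, mul_assoc, IsUnit.val_inv_mul, mul_one, ← IsScalarTower.algebraMap_apply, ha,
      map_mul, ← IsScalarTower.algebraMap_apply, ← IsScalarTower.algebraMap_apply, mul_assoc,
      ← Algebra.smul_def, ← Algebra.smul_def]
    rfl

/-- Let Y be an integral Noetherian scheme of dimension one. Then (1) there is an alteration X → Y with
X regular, if and only if (2) Y has a resolution of singularities, i.e. a proper morphism X → Y from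
an integral regular scheme which is an isomorphism over a nonempty open of Y; and (2) holds if and
only if (4) the normalization morphism of Y is finite. (A further equivalent condition, a finite
sequence of blowings up in closed points ending in a regular scheme, is stated separately. The
quasi-compactness and quasi-separatedness binders on Spec K(Y) → Y always hold; they are needed only
to form the normalization.) -/
theorem result (Y : Scheme.{u}) [IsIntegral Y] [IsNoetherian Y]
    (hdim : topologicalKrullDim Y = 1)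
    [QuasiCompact (Y.fromSpecStalk (genericPoint Y))] [QuasiSeparated (Y.fromSpecStalk (genericPoint Y))] :
    ((∃ (X : Scheme.{u}) (g : X ⟶ Y), Curv2.IsAlteration g ∧ ∀ x : X, IsRegularLocalRing (X.presheaf.stalk x)) ↔
      (∃ (X : Scheme.{u}) (g : X ⟶ Y), IsProper g ∧ IsIntegral X ∧
        (∃ V : Y.Opens, (V : Set Y).Nonempty ∧ IsIso (g ∣_ V)) ∧ ∀ x : X, IsRegularLocalRing (X.presheaf.stalk x))) ∧
    ((∃ (X : Scheme.{u}) (g : X ⟶ Y), IsProper g ∧ IsIntegral X ∧
        (∃ V : Y.Opens, (V : Set Y).Nonempty ∧ IsIso (g ∣_ V)) ∧ ∀ x : X, IsRegularLocalRing (X.presheaf.stalk x)) ↔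
      IsFinite (Curv2.normalizationι Y)) := by
  have h14 : ∀ (X : Scheme.{u}) (g : X ⟶ Y), Curv2.IsAlteration g → (∀ x : X, IsRegularLocalRing (X.presheaf.stalk x)) →
      IsFinite (Curv2.normalizationι Y) := fun X g hg hreg =>
    NormFinCpl.isFinite_normalizationι Y fun U hU _ => finite_integralClosure_of_alteration g hg hreg U hU
  have h21 : ∀ (X : Scheme.{u}) (g : X ⟶ Y), IsProper g → IsIntegral X →
      (∃ V : Y.Opens, (V : Set Y).Nonempty ∧ IsIso (g ∣_ V)) → Curv2.IsAlteration g := by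
    intro X g hp hX hbir
    obtain ⟨V, hV, hiso⟩ := hbir
    haveI := hiso
    refine ⟨hp, hX, inferInstance, ⟨?_⟩, V, hV, inferInstance⟩
    refine Dense.mono (s₁ := (V : Set Y)) ?_ (V.2.dense hV)
    intro y hy
    refine ⟨((inv (g ∣_ V)) ⟨y, hy⟩).1, ?_⟩
    rw [← morphismRestrict_base_coe g V]
    show ((inv (g ∣_ V) ≫ g ∣_ V) ⟨y, hy⟩).1 = y
    rw [IsIso.inv_hom_id]
    rfl
  have h42 : IsFinite (Curv2.normalizationι Y) → ∃ (X : Scheme.{u}) (g : X ⟶ Y), IsProper g ∧ IsIntegral X ∧
      (∃ V : Y.Opens, (V : Set Y).Nonempty ∧ IsIso (g ∣_ V)) ∧ ∀ x : X, IsRegularLocalRing (X.presheaf.stalk x) := by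
    intro hfin
    haveI := hfin
    refine ⟨Curv2.normalization Y, Curv2.normalizationι Y, inferInstance, Curv2Norm.isIntegral Y,
      exists_isIso_restrict Y hfin, fun z => ?_⟩
    obtain ⟨V, hV, hzV, -⟩ := exists_isAffineOpen_mem_and_subset (x := z) (U := ⊤) trivial
    haveI := Curv2Norm.isDedekindDomain_sections Y hdim hV ⟨z, hzV⟩
    obtain ⟨w, rfl⟩ : z ∈ Set.range hV.fromSpec := by rw [hV.range_fromSpec]; exact hzV
    haveI := (Groth.Agent.S19964.regular_stalk Γ(Curv2.normalization Y, V) w).1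
    exact IsRegularLocalRing.of_ringEquiv (asIso (hV.fromSpec.stalkMap w)).commRingCatIsoToRingEquiv.symm
  refine ⟨⟨fun ⟨X, g, hg, hreg⟩ => h42 (h14 X g hg hreg), fun ⟨X, g, hp, hX, hbir, hreg⟩ =>
    ⟨X, g, h21 X g hp hX hbir, hreg⟩⟩, ⟨fun ⟨X, g, hp, hX, hbir, hreg⟩ => h14 X g (h21 X g hp hX hbir) hreg, h42⟩⟩

end Groth.Agent.S7321
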