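import Groth.Statements.S7372
import Groth.Agent.S7321
import Groth.Agent.S2348
import Groth.Agent.S8859
import Groth.Agent.S1570
import Groth.Agent.JacPts.CurveDiv
import Groth.Agent.BlowSep.Stalk
import Groth.Agent.BlowH1.Contraction
import Groth.Agent.S10855
import Groth.Agent.BlowUpProper.Basic
-- import your own Groth.Agent.* helpers here

set_option linter.style.haveILetI false
set_option backward.isDefEq.respectTransparency false
set_option backward.isDefEq.respectTransparency.types false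
set_option autoImplicit false
universe u
open CategoryTheory CategoryTheory.Limits AlgebraicGeometry
open Resolve
open TopologicalSpace Groth.Agent.BlowUp

namespace Groth.Agent.S7372

/-- In a one-dimensional integral scheme the generic point is not closed and the others are. -/
theorem points_dimOne {Y : Scheme.{u}} [IsIntegral Y] (hdim : topologicalKrullDim Y = 1) :
    ¬ IsClosed ({genericPoint Y} : Set Y) ∧ ∀ y : Y, y ≠ genericPoint Y → IsClosed ({y} : Set Y) := by
  have hord : topologicalKrullDim Y = Order.krullDim Y :=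
    Order.krullDim_eq_of_orderIso (irreducibleSetEquivPoints (α := Y))
  rw [hord] at hdim
  refine ⟨fun hc => ?_, fun y hy => closure_subset_iff_isClosed.1 fun w hw => ?_⟩
  · haveI : Subsingleton Y := ⟨fun a b => by
      have ha := (genericPoint_specializes a).mem_closed hc rfl
      have hb := (genericPoint_specializes b).mem_closed hc rfl
      rw [Set.mem_singleton_iff] at ha hb
      rw [ha, hb]⟩
    have h0 := Order.krullDim_nonpos_of_subsingleton (α := Y)
    rw [hdim] at h0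
    exact absurd h0 (by norm_num)
  · by_contra hne
    have h1 : w < y := lt_iff_le_not_ge.2 ⟨specializes_iff_mem_closure.2 hw,
      fun h => hne (((specializes_iff_mem_closure.2 hw).antisymm h).eq.symm)⟩
    have h2 : y < genericPoint Y := lt_iff_le_not_ge.2 ⟨genericPoint_specializes y,
      fun h => hy (((genericPoint_specializes y).antisymm h).eq.symm)⟩
    let l : LTSeries Y := ((RelSeries.singleton _ w).snoc y h1).snoc (genericPoint Y) (by
      rw [RelSeries.last_snoc]; exact h2)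
    have h3 : ((2 : ℕ) : WithBot ℕ∞) ≤ Order.krullDim Y := Order.LTSeries.length_le_krullDim l
    rw [hdim] at h3
    exact absurd h3 (by norm_num)

/-- A morphism which is an isomorphism over a neighbourhood of the generic point has only the generic
point over the generic point. -/
theorem eq_genericPoint {X Y : Scheme.{u}} [IsIntegral X] [IsIntegral Y] (g : X ⟶ Y) (V : Y.Opens) [IsIso (g ∣_ V)]
    (hV : (V : Set Y).Nonempty) : g (genericPoint X) = genericPoint Y ∧
      ∀ x : X, g x = genericPoint Y → x = genericPoint X := by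
  have hηV : genericPoint Y ∈ V := ((genericPoint_spec Y).mem_open_set_iff V.2).2 (by simpa using hV)
  have hinj : ∀ a b : X, g a ∈ V → g a = g b → a = b := fun a b ha hab => by
    have := (g ∣_ V).isOpenEmbedding.injective (a₁ := ⟨a, ha⟩) (a₂ := ⟨b, show g b ∈ V from hab ▸ ha⟩)
      (Subtype.ext (by rw [morphismRestrict_base_coe, morphismRestrict_base_coe]; exact hab))
    exact congrArg Subtype.val this
  obtain ⟨x₀, hx₀⟩ : ∃ x₀ : X, g x₀ = genericPoint Y :=
    ⟨((inv (g ∣_ V)) ⟨_, hηV⟩).1, by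
      rw [← morphismRestrict_base_coe g V]
      show ((inv (g ∣_ V) ≫ g ∣_ V) ⟨_, hηV⟩).1 = _
      rw [IsIso.inv_hom_id]; rfl⟩
  have hs : g (genericPoint X) ⤳ genericPoint Y := hx₀ ▸ (genericPoint_specializes x₀).map g.continuous
  have hgen : g (genericPoint X) = genericPoint Y := (hs.antisymm (genericPoint_specializes _)).eq
  exact ⟨hgen, fun x hx => hinj _ _ (by rw [hx]; exact hηV) (hx.trans hgen.symm)⟩

/-- The invariants of a sequence of point blow-ups. -/
def Good {Y' Y : Scheme.{u}} (g : Y' ⟶ Y) : Prop :=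
  IsProper g ∧ IsIntegral Y' ∧ IsNoetherian Y' ∧ ∃ V : Y.Opens, (V : Set Y).Nonempty ∧ IsIso (g ∣_ V)

theorem good_step {Y₂ Y₁ Y : Scheme.{u}} [IsIntegral Y] [IsNoetherian Y] (hdim : topologicalKrullDim Y = 1)
    (b : Y₂ ⟶ Y₁) (r : Y₁ ⟶ Y) (z : Y₁) (hz : IsClosed ({z} : Set Y₁))
    (hb : _root_.BlowUp.IsBlowUp b (Scheme.IdealSheafData.vanishingIdeal ⟨{z}, hz⟩)) (hr : Good r) :
    Good (b ≫ r) ∧ Scheme.IdealSheafData.vanishingIdeal ⟨{z}, hz⟩ ≠ ⊥ := by
  obtain ⟨hp, hI, hN, V, hV, hiso⟩ := hr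
  haveI := hp; haveI := hI; haveI := hN; haveI := hiso
  obtain ⟨hgen, huniq⟩ := eq_genericPoint r V hV
  have hrz : r z ≠ genericPoint Y := fun h => (points_dimOne hdim).1 (by
    have := r.isClosedMap _ hz
    rw [Set.image_singleton, h] at this
    exact this)
  have hne : Scheme.IdealSheafData.vanishingIdeal ⟨{z}, hz⟩ ≠ ⊥ := fun h => hrz (by
    have h1 := congrArg (fun I => (I.support : Set Y₁)) h
    simp only [Scheme.IdealSheafData.coe_support_vanishingIdeal, Scheme.IdealSheafData.support_bot] at h1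
    have h2 : genericPoint Y₁ ∈ ({z} : Set Y₁) := h1.ge (Set.mem_univ _)
    rw [← Set.mem_singleton_iff.1 h2, hgen])
  haveI : IsProper b := BlowUpProper.Basic.isProper hb fun U => by
    haveI := IsLocallyNoetherian.component_noetherian (X := Y₁) U
    exact IsNoetherian.noetherian _
  obtain ⟨hI₂, -⟩ := S2348.result _ hne b hb
  haveI : IsLocallyNoetherian Y₂ := LocallyOfFiniteType.isLocallyNoetherian (b ≫ r)
  haveI : CompactSpace Y₂ := QuasiCompact.compactSpace_of_compactSpace (b ≫ r)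
  refine ⟨⟨inferInstance, hI₂, {}, V ⊓ ⟨({r z} : Set Y)ᶜ, ((points_dimOne hdim).2 _ hrz).isOpen_compl⟩, ?_, ?_⟩, hne⟩
  · exact ⟨genericPoint Y, ((genericPoint_spec Y).mem_open_set_iff V.2).2 (by simpa using hV), Ne.symm hrz⟩
  · set V' : Y.Opens := V ⊓ ⟨({r z} : Set Y)ᶜ, ((points_dimOne hdim).2 _ hrz).isOpen_compl⟩
    haveI : IsIso (r ∣_ V') := by
      have he : V.ι ''ᵁ (V.ι ⁻¹ᵁ V') = V' := by
        rw [Scheme.Hom.image_preimage_eq_opensRange_inf, Scheme.Opens.opensRange_ι, inf_eq_right.2 inf_le_left]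
      have h1 : IsIso ((r ∣_ V) ∣_ (V.ι ⁻¹ᵁ V')) := inferInstance
      have h2 := (MorphismProperty.arrow_mk_iso_iff (MorphismProperty.isomorphisms Scheme)
        (morphismRestrictRestrict r V _)).1 h1
      rw [he] at h2
      exact h2
    haveI : IsIso (b ∣_ (r ⁻¹ᵁ V')) := Basic.isIso_restrict hb _ (by
      rw [Scheme.IdealSheafData.coe_support_vanishingIdeal]
      exact Set.disjoint_singleton_right.2 fun h => h.2 rfl)
    rw [morphismRestrict_comp]
    infer_instance

theorem good_of_seq {Y' Y : Scheme.{u}} (g : Y' ⟶ Y) (hg : Resolve.IsPtBlowupSeq g) :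
    ∀ [IsIntegral Y] [IsNoetherian Y], topologicalKrullDim Y = 1 → Good g := by
  induction hg with
  | @iso Y' Y e =>
    intro _ _ _
    haveI : IsLocallyNoetherian Y' := LocallyOfFiniteType.isLocallyNoetherian e.hom
    haveI : CompactSpace Y' := QuasiCompact.compactSpace_of_compactSpace e.hom
    haveI : Nonempty Y' := ⟨e.inv (genericPoint Y)⟩
    exact ⟨inferInstance, isIntegral_of_isOpenImmersion e.hom, {}, ⊤, ⟨genericPoint Y, trivial⟩, inferInstance⟩
  | step b r z hz hb hr ih =>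
    intro _ _ hdim
    exact (good_step hdim b r z hz hb (ih hdim)).1

/-- A nonzero ideal on an integral scheme with principal ideal stalks is effective Cartier. -/
theorem effCartier_of_ne_bot {N : Scheme.{u}} [IsIntegral N] [IsLocallyNoetherian N]
    (hN : ∀ n : N, IsPrincipalIdealRing (N.presheaf.stalk n)) {I : N.IdealSheafData} (hI : I ≠ ⊥) :
    _root_.BlowUp.IsEffCartierIdeal I := S1570.result N I fun x _ U hx => by
  haveI := hN x
  haveI : Nonempty U.1 := ⟨⟨x, hx⟩⟩
  obtain ⟨g, hg⟩ := IsPrincipalIdealRing.principal ((I.ideal U).map (N.presheaf.germ U x hx).hom)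
  refine ⟨g, mem_nonZeroDivisors_of_ne_zero fun h0 => hI (JacPts.CurveDiv.eq_bot_of_ideal_eq_bot (W := U) ?_), hg⟩
  rw [h0, Submodule.span_zero_singleton, Ideal.map_eq_bot_iff_le_ker] at hg
  exact le_bot_iff.1 (hg.trans ((RingHom.injective_iff_ker_eq_bot _).1 (germ_injective_of_isIntegral N x hx)).le)

/-- Sections of a dominated integral scheme inject. -/
theorem appLE_injective {A B : Scheme.{u}} [IsIntegral A] [IsIntegral B] (f : A ⟶ B)
    (hf : f (genericPoint A) = genericPoint B) (U : B.Opens) (W : A.Opens) (e : W ≤ f ⁻¹ᵁ U)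
    [Nonempty W] : Function.Injective (f.appLE U W e) := by
  rw [injective_iff_map_eq_zero]
  intro a ha
  have hξ : genericPoint A ∈ W := by
    obtain ⟨⟨x, hx⟩⟩ := ‹Nonempty W›
    exact (genericPoint_specializes x).mem_open W.2 hx
  have h1 : f.stalkMap (genericPoint A) (B.presheaf.germ U (f (genericPoint A)) (e hξ) a) = 0 := by
    have h2 := congrArg (A.presheaf.germ W _ hξ) ha
    rw [map_zero, Scheme.Hom.appLE, CommRingCat.comp_apply, TopCat.Presheaf.germ_res_apply] at h2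
    rw [Scheme.Hom.germ_stalkMap_apply]
    exact h2
  refine germ_injective_of_isIntegral B _ (e hξ) ?_
  rw [map_zero]
  by_contra hc
  have hF : IsField (B.presheaf.stalk (f (genericPoint A))) := by rw [hf]; exact Field.toIsField B.functionField
  obtain ⟨d, hd⟩ := hF.mul_inv_cancel hc
  have h6 := congrArg (f.stalkMap (genericPoint A)) hd
  rw [map_mul, map_one, h1, zero_mul] at h6
  exact zero_ne_one h6

/-- A blow-up in a closed point with the same sections over an affine neighbourhood forces that point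
to be regular. -/
theorem regular_of_bijective {Y₂ Y₁ : Scheme.{u}} [IsIntegral Y₁] [IsNoetherian Y₁] (b : Y₂ ⟶ Y₁) [IsAffineHom b]
    (z : Y₁) (hz : IsClosed ({z} : Set Y₁))
    (hb : _root_.BlowUp.IsBlowUp b (Scheme.IdealSheafData.vanishingIdeal ⟨{z}, hz⟩))
    (W : Y₁.Opens) (hW : IsAffineOpen W) (hzW : z ∈ W) (hbij : Function.Bijective (b.app W)) :
    IsRegularLocalRing (Y₁.presheaf.stalk z) := by
  haveI : IsAffine (W : Scheme.{u}) := hW
  haveI : IsAffine (b ⁻¹ᵁ W : Scheme.{u}) := hW.preimage b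
  haveI : IsIso (b ∣_ W).appTop := by
    have hcomm : (b ∣_ W).appTop = W.topIso.hom ≫ b.app W ≫ (b ⁻¹ᵁ W).topIso.inv := by
      rw [← cancel_mono (b ⁻¹ᵁ W).topIso.hom, Category.assoc, Category.assoc, Iso.inv_hom_id, Category.comp_id]
      simp [Scheme.Hom.app_eq_appLE]
    haveI : IsIso (b.app W) := (ConcreteCategory.isIso_iff_bijective _).2 hbij
    rw [hcomm]; infer_instance
  haveI : IsIso (b ∣_ W) := by
    have h := Scheme.isoSpec_hom_naturality (b ∣_ W)
    haveI : IsIso ((b ∣_ W) ≫ (W : Scheme.{u}).isoSpec.hom) := by rw [← h]; infer_instance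
    exact IsIso.of_isIso_comp_right (b ∣_ W) (W : Scheme.{u}).isoSpec.hom
  set I := Scheme.IdealSheafData.vanishingIdeal ⟨{z}, hz⟩
  have h1 : _root_.BlowUp.IsEffCartierIdeal (I.comap W.ι) := by
    have h2 := S10855.result (b ⁻¹ᵁ W).ι _ hb.1
    rw [← Scheme.IdealSheafData.comap_comp, ← morphismRestrict_ι, Scheme.IdealSheafData.comap_comp] at h2
    have h3 := S10855.result (inv (b ∣_ W)) _ h2
    rwa [← Scheme.IdealSheafData.comap_comp, IsIso.inv_hom_id, Scheme.IdealSheafData.comap_id] at h3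
  obtain ⟨U, hzU, c, -, hc⟩ := h1 ⟨z, hzW⟩
  have h4 : IntMult.stalkIdeal (I.comap W.ι) ⟨z, hzW⟩ =
      Ideal.span {(W : Scheme.{u}).presheaf.germ U.1 _ hzU c} := by
    rw [IdealSh.stalkIdeal_eq _ U hzU, hc, Ideal.map_span, Set.image_singleton]
  rw [BlowSep.stalkIdeal_comap] at h4
  have h5 : IntMult.stalkIdeal I (W.ι ⟨z, hzW⟩) = IsLocalRing.maximalIdeal (Y₁.presheaf.stalk z) :=
    BlowH1.stalkIdeal_point z hz
  rw [h5] at h4
  let σ := (asIso (W.ι.stalkMap ⟨z, hzW⟩)).commRingCatIsoToRingEquiv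
  haveI : (IsLocalRing.maximalIdeal (Y₁.presheaf.stalk z)).IsPrincipal := by
    refine ⟨σ.symm ((W : Scheme.{u}).presheaf.germ U.1 _ hzU c), ?_⟩
    have h6 := congrArg (Ideal.map σ.symm.toRingHom) h4
    rw [Ideal.map_map, Ideal.map_span, Set.image_singleton] at h6
    have hid : σ.symm.toRingHom.comp (W.ι.stalkMap ⟨z, hzW⟩).hom = RingHom.id _ :=
      RingHom.ext fun x => σ.symm_apply_apply x
    rw [hid, Ideal.map_id] at h6
    exact h6
  haveI : IsPrincipalIdealRing (Y₁.presheaf.stalk z) := by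
    by_cases hm : IsLocalRing.maximalIdeal (Y₁.presheaf.stalk z) = ⊥
    · have hF : IsField (Y₁.presheaf.stalk z) := IsLocalRing.isField_iff_maximalIdeal_eq.2 hm
      letI := hF.toField
      infer_instance
    · haveI : IsDiscreteValuationRing (Y₁.presheaf.stalk z) :=
        ((IsDiscreteValuationRing.TFAE (Y₁.presheaf.stalk z)
          (fun hF => hm (IsLocalRing.isField_iff_maximalIdeal_eq.1 hF))).out 0 4 rfl rfl).2 inferInstance
      infer_instance
  infer_instance

open scoped Classical in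
/-- From a finite birational morphism of a scheme with principal ideal stalks, point blow-ups reach a
regular scheme. -/
theorem exists_seq {N Y : Scheme.{u}} [IsIntegral Y] [IsNoetherian Y] (hdim : topologicalKrullDim Y = 1)
    [IsIntegral N] (ν : N ⟶ Y) [IsFinite ν] (V₀ : Y.Opens) (hV₀ : (V₀ : Set Y).Nonempty) [IsIso (ν ∣_ V₀)]
    (hN : ∀ n : N, IsPrincipalIdealRing (N.presheaf.stalk n)) :
    ∃ (Y' : Scheme.{u}) (g : Y' ⟶ Y), Resolve.IsPtBlowupSeq g ∧ ∀ y : Y', IsRegularLocalRing (Y'.presheaf.stalk y) := by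
  haveI : IsLocallyNoetherian N := LocallyOfFiniteType.isLocallyNoetherian ν
  haveI : CompactSpace N := QuasiCompact.compactSpace_of_compactSpace ν
  obtain ⟨s, hs, hcov⟩ := (isCompact_and_isOpen_iff_finite_and_eq_biUnion_affineOpens (U := (Set.univ : Set Y))).1 ⟨isCompact_univ, isOpen_univ⟩
  haveI := hs.to_subtype
  let A : s → Type u := fun U => Γ(Y, U.1.1)
  let M : s → Type u := fun U => Γ(N, ν ⁻¹ᵁ U.1.1)
  letI : ∀ U : s, CommRing (A U) := fun U => inferInstanceAs (CommRing Γ(Y, U.1.1))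
  letI : ∀ U : s, CommRing (M U) := fun U => inferInstanceAs (CommRing Γ(N, ν ⁻¹ᵁ U.1.1))
  letI : ∀ U : s, Algebra (A U) (M U) := fun U => (ν.app U.1.1).hom.toAlgebra
  haveI : ∀ U : s, IsNoetherian (A U) (M U) := fun U => by
    haveI : IsNoetherianRing (A U) := IsLocallyNoetherian.component_noetherian U.1
    haveI : Module.Finite (A U) (M U) := IsFinite.finite_app ν U.1.1 U.1.2
    infer_instance
  suffices H : ∀ (S : ∀ U : s, Submodule (A U) (M U)) (Y₁ : Scheme.{u}) (r : Y₁ ⟶ Y) (μ : N ⟶ Y₁) (hμ : μ ≫ r = ν),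
      Resolve.IsPtBlowupSeq r → (∀ U : s, (S U : Set (M U)) = Set.range (μ.appLE (r ⁻¹ᵁ U.1.1) (ν ⁻¹ᵁ U.1.1)
        (le_of_eq (by rw [← hμ]; rfl)))) →
      ∃ (Y' : Scheme.{u}) (g : Y' ⟶ Y), Resolve.IsPtBlowupSeq g ∧ ∀ y : Y', IsRegularLocalRing (Y'.presheaf.stalk y) by
    refine H (fun U => LinearMap.range (Algebra.linearMap (A U) (M U))) Y (𝟙 Y) ν (Category.comp_id _)
      (Resolve.IsPtBlowupSeq.iso (Iso.refl Y)) fun U => ?_
    ext m
    simp only [LinearMap.coe_range, Set.mem_range]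
    show (∃ a, ν.app U.1.1 a = m) ↔ ∃ a, ν.appLE U.1.1 (ν ⁻¹ᵁ U.1.1) le_rfl a = m
    rw [Scheme.Hom.app_eq_appLE]
  intro S
  haveI : WellFoundedGT (∀ U : s, Submodule (A U) (M U)) :=
    ⟨(Subrelation.wf (r := InvImage (· < ·)
        (fun (S : ∀ U : s, Submodule (A U) (M U)) (U : s) => OrderDual.toDual (S U))) (fun {a b} h => h)
      (InvImage.wf _ (Pi.wellFoundedLT (α := fun U : s => (Submodule (A U) (M U))ᵒᵈ)).wf))⟩
  induction S using (wellFounded_gt (α := ∀ U : s, Submodule (A U) (M U))).induction with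
  | _ S ih =>
  intro Y₁ r μ hμ hr hS
  by_cases hreg : ∀ y : Y₁, IsRegularLocalRing (Y₁.presheaf.stalk y)
  · exact ⟨Y₁, r, hr, hreg⟩
  push Not at hreg
  obtain ⟨z, hzreg⟩ := hreg
  obtain ⟨hp, hI, hNoe, V, hV, hiso⟩ := good_of_seq r hr hdim
  haveI := hp; haveI := hI; haveI := hNoe; haveI := hiso
  obtain ⟨hgenν, huniqν⟩ := eq_genericPoint ν V₀ hV₀
  obtain ⟨hgenr, huniqr⟩ := eq_genericPoint r V hV
  haveI : IsFinite (μ ≫ r) := hμ ▸ inferInstance
  haveI : IsFinite μ := IsFinite.of_comp μ r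
  have hμgen : μ (genericPoint N) = genericPoint Y₁ := huniqr _ (by
    rw [← Scheme.Hom.comp_apply, hμ, hgenν])
  have hμsurj : Function.Surjective μ := fun y => by
    have hc := μ.isClosedMap _ isClosed_univ
    rw [Set.image_univ] at hc
    exact (genericPoint_specializes y).mem_closed hc ⟨_, hμgen⟩
  haveI : LocallyQuasiFinite r := LocallyQuasiFinite.of_finite_preimage_singleton r fun y =>
    ((ν.finite_preimage_singleton y).image μ).subset fun w hw => by
      obtain ⟨n, rfl⟩ := hμsurj w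
      exact ⟨n, by show ν n = y; rw [← hμ]; exact hw, rfl⟩
  haveI : IsFinite r := IsFinite.of_isProper_of_locallyQuasiFinite r
  have hzgen : z ≠ genericPoint Y₁ := fun h => hzreg (by
    rw [h]
    show IsRegularLocalRing Y₁.functionField
    infer_instance)
  have hzc : IsClosed ({z} : Set Y₁) := by
    have hy : r z ≠ genericPoint Y := fun h => hzgen (huniqr z h)
    have hc : IsClosed (r ⁻¹' {r z}) := ((points_dimOne hdim).2 _ hy).preimage r.continuous
    refine closure_subset_iff_isClosed.1 fun w hw => ?_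
    have hw' : w ∈ r ⁻¹' {r z} :=
      closure_minimal (Set.singleton_subset_iff.2 (show z ∈ r ⁻¹' {r z} from rfl)) hc hw
    by_contra hne
    have hd := (r.isDiscrete_preimage_singleton (r z))
    exact hne (Set.mem_singleton_iff.2 (hd.eq_of_specializes (specializes_iff_mem_closure.2 hw) rfl hw').symm)
  set I := Scheme.IdealSheafData.vanishingIdeal ⟨{z}, hzc⟩ with hIdef
  obtain ⟨Y₂, b, hb⟩ := S8859.result Y₁ I
  obtain ⟨hgood, -⟩ := good_step hdim b r z hzc hb ⟨hp, hI, hNoe, V, hV, hiso⟩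
  obtain ⟨hp₂, hI₂, hN₂, V₂, hV₂, hiso₂⟩ := hgood
  haveI := hp₂; haveI := hI₂; haveI := hN₂; haveI := hiso₂
  obtain ⟨hgen₂, huniq₂⟩ := eq_genericPoint (b ≫ r) V₂ hV₂
  have hcomap : I.comap μ ≠ ⊥ := fun h => hzgen (by
    have h1 := congrArg (fun J => genericPoint N ∈ J.support) h
    simp only [Scheme.IdealSheafData.support_bot, eq_iff_iff] at h1
    have h2 : genericPoint N ∈ (I.comap μ).support := h1.2 trivial
    rw [Scheme.IdealSheafData.support_comap] at h2
    have h3 : μ (genericPoint N) ∈ ({z} : Set Y₁) :=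
      (Scheme.IdealSheafData.coe_support_vanishingIdeal _).le h2
    rw [← Set.mem_singleton_iff.1 h3, hμgen])
  obtain ⟨h, hh, -⟩ := hb.2 N μ (effCartier_of_ne_bot hN hcomap)
  have hνh : h ≫ b ≫ r = ν := by rw [← Category.assoc, hh, hμ]
  haveI : IsFinite (h ≫ b ≫ r) := hνh ▸ inferInstance
  haveI : IsFinite h := IsFinite.of_comp h (b ≫ r)
  have hhgen : h (genericPoint N) = genericPoint Y₂ := huniq₂ _ (by
    rw [← Scheme.Hom.comp_apply, hνh, hgenν])
  have hhsurj : Function.Surjective h := fun y => by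
    have hc := h.isClosedMap _ isClosed_univ
    rw [Set.image_univ] at hc
    exact (genericPoint_specializes y).mem_closed hc ⟨_, hhgen⟩
  haveI : LocallyQuasiFinite (b ≫ r) := LocallyQuasiFinite.of_finite_preimage_singleton _ fun y =>
    ((ν.finite_preimage_singleton y).image h).subset fun w hw => by
      obtain ⟨n, rfl⟩ := hhsurj w
      exact ⟨n, by show ν n = y; rw [← hνh]; exact hw, rfl⟩
  haveI : IsFinite (b ≫ r) := IsFinite.of_isProper_of_locallyQuasiFinite _
  haveI : IsFinite b := IsFinite.of_comp b r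
  let φ₁ : ∀ U : s, Γ(Y₁, r ⁻¹ᵁ U.1.1) ⟶ Γ(N, ν ⁻¹ᵁ U.1.1) := fun U =>
    μ.appLE (r ⁻¹ᵁ U.1.1) (ν ⁻¹ᵁ U.1.1) (le_of_eq (by rw [← hμ]; rfl))
  let φ₂ : ∀ U : s, Γ(Y₂, (b ≫ r) ⁻¹ᵁ U.1.1) ⟶ Γ(N, ν ⁻¹ᵁ U.1.1) := fun U =>
    h.appLE ((b ≫ r) ⁻¹ᵁ U.1.1) (ν ⁻¹ᵁ U.1.1) (le_of_eq (by rw [← hνh]; rfl))
  have hstr : ∀ (U : s) (a : A U), ν.app U.1.1 a = φ₂ U ((b ≫ r).app U.1.1 a) := fun U a => by
    subst hνh
    rw [← CommRingCat.comp_apply]
    simp only [φ₂, Scheme.Hom.app_eq_appLE, Scheme.Hom.appLE_comp_appLE]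
  let S₂ : ∀ U : s, Submodule (A U) (M U) := fun U =>
    { carrier := Set.range (φ₂ U)
      zero_mem' := ⟨0, map_zero _⟩
      add_mem' := by rintro _ _ ⟨x, rfl⟩ ⟨y, rfl⟩; exact ⟨x + y, map_add _ _ _⟩
      smul_mem' := by
        rintro a _ ⟨x, rfl⟩
        exact ⟨(b ≫ r).app U.1.1 a * x, by rw [map_mul, ← hstr]; rfl⟩ }
  have hfac : ∀ (U : s) (x : Γ(Y₁, r ⁻¹ᵁ U.1.1)), φ₁ U x = φ₂ U (b.app (r ⁻¹ᵁ U.1.1) x) := fun U x => by
    subst hh
    show (h ≫ b).appLE _ _ _ x = h.appLE _ _ _ (b.app _ x)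
    rw [← CommRingCat.comp_apply]
    simp only [Scheme.Hom.app_eq_appLE, Scheme.Hom.appLE_comp_appLE]
  have hle : S ≤ S₂ := fun U m hm => by
    rw [← SetLike.mem_coe, hS U] at hm
    obtain ⟨x, rfl⟩ := hm
    exact ⟨b.app (r ⁻¹ᵁ U.1.1) x, (hfac U x).symm⟩
  refine ih S₂ (lt_of_le_of_ne hle fun heq => ?_) Y₂ (b ≫ r) h hνh
    (Resolve.IsPtBlowupSeq.step b r z hzc hb hr) fun U => rfl
  obtain ⟨U, hUs, hU⟩ : ∃ U, ∃ hUs : U ∈ s, r z ∈ (U : Y.affineOpens).1 := by
    have := hcov.le (Set.mem_univ (r z))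
    simpa using this
  let U' : s := ⟨U, hUs⟩
  haveI hne : Nonempty ↥(ν ⁻¹ᵁ U.1).toScheme := by
    refine ⟨⟨genericPoint N, show ν (genericPoint N) ∈ U.1 from ?_⟩⟩
    rw [hgenν]; exact (genericPoint_specializes _).mem_open U.1.2 hU
  refine hzreg (regular_of_bijective b z hzc hb (r ⁻¹ᵁ U.1) (U.2.preimage r) hU ⟨?_, ?_⟩)
  · intro x y hxy
    exact appLE_injective μ hμgen (r ⁻¹ᵁ U.1) (ν ⁻¹ᵁ U.1) (le_of_eq (by rw [← hμ]; rfl)) (by
      show φ₁ U' x = φ₁ U' y
      rw [hfac, hfac, hxy])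
  · intro w
    have hm : φ₂ U' w ∈ S U' := by rw [heq]; exact ⟨w, rfl⟩
    rw [← SetLike.mem_coe, hS U'] at hm
    obtain ⟨x, hx⟩ := hm
    exact ⟨x, appLE_injective h hhgen ((b ≫ r) ⁻¹ᵁ U.1) (ν ⁻¹ᵁ U.1) (le_of_eq (by rw [← hνh]; rfl))
      ((hfac U' x).symm.trans hx)⟩

/-- Let Y be an integral Noetherian scheme of dimension one. Then Y has a resolution of singularities (a
proper morphism X → Y from an integral scheme with regular local rings which is an isomorphism over
a nonempty open of Y) if and only if there is a finite sequence of blowings up in closed points Y_n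
→ Y_{n-1} → … → Y_1 → Y with Y_n regular (all local rings regular). -/
theorem result (Y : Scheme.{u}) [IsIntegral Y] [IsNoetherian Y]
    (hdim : topologicalKrullDim Y = 1) :
    (∃ (X : Scheme.{u}) (g : X ⟶ Y), IsProper g ∧ IsIntegral X ∧
        (∃ V : Y.Opens, (V : Set Y).Nonempty ∧ IsIso (g ∣_ V)) ∧ ∀ x : X, IsRegularLocalRing (X.presheaf.stalk x)) ↔
      ∃ (Y' : Scheme.{u}) (g : Y' ⟶ Y), Resolve.IsPtBlowupSeq g ∧ ∀ y : Y', IsRegularLocalRing (Y'.presheaf.stalk y) := by
  haveI : QuasiCompact (Y.fromSpecStalk (genericPoint Y)) := inferInstance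
  haveI : QuasiSeparated (Y.fromSpecStalk (genericPoint Y)) := inferInstance
  constructor
  · intro hres
    haveI := (S7321.result Y hdim).2.1 hres
    haveI := Curv2Norm.isIntegral Y
    obtain ⟨V₀, hV₀, hiso⟩ := S7321.exists_isIso_restrict Y inferInstance
    haveI := hiso
    refine exists_seq hdim (Curv2.normalizationι Y) V₀ hV₀ fun n => ?_
    obtain ⟨V, hV, hnV, -⟩ := exists_isAffineOpen_mem_and_subset (x := n) (U := ⊤) trivial
    haveI : Nonempty V := ⟨⟨n, hnV⟩⟩
    haveI := Curv2Norm.isDedekindDomain_sections Y hdim hV ⟨n, hnV⟩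
    letI := TopCat.Presheaf.algebra_section_stalk (Curv2.normalization Y).presheaf (⟨n, hnV⟩ : (V : (Curv2.normalization Y).Opens))
    haveI := hV.isLocalization_stalk ⟨n, hnV⟩
    haveI : IsDedekindDomain ((Curv2.normalization Y).presheaf.stalk n) :=
      IsLocalization.isDedekindDomain Γ(Curv2.normalization Y, V)
        (M := (hV.primeIdealOf ⟨n, hnV⟩).asIdeal.primeCompl) (Ideal.primeCompl_le_nonZeroDivisors _) _
    refine IsPrincipalIdealRing.of_finite_maximals ?_
    exact (Set.finite_singleton (IsLocalRing.maximalIdeal _)).subset fun J hJ => IsLocalRing.eq_maximalIdeal hJ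
  · rintro ⟨Y', g, hg, hreg⟩
    obtain ⟨hp, hI, -, V, hV, hiso⟩ := good_of_seq g hg hdim
    exact ⟨Y', g, hp, hI, ⟨V, hV, hiso⟩, hreg⟩

end Groth.Agent.S7372
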