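import Groth.Statements.S7373
import Groth.Agent.S7372
import Groth.Agent.S10920
-- import your own Groth.Agent.* helpers here

set_option linter.style.haveILetI false
set_option backward.isDefEq.respectTransparency false
set_option backward.isDefEq.respectTransparency.types false
set_option autoImplicit false
universe u
open CategoryTheory CategoryTheory.Limits AlgebraicGeometry
open Resolve
open TopologicalSpace Groth.Agent.BlowUp

namespace Groth.Agent.S7373

/-- Along a closed immersion an ideal is recovered from its direct image. -/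
theorem comap_map_closedImmersion {X Y : Scheme.{u}} (j : Y ⟶ X) [IsClosedImmersion j] (J : Y.IdealSheafData) :
    (J.map j).comap j = J := by
  refine Scheme.IdealSheafData.ext_of_iSup_eq_top (ι := X.affineOpens) (fun U => ⟨j ⁻¹ᵁ U.1, U.2.preimage j⟩) ?_ fun U => ?_
  · refine top_unique fun y _ => Opens.mem_iSup.2 ?_
    obtain ⟨U, hU, hyU, -⟩ := exists_isAffineOpen_mem_and_subset (x := j y) (U := ⊤) trivial
    exact ⟨⟨U, hU⟩, hyU⟩
  · rw [IdealSh.Comap.ideal_comap (J.map j) j U ⟨j ⁻¹ᵁ U.1, U.2.preimage j⟩ le_rfl,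
      Scheme.IdealSheafData.ideal_map_of_isAffineHom]
    show Ideal.map (j.appLE U.1 (j ⁻¹ᵁ U.1) le_rfl).hom _ = _
    rw [← Scheme.Hom.app_eq_appLE]
    exact Ideal.map_comap_of_surjective _ (j.app_surjective U.1 U.2) _

/-- A sequence of point blow-ups of a closed subscheme extends to one of the ambient scheme. -/
theorem exists_extension {Y' Y : Scheme.{u}} (g : Y' ⟶ Y) (hg : Resolve.IsPtBlowupSeq g) :
    ∀ {X : Scheme.{u}} [IsNoetherian X] (j : Y ⟶ X) [IsClosedImmersion j],
      ∃ (X' : Scheme.{u}) (G : X' ⟶ X) (j' : Y' ⟶ X'), IsNoetherian X' ∧ Resolve.IsPtBlowupSeq G ∧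
        IsClosedImmersion j' ∧ j' ≫ G = g ≫ j := by
  induction hg with
  | iso e =>
    intro X _ j _
    exact ⟨X, 𝟙 X, e.hom ≫ j, inferInstance, Resolve.IsPtBlowupSeq.iso (Iso.refl X), inferInstance, Category.comp_id _⟩
  | @step Y₂ Y₁ Y b r z hz hb hr ih =>
    intro X _ j _
    obtain ⟨X₁, G, j₁, hX₁, hG, hj₁, hcomm⟩ := ih j
    haveI := hX₁
    haveI := hj₁
    have hjz : IsClosed ({j₁ z} : Set X₁) := by
      have := j₁.isClosedMap _ hz
      rwa [Set.image_singleton] at this
    have hcom : (Scheme.IdealSheafData.vanishingIdeal ⟨{j₁ z}, hjz⟩).comap j₁ =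
        Scheme.IdealSheafData.vanishingIdeal ⟨{z}, hz⟩ := by
      have h1 : (Scheme.IdealSheafData.vanishingIdeal ⟨{z}, hz⟩).map j₁ =
          Scheme.IdealSheafData.vanishingIdeal ⟨{j₁ z}, hjz⟩ := by
        rw [Scheme.IdealSheafData.map_vanishingIdeal]
        congr 1
        refine SetLike.coe_injective ?_
        show closure (j₁ '' ({z} : Set Y₁)) = {j₁ z}
        rw [Set.image_singleton, hjz.closure_eq]
      rw [← h1, comap_map_closedImmersion]
    obtain ⟨X₂, B, hB⟩ := S8859.result X₁ (Scheme.IdealSheafData.vanishingIdeal ⟨{j₁ z}, hjz⟩)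
    obtain ⟨k, hk, -⟩ := hB.2 Y₂ (b ≫ j₁) (by rw [Scheme.IdealSheafData.comap_comp, hcom]; exact hb.1)
    haveI : IsClosedImmersion k := S10920.result _ j₁ B hB b (hcom.symm ▸ hb) k hk
    haveI : IsProper B := BlowUpProper.Basic.isProper hB fun U => by
      haveI := IsLocallyNoetherian.component_noetherian (X := X₁) U
      exact IsNoetherian.noetherian _
    haveI : IsLocallyNoetherian X₂ := LocallyOfFiniteType.isLocallyNoetherian B
    haveI : CompactSpace X₂ := QuasiCompact.compactSpace_of_compactSpace B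
    exact ⟨X₂, B ≫ G, k, {}, Resolve.IsPtBlowupSeq.step B G (j₁ z) hjz hB hG, inferInstance,
      by rw [← Category.assoc, hk, Category.assoc, hcomm, Category.assoc]⟩


/-- Let X be a Noetherian scheme and Y ⊂ X an integral closed subscheme of dimension one (given by its
ideal sheaf I) whose normalization morphism is finite. Then there is a finite sequence of blowings
up in closed points g : X' → X such that the strict transform Y' of Y in X' is a regular curve: an
integral closed subscheme Y' ⊂ X' (ideal I') mapped by g into Y, isomorphically over a nonempty open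
of Y, all of whose local rings are regular. (The quasi-compactness and quasi-separatedness binders
on Spec K(Y) → Y always hold.) -/
theorem result (X : Scheme.{u}) [IsNoetherian X] (I : X.IdealSheafData)
    [IsIntegral I.subscheme] (hdim : topologicalKrullDim ↥I.subscheme = 1)
    [QuasiCompact (I.subscheme.fromSpecStalk (genericPoint ↥I.subscheme))]
    [QuasiSeparated (I.subscheme.fromSpecStalk (genericPoint ↥I.subscheme))]
    (hfin : IsFinite (Curv2.normalizationι I.subscheme)) :
    ∃ (X' : Scheme.{u}) (g : X' ⟶ X), Resolve.IsPtBlowupSeq g ∧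
      ∃ (I' : X'.IdealSheafData) (g' : I'.subscheme ⟶ I.subscheme), IsIntegral I'.subscheme ∧
        g' ≫ I.subschemeι = I'.subschemeι ≫ g ∧
        (∃ V : I.subscheme.Opens, (V : Set ↥I.subscheme).Nonempty ∧ IsIso (g' ∣_ V)) ∧
        ∀ y : ↥I'.subscheme, IsRegularLocalRing (I'.subscheme.presheaf.stalk y) := by
  haveI : IsLocallyNoetherian I.subscheme := LocallyOfFiniteType.isLocallyNoetherian I.subschemeι
  haveI : CompactSpace I.subscheme := QuasiCompact.compactSpace_of_compactSpace I.subschemeι
  haveI : IsNoetherian I.subscheme := {}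
  obtain ⟨Y', g₀, hg₀, hreg⟩ := (S7372.result I.subscheme hdim).1 ((S7321.result I.subscheme hdim).2.2 hfin)
  obtain ⟨hp, hint, -, V, hV, hiso⟩ := S7372.good_of_seq g₀ hg₀ hdim
  obtain ⟨X', G, j, -, hG, hj, hcomm⟩ := exists_extension g₀ hg₀ I.subschemeι
  haveI := hj; haveI := hint; haveI := hiso
  let e : Y' ≅ j.ker.subscheme := asIso j.toImage
  haveI : Nonempty j.ker.subscheme := ⟨e.hom (genericPoint Y')⟩
  refine ⟨X', G, hG, j.ker, e.inv ≫ g₀, isIntegral_of_isOpenImmersion e.inv, ?_, ⟨V, hV, ?_⟩, fun y => ?_⟩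
  · rw [Category.assoc, ← hcomm, ← Category.assoc]
    congr 1
    rw [Iso.inv_comp_eq]
    exact j.toImage_imageι.symm
  · rw [morphismRestrict_comp]
    infer_instance
  · haveI := hreg (e.inv y)
    exact IsRegularLocalRing.of_ringEquiv (asIso (e.inv.stalkMap y)).commRingCatIsoToRingEquiv

end Groth.Agent.S7373
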