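import Groth.Statements.S7374
import Groth.Agent.S7373
import Groth.Agent.RedSub.Basic
import Groth.Agent.RegLoc.Basic
-- import your own Groth.Agent.* helpers here

set_option linter.style.haveILetI false
set_option backward.isDefEq.respectTransparency false
set_option backward.isDefEq.respectTransparency.types false
set_option autoImplicit false
universe u
open CategoryTheory CategoryTheory.Limits AlgebraicGeometry
open Resolve
open TopologicalSpace Groth.Agent.BlowUp

namespace Groth.Agent.S7374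

/-- A reduced Noetherian local ring with principal maximal ideal is regular. -/
theorem regular_of_principal {R : Type u} [CommRing R] [IsLocalRing R] [IsNoetherianRing R] [_root_.IsReduced R]
    (g : R) (hg : IsLocalRing.maximalIdeal R = Ideal.span {g}) : IsRegularLocalRing R := by
  classical
  by_cases hg0 : g = 0
  · have hm : IsLocalRing.maximalIdeal R = ⊥ := by rw [hg, hg0, Ideal.span_singleton_eq_bot]
    letI := (IsLocalRing.isField_iff_maximalIdeal_eq.2 hm).toField
    infer_instance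
  have hdec : ∀ a : R, a ≠ 0 → ∃ (n : ℕ) (u : R), IsUnit u ∧ a = u * g ^ n := fun a ha => by
    have hex : ∃ n, a ∉ IsLocalRing.maximalIdeal R ^ n := by
      by_contra h
      push Not at h
      refine ha ((Submodule.mem_bot R).1 ?_)
      rw [← Ideal.iInf_pow_eq_bot_of_isLocalRing (IsLocalRing.maximalIdeal R) (IsLocalRing.maximalIdeal.isMaximal R).ne_top]
      exact (Submodule.mem_iInf _).2 h
    have h1 := Nat.find_spec hex
    have hpos : Nat.find hex ≠ 0 := fun h0 => by
      rw [h0, pow_zero, Ideal.one_eq_top] at h1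
      exact h1 Submodule.mem_top
    obtain ⟨n, hn⟩ := Nat.exists_eq_succ_of_ne_zero hpos
    have h2 : a ∈ IsLocalRing.maximalIdeal R ^ n :=
      not_not.1 (Nat.find_min hex (by omega))
    rw [hg, Ideal.span_singleton_pow, Ideal.mem_span_singleton'] at h2
    obtain ⟨c, hc⟩ := h2
    refine ⟨n, c, ?_, hc.symm⟩
    by_contra hu
    have hcm : c ∈ IsLocalRing.maximalIdeal R := (IsLocalRing.mem_maximalIdeal c).2 hu
    refine h1 ?_
    rw [hn, pow_succ', ← hc]
    refine Ideal.mul_mem_mul hcm ?_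
    rw [hg, Ideal.span_singleton_pow]
    exact Ideal.mem_span_singleton_self _
  haveI : NoZeroDivisors R := ⟨fun {a b} hab => by
    by_contra hne
    push Not at hne
    obtain ⟨n, v, hv, rfl⟩ := hdec a hne.1
    obtain ⟨m, w, hw, rfl⟩ := hdec b hne.2
    have : (v * w) * g ^ (n + m) = 0 := by rw [← hab]; ring
    exact hg0 (eq_zero_of_pow_eq_zero ((hv.mul hw).mul_right_eq_zero.1 this))⟩
  haveI : IsDomain R := NoZeroDivisors.to_isDomain R
  haveI : (IsLocalRing.maximalIdeal R).IsPrincipal := ⟨g, hg⟩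
  haveI : IsDiscreteValuationRing R :=
    ((IsDiscreteValuationRing.TFAE R (fun hF => hg0 (Ideal.span_singleton_eq_bot.1
      (hg.symm.trans (IsLocalRing.isField_iff_maximalIdeal_eq.1 hF))))).out 0 4 rfl rfl).2 inferInstance
  infer_instance

/-- A point without proper generizations of a reduced scheme has a regular stalk. -/
theorem regular_of_maximal {Z : Scheme.{u}} [IsReduced Z] (z : Z) (h : ∀ w : Z, w ⤳ z → w = z) :
    IsRegularLocalRing (Z.presheaf.stalk z) := by
  haveI : Subsingleton (Spec (Z.presheaf.stalk z)) := ⟨fun p q => by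
    refine (Z.fromSpecStalk z).isEmbedding.injective ?_
    have hp : Z.fromSpecStalk z p ⤳ z := Scheme.range_fromSpecStalk.le ⟨p, rfl⟩
    have hq : Z.fromSpecStalk z q ⤳ z := Scheme.range_fromSpecStalk.le ⟨q, rfl⟩
    rw [h _ hp, h _ hq]⟩
  haveI : Ring.KrullDimLE 0 (Z.presheaf.stalk z) := by
    rw [Ring.krullDimLE_iff]
    haveI : Subsingleton (PrimeSpectrum (Z.presheaf.stalk z)) := ‹Subsingleton (Spec (Z.presheaf.stalk z))›
    exact Order.krullDim_nonpos_of_subsingleton (α := PrimeSpectrum (Z.presheaf.stalk z))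
  letI := (Ring.KrullDimLE.isField_of_isReduced (R := Z.presheaf.stalk z)).toField
  infer_instance

/-- An integral closed subscheme is the reduced one on its support. -/
theorem eq_vanishingIdeal {X : Scheme.{u}} (I : X.IdealSheafData) [IsReduced I.subscheme] :
    I = Scheme.IdealSheafData.vanishingIdeal I.support := by
  conv_lhs => rw [← I.ker_subschemeι]
  exact RedSub.ker_eq_vanishingIdeal I.subschemeι I.support I.range_subschemeι

/-- The stalks of a one-dimensional normalization are principal ideal rings. -/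
theorem pid_normalization (Y : Scheme.{u}) [IsIntegral Y] [IsNoetherian Y] (hdim : topologicalKrullDim Y = 1)
    [QuasiCompact (Y.fromSpecStalk (genericPoint Y))] [QuasiSeparated (Y.fromSpecStalk (genericPoint Y))]
    (n : ↥(Curv2.normalization Y)) : IsPrincipalIdealRing ((Curv2.normalization Y).presheaf.stalk n) := by
  haveI := Curv2Norm.isIntegral Y
  obtain ⟨V, hV, hnV, -⟩ := exists_isAffineOpen_mem_and_subset (x := n) (U := ⊤) trivial
  haveI : Nonempty V := ⟨⟨n, hnV⟩⟩
  haveI := Curv2Norm.isDedekindDomain_sections Y hdim hV ⟨n, hnV⟩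
  letI := TopCat.Presheaf.algebra_section_stalk (Curv2.normalization Y).presheaf (⟨n, hnV⟩ : (V : (Curv2.normalization Y).Opens))
  haveI := hV.isLocalization_stalk ⟨n, hnV⟩
  haveI : IsDedekindDomain ((Curv2.normalization Y).presheaf.stalk n) :=
    IsLocalization.isDedekindDomain Γ(Curv2.normalization Y, V)
      (M := (hV.primeIdealOf ⟨n, hnV⟩).asIdeal.primeCompl) (Ideal.primeCompl_le_nonZeroDivisors _) _
  refine IsPrincipalIdealRing.of_finite_maximals ?_
  exact (Set.finite_singleton (IsLocalRing.maximalIdeal _)).subset fun J hJ => IsLocalRing.eq_maximalIdeal hJ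

section

variable {X : Scheme.{u}} {n : ℕ} {N : Fin n → Scheme.{u}}

/-- The union of the images of finitely many closed maps. -/
def unionRange {X₁ : Scheme.{u}} (μ : ∀ i, N i ⟶ X₁) [∀ i, IsFinite (μ i)] : Closeds X₁ :=
  ⟨⋃ i, Set.range (μ i), isClosed_iUnion_of_finite fun i => (μ i).isClosedMap.isClosed_range⟩

/-- A finite morphism with surjective section maps is recovered on affines. -/
theorem principal_of_bijective {Y₂ Y₁ : Scheme.{u}} (β : Y₂ ⟶ Y₁) [IsAffineHom β] (z : Y₁) (hz : IsClosed ({z} : Set Y₁))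
    (hloc : Curv2.IsLocPrincipal ((Scheme.IdealSheafData.vanishingIdeal ⟨{z}, hz⟩).comap β))
    (W : Y₁.Opens) (hW : IsAffineOpen W) (hzW : z ∈ W) (hbij : Function.Bijective (β.app W)) :
    ∃ g : Y₁.presheaf.stalk z, IsLocalRing.maximalIdeal (Y₁.presheaf.stalk z) = Ideal.span {g} := by
  haveI : IsAffine (W : Scheme.{u}) := hW
  haveI : IsAffine (β ⁻¹ᵁ W : Scheme.{u}) := hW.preimage β
  haveI : IsIso (β ∣_ W).appTop := by
    have hcomm : (β ∣_ W).appTop = W.topIso.hom ≫ β.app W ≫ (β ⁻¹ᵁ W).topIso.inv := by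
      rw [← cancel_mono (β ⁻¹ᵁ W).topIso.hom, Category.assoc, Category.assoc, Iso.inv_hom_id, Category.comp_id]
      simp [Scheme.Hom.app_eq_appLE]
    haveI : IsIso (β.app W) := (ConcreteCategory.isIso_iff_bijective _).2 hbij
    rw [hcomm]; infer_instance
  haveI : IsIso (β ∣_ W) := by
    have h := Scheme.isoSpec_hom_naturality (β ∣_ W)
    haveI : IsIso ((β ∣_ W) ≫ (W : Scheme.{u}).isoSpec.hom) := by rw [← h]; infer_instance
    exact IsIso.of_isIso_comp_right (β ∣_ W) (W : Scheme.{u}).isoSpec.hom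
  obtain ⟨⟨w, hw⟩, hwz⟩ : ∃ w, (β ∣_ W) w = ⟨z, hzW⟩ := (β ∣_ W).homeomorph.surjective _
  have hwz' : β w = z := by rw [← morphismRestrict_base_coe β W ⟨w, hw⟩, hwz]
  haveI : IsIso (β.stalkMap w) := by
    haveI : IsIso ((β ∣_ W).stalkMap ⟨w, hw⟩) := inferInstance
    exact (MorphismProperty.arrow_mk_iso_iff (MorphismProperty.isomorphisms CommRingCat)
      (morphismRestrictStalkMap β W ⟨w, hw⟩)).1 this
  set I := Scheme.IdealSheafData.vanishingIdeal ⟨{z}, hz⟩
  have hwI : w ∈ (I.comap β).support := by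
    rw [Scheme.IdealSheafData.support_comap]
    show β w ∈ I.support
    rw [← SetLike.mem_coe, Scheme.IdealSheafData.coe_support_vanishingIdeal, hwz']
    rfl
  obtain ⟨U, hwU, c, hc⟩ := hloc w hwI
  have h4 : IntMult.stalkIdeal (I.comap β) w = Ideal.span {Y₂.presheaf.germ U.1 _ hwU c} := by
    rw [IdealSh.stalkIdeal_eq _ U hwU, hc, Ideal.map_span, Set.image_singleton]
  rw [BlowSep.stalkIdeal_comap] at h4
  subst hwz'
  rw [BlowH1.stalkIdeal_point (β w) hz] at h4
  let σ := (asIso (β.stalkMap w)).commRingCatIsoToRingEquiv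
  refine ⟨σ.symm (Y₂.presheaf.germ U.1 _ hwU c), ?_⟩
  have h6 := congrArg (Ideal.map σ.symm.toRingHom) h4
  rw [Ideal.map_map, Ideal.map_span, Set.image_singleton] at h6
  have hid : σ.symm.toRingHom.comp (β.stalkMap w).hom = RingHom.id _ :=
    RingHom.ext fun x => σ.symm_apply_apply x
  rw [hid, Ideal.map_id] at h6
  exact h6

/-- Blow-ups in closed points separate and regularise finitely many finite curves. -/
theorem exists_seq [IsNoetherian X] (ν : ∀ i, N i ⟶ X) [∀ i, IsFinite (ν i)] [∀ i, IsIntegral (N i)]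
    (hN : ∀ i, ∀ a : N i, IsPrincipalIdealRing ((N i).presheaf.stalk a))
    (hgen : ∀ i j (a : N i), ν i a = ν j (genericPoint (N j)) → i = j ∧ a = genericPoint (N i))
    (hclosed : ∀ i (a : N i), a ≠ genericPoint (N i) → IsClosed ({ν i a} : Set X)) :
    ∃ (X' : Scheme.{u}) (G : X' ⟶ X) (μ : ∀ i, N i ⟶ X') (_ : ∀ i, IsFinite (μ i)),
      IsProper G ∧ Resolve.IsPtBlowupSeq G ∧ (∀ i, μ i ≫ G = ν i) ∧
      ∀ y : (Scheme.IdealSheafData.vanishingIdeal (unionRange μ)).subscheme,
        IsRegularLocalRing ((Scheme.IdealSheafData.vanishingIdeal (unionRange μ)).subscheme.presheaf.stalk y) := by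
  classical
  haveI : ∀ i, IsLocallyNoetherian (N i) := fun i => LocallyOfFiniteType.isLocallyNoetherian (ν i)
  obtain ⟨s, hs, hcov⟩ := (isCompact_and_isOpen_iff_finite_and_eq_biUnion_affineOpens (U := (Set.univ : Set X))).1 ⟨isCompact_univ, isOpen_univ⟩
  haveI := hs.to_subtype
  let A : s → Type u := fun U => Γ(X, U.1.1)
  let M : s → Type u := fun U => ∀ i, Γ(N i, ν i ⁻¹ᵁ U.1.1)
  letI : ∀ U : s, CommRing (A U) := fun U => inferInstanceAs (CommRing Γ(X, U.1.1))
  letI : ∀ U : s, CommRing (M U) := fun U => inferInstanceAs (CommRing (∀ i, Γ(N i, ν i ⁻¹ᵁ U.1.1)))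
  letI : ∀ (U : s) (i : Fin n), Algebra (A U) Γ(N i, ν i ⁻¹ᵁ U.1.1) := fun U i => ((ν i).app U.1.1).hom.toAlgebra
  letI : ∀ U : s, Algebra (A U) (M U) := fun U => inferInstanceAs (Algebra (A U) (∀ i, Γ(N i, ν i ⁻¹ᵁ U.1.1)))
  haveI : ∀ U : s, IsNoetherian (A U) (M U) := fun U => by
    haveI : IsNoetherianRing (A U) := IsLocallyNoetherian.component_noetherian U.1
    haveI : ∀ i, Module.Finite (A U) Γ(N i, ν i ⁻¹ᵁ U.1.1) := fun i => IsFinite.finite_app (ν i) U.1.1 U.1.2
    haveI : Module.Finite (A U) (M U) := inferInstanceAs (Module.Finite (A U) (∀ i, Γ(N i, ν i ⁻¹ᵁ U.1.1)))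
    infer_instance
  suffices H : ∀ (S : ∀ U : s, Submodule (A U) (M U)) (X₁ : Scheme.{u}) (G : X₁ ⟶ X) (μ : ∀ i, N i ⟶ X₁)
      (_ : ∀ i, IsFinite (μ i)) (hμ : ∀ i, μ i ≫ G = ν i) (t : ∀ i, N i ⟶ (Scheme.IdealSheafData.vanishingIdeal (unionRange μ)).subscheme)
      (ht : ∀ i, t i ≫ (Scheme.IdealSheafData.vanishingIdeal (unionRange μ)).subschemeι = μ i),
      Resolve.IsPtBlowupSeq G → IsNoetherian X₁ → IsProper G → (∀ U : s, (S U : Set (M U)) =
        Set.range (fun (a : Γ((Scheme.IdealSheafData.vanishingIdeal (unionRange μ)).subscheme,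
            ((Scheme.IdealSheafData.vanishingIdeal (unionRange μ)).subschemeι ≫ G) ⁻¹ᵁ U.1.1)) (i : Fin n) =>
          (t i).appLE _ (ν i ⁻¹ᵁ U.1.1) (le_of_eq (by rw [← hμ i, ← ht i, Category.assoc]; rfl)) a)) →
      ∃ (X' : Scheme.{u}) (G : X' ⟶ X) (μ : ∀ i, N i ⟶ X') (_ : ∀ i, IsFinite (μ i)),
        IsProper G ∧ Resolve.IsPtBlowupSeq G ∧ (∀ i, μ i ≫ G = ν i) ∧
        ∀ y : (Scheme.IdealSheafData.vanishingIdeal (unionRange μ)).subscheme,
          IsRegularLocalRing ((Scheme.IdealSheafData.vanishingIdeal (unionRange μ)).subscheme.presheaf.stalk y) by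
    have hl : ∀ i, ∃ t, t ≫ (Scheme.IdealSheafData.vanishingIdeal (unionRange ν)).subschemeι = ν i := fun i =>
      RedSub.exists_lift_closed _ _ (by
        rw [RedSub.range_vanishingIdeal_subschemeι]; exact Set.subset_iUnion (fun i => Set.range (ν i)) i)
    choose t ht using hl
    refine H (fun U => { carrier := Set.range (fun (a : Γ((Scheme.IdealSheafData.vanishingIdeal (unionRange ν)).subscheme,
            ((Scheme.IdealSheafData.vanishingIdeal (unionRange ν)).subschemeι ≫ 𝟙 X) ⁻¹ᵁ U.1.1)) (i : Fin n) =>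
          (t i).appLE _ (ν i ⁻¹ᵁ U.1.1) (le_of_eq (by rw [← ht i]; simp)) a)
                         zero_mem' := ⟨0, funext fun i => map_zero _⟩
                         add_mem' := by rintro _ _ ⟨x, rfl⟩ ⟨y, rfl⟩; exact ⟨x + y, funext fun i => map_add _ _ _⟩
                         smul_mem' := ?_ })
      X (𝟙 X) ν (fun i => inferInstance) (fun i => Category.comp_id _) t ht
      (Resolve.IsPtBlowupSeq.iso (Iso.refl X)) inferInstance inferInstance fun U => rfl
    rintro a _ ⟨x, rfl⟩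
    refine ⟨((Scheme.IdealSheafData.vanishingIdeal (unionRange ν)).subschemeι ≫ 𝟙 X).app U.1.1 a * x, funext fun i => ?_⟩
    show (t i).appLE _ _ _ (_ * x) = (ν i).app U.1.1 a * (t i).appLE _ _ _ x
    rw [map_mul, ← CommRingCat.comp_apply]
    congr 2
    simp only [Scheme.Hom.app_eq_appLE, Scheme.Hom.appLE_comp_appLE, Category.comp_id, ht i]
  intro S
  haveI : WellFoundedGT (∀ U : s, Submodule (A U) (M U)) :=
    ⟨(Subrelation.wf (r := InvImage (· < ·)
        (fun (S : ∀ U : s, Submodule (A U) (M U)) (U : s) => OrderDual.toDual (S U))) (fun {a b} h => h)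
      (InvImage.wf _ (Pi.wellFoundedLT (α := fun U : s => (Submodule (A U) (M U))ᵒᵈ)).wf))⟩
  induction S using (wellFounded_gt (α := ∀ U : s, Submodule (A U) (M U))).induction with
  | _ S ih =>
  intro X₁ G μ hfμ hμ t ht hG hX₁ hGp hS
  let C := Scheme.IdealSheafData.vanishingIdeal (unionRange μ)
  by_cases hreg : ∀ y : C.subscheme, IsRegularLocalRing (C.subscheme.presheaf.stalk y)
  · exact ⟨X₁, G, μ, hfμ, hGp, hG, hμ, hreg⟩
  push Not at hreg
  obtain ⟨zz, hzz⟩ := hreg
  haveI := hX₁; haveI := hGp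
  have hrange : Set.range C.subschemeι = ⋃ i, Set.range (μ i) := RedSub.range_vanishingIdeal_subschemeι _
  have hνμ : ∀ i a, G (μ i a) = ν i a := fun i a => by rw [← Scheme.Hom.comp_apply, hμ]
  -- the bad point is closed
  have hzc : IsClosed ({C.subschemeι zz} : Set X₁) := by
    obtain ⟨i, a, ha⟩ := Set.mem_iUnion.1 (hrange.le ⟨zz, rfl⟩)
    by_contra hnc
    by_cases hagen : a = genericPoint (N i)
    · refine hzz (regular_of_maximal zz fun w hw => C.subschemeι.isEmbedding.injective ?_)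
      obtain ⟨j, b, hb⟩ := Set.mem_iUnion.1 (hrange.le ⟨w, rfl⟩)
      by_cases hbgen : b = genericPoint (N j)
      · have hsp : μ j b ⤳ μ i a := by rw [ha, hb]; exact hw.map C.subschemeι.continuous
        obtain ⟨c, hc⟩ := hsp.mem_closed (μ j).isClosedMap.isClosed_range ⟨b, rfl⟩
        obtain ⟨rfl, -⟩ := hgen j i c (by rw [← hνμ, ← hνμ, hc, hagen])
        rw [← hb, ← ha, hbgen, hagen]
      · have hcl : IsClosed ({C.subschemeι w} : Set X₁) := by
          have hc : IsClosed ((μ j) '' {b}) := (μ j).isClosedMap _ (closure_subset_iff_isClosed.1 fun b' hb' => by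
            have h1 : b ⤳ b' := specializes_iff_mem_closure.2 hb'
            have h2 : ν j b' ∈ ({ν j b} : Set X) := (h1.map (ν j).continuous).mem_closed (hclosed j b hbgen) rfl
            by_contra hne
            exact hne (((ν j).isDiscrete_preimage_singleton (ν j b)).eq_of_specializes h1 rfl h2).symm)
          rwa [Set.image_singleton, hb] at hc
        exact ((hw.map C.subschemeι.continuous).mem_closed hcl rfl).symm
    · refine hnc ?_
      rw [← ha]
      have hc : IsClosed ((μ i) '' {a}) := (μ i).isClosedMap _ (closure_subset_iff_isClosed.1 fun b' hb' => by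
        have h1 : a ⤳ b' := specializes_iff_mem_closure.2 hb'
        have h2 : ν i b' ∈ ({ν i a} : Set X) := (h1.map (ν i).continuous).mem_closed (hclosed i a hagen) rfl
        by_contra hne
        exact hne (((ν i).isDiscrete_preimage_singleton (ν i a)).eq_of_specializes h1 rfl h2).symm)
      rwa [Set.image_singleton] at hc
  set z := C.subschemeι zz with hz
  obtain ⟨X₂, B, hB⟩ := S8859.result X₁ (Scheme.IdealSheafData.vanishingIdeal ⟨{z}, hzc⟩)
  haveI : IsProper B := BlowUpProper.Basic.isProper hB fun U => by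
    haveI := IsLocallyNoetherian.component_noetherian (X := X₁) U
    exact IsNoetherian.noetherian _
  haveI : IsLocallyNoetherian X₂ := LocallyOfFiniteType.isLocallyNoetherian B
  haveI : CompactSpace X₂ := QuasiCompact.compactSpace_of_compactSpace B
  have hlift : ∀ i, ∃ μ' : N i ⟶ X₂, μ' ≫ B = μ i := fun i => by
    suffices hne : (Scheme.IdealSheafData.vanishingIdeal ⟨{z}, hzc⟩).comap (μ i) ≠ ⊥ by
      obtain ⟨μ', h, -⟩ := hB.2 (N i) (μ i) (S7372.effCartier_of_ne_bot (hN i) hne)
      exact ⟨μ', h⟩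
    intro hbot
    have h1 : genericPoint (N i) ∈ ((Scheme.IdealSheafData.vanishingIdeal ⟨{z}, hzc⟩).comap (μ i)).support := by
      rw [hbot, Scheme.IdealSheafData.support_bot]
      trivial
    rw [Scheme.IdealSheafData.support_comap] at h1
    have h2 : μ i (genericPoint (N i)) = z := (Scheme.IdealSheafData.coe_support_vanishingIdeal _).le h1
    -- the generic point of a curve is not closed, so it is the bad point only if that point is regular
    refine hzz (regular_of_maximal zz fun w hw => C.subschemeι.isEmbedding.injective ?_)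
    obtain ⟨j, b, hb⟩ := Set.mem_iUnion.1 (hrange.le ⟨w, rfl⟩)
    obtain ⟨c, hc⟩ : z ∈ Set.range (μ j) :=
      (hb ▸ hw.map C.subschemeι.continuous : μ j b ⤳ z).mem_closed (μ j).isClosedMap.isClosed_range ⟨b, rfl⟩
    obtain ⟨rfl, -⟩ := hgen j i c (by rw [← hνμ, ← hνμ, hc, h2])
    exact ((h2 ▸ (genericPoint_specializes b).map (μ j).continuous : z ⤳ μ j b).antisymm
      (hb ▸ hw.map C.subschemeι.continuous)).eq.symm.trans rfl |> fun h => hb ▸ h
  choose μ' hμ' using hlift
  haveI : ∀ i, IsFinite (μ' i) := fun i => by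
    haveI : IsFinite (μ' i ≫ B ≫ G) := by rw [← Category.assoc, hμ', hμ]; infer_instance
    exact IsFinite.of_comp (μ' i) (B ≫ G)
  set C' := Scheme.IdealSheafData.vanishingIdeal (unionRange μ') with hC'
  have hl : ∀ i, ∃ t', t' ≫ C'.subschemeι = μ' i := fun i => RedSub.exists_lift_closed _ _ (by
    rw [RedSub.range_vanishingIdeal_subschemeι]; exact Set.subset_iUnion (fun i => Set.range (μ' i)) i)
  choose t' ht' using hl
  have hrange' : Set.range C'.subschemeι = ⋃ i, Set.range (μ' i) := RedSub.range_vanishingIdeal_subschemeι _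
  obtain ⟨β, hβ⟩ := RedSub.exists_lift_closed C.subschemeι (C'.subschemeι ≫ B) (by
    rintro _ ⟨w, rfl⟩
    obtain ⟨i, a, ha⟩ := Set.mem_iUnion.1 (hrange'.le ⟨w, rfl⟩)
    rw [hrange, Scheme.Hom.comp_apply, ← ha, ← Scheme.Hom.comp_apply, hμ']
    exact Set.mem_iUnion.2 ⟨i, a, rfl⟩)
  have htβ : ∀ i, t' i ≫ β = t i := fun i => by
    rw [← cancel_mono C.subschemeι, Category.assoc, hβ, ← Category.assoc, ht', hμ', ht]
  -- finiteness
  have hfin : ∀ {Q : Scheme.{u}} (J : Q ⟶ X) (m : ∀ i, N i ⟶ Q), (∀ i, m i ≫ J = ν i) →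
      (∀ q : Q, ∃ i a, m i a = q) → LocallyOfFiniteType J → QuasiCompact J → LocallyQuasiFinite J := by
    intro Q J m hm hsurj _ _
    refine LocallyQuasiFinite.of_finite_preimage_singleton J fun y => ?_
    refine (Set.finite_iUnion fun i => ((ν i).finite_preimage_singleton y).image (m i)).subset fun q hq => ?_
    obtain ⟨i, a, rfl⟩ := hsurj q
    exact Set.mem_iUnion.2 ⟨i, a, by show ν i a = y; rw [← hm i]; exact hq, rfl⟩
  have hsurjt : ∀ q : C.subscheme, ∃ i a, t i a = q := fun q => by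
    obtain ⟨i, a, ha⟩ := Set.mem_iUnion.1 (hrange.le ⟨q, rfl⟩)
    exact ⟨i, a, C.subschemeι.isEmbedding.injective (by rw [← Scheme.Hom.comp_apply, ht, ha])⟩
  have hsurjt' : ∀ q : C'.subscheme, ∃ i a, t' i a = q := fun q => by
    obtain ⟨i, a, ha⟩ := Set.mem_iUnion.1 (hrange'.le ⟨q, rfl⟩)
    exact ⟨i, a, C'.subschemeι.isEmbedding.injective (by rw [← Scheme.Hom.comp_apply, ht', ha])⟩
  have htq : ∀ i, t i ≫ C.subschemeι ≫ G = ν i := fun i => by rw [← Category.assoc, ht, hμ]
  have htq' : ∀ i, t' i ≫ C'.subschemeι ≫ B ≫ G = ν i := fun i => by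
    rw [← Category.assoc, ht', ← Category.assoc, hμ', hμ]
  haveI := hfin (C.subschemeι ≫ G) t htq hsurjt inferInstance inferInstance
  haveI : IsFinite (C.subschemeι ≫ G) := IsFinite.of_isProper_of_locallyQuasiFinite _
  haveI := hfin (C'.subschemeι ≫ B ≫ G) t' htq' hsurjt' inferInstance inferInstance
  haveI : IsFinite (C'.subschemeι ≫ B ≫ G) := IsFinite.of_isProper_of_locallyQuasiFinite _
  have hβq : β ≫ C.subschemeι ≫ G = C'.subschemeι ≫ B ≫ G := by rw [← Category.assoc, hβ, Category.assoc]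
  haveI : IsFinite (β ≫ C.subschemeι ≫ G) := hβq ▸ inferInstance
  haveI : IsFinite β := IsFinite.of_comp β (C.subschemeι ≫ G)
  let φ' : ∀ (U : s) (i : Fin n), Γ(C'.subscheme, (C'.subschemeι ≫ B ≫ G) ⁻¹ᵁ U.1.1) ⟶ Γ(N i, ν i ⁻¹ᵁ U.1.1) :=
    fun U i => (t' i).appLE _ (ν i ⁻¹ᵁ U.1.1) (le_of_eq (by rw [← htq' i]; rfl))
  let S₂ : ∀ U : s, Submodule (A U) (M U) := fun U =>
    { carrier := Set.range (fun x i => φ' U i x)
      zero_mem' := ⟨0, funext fun i => map_zero _⟩
      add_mem' := by rintro _ _ ⟨x, rfl⟩ ⟨y, rfl⟩; exact ⟨x + y, funext fun i => map_add _ _ _⟩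
      smul_mem' := by
        rintro a _ ⟨x, rfl⟩
        refine ⟨(C'.subschemeι ≫ B ≫ G).app U.1.1 a * x, funext fun i => ?_⟩
        show φ' U i (_ * x) = (ν i).app U.1.1 a * φ' U i x
        rw [map_mul, ← CommRingCat.comp_apply]
        congr 2
        simp only [φ', Scheme.Hom.app_eq_appLE, Scheme.Hom.appLE_comp_appLE, htq' i] }
  have hfac : ∀ (U : s) (i : Fin n) (x : Γ(C.subscheme, (C.subschemeι ≫ G) ⁻¹ᵁ U.1.1)),
      (t i).appLE _ (ν i ⁻¹ᵁ U.1.1) (le_of_eq (by rw [← htq i]; rfl)) x =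
        φ' U i (β.appLE _ ((C'.subschemeι ≫ B ≫ G) ⁻¹ᵁ U.1.1) (le_of_eq (by rw [← hβq]; rfl)) x) := fun U i x => by
    rw [← CommRingCat.comp_apply]
    simp only [φ', Scheme.Hom.appLE_comp_appLE, htβ i]
    try rfl
  have hle : S ≤ S₂ := fun U m hm => by
    rw [← SetLike.mem_coe, hS U] at hm
    obtain ⟨x, rfl⟩ := hm
    exact ⟨β.appLE _ ((C'.subschemeι ≫ B ≫ G) ⁻¹ᵁ U.1.1) (le_of_eq (by rw [← hβq]; rfl)) x, funext fun i => (hfac U i x).symm⟩
  refine ih S₂ (lt_of_le_of_ne hle fun heq => ?_) X₂ (B ≫ G) μ' inferInstance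
    (fun i => by rw [← Category.assoc, hμ', hμ]) t' ht' (Resolve.IsPtBlowupSeq.step B G z hzc hB hG) {} inferInstance fun U => rfl
  obtain ⟨U, hUs, hU⟩ : ∃ U, ∃ hUs : U ∈ s, G z ∈ (U : X.affineOpens).1 := by
    have := hcov.le (Set.mem_univ (G z))
    simpa using this
  let U' : s := ⟨U, hUs⟩
  -- jointly injective sections
  have hinj : ∀ {Q : Scheme.{u}} [IsReduced Q] (O : Q.Opens) (m : ∀ i, N i ⟶ Q), (∀ q : Q, ∃ i a, m i a = q) →
      ∀ (V : ∀ i, (N i).Opens) (e : ∀ i, V i ≤ m i ⁻¹ᵁ O) (_ : ∀ i, m i ⁻¹ᵁ O ≤ V i) (x : Γ(Q, O)),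
        (∀ i, (m i).appLE O (V i) (e i) x = 0) → x = 0 := by
    intro Q _ O m hsurj V e e' x hx
    refine (basicOpen_eq_bot_iff x).1 (Opens.ext (Set.eq_empty_of_forall_notMem fun q hq => ?_))
    obtain ⟨i, a, rfl⟩ := hsurj q
    have haV : a ∈ V i := e' i (Q.basicOpen_le x hq)
    have h : a ∈ (N i).basicOpen ((m i).appLE O (V i) (e i) x) := by
      rw [Scheme.basicOpen_appLE]; exact ⟨haV, hq⟩
    rw [hx i, Scheme.basicOpen_zero] at h
    exact h
  have hUW : zz ∈ (C.subschemeι ≫ G) ⁻¹ᵁ U.1 := hU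
  have hloc : Curv2.IsLocPrincipal ((Scheme.IdealSheafData.vanishingIdeal ⟨{zz}, by
      have := hzc.preimage C.subschemeι.continuous
      rwa [show C.subschemeι ⁻¹' {z} = {zz} from Set.ext fun w => ⟨fun h => C.subschemeι.isEmbedding.injective h, fun h => by rw [h]; rfl⟩] at this⟩).comap β) := by
    have hcz : IsClosed ({zz} : Set C.subscheme) := by
      have := hzc.preimage C.subschemeι.continuous
      rwa [show C.subschemeι ⁻¹' {z} = {zz} from Set.ext fun w => ⟨fun h => C.subschemeι.isEmbedding.injective h, fun h => by rw [h]; rfl⟩] at this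
    have h1 : (Scheme.IdealSheafData.vanishingIdeal ⟨{z}, hzc⟩).comap C.subschemeι =
        Scheme.IdealSheafData.vanishingIdeal ⟨{zz}, hcz⟩ := by
      have h2 : (Scheme.IdealSheafData.vanishingIdeal ⟨{zz}, hcz⟩).map C.subschemeι =
          Scheme.IdealSheafData.vanishingIdeal ⟨{z}, hzc⟩ := by
        rw [Scheme.IdealSheafData.map_vanishingIdeal]
        congr 1
        refine SetLike.coe_injective ?_
        show closure (C.subschemeι '' ({zz} : Set C.subscheme)) = {z}
        rw [Set.image_singleton, hzc.closure_eq]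
      rw [← h2, S7373.comap_map_closedImmersion]
    rw [← h1, ← Scheme.IdealSheafData.comap_comp, hβ, Scheme.IdealSheafData.comap_comp]
    intro w hw
    obtain ⟨T, hwT, f, -, hf⟩ := hB.1 (C'.subschemeι w)
    refine ⟨⟨C'.subschemeι ⁻¹ᵁ T.1, T.2.preimage C'.subschemeι⟩, hwT, (C'.subschemeι.app T.1) f, ?_⟩
    rw [IdealSh.Comap.ideal_comap _ C'.subschemeι T ⟨_, T.2.preimage C'.subschemeι⟩ le_rfl, hf, Ideal.map_span,
      Set.image_singleton, Scheme.Hom.app_eq_appLE]
  suffices hbij : Function.Bijective (β.app ((C.subschemeι ≫ G) ⁻¹ᵁ U.1)) by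
    obtain ⟨g, hg⟩ := principal_of_bijective β zz _ hloc ((C.subschemeι ≫ G) ⁻¹ᵁ U.1) (U.2.preimage _) hUW hbij
    haveI : IsLocallyNoetherian C.subscheme := LocallyOfFiniteType.isLocallyNoetherian C.subschemeι
    exact hzz (regular_of_principal g hg)
  refine ⟨?_, ?_⟩
  · intro x y hxy
    refine sub_eq_zero.1 (hinj _ t hsurjt (fun i => ν i ⁻¹ᵁ U.1) (fun i => le_of_eq (by rw [← htq i]; rfl))
      (fun i => le_of_eq (by rw [← htq i]; rfl)) (x - y) fun i => ?_)
    rw [map_sub, sub_eq_zero, hfac U' i x, hfac U' i y]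
    congr 1
    rw [Scheme.Hom.appLE, CommRingCat.comp_apply, CommRingCat.comp_apply, hxy]
  · intro w
    have e0 : (C'.subschemeι ≫ B ≫ G) ⁻¹ᵁ U.1 = β ⁻¹ᵁ ((C.subschemeι ≫ G) ⁻¹ᵁ U.1) := by rw [← hβq]; rfl
    let w' := C'.subscheme.presheaf.map (eqToHom e0).op w
    have hm : (fun i => φ' U' i w') ∈ S U' := by rw [heq]; exact ⟨w', rfl⟩
    rw [← SetLike.mem_coe, hS U'] at hm
    obtain ⟨x, hx⟩ := hm
    refine ⟨x, sub_eq_zero.1 (hinj _ t' hsurjt' (fun i => ν i ⁻¹ᵁ U.1) (fun i => le_of_eq (by rw [← htq' i, ← e0]; rfl))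
      (fun i => le_of_eq (by rw [← htq' i, ← e0]; rfl)) (β.app _ x - w) fun i => ?_)⟩
    have hxi := congrFun hx i
    simp only at hxi
    rw [map_sub, sub_eq_zero]
    refine Eq.trans ?_ (hxi.trans ?_)
    · rw [← CommRingCat.comp_apply]
      simp only [Scheme.Hom.app_eq_appLE, Scheme.Hom.appLE_comp_appLE, htβ i]
      rfl
    · show (t' i).appLE _ _ _ (C'.subscheme.presheaf.map (eqToHom e0).op w) = _
      rw [← CommRingCat.comp_apply, Scheme.Hom.map_appLE]

end


/-- Let X be a Noetherian scheme and Y_1, …, Y_n ⊂ X integral closed subschemes of dimension one (ideal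
sheaves I_i), pairwise distinct, each with finite normalization morphism. Then there is a finite
sequence of blowings up in closed points g : X' → X such that the strict transforms Y'_i ⊂ X' —
integral closed subschemes (ideals I'_i) mapped by g into Y_i, isomorphically over a nonempty open
of Y_i — are pairwise disjoint and have regular local rings. (The quasi-compactness and
quasi-separatedness binders always hold. The published statement does not say the Y_i are distinct;
for Y_1 = Y_2 the strict transforms coincide and cannot be disjoint, so distinctness is assumed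
here, as the proof's use of the intersection multiplicities m_p(Y_i ∩ Y_j) requires.) -/
theorem result (X : Scheme.{u}) [IsNoetherian X] {n : ℕ}
    (I : Fin n → X.IdealSheafData) [∀ i, IsIntegral (I i).subscheme] (hdim : ∀ i, topologicalKrullDim ↥(I i).subscheme = 1)
    [∀ i, QuasiCompact ((I i).subscheme.fromSpecStalk (genericPoint ↥(I i).subscheme))]
    [∀ i, QuasiSeparated ((I i).subscheme.fromSpecStalk (genericPoint ↥(I i).subscheme))]
    (hfin : ∀ i, IsFinite (Curv2.normalizationι (I i).subscheme)) (hdist : Function.Injective I) :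
    ∃ (X' : Scheme.{u}) (g : X' ⟶ X), Resolve.IsPtBlowupSeq g ∧
      ∃ (I' : Fin n → X'.IdealSheafData) (g' : ∀ i, (I' i).subscheme ⟶ (I i).subscheme),
        (∀ i, IsIntegral (I' i).subscheme ∧ g' i ≫ (I i).subschemeι = (I' i).subschemeι ≫ g ∧
          (∃ V : (I i).subscheme.Opens, (V : Set ↥(I i).subscheme).Nonempty ∧ IsIso (g' i ∣_ V)) ∧
          ∀ y : ↥(I' i).subscheme, IsRegularLocalRing ((I' i).subscheme.presheaf.stalk y)) ∧
        ∀ i j, i ≠ j → Disjoint ((I' i).support : Set X') ((I' j).support : Set X') := by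
  classical
  haveI : ∀ i, IsLocallyNoetherian (I i).subscheme := fun i => LocallyOfFiniteType.isLocallyNoetherian (I i).subschemeι
  haveI : ∀ i, CompactSpace (I i).subscheme := fun i => QuasiCompact.compactSpace_of_compactSpace (I i).subschemeι
  haveI : ∀ i, IsNoetherian (I i).subscheme := fun i => {}
  haveI := hfin
  haveI : ∀ i, IsIntegral (Curv2.normalization (I i).subscheme) := fun i => Curv2Norm.isIntegral _
  have hV₀ : ∀ i, ∃ V : (I i).subscheme.Opens, (V : Set (I i).subscheme).Nonempty ∧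
      IsIso (Curv2.normalizationι (I i).subscheme ∣_ V) := fun i => S7321.exists_isIso_restrict _ (hfin i)
  choose V₀ hV₀ hiso₀ using hV₀
  haveI := hiso₀
  let ν : ∀ i, Curv2.normalization (I i).subscheme ⟶ X := fun i => Curv2.normalizationι _ ≫ (I i).subschemeι
  have hη : ∀ i, (I i).subschemeι '' {genericPoint (I i).subscheme} = {ν i (genericPoint _)} := fun i => by
    rw [Set.image_singleton, Scheme.Hom.comp_apply, (S7372.eq_genericPoint _ (V₀ i) (hV₀ i)).1]
  have hsupp : ∀ i, ((I i).support : Set X) = closure {ν i (genericPoint _)} := fun i => by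
    rw [← hη i, ← (I i).range_subschemeι, (I i).subschemeι.isClosedEmbedding.closure_image_eq,
      (genericPoint_spec _).def, Set.image_univ]
  have hclosed : ∀ i (a : Curv2.normalization (I i).subscheme), a ≠ genericPoint _ → IsClosed ({ν i a} : Set X) := fun i a ha => by
    have h1 := ((S7372.points_dimOne (hdim i)).2 (Curv2.normalizationι _ a)
      fun h => ha ((S7372.eq_genericPoint _ (V₀ i) (hV₀ i)).2 a h))
    have h2 := (I i).subschemeι.isClosedMap _ h1
    rwa [Set.image_singleton, ← Scheme.Hom.comp_apply] at h2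
  have hnotclosed : ∀ j, ¬ IsClosed ({ν j (genericPoint _)} : Set X) := fun j hc => by
    refine (S7372.points_dimOne (hdim j)).1 ?_
    have := hc.preimage (I j).subschemeι.continuous
    rwa [← hη j, Set.preimage_image_eq _ (I j).subschemeι.isEmbedding.injective] at this
  have hgen : ∀ i j (a : Curv2.normalization (I i).subscheme), ν i a = ν j (genericPoint _) → i = j ∧ a = genericPoint _ := fun i j a h => by
    have ha : a = genericPoint _ := by
      by_contra hne
      exact hnotclosed j (h ▸ hclosed i a hne)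
    subst ha
    refine ⟨hdist ?_, rfl⟩
    rw [eq_vanishingIdeal (I i), eq_vanishingIdeal (I j)]
    congr 1
    exact SetLike.coe_injective (by rw [hsupp, hsupp, h])
  obtain ⟨X', G, μ, hfμ, hGp, hG, hμ, hreg⟩ := exists_seq ν (fun i => pid_normalization _ (hdim i)) hgen hclosed
  haveI := hfμ
  set C := Scheme.IdealSheafData.vanishingIdeal (unionRange μ) with hC
  have hrange : Set.range C.subschemeι = ⋃ i, Set.range (μ i) := RedSub.range_vanishingIdeal_subschemeι _
  let R : Fin n → Closeds X' := fun i => ⟨Set.range (μ i), (μ i).isClosedMap.isClosed_range⟩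
  let I' : Fin n → X'.IdealSheafData := fun i => Scheme.IdealSheafData.vanishingIdeal (R i)
  have hR : ∀ i, Set.range (I' i).subschemeι = Set.range (μ i) := fun i => RedSub.range_vanishingIdeal_subschemeι _
  have hl : ∀ i, ∃ h, h ≫ (I' i).subschemeι = μ i := fun i => RedSub.exists_lift_closed _ _ (hR i).ge
  choose h hh using hl
  have hhsurj : ∀ i, Function.Surjective (h i) := fun i q => by
    obtain ⟨a, ha⟩ := (hR i).le ⟨q, rfl⟩
    exact ⟨a, (I' i).subschemeι.isEmbedding.injective (by rw [← Scheme.Hom.comp_apply, hh, ha])⟩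
  haveI : ∀ i, IsIntegral (I' i).subscheme := fun i => by
    haveI : IrreducibleSpace (I' i).subscheme := by
      have h1 := ((genericPoint_spec (Curv2.normalization (I i).subscheme)).image (h i).continuous)
      rw [Set.image_univ, (hhsurj i).range_eq, closure_univ] at h1
      refine (irreducibleSpace_def _).2 ?_
      have h2 := (isIrreducible_singleton (x := h i (genericPoint _))).closure
      rwa [h1.def] at h2
    exact isIntegral_of_irreducibleSpace_of_isReduced _
  have hg' : ∀ i, ∃ g', g' ≫ (I i).subschemeι = (I' i).subschemeι ≫ G := fun i =>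
    RedSub.exists_lift_closed _ _ (by
      rintro _ ⟨q, rfl⟩
      obtain ⟨a, rfl⟩ := hhsurj i q
      rw [← Scheme.Hom.comp_apply, ← Category.assoc, hh, hμ]
      exact ⟨_, rfl⟩)
  choose g' hg' using hg'
  refine ⟨X', G, hG, I', g', fun i => ⟨inferInstance, hg' i, ⟨V₀ i, hV₀ i, ?_⟩, fun y => ?_⟩, fun i j hij => ?_⟩
  · have hν : h i ≫ g' i = Curv2.normalizationι _ := by
      rw [← cancel_mono (I i).subschemeι, Category.assoc, hg', ← Category.assoc, hh, hμ]
    haveI : IsIso ((h i ≫ g' i) ∣_ V₀ i) := hν ▸ hiso₀ i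
    rw [morphismRestrict_comp] at this
    haveI := hGp
    haveI : IsSeparated (g' i) := by
      haveI : IsSeparated (g' i ≫ (I i).subschemeι) := hg' i ▸ inferInstance
      exact IsSeparated.of_comp (g' i) (I i).subschemeι
    haveI : IsSeparated (g' i ∣_ V₀ i) := IsZariskiLocalAtTarget.restrict ‹_› _
    let σ := inv ((h i ∣_ (g' i ⁻¹ᵁ V₀ i)) ≫ (g' i ∣_ V₀ i)) ≫ (h i ∣_ (g' i ⁻¹ᵁ V₀ i))
    have hσ : σ ≫ (g' i ∣_ V₀ i) = 𝟙 _ := by rw [Category.assoc, IsIso.inv_hom_id]
    haveI : IsClosedImmersion σ := by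
      haveI : IsClosedImmersion (σ ≫ (g' i ∣_ V₀ i)) := hσ ▸ inferInstance
      exact IsClosedImmersion.of_comp σ (g' i ∣_ V₀ i)
    haveI : Surjective σ := ⟨fun q => by
      obtain ⟨a, ha⟩ := hhsurj i q.1
      have haV : a ∈ h i ⁻¹ᵁ (g' i ⁻¹ᵁ V₀ i) := by show h i a ∈ g' i ⁻¹ᵁ V₀ i; rw [ha]; exact q.2
      refine ⟨((h i ∣_ (g' i ⁻¹ᵁ V₀ i)) ≫ (g' i ∣_ V₀ i)) ⟨a, haV⟩, ?_⟩
      rw [← Scheme.Hom.comp_apply, IsIso.hom_inv_id_assoc]
      exact Subtype.ext ((morphismRestrict_base_coe _ _ _).trans ha)⟩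
    haveI : IsIso σ := isIso_of_isClosedImmersion_of_surjective σ
    haveI : IsIso (σ ≫ (g' i ∣_ V₀ i)) := hσ ▸ inferInstance
    exact IsIso.of_isIso_comp_left σ (g' i ∣_ V₀ i)
  · obtain ⟨ρ, hρ⟩ := RedSub.exists_lift_closed C.subschemeι (I' i).subschemeι (by
      rw [hR, hrange]; exact Set.subset_iUnion (fun i => Set.range (μ i)) i)
    haveI : IsClosedImmersion (ρ ≫ C.subschemeι) := hρ ▸ inferInstance
    haveI : IsClosedImmersion ρ := IsClosedImmersion.of_comp ρ C.subschemeι
    haveI := hreg (ρ y)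
    haveI : _root_.IsReduced (C.subscheme.presheaf.stalk (ρ y)) := inferInstance
    -- the other branches miss `y`
    have hmiss : ∀ w : C.subscheme, w ⤳ ρ y → C.subschemeι w ∈ Set.range (μ i) := fun w hw => by
      haveI : IsDomain (C.subscheme.presheaf.stalk (ρ y)) := RegLoc.isDomain _
      obtain ⟨p, hp⟩ : w ∈ Set.range (C.subscheme.fromSpecStalk (ρ y)) := Scheme.range_fromSpecStalk.ge hw
      have hgeny : ρ (genericPoint (I' i).subscheme) ⤳ ρ y := (genericPoint_specializes y).map ρ.continuous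
      obtain ⟨p₀, hp₀⟩ : ρ (genericPoint (I' i).subscheme) ∈ Set.range (C.subscheme.fromSpecStalk (ρ y)) :=
        Scheme.range_fromSpecStalk.ge hgeny
      let p₁ : Spec (C.subscheme.presheaf.stalk (ρ y)) := ⟨⊥, Ideal.isPrime_bot⟩
      have h1 : C.subscheme.fromSpecStalk (ρ y) p₁ ⤳ ρ (genericPoint (I' i).subscheme) := by
        rw [← hp₀]
        exact ((PrimeSpectrum.le_iff_specializes _ _).1 bot_le).map (C.subscheme.fromSpecStalk (ρ y)).continuous
      have h2 : C.subscheme.fromSpecStalk (ρ y) p₁ ⤳ w := by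
        rw [← hp]
        exact ((PrimeSpectrum.le_iff_specializes _ _).1 bot_le).map (C.subscheme.fromSpecStalk (ρ y)).continuous
      obtain ⟨j, b, hb⟩ := Set.mem_iUnion.1 (hrange.le ⟨C.subscheme.fromSpecStalk (ρ y) p₁, rfl⟩)
      have h3 := h1.map C.subschemeι.continuous
      rw [show C.subschemeι (ρ (genericPoint (I' i).subscheme)) = (I' i).subschemeι (genericPoint _) from
        congr($hρ (genericPoint (I' i).subscheme)), ← hb] at h3
      obtain ⟨c, hc⟩ := h3.mem_closed (μ j).isClosedMap.isClosed_range ⟨b, rfl⟩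
      obtain ⟨a, ha⟩ := (hR i).le ⟨genericPoint _, rfl⟩
      have hagen : (I' i).subschemeι (genericPoint _) = μ i (genericPoint _) := by
        have hs : h i (genericPoint _) = genericPoint (I' i).subscheme := by
          obtain ⟨a', ha'⟩ := hhsurj i (genericPoint _)
          have := (genericPoint_specializes a').map (h i).continuous
          rw [ha'] at this
          exact (this.antisymm (genericPoint_specializes _)).eq
        rw [← hs, ← Scheme.Hom.comp_apply, hh]
      obtain ⟨rfl, -⟩ := hgen j i c (by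
        rw [← hμ j, ← hμ i, Scheme.Hom.comp_apply, Scheme.Hom.comp_apply, hc, hagen])
      have h4 := h2.map C.subschemeι.continuous
      rw [← hb] at h4
      exact h4.mem_closed (μ j).isClosedMap.isClosed_range ⟨b, rfl⟩
    let O : C.subscheme.Opens :=
      ⟨(C.subschemeι ⁻¹' ⋃ j : {j // j ≠ i}, Set.range (μ j.1))ᶜ, ((isClosed_iUnion_of_finite fun j : {j // j ≠ i} =>
        (μ j.1).isClosedMap.isClosed_range).preimage C.subschemeι.continuous).isOpen_compl⟩
    have hyO : ρ y ∈ O := fun hy => by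
      obtain ⟨⟨j, hji⟩, b, hb⟩ := Set.mem_iUnion.1 hy
      have hsp : μ j (genericPoint _) ⤳ C.subschemeι (ρ y) :=
        hb ▸ (genericPoint_specializes b).map (μ j).continuous
      obtain ⟨q, hq⟩ : μ j (genericPoint _) ∈ Set.range C.subschemeι :=
        hrange.ge (Set.mem_iUnion.2 ⟨j, _, rfl⟩)
      rw [← hq] at hsp
      obtain ⟨c, hc⟩ := hmiss q (C.subschemeι.isEmbedding.isInducing.specializes_iff.1 hsp)
      obtain ⟨rfl, -⟩ := hgen i j c (by rw [← hμ, ← hμ, Scheme.Hom.comp_apply, Scheme.Hom.comp_apply, hc, hq])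
      exact hji rfl
    haveI : IsClosedImmersion (ρ ∣_ O) := IsZariskiLocalAtTarget.restrict ‹_› O
    haveI : Surjective (ρ ∣_ O) := ⟨fun q => by
      obtain ⟨j, b, hb⟩ := Set.mem_iUnion.1 (hrange.le ⟨q.1, rfl⟩)
      obtain rfl : j = i := by
        by_contra hne
        exact q.2 (Set.mem_iUnion.2 ⟨⟨j, hne⟩, b, hb⟩)
      obtain ⟨r, hr⟩ := (hR j).ge ⟨b, rfl⟩
      have hrq : ρ r = q.1 := C.subschemeι.isEmbedding.injective (by rw [← Scheme.Hom.comp_apply, hρ, hr, hb])
      exact ⟨⟨r, show ρ r ∈ O from hrq ▸ q.2⟩, Subtype.ext ((morphismRestrict_base_coe _ _ _).trans hrq)⟩⟩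
    haveI : IsIso (ρ ∣_ O) := isIso_of_isClosedImmersion_of_surjective _
    haveI : IsIso (ρ.stalkMap y) := (MorphismProperty.arrow_mk_iso_iff (MorphismProperty.isomorphisms CommRingCat)
      (morphismRestrictStalkMap ρ O ⟨y, hyO⟩)).1 (inferInstance : IsIso ((ρ ∣_ O).stalkMap ⟨y, hyO⟩))
    exact IsRegularLocalRing.of_ringEquiv (asIso (ρ.stalkMap y)).commRingCatIsoToRingEquiv
  · rw [Set.disjoint_left]
    intro w hwi hwj
    rw [Scheme.IdealSheafData.coe_support_vanishingIdeal] at hwi hwj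
    obtain ⟨q, hq⟩ : w ∈ Set.range C.subschemeι := hrange.ge (Set.mem_iUnion.2 ⟨i, hwi⟩)
    haveI := hreg q
    haveI : IsDomain (C.subscheme.presheaf.stalk q) := RegLoc.isDomain _
    let p₁ : Spec (C.subscheme.presheaf.stalk q) := ⟨⊥, Ideal.isPrime_bot⟩
    have key : ∀ k, w ∈ Set.range (μ k) → C.subschemeι (C.subscheme.fromSpecStalk q p₁) = μ k (genericPoint _) := fun k ⟨b, hb⟩ => by
      have hsp : μ k (genericPoint _) ⤳ C.subschemeι q := hq ▸ hb ▸ (genericPoint_specializes b).map (μ k).continuous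
      obtain ⟨r, hr⟩ : μ k (genericPoint _) ∈ Set.range C.subschemeι := hrange.ge (Set.mem_iUnion.2 ⟨k, _, rfl⟩)
      rw [← hr] at hsp
      obtain ⟨p, hp⟩ : r ∈ Set.range (C.subscheme.fromSpecStalk q) :=
        Scheme.range_fromSpecStalk.ge (C.subschemeι.isEmbedding.isInducing.specializes_iff.1 hsp)
      have h1 : C.subschemeι (C.subscheme.fromSpecStalk q p₁) ⤳ μ k (genericPoint _) := by
        rw [← hr, ← hp]
        exact (((PrimeSpectrum.le_iff_specializes _ _).1 bot_le).map (C.subscheme.fromSpecStalk q).continuous).map C.subschemeι.continuous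
      obtain ⟨l, b', hb'⟩ := Set.mem_iUnion.1 (hrange.le ⟨C.subscheme.fromSpecStalk q p₁, rfl⟩)
      rw [← hb'] at h1
      obtain ⟨c, hc⟩ := h1.mem_closed (μ l).isClosedMap.isClosed_range ⟨b', rfl⟩
      obtain ⟨rfl, -⟩ := hgen l k c (by rw [← hμ, ← hμ, Scheme.Hom.comp_apply, Scheme.Hom.comp_apply, hc])
      rw [← hb']
      exact (((genericPoint_specializes b').map (μ l).continuous).antisymm h1).eq.symm
    refine hij (hgen i j (genericPoint _) ?_).1
    rw [← hμ, ← hμ, Scheme.Hom.comp_apply, Scheme.Hom.comp_apply, ← key i hwi, key j hwj]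

end Groth.Agent.S7374
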