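import Groth.Statements.S1193
import Mathlib.RingTheory.Ideal.AssociatedPrime.Finiteness
import Mathlib.RingTheory.LocalRing.ResidueField.Ideal
import Mathlib.RingTheory.Localization.Ideal

set_option autoImplicit false
universe u
open FlatMor

namespace Groth.Agent.S1193

theorem colon_eq {S F M : Type*} [CommRing S] [CommRing F] [Algebra S F] [AddCommGroup M]
    [Module S M] [Module F M] [IsScalarTower S F M] (x : M) :
    ((⊥ : Submodule F M).colon {x}).comap (algebraMap S F) = (⊥ : Submodule S M).colon {x} := by
  ext a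
  simp [Submodule.mem_colon_singleton, algebraMap_smul]

theorem ass_eq {S F M : Type*} [CommRing S] [CommRing F] [Algebra S F] [AddCommGroup M]
    [Module S M] [Module F M] [IsScalarTower S F M] (hsurj : Function.Surjective (algebraMap S F)) :
    associatedPrimes S M = Ideal.comap (algebraMap S F) '' associatedPrimes F M := by
  ext P
  constructor
  · intro hP
    obtain ⟨hp, x, hx⟩ := hP
    rw [← colon_eq (F := F) x, ← Ideal.comap_radical] at hx
    refine ⟨((⊥ : Submodule F M).colon {x}).radical, ⟨?_, x, rfl⟩, hx.symm⟩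
    rw [← Ideal.map_comap_of_surjective _ hsurj ((⊥ : Submodule F M).colon {x}).radical, ← hx]
    refine Ideal.map_isPrime_of_surjective hsurj ?_
    rw [hx]
    exact Ideal.ker_le_comap _
  · rintro ⟨Q, hQ', rfl⟩
    obtain ⟨hQ, x, hx⟩ := hQ'
    exact ⟨Ideal.IsPrime.comap _, x, by rw [hx, Ideal.comap_radical, colon_eq]⟩

theorem main {S F M : Type*} [CommRing S] [CommRing F] [Algebra S F] [AddCommGroup M]
    [Module S M] [Module F M] [IsScalarTower S F M] (hsurj : Function.Surjective (algebraMap S F))
    [IsNoetherianRing F] [Module.Finite F M] :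
    (associatedPrimes S M).Finite ∧ ∀ (q : Ideal S) [q.IsPrime],
      Disjoint (q : Set S) (nonZeroSMulDivisors S M) ↔ ∃ q' ∈ associatedPrimes S M, q ≤ q' := by
  have hfin : (associatedPrimes S M).Finite := by
    rw [ass_eq (F := F) hsurj]; exact (associatedPrimes.finite F M).image _
  refine ⟨hfin, fun q _ => ?_⟩
  have key : ∀ a : S, a ∉ nonZeroSMulDivisors S M ↔ ∃ q' ∈ associatedPrimes S M, a ∈ q' := by
    intro a
    have h := Set.ext_iff.mp (biUnion_associatedPrimes_eq_zero_divisors F M) (algebraMap S F a)
    rw [ass_eq (F := F) hsurj]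
    simp only [Set.mem_iUnion, Set.mem_setOf_eq, SetLike.mem_coe, algebraMap_smul] at h
    rw [mem_nonZeroSMulDivisors_iff]
    constructor
    · intro ha
      push Not at ha
      obtain ⟨x, hx, hx0⟩ := ha
      obtain ⟨Q, hQ, haQ⟩ := h.mpr ⟨x, hx0, hx⟩
      exact ⟨_, ⟨Q, hQ, rfl⟩, haQ⟩
    · rintro ⟨_, ⟨Q, hQ, rfl⟩, haQ⟩ ha
      obtain ⟨x, hx0, hx⟩ := h.mp ⟨Q, hQ, haQ⟩
      exact hx0 (ha x hx)
  constructor
  · intro hd
    have hsub : (q : Set S) ⊆ ⋃ q' ∈ associatedPrimes S M, (q' : Set S) := fun a ha => by
      obtain ⟨q', hq', ha'⟩ := (key a).mp (Set.disjoint_left.mp hd ha)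
      exact Set.mem_biUnion hq' ha'
    exact (Ideal.subset_union_prime_finite hfin (f := id) 0 0 fun _ h _ _ => h.1).mp hsub
  · rintro ⟨q', hq', hle⟩
    exact Set.disjoint_left.mpr fun a ha => (key a).mpr ⟨q', hq', hle ha⟩

theorem loc {S M : Type*} [CommRing S] [AddCommGroup M] [Module S M] (Sg : Submonoid S)
    (hfin : (associatedPrimes S M).Finite)
    (h : ∀ (q : Ideal S) [q.IsPrime], Disjoint (q : Set S) Sg ↔ ∃ q' ∈ associatedPrimes S M, q ≤ q') :
    {Q : Ideal (Localization Sg) | Q.IsMaximal}.Finite ∧
      ∀ Q : Ideal (Localization Sg), Q.IsMaximal ↔ (Q.IsPrime ∧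
        Maximal (fun r => r ∈ associatedPrimes S M) (Q.comap (algebraMap S (Localization Sg)))) := by
  have hdis : ∀ r ∈ associatedPrimes S M, Disjoint (Sg : Set S) (r : Set S) := fun r hr =>
    haveI : r.IsPrime := hr.1
    ((h r).mpr ⟨r, hr, le_rfl⟩).symm
  have key : ∀ Q : Ideal (Localization Sg), Q.IsMaximal ↔ (Q.IsPrime ∧
      Maximal (fun r => r ∈ associatedPrimes S M) (Q.comap (algebraMap S (Localization Sg)))) := by
    intro Q
    constructor
    · intro hQ
      have hp : Q.IsPrime := hQ.isPrime
      have h1 := (IsLocalization.isPrime_iff_isPrime_disjoint Sg (Localization Sg) Q).mp hp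
      have hcp : (Q.comap (algebraMap S (Localization Sg))).IsPrime := h1.1
      obtain ⟨r, hr, hle⟩ := (h (Q.comap (algebraMap S (Localization Sg)))).mp h1.2.symm
      have hmax : ∀ r ∈ associatedPrimes S M, Q.comap (algebraMap S (Localization Sg)) ≤ r →
          r = Q.comap (algebraMap S (Localization Sg)) := by
        intro r hr hle
        have : r.IsPrime := hr.1
        have hrp := IsLocalization.isPrime_of_isPrime_disjoint Sg (Localization Sg) r this (hdis r hr)
        have hQr : Q ≤ r.map (algebraMap S (Localization Sg)) := by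
          rw [← IsLocalization.map_comap Sg (Localization Sg) Q]; exact Ideal.map_mono hle
        rw [hQ.eq_of_le hrp.ne_top hQr]
        exact (IsLocalization.under_map_of_isPrime_disjoint Sg _ this (hdis r hr)).symm
      refine ⟨hp, hmax r hr hle ▸ hr, fun r hr hle => (hmax r hr hle).le⟩
    · rintro ⟨hp, hmem, hmax⟩
      refine ⟨hp.ne_top, fun J hJ => ?_⟩
      by_contra hne
      obtain ⟨m, hm, hJm⟩ := Ideal.exists_le_maximal J hne
      have h1 := (IsLocalization.isPrime_iff_isPrime_disjoint Sg (Localization Sg) m).mp hm.isPrime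
      have hcp : (m.comap (algebraMap S (Localization Sg))).IsPrime := h1.1
      obtain ⟨r, hr, hle⟩ := (h (m.comap (algebraMap S (Localization Sg)))).mp h1.2.symm
      refine hJ.not_ge (hJm.trans ?_)
      rw [← IsLocalization.map_comap Sg (Localization Sg) Q,
        ← IsLocalization.map_comap Sg (Localization Sg) m]
      exact Ideal.map_mono (hle.trans (hmax hr ((Ideal.comap_mono (hJ.le.trans hJm)).trans hle)))
  refine ⟨Set.Finite.of_finite_image (f := Ideal.comap (algebraMap S (Localization Sg)))
    (hfin.subset (by rintro _ ⟨Q, hQ, rfl⟩; exact ((key Q).mp hQ).2.1)) ?_, key⟩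
  intro a _ b _ hab
  rw [← IsLocalization.map_comap Sg (Localization Sg) a,
    ← IsLocalization.map_comap Sg (Localization Sg) b]
  exact congrArg (Ideal.map (algebraMap S (Localization Sg))) hab

attribute [local instance] Algebra.TensorProduct.rightAlgebra

open IsLocalRing in
/-- Let R be a local ring, S an R-algebra whose closed fibre ring is Noetherian and N an S-module whose
closed fibre module N/𝔪N is finite. Let Σ be the set of elements of S acting injectively on N/𝔪N.
Then a prime of S is disjoint from Σ exactly when it lies inside an associated prime of N/𝔪N (the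
primes of the localization at Σ), the localization of S at Σ has finitely many maximal ideals, and
an ideal of that localization is maximal exactly when it is prime and contracts to a maximal member
of the set of associated primes of N/𝔪N. -/
theorem result {R S : Type u} [CommRing R] [IsLocalRing R] [CommRing S] [Algebra R S]
    (N : Type u) [AddCommGroup N] [Module S N] [Module R N] [IsScalarTower R S N]
    [IsNoetherianRing ((maximalIdeal R).Fiber S)]
    [Module.Finite ((maximalIdeal R).Fiber S) (FlatCA.fiberMod (maximalIdeal R) S N)] :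
    (∀ (q : Ideal S) [q.IsPrime], Disjoint (q : Set S) (FlatCA.nzdFiber R S N) ↔
        ∃ q' ∈ associatedPrimes S (FlatCA.fiberMod (maximalIdeal R) S N), q ≤ q') ∧
    {Q : Ideal (Localization (FlatCA.nzdFiber R S N)) | Q.IsMaximal}.Finite ∧
    (∀ Q : Ideal (Localization (FlatCA.nzdFiber R S N)), Q.IsMaximal ↔ (Q.IsPrime ∧
        Maximal (fun r => r ∈ associatedPrimes S (FlatCA.fiberMod (maximalIdeal R) S N))
          (Q.comap (algebraMap S (Localization (FlatCA.nzdFiber R S N)))))) := by
  have : IsScalarTower S ((maximalIdeal R).Fiber S) (FlatCA.fiberMod (maximalIdeal R) S N) :=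
    inferInstanceAs (IsScalarTower S ((maximalIdeal R).Fiber S)
      (TensorProduct S ((maximalIdeal R).Fiber S) N))
  have hsurj : Function.Surjective (algebraMap S ((maximalIdeal R).Fiber S)) := by
    intro z
    induction z using TensorProduct.induction_on with
    | zero => exact ⟨0, map_zero _⟩
    | tmul c s =>
      obtain ⟨r, rfl⟩ := (maximalIdeal R).algebraMap_residueField_surjective c
      refine ⟨r • s, ?_⟩
      show TensorProduct.tmul R (1 : (maximalIdeal R).ResidueField) (r • s) = _
      rw [← TensorProduct.smul_tmul, Algebra.smul_def, mul_one]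
    | add x y hx hy =>
      obtain ⟨a, rfl⟩ := hx; obtain ⟨b, rfl⟩ := hy; exact ⟨a + b, map_add _ _ _⟩
  obtain ⟨hfin, h⟩ := main (M := FlatCA.fiberMod (maximalIdeal R) S N) hsurj
  exact ⟨h, loc _ hfin h⟩

end Groth.Agent.S1193
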