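import Groth.Statements.S0582
import Groth.Agent.Kaplansky.Basic

set_option autoImplicit false
universe u
open CAlg

namespace Groth.Agent.S0582

/-- A projective module, not necessarily finitely generated, over a local ring is free. -/
theorem result (R : Type u) [CommRing R] [IsLocalRing R] (P : Type u)
    [AddCommGroup P] [Module R P] [Module.Projective R P] : Module.Free R P := by
  classical
  obtain ⟨κ, _, L, hL, hc⟩ := Groth.Agent.Kaplansky.exists_decomposition_of_projective (R := R) P
  have hfree : ∀ k, Module.Free R (L k) := fun k ↦ by
    obtain ⟨r, hr⟩ := Groth.Agent.Kaplansky.summand hL k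
    have : Module.Projective R (L k) := Module.Projective.of_split (L k).subtype r hr
    exact Groth.Agent.Kaplansky.free_of_countable (L k) (hc k)
  exact Module.Free.of_basis (hL.collectedBasis fun k ↦ Module.Free.chooseBasis R (L k))

end Groth.Agent.S0582
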