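import Groth.Statements.S1219
import Groth.Agent.RGFlat.PureProjective

set_option autoImplicit false
universe u
open FlatMor

namespace Groth.Agent.S1219

open TensorProduct
open Groth.Agent.RGFlat.Impurity

attribute [local instance] Algebra.TensorProduct.rightAlgebra

/-- Over a local ring the relative assassin of a module which is projective over the base specializes to the
closed fibre. -/
theorem exists_above {R S : Type u} [CommRing R] [IsLocalRing R] [CommRing S] [Algebra R S] [Algebra.FiniteType R S]
    {M : Type u} [AddCommGroup M] [Module S M] [Module R M] [IsScalarTower R S M] [Module.Finite S M]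
    [Module.Projective R M] (t : Ideal R) [t.IsPrime] (P : Ideal S) [P.IsPrime] [P.LiesOver t]
    (hass : FlatCA.fiberIdeal t P ∈ associatedPrimes (t.Fiber S) (FlatCA.fiberMod t S M)) :
    ∃ Q : Ideal S, Q.IsPrime ∧ P ≤ Q ∧ Q.LiesOver (IsLocalRing.maximalIdeal R) := by
  classical
  let T := R ⧸ t
  haveI : Nontrivial T := Ideal.Quotient.nontrivial_iff.mpr (Ideal.IsPrime.ne_top inferInstance)
  haveI : IsLocalRing T := IsLocalRing.of_surjective' (Ideal.Quotient.mk t) Ideal.Quotient.mk_surjective
  let ST := T ⊗[R] S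
  let MT := ST ⊗[S] M
  haveI : IsScalarTower R S ST := IsScalarTower.of_algebraMap_eq fun a => by
    show algebraMap R T a ⊗ₜ[R] (1 : S) = (1 : T) ⊗ₜ[R] algebraMap R S a
    rw [Algebra.algebraMap_eq_smul_one, Algebra.algebraMap_eq_smul_one, TensorProduct.smul_tmul]
  have hcomap : (⊥ : Ideal T).comap (algebraMap R T) = t := by
    rw [Ideal.Quotient.algebraMap_eq, ← RingHom.ker_eq_comap_bot, Ideal.mk_ker]
  obtain ⟨P₂, hP₂, hover, hcom, hass₂⟩ := exists_assoc_baseChange (A₂ := T) M t (⊥ : Ideal T) hcomap P hass
  haveI := hover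
  haveI : Algebra.IsPushout R T S ST := inferInstance
  haveI : Module.Projective T MT :=
    Module.Projective.of_equiv (Algebra.IsPushout.cancelBaseChange R T S ST M).symm
  haveI : Module.Projective T (LocalizedModule (Submonoid.powers (1 : ST)) MT) := by
    haveI : IsLocalizedModule (Submonoid.powers (1 : ST)) (LinearMap.id : MT →ₗ[ST] MT) :=
      ⟨fun ⟨_, k, hk⟩ => by simp [← hk], fun y => ⟨⟨y, 1⟩, one_smul _ y⟩, fun {x y} h => ⟨1, congrArg _ h⟩⟩
    exact Module.Projective.of_equiv
      ((IsLocalizedModule.iso (Submonoid.powers (1 : ST)) (LinearMap.id : MT →ₗ[ST] MT)).restrictScalars T).symm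
  obtain ⟨Q, hQ, hle, hQm⟩ := exists_above_of_projective (1 : ST) P₂
    (fun h => hP₂.ne_top ((Ideal.eq_top_iff_one _).mpr h)) hass₂
  haveI := hQ
  haveI := hQm
  refine ⟨Q.comap (algebraMap S ST), Ideal.comap_isPrime _ _, hcom.ge.trans (Ideal.comap_mono hle), ⟨?_⟩⟩
  rw [Ideal.under_def, Ideal.comap_comap, ← IsScalarTower.algebraMap_eq, IsScalarTower.algebraMap_eq R T ST,
    ← Ideal.comap_comap, show Q.comap (algebraMap T ST) = IsLocalRing.maximalIdeal T from hQm.over.symm]
  haveI : IsLocalHom (algebraMap R T) := IsLocalHom.of_surjective _ Ideal.Quotient.mk_surjective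
  exact (IsLocalRing.maximalIdeal_comap (algebraMap R T)).symm

/-- For a finitely presented A-algebra B and a finitely presented B-module N flat over A, projectivity
of N over A is equivalent to purity of N, viewed on Spec B, over Spec A. -/
theorem result {A B : Type u} [CommRing A] [CommRing B] [Algebra A B] [Algebra.FinitePresentation A B]
    (N : Type u) [AddCommGroup N] [Module B N] [Module A N] [IsScalarTower A B N] [Module.FinitePresentation B N] [Module.Flat A N] :
    Module.Projective A N ↔ FlatCA.IsPure A B N := by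
  refine ⟨fun hproj p _ => ?_, fun hpure => projective_of_atPrime (B := B) N fun p _ =>
    projective_atPrime_of_pure (B := B) N p (hpure p)⟩
  haveI := hproj
  haveI : IsScalarTower A B (HP.Sp p B) := IsScalarTower.of_algebraMap_eq fun a => by
    show algebraMap A (HP.Hp p) a ⊗ₜ[A] (1 : B) = (1 : HP.Hp p) ⊗ₜ[A] algebraMap A B a
    rw [Algebra.algebraMap_eq_smul_one, Algebra.algebraMap_eq_smul_one, TensorProduct.smul_tmul]
  haveI : Algebra.IsPushout A (HP.Hp p) B (HP.Sp p B) := inferInstance
  haveI : Module.Projective (HP.Hp p) (HP.Sp p B ⊗[B] N) :=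
    Module.Projective.of_equiv (Algebra.IsPushout.cancelBaseChange A (HP.Hp p) B (HP.Sp p B) N).symm
  have huniv : FlatCA.IsUnivPureAlong A B N p :=
    isUnivPureAlong_of_specialization (fun q _ _ => RGFlat.flatAt_of_flat q) fun t' _ Q _ _ hass =>
      exists_above t' Q hass
  intro A' B' N' _ _ _ _ _ _ _ _ _ _ _ _ _ _ f t' t _ _ P _ _
  exact huniv A' B' N' f t' t P

end Groth.Agent.S1219
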