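import Groth.Statements.S1217
import Groth.Agent.RGFlat.Impurity
import Mathlib.RingTheory.Ideal.GoingDown
import Mathlib.RingTheory.Flat.Stability
import Mathlib.RingTheory.RingHom.Etale

set_option autoImplicit false
universe u
open FlatMor
attribute [local instance] Algebra.TensorProduct.rightAlgebra

namespace Groth.Agent.S1217

open TensorProduct Groth.Agent.RGFlat.Impurity

attribute [local instance] Algebra.TensorProduct.rightAlgebra

variable {A : Type u} [CommRing A]

/-- Lifting a specialisation in `A₁` to `A' ⊗ A₁` at a point over `p'`, for `A'` flat at `p'`. -/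
theorem exists_points (A' A₁ : Type u) [CommRing A'] [CommRing A₁] [Algebra A A'] [Algebra A A₁]
    (p' : Ideal A') [p'.IsPrime] [Module.Flat A (Localization.AtPrime p')] (t' t : Ideal A₁) [t'.IsPrime] [t.IsPrime]
    (htt : t' ≤ t) (L : Type u) [Field L] [Algebra A L] (α : A' →ₐ[A] L) (β : A₁ →ₐ[A] L)
    (hα : RingHom.ker α.toRingHom = p') (hβ : RingHom.ker β.toRingHom = t) :
    ∃ (s' s : Ideal (A' ⊗[A] A₁)) (_ : s'.IsPrime) (_ : s.IsPrime), s' ≤ s ∧
      s = RingHom.ker (Algebra.TensorProduct.lift α β fun _ _ => Commute.all _ _).toRingHom ∧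
      s'.comap (algebraMap A₁ (A' ⊗[A] A₁)) = t' ∧ s.comap (algebraMap A₁ (A' ⊗[A] A₁)) = t ∧ s.LiesOver p' := by
  have hunit : ∀ y : p'.primeCompl, IsUnit (α y) := fun y => by
    rw [isUnit_iff_ne_zero]
    intro h
    exact y.2 (hα ▸ (RingHom.mem_ker.mpr h : (y : A') ∈ RingHom.ker α.toRingHom))
  let αl : Localization.AtPrime p' →ₐ[A] L := IsLocalization.liftAlgHom (M := p'.primeCompl) (f := α) hunit
  let C := A₁ ⊗[A] Localization.AtPrime p'
  haveI : Module.Flat A₁ C := inferInstance
  let ψ : C →ₐ[A] L := Algebra.TensorProduct.lift β αl fun _ _ => Commute.all _ _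
  let S : Ideal C := RingHom.ker ψ.toRingHom
  haveI : S.IsPrime := RingHom.ker_isPrime _
  haveI hSt : S.LiesOver t := ⟨by
    ext x
    rw [← hβ, RingHom.mem_ker, Ideal.under_def, Ideal.mem_comap, RingHom.mem_ker]
    show β x = 0 ↔ ψ (x ⊗ₜ 1) = 0
    rw [Algebra.TensorProduct.lift_tmul, map_one, mul_one]⟩
  obtain ⟨S', hS'le, hS', hS'over⟩ := Ideal.exists_ideal_le_liesOver_of_le (R := A₁) (S := C) (p := t') (q := t) S htt
  let φ : A' ⊗[A] A₁ →ₐ[A] C := Algebra.TensorProduct.lift
    ((Algebra.TensorProduct.includeRight).comp (IsScalarTower.toAlgHom A A' (Localization.AtPrime p')))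
    Algebra.TensorProduct.includeLeft fun _ _ => Commute.all _ _
  have hφ : ψ.comp φ = Algebra.TensorProduct.lift α β fun _ _ => Commute.all _ _ := by
    refine Algebra.TensorProduct.ext (AlgHom.ext fun x => ?_) (AlgHom.ext fun y => ?_)
    · show ψ (φ (x ⊗ₜ 1)) = Algebra.TensorProduct.lift α β (fun _ _ => Commute.all _ _) (x ⊗ₜ 1)
      simp [ψ, φ, αl]
      rw [Algebra.TensorProduct.lift_tmul, map_one, one_mul]
      exact IsLocalization.lift_eq _ x
    · show ψ (φ (1 ⊗ₜ y)) = Algebra.TensorProduct.lift α β (fun _ _ => Commute.all _ _) (1 ⊗ₜ y)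
      rw [Algebra.TensorProduct.lift_tmul, map_one, one_mul]
      exact (Algebra.TensorProduct.lift_tmul _ _ _ y 1).trans (by rw [map_one, mul_one, Algebra.TensorProduct.lift_tmul, map_one, one_mul])
  have hs : S.comap φ.toRingHom = RingHom.ker (Algebra.TensorProduct.lift α β fun _ _ => Commute.all _ _).toRingHom := by
    rw [← hφ]; rfl
  have hA₁ : φ.toRingHom.comp (algebraMap A₁ (A' ⊗[A] A₁)) = algebraMap A₁ C := by
    ext y
    show φ (1 ⊗ₜ y) = y ⊗ₜ 1
    rw [Algebra.TensorProduct.lift_tmul, map_one, one_mul]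
    rfl
  refine ⟨S'.comap φ.toRingHom, S.comap φ.toRingHom, Ideal.comap_isPrime _ _, Ideal.comap_isPrime _ _,
    Ideal.comap_mono hS'le, hs, ?_, ?_, ⟨?_⟩⟩
  · rw [Ideal.comap_comap, hA₁, ← Ideal.under_def, ← hS'over.over]
  · rw [Ideal.comap_comap, hA₁, ← Ideal.under_def, ← hSt.over]
  · rw [hs, ← hα, Ideal.under_def, RingHom.comap_ker]
    congr 1
    ext x
    simp

end Groth.Agent.S1217

namespace Groth.Agent.S1217

/-- Ring form, X = Spec B affine: let B be a finite type A-algebra, N a finite B-module, p a prime of A,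
and A' an A-algebra with a prime p' over p such that the local ring of A' at p' is flat over A. Let
B', N' be the base changes of B, N to A'. If N' is pure along the fibre over p' then N is pure along
the fibre over p, and likewise for universal purity. -/
theorem result {A B : Type u} [CommRing A] [CommRing B] [Algebra A B] [Algebra.FiniteType A B]
    (N : Type u) [AddCommGroup N] [Module B N] [Module.Finite B N] (p : Ideal A) [p.IsPrime]
    (A' B' N' : Type u) [CommRing A'] [CommRing B'] [Algebra A A'] [Algebra B B'] [Algebra A' B'] [Algebra A B']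
    [IsScalarTower A B B'] [IsScalarTower A A' B'] [Algebra.IsPushout A B A' B']
    [AddCommGroup N'] [Module B' N'] [Module B N'] [IsScalarTower B B' N'] (f : N →ₗ[B] N') (hf : IsBaseChange B' f)
    (p' : Ideal A') [p'.IsPrime] [p'.LiesOver p] [Module.Flat A (Localization.AtPrime p')] :
    (FlatCA.IsPureAlong A' B' N' p' → FlatCA.IsPureAlong A B N p) ∧
    (FlatCA.IsUnivPureAlong A' B' N' p' → FlatCA.IsUnivPureAlong A B N p) := by
  classical
  constructor
  · intro hpure A₁ B₁ N₁ _ _ _ _ _ _ _ _ _ _ _ _ _ _ g t' t _ _ P _ hnhd himp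
    obtain ⟨het, hover, hbij⟩ := hnhd
    haveI := het
    let e := RingEquiv.ofBijective _ hbij
    let a := Ideal.ResidueField.mapₐ p p' (Algebra.ofId A A') (Ideal.LiesOver.over)
    let α : A' →ₐ[A] p'.ResidueField := IsScalarTower.toAlgHom A A' p'.ResidueField
    let β : A₁ →ₐ[A] p'.ResidueField :=
      (a.comp ((AlgEquiv.ofBijective (Ideal.ResidueField.mapₐ p t (Algebra.ofId A A₁) hover.over) hbij).symm : t.ResidueField →ₐ[A] p.ResidueField)).comp
        (IsScalarTower.toAlgHom A A₁ t.ResidueField)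
    have hα : RingHom.ker α.toRingHom = p' := Ideal.ext fun x => by
      rw [RingHom.mem_ker]; exact Ideal.algebraMap_residueField_eq_zero
    have hβ : RingHom.ker β.toRingHom = t := Ideal.ext fun x => by
      rw [RingHom.mem_ker]
      show a ((AlgEquiv.ofBijective _ hbij).symm (algebraMap A₁ t.ResidueField x)) = 0 ↔ _
      rw [show ∀ z, a z = 0 ↔ z = 0 from fun z => map_eq_zero_iff a.toRingHom (RingHom.injective a.toRingHom), EmbeddingLike.map_eq_zero_iff,
        Ideal.algebraMap_residueField_eq_zero]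
    obtain ⟨s', s, _, _, hss, hsker, hs', hs, hsp'⟩ :=
      exists_points A' A₁ p' t' t himp.2.2.1 p'.ResidueField α β hα hβ
    obtain ⟨B₂, N₂, _, _, _, _, _, _, _, _, _, _, _, _, g₂, P₂, _, himp₂⟩ :=
      Groth.Agent.RGFlat.Impurity.exists_isImpurity_baseChange himp (TensorProduct A A' A₁) s' s hss hs' hs
    obtain ⟨_, _, _, _, _, _, _, g', himp'⟩ := Groth.Agent.RGFlat.Impurity.exists_isImpurity_rebase f hf p' himp₂
    refine hpure (TensorProduct A A' A₁) B₂ N₂ g' s' s P₂ ⟨inferInstance, hsp', RingHom.injective _, fun z => ?_⟩ himp'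
    let l : TensorProduct A A' A₁ →ₐ[A'] p'.ResidueField :=
      { (Algebra.TensorProduct.lift α β fun _ _ => Commute.all _ _).toRingHom with
        commutes' := fun x => by
          show Algebra.TensorProduct.lift α β _ (x ⊗ₜ 1) = _
          rw [Algebra.TensorProduct.lift_tmul, map_one, mul_one]; rfl }
    let lk : s.ResidueField →ₐ[A'] p'.ResidueField := Ideal.ResidueField.liftₐ s l
      (fun x hx => hsker.le hx)
      (fun x hx => isUnit_iff_ne_zero.mpr fun h => hx (hsker.ge h))
    refine ⟨lk z, lk.toRingHom.injective ?_⟩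
    show lk (Ideal.ResidueField.mapₐ p' s (Algebra.ofId A' _) hsp'.over (lk z)) = lk z
    have : lk.comp (Ideal.ResidueField.mapₐ p' s (Algebra.ofId A' _) hsp'.over) = AlgHom.id A' _ :=
      Ideal.ResidueField.algHom_ext (Subsingleton.elim _ _)
    exact AlgHom.congr_fun this (lk z)
  · intro hpure A₁ B₁ N₁ _ _ _ _ _ _ _ _ _ _ _ _ _ _ g t' t _ _ P _ himp
    haveI := himp.2.2.2.1
    obtain ⟨L, _, _, α₀, β₀, -⟩ := Groth.Agent.RGFlat.Impurity.exists_field_maps p A' A₁ p' t
    have hα : RingHom.ker (α₀.comp (IsScalarTower.toAlgHom A A' p'.ResidueField)).toRingHom = p' :=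
      Ideal.ext fun x => by
        rw [RingHom.mem_ker]
        exact (map_eq_zero_iff _ (RingHom.injective α₀.toRingHom)).trans Ideal.algebraMap_residueField_eq_zero
    have hβ : RingHom.ker (β₀.comp (IsScalarTower.toAlgHom A A₁ t.ResidueField)).toRingHom = t :=
      Ideal.ext fun x => by
        rw [RingHom.mem_ker]
        exact (map_eq_zero_iff _ (RingHom.injective β₀.toRingHom)).trans Ideal.algebraMap_residueField_eq_zero
    obtain ⟨s', s, _, _, hss, -, hs', hs, hsp'⟩ := exists_points A' A₁ p' t' t himp.2.2.1 L _ _ hα hβ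
    obtain ⟨B₂, N₂, _, _, _, _, _, _, _, _, _, _, _, _, g₂, P₂, _, himp₂⟩ :=
      Groth.Agent.RGFlat.Impurity.exists_isImpurity_baseChange himp (TensorProduct A A' A₁) s' s hss hs' hs
    obtain ⟨_, _, _, _, _, _, _, g', himp'⟩ := Groth.Agent.RGFlat.Impurity.exists_isImpurity_rebase f hf p' himp₂
    exact hpure (TensorProduct A A' A₁) B₂ N₂ g' s' s P₂ himp'

end Groth.Agent.S1217
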