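import Groth.Statements.S1223
import Groth.Agent.RGFlat.PureFlat
import Groth.Agent.RGFlat.Generic
import Mathlib.RingTheory.Ideal.GoingDown

set_option autoImplicit false
universe u
open FlatMor

namespace Groth.Agent.S1223

open TensorProduct CategoryTheory Limits AlgebraicGeometry

attribute [local instance] Algebra.TensorProduct.rightAlgebra

/-- Every base change of `B` to a field over `A` is a domain. -/
theorem isDomain_tensor {A B : Type u} [CommRing A] [CommRing B] [Algebra A B]
    (h : FlatCA.GeomIntegralFibres A B) (K : Type u) [Field K] [Algebra A K] : IsDomain (K ⊗[A] B) := by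
  haveI : IsIntegral (pullback (Spec.map (CommRingCat.ofHom (algebraMap A B)))
      (Spec.map (CommRingCat.ofHom (algebraMap A K)))) :=
    pullback_of_geometrically h.geometrically_isIntegral K _
  haveI hI := IsIntegral.of_isIso (pullbackSpecIso A B K).hom
  haveI : IsDomain (B ⊗[A] K) := (affine_isIntegral_iff (CommRingCat.of (B ⊗[A] K))).mp hI
  exact (Algebra.TensorProduct.comm A K B).toRingEquiv.toMulEquiv.isDomain _

/-- The fibre rings of `B` over the henselization are domains. -/
theorem isDomain_fiber {A B : Type u} [CommRing A] [CommRing B] [Algebra A B]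
    (h : FlatCA.GeomIntegralFibres A B) (p : Ideal A) [p.IsPrime] (t : Ideal (HP.Hp p)) [t.IsPrime] :
    IsDomain (t.Fiber (HP.Sp p B)) := by
  haveI := isDomain_tensor h t.ResidueField
  exact (Algebra.TensorProduct.cancelBaseChange A (HP.Hp p) t.ResidueField t.ResidueField B).toRingEquiv.toMulEquiv.isDomain _

/-- Ring form, X = Spec B affine: a finite type, flat A-algebra B with geometrically integral fibres is
universally pure relative to Spec A. -/
theorem result {A B : Type u} [CommRing A] [CommRing B] [Algebra A B] [Algebra.FiniteType A B] [Module.Flat A B]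
    (h : FlatCA.GeomIntegralFibres A B) : FlatCA.IsUnivPure A B B := by
  classical
  intro p _
  refine RGFlat.Impurity.isUnivPureAlong_of_specialization (fun q _ _ => RGFlat.flatAt_of_flat q) ?_
  intro t' _ Q _ _ hass
  let Bh := HP.Sp p B
  let F := t'.Fiber Bh
  haveI : IsDomain F := isDomain_fiber h p t'
  haveI : IsDomain ((IsLocalRing.maximalIdeal (HP.Hp p)).Fiber Bh) := isDomain_fiber h p _
  let e : FlatCA.fiberMod t' Bh (Bh ⊗[B] B) ≃ₗ[F] F :=
    AlgebraTensorModule.congr (LinearEquiv.refl F F) (AlgebraTensorModule.rid B Bh Bh) ≪≫ₗ AlgebraTensorModule.rid Bh F F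
  rw [LinearEquiv.AssociatedPrimes.eq e] at hass
  have hbot : FlatCA.fiberIdeal t' Q = ⊥ := by
    obtain ⟨hP, x, hx⟩ := hass
    have hne : x ≠ 0 := by
      rintro rfl
      refine hP.ne_top ?_
      rw [hx]
      simp
    rw [eq_bot_iff]
    intro a ha
    rw [hx] at ha
    obtain ⟨n, hn⟩ := ha
    rw [Submodule.mem_colon_singleton, Submodule.mem_bot, smul_eq_mul] at hn
    rcases mul_eq_zero.mp hn with h0 | h0
    · exact pow_eq_zero_iff'.mp h0 |>.1
    · exact absurd h0 hne
  obtain ⟨P⟩ : Nonempty (PrimeSpectrum ((IsLocalRing.maximalIdeal (HP.Hp p)).Fiber Bh)) := inferInstance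
  obtain ⟨⟨Q0, hQ0p⟩, hQ0⟩ := (PrimeSpectrum.preimageEquivFiber (HP.Hp p) Bh
    (⟨IsLocalRing.maximalIdeal (HP.Hp p), inferInstance⟩ : PrimeSpectrum (HP.Hp p))).symm P
  haveI := hQ0p
  haveI hQ0o : Q0.LiesOver (IsLocalRing.maximalIdeal (HP.Hp p)) := ⟨(congrArg PrimeSpectrum.asIdeal hQ0).symm⟩
  obtain ⟨Q1, hle, hQ1, hQ1o⟩ := Ideal.exists_ideal_le_liesOver_of_le (S := Bh) (p := t')
    (q := IsLocalRing.maximalIdeal (HP.Hp p)) Q0 (IsLocalRing.le_maximalIdeal (Ideal.IsPrime.ne_top inferInstance))
  haveI := hQ1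
  haveI := hQ1o
  refine ⟨Q0, hQ0p, le_trans (fun x hx => ?_) hle, hQ0o⟩
  have h0 : (Algebra.TensorProduct.includeRight (R := HP.Hp p) (A := t'.ResidueField) (B := Bh)) x = 0 :=
    Ideal.mem_bot.mp (hbot ▸ Ideal.mem_map_of_mem _ hx)
  let θ := Algebra.TensorProduct.lift (Ideal.ResidueField.mapₐ t' Q1 (Algebra.ofId (HP.Hp p) Bh) (Ideal.over_def Q1 t'))
    (IsScalarTower.toAlgHom (HP.Hp p) Bh Q1.ResidueField) (fun _ _ => Commute.all _ _)
  have h1 : θ ((Algebra.TensorProduct.includeRight (R := HP.Hp p) (A := t'.ResidueField) (B := Bh)) x) = 0 := by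
    rw [h0, map_zero]
  rw [Algebra.TensorProduct.includeRight_apply, Algebra.TensorProduct.lift_tmul, map_one, one_mul] at h1
  exact Ideal.algebraMap_residueField_eq_zero.mp h1

end Groth.Agent.S1223
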