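import Groth.Statements.S12243
import Groth.Agent.S12231
import Groth.Agent.HP.DevStep
import Groth.Agent.FlatMor.FlatAtBC
import Groth.Agent.RG.FreeBlow
import Groth.Agent.RG.ContentExists
import Mathlib.LinearAlgebra.TensorProduct.Basis
import Mathlib.RingTheory.Smooth.Flat


set_option autoImplicit false
universe u
open FlatMor

namespace Groth.Agent.S12243


open _root_.TensorProduct

section Linear

variable {B B' M M' : Type u} [CommRing B] [CommRing B'] [Algebra B B'] [AddCommGroup M] [Module B M]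
  [AddCommGroup M'] [Module B' M'] [Module B M'] [IsScalarTower B B' M']

/-- Cokernels commute with base change. -/
theorem coker_baseChange {M₂ M₂' : Type u} [AddCommGroup M₂] [Module B M₂] [AddCommGroup M₂'] [Module B' M₂']
    [Module B M₂'] [IsScalarTower B B' M₂'] (g : M →ₗ[B] M') (hg : IsBaseChange B' g)
    (g₂ : M₂ →ₗ[B] M₂') (hg₂ : IsBaseChange B' g₂) (π : M →ₗ[B] M₂) (hπ : Function.Surjective π) :
    Nonempty ((M' ⧸ Submodule.span B' (g '' (LinearMap.ker π : Set M))) ≃ₗ[B'] M₂') := by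
  let π' := hg.lift (g₂.comp π)
  have hcomp : ∀ z, π' (hg.equiv z) = hg₂.equiv (π.baseChange B' z) := by
    intro z
    induction z using TensorProduct.induction_on with
    | zero => simp
    | tmul a x => rw [hg.equiv_tmul, map_smul, LinearMap.baseChange_tmul, hg₂.equiv_tmul, hg.lift_eq]; rfl
    | add x y hx hy => rw [map_add, map_add, map_add, map_add, hx, hy]
  have hsurj : Function.Surjective π' := by
    intro w
    obtain ⟨z, hz⟩ := LinearMap.lTensor_surjective B' hπ (hg₂.equiv.symm w)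
    refine ⟨hg.equiv z, (hcomp z).trans ?_⟩
    rw [show π.baseChange B' z = hg₂.equiv.symm w from hz, LinearEquiv.apply_symm_apply]
  have hker : LinearMap.ker π' = Submodule.span B' (g '' (LinearMap.ker π : Set M)) := by
    refine le_antisymm (fun w hw => ?_) (Submodule.span_le.mpr ?_)
    · obtain ⟨z, rfl⟩ := hg.equiv.surjective w
      have hz : π.lTensor B' z = 0 := hg₂.equiv.injective ((hcomp z).symm.trans (hw.trans (map_zero _).symm))
      obtain ⟨v, rfl⟩ := (lTensor_exact B' (LinearMap.exact_subtype_ker_map π) hπ z).mp hz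
      clear hw hz
      induction v using TensorProduct.induction_on with
      | zero => simp
      | tmul a x =>
        rw [LinearMap.lTensor_tmul, hg.equiv_tmul]
        exact Submodule.smul_mem _ _ (Submodule.subset_span ⟨x, x.2, rfl⟩)
      | add x y hx hy => rw [map_add, map_add]; exact add_mem hx hy
    · rintro _ ⟨x, hx, rfl⟩
      show π' (g x) = 0
      rw [hg.lift_eq, LinearMap.comp_apply, (show π x = 0 from hx), map_zero]
  exact ⟨(Submodule.quotEquivOfEq _ _ hker.symm).trans (π'.quotKerEquivOfSurjective hsurj)⟩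

/-- Bases of fibres are preserved by base change. -/
theorem bijective_baseChange_fibre (g : M →ₗ[B] M') (hg : IsBaseChange B' g) {r : ℕ}
    (α : (Fin r → B) →ₗ[B] M) (α' : (Fin r → B') →ₗ[B'] M')
    (hα' : ∀ i, α' (Pi.single i 1) = g (α (Pi.single i 1)))
    (κ κ' : Type u) [Field κ] [Field κ'] [Algebra B κ] [Algebra B' κ'] [Algebra B κ'] [IsScalarTower B B' κ']
    [Algebra κ κ'] [IsScalarTower B κ κ'] (hbij : Function.Bijective (α.baseChange κ)) :
    Function.Bijective (α'.baseChange κ') := by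
  classical
  let b := ((Pi.basisFun B (Fin r)).baseChange κ).map (LinearEquiv.ofBijective _ hbij)
  let L : κ' ⊗[κ] (κ ⊗[B] M) ≃ₗ[κ'] κ' ⊗[B'] M' :=
    AlgebraTensorModule.cancelBaseChange B κ κ' κ' M ≪≫ₗ
      (AlgebraTensorModule.cancelBaseChange B B' κ' κ' M).symm ≪≫ₗ
      AlgebraTensorModule.congr (LinearEquiv.refl κ' κ') hg.equiv
  let w := (b.baseChange κ').map L
  let e := (Pi.basisFun B' (Fin r)).baseChange κ'
  have : α'.baseChange κ' = (e.equiv w (Equiv.refl _)).toLinearMap := by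
    refine e.ext fun i => ?_
    rw [LinearEquiv.coe_coe, Module.Basis.equiv_apply, Equiv.refl_apply]
    simp [w, b, e, L, hα', hg.equiv_tmul]
  rw [this]
  exact (e.equiv w (Equiv.refl _)).bijective

end Linear

theorem isBaseChange_restrict {B B' A A' M M' : Type u} [CommRing B] [CommRing B'] [CommRing A] [CommRing A']
    [Algebra B B'] [Algebra B A] [Algebra B' A'] [Algebra B A'] [Algebra A A']
    [IsScalarTower B B' A'] [IsScalarTower B A A'] [Algebra.IsPushout B B' A A']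
    [AddCommGroup M] [Module A M] [Module B M] [IsScalarTower B A M]
    [AddCommGroup M'] [Module A' M'] [Module A M'] [IsScalarTower A A' M'] [Module B' M'] [IsScalarTower B' A' M']
    [Module B M'] [IsScalarTower B A M'] [IsScalarTower B B' M']
    (f : M →ₗ[A] M') (hf : IsBaseChange A' f) : IsBaseChange B' (f.restrictScalars B) :=
  IsBaseChange.of_equiv ((Algebra.IsPushout.cancelBaseChange B B' A A' M).symm ≪≫ₗ hf.equiv.restrictScalars B')
    fun x => by simp [Algebra.IsPushout.cancelBaseChange_symm_tmul, hf.equiv_tmul]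

section Stage

variable {R : Type u} [CommRing R] (R' : Type u) [CommRing R'] [Algebra R R']
  {S N : Type u} [CommRing S] [Algebra R S] [AddCommGroup N] [Module S N] {p : Ideal R} [p.IsPrime]
  (D : FlatCA.CompleteDevissage R S N p)

/-- Clamping of the index to the genuine steps. -/
def cI (i : ℕ) : ℕ := min i (D.n - 1)

theorem cI_eq {i : ℕ} (h : i < D.n) : cI D i = i := by unfold cI; omega

theorem cI_lt (i : ℕ) : cI D i < D.n := by have := D.pos; unfold cI; omega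

theorem cI_step (i : ℕ) : cI D (i + 1) = cI D i + 1 ∨ cI D (i + 1) = cI D i := by unfold cI; omega

/-- The map from a smooth algebra to a following ring. -/
noncomputable def phi (a b : ℕ) (h : b = a + 1 ∨ b = a) : D.B a →ₐ[R] D.A b :=
  if h1 : b = a + 1 then h1.symm ▸ IsScalarTower.toAlgHom R (D.B a) (D.A (a + 1))
  else (h.resolve_left h1).symm ▸ IsScalarTower.toAlgHom R (D.B a) (D.A a)

theorem phi_succ (a : ℕ) (h) : phi D a (a + 1) h = IsScalarTower.toAlgHom R (D.B a) (D.A (a + 1)) :=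
  dif_pos rfl

/-- Transport of rings along an equality of indices. -/
noncomputable def castA {i j : ℕ} (h : j = i) : D.A i →ₐ[R] D.A j := h ▸ AlgHom.id R (D.A i)

/-- Transport of rings along an equality of indices. -/
noncomputable def castB {i j : ℕ} (h : j = i) : D.B i →ₐ[R] D.B j := h ▸ AlgHom.id R (D.B i)

attribute [local instance] Algebra.TensorProduct.rightAlgebra

/-- The base-changed rings. -/
abbrev A' (i : ℕ) : Type u := R' ⊗[R] D.A (cI D i)

/-- The base-changed smooth algebras. -/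
abbrev B' (i : ℕ) : Type u := R' ⊗[R] D.B (cI D i)

/-- The base-changed modules. -/
abbrev M' (i : ℕ) : Type u := A' R' D i ⊗[D.A (cI D i)] D.M (cI D i)

theorem pushout_A {i j : ℕ} (h : j = i) :
    letI : Algebra (D.A i) (R' ⊗[R] D.A j) :=
      ((Algebra.TensorProduct.includeRight : D.A j →ₐ[R] R' ⊗[R] D.A j).comp (castA D h)).toRingHom.toAlgebra
    IsScalarTower R (D.A i) (R' ⊗[R] D.A j) ∧ Algebra.IsPushout R R' (D.A i) (R' ⊗[R] D.A j) := by
  subst h
  exact ⟨IsScalarTower.of_algebraMap_eq' ((Algebra.TensorProduct.includeRight : D.A j →ₐ[R] R' ⊗[R] D.A j).comp_algebraMap).symm,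
    TensorProduct.isPushout⟩

theorem pushout_B {i j : ℕ} (h : j = i) :
    letI : Algebra (D.B i) (R' ⊗[R] D.B j) :=
      ((Algebra.TensorProduct.includeRight : D.B j →ₐ[R] R' ⊗[R] D.B j).comp (castB D h)).toRingHom.toAlgebra
    IsScalarTower R (D.B i) (R' ⊗[R] D.B j) ∧ Algebra.IsPushout R R' (D.B i) (R' ⊗[R] D.B j) := by
  subst h
  exact ⟨IsScalarTower.of_algebraMap_eq' ((Algebra.TensorProduct.includeRight : D.B j →ₐ[R] R' ⊗[R] D.B j).comp_algebraMap).symm,
    TensorProduct.isPushout⟩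

theorem square_A {i j : ℕ} (h : j = i) (x : D.B i) :
    (Algebra.TensorProduct.map (AlgHom.id R' R') (IsScalarTower.toAlgHom R (D.B j) (D.A j))) ((1 : R') ⊗ₜ[R] castB D h x) =
      (1 : R') ⊗ₜ[R] castA D h (algebraMap (D.B i) (D.A i) x) := by
  subst h
  rfl

theorem square_A' {i a b : ℕ} (ha : a = i) (hb : b = i + 1) (hh) (x : D.B i) :
    (Algebra.TensorProduct.map (AlgHom.id R' R') (phi D a b hh)) ((1 : R') ⊗ₜ[R] castB D ha x) =
      (1 : R') ⊗ₜ[R] castA D hb (algebraMap (D.B i) (D.A (i + 1)) x) := by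
  subst ha hb
  rw [phi_succ]
  rfl

/-- The base change map of modules. -/
noncomputable def gMap {i j : ℕ} (h : j = i) : D.M i →+ (R' ⊗[R] D.A j) ⊗[D.A j] D.M j :=
  h ▸ ((TensorProduct.mk (D.A i) (R' ⊗[R] D.A i) (D.M i)) 1).toAddMonoidHom

theorem gMap_rfl (i : ℕ) (h : i = i) (x : D.M i) : gMap R' D h x = (1 : R' ⊗[R] D.A i) ⊗ₜ[D.A i] x := rfl

theorem gMap_smul {i j : ℕ} (h : j = i) (a : D.A i) (x : D.M i) :
    gMap R' D h (a • x) = ((1 : R') ⊗ₜ[R] castA D h a) • gMap R' D h x := by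
  subst h
  show (1 : R' ⊗[R] D.A j) ⊗ₜ[D.A j] (a • x) = ((1 : R') ⊗ₜ[R] a) • ((1 : R' ⊗[R] D.A j) ⊗ₜ[D.A j] x)
  rw [TensorProduct.smul_tmul', smul_eq_mul, mul_one, ← TensorProduct.smul_tmul, Algebra.smul_def, mul_one]
  rfl

set_option backward.isDefEq.respectTransparency.types false in
theorem gMap_isBaseChange {i j : ℕ} (h : j = i) [Algebra (D.A i) (R' ⊗[R] D.A j)]
    (ha : ∀ a, algebraMap (D.A i) (R' ⊗[R] D.A j) a = (1 : R') ⊗ₜ[R] castA D h a)
    [mX : Module (D.A i) ((R' ⊗[R] D.A j) ⊗[D.A j] D.M j)]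
    [@IsScalarTower (D.A i) (R' ⊗[R] D.A j) ((R' ⊗[R] D.A j) ⊗[D.A j] D.M j) Algebra.toSMul _ mX.toSMul]
    (g : D.M i →ₗ[D.A i] (R' ⊗[R] D.A j) ⊗[D.A j] D.M j) (hg : ∀ x, g x = gMap R' D h x) :
    IsBaseChange (R' ⊗[R] D.A j) g := by
  subst h
  rename_i inst _
  obtain rfl : inst = Algebra.TensorProduct.rightAlgebra := Algebra.algebra_ext _ _ ha
  refine IsBaseChange.of_equiv
    { toFun := id
      invFun := id
      left_inv := fun _ => rfl
      right_inv := fun _ => rfl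
      map_add' := fun _ _ => rfl
      map_smul' := fun _ _ => rfl } fun x => (hg x).symm

end Stage


set_option maxHeartbeats 1600000
attribute [local instance] Algebra.TensorProduct.rightAlgebra

open TensorProduct in
/-- All schemes are affine; the base-changed complete dévissage is asserted to exist with its pieces
pinned as base changes. Let R → S be of finite type, N a finite S-module, p a prime of R and 𝒟 a
complete dévissage of N/S/R over p in the prelude's algebraic form (rings A_i, smooth R-algebras B_i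
with pB_i prime and geometrically irreducible fibres, finite A_i-modules M_i with N ≅ M_0, maps α_i
from finite free B_i-modules, bijective on the fibre at pB_i, whose cokernels are the next modules,
the last one surjective; steps indexed by i below the length). Let R → R' be a ring map, p' a prime
of R' over p, S' the base change of S and N' = N ⊗_S S'. Then N'/S'/R' has a complete dévissage 𝒟'
over p' of the same length and the same ranks whose pieces are base changes of those of 𝒟: for the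
steps i below the length there are algebra structures making A'_i and B'_i the base changes of A_i
and B_i along R → R', compatibly with B_i → A_i, with B_i → A_{i+1}, with S → A_0 and with S' →
A'_0, and A_i-linear base-change maps M_i → M'_i (M'_i ≅ M_i ⊗_{A_i} A'_i) carrying N ≅ M_0 to N' ≅
M'_0 and the image of α_i onto a generating set of the image of α'_i. (The published statement
base-changes all the data functorially; here the identifications of cokernels inside 𝒟' are not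
required to be the base-changed ones.) -/
theorem result
    (R S : Type u) [CommRing R] [CommRing S] [Algebra R S] [Algebra.FiniteType R S]
    (N : Type u) [AddCommGroup N] [Module S N] [Module.Finite S N]
    (p : Ideal R) [p.IsPrime] (𝒟 : FlatCA.CompleteDevissage R S N p)
    (R' : Type u) [CommRing R'] [Algebra R R'] (p' : Ideal R') [p'.IsPrime] [p'.LiesOver p]
    (S' : Type u) [CommRing S'] [Algebra R' S'] [Algebra R S'] [Algebra S S'] [IsScalarTower R R' S']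
    [IsScalarTower R S S'] [Algebra.IsPushout R R' S S']
    (N' : Type u) [AddCommGroup N'] [Module S' N'] [Module S N'] [IsScalarTower S S' N']
    (f : N →ₗ[S] N') (hf : IsBaseChange S' f) :
    ∃ (𝒟' : FlatCA.CompleteDevissage R' S' N' p')
      (aA : ∀ i : Fin 𝒟.n, Algebra (𝒟.A i) (𝒟'.A i)) (rA : ∀ i : Fin 𝒟.n, Algebra R (𝒟'.A i))
      (_t1 : ∀ i : Fin 𝒟.n, IsScalarTower R (R') (𝒟'.A i)) (_t2 : ∀ i : Fin 𝒟.n, IsScalarTower R (𝒟.A i) (𝒟'.A i))
      (aB : ∀ i : Fin 𝒟.n, Algebra (𝒟.B i) (𝒟'.B i)) (rB : ∀ i : Fin 𝒟.n, Algebra R (𝒟'.B i))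
      (_t3 : ∀ i : Fin 𝒟.n, IsScalarTower R (R') (𝒟'.B i)) (_t4 : ∀ i : Fin 𝒟.n, IsScalarTower R (𝒟.B i) (𝒟'.B i))
      (bA : ∀ i : Fin 𝒟.n, Algebra (𝒟.B i) (𝒟'.A i)) (_t5 : ∀ i : Fin 𝒟.n, IsScalarTower (𝒟.B i) (𝒟.A i) (𝒟'.A i))
      (_t6 : ∀ i : Fin 𝒟.n, IsScalarTower (𝒟.B i) (𝒟'.B i) (𝒟'.A i))
      (bA' : ∀ i : Fin 𝒟.n, Algebra (𝒟.B i) (𝒟'.A (i + 1)))
      (_t7 : ∀ i : Fin 𝒟.n, IsScalarTower (𝒟.B i) (𝒟'.B i) (𝒟'.A (i + 1)))
      (sA : Algebra S (𝒟'.A 0)) (_t8 : IsScalarTower S (S') (𝒟'.A 0))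
      (mA : ∀ i : Fin 𝒟.n, Module (𝒟.A i) (𝒟'.M i)) (_t9 : ∀ i : Fin 𝒟.n, IsScalarTower (𝒟.A i) (𝒟'.A i) (𝒟'.M i))
      (gM : ∀ i : Fin 𝒟.n, 𝒟.M i →ₗ[𝒟.A i] 𝒟'.M i),
      𝒟'.n = 𝒟.n ∧ 𝒟'.r = 𝒟.r ∧
      (letI := aA ⟨0, 𝒟.pos⟩; IsScalarTower S (𝒟.A 0) (𝒟'.A 0)) ∧
      (∀ x : N, 𝒟'.isoN (f x) = gM ⟨0, 𝒟.pos⟩ (𝒟.isoN x)) ∧
      (∀ (i : Fin 𝒟.n) (h : (i : ℕ) + 1 < 𝒟.n),
        letI := aA ⟨i + 1, h⟩; IsScalarTower (𝒟.B i) (𝒟.A (i + 1)) (𝒟'.A (i + 1))) ∧
      ∀ i : Fin 𝒟.n,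
        Algebra.IsPushout R R' (𝒟.A i) (𝒟'.A i) ∧ Algebra.IsPushout R R' (𝒟.B i) (𝒟'.B i) ∧
        IsBaseChange (𝒟'.A i) (gM i) ∧
        LinearMap.range (𝒟'.α i) =
          Submodule.span (𝒟'.B i) ((gM i) '' (LinearMap.range (𝒟.α i) : Set (𝒟.M i))) := by
  classical
  letI instR : Algebra R (R' ⊗[R] S) := inferInstance
  let A₁ := A' R' 𝒟
  let B₁ := B' R' 𝒟
  let M₁ := M' R' 𝒟
  letI aBA : ∀ i, Algebra (B₁ i) (A₁ i) := fun i =>
    (Algebra.TensorProduct.map (AlgHom.id R' R') (IsScalarTower.toAlgHom R (𝒟.B (cI 𝒟 i)) (𝒟.A (cI 𝒟 i)))).toRingHom.toAlgebra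
  haveI tRBA : ∀ i, IsScalarTower R' (B₁ i) (A₁ i) := fun i => IsScalarTower.of_algebraMap_eq fun x => (AlgHom.commutes _ x).symm
  letI aBA' : ∀ i, Algebra (B₁ i) (A₁ (i + 1)) := fun i =>
    (Algebra.TensorProduct.map (AlgHom.id R' R') (phi 𝒟 (cI 𝒟 i) (cI 𝒟 (i + 1)) (cI_step 𝒟 i))).toRingHom.toAlgebra
  haveI tRBA' : ∀ i, IsScalarTower R' (B₁ i) (A₁ (i + 1)) := fun i => IsScalarTower.of_algebraMap_eq fun x => (AlgHom.commutes _ x).symm
  let eS : R' ⊗[R] S ≃ₐ[R'] S' := Algebra.IsPushout.equiv R R' S S'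
  let ψ : S' →ₐ[R'] A₁ 0 :=
    (Algebra.TensorProduct.map (AlgHom.id R' R') (IsScalarTower.toAlgHom R S (𝒟.A 0))).comp eS.symm.toAlgHom
  letI aSA : Algebra S' (A₁ 0) := ψ.toRingHom.toAlgebra
  haveI tRSA : IsScalarTower R' S' (A₁ 0) := IsScalarTower.of_algebraMap_eq' ψ.comp_algebraMap.symm
  letI mBM : ∀ i, Module (B₁ i) (M₁ i) := fun i => inferInstance
  haveI tBAM : ∀ i, IsScalarTower (B₁ i) (A₁ i) (M₁ i) := fun i => inferInstance
  letI mRM : ∀ i, Module R' (M₁ i) := fun i => inferInstance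
  haveI tRBM : ∀ i, IsScalarTower R' (B₁ i) (M₁ i) := fun i => inferInstance
  letI mSM : Module S' (M₁ 0) := inferInstance
  haveI tSAM : IsScalarTower S' (A₁ 0) (M₁ 0) := inferInstance
  letI mB'M : ∀ i, Module (B₁ i) (M₁ (i + 1)) := fun i => inferInstance
  haveI tB'AM : ∀ i, IsScalarTower (B₁ i) (A₁ (i + 1)) (M₁ (i + 1)) := fun i => inferInstance
  -- the structures over the old rings
  let j : ∀ i : Fin 𝒟.n, cI 𝒟 i = i := fun i => cI_eq 𝒟 i.2
  letI aA : ∀ i : Fin 𝒟.n, Algebra (𝒟.A i) (A₁ i) := fun i =>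
    ((Algebra.TensorProduct.includeRight : 𝒟.A (cI 𝒟 i) →ₐ[R] A₁ i).comp (castA 𝒟 (j i))).toRingHom.toAlgebra
  letI aB : ∀ i : Fin 𝒟.n, Algebra (𝒟.B i) (B₁ i) := fun i =>
    ((Algebra.TensorProduct.includeRight : 𝒟.B (cI 𝒟 i) →ₐ[R] B₁ i).comp (castB 𝒟 (j i))).toRingHom.toAlgebra
  haveI t2 : ∀ i : Fin 𝒟.n, IsScalarTower R (𝒟.A i) (A₁ i) := fun i => (pushout_A R' 𝒟 (j i)).1
  haveI t4 : ∀ i : Fin 𝒟.n, IsScalarTower R (𝒟.B i) (B₁ i) := fun i => (pushout_B R' 𝒟 (j i)).1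
  haveI poA : ∀ i : Fin 𝒟.n, Algebra.IsPushout R R' (𝒟.A i) (A₁ i) := fun i => (pushout_A R' 𝒟 (j i)).2
  haveI poB : ∀ i : Fin 𝒟.n, Algebra.IsPushout R R' (𝒟.B i) (B₁ i) := fun i => (pushout_B R' 𝒟 (j i)).2
  letI bA : ∀ i : Fin 𝒟.n, Algebra (𝒟.B i) (A₁ i) := fun i =>
    ((algebraMap (B₁ i) (A₁ i)).comp (algebraMap (𝒟.B i) (B₁ i))).toAlgebra
  haveI t6 : ∀ i : Fin 𝒟.n, IsScalarTower (𝒟.B i) (B₁ i) (A₁ i) := fun i => IsScalarTower.of_algebraMap_eq fun _ => rfl
  haveI t5 : ∀ i : Fin 𝒟.n, IsScalarTower (𝒟.B i) (𝒟.A i) (A₁ i) := fun i =>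
    IsScalarTower.of_algebraMap_eq fun x => square_A R' 𝒟 (j i) x
  letI bA' : ∀ i : Fin 𝒟.n, Algebra (𝒟.B i) (A₁ (i + 1)) := fun i =>
    ((algebraMap (B₁ i) (A₁ (i + 1))).comp (algebraMap (𝒟.B i) (B₁ i))).toAlgebra
  haveI t7 : ∀ i : Fin 𝒟.n, IsScalarTower (𝒟.B i) (B₁ i) (A₁ (i + 1)) := fun i => IsScalarTower.of_algebraMap_eq fun _ => rfl
  letI aA1 : ∀ (i : Fin 𝒟.n) (h : (i : ℕ) + 1 < 𝒟.n), Algebra (𝒟.A (i + 1)) (A₁ (i + 1)) := fun i h => aA ⟨i + 1, h⟩
  have t10 : ∀ (i : Fin 𝒟.n) (h : (i : ℕ) + 1 < 𝒟.n),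
      letI := aA1 i h; IsScalarTower (𝒟.B i) (𝒟.A (i + 1)) (A₁ (i + 1)) := fun i h =>
    letI := aA1 i h
    IsScalarTower.of_algebraMap_eq fun x => square_A' R' 𝒟 (j i) (j ⟨i + 1, h⟩) (cI_step 𝒟 i) x
  letI mA : ∀ i : Fin 𝒟.n, Module (𝒟.A i) (M₁ i) := fun i => inferInstance
  haveI t9 : ∀ i : Fin 𝒟.n, IsScalarTower (𝒟.A i) (A₁ i) (M₁ i) := fun i => inferInstance
  let gM : ∀ i : Fin 𝒟.n, 𝒟.M i →ₗ[𝒟.A i] M₁ i := fun i =>
    { toFun := gMap R' 𝒟 (j i)
      map_add' := map_add _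
      map_smul' := fun a x => gMap_smul R' 𝒟 (j i) a x }
  have hgM : ∀ i : Fin 𝒟.n, IsBaseChange (A₁ i) (gM i) := fun i => gMap_isBaseChange R' 𝒟 (j i) (fun _ => rfl) (gM i) fun _ => rfl
  letI mBM0 : ∀ i : Fin 𝒟.n, Module (𝒟.B i) (M₁ i) := fun i => inferInstance
  haveI : ∀ i : Fin 𝒟.n, IsScalarTower (𝒟.B i) (𝒟.A i) (M₁ i) := fun i => inferInstance
  haveI : ∀ i : Fin 𝒟.n, IsScalarTower (𝒟.B i) (B₁ i) (M₁ i) := fun i => inferInstance
  haveI poBA : ∀ i : Fin 𝒟.n, Algebra.IsPushout (𝒟.B i) (B₁ i) (𝒟.A i) (A₁ i) := fun i =>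
    haveI : IsScalarTower R (B₁ i) (A₁ i) := IsScalarTower.of_algebraMap_eq fun x => by
      rw [IsScalarTower.algebraMap_apply R R' (A₁ i), IsScalarTower.algebraMap_apply R' (B₁ i) (A₁ i),
        ← IsScalarTower.algebraMap_apply R R' (B₁ i)]
    haveI : Algebra.IsPushout R (𝒟.B i) R' (B₁ i) := Algebra.IsPushout.symm inferInstance
    Algebra.IsPushout.symm ((Algebra.IsPushout.comp_iff (R := R) (S := 𝒟.B i) (R' := R') (S' := B₁ i)
      (T := 𝒟.A i) (T' := A₁ i)).mp (Algebra.IsPushout.symm inferInstance))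
  have hgB : ∀ i : Fin 𝒟.n, IsBaseChange (B₁ i) ((gM i).restrictScalars (𝒟.B i)) := fun i =>
    isBaseChange_restrict (gM i) (hgM i)
  let α' : ∀ i, (Fin (𝒟.r i) → B₁ i) →ₗ[B₁ i] M₁ i := fun i =>
    if h : i < 𝒟.n then Fintype.linearCombination (B₁ i) (fun m => gM ⟨i, h⟩ (𝒟.α i (Pi.single m 1))) else 0
  have hα' : ∀ (i : Fin 𝒟.n) m, α' i (Pi.single m 1) = gM i (𝒟.α i (Pi.single m 1)) := fun i m => by
    simp only [α', dif_pos i.2]
    rw [Fintype.linearCombination_apply_single, one_smul]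
  have hrange : ∀ i : Fin 𝒟.n, LinearMap.range (α' i) =
      Submodule.span (B₁ i) ((gM i) '' (LinearMap.range (𝒟.α i) : Set (𝒟.M i))) := fun i => by
    refine le_antisymm ?_ (Submodule.span_le.mpr ?_)
    · rintro _ ⟨v, rfl⟩
      rw [pi_eq_sum_univ' v, map_sum]
      refine Submodule.sum_mem _ fun m _ => ?_
      rw [map_smul, hα']
      exact Submodule.smul_mem _ _ (Submodule.subset_span ⟨_, ⟨_, rfl⟩, rfl⟩)
    · rintro _ ⟨_, ⟨v, rfl⟩, rfl⟩
      rw [pi_eq_sum_univ' v, map_sum, map_sum]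
      refine Submodule.sum_mem _ fun m _ => ?_
      rw [map_smul]
      show ((gM i).restrictScalars (𝒟.B i)) _ ∈ _
      rw [map_smul, ← algebraMap_smul (B₁ i), LinearMap.restrictScalars_apply]
      exact Submodule.smul_mem _ _ ⟨Pi.single m 1, hα' i m⟩
  haveI hsm : ∀ i, Algebra.Smooth R (𝒟.B (cI 𝒟 i)) := fun i => 𝒟.smooth _ (cI_lt 𝒟 i)
  have hdom : ∀ i (K : Type u) [Field K] [Algebra R K], IsDomain (K ⊗[R] 𝒟.B (cI 𝒟 i)) := fun i =>
    RG.ContentExists.isDomain_fibre (HP.DevStep.geomIntegral (𝒟.geomIrred _ (cI_lt 𝒟 i)))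
  haveI hp₁ : ∀ i, (p'.map (algebraMap R' (B₁ i))).IsPrime := fun i =>
    haveI : Algebra.IsPushout R (𝒟.B (cI 𝒟 i)) R' (B₁ i) := Algebra.IsPushout.symm inferInstance
    RG.FreeBlow.isPrime_map (S := 𝒟.B (cI 𝒟 i)) (hdom i) R' (B₁ i) p'
  letI sA : Algebra S (A₁ 0) := ((algebraMap S' (A₁ 0)).comp (algebraMap S S')).toAlgebra
  haveI t8 : IsScalarTower S S' (A₁ 0) := IsScalarTower.of_algebraMap_eq fun _ => rfl
  let i₀ : Fin 𝒟.n := ⟨0, 𝒟.pos⟩
  letI aA0 : Algebra (𝒟.A 0) (A₁ 0) := aA i₀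
  haveI t11 : IsScalarTower S (𝒟.A 0) (A₁ 0) := IsScalarTower.of_algebraMap_eq fun s => by
    show ψ (algebraMap S S' s) = (1 : R') ⊗ₜ[R] algebraMap S (𝒟.A 0) s
    show (Algebra.TensorProduct.map (AlgHom.id R' R') (IsScalarTower.toAlgHom R S (𝒟.A 0))) (eS.symm (algebraMap S S' s)) = _
    rw [Algebra.IsPushout.equiv_symm_algebraMap_right]
    rfl
  haveI : IsScalarTower R (𝒟.A 0) (A₁ 0) := t2 i₀
  haveI : Algebra.IsPushout R R' (𝒟.A 0) (A₁ 0) := poA i₀
  haveI : IsScalarTower R S' (A₁ 0) := IsScalarTower.of_algebraMap_eq fun x => by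
    rw [IsScalarTower.algebraMap_apply R R' (A₁ 0), IsScalarTower.algebraMap_apply R' S' (A₁ 0),
      ← IsScalarTower.algebraMap_apply R R' S']
  haveI : Algebra.IsPushout S S' (𝒟.A 0) (A₁ 0) :=
    haveI : Algebra.IsPushout R S R' S' := Algebra.IsPushout.symm inferInstance
    Algebra.IsPushout.symm ((Algebra.IsPushout.comp_iff (R := R) (S := S) (R' := R') (S' := S')
      (T := 𝒟.A 0) (T' := A₁ 0)).mp (Algebra.IsPushout.symm inferInstance))
  haveI : IsScalarTower (𝒟.A 0) (A₁ 0) (M₁ 0) := inferInstance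
  let g₀ : 𝒟.M 0 →ₗ[𝒟.A 0] M₁ 0 := gM i₀
  have hg₀ : IsBaseChange (A₁ 0) g₀ := hgM i₀
  let eN : N' ≃ₗ[S'] M₁ 0 := hf.equiv.symm ≪≫ₗ 𝒟.isoN.baseChange S S' ≪≫ₗ
    (Algebra.IsPushout.cancelBaseChange S S' (𝒟.A 0) (A₁ 0) (𝒟.M 0)).symm ≪≫ₗ hg₀.equiv.restrictScalars S'
  have hcoker : ∀ i, i + 1 < 𝒟.n → Nonempty ((M₁ i ⧸ LinearMap.range (α' i)) ≃ₗ[B₁ i] M₁ (i + 1)) := by
    intro i hi
    obtain ⟨k, rfl⟩ : ∃ k : Fin 𝒟.n, (k : ℕ) = i := ⟨⟨i, by omega⟩, rfl⟩
    let k' : Fin 𝒟.n := ⟨k + 1, hi⟩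
    letI := aA1 k hi
    haveI := t10 k hi
    haveI : IsScalarTower R (𝒟.A (k + 1)) (A₁ (k + 1)) := t2 k'
    haveI : Algebra.IsPushout R R' (𝒟.A (k + 1)) (A₁ (k + 1)) := poA k'
    haveI : IsScalarTower R (B₁ k) (A₁ (k + 1)) := IsScalarTower.of_algebraMap_eq fun x => by
      rw [IsScalarTower.algebraMap_apply R R' (A₁ (k + 1)), IsScalarTower.algebraMap_apply R' (B₁ k) (A₁ (k + 1)),
        ← IsScalarTower.algebraMap_apply R R' (B₁ k)]
    haveI : Algebra.IsPushout (𝒟.B k) (B₁ k) (𝒟.A (k + 1)) (A₁ (k + 1)) :=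
      haveI : Algebra.IsPushout R (𝒟.B k) R' (B₁ k) := Algebra.IsPushout.symm inferInstance
      Algebra.IsPushout.symm ((Algebra.IsPushout.comp_iff (R := R) (S := 𝒟.B k) (R' := R') (S' := B₁ k)
        (T := 𝒟.A (k + 1)) (T' := A₁ (k + 1))).mp (Algebra.IsPushout.symm inferInstance))
    haveI : IsScalarTower (𝒟.A (k + 1)) (A₁ (k + 1)) (M₁ (k + 1)) := inferInstance
    haveI : IsScalarTower (𝒟.B k) (B₁ k) (M₁ (k + 1)) := inferInstance
    haveI : IsScalarTower (𝒟.B k) (𝒟.A (k + 1)) (M₁ (k + 1)) := inferInstance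
    let g₂ : 𝒟.M (k + 1) →ₗ[𝒟.A (k + 1)] M₁ (k + 1) := gM k'
    have hg₂ : IsBaseChange (A₁ (k + 1)) g₂ := hgM k'
    let π : 𝒟.M k →ₗ[𝒟.B k] 𝒟.M (k + 1) := (𝒟.isoCoker k hi).toLinearMap ∘ₗ (LinearMap.range (𝒟.α k)).mkQ
    have hπ : Function.Surjective π := (𝒟.isoCoker k hi).surjective.comp (Submodule.mkQ_surjective _)
    have hker : LinearMap.ker π = LinearMap.range (𝒟.α k) := by
      rw [LinearMap.ker_comp, LinearEquiv.ker, Submodule.comap_bot, Submodule.ker_mkQ]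
    obtain ⟨e⟩ := coker_baseChange ((gM k).restrictScalars (𝒟.B k)) (hgB k) (g₂.restrictScalars (𝒟.B k))
      (isBaseChange_restrict g₂ hg₂) π hπ
    rw [hker] at e
    exact ⟨(Submodule.quotEquivOfEq _ _ (hrange k)).trans e⟩
  let D' : FlatCA.CompleteDevissage R' S' N' p' :=
    { n := 𝒟.n, pos := 𝒟.pos, A := A₁, B := B₁, M := M₁, r := 𝒟.r, α := α'
      aBA := aBA, tRBA := tRBA, aSA := aSA, tRSA := tRSA, aBA' := aBA', tRBA' := tRBA'
      mBM := mBM, tBAM := tBAM, mRM := mRM, tRBM := tRBM, mSM := mSM, tSAM := tSAM, mB'M := mB'M, tB'AM := tB'AM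
      hp := hp₁
      surjSA := by
        show Function.Surjective ψ
        exact (Algebra.TensorProduct.map_surjective (AlgHom.id R' R') _ Function.surjective_id 𝒟.surjSA).comp eS.symm.surjective
      fpSA := by
        haveI := 𝒟.fpSA
        exact Algebra.FinitePresentation.equiv (Algebra.IsPushout.equiv S S' (𝒟.A 0) (A₁ 0))
      surjBA' := fun i hi => by
        refine Algebra.TensorProduct.map_surjective (AlgHom.id R' R') _ Function.surjective_id ?_
        have key : ∀ a b hh, a = i → b = i + 1 → Function.Surjective (phi 𝒟 a b hh) := by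
          rintro a b hh rfl rfl
          rw [phi_succ]
          exact 𝒟.surjBA' a hi
        exact key _ _ _ (cI_eq 𝒟 (by omega)) (cI_eq 𝒟 hi)
      fpBA' := fun i hi => by
        obtain ⟨k, rfl⟩ : ∃ k : Fin 𝒟.n, (k : ℕ) = i := ⟨⟨i, by omega⟩, rfl⟩
        letI := aA1 k hi
        haveI := t10 k hi
        haveI : IsScalarTower R (𝒟.A (k + 1)) (A₁ (k + 1)) := t2 ⟨k + 1, hi⟩
        haveI : Algebra.IsPushout R R' (𝒟.A (k + 1)) (A₁ (k + 1)) := poA ⟨k + 1, hi⟩
        haveI : IsScalarTower R (B₁ k) (A₁ (k + 1)) := IsScalarTower.of_algebraMap_eq fun x => by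
          rw [IsScalarTower.algebraMap_apply R R' (A₁ (k + 1)), IsScalarTower.algebraMap_apply R' (B₁ k) (A₁ (k + 1)),
            ← IsScalarTower.algebraMap_apply R R' (B₁ k)]
        haveI : Algebra.IsPushout (𝒟.B k) (B₁ k) (𝒟.A (k + 1)) (A₁ (k + 1)) :=
          haveI : Algebra.IsPushout R (𝒟.B k) R' (B₁ k) := Algebra.IsPushout.symm inferInstance
          Algebra.IsPushout.symm ((Algebra.IsPushout.comp_iff (R := R) (S := 𝒟.B k) (R' := R') (S' := B₁ k)
            (T := 𝒟.A (k + 1)) (T' := A₁ (k + 1))).mp (Algebra.IsPushout.symm inferInstance))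
        haveI := 𝒟.fpBA' k hi
        exact Algebra.FinitePresentation.equiv (Algebra.IsPushout.equiv (𝒟.B k) (B₁ k) (𝒟.A (k + 1)) (A₁ (k + 1)))
      finiteBA := fun i hi => by
        obtain ⟨k, rfl⟩ : ∃ k : Fin 𝒟.n, (k : ℕ) = i := ⟨⟨i, hi⟩, rfl⟩
        haveI := 𝒟.finiteBA k hi
        exact Module.Finite.equiv (Algebra.IsPushout.equiv (𝒟.B k) (B₁ k) (𝒟.A k) (A₁ k)).toLinearEquiv
      smooth := fun i _ => inferInstance
      geomIrred := fun i _ => S12231.of_isPushout_spec _ R R' (𝒟.B (cI 𝒟 i)) (B₁ i) (𝒟.geomIrred _ (cI_lt 𝒟 i))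
      finiteM := fun i _ => by
        haveI := 𝒟.finiteM _ (cI_lt 𝒟 i)
        exact inferInstanceAs (Module.Finite (A₁ i) (A₁ i ⊗[𝒟.A (cI 𝒟 i)] 𝒟.M (cI 𝒟 i)))
      isoN := eN
      isoCoker := fun i hi => (hcoker i hi).some
      fibreIso := fun i hi => by
        obtain ⟨k, rfl⟩ : ∃ k : Fin 𝒟.n, (k : ℕ) = i := ⟨⟨i, hi⟩, rfl⟩
        let P := p.map (algebraMap R (𝒟.B k))
        let P' := p'.map (algebraMap R' (B₁ k))
        haveI : P.IsPrime := 𝒟.hp k
        haveI : P'.IsPrime := hp₁ k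
        have hPP : P = P'.comap (algebraMap (𝒟.B k) (B₁ k)) := by
          refine le_antisymm (Ideal.map_le_iff_le_comap.mpr ?_) ?_
          · intro x hx
            show algebraMap (𝒟.B k) (B₁ k) (algebraMap R (𝒟.B k) x) ∈ P'
            rw [← IsScalarTower.algebraMap_apply, IsScalarTower.algebraMap_apply R R' (B₁ k)]
            exact Ideal.mem_map_of_mem _ ((Ideal.mem_of_liesOver p' p x).mp hx)
          · obtain ⟨Q₀, hQ₀⟩ := (⟨P, rfl⟩ : ∃ Q, Q = P)
            haveI : Algebra.IsPushout R (𝒟.B k) R' (B₁ k) := Algebra.IsPushout.symm inferInstance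
            have hPc : P.comap (algebraMap R (𝒟.B k)) = p := by
              haveI := 𝒟.smooth k hi
              haveI : AlgebraicGeometry.GeometricallyIrreducible
                  (AlgebraicGeometry.Spec.map (CommRingCat.ofHom (algebraMap R (𝒟.B k)))) := 𝒟.geomIrred k hi
              obtain ⟨Q, hQ⟩ := (AlgebraicGeometry.Spec.map (CommRingCat.ofHom (algebraMap R (𝒟.B k)))).surjective
                (⟨p, inferInstance⟩ : PrimeSpectrum R)
              have hQ' : Q.asIdeal.comap (algebraMap R (𝒟.B k)) = p := congrArg PrimeSpectrum.asIdeal hQ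
              refine le_antisymm ?_ Ideal.le_comap_map
              exact (Ideal.comap_mono (Ideal.map_le_iff_le_comap.mpr hQ'.ge)).trans hQ'.le
            obtain ⟨Q, hQ, h1, h2⟩ := FlatMor.FlatAtBC.exists_prime_of_pushout p P p' (S' := B₁ k) hPc
              (Ideal.LiesOver.over (p := p) (P := p')).symm
            exact (Ideal.comap_mono (Ideal.map_le_iff_le_comap.mpr h2.ge)).trans h1.le
        letI : Algebra P.ResidueField P'.ResidueField :=
          (Ideal.ResidueField.map P P' (algebraMap (𝒟.B k) (B₁ k)) hPP).toAlgebra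
        haveI : IsScalarTower (𝒟.B k) P.ResidueField P'.ResidueField := IsScalarTower.of_algebraMap_eq fun x => by
          rw [RingHom.algebraMap_toAlgebra, IsScalarTower.algebraMap_apply (𝒟.B k) (B₁ k) P'.ResidueField]
          exact (Ideal.ResidueField.map_algebraMap _ _ _ _ _).symm
        exact bijective_baseChange_fibre ((gM k).restrictScalars (𝒟.B k)) (hgB k) (𝒟.α k) (α' k) (hα' k)
          P.ResidueField P'.ResidueField (𝒟.fibreIso k hi)
      cokerLast := by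
        let k : Fin 𝒟.n := ⟨𝒟.n - 1, by have := 𝒟.pos; omega⟩
        show Function.Surjective (α' k)
        rw [← LinearMap.range_eq_top, hrange k, eq_top_iff]
        intro x hx₀
        clear hx₀
        obtain ⟨z, rfl⟩ := (hgB k).equiv.surjective x
        induction z using TensorProduct.induction_on with
        | zero => simp
        | tmul a m =>
          rw [IsBaseChange.equiv_tmul]
          obtain ⟨v, rfl⟩ := 𝒟.cokerLast m
          exact Submodule.smul_mem _ _ (Submodule.subset_span ⟨_, ⟨v, rfl⟩, rfl⟩)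
        | add x y hx hy => rw [map_add]; exact add_mem hx hy }
  refine ⟨D', aA, fun i => inferInstanceAs (Algebra R (A₁ i)), fun i => inferInstanceAs (IsScalarTower R R' (A₁ i)), t2,
    aB, fun i => inferInstanceAs (Algebra R (B₁ i)), fun i => inferInstanceAs (IsScalarTower R R' (B₁ i)), t4,
    bA, t5, t6, bA', t7, sA, t8, mA, t9, gM, rfl, rfl, t11, ?_, t10, fun i => ⟨poA i, poB i, hgM i, hrange i⟩⟩
  intro x
  show eN (f x) = g₀ (𝒟.isoN x)
  simp [eN, hf.equiv_symm_apply, Algebra.IsPushout.cancelBaseChange_symm_tmul, hg₀.equiv_tmul]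

end Groth.Agent.S12243
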