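import Groth.Statements.S0611
import Groth.Agent.RegDVR.Basic

set_option autoImplicit false
universe u
open RRAlg

namespace Groth.Agent.S0611

open Groth.Agent.RegDVR IsLocalRing RingTheory.Sequence

theorem split_of_mem {A : Type u} [CommRing A] [IsLocalRing A] :
    ∀ (R : List A) (z : A), z ∈ Ideal.ofList R →
      z ∈ maximalIdeal A * Ideal.ofList R ∨
        ∃ (x : A) (R' : List A) (r : A), R.Perm (x :: R') ∧ IsUnit r ∧ z - r * x ∈ Ideal.ofList R'
  | [], z, hz => Or.inl (by
      rw [Ideal.ofList_nil, Ideal.mem_bot] at hz
      rw [hz]; exact Ideal.zero_mem _)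
  | x :: R, z, hz => by
    rw [Ideal.ofList_cons, Ideal.mem_span_singleton_sup] at hz
    obtain ⟨r, z', hz', rfl⟩ := hz
    by_cases hr : IsUnit r
    · exact Or.inr ⟨x, R, r, List.Perm.refl _, hr, by simpa using hz'⟩
    · rcases split_of_mem R z' hz' with h | ⟨y, R', s, hp, hs, h⟩
      · refine Or.inl ?_
        rw [Ideal.ofList_cons, Ideal.mul_sup]
        exact Submodule.add_mem_sup
          (Ideal.mul_mem_mul ((mem_maximalIdeal r).mpr hr) (Ideal.mem_span_singleton_self x)) h
      · refine Or.inr ⟨y, x :: R', s, (hp.cons x).trans (List.Perm.swap y x R'), hs, ?_⟩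
        rw [Ideal.ofList_cons, Ideal.mem_span_singleton_sup]
        exact ⟨r, z' - s * y, h, by ring⟩

theorem replace_last {A : Type u} [CommRing A] {L : List A} {x y r : A} (hr : IsUnit r)
    (hy : y - r * x ∈ Ideal.ofList L) (h : IsWeaklyRegular A (L ++ [x])) :
    IsWeaklyRegular A (L ++ [y]) := by
  rw [isWeaklyRegular_append_iff, isWeaklyRegular_singleton_iff] at h ⊢
  refine ⟨h.1, fun m n e => h.2 ?_⟩
  induction m using Submodule.Quotient.induction_on with
  | _ m =>
    induction n using Submodule.Quotient.induction_on with
    | _ n =>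
      simp only [← Submodule.Quotient.mk_smul, Submodule.Quotient.eq, ← smul_sub] at e ⊢
      rw [smul_eq_mul, Ideal.mul_top] at e ⊢
      have : r * (x * (m - n)) ∈ Ideal.ofList L := by
        have h2 := sub_mem e (Ideal.mul_mem_right (m - n) _ hy)
        convert h2 using 1
        ring
      exact (Ideal.unit_mul_mem_iff_mem _ hr).mp this


/-- In a Noetherian local ring, any minimal generating set of an ideal generated by a regular sequence
is again a regular sequence: if a₁, …, aₙ is a regular sequence and b₁, …, bₙ are n elements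
generating the same ideal, then b₁, …, bₙ is a regular sequence. (A regular sequence of length n
generating an ideal I is a minimal generating set of I, so "minimal" amounts to "of length n".) -/
theorem result {A : Type u} [CommRing A] [IsLocalRing A] [IsNoetherianRing A]
    {n : ℕ} (a b : Fin n → A) (ha : RingTheory.Sequence.IsRegular A (List.ofFn a))
    (hab : Ideal.span (Set.range a) = Ideal.span (Set.range b)) :
    RingTheory.Sequence.IsRegular A (List.ofFn b) := by
  classical
  set I := Ideal.span (Set.range a) with hI
  have hofL : ∀ (c : Fin n → A), Ideal.ofList (List.ofFn c) = Ideal.span (Set.range c) := fun c => by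
    rw [Ideal.ofList]
    congr 1
    ext x
    simp
  have hIm : I ≤ maximalIdeal A := by
    refine le_maximalIdeal fun h => ha.top_ne_smul ?_
    rw [hofL, ← hI, h, Submodule.top_smul]
  have hqr := qr_of_weaklyRegular a ha.toIsWeaklyRegular
  have hind : ∀ c : Fin n → A, ∑ i, c i * a i ∈ maximalIdeal A * I → ∀ i, c i ∈ maximalIdeal A := by
    intro c hc
    obtain ⟨d, hd, hde⟩ : ∃ d : Fin n → A, (∀ i, d i ∈ maximalIdeal A) ∧ ∑ i, d i * a i = ∑ i, c i * a i := by
      refine Submodule.mul_induction_on hc (fun w hw v hv => ?_) ?_
      · obtain ⟨e, rfl⟩ := Ideal.mem_span_range_iff_exists_fun.mp hv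
        refine ⟨fun j => w * e j, fun j => Ideal.mul_mem_right _ _ hw, ?_⟩
        rw [Finset.mul_sum]
        exact Finset.sum_congr rfl fun j _ => by ring
      · rintro p q ⟨c, hc, rfl⟩ ⟨d, hd, rfl⟩
        exact ⟨c + d, fun j => add_mem (hc j) (hd j), by simp [add_mul, Finset.sum_add_distrib]⟩
    intro i
    have h1 := hqr 1 (∑ j, MvPolynomial.C (c j - d j) * MvPolynomial.X j)
      (MvPolynomial.IsHomogeneous.sum _ _ _ fun j _ => (MvPolynomial.isHomogeneous_X A j).C_mul _)
      (by simp [sub_mul, Finset.sum_sub_distrib, hde])
    have h2 := congrArg (MvPolynomial.coeff (Finsupp.single i 1)) h1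
    rw [MvPolynomial.coeff_map, MvPolynomial.coeff_sum, MvPolynomial.coeff_zero,
      Finset.sum_eq_single i (fun j _ hj => by
        rw [MvPolynomial.coeff_C_mul, MvPolynomial.coeff_X, if_neg (fun h => hj ((Finsupp.single_left_inj one_ne_zero).mp h)),
          mul_zero]) (by simp)] at h2
    rw [MvPolynomial.coeff_C_mul, MvPolynomial.coeff_X, if_pos rfl, mul_one,
      Ideal.Quotient.eq_zero_iff_mem] at h2
    simpa using add_mem (hIm h2) (hd i)
  have hN : ∀ j, ∃ c : Fin n → A, ∑ l, c l * a l = b j := fun j =>
    Ideal.mem_span_range_iff_exists_fun.mp (by rw [← hI, hab]; exact Ideal.subset_span ⟨j, rfl⟩)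
  have hM : ∀ j, ∃ c : Fin n → A, ∑ l, c l * b l = a j := fun j =>
    Ideal.mem_span_range_iff_exists_fun.mp (by rw [← hab]; exact Ideal.subset_span ⟨j, rfl⟩)
  choose N hN using hN
  choose M hM using hM
  let k' := ResidueField A
  let ρ : A →+* k' := residue A
  have hMN : (Matrix.of M).map ρ * (Matrix.of N).map ρ = 1 := by
    rw [← Matrix.map_mul]
    ext i l
    have h0 : ∑ l, ((Matrix.of M * Matrix.of N) i l - (1 : Matrix (Fin n) (Fin n) A) i l) * a l ∈
        maximalIdeal A * I := by
      have e : ∑ l, ((Matrix.of M * Matrix.of N) i l - (1 : Matrix (Fin n) (Fin n) A) i l) * a l = 0 := by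
        simp only [sub_mul, Finset.sum_sub_distrib, Matrix.mul_apply, Finset.sum_mul, Matrix.of_apply]
        rw [Finset.sum_comm]
        simp only [mul_assoc, ← Finset.mul_sum, hN]
        simp [hM, Matrix.one_apply, ite_mul, Finset.sum_ite_eq]
      rw [e]; exact Ideal.zero_mem _
    have h1 := (residue_eq_zero_iff _).mpr (hind _ h0 l)
    rw [map_sub, sub_eq_zero] at h1
    rw [Matrix.map_apply]
    refine h1.trans ?_
    rw [← Matrix.map_apply (f := ρ) (M := (1 : Matrix (Fin n) (Fin n) A)), Matrix.map_one ρ (map_zero _) (map_one _)]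
  have hNM := mul_eq_one_comm.mp hMN
  -- the exchange
  have hex : ∀ k, k ≤ n → ∃ R : List A, IsRegular A ((List.ofFn b).take k ++ R) ∧
      Ideal.ofList ((List.ofFn b).take k ++ R) = I ∧ R.length + k = n := by
    intro k
    induction k with
    | zero => exact fun _ => ⟨List.ofFn a, by simpa using ha, by simpa using hofL a, by simp⟩
    | succ k ih =>
      intro hk
      obtain ⟨R, hR, hsp, hlen⟩ := ih (Nat.le_of_succ_le hk)
      set P := (List.ofFn b).take k with hP
      set y := b ⟨k, hk⟩ with hy
      have hyI : y ∈ Ideal.ofList P ⊔ Ideal.ofList R := by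
        rw [← Ideal.ofList_append, hsp, hab]
        exact Ideal.subset_span ⟨_, rfl⟩
      obtain ⟨p, hp, q, hq, hpq⟩ := Submodule.mem_sup.mp hyI
      have hPb : Ideal.ofList P ≤ Ideal.span (b '' {j | j.val < k}) := by
        refine Ideal.span_le.mpr fun x hx => Ideal.subset_span ?_
        obtain ⟨i, hi, rfl⟩ := List.mem_take_iff_getElem.mp (show x ∈ P from hx)
        rw [List.length_ofFn] at hi
        exact ⟨⟨i, by omega⟩, (show i < k by omega), by simp⟩
      rcases split_of_mem R q hq with hbad | ⟨x, R', r, hperm, hr, hz⟩
      · exfalso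
        have hbad' : q ∈ maximalIdeal A * I := by
          refine Ideal.mul_mono le_rfl ?_ hbad
          rw [← hsp, Ideal.ofList_append]
          exact le_sup_right
        obtain ⟨c, hc⟩ : ∃ c : Fin n → A, (∀ j, ¬ j.val < k → c j = 0) ∧ ∑ j, c j * b j = p := by
          refine Submodule.span_induction (p := fun p _ => ∃ c : Fin n → A, (∀ j, ¬ j.val < k → c j = 0) ∧ ∑ j, c j * b j = p)
            ?_ ?_ ?_ ?_ (hPb hp)
          · rintro _ ⟨j, hj, rfl⟩
            refine ⟨Pi.single j 1, fun i hi => Pi.single_eq_of_ne (fun e => hi (by rw [e]; exact hj)) 1, ?_⟩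
            simp [Pi.single_apply]
          · exact ⟨0, fun _ _ => rfl, by simp⟩
          · rintro _ _ _ _ ⟨c, hc, rfl⟩ ⟨d, hd, rfl⟩
            exact ⟨c + d, fun j hj => by simp [hc j hj, hd j hj], by simp [add_mul, Finset.sum_add_distrib]⟩
          · rintro s _ _ ⟨c, hc, rfl⟩
            exact ⟨s • c, fun j hj => by simp [hc j hj], by simp [Finset.mul_sum, mul_assoc]⟩
        let v : Fin n → A := Pi.single ⟨k, hk⟩ 1 - c
        have hv : ∑ l, (Matrix.vecMul v (Matrix.of N)) l * a l ∈ maximalIdeal A * I := by
          have e : ∑ l, (Matrix.vecMul v (Matrix.of N)) l * a l = q := by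
            simp only [Matrix.vecMul, dotProduct, Finset.sum_mul, Matrix.of_apply]
            rw [Finset.sum_comm]
            simp only [mul_assoc, ← Finset.mul_sum, hN]
            simp only [v, Pi.sub_apply, sub_mul, Finset.sum_sub_distrib, hc.2]
            simp [Pi.single_apply]
            linear_combination -hpq
          rw [e]; exact hbad'
        have hzero : Matrix.vecMul (ρ ∘ v) ((Matrix.of N).map ρ) = 0 := by
          funext l
          rw [← RingHom.map_vecMul]
          exact (residue_eq_zero_iff _).mpr (hind _ hv l)
        have hv0 := congrArg (fun w => Matrix.vecMul w ((Matrix.of M).map ρ)) hzero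
        beta_reduce at hv0
        rw [Matrix.vecMul_vecMul, hNM, Matrix.vecMul_one, Matrix.zero_vecMul] at hv0
        have := congrFun hv0 ⟨k, hk⟩
        simp [v, hc.1 ⟨k, hk⟩ (lt_irrefl k)] at this
      · refine ⟨R', ?_, ?_, by have := hperm.length_eq; simp at this; omega⟩ <;>
          rw [List.take_succ_eq_append_getElem (by simpa using hk), List.getElem_ofFn, ← hP, ← hy]
        · have h1 : IsRegular A ((P ++ R') ++ [x]) :=
            IsLocalRing.isRegular_of_perm hR (by
              rw [List.append_assoc]
              exact (hperm.trans (List.perm_append_singleton x R').symm).append_left P)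
          have h2 : IsWeaklyRegular A ((P ++ R') ++ [y]) := by
            refine replace_last hr ?_ h1.toIsWeaklyRegular
            rw [Ideal.ofList_append, ← hpq, show p + q - r * x = p + (q - r * x) by ring]
            exact Submodule.add_mem_sup hp hz
          have hperm' : ((P ++ R') ++ [y]).Perm (P ++ [y] ++ R') := by
            rw [List.append_assoc, List.append_assoc]
            exact List.perm_append_comm.append_left P
          have hmem : ∀ z ∈ (P ++ R') ++ [y], z ∈ maximalIdeal A := by
            intro z hz
            apply hIm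
            rw [List.mem_append, List.mem_singleton] at hz
            rcases hz with hz | rfl
            · rw [← hsp]
              refine Ideal.subset_span ?_
              rcases List.mem_append.mp hz with h | h
              · exact List.mem_append.mpr (Or.inl h)
              · exact List.mem_append.mpr (Or.inr (hperm.mem_iff.mpr (List.mem_cons_of_mem _ h)))
            · rw [hab]; exact Ideal.subset_span ⟨_, rfl⟩
          exact IsLocalRing.isRegular_of_perm
            (IsRegular.of_isWeaklyRegular_of_mem_maximalIdeal A hmem h2) hperm'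
        · have e : Ideal.ofList R = Ideal.span {x} ⊔ Ideal.ofList R' := by
            rw [← Ideal.ofList_cons, Ideal.ofList, Ideal.ofList]
            exact congrArg Ideal.span (Set.ext fun z => hperm.mem_iff)
          rw [← hsp, Ideal.ofList_append, Ideal.ofList_append, Ideal.ofList_append, Ideal.ofList_singleton]
          refine le_antisymm (sup_le (sup_le le_sup_left ?_) (le_sup_of_le_right (e ▸ le_sup_right)))
            (sup_le (le_sup_left.trans le_sup_left) ?_)
          · rw [Ideal.span_singleton_le_iff_mem]
            exact hyI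
          · rw [e]
            refine sup_le ?_ le_sup_right
            rw [Ideal.span_singleton_le_iff_mem]
            have hmem : r * x ∈ Ideal.ofList P ⊔ Ideal.span {y} ⊔ Ideal.ofList R' := by
              have : r * x = y - p - (q - r * x) := by linear_combination hpq
              rw [this]
              exact sub_mem (Submodule.mem_sup_left (sub_mem (Submodule.mem_sup_right
                (Ideal.mem_span_singleton_self y)) (Submodule.mem_sup_left hp))) (Submodule.mem_sup_right hz)
            exact (Ideal.unit_mul_mem_iff_mem _ hr).mp hmem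
  obtain ⟨R, hR, -, hlen⟩ := hex n le_rfl
  rw [List.eq_nil_of_length_eq_zero (show R.length = 0 by omega), List.append_nil, List.take_of_length_le (by simp)] at hR
  exact hR

end Groth.Agent.S0611
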