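import Groth.Statements.S0368
import Groth.Agent.DualCx.Normal

set_option autoImplicit false
universe u v
open CategoryTheory
attribute [local instance] HasDerivedCategory.standard
open Dual

namespace Groth.Agent.S0368

/-- (1)⇔(3): for a Noetherian local ring with normalized dualizing complex ω, a nonzero finite module M
with support of dimension d is Cohen–Macaulay exactly when Hom(M, ω[−i]) vanishes in D(A) for every
i ≠ d. -/
theorem result (A : Type u) [CommRing A] [IsLocalRing A] [IsNoetherianRing A] (ω : Dual.D A) (hω : Dual.IsDualizing A ω) (hn : Dual.IsNormalized A ω) (M : Type u) [AddCommGroup M] [Module A M] [Module.Finite A M] [Nontrivial M] (d : ℕ) (hd : Module.supportDim A M = d) : LocCoh.IsCohenMacaulayModule A M ↔ ∀ i : ℤ, i ≠ d → Subsingleton (Dual.inD A M ⟶ ω⟦(-i)⟧) := by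
  constructor
  · intro hCM i hi
    by_cases h : i < 0 ∨ (d : ℤ) < i
    · exact DualCx.Normal.subsingleton_E hω hn d M hd.le (-i) (by omega)
    · obtain ⟨δ, rfl⟩ : ∃ δ : ℕ, i = δ := ⟨i.toNat, by omega⟩
      have hdep : LocCoh.depth A M = d := by
        have h1 : Module.supportDim A M = ((LocCoh.depth A M : ℕ∞) : WithBot ℕ∞) := hCM
        rw [hd] at h1
        exact (WithBot.coe_inj.mp h1).symm
      exact (DualCx.Normal.depth_spec hω hn d M hdep).1 δ (by omega)
  · intro hall
    obtain ⟨m, hm⟩ : ∃ m : ℕ, LocCoh.depth A M = m :=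
      ⟨_, (ENat.natCast_toNat (Depth.depth_lt_top (M := M)).ne).symm⟩
    have hnt := (DualCx.Normal.depth_spec hω hn m M hm).2
    have : (m : ℤ) = d := by
      by_contra h
      exact absurd hnt (not_nontrivial_iff_subsingleton.mpr (hall m h))
    obtain rfl : m = d := by exact_mod_cast this
    change Module.supportDim A M = ((LocCoh.depth A M : ℕ∞) : WithBot ℕ∞)
    rw [hm, hd]
    rfl

end Groth.Agent.S0368
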