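import Groth.Statements.S12080
import Mathlib
-- import your own Groth.Agent.* helpers here

set_option autoImplicit false
universe u
open TensorProduct
open CAlg

namespace Groth.Agent.S12080

/-- (1) ⇒ (2): let `M` be a finite locally free `R`-module of rank `1`, i.e. there is a set `s ⊆ R`
generating the unit ideal with `M_f ≅ R_f` as `R_f`-modules for every `f ∈ s`. Then the evaluation
map `Hom_R(M, R) ⊗_R M → R` is bijective, so `M` is invertible with inverse its dual. -/
theorem result (R : Type u) [CommRing R] (M : Type u) [AddCommGroup M]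
    [Module R M] (s : Set R) (hs : Ideal.span s = ⊤)
    (hfree : ∀ f ∈ s, Nonempty (LocalizedModule.Away f M ≃ₗ[Localization.Away f] Localization.Away f)) :
    Module.Invertible R M := by

  classical
  haveI : Module.FinitePresentation R M := Module.FinitePresentation.of_localizationSpan s hs fun g => by
    obtain ⟨e⟩ := hfree g.1 g.2
    exact Module.FinitePresentation.of_equiv e.symm
  -- local generators with local functionals
  have hgen : ∀ f ∈ s, ∃ (m : M) (φ : M →ₗ[R] R) (N : ℕ), φ m = f ^ N ∧
      ∀ x : M, ∃ (k : ℕ) (r : R), f ^ k • x = r • m := by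
    intro f hf
    obtain ⟨e⟩ := hfree f hf
    let mk := LocalizedModule.mkLinearMap (Submonoid.powers f) M
    obtain ⟨⟨m, ⟨_, a, rfl⟩⟩, hm⟩ := IsLocalizedModule.surj (Submonoid.powers f) mk (e.symm 1)
    have hem : e (mk m) = algebraMap R (Localization.Away f) (f ^ a) := by
      rw [← hm, Submonoid.smul_def, ← algebraMap_smul (Localization.Away f), map_smul, LinearEquiv.apply_symm_apply,
        smul_eq_mul, mul_one]
    obtain ⟨φ, ⟨_, b, rfl⟩, hφ⟩ := Module.FinitePresentation.exists_lift_of_isLocalizedModule
      (Submonoid.powers f) (Algebra.linearMap R (Localization.Away f)) ((e.toLinearMap.restrictScalars R).comp mk)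
    have hφm : algebraMap R (Localization.Away f) (φ m) = algebraMap R (Localization.Away f) (f ^ (b + a)) := by
      have := LinearMap.congr_fun hφ m
      simp only [LinearMap.comp_apply, Algebra.linearMap_apply, LinearMap.smul_apply, Submonoid.smul_def,
        LinearMap.restrictScalars_apply, LinearEquiv.coe_coe] at this
      rw [this, hem, Algebra.smul_def, ← map_mul, ← pow_add]
    obtain ⟨⟨_, c, rfl⟩, hc⟩ := (IsLocalization.eq_iff_exists (Submonoid.powers f) _).1 hφm
    refine ⟨f ^ c • m, φ, c + (b + a), ?_, fun x => ?_⟩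
    · rw [map_smul, smul_eq_mul, hc, ← pow_add]
    · obtain ⟨⟨r, ⟨_, d, rfl⟩⟩, hr⟩ := IsLocalization.surj (Submonoid.powers f) (e (mk x))
      have h1 : mk ((f ^ d * f ^ a) • x) = mk (r • m) := by
        apply e.injective
        rw [mk.map_smul, mk.map_smul, ← algebraMap_smul (Localization.Away f) (f ^ d * f ^ a) (mk x),
          ← algebraMap_smul (Localization.Away f) r (mk m), e.map_smul, e.map_smul, smul_eq_mul, smul_eq_mul, hem,
          map_mul, ← hr]
        ring
      obtain ⟨⟨_, g, rfl⟩, hg⟩ := (IsLocalizedModule.eq_iff_exists (Submonoid.powers f) mk).1 h1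
      refine ⟨g + c + (d + a), f ^ g * r, ?_⟩
      simp only [Submonoid.smul_def, smul_smul] at hg
      rw [smul_smul, show f ^ (g + c + (d + a)) = f ^ c * (f ^ g * (f ^ d * f ^ a)) by ring, mul_smul, hg,
        smul_smul]
      congr 1
      ring
  choose m φ N hφ hm using hgen
  have hswap : ∀ (ψ : M →ₗ[R] R) (x z : M), ψ x • z = ψ z • x := by
    intro ψ x z
    rw [← sub_eq_zero, ← Submodule.mem_bot R]
    refine Submodule.mem_of_span_eq_top_of_smul_pow_mem _ s hs _ fun f => ?_
    obtain ⟨k, r, hr⟩ := hm f.1 f.2 x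
    obtain ⟨l, t, ht⟩ := hm f.1 f.2 z
    refine ⟨k + l, ?_⟩
    rw [Submodule.mem_bot, smul_sub, sub_eq_zero]
    have h1 : f.1 ^ (k + l) • (ψ x • z) = ψ (f.1 ^ k • x) • (f.1 ^ l • z) := by
      rw [map_smul, smul_smul, smul_smul, smul_eq_mul]; congr 1; ring
    have h2 : f.1 ^ (k + l) • (ψ z • x) = ψ (f.1 ^ l • z) • (f.1 ^ k • x) := by
      rw [map_smul, smul_smul, smul_smul, smul_eq_mul]; congr 1; ring
    rw [h1, h2, hr, ht, map_smul, map_smul, smul_smul, smul_smul, smul_eq_mul, smul_eq_mul]
    congr 1; ring
  have hsurj : Function.Surjective (contractLeft R M) := by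
    rw [← LinearMap.range_eq_top, eq_top_iff]
    intro r _
    refine Submodule.mem_of_span_eq_top_of_smul_pow_mem _ s hs r fun f => ⟨N f.1 f.2, ?_⟩
    refine ⟨r • (φ f.1 f.2 ⊗ₜ[R] m f.1 f.2), ?_⟩
    rw [map_smul, contractLeft_apply, hφ f.1 f.2, smul_eq_mul, smul_eq_mul, mul_comm]
  obtain ⟨u, hu⟩ := hsurj 1
  have key : ∀ (t v : Module.Dual R M ⊗[R] M), contractLeft R M t • v = contractLeft R M v • t := by
    intro t v
    induction t using TensorProduct.induction_on with
    | zero => simp
    | add a b ha hb => rw [map_add, add_smul, smul_add, ha, hb]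
    | tmul ψ x =>
      induction v using TensorProduct.induction_on with
      | zero => simp
      | add a b ha hb => rw [map_add, add_smul, smul_add, ha, hb]
      | tmul θ z =>
        rw [contractLeft_apply, contractLeft_apply, ← TensorProduct.tmul_smul, hswap ψ x z, TensorProduct.tmul_smul,
          TensorProduct.smul_tmul', TensorProduct.smul_tmul']
        congr 1
        ext w
        simp only [LinearMap.smul_apply]
        have h := congrArg θ (hswap ψ z w)
        rw [map_smul, map_smul, smul_eq_mul, smul_eq_mul] at h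
        rw [smul_eq_mul, smul_eq_mul, h, mul_comm]
  refine ⟨⟨fun a b hab => ?_, hsurj⟩⟩
  have h1 := key u a
  have h2 := key u b
  rw [hu, one_smul] at h1 h2
  rw [h1, h2, hab]

end Groth.Agent.S12080
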