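import Groth.Statements.S4696
import Groth.Agent.GeomFieldLib.HomBC
import Groth.Agent.GeomFieldLib.CMTensor
import Groth.Agent.EGA4Lib.FibreComp
import Groth.Agent.EGA4Lib.FibreLoc
import Groth.Agent.S2611

set_option autoImplicit false
universe u
open EGA4 TensorProduct

namespace Groth.Agent.S4696

/-- Case of normal morphisms, affine form: let A → B → C be homomorphisms of Noetherian rings. If A → B
and B → C are normal (flat, with geometrically normal fibres) then the composite A → C is normal. -/
theorem result (A B C : Type u) [CommRing A] [CommRing B] [CommRing C] [IsNoetherianRing A]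
    [IsNoetherianRing B] [IsNoetherianRing C] [Algebra A B] [Algebra B C] [Algebra A C] [IsScalarTower A B C]
    (hAB : EGA4.IsNormalHom A B) (hBC : EGA4.IsNormalHom B C) : EGA4.IsNormalHom A C := by
  haveI := hAB.1
  haveI := hBC.1
  refine ⟨Module.Flat.trans A B C, fun p _ K _ _ hK => ?_⟩
  haveI := hK
  letI : Algebra A K := ((algebraMap p.ResidueField K).comp (algebraMap A p.ResidueField)).toAlgebra
  haveI : IsScalarTower A p.ResidueField K := IsScalarTower.of_algebraMap_eq fun _ => rfl
  let eB := (Algebra.TensorProduct.cancelBaseChange A p.ResidueField K K B).toRingEquiv.trans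
    (Algebra.TensorProduct.comm A K B).toRingEquiv
  have hBK := EGA4Lib.isNormalRing_of_ringEquiv eB (hAB.2 p K hK)
  haveI : IsNoetherianRing (B ⊗[A] K) := by
    haveI : IsNoetherianRing (p.Fiber B) :=
      EGA4Lib.forall_isCohenMacaulayRing_fiber_iff.isNoetherianRing_fiber A p
    haveI := GeomFieldLib.isNoetherianRing_tensor_finite p.ResidueField K (p.Fiber B)
    exact isNoetherianRing_of_ringEquiv _ eB
  obtain ⟨t⟩ := EGA4Lib.nonempty_tensor_tower A (B := B) (C := C) K
  let eC := t.trans (Algebra.TensorProduct.cancelBaseChange A p.ResidueField K K C).symm.toRingEquiv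
  haveI : IsNoetherianRing ((B ⊗[A] K) ⊗[B] C) := by
    haveI : IsNoetherianRing (p.Fiber C) :=
      EGA4Lib.forall_isCohenMacaulayRing_fiber_iff.isNoetherianRing_fiber A p
    haveI := GeomFieldLib.isNoetherianRing_tensor_finite p.ResidueField K (p.Fiber C)
    exact isNoetherianRing_of_ringEquiv _ eC.symm
  have hn := GeomFieldLib.isNormalHom_tensor B C (B ⊗[A] K) hBC
  haveI := hn.1
  refine EGA4Lib.isNormalRing_of_ringEquiv eC fun q _ => ?_
  haveI := (hBK (q.comap (algebraMap (B ⊗[A] K) ((B ⊗[A] K) ⊗[B] C)))).1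
  haveI := (hBK (q.comap (algebraMap (B ⊗[A] K) ((B ⊗[A] K) ⊗[B] C)))).2
  exact Groth.Agent.S2611.result (B ⊗[A] K) ((B ⊗[A] K) ⊗[B] C)
    (fun r _ => EGA4Lib.isNormalRing_localization_fibre _ hn.2 r) q

end Groth.Agent.S4696
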