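import Groth.Statements.S4745
import Groth.Agent.EGA4Lib.FibresCpl
import Groth.Agent.S4696

set_option autoImplicit false
universe u
open EGA4

namespace Groth.Agent.S4745

/-- The case of the property 'normal': let A → B be a local homomorphism of Noetherian local rings
making B a flat A-module, such that the residue field of B is a finite extension of the residue
field k of A, and such that the formal fibres of A are geometrically normal. If the k-algebra k ⊗_A
B̂, where B̂ is the completion of B, is geometrically normal over k, then every fibre of A → B is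
geometrically normal, that is, A → B is a normal homomorphism. -/
theorem result (A B : Type u) [CommRing A] [CommRing B]
    [IsNoetherianRing A] [IsNoetherianRing B] [IsLocalRing A] [IsLocalRing B] [Algebra A B]
    [IsLocalHom (algebraMap A B)] [Module.Flat A B]
    [Module.Finite (IsLocalRing.ResidueField A) (IsLocalRing.ResidueField B)]
    (hA : EGA4.HasGeomNormalFormalFibres A)
    (h : EGA4.IsGeomNormal (IsLocalRing.maximalIdeal A).ResidueField
      ((IsLocalRing.maximalIdeal A).Fiber (EGA4.Cpl B))) :
    EGA4.IsNormalHom A B := by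
  obtain ⟨_, _, _⟩ := EGA4Lib.exists_algebra_cpl A B
  haveI : IsNoetherianRing (EGA4.Cpl A) := RegLoc.Completion.isNoetherianRing_adicCompletion' _
  haveI : IsNoetherianRing (EGA4.Cpl B) := RegLoc.Completion.isNoetherianRing_adicCompletion' _
  haveI : Module.Flat (EGA4.Cpl A) (EGA4.Cpl B) := EGA4Lib.flat_cpl A B
  haveI : Module.FaithfullyFlat B (EGA4.Cpl B) :=
    Module.FaithfullyFlat.of_flat_of_isLocalHom (A := B) (B := AdicCompletion (IsLocalRing.maximalIdeal B) B)
  haveI : Module.Flat A (EGA4.Cpl A) := inferInstanceAs (Module.Flat A (AdicCompletion (IsLocalRing.maximalIdeal A) A))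
  have h1 : EGA4.IsNormalHom (EGA4.Cpl A) (EGA4.Cpl B) := ⟨inferInstance, fun q _ K _ _ hK =>
    EGA4Lib.property_fibres_cpl EGA4Lib.liftingProperty_isNormalRing A B h q K hK⟩
  have h2 : EGA4.IsNormalHom A (EGA4.Cpl B) :=
    Groth.Agent.S4696.result A (EGA4.Cpl A) (EGA4.Cpl B) ⟨inferInstance, fun p _ => hA p⟩ h1
  exact ⟨inferInstance, fun p _ => EGA4Lib.isGeomNormal_fiber_of_comp A B (EGA4.Cpl B) p (h2.2 p)⟩

end Groth.Agent.S4745
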