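import Groth.Statements.S9244
import Groth.Agent.Hens.CompletionBranch
import Groth.Agent.S9237
import Groth.Agent.S9238
import Groth.Agent.RegLoc.AdicNoeth
import Groth.Agent.GeomFieldLib.NormalBC

set_option linter.style.haveILetI false

set_option autoImplicit false
universe u
open Brnch

namespace Groth.Agent.S9244

open scoped TensorProduct

/-- Normality of `N ⊗ C` ascends to `N ⊗ T` for `T` ind-étale over `C`. -/
theorem isNormalRing_tensor_trans (A C T N : Type u) [CommRing A] [CommRing C] [IsLocalRing C]
    [CommRing T] [IsLocalRing T] [CommRing N] [Algebra A C] [Algebra C T] [Algebra A T] [IsScalarTower A C T]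
    [Algebra A N] (hT : Groth.Agent.Hensel.IsEtLike C T) (hNC : EGA4.IsNormalRing (N ⊗[A] C)) :
    EGA4.IsNormalRing (N ⊗[A] T) := by
  have hCN := Groth.Agent.EGA4Lib.isNormalRing_of_ringEquiv (Algebra.TensorProduct.comm A N C).toRingEquiv hNC
  have hb : EGA4.IsNormalRing ((C ⊗[A] N) ⊗[C] T) := fun M _ =>
    Groth.Agent.Hens.isDomain_localization_tensor hT M (hCN _)
  exact Groth.Agent.EGA4Lib.isNormalRing_of_ringEquiv
    (((Algebra.TensorProduct.comm C (C ⊗[A] N) T).toRingEquiv.trans
      (Algebra.TensorProduct.cancelBaseChange A C T T N).toRingEquiv).trans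
        (Algebra.TensorProduct.comm A T N).toRingEquiv) hb

/-- Let A be a Noetherian local ring all of whose formal fibres are geometrically normal (for example a
quasi-excellent local ring). Then A and its completion A^ have the same number of branches and the
same number of geometric branches. (The published statement also concludes that A is Nagata; this
row omits that conclusion.) -/
theorem result (A : Type u) [CommRing A]
    [IsLocalRing A] [IsNoetherianRing A] (hA : EGA4.HasGeomNormalFormalFibres A) :
    Brnch.numBranches (AdicCompletion (IsLocalRing.maximalIdeal A) A) = Brnch.numBranches A ∧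
      Brnch.numGeomBranches (AdicCompletion (IsLocalRing.maximalIdeal A) A) =
        Brnch.numGeomBranches A := by
  let C := AdicCompletion (IsLocalRing.maximalIdeal A) A
  haveI : IsNoetherianRing C :=
    Groth.Agent.RegLoc.AdicNoeth.isNoetherianRing_adicCompletion _ (IsNoetherian.noetherian _)
  haveI : Hensel.IsHenselization C C := Groth.Agent.Hens.isHenselization_self C
  have hfin : (minimalPrimes A).Finite := minimalPrimes.finite_of_isNoetherianRing A
  haveI : IsReduced (CAlg2.red A) :=
    (Ideal.isRadical_iff_quotient_reduced _).1 (Ideal.radical_isRadical _)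
  haveI : Finite ↥(minimalPrimes (CAlg2.red A)) :=
    (minimalPrimes.finite_of_isNoetherianRing (CAlg2.red A)).to_subtype
  have hN : EGA4.IsNormalRing (CAlg2.normRed A) := fun P _ =>
    Groth.Agent.RedNorm.isDomain_isIntegrallyClosed_localization (CAlg2.red A) P
  have hNC : EGA4.IsNormalRing (CAlg2.normRed A ⊗[A] C) :=
    Groth.Agent.EGA4Lib.isNormalRing_of_ringEquiv (Algebra.TensorProduct.comm A C (CAlg2.normRed A)).toRingEquiv
      (Groth.Agent.GeomFieldLib.isNormalRing_baseChange ⟨inferInstance, hA⟩ (CAlg2.normRed A) hN)
  haveI := Groth.Agent.Hens.isIntegral_normRed A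
  constructor
  · rw [← Groth.Agent.S9237.result C C, Brnch.numBranches, if_pos hfin]
    obtain ⟨e⟩ := Groth.Agent.Hens.nonempty_minimalPrimes_equiv_of_domain (A := A) (T := C)
      fun M _ => (hNC M).1
    obtain ⟨e', -⟩ := Groth.Agent.Hens.exists_maximalSpectrum_tensor_equiv (A := A) (S := C)
      (N := CAlg2.normRed A) (AdicCompletion.residueField_map_bijective A)
    exact ENat.card_congr (e.trans e')
  · let T := Groth.Agent.Hens.StrictHenselization C
    have hT := Groth.Agent.Hensel.isEtLike_of_isStrictHenselization C T
    letI : Algebra A T := ((algebraMap C T).comp (algebraMap A C)).toAlgebra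
    haveI : IsScalarTower A C T := .of_algebraMap_eq' rfl
    haveI : IsLocalHom (algebraMap A T) := RingHom.isLocalHom_comp _ _
    haveI : Module.Flat C T := hT.flat
    haveI : Module.Flat A T := Module.Flat.trans A C T
    haveI : IsSepClosure (IsLocalRing.ResidueField C) (IsLocalRing.ResidueField T) :=
      Hensel.IsStrictHenselization.isSepClosure
    haveI : IsSepClosure (IsLocalRing.ResidueField A) (IsLocalRing.ResidueField T) :=
      Groth.Agent.Hens.isSepClosure_residue_of_bijective (C := C) (AdicCompletion.residueField_map_bijective A)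
    haveI : HenselianLocalRing T := Hensel.IsStrictHenselization.henselian (R := C)
    rw [← Groth.Agent.S9238.result C T, Brnch.numGeomBranches, if_pos hfin]
    have hNT' := isNormalRing_tensor_trans A C T (CAlg2.normRed A) hT hNC
    obtain ⟨e⟩ := Groth.Agent.Hens.nonempty_minimalPrimes_equiv_of_domain (A := A) (T := T)
      fun M _ => (hNT' M).1
    obtain ⟨e'⟩ := Groth.Agent.Hens.exists_sigma_emb_equiv (A := A) (S := T) (N := CAlg2.normRed A)
    exact ENat.card_congr (e.trans e'.symm)

end Groth.Agent.S9244
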