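import Groth.Statements.S4746
import Groth.Agent.EGA4Lib.FibresCpl
import Groth.Agent.FBase.TensorAlgClosed

set_option autoImplicit false
universe u
open EGA4

namespace Groth.Agent.S4746

open TensorProduct


/-- For the property 'reduced': let A → B be a local homomorphism of Noetherian local rings making B a
flat A-module, such that the residue field of B is a finite extension of the residue field k of A,
and such that the formal fibres of A are geometrically reduced. If the k-algebra k ⊗_A B̂, where B̂
is the completion of B, is geometrically reduced over k, then every fibre k(p) ⊗_A B of A → B is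
geometrically reduced over k(p). -/
theorem result (A B : Type u) [CommRing A] [CommRing B]
    [IsNoetherianRing A] [IsNoetherianRing B] [IsLocalRing A] [IsLocalRing B] [Algebra A B]
    [IsLocalHom (algebraMap A B)] [Module.Flat A B]
    [Module.Finite (IsLocalRing.ResidueField A) (IsLocalRing.ResidueField B)]
    (hA : EGA4.HasGeomReducedFormalFibres A)
    (h : Algebra.IsGeometricallyReduced (IsLocalRing.maximalIdeal A).ResidueField
      ((IsLocalRing.maximalIdeal A).Fiber (EGA4.Cpl B))) :
    ∀ (p : Ideal A) [p.IsPrime], Algebra.IsGeometricallyReduced p.ResidueField (p.Fiber B) := by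
  obtain ⟨_, _, _⟩ := EGA4Lib.exists_algebra_cpl A B
  haveI : IsNoetherianRing (EGA4.Cpl A) := RegLoc.Completion.isNoetherianRing_adicCompletion' _
  haveI : IsNoetherianRing (EGA4.Cpl B) := RegLoc.Completion.isNoetherianRing_adicCompletion' _
  haveI : Module.Flat (EGA4.Cpl A) (EGA4.Cpl B) := EGA4Lib.flat_cpl A B
  haveI : Module.FaithfullyFlat B (EGA4.Cpl B) :=
    Module.FaithfullyFlat.of_flat_of_isLocalHom (A := B) (B := AdicCompletion (IsLocalRing.maximalIdeal B) B)
  intro p _
  refine EGA4Lib.isGeometricallyReduced_fiber_of_comp A B (EGA4.Cpl B) p ?_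
  exact EGA4Lib.isGeometricallyReduced_fiber_comp A (EGA4.Cpl A) (EGA4.Cpl B)
    (fun q _ => EGA4Lib.isGeometricallyReduced_of_finite _ _ fun K _ _ hK =>
      EGA4Lib.property_fibres_cpl EGA4Lib.liftingProperty_isReduced A B
        (fun L _ _ _ => FBase.TensorAlgClosed.isReduced_tensor_of_isGeometricallyReduced) q K hK) p (hA p)

end Groth.Agent.S4746
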