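import Groth.Statements.S2128
import Mathlib.CategoryTheory.Presentable.StrongGenerator
import Groth.Agent.QCohGen.Presentable
import Groth.Agent.QCohGen.Groth
import Groth.Agent.Props.QApproxMain
-- import your own Groth.Agent.* helpers here

set_option autoImplicit false
universe u
open CategoryTheory AlgebraicGeometry
open Mor

namespace Groth.Agent.S2128
set_option backward.isDefEq.respectTransparency.types false
open Limits Opposite TopologicalSpace
open Groth.Agent.QCoh Groth.Agent.Props.SubMod Groth.Agent.Props.SubSheaf Groth.Agent.QCohGen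

variable (X : Scheme.{u}) [CompactSpace X] [QuasiSeparatedSpace X]

/-- Every finite type quasi-coherent module is a quotient of a finitely presented one. -/
lemma exists_fp_epi (F : X.Modules) [F.IsQuasicoherent] (hFT : SheafOfModules.IsFiniteType.{u} F) :
    ∃ (G : X.Modules) (φ : G ⟶ F), G.IsQuasicoherent ∧ CohB1.IsFP G ∧ Epi φ := by
  obtain ⟨P, φ, hP, hfp, hepi, -⟩ := Props.QApproxMain.exists_fp_epi F hFT (U := ⊥) (by simp)
    fun V hV hle => by
      have hV0 : V = ⊥ := le_bot_iff.mp hle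
      subst hV0
      have : Subsingleton Γ(X, (⊥ : X.Opens)) :=
        CommRingCat.subsingleton_of_isTerminal (X.sheaf.isTerminalOfEqEmpty rfl)
      have : Subsingleton Γ(F, (⊥ : X.Opens)) := Module.subsingleton Γ(X, (⊥ : X.Opens)) _
      exact Module.finitePresentation_of_projective _ _
  exact ⟨P, φ, hP, Props.QApproxMain.isFP_of_fpOn hfp, hepi⟩

/-- Indices of a small family of finitely presented modules. -/
abbrev Idx : Type u := Σ c : QCode X, {S : StalkSub (codeObj X c.1) // FTOn S ⊤}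

lemma exists_fp_idx (i : Idx X) :
    ∃ (G : QCohCat.QCoh X) (φ : G.obj ⟶ sub i.2.1), CohB1.IsFP G.obj ∧ Epi φ := by
  haveI : (codeObj X i.1.1).IsQuasicoherent := i.1.2
  haveI := isQuasicoherent_sub i.2.2
  obtain ⟨G, φ, hG, hfp, he⟩ := exists_fp_epi X (sub i.2.1) (isFiniteType_sub i.2.2)
  exact ⟨⟨G, hG⟩, φ, hfp, he⟩

/-- A small family of finitely presented modules. -/
noncomputable def fpGen (i : Idx X) : QCohCat.QCoh X := (exists_fp_idx X i).choose

lemma isSeparating_fpGen : ObjectProperty.IsSeparating (ObjectProperty.ofObj (fpGen X)) := by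
  intro M N f g h
  apply ObjectProperty.hom_ext
  haveI : M.obj.IsQuasicoherent := M.property
  refine Scheme.Modules.hom_ext _ _ fun V ↦ ?_
  ext s
  refine TopCat.Presheaf.section_ext (⟨N.obj.presheaf, N.obj.isSheaf⟩ : TopCat.Sheaf AddCommGrpCat X)
    V _ _ fun y hy ↦ ?_
  obtain ⟨U, hU, hyU, hUV⟩ := exists_isAffineOpen_mem_and_subset hy
  have hUV' : U ≤ V := hUV
  have key : ∀ t : Γ(M.obj, U), f.hom.app U t = g.hom.app U t := by
    intro t
    obtain ⟨G, a, _, hG, hb, ⟨t', ht'⟩⟩ := exists_bdd_sub M.obj ⟨U, hU⟩ t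
    obtain ⟨R, T, ⟨e⟩⟩ := exists_subobject_iso_of_bdd G hb
    let c : Code X := ⟨⟨U, hU⟩, R, equivShrink _ T⟩
    have hc : codeObj X c = (T : X.Modules) := by
      simp [codeObj, c]
    let i : codeObj X c ≅ G := eqToIso hc ≪≫ e
    have hq : QCohCat.isQCoh X (codeObj X c) := ObjectProperty.prop_of_iso _ i.symm hG
    haveI : (codeObj X c).IsQuasicoherent := hq
    obtain ⟨S, hS, w, hw⟩ :=
      Props.SubExt.exists_sub_through_section (codeObj X c) U hU (i.inv.app U t')
    let j : Idx X := ⟨⟨c, hq⟩, S, hS⟩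
    obtain ⟨φ, -, hφ⟩ := (exists_fp_idx X j).choose_spec
    haveI : (fpGen X j).obj.IsQuasicoherent := (fpGen X j).property
    haveI : Epi (φ : (fpGen X j).obj ⟶ sub S) := hφ
    haveI := isQuasicoherent_sub hS
    obtain ⟨z, hz⟩ := app_surjective_of_epi (φ : (fpGen X j).obj ⟶ sub S) hU w
    have h1 := h (fpGen X j) (ObjectProperty.ofObj_apply (fpGen X) j)
      (ObjectProperty.homMk ((φ : (fpGen X j).obj ⟶ sub S) ≫ incl S ≫ i.hom ≫ a))
    have h2 : ((φ : (fpGen X j).obj ⟶ sub S) ≫ incl S ≫ i.hom ≫ a) ≫ f.hom =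
        ((φ : (fpGen X j).obj ⟶ sub S) ≫ incl S ≫ i.hom ≫ a) ≫ g.hom :=
      congrArg (fun ψ ↦ ψ.hom) h1
    have hzt : ((φ : (fpGen X j).obj ⟶ sub S) ≫ incl S ≫ i.hom ≫ a).app U z = t := by
      simp only [Scheme.Modules.Hom.comp_app, ConcreteCategory.comp_apply]
      rw [hz, hw, ← ht']
      refine congrArg (a.app U) ?_
      rw [← ConcreteCategory.comp_apply, ← Scheme.Modules.Hom.comp_app, i.inv_hom_id]
      rfl
    have h'' := congr($(h2).app U z)
    simp only [Scheme.Modules.Hom.comp_app, ConcreteCategory.comp_apply] at h'' hzt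
    rwa [hzt] at h''
  have hf := NatTrans.naturality_apply f.hom.mapPresheaf (homOfLE hUV').op s
  have hg := NatTrans.naturality_apply g.hom.mapPresheaf (homOfLE hUV').op s
  refine ((N.obj.presheaf.germ_res_apply (homOfLE hUV') y hyU (f.hom.app V s)).symm).trans
    (Eq.trans ?_ (N.obj.presheaf.germ_res_apply (homOfLE hUV') y hyU (g.hom.app V s)))
  exact congrArg (N.obj.presheaf.germ U y hyU) (hf.symm.trans ((key _).trans hg))

lemma isStrongGenerator_fpGen : (ObjectProperty.ofObj (fpGen X)).IsStrongGenerator := by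
  refine ObjectProperty.isStrongGenerator_iff.mpr ⟨isSeparating_fpGen X, fun A B i _ hi ↦ ?_⟩
  have : Epi i := ⟨fun {Z} g₁ g₂ e ↦ isSeparating_fpGen X _ _ fun G hG h ↦ by
    obtain ⟨h', rfl⟩ := hi G hG h
    simp only [Category.assoc, e]⟩
  exact isIso_of_mono_of_epi i

/-- Let `X` be quasi-compact and quasi-separated and `F` a quasi-coherent `O_X`-module. Then `F` is the
colimit of a filtered diagram of finitely presented `O_X`-modules: there are a small filtered
category `I`, a diagram of finitely presented modules and a colimit cocone with vertex `F`. -/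
theorem result (X : Scheme.{u}) [CompactSpace X] [QuasiSeparatedSpace X] (F : X.Modules)
    (hF : Coh.IsQCoh F) :
    ∃ (I : Type u) (_ : SmallCategory I) (_ : IsFiltered I) (D : I ⥤ X.Modules) (c : Limits.Cocone D)
      (_ : Limits.IsColimit c), (∀ i, CohB1.IsFP (D.obj i)) ∧ c.pt = F := by
  classical
  haveI : Fact (Cardinal.aleph0.{u}).IsRegular := ⟨Cardinal.isRegular_aleph0⟩
  haveI : F.IsQuasicoherent := hF
  let P := ObjectProperty.ofObj (fpGen X)
  have hP : P ≤ isCardinalPresentable (QCohCat.QCoh X) Cardinal.aleph0.{u} := by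
    rintro _ ⟨i⟩
    obtain ⟨φ, hfp, -⟩ := (exists_fp_idx X i).choose_spec
    exact Presentable.isFinitelyPresentable_of_isFP (fpGen X i) hfp
  haveI := (isStrongGenerator_fpGen X).isDense_colimitsCardinalClosure_ι hP
  obtain ⟨J, _, _, ⟨hJ⟩⟩ := (IsCardinalFilteredGenerator.of_isDense_ι
    (P.colimitsCardinalClosure Cardinal.aleph0.{u}) Cardinal.aleph0.{u}
    (P.colimitsCardinalClosure_le_isCardinalPresentable hP)).exists_colimitsOfShape ⟨F, hF⟩
  have hfil : IsFiltered J := isFiltered_of_isCardinalFiltered J Cardinal.aleph0.{u}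
  refine ⟨J, inferInstance, hfil, hJ.diag ⋙ (QCohCat.isQCoh X).ι,
    (QCohCat.isQCoh X).ι.mapCocone hJ.cocone, isColimitOfPreserves _ hJ.isColimit, fun j ↦ ?_, rfl⟩
  haveI : IsFinitelyPresentable.{u} (hJ.diag.obj j) :=
    P.colimitsCardinalClosure_le_isCardinalPresentable hP _ (hJ.prop_diag_obj j)
  exact Presentable.isFP_of_isFinitelyPresentable (hJ.diag.obj j)

end Groth.Agent.S2128
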