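import Groth.Statements.S5763
import Mathlib

set_option autoImplicit false
universe u
open EGA41

namespace Groth.Agent.S5763

/-- Let ρ : A → B be a ring homomorphism making B an integral A-algebra. Then dim(B) ≤ dim(A), and if ρ
is injective then dim(B) = dim(A) (Krull dimensions). -/
theorem result (A B : Type u) [CommRing A] [CommRing B] [Algebra A B]
    [Algebra.IsIntegral A B] :
    ringKrullDim B ≤ ringKrullDim A ∧
      (Function.Injective (algebraMap A B) → ringKrullDim B = ringKrullDim A) := by
  have hle : ringKrullDim B ≤ ringKrullDim A :=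
    Order.krullDim_le_of_strictMono (PrimeSpectrum.comap (algebraMap A B))
      fun P Q h => Ideal.IsIntegral.comap_lt_comap (R := A) h
  refine ⟨hle, fun hinj => le_antisymm hle (iSup_le fun l => ?_)⟩
  obtain ⟨Q, -, hQ, hQl⟩ := Ideal.exists_ideal_over_prime_of_isIntegral (S := B) l.head.asIdeal ⊥
    (by
      intro x hx
      have h0 : x = 0 := hinj (by rw [map_zero]; simpa using hx)
      rw [h0]; exact zero_mem _)
  haveI : Q.LiesOver l.head.asIdeal := ⟨hQl.symm⟩
  obtain ⟨L, hL, -, -⟩ := Ideal.exists_ltSeries_of_hasGoingUp l Q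
  exact le_sSup ⟨L, by simp [hL]⟩

end Groth.Agent.S5763
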