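import Groth.Statements.S17759
import Groth.Agent.LocCohSweep.TopSupport
import Groth.Agent.S0317

set_option autoImplicit false
universe u
open LocCoh

namespace Groth.Agent.S17759

/-- Let R be a complete Noetherian local ring with maximal ideal m, E an injective hull of its residue
field, I an ideal of R and M a finitely generated R-module whose support has dimension n. Then the
set of associated primes of the Matlis dual Hom_R(H^n_I(M), E) of the top local cohomology module
(the coassociated primes of H^n_I(M)) is the set of prime ideals p of R containing the annihilator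
of M such that R ⧸ p has dimension n and the radical of I + p is m. -/
theorem result (R : Type u) [CommRing R] [IsNoetherianRing R] [IsLocalRing R] [IsAdicComplete (IsLocalRing.maximalIdeal R) R] (E : Type u) [AddCommGroup E] [Module R E] (f : IsLocalRing.ResidueField R →ₗ[R] E) (hf : InjHull.IsInjectiveHull f) (I : Ideal R) (M : Type u) [AddCommGroup M] [Module R M] [Module.Finite R M] (n : ℕ) (hn : Module.supportDim R M = n) : associatedPrimes R (LocCoh.H I n M →ₗ[R] E) = {p : Ideal R | p.IsPrime ∧ Module.annihilator R M ≤ p ∧ ringKrullDim (R ⧸ p) = n ∧ (I ⊔ p).radical = IsLocalRing.maximalIdeal R} := by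
  classical
  let H := LocCoh.H I n M
  let N := H →ₗ[R] E
  have hart : IsArtinian R H := LocCoh.isArtinian_H_supportDim I n (ModuleCat.of R M) hn.le
  obtain ⟨hfin, heval⟩ := S0317.result R E f hf H
  have hannH : ∀ a ∈ Module.annihilator R M, ∀ z : H, a • z = 0 := fun a ha z =>
    LocCoh.smul_H_eq_zero (fun m => Module.mem_annihilator.mp ha m) z
  have hannN : ∀ a : R, (∀ z : H, a • z = 0) → a ∈ Module.annihilator R N := fun a ha =>
    Module.mem_annihilator.mpr fun φ => LinearMap.ext fun z => by
      show a • φ z = 0
      rw [← map_smul, ha, map_zero]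
  obtain ⟨J, hJ, hJ'⟩ := LocCohSweep.TopSupport.exists_annihilating I n M hn.le
  ext p
  constructor
  · intro hp
    have hpp : p.IsPrime := Depth.isPrime_of_mem_associatedPrimes hp
    have hle : Module.annihilator R N ≤ p := Depth.annihilator_le_associatedPrime hp
    have hMp : Module.annihilator R M ≤ p := fun a ha => hle (hannN a (hannH a ha))
    have hps : (⟨p, hpp⟩ : PrimeSpectrum R) ∈ Module.support R M := by
      rw [Module.support_eq_zeroLocus]; exact hMp
    refine ⟨hpp, hMp, le_antisymm ((LocCohSweep.TopSupport.dim_quotient_le_of_mem hps).trans hn.le) ?_, ?_⟩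
    · by_contra hlt
      have hT : {q | q ∈ (Module.annihilator R M).minimalPrimes ∧ ringKrullDim (R ⧸ q) = n}.Finite :=
        ((Module.annihilator R M).finite_minimalPrimes_of_isNoetherianRing).subset fun q hq => hq.1
      have hnot : ¬ (p : Set R) ⊆ ⋃ q ∈ {q | q ∈ (Module.annihilator R M).minimalPrimes ∧
          ringKrullDim (R ⧸ q) = n}, (q : Set R) := by
        intro hsub
        obtain ⟨q, hq, hpq⟩ := (Ideal.subset_union_prime_finite hT ⊤ ⊤
          fun q hq _ _ => hq.1.1.1).mp hsub
        exact hlt (hq.2.ge.trans (LocCohSweep.HLVTConn.dim_antitone hpq))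
      obtain ⟨x, hxp, hx⟩ := Set.not_subset.mp hnot
      have hsurj := LocCohSweep.TopSupport.surjective_smul (I := I) M hn.le x fun q hq hqn hxq => by
        rw [Module.support_eq_zeroLocus] at hq
        obtain ⟨r, hr, hrq⟩ := Ideal.exists_minimalPrimes_le (I := Module.annihilator R M) (J := q.asIdeal) hq
        have hrs : (⟨r, hr.1.1⟩ : PrimeSpectrum R) ∈ Module.support R M := by
          rw [Module.support_eq_zeroLocus]; exact hr.1.2
        have hrn : ringKrullDim (R ⧸ r) = n := le_antisymm
          ((LocCohSweep.TopSupport.dim_quotient_le_of_mem hrs).trans hn.le)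
          (hqn.ge.trans (LocCohSweep.HLVTConn.dim_antitone hrq))
        rcases hrq.eq_or_lt with e | hlt'
        · exact hx (Set.mem_biUnion ⟨hr, hrn⟩ (e ▸ hxq))
        · have := hr.1.1
          have h1 := Depth.ringKrullDim_quotient_succ_le (p := r) (q := q.asIdeal) hlt'
          rw [hqn, hrn] at h1
          have : n + 1 ≤ n := by exact_mod_cast h1
          omega
      refine Depth.notMem_of_isSMulRegular hp (r := x) ?_ hxp
      intro φ ψ hφψ
      refine LinearMap.ext fun z => ?_
      obtain ⟨w, rfl⟩ := hsurj z
      show φ (x • w) = ψ (x • w)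
      rw [map_smul, map_smul]
      exact LinearMap.congr_fun hφψ w
    · have hIp : I ⊔ J ≤ I ⊔ p := sup_le_sup_left (fun a ha => hle (hannN a (hJ' a ha))) I
      refine le_antisymm ?_ (hJ.trans (Ideal.radical_mono hIp))
      rcases eq_or_ne (I ⊔ p) ⊤ with htop | htop
      · exfalso
        have hI : I = ⊤ := by
          by_contra hI
          exact (IsLocalRing.maximalIdeal.isMaximal R).ne_top (top_le_iff.mp
            (htop ▸ sup_le (IsLocalRing.le_maximalIdeal hI) (IsLocalRing.le_maximalIdeal hpp.ne_top)))
        have hH : Subsingleton H := by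
          refine subsingleton_of_forall_eq 0 fun z => ?_
          obtain ⟨k, hk⟩ := LocCoh.isPowerTorsion_H (I := I) (i := n) (ModuleCat.of R M) z
          rw [← one_smul R z]
          exact hk 1 (by rw [hI, Ideal.top_pow]; trivial)
        exact hpp.ne_top (top_le_iff.mp (le_trans (fun a _ => hannN a fun z => Subsingleton.elim _ _) hle))
      · exact (IsLocalRing.maximalIdeal.isMaximal R).isPrime.radical ▸
          Ideal.radical_mono (IsLocalRing.le_maximalIdeal htop)
  · rintro ⟨hpp, hMp, hdim, hrad⟩
    have hps : (⟨p, hpp⟩ : PrimeSpectrum R) ∈ Module.support R M := by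
      rw [Module.support_eq_zeroLocus]; exact hMp
    obtain ⟨φ, hφ⟩ := LocCohSweep.TopSupport.exists_surjective_to_prime (I := I) M hn.le ⟨p, hpp⟩ hps
    have hsuppq : Module.supportDim R (R ⧸ p) ≤ n := by
      rw [Module.supportDim_quotient_eq_ringKrullDim, hdim]
    have hle : Module.annihilator R N ≤ p := by
      intro a ha
      by_contra hap
      have hsurj := LocCohSweep.TopSupport.surjective_smul (I := I) (R ⧸ p) hsuppq a fun q hq hqn => by
        rw [Module.support_eq_zeroLocus, Ideal.annihilator_quotient] at hq
        rcases (show p ≤ q.asIdeal from hq).eq_or_lt with e | hlt'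
        · exact e ▸ hap
        · have h1 := Depth.ringKrullDim_quotient_succ_le (p := p) (q := q.asIdeal) hlt'
          rw [hqn, hdim] at h1
          have : n + 1 ≤ n := by exact_mod_cast h1
          omega
      have ha0 : ∀ z : H, a • z = 0 := fun z => heval.1 (LinearMap.ext fun ψ => by
        show ψ (a • z) = (LinearMap.applyₗ (0 : H)) ψ
        rw [map_smul, LinearMap.applyₗ_apply_apply, map_zero]
        exact LinearMap.congr_fun (Module.mem_annihilator.mp ha ψ) z)
      have hsub : Subsingleton (LocCoh.H I n (R ⧸ p)) := subsingleton_of_forall_eq 0 fun y => by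
        obtain ⟨y, rfl⟩ := hsurj y
        obtain ⟨z, rfl⟩ := hφ y
        show a • φ z = 0
        rw [← map_smul, ha0, map_zero]
      let S := R ⧸ p
      have : IsLocalRing S := IsLocalRing.of_surjective' _ Ideal.Quotient.mk_surjective
      have hS := (LocCoh.subsingleton_H_restrict_iff (B := S) I n (ModuleCat.of S S)).mpr hsub
      have hne : I.map (algebraMap R S) ≠ ⊤ := by
        refine fun h => (IsLocalRing.maximalIdeal.isMaximal S).ne_top (top_le_iff.mp (h ▸ ?_))
        refine (Ideal.map_mono ((Ideal.le_radical.trans' le_sup_left).trans hrad.le)).trans_eq ?_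
        rw [Ideal.Quotient.algebraMap_eq,
          IsLocalRing.map_maximalIdeal_of_surjective _ Ideal.Quotient.mk_surjective]
      refine not_nontrivial_iff_subsingleton.mpr hS
        (LocCohSweep.HLVTConn.nontrivial_H_of_dim_zero hne ?_ hdim)
      rw [Ideal.Quotient.algebraMap_eq,
        ringKrullDim_eq_of_ringEquiv (DoubleQuot.quotQuotEquivQuotSup p I), sup_comm]
      refine le_antisymm (LocCohSweep.HLVTConn.dim_le_of_forall_prime fun x hx => ?_) ?_
      · have hxm : x.asIdeal = IsLocalRing.maximalIdeal R := le_antisymm
          (IsLocalRing.le_maximalIdeal x.2.ne_top) (hrad.ge.trans (x.2.radical_le_iff.mpr hx))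
        rw [hxm, ringKrullDim_eq_zero_of_isField ((Ideal.Quotient.maximal_ideal_iff_isField_quotient _).mp
          (IsLocalRing.maximalIdeal.isMaximal R))]
      · have : Nontrivial (R ⧸ (I ⊔ p)) := Ideal.Quotient.nontrivial_iff.mpr fun h =>
          (IsLocalRing.maximalIdeal.isMaximal R).ne_top (by rw [← hrad, h, Ideal.radical_top])
        exact ringKrullDim_nonneg_of_nontrivial
    refine Module.associatedPrimes.minimalPrimes_annihilator_subset_associatedPrimes R N
      ⟨⟨hpp, hle⟩, fun q hq hqp => ?_⟩
    by_contra hne
    have := hq.1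
    have hMq : Module.annihilator R M ≤ q := fun a ha => hq.2 (hannN a (hannH a ha))
    have h1 := (Depth.ringKrullDim_quotient_succ_le (p := q) (q := p)
      (lt_of_le_of_ne hqp fun e => hne (e ▸ le_rfl))).trans
      ((LocCohSweep.TopSupport.dim_quotient_le_of_mem (M := M) (p := ⟨q, hq.1⟩)
        (by rw [Module.support_eq_zeroLocus]; exact hMq)).trans hn.le)
    rw [hdim] at h1
    have : n + 1 ≤ n := by exact_mod_cast h1
    omega

end Groth.Agent.S17759
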