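import Groth.Statements.S7153
import Mathlib.RingTheory.Ideal.Operations
import Mathlib.Algebra.Algebra.Operations
import Mathlib.RingTheory.Filtration


set_option autoImplicit false
universe u
open CAlg

namespace Groth.Agent.S7153

/-- Let A be a Noetherian ring, I an ideal and K → L → M a complex of finite A-modules with maps α, β
and homology H = Ker β / Im α; for n ≥ 0 let H_n be the homology of the induced complex K/IⁿK →
L/IⁿL → M/IⁿM, which is β⁻¹(IⁿM)/(Im α + IⁿL). Then there is c > 0 such that for every n: (i) the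
image of H_(n+c) → H_n is contained in, hence equal to, the image of H → H_n; (ii) the kernel and
the cokernel of H/IⁿH → H_n are annihilated by I^c. Everything is phrased with representatives in L. -/
theorem result (A : Type u) [CommRing A] [IsNoetherianRing A] (I : Ideal A)
    (K L M : Type u) [AddCommGroup K] [Module A K] [Module.Finite A K] [AddCommGroup L] [Module A L]
    [Module.Finite A L] [AddCommGroup M] [Module A M] [Module.Finite A M]
    (α : K →ₗ[A] L) (β : L →ₗ[A] M) (hαβ : β ∘ₗ α = 0) :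
    ∃ c : ℕ, 0 < c ∧ ∀ n : ℕ,
      (∀ y ∈ (I ^ (n + c) • ⊤ : Submodule A M).comap β,
        ∃ z ∈ LinearMap.ker β, y - z ∈ LinearMap.range α ⊔ (I ^ n • ⊤ : Submodule A L)) ∧
      (∀ z ∈ LinearMap.ker β, z ∈ LinearMap.range α ⊔ (I ^ n • ⊤ : Submodule A L) →
        ∀ a ∈ I ^ c, a • z ∈ LinearMap.range α ⊔ I ^ n • LinearMap.ker β) ∧
      (∀ y ∈ (I ^ n • ⊤ : Submodule A M).comap β, ∀ a ∈ I ^ c,
        ∃ z ∈ LinearMap.ker β, a • y - z ∈ LinearMap.range α ⊔ (I ^ n • ⊤ : Submodule A L)) := by
  obtain ⟨c₁, h₁⟩ := I.exists_pow_inf_eq_pow_smul (LinearMap.range β)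
  obtain ⟨c₂, h₂⟩ := I.exists_pow_inf_eq_pow_smul (LinearMap.ker β)
  let c := max (max c₁ c₂) 1
  refine ⟨c, by omega, fun n => ?_⟩
  have key : ∀ w ∈ (I ^ (n + c) • ⊤ : Submodule A M).comap β,
      ∃ z ∈ LinearMap.ker β, w - z ∈ (I ^ n • ⊤ : Submodule A L) := by
    intro w hw
    have h3 : β w ∈ I ^ (n + c - c₁) • LinearMap.range β := by
      have := (h₁ (n + c) (by omega)).le ⟨hw, ⟨w, rfl⟩⟩
      exact Submodule.smul_mono le_rfl inf_le_right this
    rw [LinearMap.range_eq_map, ← Submodule.map_smul''] at h3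
    obtain ⟨l, hl, hlw⟩ := h3
    refine ⟨w - l, by simp [hlw], ?_⟩
    simpa using Submodule.smul_mono_left (Ideal.pow_le_pow_right (by omega)) hl
  refine ⟨fun y hy => ?_, fun z hz hzn a ha => ?_, fun y hy a ha => ?_⟩
  · obtain ⟨z, hz, h⟩ := key y hy
    exact ⟨z, hz, le_sup_right (a := LinearMap.range α) h⟩
  · obtain ⟨_, ⟨k, rfl⟩, l, hl, rfl⟩ := Submodule.mem_sup.mp hzn
    rw [smul_add]
    refine Submodule.add_mem_sup ⟨a • k, map_smul α a k⟩ ?_
    have hlker : l ∈ LinearMap.ker β := by
      have := LinearMap.congr_fun hαβ k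
      simp only [LinearMap.comp_apply, LinearMap.zero_apply] at this
      simpa [this] using hz
    rcases lt_or_ge n c₂ with hn | hn
    · exact Submodule.smul_mem_smul (Ideal.pow_le_pow_right (by omega) ha) hlker
    · have h4 : l ∈ I ^ (n - c₂) • LinearMap.ker β :=
        Submodule.smul_mono le_rfl inf_le_right ((h₂ n hn).le ⟨hl, hlker⟩)
      have h5 : a • l ∈ I ^ c • (I ^ (n - c₂) • LinearMap.ker β) := Submodule.smul_mem_smul ha h4
      rw [← Submodule.mul_smul, ← pow_add] at h5
      exact Submodule.smul_mono_left (Ideal.pow_le_pow_right (by omega)) h5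
  · obtain ⟨z, hz, h⟩ := key (a • y) (by
      have := Submodule.smul_mem_smul (N := (I ^ n • ⊤ : Submodule A M)) ha hy
      rw [← Submodule.mul_smul, ← pow_add, add_comm c n] at this
      simpa using this)
    exact ⟨z, hz, le_sup_right (a := LinearMap.range α) h⟩

end Groth.Agent.S7153
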