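import Groth.Statements.S7136
import Groth.Agent.S7153
import Mathlib.LinearAlgebra.Pi
import Mathlib.Algebra.Module.Submodule.Range


set_option autoImplicit false
universe u
open CAlg

namespace Groth.Agent.S7136

theorem mem_smul_top_pi {A : Type u} [CommRing A] {N : Type u} [AddCommGroup N] [Module A N]
    {J : Ideal A} {a : ℕ} {z : Fin a → N} (h : ∀ i, z i ∈ (J • ⊤ : Submodule A N)) :
    z ∈ (J • ⊤ : Submodule A (Fin a → N)) := by
  classical
  rw [← Finset.univ_sum_single z]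
  refine Submodule.sum_mem _ fun i _ => ?_
  have h1 : LinearMap.single A (fun _ : Fin a => N) i (z i) ∈
      (J • ⊤ : Submodule A N).map (LinearMap.single A (fun _ : Fin a => N) i) :=
    Submodule.mem_map_of_mem (h i)
  rw [Submodule.map_smul''] at h1
  exact Submodule.smul_mono le_rfl le_top h1

theorem apply_mem_smul_top {A : Type u} [CommRing A] {N : Type u} [AddCommGroup N] [Module A N]
    {J : Ideal A} {a : ℕ} {z : Fin a → N} (h : z ∈ (J • ⊤ : Submodule A (Fin a → N))) (i : Fin a) :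
    z i ∈ (J • ⊤ : Submodule A N) := by
  have h1 : LinearMap.proj (R := A) (φ := fun _ : Fin a => N) i z ∈
      (J • ⊤ : Submodule A (Fin a → N)).map (LinearMap.proj i) := Submodule.mem_map_of_mem h
  rw [Submodule.map_smul''] at h1
  exact Submodule.smul_mono le_rfl le_top h1

/-- Uniform lifting bound for homomorphisms modulo powers of an ideal. -/
theorem exists_bound {A : Type u} [CommRing A] [IsNoetherianRing A] (I : Ideal A)
    (M N : Type u) [AddCommGroup M] [Module A M] [Module.Finite A M] [AddCommGroup N] [Module A N]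
    [Module.Finite A N] :
    ∃ c : ℕ,
      (∀ (n : ℕ) (ψ : M →ₗ[A] N ⧸ (I ^ (n + c) • ⊤ : Submodule A N)), ∃ φ : M →ₗ[A] N,
        Submodule.mapQ (I ^ (n + c) • ⊤ : Submodule A N) (I ^ n • ⊤) LinearMap.id
          (Submodule.smul_mono_left (Ideal.pow_le_pow_right (Nat.le_add_right n c))) ∘ₗ ψ =
          (I ^ n • ⊤ : Submodule A N).mkQ ∘ₗ φ) ∧
      (∀ (n : ℕ) (φ : M →ₗ[A] N), (I ^ n • ⊤ : Submodule A N).mkQ ∘ₗ φ = 0 →
        ∀ a ∈ I ^ c, a • φ ∈ (I ^ n • ⊤ : Submodule A (M →ₗ[A] N))) ∧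
      (∀ (n : ℕ) (ψ : M →ₗ[A] N ⧸ (I ^ n • ⊤ : Submodule A N)), ∀ a ∈ I ^ c,
        ∃ φ : M →ₗ[A] N, (I ^ n • ⊤ : Submodule A N).mkQ ∘ₗ φ = a • ψ) := by
  classical
  obtain ⟨a, π, hπ⟩ := Module.Finite.exists_fin' A M
  obtain ⟨b, r, hr⟩ := Submodule.fg_iff_exists_fin_generating_family.mp (IsNoetherian.noetherian (LinearMap.ker π))
  let β : (Fin a → N) →ₗ[A] (Fin b → N) :=
    LinearMap.pi fun j => ∑ i, r j i • LinearMap.proj i
  let ev : (M →ₗ[A] N) →ₗ[A] (Fin a → N) :=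
    LinearMap.pi fun i => LinearMap.applyₗ (π (Pi.single i 1))
  have hsum : ∀ {P : Type u} [AddCommGroup P] [Module A P] (ψ : M →ₗ[A] P) (x : Fin a → A),
      ψ (π x) = ∑ i, x i • ψ (π (Pi.single i 1)) := by
    intro P _ _ ψ x
    conv_lhs => rw [pi_eq_sum_univ' x, map_sum, map_sum]
    simp [map_smul]
  have hevinj : Function.Injective ev := by
    intro f g hfg
    refine LinearMap.ext fun m => ?_
    obtain ⟨x, rfl⟩ := hπ m
    rw [hsum f, hsum g]
    exact Finset.sum_congr rfl fun i _ => congrArg _ (congrFun hfg i)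
  have hevker : ∀ z ∈ LinearMap.ker β, ∃ φ, ev φ = z := by
    intro z hz
    let L := Fintype.linearCombination A z
    have hle : LinearMap.ker π ≤ LinearMap.ker L := by
      rw [← hr, Submodule.span_le]
      rintro _ ⟨j, rfl⟩
      have := congrFun (LinearMap.mem_ker.mp hz) j
      simpa [β, L, Fintype.linearCombination_apply] using this
    let φ := (LinearMap.ker π).liftQ L hle ∘ₗ (π.quotKerEquivOfSurjective hπ).symm.toLinearMap
    refine ⟨φ, funext fun i => ?_⟩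
    have : φ (π (Pi.single i 1)) = L (Pi.single i 1) := by
      have e : (π.quotKerEquivOfSurjective hπ).symm (π (Pi.single i 1)) =
          Submodule.Quotient.mk (Pi.single i 1) := by
        rw [LinearEquiv.symm_apply_eq]; rfl
      simp [φ, e]
    simpa [ev, L] using this
  have hevβ : ∀ φ, β (ev φ) = 0 := by
    intro φ
    ext j
    have := hsum φ (r j)
    rw [show π (r j) = 0 from hr.le (Submodule.subset_span ⟨j, rfl⟩ : r j ∈ Submodule.span A (Set.range r)), map_zero] at this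
    simpa [β, ev] using this.symm
  have hyβ : ∀ (n : ℕ) (ψ : M →ₗ[A] N ⧸ (I ^ n • ⊤ : Submodule A N)) (y : Fin a → N),
      (∀ i, ψ (π (Pi.single i 1)) = Submodule.Quotient.mk (y i)) →
      y ∈ (I ^ n • ⊤ : Submodule A (Fin b → N)).comap β := by
    intro n ψ y hy
    refine mem_smul_top_pi fun j => (Submodule.Quotient.mk_eq_zero _).mp ?_
    have := hsum ψ (r j)
    rw [show π (r j) = 0 from hr.le (Submodule.subset_span ⟨j, rfl⟩ : r j ∈ Submodule.span A (Set.range r)), map_zero] at this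
    simp only [hy] at this
    rw [this]
    simp only [β, LinearMap.pi_apply, LinearMap.sum_apply, LinearMap.smul_apply, LinearMap.proj_apply]
    rw [← Submodule.mkQ_apply, map_sum]
    simp
  obtain ⟨c, -, hc⟩ := S7153.result A I PUnit.{u+1} (Fin a → N) (Fin b → N) 0 β (by simp)
  refine ⟨c, fun n ψ => ?_, fun n φ hφ x hx => ?_, fun n ψ x hx => ?_⟩
  · choose y hy using fun i => Submodule.mkQ_surjective _ (ψ (π (Pi.single i 1)))
    obtain ⟨z, hz, hyz⟩ := (hc n).1 y (hyβ _ ψ y fun i => (hy i).symm)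
    obtain ⟨φ, rfl⟩ := hevker z hz
    rw [LinearMap.range_zero, bot_sup_eq] at hyz
    refine ⟨φ, LinearMap.ext fun m => ?_⟩
    obtain ⟨x, rfl⟩ := hπ m
    rw [hsum (_ ∘ₗ ψ), hsum (_ ∘ₗ φ)]
    refine Finset.sum_congr rfl fun i _ => congrArg _ ?_
    simp only [LinearMap.comp_apply, ← hy i]
    exact (Submodule.Quotient.eq _).mpr (apply_mem_smul_top hyz i)
  · have h := (hc n).2.1 (ev φ) (hevβ φ) (Submodule.mem_sup_right
      (mem_smul_top_pi fun i => (Submodule.Quotient.mk_eq_zero _).mp (LinearMap.congr_fun hφ _))) x hx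
    rw [LinearMap.range_zero, bot_sup_eq, ← map_smul] at h
    have hker : LinearMap.ker β ≤ (⊤ : Submodule A (M →ₗ[A] N)).map ev := fun z hz => by
      obtain ⟨φ', rfl⟩ := hevker z hz
      exact Submodule.mem_map_of_mem trivial
    have h' := Submodule.smul_mono le_rfl hker h
    rw [← Submodule.map_smul''] at h'
    obtain ⟨φ', hφ', he⟩ := h'
    rwa [hevinj he] at hφ'
  · choose y hy using fun i => Submodule.mkQ_surjective _ (ψ (π (Pi.single i 1)))
    obtain ⟨z, hz, hyz⟩ := (hc n).2.2 y (hyβ _ ψ y fun i => (hy i).symm) x hx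
    obtain ⟨φ, rfl⟩ := hevker z hz
    rw [LinearMap.range_zero, bot_sup_eq] at hyz
    refine ⟨φ, LinearMap.ext fun m => ?_⟩
    obtain ⟨v, rfl⟩ := hπ m
    rw [hsum (_ ∘ₗ φ), hsum (x • ψ)]
    refine Finset.sum_congr rfl fun i _ => congrArg _ ?_
    simp only [LinearMap.comp_apply, LinearMap.smul_apply, ← hy i]
    exact ((Submodule.Quotient.eq _).mpr (apply_mem_smul_top hyz i)).symm

/-- Let A be a Noetherian ring, I an ideal, and M, N finite A-modules; write N_n = N/IⁿN, so that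
Hom_A(M/IⁿM, N_n) = Hom_A(M, N_n). Then (1) the inverse system (Hom_A(M, N_n))_n, with transition
maps induced by the projections N_k → N_n, is Mittag-Leffler; (2) there is c ≥ 0 such that for all n
the kernel and the cokernel of Hom_A(M, N)/IⁿHom_A(M, N) → Hom_A(M, N_n) are annihilated by I^c. -/
theorem result (A : Type u) [CommRing A] [IsNoetherianRing A]
    (I : Ideal A) (M N : Type u) [AddCommGroup M] [Module A M] [Module.Finite A M] [AddCommGroup N] [Module A N]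
    [Module.Finite A N] :
    let Nq : ℕ → Submodule A N := fun n => I ^ n • ⊤
    let pr : ∀ n k : ℕ, n ≤ k → (N ⧸ Nq k) →ₗ[A] (N ⧸ Nq n) :=
      fun n k hnk => Submodule.mapQ (Nq k) (Nq n) (LinearMap.id : N →ₗ[A] N) (Submodule.smul_mono_left (Ideal.pow_le_pow_right hnk))
    let red : ∀ n : ℕ, (M →ₗ[A] N) → (M →ₗ[A] N ⧸ Nq n) := fun n φ => (Nq n).mkQ ∘ₗ φ
    (∀ n : ℕ, ∃ m : ℕ, n ≤ m ∧ ∀ (k : ℕ) (hmk : m ≤ k) (hnm : n ≤ m) (ψ : M →ₗ[A] N ⧸ Nq m),
        ∃ ψ' : M →ₗ[A] N ⧸ Nq k, pr n k (hnm.trans hmk) ∘ₗ ψ' = pr n m hnm ∘ₗ ψ) ∧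
    ∃ c : ℕ, ∀ n : ℕ,
      (∀ φ : M →ₗ[A] N, red n φ = 0 → ∀ a ∈ I ^ c, a • φ ∈ (I ^ n • ⊤ : Submodule A (M →ₗ[A] N))) ∧
      (∀ (ψ : M →ₗ[A] N ⧸ Nq n), ∀ a ∈ I ^ c, ∃ φ : M →ₗ[A] N, red n φ = a • ψ) := by
  intro Nq pr red
  classical
  obtain ⟨c, h1, h2, h3⟩ := exists_bound I M N
  refine ⟨fun n => ⟨n + c, by omega, fun k hmk hnm ψ => ?_⟩, c, fun n => ⟨h2 n, h3 n⟩⟩
  obtain ⟨φ, hφ⟩ := h1 n ψ
  refine ⟨(Nq k).mkQ ∘ₗ φ, ?_⟩
  rw [show pr n k (hnm.trans hmk) ∘ₗ (Nq k).mkQ ∘ₗ φ = (Nq n).mkQ ∘ₗ φ from LinearMap.ext fun x => rfl]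
  exact hφ.symm

end Groth.Agent.S7136
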