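import Groth.Statements.S5019
import Groth.Agent.Omega.SmoothFibreDim
import Groth.Agent.Omega.LocalStructure
-- import your own Groth.Agent.* helpers here

set_option autoImplicit false
universe u
open CategoryTheory CategoryTheory.Limits AlgebraicGeometry TopologicalSpace
open Unram17

namespace Groth.Agent.S5019

/-- Let f : X ⟶ Y be smooth and let (Ω', d) be a sheaf of differentials of X over Y (d a universal
Y-derivation). Then for every point x of X there are an open neighbourhood U of x and an integer n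
such that Ω' restricted to U is free of rank n and n is the local dimension at x of the fibre of f
through x. -/
theorem result {X Y : Scheme.{u}} (f : X ⟶ Y) [Smooth f]
    (Ω' : X.Modules) (d : OmegaSh.Der f Ω') (hd : OmegaSh.IsUniversal d) (x : ↥X) :
    ∃ (U : X.Opens) (n : ℕ), x ∈ U ∧ Nonempty (Ω'.restrict U.ι ≅ FlatMod.freeMod (↑U) n) ∧
      FlatMor.fibreDimAt f x = (n : WithBot ℕ∞) := by
  obtain ⟨W, V, hV, e, hW, hxV, hnt, hfin, hfree, hiso⟩ :=
    Omega.LocalStructure.exists_free_chart hd x fun {U} hU {V} hV e => by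
      letI := (f.appLE U V e).hom.toAlgebra
      haveI : Algebra.Smooth Γ(Y, U) Γ(X, V) :=
        RingHom.smooth_algebraMap.mp (HasRingHomProperty.appLE @Smooth f ‹_› ⟨U, hU⟩ ⟨V, hV⟩ e)
      exact ⟨inferInstance, inferInstance⟩
  refine ⟨V, _, hxV, hiso, ?_⟩
  letI := (f.appLE W V e).hom.toAlgebra
  haveI : Algebra.Smooth Γ(Y, W) Γ(X, V) :=
    RingHom.smooth_algebraMap.mp (HasRingHomProperty.appLE @Smooth f ‹_› ⟨W, hW⟩ ⟨V, hV⟩ e)
  obtain ⟨Q, rfl⟩ := Omega.SmoothFibreDim.exists_pt hV hxV
  haveI := hfin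
  haveI := hfree
  haveI := hnt
  rw [← Omega.SmoothFibreDim.fibreDimAt_appLE f hW hV e]
  erw [Omega.SmoothFibreDim.fibreDimAt_spec Γ(Y, W) Γ(X, V) Q]
  rw [Module.rankAtStalk_eq_finrank_of_free]
  rfl

end Groth.Agent.S5019
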