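import Groth.Statements.S5021
import Groth.Agent.S5019
import Groth.Agent.Omega.ConormalSplit
import Groth.Agent.PerfTri.Betti
import Groth.Agent.Omega.KernelLocFree
import Groth.Agent.Omega.CotangentSeq
import Groth.Agent.GrpScheme.SectionConormal
import Groth.Agent.KFlat.LocFree
-- import your own Groth.Agent.* helpers here

set_option autoImplicit false
universe u
open CategoryTheory CategoryTheory.Limits AlgebraicGeometry TopologicalSpace
open Unram17

namespace Groth.Agent.S5021

open OmegaSh Omega.Basic Omega.Stalks Omega.StalkConormal Omega.StalkSeq Omega.StalkAlg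
  Groth.Agent.PullStalk.Sky Groth.Agent.PullStalk.Exact Groth.Agent.PullStalk.Basic in
/-- The conormal differential is injective when `i ≫ f` is smooth. -/
theorem mono_conormalDiff_of_smooth {Z X Y : Scheme.{u}} {i : Z ⟶ X} [IsImmersion i] [QuasiCompact i]
    {f : X ⟶ Y} [Smooth (i ≫ f)] {Ω : X.Modules} {d : Der f Ω} (hd : IsUniversal d)
    {φ : Omega.conormal i ⟶ (Scheme.Modules.pullback i).obj Ω} (hφ : IsConormalDiff i d φ) :
    Mono φ := by
  refine mono_of_stalk fun z => ?_
  obtain ⟨δ, -, -, hδ, hu⟩ := exists_pullDer i z hd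
  obtain ⟨κ, hsmul, hκ, hP⟩ := exists_conormal i z i.isEmbedding.isInducing
  have h : ((i ≫ f).stalkMap z).hom.FormallySmooth := Omega.StalkSmooth.formallySmooth_stalkMap_of_smooth _ z
  rw [Scheme.Hom.stalkMap_comp] at h
  obtain ⟨r, hr⟩ := retraction_of_formallySmooth (π := (i.stalkMap z).hom)
    (σ := (f.stalkMap (i z)).hom) (i.stalkMap_surjective z) h hsmul hP hu
    (conormalDiff_stalk i.isEmbedding.isInducing hφ z κ hκ δ hδ)
  exact Function.LeftInverse.injective (g := r) fun t => congr($hr t)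

/-- Let f : X ⟶ Y be smooth and j : X' ⟶ X a quasi-compact immersion such that j ≫ f is smooth. Then for
every point x of X' there are an open neighbourhood U of x and an integer n with the conormal sheaf
of j free of rank n on U, and the local dimension at j(x) of the fibre of f through j(x) equals the
local dimension at x of the fibre of j ≫ f through x plus n. (The published statement allows any
immersion j; this row assumes j quasi-compact, the case in which the conormal sheaf used here is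
known to be the conormal sheaf of j.) -/
theorem result {X' X Y : Scheme.{u}} (f : X ⟶ Y) [Smooth f]
    (j : X' ⟶ X) [IsImmersion j] [QuasiCompact j] [Smooth (j ≫ f)] (x : ↥X') :
    ∃ (U : X'.Opens) (n : ℕ), x ∈ U ∧ Nonempty ((Omega.conormal j).restrict U.ι ≅ FlatMod.freeMod (↑U) n) ∧
      FlatMor.fibreDimAt f (j.base x) = FlatMor.fibreDimAt (j ≫ f) x + (n : WithBot ℕ∞) := by
  obtain ⟨Ω, d, hd⟩ := Omega.Exists.exists_isUniversal f
  obtain ⟨Ω', d', hd'⟩ := Omega.Exists.exists_isUniversal (j ≫ f)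
  obtain ⟨φ, hφ⟩ := GrpScheme.SectionConormal.exists_conormalDiff j d
  obtain ⟨c, hc, -⟩ := Omega.Basic.existsUnique_diffCompat (h := j) (b := 𝟙 Y) (f' := j ≫ f) (f := f)
    (Category.comp_id _) hd d'
  have : Mono φ := mono_conormalDiff_of_smooth hd hφ
  obtain ⟨w, hS, _⟩ := Omega.CotangentSeq.exact_and_epi hd hd' hφ hc
  have hΩ : FlatMod.IsFinLocFree Ω := fun y => by
    obtain ⟨U, n, hy, h, -⟩ := S5019.result f Ω d hd y
    exact ⟨U, n, hy, h⟩
  have hΩ' : FlatMod.IsFinLocFree Ω' := fun y => by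
    obtain ⟨U, n, hy, h, -⟩ := S5019.result (j ≫ f) Ω' d' hd' y
    exact ⟨U, n, hy, h⟩
  have := PerfTri.Betti.isQuasicoherent_of_isFinLocFree hΩ'
  have hM := KFlat.LocFree.isFinLocFree_pull j hΩ
  have := PerfTri.Betti.isQuasicoherent_of_isFinLocFree hM
  have hC := Omega.KernelLocFree.isFinLocFree φ c w hS hM hΩ'
  have := PerfTri.Betti.isQuasicoherent_of_isFinLocFree hC
  obtain ⟨U₁, m, hx₁, ⟨e₁⟩, hm⟩ := S5019.result f Ω d hd (j.base x)
  obtain ⟨U₂, n, hx₂, ⟨e₂⟩, hn⟩ := S5019.result (j ≫ f) Ω' d' hd' x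
  obtain ⟨U₀, k, hx₀, ⟨e₀⟩⟩ := hC x
  refine ⟨U₀, k, hx₀, ⟨e₀⟩, ?_⟩
  have := Omega.KernelLocFree.rank_eq φ c w hS hx₀ (U₁ := j ⁻¹ᵁ U₁) hx₁ hx₂ e₀
    (KFlat.LocFree.restrictPullIso j U₁ _ le_rfl Ω ≪≫
      (Scheme.Modules.pullback _).mapIso e₁ ≪≫ KFlat.LocFree.pullFreeIso _ m) e₂
  rw [hm, hn, this, Nat.cast_add, add_comm]

end Groth.Agent.S5021
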