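import Groth.Statements.S5016
import Groth.Agent.Omega.LiftCharts

set_option autoImplicit false
universe u
open CategoryTheory CategoryTheory.Limits AlgebraicGeometry TopologicalSpace
open Unram17

namespace Groth.Agent.S5016

/-- Let g : Y ⟶ S, h : X ⟶ S and f : X ⟶ Y with f ≫ g = h, and suppose f is formally smooth. Given
sheaves of differentials of Y over S and of X over S (universal derivations) and the canonical
compatible map c from the pullback of the former to the latter, c is a monomorphism of O_X-modules.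
(The published statement also identifies the cokernel of this map with the sheaf of differentials of
X over Y and splits the sequence locally; this row states only that the map is injective.) -/
theorem result {X Y S : Scheme.{u}} (g : Y ⟶ S) (h : X ⟶ S)
    (f : X ⟶ Y) (w : f ≫ g = h) (hf : MoreMor.IsFormallySmoothHom f)
    (ΩY : Y.Modules) (dY : OmegaSh.Der g ΩY) (hY : OmegaSh.IsUniversal dY)
    (ΩX : X.Modules) (dX : OmegaSh.Der h ΩX) (hX : OmegaSh.IsUniversal dX)
    (c : (Scheme.Modules.pullback f).obj ΩY ⟶ ΩX) (hc : OmegaSh.IsDiffCompat f dY dX c) :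
    Mono c := by
  subst w
  refine Groth.Agent.Omega.Lift.mono_of_local c fun x => ?_
  obtain ⟨V₀, hV₀, W, hW, hxW, -, hWV⟩ :=
    Groth.Agent.Omega.Chart.exists_affine_pair g (f x) (W := ⊤) (Set.mem_univ _)
  obtain ⟨_, ⟨U, hU, rfl⟩, hxU, hUW⟩ :=
    X.isBasis_affineOpens.exists_subset_of_mem_open (show x ∈ f ⁻¹ᵁ W from hxW) (f ⁻¹ᵁ W).isOpen
  replace hU : IsAffineOpen U := hU
  replace hUW : U ≤ f ⁻¹ᵁ W := hUW
  let := (g.appLE V₀ W hWV).hom.toAlgebra
  let := (f.appLE W U hUW).hom.toAlgebra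
  let : Algebra Γ(S, V₀) Γ(X, U) := ((f.appLE W U hUW).hom.comp (g.appLE V₀ W hWV).hom).toAlgebra
  have : IsScalarTower Γ(S, V₀) Γ(Y, W) Γ(X, U) := IsScalarTower.of_algebraMap_eq fun _ => rfl
  have h₁ := (Groth.Agent.Omega.Chart.fromSpec_comp g hV₀ hW hWV).symm
  have h₃ := (Groth.Agent.Omega.Chart.fromSpec_comp f hW hU hUW).symm
  have h₂ : Groth.Agent.Omega.SpecDer.π Γ(S, V₀) Γ(X, U) ≫ hV₀.fromSpec = hU.fromSpec ≫ f ≫ g := by
    rw [← Category.assoc, ← h₃, Category.assoc, ← h₁, ← Category.assoc]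
    change Spec.map _ ≫ _ = (Spec.map _ ≫ Spec.map _) ≫ _
    rw [← Spec.map_comp]
    rfl
  have := Groth.Agent.Omega.SmoothHom.formallySmooth_of_hom hf h₃
  exact ⟨_, hU.fromSpec, inferInstance, by rw [hU.range_fromSpec]; exact hxU,
    Groth.Agent.Omega.Lift.mono_restrict_of_extSurj hU.fromSpec
      (Groth.Agent.Omega.LiftAffine.extSurj_chart Groth.Agent.Omega.SmoothHom.derExt_of_formallySmooth h₁ h₂ h₃)
      hY hX hc⟩

end Groth.Agent.S5016
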