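import Groth.Statements.S18543
import Mathlib
-- import your own Groth.Agent.* helpers here

set_option autoImplicit false
set_option backward.isDefEq.respectTransparency false
universe u
open Hopf

namespace Groth.Agent.S18543

open TensorProduct in
/-- An étale algebra over a field has exactly `finrank` points in an algebraically closed field, and
they span the space of linear forms. -/
lemma points_span (k : Type u) [Field k] (A : Type u) [CommRing A] [Algebra k A] [Module.Finite k A]
    [Algebra.Etale k A] (K : Type u) [Field K] [Algebra k K] [IsAlgClosed K] :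
    Nat.card (A →ₐ[k] K) = Module.finrank k A ∧
      Submodule.span K (Set.range fun φ : A →ₐ[k] K => φ.toLinearMap) = ⊤ := by
  classical
  have : IsReduced (K ⊗[k] A) := Algebra.FormallyUnramified.isReduced_of_field K (K ⊗[k] A)
  have : IsArtinianRing (K ⊗[k] A) := IsArtinianRing.of_finite K _
  have := Fintype.ofFinite (MaximalSpectrum (K ⊗[k] A))
  have hb : ∀ I : MaximalSpectrum (K ⊗[k] A), Function.Bijective (algebraMap K ((K ⊗[k] A) ⧸ I.asIdeal)) := fun I =>
    have := I.isMaximal
    IsAlgClosed.algebraMap_bijective_of_isIntegral (k := K)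
  have h1 : ∀ I : MaximalSpectrum (K ⊗[k] A), Module.finrank K ((K ⊗[k] A) ⧸ I.asIdeal) = 1 := fun I =>
    ((LinearEquiv.ofBijective (Algebra.linearMap K _) (hb I)).finrank_eq).symm.trans (Module.finrank_self K)
  have hcard : Fintype.card (MaximalSpectrum (K ⊗[k] A)) = Module.finrank k A := by
    rw [← Module.finrank_baseChange (R := K) (S := k) (M' := A),
      ((IsArtinianRing.equivPi (K ⊗[k] A)).toLinearEquiv.restrictScalars K).finrank_eq, Module.finrank_pi_fintype]
    simp [h1]
  let pt : MaximalSpectrum (K ⊗[k] A) → (A →ₐ[k] K) := fun I =>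
    (((AlgEquiv.ofBijective (Algebra.ofId K ((K ⊗[k] A) ⧸ I.asIdeal)) (hb I)).symm.toAlgHom.comp
      (Ideal.Quotient.mkₐ K I.asIdeal)).restrictScalars k).comp Algebra.TensorProduct.includeRight
  have hpt : Function.Injective pt := by
    intro I J h
    have h' : (AlgEquiv.ofBijective (Algebra.ofId K ((K ⊗[k] A) ⧸ I.asIdeal)) (hb I)).symm.toAlgHom.comp
        (Ideal.Quotient.mkₐ K I.asIdeal) = (AlgEquiv.ofBijective (Algebra.ofId K ((K ⊗[k] A) ⧸ J.asIdeal)) (hb J)).symm.toAlgHom.comp
        (Ideal.Quotient.mkₐ K J.asIdeal) :=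
      Algebra.TensorProduct.ext (Subsingleton.elim _ _) h
    apply MaximalSpectrum.ext
    ext x
    have h2 : (AlgEquiv.ofBijective (Algebra.ofId K ((K ⊗[k] A) ⧸ I.asIdeal)) (hb I)).symm (Ideal.Quotient.mk I.asIdeal x) =
        (AlgEquiv.ofBijective (Algebra.ofId K ((K ⊗[k] A) ⧸ J.asIdeal)) (hb J)).symm (Ideal.Quotient.mk J.asIdeal x) :=
      DFunLike.congr_fun h' x
    exact Ideal.Quotient.eq_zero_iff_mem.symm.trans <| (EmbeddingLike.map_eq_zero_iff
      (f := (AlgEquiv.ofBijective (Algebra.ofId K ((K ⊗[k] A) ⧸ I.asIdeal)) (hb I)).symm)).symm.trans <|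
      (iff_of_eq (congrArg (· = 0) h2)).trans <| EmbeddingLike.map_eq_zero_iff.trans Ideal.Quotient.eq_zero_iff_mem
  have : Finite (A →ₐ[k] K) := inferInstance
  have hle : Module.finrank k A ≤ Nat.card (A →ₐ[k] K) := by
    rw [← hcard, ← Nat.card_eq_fintype_card]
    exact Nat.card_le_card_of_injective pt hpt
  have heq : Nat.card (A →ₐ[k] K) = Module.finrank k A := le_antisymm (card_algHom_le_finrank k A K) hle
  refine ⟨heq, ?_⟩
  have := Fintype.ofFinite (A →ₐ[k] K)
  have hli : LinearIndependent K (fun φ : A →ₐ[k] K => φ.toLinearMap) := by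
    refine LinearIndependent.of_comp (LinearMap.ltoFun k A K K) ?_
    exact (linearIndependent_monoidHom A K).comp (fun φ : A →ₐ[k] K => (φ : A →* K))
      (fun φ ψ h => AlgHom.ext fun a => DFunLike.congr_fun h a)
  refine hli.span_eq_top_of_card_eq_finrank' ?_
  rw [Module.finrank_linearMap_self, ← Nat.card_eq_fintype_card, heq]

/-- Let p be a prime number, k a field of characteristic p and A a finite-dimensional commutative,
cocommutative Hopf algebra over k — the coordinate ring of a finite commutative group scheme G over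
k — such that A is étale over k and dim_k A = p^n for some n (G is an étale group scheme of p-power
order). Then the Cartier dual A^∨ = Hom_k(A, k), with its convolution ring structure, is a local
ring; that is, the Cartier dual group scheme G^∨ = Spec A^∨ is infinitesimal (its underlying space
is a single point). -/
theorem result (p : ℕ) [Fact p.Prime]
    (k : Type u) [Field k] [CharP k p] (A : Type u) [CommRing A] [HopfAlgebra k A] [Coalgebra.IsCocomm k A]
    [Module.Finite k A] [Algebra.Etale k A] (n : ℕ) (hA : Module.finrank k A = p ^ n) :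
    IsLocalRing (CartDual.D k A) := by
  classical
  let K := AlgebraicClosure k
  obtain ⟨hcard, hspan⟩ := points_span k A K
  let E := WithConv (A →ₗ[k] K)
  have : Nontrivial E := ⟨⟨1, 0, fun h => one_ne_zero (α := K) (by
    simpa using DFunLike.congr_fun (congrArg WithConv.ofConv h) (1 : A))⟩⟩
  have : CharP K p := charP_of_injective_algebraMap (algebraMap k K).injective p
  have : CharP E p := charP_of_injective_algebraMap (algebraMap K E).injective p
  let N := p ^ n
  let invG : WithConv (A →ₐ[k] K) → WithConv (A →ₐ[k] K) := fun f =>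
    WithConv.toConv (f.ofConv.comp (HopfAlgebra.antipodeAlgHom k A))
  have hinv : ∀ f : WithConv (A →ₐ[k] K), invG f * f = 1 := fun f => by
    apply WithConv.ofConv_injective
    apply AlgHom.toLinearMap_injective
    apply WithConv.toConv_injective
    rw [AlgHom.toLinearMap_convMul, AlgHom.toLinearMap_convOne]
    refine (congrArg WithConv.toConv (LinearMap.algHom_comp_convMul_distrib f.ofConv
      (WithConv.toConv (HopfAlgebra.antipode k (A := A))) (WithConv.toConv LinearMap.id))).symm.trans ?_
    rw [LinearMap.antipode_mul_id]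
    ext a
    simp
  let G : Group (WithConv (A →ₐ[k] K)) :=
    { (inferInstance : Monoid (WithConv (A →ₐ[k] K))) with inv := invG, inv_mul_cancel := hinv }
  have hG : ∀ g : WithConv (A →ₐ[k] K), g ^ N = 1 := fun g => by
    have : Nat.card (WithConv (A →ₐ[k] K)) = N := by
      rw [Nat.card_congr (WithConv.equiv (A →ₐ[k] K)), hcard, hA]
    rw [← this]
    exact @pow_card_eq_one' (WithConv (A →ₐ[k] K)) G g
  -- every element of `E` has scalar `N`-th power
  have hE : ∀ e : E, ∃ c : K, e ^ N = algebraMap K E c := by
    intro e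
    have hmem : e.ofConv ∈ Submodule.span K (Set.range fun φ : A →ₐ[k] K => φ.toLinearMap) := hspan ▸ Submodule.mem_top
    obtain ⟨f, hf⟩ : ∃ f : A →ₗ[k] K, f = e.ofConv := ⟨_, rfl⟩
    rw [show e = WithConv.toConv f by rw [hf]]
    rw [← hf] at hmem
    clear hf
    induction hmem using Submodule.span_induction with
    | mem x hx =>
      obtain ⟨φ, rfl⟩ := hx
      refine ⟨1, ?_⟩
      rw [map_one, show (WithConv.toConv φ.toLinearMap : E) ^ N =
        WithConv.toConv ((WithConv.toConv φ) ^ N).ofConv.toLinearMap from (AlgHom.toLinearMap_convPow (WithConv.toConv φ) N).symm, hG]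
      exact AlgHom.toLinearMap_convOne
    | zero => exact ⟨0, by simp [N, (Fact.out : p.Prime).ne_zero]⟩
    | add x y _ _ hx hy =>
      obtain ⟨a, ha⟩ := hx
      obtain ⟨b, hb⟩ := hy
      exact ⟨a + b, by rw [WithConv.toConv_add, map_add, ← ha, ← hb]; exact add_pow_char_pow _ _ p n⟩
    | smul c x _ hx =>
      obtain ⟨a, ha⟩ := hx
      exact ⟨c ^ N * a, by rw [WithConv.toConv_smul, smul_pow, ha, Algebra.smul_def, map_mul, map_pow]⟩
  let j : CartDual.D k A →* E :=
    { toFun := fun x => WithConv.toConv ((Algebra.ofId k K).toLinearMap ∘ₗ x.ofConv)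
      map_one' := by ext a; simp
      map_mul' := fun x y => congrArg WithConv.toConv (LinearMap.algHom_comp_convMul_distrib (Algebra.ofId k K) x y) }
  have key : ∀ x : CartDual.D k A, ∀ a : A, (x ^ N) a = (x ^ N) 1 * Coalgebra.counit (R := k) a := by
    intro x a
    obtain ⟨c, hc⟩ := hE (j x)
    rw [← map_pow] at hc
    have h1 : ∀ b : A, algebraMap k K ((x ^ N) b) = c * algebraMap k K (Coalgebra.counit (R := k) b) := fun b => by
      have := DFunLike.congr_fun (congrArg WithConv.ofConv hc) b
      have e1 : (j (x ^ N)).ofConv b = algebraMap k K ((x ^ N) b) := rfl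
      have e2 : ((algebraMap K E) c).ofConv b = c • algebraMap k K (Coalgebra.counit (R := k) b) := rfl
      rw [e1, e2, smul_eq_mul] at this
      exact this
    apply (algebraMap k K).injective
    rw [map_mul, h1, h1]
    simp
  have : Nontrivial (CartDual.D k A) := ⟨⟨1, 0, fun h => one_ne_zero (α := k) (by
    simpa using DFunLike.congr_fun (congrArg WithConv.ofConv h) (1 : A))⟩⟩
  refine IsLocalRing.of_isUnit_or_isUnit_one_sub_self fun x => ?_
  have hx : x ^ N = algebraMap k (CartDual.D k A) ((x ^ N) 1) := by
    ext a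
    rw [key x a]
    simp
  by_cases h0 : (x ^ N) 1 = 0
  · exact Or.inr (IsNilpotent.isUnit_one_sub ⟨N, by rw [hx, h0, map_zero]⟩)
  · refine Or.inl ((isUnit_pow_iff (pow_ne_zero n (Fact.out : p.Prime).ne_zero)).1 ?_)
    show IsUnit (x ^ N)
    rw [hx]
    exact (Ne.isUnit h0).map _

end Groth.Agent.S18543
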