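import Groth.Statements.S3044
import Groth.Agent.FiniteGrp.Order

set_option autoImplicit false
universe u
open CategoryTheory MonoidalCategory CartesianMonoidalCategory MonObj GrpObj AlgebraicGeometry TensorProduct
open SGA3

namespace Groth.Agent.S3044

open WithConv in
theorem restrict_mul (k : Type u) [Field k] (K : Type u) [Field K] [Algebra k K]
    (A : Type u) [CommRing A] [HopfAlgebra k A] (f g : WithConv (K ⊗[k] A →ₐ[K] K ⊗[k] A)) :
    toConv (((f * g).ofConv.restrictScalars k).comp Algebra.TensorProduct.includeRight) =
      toConv ((f.ofConv.restrictScalars k).comp Algebra.TensorProduct.includeRight) *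
        toConv ((g.ofConv.restrictScalars k).comp Algebra.TensorProduct.includeRight) := by
  apply WithConv.ofConv_injective
  apply AlgHom.ext
  intro a
  show (f * g) (1 ⊗ₜ[k] a) =
    (toConv ((f.ofConv.restrictScalars k).comp Algebra.TensorProduct.includeRight) *
      toConv ((g.ofConv.restrictScalars k).comp Algebra.TensorProduct.includeRight)) a
  rw [AlgHom.convMul_apply, AlgHom.convMul_apply]
  obtain ⟨s, hs⟩ := TensorProduct.exists_finset (Coalgebra.comul (R := k) a)
  rw [TensorProduct.comul_tmul, hs]
  simp [Algebra.TensorProduct.one_def, TensorProduct.tmul_sum]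

/-- Let A be a commutative Hopf algebra over a field k which is finite-dimensional, of dimension n (a
finite algebraic k-group G of rank n, not assumed commutative). Then the morphism g ↦ gⁿ of G is the
trivial morphism: in the convolution group of algebra endomorphisms of A, the n-th power of the
identity is the neutral element (the counit followed by the unit). -/
theorem result (k : Type u) [Field k] (A : Type u) [CommRing A] [HopfAlgebra k A]
    [Module.Finite k A] :
    (WithConv.toConv (AlgHom.id k A)) ^ (Module.finrank k A) = 1 := by
  let K := AlgebraicClosure k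
  let Φ : WithConv (K ⊗[k] A →ₐ[K] K ⊗[k] A) →* WithConv (A →ₐ[k] K ⊗[k] A) :=
    { toFun := fun f =>
        WithConv.toConv ((f.ofConv.restrictScalars k).comp Algebra.TensorProduct.includeRight)
      map_one' := by
        apply WithConv.ofConv_injective
        ext a
        simp [AlgHom.convOne_def, IsScalarTower.algebraMap_apply k K (K ⊗[k] A),
          Algebra.TensorProduct.algebraMap_apply, Algebra.algebraMap_eq_smul_one]
      map_mul' := restrict_mul k K A }
  have hK := Groth.Agent.FiniteGrp.Order.pow_finrank_eq_one_of_isAlgClosed (k := K) (A := K ⊗[k] A)
  rw [Module.finrank_baseChange] at hK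
  have h := congrArg Φ hK
  rw [map_pow, map_one] at h
  let incl : A →ₐ[k] K ⊗[k] A := Algebra.TensorProduct.includeRight
  have hi : Function.Injective incl :=
    Algebra.TensorProduct.includeRight_injective (algebraMap k K).injective
  have h2 : Groth.Agent.FiniteGrp.Order.postComp incl
      (WithConv.toConv (AlgHom.id k A) ^ Module.finrank k A) =
        Groth.Agent.FiniteGrp.Order.postComp incl 1 := by
    rw [map_pow, map_one]
    exact h
  apply WithConv.ofConv_injective
  apply AlgHom.ext
  intro a
  exact hi (AlgHom.congr_fun (congrArg WithConv.ofConv h2) a)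

end Groth.Agent.S3044
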