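import Groth.Statements.S16674
import Groth.Agent.S18543
import Groth.Agent.S3044
import Groth.Agent.FinHopf.FieldOrderP

set_option autoImplicit false
universe u
open CartDual

namespace Groth.Agent.S16674

section
open WithConv TensorProduct
open FinHopf.FieldOrderP FinHopf.Deligne

variable (k : Type u) [Field k] (p : ℕ) [Fact p.Prime] [CharP k p]
  (A : Type u) [CommRing A] [HopfAlgebra k A] [FiniteDimensional k A]

theorem epsDer_conv {d : A →ₗ[k] k} (hd : IsEpsDer d) (f g : WithConv (A →ₐ[k] A))
    (hf : ∀ a, Coalgebra.counit (R := k) (f.ofConv a) = Coalgebra.counit (R := k) a)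
    (hg : ∀ a, Coalgebra.counit (R := k) (g.ofConv a) = Coalgebra.counit (R := k) a) (a : A) :
    d ((f * g).ofConv a) = d (f.ofConv a) + d (g.ofConv a) := by
  have h1 : d ((f * g).ofConv a) =
      ((toConv (Coalgebra.counit (R := k) (A := A))) * toConv (d ∘ₗ g.ofConv.toLinearMap)) a +
      (toConv (d ∘ₗ f.ofConv.toLinearMap) * (toConv (Coalgebra.counit (R := k) (A := A)))) a := by
    rw [AlgHom.convMul_apply, LinearMap.convMul_apply, LinearMap.convMul_apply]
    generalize Coalgebra.comul (R := k) a = t
    induction t using TensorProduct.induction_on with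
    | zero => simp
    | add t t' ht ht' => simp only [map_add, ht, ht']; abel
    | tmul b c => simp [hd (f.ofConv b) (g.ofConv c), hf, hg, mul_comm]
  have h1' : (toConv (Coalgebra.counit (R := k) (A := A)) : WithConv (A →ₗ[k] k)) = 1 := by
    apply WithConv.ext; apply LinearMap.ext; intro b; simp [LinearMap.convOne_def]
  rw [h1, h1', one_mul, mul_one]
  simp [add_comm]

theorem counit_pow_id (n : ℕ) (a : A) :
    Coalgebra.counit (R := k) (((toConv (AlgHom.id k A)) ^ n).ofConv a) = Coalgebra.counit (R := k) a := by
  have h1 : postHom (Bialgebra.counitAlgHom k A) (toConv (AlgHom.id k A)) = (1 : WithConv (A →ₐ[k] k)) := by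
    apply WithConv.ext; ext a; simp [postHom, AlgHom.convOne_def]
  have h2 : postHom (Bialgebra.counitAlgHom k A) ((toConv (AlgHom.id k A)) ^ n) = (1 : WithConv (A →ₐ[k] k)) := by
    rw [map_pow, h1, one_pow]
  have h3 : ((Bialgebra.counitAlgHom k A).comp ((toConv (AlgHom.id k A)) ^ n).ofConv) a =
      (1 : WithConv (A →ₐ[k] k)).ofConv a := DFunLike.congr_fun (congrArg WithConv.ofConv h2) a
  rw [AlgHom.convOne_apply] at h3
  simpa using h3

theorem epsDer_pow {d : A →ₗ[k] k} (hd : IsEpsDer d) (n : ℕ) (a : A) :
    d (((toConv (AlgHom.id k A)) ^ n).ofConv a) = (n : k) * d a := by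
  induction n with
  | zero =>
    rw [pow_zero, AlgHom.convOne_apply, Algebra.algebraMap_eq_smul_one, map_smul, hd.map_one]
    simp
  | succ n ih =>
    rw [pow_succ, epsDer_conv k A hd _ _ (counit_pow_id k A n) (fun b => rfl), ih, Nat.cast_succ]
    simp [add_mul]

theorem etale_of_not_dvd (h : ¬ p ∣ Module.finrank k A) : Algebra.Etale k A := by
  rw [FinHopf.Points.etale_iff_idempotent]
  by_contra hne
  obtain ⟨d, hd0, hd⟩ := exists_epsDer_of_not_idempotent (K := k) (A := A) hne
  apply hd0
  ext a
  have h1 := epsDer_pow k A hd (Module.finrank k A) a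
  rw [S3044.result, AlgHom.convOne_apply, Algebra.algebraMap_eq_smul_one, map_smul, hd.map_one, smul_zero] at h1
  have hn : (Module.finrank k A : k) ≠ 0 := fun h0 => h ((CharP.cast_eq_zero_iff k p _).1 h0)
  simpa [hn] using h1.symm

variable [Coalgebra.IsCocomm k A]

/-- `K ⊗ D(A)` is the convolution algebra of `K`-valued linear forms. -/
theorem isReduced_conv (hD : Algebra.Etale k (CartDual.D k A)) (K : Type u) [Field K] [Algebra k K] :
    IsReduced (WithConv (A →ₗ[k] K)) := by
  classical
  haveI := hD
  haveI : IsReduced (K ⊗[k] CartDual.D k A) :=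
    Algebra.FormallyUnramified.isReduced_of_field K (K ⊗[k] CartDual.D k A)
  let j : CartDual.D k A →+* WithConv (A →ₗ[k] K) := postRingHom (Algebra.ofId k K)
  let j' : CartDual.D k A →ₐ[k] WithConv (A →ₗ[k] K) :=
    { j with
      commutes' := fun r => by
        apply WithConv.ext
        ext a
        show algebraMap k K ((algebraMap k (CartDual.D k A) r).ofConv a) = _
        simp [Algebra.algebraMap_eq_smul_one, LinearMap.convOne_def, smul_smul] }
  let i : K →ₐ[k] WithConv (A →ₗ[k] K) :=
    AlgHom.ofLinearMap
      { toFun := fun c => toConv ((LinearMap.mulLeft k c ∘ₗ Algebra.linearMap k K) ∘ₗ Coalgebra.counit)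
        map_add' := fun c c' => by apply WithConv.ext; ext a; simp [add_mul]
        map_smul' := fun r c => by apply WithConv.ext; ext a; simp [smul_mul_assoc] }
      (by apply WithConv.ext; ext a; simp [LinearMap.convOne_def])
      (fun c c' => by
        apply WithConv.ext; ext a
        show c * c' * algebraMap k K (Coalgebra.counit a) = _
        rw [LinearMap.convMul_apply]
        have key : ∀ t : A ⊗[k] A, LinearMap.mul' k K (TensorProduct.map
            ((LinearMap.mulLeft k c ∘ₗ Algebra.linearMap k K) ∘ₗ (Coalgebra.counit (R := k) (A := A)))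
            ((LinearMap.mulLeft k c' ∘ₗ Algebra.linearMap k K) ∘ₗ (Coalgebra.counit (R := k) (A := A))) t) =
            c * c' * algebraMap k K (LinearMap.mul' k k (TensorProduct.map (Coalgebra.counit (R := k) (A := A))
              (Coalgebra.counit (R := k) (A := A)) t)) := by
          intro t
          induction t using TensorProduct.induction_on with
          | zero => simp
          | add t t' ht ht' => simp only [map_add, ht, ht', mul_add]
          | tmul x y => simp; ring
        refine Eq.trans ?_ (key _).symm
        congr 2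
        have h11 : ((1 : CartDual.D k A) * 1) a = (1 : CartDual.D k A) a := by rw [one_mul]
        rw [LinearMap.convMul_apply] at h11
        simpa [LinearMap.convOne_def] using h11.symm)
  let Ψ : K ⊗[k] CartDual.D k A →ₐ[k] WithConv (A →ₗ[k] K) :=
    Algebra.TensorProduct.lift i j' fun _ _ => Commute.all _ _
  let b := Module.finBasis k A
  let inv : WithConv (A →ₗ[k] K) → K ⊗[k] CartDual.D k A :=
    fun φ => ∑ x, φ.ofConv (b x) ⊗ₜ toConv (b.coord x)
  have hΨ : ∀ c x a, (Ψ (c ⊗ₜ x)).ofConv a = c * algebraMap k K (x.ofConv a) := by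
    intro c x a
    show ((i c * j' x).ofConv) a = _
    have hi : i c = c • (1 : WithConv (A →ₗ[k] K)) := by
      apply WithConv.ext; ext a'
      show c * algebraMap k K (Coalgebra.counit a') = _
      simp [LinearMap.convOne_def]
    rw [hi, smul_mul_assoc, one_mul]
    rfl
  have hinj : Function.Injective Ψ := by
    refine Function.LeftInverse.injective (g := inv) fun z => ?_
    induction z using TensorProduct.induction_on with
    | zero => simp [inv]
    | add z z' hz hz' =>
      simp only [inv, map_add, WithConv.ofConv_add, LinearMap.add_apply, TensorProduct.add_tmul,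
        Finset.sum_add_distrib] at *
      rw [hz, hz']
    | tmul c x =>
      simp only [inv, hΨ]
      have hx : x = ∑ y, x.ofConv (b y) • toConv (b.coord y) := by
        refine WithConv.ext (b.ext fun l => ?_)
        simp [Finsupp.single_apply]
      conv_rhs => rw [hx, TensorProduct.tmul_sum]
      refine Finset.sum_congr rfl fun y _ => ?_
      rw [mul_comm, ← Algebra.smul_def, TensorProduct.smul_tmul]
  have hsurj : Function.Surjective Ψ := by
    intro φ
    refine ⟨inv φ, WithConv.ext (b.ext fun l => ?_)⟩
    simp only [inv, map_sum, WithConv.ofConv_sum, LinearMap.sum_apply, hΨ]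
    simp [Finsupp.single_apply]
  exact isReduced_of_injective (AlgEquiv.ofBijective Ψ ⟨hinj, hsurj⟩).symm
    (AlgEquiv.ofBijective Ψ ⟨hinj, hsurj⟩).symm.injective

theorem not_dvd (hA : Algebra.Etale k A) (hD : Algebra.Etale k (CartDual.D k A)) :
    ¬ p ∣ Module.finrank k A := by
  intro hp
  let K := AlgebraicClosure k
  haveI : Finite (WithConv (A →ₐ[k] K)) :=
    Finite.of_equiv (A →ₐ[k] K) ⟨toConv, WithConv.ofConv, fun _ => rfl, fun _ => rfl⟩
  have hcard : Nat.card (WithConv (A →ₐ[k] K)) = Module.finrank k A :=
    (Nat.card_congr (⟨WithConv.ofConv, toConv, fun _ => rfl, fun _ => rfl⟩ :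
      WithConv (A →ₐ[k] K) ≃ (A →ₐ[k] K))).trans (S18543.points_span k A K).1
  letI : Group (WithConv (A →ₐ[k] K)) :=
    { (inferInstance : Monoid (WithConv (A →ₐ[k] K))) with
      inv := fun f => inv' f
      inv_mul_cancel := inv'_mul }
  obtain ⟨g, hg⟩ := exists_prime_orderOf_dvd_card' p (hcard ▸ hp : p ∣ Nat.card (WithConv (A →ₐ[k] K)))
  haveI := isReduced_conv k A hD K
  haveI : Nontrivial (WithConv (A →ₗ[k] K)) := ⟨⟨1, 0, fun h => by
    have := congrArg (fun f : WithConv (A →ₗ[k] K) => f.ofConv 1) h
    simp [LinearMap.convOne_def] at this⟩⟩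
  haveI : CharP (WithConv (A →ₗ[k] K)) p :=
    charP_of_injective_algebraMap (algebraMap k (WithConv (A →ₗ[k] K))).injective p
  have h1 : (linHom g - 1) ^ p = 0 := by
    rw [sub_pow_char, one_pow, ← map_pow, ← hg, pow_orderOf_eq_one, map_one, sub_self]
  have h2 : linHom g = linHom 1 := by
    rw [map_one]
    exact sub_eq_zero.1 (IsReduced.eq_zero _ ⟨p, h1⟩)
  rw [linHom_injective h2, orderOf_one] at hg
  exact (Fact.out : p.Prime).ne_one hg.symm

end

/-- Let k be a field of characteristic p > 0 and A a finite-dimensional commutative and cocommutative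
Hopf algebra over k, the coordinate ring of a finite commutative k-group scheme G, with Cartier dual
the convolution Hopf algebra Hom_k(A, k). Then G is étale-étale, i.e. both A and its dual are étale
k-algebras, if and only if p does not divide the rank dim_k A of G. -/
theorem result (k : Type u) [Field k] (p : ℕ) [Fact p.Prime] [CharP k p]
    (A : Type u) [CommRing A] [HopfAlgebra k A] [Coalgebra.IsCocomm k A] [FiniteDimensional k A] :
    (Algebra.Etale k A ∧ Algebra.Etale k (CartDual.D k A)) ↔ ¬ p ∣ Module.finrank k A := by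
  constructor
  · rintro ⟨hA, hD⟩ hp
    exact not_dvd k p A hA hD hp
  · intro h
    refine ⟨etale_of_not_dvd k p A h, etale_of_not_dvd k p (CartDual.D k A) ?_⟩
    rwa [(CartDual.toDual k A).finrank_eq, Subspace.dual_finrank_eq]

end Groth.Agent.S16674
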