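import Groth.Statements.S16077
import Mathlib.RingTheory.MvPolynomial.Ideal

set_option autoImplicit false
universe u
open CAlg

namespace Groth.Agent.S16077

open MvPolynomial in
theorem finrank_aux (p : ℕ) [Fact p.Prime] {k : Type u} [Field k] [CharP k p] {r : ℕ} (e : Fin r → ℕ) (n : ℕ) :
    Module.finrank k (Submodule.span k (Set.range fun x : MvPolynomial (Fin r) k ⧸ Ideal.span (Set.range fun i : Fin r => (MvPolynomial.X i : MvPolynomial (Fin r) k) ^ p ^ e i) => x ^ p ^ n)) =
      p ^ ∑ i, (e i - n) := by
  classical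
  have hp : 0 < p := (Fact.out : p.Prime).pos
  set I := Ideal.span (Set.range fun i : Fin r => (MvPolynomial.X i : MvPolynomial (Fin r) k) ^ p ^ e i)
  have hI : ∀ P : MvPolynomial (Fin r) k, P ∈ I ↔ ∀ m ∈ P.support, ∃ i, p ^ e i ≤ m i := by
    intro P
    have h : I = Ideal.span ((fun s => monomial s (1 : k)) '' Set.range fun i => Finsupp.single i (p ^ e i)) := by
      rw [← Set.range_comp]
      simp only [I, X_pow_eq_monomial, Function.comp_def]
    rw [h, mem_ideal_span_monomial_image]
    simp [Finsupp.single_le_iff]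
  have hlt : ∀ i a, p ^ n * a < p ^ e i ↔ a < p ^ (e i - n) := by
    intro i a
    rcases le_or_gt n (e i) with h | h
    · conv_lhs => rw [← Nat.add_sub_cancel' h, pow_add]
      exact Nat.mul_lt_mul_left (pow_pos hp n)
    · rw [Nat.sub_eq_zero_of_le h.le, pow_zero, Nat.lt_one_iff]
      refine ⟨fun ha => ?_, fun ha => by simp [ha, pow_pos hp]⟩
      by_contra h0
      have := Nat.pow_le_pow_right hp h.le
      nlinarith [Nat.pos_of_ne_zero h0, pow_pos hp n]
  let ex : (Π i, Fin (p ^ (e i - n))) → (Fin r →₀ ℕ) := fun m => Finsupp.equivFunOnFinite.symm fun i => p ^ n * (m i : ℕ)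
  have hexi : Function.Injective ex := fun a b hab => funext fun i => Fin.ext <| by
    have := DFunLike.congr_fun hab i
    simp only [ex, Finsupp.coe_equivFunOnFinite_symm] at this
    exact Nat.eq_of_mul_eq_mul_left (pow_pos hp n) this
  let v : (Π i, Fin (p ^ (e i - n))) → MvPolynomial (Fin r) k ⧸ I := fun m => Ideal.Quotient.mkₐ k I (monomial (ex m) 1)
  have hli : LinearIndependent k v := by
    rw [Fintype.linearIndependent_iff]
    intro c hc m
    have hc' : (Ideal.Quotient.mkₐ k I) (∑ x, c x • monomial (ex x) (1 : k)) = 0 := by rw [map_sum]; simpa only [v, map_smul] using hc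
    rw [Ideal.Quotient.mkₐ_eq_mk, Ideal.Quotient.eq_zero_iff_mem, hI] at hc'
    by_contra h0
    obtain ⟨i, hi⟩ := hc' (ex m) (by simp [coeff_sum, coeff_monomial, hexi.eq_iff, h0])
    have := (hlt i (m i)).2 (m i).isLt
    simp [ex] at hi
    omega
  have hspan : Submodule.span k (Set.range fun x : MvPolynomial (Fin r) k ⧸ I => x ^ p ^ n) = Submodule.span k (Set.range v) := by
    refine le_antisymm (Submodule.span_le.2 ?_) (Submodule.span_le.2 ?_)
    · rintro _ ⟨x, rfl⟩
      obtain ⟨P, rfl⟩ := Ideal.Quotient.mkₐ_surjective k I x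
      simp only [SetLike.mem_coe]
      rw [← map_pow]
      conv => arg 2; rw [P.as_sum, sum_pow_char_pow p, map_sum]
      refine Submodule.sum_mem _ fun d hd => ?_
      rw [monomial_pow]
      by_cases h : ∀ i, d i < p ^ (e i - n)
      · have : p ^ n • d = ex fun i => ⟨d i, h i⟩ := by ext i; simp [ex]
        rw [this, ← mul_one (coeff d P ^ p ^ n), ← smul_eq_mul, ← smul_monomial, map_smul]
        exact Submodule.smul_mem _ _ (Submodule.subset_span ⟨_, rfl⟩)
      · push Not at h
        obtain ⟨i, hi⟩ := h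
        convert Submodule.zero_mem _
        rw [Ideal.Quotient.mkₐ_eq_mk, Ideal.Quotient.eq_zero_iff_mem, hI]
        intro m hm
        have hm' := support_monomial_subset hm
        rw [Finset.mem_singleton] at hm'
        refine ⟨i, ?_⟩
        subst hm'
        have := mt (hlt i (d i)).1 (by omega)
        simpa using Nat.le_of_not_lt this
    · rintro _ ⟨m, rfl⟩
      refine Submodule.subset_span ⟨Ideal.Quotient.mkₐ k I (monomial (Finsupp.equivFunOnFinite.symm fun i => (m i : ℕ)) 1), ?_⟩
      simp only [v, ← map_pow, monomial_pow, one_pow]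
      congr
      ext i
      simp [ex]
  rw [hspan, finrank_span_eq_card hli]
  simp [Finset.prod_pow_eq_pow_sum]

theorem count_aux {r s : ℕ} (e : Fin r → ℕ) (f : Fin s → ℕ) (he : ∀ i, 1 ≤ e i) (hf : ∀ j, 1 ≤ f j)
    (h : ∀ n, ∑ i, (e i - n) = ∑ j, (f j - n)) : ∃ σ : Fin r ≃ Fin s, ∀ i, f (σ i) = e i := by
  classical
  have hstep : ∀ {t : ℕ} (g : Fin t → ℕ) (n : ℕ),
      ∑ i, (g i - n) = ∑ i, (g i - (n + 1)) + (Finset.univ.filter fun i => n < g i).card := by
    intro t g n
    rw [Finset.card_filter, ← Finset.sum_add_distrib]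
    refine Finset.sum_congr rfl fun i _ => ?_
    split_ifs <;> omega
  have hgt : ∀ n, (Finset.univ.filter fun i => n < e i).card = (Finset.univ.filter fun j => n < f j).card := by
    intro n
    have := hstep e n; have := hstep f n; have := h n; have := h (n + 1)
    omega
  have hsplit : ∀ {t : ℕ} (g : Fin t → ℕ) (n : ℕ), (Finset.univ.filter fun i => n < g i).card =
      (Finset.univ.filter fun i => g i = n + 1).card + (Finset.univ.filter fun i => n + 1 < g i).card := by
    intro t g n
    simp only [Finset.card_filter, ← Finset.sum_add_distrib]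
    refine Finset.sum_congr rfl fun i _ => ?_
    split_ifs <;> omega
  have hcard : ∀ c, Fintype.card {i // e i = c} = Fintype.card {j // f j = c} := by
    intro c
    rcases c with - | c
    · haveI : IsEmpty {i // e i = 0} := ⟨fun i => absurd i.2 (Nat.one_le_iff_ne_zero.1 (he i))⟩
      haveI : IsEmpty {j // f j = 0} := ⟨fun j => absurd j.2 (Nat.one_le_iff_ne_zero.1 (hf j))⟩
      simp
    · simp only [Fintype.card_subtype]
      have := hsplit e c; have := hsplit f c; have := hgt c; have := hgt (c + 1)
      omega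
  exact ⟨Equiv.ofFiberEquiv fun c => Fintype.equivOfCardEq (hcard c), fun i => Equiv.ofFiberEquiv_map _ i⟩

/-- Let k be a perfect field of characteristic p > 0 and let e_1, …, e_r ≥ 1 and f_1, …, f_s ≥ 1 be
natural numbers. If the k-algebras k[X_1, …, X_r]/(X_i^{p^{e_i}} : 1 ≤ i ≤ r) and k[X_1, …,
X_s]/(X_j^{p^{f_j}} : 1 ≤ j ≤ s) are isomorphic, then r = s and (f_j) is a permutation of (e_i):
there is a bijection σ between the index sets with f_{σ(i)} = e_i. Such truncated polynomial
algebras are the coordinate rings of the connected finite k-group schemes, and the row says that the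
number of variables and the exponents are invariants of the group, indeed of its algebra. (Only this
invariance is stated here; the existence of such a presentation for every connected finite k-group
is a separate statement.) -/
theorem result (p : ℕ) [Fact p.Prime] (k : Type u) [Field k]
    [CharP k p] [PerfectField k] (r s : ℕ) (e : Fin r → ℕ) (f : Fin s → ℕ) (he : ∀ i, 1 ≤ e i) (hf : ∀ j, 1 ≤ f j)
    (φ : (MvPolynomial (Fin r) k ⧸ Ideal.span (Set.range fun i : Fin r => (MvPolynomial.X i : MvPolynomial (Fin r) k) ^ p ^ e i)) ≃ₐ[k]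
      (MvPolynomial (Fin s) k ⧸ Ideal.span (Set.range fun j : Fin s => (MvPolynomial.X j : MvPolynomial (Fin s) k) ^ p ^ f j))) :
    ∃ σ : Fin r ≃ Fin s, ∀ i : Fin r, f (σ i) = e i := by
  refine count_aux e f he hf fun n => ?_
  apply Nat.pow_right_injective (Fact.out : p.Prime).two_le
  show p ^ _ = p ^ _
  rw [← finrank_aux p (k := k) e n, ← finrank_aux p (k := k) f n]
  rw [← LinearEquiv.finrank_map_eq φ.toLinearEquiv, Submodule.map_span, ← Set.range_comp]
  refine congrArg (fun T : Set (MvPolynomial (Fin s) k ⧸ Ideal.span (Set.range fun j : Fin s => (MvPolynomial.X j : MvPolynomial (Fin s) k) ^ p ^ f j)) => Module.finrank k ↥(Submodule.span k T)) ?_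
  ext y
  simp only [Set.mem_range, Function.comp_def]
  exact ⟨fun ⟨x, hx⟩ => ⟨φ x, by rw [← hx]; exact (map_pow φ x (p ^ n)).symm⟩,
    fun ⟨x, hx⟩ => ⟨φ.symm x, by rw [← hx]; exact (map_pow φ _ (p ^ n)).trans (by rw [φ.apply_symm_apply])⟩⟩

end Groth.Agent.S16077
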