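import Groth.Statements.S0603
import Groth.Agent.CMCat.Basic
import Groth.Agent.S2092
-- import your own Groth.Agent.* helpers here

set_option autoImplicit false
universe u
open CAlg

namespace Groth.Agent.S0603

/-- Every Cohen–Macaulay ring (Noetherian with all local rings Cohen–Macaulay) satisfies the universally
catenary chain condition. -/
theorem result (R : Type u) [CommRing R]
    [LocCoh.IsCohenMacaulayRing R] : CAlg.IsUniversallyCatenary R := by
  refine ⟨inferInstance, fun S _ _ hS => ?_⟩
  obtain ⟨n, f, hf⟩ := Algebra.FiniteType.iff_quotient_mvPolynomial''.mp hS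
  haveI := Groth.Agent.S2092.result (R := R) n
  exact Groth.Agent.PtTop.Catenary.isCatenary_of_surjective f.toRingHom hf
    Groth.Agent.CMCat.isCatenary_of_isCohenMacaulayRing

end Groth.Agent.S0603
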