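import Groth.Statements.S14002
import Groth.Agent.LocFlat.Basic
import Mathlib
-- import your own Groth.Agent.* helpers here

set_option autoImplicit false
universe u
open CAlg

namespace Groth.Agent.S14002

open TensorProduct in
/-- Flatness of an adic morphism of locally Noetherian formal schemes is detected on the truncations.
Let B → A be a homomorphism of Noetherian rings and J an ideal of B such that A is adically
separated and complete with respect to the extended ideal JA. Then A is a flat B-module if and only
if for every n ≥ 1 the base change (B/Jⁿ) ⊗_B A = A/JⁿA is a flat (B/Jⁿ)-module. The ring B is not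
assumed separated or complete for the J-adic topology. (The published statement is about an adic
morphism of locally Noetherian formal schemes, so that both rings are adic there; the criterion
holds without that assumption on B.) -/
theorem result (B A : Type u) [CommRing B] [CommRing A]
    [IsNoetherianRing B] [IsNoetherianRing A] [Algebra B A] (J : Ideal B)
    [IsAdicComplete (J.map (algebraMap B A)) A] :
    Module.Flat B A ↔ ∀ n : ℕ, 0 < n → Module.Flat (B ⧸ J ^ n) ((B ⧸ J ^ n) ⊗[B] A) := by
  refine ⟨fun _ n _ => inferInstance, fun h => ?_⟩
  refine Groth.Agent.LocFlat.flat_of_forall_pow (R := B) (S := A) A J (IsAdicComplete.le_jacobson_bot _) ?_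
  intro n N N' _ _ _ _ a ha hkill
  rcases Nat.eq_zero_or_pos n with rfl | hn
  · rw [pow_zero, Ideal.one_eq_top, Submodule.top_smul] at hkill
    have hS : Subsingleton N' := subsingleton_of_forall_eq 0 fun y => by
      rw [← Submodule.mem_bot B, ← hkill]; trivial
    have : Subsingleton N := ha.subsingleton
    exact Function.injective_of_subsingleton _
  have hflat := h n hn
  have ht' : Module.IsTorsionBySet B N' ((J ^ n : Ideal B) : Set B) := by
    intro x r
    rw [← Submodule.mem_bot B, ← hkill]
    exact Submodule.smul_mem_smul r.2 trivial
  have ht : Module.IsTorsionBySet B N ((J ^ n : Ideal B) : Set B) := fun x r =>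
    ha (by rw [map_smul, map_zero, ht'])
  let := ht.module
  let := ht'.module
  have := ht.isScalarTower (S := B)
  have := ht'.isScalarTower (S := B)
  let a' : N →ₗ[B ⧸ J ^ n] N' := LinearMap.extendScalarsOfSurjective Ideal.Quotient.mk_surjective a
  have h1 := Module.Flat.lTensor_preserves_injective_linearMap (M := (B ⧸ J ^ n) ⊗[B] A) a' ha
  let eN := (TensorProduct.comm _ _ N).trans (TensorProduct.AlgebraTensorModule.cancelBaseChange B (B ⧸ J ^ n) (B ⧸ J ^ n) N A)
  let eN' := (TensorProduct.comm _ _ N').trans (TensorProduct.AlgebraTensorModule.cancelBaseChange B (B ⧸ J ^ n) (B ⧸ J ^ n) N' A)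
  have key : ∀ z, eN' (LinearMap.lTensor _ a' z) = a.rTensor A (eN z) := by
    intro z
    induction z with
    | zero => simp
    | add x y hx hy => simp only [map_add, hx, hy]
    | tmul w m =>
      induction w with
      | zero => simp
      | add x y hx hy => simp only [TensorProduct.add_tmul, map_add, hx, hy]
      | tmul c r =>
        obtain ⟨b, rfl⟩ := Ideal.Quotient.mk_surjective c
        show ((Ideal.Quotient.mk (J ^ n) b) • a m) ⊗ₜ[B] r = a ((Ideal.Quotient.mk (J ^ n) b) • m) ⊗ₜ[B] r
        exact congrArg (· ⊗ₜ[B] r) (map_smul a b m).symm
  intro x y hxy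
  obtain ⟨x, rfl⟩ := eN.surjective x
  obtain ⟨y, rfl⟩ := eN.surjective y
  rw [← key, ← key] at hxy
  rw [h1 (eN'.injective hxy)]

end Groth.Agent.S14002
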