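import Groth.Statements.S5810
import Mathlib
import Groth.Agent.EGA4Lib.DepthFlat
import Groth.Agent.RegLoc.Completion

set_option autoImplicit false
universe u
open EGA41

namespace Groth.Agent.S5810

/-- Let A be a Noetherian local ring with maximal ideal m and M a finitely generated A-module; write Â
and M̂ for the m-adic completions. Then prof_A(M) = prof_Â(M̂). -/
theorem result (A : Type u) [CommRing A] [IsLocalRing A] [IsNoetherianRing A] (M : Type u)
    [AddCommGroup M] [Module A M] [Module.Finite A M] :
    LocCoh.depth (AdicCompletion (IsLocalRing.maximalIdeal A) A) (AdicCompletion (IsLocalRing.maximalIdeal A) M) =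
      LocCoh.depth A M := by
  set m := IsLocalRing.maximalIdeal A
  let Â := AdicCompletion m A
  haveI : IsNoetherianRing Â := Groth.Agent.RegLoc.Completion.isNoetherianRing_adicCompletion' m
  have hm : m.map (algebraMap A Â) = IsLocalRing.maximalIdeal Â := AdicCompletion.maximalIdeal_eq_map.symm
  haveI : IsLocalHom (algebraMap A Â) :=
    ((IsLocalRing.local_hom_TFAE (algebraMap A Â)).out 0 2).mpr hm.le
  have e := AdicCompletion.ofTensorProductEquivOfFiniteNoetherian m M
  have h0 : LocCoh.depth Â (Â ⧸ m.map (algebraMap A Â) • (⊤ : Submodule Â Â)) = 0 := by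
    rw [Groth.Agent.Depth.depth_eq_idealDepth, Groth.Agent.Depth.idealDepth_eq_zero_iff]
    refine ⟨IsLocalRing.maximalIdeal Â, isAssociatedPrime_iff.mpr ⟨inferInstance, Submodule.Quotient.mk 1, ?_⟩, le_rfl⟩
    ext b
    rw [Submodule.mem_colon_singleton, Submodule.mem_bot, ← Submodule.Quotient.mk_smul,
      Submodule.Quotient.mk_eq_zero, smul_eq_mul, smul_eq_mul, mul_one, Ideal.mul_top, hm]
  have h := Groth.Agent.EGA4Lib.depth_tensor_of_flat (R := A) (S := Â) (N := Â) (M := M)
  rw [h0, add_zero, Groth.Agent.Depth.depth_eq_idealDepth, Groth.Agent.Depth.idealDepth_congr e] at h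
  exact h

end Groth.Agent.S5810
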