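import Groth.Statements.S1549
import Mathlib
import Groth.Agent.GeomLoc.SmoothRegular
import Groth.Agent.VarDim.Curve
-- import your own Groth.Agent.* helpers here

set_option autoImplicit false
universe u
open CategoryTheory CategoryTheory.Limits AlgebraicGeometry
open Variety

namespace Groth.Agent.S1549

/-- For a reduced scheme locally of finite type over k, being geometrically reduced is equivalent to
having a dense open subscheme that is smooth over k. -/
theorem result (k : Type u) [Field k] (X : Scheme.{u}) [X.Over (Spec (CommRingCat.of k))] [IsReduced X] [LocallyOfFiniteType (X ↘ (Spec (CommRingCat.of k)))] :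
    GeometricallyReduced (X ↘ (Spec (CommRingCat.of k))) ↔ ∃ U : X.Opens, Dense (U : Set X) ∧ Smooth (U.ι ≫ (X ↘ (Spec (CommRingCat.of k)))) := by
  haveI := GeomLoc.locallyOfFinitePresentation (k := k) (X := X)
  haveI := LocallyOfFiniteType.isLocallyNoetherian (X ↘ Spec (CommRingCat.of k))
  constructor
  · intro h
    refine ⟨(X ↘ Spec (CommRingCat.of k)).smoothLocus, fun x => ?_, ?_⟩
    · obtain ⟨η, hη, hs⟩ := FlatMor.GenericPts.exists_generic_specializes x
      exact hs.mem_closed isClosed_closure (subset_closure
        (GeomLoc.mem_smoothLocus_of_generic η hη (GeomLoc.geometricallyReduced_iff_forall.1 h η)))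
    · rw [← Scheme.Hom.smoothLocus_eq_top_iff, ← Scheme.Hom.preimage_smoothLocus_eq,
        Scheme.Opens.ι_preimage_self]
  · rintro ⟨U, hU, hUs⟩
    refine GeomLoc.geometricallyReduced_of_generic fun Z hZ η hη => ?_
    have hmem : η ∈ U := FlatMor.GenericPts.mem_of_dense hU (by rw [hη.def]; exact hZ)
    refine GeomLoc.isGeomReducedAt_of_isGeomRegularAt η
      ((GeomLoc.isGeomRegularAt_iff_mem_smoothLocus η).2 ?_)
    have h1 := Scheme.Hom.smoothLocus_eq_top (U.ι ≫ (X ↘ Spec (CommRingCat.of k)))
    rw [← Scheme.Hom.preimage_smoothLocus_eq] at h1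
    exact h1.ge (show (⟨η, hmem⟩ : U) ∈ (⊤ : U.toScheme.Opens) from trivial)

end Groth.Agent.S1549
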