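import Groth.Prelude.Def_DeltaF
import Mathlib.CategoryTheory.Abelian.Refinements
import Mathlib.CategoryTheory.Abelian.FunctorCategory

/-!
Effaceable delta-functors are universal.
-/

set_option autoImplicit false

universe v u v' u'

open CategoryTheory CategoryTheory.Limits DeltaF

namespace Groth.Agent.DFBasic

variable {A : Type u} [Category.{v} A] [Abelian A] {B : Type u'} [Category.{v'} B] [Abelian B]

/-- The short exact sequence of a monomorphism. -/
noncomputable abbrev cokSeq {X Y : A} (u : X ⟶ Y) : ShortComplex A :=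
  ShortComplex.mk u (cokernel.π u) (cokernel.condition u)

lemma cokSeq_shortExact {X Y : A} (u : X ⟶ Y) [Mono u] : (cokSeq u).ShortExact :=
  { exact := ShortComplex.exact_of_g_is_cokernel _ (cokernelIsCokernel u) }

variable (T T' : CohDeltaFunctor A B ℕ)

lemma epi_δ {S : ShortComplex A} (hS : S.ShortExact) {n : ℕ}
    (h0 : (T.F (n + 1)).map S.f = 0) : Epi (T.δ S hS n (n + 1) rfl) :=
  (T.exact₁ S hS n (n + 1) rfl).epi_f h0

/-- Compatibility with the connecting map of `S` in degree `n`. -/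
def Compat {S : ShortComplex A} (hS : S.ShortExact) (n : ℕ) (τ : T.F n ⟶ T'.F n)
    (σ : (T.F (n + 1)).obj S.X₁ ⟶ (T'.F (n + 1)).obj S.X₁) : Prop :=
  T.δ S hS n (n + 1) rfl ≫ σ = τ.app S.X₃ ≫ T'.δ S hS n (n + 1) rfl

variable {T T'}

lemma exists_compat {S : ShortComplex A} (hS : S.ShortExact) (n : ℕ) (τ : T.F n ⟶ T'.F n)
    (h0 : (T.F (n + 1)).map S.f = 0) : ∃ σ, Compat T T' hS n τ σ := by
  have := epi_δ T hS h0
  obtain ⟨l, hl⟩ : ∃ l : (T.F (n + 1)).obj S.X₁ ⟶ (T'.F (n + 1)).obj S.X₁,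
      T.δ S hS n (n + 1) rfl ≫ l = τ.app S.X₃ ≫ T'.δ S hS n (n + 1) rfl := by
    have hc := (T.exact₃ S hS n (n + 1) rfl).gIsCokernel
    refine ⟨hc.desc (CokernelCofork.ofπ (τ.app S.X₃ ≫ T'.δ S hS n (n + 1) rfl) ?_), ?_⟩
    · dsimp
      rw [NatTrans.naturality_assoc, T'.comp_δ, comp_zero]
    · exact hc.fac _ WalkingParallelPair.one
  exact ⟨l, hl⟩

lemma compat_natural {S S' : ShortComplex A} {hS : S.ShortExact} {hS' : S'.ShortExact} (φ : S ⟶ S')
    {n : ℕ} {τ : T.F n ⟶ T'.F n} (h0 : (T.F (n + 1)).map S.f = 0) {σ σ'}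
    (hσ : Compat T T' hS n τ σ) (hσ' : Compat T T' hS' n τ σ') :
    (T.F (n + 1)).map φ.τ₁ ≫ σ' = σ ≫ (T'.F (n + 1)).map φ.τ₁ := by
  have := epi_δ T hS h0
  rw [← cancel_epi (T.δ S hS n (n + 1) rfl), ← Category.assoc,
    ← T.δ_natural hS hS' φ n (n + 1) rfl, Category.assoc, hσ', ← Category.assoc, τ.naturality,
    Category.assoc, T'.δ_natural hS hS' φ n (n + 1) rfl, ← Category.assoc, ← hσ, Category.assoc]

/-- Pushing a short exact sequence forward into an enlargement of a given monomorphism. -/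
lemma exists_common {S : ShortComplex A} (hS : S.ShortExact) {X' Y' : A} (f : S.X₁ ⟶ X')
    (u' : X' ⟶ Y') [Mono u'] :
    ∃ (P : A) (j : Y' ⟶ P) (_ : Mono (u' ≫ j)) (φ : S ⟶ cokSeq (u' ≫ j))
      (ψ : cokSeq u' ⟶ cokSeq (u' ≫ j)), φ.τ₁ = f ∧ ψ.τ₁ = 𝟙 X' := by
  have := hS.mono_f
  refine ⟨pushout S.f (f ≫ u'), pushout.inr _ _, inferInstance,
    { τ₁ := f
      τ₂ := pushout.inl _ _
      τ₃ := hS.gIsCokernel.desc (CokernelCofork.ofπ (pushout.inl _ _ ≫ cokernel.π _) (by
        rw [← Category.assoc, pushout.condition, Category.assoc, Category.assoc,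
          ← Category.assoc u', cokernel.condition, comp_zero]))
      comm₁₂ := by dsimp; rw [pushout.condition, Category.assoc]
      comm₂₃ := by
        change _ = (CokernelCofork.ofπ S.g S.zero).π ≫ _
        erw [Cofork.IsColimit.π_desc hS.gIsCokernel]
        rfl },
    { τ₁ := 𝟙 X'
      τ₂ := pushout.inr _ _
      τ₃ := cokernel.desc _ (pushout.inr _ _ ≫ cokernel.π _) (by
        rw [← Category.assoc, cokernel.condition])
      comm₁₂ := by simp
      comm₂₃ := by simp }, rfl, rfl⟩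

section step

variable (hT : T.IsEffaceable)

/-- The chosen effacing object. -/
noncomputable def effY (n : ℕ) (X : A) : A := (hT n X).choose

/-- The chosen effacing monomorphism. -/
noncomputable def effu (n : ℕ) (X : A) : X ⟶ effY hT n X := (hT n X).choose_spec.choose

instance (n : ℕ) (X : A) : Mono (effu hT n X) := (hT n X).choose_spec.choose_spec.1

lemma effu_map (n : ℕ) (X : A) : (T.F (n + 1)).map (effu hT n X) = 0 :=
  (hT n X).choose_spec.choose_spec.2

/-- The component in degree `n + 1` determined by the degree `n` one. -/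
noncomputable def stepApp (n : ℕ) (τ : T.F n ⟶ T'.F n) (X : A) :
    (T.F (n + 1)).obj X ⟶ (T'.F (n + 1)).obj X :=
  (exists_compat (cokSeq_shortExact (effu hT n X)) n τ (effu_map hT n X)).choose

lemma stepApp_compat (n : ℕ) (τ : T.F n ⟶ T'.F n) (X : A) :
    Compat T T' (cokSeq_shortExact (effu hT n X)) n τ (stepApp hT n τ X) :=
  (exists_compat (cokSeq_shortExact (effu hT n X)) n τ (effu_map hT n X)).choose_spec

lemma stepApp_push (n : ℕ) (τ : T.F n ⟶ T'.F n) (X : A) {P : A}
    (j : effY hT n X ⟶ P) [Mono (effu hT n X ≫ j)]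
    (ψ : cokSeq (effu hT n X) ⟶ cokSeq (effu hT n X ≫ j)) (hψ : ψ.τ₁ = 𝟙 X) :
    Compat T T' (cokSeq_shortExact (effu hT n X ≫ j)) n τ (stepApp hT n τ X) := by
  have h0 : (T.F (n + 1)).map (effu hT n X ≫ j) = 0 := by
    rw [Functor.map_comp, effu_map, zero_comp]
  obtain ⟨σ, hσ⟩ := exists_compat (cokSeq_shortExact (effu hT n X ≫ j)) n τ h0
  have h := compat_natural ψ (effu_map hT n X) (stepApp_compat hT n τ X) hσ
  rw [hψ] at h
  simp only [CategoryTheory.Functor.map_id, Category.id_comp, Category.comp_id] at h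
  rwa [h] at hσ

/-- The natural transformation in degree `n + 1` determined by the degree `n` one. -/
noncomputable def stepNT (n : ℕ) (τ : T.F n ⟶ T'.F n) : T.F (n + 1) ⟶ T'.F (n + 1) where
  app := stepApp hT n τ
  naturality {X X'} f := by
    obtain ⟨P, j, hj, φ, ψ, hφ, hψ⟩ :=
      exists_common (cokSeq_shortExact (effu hT n X)) f (effu hT n X')
    have h := compat_natural φ (effu_map hT n X) (stepApp_compat hT n τ X)
      (stepApp_push hT n τ X' j ψ hψ)
    rw [hφ] at h
    exact h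

lemma stepNT_comm (n : ℕ) (τ : T.F n ⟶ T'.F n) (S : ShortComplex A) (hS : S.ShortExact) :
    T.δ S hS n (n + 1) rfl ≫ (stepNT hT n τ).app S.X₁ =
      τ.app S.X₃ ≫ T'.δ S hS n (n + 1) rfl := by
  obtain ⟨P, j, hj, φ, ψ, hφ, hψ⟩ := exists_common hS (𝟙 S.X₁) (effu hT n S.X₁)
  have h := stepApp_push hT n τ S.X₁ j ψ hψ
  have e := T.δ_natural hS (cokSeq_shortExact (effu hT n S.X₁ ≫ j)) φ n (n + 1) rfl
  have e' := T'.δ_natural hS (cokSeq_shortExact (effu hT n S.X₁ ≫ j)) φ n (n + 1) rfl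
  rw [hφ] at e e'
  simp only [CategoryTheory.Functor.map_id, Category.comp_id] at e e'
  rw [← e, Category.assoc]
  show _ ≫ _ ≫ stepApp hT n τ S.X₁ = _
  rw [h, ← Category.assoc, τ.naturality, Category.assoc, e']

/-- The extension of a natural transformation in degree zero. -/
noncomputable def ext₀ (t : T.F 0 ⟶ T'.F 0) : ∀ n, T.F n ⟶ T'.F n
  | 0 => t
  | n + 1 => stepNT hT n (ext₀ t n)

include hT in
theorem isUniversal : T.IsUniversal := by
  intro T' t
  refine ⟨⟨ext₀ hT t, ?_⟩, rfl, ?_⟩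
  · rintro S hS n₀ n₁ h
    subst h
    exact stepNT_comm hT n₀ _ S hS
  · intro τ hτ
    apply CohDeltaFunctor.hom_ext
    intro n
    induction n with
    | zero => exact hτ
    | succ n ih =>
      ext X
      have := epi_δ T (cokSeq_shortExact (effu hT n X)) (effu_map hT n X)
      rw [← cancel_epi (T.δ _ (cokSeq_shortExact (effu hT n X)) n (n + 1) rfl)]
      erw [τ.comm _ (cokSeq_shortExact (effu hT n X)) n (n + 1) rfl]
      rw [ih]
      exact (stepApp_compat hT n _ X).symm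

end step

lemma mono_succ {n : ℕ} (hT : T.IsEffaceable) (φ : T ⟶ T') [Epi (φ.app n)] [Mono (φ.app n)] :
    Mono (φ.app (n + 1)) := by
  suffices ∀ X, Mono ((φ.app (n + 1)).app X) from NatTrans.mono_of_mono_app _
  intro X
  let S := cokSeq (effu hT n X)
  have hS : S.ShortExact := cokSeq_shortExact _
  have := epi_δ T hS (effu_map hT n X)
  have : IsIso (φ.app n) := isIso_of_mono_of_epi _
  refine Preadditive.mono_of_cancel_zero _ fun {Z} a ha => ?_
  obtain ⟨Z', π, hπ, b, hb⟩ := surjective_up_to_refinements_of_epi (T.δ S hS n (n + 1) rfl) a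
  have hb0 : (b ≫ (φ.app n).app S.X₃) ≫ T'.δ S hS n (n + 1) rfl = 0 := by
    rw [Category.assoc, ← φ.comm S hS n (n + 1) rfl, ← Category.assoc, ← hb, Category.assoc, ha,
      comp_zero]
  obtain ⟨Z'', π', hπ', c, hc⟩ :=
    (T'.exact₃ S hS n (n + 1) rfl).exact_up_to_refinements _ hb0
  dsimp at c hc
  have : π' ≫ π ≫ a = 0 := by
    have e : π' ≫ b = (c ≫ inv ((φ.app n).app S.X₂)) ≫ (T.F n).map S.g := by
      rw [← cancel_mono ((φ.app n).app S.X₃)]
      simp only [Category.assoc, NatTrans.naturality, IsIso.inv_hom_id_assoc]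
      exact hc
    rw [hb, ← Category.assoc, e, Category.assoc, T.comp_δ, comp_zero]
  exact (cancel_epi π).1 ((cancel_epi π').1 (by rw [this, comp_zero, comp_zero]))

end Groth.Agent.DFBasic
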