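import Groth.Statements.S12104
import Groth.Agent.AGFQuot.Basic
import Groth.Agent.S2501

set_option autoImplicit false
open CategoryTheory MonoidalCategory CartesianMonoidalCategory MonObj GrpObj AlgebraicGeometry
universe u
open RedSub

namespace Groth.Agent.S12104

open CategoryTheory CategoryTheory.Limits AlgebraicGeometry Groth.Agent

/-- connected geometric fibres give geometric connectedness -/
theorem geometricallyConnected_of_geomPt {X Y : Scheme.{u}} (f : Y ⟶ X)
    (h : ∀ x : X, ConnectedSpace ↥(pullback f (Red.geomPt x))) : GeometricallyConnected f := by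
  rw [GeometricallyConnected.eq_geometrically, geometrically_iff_of_isClosedUnderIsomorphisms]
  intro K _ y
  let x : X := (Scheme.SpecToEquivOfField K X y).1
  let φ : X.residueField x ⟶ CommRingCat.of K := (Scheme.SpecToEquivOfField K X y).2
  have hy : y = Spec.map φ ≫ X.fromSpecResidueField x :=
    ((Scheme.SpecToEquivOfField K X).symm_apply_apply y).symm
  let K' := AlgebraicClosure K
  letI : Algebra (X.residueField x) K' := ((algebraMap K K').comp φ.hom).toAlgebra
  let ψ : AlgebraicClosure (X.residueField x) →ₐ[X.residueField x] K' := IsAlgClosed.lift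
  let e : Spec (CommRingCat.of K') ⟶ Spec (CommRingCat.of K) :=
    Spec.map (CommRingCat.ofHom (algebraMap K K'))
  have : Surjective e := ⟨fun z => ⟨default, Subsingleton.elim _ _⟩⟩
  let g : Spec (CommRingCat.of K') ⟶ Spec (CommRingCat.of (AlgebraicClosure (X.residueField x))) :=
    Spec.map (CommRingCat.ofHom ψ.toRingHom)
  have hey : g ≫ Red.geomPt x = e ≫ y := by
    rw [hy, Red.geomPt, ← Category.assoc, ← Category.assoc, ← Spec.map_comp, ← Spec.map_comp]
    congr 2
    ext z
    exact ψ.commutes z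
  haveI := h x
  haveI := S2501.result (pullback.snd f (Red.geomPt x))
  haveI : ConnectedSpace ↥(pullback (pullback.snd f (Red.geomPt x)) g) :=
    GeometricallyConnected.geometrically_connectedSpace _ _ _ (.of_hasPullback _ _)
  let i : pullback (pullback.snd f (Red.geomPt x)) g ≅ pullback (pullback.snd f y) e :=
    pullbackLeftPullbackSndIso f (Red.geomPt x) g ≪≫ pullback.congrHom rfl hey ≪≫
      (pullbackLeftPullbackSndIso f y e).symm
  let π := i.hom ≫ pullback.fst (pullback.snd f y) e
  exact π.surjective.connectedSpace π.continuous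

/-- a morphism to an unramified separated target is constant on geometrically connected fibres -/
theorem comp_eq_of_connected {X Y Z S : Scheme.{u}} (p : X ⟶ Y) (g : X ⟶ Z) (s : Z ⟶ S) (t : Y ⟶ S)
    [GeometricallyConnected p] [IsSeparated s] [FormallyUnramified s] [LocallyOfFiniteType s]
    (hw : g ≫ s = p ≫ t) : pullback.fst p p ≫ g = pullback.snd p p ≫ g := by
  have hw' : (pullback.fst p p ≫ g) ≫ s = (pullback.snd p p ≫ g) ≫ s := by
    rw [Category.assoc, Category.assoc, hw, pullback.condition_assoc]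
  let q : pullback p p ⟶ pullback s s := pullback.lift _ _ hw'
  let emb := pullback.fst q (pullback.diagonal s)
  have hopen : IsOpenImmersion emb := inferInstance
  have hclosed : IsClosedImmersion emb := inferInstance
  have hsurj : Surjective emb := ⟨fun z => by
    let m := pullback.fst p p z
    have hd : pullback.diagonal p m ∈ Set.range emb := by
      have hq : pullback.diagonal p ≫ q = g ≫ pullback.diagonal s := by
        apply pullback.hom_ext <;>
          simp only [q, Category.assoc, pullback.lift_fst, pullback.lift_snd, pullback.diagonal_fst, pullback.diagonal_snd,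
            pullback.diagonal_fst_assoc, pullback.diagonal_snd_assoc, Category.comp_id]
      refine ⟨pullback.lift (pullback.diagonal p) g hq m, ?_⟩
      rw [← Scheme.Hom.comp_apply, pullback.lift_fst]
    have hdm : pullback.diagonal p m ∈ pullback.fst p p ⁻¹' {m} := by
      show pullback.fst p p (pullback.diagonal p m) = m
      rw [← Scheme.Hom.comp_apply, pullback.diagonal_fst]
      rfl
    exact ((pullback.fst p p).isConnected_preimage_singleton m).isPreconnected.subset_isClopen
      ⟨hclosed.isClosedEmbedding.isClosed_range, emb.isOpenEmbedding.isOpen_range⟩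
      ⟨_, hdm, hd⟩ (rfl : pullback.fst p p z = m)⟩
  have : IsIso emb := by
    haveI : Epi emb.base := (TopCat.epi_iff_surjective _).mpr emb.surjective
    exact IsOpenImmersion.isIso emb
  rw [← cancel_epi emb]
  have h1 : emb ≫ q = pullback.snd q (pullback.diagonal s) ≫ pullback.diagonal s := pullback.condition
  have h2 := congrArg (· ≫ pullback.fst s s) h1
  have h3 := congrArg (· ≫ pullback.snd s s) h1
  simp only [q, Category.assoc, pullback.lift_fst, pullback.lift_snd, pullback.diagonal_fst, pullback.diagonal_snd,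
    Category.comp_id] at h2 h3
  rw [h2, h3]

/-- descent of a map along `c` when its target is unramified and `c` has connected geometric fibres -/
theorem exists_desc {S : Scheme.{u}} {M C D : Over S} (c : M ⟶ C) (d : M ⟶ D) [Smooth c.left]
    [Surjective c.left] [IsFinite D.hom] [Etale D.hom]
    (hgeo : ∀ x : C.left, ConnectedSpace ↥(Red.geomFibre x (Over.mk c.left)).left) :
    ∃! e : C ⟶ D, c ≫ e = d := by
  haveI := geometricallyConnected_of_geomPt c.left hgeo
  have hc : AGFQuot.Basic.IsCover c := ⟨inferInstance, inferInstance, inferInstance⟩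
  haveI := hc.effectiveEpi
  refine GrpdLib.GrpOver.existsUnique_desc c d fun T a b hab => ?_
  have hab' : a.left ≫ c.left = b.left ≫ c.left := congrArg CommaMorphism.left hab
  have h1 := comp_eq_of_connected c.left d.left D.hom C.hom ((Over.w d).trans (Over.w c).symm)
  refine Over.OverMorphism.ext ?_
  have h2 := pullback.lift a.left b.left hab' ≫= h1
  simp only [pullback.lift_fst_assoc, pullback.lift_snd_assoc] at h2
  exact h2

/-- Let G be a reductive S-group and (M, h : H ⟶ G_M) a representing pair for the functor of subgroups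
of type (RC) of G (type (R) with closed root sets on the geometric fibres; every such subgroup of a
base change G_{S'} has the same points as the pullback of h along exactly one S-morphism S' ⟶ M).
Suppose (Cl₁, cl₁ : M ⟶ Cl₁) and (Cl₂, cl₂ : M ⟶ Cl₂) are two pairs with the following properties:
Clᵢ finite and etale over S; clᵢ smooth, surjective, quasi-compact, locally of finite presentation
and locally quasi-projective with connected geometric fibres; and two subgroups of type (RC) of
G_{S'} with classifying maps g₁, g₂ : S' ⟶ M have the same image under clᵢ if and only if at every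
point of S' their geometric fibres are conjugate under a point of the geometric fibre of G. Then
there is exactly one S-isomorphism e : Cl₁ ≅ Cl₂ with cl₁ ≫ e.hom = cl₂. -/
theorem result {S : Scheme.{u}} (G : Over S) [GrpObj G] (hG : Red.IsReductive G)
    (M : Over S) (H : Over M.left) [GrpObj H] (h : H ⟶ Red.bc M.hom G) (hh : RedSub.IsTypeR h)
    (hRC : (∀ (s : ↥M.left) (D' : Red.SplitRed (Red.geomFibre s (Red.bc M.hom G))) (t' : D'.T ⟶ Red.geomFibre s _),
        t' ≫ (Over.pullback (Red.geomPt s)).map h = D'.i →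
        ∀ a b c : D'.idx, (∃ v, v ≫ (Over.pullback (Red.geomPt s)).map h = D'.u a) →
          (∃ v, v ≫ (Over.pullback (Red.geomPt s)).map h = D'.u b) → D'.P.root a + D'.P.root b = D'.P.root c →
          ∃ v, v ≫ (Over.pullback (Red.geomPt s)).map h = D'.u c))
    (huniv : ∀ (S' : Scheme.{u}) (f : S' ⟶ S) (H' : Over S') [GrpObj H'] (h' : H' ⟶ Red.bc f G), RedSub.IsTypeR h' →
        (∀ (s : ↥S') (D' : Red.SplitRed (Red.geomFibre s (Red.bc f G))) (t' : D'.T ⟶ Red.geomFibre s _),
        t' ≫ (Over.pullback (Red.geomPt s)).map h' = D'.i →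
        ∀ a b c : D'.idx, (∃ v, v ≫ (Over.pullback (Red.geomPt s)).map h' = D'.u a) →
          (∃ v, v ≫ (Over.pullback (Red.geomPt s)).map h' = D'.u b) → D'.P.root a + D'.P.root b = D'.P.root c →
          ∃ v, v ≫ (Over.pullback (Red.geomPt s)).map h' = D'.u c) →
        ∃! g : S' ⟶ M.left, g ≫ M.hom = f ∧ RedSub.SamePoints G f h' M h g) 
    (Cl₁ : Over S) (cl₁ : M ⟶ Cl₁) (Cl₂ : Over S) (cl₂ : M ⟶ Cl₂)
    (hCl₁ : IsFinite Cl₁.hom ∧ Etale Cl₁.hom ∧ Smooth cl₁.left ∧ Surjective cl₁.left ∧
      QuasiCompact cl₁.left ∧ LocallyOfFinitePresentation cl₁.left ∧ RedSub.IsLocallyQuasiProjective (Over.mk cl₁.left) ∧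
      (∀ c : ↥Cl₁.left, ConnectedSpace ↥(Red.geomFibre c (Over.mk cl₁.left)).left) ∧
      ∀ (S' : Scheme.{u}) (f : S' ⟶ S) (H₁ H₂ : Over S') [GrpObj H₁] [GrpObj H₂] (h₁ : H₁ ⟶ Red.bc f G)
        (h₂ : H₂ ⟶ Red.bc f G) (g₁ g₂ : S' ⟶ M.left), RedSub.IsTypeR h₁ → RedSub.IsTypeR h₂ →
        g₁ ≫ M.hom = f → g₂ ≫ M.hom = f → RedSub.SamePoints G f h₁ M h g₁ → RedSub.SamePoints G f h₂ M h g₂ →
        (g₁ ≫ cl₁.left = g₂ ≫ cl₁.left ↔
          ∀ s : ↥S', ∃ gpt : 𝟙_ _ ⟶ Red.geomFibre s (Red.bc f G),
            RedSub.ConjEq ((Over.pullback (Red.geomPt s)).map h₁) ((Over.pullback (Red.geomPt s)).map h₂) gpt))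
    (hCl₂ : IsFinite Cl₂.hom ∧ Etale Cl₂.hom ∧ Smooth cl₂.left ∧ Surjective cl₂.left ∧
      QuasiCompact cl₂.left ∧ LocallyOfFinitePresentation cl₂.left ∧ RedSub.IsLocallyQuasiProjective (Over.mk cl₂.left) ∧
      (∀ c : ↥Cl₂.left, ConnectedSpace ↥(Red.geomFibre c (Over.mk cl₂.left)).left) ∧
      ∀ (S' : Scheme.{u}) (f : S' ⟶ S) (H₁ H₂ : Over S') [GrpObj H₁] [GrpObj H₂] (h₁ : H₁ ⟶ Red.bc f G)
        (h₂ : H₂ ⟶ Red.bc f G) (g₁ g₂ : S' ⟶ M.left), RedSub.IsTypeR h₁ → RedSub.IsTypeR h₂ →
        g₁ ≫ M.hom = f → g₂ ≫ M.hom = f → RedSub.SamePoints G f h₁ M h g₁ → RedSub.SamePoints G f h₂ M h g₂ →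
        (g₁ ≫ cl₂.left = g₂ ≫ cl₂.left ↔
          ∀ s : ↥S', ∃ gpt : 𝟙_ _ ⟶ Red.geomFibre s (Red.bc f G),
            RedSub.ConjEq ((Over.pullback (Red.geomPt s)).map h₁) ((Over.pullback (Red.geomPt s)).map h₂) gpt)) :
    ∃! e : Cl₁ ≅ Cl₂, cl₁ ≫ e.hom = cl₂ := by
  obtain ⟨f1, e1, s1, u1, -, -, -, g1, -⟩ := hCl₁
  obtain ⟨f2, e2, s2, u2, -, -, -, g2, -⟩ := hCl₂
  obtain ⟨a, ha, hau⟩ := exists_desc cl₁ cl₂ g1
  obtain ⟨b, hb, -⟩ := exists_desc cl₂ cl₁ g2
  obtain ⟨i1, -, hi1⟩ := exists_desc cl₁ cl₁ g1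
  obtain ⟨i2, -, hi2⟩ := exists_desc cl₂ cl₂ g2
  refine ⟨⟨a, b, (hi1 _ (show cl₁ ≫ a ≫ b = cl₁ by rw [reassoc_of% ha, hb])).trans (hi1 _ (Category.comp_id _)).symm,
    (hi2 _ (show cl₂ ≫ b ≫ a = cl₂ by rw [reassoc_of% hb, ha])).trans (hi2 _ (Category.comp_id _)).symm⟩, ha,
    fun e he => ?_⟩
  exact Iso.ext (hau _ he)

end Groth.Agent.S12104
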