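import Groth.Statements.S8478
import Groth.Agent.Cor85.Weyl

set_option autoImplicit false
universe u
open CategoryTheory MonoidalCategory CartesianMonoidalCategory MonObj GrpObj AlgebraicGeometry CategoryTheory.Limits
open Red

namespace Groth.Agent.S8478

open CategoryTheory MonoidalCategory CartesianMonoidalCategory MonObj GrpObj AlgebraicGeometry Limits
open Groth.Agent.RedPts Groth.Agent.Cor85

namespace Aux

attribute [local instance] Sys.hi Sys.hα Sys.hav Sys.hp Sys.hm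

variable {S : Scheme.{u}} {G T G' T' : Over S} [GrpObj G] [GrpObj T] [GrpObj G'] [GrpObj T']
  (D : Sys S G T) (D' : Sys S G' T')

noncomputable def cst (c : 𝟙_ (Over S) ⟶ Red.Gm S) (X : Over S) : (Γ(X.left, ⊤))ˣ := gmU (toUnit X ≫ c)

lemma neg_pow_q {q : ℕ} (hq0 : 0 < q) {R : Type u} [CommRing R] (hq : ∀ a b : R, (a + b) ^ q = a ^ q + b ^ q) (a : R) :
    (-a) ^ q = -(a ^ q) := by
  refine eq_neg_of_add_eq_zero_left ?_
  rw [← hq, neg_add_cancel, zero_pow hq0.ne']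

variable (q : ℕ) (c : 𝟙_ (Over S) ⟶ Red.Gm S) (f : G ⟶ G')

def P1 : Prop := ∀ (X : Over S) (z : (Γ(X.left, ⊤))ˣ), (D.rk X).h z ≫ f = (D'.rk X).h (z ^ q)
def P2 : Prop := ∀ (X : Over S) (a : (Γ(X.left, ⊤))ˣ), (D.rk X).w a ≫ f = (D'.rk X).w (cst c X * a ^ q)
def P3 : Prop := ∀ (X : Over S) (y : Γ(X.left, ⊤)),
  (D.rk X).M y ≫ f = (D'.rk X).M ((↑(cst c X)⁻¹ : Γ(X.left, ⊤)) * y ^ q)

variable (hq0 : 0 < q) (hq : ∀ (X : Over S) (a b : Γ(X.left, ⊤)), (a + b) ^ q = a ^ q + b ^ q)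
  (hP : ∀ (X : Over S) (a : Γ(X.left, ⊤)), (D.rk X).P a ≫ f = (D'.rk X).P ((cst c X : Γ(X.left, ⊤)) * a ^ q))
  [IsMonHom f]

include hq0 hq hP in
theorem p3_p2 (h : P3 D D' q c f) : P2 D D' q c f := by
  intro X a
  rw [Rk1.w, MonObj.mul_comp, MonObj.mul_comp, hP, h, Rk1.w, neg_pow_q hq0 (hq X), mul_neg, Units.val_mul,
    Units.val_pow_eq_pow_val, _root_.mul_inv, ← inv_pow, Units.val_mul, Units.val_pow_eq_pow_val]

omit [IsMonHom f] in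
theorem p2_p1 [IsMonHom f] (h : P2 D D' q c f) : P1 D D' q f := by
  intro X z
  have e1 : (D.rk X).h z = (D.rk X).w z * ((D.rk X).w 1)⁻¹ := by
    rw [eq_mul_inv_iff_mul_eq, ← Rk1.w_mul_left, _root_.mul_one]
  rw [e1, MonObj.mul_comp, GrpObj.inv_comp, h, h, one_pow, _root_.mul_one, _root_.mul_comm (cst c X), Rk1.w_mul_left,
    mul_inv_cancel_right]

include hq0 hq hP in
theorem p1_p3 (hG' : Red.IsReductive G') (hT' : Red.IsTorus T') [Mono D'.i] [IsOpenImmersion (cell D').left]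
    (h : P1 D D' q f) : P3 D D' q c f := by
  intro X y
  obtain ⟨t₀, ht₀⟩ := exists_torus_of_inverts D' hG' hT' (q : ℤ) (by exact_mod_cast hq0.ne') ((D.rk (𝟙_ (Over S))).w 1 ≫ f) (by
    intro X' z
    rw [coroot_zpow_eq, zpow_natCast, ← h X' (gmU z), ← Category.assoc, toUnit_w, ← MonObj.mul_comp, ← GrpObj.inv_comp,
      ← MonObj.mul_comp, conj_coroot, GrpObj.inv_comp])
  have hg : (D.rk X).w 1 ≫ f = (D'.rk X).w 1 * (D'.rk X).it (toUnit X ≫ t₀) := by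
    rw [← toUnit_w D, Category.assoc, ht₀, MonObj.comp_mul, toUnit_w, ← Category.assoc]; rfl
  set t := toUnit X ≫ t₀
  set χ := (D'.rk X).χ t
  set C := cst c X
  -- the value on the opposite root group up to a unit
  have hM : ∀ y : Γ(X.left, ⊤), (D.rk X).M y ≫ f = (D'.rk X).M ((χ : Γ(X.left, ⊤)) * ((C : Γ(X.left, ⊤)) * y ^ q)) := by
    intro y
    have e := D.w_conj_P (X := X) 1 (-y)
    rw [inv_one, Units.val_one, one_pow, _root_.one_mul, neg_neg] at e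
    rw [← e, MonObj.mul_comp, MonObj.mul_comp, GrpObj.inv_comp, hP, hg, neg_pow_q hq0 (hq X), mul_neg,
      show (D'.rk X).w 1 * (D'.rk X).it t * (D'.rk X).P (-((C : Γ(X.left, ⊤)) * y ^ q)) *
        ((D'.rk X).w 1 * (D'.rk X).it t)⁻¹ = (D'.rk X).w 1 *
        ((D'.rk X).it t * (D'.rk X).P (-((C : Γ(X.left, ⊤)) * y ^ q)) * ((D'.rk X).it t)⁻¹) * ((D'.rk X).w 1)⁻¹ by group,
      Rk1.conjP, D'.w_conj_P, inv_one, Units.val_one, one_pow, _root_.one_mul, mul_neg, neg_neg]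
  -- the unit is forced by the cell
  set d : Γ(X.left, ⊤) := (χ : Γ(X.left, ⊤)) * C
  have ew : (D.rk X).w 1 ≫ f = (D'.rk X).P C * (D'.rk X).M (-d) * (D'.rk X).P C := by
    rw [Rk1.w, MonObj.mul_comp, MonObj.mul_comp, hP, hM, Units.val_one, inv_one, Units.val_one, one_pow,
      _root_.mul_one, neg_pow_q hq0 (hq X), one_pow, mul_neg, _root_.mul_one, mul_neg]
  set τ := (D'.rk X).av C * t with hτ
  have key : (D'.rk X).M ((↑C⁻¹ : Γ(X.left, ⊤)) - d) * (D'.rk X).it 1 * (D'.rk X).P 0 =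
      (D'.rk X).M 0 * (D'.rk X).it τ * (D'.rk X).P ((↑((D'.rk X).χ τ)⁻¹ : Γ(X.left, ⊤)) * C + -(C : Γ(X.left, ⊤))) := by
    have e1 : (D'.rk X).w 1 = (D'.rk X).w C * (D'.rk X).h C := by
      have := (D'.rk X).w_mul_right C⁻¹ C
      rw [inv_mul_cancel, map_inv, _root_.inv_inv] at this
      exact this
    have e2 : (D'.rk X).P C * (D'.rk X).M (-d) * (D'.rk X).P C =
        (D'.rk X).P C * (D'.rk X).M (-↑C⁻¹) * (D'.rk X).P C * ((D'.rk X).h C * (D'.rk X).it t) := by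
      rw [← ew, hg, e1, Rk1.w]; group
    have e3 : (D'.rk X).M ((↑C⁻¹ : Γ(X.left, ⊤)) - d) =
        (D'.rk X).P C * ((D'.rk X).h C * (D'.rk X).it t) * (D'.rk X).P (-(C : Γ(X.left, ⊤))) := by
      rw [sub_eq_add_neg, Rk1.M_add, Rk1.P_neg]
      have h1 : (D'.rk X).M (-d) = ((D'.rk X).P C)⁻¹ * ((D'.rk X).P C * (D'.rk X).M (-d) * (D'.rk X).P C) *
          ((D'.rk X).P C)⁻¹ := by group
      rw [h1, e2, Rk1.M_neg]; group
    rw [map_one, Rk1.P_zero, Rk1.M_zero, _root_.mul_one, _root_.mul_one, _root_.one_mul, e3, Rk1.h_apply, ← map_mul,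
      Rk1.P_it, _root_.mul_assoc, ← Rk1.P_add]
  obtain ⟨h1, -, -⟩ := cell_inj D' key
  rw [hM, ← _root_.mul_assoc]
  rw [sub_eq_zero] at h1
  show (D'.rk X).M (d * y ^ q) = _
  rw [← h1]

end Aux

/-- Let (G, T, α, p₊, p₋, α^*) and (G', T', α', p'₊, p'₋, α'^*) be two rank-one systems over S: G
reductive, i : T ⟶ G a maximal torus, α a character of T non-trivial on every geometric fibre, p₊,
p₋ : 𝔾_a ⟶ G monomorphisms normalised by T with multipliers α, α⁻¹ whose cell map (y, t, x) ↦ p₋(y)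
i(t) p₊(x) is an open immersion, α^* : 𝔾_m ⟶ T with α ∘ α^* the squaring map and p₊(x) p₋(y) =
p₋(y/(1+xy)) · i(α^*(1+xy)) · p₊(x/(1+xy)) whenever 1 + xy is invertible; likewise for the primed
data. Let q > 0 be an integer such that x ↦ x^q is additive on all functions of S-schemes. Let c be
an S-point of 𝔾_m and f : G ⟶ G' a homomorphism with f(p₊(x)) = p'₊(c x^q) for all points x of 𝔾_a.
Write w(x) = p₊(x) p₋(-x⁻¹) p₊(x) and w'(x) = p'₊(x) p'₋(-x⁻¹) p'₊(x) for points x with invertible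
coordinate. Then the following are equivalent: (i) f(i(α^*(z))) = i'(α'^*(z))^q for all points z of
𝔾_m; (ii) f(w(x)) = w'(c x^q) for all x with invertible coordinate; (iii) f(p₋(y)) = p'₋(c⁻¹ y^q)
for all points y. -/
theorem result (S : Scheme.{u}) (G T : Over S) [GrpObj G] [GrpObj T] (i : T ⟶ G) [IsMonHom i] [Mono i] (hG : Red.IsReductive G) (hTm : Red.IsMaximalTorus i)
    (α : T ⟶ Red.Gm S) [IsMonHom α] (hα : ∀ s : S, (Over.pullback (Red.geomPt s)).map α ≠ 1)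
    (pp pm : Red.Ga S ⟶ G) [IsMonHom pp] [Mono pp] [IsMonHom pm] [Mono pm]
    (hpp : ∀ (X : Over S) (t : X ⟶ T) (x : X ⟶ Red.Ga S), ∃ x' : X ⟶ Red.Ga S,
      x' ≫ pp = (t ≫ i) * (x ≫ pp) * (t ≫ i)⁻¹ ∧ Red.gaFn x' = Red.gmFn (t ≫ α) * Red.gaFn x)
    (hpm : ∀ (X : Over S) (t : X ⟶ T) (y : X ⟶ Red.Ga S), ∃ y' : X ⟶ Red.Ga S,
      y' ≫ pm = (t ≫ i) * (y ≫ pm) * (t ≫ i)⁻¹ ∧ Red.gaFn y' * Red.gmFn (t ≫ α) = Red.gaFn y)
    (hΩ : IsOpenImmersion (((pm ⊗ₘ i) ⊗ₘ pp) ≫ (μ[G] ▷ G) ≫ μ[G]).left)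
    (av : Red.Gm S ⟶ T) [IsMonHom av] (h2 : av ≫ α = (𝟙 (Red.Gm S)) ^ 2)
    (hF : ∀ (X : Over S) (x y : X ⟶ Red.Ga S), IsUnit (1 + Red.gaFn x * Red.gaFn y) →
      ∃ (x' y' : X ⟶ Red.Ga S) (z : X ⟶ Red.Gm S), Red.gmFn z = 1 + Red.gaFn x * Red.gaFn y ∧
        Red.gaFn x' * Red.gmFn z = Red.gaFn x ∧ Red.gaFn y' * Red.gmFn z = Red.gaFn y ∧
        (x ≫ pp) * (y ≫ pm) = (y' ≫ pm) * (z ≫ av ≫ i) * (x' ≫ pp))
    (G' T' : Over S) [GrpObj G'] [GrpObj T'] (i' : T' ⟶ G') [IsMonHom i'] [Mono i'] (hG' : Red.IsReductive G') (hTm' : Red.IsMaximalTorus i')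
    (α' : T' ⟶ Red.Gm S) [IsMonHom α'] (hα' : ∀ s : S, (Over.pullback (Red.geomPt s)).map α' ≠ 1)
    (pp' pm' : Red.Ga S ⟶ G') [IsMonHom pp'] [Mono pp'] [IsMonHom pm'] [Mono pm']
    (hpp' : ∀ (X : Over S) (t : X ⟶ T') (x : X ⟶ Red.Ga S), ∃ x' : X ⟶ Red.Ga S,
      x' ≫ pp' = (t ≫ i') * (x ≫ pp') * (t ≫ i')⁻¹ ∧ Red.gaFn x' = Red.gmFn (t ≫ α') * Red.gaFn x)
    (hpm' : ∀ (X : Over S) (t : X ⟶ T') (y : X ⟶ Red.Ga S), ∃ y' : X ⟶ Red.Ga S,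
      y' ≫ pm' = (t ≫ i') * (y ≫ pm') * (t ≫ i')⁻¹ ∧ Red.gaFn y' * Red.gmFn (t ≫ α') = Red.gaFn y)
    (hΩ' : IsOpenImmersion (((pm' ⊗ₘ i') ⊗ₘ pp') ≫ (μ[G'] ▷ G') ≫ μ[G']).left)
    (av' : Red.Gm S ⟶ T') [IsMonHom av'] (h2' : av' ≫ α' = (𝟙 (Red.Gm S)) ^ 2)
    (hF' : ∀ (X : Over S) (x y : X ⟶ Red.Ga S), IsUnit (1 + Red.gaFn x * Red.gaFn y) →
      ∃ (x' y' : X ⟶ Red.Ga S) (z : X ⟶ Red.Gm S), Red.gmFn z = 1 + Red.gaFn x * Red.gaFn y ∧
        Red.gaFn x' * Red.gmFn z = Red.gaFn x ∧ Red.gaFn y' * Red.gmFn z = Red.gaFn y ∧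
        (x ≫ pp') * (y ≫ pm') = (y' ≫ pm') * (z ≫ av' ≫ i') * (x' ≫ pp'))
    (q : ℕ) (hq0 : 0 < q) (hq : ∀ (X : Over S) (a b : Γ(X.left, ⊤)), (a + b) ^ q = a ^ q + b ^ q) (c : 𝟙_ (Over S) ⟶ Red.Gm S) (f : G ⟶ G') [IsMonHom f]
    (hf : ∀ (X : Over S) (x y : X ⟶ Red.Ga S), Red.gaFn y = Red.gmFn (toUnit X ≫ c) * Red.gaFn x ^ q →
      (x ≫ pp) ≫ f = y ≫ pp') :
    [∀ (X : Over S) (z : X ⟶ Red.Gm S), (z ≫ av ≫ i) ≫ f = ((z ≫ av') ^ q) ≫ i',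
      ∀ (X : Over S) (x x' y y' : X ⟶ Red.Ga S), Red.gaFn x' * Red.gaFn x = -1 →
        Red.gaFn y = Red.gmFn (toUnit X ≫ c) * Red.gaFn x ^ q → Red.gaFn y' * Red.gaFn y = -1 →
        ((x ≫ pp) * (x' ≫ pm) * (x ≫ pp)) ≫ f = (y ≫ pp') * (y' ≫ pm') * (y ≫ pp'),
      ∀ (X : Over S) (x y : X ⟶ Red.Ga S), Red.gaFn y * Red.gmFn (toUnit X ≫ c) = Red.gaFn x ^ q →
        (x ≫ pm) ≫ f = y ≫ pm'].TFAE := by
  let D : Groth.Agent.RedPts.Sys S G T := { i := i, α := α, av := av, pp := pp, pm := pm, hpp := hpp, hpm := hpm, h2 := h2, hF := hF }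
  let D' : Groth.Agent.RedPts.Sys S G' T' := { i := i', α := α', av := av', pp := pp', pm := pm', hpp := hpp', hpm := hpm', h2 := h2', hF := hF' }
  have : Mono D'.i := ‹Mono i'›
  have : IsOpenImmersion (Groth.Agent.Cor85.cell D').left := hΩ'
  have hP : ∀ (X : Over S) (a : Γ(X.left, ⊤)), (D.rk X).P a ≫ f = (D'.rk X).P ((Aux.cst c X : Γ(X.left, ⊤)) * a ^ q) := by
    intro X a
    exact hf X (gaPt a) (gaPt _) (by rw [gaFn_gaPt, gaFn_gaPt]; rfl)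
  tfae_have 1 → 3 := fun h1 X x y hxy => by
    have h3 := Aux.p1_p3 D D' q c f hq0 hq hP hG' hTm'.2.2.1 (fun X' v => by
      have e := h1 X' (gmPt v)
      have hgv : gmU (gmPt (S := S) v) = v := Units.ext (gmFn_gmPt v)
      rw [show gmPt v ≫ av ≫ i = (D.rk X').h (gmU (gmPt (S := S) v)) from D.avi_eq _,
        show ((gmPt v ≫ av') ^ q) ≫ i' = (D'.rk X').h (gmU (gmPt (S := S) v) ^ q) by
          rw [← zpow_natCast, ← zpow_natCast]; exact coroot_zpow_eq D' _ _, hgv] at e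
      exact e) X (Red.gaFn x)
    rw [show x ≫ pm = (D.rk X).M (Red.gaFn x) from D.pm_eq x, show y ≫ pm' = (D'.rk X).M (Red.gaFn y) from D'.pm_eq y,
      h3]
    congr 1
    rw [← hxy, _root_.mul_comm (Red.gaFn y), ← gmU_val]
    exact Units.inv_mul_cancel_left _ _
  tfae_have 3 → 2 := fun h3 X x x' y y' hx hy hy' => by
    have hu : IsUnit (Red.gaFn x) := IsUnit.of_mul_eq_one (-Red.gaFn x') (by rw [mul_neg, _root_.mul_comm, hx, neg_neg])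
    have h2' := Aux.p3_p2 D D' q c f hq0 hq hP (fun X a => by
      refine h3 X (gaPt a) (gaPt _) ?_
      rw [gaFn_gaPt, gaFn_gaPt, _root_.mul_right_comm, ← gmU_val]
      exact congrArg (· * a ^ q) (Units.inv_mul _) |>.trans (_root_.one_mul _)) X hu.unit
    have e1 : (x ≫ pp) * (x' ≫ pm) * (x ≫ pp) = (D.rk X).w hu.unit := by
      have : -(↑hu.unit⁻¹ : Γ(X.left, ⊤)) = Red.gaFn x' := by
        apply hu.mul_right_cancel
        rw [neg_mul, hu.val_inv_mul, hx]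
      rw [show x ≫ pp = (D.rk X).P (Red.gaFn x) from D.pp_eq x, show x' ≫ pm = (D.rk X).M (Red.gaFn x') from D.pm_eq x',
        Rk1.w, hu.unit_spec, this]
    have e2 : (y ≫ pp') * (y' ≫ pm') * (y ≫ pp') = (D'.rk X).w (Aux.cst c X * hu.unit ^ q) := by
      have hv : ((Aux.cst c X * hu.unit ^ q : (Γ(X.left, ⊤))ˣ) : Γ(X.left, ⊤)) = Red.gaFn y := by
        rw [Units.val_mul, Units.val_pow_eq_pow_val, hu.unit_spec, hy]; rfl
      have : -(↑(Aux.cst c X * hu.unit ^ q)⁻¹ : Γ(X.left, ⊤)) = Red.gaFn y' := by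
        apply (Aux.cst c X * hu.unit ^ q).isUnit.mul_right_cancel
        rw [neg_mul, Units.inv_mul, hv, hy']
      rw [show y ≫ pp' = (D'.rk X).P (Red.gaFn y) from D'.pp_eq y, show y' ≫ pm' = (D'.rk X).M (Red.gaFn y') from D'.pm_eq y',
        Rk1.w, hv, this]
    rw [e1, e2, h2']
  tfae_have 2 → 1 := fun h2' X z => by
    have hP2 : Aux.P2 D D' q c f := by
      intro X a
      have e := h2' X (gaPt a) (gaPt (-↑a⁻¹)) (gaPt ↑(Aux.cst c X * a ^ q)) (gaPt (-↑(Aux.cst c X * a ^ q)⁻¹))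
        (by rw [gaFn_gaPt, gaFn_gaPt, neg_mul, Units.inv_mul])
        (by rw [gaFn_gaPt, gaFn_gaPt, Units.val_mul, Units.val_pow_eq_pow_val]; rfl)
        (by rw [gaFn_gaPt, gaFn_gaPt, neg_mul, Units.inv_mul])
      exact e
    have e := Aux.p2_p1 D D' q c f hP2 X (gmU z)
    rw [← D.avi_eq] at e
    rw [show ((z ≫ av') ^ q) ≫ i' = (D'.rk X).h (gmU z ^ q) by
      rw [← zpow_natCast, ← zpow_natCast]; exact coroot_zpow_eq D' _ _]
    exact e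
  tfae_finish

end Groth.Agent.S8478
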