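import Groth.Statements.S4567
import Groth.Agent.UH.Unibranch
import Groth.Agent.EtStruct.Unibranch
import Mathlib.FieldTheory.PurelyInseparable.Basic
import Mathlib.FieldTheory.IsAlgClosed.AlgebraicClosure
-- import your own Groth.Agent.* helpers here

set_option autoImplicit false
universe u
open AlgebraicGeometry
open CAlg2

namespace Groth.Agent.S4567

set_option backward.isDefEq.respectTransparency false in
lemma universallyInjective_of_geomUnibranch (A : Type u) [CommRing A] [IsDomain A]
    (h : ∀ (p : Ideal A) [p.IsPrime], CAlg2.IsGeomUnibranch (Localization.AtPrime p)) :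
    UniversallyInjective
      (Spec.map (CommRingCat.ofHom (algebraMap A (integralClosure A (FractionRing A))))) := by
  refine ((tfae_universallyInjective _).out 0 1 rfl rfl).mpr fun L _ t₁ t₂ ht ↦ ?_
  obtain ⟨φ₁, rfl⟩ := Spec.map_surjective t₁
  obtain ⟨φ₂, rfl⟩ := Spec.map_surjective t₂
  simp only [← Spec.map_comp] at ht
  have hg := congrArg CommRingCat.Hom.hom (Spec.map_injective ht)
  have := RingHom.ker_isPrime (φ₁.hom.comp (algebraMap A (integralClosure A (FractionRing A))))
  congr 1
  let P := RingHom.ker (φ₁.hom.comp (algebraMap A (integralClosure A (FractionRing A))))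
  exact CommRingCat.hom_ext (UH.eq_of_isGeomUnibranch (FractionRing A) P
    (R := Localization.AtPrime P) (h P) φ₁.hom φ₂.hom hg rfl)

set_option backward.isDefEq.respectTransparency false in
lemma geomUnibranch_of_universallyInjective (A : Type u) [CommRing A] [IsDomain A]
    (hf : UniversallyInjective
      (Spec.map (CommRingCat.ofHom (algebraMap A (integralClosure A (FractionRing A))))))
    (p : Ideal A) [p.IsPrime] : CAlg2.IsGeomUnibranch (Localization.AtPrime p) := by
  let K := FractionRing A
  let A' := integralClosure A K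
  let R := Localization.AtPrime p
  have hunit : ∀ s : p.primeCompl, IsUnit (algebraMap A K s) := fun s =>
    isUnit_iff_ne_zero.mpr fun h => s.2 (by
      rw [IsFractionRing.injective A K (h.trans (map_zero _).symm)]; exact p.zero_mem)
  let : Algebra R K := (IsLocalization.lift (M := p.primeCompl) (S := R) hunit).toAlgebra
  have : IsScalarTower A R K := IsScalarTower.of_algebraMap_eq fun a =>
    (IsLocalization.lift_eq (M := p.primeCompl) (S := R) hunit a).symm
  have : IsDomain R := IsLocalization.isDomain_of_le_nonZeroDivisors R p.primeCompl_le_nonZeroDivisors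
  have : IsFractionRing R K :=
    IsFractionRing.isFractionRing_of_isDomain_of_isLocalization p.primeCompl R K
  let N := integralClosure R K
  let ι : A' →+* N :=
    { toFun := fun x => ⟨x.1, IsIntegral.tower_top x.2⟩
      map_one' := rfl
      map_mul' := fun _ _ => rfl
      map_zero' := rfl
      map_add' := fun _ _ => rfl }
  have hι : ∀ a : A, ι (algebraMap A A' a) = algebraMap R N (algebraMap A R a) := fun a =>
    Subtype.ext (IsScalarTower.algebraMap_apply A R K a)
  have hmul : ∀ n : N, ∃ s ∈ p.primeCompl, ∃ x : A',
      algebraMap R N (algebraMap A R s) * n = ι x := fun n ↦ by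
    obtain ⟨⟨s, hs⟩, hsn⟩ :=
      IsIntegral.exists_multiple_integral_of_isLocalization p.primeCompl n.1 n.2
    refine ⟨s, hs, ⟨_, hsn⟩, Subtype.ext ?_⟩
    show algebraMap R K (algebraMap A R s) * n.1 = s • n.1
    rw [Algebra.smul_def, ← IsScalarTower.algebraMap_apply]
  have hu : ∀ s ∈ p.primeCompl, IsUnit (algebraMap R N (algebraMap A R s)) := fun s hs ↦
    (IsLocalization.map_units R (⟨s, hs⟩ : p.primeCompl)).map _
  refine (EtStruct.isGeomUnibranch_iff R K).mpr ⟨?_, fun m _ x ↦ ?_⟩
  · have hN : Nontrivial N := ⟨⟨0, 1, fun h ↦ zero_ne_one (congrArg Subtype.val h)⟩⟩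
    obtain ⟨m₀, hm₀⟩ := Ideal.exists_maximal N
    refine IsLocalRing.of_unique_max_ideal ⟨m₀, hm₀, fun m hm ↦ ?_⟩
    have hover : ∀ m : Ideal N, m.IsMaximal → (m.comap ι).comap (algebraMap A A') = p := by
      intro m hm
      have h1 : (m.comap (algebraMap R N)) = IsLocalRing.maximalIdeal R :=
        IsLocalRing.eq_maximalIdeal (Ideal.isMaximal_comap_of_isIntegral_of_isMaximal (R := R) m)
      rw [Ideal.comap_comap, show ι.comp (algebraMap A A') = (algebraMap R N).comp (algebraMap A R)
        from RingHom.ext hι, ← Ideal.comap_comap, h1, ← Ideal.under_def]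
      exact Localization.AtPrime.under_maximalIdeal
    have hP : (⟨m.comap ι, Ideal.IsPrime.comap ι⟩ : PrimeSpectrum A') =
        ⟨m₀.comap ι, Ideal.IsPrime.comap ι⟩ := by
      refine (Scheme.Hom.injective
        (Spec.map (CommRingCat.ofHom (algebraMap A A')))) (PrimeSpectrum.ext ?_)
      exact (hover m hm).trans (hover m₀ hm₀).symm
    refine hm.eq_of_le hm₀.ne_top fun n hn ↦ ?_
    obtain ⟨s, hs, x, hx⟩ := hmul n
    have h2 : x ∈ m.comap ι := by
      rw [Ideal.mem_comap, ← hx]; exact m.mul_mem_left _ hn
    have hP' : m.comap ι = m₀.comap ι := congrArg PrimeSpectrum.asIdeal hP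
    rw [hP', Ideal.mem_comap, ← hx] at h2
    exact (hm₀.isPrime.mem_or_mem h2).resolve_left fun h3 ↦
      hm₀.ne_top (m₀.eq_top_of_isUnit_mem h3 (hu s hs))
  · let m₀ := m.under R
    have : m₀.IsMaximal := Ideal.isMaximal_comap_of_isIntegral_of_isMaximal (R := R) m
    let := Ideal.Quotient.field m₀
    let := Ideal.Quotient.field m
    let F := N ⧸ m
    have : Algebra.IsIntegral (R ⧸ m₀) F := inferInstance
    have hPI : IsPurelyInseparable (R ⧸ m₀) F := by
      refine isPurelyInseparable_of_finSepDegree_eq_one ?_
      have : Subsingleton (Field.Emb (R ⧸ m₀) F) := ⟨fun e₁ e₂ ↦ by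
        let g : (F →ₐ[R ⧸ m₀] AlgebraicClosure F) → (N →+* AlgebraicClosure F) := fun e ↦
          e.toRingHom.comp (Ideal.Quotient.mk m)
        have hA : ∀ e (a : A), g e (ι (algebraMap A A' a)) =
            algebraMap (R ⧸ m₀) (AlgebraicClosure F) (Ideal.Quotient.mk m₀ (algebraMap A R a)) :=
          fun e a ↦ by
            rw [← e.commutes, hι]
            rfl
        have heq : (g e₁).comp ι = (g e₂).comp ι := by
          have h := ((tfae_universallyInjective _).out 0 1 rfl rfl).mp hf (AlgebraicClosure F)
            (a₁ := Spec.map (CommRingCat.ofHom ((g e₁).comp ι)))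
            (a₂ := Spec.map (CommRingCat.ofHom ((g e₂).comp ι))) (by
              simp only [← Spec.map_comp]
              congr 1
              ext a
              exact (hA e₁ a).trans (hA e₂ a).symm)
          exact congrArg CommRingCat.Hom.hom (Spec.map_injective h)
        refine AlgHom.ext fun z ↦ ?_
        obtain ⟨n, rfl⟩ := Ideal.Quotient.mk_surjective z
        obtain ⟨s, hs, y, hy⟩ := hmul n
        show g e₁ n = g e₂ n
        have h1 : g e₁ (algebraMap R N (algebraMap A R s)) =
            g e₂ (algebraMap R N (algebraMap A R s)) := by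
          rw [← hι]; exact (hA e₁ s).trans (hA e₂ s).symm
        refine ((hu s hs).map (g e₁)).mul_left_cancel ?_
        rw [← map_mul, hy, h1, ← map_mul, hy]
        exact DFunLike.congr_fun heq y⟩
      have : Nonempty (Field.Emb (R ⧸ m₀) F) :=
        ⟨IsScalarTower.toAlgHom (R ⧸ m₀) F (AlgebraicClosure F)⟩
      exact Nat.card_unique
    have hchar : ExpChar (R ⧸ m₀) (ringExpChar F) :=
      (algebraMap (R ⧸ m₀) F).expChar (algebraMap (R ⧸ m₀) F).injective _
    obtain ⟨n, a, ha⟩ := (isPurelyInseparable_iff_pow_mem (R ⧸ m₀) (ringExpChar F)).mp hPI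
      (Ideal.Quotient.mk m x)
    obtain ⟨r, rfl⟩ := Ideal.Quotient.mk_surjective a
    exact ⟨n, r, ha⟩

/-- Let A be a domain with integral closure A' (in its fraction field) and f : Spec A' → Spec A the
canonical morphism. Then f is radicial (universally injective) if and only if every local ring A_p
is geometrically unibranch; when this holds f is a homeomorphism. -/
theorem result {A : Type u} [CommRing A] [IsDomain A] :
    (UniversallyInjective (Spec.map (CommRingCat.ofHom (algebraMap A (integralClosure A (FractionRing A))))) ↔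
      ∀ (p : Ideal A) [p.IsPrime], CAlg2.IsGeomUnibranch (Localization.AtPrime p)) ∧
    ((∀ (p : Ideal A) [p.IsPrime], CAlg2.IsGeomUnibranch (Localization.AtPrime p)) →
      IsHomeomorph (PrimeSpectrum.comap (algebraMap A (integralClosure A (FractionRing A))))) := by
  exact ⟨⟨geomUnibranch_of_universallyInjective A, universallyInjective_of_geomUnibranch A⟩,
    fun h ↦ by
      let f := Spec.map (CommRingCat.ofHom (algebraMap A (integralClosure A (FractionRing A))))
      have hf : UniversallyInjective f := universallyInjective_of_geomUnibranch A h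
      have hint : (algebraMap A (integralClosure A (FractionRing A))).IsIntegral :=
        fun x ↦ Algebra.IsIntegral.isIntegral x
      refine (isHomeomorph_iff_continuous_isClosedMap_bijective).mpr
        ⟨PrimeSpectrum.continuous_comap _, PrimeSpectrum.isClosedMap_comap_of_isIntegral _ hint,
          f.injective, hint.comap_surjective
            (FaithfulSMul.algebraMap_injective A (integralClosure A (FractionRing A)))⟩⟩

end Groth.Agent.S4567
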