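import Groth.Statements.S2966
import Groth.Agent.S7966
import Groth.Agent.S7979
import Groth.Agent.H85.UnipConn

set_option autoImplicit false
universe u
open scoped TensorProduct
open SGA3t2b

namespace Groth.Agent.S2966

open TensorProduct Groth.Agent

theorem groupLike_one {k : Type u} [Field k] {A : Type u} [CommRing A] [HopfAlgebra k A]
    [Algebra.FiniteType k A] (hU : HopfRep.IsUnipotent k A) (L : Type u) [Field L] [Algebra k L]
    (h : L ⊗[k] A) (hh : IsGroupLikeElem L h) : h = 1 := by
  classical
  obtain ⟨S, hS⟩ := TensorProduct.exists_finset h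
  choose m G hG0 haG hG using fun p : S => H85.UnipConn.exists_flag hU (p.1.2 : A)
  let ι := TensorProduct.mk k L A 1
  let G' : ℕ → Submodule L (L ⊗[k] A) := fun i => ⨆ p : S, Submodule.span L (ι '' (G p i : Set A))
  -- the contraction sends step i+1 to step i
  have hstep : ∀ (φ : L ⊗[k] A →ₗ[L] L) i, ∀ x ∈ G' (i + 1),
      Comod.slice φ (Coalgebra.comul (R := L) x) - φ 1 • x ∈ G' i := by
    intro φ i x hx
    induction hx using Submodule.iSup_induction' with
    | zero => simp
    | add x y _ _ hx hy =>
      rw [map_add, map_add, smul_add, add_sub_add_comm]; exact add_mem hx hy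
    | mem p x hx =>
      induction hx using Submodule.span_induction with
      | zero => simp
      | add x y _ _ hx hy => rw [map_add, map_add, smul_add, add_sub_add_comm]; exact add_mem hx hy
      | smul c x _ hx => rw [map_smul, map_smul, smul_comm, ← smul_sub]; exact Submodule.smul_mem _ c hx
      | mem x hx =>
        obtain ⟨a, ha, rfl⟩ := hx
        obtain ⟨y, hy⟩ := (Comod.mem_range_iff_slice (G p i) _).mpr (hG p i a ha)
        let Q : A ⊗[k] A →ₗ[k] L ⊗[k] A :=
          TensorProduct.lift (LinearMap.mk₂ k (fun a b => φ (ι b) • ι a)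
            (fun a a' b => by rw [map_add, smul_add]) (fun c a b => by rw [map_smul, smul_comm])
            (fun a b b' => by rw [map_add, map_add, add_smul])
            (fun c a b => by rw [map_smul, ← algebraMap_smul L c (ι b), map_smul, smul_eq_mul,
              ← Algebra.smul_def, smul_assoc]))
        have hQ : ∀ a b, Q (a ⊗ₜ b) = φ (ι b) • ι a := fun a b => rfl
        have h1 : Comod.slice φ (Coalgebra.comul (R := L) (ι a)) = Q (Coalgebra.comul (R := k) a) :=
          S7966.comul_tensor L a (Comod.slice φ) Q.toAddMonoidHom (fun u v => by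
            rw [Comod.slice_tmul]; exact (hQ u v).symm)
        have h2 : Comod.slice φ (Coalgebra.comul (R := L) (ι a)) - φ 1 • ι a =
            Q ((G p i).subtype.rTensor A y) := by
          rw [hy, map_sub, h1, hQ]
          rfl
        rw [h2]
        clear h2 hy
        induction y using TensorProduct.induction_on with
        | zero => simp
        | add y z hy hz => rw [map_add, map_add]; exact add_mem hy hz
        | tmul u v =>
          rw [LinearMap.rTensor_tmul, hQ]
          exact Submodule.smul_mem _ _ (le_iSup (fun p : S => Submodule.span L (ι '' (G p i : Set A))) p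
            (Submodule.subset_span ⟨_, u.2, rfl⟩))
  have hmem : ∀ i, h ∈ G' i → h = 1 := by
    intro i
    induction i with
    | zero =>
      intro h0
      have : G' 0 = ⊥ := by simp [G', hG0, Submodule.span_eq_bot]
      rw [this, Submodule.mem_bot] at h0
      exact absurd h0 hh.ne_zero
    | succ i ih =>
      intro hi
      by_cases hne : ∃ φ : L ⊗[k] A →ₗ[L] L, φ h - φ 1 ≠ 0
      · obtain ⟨φ, hφ⟩ := hne
        apply ih
        have h1 := hstep φ i h hi
        rw [IsGroupLikeElem.comul_eq_tmul_self hh, Comod.slice_tmul, ← sub_smul] at h1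
        exact (Submodule.smul_mem_iff _ hφ).mp h1
      · push Not at hne
        rw [← sub_eq_zero]
        refine (Module.forall_dual_apply_eq_zero_iff L _).mp fun φ => ?_
        rw [map_sub]
        exact hne φ
  -- h lies in some step: raise each component to a common step
  suffices hall : ∀ p : S, ι (p.1.2 : A) ∈ Submodule.span L (ι '' (G p (m p) : Set A)) by
    let G2 : ℕ → Submodule L (L ⊗[k] A) := fun i => ⨆ j ≤ i, G' j
    have hstep2 : ∀ (φ : L ⊗[k] A →ₗ[L] L) i, ∀ x ∈ G2 (i + 1),
        Comod.slice φ (Coalgebra.comul (R := L) x) - φ 1 • x ∈ G2 i := by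
      intro φ i x hx
      let T : L ⊗[k] A →ₗ[L] L ⊗[k] A := Comod.slice φ ∘ₗ Coalgebra.comul (R := L) - φ 1 • LinearMap.id
      suffices hle2 : G2 (i + 1) ≤ (G2 i).comap T from hle2 hx
      refine iSup₂_le fun j hj => ?_
      intro x hx
      rcases j with _ | j
      · have : G' 0 = ⊥ := by simp [G', hG0, Submodule.span_eq_bot]
        rw [this, Submodule.mem_bot] at hx
        simp [hx]
      · exact (le_iSup₂_of_le (f := fun j (_ : j ≤ i) => G' j) j (by omega) le_rfl) (hstep φ j x hx)
    have hmem2 : ∀ i, h ∈ G2 i → h = 1 := by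
      intro i
      induction i with
      | zero =>
        intro h0
        refine hmem 0 ?_
        have : G2 0 ≤ G' 0 := iSup₂_le fun j hj => by rw [Nat.le_zero.mp hj]
        exact this h0
      | succ i ih =>
        intro hi
        by_cases hne : ∃ φ : L ⊗[k] A →ₗ[L] L, φ h - φ 1 ≠ 0
        · obtain ⟨φ, hφ⟩ := hne
          apply ih
          have h1 := hstep2 φ i h hi
          rw [IsGroupLikeElem.comul_eq_tmul_self hh, Comod.slice_tmul, ← sub_smul] at h1
          exact (Submodule.smul_mem_iff _ hφ).mp h1
        · push Not at hne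
          rw [← sub_eq_zero]
          refine (Module.forall_dual_apply_eq_zero_iff L _).mp fun φ => ?_
          rw [map_sub]
          exact hne φ
    refine hmem2 (Finset.univ.sup m) ?_
    rw [hS]
    refine sum_mem fun p hp => ?_
    have hp' : p.1 • ι p.2 ∈ G2 (Finset.univ.sup m) :=
      Submodule.smul_mem _ _ ((le_iSup₂_of_le (f := fun j (_ : j ≤ Finset.univ.sup m) => G' j)
        (m ⟨p, hp⟩) (Finset.le_sup (Finset.mem_univ _)) le_rfl)
        ((le_iSup (fun q : S => Submodule.span L (ι '' (G q (m ⟨p, hp⟩) : Set A))) ⟨p, hp⟩) (hall ⟨p, hp⟩)))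
    simpa [ι, smul_tmul'] using hp'
  exact fun p => Submodule.subset_span ⟨_, haG p, rfl⟩

/-- In Hopf-algebra form (with unipotent taken in the representation-theoretic sense: affine and every
non-zero finite-dimensional representation has a non-zero fixed vector): let k be a field, A_M the
coordinate Hopf algebra of an affine k-group M of finite type which is of multiplicative type in the
sense that it becomes diagonalisable over an algebraic closure of k, and A_U that of a unipotent
affine k-group U of finite type. Then (i) every homomorphism M -> U and (ii) every homomorphism U ->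
M is trivial: every bialgebra map A_U -> A_M, resp. A_M -> A_U, factors through the counit. -/
theorem result {k : Type u} [Field k] {AM AU : Type u} [CommRing AM] [CommRing AU]
    [HopfAlgebra k AM] [HopfAlgebra k AU] [Algebra.FiniteType k AM] [Algebra.FiniteType k AU]
    (hM : HopfRep.IsDiagonalizable (AlgebraicClosure k) (AlgebraicClosure k ⊗[k] AM)) (hU : HopfRep.IsUnipotent k AU) :
    (∀ φ : AU →ₐc[k] AM, SGA3t2b.IsTrivialBialgHom φ) ∧ (∀ ψ : AM →ₐc[k] AU, SGA3t2b.IsTrivialBialgHom ψ) := by
  set L := AlgebraicClosure k
  refine ⟨fun φ a => ?_, fun ψ a => ?_⟩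
  · have h := S7966.result k AM AU hM hU k (Bialgebra.TensorProduct.map (BialgHom.id k k) φ)
      ((1 : k) ⊗ₜ[k] a)
    have h1 := congrArg (TensorProduct.lid k AM) h
    simp [TensorProduct.counit_tmul, Algebra.algebraMap_eq_smul_one, Algebra.TensorProduct.one_def] at h1
    rw [Algebra.algebraMap_eq_smul_one]
    exact h1
  · let Ψ : L ⊗[k] AM →ₐc[L] L ⊗[k] AU := Bialgebra.TensorProduct.map (BialgHom.id L L) ψ
    have h2 : ∀ x, Ψ x = algebraMap L _ (Coalgebra.counit (R := L) x) := by
      intro x
      have hx : x ∈ Submodule.span L {g : L ⊗[k] AM | IsGroupLikeElem L g} := by rw [hM]; trivial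
      induction hx using Submodule.span_induction with
      | zero => simp
      | add x y _ _ hx hy => rw [map_add, hx, hy, map_add, map_add]
      | smul c x _ hx => rw [map_smul, hx, map_smul, smul_eq_mul, map_mul, Algebra.smul_def]
      | mem x hx => rw [groupLike_one hU L _ (hx.map Ψ), IsGroupLikeElem.counit_eq_one hx, map_one]
    have h3 : (1 : L) ⊗ₜ[k] ψ a = (1 : L) ⊗ₜ[k] algebraMap k AU (Coalgebra.counit (R := k) a) := by
      refine Eq.trans ?_ ((h2 ((1 : L) ⊗ₜ[k] a)).trans ?_)
      · simp [Ψ]
      · simp [TensorProduct.counit_tmul, Algebra.algebraMap_eq_smul_one, smul_tmul',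
          Algebra.TensorProduct.one_def, tmul_smul]
    exact Algebra.TensorProduct.includeRight_injective (R := k) (A := L) (B := AU)
      (algebraMap k L).injective h3

end Groth.Agent.S2966
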