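import Groth.Agent.QcSum.Mod
import Groth.Agent.QcSum.Space

set_option autoImplicit false
universe u
open CategoryTheory CategoryTheory.Limits TopologicalSpace
open ModSite

namespace Groth.Agent.S6842

/-- Let (X, O) be a ringed space, (F_i)_{i ∈ I} a family of O-modules and U ⊆ X a quasi-compact open.
Then the canonical map ⊕_i F_i(U) → (⊕_i F_i)(U) is bijective: every section of the direct sum over
U is a finite sum of images of sections of the F_i over U (surjectivity), and such a finite sum
vanishes only if each term's section is zero (injectivity). -/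
theorem result {X : TopCat.{u}} (O : TopCat.Sheaf CommRingCat.{u} X)
    {I : Type u} (F : I → ModSite.Mod O) [HasCoproduct F] (U : Opens X) (hU : IsCompact (U : Set X)) :
    (∀ s : ModSite.sect (∐ F) U, ∃ (S : Finset I) (t : ∀ i, ModSite.sect (F i) U),
        s = ∑ i ∈ S, ((Sigma.ι F i).val.app (Opposite.op U)).hom (t i)) ∧
      ∀ (S : Finset I) (t : ∀ i, ModSite.sect (F i) U),
        ∑ i ∈ S, ((Sigma.ι F i).val.app (Opposite.op U)).hom (t i) = 0 → ∀ i ∈ S, t i = 0 := by
  classical
  haveI := Groth.Agent.ModShf.toSheafPreservesColimitsOfShape (ModSite.ringSh O) (Discrete I)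
  let c := Cofan.mk ((SheafOfModules.toSheaf (ModSite.ringSh O)).obj (∐ F))
    fun i => (SheafOfModules.toSheaf (ModSite.ringSh O)).map (Sigma.ι F i)
  have hc : IsColimit c :=
    isColimitCofanMkObjOfIsColimit _ _ _ (coproductIsCoproduct F)
  have hW : ToposFin.IsQCSite (Opens.grothendieckTopology X) U := Groth.Agent.QcSum.isQCSite_of_isCompact hU
  refine ⟨fun s => ?_, fun S t h i hi => ?_⟩
  · obtain ⟨S, hS⟩ := Groth.Agent.QcSum.exists_part_eq hc hW s
    refine ⟨S, fun i => (Groth.Agent.QcSum.proj hc i).hom.app _ s, ?_⟩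
    rw [Groth.Agent.QcSum.part_apply] at hS
    exact hS.symm
  · have := congrArg (fun y => (Groth.Agent.QcSum.proj hc i).hom.app (Opposite.op U) y) h
    dsimp only at this
    erw [map_sum, map_zero] at this
    refine (Groth.Agent.QcSum.proj_inj_apply hc i U (t i)).symm.trans (Eq.trans ?_ this)
    exact (Finset.sum_eq_single (f := fun j => (Groth.Agent.QcSum.proj hc i).hom.app (Opposite.op U)
      ((c.inj j).hom.app (Opposite.op U) (t j))) i
      (fun j _ hj => Groth.Agent.QcSum.proj_inj_apply_ne hc hj U (t j))
      (fun h => absurd hi h)).symm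

end Groth.Agent.S6842
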