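import Groth.Statements.S17276
import Groth.Agent.BigVol.CurveTest
import Groth.Agent.S16188
import Groth.Agent.CohDev.Piece
-- import your own Groth.Agent.* helpers here

set_option autoImplicit false
set_option linter.style.haveILetI false
universe u
open CategoryTheory CategoryTheory.Limits AlgebraicGeometry TopologicalSpace
open Variety

namespace Groth.Agent.S17276
open Groth.Agent


/-- Let X be a proper scheme over a field k of dimension one (possibly reducible or non-reduced) and L
an invertible O_X-module that is nef, meaning χ(O_C ⊗ L) - χ(O_C) ≥ 0 for every integral closed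
subscheme C ⊆ X of dimension one. Then the degree of L on X, namely χ(L) - χ(O_X), is nonnegative. -/
theorem result (k : Type u) [Field k] (X : Scheme.{u})
    [X.Over (Spec (CommRingCat.of k))] [IsProper (X ↘ (Spec (CommRingCat.of k)))]
    (hdim : topologicalKrullDim X = 1) (L : X.Modules) (hL : PicF.IsInvertible L)
    (hnef : ∀ C : X.IdealSheafData, IsIntegral C.subscheme →
      topologicalKrullDim (C.support : Set X) = 1 →
        0 ≤ Curv2.euler k X (CohB1.tensorMod (ClSub.quotMod C) L) - Curv2.euler k X (ClSub.quotMod C)) :
    0 ≤ Curv2.deg k X L 1 := by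
  haveI := EulerChar.isNoetherian k (X := X)
  rw [EulerChar.deg_eq_sum k hdim.le (ProjTwist.isFinLocFreeOfRank_one hL)]
  refine finsum_nonneg fun Z => ?_
  split_ifs with hZ
  · refine mul_nonneg (Int.natCast_nonneg _) ?_
    rw [← BigVol.CurveTest.euler_sub_eq_deg k _ hL]
    have hgen : IsGenericPoint Z.2.1.genericPoint Z.1 := by
      have h := Z.2.1.isGenericPoint_genericPoint_closure
      rwa [(isClosed_of_mem_irreducibleComponents _ Z.2).closure_eq] at h
    rw [EulerChar.radical_componentIdeal Z.2 hgen]
    refine hnef _ (S16188.isIntegral_subscheme _ isIrreducible_singleton.closure) ?_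
    rw [CohDev.coe_support_ptIdeal, hgen.def]
    exact hZ
  · exact le_rfl


end Groth.Agent.S17276
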