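import Groth.Statements.S0787
import Groth.Agent.EtShriekLib.Proper

set_option autoImplicit false
universe u
open Coherent

namespace Groth.Agent.S0787

open CategoryTheory AlgebraicGeometry in
/-- Let f : X → S be locally of finite type and Z ⊆ X a closed subset. Then Z with its reduced induced
structure is proper over S if and only if some closed subscheme of X with underlying set Z is proper
over S, if and only if every closed subscheme of X with underlying set Z is proper over S. -/
theorem result {X S : Scheme.{u}} (f : X ⟶ S) [LocallyOfFiniteType f]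
    (Z : Set X) (hZ : IsClosed Z) :
    (ClSub.IsProperOver f Z ↔ ∃ (T : Scheme.{u}) (i : T ⟶ X), IsClosedImmersion i ∧
        Set.range ⇑i = Z ∧ IsProper (i ≫ f)) ∧
    (ClSub.IsProperOver f Z ↔ ∀ (T : Scheme.{u}) (i : T ⟶ X), IsClosedImmersion i →
        Set.range ⇑i = Z → IsProper (i ≫ f)) := by
  have back : ∀ (T : Scheme.{u}) (i : T ⟶ X), IsClosedImmersion i → Set.range ⇑i = Z →
      IsProper (i ≫ f) → ClSub.IsProperOver f Z := fun T i _ hr _ =>
    Groth.Agent.EtShriekLib.ipo_of_immersion f i hZ hr.ge
  have fwd : ClSub.IsProperOver f Z → ∀ (T : Scheme.{u}) (i : T ⟶ X), IsClosedImmersion i →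
      Set.range ⇑i = Z → IsProper (i ≫ f) := by
    intro h T i _ hr
    have := Groth.Agent.EtShriekLib.isProper_redι f h
    obtain ⟨l, hl⟩ := Groth.Agent.RedSub.exists_lift_closed i (Groth.Agent.EtShriekLib.redι h.1)
      ((Groth.Agent.EtShriekLib.range_redι h.1).trans hr.symm).le
    have : IsClosedImmersion l := by
      have : IsClosedImmersion (l ≫ i) := by rw [hl]; infer_instance
      exact .of_comp l i
    have : Surjective l := by
      refine ⟨fun w => ?_⟩
      obtain ⟨v, hv⟩ := (Groth.Agent.EtShriekLib.range_redι h.1).ge (hr.le ⟨w, rfl⟩)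
      refine ⟨v, i.isClosedEmbedding.injective ?_⟩
      rw [← Scheme.Hom.comp_apply, hl]
      exact hv
    have : IsProper (l ≫ i ≫ f) := by rw [reassoc_of% hl]; infer_instance
    exact Groth.Agent.EtShriekLib.isProper_of_comp_surjective l (i ≫ f)
  let r := Groth.Agent.EtShriekLib.redι hZ
  refine ⟨⟨fun h => ⟨_, r, inferInstance, Groth.Agent.EtShriekLib.range_redι hZ,
      fwd h _ r inferInstance (Groth.Agent.EtShriekLib.range_redι hZ)⟩,
    fun ⟨T, i, hi, hr, hp⟩ => back T i hi hr hp⟩, fwd, fun h => back _ r inferInstance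
      (Groth.Agent.EtShriekLib.range_redι hZ) (h _ r inferInstance (Groth.Agent.EtShriekLib.range_redι hZ))⟩

end Groth.Agent.S0787
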