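import Groth.Statements.S0792
import Groth.Agent.S0787
import Groth.Agent.ScSupp.Basic
import Groth.Agent.CohDev.Loc
import Groth.Agent.CohDev.Coh
import Groth.Agent.ZClosLib.CohDescent
import Groth.Agent.EtShriekLib.Proper
-- import your own Groth.Agent.* helpers here

set_option autoImplicit false
universe u
open Coherent

namespace Groth.Agent.S0792

open CategoryTheory AlgebraicGeometry in
/-- Let f : X → S be locally of finite type and F a quasi-coherent O_X-module of finite type. The
support of F is proper over S if and only if there are a closed subscheme i : Z → X with Z proper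
over S and a quasi-coherent O_Z-module G of finite type with i_* G isomorphic to F. (The published
statement also gives a further equivalent condition, that the scheme-theoretic support of F is
proper over S; it is not used here.) -/
theorem result {X S : Scheme.{u}} (f : X ⟶ S) [LocallyOfFiniteType f]
    (F : X.Modules) (hq : Coh.IsQCoh F) (hft : CohB1.IsFT F) :
    ClSub.IsProperOver f (CohB1.support F) ↔
      ∃ (Z : Scheme.{u}) (i : Z ⟶ X), IsClosedImmersion i ∧ IsProper (i ≫ f) ∧
        ∃ G : Z.Modules, Coh.IsQCoh G ∧ CohB1.IsFT G ∧
          Nonempty ((Scheme.Modules.pushforward i).obj G ≅ F) := by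
  have : F.IsQuasicoherent := hq
  have : SheafOfModules.IsFiniteType.{u} F := hft
  have hcl : IsClosed (CohB1.support F) := by
    rw [← Groth.Agent.ScSupp.support_annIdeal F]
    exact (Groth.Agent.ScSupp.annIdeal F).support.isClosed
  constructor
  · intro h
    let I := Groth.Agent.ScSupp.annIdeal F
    have hp : IsProper (I.subschemeι ≫ f) :=
      ((Groth.Agent.S0787.result f _ hcl).2.mp h) _ I.subschemeι inferInstance
        (by rw [Scheme.IdealSheafData.range_subschemeι, Groth.Agent.ScSupp.support_annIdeal])
    have hk : Groth.Agent.CohDev.Killed I.subschemeι.ker F := fun V a ha m => by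
      rw [Scheme.IdealSheafData.ker_subschemeι] at ha
      exact Module.mem_annihilator.mp ha m
    have hc := Groth.Agent.ZClosLib.CohDescent.isCoh_pullback I.subschemeι F ⟨hq, hft⟩
    exact ⟨_, I.subschemeι, inferInstance, hp, _, hc.1, hc.2,
      ⟨(Groth.Agent.CohDev.unitIsoOfKilled I.subschemeι hk).symm⟩⟩
  · rintro ⟨Z, i, hi, hp, G, -, -, ⟨e⟩⟩
    refine Groth.Agent.EtShriekLib.ipo_of_immersion f i hcl fun x hx => ?_
    by_contra hr
    exact Groth.Agent.CohDev.support_subset_of_mono e.inv hx
      (Groth.Agent.ClUnit.subsingleton_stalk_pushforward i G x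
        ⟨(Set.range i)ᶜ, i.isClosedEmbedding.isClosed_range.isOpen_compl⟩ hr
        (le_bot_iff.mp fun z hz => hz ⟨z, rfl⟩))

end Groth.Agent.S0792
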