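import Groth.Statements.S1040
import Groth.Agent.KFlat.Products
import Groth.Agent.KFlat.HomologyColim
import Groth.Agent.QCoh.Exact
attribute [local instance] HasDerivedCategory.standard


set_option autoImplicit false
universe u
open CategoryTheory CategoryTheory.Limits AlgebraicGeometry
attribute [local instance] HasDerivedCategory.standard
open Perf

namespace Groth.Agent.S1040

/-- Let X be a scheme and Kᵢ a family of objects of D(O_X) with quasi-coherent cohomology sheaves,
indexed by a small type, whose direct sum exists in D(O_X). Then ∐ Kᵢ has quasi-coherent cohomology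
sheaves. -/
theorem result (X : Scheme.{u}) {ι : Type u} (K : ι → DCoh.D X) (hK : ∀ i, DCoh.IsQCohD (K i)) [HasCoproduct K] :
    DCoh.IsQCohD (∐ K) := by
  intro m
  let C : ι → CochainComplex X.Modules ℤ := fun i => DerivedCategory.Q.objPreimage (K i)
  let e : ∀ i, DerivedCategory.Q.obj (C i) ≅ K i := fun i => DerivedCategory.Q.objObjPreimageIso (K i)
  obtain ⟨hc⟩ := Groth.Agent.DHA.KInj.nonempty_isColimit_Q (T := ι)
    Groth.Agent.KFlat.Products.exists_isKInjective_resolution C
  have : HasCoproduct fun i => DerivedCategory.Q.obj (C i) := ⟨⟨⟨_, hc⟩⟩⟩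
  let φ : DerivedCategory.Q.obj (∐ C) ≅ ∐ K :=
    hc.coconePointUniqueUpToIso (coproductIsCoproduct _) ≪≫
      HasColimit.isoOfNatIso (Discrete.natIso fun i => e i.as)
  let H := HomologicalComplex.homologyFunctor X.Modules (ComplexShape.up ℤ) m
  have hH : ∀ i, ((Discrete.functor C ⋙ H).obj i).IsQuasicoherent := fun i =>
    @Groth.Agent.QCoh.isQuasicoherent_of_iso _ _ _
      ((DerivedCategory.homologyFunctor X.Modules m).mapIso (e i.as).symm ≪≫
        (DerivedCategory.homologyFunctorFactors X.Modules m).app (C i.as)) (hK i.as m)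
  have := @Groth.Agent.QCoh.isQuasicoherent_colimit X (Discrete ι) _ (Discrete.functor C ⋙ H) hH _ _ _
  exact @Groth.Agent.QCoh.isQuasicoherent_of_iso _ _ _
    ((preservesColimitIso H (Discrete.functor C)).symm ≪≫
      ((DerivedCategory.homologyFunctorFactors X.Modules m).app (∐ C)).symm ≪≫
        (DerivedCategory.homologyFunctor X.Modules m).mapIso φ) this

end Groth.Agent.S1040
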