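import Groth.Statements.S4641
import Groth.Agent.AssSch.FlatAss
-- import your own Groth.Agent.* helpers here

set_option autoImplicit false
open CategoryTheory AlgebraicGeometry
universe u
open AssSch

namespace Groth.Agent.S4641

open CategoryTheory.Limits Groth.Agent.AssSch Groth.Agent.AssSch.Stalk Groth.Agent.AssSch.Basic Groth.Agent.QCoh
  Groth.Agent.PullStalk.Sky

lemma nontrivial_stalk {Y : Scheme.{u}} [IsLocallyNoetherian Y] (y : Y) :
    Nontrivial ((Coh.structureModule Y).presheaf.stalk y) := by
  obtain ⟨V, hV, hyV⟩ := exists_affine y
  refine nontrivial_of_ne (germM (Coh.structureModule Y) V y hyV (1 : Γ(Y, V))) 0 fun h ↦ ?_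
  obtain ⟨g, hg, hg1⟩ := (germM_eq_zero_iff (Coh.structureModule Y) hV y hyV _).mp h
  exact hg ((mul_one g).symm.trans hg1 ▸ zero_mem _)


/-- Let f : X → Y be a morphism of locally Noetherian schemes such that Y has no embedded associated
points, and let F be a quasi-coherent O_X-module which is flat over Y. Then for every associated
point x of F, f(x) is a maximal point of Y (every point of Y specialising to f(x) equals f(x)). (The
published statement assumes only Y locally Noetherian; X is taken locally Noetherian here so that
associated points are those whose maximal ideal is an annihilator.) -/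
theorem result {X Y : Scheme.{u}} (f : X ⟶ Y) [IsLocallyNoetherian X]
    [IsLocallyNoetherian Y] (hY : AssSch.NoEmbedded (Coh.structureModule Y)) (F : X.Modules) (hF : Coh.IsQCoh F)
    (hfl : FlatMod.IsFlatOver f F) (x : X) (hx : x ∈ AssSch.Ass F) (y : Y) (hy : y ⤳ f x) : y = f x := by
  have : F.IsQuasicoherent := hF
  have hfx := FlatAss.map_mem_ass f F x (hfl x) hx
  have hy' : Nontrivial ((Coh.structureModule Y).presheaf.stalk y) := nontrivial_stalk y
  obtain ⟨z, hz, hzy⟩ := exists_mem_ass_specializes (Coh.structureModule Y) hy'
  have hzx := hY (f x) hfx z hz (hzy.trans hy)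
  rw [← hzx] at hzy
  exact (hy.antisymm hzy).eq

end Groth.Agent.S4641
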