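import Groth.Statements.S0923
import Groth.Agent.PerfTri.Perfect
import Mathlib.Data.Int.Interval
-- import your own Groth.Agent.* helpers here

set_option autoImplicit false
universe u
open CategoryTheory
attribute [local instance] HasDerivedCategory.standard
open DCoh

namespace Groth.Agent.S0923

open CategoryTheory.Limits AlgebraicGeometry in
theorem isFinLocFree_freeMod {V : Scheme.{u}} (n : ℕ) : FlatMod.IsFinLocFree (FlatMod.freeMod V n) :=
  fun _ => ⟨⊤, n, trivial, ⟨Groth.Agent.PerfTri.LocalLift.freeRestrIso _ n⟩⟩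

open AlgebraicGeometry CategoryTheory.Limits in
/-- On a scheme X, an object E of D(𝒪_X) is perfect if and only if every point has an open neighbourhood
V such that the restriction to V of any complex representing E is isomorphic in D(𝒪_V) to a bounded
complex each of whose terms is isomorphic to a finite free 𝒪_V-module. (The published statement is
for ringed spaces whose stalks are local rings and lists further equivalent conditions; here X is a
scheme and only this equivalence is stated.) -/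
theorem result {X : Scheme.{u}} (E : DCoh.D X) :
    DCoh.IsPerfect E ↔ ∀ x : X, ∃ V : X.Opens, x ∈ V ∧
      ∀ F : CochainComplex X.Modules ℤ, Nonempty (DCoh.toD X F ≅ E) →
        ∃ (P : CochainComplex (V : Scheme.{u}).Modules ℤ) (a b : ℤ), DCoh.VanishesOutside P a b ∧
          (∀ i : ℤ, ∃ n : ℕ, Nonempty (P.X i ≅ FlatMod.freeMod (V : Scheme.{u}) n)) ∧
          Nonempty (DerivedCategory.Q.obj ((DCoh.restrictCx V).obj F) ≅ DerivedCategory.Q.obj P) := by
  refine ⟨fun h x => ?_, fun h x => ?_⟩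
  · obtain ⟨V, hx, hV⟩ := h x
    obtain ⟨E₀, hE₀, ⟨e₀⟩⟩ := hV (DerivedCategory.Q.objPreimage E)
      ⟨DerivedCategory.Q.objObjPreimageIso E⟩
    obtain ⟨⟨a, b, hv⟩, hlf⟩ := hE₀
    choose U n hxU hU using fun i => hlf i (⟨x, hx⟩ : (V : Scheme.{u}))
    have hopen : IsOpen ((⇑V.ι) '' (⋂ i ∈ Finset.Icc a b, (U i : Set (V : Scheme.{u})))) :=
      V.ι.isOpenEmbedding.isOpenMap _ (isOpen_biInter_finset fun i _ => (U i).2)
    let V' : X.Opens := ⟨_, hopen⟩
    have hx' : x ∈ V' := ⟨⟨x, hx⟩, Set.mem_iInter₂.mpr fun i _ => hxU i, rfl⟩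
    have hle : V' ≤ V := by rintro y ⟨z, _, rfl⟩; exact z.2
    let k := X.homOfLE hle
    refine ⟨V', hx', fun F ⟨eF⟩ => ⟨(Groth.Agent.PerfTri.Nullhom.resC k).obj E₀, a, b,
      fun i hi => (Scheme.Modules.restrictFunctor k).map_isZero (hv i hi), fun i => ?_, ?_⟩⟩
    · by_cases hi : i ∈ Finset.Icc a b
      · have hr : Set.range k ⊆ Set.range (U i).ι := by
          rintro _ ⟨z, rfl⟩
          obtain ⟨w, hw, hwz⟩ := z.2
          have : k z = w := V.ι.isOpenEmbedding.injective (by
            rw [hwz, ← Scheme.Hom.comp_apply, X.homOfLE_ι]; rfl)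
          rw [this, Scheme.Opens.range_ι]
          exact Set.mem_iInter₂.mp hw i hi
        let k' := IsOpenImmersion.lift (U i).ι k hr
        haveI : IsOpenImmersion k' :=
          have : IsOpenImmersion (k' ≫ (U i).ι) := by rw [IsOpenImmersion.lift_fac]; infer_instance
          IsOpenImmersion.of_comp k' (U i).ι
        exact ⟨n i, ⟨((Scheme.Modules.restrictFunctorCongr (IsOpenImmersion.lift_fac (U i).ι k hr).symm ≪≫
          Scheme.Modules.restrictFunctorComp k' (U i).ι).app (E₀.X i)) ≪≫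
          (Scheme.Modules.restrictFunctor k').mapIso (hU i).some ≪≫
          Groth.Agent.PerfTri.LocalLift.freeRestrIso k' (n i)⟩⟩
      · have hz := hv i (by simp only [Finset.mem_Icc] at hi; omega)
        exact ⟨0, ⟨((Scheme.Modules.restrictFunctor k).map_isZero hz).iso
          ((IsZero.iff_id_eq_zero _).mpr (Sigma.hom_ext _ _ fun i => Fin.elim0 i))⟩⟩
    · have e := (restrictD V'.ι).mapIso (eF ≪≫ (DerivedCategory.Q.objObjPreimageIso E).symm)
      exact ⟨(Groth.Agent.PerfTri.Perfect.restrQ V'.ι F).symm ≪≫ e ≪≫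
        (restrictD V'.ι).mapIso (DerivedCategory.Q.objObjPreimageIso E) ≪≫
        (Groth.Agent.PerfTri.Perfect.restrComp k V.ι V'.ι (X.homOfLE_ι hle) E).symm ≪≫
        (restrictD k).mapIso ((restrictD V.ι).mapIso (DerivedCategory.Q.objObjPreimageIso E).symm ≪≫
          Groth.Agent.PerfTri.Perfect.restrQ V.ι _ ≪≫ e₀) ≪≫
        Groth.Agent.PerfTri.Perfect.restrQ k E₀⟩
  · obtain ⟨V, hx, hV⟩ := h x
    refine ⟨V, hx, fun F hF => ?_⟩
    obtain ⟨P, a, b, hv, hfree, e⟩ := hV F hF
    refine ⟨P, ⟨⟨a, b, hv⟩, fun i => ?_⟩, e⟩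
    obtain ⟨n, ⟨en⟩⟩ := hfree i
    exact Groth.Agent.KFlat.LocFree.isFinLocFree_of_iso en.symm (isFinLocFree_freeMod n)

end Groth.Agent.S0923
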