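import Groth.Statements.S3626
import Groth.Agent.Gor26.BC
import Groth.Agent.FlatMor.CMFlat
import Groth.Agent.Wt.CMScheme
-- import your own Groth.Agent.* helpers here

set_option autoImplicit false
universe u
open CategoryTheory CategoryTheory.Limits AlgebraicGeometry
attribute [local instance] HasDerivedCategory.standard
open Dual3

namespace Groth.Agent.S3626

/-- Let f : X → Y be flat and locally of finite type, g : Y' → Y any morphism and X' = Y' ×_Y X with
projections f' : X' → Y', g' : X' → X. Then for every point x' of X', f' is Gorenstein at x' if and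
only if f is Gorenstein at g'(x'): formation of the Gorenstein locus commutes with base change. -/
theorem result (X Y X' Y' : Scheme.{u}) (f : X ⟶ Y) [Flat f] [LocallyOfFiniteType f] (g : Y' ⟶ Y) (f' : X' ⟶ Y') (g' : X' ⟶ X) (hsq : IsPullback g' f' f g) (x' : X') : Dual3.IsGorensteinAt f' x' ↔ Dual3.IsGorensteinAt f (g' x') := by
  haveI : LocallyOfFiniteType f' := MorphismProperty.of_isPullback (P := @LocallyOfFiniteType) hsq ‹LocallyOfFiniteType f›
  haveI : Flat f' := MorphismProperty.of_isPullback (P := @Flat) hsq ‹Flat f›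
  have hN : ∀ {U V : Scheme.{u}} (h : U ⟶ V) [LocallyOfFiniteType h] (u : U),
      IsNoetherianRing (U.presheaf.stalk u ⧸ Groth.Agent.AlgSp.GorCore.fibIdeal h u) := fun h _ u =>
    Groth.Agent.FlatMor.CMFlat.isNoetherianRing_quot h u (Groth.Agent.Wt.CMBase.isLocallyNoetherian_fiber h _)
  have key : ∀ z, z = x' →
      (LocCoh.IsGorensteinLocalRing (X.presheaf.stalk (g' z) ⧸ Groth.Agent.AlgSp.GorCore.fibIdeal f (g' z)) ↔
        LocCoh.IsGorensteinLocalRing (X'.presheaf.stalk z ⧸ Groth.Agent.AlgSp.GorCore.fibIdeal f' z)) := by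
    intro z hz
    obtain ⟨y', rfl⟩ : ∃ y', f'.fiberι (f' x') y' = z := ⟨f'.asFiber x', by rw [Scheme.Hom.fiberι_asFiber, hz]⟩
    exact Groth.Agent.Gor26.BC.gorenstein_bc_fiberι_left hsq (f' x') y' (hN f _) (hN f' _)
  rw [Groth.Agent.AlgSp.GorCore.isGorensteinAt_iff, Groth.Agent.AlgSp.GorCore.isGorensteinAt_iff]
  exact ⟨fun H => ⟨Flat.stalkMap f _, (key x' rfl).2 H.2⟩, fun H => ⟨Flat.stalkMap f' _, (key x' rfl).1 H.2⟩⟩

end Groth.Agent.S3626
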