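import Groth.Statements.S3662
import Groth.Agent.CohOps.DualStalk
import Groth.Agent.CohOps.DualLocal
import Groth.Agent.CohOps.TildeRestrict
import Groth.Agent.CohOps.OpenImm
import Groth.Agent.KFlat.TildeD
-- import your own Groth.Agent.* helpers here

set_option autoImplicit false
set_option maxHeartbeats 1600000
set_option backward.isDefEq.respectTransparency.types false
universe u
open CategoryTheory CategoryTheory.Limits AlgebraicGeometry
attribute [local instance] HasDerivedCategory.standard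
open Dual3

namespace Groth.Agent.S3662

/-- Let X be a locally Noetherian scheme and K in D(O_X) (exactness instances as in the definition of
dualizing complexes). Suppose X is covered by affine opens Spec(A_i) → X such that each restriction
K|_{Spec A_i} is the image under the derived tilde functor of a dualizing complex of A_i. Then K is
a dualizing complex on X: the same holds for every affine open of X. -/
theorem result (X : Scheme.{u}) [IsLocallyNoetherian X] [∀ (U V : Scheme.{u}) (j : U ⟶ V) [IsOpenImmersion j], PreservesFiniteLimits (Scheme.Modules.restrictFunctor j)] [∀ (R : CommRingCat.{u}), PreservesFiniteLimits (tilde.functor R)] (K : DCoh.D X) (ι : Type u) (A : ι → Type u) [∀ i, CommRing (A i)] (j : ∀ i, Spec (CommRingCat.of (A i)) ⟶ X) [∀ i, IsOpenImmersion (j i)] (hcov : ∀ x : X, ∃ i, x ∈ Set.range (j i)) (hK : ∀ i, ∃ ω : Dual.D (A i), Dual.IsDualizing (A i) ω ∧ Nonempty ((DCoh.restrictD (j i)).obj K ≅ (DCoh.tildeD (CommRingCat.of (A i))).obj ω)) : Dual2.IsDualizingSch X K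 := by
  have hqc : ∀ n : ℤ, (DCoh.HD K n).IsQuasicoherent := by
    intro n
    refine QCoh.isQuasicoherent_of_forall_exists _ fun x => ?_
    obtain ⟨i, hx⟩ := hcov x
    obtain ⟨ω, -, ⟨e⟩⟩ := hK i
    obtain ⟨e1⟩ := CohOps.DualStalk.chart_homology (j i) e n
    have hU : IsAffineOpen (j i).opensRange := isAffineOpen_opensRange (j i)
    haveI := hU.isOpenImmersion_fromSpec
    refine ⟨_, hU, hx, ?_⟩
    let l := IsOpenImmersion.lift (j i) hU.fromSpec (by rw [hU.range_fromSpec]; rfl)
    have hl : l ≫ j i = hU.fromSpec := IsOpenImmersion.lift_fac _ _ _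
    haveI : IsOpenImmersion (l ≫ j i) := hl ▸ inferInstance
    haveI : IsOpenImmersion l := IsOpenImmersion.of_comp l (j i)
    haveI : ((Scheme.Modules.restrictFunctor (j i)).obj (DCoh.HD K n)).IsQuasicoherent :=
      @QCoh.isQuasicoherent_of_iso _ _ _ e1.symm (inferInstanceAs
        (tilde ((DerivedCategory.homologyFunctor (ModuleCat.{u} (A i)) n).obj ω) : (Spec (CommRingCat.of (A i))).Modules).IsQuasicoherent)
    exact @QCoh.isQuasicoherent_of_iso _ _ _ (((Scheme.Modules.restrictFunctorCongr hl.symm).app _ ≪≫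
      (Scheme.Modules.restrictFunctorComp l (j i)).app _)).symm
      (Scheme.Modules.isQuasicoherent_restrictFunctor l ((Scheme.Modules.restrictFunctor (j i)).obj (DCoh.HD K n)))
  intro A₀ _ j₀ _
  have hQ : DCoh.IsQCohD ((DCoh.restrictD j₀).obj K) := fun n => by
    obtain ⟨e1⟩ := DualCx.SchStalk.nonempty_homology_iso (Scheme.Modules.restrictFunctor j₀) K n
    haveI := hqc n
    exact @QCoh.isQuasicoherent_of_iso _ _ _ e1.symm inferInstance
  obtain ⟨ω₀, ⟨e₀⟩⟩ := KFlat.TildeD.exists_iso_of_isQCohD (R := CommRingCat.of A₀) ((DCoh.restrictD j₀).obj K) hQ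
  refine ⟨ω₀, ?_, ⟨e₀.symm⟩⟩
  haveI : IsLocallyNoetherian (Spec (CommRingCat.of A₀)) := isLocallyNoetherian_of_isOpenImmersion j₀
  haveI : IsNoetherianRing A₀ := by
    have := IsLocallyNoetherian.component_noetherian ⟨⊤, isAffineOpen_top (Spec (CommRingCat.of A₀))⟩
    exact isNoetherianRing_of_ringEquiv _ (Scheme.ΓSpecIso (CommRingCat.of A₀)).commRingCatIsoToRingEquiv
  refine CohOps.DualLocal.isDualizing_of_cover ω₀ fun p => ?_
  obtain ⟨i, hp⟩ := hcov (j₀ p)
  obtain ⟨_, ⟨f, rfl⟩, hpf, hfV⟩ := PrimeSpectrum.isTopologicalBasis_basic_opens.exists_subset_of_mem_open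
    (show (p : PrimeSpectrum A₀) ∈ j₀.base ⁻¹' Set.range (j i).base from hp)
    ((j i).isOpenEmbedding.isOpen_range.preimage j₀.continuous)
  let B := Localization.Away f
  let g₀ : Spec (CommRingCat.of B) ⟶ Spec (CommRingCat.of A₀) := Spec.map (CommRingCat.ofHom (algebraMap A₀ B))
  haveI : IsOpenImmersion g₀ := IsOpenImmersion.of_isLocalization f
  have hr : Set.range (g₀ ≫ j₀).base ⊆ Set.range (j i).base := by
    rintro _ ⟨q, rfl⟩
    refine hfV ?_
    exact (PrimeSpectrum.localization_away_comap_range B f).subset (Set.mem_range_self (f := PrimeSpectrum.comap (algebraMap A₀ B)) q)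
  let l := IsOpenImmersion.lift (j i) (g₀ ≫ j₀) hr
  have hl : l ≫ j i = g₀ ≫ j₀ := IsOpenImmersion.lift_fac _ _ _
  haveI : IsOpenImmersion (l ≫ j i) := hl ▸ inferInstance
  haveI : IsOpenImmersion l := IsOpenImmersion.of_comp l (j i)
  obtain ⟨φ, hφ⟩ := Spec.map_surjective l
  letI : Algebra (A i) B := φ.hom.toAlgebra
  have hφ' : Spec.map (CommRingCat.ofHom (algebraMap (A i) B)) = l := hφ
  haveI : IsOpenImmersion (Spec.map (CommRingCat.ofHom (algebraMap (A i) B))) := hφ' ▸ inferInstance
  haveI : Module.Flat (A i) B := CohOps.OpenImm.flat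
  haveI : Module.Flat A₀ B := IsLocalization.flat B (Submonoid.powers f)
  obtain ⟨ωi, hωi, ⟨ei⟩⟩ := hK i
  refine ⟨f, hpf, B, inferInstance, inferInstance, inferInstance, inferInstance, ?_⟩
  have hd : Dual.IsDualizing B ((DualCx.BaseChange.FD (A i) B).obj ωi) := by
    have := hωi.isNoetherianRing
    haveI : IsNoetherianRing B := IsLocalization.isNoetherianRing (Submonoid.powers f) B inferInstance
    exact DualCx.Extended.isDualizing hωi fun q hq => @CohOps.OpenImm.map_comap_eq (A i) B _ _ _ _ q hq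
  obtain ⟨a1⟩ := CohOps.TildeRestrict.nonempty_restrictD_tildeD g₀ rfl ω₀
  obtain ⟨a2⟩ := CohOps.TildeRestrict.nonempty_restrictD_tildeD l hφ'.symm ωi
  obtain ⟨b1⟩ := CohOps.TildeRestrict.nonempty_mapDerived_comp (Scheme.Modules.restrictFunctor j₀)
    (Scheme.Modules.restrictFunctor g₀) (Scheme.Modules.restrictFunctor (g₀ ≫ j₀))
    (Scheme.Modules.restrictFunctorComp g₀ j₀) K
  obtain ⟨b2⟩ := CohOps.TildeRestrict.nonempty_mapDerived_comp (Scheme.Modules.restrictFunctor (j i))
    (Scheme.Modules.restrictFunctor l) (Scheme.Modules.restrictFunctor (g₀ ≫ j₀))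
    (Scheme.Modules.restrictFunctorCongr hl.symm ≪≫ Scheme.Modules.restrictFunctorComp l (j i)) K
  haveI hff := (KFlat.TildeD.full_faithful (R := CommRingCat.of B))
  haveI := hff.1
  haveI := hff.2
  exact DualCx.FlatBC.isDualizing_of_iso ((DCoh.tildeD (CommRingCat.of B)).preimageIso
    (a2.symm ≪≫ (DCoh.restrictD l).mapIso ei.symm ≪≫ b2.symm ≪≫ b1 ≪≫
      (DCoh.restrictD g₀).mapIso e₀.symm ≪≫ a1)) hd

end Groth.Agent.S3662
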