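import Groth.Statements.S0468
import Groth.Agent.SiteCoh.CovColim

set_option autoImplicit false
universe u
open CategoryTheory
open CohTop

namespace Groth.Agent.S0468

open TopologicalSpace Opposite CategoryTheory.Limits in
/-- Let X be a space whose compact opens form a basis and are stable under pairwise intersections, U a
compact open and (F_i) a directed system of abelian sheaves. Then colim H^q(U, F_i) → H^q(U, colim
F_i) is an isomorphism; stated as: H^q(U, -) preserves colimits of shape ι for every nonempty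
directed preorder ι. -/
theorem result {X : TopCat.{u}} [PrespectralSpace X] [QuasiSeparatedSpace X]
    (U : Opens X) (hU : IsCompact (U : Set X))
    (ι : Type u) [Preorder ι] [IsDirected ι (· ≤ ·)] [Nonempty ι] (q : ℕ) :
    PreservesColimitsOfShape ι
      ((Sheaf.cohomologyPresheafFunctor (Opens.grothendieckTopology X) q).flip.obj (op U) :
        CohTop.Ab X ⥤ AddCommGrpCat.{u}) := by
  have hB : Opens.IsBasis {V : Opens X | IsCompact (V : Set X)} := by
    have := PrespectralSpace.isTopologicalBasis (X := X)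
    refine (congrArg IsTopologicalBasis ?_).mpr this
    ext s
    simp only [Set.mem_image, Set.mem_setOf_eq]
    exact ⟨fun ⟨V, hV, e⟩ => e ▸ ⟨V.2, hV⟩, fun ⟨ho, hc⟩ => ⟨⟨s, ho⟩, hc, rfl⟩⟩
  refine ⟨fun {F} => Groth.Agent.SiteCoh.CovColim.preservesColimit
    (J := Opens.grothendieckTopology X) {V : Opens X | IsCompact (V : Set X)}
    (fun V κ Y => Finite κ ∧ IsCompact (V : Set X) ∧ (∀ i, IsCompact ((Y i).left : Set X)) ∧
      Sieve.ofArrows (fun i => (Y i).left) (fun i => (Y i).hom) ∈ Opens.grothendieckTopology X V)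
    (fun V κ Y hY => ⟨hY.1, hY.2.1, hY.2.2.2, fun n a => ?_⟩) (fun V hV T hT => ?_) hU q F⟩
  · let M : Opens X := Finset.univ.inf' Finset.univ_nonempty fun k => (Y (a k)).left
    have hM : IsCompact (M : Set X) := Finset.inf'_induction (p := fun W : Opens X => IsCompact (W : Set X)) Finset.univ_nonempty _
      (fun s hs t ht => by
        change IsCompact ((s : Set X) ∩ (t : Set X))
        exact QuasiSeparatedSpace.inter_isCompact _ _ s.2 hs t.2 ht) (fun k _ => hY.2.2.1 _)
    have hle : ∀ k, M ≤ (Y (a k)).left := fun k => Finset.inf'_le _ (Finset.mem_univ k)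
    have e : (∏ᶜ fun k => Y (a k)).left = M := le_antisymm
      (Finset.le_inf' _ _ fun k _ => leOfHom (Pi.π (fun k => Y (a k)) k).left)
      (leOfHom (Pi.lift (P := Over.mk (homOfLE ((hle 0).trans (leOfHom (Y (a 0)).hom))))
        (f := fun k => Y (a k)) fun k => Over.homMk (homOfLE (hle k))).left)
    exact e ▸ hM
  · choose W g hg hxW using fun x : {x : X // x ∈ V} => hT x x.2
    choose Z hZc hxZ hZW using fun x : {x : X // x ∈ V} => Opens.isBasis_iff_nbhd.1 hB (hxW x)
    obtain ⟨t, ht⟩ := hV.elim_finite_subcover (fun x => (Z x : Set X)) (fun x => (Z x).2)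
      fun x hx => Set.mem_iUnion.2 ⟨⟨x, hx⟩, hxZ _⟩
    refine ⟨t, fun x => Over.mk (homOfLE (hZW x.1) ≫ g x.1),
      ⟨inferInstance, hV, fun x => hZc _, fun y hy => ?_⟩, fun x => T.downward_closed (hg _) _⟩
    obtain ⟨x, hx, hy⟩ := Set.mem_iUnion₂.1 (ht hy)
    exact ⟨Z x, homOfLE (hZW x) ≫ g x, Sieve.ofArrows_mk (fun i : t => Z i.1) _ ⟨x, hx⟩, hy⟩

end Groth.Agent.S0468
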