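import Groth.Statements.S12921
import Groth.Agent.Comod.Integral

set_option autoImplicit false
universe u v w
open HopfRep

namespace Groth.Agent.S12921

theorem key {k : Type*} [CommRing k] {A : Type*} [CommRing A] [HopfAlgebra k A]
    {B : Type*} [CommRing B] [Algebra k B] [HopfRep.Comod k A B] [GLin.IsCoactAlg k A B]
    {α : A →ₗ[k] B} (hα : Hoch.IsComodHom A α) (h1 : α 1 = 1)
    (c : GLin.invariants k A B) (x : B) :
    TameAct.reynolds k A B B α ((c : B) * x) = (c : B) * TameAct.reynolds k A B B α x := by
  have hf : Hoch.IsComodHom A ((LinearMap.mulLeft B (c : B)).restrictScalars k) := LinearMap.ext fun y => by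
    simp only [LinearMap.comp_apply, LinearMap.coe_restrictScalars, LinearMap.mulLeft_apply]
    rw [GLin.IsCoactAlg.coact_mul, (show _ = (c : B) ⊗ₜ[k] (1 : A) from c.2)]
    induction HopfRep.Comod.coact (k := k) (A := A) y using TensorProduct.induction_on with
    | zero => simp
    | tmul u v => simp
    | add u v hu hv => simp only [mul_add, map_add, hu, hv]
  exact (Comod.map_reynolds α (LinearMap.mulLeft B (c : B)) hf x).symm



/-- Let `k` be a commutative ring, `A` a commutative Hopf algebra over `k`, flat as a `k`-module, `B` a
commutative `k`-algebra with a coaction of `A` that is an algebra map and admits a total integral (a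
comodule map `α : A → B` with `α 1 = 1`), and `C = B^A` the subring of invariants. Then for every
ideal `c` of `C` one has `cB ∩ C = c`. (The published statement assumes only that taking invariants
is exact on `(B, A)`-modules; a total integral, assumed here, gives that exactness.) -/
theorem result
    (k : Type u) [CommRing k] (A : Type v) [CommRing A] [HopfAlgebra k A] [Module.Flat k A]
    (B : Type w) [CommRing B] [Algebra k B] [HopfRep.Comod k A B] [GLin.IsCoactAlg k A B]
    (htame : ∃ α : A →ₗ[k] B, Hoch.IsComodHom A α ∧ α 1 = 1)
    (c : Ideal (GLin.invariants k A B)) :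
    (c.map (algebraMap (GLin.invariants k A B) B)).comap (algebraMap (GLin.invariants k A B) B) = c := by
  obtain ⟨α, hα, h1⟩ := htame
  refine le_antisymm (fun x hx => ?_) Ideal.le_comap_map
  rw [Ideal.mem_comap] at hx
  let R' : B → GLin.invariants k A B := fun b =>
    ⟨TameAct.reynolds k A B B α b, Comod.reynolds_mem_fixedPts hα b⟩
  have hR : ∀ y ∈ c.map (algebraMap (GLin.invariants k A B) B), R' y ∈ c := by
    intro y hy
    rw [Ideal.map] at hy
    have add' : ∀ u v, R' (u + v) = R' u + R' v := fun u v => Subtype.ext (map_add _ u v)
    induction hy using Submodule.span_induction with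
    | mem z hz =>
      obtain ⟨w, hw, rfl⟩ := hz
      have : R' (algebraMap (GLin.invariants k A B) B w) = w :=
        Subtype.ext (Comod.reynolds_eq_self h1 w.2)
      rwa [this]
    | zero => rw [show R' 0 = 0 from Subtype.ext (map_zero _)]; exact c.zero_mem
    | add u v _ _ hu hv => rw [add']; exact c.add_mem hu hv
    | smul b u hu' hu =>
      clear hu
      induction hu' using Submodule.span_induction generalizing b with
      | mem z hz =>
        obtain ⟨w, hw, rfl⟩ := hz
        have : R' (b • algebraMap (GLin.invariants k A B) B w) = w * R' b :=
          Subtype.ext (by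
            change TameAct.reynolds k A B B α (b * (w : B)) = (w : B) * TameAct.reynolds k A B B α b
            rw [mul_comm, key hα h1])
        rw [this]; exact c.mul_mem_right _ hw
      | zero => rw [smul_zero, show R' 0 = 0 from Subtype.ext (map_zero _)]; exact c.zero_mem
      | add u v _ _ hu hv => rw [smul_add, add']; exact c.add_mem (hu b) (hv b)
      | smul a u _ hu => rw [smul_smul]; exact hu _
  have : R' (algebraMap (GLin.invariants k A B) B x) = x := Subtype.ext (Comod.reynolds_eq_self h1 x.2)
  exact this ▸ hR _ hx

end Groth.Agent.S12921
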