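import Mathlib
import Groth.Prelude.Def_ComodSub
import Groth.Agent.Comod.Matrix

/-! Left/right passage for comodules over commutative Hopf algebras; `M^* ⊗ A ≅ Hom(M,A)` in mixed universes
(after `Groth.Agent.SubHopf.LinearHull`). -/

set_option autoImplicit false
universe u v w w'
open scoped TensorProduct

noncomputable section

namespace Groth.Agent.ComodLR84

theorem dualTensorHom_dualMap {R : Type u} [CommRing R] {A : Type v} [AddCommGroup A] [Module R A]
    {X : Type w} {Y : Type w'} [AddCommGroup X] [Module R X] [AddCommGroup Y] [Module R Y]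
    (g : X →ₗ[R] Y) (z : Module.Dual R Y ⊗[R] A) :
    dualTensorHom R X A (g.dualMap.rTensor A z) = dualTensorHom R Y A z ∘ₗ g := by
  induction z with
  | zero => simp
  | tmul φ a => ext x; simp
  | add a b ha hb => simp only [map_add, ha, hb, LinearMap.add_comp]

theorem dualTensorHom_bijective_of_flat {R : Type u} [CommRing R] {M : Type w} {A : Type v} [AddCommGroup M]
    [Module R M] [AddCommGroup A] [Module R A] [Module.FinitePresentation R M] [Module.Flat R A] :
    Function.Bijective (dualTensorHom R M A) := by
  obtain ⟨n, K, e, hK⟩ := Module.FinitePresentation.exists_fin R M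
  let π : (Fin n → R) →ₗ[R] M := e.symm.toLinearMap ∘ₗ K.mkQ
  have hπ : Function.Surjective π := e.symm.surjective.comp K.mkQ_surjective
  haveI : Module.Finite R K := Module.Finite.iff_fg.mpr hK
  obtain ⟨b, p, hp⟩ := Module.Finite.exists_fin' R K
  let f : (Fin b → R) →ₗ[R] (Fin n → R) := K.subtype ∘ₗ p
  have hexact : Function.Exact f π := by
    intro x
    simp only [π, LinearMap.comp_apply, LinearEquiv.coe_coe, LinearEquiv.map_eq_zero_iff,
      Submodule.mkQ_apply, Submodule.Quotient.mk_eq_zero]
    constructor
    · intro hx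
      obtain ⟨y, hy⟩ := hp ⟨x, hx⟩
      exact ⟨y, congrArg Subtype.val hy⟩
    · rintro ⟨y, rfl⟩
      exact (p y).2
  have hd : Function.Exact π.dualMap f.dualMap := by
    intro φ
    constructor
    · intro h
      refine ⟨(LinearMap.range f).liftQ φ ?_ ∘ₗ
        (hexact.linearEquivOfSurjective hπ).symm.toLinearMap, ?_⟩
      · rintro _ ⟨y, rfl⟩
        exact LinearMap.congr_fun h y
      · refine LinearMap.ext fun x => ?_
        have h1 : (hexact.linearEquivOfSurjective hπ).symm (π x) = Submodule.Quotient.mk x :=
          (hexact.linearEquivOfSurjective hπ).symm_apply_eq.mpr rfl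
        simp [h1]
    · rintro ⟨ψ, rfl⟩
      ext y
      simp [hexact.apply_apply_eq_zero]
  have hdA := Module.Flat.rTensor_exact A hd
  have hπd : Function.Injective π.dualMap := LinearMap.dualMap_injective_of_surjective hπ
  have hπA : Function.Injective (π.dualMap.rTensor A) :=
    Module.Flat.rTensor_preserves_injective_linearMap _ hπd
  have hfree : ∀ m : ℕ, Function.Bijective (dualTensorHom R (Fin m → R) A) := fun m =>
    dualTensorHom_bijective
  constructor
  · refine (injective_iff_map_eq_zero _).mpr fun z hz => ?_
    apply hπA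
    apply (hfree n).injective
    rw [dualTensorHom_dualMap, hz, map_zero, map_zero, LinearMap.zero_comp]
  · intro h
    obtain ⟨w, hw⟩ := (hfree n).2 (h ∘ₗ π)
    have h0 : f.dualMap.rTensor A w = 0 := by
      apply (hfree b).1
      rw [dualTensorHom_dualMap, hw, map_zero, LinearMap.comp_assoc, hexact.linearMap_comp_eq_zero, LinearMap.comp_zero]
    obtain ⟨z, rfl⟩ := (hdA w).mp h0
    refine ⟨z, ?_⟩
    rw [dualTensorHom_dualMap] at hw
    exact LinearMap.ext fun x => by
      obtain ⟨y, rfl⟩ := hπ x
      exact LinearMap.congr_fun hw y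

end Groth.Agent.ComodLR84
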