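import Groth.Statements.S0984
import Groth.Agent.DHA.Brown.Representable
-- import your own Groth.Agent.* helpers here

set_option autoImplicit false
universe v u
open CategoryTheory
open DerLim

namespace Groth.Agent.S0984

open CategoryTheory.Limits CategoryTheory.Pretriangulated in
/-- Let D be a triangulated category with all small direct sums and E a small family of compact objects
which generates D. Every object X of D is a homotopy colimit of a sequential system X₀ → X₁ → X₂ → …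
in which X₀ is a direct sum of shifts of members of E and each transition map Xₙ → Xₙ₊₁ sits in a
distinguished triangle Yₙ → Xₙ → Xₙ₊₁ → Yₙ[1] with Yₙ a direct sum of shifts of members of E. -/
theorem result {D : Type u} [Category.{v} D] [Preadditive D] [Limits.HasZeroObject D] [HasShift D ℤ]
    [∀ n : ℤ, (shiftFunctor D n).Additive] [Pretriangulated D] [IsTriangulated D] [HasCoproducts.{v} D]
    [HasColimitsOfShape (Discrete ℕ) D]
    {ι : Type v} (E : ι → D) (hc : ∀ i, CohDer.IsCompactObject (E i)) (hg : CohDer.Generates E) (X : D) :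
    ∃ (K : ℕ → D) (f : ∀ n, K n ⟶ K (n + 1)) (i : ∀ n, K n ⟶ X),
      DerLim.IsHocolim K f X i ∧
      (∃ (κ : Type v) (a : κ → ι) (m : κ → ℤ), Nonempty (K 0 ≅ ∐ (fun k => (shiftFunctor D (m k)).obj (E (a k))))) ∧
      ∀ n, ∃ (κ : Type v) (a : κ → ι) (m : κ → ℤ) (y : (∐ fun k => (shiftFunctor D (m k)).obj (E (a k))) ⟶ K n)
        (z : K (n + 1) ⟶ (shiftFunctor D (1 : ℤ)).obj (∐ fun k => (shiftFunctor D (m k)).obj (E (a k)))),
        Triangle.mk y (f n) z ∈ distinguishedTriangles := by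
  open Groth.Agent.DHA.Brown in
  have hP : IsPerfect (shifts E) := isPerfect_shifts E hg
    (fun X i α => exists_factor_of_isCompact E i (hc i) X α)
  let P := Groth.Agent.DHA.Brown.shifts E
  let H : Dᵒᵖ ⥤ AddCommGrpCat.{v} := preadditiveYoneda.obj X
  let Q := fun q : (Σ k : ι × ℤ, (P k ⟶ X)) => P q.1
  let S₀ : Groth.Agent.DHA.Brown.Stage H := ⟨∐ Q, (Sigma.desc fun q => q.2 : ∐ Q ⟶ X)⟩
  have hS : Groth.Agent.DHA.Brown.Covers P S₀ := fun k e =>
    ⟨Sigma.ι Q ⟨k, e⟩, Sigma.ι_desc (f := Q) (fun q => q.2) ⟨k, e⟩⟩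
  obtain ⟨L, xL, i, ⟨c, hc'⟩, -, hbij⟩ := Groth.Agent.DHA.Brown.exists_hocolim hP hS
  let g : L ⟶ X := xL
  have : IsIso g := Groth.Agent.DHA.Brown.isIso_of_bijective hP g hbij
  refine ⟨Groth.Agent.DHA.Brown.K P S₀, Groth.Agent.DHA.Brown.f P S₀, fun n => i n ≫ g,
    ⟨inv g ≫ c, ?_⟩, ⟨(Σ k : ι × ℤ, (P k ⟶ X)), fun q => q.1.1, fun q => q.1.2, ⟨Iso.refl (∐ Q)⟩⟩, fun n => ?_⟩
  · refine isomorphic_distinguished _ hc' _ (Triangle.isoMk _ _ (Iso.refl _) (Iso.refl _)
      (asIso g).symm ?_ ?_ ?_)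
    · exact (Category.comp_id _).trans (Category.id_comp _).symm
    · show Sigma.desc (fun n => i n ≫ g) ≫ inv g = 𝟙 _ ≫ Sigma.desc i
      rw [Category.id_comp, IsIso.comp_inv_eq]
      exact Sigma.hom_ext _ _ fun n => by simp
    · exact (congrArg _ (CategoryTheory.Functor.map_id _ _)).trans (Category.comp_id _)
  · obtain ⟨h, hT⟩ := Groth.Agent.DHA.Brown.nextMap_triangle P
      (Groth.Agent.DHA.Brown.stage P S₀ n)
    exact ⟨Groth.Agent.DHA.Brown.Kill P (Groth.Agent.DHA.Brown.stage P S₀ n), fun q => q.1.1, fun q => q.1.2, _, h, hT⟩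

end Groth.Agent.S0984
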