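import Groth.Statements.S0978
import Groth.Agent.S0984
import Groth.Agent.S1076
import Groth.Agent.DHA.Orth
-- import your own Groth.Agent.* helpers here

set_option autoImplicit false
universe v u
open CategoryTheory
open CohDer

namespace Groth.Agent.S0978


set_option linter.unusedSectionVars false

section Helpers

open CategoryTheory.Limits Pretriangulated

variable {D : Type u} [Category.{v} D] [Preadditive D] [Limits.HasZeroObject D] [HasShift D ℤ]
  [∀ n : ℤ, (shiftFunctor D n).Additive] [Pretriangulated D] [HasCoproducts.{v} D]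
  [HasColimitsOfShape (Discrete ℕ) D]

/-- projection of a coproduct onto a summand -/
noncomputable def proj (K : ℕ → D) (m : ℕ) : ∐ K ⟶ K m :=
  Sigma.desc fun n => if h : n = m then eqToHom (congrArg K h) else 0

lemma ι_proj_self (K : ℕ → D) (m : ℕ) : Sigma.ι K m ≫ proj K m = 𝟙 _ := by simp [proj]

lemma ι_proj_ne (K : ℕ → D) {n m : ℕ} (h : n ≠ m) : Sigma.ι K n ≫ proj K m = 0 := by
  simp [proj, h]

lemma exists_finsum {C : D} (hC : CohDer.IsCompactObject C) (K : ℕ → D) (φ : C ⟶ ∐ K) :
    ∃ (s : Finset ℕ) (a : ∀ n, C ⟶ K n), φ = ∑ n ∈ s, a n ≫ Sigma.ι K n := by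
  classical
  let K' : ULift.{v} ℕ → D := fun m => K m.down
  let u : ∐ K ⟶ ∐ K' := Sigma.desc fun m => Sigma.ι K' ⟨m⟩
  let d : ∐ K' ⟶ ∐ K := Sigma.desc fun m => Sigma.ι K m.down
  have hud : u ≫ d = 𝟙 _ := Sigma.hom_ext _ _ fun m => by
    rw [Category.comp_id, Sigma.ι_desc_assoc, Sigma.ι_desc]
  obtain ⟨x, hx⟩ := (hC _ K').2 (φ ≫ u)
  refine ⟨(DFinsupp.support x).image ULift.down, fun n => x ⟨n⟩, ?_⟩
  rw [Finset.sum_image (fun a _ b _ h => ULift.down_injective h), ← Category.comp_id φ, ← hud,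
    ← Category.assoc, ← hx]
  conv_lhs => rw [← DirectSum.sum_support_of x]
  rw [map_sum, Preadditive.sum_comp]
  refine Finset.sum_congr rfl fun m _ => ?_
  rw [Groth.Agent.DHA.Compact.hom_of, Category.assoc, Sigma.ι_desc]

lemma eq_zero_of_comp_proj {C : D} (hC : CohDer.IsCompactObject C) (K : ℕ → D) (φ : C ⟶ ∐ K)
    (h : ∀ m, φ ≫ proj K m = 0) : φ = 0 := by
  classical
  obtain ⟨s, a, rfl⟩ := exists_finsum hC K φ
  refine Finset.sum_eq_zero fun m hm => ?_
  have := h m
  rw [Preadditive.sum_comp, Finset.sum_eq_single m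
    (fun n _ hn => by rw [Category.assoc, ι_proj_ne K hn, comp_zero])
    (fun h' => absurd hm h'), Category.assoc, ι_proj_self, Category.comp_id] at this
  rw [this, zero_comp]

lemma exists_factor_of_isHocolim {C : D} (hC : CohDer.IsCompactObject C) {K : ℕ → D}
    {f : ∀ n, K n ⟶ K (n + 1)} {L : D} {i : ∀ n, K n ⟶ L}
    (h : DerLim.IsHocolim K f L i) (φ : C ⟶ L) : ∃ (n : ℕ) (ψ : C ⟶ K n), ψ ≫ i n = φ := by
  classical
  obtain ⟨c, hT⟩ := h
  set s := DerLim.shiftMap K f with hs
  have hinj : ∀ {C' : D}, CohDer.IsCompactObject C' → ∀ (α : C' ⟶ ∐ K),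
      α ≫ (𝟙 _ - s) = 0 → α = 0 := by
    intro C' hC' α hα
    rw [Preadditive.comp_sub, Category.comp_id, sub_eq_zero] at hα
    have h0 : s ≫ proj K 0 = 0 := Sigma.hom_ext _ _ fun n => by
      rw [hs, DerLim.shiftMap, Sigma.ι_desc_assoc, Category.assoc, ι_proj_ne K (Nat.succ_ne_zero n),
        comp_zero, comp_zero]
    have hsucc : ∀ m, s ≫ proj K (m + 1) = proj K m ≫ f m := fun m =>
      Sigma.hom_ext _ _ fun n => by
        rw [hs, DerLim.shiftMap, Sigma.ι_desc_assoc, Category.assoc]
        rcases eq_or_ne n m with rfl | hn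
        · rw [ι_proj_self, reassoc_of% (ι_proj_self K n), Category.comp_id]
        · rw [ι_proj_ne K (by omega), reassoc_of% (ι_proj_ne K hn), comp_zero, zero_comp]
    refine eq_zero_of_comp_proj hC' K α fun m => ?_
    induction m with
    | zero => rw [hα, Category.assoc, h0, comp_zero]
    | succ m ih => rw [hα, Category.assoc, hsucc, ← Category.assoc, ih, zero_comp]
  have hφc : φ ≫ c = 0 := by
    let F := shiftFunctor D (-1 : ℤ)
    let N := shiftFunctorCompIsoId D (1 : ℤ) (-1) (add_neg_cancel _)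
    have h31 : c ≫ (shiftFunctor D (1 : ℤ)).map (𝟙 (∐ K) - s) = 0 :=
      comp_distTriang_mor_zero₃₁ _ hT
    have hnat := N.hom.naturality (𝟙 (∐ K) - s)
    simp only [Functor.comp_map, Functor.id_map] at hnat
    have := hinj (Groth.Agent.DHA.Compact.shift hC (-1)) (F.map (φ ≫ c) ≫ N.hom.app (∐ K)) (by
      rw [Category.assoc, ← hnat, ← Category.assoc, ← F.map_comp, Category.assoc φ, h31,
        comp_zero, F.map_zero, zero_comp])
    rw [Preadditive.IsIso.comp_right_eq_zero] at this
    exact F.map_injective (this.trans (F.map_zero _ _).symm)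
  obtain ⟨α, hα⟩ : ∃ α : C ⟶ ∐ K, φ = α ≫ Sigma.desc i := Triangle.coyoneda_exact₃ _ hT φ hφc
  have hcompat : ∀ n, f n ≫ i (n + 1) = i n := fun n => by
    have h0 : (𝟙 (∐ K) - s) ≫ Sigma.desc i = 0 := comp_distTriang_mor_zero₁₂ _ hT
    have := Sigma.ι K n ≫= h0
    rw [comp_zero, Preadditive.sub_comp, Category.id_comp, Preadditive.comp_sub, hs,
      DerLim.shiftMap, Sigma.ι_desc_assoc, Category.assoc, Sigma.ι_desc, Sigma.ι_desc,
      sub_eq_zero] at this
    exact this.symm
  let Q : ℕ → (C ⟶ L) → Prop := fun N ψ => ∃ a : C ⟶ K N, a ≫ i N = ψ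
  have hmono : ∀ {N N' : ℕ}, N ≤ N' → ∀ ψ, Q N ψ → Q N' ψ := by
    intro N N' hN ψ hψ
    induction hN with
    | refl => exact hψ
    | step _ ih =>
      obtain ⟨a, ha⟩ := ih
      exact ⟨a ≫ f _, by rw [Category.assoc, hcompat, ha]⟩
  obtain ⟨S, a, rfl⟩ := exists_finsum hC K α
  have key : ∀ S : Finset ℕ, ∃ N, Q N (∑ n ∈ S, a n ≫ i n) := by
    intro S
    induction S using Finset.induction with
    | empty => exact ⟨0, 0, by simp⟩
    | insert n S hn ih =>
      obtain ⟨N, hN⟩ := ih
      obtain ⟨b₁, hb₁⟩ := hmono (le_max_left n N) _ ⟨a n, rfl⟩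
      obtain ⟨b₂, hb₂⟩ := hmono (le_max_right n N) _ hN
      exact ⟨max n N, b₁ + b₂, by rw [Preadditive.add_comp, hb₁, hb₂, Finset.sum_insert hn]⟩
  obtain ⟨N, b, hb⟩ := key S
  exact ⟨N, b, by
    rw [hb, hα, Preadditive.sum_comp]
    exact Finset.sum_congr rfl fun n _ => by rw [Category.assoc, Sigma.ι_desc]⟩

end Helpers

open CategoryTheory.Limits in
/-- Let D be a triangulated category with all small direct sums and E a compact object. Then E generates
D (an object admitting only zero maps from all shifts of E is zero) if and only if D is compactly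
generated and every compact object lies in the triangulated envelope of E (objects reachable from E
by shifts, finite sums, direct summands and extensions). -/
theorem result {D : Type u} [Category.{v} D] [Preadditive D] [Limits.HasZeroObject D] [HasShift D ℤ]
    [∀ n : ℤ, (shiftFunctor D n).Additive] [Pretriangulated D] [IsTriangulated D] [HasCoproducts.{v} D]
    [HasColimitsOfShape (Discrete ℕ) D]
    (E : D) (hE : CohDer.IsCompactObject E) :
    CohDer.Generates (fun _ : Unit => E) ↔
      (CohDer.IsCompactlyGenerated D ∧ ∀ X : D, CohDer.IsCompactObject X → ObjectProperty.triangEnvelope (fun Y : D => Y = E) X) := by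
  constructor
  · intro hg
    refine ⟨⟨PUnit, fun _ => E, fun _ => hE, fun K hK => hg K fun _ n f => hK PUnit.unit n f⟩,
      fun X hX => ?_⟩
    have hg' : CohDer.Generates (fun _ : PUnit.{v + 1} => E) :=
      fun K hK => hg K fun _ n f => hK PUnit.unit n f
    obtain ⟨K, f, i, hL, h0, hstep⟩ := Groth.Agent.S0984.result (fun _ : PUnit.{v + 1} => E)
      (fun _ => hE) hg' X
    obtain ⟨N, φ, hφ⟩ := exists_factor_of_isHocolim hX hL (𝟙 X)
    obtain ⟨s, E', g, h, hE', hgh⟩ := Groth.Agent.S1076.result (fun _ : PUnit.{v + 1} => E)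
      (fun _ => hE) K f h0 hstep X hX N φ
    have hle : ObjectProperty.triangEnvelope
        (fun Y : D => ∃ i ∈ s, Y = (fun _ : PUnit.{v + 1} => E) i) ≤
        ObjectProperty.triangEnvelope (fun Y : D => Y = E) :=
      ObjectProperty.monotone_triangEnvelope fun Y ⟨_, _, hY⟩ => hY
    exact ObjectProperty.IsStableUnderRetracts.of_retract
      ({ i := g, r := h ≫ i N, retract := by rw [← Category.assoc, hgh, hφ] } : Retract X E')
      (hle _ hE')
  · rintro ⟨⟨ι, F, hF, hg⟩, henv⟩ K hK
    refine hg K fun a n f => ?_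
    have : ObjectProperty.Nonempty (fun Y : D => Y = E) := ⟨E, rfl⟩
    have hle : ObjectProperty.triangEnvelope (fun Y : D => Y = E) ≤
        Groth.Agent.DHA.Orth.leftOrth K :=
      (ObjectProperty.triangEnvelope_le_iff _).2 (by rintro X rfl m g; exact hK () m g)
    exact hle _ (henv _ (hF a)) n f

end Groth.Agent.S0978
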