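import Groth.Statements.S13600
import Groth.Agent.IdealSh.Stalk

set_option autoImplicit false
universe u
open CategoryTheory AlgebraicGeometry
open Cyc

namespace Groth.Agent.S13600

section
open CategoryTheory AlgebraicGeometry IsLocalRing

namespace NoEmb88

variable {X : Scheme.{u}}

/-- Sections vanishing to the prescribed orders at finitely many points. -/
noncomputable def ordIdeal (S : Finset X) (n : X → ℕ) (U : X.affineOpens) : Ideal Γ(X, U) :=
  ⨅ z ∈ S, ⨅ h : z ∈ U.1, (maximalIdeal (X.presheaf.stalk z) ^ n z).comap (X.presheaf.germ U.1 z h).hom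

theorem mem_ordIdeal {S : Finset X} {n : X → ℕ} {U : X.affineOpens} {a : Γ(X, U)} :
    a ∈ ordIdeal S n U ↔
      ∀ z ∈ S, ∀ h : z ∈ U.1, X.presheaf.germ U.1 z h a ∈ maximalIdeal (X.presheaf.stalk z) ^ n z := by
  simp only [ordIdeal, Submodule.mem_iInf, Ideal.mem_comap]

theorem map_ordIdeal (S : Finset X) (n : X → ℕ) (U : X.affineOpens) (f : Γ(X, U)) :
    (ordIdeal S n U).map (X.presheaf.map (homOfLE <| X.basicOpen_le f).op).hom =
      ordIdeal S n (X.affineBasicOpen f) := by
  refine le_antisymm (Ideal.map_le_iff_le_comap.2 fun a ha => ?_) fun b hb => ?_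
  · refine mem_ordIdeal.2 fun z hz h => ?_
    erw [TopCat.Presheaf.germ_res_apply]
    exact mem_ordIdeal.1 ha z hz _
  · haveI := U.2.isLocalization_basicOpen f
    obtain ⟨⟨a, ⟨_, N, rfl⟩⟩, he⟩ := IsLocalization.surj (Submonoid.powers f) (b : Γ(X, X.basicOpen f))
    let M := S.sup n
    have ha : a * f ^ M ∈ ordIdeal S n U := by
      rw [mem_ordIdeal]
      intro z hz h
      rw [map_mul, map_pow]
      by_cases hzf : z ∈ X.basicOpen f
      · refine Ideal.mul_mem_right _ _ ?_
        have e : X.presheaf.germ U.1 z h a =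
            X.presheaf.germ (X.basicOpen f) z hzf b *
              X.presheaf.germ U.1 z h (f ^ N) := by
          have := congrArg (X.presheaf.germ (X.basicOpen f) z hzf).hom he
          simp only [RingHom.algebraMap_toAlgebra, map_mul, TopCat.Presheaf.germ_res_apply] at this
          exact this.symm
        rw [e]
        exact Ideal.mul_mem_right _ _ (mem_ordIdeal.1 hb z hz hzf)
      · refine Ideal.mul_mem_left _ _ (Ideal.pow_le_pow_right (Finset.le_sup hz) (Ideal.pow_mem_pow ?_ M))
        rw [mem_maximalIdeal, mem_nonunits_iff]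
        exact fun hu => hzf ((X.mem_basicOpen f z h).2 hu)
    have hu : IsUnit ((algebraMap Γ(X, U) Γ(X, X.basicOpen f)) (f ^ M * f ^ N)) := by
      rw [← pow_add]
      exact IsLocalization.map_units _ (⟨f ^ (M + N), _, rfl⟩ : Submonoid.powers f)
    refine (Ideal.mul_unit_mem_iff_mem _ hu).1 ?_
    have h2 := Ideal.mem_map_of_mem (X.presheaf.map (homOfLE <| X.basicOpen_le f).op).hom ha
    rw [map_mul] at h2
    rw [map_mul, mul_comm (algebraMap _ _ (f ^ M)), ← mul_assoc]
    convert h2 using 1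
    exact congrArg (· * _) he

/-- The ideal sheaf of the fattened points. -/
noncomputable def ordSheaf (S : Finset X) (n : X → ℕ) : X.IdealSheafData where
  ideal := ordIdeal S n
  map_ideal_basicOpen := map_ordIdeal S n

theorem exists_sep {V : X.Opens} (hV : IsAffineOpen V) {x z : X} (hx : x ∈ V) (hzx : ¬ z ⤳ x) :
    ∃ u : Γ(X, V), IsUnit (X.presheaf.germ V x hx u) ∧
      ∀ h : z ∈ V, X.presheaf.germ V z h u ∈ maximalIdeal (X.presheaf.stalk z) := by
  let O : X.Opens := ⟨(closure {z})ᶜ, isClosed_closure.isOpen_compl⟩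
  have hxO : x ∈ O := fun h => hzx (specializes_iff_mem_closure.2 h)
  obtain ⟨u, hle, hu⟩ := hV.exists_basicOpen_le (⟨x, hxO⟩ : O) hx
  refine ⟨u, (X.mem_basicOpen u x hx).1 hu, fun h => ?_⟩
  rw [mem_maximalIdeal, mem_nonunits_iff]
  exact fun hz => hle ((X.mem_basicOpen u z h).2 hz) (subset_closure rfl)

theorem exists_nonunit {z x : X} (h : z ⤳ x) (hne : z ≠ x) :
    ∃ u ∈ maximalIdeal (X.presheaf.stalk x), IsUnit (X.presheaf.stalkSpecializes h u) := by
  obtain ⟨V, hV, hxV, -⟩ := exists_isAffineOpen_mem_and_subset (x := x) (U := ⊤) trivial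
  obtain ⟨u, hu, hu'⟩ := exists_sep hV (h.mem_open V.2 hxV) (x := z) (z := x)
    fun h' => hne (h.antisymm h').eq
  refine ⟨X.presheaf.germ V x hxV u, hu' hxV, ?_⟩
  rw [TopCat.Presheaf.germ_stalkSpecializes_apply]
  exact hu

open Groth.Agent.IdealSh in
theorem mem_stalkIdeal (S : Finset X) (n : X → ℕ) {x : X} (a : X.presheaf.stalk x) :
    a ∈ IntMult.stalkIdeal (ordSheaf S n) x ↔
      ∀ z ∈ S, ∀ h : z ⤳ x, X.presheaf.stalkSpecializes h a ∈ maximalIdeal (X.presheaf.stalk z) ^ n z := by
  classical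
  obtain ⟨V, hV, hxV, -⟩ := exists_isAffineOpen_mem_and_subset (x := x) (U := ⊤) trivial
  rw [stalkIdeal_eq _ ⟨V, hV⟩ hxV]
  constructor
  · intro ha z hz h
    refine (show Ideal.map (X.presheaf.germ V x hxV).hom ((ordSheaf S n).ideal ⟨V, hV⟩) ≤
      (maximalIdeal (X.presheaf.stalk z) ^ n z).comap (X.presheaf.stalkSpecializes h).hom from
        Ideal.map_le_iff_le_comap.2 fun s hs => ?_) ha
    rw [Ideal.mem_comap, Ideal.mem_comap, TopCat.Presheaf.germ_stalkSpecializes_apply]
    exact mem_ordIdeal.1 hs z hz _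
  · intro ha
    letI := X.presheaf.algebra_section_stalk ⟨x, hxV⟩
    haveI := hV.isLocalization_stalk ⟨x, hxV⟩
    obtain ⟨⟨s, t⟩, he⟩ := IsLocalization.surj (hV.primeIdealOf ⟨x, hxV⟩).asIdeal.primeCompl a
    change a * X.presheaf.germ V x hxV t.1 = X.presheaf.germ V x hxV s at he
    have ht : IsUnit (X.presheaf.germ V x hxV t.1) := IsLocalization.map_units (X.presheaf.stalk x) t
    have hu : ∀ z : X, ∃ u : Γ(X, V), IsUnit (X.presheaf.germ V x hxV u) ∧
        (¬ z ⤳ x → ∀ h : z ∈ V, X.presheaf.germ V z h u ∈ maximalIdeal (X.presheaf.stalk z)) := fun z => by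
      by_cases hz : z ⤳ x
      · exact ⟨1, by rw [map_one]; exact isUnit_one, fun h => absurd hz h⟩
      · obtain ⟨u, h1, h2⟩ := exists_sep hV hxV hz
        exact ⟨u, h1, fun _ => h2⟩
    choose u hu1 hu2 using hu
    have hs : s * ∏ z ∈ S, u z ^ n z ∈ (ordSheaf S n).ideal ⟨V, hV⟩ := by
      show _ ∈ ordIdeal S n _
      rw [mem_ordIdeal]
      intro z hz h
      rw [map_mul, map_prod]
      by_cases hzx : z ⤳ x
      · refine Ideal.mul_mem_right _ _ ?_
        have e := congrArg (X.presheaf.stalkSpecializes hzx).hom he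
        rw [map_mul, TopCat.Presheaf.germ_stalkSpecializes_apply,
          TopCat.Presheaf.germ_stalkSpecializes_apply] at e
        rw [← e]
        exact Ideal.mul_mem_right _ _ (ha z hz hzx)
      · rw [← Finset.mul_prod_erase S _ hz, map_pow]
        exact Ideal.mul_mem_left _ _ (Ideal.mul_mem_right _ _ (Ideal.pow_mem_pow (hu2 z hzx h) _))
    have h2 := Ideal.mem_map_of_mem (X.presheaf.germ V x hxV).hom hs
    rw [map_mul, ← he, map_prod] at h2
    have hP : IsUnit (∏ z ∈ S, X.presheaf.germ V x hxV (u z ^ n z)) :=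
      IsUnit.prod_iff.2 fun z _ => by rw [map_pow]; exact (hu1 z).pow _
    exact (Ideal.mul_unit_mem_iff_mem _ ht).1 ((Ideal.mul_unit_mem_iff_mem _ hP).1 h2)

/-- The kernel of the stalk map of a closed subscheme is the stalk of its ideal. -/
theorem ker_stalkMap (J : X.IdealSheafData) (w : J.subscheme) :
    RingHom.ker (J.subschemeι.stalkMap w).hom = IntMult.stalkIdeal J (J.subschemeι w) := by
  refine le_antisymm ?_ (iSup₂_le fun U hU => Ideal.map_le_iff_le_comap.2 fun g hg => ?_)
  · intro b hb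
    obtain ⟨W, hW, c, rfl⟩ := X.presheaf.exists_germ_eq b
    rw [RingHom.mem_ker, Scheme.Hom.germ_stalkMap_apply] at hb
    obtain ⟨W', hzW', i₁, i₂, e⟩ := J.subscheme.presheaf.germ_eq w
      (U := J.subschemeι ⁻¹ᵁ W) (V := J.subschemeι ⁻¹ᵁ W) hW hW (J.subschemeι.app W c) 0
      (hb.trans (map_zero _).symm)
    rw [map_zero] at e
    obtain ⟨W₀, hW₀, eW₀⟩ := J.subschemeι.isEmbedding.isInducing.isOpen_iff.mp W'.2
    obtain ⟨_, ⟨D : X.Opens, hD, rfl⟩, hzD, hDW⟩ :=
      X.isBasis_affineOpens.exists_subset_of_mem_open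
        (show J.subschemeι w ∈ W₀ ∩ W from ⟨(Set.ext_iff.mp eW₀ w).mpr hzW', hW⟩) (hW₀.inter W.2)
    have hDW' : D ≤ W := fun x hx => (hDW hx).2
    have hle : J.subschemeι ⁻¹ᵁ D ≤ W' := fun y hy => (Set.ext_iff.mp eW₀ y).mp (hDW hy).1
    have hmem : X.presheaf.map (homOfLE hDW').op c ∈ J.ideal ⟨D, hD⟩ := by
      rw [← J.ker_subschemeι_app ⟨D, hD⟩, RingHom.mem_ker]
      have e1 := congr(J.subscheme.presheaf.map (homOfLE hle).op $e)
      rw [map_zero, ← CategoryTheory.comp_apply, ← Functor.map_comp] at e1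
      refine Eq.trans ?_ e1
      exact congr($(J.subschemeι.naturality (homOfLE hDW').op) c)
    have h1 := Ideal.mem_map_of_mem (X.presheaf.germ D (J.subschemeι w) hzD).hom hmem
    rw [TopCat.Presheaf.germ_res_apply] at h1
    exact le_iSup₂_of_le (f := fun (U : X.affineOpens) (hx : J.subschemeι w ∈ U.1) =>
      (J.ideal U).map (X.presheaf.germ U.1 _ hx).hom) ⟨D, hD⟩ hzD le_rfl h1
  · have h0 : (J.subschemeι.app U.1).hom g = 0 := by
      rw [← RingHom.mem_ker, J.ker_subschemeι_app]; exact hg
    exact (Scheme.Hom.germ_stalkMap_apply J.subschemeι U.1 w hU g).trans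
      ((congrArg (J.subscheme.presheaf.germ _ w hU) h0).trans (map_zero _))

theorem length_stalk (J : X.IdealSheafData) (w : J.subscheme) :
    Module.length (J.subscheme.presheaf.stalk w) (J.subscheme.presheaf.stalk w) =
      Module.length (X.presheaf.stalk (J.subschemeι w))
        (X.presheaf.stalk (J.subschemeι w) ⧸ IntMult.stalkIdeal J (J.subschemeι w)) := by
  letI := (J.subschemeι.stalkMap w).hom.toAlgebra
  have hs : Function.Surjective (algebraMap (X.presheaf.stalk (J.subschemeι w))
      (J.subscheme.presheaf.stalk w)) := J.subschemeι.stalkMap_surjective w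
  rw [← Module.length_eq_of_surjective hs]
  refine (LinearEquiv.length_eq ?_).symm
  exact (Submodule.quotEquivOfEq _ _ (show IntMult.stalkIdeal J (J.subschemeι w) =
      LinearMap.ker (Algebra.linearMap (X.presheaf.stalk (J.subschemeι w)) (J.subscheme.presheaf.stalk w)) by
    rw [← ker_stalkMap]; rfl)).trans (LinearMap.quotKerEquivOfSurjective _ hs)

theorem isAssociatedPrime_max_iff [IsLocallyNoetherian X] (J : X.IdealSheafData) (w : J.subscheme) :
    IsAssociatedPrime (maximalIdeal (J.subscheme.presheaf.stalk w)) (J.subscheme.presheaf.stalk w) ↔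
      ∃ a ∉ IntMult.stalkIdeal J (J.subschemeι w),
        ∀ u ∈ maximalIdeal (X.presheaf.stalk (J.subschemeι w)), u * a ∈ IntMult.stalkIdeal J (J.subschemeι w) := by
  haveI : IsLocallyNoetherian J.subscheme := LocallyOfFiniteType.isLocallyNoetherian J.subschemeι
  rw [isAssociatedPrime_iff, ← ker_stalkMap]
  have hu : ∀ u, u ∈ maximalIdeal (X.presheaf.stalk (J.subschemeι w)) ↔
      (J.subschemeι.stalkMap w).hom u ∈ maximalIdeal (J.subscheme.presheaf.stalk w) := fun u => by
    simp only [mem_maximalIdeal, mem_nonunits_iff]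
    exact (isUnit_map_iff (J.subschemeι.stalkMap w).hom u).not.symm
  constructor
  · rintro ⟨-, b, hb⟩
    obtain ⟨a, rfl⟩ := J.subschemeι.stalkMap_surjective w b
    refine ⟨a, fun ha => ?_, fun u hu' => ?_⟩
    · rw [show (J.subschemeι.stalkMap w) a = 0 from ha] at hb
      exact (maximalIdeal.isMaximal _).ne_top (hb.trans (by simp))
    · have := (hu u).1 hu'
      rw [hb, Submodule.mem_colon_singleton, Submodule.mem_bot, smul_eq_mul] at this
      rw [RingHom.mem_ker, map_mul]
      exact this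
  · rintro ⟨a, ha, h⟩
    refine ⟨(maximalIdeal.isMaximal _).isPrime, J.subschemeι.stalkMap w a, le_antisymm (fun b hb => ?_) ?_⟩
    · obtain ⟨u, rfl⟩ := J.subschemeι.stalkMap_surjective w b
      rw [Submodule.mem_colon_singleton, Submodule.mem_bot, smul_eq_mul]
      have := h u ((hu u).2 hb)
      rwa [RingHom.mem_ker, map_mul] at this
    · refine IsLocalRing.le_maximalIdeal fun htop => ha ?_
      have := htop.ge (Submodule.mem_top (x := (1 : J.subscheme.presheaf.stalk w)))
      rw [Submodule.mem_colon_singleton, Submodule.mem_bot, one_smul] at this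
      exact this

theorem stalkSpecializes_self {x : X} (h : x ⤳ x) (a : X.presheaf.stalk x) :
    X.presheaf.stalkSpecializes h a = a := by
  simp

theorem exists_preimage_of_mem_support (J : X.IdealSheafData) {x : X} (hx : IntMult.stalkIdeal J x ≠ ⊤) :
    ∃ w : J.subscheme, J.subschemeι w = x := by
  rw [Ne, Groth.Agent.IdealSh.stalkIdeal_eq_top_iff, not_not, ← SetLike.mem_coe, ← J.range_subschemeι] at hx
  exact hx

theorem eq_of_specializes_subscheme (J : X.IdealSheafData) {w w' : J.subscheme}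
    (h : J.subschemeι w = J.subschemeι w') : w = w' :=
  J.subschemeι.isEmbedding.injective h

/-- Existence and uniqueness. -/
theorem existsUnique [IsNoetherian X] (S : Finset X) (n : X → ℕ) (hn : ∀ z ∈ S, 0 < n z)
    (hn' : ∀ z, z ∉ S → n z = 0)
    (hdvr : ∀ z ∈ S, ∃ _ : IsDomain (X.presheaf.stalk z), IsDiscreteValuationRing (X.presheaf.stalk z)) :
    ∃! 𝓘 : X.IdealSheafData,
      (∀ z : ↥𝓘.subscheme,
        IsAssociatedPrime (maximalIdeal ↑(𝓘.subscheme.presheaf.stalk z))
          ↑(𝓘.subscheme.presheaf.stalk z) → ∀ z' : ↥𝓘.subscheme, z' ⤳ z → z' = z) ∧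
      (∀ z : ↥𝓘.subscheme, (∀ z' : ↥𝓘.subscheme, z' ⤳ z → z' = z) →
        Module.length ↑(𝓘.subscheme.presheaf.stalk z) ↑(𝓘.subscheme.presheaf.stalk z) =
          (n (𝓘.subschemeι z) : ℕ∞)) ∧
      (∀ x ∈ S, ∃ z : ↥𝓘.subscheme, 𝓘.subschemeι z = x ∧
        ∀ z' : ↥𝓘.subscheme, z' ⤳ z → z' = z) := by
  classical
  -- points of height one do not specialize to one another
  have hh : ∀ z ∈ S, Order.coheight z = 1 := fun z hz => by
    obtain ⟨_, _⟩ := hdvr z hz
    have h1 : ringKrullDim (X.presheaf.stalk z) = 1 :=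
      IsPrincipalIdealRing.ringKrullDim_eq_one _ (IsDiscreteValuationRing.not_isField _)
    rw [ringKrullDim_stalk_eq_coheight] at h1
    exact_mod_cast h1
  have hanti : ∀ z ∈ S, ∀ z' ∈ S, z ⤳ z' → z = z' := by
    intro z hz z' hz' h
    by_contra hne
    have hlt : z' < z := lt_iff_le_not_ge.mpr ⟨h, fun h' => hne (h.antisymm h').eq⟩
    have := Order.coheight_add_one_le hlt
    rw [hh z hz, hh z' hz'] at this
    exact absurd this (by decide)
  have hself : ∀ z ∈ S, IntMult.stalkIdeal (ordSheaf S n) z = maximalIdeal (X.presheaf.stalk z) ^ n z := by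
    intro z hz
    ext a
    rw [mem_stalkIdeal]
    refine ⟨fun h => by simpa [stalkSpecializes_self] using h z hz specializes_rfl, fun h z' hz' hs => ?_⟩
    obtain rfl := hanti z' hz' z hz hs
    rwa [stalkSpecializes_self]
  have hsupp : ∀ w : (ordSheaf S n).subscheme, ∃ z ∈ S, z ⤳ (ordSheaf S n).subschemeι w := by
    intro w
    by_contra hcon
    push Not at hcon
    have h1 : (1 : X.presheaf.stalk ((ordSheaf S n).subschemeι w)) ∈
        RingHom.ker ((ordSheaf S n).subschemeι.stalkMap w).hom := by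
      rw [ker_stalkMap, mem_stalkIdeal]
      exact fun z hz h => absurd h (hcon z hz)
    rw [RingHom.mem_ker, map_one] at h1
    exact one_ne_zero h1
  have hpt : ∀ z ∈ S, ∃ w : (ordSheaf S n).subscheme, (ordSheaf S n).subschemeι w = z := fun z hz =>
    exists_preimage_of_mem_support _ (by
      rw [hself z hz]
      exact ne_top_of_le_ne_top (maximalIdeal.isMaximal _).ne_top (Ideal.pow_le_self (hn z hz).ne'))
  have hmax : ∀ w : (ordSheaf S n).subscheme, (ordSheaf S n).subschemeι w ∈ S ↔
      ∀ w', w' ⤳ w → w' = w := by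
    intro w
    constructor
    · intro hw w' hs
      obtain ⟨z, hz, hzw'⟩ := hsupp w'
      have h1 := hs.map (ordSheaf S n).subschemeι.continuous
      obtain rfl := hanti z hz _ hw (hzw'.trans h1)
      exact eq_of_specializes_subscheme _ (h1.antisymm hzw').eq
    · intro h
      obtain ⟨z, hz, hzw⟩ := hsupp w
      obtain ⟨w', hw'⟩ := hpt z hz
      subst hw'
      have := h w' (((ordSheaf S n).subschemeι.isEmbedding.isInducing.specializes_iff).1 hzw)
      exact this ▸ hz
  refine ⟨ordSheaf S n, ⟨fun w hw => ?_, fun w hw => ?_, fun x hx => ?_⟩, fun J hJ => ?_⟩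
  · rw [← hmax]
    obtain ⟨a, ha, hu⟩ := (isAssociatedPrime_max_iff _ w).1 hw
    rw [mem_stalkIdeal] at ha
    push Not at ha
    obtain ⟨z, hz, h, hza⟩ := ha
    by_contra hwS
    obtain ⟨u, hum, huu⟩ := exists_nonunit h fun e => hwS (e ▸ hz)
    have := (mem_stalkIdeal S n _).1 (hu u hum) z hz h
    rw [map_mul] at this
    exact hza ((Ideal.unit_mul_mem_iff_mem _ huu).1 this)
  · have hwS := (hmax w).2 hw
    obtain ⟨_, _⟩ := hdvr _ hwS
    rw [length_stalk, hself _ hwS, IsDiscreteValuationRing.length_quotient_pow_maximalIdeal]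
  · obtain ⟨w, hw⟩ := hpt x hx
    exact ⟨w, hw, (hmax w).1 (hw ▸ hx)⟩
  -- uniqueness
  obtain ⟨hA, hL, hS⟩ := hJ
  have hJmax : ∀ w : J.subscheme, (∀ w', w' ⤳ w → w' = w) → J.subschemeι w ∈ S := by
    intro w hw
    by_contra h
    have := hL w hw
    rw [hn' _ h, Nat.cast_zero, Module.length_eq_zero_iff] at this
    exact not_subsingleton _ this
  have hJself : ∀ z ∈ S, IntMult.stalkIdeal J z = maximalIdeal (X.presheaf.stalk z) ^ n z := by
    intro z hz
    obtain ⟨_, _⟩ := hdvr z hz
    obtain ⟨w, hwz, hw⟩ := hS z hz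
    subst hwz
    have hl := hL w hw
    rw [length_stalk] at hl
    obtain ⟨ϖ, hϖ⟩ := IsDiscreteValuationRing.exists_irreducible (X.presheaf.stalk (J.subschemeι w))
    by_cases hbot : IntMult.stalkIdeal J (J.subschemeι w) = ⊥
    · exfalso
      rw [hbot] at hl
      have h2 : ((n (J.subschemeι w) + 1 : ℕ) : ℕ∞) ≤ Module.length (X.presheaf.stalk (J.subschemeι w))
          (X.presheaf.stalk (J.subschemeι w) ⧸ (⊥ : Ideal (X.presheaf.stalk (J.subschemeι w)))) := by
        rw [← IsDiscreteValuationRing.length_quotient_pow_maximalIdeal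
          (X.presheaf.stalk (J.subschemeι w)) (n (J.subschemeι w) + 1)]
        exact Module.length_le_of_surjective
          (Submodule.factor (bot_le : (⊥ : Ideal _) ≤ maximalIdeal _ ^ _))
          (Submodule.factor_surjective _)
      rw [hl] at h2
      exact absurd (Nat.cast_le.1 h2) (by omega)
    · obtain ⟨k, hk⟩ := IsDiscreteValuationRing.ideal_eq_span_pow_irreducible hbot hϖ
      rw [hk, ← Ideal.span_singleton_pow, ← hϖ.maximalIdeal_eq] at hl ⊢
      rw [IsDiscreteValuationRing.length_quotient_pow_maximalIdeal, Nat.cast_inj] at hl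
      rw [hl]
  refine Scheme.IdealSheafData.ext (funext fun U => le_antisymm (fun s hs => ?_) (fun a ha => ?_))
  · show s ∈ ordIdeal S n U
    rw [mem_ordIdeal]
    intro z hz h
    rw [← hJself z hz, Groth.Agent.IdealSh.stalkIdeal_eq J U h]
    exact Ideal.mem_map_of_mem _ hs
  · by_contra hna
    haveI : IsNoetherianRing Γ(X, U.1) := IsLocallyNoetherian.component_noetherian U
    obtain ⟨p, ⟨c, hc, rfl⟩, hpmax⟩ := set_has_maximal_iff_noetherian.mpr (inferInstance : IsNoetherian Γ(X, U.1) Γ(X, U.1))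
      {p : Ideal Γ(X, U.1) | ∃ c, c * a ∉ J.ideal U ∧ p = Submodule.colon (J.ideal U) {c * a}}
      ⟨_, 1, by rwa [one_mul], rfl⟩
    set p := Submodule.colon (J.ideal U) {c * a} with hp
    have hmemp : ∀ t, t ∈ p ↔ t * (c * a) ∈ J.ideal U := fun t => by
      rw [hp, Submodule.mem_colon_singleton, smul_eq_mul]
    have hprime : p.IsPrime := by
      refine ⟨fun h => hc ?_, fun {s t} hst => or_iff_not_imp_left.2 fun hs => ?_⟩
      · have := (hmemp 1).1 (h ▸ Submodule.mem_top)
        rwa [one_mul] at this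
      · rw [hmemp] at hs
        have hq : s * c * a ∉ J.ideal U := by rwa [mul_assoc]
        have hle : p ≤ Submodule.colon (J.ideal U) {s * c * a} := fun r hr => by
          rw [Submodule.mem_colon_singleton, smul_eq_mul,
            show r * (s * c * a) = s * (r * (c * a)) by ring]
          exact Ideal.mul_mem_left _ s ((hmemp r).1 hr)
        have heq : p = Submodule.colon (J.ideal U) {s * c * a} :=
          hle.eq_of_not_lt (hpmax _ ⟨s * c, hq, rfl⟩)
        rw [heq, Submodule.mem_colon_singleton, smul_eq_mul, show t * (s * c * a) = s * t * (c * a) by ring]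
        exact (hmemp _).1 hst
    set y := U.2.fromSpec ⟨p, hprime⟩ with hy
    have hyU : y ∈ U.1 := by
      rw [← SetLike.mem_coe, ← U.2.range_fromSpec]
      exact ⟨_, rfl⟩
    haveI := U.2.isOpenImmersion_fromSpec
    have hpr : U.2.primeIdealOf ⟨y, hyU⟩ = ⟨p, hprime⟩ :=
      U.2.fromSpec.isOpenEmbedding.injective (U.2.fromSpec_primeIdealOf ⟨y, hyU⟩)
    letI := X.presheaf.algebra_section_stalk ⟨y, hyU⟩
    haveI hloc : IsLocalization.AtPrime (X.presheaf.stalk y) p := by
      have := U.2.isLocalization_stalk ⟨y, hyU⟩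
      simp only [hpr] at this
      exact this
    have hst : IntMult.stalkIdeal J y = (J.ideal U).map (algebraMap Γ(X, U.1) (X.presheaf.stalk y)) :=
      Groth.Agent.IdealSh.stalkIdeal_eq J U hyU
    have hnm : algebraMap Γ(X, U.1) (X.presheaf.stalk y) (c * a) ∉ IntMult.stalkIdeal J y := by
      rw [hst, IsLocalization.algebraMap_mem_map_algebraMap_iff p.primeCompl]
      rintro ⟨t, ht, hta⟩
      exact ht ((hmemp t).2 hta)
    obtain ⟨w, hw⟩ := exists_preimage_of_mem_support J (fun h => hnm (h ▸ Submodule.mem_top))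
    have hmap : ∀ u ∈ maximalIdeal (X.presheaf.stalk y),
        u * algebraMap Γ(X, U.1) (X.presheaf.stalk y) (c * a) ∈ IntMult.stalkIdeal J y := by
      intro u hu
      rw [← IsLocalization.AtPrime.map_eq_maximalIdeal p (X.presheaf.stalk y)] at hu
      refine (show p.map (algebraMap Γ(X, U.1) (X.presheaf.stalk y)) ≤
        Submodule.colon (IntMult.stalkIdeal J y) {algebraMap Γ(X, U.1) (X.presheaf.stalk y) (c * a)} from
          Ideal.map_le_iff_le_comap.2 fun t ht => ?_) hu |> fun h => by
            rwa [Submodule.mem_colon_singleton, smul_eq_mul] at h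
      rw [Ideal.mem_comap, Submodule.mem_colon_singleton, smul_eq_mul, ← map_mul, hst]
      exact Ideal.mem_map_of_mem _ ((hmemp t).1 ht)
    have hass : IsAssociatedPrime (maximalIdeal (J.subscheme.presheaf.stalk w))
        (J.subscheme.presheaf.stalk w) := by
      rw [isAssociatedPrime_max_iff]
      rw [hw]
      exact ⟨_, hnm, hmap⟩
    have hyS : y ∈ S := hw ▸ hJmax w (hA w hass)
    refine hnm ?_
    rw [hJself y hyS, map_mul]
    exact Ideal.mul_mem_left _ _ (mem_ordIdeal.1 ha y hyS hyU)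

end NoEmb88

end


/-- Let X be a separated Noetherian scheme and W = Σ a_i z_i an effective cycle on X (a function from
the points of X to the integers, non-negative and with finite support) whose points z_i (those with
a_i ≠ 0) have codimension 1 with X regular there, i.e. O_{X,z_i} is a discrete valuation ring. Then
X has a unique closed subscheme Z (a quasi-coherent ideal sheaf) such that (1) Z has no embedded
components (every point of Z at which the maximal ideal of the local ring of Z is an associated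
prime is a maximal point of Z) and (2) the cycle of Z is W: every maximal point z of Z has O_{Z,z}
of length W(z), and every point with W ≠ 0 is a maximal point of Z. -/
theorem result (X : Scheme.{u}) [IsNoetherian X]
    [X.IsSeparated] (W : X → ℤ) (hfin : {x | W x ≠ 0}.Finite) (hpos : ∀ x, 0 ≤ W x)
    (hreg : ∀ x, W x ≠ 0 → ∃ _ : IsDomain ↑(X.presheaf.stalk x), IsDiscreteValuationRing ↑(X.presheaf.stalk x)) :
    ∃! 𝓘 : X.IdealSheafData,
      (∀ z : ↥𝓘.subscheme,
        IsAssociatedPrime (IsLocalRing.maximalIdeal ↑(𝓘.subscheme.presheaf.stalk z))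
          ↑(𝓘.subscheme.presheaf.stalk z) → ∀ z' : ↥𝓘.subscheme, z' ⤳ z → z' = z) ∧
      (∀ z : ↥𝓘.subscheme, (∀ z' : ↥𝓘.subscheme, z' ⤳ z → z' = z) →
        Module.length ↑(𝓘.subscheme.presheaf.stalk z) ↑(𝓘.subscheme.presheaf.stalk z) =
          ((W (𝓘.subschemeι.base z)).toNat : ℕ∞)) ∧
      (∀ x : X, W x ≠ 0 → ∃ z : ↥𝓘.subscheme, 𝓘.subschemeι.base z = x ∧
        ∀ z' : ↥𝓘.subscheme, z' ⤳ z → z' = z) := by
  classical
  have h := NoEmb88.existsUnique hfin.toFinset (fun x => (W x).toNat)
    (fun z hz => by have := hpos z; have : W z ≠ 0 := hfin.mem_toFinset.1 hz; omega)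
    (fun z hz => by
      rw [show W z = 0 from by_contra fun h => hz (hfin.mem_toFinset.2 h)]; rfl)
    (fun z hz => hreg z (hfin.mem_toFinset.1 hz))
  simp only [Set.Finite.mem_toFinset, Set.mem_setOf_eq] at h
  exact h

end Groth.Agent.S13600
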