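import Groth.Statements.S0600
import Groth.Agent.EGA4Lib.AdicFibres
import Groth.Agent.Hensel.RegularHom
import Groth.Agent.S9259
import Groth.Agent.S9295

set_option autoImplicit false
universe u
open CAlg

namespace Groth.Agent.S0600

/-- If `A` is a G-ring and `I` any ideal, then the map from `A` to its `I`-adic completion is regular. -/
theorem result (A : Type u) [CommRing A] (hA : CAlg.IsGRing A)
    (I : Ideal A) : CAlg.IsRegularHom A (AdicCompletion I A) := by
  haveI := hA.1
  haveI : IsNoetherianRing (AdicCompletion I A) := RegLoc.Completion.isNoetherianRing_adicCompletion' I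
  refine (Groth.Agent.S9259.result A (AdicCompletion I A)).2.2 fun n _ => ?_
  letI : Algebra (Localization.AtPrime (n.comap (algebraMap A (AdicCompletion I A)))) (Localization.AtPrime n) :=
    (Localization.localRingHom _ n (algebraMap A (AdicCompletion I A)) rfl).toAlgebra
  haveI : IsScalarTower A (Localization.AtPrime (n.comap (algebraMap A (AdicCompletion I A))))
      (Localization.AtPrime n) := IsScalarTower.of_algebraMap_eq fun x => by
    rw [RingHom.algebraMap_toAlgebra, Localization.localRingHom_to_map, ← IsScalarTower.algebraMap_apply]
  obtain ⟨c⟩ := EGA4Lib.nonempty_completion_localization I n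
  haveI : Module.FaithfullyFlat (Localization.AtPrime n) (EGA4.Cpl (Localization.AtPrime n)) :=
    Module.FaithfullyFlat.of_flat_of_isLocalHom
  exact Groth.Agent.S9295.result _ (Localization.AtPrime n) (EGA4.Cpl (Localization.AtPrime n))
    (Hensel.isRegularHom_congr c.symm (hA.2 _))
    PrimeSpectrum.comap_surjective_of_faithfullyFlat

end Groth.Agent.S0600
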