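import Groth.Statements.S8255
-- import your own Groth.Agent.* helpers here

set_option autoImplicit false
universe u
open CategoryTheory CategoryTheory.Limits AlgebraicGeometry Opposite TopologicalSpace
open EGA2

namespace Groth.Agent.S8255

/-- Let S be a scheme and A a quasi-coherent O_S-algebra, and let π : Spec(A) → S be its relative
spectrum (glued from the affine schemes Spec A(U), U an affine open of S). Then the canonical
comparison map π_* O_{Spec(A)} → A (which over an affine open U is restriction to the chart Spec
A(U) followed by Γ(Spec R) = R) is an isomorphism; in other words the direct-image algebra of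
Spec(A) is A. -/
theorem result {S : Scheme.{u}} (A : RelSpec.QCAlg S) : IsIso A.gammaMap := by
  have haff : ∀ (U : S.Opens) (hU : IsAffineOpen U), IsIso (A.gammaAff U hU) := by
    intro U hU
    have h := (A.ι U hU).isIso_app (A.π ⁻¹ᵁ U) (A.π_preimage U hU).le
    have : IsIso ((Spec (A.presheaf.obj (op U))).presheaf.map (homOfLE (A.top_le_preimage U hU)).op) := by
      have e : homOfLE (A.top_le_preimage U hU) = eqToHom (le_antisymm (A.top_le_preimage U hU) le_top) :=
        Subsingleton.elim _ _
      rw [e]; infer_instance
    rw [RelSpec.QCAlg.gammaAff, Scheme.Hom.appLE]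
    infer_instance
  have hG : IsIso A.gammaRestrict := by
    have : ∀ U, IsIso (A.gammaRestrict.app U) := fun U => haff U.unop.1 U.unop.2
    exact NatIso.isIso_of_isIso_app _
  let ℱ : TopCat.Sheaf CommRingCat.{u} S.carrier :=
    ⟨A.π.base _* A.spec.presheaf, TopCat.Sheaf.pushforward_sheaf_of_sheaf _ A.spec.sheaf.property⟩
  let ℱ' : TopCat.Sheaf CommRingCat.{u} S.carrier := ⟨A.presheaf, A.isSheaf⟩
  let α : ℱ ⟶ ℱ' := ⟨A.gammaMap⟩
  have hα : IsIso α := Functor.IsCoverDense.iso_of_restrict_iso
    (G := Scheme.AffineZariskiSite.toOpensFunctor S) α (by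
      show IsIso ((Scheme.AffineZariskiSite.toOpensFunctor S).op.whiskerLeft A.gammaMap)
      rw [A.gammaMap_restrict]; exact hG)
  exact @Functor.map_isIso _ _ _ _ _ _ (sheafToPresheaf _ _) α hα

end Groth.Agent.S8255
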