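import Groth.Statements.S8256
import Groth.Agent.AffAlgLib.Basic
import Groth.Agent.S8255

set_option autoImplicit false
universe u
open CategoryTheory CategoryTheory.Limits AlgebraicGeometry Opposite TopologicalSpace
open EGA2

namespace Groth.Agent.S8256

open Opposite

/-- Direct-image algebra maps compose. -/
lemma algHom_comp {A B C S : Scheme.{u}} (f : A ⟶ S) (g : B ⟶ S) (e : C ⟶ S) (h : B ⟶ A) (w : h ≫ f = g)
    (k : C ⟶ B) (w' : k ≫ g = e) :
    AffAlg.algHom f g h w ≫ AffAlg.algHom g e k w' =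
      AffAlg.algHom f e (k ≫ h) (by rw [Category.assoc, w, w']) := by
  ext U : 2
  rw [NatTrans.comp_app, AffAlgLib.algHom_app, AffAlgLib.algHom_app, AffAlgLib.algHom_app,
    Scheme.Hom.appLE_comp_appLE]

lemma algHom_congr {A B S : Scheme.{u}} (f : A ⟶ S) (g : B ⟶ S) {h h' : B ⟶ A} (e : h = h')
    (w : h ≫ f = g) : AffAlg.algHom f g h w = AffAlg.algHom f g h' (e ▸ w) := by
  subst e; rfl

/-- Algebra homomorphisms into any quasi-coherent algebra are given by morphisms out of its spectrum. -/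
lemma exists_hom {A S : Scheme.{u}} (f : A ⟶ S) [IsAffineHom f] (B : RelSpec.QCAlg S)
    (a : RelSpec.QCAlg.directImage f ⟶ B) :
    ∃ (k : B.spec ⟶ A) (w : k ≫ f = B.π), AffAlg.algHom f B.π k w ≫ B.gammaMap = a.hom := by
  haveI := Groth.Agent.S8255.result B
  let a' : AffAlg.alg f ⟶ B.presheaf := a.hom
  have ha : f.c ≫ a' = B.str := a.comm
  obtain ⟨k, w, hk⟩ := AffAlgLib.exists_eq_algHom f B.π (a' ≫ inv B.gammaMap) (by
    rw [← Category.assoc, ha, ← B.π_c_gammaMap, Category.assoc,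
      IsIso.hom_inv_id, Category.comp_id])
  refine ⟨k, w, ?_⟩
  show AffAlg.algHom f B.π k w ≫ B.gammaMap = a'
  rw [hk, Category.assoc, IsIso.inv_hom_id, Category.comp_id]

lemma hom_unique {A S : Scheme.{u}} (f : A ⟶ S) [IsAffineHom f] (B : RelSpec.QCAlg S)
    {k k' : B.spec ⟶ A} (w : k ≫ f = B.π) (w' : k' ≫ f = B.π)
    (h : AffAlg.algHom f B.π k w ≫ B.gammaMap = AffAlg.algHom f B.π k' w' ≫ B.gammaMap) : k = k' := by
  haveI := Groth.Agent.S8255.result B
  exact congrArg Subtype.val (AffAlgLib.algOf_injective f B.π (a₁ := ⟨k, w⟩) (a₂ := ⟨k', w'⟩)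
    (Subtype.ext ((cancel_mono B.gammaMap).1 h)))

/-- Let Y be affine over S (g : Y → S affine) and X, X' affine over Y (f, f' affine), and let Z = X ×_Y
X' with projections p : Z → X, p' : Z → X'. Then Z is affine over Y and over S, and its direct-image
algebra on S is the tensor product: the square of quasi-coherent O_S-algebras A(Y) → A(X), A(Y) →
A(X'), A(X) → A(Z), A(X') → A(Z), whose maps are induced by f, f', p, p', is a pushout square in the
category of quasi-coherent O_S-algebras. -/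
theorem result {X X' Y Z S : Scheme.{u}} (g : Y ⟶ S) [IsAffineHom g]
    (f : X ⟶ Y) [IsAffineHom f] (f' : X' ⟶ Y) [IsAffineHom f'] (p : Z ⟶ X) (p' : Z ⟶ X') [IsAffineHom p]
    (hZ : IsPullback p p' f f') :
    IsPushout
      (C := RelSpec.QCAlg S)
      (⟨AffAlg.algHom g (f ≫ g) f rfl, AffAlg.algHom_comm g (f ≫ g) f rfl⟩ :
        RelSpec.QCAlg.directImage g ⟶ RelSpec.QCAlg.directImage (f ≫ g))
      (⟨AffAlg.algHom g (f' ≫ g) f' rfl, AffAlg.algHom_comm g (f' ≫ g) f' rfl⟩ :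
        RelSpec.QCAlg.directImage g ⟶ RelSpec.QCAlg.directImage (f' ≫ g))
      (⟨AffAlg.algHom (f ≫ g) (p ≫ f ≫ g) p rfl, AffAlg.algHom_comm (f ≫ g) (p ≫ f ≫ g) p rfl⟩ :
        RelSpec.QCAlg.directImage (f ≫ g) ⟶ RelSpec.QCAlg.directImage (p ≫ f ≫ g))
      (⟨AffAlg.algHom (f' ≫ g) (p ≫ f ≫ g) p'
          ((Category.assoc p' f' g).symm.trans ((congrArg (· ≫ g) hZ.w.symm).trans (Category.assoc p f g))),
        AffAlg.algHom_comm (f' ≫ g) (p ≫ f ≫ g) p'
          ((Category.assoc p' f' g).symm.trans ((congrArg (· ≫ g) hZ.w.symm).trans (Category.assoc p f g)))⟩ :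
        RelSpec.QCAlg.directImage (f' ≫ g) ⟶ RelSpec.QCAlg.directImage (p ≫ f ≫ g)) := by
  have w' : p' ≫ f' ≫ g = p ≫ f ≫ g :=
    (Category.assoc p' f' g).symm.trans ((congrArg (· ≫ g) hZ.w.symm).trans (Category.assoc p f g))
  have hcomm : AffAlg.algHom g (f ≫ g) f rfl ≫ AffAlg.algHom (f ≫ g) (p ≫ f ≫ g) p rfl =
      AffAlg.algHom g (f' ≫ g) f' rfl ≫ AffAlg.algHom (f' ≫ g) (p ≫ f ≫ g) p' w' := by
    rw [algHom_comp, algHom_comp, algHom_congr g _ hZ.w]
  have hdesc : ∀ (B : RelSpec.QCAlg S) (a : RelSpec.QCAlg.directImage (f ≫ g) ⟶ B)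
      (b : RelSpec.QCAlg.directImage (f' ≫ g) ⟶ B),
      (AffAlg.algHom g (f ≫ g) f rfl ≫ (show AffAlg.alg (f ≫ g) ⟶ B.presheaf from a.hom) =
        AffAlg.algHom g (f' ≫ g) f' rfl ≫ (show AffAlg.alg (f' ≫ g) ⟶ B.presheaf from b.hom)) →
      ∃! d : RelSpec.QCAlg.directImage (p ≫ f ≫ g) ⟶ B,
        (AffAlg.algHom (f ≫ g) (p ≫ f ≫ g) p rfl ≫ (show AffAlg.alg (p ≫ f ≫ g) ⟶ B.presheaf from d.hom) = a.hom) ∧
        (AffAlg.algHom (f' ≫ g) (p ≫ f ≫ g) p' w' ≫ (show AffAlg.alg (p ≫ f ≫ g) ⟶ B.presheaf from d.hom) = b.hom) := by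
    intro B a b hab
    haveI := Groth.Agent.S8255.result B
    obtain ⟨k, wk, hk⟩ := exists_hom (f ≫ g) B a
    obtain ⟨k', wk', hk'⟩ := exists_hom (f' ≫ g) B b
    have hkk : k ≫ f = k' ≫ f' := by
      refine hom_unique g B (by rw [Category.assoc, wk]) (by rw [Category.assoc, wk']) ?_
      rw [← algHom_comp g (f ≫ g) B.π f rfl k wk, ← algHom_comp g (f' ≫ g) B.π f' rfl k' wk',
        Category.assoc, Category.assoc, hk, hk']
      exact hab
    let l := hZ.lift k k' hkk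
    have wl : l ≫ (p ≫ f ≫ g) = B.π := by
      rw [← Category.assoc, hZ.lift_fst, wk]
    let d : RelSpec.QCAlg.directImage (p ≫ f ≫ g) ⟶ B :=
      ⟨AffAlg.algHom (p ≫ f ≫ g) B.π l wl ≫ B.gammaMap, by
        show (p ≫ f ≫ g).c ≫ AffAlg.algHom (p ≫ f ≫ g) B.π l wl ≫ B.gammaMap = B.str
        rw [← Category.assoc, AffAlg.algHom_comm, B.π_c_gammaMap]⟩
    refine ⟨d, ⟨?_, ?_⟩, fun e ⟨he1, he2⟩ => ?_⟩
    · show AffAlg.algHom (f ≫ g) (p ≫ f ≫ g) p rfl ≫ AffAlg.algHom (p ≫ f ≫ g) B.π l wl ≫ B.gammaMap = _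
      rw [← Category.assoc, algHom_comp, algHom_congr (f ≫ g) _ (hZ.lift_fst k k' hkk)]
      exact hk
    · show AffAlg.algHom (f' ≫ g) (p ≫ f ≫ g) p' w' ≫ AffAlg.algHom (p ≫ f ≫ g) B.π l wl ≫ B.gammaMap = _
      rw [← Category.assoc, algHom_comp, algHom_congr (f' ≫ g) _ (hZ.lift_snd k k' hkk)]
      exact hk'
    · obtain ⟨m, wm, hm⟩ := exists_hom (p ≫ f ≫ g) B e
      have hml : m = l := by
        refine hZ.hom_ext ?_ ?_
        · rw [hZ.lift_fst]
          refine hom_unique (f ≫ g) B (by rw [Category.assoc, wm]) wk ?_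
          rw [hk, ← algHom_comp (f ≫ g) (p ≫ f ≫ g) B.π p rfl m wm, Category.assoc, hm]
          exact he1
        · rw [hZ.lift_snd]
          refine hom_unique (f' ≫ g) B (by rw [Category.assoc, w', wm]) wk' ?_
          rw [hk', ← algHom_comp (f' ≫ g) (p ≫ f ≫ g) B.π p' w' m wm, Category.assoc, hm]
          exact he2
      refine RelSpec.QCAlg.hom_ext (hm.symm.trans ?_)
      rw [algHom_congr (p ≫ f ≫ g) _ hml]
      rfl
  refine IsPushout.of_isColimit' ⟨RelSpec.QCAlg.hom_ext hcomm⟩ (PushoutCocone.IsColimit.mk _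
    (fun s => (hdesc s.pt s.inl s.inr (congrArg RelSpec.QCAlg.Hom.hom s.condition)).exists.choose)
    (fun s => RelSpec.QCAlg.hom_ext
      (hdesc s.pt s.inl s.inr (congrArg RelSpec.QCAlg.Hom.hom s.condition)).exists.choose_spec.1)
    (fun s => RelSpec.QCAlg.hom_ext
      (hdesc s.pt s.inl s.inr (congrArg RelSpec.QCAlg.Hom.hom s.condition)).exists.choose_spec.2)
    (fun s m h1 h2 => ?_))
  exact (hdesc s.pt s.inl s.inr (congrArg RelSpec.QCAlg.Hom.hom s.condition)).unique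
    ⟨congrArg RelSpec.QCAlg.Hom.hom h1, congrArg RelSpec.QCAlg.Hom.hom h2⟩
    (hdesc s.pt s.inl s.inr (congrArg RelSpec.QCAlg.Hom.hom s.condition)).exists.choose_spec

end Groth.Agent.S8256
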