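import Groth.Statements.S6279
import Mathlib
-- import your own Groth.Agent.* helpers here

set_option autoImplicit false
universe u
open CAlg

namespace Groth.Agent.S6279

/-- A finite product of normal rings is normal (a ring is normal when every localization at a prime is
an integrally closed domain). -/
theorem result {ι : Type u} [Finite ι] (A : ι → Type u) [∀ i, CommRing (A i)] (hA : ∀ i, EGA4.IsNormalRing (A i)) : EGA4.IsNormalRing (∀ i, A i) := by
  intro p hp
  cases nonempty_fintype ι
  classical
  obtain ⟨i, hi⟩ : ∃ i, Pi.single i (1 : A i) ∉ p := by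
    by_contra! hcon
    apply hp.ne_top
    rw [Ideal.eq_top_iff_one, ← Finset.univ_sum_single (1 : ∀ i, A i)]
    exact Submodule.sum_mem _ fun i _ => hcon i
  have hker : ∀ x : ∀ j, A j, x i = 0 → x ∈ p := by
    intro x hx
    refine (hp.mem_or_mem (?_ : Pi.single i (1 : A i) * x ∈ p)).resolve_left hi
    rw [show Pi.single i (1 : A i) * x = 0 by
      ext j; rcases eq_or_ne j i with rfl | h <;> simp [*]]
    exact zero_mem _
  let ev := Pi.evalRingHom A i
  have hs : Function.Surjective ev := Function.surjective_eval i
  let q := p.map ev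
  have hk : RingHom.ker ev ≤ p := fun x hx => hker x hx
  haveI : q.IsPrime := Ideal.map_isPrime_of_surjective hs hk
  have hqp : q.comap ev = p := by
    rw [Ideal.comap_map_of_surjective ev hs, ← RingHom.ker_eq_comap_bot, sup_eq_left.mpr hk]
  obtain ⟨h1, h2⟩ := hA i q
  have e : Localization.AtPrime (q.comap ev) ≃+* Localization.AtPrime q :=
    RingEquiv.ofBijective _ (Localization.AtPrime.mapPiEvalRingHom_bijective q)
  have key : ∀ (P : Ideal (∀ i, A i)) (hP : P.IsPrime), P = q.comap ev →
      IsDomain (Localization.AtPrime P) ∧ IsIntegrallyClosed (Localization.AtPrime P) := by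
    rintro P hP rfl
    exact ⟨e.injective.isDomain e.toRingHom, IsIntegrallyClosed.of_equiv e.symm⟩
  exact key p hp hqp.symm

end Groth.Agent.S6279
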