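import Groth.Statements.S13877
import Mathlib
-- import your own Groth.Agent.* helpers here

set_option autoImplicit false
universe u v
open Crimp

namespace Groth.Agent.S13877

open Module in
lemma span_discr_eq {R B : Type*} [CommRing R] [CommRing B] [Algebra R B] {ι : Type*} [Fintype ι] [DecidableEq ι]
    (b b' : Basis ι R B) :
    Ideal.span {Algebra.discr R ⇑b} = Ideal.span {Algebra.discr R ⇑b'} := by
  have h : Algebra.discr R ⇑b = (b'.toMatrix b).det ^ 2 * Algebra.discr R ⇑b' := by
    rw [← Algebra.discr_of_matrix_vecMul, Basis.toMatrix_map_vecMul]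
  have hu : IsUnit ((b'.toMatrix b).det ^ 2) := by
    refine IsUnit.pow 2 (IsUnit.of_mul_eq_one (b.toMatrix b').det ?_)
    rw [← Matrix.det_mul, Basis.toMatrix_mul_toMatrix_flip, Matrix.det_one]
  rw [h, Ideal.span_singleton_mul_left_unit hu]

open Module in
lemma discr_sub_eq {R B : Type*} [CommRing R] [IsDomain R] [CommRing B] [Algebra R B] {ι : Type*} [Fintype ι] [DecidableEq ι]
    (S : Subalgebra R B) (b : Basis ι R B) (ab : Basis ι R S) (a : ι → R) (ha : ∀ i, a i ≠ 0)
    (h : ∀ i, (ab i : B) = a i • b i) :
    Algebra.discr R ⇑ab = (∏ i, a i) ^ 2 * Algebra.discr R ⇑b := by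
  have hr : ∀ (x : S) (i : ι), b.repr (x : B) i = a i * ab.repr x i := by
    intro x i
    conv_lhs => rw [← ab.sum_repr x]
    simp only [AddSubmonoidClass.coe_finset_sum, Subalgebra.coe_smul, h, smul_smul]
    rw [b.repr_sum_self, mul_comm]
  have htr : ∀ x : S, Algebra.trace R S x = Algebra.trace R B (x : B) := by
    intro x
    simp only [Algebra.trace_apply, LinearMap.trace_eq_matrix_trace R ab, LinearMap.trace_eq_matrix_trace R b,
      Matrix.trace, Matrix.diag_apply, LinearMap.toMatrix_apply, LinearMap.mul_apply']
    refine Finset.sum_congr rfl fun i _ => mul_left_cancel₀ (ha i) ?_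
    show a i * ab.repr (x * ab i) i = a i * b.repr ((x : B) * b i) i
    rw [← hr (x * ab i) i, Subalgebra.coe_mul, h, mul_smul_comm, map_smul, Finsupp.smul_apply, smul_eq_mul]
  have h1 : Algebra.discr R ⇑ab = Algebra.discr R (fun i => (ab i : B)) := by
    rw [Algebra.discr_def, Algebra.discr_def]
    congr 1
    ext i j
    simp only [Algebra.traceMatrix_apply, Algebra.traceForm_apply, htr, Subalgebra.coe_mul]
  have h2 : (fun i => (ab i : B)) = Matrix.vecMul ⇑b ((Matrix.diagonal a).map (algebraMap R B)) := by
    funext i
    rw [Matrix.diagonal_map (map_zero _), Matrix.vecMul_diagonal, h, Algebra.smul_def, mul_comm]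
  rw [h1, h2, Algebra.discr_of_matrix_vecMul, Matrix.det_diagonal]

/-- Over R = k⟦t⟧ with k an algebraically closed field of characteristic zero, let S' be a commutative
R-algebra with an R-basis of size d whose discriminant generates the ideal (t ^ a) (a finite cover
of the formal disk of degree d, unramified over the punctured disk, with branch divisor (t ^ a)),
and let S be an R-subalgebra of S' with an R-basis of size d whose discriminant generates (t ^ b) (a
crimp with branch divisor (t ^ b)). Then t ^ b annihilates S' / S and twice the R-length of S' / S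
plus a equals b. (The published statement is for a family of such subalgebras over a k-scheme T and
also asserts T-flatness of the quotient; this row is its restriction to T a point.) -/
theorem result {k : Type u} [Field k] [IsAlgClosed k] [CharZero k]
    {St : Type v} [CommRing St] [Algebra (PowerSeries k) St] (d a b : ℕ)
    (bt : Module.Basis (Fin d) (PowerSeries k) St)
    (ha : Ideal.span {Algebra.discr (PowerSeries k) ⇑bt} = Ideal.span {(PowerSeries.X : PowerSeries k) ^ a})
    (S : Subalgebra (PowerSeries k) St) (bS : Module.Basis (Fin d) (PowerSeries k) S)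
    (hb : Ideal.span {Algebra.discr (PowerSeries k) ⇑bS} = Ideal.span {(PowerSeries.X : PowerSeries k) ^ b}) :
    (∀ q : St ⧸ Subalgebra.toSubmodule S, ((PowerSeries.X : PowerSeries k) ^ b) • q = 0) ∧
    2 * Module.length (PowerSeries k) (St ⧸ Subalgebra.toSubmodule S) + (a : ℕ∞) = (b : ℕ∞) := by
  classical
  set N := Subalgebra.toSubmodule S with hN
  have hrank : Module.finrank (PowerSeries k) N = Module.finrank (PowerSeries k) St :=
    (Module.finrank_eq_card_basis bS).trans (Module.finrank_eq_card_basis bt).symm
  let c := Submodule.smithNormalFormCoeffs bt hrank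
  let b' := Submodule.smithNormalFormTopBasis bt hrank
  let ab : Module.Basis (Fin d) (PowerSeries k) S := Submodule.smithNormalFormBotBasis bt hrank
  have hc : ∀ i, c i ≠ 0 := Submodule.smithNormalFormCoeffs_ne_zero bt hrank
  have hd := discr_sub_eq S b' ab c hc (Submodule.smithNormalFormBotBasis_def bt hrank)
  choose n hn using fun i => IsDiscreteValuationRing.associated_pow_irreducible (hc i) (PowerSeries.X_irreducible (R := k))
  have hspan : ∀ i, Ideal.span {c i} = Ideal.span {(PowerSeries.X : PowerSeries k) ^ n i} := fun i =>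
    Ideal.span_singleton_eq_span_singleton.2 (hn i)
  have hsum : 2 * (∑ i, n i) + a = b := by
    have e : Ideal.span {(PowerSeries.X : PowerSeries k) ^ b} = Ideal.span {(PowerSeries.X : PowerSeries k) ^ (2 * (∑ i, n i) + a)} := by
      have hp : Ideal.span {∏ i, c i} = Ideal.span {(PowerSeries.X : PowerSeries k) ^ (∑ i, n i)} := by
        rw [← Ideal.prod_span_singleton, ← Finset.prod_pow_eq_pow_sum, ← Ideal.prod_span_singleton]
        exact Finset.prod_congr rfl fun i _ => hspan i
      rw [← hb, span_discr_eq bS ab, hd, ← Ideal.span_singleton_mul_span_singleton, ← Ideal.span_singleton_pow, hp,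
        span_discr_eq b' bt, ha, Ideal.span_singleton_pow, Ideal.span_singleton_mul_span_singleton,
        ← pow_mul, mul_comm _ 2, ← pow_add]
    rw [Ideal.span_singleton_eq_span_singleton] at e
    have h1 := pow_dvd_pow_iff (PowerSeries.X_ne_zero (R := k)) PowerSeries.X_irreducible.not_isUnit |>.1 e.dvd
    have h2 := pow_dvd_pow_iff (PowerSeries.X_ne_zero (R := k)) PowerSeries.X_irreducible.not_isUnit |>.1 e.symm.dvd
    omega
  let e := Submodule.quotientEquivPiSpan N bt hrank
  refine ⟨fun q => e.injective ?_, ?_⟩
  · rw [map_smul, map_zero]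
    funext i
    obtain ⟨r, hr⟩ := Submodule.Quotient.mk_surjective _ (e q i)
    rw [Pi.smul_apply, ← hr, ← Submodule.Quotient.mk_smul, Pi.zero_apply, Submodule.Quotient.mk_eq_zero,
      smul_eq_mul]
    refine Ideal.mul_mem_right _ _ ?_
    change PowerSeries.X ^ b ∈ Ideal.span {c i}
    rw [hspan i, Ideal.mem_span_singleton]
    refine pow_dvd_pow _ ?_
    have := Finset.single_le_sum (f := n) (fun j _ => Nat.zero_le _) (Finset.mem_univ i)
    omega
  · have hl : ∀ i, Module.length (PowerSeries k) (PowerSeries k ⧸ Ideal.span {c i}) = n i := by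
      intro i
      rw [hspan i, ← Ideal.span_singleton_pow, ← PowerSeries.maximalIdeal_eq_span_X,
        IsDiscreteValuationRing.length_quotient_pow_maximalIdeal]
    rw [e.length_eq, Module.length_pi_of_fintype, Finset.sum_congr rfl fun i _ => hl i, ← Nat.cast_sum]
    exact_mod_cast hsum

end Groth.Agent.S13877
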