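import Groth.Statements.S10897
import Groth.Agent.Cubic.Restrict

set_option autoImplicit false
universe u
open Cubic

namespace Groth.Agent.S10897

open Groth.Agent.Cubic MvPolynomial
open Groth.Agent.Cubic.Basic (B)


/-- Over an algebraically closed field of characteristic zero, through a point s of a smooth cubic
surface S = V_+(f) ⊂ P^3 there pass at most three lines contained in S, and these lines are
coplanar. With s given by a nonzero vector v with f(v) = 0, the lines through s on S are the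
2-dimensional subspaces of k^4 containing v on which f vanishes; there are at most three of them and
one 3-dimensional subspace contains them all. -/
theorem result (k : Type u) [Field k] [IsAlgClosed k] [CharZero k]
    (f : MvPolynomial (Fin 4) k) (hf : f.IsHomogeneous 3) (hf0 : f ≠ 0)
    (hsm : ∀ v : Fin 4 → k, v ≠ 0 → MvPolynomial.eval v f = 0 →
      ∃ i : Fin 4, MvPolynomial.eval v (MvPolynomial.pderiv i f) ≠ 0)
    (v : Fin 4 → k) (hv : v ≠ 0) (hfv : MvPolynomial.eval v f = 0) :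
    {U : Submodule k (Fin 4 → k) | v ∈ U ∧ (Module.finrank k ↥U = 2 ∧ ∀ u ∈ U, MvPolynomial.eval u f = 0)}.Finite ∧
      {U : Submodule k (Fin 4 → k) | v ∈ U ∧ (Module.finrank k ↥U = 2 ∧ ∀ u ∈ U, MvPolynomial.eval u f = 0)}.ncard ≤ 3 ∧
      ∃ H : Submodule k (Fin 4 → k), Module.finrank k ↥H = 3 ∧
        ∀ U : Submodule k (Fin 4 → k), v ∈ U → (Module.finrank k ↥U = 2 ∧ ∀ u ∈ U, MvPolynomial.eval u f = 0) → U ≤ H := by
  classical
  set l := Basic.Bₗ f v with hldef
  have hne := Basic.exists_B_ne_of_pderiv_ne (hsm v hv hfv)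
  have hl0 : l ≠ 0 := fun hz => by
    obtain ⟨w, hw⟩ := hne
    exact hw (by simpa [hldef] using LinearMap.congr_fun hz w)
  have hlv : l v = 0 := by
    show B f v v = 0
    rw [Basic.B_self hf, hfv, mul_zero]
  obtain ⟨Fr⟩ := Restrict.nonempty_frame l v hl0 hv hlv
  have hB : ∀ t w : k, B f v (t • Fr.u₁ + w • Fr.u₂) = 0 := fun t w => by
    show l _ = 0
    simp [Fr.l₁, Fr.l₂]
  have hfr := Restrict.eval_frame hf hfv Fr hB
  let Cf : k → k → k := fun t w => MvPolynomial.eval (t • Fr.u₁ + w • Fr.u₂) f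
  let Qf : k → k → k := fun t w =>
    B f Fr.u₁ v * t ^ 2 + B (Basic.dd v f) Fr.u₁ Fr.u₂ * (t * w) + B f Fr.u₂ v * w ^ 2
  -- the possible directions
  obtain ⟨T, hT3, hT⟩ : ∃ T : Finset (Fin 4 → k), T.card ≤ 3 ∧ ∀ t w : k, Cf t w = 0 → Qf t w = 0 →
      ∃ e ∈ T, ∃ s : k, t • Fr.u₁ + w • Fr.u₂ = s • e := by
    let pt : k → k → (Fin 4 → k) := fun p q => q • Fr.u₁ + (-p) • Fr.u₂
    have hpt : ∀ p q t w : k, (p ≠ 0 ∨ q ≠ 0) → p * t + q * w = 0 →
        ∃ s : k, t • Fr.u₁ + w • Fr.u₂ = s • pt p q := by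
      intro p q t w h0 h
      obtain ⟨s, rfl, rfl⟩ := Restrict.binary_linear_zero h0 h
      exact ⟨s, by simp only [pt]; module⟩
    obtain ⟨p₁, q₁, p₂, q₂, hQ⟩ :=
      Restrict.binary_quad (B f Fr.u₁ v) (B (Basic.dd v f) Fr.u₁ Fr.u₂) (B f Fr.u₂ v)
    by_cases h : (p₁ ≠ 0 ∨ q₁ ≠ 0) ∧ (p₂ ≠ 0 ∨ q₂ ≠ 0)
    · refine ⟨{pt p₁ q₁, pt p₂ q₂}, Finset.card_le_two.trans (by norm_num), fun t w _ hq => ?_⟩
      simp only [Qf, hQ] at hq
      rcases mul_eq_zero.mp hq with h' | h'
      · exact ⟨_, by simp, hpt _ _ t w h.1 h'⟩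
      · exact ⟨_, by simp, hpt _ _ t w h.2 h'⟩
    · have hQ0 : ∀ t w, Qf t w = 0 := fun t w => by
        simp only [Qf, hQ]
        rcases not_and_or.mp h with h | h <;> push Not at h <;> rw [h.1, h.2] <;> ring
      obtain ⟨r₁, s₁, r₂, s₂, r₃, s₃, hC⟩ := Restrict.binary_cubic (MvPolynomial.eval Fr.u₁ f)
        (B f Fr.u₁ Fr.u₂) (B f Fr.u₂ Fr.u₁) (MvPolynomial.eval Fr.u₂ f)
      by_cases h' : (r₁ ≠ 0 ∨ s₁ ≠ 0) ∧ (r₂ ≠ 0 ∨ s₂ ≠ 0) ∧ (r₃ ≠ 0 ∨ s₃ ≠ 0)
      · refine ⟨{pt r₁ s₁, pt r₂ s₂, pt r₃ s₃}, Finset.card_le_three, fun t w hc _ => ?_⟩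
        simp only [Cf] at hc
        rw [Restrict.eval_pair hf, hC] at hc
        rcases mul_eq_zero.mp hc with h'' | h''
        · rcases mul_eq_zero.mp h'' with h'' | h''
          · exact ⟨_, by simp, hpt _ _ t w h'.1 h''⟩
          · exact ⟨_, by simp, hpt _ _ t w h'.2.1 h''⟩
        · exact ⟨_, by simp, hpt _ _ t w h'.2.2 h''⟩
      · -- the plane would lie on the surface
        exfalso
        have hC0 : ∀ t w, Cf t w = 0 := fun t w => by
          simp only [Cf]
          rw [Restrict.eval_pair hf, hC]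
          rcases not_and_or.mp h' with h' | h' <;> [skip; rcases not_and_or.mp h' with h' | h'] <;>
            push Not at h' <;> rw [h'.1, h'.2] <;> ring
        have hall : ∀ s t w : k, MvPolynomial.eval (s • v + t • Fr.u₁ + w • Fr.u₂) f = 0 := by
          intro s t w
          rw [hfr, show MvPolynomial.eval (t • Fr.u₁ + w • Fr.u₂) f = 0 from hC0 t w, zero_add]
          exact mul_eq_zero_of_right _ (hQ0 t w)
        obtain ⟨y, z, hyz, hz⟩ := Restrict.exists_binary_zero (B f v Fr.u₀)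
          (B (Basic.dd Fr.u₁ f) v Fr.u₀) (B f Fr.u₁ Fr.u₀)
        set x := y • v + z • Fr.u₁ with hxdef
        have hx0 : x ≠ 0 := fun hx => by
          obtain ⟨e1, e2, -⟩ := Restrict.frame_li Fr (s := y) (t := z) (w := 0)
            (by rw [zero_smul, add_zero]; exact hx)
          tauto
        have hxe : ∀ (s : k) (x' : Fin 4 → k), l x' = 0 → MvPolynomial.eval (x + s • x') f = 0 := by
          intro s x' hx'
          have hd := Fr.decomp x'
          rw [hx', zero_smul, sub_zero] at hd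
          rw [hd, hxdef, show y • v + z • Fr.u₁ + s • (Fr.c₁ x' • v + Fr.c₂ x' • Fr.u₁ + Fr.c₃ x' • Fr.u₂) =
            (y + s * Fr.c₁ x') • v + (z + s * Fr.c₂ x') • Fr.u₁ + (s * Fr.c₃ x') • Fr.u₂ by module]
          exact hall _ _ _
        have hfx : MvPolynomial.eval x f = 0 := by simpa using hxe 0 0 (map_zero l)
        obtain ⟨d, hd⟩ := Basic.exists_B_ne_of_pderiv_ne (hsm x hx0 hfx)
        apply hd
        have hu0 : B f x Fr.u₀ = 0 := by
          rw [hxdef, Basic.B_line_left hf, Basic.B_smul_left hf]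
          have e : B (Basic.dd Fr.u₁ f) (y • v) Fr.u₀ = y * B (Basic.dd Fr.u₁ f) v Fr.u₀ := by
            rw [Basic.B_symm_deg_two (Basic.isHomogeneous_dd _ hf), Basic.B_smul_right,
              Basic.B_symm_deg_two (Basic.isHomogeneous_dd _ hf)]
          rw [e]
          linear_combination hz
        have hker : ∀ x', l x' = 0 → B f x x' = 0 := fun x' hx' => by
          have e1 := hxe 1 x' hx'
          have e2 := hxe (-1) x' hx'
          have e3 : MvPolynomial.eval x' f = 0 := by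
            have hd := Fr.decomp x'
            rw [hx', zero_smul, sub_zero] at hd
            rw [hd]; exact hall _ _ _
          rw [Basic.eval_line hf, hfx, e3] at e1 e2
          linear_combination (e1 - e2) / 2
        have hk' := hker (d - l d • Fr.u₀) (by simp [Fr.l₀])
        rw [Basic.B_sub_right, Basic.B_smul_right, hu0] at hk'
        simpa using hk'
  have hsub : {U : Submodule k (Fin 4 → k) | v ∈ U ∧
      (Module.finrank k ↥U = 2 ∧ ∀ u ∈ U, MvPolynomial.eval u f = 0)} ⊆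
      ↑(T.image fun e => Submodule.span k ({v, e} : Set (Fin 4 → k))) := by
    rintro U ⟨hvU, hU2, hUS⟩
    obtain ⟨u, hu, hu'⟩ := Restrict.exists_notMem_of_finrank_lt (U := Submodule.span k {v}) (W := U)
      (by rw [finrank_span_singleton hv, hU2]; norm_num)
    have hlu : l u = 0 := (Restrict.line_props hf hfv hvU hUS hu).1
    have hd := Fr.decomp u
    rw [hlu, zero_smul, sub_zero] at hd
    set r := Fr.c₂ u • Fr.u₁ + Fr.c₃ u • Fr.u₂ with hrdef
    have hrU : r ∈ U := by
      have : r = u - Fr.c₁ u • v := by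
        conv_rhs => arg 1; rw [hd]
        rw [hrdef]; module
      rw [this]
      exact U.sub_mem hu (U.smul_mem _ hvU)
    have hr0 : r ≠ 0 := fun hr => hu' (Submodule.mem_span_singleton.mpr ⟨Fr.c₁ u, by
      conv_rhs => rw [hd, add_assoc, ← hrdef, hr, add_zero]⟩)
    have hQ : Qf (Fr.c₂ u) (Fr.c₃ u) = 0 := by
      have e1 := hfr 1 (Fr.c₂ u) (Fr.c₃ u)
      rw [hUS _ (by rw [add_assoc, ← hrdef]; exact U.add_mem (U.smul_mem _ hvU) hrU),
        hUS _ (show Fr.c₂ u • Fr.u₁ + Fr.c₃ u • Fr.u₂ ∈ U from hrU), one_mul, zero_add] at e1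
      exact e1.symm
    obtain ⟨e, he, s, hs⟩ := hT _ _ (hUS r hrU) hQ
    simp only [Finset.coe_image, Set.mem_image, Finset.mem_coe]
    refine ⟨e, he, ?_⟩
    rw [← hrdef] at hs
    have hs0 : s ≠ 0 := fun h => hr0 (by rw [hs, h, zero_smul])
    have heU : e ∈ U := by
      have := U.smul_mem s⁻¹ hrU
      rwa [hs, smul_smul, inv_mul_cancel₀ hs0, one_smul] at this
    refine Submodule.eq_of_le_of_finrank_le (Submodule.span_le.mpr ?_) ?_
    · rintro x (rfl | rfl)
      · exact hvU
      · exact heU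
    · have hli : LinearIndependent k ![v, e] := (LinearIndependent.pair_iff' hv).mpr fun c hc =>
        hu' (Submodule.mem_span_singleton.mpr ⟨Fr.c₁ u + s * c, by
          conv_rhs => rw [hd, add_assoc, ← hrdef, hs, ← hc]
          module⟩)
      have h2 := finrank_span_eq_card hli
      rw [Matrix.range_cons_cons_empty, Fintype.card_fin] at h2
      omega
  refine ⟨(Finset.finite_toSet _).subset hsub, ?_, LinearMap.ker l,
    Eckardt.finrank_ker_eq_three l hl0, fun U hvU hU u hu =>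
      (Restrict.line_props hf hfv hvU hU.2 hu).1⟩
  refine (Set.ncard_le_ncard hsub (Finset.finite_toSet _)).trans ?_
  rw [Set.ncard_coe_finset]
  exact Finset.card_image_le.trans hT3

end Groth.Agent.S10897
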