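import Groth.Statements.S1341
import Groth.Agent.Wt.CMScheme
import Groth.Agent.FlatMor.FibreStalk
import Groth.Agent.GeomFieldLib.CMTensor
import Groth.Agent.RelDim.CMLocus

set_option autoImplicit false
universe u
open FlatMor

namespace Groth.Agent.S1341

open AlgebraicGeometry CategoryTheory Limits IsLocalRing

/-- Every nonempty open of a locally Noetherian scheme contains a point with Artinian local ring. -/
theorem exists_artinian_stalk {Z : Scheme.{u}} [IsLocallyNoetherian Z] (W : Set Z) (hW : IsOpen W)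
    (hne : W.Nonempty) : ∃ z ∈ W, IsArtinianRing (Z.presheaf.stalk z) := by
  obtain ⟨z₀, hz₀⟩ := hne
  obtain ⟨V, hV, hz₀V, hVW⟩ := exists_isAffineOpen_mem_and_subset (U := ⟨W, hW⟩) (x := z₀) hz₀
  have : Nonempty V := ⟨⟨z₀, hz₀V⟩⟩
  have : IsNoetherianRing Γ(Z, V) := IsLocallyNoetherian.component_noetherian ⟨V, hV⟩
  obtain ⟨P, hP, -⟩ := Ideal.exists_minimalPrimes_le (I := (⊥ : Ideal Γ(Z, V)))
    (J := (hV.primeIdealOf ⟨z₀, hz₀V⟩).asIdeal) bot_le
  have : P.IsPrime := hP.1.1
  let pt : PrimeSpectrum Γ(Z, V) := ⟨P, hP.1.1⟩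
  have hmem : hV.fromSpec pt ∈ V := hV.range_fromSpec.le (Set.mem_range_self pt)
  refine ⟨hV.fromSpec pt, hVW hmem, ?_⟩
  let : Algebra Γ(Z, V) (Z.presheaf.stalk (hV.fromSpec pt)) :=
    (Z.presheaf.germ V _ hmem).hom.toAlgebra
  have : IsLocalization P.primeCompl (Z.presheaf.stalk (hV.fromSpec pt)) :=
    hV.isLocalization_stalk' pt hmem
  have : IsNoetherianRing (Localization.AtPrime P) :=
    IsLocalization.isNoetherianRing P.primeCompl _ inferInstance
  have : Ring.KrullDimLE 0 (Localization.AtPrime P) := .of_isLocalization _ hP _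
  have : IsArtinianRing (Localization.AtPrime P) :=
    isArtinianRing_iff_isNoetherianRing_krullDimLE_zero.mpr ⟨inferInstance, inferInstance⟩
  let e : Localization.AtPrime P ≃ₐ[Γ(Z, V)] Z.presheaf.stalk (hV.fromSpec pt) :=
    IsLocalization.algEquiv P.primeCompl _ _
  exact e.toRingEquiv.surjective.isArtinianRing

open AlgebraicGeometry CategoryTheory Limits in
/-- Let f : X ⟶ S be flat and locally of finite presentation. Then the set of points of X at which f is
Cohen–Macaulay is open in X, and its intersection with every fibre of f is dense in that fibre. -/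
theorem result {X S : Scheme.{u}} (f : X ⟶ S) [Flat f] [LocallyOfFinitePresentation f] :
    IsOpen {x : ↑X | MoreMor.IsCMAt f x} ∧ ∀ s : S, Dense ((f.fiberι s) ⁻¹' {x : ↑X | MoreMor.IsCMAt f x}) := by
  constructor
  · rw [isOpen_iff_forall_mem_open]
    intro x hx
    obtain ⟨U, hU, V, hV, hVU, hxV⟩ := EtStruct.exists_chart f x
    let := (f.appLE U V hVU).hom.toAlgebra
    have : Algebra.FinitePresentation Γ(S, U) Γ(X, V) := f.finitePresentation_appLE hU hV hVU
    let T : Set V := hV.primeIdealOf ⁻¹' {q | RelDim.IsCMPoint Γ(S, U) Γ(X, V) q}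
    have hT : IsOpen T :=
      RelDim.isOpen_setOf_isCMPoint.preimage hV.isoSpec.hom.continuous
    refine ⟨Subtype.val '' T, ?_, V.2.isOpenMap_subtype_val _ hT,
      ⟨⟨x, hxV⟩, (Wt.CMBase.isCMAt_iff_chart f hU hV hVU hxV).mp hx, rfl⟩⟩
    rintro _ ⟨⟨y, hy⟩, hyT, rfl⟩
    exact (Wt.CMBase.isCMAt_iff_chart f hU hV hVU hy).mpr hyT
  · intro s
    rw [dense_iff_inter_open]
    intro W hW hne
    have := Wt.CMBase.isLocallyNoetherian_fiber f s
    obtain ⟨z, hzW, hz⟩ := exists_artinian_stalk W hW hne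
    refine ⟨z, hzW, (FlatMor.CMFlat.isCMAt_iff f _).mpr ⟨Flat.stalkMap f _, ?_⟩⟩
    let φ := ((f.fiberι s).stalkMap z).hom
    let e : _ ⧸ RingHom.ker φ ≃+* (f.fiber s).presheaf.stalk z :=
      RingHom.quotientKerEquivOfSurjective ((f.fiberι s).stalkMap_surjective z)
    have he := FlatMor.FibreStalk.ker_stalkMap_fiberι f s z
    refine FlatMor.CMFlat.isCM_of_ringEquiv ((Ideal.quotEquivOfEq he.symm).trans e).symm ?_
    have h := (GeomFieldLib.isCohenMacaulayRing_of_isArtinianRing
      ((f.fiber s).presheaf.stalk z)).isCohenMacaulayLocalRing_localization (maximalIdeal _)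
    exact FlatMor.CMFlat.isCM_of_ringEquiv (IsLocalization.atUnits _
      (maximalIdeal ((f.fiber s).presheaf.stalk z)).primeCompl
      (fun u hu => not_not.mp hu)).symm.toRingEquiv h

end Groth.Agent.S1341
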