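import Groth.Statements.S1342
import Groth.Agent.Wt.CMScheme
-- Template for statement S1342 (row 1342; see the milestone table for weights).
-- Copy to Groth/Agent/S1342.lean and replace the sorry. The statement below is byte-identical to the frozen
-- statement FlatMor.GrothFrozen.S1342 (Groth/Statements/S1342.lean; the theorem FlatMor.cmLocus_baseChange);
-- the grader kernel-checks Groth.Agent.S1342.result against that frozen type. Keep the theorem IN THIS FILE
-- (a `result` declared elsewhere and merely imported here is not credited); helpers may live anywhere
-- under Groth/Agent/.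

set_option autoImplicit false
universe u
open FlatMor

namespace Groth.Agent.S1342

open AlgebraicGeometry CategoryTheory Limits in
/-- For a flat morphism locally of finite presentation, the formation of the Cohen–Macaulay locus
commutes with arbitrary base change: in a cartesian square the Cohen–Macaulay locus of the
base-changed morphism is the preimage of the Cohen–Macaulay locus of f. -/
theorem result {X S X' S' : Scheme.{u}} (f : X ⟶ S) [Flat f] [LocallyOfFinitePresentation f]
    (f' : X' ⟶ S') (g' : X' ⟶ X) (g : S' ⟶ S) (hc : IsPullback g' f' f g) :
    {x' : ↑X' | MoreMor.IsCMAt f' x'} = g' ⁻¹' {x : ↑X | MoreMor.IsCMAt f x} := by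
  ext x'
  have h := Wt.CMBase.isCMAt_baseChange_iff hc x'
    (Wt.CMBase.isLocallyNoetherian_fiber f _) (Or.inl inferInstance)
  refine ⟨fun h' => h.2 h' (Flat.stalkMap f _), fun h' => h.1 h' ?_⟩
  have : Flat f' := MorphismProperty.of_isPullback hc ‹Flat f›
  exact Flat.stalkMap f' x'

end Groth.Agent.S1342
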