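import Groth.Statements.S9766
import Groth.Agent.FlatMor.CMFlat
-- import your own Groth.Agent.* helpers here

set_option autoImplicit false
universe u
open FlatMor

namespace Groth.Agent.S9766

open AlgebraicGeometry CategoryTheory Limits in
/-- For morphisms f : X ⟶ Y, g : Y ⟶ Z and a point x of X whose fibre under f ≫ g is locally Noetherian,
Cohen–Macaulayness of f at x (flat at x with Cohen–Macaulay local ring of the fibre at x) together
with that of g at f x implies that f ≫ g is Cohen–Macaulay at x. The published statement assumes all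
fibres of f, g and g ∘ f locally Noetherian; this row assumes only that the fibre of f ≫ g through x
is, which is all the argument uses. -/
theorem result {X Y Z : Scheme.{u}} (f : X ⟶ Y) (g : Y ⟶ Z) (x : X)
    (hN : IsLocallyNoetherian ((f ≫ g).fiber (g (f x))))
    (hf : MoreMor.IsCMAt f x) (hg : MoreMor.IsCMAt g (f x)) : MoreMor.IsCMAt (f ≫ g) x := by
  open IsLocalRing Groth.Agent.FlatMor.CMFlat in
  · rw [isCMAt_iff] at hf hg ⊢
    let A := Z.presheaf.stalk (g (f x))
    let B := Y.presheaf.stalk (f x)
    let C := X.presheaf.stalk x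
    let := (g.stalkMap (f x)).hom.toAlgebra
    let := (f.stalkMap x).hom.toAlgebra
    let := (g.stalkMap (f x) ≫ f.stalkMap x).hom.toAlgebra
    have : IsScalarTower A B C := IsScalarTower.of_algebraMap_eq' rfl
    have : IsLocalHom (algebraMap A B) := inferInstanceAs (IsLocalHom (g.stalkMap (f x)).hom)
    have : IsLocalHom (algebraMap B C) := inferInstanceAs (IsLocalHom (f.stalkMap x).hom)
    have : Module.Flat B C := hf.1
    have : IsNoetherianRing (B ⧸ (maximalIdeal A).map (algebraMap A B)) :=
      hg.2.toIsNoetherian
    have hD := isNoetherianRing_quot (f ≫ g) x hN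
    rw [Scheme.Hom.stalkMap_comp] at hD
    have : IsNoetherianRing (C ⧸ (maximalIdeal A).map (algebraMap A C)) := hD
    refine ⟨?_, ?_⟩
    · rw [Scheme.Hom.stalkMap_comp]; exact hg.1.comp hf.1
    · rw [Scheme.Hom.stalkMap_comp]; exact (cm_comp A B C).mpr ⟨hg.2, hf.2⟩

end Groth.Agent.S9766
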