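import Groth.Statements.S9767
import Groth.Agent.FlatMor.CMFlat
-- import your own Groth.Agent.* helpers here

set_option autoImplicit false
universe u
open FlatMor

namespace Groth.Agent.S9767

open AlgebraicGeometry CategoryTheory Limits in
/-- For f : X ⟶ Y, g : Y ⟶ Z and a point x of X such that the fibre of f through x and the fibre of g
through f x are locally Noetherian, suppose the stalk map of f at x is flat and f ≫ g is
Cohen–Macaulay at x; then Cohen–Macaulayness passes to f at x and to g at the image point f x. The
published statement assumes all fibres of f, g and g ∘ f locally Noetherian; this row assumes only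
the fibres of f and g through x and f x. -/
theorem result {X Y Z : Scheme.{u}} (f : X ⟶ Y) (g : Y ⟶ Z) (x : X)
    (hNf : IsLocallyNoetherian (f.fiber (f x))) (hNg : IsLocallyNoetherian (g.fiber (g (f x))))
    (h : MoreMor.IsCMAt (f ≫ g) x) (hfl : (f.stalkMap x).hom.Flat) : MoreMor.IsCMAt f x ∧ MoreMor.IsCMAt g (f x) := by
  open IsLocalRing Groth.Agent.FlatMor.CMFlat in
  · rw [isCMAt_iff] at h ⊢
    rw [isCMAt_iff]
    let A := Z.presheaf.stalk (g (f x))
    let B := Y.presheaf.stalk (f x)
    let C := X.presheaf.stalk x
    let := (g.stalkMap (f x)).hom.toAlgebra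
    let := (f.stalkMap x).hom.toAlgebra
    let := (g.stalkMap (f x) ≫ f.stalkMap x).hom.toAlgebra
    have : IsScalarTower A B C := IsScalarTower.of_algebraMap_eq' rfl
    have : IsLocalHom (algebraMap A B) := inferInstanceAs (IsLocalHom (g.stalkMap (f x)).hom)
    have : IsLocalHom (algebraMap B C) := inferInstanceAs (IsLocalHom (f.stalkMap x).hom)
    have : Module.Flat B C := hfl
    have : IsNoetherianRing (B ⧸ (maximalIdeal A).map (algebraMap A B)) :=
      isNoetherianRing_quot g (f x) hNg
    have hD := h.2
    rw [Scheme.Hom.stalkMap_comp] at hD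
    have : IsNoetherianRing (C ⧸ (maximalIdeal A).map (algebraMap A C)) := hD.toIsNoetherian
    obtain ⟨hB, hE⟩ := (cm_comp A B C).mp hD
    exact ⟨⟨hfl, hE⟩, Groth.Agent.Thick.FlatCancel.flat_stalkMap_of_comp f g x hfl h.1, hB⟩

end Groth.Agent.S9767
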