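import Groth.Statements.S7566
-- import your own Groth.Agent.* helpers here

set_option autoImplicit false
universe u
open PtTop

namespace Groth.Agent.S7566

/-- Let X be a quasi-compact topological space whose quasi-compact opens form a basis, any two of them
meeting in a quasi-compact set. Then for every x ∈ X the connected component of x equals the
intersection of every clopen subset of X that contains x. -/
theorem result {X : Type u} [TopologicalSpace X]
    [CompactSpace X] [PrespectralSpace X] [QuasiSeparatedSpace X] (x : X) :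
    connectedComponent x = ⋂₀ {Z : Set X | IsClopen Z ∧ x ∈ Z} := by
  refine subset_antisymm (Set.subset_sInter fun Z hZ =>
    hZ.1.connectedComponent_subset hZ.2) ?_
  have hxS : x ∈ ⋂₀ {Z : Set X | IsClopen Z ∧ x ∈ Z} := Set.mem_sInter.mpr fun Z h => h.2
  have hS : IsClosed (⋂₀ {Z : Set X | IsClopen Z ∧ x ∈ Z}) :=
    isClosed_sInter fun Z h => h.1.isClosed
  set S := ⋂₀ {Z : Set X | IsClopen Z ∧ x ∈ Z} with hSdef
  refine IsPreconnected.subset_connectedComponent ?_ hxS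
  rw [isPreconnected_iff_subset_of_fully_disjoint_closed hS]
  intro a b ha hb hab hd
  -- finite unions of compact opens separating `S ∩ a` and `S ∩ b`
  have grow : ∀ K W : Set X, IsCompact K → IsOpen W → K ⊆ W →
      ∃ U, IsOpen U ∧ IsCompact U ∧ K ⊆ U ∧ U ⊆ W := by
    intro K W hK hW hKW
    refine hK.induction_on (p := fun K => ∃ U, IsOpen U ∧ IsCompact U ∧ K ⊆ U ∧ U ⊆ W)
      ⟨∅, isOpen_empty, isCompact_empty, subset_rfl, Set.empty_subset _⟩
      (fun s t hst ⟨U, h1, h2, h3, h4⟩ => ⟨U, h1, h2, hst.trans h3, h4⟩)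
      (fun s t ⟨U, h1, h2, h3, h4⟩ ⟨V, g1, g2, g3, g4⟩ => ⟨U ∪ V, h1.union g1, h2.union g2,
        Set.union_subset_union h3 g3, Set.union_subset h4 g4⟩) fun y hy => ?_
    obtain ⟨V, ⟨hVo, hVc⟩, hyV, hVW⟩ :=
      PrespectralSpace.isTopologicalBasis.exists_subset_of_mem_open (hKW hy) hW
    exact ⟨V, mem_nhdsWithin_of_mem_nhds (hVo.mem_nhds hyV), V, hVo, hVc, subset_rfl, hVW⟩
  obtain ⟨U, hUo, hUc, haU, hUb⟩ := grow (S ∩ a) bᶜ (hS.inter ha).isCompact hb.isOpen_compl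
    fun y hy hyb => hd.le_bot ⟨hy.2, hyb⟩
  obtain ⟨V, hVo, hVc, hbV, hVa⟩ := grow (S ∩ b) aᶜ (hS.inter hb).isCompact ha.isOpen_compl
    fun y hy hya => hd.le_bot ⟨hya, hy.2⟩
  have hK : IsCompact (U ∩ V) :=
    QuasiSeparatedSpace.inter_isCompact U V hUo hUc hVo hVc
  -- a clopen set around `x` inside `U ∪ V` and missing `U ∩ V`
  have hbad : IsCompact ((U ∪ V)ᶜ ∪ (U ∩ V)) :=
    (hUo.union hVo).isClosed_compl.isCompact.union hK
  have hdis : ((U ∪ V)ᶜ ∪ (U ∩ V)) ∩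
      ⋂ Z : {Z : Set X // IsClopen Z ∧ x ∈ Z}, Z.1 = ∅ := by
    refine Set.eq_empty_iff_forall_notMem.mpr ?_
    rintro y ⟨hy, hyS⟩
    have hyS : y ∈ S := Set.mem_sInter.mpr fun Z hZ => Set.mem_iInter.mp hyS ⟨Z, hZ⟩
    rcases hab hyS with h | h <;> rcases hy with hy | hy
    · exact hy (Or.inl (haU ⟨hyS, h⟩))
    · exact hVa hy.2 h
    · exact hy (Or.inr (hbV ⟨hyS, h⟩))
    · exact hUb hy.1 h
  obtain ⟨t, ht⟩ := hbad.elim_finite_subfamily_closed _
    (fun Z : {Z : Set X // IsClopen Z ∧ x ∈ Z} => Z.2.1.1) hdis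
  have hW : IsClopen (⋂ Z ∈ t, Z.1) := isClopen_biInter_finset fun Z _ => Z.2.1
  have hxW : x ∈ (⋂ Z ∈ t, Z.1) := Set.mem_iInter₂.mpr fun Z _ => Z.2.2
  set W := (⋂ Z ∈ t, Z.1)
  have hWsub : W ⊆ U ∪ V := fun y hy => not_not.mp fun h =>
    Set.eq_empty_iff_forall_notMem.mp ht y ⟨Or.inl h, hy⟩
  have hWUV : ∀ y ∈ W, y ∈ U → y ∈ V → False := fun y hy h1 h2 =>
    Set.eq_empty_iff_forall_notMem.mp ht y ⟨Or.inr ⟨h1, h2⟩, hy⟩
  have hpiece : ∀ U V : Set X, IsOpen U → IsOpen V → W ⊆ U ∪ V →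
      (∀ y ∈ W, y ∈ U → y ∈ V → False) → IsClopen (W ∩ U) := by
    intro U V hU hV hsub hdd
    refine ⟨?_, hW.2.inter hU⟩
    convert! hW.1.inter hV.isClosed_compl using 1
    ext y
    exact ⟨fun h => ⟨h.1, fun h' => hdd y h.1 h.2 h'⟩,
      fun h => ⟨h.1, (hsub h.1).resolve_right h.2⟩⟩
  rcases hWsub hxW with h | h
  · left
    intro y hy
    have hyU : y ∈ W ∩ U :=
      Set.mem_sInter.mp hy _ ⟨hpiece U V hUo hVo hWsub hWUV, hxW, h⟩
    exact (hab hy).resolve_right fun hyb => hUb hyU.2 hyb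
  · right
    intro y hy
    have hyV : y ∈ W ∩ V := Set.mem_sInter.mp hy _
      ⟨hpiece V U hVo hUo (Set.union_comm U V ▸ hWsub) (fun z hz a b => hWUV z hz b a), hxW, h⟩
    exact (hab hy).resolve_left fun hya => hVa hyV.2 hya

end Groth.Agent.S7566
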