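import Groth.Statements.S0434
import Groth.Agent.FlatMisc.GeomRedSpread
import Groth.Agent.Wt.GenFibGeomRed

set_option autoImplicit false
universe u
open FlatMor

namespace Groth.Agent.S0434

open AlgebraicGeometry CategoryTheory Limits

/-- A chart: geometrically reduced fibres over a basic open. -/
theorem chart {A B : CommRingCat.{u}} [IsDomain A] (v : Spec B ⟶ Spec A) [Flat v]
    [LocallyOfFinitePresentation v]
    (h : ∀ (K : Type u) [Field K] (w : Spec (CommRingCat.of K) ⟶ Spec A),
      (∀ x, w x = (⟨⊥, Ideal.isPrime_bot⟩ : PrimeSpectrum A)) → IsReduced (pullback v w)) :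
    ∃ a : A, a ≠ 0 ∧ ∀ (K : Type u) [Field K] (w : Spec (CommRingCat.of K) ⟶ Spec A),
      (∀ x, w x ∈ PrimeSpectrum.basicOpen a) → IsReduced (pullback v w) := by
  obtain ⟨φ, rfl⟩ := Spec.map_surjective v
  letI := φ.hom.toAlgebra
  have : Algebra.FinitePresentation A B :=
    (HasRingHomProperty.Spec_iff (P := @LocallyOfFinitePresentation)).1 ‹_›
  have : Module.Flat A B := (HasRingHomProperty.Spec_iff (P := @Flat)).1 ‹_›
  have hΩ := h (AlgebraicClosure (FractionRing A))
    (Spec.map (CommRingCat.ofHom (algebraMap A (AlgebraicClosure (FractionRing A))))) fun x =>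
    PrimeSpectrum.ext (by
      show Ideal.comap (algebraMap A (AlgebraicClosure (FractionRing A))) x.asIdeal = ⊥
      have hb : x.asIdeal = ⊥ := (Ideal.eq_bot_or_top _).resolve_right x.isPrime.ne_top
      rw [hb, ← RingHom.ker_eq_comap_bot, RingHom.injective_iff_ker_eq_bot _ |>.mp]
      rw [IsScalarTower.algebraMap_eq A (FractionRing A) (AlgebraicClosure (FractionRing A))]
      exact (algebraMap (FractionRing A) (AlgebraicClosure (FractionRing A))).injective.comp
        (IsFractionRing.injective A (FractionRing A)))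
  obtain ⟨a, ha, hred⟩ := Groth.Agent.FlatMisc.GeomRedSpread.exists_reduced_fibres (A := A) (B := B)
    ((Groth.Agent.Wt.GenFib.isReduced_pullback_Spec_iff A B _).1 hΩ)
  refine ⟨a, ha, fun K _ w hw => ?_⟩
  obtain ⟨ψ, rfl⟩ := Spec.map_surjective w
  letI : Algebra A K := ψ.hom.toAlgebra
  refine (Groth.Agent.Wt.GenFib.isReduced_pullback_Spec_iff A B K).2 (hred K fun h0 => ?_)
  refine hw (IsLocalRing.closedPoint K) ?_
  show ψ.hom a ∈ (IsLocalRing.closedPoint K).asIdeal
  rw [show ψ.hom a = 0 from h0]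
  exact zero_mem _

theorem model {A : CommRingCat.{u}} [IsDomain A] {X : Scheme.{u}} (v : X ⟶ Spec A) [Flat v]
    [LocallyOfFinitePresentation v] [CompactSpace X]
    (h : GeometricallyReduced (v.fiberToSpecResidueField (genericPoint (Spec A)))) :
    ∃ U : (Spec A).Opens, (U : Set (Spec A)).Nonempty ∧
      ∀ s ∈ U, GeometricallyReduced (v.fiberToSpecResidueField s) := by
  haveI : ObjectProperty.IsClosedUnderIsomorphisms (C := Scheme.{u}) (fun Z => IsReduced Z) :=
    ⟨fun e _ => isReduced_of_isOpenImmersion e.inv⟩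
  rw [geometricallyReduced_iff, geometrically_iff_of_isClosedUnderIsomorphisms] at h
  have hη : genericPoint (Spec A) = (⟨⊥, Ideal.isPrime_bot⟩ : PrimeSpectrum A) :=
    genericPoint_eq_bot_of_affine A
  -- factor a morphism from a field through the residue field
  have key : ∀ (K : Type u) [Field K] (w : Spec (CommRingCat.of K) ⟶ Spec A) (s : Spec A),
      (∀ x, w x = s) → ∃ y, y ≫ (Spec A).fromSpecResidueField s = w := by
    intro K _ w s hs
    obtain rfl := hs (IsLocalRing.closedPoint K)
    exact ⟨Spec.map ((Spec A).descResidueField (Scheme.stalkClosedPointTo w)),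
      Scheme.descResidueField_stalkClosedPointTo_fromSpecResidueField K (Spec A) w⟩
  let 𝒰 := X.affineCover.finiteSubcover
  have hchart : ∀ i, ∃ a : A, a ≠ 0 ∧ ∀ (K : Type u) [Field K] (w : Spec (CommRingCat.of K) ⟶ Spec A),
      (∀ x, w x ∈ PrimeSpectrum.basicOpen a) → IsReduced (pullback (𝒰.f i ≫ v) w) := by
    intro i
    haveI : IsOpenImmersion (𝒰.f i) := 𝒰.map_prop i
    haveI : Flat (𝒰.f i ≫ v) :=
      MorphismProperty.comp_mem _ _ _ (inferInstanceAs (Flat (𝒰.f i))) ‹Flat v›
    haveI : LocallyOfFinitePresentation (𝒰.f i ≫ v) :=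
      MorphismProperty.comp_mem _ _ _ (inferInstanceAs (LocallyOfFinitePresentation (𝒰.f i))) ‹_›
    haveI : IsAffine (𝒰.X i) := inferInstanceAs (IsAffine (X.affineCover.X _))
    haveI : Flat ((𝒰.X i).isoSpec.inv ≫ 𝒰.f i ≫ v) := inferInstance
    haveI : LocallyOfFinitePresentation ((𝒰.X i).isoSpec.inv ≫ 𝒰.f i ≫ v) := inferInstance
    have hgen : ∀ (K : Type u) [Field K] (w : Spec (CommRingCat.of K) ⟶ Spec A),
        (∀ x, w x = (⟨⊥, Ideal.isPrime_bot⟩ : PrimeSpectrum A)) →
        IsReduced (pullback ((𝒰.X i).isoSpec.inv ≫ 𝒰.f i ≫ v) w) := by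
      intro K _ w hw
      obtain ⟨y, hy⟩ := key K w (genericPoint (Spec A)) fun x => (hw x).trans hη.symm
      have h1 := h K y
      let e : pullback (v.fiberToSpecResidueField (genericPoint (Spec A))) y ≅ pullback v w :=
        pullbackLeftPullbackSndIso v ((Spec A).fromSpecResidueField (genericPoint (Spec A))) y ≪≫
          pullback.congrHom rfl hy
      haveI : IsReduced (pullback v w) := @isReduced_of_isOpenImmersion _ _ e.inv inferInstance h1
      haveI : IsReduced (pullback (𝒰.f i ≫ v) w) := @isReduced_of_isOpenImmersion _ _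
        ((Scheme.Pullback.openCoverOfLeft 𝒰 v w).f i)
        ((Scheme.Pullback.openCoverOfLeft 𝒰 v w).map_prop i) ‹_›
      exact isReduced_of_isOpenImmersion (pullback.map ((𝒰.X i).isoSpec.inv ≫ 𝒰.f i ≫ v) w
        (𝒰.f i ≫ v) w (𝒰.X i).isoSpec.inv (𝟙 _) (𝟙 _) (by simp) (by simp))
    obtain ⟨a, ha, hK⟩ := chart ((𝒰.X i).isoSpec.inv ≫ 𝒰.f i ≫ v) hgen
    refine ⟨a, ha, fun K _ w hw => ?_⟩
    haveI := hK K w hw
    exact isReduced_of_isOpenImmersion (pullback.map (𝒰.f i ≫ v) w
      ((𝒰.X i).isoSpec.inv ≫ 𝒰.f i ≫ v) w (𝒰.X i).isoSpec.hom (𝟙 _) (𝟙 _) (by simp) (by simp))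
  choose a ha hK using hchart
  haveI : Fintype 𝒰.I₀ := Fintype.ofFinite _
  refine ⟨PrimeSpectrum.basicOpen (∏ i, a i), ⟨⟨⊥, Ideal.isPrime_bot⟩,
    fun h0 => Finset.prod_ne_zero_iff.mpr (fun i _ => ha i) (by simpa using h0)⟩, fun s hs => ?_⟩
  rw [geometricallyReduced_iff, geometrically_iff_of_isClosedUnderIsomorphisms]
  intro K _ y
  let w := y ≫ (Spec A).fromSpecResidueField s
  have hw : ∀ x, w x = s := fun x => by
    have : w x ∈ Set.range ((Spec A).fromSpecResidueField s) := ⟨y x, rfl⟩
    rwa [Scheme.range_fromSpecResidueField] at this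
  have hpc : ∀ i, IsReduced ((Scheme.Pullback.openCoverOfLeft 𝒰 v w).X i) := fun i =>
    hK i K w fun x => by
      rw [hw x]
      intro hm
      have hdvd : a i ∣ ∏ j : 𝒰.I₀, a j := Finset.dvd_prod_of_mem a (Finset.mem_univ (α := 𝒰.I₀) i)
      exact hs (Ideal.mem_of_dvd _ hdvd hm)
  haveI : IsReduced (pullback v w) := IsReduced.of_openCover _ (Scheme.Pullback.openCoverOfLeft 𝒰 v w)
  exact isReduced_of_isOpenImmersion
    (pullbackLeftPullbackSndIso v ((Spec A).fromSpecResidueField s) y).hom


open AlgebraicGeometry CategoryTheory Limits in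
/-- For a morphism of finite type to an irreducible scheme whose generic fibre is geometrically reduced,
all fibres over some nonempty open of the target are geometrically reduced. -/
theorem result {X Y : Scheme.{u}} (f : X ⟶ Y) [IrreducibleSpace ↑Y] [LocallyOfFiniteType f] [QuasiCompact f]
    (h : GeometricallyReduced (f.fiberToSpecResidueField (genericPoint ↑Y))) :
    ∃ V : Y.Opens, (V : Set ↑Y).Nonempty ∧ GeometricallyReduced (f ∣_ V) := by
  haveI : MorphismProperty.RespectsIso (@GeometricallyReduced : MorphismProperty Scheme.{u}) := by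
    rw [GeometricallyReduced.eq_geometrically]
    exact MorphismProperty.IsStableUnderBaseChange.respectsIso
  obtain ⟨V, hV, hV'⟩ := Groth.Agent.Wt.GenFib.exists_open_of_model f
    (fun _ _ g => GeometricallyReduced g)
    (fun F F' T T' g g' φ ψ hg hn =>
      (MorphismProperty.cancel_left_of_respectsIso @GeometricallyReduced φ.hom g).1
        (hg.symm ▸ (MorphismProperty.cancel_right_of_respectsIso @GeometricallyReduced g' ψ.hom).2 hn))
    fun A _ X' v _ _ _ _ ⟨φ, ψ, hg⟩ => model v
      ((MorphismProperty.cancel_right_of_respectsIso @GeometricallyReduced _ ψ.hom).1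
        (hg ▸ (MorphismProperty.cancel_left_of_respectsIso @GeometricallyReduced φ.hom _).2 h))
  refine ⟨V, hV, ?_⟩
  haveI : ObjectProperty.IsClosedUnderIsomorphisms (C := Scheme.{u}) (fun Z => IsReduced Z) :=
    ⟨fun e _ => isReduced_of_isOpenImmersion e.inv⟩
  rw [geometricallyReduced_iff, geometrically_iff_of_isClosedUnderIsomorphisms]
  intro K _ y
  let w := y ≫ V.ι
  have hs : w (IsLocalRing.closedPoint K) ∈ V := (y (IsLocalRing.closedPoint K)).2
  have h1 := hV' _ hs
  rw [geometricallyReduced_iff, geometrically_iff_of_isClosedUnderIsomorphisms] at h1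
  have h2 := h1 K (Spec.map (Y.descResidueField (Scheme.stalkClosedPointTo w)))
  let e₁ : pullback (f.fiberToSpecResidueField (w (IsLocalRing.closedPoint K)))
      (Spec.map (Y.descResidueField (Scheme.stalkClosedPointTo w))) ≅ pullback f w :=
    pullbackLeftPullbackSndIso f (Y.fromSpecResidueField (w (IsLocalRing.closedPoint K))) _ ≪≫
      pullback.congrHom rfl (Scheme.descResidueField_stalkClosedPointTo_fromSpecResidueField K Y w)
  haveI : IsReduced (pullback f w) := @isReduced_of_isOpenImmersion _ _ e₁.inv inferInstance h2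
  exact isReduced_of_isOpenImmersion
    ((IsPullback.of_hasPullback (f ∣_ V) y).paste_horiz
      (isPullback_morphismRestrict f V).flip).isoPullback.hom

end Groth.Agent.S0434
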