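import Groth.Statements.S1301
import Groth.Agent.S0434
import Groth.Agent.S1331
import Groth.Agent.S9735
import Groth.Agent.Wt.GenFibCons
-- import your own Groth.Agent.* helpers here

set_option autoImplicit false
universe u
open FlatMor

namespace Groth.Agent.S1301

open AlgebraicGeometry CategoryTheory CategoryTheory.Limits TopologicalSpace Topology

theorem geometricallyReduced_iff_cover {Z T : Scheme.{u}} (h : Z ⟶ T) (𝒰 : Z.OpenCover) :
    GeometricallyReduced h ↔ ∀ i, GeometricallyReduced (𝒰.f i ≫ h) := by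
  haveI : ObjectProperty.IsClosedUnderIsomorphisms (C := Scheme.{u}) (fun Z => IsReduced Z) :=
    ⟨fun e _ => isReduced_of_isOpenImmersion e.inv⟩
  simp only [geometricallyReduced_iff, geometrically_iff_of_isClosedUnderIsomorphisms]
  refine ⟨fun H i K _ y => ?_, fun H K _ y => ?_⟩
  · haveI : IsReduced (pullback h y) := H K y
    haveI : IsOpenImmersion ((Scheme.Pullback.openCoverOfLeft 𝒰 h y).f i) :=
      (Scheme.Pullback.openCoverOfLeft 𝒰 h y).map_prop i
    exact isReduced_of_isOpenImmersion (X := (Scheme.Pullback.openCoverOfLeft 𝒰 h y).X i)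
      ((Scheme.Pullback.openCoverOfLeft 𝒰 h y).f i)
  · apply +allowSynthFailures @IsReduced.of_openCover (𝒰 := Scheme.Pullback.openCoverOfLeft 𝒰 h y)
    exact fun i => H i K y

theorem fibre_iff_cover {Z T : Scheme.{u}} (h : Z ⟶ T) (𝒰 : Z.OpenCover) (t : T) :
    GeometricallyReduced (h.fiberToSpecResidueField t) ↔
      ∀ i, GeometricallyReduced ((𝒰.f i ≫ h).fiberToSpecResidueField t) := by
  refine (geometricallyReduced_iff_cover (h.fiberToSpecResidueField t)
    (Scheme.Pullback.openCoverOfLeft 𝒰 h (T.fromSpecResidueField t))).trans ?_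
  refine forall_congr' fun i => Iff.of_eq (congrArg _ ?_)
  refine (pullback.lift_snd (f := h) (g := T.fromSpecResidueField t) _ _ _).trans ?_
  exact Category.comp_id _

theorem eq_at {X Y : Scheme.{u}} (f : X ⟶ Y) [IrreducibleSpace Y] [LocallyOfFiniteType f] [QuasiCompact f] :
    ∃ V : Y.Opens, genericPoint Y ∈ V ∧ ∀ y ∈ V, GeometricallyReduced (f.fiberToSpecResidueField y) =
      GeometricallyReduced (f.fiberToSpecResidueField (genericPoint Y)) := by
  have hmem : ∀ V : Y.Opens, (V : Set Y).Nonempty → genericPoint Y ∈ V := fun V hV =>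
    ((genericPoint_spec Y).mem_open_set_iff V.2).mpr (by simpa using hV)
  by_cases h : GeometricallyReduced (f.fiberToSpecResidueField (genericPoint Y))
  · obtain ⟨V, hne, hV⟩ := S0434.result f h
    refine ⟨V, hmem V hne, fun y hy => propext ⟨fun _ => h, fun _ => ?_⟩⟩
    have := S9735.result f V.ι (f ∣_ V) (f ⁻¹ᵁ V).ι (isPullback_morphismRestrict f V).flip
    exact (Set.ext_iff.mp this ⟨y, hy⟩).mp
      (inferInstanceAs (GeometricallyReduced ((f ∣_ V).fiberToSpecResidueField ⟨y, hy⟩)))
  · obtain ⟨V, hne, hV⟩ := S1331.result f h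
    exact ⟨V, hmem V hne, fun y hy => propext ⟨fun h' => absurd h' (hV y hy), fun h' => absurd h' h⟩⟩

theorem isLocallyConstructible_of_qcqs {X Y : Scheme.{u}} (f : X ⟶ Y) [LocallyOfFinitePresentation f]
    [QuasiCompact f] [QuasiSeparated f] :
    IsLocallyConstructible {y : Y | GeometricallyReduced (f.fiberToSpecResidueField y)} := by
  have := Wt.GenFib.isLocallyConstructible_level (α := Prop)
    (fun {X Y} g y => GeometricallyReduced (g.fiberToSpecResidueField y))
    (fun {X Y X' Y'} {g g'} {gX gY} hc y' =>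
      propext (Set.ext_iff.mp (S9735.result g gY g' gX hc) y'))
    (fun u => eq_at u) f True
  simpa only [eq_iff_iff, iff_true] using this

open AlgebraicGeometry CategoryTheory Limits in
/-- For a quasi-compact morphism locally of finite presentation, the set of points of the target whose
fibre is geometrically reduced is locally constructible. -/
theorem result {X Y : Scheme.{u}} (f : X ⟶ Y) [QuasiCompact f] [LocallyOfFinitePresentation f] :
    Topology.IsLocallyConstructible {y : ↑Y | GeometricallyReduced (f.fiberToSpecResidueField y)} := by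
  refine Topology.IsLocallyConstructible.of_isOpenCover
    (U := fun V : Y.affineOpens => (V : Y.Opens)) (iSup_affineOpens_eq_top Y) fun ⟨V, hV⟩ => ?_
  haveI : IsAffine (V : Scheme.{u}) := hV
  haveI : CompactSpace ↥((f ⁻¹ᵁ V : X.Opens) : Scheme.{u}) :=
    QuasiCompact.compactSpace_of_compactSpace (f ∣_ V)
  let 𝒰 := ((f ⁻¹ᵁ V : X.Opens) : Scheme.{u}).affineCover.finiteSubcover
  haveI : ∀ i, IsAffine (𝒰.X i) := fun i => inferInstanceAs (IsAffine (Spec _))
  have hbc := Groth.Agent.S9735.result f V.ι (f ∣_ V) (f ⁻¹ᵁ V).ι (isPullback_morphismRestrict f V).flip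
  have heq : {v : (V : Scheme.{u}) | GeometricallyReduced ((f ∣_ V).fiberToSpecResidueField v)} =
      ⋂ i, {v : (V : Scheme.{u}) | GeometricallyReduced ((𝒰.f i ≫ f ∣_ V).fiberToSpecResidueField v)} := by
    ext v
    simp only [Set.mem_iInter, Set.mem_ofPred_eq]
    exact fibre_iff_cover (f ∣_ V) 𝒰 v
  show Topology.IsLocallyConstructible (V.ι ⁻¹' {y : Y | GeometricallyReduced (f.fiberToSpecResidueField y)})
  rw [← hbc, heq]
  exact Topology.IsLocallyConstructible.iInter fun i => isLocallyConstructible_of_qcqs (𝒰.f i ≫ f ∣_ V)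

end Groth.Agent.S1301
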