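import Groth.Statements.S0678
import Groth.Agent.ProEtW.Retraction
import Mathlib.Topology.ExtremallyDisconnected
import Mathlib.Topology.Compactification.StoneCech

set_option autoImplicit false
open CategoryTheory CategoryTheory.Limits AlgebraicGeometry Opposite Topology
universe u
open ProEtW
open Groth.Agent.ProEtW
open Set

namespace Groth.Agent.S0678

/-- For a ring A, every faithfully flat ind-Zariski A-algebra (filtered colimit of local isomorphisms)
has an A-algebra retraction if and only if Spec A is w-local and the space of connected components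
of Spec A is extremally disconnected. -/
theorem result (A : Type u) [CommRing A] :
    ProEtW.HasIndZariskiRetractions A ↔
      (ProEtW.IsWLocal (PrimeSpectrum A) ∧
        ExtremallyDisconnected (_root_.ConnectedComponents (PrimeSpectrum A))) := by
  constructor
  · intro hret
    let h0 : WithConstructibleTopology (PrimeSpectrum A) → WithConstructibleTopology (PrimeSpectrum A) :=
      id
    have hh0 : Continuous h0 := continuous_id
    obtain ⟨r⟩ := hret (LocFrac.Ring (WLocalization.sub h0))
      (WLocalization.faithfullyFlat hh0 Function.surjective_id) (WLocalization.isIndZariski hh0)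
    have hrs : Function.Surjective r.toRingHom := fun a => ⟨algebraMap A _ a, r.commutes a⟩
    have hA : ProEtW.IsWLocal (PrimeSpectrum A) := Retraction.isWLocal_of_isClosedEmbedding
      (PrimeSpectrum.isClosedEmbedding_comap_of_surjective _ r.toRingHom hrs)
      (WLocalization.isWLocal hh0)
    refine ⟨hA, ?_⟩
    obtain ⟨_, _, _⟩ := IdentifiesLocal.isProfinite_C0 hA
    let T := Ultrafilter (IdentifiesLocal.C0 A)
    let g : T → IdentifiesLocal.C0 A := Ultrafilter.extend id
    have hgc : Continuous g := continuous_ultrafilter_extend _
    let h1 : T → WithConstructibleTopology (PrimeSpectrum A) := IdentifiesLocal.toZ A ∘ g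
    have hh1 : Continuous h1 := (IdentifiesLocal.continuous_toZ hA).comp hgc
    have hunder : ∀ t, WLocalization.under (h1 t) = (g t).1 := fun t => rfl
    have hff : Module.FaithfullyFlat A (LocFrac.Ring (WLocalization.sub h1)) := by
      have := LocFrac.flat (S := WLocalization.sub h1) (WLocalization.isOpen_sub hh1)
      refine Module.FaithfullyFlat.of_comap_surjective fun p => ?_
      obtain ⟨y, ⟨hy, hpy⟩, -⟩ := hA.2.2 p
      obtain ⟨Q, hQ⟩ := (WLocalization.range_eq hh1).ge
        (show (p, (pure ⟨y, hy⟩ : T)) ∈ {q : _ × T | q.1 ≤ WLocalization.under (h1 q.2)} by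
          show p ≤ WLocalization.under (h1 (pure ⟨y, hy⟩))
          rw [hunder, show g (pure ⟨y, hy⟩) = ⟨y, hy⟩ from ultrafilter_extend_pure _ _]
          exact (PrimeSpectrum.le_iff_specializes _ _).2 hpy)
      exact ⟨Q, congr_arg Prod.fst hQ⟩
    obtain ⟨r'⟩ := hret _ hff (WLocalization.isIndZariski hh1)
    let i : IdentifiesLocal.C0 A → T := fun n => LocFrac.pt (PrimeSpectrum.comap r'.toRingHom n.1)
    have hi : Continuous i := LocFrac.continuous_pt.comp
      ((PrimeSpectrum.continuous_comap _).comp continuous_subtype_val)
    have hgi : ∀ n, g (i n) = n := by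
      intro n
      have hle := WLocalization.le hh1 (PrimeSpectrum.comap r'.toRingHom n.1)
      have hp : (LocFrac.toProd (S := WLocalization.sub h1)
          (PrimeSpectrum.comap r'.toRingHom n.1)).1 = n.1 := by
        show PrimeSpectrum.comap _ (PrimeSpectrum.comap _ n.1) = n.1
        rw [← PrimeSpectrum.comap_comp_apply]
        have he : r'.toRingHom.comp (algebraMap A _) = RingHom.id A := r'.comp_algebraMap
        rw [he]
        exact PrimeSpectrum.ext (Ideal.comap_id _)
      rw [hp, hunder] at hle
      exact Subtype.ext
        (((PrimeSpectrum.le_iff_specializes _ _).1 hle).mem_closed n.2 rfl :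
          (g (i n)).1 = n.1)
    have hproj : CompactT2.Projective T := by
      intro Y Z _ _ _ _ _ _ f k hf hk hks
      choose s hs using hks
      refine ⟨Ultrafilter.extend (s ∘ f ∘ pure), continuous_ultrafilter_extend _,
        denseRange_pure.equalizer (hk.comp (continuous_ultrafilter_extend _)) hf ?_⟩
      ext x
      simp [ultrafilter_extend_pure, hs]
    have hED : ExtremallyDisconnected (IdentifiesLocal.C0 A) :=
      CompactT2.Projective.extremallyDisconnected (Retraction.projective_of_retract hproj hi hgc hgi)
    obtain ⟨e, -⟩ := Retraction.exists_homeomorph_pi0 hA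
    exact extremallyDisconnected_of_homeo e
  · rintro ⟨hA, hED⟩ B _ _ hff hZ
    have hid := IndZariski.identifiesLocalRings hZ
    obtain ⟨_, _, _⟩ := IdentifiesLocal.isProfinite_C0 hA
    obtain ⟨e, -⟩ := Retraction.exists_homeomorph_pi0 hA
    have : ExtremallyDisconnected (IdentifiesLocal.C0 A) := extremallyDisconnected_of_homeo e.symm
    let K : Set (PrimeSpectrum B) :=
      PrimeSpectrum.comap (algebraMap A B) ⁻¹' ProEtW.closedPoints (PrimeSpectrum A)
    have hK : IsClosed K := hA.2.1.preimage (PrimeSpectrum.continuous_comap _)
    have : SpectralSpace K := Spectral.spectralSpace_subtype hK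
    have hmax : ∀ q ∈ K, IsClosed ({q} : Set (PrimeSpectrum B)) := by
      intro q hq
      refine (PrimeSpectrum.isClosed_singleton_iff_isMaximal q).2 ?_
      obtain ⟨M, hM, hqM⟩ := Ideal.exists_le_maximal q.asIdeal q.2.ne_top
      let m : PrimeSpectrum B := ⟨M, hM.isPrime⟩
      have h2 : PrimeSpectrum.comap (algebraMap A B) m = PrimeSpectrum.comap (algebraMap A B) q :=
        ((PrimeSpectrum.le_iff_specializes q m).1 hqM |>.map
          (PrimeSpectrum.continuous_comap (algebraMap A B))).mem_closed hq rfl
      rw [IdentifiesLocal.eq_of_comap_eq hid (q := q) (q' := m) (m := m) hqM le_rfl h2.symm]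
      exact hM
    have : T1Space K := ⟨fun x => by
      have : ({x} : Set K) = Subtype.val ⁻¹' {x.1} := by ext; simp [Subtype.ext_iff]
      rw [this]
      exact (hmax x.1 x.2).preimage continuous_subtype_val⟩
    have : T2Space K := Spectral.t2Space_of_t1Space
    let p : K → IdentifiesLocal.C0 A := fun q => ⟨PrimeSpectrum.comap (algebraMap A B) q.1, q.2⟩
    have hp : Continuous p :=
      ((PrimeSpectrum.continuous_comap _).comp continuous_subtype_val).subtype_mk _
    have hps : Function.Surjective p := by
      intro n
      have := hff
      obtain ⟨q, hq⟩ := PrimeSpectrum.comap_surjective_of_faithfullyFlat (A := A) (B := B) n.1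
      exact ⟨⟨q, show PrimeSpectrum.comap (algebraMap A B) q ∈ ProEtW.closedPoints _ from hq ▸ n.2⟩,
        Subtype.ext hq⟩
    obtain ⟨σ, hσ, hσp⟩ := CompactT2.ExtremallyDisconnected.projective continuous_id hp hps
    exact Retraction.nonempty_retraction hA hid (fun n => (σ n).1)
      (continuous_subtype_val.comp hσ) fun n => congrArg Subtype.val (congrFun hσp n)

end Groth.Agent.S0678
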