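import Groth.Statements.S14620
import Groth.Agent.Hensel.Pair
import Mathlib.FieldTheory.PurelyInseparable.Basic
set_option linter.style.haveILetI false

set_option autoImplicit false
universe u
open Hensel

namespace Groth.Agent.S14620

/-- In the strictly henselian case, let f : A → B be a finite local homomorphism of local rings. If A is
strictly henselian (henselian local with separably closed residue field), then so is B. -/
theorem result {A B : Type u} [CommRing A] [IsLocalRing A]
    [CommRing B] [IsLocalRing B] (f : A →+* B) (hf : f.Finite) [IsLocalHom f]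
    (hA : EtCoh.IsStrictlyHenselianLocalRing A) : EtCoh.IsStrictlyHenselianLocalRing B := by
  obtain ⟨hh, hsc⟩ := hA
  haveI := hh
  haveI := hsc
  letI := f.toAlgebra
  haveI : IsLocalHom (algebraMap A B) := ‹IsLocalHom f›
  haveI : Module.Finite A B := hf
  haveI hB : HenselianRing B ((IsLocalRing.maximalIdeal A).map (algebraMap A B)) :=
    Groth.Agent.Hensel.henselianRing_of_isIntegral B
  have hle : (IsLocalRing.maximalIdeal A).map (algebraMap A B) ≤ IsLocalRing.maximalIdeal B := by
    rw [Ideal.map_le_iff_le_comap]
    exact fun a ha hu => ha (isUnit_of_map_unit f _ hu)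
  have hrad : IsLocalRing.maximalIdeal B ≤
      ((IsLocalRing.maximalIdeal A).map (algebraMap A B)).radical := by
    rw [Ideal.radical_eq_sInf]
    refine le_sInf fun P hP => ?_
    haveI := hP.2
    haveI : P.IsMaximal := Ideal.isMaximal_of_isIntegral_of_isMaximal_comap P (by
      have hle' : IsLocalRing.maximalIdeal A ≤ P.comap (algebraMap A B) :=
        Ideal.map_le_iff_le_comap.1 hP.1
      rw [← (IsLocalRing.maximalIdeal.isMaximal A).eq_of_le (Ideal.IsPrime.ne_top inferInstance) hle']
      infer_instance)
    exact (IsLocalRing.eq_maximalIdeal ‹P.IsMaximal›).ge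
  refine ⟨Groth.Agent.Hensel.henselianLocalRing_of_henselianRing
    (Groth.Agent.Hensel.henselianRing_of_radical_eq hrad), ?_⟩
  haveI : Module.Finite (IsLocalRing.ResidueField A) (IsLocalRing.ResidueField B) :=
    inferInstance
  exact Algebra.IsAlgebraic.isSepClosed (F := IsLocalRing.ResidueField A)

end Groth.Agent.S14620
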