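import Groth.Statements.S0679
import Groth.Agent.S0677
import Groth.Agent.S14620
import Groth.Agent.WEtale.Olivier
import Groth.Agent.ProEtW.QuasiFiniteED

set_option autoImplicit false
open CategoryTheory CategoryTheory.Limits AlgebraicGeometry Opposite Topology
universe u
open ProEtW

namespace Groth.Agent.S0679
open Groth.Agent.ProEtW
open scoped TensorProduct

theorem isSepClosed_of_ringEquiv {K L : Type u} [Field K] [Field L] [IsSepClosed K] (e : K ≃+* L) :
    IsSepClosed L := by
  refine IsSepClosed.of_exists_root _ fun p _ hirr hsep => ?_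
  obtain ⟨x, hx⟩ := IsSepClosed.exists_root (p.map e.symm.toRingHom)
    (fun h => (Polynomial.degree_pos_of_irreducible hirr).ne'
      ((p.degree_map e.symm.toRingHom).symm.trans h))
    ((Polynomial.separable_map _).2 hsep)
  refine ⟨e x, ?_⟩
  rw [Polynomial.IsRoot.def, Polynomial.eval_map] at hx
  have h := congrArg e.toRingHom hx
  rw [Polynomial.hom_eval₂, map_zero] at h
  simpa using h

/-- Quotients of strictly henselian local rings at primes below a unique maximal ideal. -/
theorem strictlyHenselian_quotient {A : Type u} [CommRing A] (p n : Ideal A) [p.IsPrime] [n.IsMaximal]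
    (hpn : p ≤ n) (hu : ∀ M : Ideal A, M.IsMaximal → p ≤ M → M = n)
    (h : EtCoh.IsStrictlyHenselianLocalRing (Localization.AtPrime n)) :
    ∃ _ : IsLocalRing (A ⧸ p), EtCoh.IsStrictlyHenselianLocalRing (A ⧸ p) := by
  have hmax : (n.map (Ideal.Quotient.mk p)).IsMaximal :=
    Ideal.IsMaximal.map_of_surjective_of_ker_le Ideal.Quotient.mk_surjective (by rwa [Ideal.mk_ker])
  have : IsLocalRing (A ⧸ p) := IsLocalRing.of_unique_max_ideal ⟨_, hmax, fun M hM => by
    have hM : M.IsMaximal := hM
    have h1 := Ideal.comap_isMaximal_of_surjective (Ideal.Quotient.mk p) Ideal.Quotient.mk_surjective (K := M)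
    rw [← hu _ h1 (fun x hx => by simp [Ideal.Quotient.eq_zero_iff_mem.2 hx]),
      Ideal.map_comap_of_surjective _ Ideal.Quotient.mk_surjective]⟩
  have hunit : ∀ s : n.primeCompl, IsUnit (Ideal.Quotient.mk p s) := fun s => by
    by_contra hs
    obtain ⟨M, hM, hsM⟩ := exists_max_ideal_of_mem_nonunits hs
    have h1 := Ideal.comap_isMaximal_of_surjective (Ideal.Quotient.mk p) Ideal.Quotient.mk_surjective (K := M)
    exact s.2 (hu _ h1 (fun x hx => by simp [Ideal.Quotient.eq_zero_iff_mem.2 hx]) ▸ hsM)
  let f : Localization.AtPrime n →+* A ⧸ p := IsLocalization.lift (M := n.primeCompl) hunit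
  have hf : Function.Surjective f := fun x => by
    obtain ⟨a, rfl⟩ := Ideal.Quotient.mk_surjective x
    exact ⟨algebraMap A _ a, IsLocalization.lift_eq hunit a⟩
  have : IsLocalHom f := .of_surjective f hf
  exact ⟨inferInstance, Groth.Agent.S14620.result f (RingHom.Finite.of_surjective f hf) h⟩

/-- Finite algebras over a henselian ring: localizations at maximal ideals are finite. -/
theorem finite_localization {A B : Type u} [CommRing A] [CommRing B] [Algebra A B] [Module.Finite A B]
    (n : Ideal A) [n.IsMaximal] (m : Ideal B) [m.IsMaximal] (h : n = m.comap (algebraMap A B))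
    [HenselianLocalRing (Localization.AtPrime n)] :
    (Localization.localRingHom n m (algebraMap A B) h).Finite := by
  let R := Localization.AtPrime n
  let : Algebra R (Localization.AtPrime m) :=
    (Localization.localRingHom n m (algebraMap A B) h).toAlgebra
  have : IsScalarTower A R (Localization.AtPrime m) := .of_algebraMap_eq fun a =>
    (IsScalarTower.algebraMap_apply A B (Localization.AtPrime m) a).trans
      (Localization.localRingHom_to_map n m (algebraMap A B) h a).symm
  let C := R ⊗[A] B
  let ψ : C →ₐ[R] Localization.AtPrime m := Algebra.TensorProduct.lift (Algebra.ofId R _)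
    (IsScalarTower.toAlgHom A B (Localization.AtPrime m)) fun _ _ => Commute.all _ _
  have hψ : ∀ b : B, ψ (1 ⊗ₜ b) = algebraMap B (Localization.AtPrime m) b := fun b =>
    (Algebra.TensorProduct.lift_tmul _ _ _ _ _).trans (by rw [map_one, one_mul]; rfl)
  suffices Function.Surjective ψ from Module.Finite.of_surjective ψ.toLinearMap this
  obtain ⟨N, e, he, hloc⟩ := Groth.Agent.Hensel.exists_pi_local (R := R) C
  obtain ⟨i, hi⟩ : ∃ i, IsUnit (ψ (e i)) := by
    by_contra hne
    push Not at hne
    have : ∑ i, ψ (e i) ∈ IsLocalRing.maximalIdeal (Localization.AtPrime m) :=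
      sum_mem fun i _ => (IsLocalRing.mem_maximalIdeal _).2 (hne i)
    rw [← map_sum, he.complete, map_one] at this
    exact (IsLocalRing.mem_maximalIdeal _).1 this isUnit_one
  have hi1 : ψ (e i) = 1 := (IsIdempotentElem.iff_eq_one_of_isUnit hi).1 ((he.idem i).map ψ)
  let P : Ideal C := (IsLocalRing.maximalIdeal (Localization.AtPrime m)).comap ψ
  have hP : Ideal.span {1 - e i} ≤ P := by
    rw [Ideal.span_singleton_le_iff_mem]
    show ψ (1 - e i) ∈ IsLocalRing.maximalIdeal _
    rw [map_sub, map_one, hi1, sub_self]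
    exact zero_mem _
  have hPp : P.IsPrime := Ideal.comap_isPrime _ _
  have hPmax : P.IsMaximal := by
    refine Ideal.isMaximal_of_isIntegral_of_isMaximal_comap (R := R) P ?_
    have : P.comap (algebraMap R C) = IsLocalRing.maximalIdeal R := by
      have : IsLocalHom (Localization.localRingHom n m (algebraMap A B) h) :=
        Localization.isLocalHom_localRingHom _ _ _ _
      rw [← IsLocalRing.maximalIdeal_comap (Localization.localRingHom n m (algebraMap A B) h)]
      ext x
      show ψ (algebraMap R C x) ∈ IsLocalRing.maximalIdeal (Localization.AtPrime m) ↔ _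
      rw [ψ.commutes]
      rfl
    rw [this]
    exact IsLocalRing.maximalIdeal.isMaximal R
  have := hloc i
  have hmap : (P.map (Ideal.Quotient.mk (Ideal.span {1 - e i}))).IsMaximal :=
    Ideal.IsMaximal.map_of_surjective_of_ker_le Ideal.Quotient.mk_surjective (by rwa [Ideal.mk_ker])
  intro z
  obtain ⟨b, t, rfl⟩ := IsLocalization.exists_mk'_eq m.primeCompl z
  have ht : IsUnit (Ideal.Quotient.mk (Ideal.span {1 - e i}) ((1 : R) ⊗ₜ[A] (t : B))) := by
    suffices hnm : Ideal.Quotient.mk (Ideal.span {1 - e i}) ((1 : R) ⊗ₜ[A] (t : B)) ∉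
        IsLocalRing.maximalIdeal (C ⧸ Ideal.span {1 - e i}) from not_not.1 fun hu => hnm hu
    rw [← IsLocalRing.eq_maximalIdeal hmap, Ideal.mem_quotient_iff_mem hP]
    show ψ (1 ⊗ₜ (t : B)) ∉ IsLocalRing.maximalIdeal _
    rw [hψ, IsLocalRing.notMem_maximalIdeal]
    exact IsLocalization.map_units _ t
  obtain ⟨y, hy⟩ := ht.exists_right_inv
  obtain ⟨y, rfl⟩ := Ideal.Quotient.mk_surjective y
  rw [← map_mul, ← map_one (Ideal.Quotient.mk (Ideal.span {1 - e i})), Ideal.Quotient.eq,
    Ideal.mem_span_singleton] at hy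
  obtain ⟨c, hc⟩ := hy
  have hy' : ψ (1 ⊗ₜ (t : B)) * ψ y = 1 := by
    rw [← map_mul, ← sub_eq_zero, ← map_one ψ, ← map_sub, hc, map_mul, map_sub, map_one, hi1,
      sub_self, zero_mul]
  refine ⟨(1 ⊗ₜ b) * y, ?_⟩
  rw [map_mul, hψ, eq_comm, IsLocalization.mk'_eq_iff_eq_mul, ← hψ (t : B), mul_assoc,
    mul_comm (ψ y), hy', mul_one]

/-- If A → B is a finite ring map of finite presentation and A is w-contractible, then B is
w-contractible. -/
theorem result (A B : Type u) [CommRing A] [CommRing B]
    [Algebra A B] [Module.Finite A B] [Algebra.FinitePresentation A B]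
    (h : EtPBC.IsWContractible A) : EtPBC.IsWContractible B := by
  classical
  obtain ⟨hWL, hED, hsh⟩ := (Groth.Agent.S0677.result A).1 h
  obtain ⟨-, hC0, hu⟩ := id hWL
  have : Algebra.IsIntegral A B := inferInstance
  have hclosed : ∀ q : PrimeSpectrum B, IsClosed ({q} : Set (PrimeSpectrum B)) ↔
      IsClosed ({PrimeSpectrum.comap (algebraMap A B) q} : Set (PrimeSpectrum A)) := by
    intro q
    simp only [PrimeSpectrum.isClosed_singleton_iff_isMaximal, PrimeSpectrum.comap_asIdeal]
    exact ⟨fun hq => Ideal.isMaximal_comap_of_isIntegral_of_isMaximal (R := A) q.asIdeal,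
      fun hq => Ideal.isMaximal_of_isIntegral_of_isMaximal_comap q.asIdeal hq⟩
  have hWLB : ProEtW.IsWLocal (PrimeSpectrum B) := by
    refine ⟨inferInstance, ?_, fun q => ?_⟩
    · simp only [hclosed]
      exact hC0.preimage (PrimeSpectrum.continuous_comap _)
    · obtain ⟨z, hz, hqz⟩ := Spectral.exists_closedPoint_specializes q
      refine ⟨z, ⟨hz, hqz⟩, fun y ⟨hy, hqy⟩ => ?_⟩
      let p := PrimeSpectrum.comap (algebraMap A B) q
      obtain ⟨n, ⟨hn, hpn⟩, hun⟩ := hu p
      have hnmax : n.asIdeal.IsMaximal := (PrimeSpectrum.isClosed_singleton_iff_isMaximal n).1 hn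
      obtain ⟨_, hloc⟩ := strictlyHenselian_quotient p.asIdeal n.asIdeal
        ((PrimeSpectrum.le_iff_specializes p n).2 hpn) (fun M hM hpM => congrArg PrimeSpectrum.asIdeal
          (hun ⟨M, hM.isPrime⟩ ⟨(PrimeSpectrum.isClosed_singleton_iff_isMaximal _).2 hM,
            (PrimeSpectrum.le_iff_specializes p ⟨M, hM.isPrime⟩).1 hpM⟩)) (hsh _)
      obtain ⟨_, -⟩ := id hloc
      have : q.asIdeal.LiesOver p.asIdeal := ⟨rfl⟩
      have : Module.Finite (A ⧸ p.asIdeal) (B ⧸ q.asIdeal) :=
        Module.Finite.of_restrictScalars_finite A _ _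
      have : IsLocalRing (B ⧸ q.asIdeal) :=
        Groth.Agent.WEtale.Olivier.isLocalRing_of_finite (A := A ⧸ p.asIdeal)
      have key : ∀ w : PrimeSpectrum B, IsClosed ({w} : Set (PrimeSpectrum B)) → q ⤳ w →
          w.asIdeal = (IsLocalRing.maximalIdeal (B ⧸ q.asIdeal)).comap (Ideal.Quotient.mk q.asIdeal) := by
        intro w hw hqw
        have hle : q.asIdeal ≤ w.asIdeal := (PrimeSpectrum.le_iff_specializes q w).2 hqw
        have : w.asIdeal.IsMaximal := (PrimeSpectrum.isClosed_singleton_iff_isMaximal w).1 hw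
        have : (w.asIdeal.map (Ideal.Quotient.mk q.asIdeal)).IsMaximal :=
          Ideal.IsMaximal.map_of_surjective_of_ker_le Ideal.Quotient.mk_surjective (by rwa [Ideal.mk_ker])
        rw [← IsLocalRing.eq_maximalIdeal this, Ideal.comap_map_of_surjective _
          Ideal.Quotient.mk_surjective, ← RingHom.ker_eq_comap_bot, Ideal.mk_ker, sup_eq_left.2 hle]
      exact PrimeSpectrum.ext ((key y hy hqy).trans (key z hz hqz).symm)
  refine (Groth.Agent.S0677.result B).2 ⟨hWLB, ?_, fun m hm => ?_⟩
  · obtain ⟨_, _, _⟩ := IdentifiesLocal.isProfinite_C0 hWL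
    obtain ⟨eA, -⟩ := Retraction.exists_homeomorph_pi0 hWL
    obtain ⟨eB, -⟩ := Retraction.exists_homeomorph_pi0 hWLB
    have : ExtremallyDisconnected (IdentifiesLocal.C0 A) := extremallyDisconnected_of_homeo eA.symm
    let I : Ideal A := PrimeSpectrum.vanishingIdeal {x | IsClosed ({x} : Set (PrimeSpectrum A))}
    have hI : PrimeSpectrum.zeroLocus (I : Set A) = {x | IsClosed ({x} : Set (PrimeSpectrum A))} := by
      rw [PrimeSpectrum.zeroLocus_vanishingIdeal_eq_closure, hC0.closure_eq]
    have hembA : IsEmbedding (PrimeSpectrum.comap (algebraMap A (A ⧸ I))) :=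
      (PrimeSpectrum.isClosedEmbedding_comap_of_surjective _ _ Ideal.Quotient.mk_surjective).isEmbedding
    have hrA : Set.range (PrimeSpectrum.comap (algebraMap A (A ⧸ I))) =
        {x | IsClosed ({x} : Set (PrimeSpectrum A))} := by
      rw [Ideal.Quotient.algebraMap_eq, range_comap_of_surjective _ _ Ideal.Quotient.mk_surjective,
        Ideal.mk_ker, hI]
    let fA : PrimeSpectrum (A ⧸ I) ≃ₜ IdentifiesLocal.C0 A :=
      hembA.toHomeomorph.trans (Homeomorph.setCongr hrA)
    have : T2Space (PrimeSpectrum (A ⧸ I)) := fA.symm.t2Space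
    have : ExtremallyDisconnected (PrimeSpectrum (A ⧸ I)) := extremallyDisconnected_of_homeo fA.symm
    have : Algebra.FinitePresentation (A ⧸ I) ((A ⧸ I) ⊗[A] B) := inferInstance
    have : ExtremallyDisconnected (PrimeSpectrum ((A ⧸ I) ⊗[A] B)) := by
      refine QuasiFiniteED.extremallyDisconnected (A := A ⧸ I) fun p => ?_
      let n : PrimeSpectrum A := PrimeSpectrum.comap (algebraMap A (A ⧸ I)) p
      have hn : n.asIdeal.IsMaximal := (PrimeSpectrum.isClosed_singleton_iff_isMaximal n).1
        (hrA ▸ Set.mem_range_self p : n ∈ {x | IsClosed ({x} : Set (PrimeSpectrum A))})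
      obtain ⟨_, hs⟩ := hsh n.asIdeal
      exact isSepClosed_of_ringEquiv (RingEquiv.ofBijective _
        ((RingHom.surjectiveOnStalks_of_surjective (f := algebraMap A (A ⧸ I))
          Ideal.Quotient.mk_surjective).residueFieldMap_bijective n.asIdeal p.asIdeal rfl))
    let ι : B →ₐ[A] (A ⧸ I) ⊗[A] B := Algebra.TensorProduct.includeRight
    have hιs : Function.Surjective ι.toRingHom := by
      intro z
      induction z using TensorProduct.induction_on with
      | zero => exact ⟨0, map_zero _⟩
      | tmul c y =>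
        obtain ⟨a, rfl⟩ := Ideal.Quotient.mk_surjective c
        exact ⟨a • y, (Algebra.TensorProduct.includeRight_apply _).trans
          (by rw [← TensorProduct.smul_tmul, Algebra.smul_def, mul_one]; rfl)⟩
      | add x y hx hy =>
        obtain ⟨a, rfl⟩ := hx
        obtain ⟨b, rfl⟩ := hy
        exact ⟨a + b, map_add _ _ _⟩
    have hker : RingHom.ker ι.toRingHom = I.map (algebraMap A B) := by
      refine le_antisymm (fun b hb => ?_) (Ideal.map_le_iff_le_comap.2 fun a ha => ?_)
      · let g : (A ⧸ I) ⊗[A] B →ₐ[A] B ⧸ I.map (algebraMap A B) := Algebra.TensorProduct.lift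
          (Ideal.Quotient.liftₐ I (Algebra.ofId A _) fun a ha =>
            Ideal.Quotient.eq_zero_iff_mem.2 (Ideal.mem_map_of_mem _ ha))
          (Ideal.Quotient.mkₐ A _) fun _ _ => Commute.all _ _
        have h1 := congrArg g (RingHom.mem_ker.1 hb)
        rw [map_zero] at h1
        refine Ideal.Quotient.eq_zero_iff_mem.1 (Eq.trans ?_ h1)
        show _ = g ((1 : A ⧸ I) ⊗ₜ[A] b)
        simp [g]
      · show ι (algebraMap A B a) = 0
        rw [ι.commutes, IsScalarTower.algebraMap_apply A (A ⧸ I) ((A ⧸ I) ⊗[A] B),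
          Ideal.Quotient.algebraMap_eq, Ideal.Quotient.eq_zero_iff_mem.2 ha, map_zero]
    have hembB := (PrimeSpectrum.isClosedEmbedding_comap_of_surjective _ _ hιs).isEmbedding
    have hrB : Set.range (PrimeSpectrum.comap ι.toRingHom) =
        {x | IsClosed ({x} : Set (PrimeSpectrum B))} := by
      rw [range_comap_of_surjective _ _ hιs, hker]
      ext q
      rw [PrimeSpectrum.mem_zeroLocus, SetLike.coe_subset_coe, Ideal.map_le_iff_le_comap,
        Set.mem_setOf, hclosed]
      exact Set.ext_iff.1 hI (PrimeSpectrum.comap (algebraMap A B) q)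
    have : ExtremallyDisconnected (IdentifiesLocal.C0 B) :=
      extremallyDisconnected_of_homeo (hembB.toHomeomorph.trans (Homeomorph.setCongr hrB))
    exact extremallyDisconnected_of_homeo eB
  · have : (m.comap (algebraMap A B)).IsMaximal :=
      Ideal.isMaximal_comap_of_isIntegral_of_isMaximal (R := A) m
    obtain ⟨_, -⟩ := id (hsh (m.comap (algebraMap A B)))
    have : IsLocalHom (Localization.localRingHom (m.comap (algebraMap A B)) m (algebraMap A B) rfl) :=
      Localization.isLocalHom_localRingHom _ _ _ _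
    exact Groth.Agent.S14620.result _ (finite_localization _ m rfl) (hsh _)

end Groth.Agent.S0679
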