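import Groth.Statements.S10537
import Groth.Agent.AlgSpCov.QAffineDescent
-- import your own Groth.Agent.* helpers here

set_option autoImplicit false
universe u
open CategoryTheory CategoryTheory.Limits AlgebraicGeometry
open AlgSp

namespace Groth.Agent.S10537

/-- The property of morphisms of algebraic spaces over S given by f is quasi-affine (every base change
to an affine scheme is a quasi-affine scheme) is fpqc local on the base: for an fpqc covering of an
algebraic space Y by algebraic spaces Y_i, a morphism f : X ⟶ Y of algebraic spaces and cartesian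
squares X_i = Y_i ×_Y X, f has the property if and only if every X_i ⟶ Y_i has it. -/
theorem result (S : Scheme.{u}) :
    AlgSp.IsLocalOnBase (AlgSp.IsFpqcCover (S := S)) AlgSp.IsQuasiAffineMor := by
  exact fun _ _ _ _ hY _ hg _ f hX _ p q _ sq =>
    ⟨fun hf i Z hZ z => by
      obtain ⟨W, j, fst, hW, hWq⟩ := hf hZ (z ≫ _)
      obtain ⟨r, hr₁, hr₂⟩ := (sq i).exists_lift fst ((AlgSp.yon S).map j ≫ z) (by rw [hW.w, Category.assoc])
      exact ⟨W, j, r, IsPullback.of_right (by rw [hr₁]; exact hW) hr₂ (sq i), hWq⟩,
      AlgSpCov.isQuasiAffineMor_of_fpqc hY hg hX sq⟩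

end Groth.Agent.S10537
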