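import Groth.Statements.S10541
import Groth.Agent.AlgSpCov.Inf

set_option autoImplicit false
set_option backward.isDefEq.respectTransparency false
universe u
open CategoryTheory CategoryTheory.Limits AlgebraicGeometry
open AlgSp Groth.Agent

namespace Groth.Agent.S10541

/-- The properties of morphisms of algebraic spaces over S given by locally quasi-finite (locally
quasi-finite and locally of finite type on etale charts) and by quasi-finite (the same together with
quasi-compact) are both fpqc local on the base: for an fpqc covering of an algebraic space Y by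
algebraic spaces Y_i, a morphism f : X ⟶ Y of algebraic spaces and cartesian squares X_i = Y_i ×_Y
X, f has the property if and only if every X_i ⟶ Y_i has it. -/
theorem result (S : Scheme.{u}) :
    AlgSp.IsLocalOnBase (AlgSp.IsFpqcCover (S := S)) (AlgSp.LocP (@LocallyQuasiFinite ⊓ @LocallyOfFiniteType)) ∧
    AlgSp.IsLocalOnBase (AlgSp.IsFpqcCover (S := S))
      (fun _ _ f => AlgSp.LocP (@LocallyQuasiFinite ⊓ @LocallyOfFiniteType) f ∧ AlgSp.IsQuasiCompactMor f) := by
  have := FpqcDesc.descendsAlong_locallyQuasiFinite.{u}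
  have := AlgSpCov.descendsAlong_inf @LocallyQuasiFinite @LocallyOfFiniteType
    (D := @Surjective ⊓ @Flat ⊓ @QuasiCompact)
  have hP := AlgSpCov.etaleLocal_locallyQuasiFinite.{u}.inf AlgSpCov.etaleLocal_locallyOfFiniteType
  exact ⟨AlgSpCov.isLocalOnBase_locP hP, fun _ _ _ _ hY hYi hg _ _ hX _ _ _ hXi sq =>
    ⟨fun hf i => ⟨AlgSpCov.locP_baseChange hP hX hY (sq i) hf.1,
      Groth.Agent.AlgSp.isQuasiCompactMor_baseChange (sq i) hf.2⟩,
    fun h => ⟨AlgSpCov.locP_of_fpqc hP hYi hg hXi sq fun i => (h i).1,
      AlgSpCov.isQuasiCompactMor_of_fpqc hg sq hX hY fun i => (h i).2⟩⟩⟩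

end Groth.Agent.S10541
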