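import Groth.Statements.S10685
import Groth.Agent.SchCover.ConnUpper
-- import your own Groth.Agent.* helpers here

set_option autoImplicit false
universe u
open CategoryTheory CategoryTheory.Limits AlgebraicGeometry
open AlgSp

set_option backward.isDefEq.respectTransparency false

namespace Groth.Agent.S10685

/-- Geometric fibres of proper morphisms have finitely many connected components. -/
theorem finite_geomFibre {S : Scheme.{u}} {X Y : AlgSp.Space S} (f : X ⟶ Y) (hf1 : AlgSp.IsProperMor f.hom)
    (k : AlgSp.FieldPt Y.obj) {Xk : AlgSp.Sp S} (a : Xk ⟶ X.obj) (b : Xk ⟶ (AlgSp.yon S).obj k.pt)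
    (sq : IsPullback a b f.hom k.toHom) : Finite (_root_.ConnectedComponents (AlgSp.Points Xk)) := by
  have hXk : AlgSp.IsAlgSpace Xk :=
    (Groth.Agent.AlgSp.isAlgSpace_pullback Y.property X.property (AlgSp.IsAlgSpace.yon_obj k.pt) f.hom k.toHom).of_iso
      ((IsPullback.of_hasPullback f.hom k.toHom).isoIsPullback _ _ sq)
  have hp := AlgSpD.isProperMor_baseChange X.property Y.property sq hf1
  obtain ⟨E, F, _, _, ⟨P⟩⟩ := Groth.Agent.AlgSp.exists_pres (h := k.str) hXk hp.2.1.2
    (Groth.Agent.AlgSp.isQuasiSeparatedMor_of_sep hp.1)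
  have := SchCover.noetherianSpace_of_pres P hp.2.1.1
  have := (TopologicalSpace.NoetherianSpace.finite_irreducibleComponents (α := AlgSp.Points Xk)).to_subtype
  refine Finite.of_surjective
    (fun Z : irreducibleComponents (AlgSp.Points Xk) => _root_.ConnectedComponents.mk (Z.2.1.nonempty.some)) fun c => ?_
  obtain ⟨x, rfl⟩ := _root_.ConnectedComponents.surjective_coe c
  exact ⟨⟨irreducibleComponent x, irreducibleComponent_mem_irreducibleComponents x⟩,
    _root_.ConnectedComponents.coe_eq_coe'.2 (irreducibleComponent_subset_connectedComponent (Set.Nonempty.some_mem _))⟩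

/-- For a proper flat morphism f : X ⟶ Y between algebraic spaces over S which is of finite presentation
and all of whose fibres are geometrically reduced (the fibre of f at y being geometrically reduced
means: for every field point k of Y in the class of y and every field homomorphism k ⟶ k', the base
change X_{k'} (pullback in fppf sheaves) is reduced (some etale surjective scheme chart is
reduced)), the function on |Y| counting the connected components of geometric fibres is locally
constant: for each d the set of y all of whose geometric fibres (X_k for an algebraically closed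
field point k in the class of y) have exactly d connected components, counted in ℕ∞, is open. -/
theorem result {S : Scheme.{u}} {X Y : AlgSp.Space S} (f : X ⟶ Y)
    (hf1 : AlgSp.IsProperMor f.hom) (hf2 : AlgSp.LocP @Flat f.hom) (hf3 : AlgSp.IsFinitePresentationMor f.hom)
    (hred : ∀ y : AlgSp.Points Y.obj, ∀ (k : AlgSp.FieldPt Y.obj), AlgSp.Points.mk k = y →
        ∀ (k' : Type u) [Field k'] (φ : k.K →+* k') (Xk' : AlgSp.Sp S) (a : Xk' ⟶ X.obj)
          (b : Xk' ⟶ (AlgSp.yon S).obj (Over.mk (Spec.map (CommRingCat.ofHom φ) ≫ k.str))),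
          IsPullback a b f.hom ((AlgSp.yon S).map (Over.homMk (Spec.map (CommRingCat.ofHom φ)) rfl :
            Over.mk (Spec.map (CommRingCat.ofHom φ) ≫ k.str) ⟶ k.pt) ≫ k.toHom) →
          AlgSp.EtaleLocally (fun U => IsReduced U) Xk') (d : ℕ∞) :
    IsOpen {y : AlgSp.Points Y.obj | ∀ (k : AlgSp.FieldPt Y.obj), AlgSp.Points.mk k = y → k.IsGeometric →
        ∀ (Xk : AlgSp.Sp S) (a : Xk ⟶ X.obj) (b : Xk ⟶ (AlgSp.yon S).obj k.pt), IsPullback a b f.hom k.toHom →
          ENat.card (_root_.ConnectedComponents (AlgSp.Points Xk)) = d} := by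
  classical
  rw [isOpen_iff_forall_mem_open]
  intro y hy
  obtain ⟨ι, T, b, hT, hb, hcov⟩ := Groth.Agent.AlgSp.exists_affine_family Y.property
  obtain ⟨i, u, rfl⟩ := hcov y
  have := hT i
  let R : CommRingCat.{u} := Γ((T i).left, ⊤)
  let h : Spec (CommRingCat.of R) ⟶ S := (T i).left.isoSpec.inv ≫ (T i).hom
  let ε : Over.mk h ≅ T i := Over.isoMk (T i).left.isoSpec.symm rfl
  let a := (AlgSp.yon S).map ε.hom ≫ b i
  have ha : AlgSp.RepWith @Etale a := AlgSpB.repWith_etale_map_comp ε.hom (hb i)
  let r₀ : PrimeSpectrum R := (T i).left.isoSpec.hom u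
  have hr₀ : AlgSp.Points.ofPt a r₀ = AlgSp.Points.ofPt (b i) u := by
    rw [AlgSpB.ofPt_map_comp]
    congr 1
    show (T i).left.isoSpec.inv ((T i).left.isoSpec.hom u) = u
    rw [← Scheme.Hom.comp_apply, Iso.hom_inv_id]
    rfl
  have hn := hy (SchCover.chartPt a r₀) ((SchCover.mk_chartPt a r₀).trans hr₀) (SchCover.isGeometric_chartPt a r₀)
  cases d with
  | top =>
    have sq := IsPullback.of_hasPullback f.hom (SchCover.chartPt a r₀).toHom
    have := finite_geomFibre f hf1 _ _ _ sq
    exact absurd (hn _ _ _ sq) (ENat.card_lt_top.2 this).ne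
  | coe n =>
    obtain ⟨O, hO, hyO, hOsub⟩ := SchCover.exists_open_chart_le f hf1 hf2 hf3 hred h a ha r₀ n
      (fun Xk u' v sq => (hn Xk u' v sq).le)
    rcases n with _ | n
    · exact ⟨O, fun y' hy' k hk hkg Xk u' v sq => le_antisymm (hOsub y' hy' k hk hkg Xk u' v sq) (by simp),
        hO, hr₀ ▸ hyO⟩
    · obtain ⟨O', hO', hyO', hO'sub⟩ := SchCover.exists_open_chart f hf1 hf2 hf3 h a ha r₀ n
        (fun Xk u' v sq => by rw [hn Xk u' v sq]; exact_mod_cast Nat.lt_succ_self n)
      refine ⟨O ∩ O', fun y' hy' k hk hkg Xk u' v sq => le_antisymm (hOsub y' hy'.1 k hk hkg Xk u' v sq) ?_,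
        hO.inter hO', hr₀ ▸ hyO, hr₀ ▸ hyO'⟩
      exact_mod_cast Order.add_one_le_of_lt (hO'sub y' hy'.2 k hk hkg Xk u' v sq)

end Groth.Agent.S10685
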