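import Groth.Statements.S10682
import Groth.Agent.S2549
import Groth.Agent.AlgSpCov.FppfDescentProps
import Groth.Agent.AlgSpCov.Covers
import Groth.Agent.AlgSp.SchImageRep
import Groth.Agent.AlgSp.PointsMor
import Groth.Agent.AlgSp.Space
import Groth.Agent.AlgSpB.Points

set_option backward.isDefEq.respectTransparency false
set_option backward.isDefEq.respectTransparency.types false
-- import your own Groth.Agent.* helpers here

set_option autoImplicit false
universe u
open CategoryTheory CategoryTheory.Limits AlgebraicGeometry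
open AlgSp

namespace Groth.Agent.S10682

/-- The base change of the fibre at `w` is the base change of the morphism along `Spec K ⟶ W`. -/
theorem isPullback_bc {U W : Scheme.{u}} (h : U ⟶ W) (w : W) (K : Type u) [Field K] [Algebra (IsLocalRing.ResidueField (W.presheaf.stalk w)) K] :
    IsPullback (FBase.bcπ (h.fiberToSpecResidueField w) K ≫ h.fiberι w)
      (FBase.bcStr (h.fiberToSpecResidueField w) K)
      h (Spec.map (CommRingCat.ofHom (algebraMap (IsLocalRing.ResidueField (W.presheaf.stalk w)) K)) ≫ W.fromSpecResidueField w) :=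
  (IsPullback.of_hasPullback (h.fiberToSpecResidueField w) (Spec.map (CommRingCat.ofHom (algebraMap (IsLocalRing.ResidueField (W.presheaf.stalk w)) K)))).paste_horiz
    (IsPullback.of_hasPullback h (W.fromSpecResidueField w))

/-- A chart geometrically reduced along the fibre over `w` has reduced base change along `Spec L ⟶ W` over `w`. -/
theorem isReduced_of_geomReducedAt {U W G : Scheme.{u}} (h : U ⟶ W) (e : G ⟶ U) [IsOpenImmersion e] (w : W)
    (L : Type u) [Field L] [Algebra (IsLocalRing.ResidueField (W.presheaf.stalk w)) L]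
    (hG : ∀ g : G, FBase.IsGeomReducedAt (h.fiberToSpecResidueField (h.base (e g))) (h.asFiber (e g)))
    {Q : Scheme.{u}} {q₁ : Q ⟶ G} {q₂ : Q ⟶ Spec (CommRingCat.of L)}
    (hQ : IsPullback q₁ q₂ (e ≫ h) (Spec.map (CommRingCat.ofHom (algebraMap (IsLocalRing.ResidueField (W.presheaf.stalk w)) L)) ≫ W.fromSpecResidueField w)) :
    IsReduced Q := by
  have big := isPullback_bc h w L
  let m : Q ⟶ FBase.bc (h.fiberToSpecResidueField w) L := big.lift (q₁ ≫ e) q₂ (by rw [Category.assoc]; exact hQ.w)
  have hm : IsPullback m q₁ (FBase.bcπ (h.fiberToSpecResidueField w) L ≫ h.fiberι w) e :=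
    IsPullback.of_right (by rw [big.lift_snd]; exact hQ.flip) (big.lift_fst ..) big.flip
  have : IsOpenImmersion m := MorphismProperty.of_isPullback hm.flip ‹_›
  have : ∀ x : Q, _root_.IsReduced (Q.presheaf.stalk x) := by
    intro x
    have he : h.fiberι w (FBase.bcπ (h.fiberToSpecResidueField w) L (m x)) = e (q₁ x) := by
      rw [← Scheme.Hom.comp_apply, ← Scheme.Hom.comp_apply, hm.w, Scheme.Hom.comp_apply]
    have hw : h.base (e (q₁ x)) = w := by
      rw [← he]
      change h (h.fiberι w _) = w
      rw [← Scheme.Hom.comp_apply, Scheme.Hom.fiber_fac, Scheme.Hom.comp_apply, Scheme.fromSpecResidueField_apply]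
    subst hw
    have hx : FBase.bcπ (h.fiberToSpecResidueField (h.base (e (q₁ x)))) L (m x) = h.asFiber (e (q₁ x)) :=
      (h.fiberι _).isEmbedding.injective (he.trans (h.fiberι_asFiber _).symm)
    have := hG (q₁ x) L (m x) hx
    exact isReduced_of_injective (inv (m.stalkMap x)).hom (ConcreteCategory.bijective_of_isIso _).1
  exact isReduced_of_isReduced_stalk Q

/-- For a flat proper morphism f : X ⟶ Y between algebraic spaces over S which is of finite
presentation, the set of points y of |Y| at which the fibre of f is geometrically reduced is open in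
|Y|; here the fibre of f at y being geometrically reduced means: for every field point k of Y in the
class of y and every field homomorphism k ⟶ k', the base change X_{k'} (pullback in fppf sheaves) is
reduced (some etale surjective scheme chart is reduced). -/
theorem result {S : Scheme.{u}} {X Y : AlgSp.Space S} (f : X ⟶ Y)
    (hf1 : AlgSp.LocP @Flat f.hom) (hf2 : AlgSp.IsProperMor f.hom) (hf3 : AlgSp.IsFinitePresentationMor f.hom) :
    IsOpen {y : AlgSp.Points Y.obj | ∀ (k : AlgSp.FieldPt Y.obj), AlgSp.Points.mk k = y →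
        ∀ (k' : Type u) [Field k'] (φ : k.K →+* k') (Xk' : AlgSp.Sp S) (a : Xk' ⟶ X.obj)
          (b : Xk' ⟶ (AlgSp.yon S).obj (Over.mk (Spec.map (CommRingCat.ofHom φ) ≫ k.str))),
          IsPullback a b f.hom ((AlgSp.yon S).map (Over.homMk (Spec.map (CommRingCat.ofHom φ)) rfl :
            Over.mk (Spec.map (CommRingCat.ofHom φ) ≫ k.str) ⟶ k.pt) ≫ k.toHom) →
          AlgSp.EtaleLocally (fun U => IsReduced U) Xk'} := by
  obtain ⟨W, b, hb, hbs⟩ := Y.property.atlas
  have hPA := Groth.Agent.AlgSp.isAlgSpace_pullback Y.property X.property (AlgSp.IsAlgSpace.yon_obj W) f.hom b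
  let P : AlgSp.Sp S := pullback f.hom b
  obtain ⟨U, m, hm, hms⟩ := hPA.atlas
  obtain ⟨h, hh⟩ := (AlgSp.yon S).map_surjective (m ≫ pullback.snd f.hom b)
  have ha : AlgSp.RepWith @Etale (m ≫ pullback.fst f.hom b) :=
    (AlgSp.RepWith @Etale).comp_mem _ _ hm (MorphismProperty.of_isPullback (IsPullback.of_hasPullback f.hom b).flip hb)
  have hw : (m ≫ pullback.fst f.hom b) ≫ f.hom = (AlgSp.yon S).map h ≫ b := by
    rw [hh, Category.assoc, Category.assoc, pullback.condition]
  have : Flat h.left := hf1 _ b h ha hb hw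
  have : LocallyOfFinitePresentation h.left := hf3.1 _ b h ha hb hw
  let G : Set U.left := {u | FBase.IsGeomReducedAt (h.left.fiberToSpecResidueField (h.left.base u)) (h.left.asFiber u)}
  have hG : IsOpen G := Groth.Agent.S2549.result h.left
  let O : U.left.Opens := ⟨G, hG⟩
  let U' : Over S := Over.mk (O.ι ≫ U.hom)
  let e' : U' ⟶ U := Over.homMk O.ι rfl
  let C : Set (AlgSp.Points P) := (AlgSp.Points.ofPt m '' G)ᶜ
  have hC : IsClosed C := ((Groth.Agent.AlgSpB.isOpenMap_ofPt hm) _ hG).isClosed_compl
  have hD : IsClosed (AlgSp.Points.map (pullback.snd f.hom b) '' C) :=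
    hf2.2.2 (AlgSp.IsAlgSpace.yon_obj W) b _ _ (IsPullback.of_hasPullback f.hom b) C hC
  let good : Set W.left := (AlgSp.Points.ofScheme W ⁻¹' (AlgSp.Points.map (pullback.snd f.hom b) '' C))ᶜ
  have hgood : IsOpen good := (hD.preimage (AlgSp.Points.schemeHomeo W).continuous).isOpen_compl
  suffices hsuf : ∀ Good : Set (AlgSp.Points Y.obj), (∀ w, AlgSp.Points.ofPt b w ∈ Good ↔ w ∈ good) → IsOpen Good by
    refine hsuf _ fun w => ⟨fun H => ?_, fun H => ?_⟩
    -- a fibre all of whose base changes are reduced lies in the good locus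
    · rintro ⟨x, hxC, hx⟩
      obtain ⟨u, rfl⟩ := Groth.Agent.AlgSpB.surjective_ofPt hms x
      refine hxC ⟨u, ?_, rfl⟩
      have hwu : h.left u = w := by
        refine (AlgSp.Points.schemeHomeo W).injective ?_
        change AlgSp.Points.ofScheme W (h.left u) = AlgSp.Points.ofScheme W w
        rw [← hx, AlgSp.Points.map_ofPt, ← hh, AlgSp.Points.ofPt_eq_map_ofScheme]
        exact (AlgSp.Points.map_yon_map_apply h u).symm
      subst hwu
      intro K _ _ x' hx'
      have hbc := isPullback_bc h.left (h.left.base u) K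
      let φ : W.left.residueField (h.left u) →+* K := algebraMap (IsLocalRing.ResidueField (W.left.presheaf.stalk (h.left u))) K
      let k := AlgSp.FieldPt.ofPt b (h.left u)
      let K' : Over S := Over.mk (Spec.map (CommRingCat.ofHom φ) ≫ k.str)
      let z : (AlgSp.yon S).obj K' ⟶ Y.obj := (AlgSp.yon S).map (Over.homMk (Spec.map (CommRingCat.ofHom φ)) rfl :
        K' ⟶ k.pt) ≫ k.toHom
      have hred := H k rfl K φ (pullback f.hom z) _ _ (IsPullback.of_hasPullback f.hom z)
      let lW : K' ⟶ W := Over.homMk (Spec.map (CommRingCat.ofHom φ) ≫ W.left.fromSpecResidueField (h.left u)) (by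
        simp [K', k, AlgSp.FieldPt.ofPt])
      have hz : z = (AlgSp.yon S).map lW ≫ b := by
        simp only [z, k, AlgSp.FieldPt.toHom_ofPt]
        rw [← Functor.map_comp_assoc]
        congr 1
      have hQA := Groth.Agent.AlgSp.isAlgSpace_pullback Y.property X.property (AlgSp.IsAlgSpace.yon_obj K') f.hom z
      have sqU := (IsPullback.of_hasPullback h lW).map (AlgSp.yon S)
      rw [hh] at sqU
      have sqP := IsPullback.of_hasPullback (pullback.snd f.hom b) ((AlgSp.yon S).map lW)
      obtain ⟨c, hc₁, hc₂⟩ := sqP.exists_lift ((AlgSp.yon S).map (pullback.fst h lW) ≫ m)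
        ((AlgSp.yon S).map (pullback.snd h lW)) (by rw [Category.assoc]; exact sqU.w)
      have sqc : IsPullback ((AlgSp.yon S).map (pullback.fst h lW)) c m (pullback.fst (pullback.snd f.hom b) ((AlgSp.yon S).map lW)) :=
        IsPullback.of_bot (by rw [hc₂]; exact sqU) hc₁.symm sqP
      have big := sqP.paste_horiz (IsPullback.of_hasPullback f.hom b)
      rw [← hz] at big
      let ε := (IsPullback.of_hasPullback f.hom z).isoIsPullback _ _ big
      have : IsReduced (pullback h lW).left :=
        Groth.Agent.AlgSp.SchImageRep.isReduced_chart hQA hred (c ≫ ε.inv)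
          ((MorphismProperty.cancel_right_of_respectsIso (AlgSp.RepWith @Etale) c ε.inv).2
            (MorphismProperty.of_isPullback sqc hm))
      have hl := ((IsPullback.of_hasPullback h lW).map (Over.forget S))
      have : IsReduced ((Over.forget S).obj (pullback h lW)) := ‹IsReduced (pullback h lW).left›
      have : IsReduced (FBase.bc (h.left.fiberToSpecResidueField (h.left.base u)) K) :=
        AlgebraicGeometry.isReduced_of_isOpenImmersion (hl.isoIsPullback _ _ hbc).inv
      infer_instance
    -- over the good locus all base changes of the fibre are reduced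
    · intro k hk k' _ φ Xk' a' b' hsq'
      let K' : Over S := Over.mk (Spec.map (CommRingCat.ofHom φ) ≫ k.str)
      let z : (AlgSp.yon S).obj K' ⟶ Y.obj := (AlgSp.yon S).map (Over.homMk (Spec.map (CommRingCat.ofHom φ)) rfl :
        K' ⟶ k.pt) ≫ k.toHom
      let t₀ : K'.left := (⟨⊥, Ideal.isPrime_bot⟩ : PrimeSpectrum k')
      obtain ⟨R, rK, rW, hR⟩ : ∃ (R : Over S) (rK : R ⟶ K') (rW : (AlgSp.yon S).obj R ⟶ (AlgSp.yon S).obj W),
          IsPullback rW ((AlgSp.yon S).map rK) b z := ⟨_, _, _, hb.1.isPullback z⟩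
      obtain ⟨rW, rfl⟩ := (AlgSp.yon S).map_surjective rW
      have hzy : AlgSp.Points.ofPt b w = AlgSp.Points.map z (AlgSp.Points.ofScheme K' t₀) := by
        rw [← hk, AlgSp.Points.map_comp, ← AlgSp.Points.ofPt_toHom k ((Over.homMk (Spec.map (CommRingCat.ofHom φ)) rfl : K' ⟶ k.pt).left t₀),
          AlgSp.Points.ofPt_eq_map_ofScheme]
        exact (congrArg _ (AlgSp.Points.map_yon_map_apply _ t₀)).symm
      obtain ⟨q, hq, -⟩ := Groth.Agent.AlgSpB.exists_of_isPullback hR (AlgSp.Points.ofScheme W w) (AlgSp.Points.ofScheme K' t₀)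
        (by rw [← AlgSp.Points.ofPt_eq_map_ofScheme]; exact hzy)
      let r := AlgSp.Points.toScheme R q
      have hrw : rW.left r = w := by
        refine (AlgSp.Points.schemeHomeo W).injective ?_
        change AlgSp.Points.ofScheme W _ = AlgSp.Points.ofScheme W w
        rw [← hq, ← AlgSp.Points.ofScheme_toScheme R q]
        exact (AlgSp.Points.map_yon_map_apply rW r).symm
      let L := R.left.residueField r
      let TL : Over S := Over.mk (R.left.fromSpecResidueField r ≫ R.hom)
      let σ : TL ⟶ R := Over.homMk (R.left.fromSpecResidueField r) rfl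
      let lW : TL ⟶ W := σ ≫ rW
      have hzL : (AlgSp.yon S).map (σ ≫ rK) ≫ z = (AlgSp.yon S).map lW ≫ b := by
        simp only [lW, Functor.map_comp, Category.assoc, hR.w]
      -- the base change to `L`
      let XL := pullback (pullback.snd f.hom b) ((AlgSp.yon S).map lW)
      have hXL : AlgSp.IsAlgSpace XL :=
        Groth.Agent.AlgSp.isAlgSpace_pullback (AlgSp.IsAlgSpace.yon_obj W) hPA (AlgSp.IsAlgSpace.yon_obj TL) _ _
      have sqP := IsPullback.of_hasPullback (pullback.snd f.hom b) ((AlgSp.yon S).map lW)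
      have big := sqP.paste_horiz (IsPullback.of_hasPullback f.hom b)
      rw [← hzL] at big
      obtain ⟨d, hd₁, hd₂⟩ := hsq'.exists_lift _ (pullback.snd (pullback.snd f.hom b) ((AlgSp.yon S).map lW) ≫
        (AlgSp.yon S).map (σ ≫ rK)) (big.w.trans (Category.assoc _ _ _).symm)
      have sqd : IsPullback d (pullback.snd (pullback.snd f.hom b) ((AlgSp.yon S).map lW)) b' ((AlgSp.yon S).map (σ ≫ rK)) :=
        IsPullback.of_right (by rw [hd₁]; exact big) hd₂ hsq'
      have sqU := (IsPullback.of_hasPullback (e' ≫ h) lW).map (AlgSp.yon S)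
      rw [Functor.map_comp, hh, ← Category.assoc] at sqU
      obtain ⟨c, hc₁, hc₂⟩ := sqP.exists_lift ((AlgSp.yon S).map (pullback.fst (e' ≫ h) lW) ≫ (AlgSp.yon S).map e' ≫ m)
        ((AlgSp.yon S).map (pullback.snd (e' ≫ h) lW)) (by rw [Category.assoc]; exact sqU.w)
      have sqc : IsPullback c ((AlgSp.yon S).map (pullback.fst (e' ≫ h) lW))
          (pullback.fst (pullback.snd f.hom b) ((AlgSp.yon S).map lW)) ((AlgSp.yon S).map e' ≫ m) :=
        (IsPullback.of_bot (by rw [hc₂]; exact sqU) hc₁.symm sqP).flip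
      have hem : AlgSp.RepWith @Etale ((AlgSp.yon S).map e' ≫ m) := (AlgSp.RepWith @Etale).comp_mem _ _
        ((AlgSp.repWith_yon_map_iff _ e').2 (inferInstanceAs (Etale O.ι))) hm
      have hce : AlgSp.RepWith @Etale c := MorphismProperty.of_isPullback sqc.flip hem
      have hcs : AlgSp.RepWith @Surjective c := by
        refine (Groth.Agent.AlgSp.repWith_surjective_iff _ hce.1).2 fun x => ?_
        obtain ⟨u, hu, hu'⟩ : AlgSp.Points.map (pullback.fst (pullback.snd f.hom b) ((AlgSp.yon S).map lW)) x ∈
            AlgSp.Points.ofPt m '' G := by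
          by_contra hn
          refine H ⟨_, hn, ?_⟩
          rw [← AlgSp.Points.map_comp, sqP.w, AlgSp.Points.map_comp,
            ← AlgSp.Points.ofScheme_toScheme TL (AlgSp.Points.map (pullback.snd _ _) x)]
          refine (AlgSp.Points.map_yon_map_apply lW _).trans (congrArg _ ?_)
          change rW.left (R.left.fromSpecResidueField r _) = w
          rw [Scheme.fromSpecResidueField_apply, hrw]
        have key := Groth.Agent.AlgSp.preimage_image_map sqc.flip Set.univ
        simp only [Set.preimage_univ, Set.image_univ] at key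
        refine key.le ⟨AlgSp.Points.ofScheme U' ⟨u, hu⟩, ?_⟩
        rw [AlgSp.Points.map_comp, ← hu', AlgSp.Points.ofPt_eq_map_ofScheme m]
        exact congrArg _ (AlgSp.Points.map_yon_map_apply e' ⟨u, hu⟩)
      have hQred : IsReduced (pullback (e' ≫ h) lW).left := by
        subst hrw
        let ψ : W.left.residueField (rW.left r) ⟶ CommRingCat.of L := rW.left.residueFieldMap r
        letI : Algebra (IsLocalRing.ResidueField (W.left.presheaf.stalk (rW.left r))) L := ψ.hom.toAlgebra
        have : lW.left = Spec.map (CommRingCat.ofHom (algebraMap (IsLocalRing.ResidueField (W.left.presheaf.stalk (rW.left r))) L)) ≫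
            W.left.fromSpecResidueField (rW.left r) := (rW.left.SpecMap_residueFieldMap_fromSpecResidueField r).symm
        have hl := (IsPullback.of_hasPullback (e' ≫ h) lW).map (Over.forget S)
        change IsPullback (pullback.fst (e' ≫ h) lW).left (pullback.snd (e' ≫ h) lW).left (O.ι ≫ h.left) lW.left at hl
        rw [this] at hl
        exact isReduced_of_geomReducedAt h.left O.ι (rW.left r) L (fun g => g.2) hl
      have hXLred : AlgSp.IsReducedSp XL := ⟨_, c, hce, hcs, hQred⟩
      have hXk' : AlgSp.IsAlgSpace Xk' := (Groth.Agent.AlgSp.isAlgSpace_pullback Y.property X.property (AlgSp.IsAlgSpace.yon_obj K') f.hom z).of_iso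
        ((IsPullback.of_hasPullback f.hom z).isoIsPullback _ _ hsq')
      have hσflat : Flat (σ ≫ rK).left := by
        obtain ⟨χ, hχ⟩ := Spec.map_surjective (R.left.fromSpecResidueField r ≫ rK.left :
          Spec L ⟶ Spec (CommRingCat.of k'))
        change Flat (R.left.fromSpecResidueField r ≫ rK.left)
        rw [← hχ, HasRingHomProperty.Spec_iff (P := @Flat)]
        letI := χ.hom.toAlgebra
        exact RingHom.flat_algebraMap_iff.2 inferInstance
      have hσsurj : Surjective (σ ≫ rK).left := ⟨fun t => ⟨(⟨⊥, Ideal.isPrime_bot⟩ : PrimeSpectrum L),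
        @Subsingleton.elim _ (inferInstanceAs (Subsingleton (PrimeSpectrum k'))) _ _⟩⟩
      refine Groth.Agent.AlgSpCov.isReducedSp_of_flat_surjective (X := ⟨XL, hXL⟩) (Y := ⟨Xk', hXk'⟩)
        (ObjectProperty.homMk d) ?_ ?_ hXLred
      · exact Groth.Agent.AlgSpCov.locP_baseChange Groth.Agent.AlgSpCov.etaleLocal_flat (AlgSp.IsAlgSpace.yon_obj TL)
          (AlgSp.IsAlgSpace.yon_obj K') sqd.flip (Groth.Agent.AlgSpCov.locP_of_repWith
            Groth.Agent.AlgSpCov.etaleLocal_flat ((AlgSp.repWith_yon_map_iff _ _).2 hσflat))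
      · intro x
        have key := Groth.Agent.AlgSp.preimage_image_map sqd.flip Set.univ
        simp only [Set.preimage_univ, Set.image_univ] at key
        refine key.le ?_
        obtain ⟨t, ht⟩ := hσsurj.surj (AlgSp.Points.toScheme K' (AlgSp.Points.map b' x))
        refine ⟨AlgSp.Points.ofScheme TL t, ?_⟩
        rw [← AlgSp.Points.ofScheme_toScheme K' (AlgSp.Points.map b' x), ← ht]
        exact AlgSp.Points.map_yon_map_apply _ t
  intro Good hGood
  have : Good = AlgSp.Points.ofPt b '' good := by
    ext y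
    obtain ⟨w, rfl⟩ := Groth.Agent.AlgSpB.surjective_ofPt hbs y
    exact ⟨fun hy => ⟨w, (hGood w).1 hy, rfl⟩, fun ⟨w', hw', e⟩ => e ▸ (hGood w').2 hw'⟩
  rw [this]
  exact (Groth.Agent.AlgSpB.isOpenMap_ofPt hb) _ hgood

end Groth.Agent.S10682
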