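import Groth.Statements.S1593
import Groth.Agent.StrictSSLib.NodalFamily
import Groth.Agent.AlgSp.GorCore

set_option linter.style.haveILetI false
set_option backward.isDefEq.respectTransparency.types false

set_option autoImplicit false
universe u
open CategoryTheory CategoryTheory.Limits AlgebraicGeometry
open Curves

namespace Groth.Agent.S1593

/-- Being an at-worst-nodal family of curves is étale local on the source: let f : X → S be a morphism
and g_i : U_i → X a jointly surjective family of étale morphisms. If every composite g_i ≫ f is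
at-worst-nodal of relative dimension one, then so is f. -/
theorem result {X S : Scheme.{u}} (f : X ⟶ S) (ι : Type u) (U : ι → Scheme.{u})
    (g : ∀ i, U i ⟶ X) [∀ i, Etale (g i)] (hsurj : ∀ x : X, ∃ i, x ∈ Set.range (g i).base)
    (h : ∀ i, Curv2.IsNodalFamily (g i ≫ f)) : Curv2.IsNodalFamily f := by
  haveI hfp : LocallyOfFinitePresentation f := by
    haveI : Etale (Sigma.desc g) := IsZariskiLocalAtSource.sigmaDesc (P := @Etale.{u}) fun i => inferInstance
    haveI : Surjective (Sigma.desc g) := ⟨fun x => by
      obtain ⟨i, w, rfl⟩ := hsurj x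
      exact ⟨Sigma.ι U i w, by rw [← Scheme.Hom.comp_apply, Sigma.ι_desc]⟩⟩
    refine AlgSpCov.locallyOfFinitePresentation_of_comp_smooth (Sigma.desc g) f ?_
    rw [show Sigma.desc g ≫ f = Sigma.desc (fun i => g i ≫ f) from Sigma.hom_ext _ _ fun i => by simp]
    exact IsZariskiLocalAtSource.sigmaDesc (P := @LocallyOfFinitePresentation.{u}) fun i => (h i).2.1
  refine (StrictSSLib.isNodalFamily_iff f).mpr ⟨?_, hfp, fun s => ?_⟩
  · rw [Flat.iff_flat_stalkMap]
    intro x
    obtain ⟨i, w, rfl⟩ := hsurj x
    haveI : Flat (g i ≫ f) := (h i).1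
    refine AlgSp.GorCore.flat_of_comp_flat (f.stalkMap (g i w)).hom ((g i).stalkMap w).hom (Flat.stalkMap (g i) w) ?_
    have h' := Flat.stalkMap (g i ≫ f) w
    rwa [Scheme.Hom.stalkMap_comp] at h'
  · haveI : ∀ i, Etale (StrictSSLib.fibreMap (g i) f s) := fun i =>
      MorphismProperty.of_isPullback (P := @Etale) (StrictSSLib.isPullback_fibreMap (g i) f s).flip inferInstance
    refine StrictSSLib.IsNodalCurve.of_etale_cover (k := S.residueField s) _ (fun i => StrictSSLib.fibreMap (g i) f s) (fun x => ?_) fun i => ?_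
    · obtain ⟨i, w, hw⟩ := hsurj (f.fiberι s x)
      obtain ⟨z, hz, -⟩ := Scheme.Pullback.exists_preimage_pullback (f := f.fiberι s) (g := g i) x w hw.symm
      refine ⟨i, (StrictSSLib.isPullback_fibreMap (g i) f s).isoPullback.inv z, ?_⟩
      rw [← Scheme.Hom.comp_apply, IsPullback.isoPullback_inv_fst]
      exact hz
    · rw [StrictSSLib.fibreMap_comp]
      exact (h i).2.2 s

end Groth.Agent.S1593
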