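import Groth.Statements.S6553
import Groth.Agent.StrictSSLib.OdpConj
import Groth.Agent.StrictSSLib.BcPoints
import Mathlib.RingTheory.Etale.Field

set_option autoImplicit false
set_option linter.style.haveILetI false
universe u
open CategoryTheory CategoryTheory.Limits AlgebraicGeometry
open Curves

namespace Groth.Agent.S6553

/-- Let k'/k be a finite separable extension of fields, X a scheme locally of finite type over k' of
dimension 1, and x ∈ X a closed point. Then x is a node of the k'-scheme X if and only if x is a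
node of X viewed as a k-scheme via Spec k' → Spec k. -/
theorem result (k : Type u) [Field k] (k' : Type u) [Field k'] [Algebra k k']
    [FiniteDimensional k k'] [Algebra.IsSeparable k k']
    (X : Scheme.{u}) [X.Over (Spec (CommRingCat.of k'))] [LocallyOfFiniteType (X ↘ (Spec (CommRingCat.of k')))] (hdim : topologicalKrullDim X = 1)
    (x : X) (hx : IsClosed ({x} : Set X)) :
    Curv2.IsNode k' X x ↔
      @Curv2.IsNode k _ X ⟨(X ↘ (Spec (CommRingCat.of k'))) ≫ Spec.map (CommRingCat.ofHom (algebraMap k k'))⟩ x := by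
  let φ := X ↘ (Spec (CommRingCat.of k'))
  let c := Spec.map (CommRingCat.ofHom (algebraMap k k'))
  let K := AlgebraicClosure k
  let K' := AlgebraicClosure k'
  haveI : Etale c := by
    rw [HasRingHomProperty.Spec_iff (P := @Etale)]
    haveI : Algebra.FormallyEtale k k' := Algebra.FormallyEtale.of_isSeparable k k'
    haveI : Algebra.FinitePresentation k k' := Algebra.FinitePresentation.of_finiteType.mp inferInstance
    exact (RingHom.etale_algebraMap (R := k) (S := k')).mpr ⟨inferInstance, inferInstance⟩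
  letI algK' : Algebra k K' := ((algebraMap k' K').comp (algebraMap k k')).toAlgebra
  haveI : @IsScalarTower k k' K' Algebra.toSMul Algebra.toSMul algK'.toSMul := IsScalarTower.of_algebraMap_eq' rfl
  haveI : Algebra.IsAlgebraic k K' := Algebra.IsAlgebraic.trans k k' K'
  haveI : IsAlgClosure k K' := ⟨inferInstance, inferInstance⟩
  let e : K ≃ₐ[k] K' := IsAlgClosure.equiv k K K'
  let b := Spec.map (CommRingCat.ofHom (algebraMap k K))
  let b' := Spec.map (CommRingCat.ofHom (algebraMap k' K'))
  let Se : Spec (CommRingCat.of K') ⟶ Spec (CommRingCat.of K) := Spec.map (CommRingCat.ofHom e.toRingEquiv.toRingHom)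
  have hSe : Se ≫ b = b' ≫ c := by
    rw [← Spec.map_comp, ← Spec.map_comp]
    congr 1
    ext r
    exact e.commutes r
  haveI : IsIso (CommRingCat.ofHom e.toRingEquiv.toRingHom) :=
    (ConcreteCategory.isIso_iff_bijective _).mpr e.bijective
  let τ₂ : pullback (φ ≫ c) (b' ≫ c) ⟶ pullback (φ ≫ c) b :=
    pullback.map _ _ _ _ (𝟙 _) Se (𝟙 _) (by simp) (by rw [Category.comp_id]; exact hSe.symm)
  let τ : pullback φ b' ⟶ pullback (φ ≫ c) b := pullback.mapDesc φ b' c ≫ τ₂
  haveI : IsOpenImmersion (pullback.mapDesc φ b' c) :=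
    MorphismProperty.of_isPullback (P := @IsOpenImmersion) (pullback_map_diagonal_isPullback φ b' c) inferInstance
  haveI : IsIso τ₂ := pullback.map_isIso _ _ _ _ _ _ _ _ _
  have hτ1 : τ ≫ pullback.fst (φ ≫ c) b = pullback.fst φ b' := by
    simp only [τ, τ₂, pullback.mapDesc, pullback.map, Category.assoc, pullback.lift_fst, pullback.lift_fst_assoc, Category.comp_id]
  have hτ2 : τ ≫ pullback.snd (φ ≫ c) b = pullback.snd φ b' ≫ Se := by
    simp only [τ, τ₂, pullback.mapDesc, pullback.map, Category.assoc, pullback.lift_snd, pullback.lift_snd_assoc, Category.comp_id]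
  haveI : LocallyOfFiniteType (φ ≫ c) := inferInstance
  have hpb := IsPullback.of_hasPullback (φ ≫ c) b
  have hfib : ∀ y, pullback.fst (φ ≫ c) b (τ y) = pullback.fst φ b' y := fun y => by
    rw [← Scheme.Hom.comp_apply, hτ1]
  have hcl : ∀ z, pullback.fst (φ ≫ c) b z = x → IsClosed ({z} : Set ↑(pullback (φ ≫ c) b)) := fun z hz =>
    StrictSSLib.isClosed_singleton_of_over_closed hpb (by rw [hz]; exact hx)
  constructor
  · rintro ⟨-, y, hy, hord⟩
    exact ⟨hx, τ y, (hfib y).trans hy,
      StrictSSLib.isOdpAt_of_semilinear' (pullback.snd (φ ≫ c) b) (pullback.snd φ b') e.toRingEquiv τ hτ2 y hord⟩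
  · rintro ⟨-, z, hz, hord⟩
    obtain ⟨y, hy, -⟩ := Scheme.Pullback.exists_preimage_pullback (f := φ) (g := b') x
      (IsLocalRing.closedPoint K') (Subsingleton.elim (α := PrimeSpectrum k') _ _)
    exact ⟨hx, y, hy, StrictSSLib.isOdpAt_of_semilinear (pullback.snd (φ ≫ c) b) (pullback.snd φ b') e.toRingEquiv τ hτ2 y
      (StrictSSLib.isOdpAt_of_over_same hpb (hcl z hz) (hcl _ ((hfib y).trans hy))
        (hz.trans ((hfib y).trans hy).symm) hord)⟩

end Groth.Agent.S6553
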