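import Groth.Statements.S1595
import Groth.Agent.StrictSSLib.NodalFamily
import Groth.Agent.S6553
import Groth.Agent.AlgSpD.RelDim
import Groth.Agent.FBase.Dim

set_option linter.style.haveILetI false
set_option backward.isDefEq.respectTransparency.types false

set_option autoImplicit false
universe u
open CategoryTheory CategoryTheory.Limits AlgebraicGeometry
open Curves

namespace Groth.Agent.S1595

/-- If S' → S is étale and f : X → S' is at-worst-nodal of relative dimension one, then the composite X
→ S is at-worst-nodal of relative dimension one. -/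
theorem result {X S S' : Scheme.{u}} (e : S' ⟶ S) [Etale e] (f : X ⟶ S') (hf : Curv2.IsNodalFamily f) :
    Curv2.IsNodalFamily (f ≫ e) := by
  obtain ⟨hfl, hfp, hfib⟩ := (StrictSSLib.isNodalFamily_iff f).mp hf
  refine (StrictSSLib.isNodalFamily_iff _).mpr ⟨inferInstance, inferInstance, fun s => ?_⟩
  let κ := S.residueField s
  let W : {s' : S' // e s' = s} → Scheme.{u} := fun i => f.fiber i.1
  have key : ∀ i : {s' : S' // e s' = s}, ∃ (g : W i ⟶ (f ≫ e).fiber s) (c : Spec (S'.residueField i.1) ⟶ Spec κ)
      (φ : κ ⟶ S'.residueField i.1),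
      c = Spec.map φ ∧ Etale c ∧ Etale g ∧ g ≫ (f ≫ e).fiberToSpecResidueField s = f.fiberToSpecResidueField i.1 ≫ c ∧
      g ≫ (f ≫ e).fiberι s = f.fiberι i.1 := by
    rintro ⟨s', rfl⟩
    let c := Spec.map (e.residueFieldMap s')
    have hc : Etale c := AlgSpD.etale_residueFieldMap e s'
    let g : f.fiber s' ⟶ (f ≫ e).fiber (e s') := pullback.lift (f.fiberι s') (f.fiberToSpecResidueField s' ≫ c) (by
      rw [← Category.assoc, f.fiber_fac, Category.assoc, Category.assoc,
        Scheme.Hom.SpecMap_residueFieldMap_fromSpecResidueField])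
    let m : (f ≫ e).fiber (e s') ⟶ e.fiber (e s') := pullback.lift ((f ≫ e).fiberι _ ≫ f) ((f ≫ e).fiberToSpecResidueField _)
      (by rw [Category.assoc]; exact pullback.condition)
    have hm : IsPullback m ((f ≫ e).fiberι _) (e.fiberι _) f := StrictSSLib.isPullback_fibreMap f e (e s')
    have hg1 : g ≫ (f ≫ e).fiberι (e s') = f.fiberι s' := pullback.lift_fst _ _ _
    have hg2 : g ≫ (f ≫ e).fiberToSpecResidueField (e s') = f.fiberToSpecResidueField s' ≫ c := pullback.lift_snd _ _ _
    have hm1 : m ≫ e.fiberι (e s') = (f ≫ e).fiberι _ ≫ f := pullback.lift_fst _ _ _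
    have hm2 : m ≫ e.fiberToSpecResidueField (e s') = (f ≫ e).fiberToSpecResidueField _ := pullback.lift_snd _ _ _
    have hg : IsPullback g (f.fiberToSpecResidueField s') m (e.asFiberHom s') := by
      refine IsPullback.of_right (h₁₂ := (f ≫ e).fiberι (e s')) (v₁₃ := f) (h₂₂ := e.fiberι (e s')) ?_ ?_ hm.flip
      · rw [hg1, e.asFiberHom_fiberι]
        exact IsPullback.of_hasPullback f _
      · refine pullback.hom_ext ?_ ?_
        · show (g ≫ m) ≫ e.fiberι (e s') = (f.fiberToSpecResidueField s' ≫ e.asFiberHom s') ≫ e.fiberι (e s')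
          rw [Category.assoc, hm1, ← Category.assoc, hg1, Category.assoc, e.asFiberHom_fiberι]
          exact pullback.condition
        · show (g ≫ m) ≫ e.fiberToSpecResidueField (e s') = (f.fiberToSpecResidueField s' ≫ e.asFiberHom s') ≫ e.fiberToSpecResidueField (e s')
          rw [Category.assoc, hm2, hg2, Category.assoc, e.asFiberHom_fiberToSpecResidueField]
    haveI : Etale (e.fiberToSpecResidueField (e s')) := MorphismProperty.pullback_snd _ _ inferInstance
    haveI : Etale (e.asFiberHom s' ≫ e.fiberToSpecResidueField (e s')) := by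
      rw [e.asFiberHom_fiberToSpecResidueField]; exact hc
    haveI : Etale (e.asFiberHom s') := Etale.of_comp _ (e.fiberToSpecResidueField (e s'))
    exact ⟨g, c, e.residueFieldMap s', rfl, hc, MorphismProperty.of_isPullback (P := @Etale) hg.flip inferInstance,
      hg2, hg1⟩
  choose g c φ hcφ hc hg hgsnd hgfst using key
  haveI := hg
  refine StrictSSLib.IsNodalCurve.of_etale_cover (k := κ) _ g (fun x => ?_) fun i => ?_
  · let y := (f ≫ e).fiberι s x
    have hy : (f ≫ e) y = s := by
      have h1 : y ∈ Set.range ((f ≫ e).fiberι s) := ⟨x, rfl⟩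
      rw [Scheme.Hom.range_fiberι] at h1
      exact h1
    refine ⟨⟨f y, hy⟩, f.asFiber y, ?_⟩
    refine ((f ≫ e).fiberι s).isEmbedding.injective ?_
    rw [← Scheme.Hom.comp_apply, hgfst]
    exact f.fiberι_asFiber y
  · rw [hgsnd i, hcφ i]
    let k' := S'.residueField i.1
    letI : Algebra κ k' := (φ i).hom.toAlgebra
    haveI : Algebra.Etale κ k' := by
      have := hc i
      rw [hcφ i, HasRingHomProperty.Spec_iff (P := @Etale)] at this
      exact this
    haveI : Algebra.IsSeparable κ k' := Algebra.FormallyUnramified.isSeparable κ k'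
    haveI : Module.Finite κ k' := Algebra.FormallyUnramified.finite_of_free κ k'
    have hd := (hfib i.1).1
    have hn := (hfib i.1).2
    haveI : LocallyOfFinitePresentation (f.fiberToSpecResidueField i.1) :=
      MorphismProperty.pullback_snd (P := @LocallyOfFinitePresentation) _ _ hfp
    haveI : Etale (Spec.map (φ i)) := hcφ i ▸ hc i
    refine ⟨hd, (StrictSSLib.atWorstNodal_iff _).mpr fun x hx => ?_⟩
    rcases (StrictSSLib.atWorstNodal_iff _).mp hn x hx with h | h
    · haveI := StrictSSLib.smooth_smoothLocus (f.fiberToSpecResidueField i.1)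
      haveI : Smooth ((f.fiberToSpecResidueField i.1).smoothLocus.ι ≫ f.fiberToSpecResidueField i.1 ≫ Spec.map (φ i)) := by
        rw [← Category.assoc]; infer_instance
      exact Or.inl (StrictSSLib.mem_smoothLocus_of_comp (f.fiberToSpecResidueField i.1).smoothLocus.ι _ ⟨x, h⟩)
    · letI : (W i).Over (Spec (CommRingCat.of k')) := ⟨f.fiberToSpecResidueField i.1⟩
      haveI : LocallyOfFiniteType ((W i) ↘ Spec (CommRingCat.of k')) :=
        inferInstanceAs (LocallyOfFiniteType (f.fiberToSpecResidueField i.1))
      have hdim : topologicalKrullDim (W i) = 1 := le_antisymm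
        (FBase.Dim.topDim_le_of_components fun Z hZ => (hd Z hZ).le)
        ((hd _ (irreducibleComponent_mem_irreducibleComponents x)).ge.trans
          (Topology.IsInducing.subtypeVal.topologicalKrullDim_le))
      exact Or.inr ((S6553.result κ k' (W i) hdim x hx).mp h)

end Groth.Agent.S1595
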