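import Groth.Statements.S2155
import Groth.Agent.FlatOpen.FibreMapAt

set_option autoImplicit false
set_option linter.style.haveILetI false
universe u
open CategoryTheory AlgebraicGeometry
open Mor

namespace Groth.Agent.S2155

/-- Consider a cartesian square with `f : X → S` locally of finite presentation, base change `g : S' →
S`, and `f' : X' → S'`, `g' : X' → X` the projections. If `f` is flat, or if `g` is flat, then the
open set of points where `f'` is smooth is the preimage under `g'` of the open set of points where
`f` is smooth. -/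
theorem result {X S X' S' : Scheme.{u}} (f : X ⟶ S) (g : S' ⟶ S) (f' : X' ⟶ S') (g' : X' ⟶ X)
    (h : IsPullback g' f' f g) [LocallyOfFinitePresentation f] [LocallyOfFinitePresentation f'] (hflat : Flat f ∨ Flat g) :
    f'.smoothLocus = g' ⁻¹ᵁ f.smoothLocus := by
  ext x'
  show (f'.stalkMap x').hom.FormallySmooth ↔ (f.stalkMap (g' x')).hom.FormallySmooth
  rw [← Groth.Agent.EtStruct.smooth_nhd_iff f', ← Groth.Agent.EtStruct.smooth_nhd_iff f]
  refine ⟨fun hx => ?_, fun hx => Groth.Agent.FlatOpen.FibreMapAt.nhd_baseChange @Smooth h x' hx⟩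
  rcases hflat with hfl | hfl
  · rw [Groth.Agent.EtStruct.smooth_nhd_iff] at hx ⊢
    obtain ⟨y', hy'⟩ : ∃ y' : f'.fiber (f' x'), f'.fiberι _ y' = x' := ⟨_, f'.fiberι_asFiber x'⟩
    have key := Groth.Agent.FlatOpen.SmoothAt.formallySmooth_stalkMap_iff_fibre f' (f' x') y'
    rw [hy'] at key
    let k := Spec.map (g.residueFieldMap (f' x'))
    have hk : k ≫ S.fromSpecResidueField (g (f' x')) = S'.fromSpecResidueField (f' x') ≫ g :=
      Scheme.Hom.SpecMap_residueFieldMap_fromSpecResidueField g (f' x')
    let l : f'.fiber (f' x') ⟶ f.fiber (g (f' x')) :=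
      Limits.pullback.lift (f'.fiberι _ ≫ g') (f'.fiberToSpecResidueField _ ≫ k) (by
        rw [Category.assoc, h.w, ← Category.assoc, f'.fiber_fac, Category.assoc, Category.assoc, hk])
    have hfst : l ≫ f.fiberι (g (f' x')) = f'.fiberι _ ≫ g' := Limits.pullback.lift_fst _ _ _
    have h1 : IsPullback (f'.fiberι (f' x') ≫ g') (f'.fiberToSpecResidueField (f' x')) f
        (k ≫ S.fromSpecResidueField (g (f' x'))) := by
      rw [hk]
      exact (IsPullback.of_hasPullback f' (S'.fromSpecResidueField (f' x'))).paste_horiz h
    have h2 : IsPullback l (f'.fiberToSpecResidueField (f' x'))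
        (f.fiberToSpecResidueField (g (f' x'))) k :=
      IsPullback.of_right (hfst.symm ▸ h1) (Limits.pullback.lift_snd _ _ _)
        (IsPullback.of_hasPullback f (S.fromSpecResidueField (g (f' x'))))
    haveI : Flat k := by
      rw [HasRingHomProperty.Spec_iff (P := @Flat)]
      algebraize [(g.residueFieldMap (f' x')).hom]
      exact inferInstanceAs (Module.Flat (S.residueField (g (f' x'))) (S'.residueField (f' x')))
    haveI : LocallyOfFinitePresentation (f.fiberToSpecResidueField (g (f' x'))) :=
      MorphismProperty.of_isPullback (P := @LocallyOfFinitePresentation)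
        (IsPullback.of_hasPullback f _) inferInstance
    haveI : LocallyOfFinitePresentation (f'.fiberToSpecResidueField (f' x')) :=
      MorphismProperty.of_isPullback (P := @LocallyOfFinitePresentation)
        (IsPullback.of_hasPullback f' _) inferInstance
    have h3 := Groth.Agent.EtStruct.smooth_nhd_of_baseChange h2 y' (Flat.stalkMap k _)
      ((Groth.Agent.EtStruct.smooth_nhd_iff _ y').mpr (key.mp hx).2)
    rw [Groth.Agent.EtStruct.smooth_nhd_iff] at h3
    have key' := Groth.Agent.FlatOpen.SmoothAt.formallySmooth_stalkMap_iff_fibre f (g (f' x')) (l y')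
    have hl : f.fiberι (g (f' x')) (l y') = g' x' := by
      rw [← Scheme.Hom.comp_apply, hfst, Scheme.Hom.comp_apply, hy']
    rw [hl] at key'
    exact key'.mpr ⟨Flat.stalkMap f _, h3⟩
  · exact Groth.Agent.EtStruct.smooth_nhd_of_baseChange h x' (Flat.stalkMap g _) hx

end Groth.Agent.S2155
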