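import Groth.Statements.S1591
import Groth.Agent.NodeStruct.Open
import Groth.Agent.S7912

set_option backward.isDefEq.respectTransparency.types false

set_option autoImplicit false
universe u
open CategoryTheory CategoryTheory.Limits AlgebraicGeometry
open Curves

namespace Groth.Agent.S1591

/-- Let f : X → S be flat and locally of finite presentation. There is a largest open subscheme U of X
on which f is at-worst-nodal of relative dimension one, and its formation commutes with base change:
for every g : S' → S the preimage of U in X ×_S S' is the largest open on which the base change of f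
is at-worst-nodal of relative dimension one. -/
theorem result {X S : Scheme.{u}} (f : X ⟶ S) [Flat f] [LocallyOfFinitePresentation f] :
    ∃ U : X.Opens, (Curv2.IsNodalFamily (U.ι ≫ f) ∧ ∀ V : X.Opens, Curv2.IsNodalFamily (V.ι ≫ f) → V ≤ U) ∧
      ∀ (S' : Scheme.{u}) (g : S' ⟶ S),
        Curv2.IsNodalFamily ((pullback.fst f g ⁻¹ᵁ U).ι ≫ pullback.snd f g) ∧
        ∀ V : (pullback f g).Opens, Curv2.IsNodalFamily (V.ι ≫ pullback.snd f g) → V ≤ pullback.fst f g ⁻¹ᵁ U := by
  let U : X.Opens := ⨆ V : {V : X.Opens // Curv2.IsNodalFamily (V.ι ≫ f)}, V.1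
  have hmax : ∀ V : X.Opens, Curv2.IsNodalFamily (V.ι ≫ f) → V ≤ U := fun V hV =>
    le_iSup (fun V : {V : X.Opens // Curv2.IsNodalFamily (V.ι ≫ f)} => V.1) ⟨V, hV⟩
  have hU : Curv2.IsNodalFamily (U.ι ≫ f) := by
    refine S1593.result (U.ι ≫ f) {V : X.Opens // Curv2.IsNodalFamily (V.ι ≫ f)} (fun V => (V.1 : Scheme.{u}))
      (fun V => X.homOfLE (hmax V.1 V.2)) (fun x => ?_) fun V => ?_
    · obtain ⟨V, hV⟩ := TopologicalSpace.Opens.mem_iSup.mp x.2
      exact ⟨V, ⟨x.1, hV⟩, U.ι.isOpenEmbedding.injective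
        congr($(X.homOfLE_ι (hmax V.1 V.2)) ⟨x.1, hV⟩)⟩
    · rw [← Category.assoc, X.homOfLE_ι]
      exact V.2
  refine ⟨U, ⟨hU, hmax⟩, fun S' g => ⟨?_, fun V hV => fun x' hx' => ?_⟩⟩
  · have hc := (isPullback_morphismRestrict (pullback.fst f g) U).paste_vert (IsPullback.of_hasPullback f g)
    haveI : Etale hc.isoPullback.inv := inferInstance
    refine S1593.result _ PUnit (fun _ => pullback (U.ι ≫ f) g) (fun _ => hc.isoPullback.inv) (fun x => ?_) fun _ => ?_
    · exact ⟨⟨⟩, hc.isoPullback.hom x, congr($(hc.isoPullback.hom_inv_id) x)⟩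
    · rw [IsPullback.isoPullback_inv_snd]
      exact S7912.result (U.ι ≫ f) hU g
  · show pullback.fst f g x' ∈ U
    have hd : FlatMor.fibreDimAt f (pullback.fst f g x') = 1 := by
      rw [← AlgSpD.fibreDimAt_of_isPullback f (IsPullback.of_hasPullback f g) x']
      exact (NodeStruct.fibreDimAt_comp V.ι (pullback.snd f g) ⟨x', hx'⟩).symm.trans
        (NodeStruct.fibreDimAt_eq_one _ hV _)
    obtain ⟨R, hR, hRn⟩ : ∃ R : X.Opens, pullback.fst f g x' ∈ R ∧ Curv2.IsNodalFamily (R.ι ≫ f) := by
      rcases NodeStruct.smooth_or_node (V.ι ≫ pullback.snd f g) hV ⟨x', hx'⟩ with h | h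
      · exact NodeStruct.exists_nodal_nhd_of_smooth f _ (NodeStruct.mem_smoothLocus_of_baseChange f
          (IsPullback.of_hasPullback f g) x' ((StrictSSLib.mem_smoothLocus_comp_iff V.ι (pullback.snd f g) ⟨x', hx'⟩).mp h)) hd
      · exact NodeStruct.exists_nodal_nhd_of_node f _ (NodeStruct.isNodeFib_of_baseChange f
          (IsPullback.of_hasPullback f g) x' hd.le ((NodeStruct.isNodeFib_comp V.ι (pullback.snd f g) ⟨x', hx'⟩).mp h))
    exact hmax R hRn hR

end Groth.Agent.S1591
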