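import Groth.Statements.S1592
import Groth.Agent.StrictSSLib.NodalFamily

set_option autoImplicit false
universe u
open CategoryTheory CategoryTheory.Limits AlgebraicGeometry
open Curves

namespace Groth.Agent.S1592

/-- If f : X → S is at-worst-nodal of relative dimension one and g : Y → X is étale, then g ≫ f is
at-worst-nodal of relative dimension one. -/
theorem result {X Y S : Scheme.{u}} (f : X ⟶ S) (hf : Curv2.IsNodalFamily f) (g : Y ⟶ X) [Etale g] :
    Curv2.IsNodalFamily (g ≫ f) := by
  obtain ⟨hfl, hfp, hfib⟩ := (StrictSSLib.isNodalFamily_iff f).mp hf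
  refine (StrictSSLib.isNodalFamily_iff _).mpr ⟨inferInstance, inferInstance, fun s => ?_⟩
  have : Etale (StrictSSLib.fibreMap g f s) :=
    MorphismProperty.of_isPullback (P := @Etale) (StrictSSLib.isPullback_fibreMap g f s).flip inferInstance
  rw [← StrictSSLib.fibreMap_comp]
  exact (hfib s).comp_etale _

end Groth.Agent.S1592
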