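import Groth.Statements.S4459
import Mathlib.RingTheory.AdicCompletion.Noetherian
import Mathlib.RingTheory.Spectrum.Prime.Topology

set_option autoImplicit false
universe u
open Coherent

namespace Groth.Agent.S4459

open AlgebraicGeometry CategoryTheory in
/-- Let A be a Noetherian ring which is separated and complete for the J-adic topology, and let f : X →
Spec A be a morphism of schemes which is a closed map on underlying spaces. Then every open subset
of X containing the inverse image of V(J) is all of X. (The published statement also assumes X of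
finite type over A; that hypothesis is not used.) -/
theorem result (A : Type u) [CommRing A] [IsNoetherianRing A]
    (J : Ideal A) [IsAdicComplete J A] {X : Scheme.{u}} (f : X ⟶ Spec (CommRingCat.of A))
    (hf : IsClosedMap f.base) (U : X.Opens)
    (hU : f.base ⁻¹' (PrimeSpectrum.zeroLocus (J : Set A)) ⊆ (U : Set X)) : U = ⊤ := by
  rw [eq_top_iff]
  intro x _
  by_contra hx
  have hc : IsClosed (f.base '' (U : Set X)ᶜ) := hf _ U.isOpen.isClosed_compl
  obtain ⟨K, hK⟩ := (PrimeSpectrum.isClosed_iff_zeroLocus_ideal _).mp hc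
  have hne : K ≠ ⊤ := fun h => by
    have h1 : f.base x ∈ f.base '' (U : Set X)ᶜ := ⟨x, hx, rfl⟩
    rw [hK, h, Submodule.top_coe, PrimeSpectrum.zeroLocus_univ] at h1
    exact h1
  obtain ⟨m, hm, hKm⟩ := K.exists_le_maximal hne
  have hJm : J ≤ m := (IsAdicComplete.le_jacobson_bot J).trans (sInf_le ⟨bot_le, hm⟩)
  have h2 : (⟨m, hm.isPrime⟩ : PrimeSpectrum A) ∈ f.base '' (U : Set X)ᶜ := by
    rw [hK]; exact hKm
  obtain ⟨z, hzU, hz⟩ := h2
  refine hzU (hU ?_)
  show f.base z ∈ PrimeSpectrum.zeroLocus (J : Set A)
  rw [hz]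
  exact hJm

end Groth.Agent.S4459
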