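import Groth.Statements.S5742
import Groth.Agent.S2301
import Groth.Agent.S4459

set_option autoImplicit false
universe u
open Coherent

namespace Groth.Agent.S5742

open AlgebraicGeometry CategoryTheory Opposite

theorem specQuot_kills {A : Type u} [CommRing A] (I : Ideal A) (n : ℕ) {a : A} (ha : a ∈ I ^ (n + 1)) :
    (CohB1.specQuot I n).appTop ((Scheme.ΓSpecIso (CommRingCat.of A)).inv a) = 0 := by
  have h := congr($(Scheme.ΓSpecIso_inv_naturality (CommRingCat.ofHom (Ideal.Quotient.mk (I ^ (n + 1))))) a)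
  refine h.symm.trans ?_
  show (Scheme.ΓSpecIso (CommRingCat.of (A ⧸ I ^ (n + 1)))).inv ((Ideal.Quotient.mk (I ^ (n + 1))) a) = 0
  rw [Ideal.Quotient.eq_zero_iff_mem.mpr ha, map_zero]

theorem exists_lift {A : Type u} [CommRing A] (I : Ideal A) (n : ℕ) {Z : Scheme.{u}} (g : Z ⟶ Spec (CommRingCat.of A))
    (h : ∀ a ∈ I ^ (n + 1), g.appTop ((Scheme.ΓSpecIso (CommRingCat.of A)).inv a) = 0) :
    ∃ l, l ≫ CohB1.specQuot I n = g := by
  let φ : A →+* Γ(Z, ⊤) := g.appTop.hom.comp (Scheme.ΓSpecIso (CommRingCat.of A)).inv.hom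
  let ψ : A ⧸ I ^ (n + 1) →+* Γ(Z, ⊤) := Ideal.Quotient.lift _ φ h
  refine ⟨Z.toSpecΓ ≫ Spec.map (CommRingCat.ofHom ψ), ?_⟩
  rw [CohB1.specQuot, Category.assoc, ← Spec.map_comp]
  have : CommRingCat.ofHom (Ideal.Quotient.mk (I ^ (n + 1))) ≫ CommRingCat.ofHom ψ =
      (Scheme.ΓSpecIso (CommRingCat.of A)).inv ≫ g.appTop := by ext; rfl
  rw [this, Spec.map_comp, ← Scheme.toSpecΓ_naturality_assoc]
  simp


open AlgebraicGeometry CategoryTheory CategoryTheory.Limits in
/-- Let A be a Noetherian ring separated and complete for the I-adic topology, X proper over Spec A and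
Y locally of finite type over Spec A; write X_n = X ×_A Spec(A/I^(n+1)). Two A-morphisms φ, ψ : X →
Y whose restrictions to X_n coincide for every n are equal. (The published statement takes Y
separated and of finite type over A, which the surjectivity half needs; injectivity uses neither
separatedness nor quasi-compactness of Y. Together with the existence of an A-morphism inducing any
compatible system of morphisms X_n → Y_n, this is the bijectivity of f ↦ f̂ from A-morphisms X → Y
to morphisms of the completions.) -/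
theorem result (A : Type u) [CommRing A] [IsNoetherianRing A]
    (I : Ideal A) [IsAdicComplete I A] {X Y : Scheme.{u}} (f : X ⟶ Spec (CommRingCat.of A))
    (h : Y ⟶ Spec (CommRingCat.of A)) [IsProper f] [LocallyOfFiniteType h] (φ ψ : X ⟶ Y)
    (hφ : φ ≫ h = f) (hψ : ψ ≫ h = f)
    (e : ∀ n : ℕ, CohB1.thickι f I n ≫ φ = CohB1.thickι f I n ≫ ψ) : φ = ψ := by
  haveI : IsLocallyNoetherian X := LocallyOfFiniteType.isLocallyNoetherian f
  haveI : IsLocallyNoetherian Y := LocallyOfFiniteType.isLocallyNoetherian h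
  letI : X.Over (Spec (CommRingCat.of A)) := ⟨f⟩
  letI : Y.Over (Spec (CommRingCat.of A)) := ⟨h⟩
  haveI : φ.IsOver (Spec (CommRingCat.of A)) := ⟨hφ⟩
  haveI : ψ.IsOver (Spec (CommRingCat.of A)) := ⟨hψ⟩
  haveI : LocallyOfFiniteType (Y ↘ Spec (CommRingCat.of A)) := (inferInstance : LocallyOfFiniteType h)
  haveI : IsClosedImmersion (CohB1.specQuot I 0) := IsClosedImmersion.spec_of_surjective _ Ideal.Quotient.mk_surjective
  haveI : IsClosedImmersion (CohB1.thickι f I 0) := inferInstanceAs (IsClosedImmersion (Limits.pullback.fst f (CohB1.specQuot I 0)))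
  let J := (CohB1.thickι f I 0).ker
  have hJ : ∀ (U : X.affineOpens) (a : A), a ∈ I → X.presheaf.map (homOfLE (le_top (a := (U : X.Opens)))).op
      (f.appTop ((Scheme.ΓSpecIso (CommRingCat.of A)).inv a)) ∈ J.ideal U := by
    intro U a ha
    simp only [J, Scheme.Hom.ker_apply, RingHom.mem_ker]
    show (f.appTop ≫ X.presheaf.map (homOfLE (le_top (a := (U : X.Opens)))).op ≫ (CohB1.thickι f I 0).app U)
      ((Scheme.ΓSpecIso (CommRingCat.of A)).inv a) = 0
    rw [(CohB1.thickι f I 0).naturality, ← Category.assoc]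
    have h0 : (CohB1.thickι f I 0 ≫ f).appTop ((Scheme.ΓSpecIso (CommRingCat.of A)).inv a) = 0 := by
      show (Limits.pullback.fst f (CohB1.specQuot I 0) ≫ f).appTop ((Scheme.ΓSpecIso (CommRingCat.of A)).inv a) = 0
      rw [Limits.pullback.condition]
      simp only [Scheme.Hom.comp_appTop, CommRingCat.comp_apply]
      rw [specQuot_kills I 0 (by rwa [zero_add, pow_one]), map_zero]
    rw [Scheme.Hom.comp_appTop] at h0
    erw [CommRingCat.comp_apply, h0]
    exact map_zero _
  have key : ∀ n : ℕ, ∃ l, l ≫ CohB1.specQuot I n = (J ^ (n + 1)).subschemeι ≫ f := fun n => by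
    refine exists_lift I n _ fun a ha => ?_
    rw [Scheme.Hom.comp_appTop, CommRingCat.comp_apply]
    refine TopCat.Sheaf.eq_of_locally_eq' (J ^ (n + 1)).subscheme.sheaf
      (fun U : X.affineOpens => (J ^ (n + 1)).subschemeι ⁻¹ᵁ (U : X.Opens)) ⊤ (fun U => homOfLE le_top)
      (fun z _ => by
        obtain ⟨_, ⟨W, hW, rfl⟩, hzW, -⟩ := X.isBasis_affineOpens.exists_subset_of_mem_open
          (Set.mem_univ ((J ^ (n + 1)).subschemeι z)) isOpen_univ
        exact TopologicalSpace.Opens.mem_iSup.mpr ⟨⟨W, hW⟩, hzW⟩) _ _ fun U => ?_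
    erw [map_zero]
    let res : Γ(X, ⊤) →+* Γ(X, U) := (X.presheaf.map (homOfLE (le_top (a := (U : X.Opens)))).op).hom
    let φA : A →+* Γ(X, U) := res.comp (f.appTop.hom.comp (Scheme.ΓSpecIso (CommRingCat.of A)).inv.hom)
    have hmem : φA a ∈ (J ^ (n + 1)).ideal U := by
      rw [Scheme.IdealSheafData.ideal_pow, Pi.pow_apply]
      have hle : Ideal.map φA I ≤ J.ideal U := Ideal.map_le_iff_le_comap.mpr fun b hb => hJ U b hb
      refine Ideal.pow_right_mono hle _ ?_
      rw [← Ideal.map_pow]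
      exact Ideal.mem_map_of_mem φA ha
    rw [← (J ^ (n + 1)).ker_subschemeι_app U, RingHom.mem_ker] at hmem
    refine Eq.trans ?_ hmem
    exact (congr($((J ^ (n + 1)).subschemeι.naturality (homOfLE (le_top (a := (U : X.Opens)))).op)
      (f.appTop ((Scheme.ΓSpecIso (CommRingCat.of A)).inv a)))).symm
  have heq : ∀ n : ℕ, (J ^ (n + 1)).subschemeι ≫ φ = (J ^ (n + 1)).subschemeι ≫ ψ := fun n => by
    obtain ⟨l, hl⟩ := key n
    rw [← Limits.pullback.lift_fst (J ^ (n + 1)).subschemeι l hl.symm, Category.assoc, Category.assoc]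
    exact congrArg _ (e n)
  obtain ⟨U, hU, hUeq⟩ := Groth.Agent.S2301.result (Spec (CommRingCat.of A)) X Y φ ψ J heq
  have htop : U = ⊤ := by
    refine Groth.Agent.S4459.result A I f f.isClosedMap U fun x hx => hU ?_
    have hx0 : x ∈ Set.range (CohB1.thickι f I 0) := by
      show x ∈ Set.range (Limits.pullback.fst f (CohB1.specQuot I 0))
      rw [Scheme.Pullback.range_fst]
      have : Set.range (CohB1.specQuot I 0) = PrimeSpectrum.zeroLocus (I : Set A) := by
        refine (range_comap_of_surjective _ _ Ideal.Quotient.mk_surjective).trans ?_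
        simp [Ideal.mk_ker]
      rw [this]
      exact hx
    simp only [J, Scheme.Hom.support_ker]
    exact subset_closure hx0
  subst htop
  haveI : IsIso (Scheme.Opens.ι (⊤ : X.Opens)) := X.topIso.isIso_hom
  exact (cancel_epi (Scheme.Opens.ι (⊤ : X.Opens))).mp hUeq

end Groth.Agent.S5742
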