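import Groth.Statements.S7642
import Groth.Agent.EulerChar.CurveVanish
import Groth.Agent.EulerChar.Components
import Groth.Agent.AmpCrit.AmpleH1
import Groth.Agent.AmpleLib.CompLemma
import Groth.Agent.AmpleLib.Locus

set_option autoImplicit false
universe u
open CategoryTheory CategoryTheory.Limits AlgebraicGeometry
open Variety

namespace Groth.Agent.S7642
open Groth.Agent.EulerChar

set_option linter.style.haveILetI false

theorem dim_subscheme {X : Scheme.{u}} (x : X) :
    topologicalKrullDim (IntMult.ptIdeal x).subscheme = topologicalKrullDim ↥(closure ({x} : Set X)) := by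
  have hr : Set.range (IntMult.ptIdeal x).subschemeι = closure {x} := by
    rw [Scheme.IdealSheafData.range_subschemeι]
    exact CohDev.coe_support_ptIdeal x
  rw [← hr]
  exact IsHomeomorph.topologicalKrullDim_eq _
    (IntMult.ptIdeal x).subschemeι.isEmbedding.toHomeomorph.isHomeomorph

/-- Closures of points of full dimension are components. -/
theorem mem_components {X : Scheme.{u}} (hdim : topologicalKrullDim X ≤ 1) (x : X)
    (hx : ¬ topologicalKrullDim ↥(closure ({x} : Set X)) ≤ 0) :
    closure ({x} : Set X) ∈ irreducibleComponents (X : Type u) := by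
  have hC := irreducibleComponent_mem_irreducibleComponents x
  have hgen := hC.1.isGenericPoint_genericPoint_closure
  rw [(isClosed_of_mem_irreducibleComponents _ hC).closure_eq] at hgen
  by_cases he : hC.1.genericPoint = x
  · rw [← he, hgen.def]
    exact hC
  · refine absurd ?_ hx
    have hcl := isClosed_singleton_of_specializes hdim (hgen.specializes mem_irreducibleComponent) he
    rw [hcl.closure_eq]
    exact topDim_le_zero_of_finite (Set.finite_singleton x) fun z hz => by rwa [Set.mem_singleton_iff.1 hz]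

theorem eq_one_of_le {d : WithBot ℕ∞} (h : d ≤ 1) (h0 : ¬ d ≤ 0) : d = 1 := by
  revert h h0
  cases d with
  | bot => intro _ h0; exact absurd bot_le h0
  | coe a =>
    intro h h0
    have h1 : a ≤ 1 := WithBot.coe_le_coe.1 h
    have h2 : ¬ a = 0 := fun e => h0 (by rw [e]; rfl)
    rw [le_antisymm h1 (Order.one_le_iff_pos.2 (pos_iff_ne_zero.2 h2))]
    rfl

variable (k : Type u) [Field k] {X : Scheme.{u}} [X.Over (Spec (CommRingCat.of k))]
  [IsProper (X ↘ (Spec (CommRingCat.of k)))] [IsNoetherian X]

/-- Eventual vanishing of `H¹` of the twists of a coherent module. -/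
theorem eventually_vanish (hdim : topologicalKrullDim X ≤ 1) {L : X.Modules} (hL : PicF.IsInvertible L)
    (hd : ∀ x : X, topologicalKrullDim ↥(closure ({x} : Set X)) = 1 →
      0 < @Curv2.deg k _ (IntMult.ptIdeal x).subscheme ⟨(IntMult.ptIdeal x).subschemeι ≫ (X ↘ Spec (CommRingCat.of k))⟩
        ((Scheme.Modules.pullback (IntMult.ptIdeal x).subschemeι).obj L) 1)
    {G : X.Modules} (hG : Coh.IsCoh G) :
    ∃ n₀ : ℕ, ∀ n, n₀ ≤ n → Subsingleton (Coh.HH X (CohB1.tensorMod (CohB1.tensorPow L n) G) 1) := by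
  have hP := fun n => ProjTwist.isFinLocFreeOfRank_one (AmpleLib.isInvertible_tensorPow hL n)
  refine CohDev.devissage_on Set.univ (fun G => ∃ n₀ : ℕ, ∀ n, n₀ ≤ n →
    Subsingleton (Coh.HH X (CohB1.tensorMod (CohB1.tensorPow L n) G) 1)) ?_ ?_ ?_ hG (Set.subset_univ _)
  · intro M hM
    refine ⟨0, fun n _ => subsingleton_of_forall_eq 0 fun x => ?_⟩
    have hz : IsZero (CohB1.tensorMod (CohB1.tensorPow L n) M) :=
      CohDev.isZero_of_support_eq_empty (Set.eq_empty_iff_forall_notMem.2 fun y hy =>
        CohDev.support_tens_subset _ M hy (subsingleton_of_forall_eq 0 fun t => by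
          rw [← CohDev.stalkLin_id_apply y t, hM.eq_of_src (𝟙 M) 0, CohDev.stalkLin_zero_apply]))
    rw [← CohLin.hMap_id _ 1 x, hz.eq_of_src (𝟙 _) 0]
    have h2 := CohLin.hMap_add (0 : CohB1.tensorMod (CohB1.tensorPow L n) M ⟶ CohB1.tensorMod (CohB1.tensorPow L n) M) 0 1 x
    rw [add_zero] at h2
    exact left_eq_add.1 h2
  · rintro S hS h₁ h₂ h₃ - ⟨n₁, hn₁⟩ ⟨n₃, hn₃⟩
    refine ⟨n₁ + n₃, fun n hn => ?_⟩
    obtain ⟨f, g, w, hw⟩ := exists_tens_seq k (hP n) hS
    haveI : Subsingleton (Coh.HH X (CohDev.tens (CohB1.tensorPow L n) S.X₁) 1) := hn₁ n (by omega)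
    haveI : Subsingleton (Coh.HH X (CohDev.tens (CohB1.tensorPow L n) S.X₃) 1) := hn₃ n (by omega)
    exact CohLin.subsingleton_X₂ hw (n := 1)
  · rintro x - J hJ -
    have hJc : Coh.IsCoh J := by obtain ⟨g, hg, hc, -⟩ := hJ; exact hc
    by_cases h0 : topologicalKrullDim ↥(closure ({x} : Set X)) ≤ 0
    · exact ⟨0, fun n _ => subsingleton_HH_of_support k (isCoh_tens k (hP n) hJc)
        ((TopDimLib.topDim_le_of_subset ((CohDev.support_tens_subset _ J).trans hJ.support_subset)).trans h0) 0⟩
    have h1 := eq_one_of_le ((topologicalKrullDim_subspace_le X _).trans hdim) h0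
    obtain ⟨hint, I, ι, hι, hI, ⟨eJ⟩⟩ := hJ.exists_ideal
    let i := (IntMult.ptIdeal x).subschemeι
    letI : (IntMult.ptIdeal x).subscheme.Over (Spec (CommRingCat.of k)) := ⟨i ≫ (X ↘ Spec (CommRingCat.of k))⟩
    haveI : IsProper ((IntMult.ptIdeal x).subscheme ↘ Spec (CommRingCat.of k)) :=
      inferInstanceAs (IsProper (i ≫ (X ↘ Spec (CommRingCat.of k))))
    haveI := EulerChar.isNoetherian k (X := (IntMult.ptIdeal x).subscheme)
    have hZ : topologicalKrullDim (IntMult.ptIdeal x).subscheme = 1 := (dim_subscheme x).trans h1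
    have hIc : Coh.IsCoh I := CohDev.isCoh_of_mono ι hI (VBLib.isCoh_of_ofRank
      (ProjTwist.isFinLocFreeOfRank_one (PicLoc.isInvertible_structureModule _)))
    obtain ⟨n₀, hn₀⟩ := exists_h1_vanish k hZ (PicCl.isInvertible_pullback i hL) (hd x h1) hIc
    refine ⟨n₀, fun n hn => ?_⟩
    haveI := hn₀ n hn
    obtain ⟨φ⟩ := AmpleLib.exists_iso_pullback_tensorPow i hL n
    haveI : (CohB1.tensorPow L n).IsQuasicoherent := (VBLib.isCoh_of_ofRank (hP n)).1
    haveI : I.IsQuasicoherent := hI
    have hq : Coh.IsQCoh (CohB1.tensorMod (CohB1.tensorPow ((Scheme.Modules.pullback i).obj L) n) I) :=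
      (CohDev.isCoh_tens (ProjTwist.isFinLocFreeOfRank_one
        (AmpleLib.isInvertible_tensorPow (PicCl.isInvertible_pullback i hL) n)) hIc).1
    let θ : CohB1.tensorMod (CohB1.tensorPow L n) J ≅ (Scheme.Modules.pushforward i).obj
        (CohB1.tensorMod (CohB1.tensorPow ((Scheme.Modules.pullback i).obj L) n) I) :=
      ProjTwist.tensCongr (Iso.refl _) eJ ≪≫ (ChgRings.projIso i I).app (CohB1.tensorPow L n) ≪≫
        (Scheme.Modules.pushforward i).mapIso (ProjTwist.tensCongr φ (Iso.refl I))
    obtain ⟨e⟩ := nonempty_pushEquiv i (A := k) rfl _ hq 1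
    haveI := e.toEquiv.subsingleton
    exact (CohLin.hIso θ 1).toEquiv.subsingleton


/-- Let X be proper of dimension at most one over a field k and let L be an invertible module on X. Then
L is ample if and only if deg(L|_C) > 0 for every irreducible component C of X of dimension one, C
carrying its reduced induced structure. -/
theorem result (k : Type u) [Field k] (X : Scheme.{u}) [X.Over (Spec (CommRingCat.of k))] [IsProper (X ↘ (Spec (CommRingCat.of k)))] [IsNoetherian X]
    (hdim : topologicalKrullDim X ≤ 1) (L : X.Modules) (hL : PicF.IsInvertible L) :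
    CohB1.IsAmple L ↔ ∀ (C : Set X) (hC : C ∈ irreducibleComponents (X : Type u)),
      topologicalKrullDim C = 1 → 0 < @Curv2.deg k _ (X.irreducibleComponentIdeal C hC).radical.subscheme ⟨(X.irreducibleComponentIdeal C hC).radical.subschemeι ≫ (X ↘ (Spec (CommRingCat.of k)))⟩ ((Scheme.Modules.pullback (X.irreducibleComponentIdeal C hC).radical.subschemeι).obj L) 1 := by
  haveI : CompactSpace X := inferInstance
  haveI : X.IsSeparated := ⟨by
    rw [show terminal.from X = (X ↘ Spec (CommRingCat.of k)) ≫ terminal.from _ from Subsingleton.elim _ _]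
    infer_instance⟩
  have hgen : ∀ C ∈ irreducibleComponents (X : Type u), ∃ ξ : X, IsGenericPoint ξ C := fun C hC =>
    ⟨hC.1.genericPoint, by
      have h := hC.1.isGenericPoint_genericPoint_closure
      rwa [(isClosed_of_mem_irreducibleComponents C hC).closure_eq] at h⟩
  constructor
  · intro hA C hC hC1
    obtain ⟨ξ, hξ⟩ := hgen C hC
    rw [← hξ.def] at hC1
    rw [radical_componentIdeal hC hξ]
    let i := (IntMult.ptIdeal ξ).subschemeι
    letI : (IntMult.ptIdeal ξ).subscheme.Over (Spec (CommRingCat.of k)) := ⟨i ≫ (X ↘ Spec (CommRingCat.of k))⟩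
    haveI : IsProper ((IntMult.ptIdeal ξ).subscheme ↘ Spec (CommRingCat.of k)) :=
      inferInstanceAs (IsProper (i ≫ (X ↘ Spec (CommRingCat.of k))))
    haveI : IsIntegral (IntMult.ptIdeal ξ).subscheme :=
      Groth.Agent.S16188.isIntegral_subscheme _ isIrreducible_singleton.closure
    haveI := EulerChar.compactSpace k (X := (IntMult.ptIdeal ξ).subscheme)
    exact deg_pos_of_isAmple k ((dim_subscheme ξ).trans hC1)
      (AmpleLib.isAmple_pullback_of_isInducing i i.isEmbedding.isInducing hA)
  · intro h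
    refine AmpCrit.isAmple_of_H1 hL fun I j hj hI => ?_
    haveI := hj
    have hIc : Coh.IsCoh I := CohDev.isCoh_of_mono j hI (VBLib.isCoh_of_ofRank
      (ProjTwist.isFinLocFreeOfRank_one (PicLoc.isInvertible_structureModule X)))
    obtain ⟨n₀, hn₀⟩ := eventually_vanish k hdim hL (fun x hx => by
      have hC := mem_components hdim x (by rw [hx]; norm_num)
      have h1 := h _ hC hx
      rwa [radical_componentIdeal hC (isGenericPoint_closure (x := x))] at h1) hIc
    refine ⟨n₀, ?_⟩
    haveI := hn₀ (n₀ + 1) (Nat.le_succ _)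
    exact (CohLin.hIso (ProjTwist.tensComm I _) 1).toEquiv.subsingleton

end Groth.Agent.S7642
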