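import Groth.Statements.S8914
import Groth.Agent.IdealSh.IdealMod

set_option autoImplicit false
universe u
open CategoryTheory CategoryTheory.Limits AlgebraicGeometry TopologicalSpace
open SDiv

namespace Groth.Agent.S8914

/-- Let S be a scheme and D ⊆ S a closed subscheme with quasi-coherent ideal sheaf 𝓘. Then the ideal
sheaf of D is an invertible O_S-module (that is, D is an effective Cartier divisor) if and only if
every point has an affine open neighbourhood Spec A in S with D ∩ Spec A = Spec A/(f) for a
nonzerodivisor f ∈ A. -/
theorem result {S : Scheme.{u}} (𝓘 : S.IdealSheafData) :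
    PicF.IsInvertible (ClSub.idealMod 𝓘) ↔ BlowUp.IsEffCartierIdeal 𝓘 := by
  exact ⟨Groth.Agent.IdealSh.IdealMod.isEffCartierIdeal_of_isInvertible 𝓘,
    Groth.Agent.IdealSh.IdealMod.isInvertible_of_isEffCartierIdeal 𝓘⟩

end Groth.Agent.S8914
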