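import Groth.Statements.S0219
import Mathlib.AlgebraicGeometry.ZariskisMainTheorem
import Mathlib.AlgebraicGeometry.Noetherian

set_option autoImplicit false
universe u
open CategoryTheory CategoryTheory.Limits AlgebraicGeometry TopologicalSpace
open Curves

namespace Groth.Agent.S0219

open TopologicalSpace in
private lemma component_of_nontrivial {α : Type*} [TopologicalSpace α] [T0Space α] [CompactSpace α]
    (hdim : topologicalKrullDim α ≤ 1) {T : Set α} (hTc : IsClosed T) (hTi : IsIrreducible T)
    (hT : ¬ T.Subsingleton) : T ∈ irreducibleComponents α ∧ topologicalKrullDim T = 1 := by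
  obtain ⟨w, hwT, hw⟩ := hTc.exists_closed_singleton hTi.nonempty
  have hlt : ({w} : Set α) < T := by
    refine lt_of_le_of_ne (Set.singleton_subset_iff.mpr hwT) fun e => hT ?_
    rw [← e]
    exact Set.subsingleton_singleton
  refine ⟨⟨hTi, fun T' hT' hle => ?_⟩, le_antisymm ?_ ?_⟩
  · by_contra hne
    let a : IrreducibleCloseds α := ⟨{w}, isIrreducible_singleton, hw⟩
    let b : IrreducibleCloseds α := ⟨T, hTi, hTc⟩
    let c : IrreducibleCloseds α := ⟨closure T', hT'.closure, isClosed_closure⟩
    have hab : a < b := hlt
    have hbc : b < c := by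
      refine lt_of_le_of_ne (hle.trans subset_closure) fun e => hne ?_
      have e' : T = closure T' := congrArg (fun z : IrreducibleCloseds α => (z : Set α)) e
      rw [e']
      exact subset_closure
    have h2 := Order.LTSeries.length_le_krullDim
      ((((RelSeries.singleton _ a).snoc b hab).snoc c (by simp only [RelSeries.last_snoc]; exact hbc) : LTSeries (IrreducibleCloseds α)))
    have h3 : ((2 : ℕ) : WithBot ℕ∞) ≤ ((1 : ℕ) : WithBot ℕ∞) := h2.trans (hdim.trans (by simp))
    have h4 : (2 : ℕ) ≤ 1 := by exact_mod_cast h3
    omega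
  · exact (Topology.IsInducing.subtypeVal.topologicalKrullDim_le (f := ((↑) : T → α))).trans hdim
  · haveI : IrreducibleSpace T :=
      haveI : PreirreducibleSpace T := Subtype.preirreducibleSpace hTi.isPreirreducible
      { toNonempty := hTi.nonempty.to_subtype }
    let a : IrreducibleCloseds T := ⟨{⟨w, hwT⟩}, isIrreducible_singleton, by
      have := hw.preimage (continuous_subtype_val (p := fun x => x ∈ T))
      convert this using 1
      ext z
      simp [Subtype.ext_iff]⟩
    let b : IrreducibleCloseds T := ⟨Set.univ, IrreducibleSpace.isIrreducible_univ T, isClosed_univ⟩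
    have hab : a < b := by
      refine lt_of_le_of_ne (Set.subset_univ _) fun e => hT fun x hx y hy => ?_
      have e' : ({⟨w, hwT⟩} : Set T) = Set.univ := congrArg (fun z : IrreducibleCloseds T => (z : Set T)) e
      have h1 : (⟨x, hx⟩ : T) ∈ ({⟨w, hwT⟩} : Set T) := e' ▸ Set.mem_univ _
      have h2 : (⟨y, hy⟩ : T) ∈ ({⟨w, hwT⟩} : Set T) := e' ▸ Set.mem_univ _
      exact congrArg Subtype.val (h1.trans h2.symm)
    have := Order.LTSeries.length_le_krullDim ((RelSeries.singleton _ a).snoc b hab : LTSeries (IrreducibleCloseds T))
    have h1 : ((1 : ℕ) : WithBot ℕ∞) ≤ Order.krullDim (IrreducibleCloseds T) := this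
    rw [Nat.cast_one] at h1
    exact h1

/-- A morphism over a field from a proper scheme of dimension at most one to a separated scheme, which
does not contract any one-dimensional irreducible component to a point, is finite. -/
theorem result (k : Type u) [Field k] (X Y : Scheme.{u}) (p : X ⟶ Spec (CommRingCat.of k)) (q : Y ⟶ Spec (CommRingCat.of k))
    [IsProper p] [IsSeparated q] (f : X ⟶ Y) (hf : f ≫ q = p) (hdim : topologicalKrullDim X ≤ 1)
    (h : ∀ Z ∈ irreducibleComponents (X : Type u), topologicalKrullDim Z = 1 → (f.base '' Z).Nontrivial) :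
    IsFinite f := by
  haveI : IsProper (f ≫ q) := hf ▸ ‹IsProper p›
  haveI : IsProper f := IsProper.of_comp f q
  haveI : IsLocallyNoetherian X := LocallyOfFiniteType.isLocallyNoetherian p
  haveI : CompactSpace X := QuasiCompact.compactSpace_of_compactSpace p
  haveI : IsNoetherian X := { }
  haveI : LocallyQuasiFinite f := by
    refine LocallyQuasiFinite.of_finite_preimage_singleton f fun y => ?_
    by_cases hy : IsClosed ({y} : Set Y)
    · obtain ⟨S, hSf, hScl, hSirr, hS⟩ :=
        TopologicalSpace.NoetherianSpace.exists_finite_set_isClosed_irreducible (hy.preimage f.continuous)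
      rw [hS]
      refine Set.Finite.sUnion hSf fun T hT => ?_
      refine (?_ : T.Subsingleton).finite
      by_contra hT'
      obtain ⟨hcomp, hd⟩ := component_of_nontrivial hdim (hScl T hT) (hSirr T hT) hT'
      obtain ⟨a, ⟨x, hx, rfl⟩, b, ⟨z, hz, rfl⟩, hab⟩ := h T hcomp hd
      have hx' : f.base x ∈ ({y} : Set Y) := (hS ▸ Set.mem_sUnion.mpr ⟨T, hT, hx⟩ : x ∈ f.base ⁻¹' {y})
      have hz' : f.base z ∈ ({y} : Set Y) := (hS ▸ Set.mem_sUnion.mpr ⟨T, hT, hz⟩ : z ∈ f.base ⁻¹' {y})
      exact hab (hx'.trans hz'.symm)
    · refine Set.Finite.of_finite_image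
        (TopologicalSpace.NoetherianSpace.finite_irreducibleComponents.subset ?_) (f := fun x => closure {x}) ?_
      · rintro _ ⟨x, hx, rfl⟩
        have hx' : f.base x = y := hx
        have hnc : ¬ IsClosed ({x} : Set X) := fun hc => hy (by
          have := f.isClosedMap _ hc
          rwa [Set.image_singleton, hx'] at this)
        refine (component_of_nontrivial hdim isClosed_closure isIrreducible_singleton.closure ?_).1
        intro hs
        apply hnc
        rw [show ({x} : Set X) = closure {x} from Set.Subset.antisymm subset_closure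
          fun z hz => hs hz (subset_closure rfl)]
        exact isClosed_closure
      · intro a _ b _ e
        exact ((specializes_iff_closure_subset.mpr e.ge).antisymm (specializes_iff_closure_subset.mpr e.le)).eq
  exact IsFinite.of_isProper_of_locallyQuasiFinite f

end Groth.Agent.S0219
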