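import Groth.Statements.S1550
import Mathlib
import Groth.Agent.GeomPts.Basic
import Groth.Agent.GrpScheme.SepPoint
-- import your own Groth.Agent.* helpers here

set_option autoImplicit false
universe u
open CategoryTheory CategoryTheory.Limits AlgebraicGeometry
attribute [local instance] Curv2.resAlgebra
open Variety

namespace Groth.Agent.S1550

open IsLocalRing

/-- The structure map at a residue field is `resMap`. -/
lemma fromSpecResidueField_over (k : Type u) [Field k] (X : Scheme.{u}) [X.Over (Spec (CommRingCat.of k))]
    (x : X) : X.fromSpecResidueField x ≫ (X ↘ Spec (CommRingCat.of k)) =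
      Spec.map (CommRingCat.ofHom (Curv2.resMap k X x)) := by
  set f := X ↘ Spec (CommRingCat.of k)
  have hf : f = X.toSpecΓ ≫ Spec.map ((Scheme.ΓSpecIso (CommRingCat.of k)).inv ≫ f.appTop) := by
    rw [Spec.map_comp, ← Scheme.toSpecΓ_naturality_assoc, ← SpecMap_ΓSpecIso_hom, ← Spec.map_comp,
      Iso.inv_hom_id, Spec.map_id, Category.comp_id]
  rw [hf, Scheme.fromSpecResidueField, Category.assoc, Scheme.fromSpecStalk_toSpecΓ_assoc,
    ← Spec.map_comp, ← Spec.map_comp]
  rfl

/-- If X is smooth over a field k, then the set of closed points of X whose residue field is finite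
separable over k is dense in X. -/
theorem result (k : Type u) [Field k] (X : Scheme.{u}) [X.Over (Spec (CommRingCat.of k))] [Smooth (X ↘ (Spec (CommRingCat.of k)))] :
    Dense {x : X | IsClosed ({x} : Set X) ∧ FiniteDimensional k (X.residueField x) ∧ Algebra.IsSeparable k (X.residueField x)} := by
  set f := X ↘ Spec (CommRingCat.of k)
  rw [dense_iff_inter_open]
  rintro U hU ⟨x₀, hx₀⟩
  let U' : X.Opens := ⟨U, hU⟩
  let Ks := SeparableClosure k
  let σ := Spec.map (CommRingCat.ofHom (algebraMap k Ks))
  have : Surjective σ := ⟨fun y => ⟨closedPoint Ks, Subsingleton.elim _ _⟩⟩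
  let g := U'.ι ≫ f
  have : Surjective (pullback.fst g σ) := inferInstance
  obtain ⟨z, -⟩ := (pullback.fst g σ).surjective ⟨x₀, hx₀⟩
  have : Nonempty ↥(pullback g σ) := ⟨z⟩
  obtain ⟨s, hs⟩ := Groth.Agent.GrpScheme.SepPoint.exists_point (pullback.snd g σ)
  let t := (s ≫ pullback.fst g σ) ≫ U'.ι
  have ht : t ≫ f = σ := by
    simp only [t, Category.assoc]
    rw [pullback.condition, ← Category.assoc, hs, Category.id_comp]
  obtain ⟨⟨x, φ⟩, hxφ⟩ := (Scheme.SpecToEquivOfField Ks X).symm.surjective t
  change Spec.map φ ≫ X.fromSpecResidueField x = t at hxφ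
  have hxU : x ∈ U := by
    have h1 : t (closedPoint Ks) = x := by
      rw [← hxφ]
      exact Scheme.fromSpecResidueField_apply x _
    rw [← h1]
    exact ((s ≫ pullback.fst g σ) (closedPoint Ks)).2
  have hφ : φ.hom.comp (Curv2.resMap k X x) = algebraMap k Ks := by
    have h2 : CommRingCat.ofHom (Curv2.resMap k X x) ≫ φ = CommRingCat.ofHom (algebraMap k Ks) := by
      apply Spec.map_injective
      rw [Spec.map_comp, ← fromSpecResidueField_over, ← Category.assoc, hxφ]
      exact ht
    exact congrArg CommRingCat.Hom.hom h2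
  let φa : X.residueField x →ₐ[k] Ks :=
    { φ.hom with commutes' := fun r => RingHom.congr_fun hφ r }
  have hsep : Algebra.IsSeparable k (X.residueField x) := Algebra.IsSeparable.of_algHom k Ks φa
  have : Algebra.EssFiniteType k (X.residueField x) := by
    have h3 := Groth.Agent.GeomPts.essFiniteType_residueField f x
    rw [fromSpecResidueField_over, Spec.preimage_map] at h3
    exact RingHom.essFiniteType_algebraMap.mp h3
  have hfin : FiniteDimensional k (X.residueField x) := Algebra.finite_of_essFiniteType_of_isAlgebraic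
  refine ⟨x, hxU, ?_, hfin, hsep⟩
  have : JacobsonSpace X := LocallyOfFiniteType.jacobsonSpace f
  have : LocallyOfFiniteType (X.fromSpecResidueField x ≫ f) := by
    rw [fromSpecResidueField_over, HasRingHomProperty.Spec_iff (P := @LocallyOfFiniteType)]
    exact RingHom.finiteType_algebraMap.mpr inferInstance
  exact isClosed_singleton_iff_locallyOfFiniteType.mpr (locallyOfFiniteType_of_comp _ f)

end Groth.Agent.S1550
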