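import Groth.Statements.S1556
import Mathlib
import Groth.Agent.GeomLoc.SmoothRegular
import Groth.Agent.VarDim.Curve
-- import your own Groth.Agent.* helpers here

set_option autoImplicit false
universe u
open CategoryTheory CategoryTheory.Limits AlgebraicGeometry
attribute [local instance] Curv2.resAlgebra
open Variety

namespace Groth.Agent.S1556

/-- Let X be a curve over k (integral, separated, of finite type, of dimension one) and x a closed point
whose residue field is separable over k. Then the local ring at x is a discrete valuation ring if
and only if x lies in the smooth locus of X → Spec k. -/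
theorem result (k : Type u) [Field k] (X : Scheme.{u}) [X.Over (Spec (CommRingCat.of k))] [IsIntegral X]
    [IsSeparated (X ↘ (Spec (CommRingCat.of k)))] [LocallyOfFinitePresentation (X ↘ (Spec (CommRingCat.of k)))] [QuasiCompact (X ↘ (Spec (CommRingCat.of k)))]
    (hdim : topologicalKrullDim X = 1) (x : X) (hx : IsClosed ({x} : Set X))
    [Algebra.IsSeparable k (X.residueField x)] :
    IsDiscreteValuationRing (X.presheaf.stalk x) ↔ x ∈ (X ↘ (Spec (CommRingCat.of k))).smoothLocus := by
  have hres : Algebra.IsGeometricallyReduced k (X.residueField x) := by
    haveI := Algebra.FormallyEtale.of_isSeparable k (X.residueField x)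
    exact (FieldSep.MacLane.formallySmooth_iff k (X.residueField x)).1 inferInstance
  rw [GeomLoc.mem_smoothLocus_iff_isRegularLocalRing x hres]
  haveI := LocallyOfFiniteType.isLocallyNoetherian (X ↘ Spec (CommRingCat.of k))
  have hne : x ≠ genericPoint X := by
    intro h
    have huniv : (Set.univ : Set X) = {x} := by
      rw [← (genericPoint_spec X).def, ← h, hx.closure_eq]
    have hsub : Subsingleton X := ⟨fun a b => by
      have ha : a ∈ ({x} : Set X) := huniv ▸ Set.mem_univ a
      have hb : b ∈ ({x} : Set X) := huniv ▸ Set.mem_univ b
      exact ha.trans hb.symm⟩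
    haveI : Subsingleton (TopologicalSpace.IrreducibleCloseds X) := ⟨fun a b => by
      refine TopologicalSpace.IrreducibleCloseds.ext ?_
      rw [(a.isIrreducible.nonempty).eq_univ, (b.isIrreducible.nonempty).eq_univ]⟩
    have h0 : topologicalKrullDim X ≤ 0 := Order.krullDim_nonpos_of_subsingleton
    rw [hdim] at h0
    exact absurd h0 (by decide)
  have hdimx : ringKrullDim (X.presheaf.stalk x) = 1 := by
    rw [ringKrullDim_stalk_eq_coheight, VarDim.coheight_eq_one_of_ne_genericPoint k hdim hne]
    rfl
  constructor
  · intro hd
    infer_instance
  · intro hr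
    exact ((IsDiscreteValuationRing.TFAE (X.presheaf.stalk x) (fun hf => by
      rw [ringKrullDim_eq_zero_of_isField hf] at hdimx
      exact zero_ne_one hdimx)).out 5 0).1 (by
      have := IsRegularLocalRing.iff_finrank_cotangentSpace (X.presheaf.stalk x) |>.1 hr
      rw [hdimx] at this
      exact_mod_cast this)

end Groth.Agent.S1556
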