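import Groth.Statements.S14054
import Groth.Agent.BigVol.KoszulSurj
import Groth.Agent.BigVol.RelBound
import Groth.Agent.AmpleLib.Span
import Groth.Agent.DimOneAmple.AmpleOfGG
import Groth.Agent.EulerChar.Basic
-- import your own Groth.Agent.* helpers here

set_option autoImplicit false
set_option linter.style.haveILetI false
universe u
open CategoryTheory CategoryTheory.Limits AlgebraicGeometry TopologicalSpace
open Variety

namespace Groth.Agent.S14054
open Groth.Agent.ProjTwist Groth.Agent.AmpleLib Groth.Agent.Props.GenLocus Groth.Agent.BigVol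

theorem nonempty_pow_down {X : Scheme.{u}} {L M : X.Modules} (e : CohB1.tensorMod L M ≅ Coh.structureModule X) :
    ∀ j a : ℕ, Nonempty ((fun G => (KoszulSurj.tensF M).obj G)^[j] (CohB1.tensorPow L (a + j)) ≅
      CohB1.tensorPow L a)
  | 0, a => ⟨Iso.refl _⟩
  | j + 1, a => by
    obtain ⟨i⟩ := nonempty_pow_down e j (a + 1)
    rw [Function.iterate_succ_apply']
    exact ⟨(KoszulSurj.tensF M).mapIso (eqToIso (by rw [show a + (j + 1) = a + 1 + j by omega]) ≪≫ i) ≪≫
      tensAssoc _ L M ≪≫ tensCongr (Iso.refl _) e ≪≫ tensOne _⟩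

theorem nonempty_pow_up {X : Scheme.{u}} {M : X.Modules} : ∀ j : ℕ,
    Nonempty ((fun G => (KoszulSurj.tensF M).obj G)^[j] (Coh.structureModule X) ≅ CohB1.tensorPow M j)
  | 0 => ⟨Iso.refl _⟩
  | j + 1 => by
    obtain ⟨i⟩ := nonempty_pow_up (M := M) j
    rw [Function.iterate_succ_apply']
    exact ⟨(KoszulSurj.tensF M).mapIso i⟩

theorem exists_gens (k : Type u) [Field k] {X : Scheme.{u}} [X.Over (Spec (CommRingCat.of k))]
    [IsProper (X ↘ (Spec (CommRingCat.of k)))] {L : X.Modules} (hL : PicF.IsInvertible L)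
    (hgg : Curv2.IsGloballyGenerated L) :
    ∃ g : Fin (Module.finrank k (Coh.HH X L 0)) → Γ(L, ⊤), ∀ x : X, ∃ j, x ∈ locus (g j) := by
  classical
  haveI := EulerChar.isNoetherian k (X := X)
  haveI := EulerChar.finite_HH k _ (BigVol.RelBound.isCoh_invertible hL) 0
  let B := Module.finBasis k (Coh.HH X L 0)
  refine ⟨fun j => ProperFin.h0Sec L (B j), fun x => ?_⟩
  obtain ⟨σ, hσ⟩ := DimOneAmple.exists_genLocus_mem hL hgg x
  obtain ⟨W, e, hxW, he⟩ := exists_isGen hL x
  let ev : Γ(X, W) ≃ₗ[Γ(X, W)] Γ(L, W) :=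
    LinearEquiv.ofBijective (LinearMap.toSpanSingleton Γ(X, W) _ e) (by
      convert he W le_rfl using 1
      funext a
      simp [sm, QCoh.res_self])
  have hc : ∀ τ : Γ(L, ⊤), QCoh.res L (le_top : W ≤ ⊤) τ = ev.symm (QCoh.res L (le_top : W ≤ ⊤) τ) • e :=
    fun τ => (ev.apply_symm_apply _).symm
  let T : Set Γ(L, W) := Set.range fun j => QCoh.res L (le_top : W ≤ ⊤) (ProperFin.h0Sec L (B j))
  have hσT : QCoh.res L (le_top : W ≤ ⊤) σ ∈ Submodule.span Γ(X, W) T := by
    obtain ⟨y, rfl⟩ := (ProperFin.h0Sec L).surjective σ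
    rw [← B.sum_repr y, map_sum, map_sum]
    refine Submodule.sum_mem _ fun j _ => ?_
    rw [show B.repr y j • B j = Coh.toGlobal (X ↘ Spec (CommRingCat.of k)) (B.repr y j) • B j from rfl,
      ProperFin.h0Sec_smul, QCoh.res_smul]
    exact Submodule.smul_mem _ _ (Submodule.subset_span ⟨j, rfl⟩)
  have hu : x ∈ X.basicOpen (ev.symm (QCoh.res L (le_top : W ≤ ⊤) σ)) := by
    rw [← locus_inf le_top he σ (hc σ)]
    exact ⟨hσ, hxW⟩
  obtain ⟨_, ⟨j, rfl⟩, hj⟩ := exists_basicOpen_of_mem_span (M := L) ev.symm.toLinearMap.toAddMonoidHom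
    (fun a n => map_smul ev.symm a n) hxW _ hσT hu
  refine ⟨j, ?_⟩
  have hj' : x ∈ X.basicOpen (ev.symm (QCoh.res L (le_top : W ≤ ⊤) (ProperFin.h0Sec L (B j)))) := hj
  rw [← locus_inf le_top he _ (hc _)] at hj'
  exact hj'.1


/-- Let X be a proper scheme over a field k, L a globally generated invertible O_X-module with tensor
inverse M, r = dim_k H⁰(X, L), and b ≥ 1 an integer such that H^q(X, L^{⊗(b−q)}) = 0 whenever 1 ≤ q
≤ r − 1, where for q > b the module L^{⊗(b−q)} is the tensor power M^{⊗(q−b)}. Then the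
multiplication map H⁰(X, L^{⊗b}) ⊗ H⁰(X, L) → H⁰(X, L^{⊗(b+1)}) is surjective. The map is written as
the canonical map from the global sections of the sectionwise tensor product presheaf of L^{⊗b} and
L (these are H⁰(L^{⊗b}) ⊗ H⁰(L), tensor over the global functions) to the global sections of its
sheafification L^{⊗b} ⊗ L = L^{⊗(b+1)}. The base field is arbitrary. -/
theorem result (k : Type u) [Field k]
    (X : Scheme.{u}) [X.Over (Spec (CommRingCat.of k))] [IsProper (X ↘ (Spec (CommRingCat.of k)))]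
    (L : X.Modules) (hL : PicF.IsInvertible L) (hgg : Curv2.IsGloballyGenerated L)
    (M : X.Modules) (hM : ClSub.IsInverseOf M L)
    (b : ℕ) (hb : 1 ≤ b)
    (hvan₁ : ∀ q : ℕ, 1 ≤ q → q ≤ b → q < Module.finrank k (Coh.HH X L 0) →
      Subsingleton (Coh.HH X (CohB1.tensorPow L (b - q)) q))
    (hvan₂ : ∀ q : ℕ, b < q → q < Module.finrank k (Coh.HH X L 0) →
      Subsingleton (Coh.HH X (CohB1.tensorPow M (q - b)) q)) :
    Function.Surjective
      ((toSheafify (Opens.grothendieckTopology X) (CohB1.tensorPre (CohB1.tensorPow L b) L).presheaf).app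
        (Opposite.op ⊤)) := by
  obtain ⟨e⟩ := hM
  obtain ⟨g, hg⟩ := exists_gens k hL hgg
  have hvan : ∀ q, 1 ≤ q → q < Module.finrank k (Coh.HH X L 0) → Subsingleton (Coh.HH X
      ((fun G => (KoszulSurj.tensF M).obj G)^[q + 1] (CohB1.tensorMod (CohB1.tensorPow L b) L)) q) := by
    intro q h1 h2
    rcases le_or_gt q b with hqb | hqb
    · obtain ⟨i⟩ := nonempty_pow_down (tensComm L M ≪≫ e) (q + 1) (b - q)
      rw [show b - q + (q + 1) = b + 1 by omega] at i
      have := hvan₁ q h1 hqb h2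
      exact KoszulSurj.subsingleton_of_iso i.symm q
    · obtain ⟨i⟩ := nonempty_pow_down (tensComm L M ≪≫ e) (b + 1) 0
      obtain ⟨i'⟩ := nonempty_pow_up (M := M) (q - b)
      rw [zero_add] at i
      have := hvan₂ q hqb h2
      have hiso : Nonempty ((fun G => (KoszulSurj.tensF M).obj G)^[q + 1] (CohB1.tensorPow L (b + 1)) ≅
          CohB1.tensorPow M (q - b)) := by
        rw [show q + 1 = (q - b) + (b + 1) by omega, Function.iterate_add_apply]
        have key : ∀ (c : ℕ) {A A' : X.Modules}, (A ≅ A') →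
            Nonempty ((fun G => (KoszulSurj.tensF M).obj G)^[c] A ≅ (fun G => (KoszulSurj.tensF M).obj G)^[c] A') := by
          intro c
          induction c with
          | zero => exact fun f => ⟨f⟩
          | succ c ih =>
            intro A A' f
            simp only [Function.iterate_succ_apply']
            exact ⟨(KoszulSurj.tensF M).mapIso (ih f).some⟩
        exact ⟨(key (q - b) i).some ≪≫ i'⟩
      exact KoszulSurj.subsingleton_of_iso hiso.some.symm q
  intro x
  obtain ⟨y, hy⟩ := KoszulSurj.exists_eq_sum_tmul e _ g hg hvan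
    (show Γ(CohB1.tensorMod (CohB1.tensorPow L b) L, ⊤) from x)
  classical
  refine ⟨show (CohB1.tensorPre (CohB1.tensorPow L b) L).obj (Opposite.op ⊤) from
    (∑ j, (y j ⊗ₜ[Γ(X, ⊤)] g j) : TensorProduct Γ(X, ⊤) Γ(CohB1.tensorPow L b, ⊤) Γ(L, ⊤)), ?_⟩
  rw [hy]
  have h3 := fun (t : Fin (Module.finrank k (Coh.HH X L 0)) → TensorProduct Γ(X, ⊤) Γ(CohB1.tensorPow L b, ⊤) Γ(L, ⊤)) =>
    map_sum ((Props.GenTensor.η (CohB1.tensorPow L b) L).app (Opposite.op ⊤)).hom
      (fun j => (show (Props.GenTensor.pre (CohB1.tensorPow L b) L).obj (Opposite.op ⊤) from t j)) Finset.univ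
  have h4 := h3 fun j => y j ⊗ₜ[Γ(X, ⊤)] g j
  refine Eq.trans ?_ h4
  have h5 := congrArg (fun φ => NatTrans.app φ (Opposite.op ⊤)) (Props.GenTensor.η_eq (CohB1.tensorPow L b) L)
  exact (ConcreteCategory.congr_hom h5 _).symm


end Groth.Agent.S14054
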