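import Mathlib
import Groth.Prelude.Def_W4c3irrattreebunCvg

/-! Covering diagrams over the field of constants. -/

set_option autoImplicit false
universe u

open W4c3irrattreebun IntermediateField

namespace Groth.Agent.Cvg84

variable {k K L : Type u} [Field k] [Field K] [Algebra k K] [Field L] [Algebra k L] [Algebra L K]
  [IsScalarTower k L K] {e : ℕ}

/-- A diagram over an intermediate field is a diagram over the ground field. -/
theorem down (D : CovDiag (L) K e) :
    ∃ D' : CovDiag k K e, Algebra.IsSeparable K D.KC → Algebra.IsSeparable K D'.KC := by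
  let a1 : Algebra k D.KC := ((algebraMap K D.KC).comp (algebraMap k K)).toAlgebra
  let a2 : Algebra k D.KB :=
    ((algebraMap (L) D.KB).comp (algebraMap k (L))).toAlgebra
  have t1 : IsScalarTower k K D.KC := IsScalarTower.of_algebraMap_eq fun _ => rfl
  have t2 : IsScalarTower k D.KB D.KC := IsScalarTower.of_algebraMap_eq fun x => by
    show algebraMap K D.KC (algebraMap k K x) =
      algebraMap D.KB D.KC (algebraMap (L) D.KB (algebraMap k (L) x))
    rw [← IsScalarTower.algebraMap_apply (L) D.KB D.KC,
      IsScalarTower.algebraMap_apply (L) K D.KC, ← IsScalarTower.algebraMap_apply k L K]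
  exact ⟨{ KC := D.KC, KB := D.KB, t := D.t, transc := D.transc, finrank_eq := D.finrank_eq }, id⟩

/-- A diagram over the ground field gives one over the field of constants, of no larger degree. -/
theorem up [Algebra.IsAlgebraic k L] (D : CovDiag k K e) : ∃ e', e' ≤ e ∧ ∃ D' : CovDiag (L) K e',
    Algebra.IsSeparable K D.KC → Algebra.IsSeparable K D'.KC := by
  let ι : L →+* D.KC :=
    (algebraMap K D.KC).comp (algebraMap L K)
  let B : IntermediateField D.KB D.KC := adjoin D.KB (Set.range ι)
  let a1 : Algebra (L) D.KC := ι.toAlgebra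
  let a2 : Algebra (L) B :=
    (ι.codRestrict B fun x => subset_adjoin _ _ ⟨x, rfl⟩).toAlgebra
  have t1 : IsScalarTower (L) K D.KC := IsScalarTower.of_algebraMap_eq fun _ => rfl
  have t2 : IsScalarTower (L) B D.KC := IsScalarTower.of_algebraMap_eq fun _ => rfl
  have halg : Algebra.IsAlgebraic D.KB B := by
    refine IntermediateField.isAlgebraic_adjoin fun x hx => ?_
    obtain ⟨y, rfl⟩ := hx
    have h1 : IsIntegral k (algebraMap L K y) :=
      (Algebra.IsIntegral.isIntegral (R := k) y).map (IsScalarTower.toAlgHom k L K)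
    exact IsIntegral.tower_top (R := k) (h1.map (IsScalarTower.toAlgHom k K D.KC))
  have htr : Transcendental B D.t := D.transc.extendScalars B
  have hle : adjoin D.KB ({D.t} : Set D.KC) ≤ (adjoin B ({D.t} : Set D.KC)).restrictScalars D.KB :=
    adjoin_le_iff.2 (Set.singleton_subset_iff.2 (mem_adjoin_simple_self B D.t))
  have hmul := IntermediateField.relfinrank_mul_finrank_top hle
  have hfe : Module.finrank (adjoin D.KB ({D.t} : Set D.KC)) D.KC = e := D.finrank_eq
  rw [hfe] at hmul
  have he : 0 < e := hfe ▸ Module.finrank_pos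
  have hpos : 0 < Module.finrank (adjoin B ({D.t} : Set D.KC)) D.KC := by
    rcases Nat.eq_zero_or_pos (Module.finrank (adjoin B ({D.t} : Set D.KC)) D.KC) with h | h
    · rw [show Module.finrank ((adjoin B ({D.t} : Set D.KC)).restrictScalars D.KB) D.KC = 0 from h,
        mul_zero] at hmul
      omega
    · exact h
  have hfin : Module.Finite (adjoin B ({D.t} : Set D.KC)) D.KC := Module.finite_of_finrank_pos hpos
  refine ⟨Module.finrank (adjoin B ({D.t} : Set D.KC)) D.KC, ?_,
    { KC := D.KC, KB := B, t := D.t, transc := htr, finrank_eq := rfl }, id⟩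
  exact Nat.le_of_dvd he (Dvd.intro_left _ hmul)

theorem sInf_eq {S T : Set ℕ} (h1 : T ⊆ S) (h2 : ∀ e ∈ S, ∃ e' ∈ T, e' ≤ e) : sInf S = sInf T := by
  rcases T.eq_empty_or_nonempty with rfl | hT
  · rw [(Set.eq_empty_iff_forall_notMem.2 fun e he => by obtain ⟨_, h, _⟩ := h2 e he; exact h : S = ∅)]
  · refine le_antisymm (Nat.sInf_le (h1 (Nat.sInf_mem hT))) ?_
    obtain ⟨e', he', hle⟩ := h2 _ (Nat.sInf_mem (hT.mono h1))
    exact (Nat.sInf_le he').trans hle

end Groth.Agent.Cvg84
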