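import Mathlib
import Groth.Prelude.Def_W4c3irrattreebunCvg

/-! Covering diagrams and extension of the ground field: common tools. -/

set_option autoImplicit false
universe u

open W4c3irrattreebun IntermediateField Cardinal

namespace Groth.Agent.CvgBC84

/-- The span of a finite family closed under multiplication and containing `1` is the subfield it generates. -/
theorem finrank_adjoin_le {E Ω : Type*} [Field E] [Field Ω] [Algebra E Ω] {ι : Type*} [Fintype ι]
    (v : ι → Ω) (h1 : (1 : Ω) ∈ Submodule.span E (Set.range v))
    (hmul : ∀ i j, v i * v j ∈ Submodule.span E (Set.range v)) :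
    Module.Finite E (adjoin E (Set.range v)) ∧
      Module.finrank E (adjoin E (Set.range v)) ≤ Fintype.card ι := by
  let P := Submodule.span E (Set.range v)
  have hm : ∀ x y, x ∈ P → y ∈ P → x * y ∈ P := by
    intro x y hx hy
    have h := Submodule.mul_mem_mul hx hy
    rw [Submodule.span_mul_span] at h
    refine Submodule.span_le.2 ?_ h
    rintro _ ⟨_, ⟨i, rfl⟩, _, ⟨j, rfl⟩, rfl⟩
    exact hmul i j
  let S := P.toSubalgebra h1 hm
  have : Module.Finite E P := Module.Finite.span_of_finite E (Set.finite_range v)
  have : Module.Finite E S := this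
  have hint : ∀ x ∈ Set.range v, IsAlgebraic E x := fun x hx =>
    ((IsIntegral.of_finite E (⟨x, Submodule.subset_span hx⟩ : S)).map S.val).isAlgebraic
  have heq : (adjoin E (Set.range v)).toSubalgebra = S := by
    rw [adjoin_toSubalgebra_of_isAlgebraic hint]
    refine le_antisymm (Algebra.adjoin_le fun x hx => Submodule.subset_span hx) fun x hx => ?_
    exact (Submodule.span_le.2 Algebra.subset_adjoin : P ≤ (Algebra.adjoin E (Set.range v)).toSubmodule) hx
  let e : S ≃ₗ[E] adjoin E (Set.range v) := (Subalgebra.equivOfEq _ _ heq).symm.toLinearEquiv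
  refine ⟨Module.Finite.equiv e, ?_⟩
  rw [← e.finrank_eq]
  exact finrank_range_le_card v

/-- A covering diagram from data inside a finite extension. -/
theorem mkDiag {k K C : Type u} [Field k] [Field K] [Algebra k K] [Field C] [Algebra K C]
    [Algebra k C] [IsScalarTower k K C] [Module.Finite K C] (B : IntermediateField k C) (t : C)
    (htr : Transcendental B t) {ι : Type*} [Fintype ι] (v : ι → C)
    (h1 : (1 : C) ∈ Submodule.span (adjoin B ({t} : Set C)) (Set.range v))
    (hmul : ∀ i j, v i * v j ∈ Submodule.span (adjoin B ({t} : Set C)) (Set.range v))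
    (htop : adjoin (adjoin B ({t} : Set C)) (Set.range v) = ⊤) :
    ∃ e' ≤ Fintype.card ι, ∃ D : CovDiag k K e',
      Algebra.IsSeparable K C → Algebra.IsSeparable K D.KC := by
  obtain ⟨hfin, hle⟩ := finrank_adjoin_le v h1 hmul
  rw [htop] at hfin hle
  have : Module.Finite (adjoin B ({t} : Set C)) C := Module.Finite.equiv topEquiv.toLinearEquiv
  rw [finrank_top'] at hle
  exact ⟨_, hle, { KC := C, KB := B, t := t, transc := htr, finrank_eq := rfl }, id⟩

/-- The transcendence degree of an algebraic extension does not change. -/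
theorem trdeg_eq_of_isAlgebraic (k : Type u) {K C : Type u} [Field k] [Field K] [Field C] [Algebra k K]
    [Algebra K C] [Algebra k C] [IsScalarTower k K C] [Algebra.IsAlgebraic K C] :
    Algebra.trdeg k C = Algebra.trdeg k K := by
  rw [← trdeg_add_eq k K (A := C), trdeg_eq_zero (R := K) (A := C), add_zero]

theorem trdeg_lt_aleph0 {k K : Type u} [Field k] [Field K] [Algebra k K]
    (hfg : (⊤ : IntermediateField k K).FG) : Algebra.trdeg k K < ℵ₀ := by
  obtain ⟨s, hs⟩ := hfg
  have : Algebra.IsAlgebraic (Algebra.adjoin k (s : Set K)) K := by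
    rw [← isAlgebraic_adjoin_iff_top, hs, Algebra.isAlgebraic_iff_isIntegral]
    exact Algebra.isIntegral_of_surjective topEquiv.surjective
  exact (Algebra.IsAlgebraic.trdeg_le_cardinalMk k (s : Set K)).trans_lt (by simp)

end Groth.Agent.CvgBC84
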