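import Mathlib
import Groth.Agent.CvgBC84

/-! Specialisations of finitely many elements of a field. -/

set_option autoImplicit false
universe u

open IntermediateField Cardinal

namespace Groth.Agent.CvgBC84

variable {k K M Ω : Type u} [Field k] [Field K] [Field M] [Field Ω]
  [Algebra k K] [Algebra K M] [Algebra k M] [IsScalarTower k K M]
  [Algebra K Ω] [Algebra k Ω] [IsScalarTower k K Ω]

theorem trdeg_adjoin_le (Z : Set M) : Algebra.trdeg k (adjoin k Z) ≤ #Z := by
  let Z' : Set (adjoin k Z) := Set.range fun z : Z => (⟨z, subset_adjoin k Z z.2⟩ : adjoin k Z)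
  have htop : adjoin k Z' = ⊤ := by
    rw [eq_top_iff]
    rintro ⟨x, hx⟩ -
    induction hx using adjoin_induction with
    | mem w hw => exact subset_adjoin _ _ ⟨⟨w, hw⟩, rfl⟩
    | algebraMap c => exact (adjoin k Z').algebraMap_mem c
    | add a b _ _ ha hb => exact add_mem ha hb
    | inv a _ ha => exact inv_mem ha
    | mul a b _ _ ha hb => exact mul_mem ha hb
  have : Algebra.IsAlgebraic (Algebra.adjoin k Z') (adjoin k Z) := by
    rw [← isAlgebraic_adjoin_iff_top, htop, Algebra.isAlgebraic_iff_isIntegral]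
    exact Algebra.isIntegral_of_surjective topEquiv.surjective
  exact (Algebra.IsAlgebraic.trdeg_le_cardinalMk k Z').trans Cardinal.mk_range_le

/-- A rational expression in `X` stays one after any specialisation defined at its finitely many
intermediate values. -/
theorem eval_mem_adjoin {X : Set M} {f : M} (hf : f ∈ adjoin k X) :
    ∃ T : Finset M, f ∈ T ∧ (∀ x ∈ T, x ∈ adjoin k X) ∧
      ∀ (S : Subalgebra k M) (φ : S →ₐ[k] Ω), (∀ x ∈ T, x ∈ S) →
        ∀ h : f ∈ S, φ ⟨f, h⟩ ∈ adjoin k (φ '' {x : S | (x : M) ∈ X}) := by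
  classical
  induction hf using adjoin_induction with
  | mem w hw =>
    refine ⟨{w}, by simp, fun x hx => ?_, fun S φ _ h => subset_adjoin _ _ ⟨⟨w, h⟩, hw, rfl⟩⟩
    rw [Finset.mem_singleton.1 hx]; exact subset_adjoin _ _ hw
  | algebraMap c =>
    refine ⟨{algebraMap k M c}, by simp, fun x hx => ?_, fun S φ _ h => ?_⟩
    · rw [Finset.mem_singleton.1 hx]; exact IntermediateField.algebraMap_mem _ c
    · rw [show (⟨algebraMap k M c, h⟩ : S) = algebraMap k S c from rfl, φ.commutes]
      exact IntermediateField.algebraMap_mem _ c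
  | add a b hA hB ha hb =>
    obtain ⟨Ta, ha1, ha2, ha3⟩ := ha
    obtain ⟨Tb, hb1, hb2, hb3⟩ := hb
    refine ⟨insert (a + b) (Ta ∪ Tb), by simp, ?_, fun S φ hT h => ?_⟩
    · intro x hx
      simp only [Finset.mem_insert, Finset.mem_union] at hx
      rcases hx with rfl | hx | hx
      exacts [add_mem hA hB, ha2 x hx, hb2 x hx]
    · have hTa := hT a (by simp [ha1])
      have hTb := hT b (by simp [hb1])
      rw [show (⟨a + b, h⟩ : S) = ⟨a, hTa⟩ + ⟨b, hTb⟩ from rfl, map_add]
      exact add_mem (ha3 S φ (fun x hx => hT x (by simp [hx])) hTa)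
        (hb3 S φ (fun x hx => hT x (by simp [hx])) hTb)
  | inv a hA ha =>
    obtain ⟨Ta, ha1, ha2, ha3⟩ := ha
    refine ⟨insert a⁻¹ Ta, by simp, ?_, fun S φ hT h => ?_⟩
    · intro x hx
      simp only [Finset.mem_insert] at hx
      rcases hx with rfl | hx
      exacts [inv_mem hA, ha2 x hx]
    · have hTa := hT a (by simp [ha1])
      have h3 := ha3 S φ (fun x hx => hT x (by simp [hx])) hTa
      by_cases ha0 : a = 0
      · rw [show (⟨a⁻¹, h⟩ : S) = ⟨a, hTa⟩ from Subtype.ext (by simp [ha0])]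
        exact h3
      · have hprod : φ ⟨a⁻¹, h⟩ * φ ⟨a, hTa⟩ = 1 := by
          rw [← map_mul, show (⟨a⁻¹, h⟩ : S) * ⟨a, hTa⟩ = 1 from Subtype.ext (inv_mul_cancel₀ ha0),
            map_one]
        rw [eq_inv_of_mul_eq_one_left hprod]
        exact inv_mem h3
  | mul a b hA hB ha hb =>
    obtain ⟨Ta, ha1, ha2, ha3⟩ := ha
    obtain ⟨Tb, hb1, hb2, hb3⟩ := hb
    refine ⟨insert (a * b) (Ta ∪ Tb), by simp, ?_, fun S φ hT h => ?_⟩
    · intro x hx
      simp only [Finset.mem_insert, Finset.mem_union] at hx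
      rcases hx with rfl | hx | hx
      exacts [mul_mem hA hB, ha2 x hx, hb2 x hx]
    · have hTa := hT a (by simp [ha1])
      have hTb := hT b (by simp [hb1])
      rw [show (⟨a * b, h⟩ : S) = ⟨a, hTa⟩ * ⟨b, hTb⟩ from rfl, map_mul]
      exact mul_mem (ha3 S φ (fun x hx => hT x (by simp [hx])) hTa)
        (hb3 S φ (fun x hx => hT x (by simp [hx])) hTb)

open Polynomial in
/-- Algebraic dependence survives specialisation. -/
theorem eval_isIntegral {X : Set M} {f : M} (hf : IsIntegral (adjoin k X) f) :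
    ∃ T : Finset M, (∀ x ∈ T, x = f ∨ x ∈ adjoin k X) ∧
      ∀ (S : Subalgebra k M) (φ : S →ₐ[k] Ω), (∀ x ∈ T, x ∈ S) →
        ∀ h : f ∈ S, IsIntegral (adjoin k (φ '' {x : S | (x : M) ∈ X})) (φ ⟨f, h⟩) := by
  classical
  set p := minpoly (adjoin k X) f
  choose T hT1 hT2 hT3 using fun i : Fin p.natDegree => eval_mem_adjoin (Ω := Ω) (p.coeff i).2
  refine ⟨insert f (Finset.univ.biUnion T), ?_, fun S φ hT h => ?_⟩
  · intro x hx
    simp only [Finset.mem_insert, Finset.mem_biUnion, Finset.mem_univ, true_and] at hx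
    rcases hx with rfl | ⟨i, hi⟩
    exacts [Or.inl rfl, Or.inr (hT2 i x hi)]
  have hTi : ∀ i, ∀ x ∈ T i, x ∈ S := fun i x hx =>
    hT x (Finset.mem_insert_of_mem (Finset.mem_biUnion.2 ⟨i, Finset.mem_univ _, hx⟩))
  let c : Fin p.natDegree → adjoin k (φ '' {x : S | (x : M) ∈ X}) := fun i =>
    ⟨φ ⟨(p.coeff i : M), hTi i _ (hT1 i)⟩, hT3 i S φ (hTi i) _⟩
  refine ⟨Polynomial.X ^ p.natDegree + ∑ i : Fin p.natDegree, Polynomial.C (c i) * Polynomial.X ^ (i : ℕ),
    monic_X_pow_add (degree_sum_fin_lt _), ?_⟩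
  have h0 := minpoly.aeval (adjoin k X) f
  rw [(minpoly.monic hf).as_sum, map_add, map_pow, aeval_X, map_sum,
    ← Fin.sum_univ_eq_sum_range] at h0
  have h1 : (⟨f, h⟩ : S) ^ p.natDegree +
      ∑ i : Fin p.natDegree, (⟨(p.coeff i : M), hTi i _ (hT1 i)⟩ : S) * ⟨f, h⟩ ^ (i : ℕ) = 0 := by
    refine Subtype.ext ?_
    refine Eq.trans ?_ h0
    push_cast
    simp only [aeval_monomial, map_mul, map_pow, aeval_C, aeval_X]
    rfl
  have h2 := congrArg φ h1
  simp only [map_add, map_pow, map_sum, map_mul, map_zero] at h2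
  refine Eq.trans ?_ h2
  simp only [eval₂_add, eval₂_finset_sum, eval₂_mul, eval₂_pow, eval₂_X, eval₂_C]
  rfl

/-- A specialisation over `K`, defined at given finitely many elements algebraic over `K(y)`,
sending each `y i` to an element algebraic over `k`. -/
theorem exists_place {m : ℕ} {y : Fin m → M} (hy : AlgebraicIndependent K y)
    (Q : Finset M) (hQ : ∀ q ∈ Q, IsAlgebraic (Algebra.adjoin K (Set.range y)) q) :
    ∃ (S : Subalgebra K M) (φ : S →ₐ[K] AlgebraicClosure K), (∀ q ∈ Q, q ∈ S) ∧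
      ∀ i, ∃ h : y i ∈ S, IsAlgebraic k (φ ⟨y i, h⟩) := by
  classical
  let Ω' := AlgebraicClosure K
  let P := MvPolynomial (Fin m) K
  let aPM : Algebra P M := (MvPolynomial.aeval (R := K) y).toRingHom.toAlgebra
  have tPM : IsScalarTower K P M := IsScalarTower.of_algebraMap_eq fun x =>
    ((MvPolynomial.aeval (R := K) y).commutes x).symm
  have hinj : Function.Injective (algebraMap P M) := hy
  have hden : ∀ q : M, ∃ d : P, d ≠ 0 ∧ (q ∈ Q → IsIntegral P (algebraMap P M d * q)) := by
    intro q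
    by_cases hq : q ∈ Q
    · let e := hy.aevalEquiv
      have hq' : IsAlgebraic P q := by
        refine (hQ q hq).ringHom_of_comp_eq e.symm.toRingHom (RingHom.id M) e.symm.injective ?_
        ext a
        show algebraMap P M (e.symm a) = (a : M)
        conv_rhs => rw [← e.apply_symm_apply a]
        rfl
      obtain ⟨d, hd0, hd⟩ := hq'.exists_integral_multiple
      exact ⟨d, hd0, fun _ => by rwa [← Algebra.smul_def]⟩
    · exact ⟨1, one_ne_zero, fun h => absurd h hq⟩
  choose d hd0 hd using hden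
  let g : P := ∏ q ∈ Q, d q
  have hg0 : g ≠ 0 := Finset.prod_ne_zero_iff.2 fun q _ => hd0 q
  -- the values
  let Sk : IntermediateField k Ω' := algebraicClosure k Ω'
  have : IsAlgClosure k Sk := algebraicClosure.isAlgClosure k Ω'
  have hinf : (Sk : Set Ω').Infinite := by
    have : IsAlgClosed Sk := IsAlgClosure.isAlgClosed k
    exact Set.infinite_coe_iff.1 (inferInstanceAs (Infinite Sk))
  obtain ⟨c, hc, hgc⟩ : ∃ c : Fin m → Ω', (∀ i, c i ∈ Sk) ∧ MvPolynomial.aeval c g ≠ 0 := by
    by_contra hcon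
    push Not at hcon
    have : MvPolynomial.map (algebraMap K Ω') g = 0 :=
      MvPolynomial.funext_set (fun _ => (Sk : Set Ω')) (fun _ => hinf) fun x hx => by
        rw [map_zero, MvPolynomial.eval_map, ← MvPolynomial.aeval_def]
        exact hcon x fun i => hx i (Set.mem_univ i)
    exact hg0 (MvPolynomial.map_injective _ (algebraMap K Ω').injective (by rw [this, map_zero]))
  let Pg := Localization.Away g
  have hgM : IsUnit (algebraMap P M g) :=
    (map_ne_zero_iff _ hinj).2 hg0 |>.isUnit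
  let aPgM : Algebra Pg M := (IsLocalization.Away.lift g hgM : Pg →+* M).toAlgebra
  have tPg : IsScalarTower P Pg M :=
    IsScalarTower.of_algebraMap_eq fun x => (IsLocalization.Away.lift_eq g hgM x).symm
  let ψ0 : P →+* Ω' := (MvPolynomial.aeval (R := K) c).toRingHom
  let ψ : Pg →+* Ω' := IsLocalization.Away.lift (S := Pg) g (g := ψ0) (isUnit_iff_ne_zero.2 hgc)
  let C := integralClosure Pg M
  have hinjg : Function.Injective (algebraMap Pg M) := by
    refine (IsLocalization.lift_injective_iff _).2 fun a b => ?_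
    rw [hinj.eq_iff]
    refine ⟨fun h => ?_, fun h => by rw [h]⟩
    exact IsLocalization.injective Pg (powers_le_nonZeroDivisors_of_noZeroDivisors hg0) h
  have : Algebra.IsIntegral Pg C := integralClosure.AlgebraIsIntegral
  let p := RingHom.ker ψ
  have hp : p.IsPrime := RingHom.ker_isPrime ψ
  obtain ⟨q, hq, hqp⟩ := Ideal.exists_ideal_over_prime_of_isIntegral_of_isDomain p (S := C) (by
    rw [(RingHom.injective_iff_ker_eq_bot _).1 (fun a b h => hinjg (congrArg Subtype.val h) :
      Function.Injective (algebraMap Pg C))]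
    exact bot_le)
  have : q.LiesOver p := ⟨hqp.symm⟩
  let aΩ : Algebra (Pg ⧸ p) Ω' := (RingHom.kerLift ψ).toAlgebra
  have : FaithfulSMul (Pg ⧸ p) Ω' :=
    (faithfulSMul_iff_algebraMap_injective _ _).2 (RingHom.kerLift_injective ψ)
  have : Module.IsTorsionFree (Pg ⧸ p) Ω' := FaithfulSMul.to_isTorsionFree ..
  have : FaithfulSMul (Pg ⧸ p) (C ⧸ q) := (faithfulSMul_iff_algebraMap_injective _ _).2
    (Ideal.quotientMap_injective' (le_of_eq hqp))
  have : Module.IsTorsionFree (Pg ⧸ p) (C ⧸ q) := FaithfulSMul.to_isTorsionFree ..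
  have : Algebra.IsIntegral (Pg ⧸ p) (C ⧸ q) := inferInstance
  let χ : C ⧸ q →ₐ[Pg ⧸ p] Ω' := IsAlgClosed.lift
  let φ0 : C →+* Ω' := χ.toRingHom.comp (Ideal.Quotient.mk q)
  have hφ : ∀ a : Pg, φ0 (algebraMap Pg C a) = ψ a := fun a => χ.commutes (Ideal.Quotient.mk p a)
  have hP : ∀ a : P, ∃ h : algebraMap P M a ∈ C, φ0 ⟨_, h⟩ = ψ0 a := fun a =>
    ⟨by rw [IsScalarTower.algebraMap_apply P Pg M]; exact C.algebraMap_mem _, by
      rw [show ψ0 a = ψ (algebraMap P Pg a) from (IsLocalization.Away.lift_eq g _ a).symm, ← hφ]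
      exact congrArg φ0 (Subtype.ext (IsScalarTower.algebraMap_apply P Pg M a))⟩
  have hK : ∀ x : K, algebraMap K M x ∈ C := fun x => by
    rw [IsScalarTower.algebraMap_apply K P M]; exact (hP _).1
  let S : Subalgebra K M := { C.toSubsemiring with algebraMap_mem' := hK }
  let φ : S →ₐ[K] Ω' :=
    { (φ0 : C →+* Ω') with
      commutes' := fun x => by
        obtain ⟨h, e⟩ := hP (MvPolynomial.C x)
        show φ0 ⟨algebraMap K M x, hK x⟩ = _
        rw [show (⟨algebraMap K M x, hK x⟩ : C) = ⟨algebraMap P M (MvPolynomial.C x), h⟩ from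
          Subtype.ext (IsScalarTower.algebraMap_apply K P M x), e]
        exact MvPolynomial.aeval_C c x }
  refine ⟨S, φ, fun q hq => ?_, fun i => ?_⟩
  · show q ∈ C
    have hdg : d q ∣ g := Finset.dvd_prod_of_mem d hq
    obtain ⟨r, hr⟩ := hdg
    have h1 : IsIntegral Pg (algebraMap P M g * q) := by
      rw [show algebraMap P M g = algebraMap P M r * algebraMap P M (d q) by
        rw [← map_mul, mul_comm]; exact congrArg (algebraMap P M) hr, mul_assoc]
      exact (isIntegral_algebraMap.mul (hd q hq)).tower_top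
    rw [mem_integralClosure_iff]
    have h2 := (isIntegral_algebraMap (R := Pg) (A := M)
      (x := IsLocalization.Away.invSelf (S := Pg) g)).mul h1
    have h3 : algebraMap Pg M (IsLocalization.Away.invSelf (S := Pg) g) * algebraMap P M g = 1 := by
      rw [IsScalarTower.algebraMap_apply P Pg M, ← map_mul, mul_comm, IsLocalization.Away.mul_invSelf,
        map_one]
    rwa [← mul_assoc, h3, one_mul] at h2
  · obtain ⟨h, e⟩ := hP (MvPolynomial.X i)
    have hX : algebraMap P M (MvPolynomial.X i) = y i := MvPolynomial.aeval_X y i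
    refine ⟨show y i ∈ C by rwa [← hX], ?_⟩
    show IsAlgebraic k (φ0 ⟨y i, _⟩)
    rw [show (⟨y i, by rwa [← hX]⟩ : C) = ⟨algebraMap P M (MvPolynomial.X i), h⟩ from Subtype.ext hX.symm,
      e]
    show IsAlgebraic k (MvPolynomial.aeval c (MvPolynomial.X i))
    rw [MvPolynomial.aeval_X]
    exact mem_algebraicClosure_iff.1 (hc i)

end Groth.Agent.CvgBC84
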