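import Mathlib
import Groth.Agent.CvgBC84Place

/-! Descending covering diagrams along a ground field extension. -/

set_option autoImplicit false
universe u

open W4c3irrattreebun IntermediateField Cardinal

namespace Groth.Agent.CvgBC84

/-- A covering diagram from values in a field algebraic over `K`. -/
theorem assemble {k K Ω : Type u} [Field k] [Field K] [Field Ω] [Algebra k K] [Algebra K Ω]
    [Algebra k Ω] [IsScalarTower k K Ω] {gens : Set K} (hgens : adjoin k gens = ⊤)
    {β : Set Ω} (hβ : β.Finite) (τ : Ω) {e : ℕ} (v : Fin e → Ω)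
    (hint : ∀ x ∈ insert τ (β ∪ Set.range v), IsIntegral K x)
    (htr : Transcendental (adjoin k β) τ)
    (h1 : (1 : Ω) ∈ Submodule.span (adjoin k (insert τ β)) (Set.range v))
    (hmul : ∀ i j, v i * v j ∈ Submodule.span (adjoin k (insert τ β)) (Set.range v))
    (hg : ∀ g ∈ gens, algebraMap K Ω g ∈ Submodule.span (adjoin k (insert τ β)) (Set.range v)) :
    ∃ e' ≤ e, ∃ D : CovDiag k K e',
      (∀ x ∈ insert τ (β ∪ Set.range v), IsSeparable K x) → Algebra.IsSeparable K D.KC := by
  let C : IntermediateField K Ω := adjoin K (insert τ (β ∪ Set.range v))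
  have : Finite ↥(insert τ (β ∪ Set.range v)) := ((hβ.union (Set.finite_range v)).insert τ).to_subtype
  have : FiniteDimensional K C := finiteDimensional_adjoin hint
  let τ' : C := ⟨τ, subset_adjoin _ _ (Set.mem_insert _ _)⟩
  let v' : Fin e → C := fun i =>
    ⟨v i, subset_adjoin _ _ (Set.mem_insert_of_mem _ (Or.inr ⟨i, rfl⟩))⟩
  let f : C →ₐ[k] Ω := C.val.restrictScalars k
  let B : IntermediateField k C := adjoin k ((fun x : C => (x : Ω)) ⁻¹' β)
  have hBmap : B.map f = adjoin k β := by
    rw [adjoin_map]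
    congr 1
    exact Set.image_preimage_eq_of_subset fun x hx =>
      ⟨⟨x, subset_adjoin _ _ (Set.mem_insert_of_mem _ (Or.inl hx))⟩, rfl⟩
  let E := adjoin B ({τ'} : Set C)
  have hEmap : ∀ x ∈ adjoin k (insert τ β), ∃ y ∈ E, (y : Ω) = x := by
    intro x hx
    have hle : adjoin k (insert τ β) ≤ (E.restrictScalars k).map f := by
      rw [adjoin_le_iff]
      rintro z (rfl | hz)
      · exact ⟨τ', mem_adjoin_simple_self B τ', rfl⟩
      · exact ⟨⟨z, subset_adjoin _ _ (Set.mem_insert_of_mem _ (Or.inl hz))⟩,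
          E.algebraMap_mem ⟨_, subset_adjoin _ _ hz⟩, rfl⟩
    obtain ⟨y, hy, rfl⟩ := hle hx
    exact ⟨y, hy, rfl⟩
  have hspan : ∀ x : C, (x : Ω) ∈ Submodule.span (adjoin k (insert τ β)) (Set.range v) →
      x ∈ Submodule.span E (Set.range v') := by
    intro x hx
    obtain ⟨c, hc⟩ := (Submodule.mem_span_range_iff_exists_fun _).1 hx
    choose c' hc' hcc using fun i => hEmap (c i) (c i).2
    refine (Submodule.mem_span_range_iff_exists_fun _).2 ⟨fun i => ⟨c' i, hc' i⟩, Subtype.ext ?_⟩
    rw [← hc]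
    show C.val (∑ i, c' i * v' i) = ∑ i, (c i : Ω) * v i
    rw [map_sum]
    exact Finset.sum_congr rfl fun i _ => congrArg (· * v i) (hcc i)
  have htr' : Transcendental B τ' := by
    intro halg
    let g : B →+* adjoin k β := (f.toRingHom.comp B.val.toRingHom).codRestrict (adjoin k β).toSubfield
      fun z => hBmap ▸ ⟨z, z.2, rfl⟩
    exact htr (halg.ringHom_of_comp_eq g f.toRingHom
      (fun a b h => Subtype.ext (f.injective (congrArg (fun q : adjoin k β => (q : Ω)) h))) (by ext; rfl))
  have hmul' : ∀ i j, v' i * v' j ∈ Submodule.span E (Set.range v') := fun i j => hspan _ (hmul i j)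
  have hadj : ∀ x : C, x ∈ Submodule.span E (Set.range v') → x ∈ adjoin E (Set.range v') := fun x hx =>
    (Submodule.span_le.2 (subset_adjoin E (Set.range v')) :
      Submodule.span E (Set.range v') ≤ (adjoin E (Set.range v')).toSubalgebra.toSubmodule) hx
  have htop : adjoin E (Set.range v') = ⊤ := by
    have hK : ∀ c : K, algebraMap K C c ∈ adjoin E (Set.range v') := by
      intro c
      have hc : c ∈ adjoin k gens := by rw [hgens]; exact mem_top
      induction hc using adjoin_induction with
      | mem g hg' => exact hadj _ (hspan _ (hg g hg'))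
      | algebraMap a =>
        rw [← IsScalarTower.algebraMap_apply k K C]
        exact (adjoin E (Set.range v')).algebraMap_mem
          (⟨algebraMap k C a, E.algebraMap_mem ⟨_, B.algebraMap_mem a⟩⟩ : E)
      | add a b _ _ ha hb => rw [map_add]; exact add_mem ha hb
      | inv a _ ha => rw [map_inv₀]; exact inv_mem ha
      | mul a b _ _ ha hb => rw [map_mul]; exact mul_mem ha hb
    rw [eq_top_iff]
    rintro ⟨z, hz⟩ -
    induction hz using adjoin_induction with
    | mem w hw =>
      rcases hw with rfl | hw | ⟨i, rfl⟩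
      · exact (adjoin E (Set.range v')).algebraMap_mem (⟨τ', mem_adjoin_simple_self B τ'⟩ : E)
      · exact (adjoin E (Set.range v')).algebraMap_mem
          (⟨_, E.algebraMap_mem (⟨⟨w, subset_adjoin _ _ (Set.mem_insert_of_mem _ (Or.inl hw))⟩,
            subset_adjoin _ _ hw⟩ : B)⟩ : E)
      · exact subset_adjoin _ _ ⟨i, rfl⟩
    | algebraMap c => exact hK c
    | add a b ha hb iha ihb => exact add_mem iha ihb
    | inv a ha iha => exact inv_mem iha
    | mul a b ha hb iha ihb => exact mul_mem iha ihb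
  obtain ⟨e', he', D, hD⟩ := mkDiag (k := k) (K := K) B τ' htr' v' (hspan 1 h1) hmul' htop
  rw [Fintype.card_fin] at he'
  exact ⟨e', he', D, fun hsep => hD ((isSeparable_adjoin_iff_isSeparable K Ω).2 hsep)⟩

/-- An element integral over a subfield of the algebraic closure of `A` lies in it. -/
theorem mem_closure {k Ω : Type u} [Field k] [Field Ω] [Algebra k Ω] (A : IntermediateField k Ω)
    (G : IntermediateField k Ω) (hG : ∀ z ∈ G, z ∈ algebraicClosure A Ω) {x : Ω} (hx : IsIntegral G x) :
    x ∈ algebraicClosure A Ω := by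
  let g : G →+* algebraicClosure A Ω :=
    G.val.toRingHom.codRestrict (algebraicClosure A Ω).toSubfield fun z => hG _ z.2
  have h : IsAlgebraic (algebraicClosure A Ω) x := hx.isAlgebraic.ringHom_of_comp_eq g (RingHom.id Ω)
    (fun a b h => Subtype.ext (congrArg (fun q : algebraicClosure A Ω => (q : Ω)) h)) (by ext; rfl)
  exact mem_algebraicClosure_iff.2
    (isIntegral_trans (R := A) (A := algebraicClosure A Ω) x h.isIntegral).isAlgebraic

section Span

variable {k M Ω : Type u} [Field k] [Field M] [Field Ω] [Algebra k M] [Algebra k Ω]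

/-- Membership in a span over a finitely generated subfield survives specialisation. -/
theorem eval_span {X : Set M} {e : ℕ} (w : Fin e → M) {x : M}
    (hx : x ∈ Submodule.span (adjoin k X) (Set.range w)) :
    ∃ T : Finset M, (∀ z ∈ T, z ∈ adjoin k X) ∧
      ∀ (S : Subalgebra k M) (φ : S →ₐ[k] Ω), (∀ z ∈ T, z ∈ S) →
        ∀ (hw : ∀ i, w i ∈ S) (h : x ∈ S), φ ⟨x, h⟩ ∈
          Submodule.span (adjoin k (φ '' {z : S | (z : M) ∈ X}))
            (Set.range fun i => φ ⟨w i, hw i⟩) := by
  classical
  obtain ⟨c, hc⟩ := (Submodule.mem_span_range_iff_exists_fun _).1 hx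
  choose T hT1 hT2 hT3 using fun i => eval_mem_adjoin (Ω := Ω) (c i).2
  refine ⟨Finset.univ.biUnion T, fun z hz => ?_, fun S φ hT hw h => ?_⟩
  · obtain ⟨i, -, hi⟩ := Finset.mem_biUnion.1 hz
    exact hT2 i z hi
  · have hTi : ∀ i, ∀ z ∈ T i, z ∈ S := fun i z hz =>
      hT z (Finset.mem_biUnion.2 ⟨i, Finset.mem_univ _, hz⟩)
    have : (⟨x, h⟩ : S) = ∑ i, (⟨(c i : M), hTi i _ (hT1 i)⟩ : S) * ⟨w i, hw i⟩ := by
      refine Subtype.ext ?_
      show x = _
      rw [← hc]
      push_cast
      rfl
    rw [this, map_sum]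
    refine Submodule.sum_mem _ fun i _ => ?_
    rw [map_mul]
    exact Submodule.smul_mem _ (⟨_, hT3 i S φ (hTi i) _⟩ : adjoin k (φ '' {z : S | (z : M) ∈ X}))
      (Submodule.subset_span ⟨i, rfl⟩)

end Span

/-- Finitely many elements of the base of a diagram carrying all of its equations. -/
theorem spread {k K L K' M B : Type u} [Field k] [Field K] [Field L] [Field K'] [Field M] [Field B]
    [Algebra k K] [Algebra k L] [Algebra k K'] [Algebra K K'] [Algebra L K']
    [IsScalarTower k K K'] [IsScalarTower k L K']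
    [Algebra K' M] [Algebra k M] [Algebra K M] [Algebra L M] [Algebra L B] [Algebra B M]
    [IsScalarTower k K' M] [IsScalarTower K K' M] [IsScalarTower L K' M] [IsScalarTower L B M]
    [Module.Finite K' M]
    (hgen : adjoin K (Set.range (algebraMap L K')) = ⊤) (hfg : (⊤ : IntermediateField k K).FG)
    (t : M) (htr : Transcendental B t) [Module.Finite (adjoin B ({t} : Set M)) M] :
    ∃ (gens : Finset K) (b : Finset M) (w : Fin (Module.finrank (adjoin B ({t} : Set M)) M) → M),
      adjoin k (gens : Set K) = ⊤ ∧ Transcendental (adjoin k (b : Set M)) t ∧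
      IsAlgebraic (adjoin K (b : Set M)) t ∧
      (1 : M) ∈ Submodule.span (adjoin k (insert t (b : Set M))) (Set.range w) ∧
      (∀ i j, w i * w j ∈ Submodule.span (adjoin k (insert t (b : Set M))) (Set.range w)) ∧
      ∀ g ∈ gens, algebraMap K M g ∈ Submodule.span (adjoin k (insert t (b : Set M))) (Set.range w) := by
  classical
  obtain ⟨gens, hgens⟩ := hfg
  have hkB : ∀ c : k, algebraMap k M c = algebraMap B M (algebraMap L B (algebraMap k L c)) := fun c => by
    rw [← IsScalarTower.algebraMap_apply L B M, IsScalarTower.algebraMap_apply L K' M,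
      ← IsScalarTower.algebraMap_apply k L K', ← IsScalarTower.algebraMap_apply k K' M]
  set R : Set M := Set.range (algebraMap B M)
  let ω := Module.finBasis (adjoin B ({t} : Set M)) M
  -- finite sets of coefficients
  have hF : ∀ f ∈ adjoin B ({t} : Set M), ∃ b : Finset M, (b : Set M) ⊆ R ∧
      f ∈ adjoin k (insert t (b : Set M)) := by
    intro f hf
    induction hf using adjoin_induction with
    | mem z hz =>
      obtain rfl : z = t := hz
      exact ⟨∅, by simp, subset_adjoin _ _ (Set.mem_insert _ _)⟩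
    | algebraMap c =>
      exact ⟨{algebraMap B M c}, by simp [R], subset_adjoin _ _ (by simp)⟩
    | add a c _ _ ha hc =>
      obtain ⟨b1, h1, h1'⟩ := ha
      obtain ⟨b2, h2, h2'⟩ := hc
      exact ⟨b1 ∪ b2, by simp [h1, h2], add_mem
        (adjoin.mono k _ _ (Set.insert_subset_insert (by simp)) h1')
        (adjoin.mono k _ _ (Set.insert_subset_insert (by simp)) h2')⟩
    | inv a _ ha =>
      obtain ⟨b1, h1, h1'⟩ := ha
      exact ⟨b1, h1, inv_mem h1'⟩
    | mul a c _ _ ha hc =>
      obtain ⟨b1, h1, h1'⟩ := ha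
      obtain ⟨b2, h2, h2'⟩ := hc
      exact ⟨b1 ∪ b2, by simp [h1, h2], mul_mem
        (adjoin.mono k _ _ (Set.insert_subset_insert (by simp)) h1')
        (adjoin.mono k _ _ (Set.insert_subset_insert (by simp)) h2')⟩
  have hspan : ∀ x : M, ∃ b : Finset M, (b : Set M) ⊆ R ∧ ∀ b' : Finset M, b ⊆ b' →
      x ∈ Submodule.span (adjoin k (insert t (b' : Set M))) (Set.range ω) := by
    intro x
    choose b hb1 hb2 using fun i => hF _ (ω.repr x i).2
    refine ⟨Finset.univ.biUnion b, fun z hz => ?_, fun b' hb' => ?_⟩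
    · obtain ⟨i, -, hi⟩ := Finset.mem_biUnion.1 hz
      exact hb1 i hi
    · refine (Submodule.mem_span_range_iff_exists_fun _).2 ⟨fun i => ⟨(ω.repr x i : M), ?_⟩, ?_⟩
      · refine adjoin.mono k _ _ (Set.insert_subset_insert ?_) (hb2 i)
        exact fun z hz => hb' (Finset.mem_biUnion.2 ⟨i, Finset.mem_univ _, hz⟩)
      · conv_rhs => rw [← ω.sum_repr x]
        rfl
  -- `t` is algebraic over `K(R)`
  let W0 := adjoin K R
  have hK'W0 : ∀ z : K', algebraMap K' M z ∈ W0 := by
    intro z
    have hz : z ∈ adjoin K (Set.range (algebraMap L K')) := by rw [hgen]; exact mem_top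
    induction hz using adjoin_induction with
    | mem w hw =>
      obtain ⟨l, rfl⟩ := hw
      rw [← IsScalarTower.algebraMap_apply L K' M, IsScalarTower.algebraMap_apply L B M]
      exact subset_adjoin _ _ ⟨_, rfl⟩
    | algebraMap c => rw [← IsScalarTower.algebraMap_apply K K' M]; exact W0.algebraMap_mem c
    | add a c _ _ ha hc => rw [map_add]; exact add_mem ha hc
    | inv a _ ha => rw [map_inv₀]; exact inv_mem ha
    | mul a c _ _ ha hc => rw [map_mul]; exact mul_mem ha hc
  set p := minpoly K' t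
  have hcoef : ∀ i : Fin (p.natDegree + 1), ∃ b : Finset M, (b : Set M) ⊆ R ∧
      algebraMap K' M (p.coeff i) ∈ adjoin K (b : Set M) := fun i =>
    exists_finset_of_mem_adjoin (hK'W0 _)
  choose bp hbp1 hbp2 using hcoef
  choose bs hbs1 hbs2 using hspan
  let b : Finset M := Finset.univ.biUnion bp ∪ bs 1 ∪
    (Finset.univ.biUnion fun q : Fin _ × Fin _ => bs (ω q.1 * ω q.2)) ∪
    gens.biUnion fun g => bs (algebraMap K M g)
  have hbR : (b : Set M) ⊆ R := by
    intro z hz
    simp only [b, Finset.coe_union, Set.mem_union, Finset.mem_coe, Finset.mem_biUnion] at hz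
    rcases hz with ((⟨i, -, hi⟩ | h) | ⟨q, -, hq⟩) | ⟨g, -, hg⟩
    exacts [hbp1 i hi, hbs1 _ h, hbs1 _ hq, hbs1 _ hg]
  refine ⟨gens, b, ω, hgens, ?_, ?_, ?_, ?_, ?_⟩
  · intro halg
    have hle : ∀ z ∈ adjoin k (b : Set M), z ∈ (⊥ : IntermediateField B M) := by
      intro z hz
      induction hz using adjoin_induction with
      | mem w hw => exact mem_bot.2 (hbR hw)
      | algebraMap c => rw [hkB]; exact IntermediateField.algebraMap_mem _ _
      | add a c _ _ ha hc => exact add_mem ha hc
      | inv a _ ha => exact inv_mem ha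
      | mul a c _ _ ha hc => exact mul_mem ha hc
    let g : adjoin k (b : Set M) →+* (⊥ : IntermediateField B M) :=
      (adjoin k (b : Set M)).val.toRingHom.codRestrict (⊥ : IntermediateField B M).toSubfield
        fun z => hle _ z.2
    exact htr (halg.ringHom_of_comp_eq ((botEquiv B M).toRingHom.comp g) (RingHom.id M)
      ((botEquiv B M).injective.comp
        (fun a c h => Subtype.ext (congrArg (fun q : (⊥ : IntermediateField B M) => (q : M)) h)))
      (by
        ext a
        obtain ⟨c, hc⟩ := mem_bot.1 (hle _ a.2)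
        show algebraMap B M (botEquiv B M ⟨(a : M), hle _ a.2⟩) = (a : M)
        have : (⟨(a : M), hle _ a.2⟩ : (⊥ : IntermediateField B M)) = algebraMap B _ c :=
          Subtype.ext hc.symm
        rw [this, AlgEquiv.commutes]
        exact hc))
  · have hq : p.map (algebraMap K' M) ∈ Polynomial.lifts (algebraMap (adjoin K (b : Set M)) M) := by
      rw [Polynomial.lifts_iff_coeff_lifts]
      intro i
      rw [Polynomial.coeff_map]
      by_cases hi : i < p.natDegree + 1
      · refine ⟨⟨_, adjoin.mono K _ _ ?_ (hbp2 ⟨i, hi⟩)⟩, rfl⟩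
        intro z hz
        simp only [b, Finset.coe_union, Set.mem_union, Finset.mem_coe, Finset.mem_biUnion]
        exact Or.inl (Or.inl (Or.inl ⟨⟨i, hi⟩, Finset.mem_univ _, hz⟩))
      · exact ⟨0, by rw [Polynomial.coeff_eq_zero_of_natDegree_lt (by omega), map_zero, map_zero]⟩
    obtain ⟨q, hq⟩ := hq
    have hp0 : p.map (algebraMap K' M) ≠ 0 :=
      ((minpoly.monic (IsIntegral.of_finite K' t)).map _).ne_zero
    refine ⟨q, fun h => hp0 (by rw [← hq, h, map_zero]), ?_⟩
    rw [Polynomial.aeval_def, ← Polynomial.eval_map,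
      show q.map (algebraMap (adjoin K (b : Set M)) M) = p.map (algebraMap K' M) from hq,
      Polynomial.eval_map, ← Polynomial.aeval_def, minpoly.aeval]
  · exact hbs2 1 b fun z hz => by simp [b, hz]
  · exact fun i j => hbs2 _ b fun z hz => by
      simp only [b, Finset.mem_union, Finset.mem_biUnion]
      exact Or.inl (Or.inr ⟨(i, j), Finset.mem_univ _, hz⟩)
  · exact fun g hg => hbs2 _ b fun z hz => by
      simp only [b, Finset.mem_union, Finset.mem_biUnion]
      exact Or.inr ⟨g, hg, hz⟩

/-- Descent along a separable algebraic extension. -/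
theorem down_separable {k K L K' : Type u} [Field k] [Field K] [Field L] [Field K'] [Algebra k K]
    [Algebra k L] [Algebra k K'] [Algebra K K'] [Algebra L K'] [IsScalarTower k K K']
    [IsScalarTower k L K'] [Algebra.IsSeparable K K']
    (hgen : adjoin K (Set.range (algebraMap L K')) = ⊤) (hfg : (⊤ : IntermediateField k K).FG)
    {e : ℕ} (D : CovDiag L K' e) (hD : Algebra.IsSeparable K' D.KC) :
    ∃ e' ≤ e, ∃ D' : CovDiag k K e', Algebra.IsSeparable K D'.KC := by
  let aK : Algebra K D.KC := ((algebraMap K' D.KC).comp (algebraMap K K')).toAlgebra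
  let ak : Algebra k D.KC := ((algebraMap K' D.KC).comp (algebraMap k K')).toAlgebra
  have : IsScalarTower K K' D.KC := IsScalarTower.of_algebraMap_eq fun _ => rfl
  have : IsScalarTower k K' D.KC := IsScalarTower.of_algebraMap_eq fun _ => rfl
  have : IsScalarTower k K D.KC := IsScalarTower.of_algebraMap_eq fun x => by
    show algebraMap K' D.KC (algebraMap k K' x) = algebraMap K' D.KC (algebraMap K K' (algebraMap k K x))
    rw [← IsScalarTower.algebraMap_apply k K K']
  have : Algebra.IsSeparable K D.KC := Algebra.IsSeparable.trans K K' D.KC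
  obtain ⟨gens, b, w, hgens, htr, -, h1, hmul, hg⟩ := spread (B := D.KB) hgen hfg D.t D.transc
  obtain ⟨e', he', D', hD'⟩ := assemble (K := K) hgens b.finite_toSet D.t w
    (fun x _ => Algebra.IsIntegral.isIntegral x) htr h1 hmul hg
  exact ⟨e', he'.trans_eq D.finrank_eq, D', hD' fun x _ => Algebra.IsSeparable.isSeparable K x⟩

/-- Independent elements inside the algebraic closure of `K(s)`. -/
theorem card_le_of_algebraic {k K M : Type u} [Field k] [Field K] [Field M] [Algebra k K] [Algebra K M]
    [Algebra k M] [IsScalarTower k K M] (s z : Finset M) (Wf : IntermediateField K M)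
    (hle : adjoin K (s : Set M) ≤ Wf) (hW : ∀ x ∈ Wf, IsAlgebraic (adjoin K (s : Set M)) x)
    (hz : AlgebraicIndepOn k id (z : Set M)) (hzW : ∀ x ∈ z, x ∈ Wf) :
    (z.card : Cardinal) ≤ Algebra.trdeg k K + (s.card : Cardinal) := by
  let : Algebra (adjoin K (s : Set M)) Wf := (inclusion hle).toRingHom.toAlgebra
  have : IsScalarTower K (adjoin K (s : Set M)) Wf := IsScalarTower.of_algebraMap_eq fun _ => rfl
  have : IsScalarTower (adjoin K (s : Set M)) Wf M := IsScalarTower.of_algebraMap_eq fun _ => rfl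
  have : Algebra.IsAlgebraic (adjoin K (s : Set M)) Wf := ⟨fun x =>
    (isAlgebraic_algHom_iff (IsScalarTower.toAlgHom (adjoin K (s : Set M)) Wf M)
      Subtype.val_injective).1 (hW x x.2)⟩
  have h1 : Algebra.trdeg k Wf ≤ Algebra.trdeg k K + (s.card : Cardinal) := by
    rw [← trdeg_add_eq k K (A := Wf),
      trdeg_eq_of_isAlgebraic K (K := adjoin K (s : Set M)) (C := Wf)]
    exact add_le_add le_rfl ((trdeg_adjoin_le (s : Set M)).trans_eq Cardinal.mk_coe_finset)
  refine le_trans ?_ h1
  rw [← Cardinal.mk_coe_finset]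
  exact AlgebraicIndependent.cardinalMk_le_trdeg
    (x := fun a : (z : Set M) => (⟨a, hzW a a.2⟩ : Wf))
    (AlgebraicIndependent.of_comp (Wf.val.restrictScalars k) hz)

/-- Descent along any extension of the ground field. -/
theorem down {k K L K' : Type u} [Field k] [Field K] [Field L] [Field K'] [Algebra k K]
    [Algebra k L] [Algebra k K'] [Algebra K K'] [Algebra L K'] [IsScalarTower k K K']
    [IsScalarTower k L K']
    (hgen : adjoin K (Set.range (algebraMap L K')) = ⊤) (hfg : (⊤ : IntermediateField k K).FG)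
    {e : ℕ} (D : CovDiag L K' e) : ∃ e' ≤ e, Nonempty (CovDiag k K e') := by
  classical
  let M := D.KC
  let aK : Algebra K D.KC := ((algebraMap K' D.KC).comp (algebraMap K K')).toAlgebra
  let ak : Algebra k D.KC := ((algebraMap K' D.KC).comp (algebraMap k K')).toAlgebra
  have : IsScalarTower K K' D.KC := IsScalarTower.of_algebraMap_eq fun _ => rfl
  have : IsScalarTower k K' D.KC := IsScalarTower.of_algebraMap_eq fun _ => rfl
  have : IsScalarTower k K D.KC := IsScalarTower.of_algebraMap_eq fun x => by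
    show algebraMap K' D.KC (algebraMap k K' x) = algebraMap K' D.KC (algebraMap K K' (algebraMap k K x))
    rw [← IsScalarTower.algebraMap_apply k K K']
  obtain ⟨gens, b, w, hgens, htr, htalg, h1, hmul, hg⟩ := spread (B := D.KB) hgen hfg D.t D.transc
  obtain ⟨s, ⟨hsb, hs⟩, hsmax⟩ := Set.Finite.exists_maximal
      (s := {s : Finset D.KC | s ⊆ b ∧ AlgebraicIndepOn K id (s : Set D.KC)})
      ((b.powerset.finite_toSet).subset fun s hs => Finset.mem_powerset.2 hs.1) ⟨∅, by simp, by
        simpa using (algebraicIndependent_empty_iff K D.KC).2 (algebraMap K D.KC).injective⟩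
  have hsk : AlgebraicIndepOn k id (s : Set D.KC) :=
    AlgebraicIndependent.restrictScalars (algebraMap k K).injective hs
  obtain ⟨s', ⟨hss', hs'b, hs'⟩, hs'max⟩ := Set.Finite.exists_maximal
      (s := {s' : Finset D.KC | s ⊆ s' ∧ s' ⊆ b ∧ AlgebraicIndepOn k id (s' : Set D.KC)})
      ((b.powerset.finite_toSet).subset fun s hs => Finset.mem_powerset.2 hs.2.1)
      ⟨s, subset_rfl, hsb, hsk⟩
  let A := adjoin K (s : Set D.KC)
  let W := algebraicClosure A D.KC
  have hb : ∀ x ∈ b, IsAlgebraic (Algebra.adjoin K (s : Set D.KC)) x := by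
    intro x hx
    by_cases hxs : x ∈ s
    · exact isAlgebraic_algebraMap (⟨x, Algebra.subset_adjoin hxs⟩ : Algebra.adjoin K (s : Set D.KC))
    · by_contra htx
      refine hxs (hsmax (y := insert x s) ⟨Finset.insert_subset hx hsb, ?_⟩ (Finset.subset_insert x s)
        (Finset.mem_insert_self x s))
      rw [Finset.coe_insert]
      exact (AlgebraicIndepOn.insert_iff (by simpa using hxs)).2 ⟨hs, by rw [Set.image_id]; exact htx⟩
  have hbk : ∀ x ∈ b, IsIntegral (adjoin k (s' : Set D.KC)) x := by
    intro x hx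
    refine IsAlgebraic.isIntegral (isAlgebraic_adjoin_iff.2 ?_)
    by_cases hxs : x ∈ s'
    · exact isAlgebraic_algebraMap (⟨x, Algebra.subset_adjoin hxs⟩ : Algebra.adjoin k (s' : Set D.KC))
    · by_contra htx
      refine hxs (hs'max (y := insert x s') ⟨hss'.trans (Finset.subset_insert x s'),
        Finset.insert_subset hx hs'b, ?_⟩ (Finset.subset_insert x s') (Finset.mem_insert_self x s'))
      rw [Finset.coe_insert]
      exact (AlgebraicIndepOn.insert_iff (by simpa using hxs)).2 ⟨hs', by rw [Set.image_id]; exact htx⟩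
  -- everything lives in `W`
  let Wk : IntermediateField k D.KC := (W.restrictScalars K).restrictScalars k
  have hbW : ∀ x ∈ b, x ∈ W := fun x hx => mem_algebraicClosure_iff.2 (isAlgebraic_adjoin_iff.2 (hb x hx))
  have hKbW : adjoin K (b : Set D.KC) ≤ W.restrictScalars K := adjoin_le_iff.2 hbW
  have htW : D.t ∈ W := mem_closure A _ (fun z hz => hKbW hz) htalg.isIntegral
  have hX : adjoin k (insert D.t (b : Set D.KC)) ≤ Wk :=
    adjoin_le_iff.2 (Set.insert_subset htW hbW)
  have hwW : ∀ i, w i ∈ W := by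
    intro i
    obtain ⟨hfin, -⟩ := finrank_adjoin_le w h1 hmul
    have h : IsIntegral (adjoin k (insert D.t (b : Set D.KC))) (w i) :=
      (IsIntegral.of_finite _ (⟨w i, subset_adjoin _ _ ⟨i, rfl⟩⟩ :
        adjoin (adjoin k (insert D.t (b : Set D.KC))) (Set.range w))).map (IntermediateField.val _)
    let g : adjoin k (insert D.t (b : Set D.KC)) →+* W :=
      (adjoin k (insert D.t (b : Set D.KC))).val.toRingHom.codRestrict W.toSubfield fun z => hX z.2
    exact mem_algebraicClosure_iff.2 (isIntegral_trans (R := A) (A := W) (w i)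
      (h.isAlgebraic.ringHom_of_comp_eq g (RingHom.id D.KC)
        (fun a c h => Subtype.ext (congrArg (fun q : W => (q : D.KC)) h)) (by ext; rfl)).isIntegral).isAlgebraic
  -- the finite set to specialise
  let Ω := AlgebraicClosure K
  choose T1 hT1W hT1 using fun p : Fin _ × Fin _ => eval_span (Ω := Ω) w (hmul p.1 p.2)
  obtain ⟨T0, hT0W, hT0⟩ := eval_span (Ω := Ω) w h1
  choose Tg hTgW hTg using fun g : gens => eval_span (Ω := Ω) w (hg g g.2)
  choose Tb hTbW hTb using fun x : b => eval_isIntegral (Ω := Ω) (hbk x x.2)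
  let Q : Finset D.KC := b ∪ {D.t} ∪ Finset.univ.image w ∪ Finset.univ.biUnion T1 ∪ T0 ∪
    Finset.univ.biUnion Tg ∪ Finset.univ.biUnion Tb
  have hQW : ∀ q ∈ Q, q ∈ W := by
    intro q hq
    simp only [Q, Finset.mem_union, Finset.mem_singleton, Finset.mem_image, Finset.mem_biUnion,
      Finset.mem_univ, true_and] at hq
    rcases hq with (((((h | rfl) | ⟨i, rfl⟩) | ⟨p, hp⟩) | h) | ⟨g, hg⟩) | ⟨x, hx⟩
    · exact hbW q h
    · exact htW
    · exact hwW i
    · exact hX (hT1W p q hp)
    · exact hX (hT0W q h)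
    · exact hX (hTgW g q hg)
    · rcases hTbW x q hx with rfl | h
      · exact hbW _ x.2
      · exact hX (adjoin.mono k _ _ (subset_trans (Finset.coe_subset.2 hs'b) (Set.subset_insert _ _)) h)
  let y : Fin s.card → D.KC := fun i => (s.equivFin.symm i : D.KC)
  have hy : AlgebraicIndependent K y := hs.comp _ s.equivFin.symm.injective
  have hrange : Set.range y = (s : Set D.KC) := by
    show Set.range (Subtype.val ∘ s.equivFin.symm) = _
    rw [Set.range_comp, Equiv.range_eq_univ, Set.image_univ, Subtype.range_coe_subtype]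
    rfl
  obtain ⟨S, φ, hQS, hyS⟩ := exists_place (k := k) hy Q (fun q hq => by
    rw [hrange]
    exact isAlgebraic_adjoin_iff.1 (mem_algebraicClosure_iff.1 (hQW q hq)))
  let Sk : Subalgebra k D.KC := S.restrictScalars k
  let φk : Sk →ₐ[k] Ω := φ.restrictScalars k
  have hbS : ∀ x ∈ b, x ∈ Sk := fun x hx => hQS x (by simp [Q, hx])
  have htS : D.t ∈ Sk := hQS _ (by simp [Q])
  have hwS : ∀ i, w i ∈ Sk := fun i => hQS _ (by simp [Q])
  let β : Set Ω := φk '' {z : Sk | (z : D.KC) ∈ b}
  let τ : Ω := φk ⟨D.t, htS⟩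
  let v : Fin _ → Ω := fun i => φk ⟨w i, hwS i⟩
  have hmono : adjoin k (φk '' {z : Sk | (z : D.KC) ∈ insert D.t (b : Set D.KC)}) ≤
      adjoin k (insert τ β) := by
    refine adjoin.mono k _ _ ?_
    rintro _ ⟨z, hz | hz, rfl⟩
    · exact Or.inl (congrArg φk (Subtype.ext hz))
    · exact Or.inr ⟨z, hz, rfl⟩
  have hsp : ∀ {x : Ω}, x ∈ Submodule.span (adjoin k (φk '' {z : Sk | (z : D.KC) ∈ insert D.t (b : Set D.KC)}))
      (Set.range v) → x ∈ Submodule.span (adjoin k (insert τ β)) (Set.range v) := by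
    intro x hx
    obtain ⟨c, hc⟩ := (Submodule.mem_span_range_iff_exists_fun _).1 hx
    exact (Submodule.mem_span_range_iff_exists_fun _).2 ⟨fun i => ⟨c i, hmono (c i).2⟩, hc⟩
  have h1' : (1 : Ω) ∈ Submodule.span (adjoin k (insert τ β)) (Set.range v) := by
    have := hT0 Sk φk (fun z hz => hQS z (by simp [Q, hz])) hwS (one_mem Sk)
    rw [show (⟨1, one_mem Sk⟩ : Sk) = 1 from rfl, map_one] at this
    exact hsp this
  have hmul' : ∀ i j, v i * v j ∈ Submodule.span (adjoin k (insert τ β)) (Set.range v) := by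
    intro i j
    refine hsp ?_
    show φk ⟨w i, hwS i⟩ * φk ⟨w j, hwS j⟩ ∈ _
    rw [← map_mul]
    exact hT1 (i, j) Sk φk (fun z hz => hQS z (by
      simp only [Q, Finset.mem_union, Finset.mem_biUnion]
      exact Or.inl (Or.inl (Or.inl (Or.inr ⟨(i, j), Finset.mem_univ _, hz⟩))))) hwS _
  have hg' : ∀ g ∈ gens, algebraMap K Ω g ∈ Submodule.span (adjoin k (insert τ β)) (Set.range v) := by
    intro g hg0
    have := hTg ⟨g, hg0⟩ Sk φk (fun z hz => hQS z (by
      simp only [Q, Finset.mem_union, Finset.mem_biUnion]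
      exact Or.inl (Or.inr ⟨⟨g, hg0⟩, Finset.mem_univ _, hz⟩))) hwS (S.algebraMap_mem g)
    rw [show φk ⟨algebraMap K D.KC g, S.algebraMap_mem g⟩ = algebraMap K Ω g from φ.commutes g] at this
    exact hsp this
  have hβfin : β.Finite := ((b.finite_toSet).preimage Subtype.val_injective.injOn).image _
  -- transcendence of `τ`
  have htr' : Transcendental (adjoin k β) τ := by
    intro halg
    let ζ : Set Ω := φk '' {z : Sk | (z : D.KC) ∈ (↑(s' \ s) : Set D.KC)}
    let G := adjoin k ζ
    let W1 := algebraicClosure G Ω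
    let W1k : IntermediateField k Ω := W1.restrictScalars k
    have hs'W1 : adjoin k (φk '' {z : Sk | (z : D.KC) ∈ (s' : Set D.KC)}) ≤ W1k := by
      rw [adjoin_le_iff]
      rintro _ ⟨z, hz, rfl⟩
      by_cases hzs : (z : D.KC) ∈ s
      · obtain ⟨h, halg'⟩ := hyS (s.equivFin ⟨z, hzs⟩)
        have e1 : y (s.equivFin ⟨z, hzs⟩) = (z : D.KC) := by simp [y]
        have e2 : φk z = φ ⟨_, h⟩ := congrArg φ (Subtype.ext e1.symm : (⟨(z : D.KC), z.2⟩ : S) = ⟨_, h⟩)
        show φk z ∈ W1
        rw [e2]
        exact mem_algebraicClosure_iff.2 (IsAlgebraic.tower_top (L := G) halg')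
      · exact W1.algebraMap_mem (⟨φk z, subset_adjoin _ _ ⟨z, by simp [hzs]; simpa using hz, rfl⟩⟩ : G)
    have hβW1 : adjoin k β ≤ W1k := by
      rw [adjoin_le_iff]
      rintro _ ⟨z, hz, rfl⟩
      exact mem_closure G _ hs'W1 (hTb ⟨z, hz⟩ Sk φk (fun q hq => hQS q (by
        simp only [Q, Finset.mem_union, Finset.mem_biUnion]
        exact Or.inr ⟨⟨z, hz⟩, Finset.mem_univ _, hq⟩)) z.2)
    have hτW1 : τ ∈ W1 := mem_closure G _ hβW1 halg.isIntegral
    have hEW1 : adjoin k (insert τ β) ≤ W1k :=
      adjoin_le_iff.2 (Set.insert_subset hτW1 fun z hz => hβW1 (subset_adjoin _ _ hz))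
    have hvW1 : ∀ i, v i ∈ W1 := by
      intro i
      obtain ⟨hfin, -⟩ := finrank_adjoin_le v h1' hmul'
      exact mem_closure G _ hEW1 ((IsIntegral.of_finite _ (⟨v i, subset_adjoin _ _ ⟨i, rfl⟩⟩ :
        adjoin (adjoin k (insert τ β)) (Set.range v))).map (IntermediateField.val _))
    have hKW1 : ∀ c : K, algebraMap K Ω c ∈ W1k := by
      intro c
      have hc : c ∈ adjoin k (gens : Set K) := by rw [hgens]; exact mem_top
      induction hc using adjoin_induction with
      | mem g hg0 =>
        obtain ⟨c, hc⟩ := (Submodule.mem_span_range_iff_exists_fun _).1 (hg' g hg0)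
        rw [← hc]
        exact sum_mem fun i _ => mul_mem (hEW1 (c i).2) (hvW1 i)
      | algebraMap a => rw [← IsScalarTower.algebraMap_apply k K Ω]; exact W1k.algebraMap_mem a
      | add a c _ _ ha hc => rw [map_add]; exact add_mem ha hc
      | inv a _ ha => rw [map_inv₀]; exact inv_mem ha
      | mul a c _ _ ha hc => rw [map_mul]; exact mul_mem ha hc
    let ι1 : K →ₐ[k] W1 :=
      { (algebraMap K Ω).codRestrict W1.toSubfield hKW1 with
        commutes' := fun a => Subtype.ext (IsScalarTower.algebraMap_apply k K Ω a).symm }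
    have c1 : Algebra.trdeg k K ≤ (↑(s' \ s).card : Cardinal) := by
      refine (trdeg_le_of_injective ι1 ι1.toRingHom.injective).trans ?_
      rw [trdeg_eq_of_isAlgebraic k (K := G) (C := W1)]
      refine (trdeg_adjoin_le ζ).trans (Cardinal.mk_image_le.trans ?_)
      rw [← Cardinal.mk_coe_finset]
      exact Cardinal.mk_le_of_injective
        (f := fun z : {z : Sk | (z : D.KC) ∈ (↑(s' \ s) : Set D.KC)} =>
          (⟨((z : Sk) : D.KC), z.2⟩ : (↑(s' \ s) : Set D.KC)))
        fun a c h => Subtype.ext (Subtype.ext (congrArg Subtype.val h :))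
    -- the count upstairs
    let z' : Finset D.KC := insert D.t s'
    have htz : D.t ∉ (s' : Set D.KC) := fun h => htr (isAlgebraic_algebraMap
      (⟨D.t, subset_adjoin _ _ (hs'b h)⟩ : adjoin k (b : Set D.KC)))
    have hz' : AlgebraicIndepOn k id (z' : Set D.KC) := by
      rw [Finset.coe_insert]
      refine (AlgebraicIndepOn.insert_iff htz).2 ⟨hs', fun h => htr ?_⟩
      rw [Set.image_id] at h
      have h' : IsAlgebraic (adjoin k (s' : Set D.KC)) D.t := isAlgebraic_adjoin_iff.2 h
      exact h'.ringHom_of_comp_eq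
        (inclusion (adjoin.mono k _ _ (Finset.coe_subset.2 hs'b))).toRingHom (RingHom.id _)
        (fun a c h => Subtype.ext (congrArg (fun q : adjoin k (b : Set D.KC) => (q : D.KC)) h)) (by ext; rfl)
    have hz'W : ∀ z ∈ z', z ∈ W := fun z hz => by
      rcases Finset.mem_insert.1 hz with rfl | hz
      exacts [htW, hbW _ (hs'b hz)]
    have c4 : (z'.card : Cardinal) ≤ Algebra.trdeg k K + (s.card : Cardinal) :=
      card_le_of_algebraic s z' (W.restrictScalars K)
        (fun x hx => W.algebraMap_mem (⟨x, hx⟩ : A))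
        (fun x hx => mem_algebraicClosure_iff.1 hx) hz' hz'W
    obtain ⟨n, hn⟩ := Cardinal.lt_aleph0.1 (trdeg_lt_aleph0 ⟨gens, hgens⟩ : Algebra.trdeg k K < ℵ₀)
    rw [hn] at c1 c4
    norm_cast at c1 c4
    rw [Finset.card_insert_of_notMem (by simpa using htz)] at c4
    rw [Finset.card_sdiff_of_subset hss'] at c1
    have := Finset.card_le_card hss'
    omega
  obtain ⟨e', he', D', -⟩ := assemble (K := K) hgens hβfin τ v
    (fun x _ => Algebra.IsIntegral.isIntegral x) htr' h1' hmul' hg'
  exact ⟨e', he'.trans_eq D.finrank_eq, ⟨D'⟩⟩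

end Groth.Agent.CvgBC84
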