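import Mathlib
import Groth.Agent.CvgBC84

/-! A covering diagram gives one of no larger degree after extending the ground field. -/

set_option autoImplicit false
universe u

open W4c3irrattreebun IntermediateField Cardinal
open scoped TensorProduct

namespace Groth.Agent.CvgBC84

theorem up {k K L K' : Type u} [Field k] [Field K] [Field L] [Field K'] [Algebra k K] [Algebra k L]
    [Algebra k K'] [Algebra K K'] [Algebra L K'] [IsScalarTower k K K'] [IsScalarTower k L K']
    (hgen : adjoin K (Set.range (algebraMap L K')) = ⊤)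
    (hind : ∀ {m : ℕ} (x : Fin m → K), AlgebraicIndependent k x →
      AlgebraicIndependent L (fun i => algebraMap K K' (x i)))
    (hn : Algebra.trdeg k K < ℵ₀) {e : ℕ} (D : CovDiag k K e) :
    ∃ e' ≤ e, ∃ D' : CovDiag L K' e', Algebra.IsSeparable K D.KC → Algebra.IsSeparable K' D'.KC := by
  classical
  let Ω := AlgebraicClosure K'
  let σ : D.KC →ₐ[K] Ω := IsAlgClosed.lift
  let bK := Module.finBasis K D.KC
  let C : IntermediateField K' Ω := adjoin K' (Set.range (σ ∘ bK))
  have : FiniteDimensional K' C := by
    refine finiteDimensional_adjoin fun x hx => ?_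
    exact Algebra.IsIntegral.isIntegral x
  have hσC : ∀ x, σ x ∈ C := by
    intro x
    rw [← bK.sum_repr x, map_sum]
    refine sum_mem fun i _ => ?_
    rw [map_smul, Algebra.smul_def, IsScalarTower.algebraMap_apply K K' Ω]
    exact mul_mem (C.algebraMap_mem _) (subset_adjoin _ _ ⟨i, rfl⟩)
  let σC : D.KC →+* C := σ.toRingHom.codRestrict C.toSubfield hσC
  have hK : ∀ c : K, σC (algebraMap K D.KC c) = algebraMap K' C (algebraMap K K' c) := fun c =>
    Subtype.ext (by
      show σ (algebraMap K D.KC c) = algebraMap K' Ω (algebraMap K K' c)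
      rw [σ.commutes, ← IsScalarTower.algebraMap_apply K K' Ω])
  have hk : ∀ c : k, σC (algebraMap k D.KC c) = algebraMap L C (algebraMap k L c) := by
    intro c
    rw [IsScalarTower.algebraMap_apply k K D.KC, hK, ← IsScalarTower.algebraMap_apply k K K',
      IsScalarTower.algebraMap_apply L K' C, ← IsScalarTower.algebraMap_apply k L K']
  let B' : IntermediateField L C := adjoin L (Set.range fun b : D.KB => σC (algebraMap D.KB D.KC b))
  let F := adjoin D.KB ({D.t} : Set D.KC)
  let E := adjoin B' ({σC D.t} : Set C)
  have hFE : ∀ f ∈ F, σC f ∈ E := by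
    intro f hf
    induction hf using adjoin_induction with
    | mem z hz => obtain rfl : z = D.t := hz; exact mem_adjoin_simple_self _ _
    | algebraMap b =>
      exact E.algebraMap_mem (⟨σC (algebraMap D.KB D.KC b), subset_adjoin _ _ ⟨b, rfl⟩⟩ : B')
    | add a b _ _ ha hb => rw [map_add]; exact add_mem ha hb
    | inv a _ ha => rw [map_inv₀]; exact inv_mem ha
    | mul a b _ _ ha hb => rw [map_mul]; exact mul_mem ha hb
  let ω := Module.finBasis F D.KC
  let v := σC ∘ ω
  have hspan : ∀ x, σC x ∈ Submodule.span E (Set.range v) := by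
    intro x
    rw [← ω.sum_repr x, map_sum]
    refine Submodule.sum_mem _ fun i _ => ?_
    rw [Algebra.smul_def, map_mul]
    exact Submodule.smul_mem _ (⟨_, hFE _ (ω.repr x i).2⟩ : E) (Submodule.subset_span ⟨i, rfl⟩)
  have hσv : ∀ x, σC x ∈ adjoin E (Set.range v) := fun x =>
    (Submodule.span_le.2 (subset_adjoin E (Set.range v)) :
      Submodule.span E (Set.range v) ≤ (adjoin E (Set.range v)).toSubalgebra.toSubmodule) (hspan x)
  have htop : adjoin E (Set.range v) = ⊤ := by
    have hK' : ∀ z : K', algebraMap K' C z ∈ adjoin E (Set.range v) := by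
      intro z
      have hz : z ∈ adjoin K (Set.range (algebraMap L K')) := by rw [hgen]; exact mem_top
      induction hz using adjoin_induction with
      | mem w hw =>
        obtain ⟨l, rfl⟩ := hw
        rw [← IsScalarTower.algebraMap_apply L K' C]
        exact (adjoin E (Set.range v)).algebraMap_mem
          (⟨algebraMap L C l, E.algebraMap_mem ⟨_, B'.algebraMap_mem l⟩⟩ : E)
      | algebraMap c => rw [← hK]; exact hσv _
      | add a b _ _ ha hb => rw [map_add]; exact add_mem ha hb
      | inv a _ ha => rw [map_inv₀]; exact inv_mem ha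
      | mul a b _ _ ha hb => rw [map_mul]; exact mul_mem ha hb
    rw [eq_top_iff]
    rintro ⟨z, hz⟩ -
    induction hz using adjoin_induction with
    | mem w hw => obtain ⟨i, rfl⟩ := hw; exact hσv (bK i)
    | algebraMap c => exact hK' c
    | add a b ha hb iha ihb => exact add_mem iha ihb
    | inv a ha iha => exact inv_mem iha
    | mul a b ha hb iha ihb => exact mul_mem iha ihb
  have h1 : (1 : C) ∈ Submodule.span E (Set.range v) := by rw [← map_one σC]; exact hspan 1
  have hmul : ∀ i j, v i * v j ∈ Submodule.span E (Set.range v) := fun i j => by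
    show σC (ω i) * σC (ω j) ∈ _
    rw [← map_mul]; exact hspan _
  -- transcendence
  have htr : Transcendental B' (σC D.t) := by
    intro halg
    obtain ⟨s, hs⟩ := exists_isTranscendenceBasis' k D.KB
    obtain ⟨xs, x, hx⟩ := exists_isTranscendenceBasis' k K
    set sι := hs.choose
    have hsι := hs.choose_spec
    let A0 : IntermediateField L C := adjoin L (Set.range fun i => σC (algebraMap D.KB D.KC (sι i)))
    let W := algebraicClosure A0 C
    have hclosed : ∀ z : C, IsAlgebraic W z → z ∈ W := fun z hz =>
      mem_algebraicClosure_iff.2 (isIntegral_trans (R := A0) (A := W) z hz.isIntegral).isAlgebraic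
    have hKB : ∀ b : D.KB, σC (algebraMap D.KB D.KC b) ∈ W := by
      intro b
      have hb := hsι.isAlgebraic.isAlgebraic b
      let φ : Algebra.adjoin k (Set.range sι) →+* A0 :=
        (((σC.comp (algebraMap D.KB D.KC)).comp (Algebra.adjoin k (Set.range sι)).val.toRingHom)).codRestrict
          A0.toSubfield (fun z => by
            obtain ⟨z, hz⟩ := z
            show σC (algebraMap D.KB D.KC z) ∈ A0
            induction hz using Algebra.adjoin_induction with
            | mem w hw => obtain ⟨i, rfl⟩ := hw; exact subset_adjoin _ _ ⟨i, rfl⟩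
            | algebraMap c =>
              rw [← IsScalarTower.algebraMap_apply k D.KB D.KC, hk]
              exact A0.algebraMap_mem _
            | add a b _ _ ha hb => rw [map_add, map_add]; exact add_mem ha hb
            | mul a b _ _ ha hb => rw [map_mul, map_mul]; exact mul_mem ha hb)
      exact mem_algebraicClosure_iff.2 (hb.ringHom_of_comp_eq φ (σC.comp (algebraMap D.KB D.KC))
        (fun a b h => Subtype.ext ((σC.comp (algebraMap D.KB D.KC)).injective (congrArg Subtype.val h)))
        (by ext; rfl))
    have hB'W : ∀ z ∈ B', z ∈ W := by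
      intro z hz
      induction hz using adjoin_induction with
      | mem w hw => obtain ⟨b, rfl⟩ := hw; exact hKB b
      | algebraMap l => exact W.algebraMap_mem (⟨_, A0.algebraMap_mem l⟩ : A0)
      | add a b _ _ ha hb => exact add_mem ha hb
      | inv a _ ha => exact inv_mem ha
      | mul a b _ _ ha hb => exact mul_mem ha hb
    let ι' : B' →+* W := B'.val.toRingHom.codRestrict W.toSubfield fun z => hB'W _ z.2
    have hEW : ∀ z ∈ E, z ∈ W := by
      intro z hz
      induction hz using adjoin_induction with
      | mem w hw =>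
        obtain rfl : w = σC D.t := hw
        exact hclosed _ (halg.ringHom_of_comp_eq ι' (RingHom.id C)
          (fun a b h => Subtype.ext (congrArg (fun q : W => (q : C)) h)) (by ext; rfl))
      | algebraMap b => exact hB'W _ b.2
      | add a b _ _ ha hb => exact add_mem ha hb
      | inv a _ ha => exact inv_mem ha
      | mul a b _ _ ha hb => exact mul_mem ha hb
    obtain ⟨hfinE, -⟩ := finrank_adjoin_le v h1 hmul
    rw [htop] at hfinE
    have : Module.Finite E C := Module.Finite.equiv topEquiv.toLinearEquiv
    let ι'' : E →+* W := E.val.toRingHom.codRestrict W.toSubfield fun z => hEW _ z.2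
    have hWtop : Algebra.IsAlgebraic A0 C := ⟨fun z => mem_algebraicClosure_iff.1 (hclosed z
      ((IsIntegral.of_finite E z).isAlgebraic.ringHom_of_comp_eq ι'' (RingHom.id C)
        (fun a b h => Subtype.ext (congrArg (fun q : W => (q : C)) h)) (by ext; rfl)))⟩
    have hadj : Algebra.IsAlgebraic
        (Algebra.adjoin L (Set.range fun i => σC (algebraMap D.KB D.KC (sι i)))) C :=
      isAlgebraic_adjoin_iff_top.1 hWtop
    have h2 := Algebra.IsAlgebraic.trdeg_le_cardinalMk L
      (Set.range fun i => σC (algebraMap D.KB D.KC (sι i)))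
    have h3 : #(PUnit.{u+1} ⊕ s) ≤ Algebra.trdeg k D.KC :=
      (hsι.1.sumElim_comp (y := fun _ : PUnit.{u+1} => D.t)
        (algebraicIndependent_unique_type_iff.2 D.transc)).cardinalMk_le_trdeg
    rw [trdeg_eq_of_isAlgebraic k (K := K) (C := D.KC), Cardinal.mk_sum, Cardinal.lift_id, Cardinal.lift_id, Cardinal.mk_punit, add_comm] at h3
    obtain ⟨n, hn'⟩ := Cardinal.lt_aleph0.1 hn
    have hxn : #xs = n := by rw [hx.cardinalMk_eq_trdeg, hn']
    have : Finite xs := Cardinal.mk_lt_aleph0_iff.1 (by rw [hxn]; exact Cardinal.natCast_lt_aleph0)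
    let ex := (Finite.equivFin xs).symm
    have h4 := (hind (x ∘ ex) (hx.1.comp ex ex.injective)).map'
      (f := IsScalarTower.toAlgHom L K' C) (algebraMap K' C).injective
    have h5 := h4.lift_cardinalMk_le_trdeg
    rw [Cardinal.mk_fin, Cardinal.lift_natCast, Cardinal.lift_uzero] at h5
    have h6 : (Nat.card xs : Cardinal) ≤ #s :=
      h5.trans (h2.trans (Cardinal.mk_range_le))
    rw [Nat.card, hxn, Cardinal.toNat_natCast] at h6
    rw [hn'] at h3
    have : #s + 1 ≤ #s := h3.trans h6
    obtain ⟨m, hm⟩ := Cardinal.lt_aleph0.1 ((le_self_add.trans h3).trans_lt (Cardinal.natCast_lt_aleph0 (n := n)))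
    rw [hm] at this
    norm_cast at this
    omega
  obtain ⟨e', he', D', hD'⟩ := mkDiag (k := L) (K := K') B' (σC D.t) htr v h1 hmul htop
  rw [Fintype.card_fin] at he'
  refine ⟨e', he'.trans_eq D.finrank_eq, D', fun hsep => hD' ?_⟩
  have := hsep
  refine (isSeparable_adjoin_iff_isSeparable K' Ω).2 ?_
  rintro _ ⟨i, rfl⟩
  have h : IsSeparable K (σ (bK i)) :=
    IsSeparable.map σ σ.injective (Algebra.IsSeparable.isSeparable K (bK i))
  exact h.tower_top K'

end Groth.Agent.CvgBC84
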