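import Mathlib
import Groth.Agent.CvgBC84Up
import Groth.Agent.CvgBC84Down

/-! The fraction field of `K ⊗ L`. -/

set_option autoImplicit false
universe u

open IntermediateField
open scoped TensorProduct

namespace Groth.Agent.CvgBC84

variable {k K L K' : Type u} [Field k] [Field K] [Field L] [Field K'] [Algebra k K] [Algebra k L]
  [Algebra (K ⊗[k] L) K'] [IsFractionRing (K ⊗[k] L) K'] [Algebra L K']
  [Algebra k K'] [Algebra K K']

theorem adjoin_range_eq_top (hL : ∀ x : L, algebraMap L K' x = algebraMap (K ⊗[k] L) K' ((1 : K) ⊗ₜ[k] x))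
    (hK : ∀ x : K, algebraMap K K' x = algebraMap (K ⊗[k] L) K' (x ⊗ₜ[k] (1 : L))) :
    adjoin K (Set.range (algebraMap L K')) = ⊤ := by
  set F := adjoin K (Set.range (algebraMap L K'))
  have h : ∀ a : K ⊗[k] L, algebraMap (K ⊗[k] L) K' a ∈ F := by
    intro a
    induction a with
    | zero => rw [map_zero]; exact zero_mem _
    | add a b ha hb => rw [map_add]; exact add_mem ha hb
    | tmul x l =>
      rw [show x ⊗ₜ[k] l = (x ⊗ₜ[k] (1 : L)) * ((1 : K) ⊗ₜ[k] l) by simp, map_mul, ← hK, ← hL]
      exact mul_mem (F.algebraMap_mem x) (subset_adjoin _ _ ⟨l, rfl⟩)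
  rw [eq_top_iff]
  intro z _
  obtain ⟨a, b, -, rfl⟩ := IsFractionRing.div_surjective (A := K ⊗[k] L) z
  exact div_mem (h a) (h b)

theorem algebraicIndependent_map [IsScalarTower k K K'] [IsScalarTower k L K']
    (hL : ∀ x : L, algebraMap L K' x = algebraMap (K ⊗[k] L) K' ((1 : K) ⊗ₜ[k] x))
    (hK : ∀ x : K, algebraMap K K' x = algebraMap (K ⊗[k] L) K' (x ⊗ₜ[k] (1 : L)))
    {m : ℕ} (x : Fin m → K) (hx : AlgebraicIndependent k x) :
    AlgebraicIndependent L (fun i => algebraMap K K' (x i)) := by
  let F : L ⊗[k] K →ₐ[L] K' :=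
    Algebra.TensorProduct.lift (Algebra.ofId L K') (IsScalarTower.toAlgHom k K K')
      (fun _ _ => Commute.all _ _)
  have hF : ∀ z, F z = algebraMap (K ⊗[k] L) K' (Algebra.TensorProduct.comm k L K z) := by
    intro z
    induction z with
    | zero => simp
    | add a b ha hb => simp only [map_add, ha, hb]
    | tmul l x =>
      rw [Algebra.TensorProduct.comm_tmul, show x ⊗ₜ[k] l = (x ⊗ₜ[k] (1 : L)) * ((1 : K) ⊗ₜ[k] l) by simp,
        map_mul, ← hK, ← hL, mul_comm]
      exact Algebra.TensorProduct.lift_tmul _ _ _ _ _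
  have hFi : Function.Injective F := by
    intro a b h
    rw [hF, hF] at h
    exact (Algebra.TensorProduct.comm k L K).injective (IsFractionRing.injective (K ⊗[k] L) K' h)
  let g : MvPolynomial (Fin m) L →ₐ[L] K' :=
    (F.comp (Algebra.TensorProduct.map (AlgHom.id L L) (MvPolynomial.aeval (R := k) x))).comp
      (MvPolynomial.algebraTensorAlgEquiv k L).symm.toAlgHom
  have hg : g = MvPolynomial.aeval (fun i => algebraMap K K' (x i)) := by
    refine MvPolynomial.algHom_ext fun i => ?_
    simp [g, F]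
  have hi : Function.Injective g := by
    refine hFi.comp (Function.Injective.comp ?_ (MvPolynomial.algebraTensorAlgEquiv k L).symm.injective)
    exact Module.Flat.lTensor_preserves_injective_linearMap (M := L)
      (MvPolynomial.aeval (R := k) x).toLinearMap hx
  rw [algebraicIndependent_iff_injective_aeval, ← hg]
  exact hi

end Groth.Agent.CvgBC84
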