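import Groth.Statements.S1863
import Groth.Agent.CycLib.DivRestrict
import Groth.Agent.SchPoints.Basic
-- import your own Groth.Agent.* helpers here

set_option autoImplicit false
universe u
open CategoryTheory AlgebraicGeometry
open Cyc

namespace Groth.Agent.S1863

/-- Let U ⊆ X be open and α, β k-cycles on X whose restrictions to U are rationally equivalent on U (for
the restricted dimension function). Then there is a k-cycle γ on X vanishing on U with α rationally
equivalent to β + γ. Here a pair (X, δ) with Cyc.IsSetup plays the role of a scheme locally of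
finite type over a fixed base with a dimension function (X locally Noetherian with universally
catenary local rings, δ a dimension function). -/
theorem result (X : Scheme.{u}) (δ : X → ℤ) (hX : Cyc.IsSetup X δ) (U : X.Opens) (k : ℤ) (α β : AlgebraicCycle X ℤ) (hα : α ∈ Cyc.Zk X δ k) (hβ : β ∈ Cyc.Zk X δ k) (αU βU : AlgebraicCycle (↑U : Scheme.{u}) ℤ) (hαU : ∀ u : ↥U, αU u = α (U.ι u)) (hβU : ∀ u : ↥U, βU u = β (U.ι u)) (h : Cyc.RatEquiv (fun u : ↥U => δ (U.ι u)) k αU βU) : ∃ γ : AlgebraicCycle X ℤ, γ ∈ Cyc.Zk X δ k ∧ (∀ x : X, x ∈ U → γ x = 0) ∧ Cyc.RatEquiv δ k α (β + γ) := by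
  classical
  haveI := hX.1
  obtain ⟨ι, ξ, f, hξ, hf, hlf, hsum⟩ := h
  have hb : ∀ i, Function.Bijective ((U.ι.residueFieldMap (ξ i)).hom) := fun i =>
    ConcreteCategory.bijective_of_isIso (U.ι.residueFieldMap (ξ i))
  choose f' hf' using fun i => (hb i).2 (f i)
  have hf0 : ∀ i, f' i ≠ 0 := fun i h0 => hf i (by rw [← hf' i, h0, map_zero])
  have hlf' : ∀ x : X, ∃ V : Set X, IsOpen V ∧ x ∈ V ∧
      {i | (closure {U.ι (ξ i)} ∩ V).Nonempty}.Finite := by
    intro x
    obtain ⟨W, hW, hxW, -⟩ := exists_isAffineOpen_mem_and_subset (TopologicalSpace.Opens.mem_top x)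
    haveI : IsNoetherianRing Γ(X, W) := IsLocallyNoetherian.component_noetherian ⟨W, hW⟩
    haveI : TopologicalSpace.NoetherianSpace (W : Set X) := noetherianSpace_of_isAffineOpen W hW
    let T : Set U := U.ι ⁻¹' (W : Set X)
    have hT : IsCompact T := by
      rw [U.ι.isOpenEmbedding.isInducing.isCompact_iff, Set.image_preimage_eq_inter_range]
      have := (TopologicalSpace.NoetherianSpace.isCompact ((Subtype.val : ↥(W : Set X) → X) ⁻¹' Set.range U.ι)).image
        continuous_subtype_val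
      rwa [Subtype.image_preimage_coe] at this
    choose V hVo hVmem hVfin using hlf
    obtain ⟨t, htT⟩ := hT.elim_finite_subcover V hVo fun u _ => Set.mem_iUnion.2 ⟨u, hVmem u⟩
    refine ⟨W, W.2, hxW, (t.finite_toSet.biUnion fun u _ => hVfin u).subset ?_⟩
    rintro i ⟨y, hy, hyW⟩
    have hiW : ξ i ∈ T := (specializes_iff_mem_closure.2 hy).mem_open W.2 hyW
    obtain ⟨u, hut, hu⟩ := Set.mem_iUnion₂.1 (htT hiW)
    exact Set.mem_biUnion (show u ∈ (t : Set U) from hut) ⟨ξ i, subset_closure rfl, hu⟩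
  obtain ⟨D, hD⟩ := Groth.Agent.CycLib.exists_cycle_finsum_divFun hX.2.2
    (fun i => U.ι (ξ i)) f' hf0 hlf'
  have hDk : ∀ x, δ x ≠ k → D x = 0 := by
    intro x hx
    rw [hD]
    refine finsum_eq_zero_of_forall_eq_zero fun i => dif_neg fun hh => hx ?_
    have e1 : δ (U.ι (ξ i)) = k + 1 := hξ i
    have e2 : δ x + 1 = δ (U.ι (ξ i)) := hh.2
    omega
  refine ⟨α - β - D, fun x hx => ?_, fun x hx => ?_, ι, fun i => U.ι (ξ i), f', hξ, hf0, hlf',
    fun x => ?_⟩
  · simp [hα x hx, hβ x hx, hDk x hx]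
  · obtain ⟨v, rfl⟩ : ∃ v : U, U.ι v = x := ⟨⟨x, hx⟩, rfl⟩
    have e := hsum v
    simp only [Function.locallyFinsuppWithin.coe_sub, Pi.sub_apply] at e ⊢
    have key : D (U.ι v) = ∑ᶠ i, Cyc.divFun (fun u : U => δ (U.ι u)) (ξ i) (f i) v := by
      rw [hD]
      refine finsum_congr fun i => ?_
      rw [Groth.Agent.CycLib.divFun_openImmersion U.ι hX.2.2
        (Groth.Agent.CycLib.isDimFun_comp_openImmersion U.ι hX.2.2) (ξ i) (hf0 i) v, hf' i]
      rfl
    rw [key, ← e, hαU, hβU]
    ring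
  · rw [← hD x]
    simp
    ring


end Groth.Agent.S1863
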