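import Groth.Statements.S6474
import Groth.Agent.CycLib.VecBdl.Completion
import Groth.Agent.S1863

set_option autoImplicit false
universe u
open CategoryTheory AlgebraicGeometry
open Cyc

namespace Groth.Agent.S6474

set_option linter.style.haveILetI false
set_option maxHeartbeats 1000000

open Opposite Groth.Agent.CycLib Groth.Agent.CycLib.Dev Groth.Agent.CycLib.ProjBdl CategoryTheory.Limits

theorem map_max_of_bijective {R S : Type u} [CommRing R] [CommRing S] [IsLocalRing R] [IsLocalRing S] (φ : R →+* S)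
    (h : Function.Bijective φ) : (IsLocalRing.maximalIdeal R).map φ = IsLocalRing.maximalIdeal S := by
  let e := RingEquiv.ofBijective φ h
  have hu : ∀ a, IsUnit (φ a) ↔ IsUnit a := fun a => ⟨fun hh => by
    have := hh.map e.symm
    rwa [show e.symm (φ a) = a from e.symm_apply_apply a] at this, fun hh => hh.map φ⟩
  refine le_antisymm (Ideal.map_le_iff_le_comap.2 fun a ha => ?_) fun b hb => ?_
  · rw [Ideal.mem_comap, IsLocalRing.mem_maximalIdeal, mem_nonunits_iff, hu]
    exact ha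
  · obtain ⟨a, rfl⟩ := h.2 b
    rw [IsLocalRing.mem_maximalIdeal, mem_nonunits_iff, hu] at hb
    exact Ideal.mem_map_of_mem φ hb

theorem deltaCompat_unique {X Y : Scheme.{u}} {f : X ⟶ Y} {δ₁ δ₂ : X → ℤ} {δY : Y → ℤ}
    (h₁ : Cyc.DeltaCompat f δ₁ δY) (h₂ : Cyc.DeltaCompat f δ₂ δY) : δ₁ = δ₂ := funext fun x => by
  obtain ⟨n, hn, hn'⟩ := h₁ x
  obtain ⟨m, hm, hm'⟩ := h₂ x
  have : n = m := Nat.cast_injective (R := Cardinal) (hn.symm.trans hm)
  omega

theorem pullFun_of_isOpenImmersion {X Y : Scheme.{u}} (f : X ⟶ Y) [IsOpenImmersion f] {δX : X → ℤ} {δY : Y → ℤ}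
    (h : ∀ x, δX x = δY (f x)) (a : Y → ℤ) (x : X) : Cyc.pullFun f δX δY 0 a x = a (f x) := by
  rw [Cyc.pullFun, if_pos (by rw [h, add_zero]), map_max_of_bijective _
    (ConcreteCategory.bijective_of_isIso (f.stalkMap x))]
  haveI : IsSimpleModule (X.presheaf.stalk x) (X.presheaf.stalk x ⧸ IsLocalRing.maximalIdeal (X.presheaf.stalk x)) :=
    isSimpleModule_iff_isCoatom.2 Ideal.IsMaximal.out
  rw [Module.length_eq_one_iff.2 inferInstance]
  simp

theorem aux_pos (X : Scheme.{u}) (δ : X → ℤ) (hX : Cyc.IsSetup X δ) (ℰ : X.Modules) (hq : Coh.IsQCoh ℰ) (r : ℕ)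
    (hr1 : 1 ≤ r) (hr : FlatMod.IsFinLocFreeOfRank r ℰ) (A : RelSpec.QCAlg X) (j : ℰ ⟶ A.toModule)
    (hA : RelSpec.IsSymAlg ℰ A j) (δE : ↥A.spec → ℤ) (hE : Cyc.IsSetup A.spec δE) (hδ : Cyc.DeltaCompat A.π δE δ)
    (k : ℤ) (α : AlgebraicCycle X ℤ) (hα : α ∈ Cyc.Zk X δ k) (γ : AlgebraicCycle A.spec ℤ)
    (hγ : ⇑γ = Cyc.pullFun A.π δE δ r ⇑α) (h0 : Cyc.RatEquivZero δE (k + r) γ) : Cyc.RatEquivZero δ k α := by
  classical
  haveI := hX.1
  obtain ⟨P, p, O1, i, L, hi, hip, hp, hinv, hag, hvan⟩ := VecBdl.exists_completion hq hr1 hr hA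
  haveI := hi
  haveI := hp
  obtain ⟨δP, hP, hδP⟩ := VecBdl.exists_setup p hX
  haveI := hP.1
  have hd := hP.2.2
  have hR : (1 : ℕ) ≤ r + 1 := by omega
  have hδi : δE = fun y => δP (i y) := by
    refine deltaCompat_unique hδ ?_
    rw [← hip]
    exact deltaCompat_comp (deltaCompat_preimmersion i δP) hδP
  let pl := Cyc.pullFun p δP δ (((r + 1 : ℕ) : ℤ) - 1) ⇑α
  have hk : k + ((r + 1 : ℕ) : ℤ) - 1 = k + r := by push_cast; ring
  have hplc : IsCyc δP (k + r) pl := hk ▸ L.isCyc_pull hR hd hδP α hα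
  obtain ⟨Φ₀, hΦk, hΦ⟩ := hplc.exists_cycle
  have hval : ∀ y, γ y = Φ₀ (i y) := fun y => by
    rw [hγ, hΦ]
    rw [← hip]
    show Cyc.pullFun (i ≫ p) δE δ r (⇑α) y = Cyc.pullFun p δP δ (((r + 1 : ℕ) : ℤ) - 1) (⇑α) (i y)
    simp only [Cyc.pullFun]
    have hc : δE y = δ ((i ≫ p) y) + r ↔ δP (i y) = δ (p (i y)) + (((r + 1 : ℕ) : ℤ) - 1) := by
      rw [hδi]
      show δP (i y) = δ (p (i y)) + _ ↔ _
      constructor <;> intro h <;> push_cast at * <;> omega
    by_cases hy : δE y = δ ((i ≫ p) y) + r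
    swap
    · rw [if_neg hy, if_neg (mt hc.2 hy)]
    rw [if_pos hy, if_pos (hc.1 hy)]
    have hx : i y = L.lin hR 0 (p (i y)) := (L.T (p (i y))).eq_lin hR (L.mem _) hd hδP 0 (by omega) rfl
      (by have := hc.1 hy; push_cast at *; omega) fun n h1 h2 => by omega
    have hm := (L.T (p (i y))).map_max_lin_zero hR (L.mem (p (i y)))
    rw [show (L.T (p (i y))).lin hR (L.mem (p (i y))) 0 = i y from hx.symm] at hm
    have hm' : (IsLocalRing.maximalIdeal (X.presheaf.stalk ((i ≫ p) y))).map ((i ≫ p).stalkMap y).hom =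
        IsLocalRing.maximalIdeal (A.spec.presheaf.stalk y) := by
      rw [Scheme.Hom.stalkMap_comp]
      erw [CommRingCat.hom_comp, ← Ideal.map_map, hm]
      exact map_max_of_bijective _ (ConcreteCategory.bijective_of_isIso (i.stalkMap y))
    rw [hm', hm]
    have hl : ∀ (R : Type u) [CommRing R] [IsLocalRing R], Module.length R (R ⧸ IsLocalRing.maximalIdeal R) = 1 := by
      intro R _ _
      haveI : IsSimpleModule R (R ⧸ IsLocalRing.maximalIdeal R) := isSimpleModule_iff_isCoatom.2 Ideal.IsMaximal.out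
      exact Module.length_eq_one_iff.2 inferInstance
    rw [hl, hl]
    rfl
  -- transport to the open subscheme
  let U : P.Opens := i.opensRange
  let g : (U : Scheme.{u}) ⟶ A.spec := i.isoOpensRange.inv
  have hgi : ∀ u, i (g u) = U.ι u := fun u => by
    rw [← Scheme.Hom.comp_apply]
    exact congr($(Scheme.Hom.isoOpensRange_inv_comp i) u)
  have hδg : ∀ u, δP (U.ι u) = δE (g u) := fun u => by rw [hδi, ← hgi]
  have hdU : Cyc.IsDimFun (U : Scheme.{u}) fun u => δP (U.ι u) := isDimFun_comp_openImmersion U.ι hd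
  have hUs : Cyc.IsSetup (U : Scheme.{u}) fun u => δP (U.ι u) := by
    refine ⟨LocallyOfFiniteType.isLocallyNoetherian U.ι, fun u => ?_, hdU⟩
    letI : Algebra (P.presheaf.stalk (U.ι u)) ((U : Scheme.{u}).presheaf.stalk u) := (U.ι.stalkMap u).hom.toAlgebra
    haveI : Algebra.EssFiniteType (P.presheaf.stalk (U.ι u)) ((U : Scheme.{u}).presheaf.stalk u) :=
      LocallyOfFiniteType.stalkMap U.ι u
    exact S9126.result _ _ (hP.2.1 (U.ι u))
  let ΦU : AlgebraicCycle (U : Scheme.{u}) ℤ := ⟨fun u => Φ₀ (U.ι u), fun _ _ => trivial, fun u _ => by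
    obtain ⟨s, hs, hfin⟩ := Φ₀.locallyFiniteSupport (U.ι u)
    refine ⟨U.ι ⁻¹' s, U.ι.continuous.continuousAt hs, (hfin.preimage U.ι.isOpenEmbedding.injective.injOn).subset ?_⟩
    rintro v ⟨h1, h2⟩
    exact ⟨h1, h2⟩⟩
  have hΦU0 : Cyc.RatEquivZero (fun u => δP (U.ι u)) (k + r) ΦU := by
    have hs : ShiftBy g (fun u => δP (U.ι u)) δE 0 := fun u _ => by rw [add_zero]; exact hδg u
    have h := ratEquivZero_pull_shift g hUs hE hs h0 ΦU fun u => by
      rw [pullFun_of_isOpenImmersion g hδg, hval, hgi]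
      rfl
    rwa [add_zero] at h
  obtain ⟨φ, hφk, hφU, hφ⟩ := S1863.result P δP hP U (k + r) Φ₀ 0 hΦk (fun _ _ => rfl) ΦU 0 (fun u => rfl)
    (fun u => rfl) (show Cyc.RatEquivZero _ _ (ΦU - 0) from by rw [sub_zero]; exact hΦU0)
  rw [zero_add] at hφ
  have hφc : IsCyc δP (k + r) ⇑φ := IsCyc.of_cycle φ hφk
  -- the sections
  choose b hb using fun ξ : P => exists_isBas hinv ξ
  let t : Fin (r + 1) → ℕ → (ξ : P) → Cyc.secFibre O1 ξ := fun _ _ ξ => Submodule.Quotient.mk (b ξ)
  have ht : ∀ a m ξ, t a m ξ ≠ 0 := fun _ _ ξ => mk_ne_zero_of_isBas (hb ξ)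
  obtain ⟨c, hck, hc0, hcp⟩ := L.spannedIn hR hX hd hδP hinv k t ht (L.VanOne (by omega)) 1 (by omega)
    (fun _ _ h => L.vanOne_specializes hag h)
    (fun x => ⟨fun h n h1 h2 => (show n = ⟨1, by omega⟩ from Fin.ext (by simp; omega)) ▸ h,
      fun h => h ⟨1, by omega⟩ le_rfl le_rfl⟩)
    (fun a ha1 _ β _ _ t₀ _ => L.vanOne_iter hag hR hd hinv ⇑β t₀ a ha1)
    (r + 1) le_rfl ⇑φ (hk.symm ▸ hφc) (fun x hx => by
      obtain ⟨n, -, hn⟩ := hδP x
      have : δP x = k + r := by
        by_contra hne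
        exact hx (hφk x hne)
      omega)
    (fun x hx => (hvan x).2 fun hm => hx (hφU x hm))
  rw [hk] at hcp
  let o₀ : Fin (r + 1) := ⟨0, by omega⟩
  let αs : Fin (r + 1) → AlgebraicCycle X ℤ := Function.update (fun a => -(c a)) o₀ α
  have hαs : ∀ a : Fin (r + 1), αs a ∈ Cyc.Zk X δ (k + ((a : ℕ) : ℤ)) := fun a => by
    by_cases h : a = o₀
    · subst h
      intro x hx
      simp only [αs, Function.update_self]
      exact hα x (by simpa [o₀] using hx)
    · intro x hx
      simp only [αs, Function.update_of_ne h, Function.locallyFinsuppWithin.coe_neg, Pi.neg_apply, hck a x hx, neg_zero]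
  let T := fun (a : Fin (r + 1)) (β : AlgebraicCycle X ℤ) =>
    Cov.iter δP (Cyc.pullFun p δP δ (((r + 1 : ℕ) : ℤ) - 1) ⇑β) (t a) (a : ℕ)
  have hTc : ∀ (a : Fin (r + 1)) (β : AlgebraicCycle X ℤ), β ∈ Cyc.Zk X δ (k + ((a : ℕ) : ℤ)) →
      IsCyc δP (k + r) (T a β) := fun a β hβ => by
    convert L.isCyc_iter hR hd hδP β hβ hinv (t a) (ht a) a using 1
    push_cast
    ring
  have hsum : ∑ a, T a (αs a) = pl - ∑ a, T a (c a) := by
    have hneg : ∀ a : Fin (r + 1), a ≠ o₀ → T a (αs a) = -T a (c a) := fun a h => by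
      simp only [αs, Function.update_of_ne h, T]
      have hn : Cyc.pullFun p δP δ (((r + 1 : ℕ) : ℤ) - 1) ⇑(-(c a) : AlgebraicCycle X ℤ) =
          -Cyc.pullFun p δP δ (((r + 1 : ℕ) : ℤ) - 1) ⇑(c a) := by
        funext x
        simp only [Cyc.pullFun, Function.locallyFinsuppWithin.coe_neg, Pi.neg_apply]
        split_ifs <;> simp
      rw [hn]
      generalize (a : ℕ) = m
      induction m with
      | zero => rfl
      | succ m ih =>
        simp only [Cov.iter, ih]
        funext x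
        simp only [Cyc.c1CapFun, Pi.neg_apply, neg_mul]
        exact finsum_neg_distrib _
    have h00 : T o₀ (c o₀) = 0 := by
      simp only [T]
      rw [hc0 o₀ (Or.inr (by simp [o₀])), pullFun_zero, iter_zero]
    rw [← Finset.add_sum_erase _ _ (Finset.mem_univ o₀), ← Finset.add_sum_erase _ (fun a => T a (c a)) (Finset.mem_univ o₀),
      Finset.sum_congr rfl fun a ha => hneg a (Finset.ne_of_mem_erase ha), Finset.sum_neg_distrib, h00, zero_add,
      ← sub_eq_add_neg]
    simp only [T, αs, Function.update_self]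
    rfl
  obtain ⟨B, -, hB⟩ := (isCyc_sum Finset.univ fun a _ => hTc a _ (hαs a)).exists_cycle
  have hB0 : Cyc.RatEquivZero δP (k + ((r + 1 : ℕ) : ℤ) - 1) B := by
    rw [hk]
    show ⇑B ∈ prin hd (k + r)
    have h1 : pl - ⇑φ ∈ prin hd (k + r) := by
      have h : ⇑(Φ₀ - φ : AlgebraicCycle P ℤ) ∈ prin hd (k + r) := hφ
      rwa [Function.locallyFinsuppWithin.coe_sub, hΦ] at h
    rw [hB, hsum, show pl - ∑ a, T a (c a) = (pl - ⇑φ) + (⇑φ - ∑ a, T a (c a)) by abel]
    exact add_mem h1 hcp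
  have hinj := L.injective hR hd hδP hinv hX hP k αs hαs t ht B (hB.trans (by rfl)) hB0 o₀
  simpa [αs, o₀] using hinj

theorem isIso_π_zero {X : Scheme.{u}} {ℰ : X.Modules} (hq : Coh.IsQCoh ℰ) (hE : FlatMod.IsFinLocFreeOfRank 0 ℰ)
    {A : RelSpec.QCAlg X} {j : ℰ ⟶ A.toModule} (hA : RelSpec.IsSymAlg ℰ A j) : IsIso A.π := by
  haveI : ℰ.IsQuasicoherent := hq
  have key : ∀ ζ : X, ∃ (U : X.Opens) (_ : IsAffineOpen U), ζ ∈ U ∧ IsIso (A.π ∣_ U) := by
    intro ζ
    obtain ⟨W, hζ, ⟨φ⟩⟩ := hE ζ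
    let π : Fin 0 → (FlatMod.freeMod (W : Scheme.{u}) 0 ⟶ Coh.structureModule (W : Scheme.{u})) := fun j => j.elim0
    obtain ⟨e, he⟩ := LFFrame.exists_isFrame_of_split (M := ℰ)
      (fun i => Sigma.ι (fun _ : Fin 0 => Coh.structureModule (W : Scheme.{u})) i ≫ φ.inv)
      (fun j => φ.hom ≫ π j) (fun i => i.elim0) (by
        rw [← cancel_epi φ.inv]
        apply Sigma.hom_ext
        exact fun j => j.elim0)
    obtain ⟨U, hU, hζU, hUW⟩ := exists_isAffineOpen_mem_and_subset (x := ζ) (U := W) hζ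
    have hzero : ∀ m : Γ(ℰ, U), m = 0 := fun m => by
      obtain ⟨a, rfl⟩ := (he U hUW).2 m
      simp [LFFrame.comb]
    have hstr : Function.Bijective (A.str.app (op U)).hom := by
      have hb : Function.Bijective (algebraMap Γ(X, U) (SymmetricAlgebra Γ(X, U) Γ(ℰ, U))) := by
        refine ⟨(SymmetricAlgebra.algebraMap_leftInverse Γ(ℰ, U)).injective, fun x => ?_⟩
        induction x using SymmetricAlgebra.induction with
        | algebraMap r => exact ⟨r, rfl⟩
        | ι m => exact ⟨0, by rw [hzero m, map_zero, map_zero]⟩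
        | mul x y hx hy =>
          obtain ⟨a, rfl⟩ := hx
          obtain ⟨b, rfl⟩ := hy
          exact ⟨a * b, map_mul _ a b⟩
        | add x y hx hy =>
          obtain ⟨a, rfl⟩ := hx
          obtain ⟨b, rfl⟩ := hy
          exact ⟨a + b, map_add _ a b⟩
      convert (SymLib.affLift_bijective hA hU).comp hb using 1
      funext r
      exact (SymLib.affLift_algebraMap j U r).symm
    refine ⟨U, hU, hζU, ?_⟩
    haveI : IsIso (A.str.app (op U)) := (ConcreteCategory.isIso_iff_bijective _).2 hstr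
    have e : A.π ∣_ U = (A.spec.isoOfEq (A.π_preimage U hU)).hom ≫ (A.ι U hU).isoOpensRange.inv ≫
        Spec.map (A.str.app (op U)) ≫ hU.isoSpec.inv := by
      rw [← cancel_mono U.ι, morphismRestrict_ι]
      simp only [Category.assoc, IsAffineOpen.isoSpec_inv_ι]
      rw [← A.ι_π U hU, Scheme.Hom.isoOpensRange_inv_comp_assoc, Scheme.isoOfEq_hom_ι_assoc]
    rw [e]
    infer_instance
  choose U hU hm hi using key
  have : (MorphismProperty.isomorphisms Scheme.{u}) A.π := by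
    rw [IsZariskiLocalAtTarget.iff_of_iSup_eq_top (P := MorphismProperty.isomorphisms Scheme.{u}) U
      (eq_top_iff.2 fun x _ => TopologicalSpace.Opens.mem_iSup.2 ⟨x, hm x⟩)]
    exact fun ζ => hi ζ
  exact this

/-- Injectivity; surjectivity is the affine-fibres result: suppose ℰ is an O_X-module that is locally
free of finite rank r, and let p : E = Spec(Sym^* ℰ) → X denote the associated vector bundle. Then
p^* : CH_k(X) → CH_{k+r}(E) is injective: a k-cycle α on X with p^*α ∼_rat 0 on E is itself ∼_rat 0.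
The vector bundle is given through the relative-spectrum layer: A a quasi-coherent O_X-algebra with
j : ℰ → A making A the symmetric algebra of ℰ (RelSpec.IsSymAlg, ℰ quasi-coherent), E = A.spec with
structure morphism A.π and the induced dimension function. Here a pair (X, δ) with Cyc.IsSetup plays
the role of a scheme locally of finite type over the base (S, δ) (X locally Noetherian with
universally catenary local rings, δ a dimension function), and Cyc.DeltaCompat records that the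
dimension function upstairs is the induced one. -/
theorem result (X : Scheme.{u}) (δ : X → ℤ) (hX : Cyc.IsSetup X δ) (ℰ : X.Modules) (hq : Coh.IsQCoh ℰ) (r : ℕ) (hr : FlatMod.IsFinLocFreeOfRank r ℰ) (A : RelSpec.QCAlg X) (j : ℰ ⟶ A.toModule) (hA : RelSpec.IsSymAlg ℰ A j) (δE : ↥A.spec → ℤ) (hE : Cyc.IsSetup A.spec δE) (hδ : Cyc.DeltaCompat A.π δE δ) (k : ℤ) (α : AlgebraicCycle X ℤ) (hα : α ∈ Cyc.Zk X δ k) (γ : AlgebraicCycle A.spec ℤ) (hγ : ⇑γ = Cyc.pullFun A.π δE δ r ⇑α) (h0 : Cyc.RatEquivZero δE (k + r) γ) : Cyc.RatEquivZero δ k α := by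
  classical
  rcases Nat.eq_zero_or_pos r with rfl | hr1
  · haveI := isIso_π_zero hq hr hA
    have hδE : δE = fun y => δ (A.π y) := deltaCompat_unique hδ (deltaCompat_preimmersion A.π δ)
    have hσ : ∀ x, A.π ((inv A.π) x) = x := fun x => by
      rw [← Scheme.Hom.comp_apply, IsIso.inv_hom_id]; rfl
    have hδσ : ∀ x, δ x = δE ((inv A.π) x) := fun x => by
      rw [hδE]
      exact congrArg δ (hσ x).symm
    have hs : ShiftBy (inv A.π) δ δE 0 := fun x _ => by rw [add_zero]; exact hδσ x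
    have h := ratEquivZero_pull_shift (inv A.π) hX hE hs h0 α fun x => by
      rw [pullFun_of_isOpenImmersion (inv A.π) hδσ, hγ, Nat.cast_zero,
        pullFun_of_isOpenImmersion A.π (fun y => congrFun hδE y), hσ]
    simpa using h
  · exact aux_pos X δ hX ℰ hq r hr1 hr A j hA δE hE hδ k α hα γ hγ h0

end Groth.Agent.S6474
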