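import Groth.Statements.S8268
import Groth.Agent.SymLib.Affine
import Groth.Agent.RelSpecLib.Local
import Groth.Agent.QCoh.Exact
-- import your own Groth.Agent.* helpers here

set_option autoImplicit false
universe u
open CategoryTheory CategoryTheory.Limits AlgebraicGeometry Opposite TopologicalSpace
open EGA2

namespace Groth.Agent.S8268

/-- A surjective homomorphism E → F of quasi-coherent O_S-modules induces a closed immersion V(F) → V(E)
of the associated vector bundles (relative spectra of the symmetric algebras; the algebra map A → B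
is the one extending E → F). -/
theorem result {S : Scheme.{u}} (E F : S.Modules) (hE : Coh.IsQCoh E)
    (hF : Coh.IsQCoh F) (u : E ⟶ F) [Epi u]
    (A B : RelSpec.QCAlg S) (j : E ⟶ A.toModule) (k : F ⟶ B.toModule)
    (hA : RelSpec.IsSymAlg E A j) (hB : RelSpec.IsSymAlg F B k)
    (ψ : A ⟶ B) (hψ : j ≫ RelSpec.QCAlg.Hom.toModuleMap ψ = u ≫ k) :
    IsClosedImmersion (RelSpec.QCAlg.specMap ψ) := by
  have : E.IsQuasicoherent := hE
  have : F.IsQuasicoherent := hF
  refine RelSpecLib.specMap_property @IsClosedImmersion ψ fun U hU => IsClosedImmersion.spec_of_surjective _ fun b => ?_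
  induction b using SymLib.affInduction hB hU with
  | hstr r => exact ⟨(A.str.app (op U)).hom r, congr($(NatTrans.congr_app ψ.comm (op U)).hom r)⟩
  | hj n =>
    obtain ⟨m, rfl⟩ := QCoh.app_surjective_of_epi u hU n
    exact ⟨j.app U m, congr(($(hψ).app U) m)⟩
  | hmul a b ha hb =>
    obtain ⟨x, rfl⟩ := ha
    obtain ⟨y, rfl⟩ := hb
    exact ⟨x * y, map_mul _ _ _⟩
  | hadd a b ha hb =>
    obtain ⟨x, rfl⟩ := ha
    obtain ⟨y, rfl⟩ := hb
    exact ⟨x + y, map_add _ _ _⟩

end Groth.Agent.S8268
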