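import Groth.Statements.S17119
import Groth.Agent.DefoShLib.Conn
import Groth.Agent.EulerChar.Cartier
import Groth.Agent.CohDev.TensorCoh

set_option autoImplicit false
set_option backward.isDefEq.respectTransparency false
set_option backward.isDefEq.respectTransparency.types false
set_option linter.style.haveILetI false
universe u
open CategoryTheory CategoryTheory.Limits AlgebraicGeometry
open LogNCD

namespace Groth.Agent.S17119

open CategoryTheory CategoryTheory.Limits AlgebraicGeometry Opposite TensorProduct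
open Groth.Agent.DefoShLib Groth.Agent.KoszTwLib

variable {X : Scheme.{u}}

theorem tmul_smul_right {M N : X.Modules} (U : X.Opens) (r : Γ(X, U)) (m : Γ(M, U)) (n : Γ(N, U)) :
    (SecTwist.tmul M N U m (r • n) : Γ(CohB1.tensorMod M N, U)) =
      r • (SecTwist.tmul M N U m n : Γ(CohB1.tensorMod M N, U)) :=
  (congrArg (fun z => toT M N U (ofTV M N U z)) (TensorProduct.tmul_smul r m n)).trans
    (((SecTwist.toTensor M N).app (op U)).hom.map_smul r (ofTV M N U (m ⊗ₜ[Γ(X, U)] n)))

/-- A function killing the second factor kills the tensor product. -/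
theorem smul_eq_zero_of {M N : X.Modules} (U : X.Opens) (r : Γ(X, U))
    (h : ∀ (W : X.Opens) (hW : W ≤ U) (n : Γ(N, W)), X.presheaf.map (homOfLE hW).op r • n = 0)
    (y : Γ(CohB1.tensorMod M N, U)) : r • y = 0 := by
  refine KoszTwLib.eq_zero_of_locally _ U _ fun x hx => ?_
  obtain ⟨W, hW, z, hxW, e⟩ := toT'_locally_surjective U y x hx
  refine ⟨W, hW, hxW, ?_⟩
  rw [Scheme.Modules.map_smul, ← e]
  clear e
  induction z using TensorProduct.induction_on with
  | zero => rw [toT'_zero, smul_zero]
  | tmul m n =>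
    rw [toT'_tmul, ← tmul_smul_right, h W hW n]
    exact (congrArg (toT' M N W) (TensorProduct.tmul_zero _ m)).trans (toT'_zero W)
  | add a b ha hb => rw [toT'_add, smul_add, ha, hb, add_zero]

theorem smul_quotMod (I : X.IdealSheafData) (U : X.Opens) (a : Γ(X, U))
    (h : (ClSub.toSubscheme I).app U a = 0) (n : Γ(ClSub.quotMod I, U)) : a • n = 0 := by
  let n' : Γ(I.subscheme, I.subschemeι ⁻¹ᵁ U) := n
  show (I.subschemeι.app U a) * n' = (0 : Γ(I.subscheme, I.subschemeι ⁻¹ᵁ U))
  rw [show I.subschemeι.app U a = 0 from h]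
  exact zero_mul _

/-- Let f : X → S be smooth, (Ω', d) a universal receptacle for the differentials of X over S, D = (D_1,
…, D_r) a relative strict normal crossing divisor with pinned log module Ω¹(log D) and residues
res_j : Ω¹(log D) → O_{D_j}, E a finite locally free O_X-module and ∇ : E → E ⊗ Ω¹(log D) a
logarithmic connection along D (a map of abelian sheaves with the Leibniz rule). Then for every
component D_i the residue of ∇ along D_i, the composite (1 ⊗ res_i) ∘ ∇ : E → E ⊗ O_{D_i}, is
O_X-linear, i.e. it is induced by an O_X-module morphism ρ, and ρ factors through the restriction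
map E ≅ E ⊗ O_X → E ⊗ O_{D_i}: there is an O_X-linear endomorphism R of E ⊗ O_{D_i} whose composite
with the restriction is ρ (the residue as an endomorphism of E restricted to D_i). (Stated relative
to an arbitrary base; the published statement is over an algebraically closed field, with the module
as the right tensor factor.) -/
theorem result {X S : Scheme.{u}} (f : X ⟶ S) [Smooth f]
    {Ω' : X.Modules} (d : OmegaSh.Der f Ω') (hd : OmegaSh.IsUniversal d)
    {r : ℕ} (D : Fin r → X.IdealSheafData) (hD : LogNCD.IsNCD D f) (Λ : LogNCD.LogMod d D)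
    (E : X.Modules) (hE : FlatMod.IsFinLocFree E)
    (nabla : Coh.toAb E ⟶ Coh.toAb (CohB1.tensorMod E Λ.L)) (hc : ConnSh.IsConn (LogNCD.der Λ) E nabla)
    (i : Fin r) :
    ∃ ρ : E ⟶ CohB1.tensorMod E (ClSub.quotMod (D i)), LogNCD.IsResidue Λ E nabla i ρ ∧
      ∃ R : CohB1.tensorMod E (ClSub.quotMod (D i)) ⟶ CohB1.tensorMod E (ClSub.quotMod (D i)),
        (SecTwist.unitorR E).inv ≫ KoszTw.tensorMap (𝟙 E) (ClSub.toSubscheme (D i)) ≫ R = ρ := by
  let P := KoszTw.tensorMap (𝟙 E) (Λ.res i)
  obtain ⟨ρ, hρ⟩ := exists_L_eq (nabla ≫ L P) fun U t e => by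
    rw [secApp_comp, secApp_comp, secApp_L, secApp_L, hc U t e, map_add, Scheme.Modules.Hom.app_smul]
    refine add_eq_left.mpr ?_
    refine (KoszTw.tensorMap_tmul (𝟙 E) (Λ.res i) U e _).trans ?_
    have hz : (Λ.res i).app U (Λ.ι.app U (d.app U t)) = 0 :=
      congrArg (fun φ : Ω' ⟶ ClSub.quotMod (D i) => φ.app U (d.app U t)) (Λ.res_ι i)
    exact (congrArg (fun n => (SecTwist.tmul E (ClSub.quotMod (D i)) U ((𝟙 E : E ⟶ E).app U e) n :
        Γ(CohB1.tensorMod E (ClSub.quotMod (D i)), U))) hz).trans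
      ((congrArg (toT' E _ U) (TensorProduct.tmul_zero _ _)).trans (toT'_zero U))
  refine ⟨ρ, hρ, ?_⟩
  let F := (DCoh.tensorBi (X := X)).obj E
  haveI : PreservesColimitsOfSize.{0, 0} F := Groth.Agent.KFlat.TensorLocFree.preservesColimits_tensorBi_obj E
  have hS := Groth.Agent.EulerChar.shortExact_ideal (D i)
  haveI := hS.mono_f
  haveI := hS.epi_g
  have hlim := CokernelCofork.mapIsColimit (CokernelCofork.ofπ _ (kernel.condition (ClSub.toSubscheme (D i))))
    hS.gIsCokernel F
  have h0 : F.map (ClSub.idealModι (D i)) ≫ ((SecTwist.unitorR E).hom ≫ ρ) = 0 := by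
    refine hom_ext_tmul fun U e b => ?_
    let a : Γ(X, U) := (ClSub.idealModι (D i)).app U b
    have ha : (KoszTw.tensorMap (𝟙 E) (ClSub.idealModι (D i)) ≫ (SecTwist.unitorR E).hom).app U
        (SecTwist.tmul E (ClSub.idealMod (D i)) U e b) = a • e := by
      rw [Scheme.Modules.Hom.comp_app]
      exact (congrArg ((SecTwist.unitorR E).hom.app U)
        (KoszTw.tensorMap_tmul (𝟙 E) (ClSub.idealModι (D i)) U e b)).trans (SecTwist.unitorR_tmul E U e a)
    have hF : F.map (ClSub.idealModι (D i)) = KoszTw.tensorMap (𝟙 E) (ClSub.idealModι (D i)) :=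
      KoszTw.tensorBi_obj_map E _
    rw [hF, ← Category.assoc]
    show ρ.app U ((KoszTw.tensorMap (𝟙 E) (ClSub.idealModι (D i)) ≫ (SecTwist.unitorR E).hom).app U
      (SecTwist.tmul E (ClSub.idealMod (D i)) U e b)) = 0
    rw [ha, Scheme.Modules.Hom.app_smul]
    refine smul_eq_zero_of U a (fun W hW n => smul_quotMod (D i) W _ ?_ n) _
    let b' := (ClSub.idealMod (D i)).presheaf.map (homOfLE hW).op b
    rw [show X.presheaf.map (homOfLE hW).op a = ((ClSub.idealModι (D i)).app W b' : Γ(X, W)) from
      (app_res (ClSub.idealModι (D i)) hW b).symm]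
    exact congrArg (fun φ : ClSub.idealMod (D i) ⟶ _ => φ.app W b') (kernel.condition (ClSub.toSubscheme (D i)))
  obtain ⟨R, hR⟩ := CokernelCofork.IsColimit.desc' hlim ((SecTwist.unitorR E).hom ≫ ρ) h0
  refine ⟨R, ?_⟩
  have hR' : KoszTw.tensorMap (𝟙 E) (ClSub.toSubscheme (D i)) ≫ R = (SecTwist.unitorR E).hom ≫ ρ := by
    rw [← KoszTw.tensorBi_obj_map]; exact hR
  rw [hR', Iso.inv_hom_id_assoc]


end Groth.Agent.S17119
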