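import Groth.Statements.S5018
import Groth.Agent.Omega.LocalStructure

set_option autoImplicit false
universe u
open CategoryTheory CategoryTheory.Limits AlgebraicGeometry TopologicalSpace
open Unram17

namespace Groth.Agent.S5018

/-- Let f : X ⟶ Y be formally smooth and locally of finite type, and let (Ω', d) be a sheaf of
differentials of X over Y, i.e. d a universal Y-derivation of O_X into Ω'. Then Ω' is finite locally
free. (The published statement also shows that the sheaf of differentials is locally projective for
every formally smooth f; this row states only the case of f locally of finite type.) -/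
theorem result {X Y : Scheme.{u}} (f : X ⟶ Y)
    (hf : MoreMor.IsFormallySmoothHom f) [LocallyOfFiniteType f]
    (Ω' : X.Modules) (d : OmegaSh.Der f Ω') (hd : OmegaSh.IsUniversal d) :
    FlatMod.IsFinLocFree Ω' := by
  refine Groth.Agent.Omega.LocalStructure.isFinLocFree_of_smooth hd fun {U} hU {V} hV e => ?_
  let := (f.appLE U V e).hom.toAlgebra
  have : Algebra.FormallySmooth Γ(Y, U) Γ(X, V) :=
    Groth.Agent.Omega.SmoothHom.formallySmooth_of_hom hf (Groth.Agent.Omega.Chart.fromSpec_comp f hU hV e).symm
  have : Algebra.FiniteType Γ(Y, U) Γ(X, V) :=
    HasRingHomProperty.appLE @LocallyOfFiniteType f inferInstance ⟨U, hU⟩ ⟨V, hV⟩ e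
  exact ⟨inferInstance, inferInstance⟩

end Groth.Agent.S5018
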