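import Groth.Statements.S9791
import Groth.Agent.NormUniv.Curv2
import Groth.Agent.Curv2Norm.Basic
import Groth.Agent.EGA4Lib.SmoothRegular
import Groth.Agent.EGA4Lib.NorLocus
import Mathlib.AlgebraicGeometry.Normalization
-- import your own Groth.Agent.* helpers here

set_option autoImplicit false
universe u
open CategoryTheory CategoryTheory.Limits AlgebraicGeometry
open FlatMor

namespace Groth.Agent.S9791

/-- A scheme smooth over a field has normal local rings. -/
theorem isNormalScheme_of_smooth_field {P : Scheme.{u}} {K : Type u} [Field K]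
    (q : P ⟶ Spec (CommRingCat.of K)) [Smooth q] : Pi1.IsNormalScheme P := by
  intro z
  obtain ⟨W, hW, hzW, -⟩ := exists_isAffineOpen_mem_and_subset (x := z) (U := ⊤) trivial
  let R := Γ(Spec (CommRingCat.of K), ⊤)
  have hR : IsField R := MulEquiv.isField (Field.toIsField K)
    (Scheme.ΓSpecIso (CommRingCat.of K)).commRingCatIsoToRingEquiv.toMulEquiv
  letI := hR.toField
  algebraize [(q.appLE ⊤ W le_top).hom]
  have : Algebra.Smooth R Γ(P, W) :=
    RingHom.smooth_algebraMap.mp (q.smooth_appLE (isAffineOpen_top _) hW le_top)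
  have : IsNoetherianRing Γ(P, W) := Algebra.FiniteType.isNoetherianRing R Γ(P, W)
  let p := hW.primeIdealOf ⟨z, hzW⟩
  have hreg : PrimeSpectrum.comap (algebraMap R Γ(P, W)) p ∈ EGA4.regLocus R := by
    show IsRegularLocalRing (Localization.AtPrime _)
    have hne : (0 : R) ∉ (PrimeSpectrum.comap (algebraMap R Γ(P, W)) p).asIdeal.primeCompl :=
      fun h => h (Ideal.zero_mem _)
    have hf := MulEquiv.isField (Field.toIsField R) (RingEquiv.ofBijective _
      (IsField.localization_map_bijective (Rₘ := Localization.AtPrime
        (PrimeSpectrum.comap (algebraMap R Γ(P, W)) p).asIdeal) hne (Field.toIsField R))).symm.toMulEquiv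
    letI := hf.toField
    exact inferInstance
  obtain ⟨hd, hi⟩ := Groth.Agent.EGA4Lib.mem_norLocus_of_mem_regLocus
    (Groth.Agent.EGA4Lib.mem_regLocus_of_smooth p hreg)
  letI := P.presheaf.algebra_section_stalk ⟨z, hzW⟩
  have := hW.isLocalization_stalk ⟨z, hzW⟩
  let e : Localization.AtPrime p.asIdeal ≃ₐ[Γ(P, W)] P.presheaf.stalk z :=
    IsLocalization.algEquiv p.asIdeal.primeCompl _ _
  exact ⟨MulEquiv.isDomain (Localization.AtPrime p.asIdeal) e.symm.toRingEquiv.toMulEquiv,
    IsIntegrallyClosed.of_equiv e.toRingEquiv⟩

theorem isNormalScheme_spec_field (K : Type u) [Field K] :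
    Pi1.IsNormalScheme (Spec (CommRingCat.of K)) :=
  isNormalScheme_of_smooth_field (K := K) (𝟙 _)


set_option backward.isDefEq.respectTransparency.types false in
/-- In the case of integral schemes: let f : X ⟶ Y be a smooth morphism with X and Y integral, and let
X^ν ⟶ X and Y^ν ⟶ Y be the normalizations (in the function fields). Then X^ν is isomorphic over X to
the fibre product X ×_Y Y^ν, and such an isomorphism is unique. (The published statement requires
only that each quasi-compact open subset of Y meet finitely many irreducible components of Y, and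
also derives this for X; this row assumes X and Y integral, the case in which the normalization used
here is defined. The quasi-compactness and quasi-separatedness binders on Spec K(X) → X and Spec
K(Y) → Y always hold and are needed only to form the normalization.) -/
theorem result {X Y : Scheme.{u}} (f : X ⟶ Y) [Smooth f] [IsIntegral X] [IsIntegral Y]
    [QuasiCompact (X.fromSpecStalk (genericPoint X))] [QuasiSeparated (X.fromSpecStalk (genericPoint X))]
    [QuasiCompact (Y.fromSpecStalk (genericPoint Y))] [QuasiSeparated (Y.fromSpecStalk (genericPoint Y))] :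
    ∃! e : Curv2.normalization X ≅ pullback f (Curv2.normalizationι Y),
      e.hom ≫ pullback.fst f (Curv2.normalizationι Y) = Curv2.normalizationι X := by
  let ηY := genericPoint Y
  let ηX := genericPoint X
  let fY := Y.fromSpecStalk ηY
  let fX := X.fromSpecStalk ηX
  let νX : fX.normalization ⟶ X := fX.fromNormalization
  let νY : fY.normalization ⟶ Y := fY.fromNormalization
  haveI : IsIntegralHom νX := inferInstanceAs (IsIntegralHom fX.fromNormalization)
  haveI : IsIntegralHom νY := inferInstanceAs (IsIntegralHom fY.fromNormalization)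
  have hfη : f ηX = ηY := by
    have hop : IsOpen (Set.range f) := f.isOpenMap.isOpen_range
    obtain ⟨x, hx⟩ := (genericPoint_spec Y).mem_open_set_iff hop |>.mpr
      ⟨f ηX, trivial, Set.mem_range_self _⟩
    have h1 : f ηX ⤳ ηY := by
      have h2 : f ηX ⤳ f x := (genericPoint_specializes x).map f.continuous
      rw [hx] at h2
      exact h2
    exact (h1.antisymm (genericPoint_specializes _)).eq
  let P := pullback fY f
  let a : P ⟶ X := pullback.snd fY f
  letI : Field (Y.presheaf.stalk ηY) := inferInstanceAs (Field Y.functionField)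
  haveI hq : Smooth (pullback.fst fY f) := MorphismProperty.pullback_fst fY f inferInstance
  have hP : Pi1.IsNormalScheme P :=
    isNormalScheme_of_smooth_field (K := Y.presheaf.stalk ηY) (pullback.fst fY f)
  haveI : IsPreimmersion a := MorphismProperty.pullback_snd fY f inferInstance
  haveI hRa : QuasiCompact a := MorphismProperty.pullback_snd fY f inferInstance
  haveI : QuasiSeparated a := MorphismProperty.pullback_snd fY f inferInstance
  letI : Field (X.presheaf.stalk ηX) := inferInstanceAs (Field X.functionField)
  have hrX : ∀ t, fX t = ηX := fun t => by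
    have h1 : fX t ⤳ ηX := X.range_fromSpecStalk.le ⟨t, rfl⟩
    exact (h1.antisymm (genericPoint_specializes _)).eq
  let φ : Y.presheaf.stalk ηY ⟶ X.presheaf.stalk ηX :=
    Y.presheaf.stalkSpecializes (specializes_of_eq hfη) ≫ f.stalkMap ηX
  have hh : Spec.map φ ≫ fY = fX ≫ f := by
    show Spec.map φ ≫ Y.fromSpecStalk ηY = X.fromSpecStalk ηX ≫ f
    rw [Spec.map_comp, Category.assoc, Scheme.SpecMap_stalkSpecializes_fromSpecStalk,
      Scheme.SpecMap_stalkMap_fromSpecStalk]
  let h : Spec (X.presheaf.stalk ηX) ⟶ P := pullback.lift (Spec.map φ) fX hh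
  have hha : h ≫ a = fX := pullback.lift_snd _ _ _
  let ξ := h (IsLocalRing.closedPoint _)
  have hξ : a ξ = ηX := by
    show (h ≫ a) _ = ηX
    rw [hha]; exact hrX _
  have hξgen : ∀ z, ξ ⤳ z := fun z => by
    refine a.isEmbedding.isInducing.specializes_iff.mp ?_
    rw [hξ]
    exact genericPoint_specializes _
  haveI : IrreducibleSpace P := by
    haveI : Nonempty P := ⟨ξ⟩
    haveI : PreirreducibleSpace P := by
      have h3 : IsPreirreducible (closure {ξ}) := isPreirreducible_singleton.closure
      rw [Set.eq_univ_of_forall fun z => (hξgen z).mem_closure] at h3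
      exact ⟨h3⟩
    exact ⟨inferInstance⟩
  haveI : ∀ z : P, IsReduced (P.presheaf.stalk z) := fun z => by
    haveI := (hP z).1
    infer_instance
  haveI : IsReduced P := isReduced_of_isReduced_stalk P
  haveI : IsIntegral P := isIntegral_of_irreducibleSpace_of_isReduced P
  haveI : IsDominant h := ⟨fun z => (hξgen z).mem_closed isClosed_closure (subset_closure ⟨_, rfl⟩)⟩
  have hgoodP : NormUniv.Good a :=
    NormUniv.good_of_generic X a hP fun z => ⟨ξ, hξgen z, hξ⟩
  obtain ⟨b₀, hb₀, -⟩ := NormUniv.existsUnique_fac νX (NormUniv.normalizationι_frac X) hgoodP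
  have hgoodT : NormUniv.Good fX := NormUniv.good_of_generic X fX
    (isNormalScheme_spec_field (X.presheaf.stalk ηX)) fun t => ⟨t, specializes_rfl, hrX t⟩
  let bN : a.normalization ⟶ fX.normalization := a.normalizationDesc b₀ νX hb₀.symm
  let j : Spec (X.presheaf.stalk ηX) ⟶ a.normalization := h ≫ a.toNormalization
  have hj : fX = j ≫ a.fromNormalization := by
    rw [Category.assoc, Scheme.Hom.toNormalization_fromNormalization, hha]
  let aX : fX.normalization ⟶ a.normalization :=
    fX.normalizationDesc j a.fromNormalization hj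
  have haX : aX ≫ a.fromNormalization = νX := fX.normalizationDesc_comp _ _ _
  have hbN : bN ≫ νX = a.fromNormalization := a.normalizationDesc_comp _ _ _
  have haX' : fX.toNormalization ≫ aX = j := fX.toNormalization_normalizationDesc _ _ _
  have hbN' : a.toNormalization ≫ bN = b₀ := a.toNormalization_normalizationDesc _ _ _
  have hhb : h ≫ b₀ = fX.toNormalization := by
    refine NormUniv.hom_ext νX (NormUniv.normalizationι_frac X) hgoodT ?_
      fX.toNormalization_fromNormalization
    rw [Category.assoc, hb₀, hha]
  have h1 : aX ≫ bN = 𝟙 _ := by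
    refine Scheme.Hom.normalization.hom_ext fX (aX ≫ bN) (𝟙 _) νX ?_ ?_ (Category.id_comp _)
    · rw [reassoc_of% haX']
      show (h ≫ a.toNormalization) ≫ bN = fX.toNormalization ≫ 𝟙 _
      rw [Category.assoc, hbN', hhb]
      exact (Category.comp_id _).symm
    · rw [Category.assoc, hbN, haX]
  have h2 : bN ≫ aX = 𝟙 _ := by
    refine Scheme.Hom.normalization.hom_ext a (bN ≫ aX) (𝟙 _) a.fromNormalization ?_ ?_
      (Category.id_comp _)
    · rw [reassoc_of% hbN', Category.comp_id]
      refine ext_of_isDominant_of_isSeparated a.fromNormalization ?_ h ?_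
      · rw [Category.assoc, haX, hb₀, Scheme.Hom.toNormalization_fromNormalization]
      · rw [reassoc_of% hhb, haX']
    · rw [Category.assoc, haX, hbN]
  have hiso : IsIso (fY.normalizationPullback f) := by infer_instance
  let ρ : a.normalization ≅ pullback νY f := asIso (fY.normalizationPullback f)
  have hρ : ρ.hom ≫ pullback.snd νY f = a.fromNormalization := fY.normalizationPullback_snd f
  let e : Curv2.normalization X ≅ pullback f νY :=
    (⟨aX, bN, h1, h2⟩ : fX.normalization ≅ a.normalization) ≪≫ ρ ≪≫ pullbackSymmetry νY f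
  have he : e.hom ≫ pullback.fst f νY = νX := by
    simp only [e, Iso.trans_hom, Category.assoc, pullbackSymmetry_hom_comp_fst, hρ]
    exact haX
  refine ⟨e, he, fun e' he' => Iso.ext (pullback.hom_ext (he'.trans he.symm) ?_)⟩
  haveI := Groth.Agent.Curv2Norm.isIntegral X
  let z₀ := fX.toNormalization (IsLocalRing.closedPoint _)
  have hz₀ : ∀ z, z₀ ⤳ z := fun z => by
    rw [specializes_iff_mem_closure]
    refine closure_mono ?_ (fX.toNormalization.denseRange z)
    rintro _ ⟨t, rfl⟩
    haveI : Subsingleton (Spec (X.presheaf.stalk ηX)) :=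
      inferInstanceAs (Subsingleton (PrimeSpectrum (X.presheaf.stalk ηX)))
    rw [Subsingleton.elim t (IsLocalRing.closedPoint _)]
    rfl
  have hgood : NormUniv.Good (νX ≫ f) := by
    refine NormUniv.good_of_generic Y (νX ≫ f)
      (Groth.Agent.Curv2Norm.isDomain_isIntegrallyClosed_stalk X) fun z => ⟨z₀, hz₀ z, ?_⟩
    show f ((fX.toNormalization ≫ νX) (IsLocalRing.closedPoint _)) = ηY
    rw [show fX.toNormalization ≫ νX = fX from fX.toNormalization_fromNormalization, hrX, hfη]
  have hc : ∀ (e₁ : Curv2.normalization X ≅ pullback f νY), e₁.hom ≫ pullback.fst f νY = νX →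
      (e₁.hom ≫ pullback.snd f νY) ≫ νY = νX ≫ f := fun e₁ he₁ => by
    rw [Category.assoc, ← pullback.condition, reassoc_of% he₁]
    rfl
  exact NormUniv.hom_ext νY (NormUniv.normalizationι_frac Y) hgood (hc e' he') (hc e he)

end Groth.Agent.S9791
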