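import Groth.Statements.S14503
import Groth.Agent.LenLib.Lattice
import Mathlib.RingTheory.Algebraic.Integral
-- import your own Groth.Agent.* helpers here

set_option autoImplicit false
universe u
open IntTh

namespace Groth.Agent.S14503

/-- Let A ⊆ B be a module-finite extension of domains with A Noetherian local of Krull dimension one, K
⊆ L their fraction fields, and r ∈ B nonzero. Then B/rB has finite length as an A-module and
length_A(B/rB) equals the order at the closed point of A of the norm N_{L/K}(r), i.e.
length_A(A/(a)) − length_A(A/(b)) for N_{L/K}(r) = a/b. -/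
theorem result (A : Type u) [CommRing A] [IsDomain A]
    [IsNoetherianRing A] [IsLocalRing A] (hA : ringKrullDim A = 1) (B : Type u) [CommRing B]
    [IsDomain B] [Algebra A B] (hinj : Function.Injective (algebraMap A B)) [Module.Finite A B]
    (K L : Type u) [Field K] [Field L] [Algebra A K] [IsFractionRing A K] [Algebra B L]
    [IsFractionRing B L] [Algebra K L] [Algebra A L] [IsScalarTower A B L] [IsScalarTower A K L]
    [FiniteDimensional K L] (r : B) (hr : r ≠ 0) :
    Module.length A (B ⧸ Ideal.span {r}) < ⊤ ∧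
      ((Module.length A (B ⧸ Ideal.span {r})).toNat : ℤ) =
        CycAlg.ordFrac A K (Algebra.norm K (algebraMap B L r)) := by
  haveI : Ring.KrullDimLE 1 A := Ring.krullDimLE_iff.2 hA.le
  haveI : IsScalarTower A K L := inferInstance
  let g : B →ₗ[A] L := (IsScalarTower.toAlgHom A B L).toLinearMap
  have hg : Function.Injective g := IsFractionRing.injective B L
  let M : Submodule A L := LinearMap.range g
  have hM : M.FG := Module.Finite.iff_fg.1 (Module.Finite.range g)
  have hAlg : ∀ b : B, IsAlgebraic A b := fun b => by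
    haveI : FaithfulSMul A B := (faithfulSMul_iff_algebraMap_injective A B).2 hinj
    exact (Algebra.IsIntegral.isIntegral b).isAlgebraic
  have hMs : Submodule.span K (M : Set L) = ⊤ := by
    rw [eq_top_iff]
    intro x _
    obtain ⟨b, c, hc, rfl⟩ := IsFractionRing.div_surjective (A := B) x
    have hc0 : c ≠ 0 := nonZeroDivisors.ne_zero hc
    obtain ⟨s, hs, t, ht⟩ := (hAlg c).exists_nonzero_dvd (mem_nonZeroDivisors_iff_ne_zero.2 hc0)
    have hsK : algebraMap A K s ≠ 0 := IsFractionRing.to_map_ne_zero_of_mem_nonZeroDivisors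
      (mem_nonZeroDivisors_iff_ne_zero.2 hs)
    have hsL : algebraMap A L s = algebraMap B L c * algebraMap B L t := by
      rw [IsScalarTower.algebraMap_apply A B L, ht, map_mul]
    have hcL : algebraMap B L c ≠ 0 := IsFractionRing.to_map_ne_zero_of_mem_nonZeroDivisors hc
    have e : algebraMap B L b / algebraMap B L c =
        (algebraMap A K s)⁻¹ • algebraMap B L (b * t) := by
      rw [eq_inv_smul_iff₀ hsK, algebraMap_smul, Algebra.smul_def, hsL, map_mul]
      field_simp
    rw [e]
    exact Submodule.smul_mem _ _ (Submodule.subset_span ⟨b * t, rfl⟩)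
  have hrL : algebraMap B L r ≠ 0 :=
    IsFractionRing.to_map_ne_zero_of_mem_nonZeroDivisors (mem_nonZeroDivisors_iff_ne_zero.2 hr)
  let φ : L ≃ₗ[K] L := LinearEquiv.ofBijective (LinearMap.mulLeft K (algebraMap B L r))
    ⟨mul_right_injective₀ hrL, fun y => ⟨(algebraMap B L r)⁻¹ * y, mul_inv_cancel_left₀ hrL y⟩⟩
  have hle : M.map (φ.toLinearMap.restrictScalars A) ≤ M := by
    rintro _ ⟨_, ⟨b, rfl⟩, rfl⟩
    exact ⟨r * b, map_mul (algebraMap B L) r b⟩
  have hd := Groth.Agent.LenLib.latDist_map K hM hMs φ
  rw [Groth.Agent.LenLib.latDist_of_le hle] at hd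
  let e : B ≃ₗ[A] M := LinearEquiv.ofInjective g hg
  have he : ((Ideal.span {r}).restrictScalars A).map e.toLinearMap =
      (M.map (φ.toLinearMap.restrictScalars A)).submoduleOf M := by
    ext x
    constructor
    · rintro ⟨b, hb, rfl⟩
      obtain ⟨c, rfl⟩ := Ideal.mem_span_singleton'.1 hb
      refine ⟨g c, ⟨c, rfl⟩, ?_⟩
      show algebraMap B L r * algebraMap B L c = algebraMap B L (c * r)
      rw [map_mul, mul_comm]
    · rintro ⟨_, ⟨c, rfl⟩, hx⟩
      refine ⟨r * c, Ideal.mem_span_singleton'.2 ⟨c, mul_comm _ _⟩, Subtype.ext ?_⟩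
      refine Eq.trans ?_ hx
      show algebraMap B L (r * c) = algebraMap B L r * algebraMap B L c
      rw [map_mul]
  have hlen : Module.length A (B ⧸ Ideal.span {r}) =
      Module.length A (↥M ⧸ (M.map (φ.toLinearMap.restrictScalars A)).submoduleOf M) := by
    rw [← (Submodule.Quotient.restrictScalarsEquiv A (Ideal.span {r})).length_eq]
    exact (Submodule.Quotient.equiv _ _ e he).length_eq
  have hφs : Submodule.span K ((M.map (φ.toLinearMap.restrictScalars A) : Submodule A L) : Set L) = ⊤ := by
    rw [Submodule.map_coe, LinearMap.coe_restrictScalars, ← Submodule.map_span, hMs,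
      Submodule.map_top, LinearEquiv.range]
  refine ⟨by rw [hlen]; exact (Groth.Agent.LenLib.length_quot_ne_top hM hφs).lt_top, ?_⟩
  rw [hlen, show Algebra.norm K (algebraMap B L r) = LinearMap.det φ.toLinearMap from rfl, ← hd]
  rfl

end Groth.Agent.S14503
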