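import Groth.Statements.S0395
import Groth.Agent.LocFlat.Basic

set_option autoImplicit false
universe u
open FlatMor

namespace Groth.Agent.S0395

open TensorProduct nonZeroDivisors in
/-- For a flat local homomorphism R → S of Noetherian local rings and an element f of S that is regular
on the fibre ring S/mS, the quotient of S by f is again R-flat and f is regular on S. -/
theorem result {R S : Type u} [CommRing R] [CommRing S] [IsLocalRing R] [IsLocalRing S] [IsNoetherianRing R] [IsNoetherianRing S] [Algebra R S] [IsLocalHom (algebraMap R S)] [Module.Flat R S]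
    (f : S) (hf : Ideal.Quotient.mk ((IsLocalRing.maximalIdeal R).map (algebraMap R S)) f ∈ nonZeroDivisors (S ⧸ ((IsLocalRing.maximalIdeal R).map (algebraMap R S)))) :
    Module.Flat R (S ⧸ Ideal.span {f}) ∧ f ∈ nonZeroDivisors S := by
  let u : S →ₗ[R] S := (LinearMap.mulLeft R f)
  let J := (IsLocalRing.maximalIdeal R).map (algebraMap R S)
  let e : (IsLocalRing.ResidueField R ⊗[R] S) ≃ₗ[R] S ⧸ (IsLocalRing.maximalIdeal R • ⊤ : Submodule R S) :=
    TensorProduct.quotTensorEquivQuotSMul S (IsLocalRing.maximalIdeal R)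
  have he : ∀ s : S, e ((1 : IsLocalRing.ResidueField R) ⊗ₜ s) = Submodule.Quotient.mk s := fun s => by
    exact TensorProduct.quotTensorEquivQuotSMul_mk_tmul _ 1 s |>.trans (by simp)
  have hmem : ∀ s : S, (1 : IsLocalRing.ResidueField R) ⊗ₜ[R] s = 0 ↔ s ∈ J := fun s => by
    rw [← e.map_eq_zero_iff, he, Submodule.Quotient.mk_eq_zero, Ideal.smul_top_eq_map,
      Submodule.restrictScalars_mem]
  have h : Function.Injective (LinearMap.lTensor (IsLocalRing.ResidueField R) u) := by
    rw [injective_iff_map_eq_zero]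
    intro x hx
    obtain ⟨s, rfl⟩ := TensorProduct.mk_surjective R S _ Ideal.Quotient.mk_surjective x
    replace hx : (1 : IsLocalRing.ResidueField R) ⊗ₜ[R] (u s) = 0 := hx
    show (1 : IsLocalRing.ResidueField R) ⊗ₜ[R] s = 0
    rw [hmem] at hx ⊢
    have h2 : Ideal.Quotient.mk J f * Ideal.Quotient.mk J s = 0 := by
      rw [← map_mul, Ideal.Quotient.eq_zero_iff_mem]; exact hx
    exact Ideal.Quotient.eq_zero_iff_mem.mp ((mem_nonZeroDivisors_iff.mp hf).1 _ h2)
  obtain ⟨h1, h2⟩ := Groth.Agent.LocFlat.injective_and_flat_coker (S := S) u h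
  refine ⟨?_, ?_⟩
  · have he2 : LinearMap.range u = (Ideal.span {f}).restrictScalars R := by
      ext x
      simp [u, Ideal.mem_span_singleton', mul_comm f]
    exact Module.Flat.of_linearEquiv ((Submodule.quotEquivOfEq _ _ he2).trans
      (Submodule.Quotient.restrictScalarsEquiv R (Ideal.span {f}))).symm
  · rw [mem_nonZeroDivisors_iff]
    exact ⟨fun x hx => h1 (by simpa [u] using hx), fun x hx => h1 (by simpa [u, mul_comm f] using hx)⟩

end Groth.Agent.S0395
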