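import Groth.Statements.S1857
import Groth.Agent.CycLib.RelDim
import Groth.Agent.CycLib.PullFun
import Groth.Agent.CycLib.FlatLength
import Mathlib.AlgebraicGeometry.Morphisms.UniversallyOpen
-- import your own Groth.Agent.* helpers here

set_option autoImplicit false
universe u
open CategoryTheory AlgebraicGeometry
open Cyc

namespace Groth.Agent.S1857

/-- For flat morphisms f : X → Y and g : Y → Z locally of finite type of relative dimensions r and s,
the composite has relative dimension r + s and (g ∘ f)^* = f^* ∘ g^* on k-cycles (equality of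
coefficient functions). Here a pair (X, δ) with Cyc.IsSetup plays the role of a scheme locally of
finite type over a fixed base with a dimension function (X locally Noetherian with universally
catenary local rings, δ a dimension function), and Cyc.DeltaCompat records that the dimension
function upstairs is the induced one. -/
theorem result (X Y Z : Scheme.{u}) (δX : X → ℤ) (δY : Y → ℤ) (δZ : Z → ℤ) (hX : Cyc.IsSetup X δX) (hY : Cyc.IsSetup Y δY) (hZ : Cyc.IsSetup Z δZ) (f : X ⟶ Y) (g : Y ⟶ Z) [Flat f] [LocallyOfFiniteType f] [Flat g] [LocallyOfFiniteType g] (r s : ℕ) (hr : Cyc.HasRelDim f r) (hs : Cyc.HasRelDim g s) (hf : Cyc.DeltaCompat f δX δY) (hg : Cyc.DeltaCompat g δY δZ) (k : ℤ) : Cyc.HasRelDim (f ≫ g) (r + s) ∧ ∀ α : AlgebraicCycle Z ℤ, α ∈ Cyc.Zk Z δZ k → Cyc.pullFun f δX δY r (Cyc.pullFun g δY δZ s ⇑α) = Cyc.pullFun (f ≫ g) δX δZ ((r : ℤ) + s) ⇑α := by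
  haveI := hX.1
  haveI := hY.1
  have hsurj : ∀ x : X, (∀ x', (f ≫ g) x' = (f ≫ g) x → x' ⤳ x → x' = x) →
      (∀ x', f x' = f x → x' ⤳ x → x' = x) ∧ ∀ y', g y' = g (f x) → y' ⤳ f x → y' = f x := fun x hx =>
    ⟨fun x' h1 h2 => hx x' (by simp only [Scheme.Hom.comp_apply, h1]) h2, fun y' h1 h2 => by
      obtain ⟨x', h3, h4⟩ := Flat.generalizingMap f h2
      rw [← h4, hx x' (by simp only [Scheme.Hom.comp_apply, h4, h1]) h3]⟩
  refine ⟨CycLib.hasRelDim_of_trdeg (f ≫ g) fun x hx => ?_, fun α _ => funext fun x => ?_⟩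
  · obtain ⟨h1, h2⟩ := hsurj x hx
    have hfx := CycLib.trdeg_eq_of_hasRelDim f hr x h1
    have hgx := CycLib.trdeg_eq_of_hasRelDim g hs (f x) h2
    letI a1 : Algebra (Z.residueField (g (f x))) (Y.residueField (f x)) := (g.residueFieldMap (f x)).hom.toAlgebra
    letI a2 : Algebra (Y.residueField (f x)) (X.residueField x) := (f.residueFieldMap x).hom.toAlgebra
    letI a3 : Algebra (Z.residueField (g (f x))) (X.residueField x) := ((f ≫ g).residueFieldMap x).hom.toAlgebra
    haveI : IsScalarTower (Z.residueField (g (f x))) (Y.residueField (f x)) (X.residueField x) :=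
      IsScalarTower.of_algebraMap_eq' (congrArg CommRingCat.Hom.hom (Scheme.residueFieldMap_comp f g x))
    haveI : FaithfulSMul (Z.residueField (g (f x))) (Y.residueField (f x)) :=
      (faithfulSMul_iff_algebraMap_injective _ _).2 (RingHom.injective _)
    haveI : FaithfulSMul (Y.residueField (f x)) (X.residueField x) :=
      (faithfulSMul_iff_algebraMap_injective _ _).2 (RingHom.injective _)
    show Algebra.trdeg (Z.residueField (g (f x))) (X.residueField x) = _
    rw [← trdeg_add_eq (Z.residueField (g (f x))) (Y.residueField (f x)) (A := X.residueField x), hgx, hfx,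
      add_comm r s, Nat.cast_add]
  · have key : ∀ {X' Y' : Scheme.{u}} (h : X' ⟶ Y') [LocallyOfFiniteType h] [IsLocallyNoetherian X'] (dX : X' → ℤ)
        (dY : Y' → ℤ) (m : ℕ), Cyc.IsDimFun X' dX → Cyc.HasRelDim h m → Cyc.DeltaCompat h dX dY →
        ∀ w, dX w ≤ dY (h w) + m := fun h _ _ dX dY m hd hm hc w => by
      obtain ⟨w0, hw, he, hgen⟩ := CycLib.exists_generic_fibre h w
      obtain ⟨n, hn, hn'⟩ := hc w0
      rw [CycLib.trdeg_eq_of_hasRelDim h hm w0 hgen] at hn
      have h1 := CycLib.le_of_specializes hd hw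
      rw [hn', he, show n = m from (Nat.cast_inj.1 hn).symm] at h1
      exact h1
    have h1 := key f δX δY r hX.2.2 hr hf x
    have h2 := key g δY δZ s hY.2.2 hs hg (f x)
    show (if δX x = δY (f x) + r then (if δY (f x) = δZ (g (f x)) + s then _ else 0) * _ else 0) =
      (if δX x = δZ (g (f x)) + ((r : ℤ) + s) then α (g (f x)) * _ else 0)
    by_cases hc : δX x = δZ (g (f x)) + ((r : ℤ) + s)
    · rw [if_pos hc, if_pos (show δX x = δY (f x) + r by omega),
        if_pos (show δY (f x) = δZ (g (f x)) + s by omega)]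
      rw [mul_assoc]
      congr 1
      letI : Algebra (Y.presheaf.stalk (f x)) (X.presheaf.stalk x) := (f.stalkMap x).hom.toAlgebra
      haveI : IsLocalHom (algebraMap (Y.presheaf.stalk (f x)) (X.presheaf.stalk x)) :=
        inferInstanceAs (IsLocalHom (f.stalkMap x).hom)
      haveI : Module.Flat (Y.presheaf.stalk (f x)) (X.presheaf.stalk x) := Flat.stalkMap f x
      rw [← Nat.cast_mul, ← ENat.toNat_mul,
        ← RingHom.algebraMap_toAlgebra (f.stalkMap x).hom, ← CycLib.length_quotient_map, Ideal.map_map]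
      rw [RingHom.algebraMap_toAlgebra, ← CommRingCat.hom_comp, ← Scheme.Hom.stalkMap_comp]
      rfl
    · rw [if_neg hc]
      by_cases ha : δX x = δY (f x) + r
      · rw [if_pos ha, if_neg (show ¬ δY (f x) = δZ (g (f x)) + s by omega), zero_mul]
      · rw [if_neg ha]

end Groth.Agent.S1857
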