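import Groth.Statements.S10964
import Groth.Agent.LineCoc.Basic

set_option autoImplicit false
universe u
open CategoryTheory AlgebraicGeometry TopologicalSpace Opposite
open PicF

namespace Groth.Agent.S10964

open QCoh Props.GenLocus

noncomputable section

variable {X : Scheme.{u}} {L : X.Modules} {ι : Type u} {U : ι → X.Opens} {s : ∀ i, Γ(L, U i)}
  {η : ∀ i j, Γ(X, U i ⊓ U j)}

set_option backward.isDefEq.respectTransparency false

lemma rel_res (hη : ∀ i j : ι, res L (inf_le_left : U i ⊓ U j ≤ U i) (s i) =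
      η i j • res L (inf_le_right : U i ⊓ U j ≤ U j) (s j))
    (i j : ι) {T : X.Opens} (h : T ≤ U i ⊓ U j) :
    res L (h.trans inf_le_left) (s i) = rres h (η i j) • res L (h.trans inf_le_right) (s j) := by
  have h1 := congrArg (res L h) (hη i j)
  rw [res_res, Scheme.Modules.map_smul, res_res] at h1
  exact h1

/-- The cocycle of the transition functions. -/
def cocOf (hU : iSup U = ⊤) (hs : ∀ i, IsGen L (U i) (s i))
    (hη : ∀ i j : ι, res L (inf_le_left : U i ⊓ U j ≤ U i) (s i) =
      η i j • res L (inf_le_right : U i ⊓ U j ≤ U j) (s j)) : LineCoc.Cocycle X where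
  ι := ι
  W := U
  a i j := rres (le_inf inf_le_right inf_le_left : U i ⊓ U j ≤ U j ⊓ U i) (η j i)
  cover := hU.ge
  self i := by
    refine (hs i).injective (inf_le_left : U i ⊓ U i ≤ U i) ?_
    rw [one_smul]
    exact (rel_res hη i i (T := U i ⊓ U i) (le_inf inf_le_right inf_le_left)).symm
  coc i j k V h₁ h₂ h₃ := by
    refine (hs i).injective (h₁.trans inf_le_left) ?_
    rw [rres_rres, rres_rres, rres_rres, mul_comm, mul_smul,
      ← rel_res hη j i (le_inf (h₁.trans inf_le_right) (h₁.trans inf_le_left)),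
      ← rel_res hη k j (le_inf (h₂.trans inf_le_right) (h₂.trans inf_le_left))]
    exact rel_res hη k i (le_inf (h₃.trans inf_le_right) (h₃.trans inf_le_left))

section coord

variable (hs : ∀ i, IsGen L (U i) (s i))

/-- The coordinates of a section. -/
def coord {V : X.Opens} (σ : Γ(L, V)) (k : ι) : Γ(X, V ⊓ U k) :=
  ((hs k).exists_eq (inf_le_right : V ⊓ U k ≤ U k) (res L inf_le_left σ)).choose

lemma coord_spec {V : X.Opens} (σ : Γ(L, V)) (k : ι) :
    res L (inf_le_left : V ⊓ U k ≤ V) σ = coord hs σ k • res L inf_le_right (s k) :=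
  ((hs k).exists_eq (inf_le_right : V ⊓ U k ≤ U k) (res L inf_le_left σ)).choose_spec.1

lemma coord_eq {V : X.Opens} (σ : Γ(L, V)) (k : ι) {r : Γ(X, V ⊓ U k)}
    (h : res L (inf_le_left : V ⊓ U k ≤ V) σ = r • res L inf_le_right (s k)) : coord hs σ k = r :=
  (((hs k).exists_eq (inf_le_right : V ⊓ U k ≤ U k) (res L inf_le_left σ)).choose_spec.2 r h).symm

lemma coord_res {V V' : X.Opens} (h : V' ≤ V) (σ : Γ(L, V)) (k : ι) :
    coord hs (res L h σ) k = rres (inf_le_inf_right (U k) h) (coord hs σ k) := by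
  refine coord_eq hs _ k ?_
  have h1 := congrArg (res L (inf_le_inf_right (U k) h)) (coord_spec hs σ k)
  rw [res_res, Scheme.Modules.map_smul, res_res] at h1
  rw [res_res]
  exact h1

lemma coord_add {V : X.Opens} (σ τ : Γ(L, V)) (k : ι) :
    coord hs (σ + τ) k = coord hs σ k + coord hs τ k := by
  refine coord_eq hs _ k ?_
  rw [map_add, add_smul, coord_spec hs σ k, coord_spec hs τ k]

lemma coord_smul {V : X.Opens} (r : Γ(X, V)) (σ : Γ(L, V)) (k : ι) :
    coord hs (r • σ) k = rres (inf_le_left : V ⊓ U k ≤ V) r * coord hs σ k := by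
  refine coord_eq hs _ k ?_
  rw [Scheme.Modules.map_smul, mul_smul, coord_spec hs σ k]

end coord

variable (hU : iSup U = ⊤) (hs : ∀ i, IsGen L (U i) (s i))
    (hη : ∀ i j : ι, res L (inf_le_left : U i ⊓ U j ≤ U i) (s i) =
      η i j • res L (inf_le_right : U i ⊓ U j ≤ U j) (s j))

lemma coord_mem {V : X.Opens} (σ : Γ(L, V)) :
    (fun k => coord hs σ k) ∈ LineCoc.fam (cocOf hU hs hη) V := by
  intro k l
  refine (hs k).injective (inf_le_right.trans inf_le_left : V ⊓ (U k ⊓ U l) ≤ U k) ?_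
  have h1 := congrArg (res L (inf_le_inf_left V inf_le_left : V ⊓ (U k ⊓ U l) ≤ V ⊓ U k)) (coord_spec hs σ k)
  have h2 := congrArg (res L (inf_le_inf_left V inf_le_right : V ⊓ (U k ⊓ U l) ≤ V ⊓ U l)) (coord_spec hs σ l)
  rw [res_res, Scheme.Modules.map_smul, res_res] at h1 h2
  show _ = (rres _ (rres _ (η l k)) * _) • _
  rw [rres_rres, mul_comm, mul_smul,
    ← rel_res hη l k (le_inf (inf_le_right.trans inf_le_right) (inf_le_right.trans inf_le_left))]
  exact h1.symm.trans h2

/-- The comparison map. -/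
def toFam (V : X.Opens) : Γ(L, V) →+ LineCoc.fam (cocOf hU hs hη) V :=
  AddMonoidHom.mk' (fun σ => ⟨fun k => coord hs σ k, coord_mem hU hs hη σ⟩)
    fun σ τ => Subtype.ext (funext fun k => coord_add hs σ τ k)

lemma toFam_injective (V : X.Opens) : Function.Injective (toFam hU hs hη V) := fun σ τ h => by
  refine TopCat.Sheaf.eq_of_locally_eq' (⟨L.presheaf, L.isSheaf⟩ : TopCat.Sheaf Ab.{u} X)
    (fun k => V ⊓ U k) V (fun k => homOfLE inf_le_left) (fun x hx => ?_) σ τ fun k => ?_
  · obtain ⟨k, hk⟩ := Opens.mem_iSup.1 (hU.ge (trivial : x ∈ (⊤ : X.Opens)))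
    exact Opens.mem_iSup.2 ⟨k, hx, hk⟩
  · show res L _ σ = res L _ τ
    rw [coord_spec hs σ k, coord_spec hs τ k]
    exact congrArg (fun z : Γ(X, V ⊓ U k) => z • res L (inf_le_right : V ⊓ U k ≤ U k) (s k))
      (congrArg (fun z : LineCoc.fam (cocOf hU hs hη) V => z.1 k) h)

lemma toFam_surjective (V : X.Opens) : Function.Surjective (toFam hU hs hη V) := fun r => by
  have hc : TopCat.Presheaf.IsCompatible L.presheaf (fun k => V ⊓ U k)
      (fun k => (show Γ(X, V ⊓ U k) from r.1 k) • res L (inf_le_right : V ⊓ U k ≤ U k) (s k)) := fun k l => by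
    show res L _ (_ • res L _ _) = res L _ (_ • res L _ _)
    rw [Scheme.Modules.map_smul, Scheme.Modules.map_smul, res_res, res_res]
    have hle : (V ⊓ U k) ⊓ (V ⊓ U l) ≤ V ⊓ (U k ⊓ U l) :=
      le_inf (inf_le_left.trans inf_le_left) (inf_le_inf inf_le_right inf_le_right)
    have h1 : rres hle (rres _ (r.1 k)) = rres hle (rres _ (rres _ (η l k)) * rres _ (r.1 l)) :=
      congrArg (rres hle) (r.2 k l)
    simp only [map_mul, rres_rres] at h1
    rw [rel_res hη l k (le_inf (inf_le_right.trans inf_le_right) (inf_le_left.trans inf_le_right)),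
      ← mul_smul, mul_comm]
    exact congrArg (fun z => z • _) h1
  obtain ⟨σ, hσ, -⟩ := TopCat.Sheaf.existsUnique_gluing' (⟨L.presheaf, L.isSheaf⟩ : TopCat.Sheaf Ab.{u} X)
    (fun k => V ⊓ U k) V (fun k => homOfLE inf_le_left) (fun x hx => by
      obtain ⟨k, hk⟩ := Opens.mem_iSup.1 (hU.ge (trivial : x ∈ (⊤ : X.Opens)))
      exact Opens.mem_iSup.2 ⟨k, hx, hk⟩)
    (fun k => (show Γ(X, V ⊓ U k) from r.1 k) • res L (inf_le_right : V ⊓ U k ≤ U k) (s k)) hc
  exact ⟨σ, Subtype.ext (funext fun k => coord_eq hs σ k (hσ k))⟩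

/-- The comparison morphism. -/
def toMod : L ⟶ LineCoc.mod (cocOf hU hs hη) :=
  ⟨PresheafOfModules.homMk
    { app := fun V => AddCommGrpCat.ofHom (toFam hU hs hη V.unop)
      naturality := fun V W i => by
        refine AddCommGrpCat.hom_ext (AddMonoidHom.ext fun σ => ?_)
        exact Subtype.ext (funext fun k => coord_res hs i.unop.le σ k) }
    (fun V r σ => Subtype.ext (funext fun k => coord_smul hs r σ k))⟩

theorem nonempty_iso_mod : Nonempty (L ≅ LineCoc.mod (cocOf hU hs hη)) := by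
  have : IsIso (toMod hU hs hη) := Scheme.Modules.Hom.isIso_iff_isIso_app.2 fun V =>
    (ConcreteCategory.isIso_iff_bijective _).2 ⟨toFam_injective hU hs hη V, toFam_surjective hU hs hη V⟩
  exact ⟨asIso (toMod hU hs hη)⟩

end

/-- Let X be a scheme with an open cover (U_i)_{i ∈ ι}. Let L and L' be O_X-modules with sections s_i of
L and s'_i of L' over U_i that generate there (for every open V ⊆ U_i, r ↦ r · s_i|_V is a bijection
from functions on V onto sections of L over V, and likewise for s'_i), and let η_ij, η'_ij be the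
functions on U_i ∩ U_j with s_i = η_ij · s_j and s'_i = η'_ij · s'_j there. Then L and L' are
isomorphic as O_X-modules if and only if there is a family of units u_i of the rings of functions on
the U_i with η'_ij · u_i|_{U_i ∩ U_j} = u_j|_{U_i ∩ U_j} · η_ij for all i, j. (So two invertible
modules trivialised by the cover are isomorphic exactly when their transition cocycles define the
same Čech cohomology class.) -/
theorem result (X : Scheme.{u}) {ι : Type u} (U : ι → X.Opens)
    (hU : iSup U = ⊤) (L L' : X.Modules) (s : ∀ i : ι, Γ(L, U i)) (s' : ∀ i : ι, Γ(L', U i))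
    (hs : ∀ (i : ι) (V : X.Opens) (h : V ≤ U i),
        Function.Bijective (fun r : Γ(X, V) => r • L.presheaf.map (homOfLE h).op (s i)))
    (hs' : ∀ (i : ι) (V : X.Opens) (h : V ≤ U i),
        Function.Bijective (fun r : Γ(X, V) => r • L'.presheaf.map (homOfLE h).op (s' i)))
    (η η' : ∀ i j : ι, Γ(X, U i ⊓ U j))
    (hη : ∀ i j : ι, L.presheaf.map (homOfLE (inf_le_left : U i ⊓ U j ≤ U i)).op (s i) =
        η i j • L.presheaf.map (homOfLE (inf_le_right : U i ⊓ U j ≤ U j)).op (s j))
    (hη' : ∀ i j : ι, L'.presheaf.map (homOfLE (inf_le_left : U i ⊓ U j ≤ U i)).op (s' i) =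
        η' i j • L'.presheaf.map (homOfLE (inf_le_right : U i ⊓ U j ≤ U j)).op (s' j)) :
    Nonempty (L ≅ L') ↔ ∃ u : ∀ i : ι, (Γ(X, U i))ˣ, ∀ i j : ι,
      η' i j * X.presheaf.map (homOfLE (inf_le_left : U i ⊓ U j ≤ U i)).op (u i : Γ(X, U i)) =
        X.presheaf.map (homOfLE (inf_le_right : U i ⊓ U j ≤ U j)).op (u j : Γ(X, U j)) * η i j := by
  have gs : ∀ i, Props.GenLocus.IsGen L (U i) (s i) := fun i V h => hs i V h
  have gs' : ∀ i, Props.GenLocus.IsGen L' (U i) (s' i) := fun i V h => hs' i V h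
  constructor
  · rintro ⟨e⟩
    have gt : ∀ i, Props.GenLocus.IsGen L' (U i) (e.hom.app (U i) (s i)) := fun i V h => by
      have he : Function.Bijective (e.hom.app V) := (ConcreteCategory.isIso_iff_bijective _).1 inferInstance
      have e1 : Props.GenLocus.sm (e.hom.app (U i) (s i)) h = e.hom.app V ∘ Props.GenLocus.sm (s i) h :=
        funext fun a => by
          show a • QCoh.res L' h _ = e.hom.app V (a • QCoh.res L h (s i))
          rw [Scheme.Modules.Hom.app_smul]
          exact congrArg (a • ·) (congr($(e.hom.mapPresheaf.naturality (homOfLE h).op) (s i))).symm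
      rw [e1]
      exact he.comp (gs i V h)
    have hu : ∀ i, ∃ u : (Γ(X, U i))ˣ, e.hom.app (U i) (s i) = (u : Γ(X, U i)) • s' i := fun i => by
      obtain ⟨a, ha, -⟩ := (gs' i).exists_eq le_rfl (e.hom.app (U i) (s i))
      obtain ⟨b, hb, -⟩ := (gt i).exists_eq le_rfl (s' i)
      rw [QCoh.res_self] at ha hb
      have hab : a * b = 1 := (gs' i).injective le_rfl (by
        rw [one_smul, QCoh.res_self, mul_comm, mul_smul, ← ha]
        exact hb.symm)
      exact ⟨Units.mkOfMulEqOne a b hab, ha⟩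
    choose u hu using hu
    refine ⟨u, fun i j => (gs' j).injective (inf_le_right : U i ⊓ U j ≤ U j) ?_⟩
    have h1 := congrArg (e.hom.app (U i ⊓ U j)) (hη i j)
    rw [Scheme.Modules.Hom.app_smul] at h1
    have n1 : ∀ k (h : U i ⊓ U j ≤ U k), e.hom.app (U i ⊓ U j) (QCoh.res L h (s k)) =
        QCoh.rres h (u k : Γ(X, U k)) • QCoh.res L' h (s' k) := fun k h => by
      rw [← Scheme.Modules.map_smul, ← hu k]
      exact congr($(e.hom.mapPresheaf.naturality (homOfLE h).op) (s k))
    rw [n1 i inf_le_left, n1 j inf_le_right] at h1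
    have h2 : QCoh.res L' (inf_le_left : U i ⊓ U j ≤ U i) (s' i) = _ := hη' i j
    rw [h2, ← mul_smul, ← mul_smul, mul_comm] at h1
    exact h1.trans (congrArg (· • _) (mul_comm _ _))
  · rintro ⟨u, hu⟩
    have hη'' : ∀ i j : ι, QCoh.res L' (inf_le_left : U i ⊓ U j ≤ U i) ((u i : Γ(X, U i)) • s' i) =
        η i j • QCoh.res L' (inf_le_right : U i ⊓ U j ≤ U j) ((u j : Γ(X, U j)) • s' j) := fun i j => by
      have h2 : QCoh.res L' (inf_le_left : U i ⊓ U j ≤ U i) (s' i) = _ := hη' i j
      rw [Scheme.Modules.map_smul, Scheme.Modules.map_smul, h2, ← mul_smul, ← mul_smul, mul_comm, hu i j,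
        mul_comm]
    exact ⟨(nonempty_iso_mod hU gs hη).some ≪≫
      (nonempty_iso_mod hU (fun i => (gs' i).smul_unit (u i).isUnit) hη'').some.symm⟩

end Groth.Agent.S10964
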