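import Groth.Statements.S0985
import Groth.Agent.DHA.Telescope
import Mathlib.Algebra.Homology.GrothendieckAbelian
import Mathlib.Algebra.Homology.DerivedCategory.ShortExact
-- import your own Groth.Agent.* helpers here

set_option autoImplicit false
universe w v u
open CategoryTheory CategoryTheory.Limits
open DerLim

namespace Groth.Agent.S0985

/-- Let A be an abelian category in which colimits of sequences ℕ ⥤ A exist and are exact, and let L : ℕ
⥤ CochainComplex A ℤ be a sequence of complexes. Then the image in the derived category of the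
termwise colimit of L, with the canonical maps from the Lₙ, is a homotopy colimit of the images of
the Lₙ — assuming the termwise direct sum of the Lₙ exists and is preserved by the localization
functor to D(A) (a known result, carried here as a hypothesis rather than proved), and that the
direct sum of the images exists in D(A). -/
theorem result {A : Type u} [Category.{v} A] [Abelian A] [HasDerivedCategory.{w} A]
    [HasColimitsOfShape ℕ A] [HasExactColimitsOfShape ℕ A]
    (L : ℕ ⥤ CochainComplex A ℤ) [HasCoproduct L.obj] [PreservesColimit (Discrete.functor L.obj) (DerivedCategory.Q (C := A))]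
    [HasCoproduct (fun n => DerivedCategory.Q.obj (L.obj n))] :
    DerLim.IsHocolim (fun n => DerivedCategory.Q.obj (L.obj n)) (fun n => DerivedCategory.Q.map (L.map (homOfLE (Nat.le_succ n))))
      (DerivedCategory.Q.obj (colimit L)) (fun n => DerivedCategory.Q.map (colimit.ι L n)) := by
  let C := CochainComplex A ℤ
  have hw : (𝟙 (∐ L.obj) - DerLim.shiftMap L.obj (fun n => L.map (homOfLE (Nat.le_succ n)))) ≫
      Sigma.desc (fun n => colimit.ι L n) = 0 := by
    refine Sigma.hom_ext _ _ fun n => ?_
    simp [DerLim.shiftMap, Preadditive.sub_comp, colimit.w]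
  have hS := Groth.Agent.DHA.Telescope.shortExact L (coproductIsCoproduct L.obj)
    (colimit.isColimit L) _ (fun n => by simp [DerLim.shiftMap, Preadditive.comp_sub]) _
    (fun n => by simp) hw
  let Q := DerivedCategory.Q (C := A)
  let e : (∐ fun n => Q.obj (L.obj n)) ≅ Q.obj (∐ L.obj) :=
    (coproductIsCoproduct _).coconePointUniqueUpToIso
      (isColimitCofanMkObjOfIsColimit Q _ _ (coproductIsCoproduct L.obj))
  have he : ∀ n, Sigma.ι (fun n => Q.obj (L.obj n)) n ≫ e.hom = Q.map (Sigma.ι L.obj n) := fun n =>
    IsColimit.comp_coconePointUniqueUpToIso_hom (coproductIsCoproduct _)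
      (isColimitCofanMkObjOfIsColimit Q _ _ (coproductIsCoproduct L.obj)) ⟨n⟩
  refine ⟨DerivedCategory.triangleOfSESδ hS ≫ (shiftFunctor _ (1 : ℤ)).map e.inv, ?_⟩
  refine Pretriangulated.isomorphic_distinguished _ (DerivedCategory.triangleOfSES_distinguished hS)
    _ (Pretriangulated.Triangle.isoMk _ _ e e (Iso.refl _) ?_ ?_ ?_)
  · refine Sigma.hom_ext _ _ fun n => ?_
    show Sigma.ι (fun n => Q.obj (L.obj n)) n ≫ (𝟙 _ - DerLim.shiftMap _ _) ≫ e.hom =
      Sigma.ι (fun n => Q.obj (L.obj n)) n ≫ e.hom ≫
        Q.map (𝟙 (∐ L.obj) - DerLim.shiftMap L.obj (fun n => L.map (homOfLE (Nat.le_succ n))))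
    rw [reassoc_of% he n, ← Functor.map_comp, Preadditive.comp_sub, Category.comp_id,
      DerLim.shiftMap, DerLim.shiftMap, Sigma.ι_desc, Preadditive.sub_comp, Category.id_comp,
      Preadditive.comp_sub, Sigma.ι_desc_assoc, he, Category.assoc, he, Functor.map_sub,
      Functor.map_comp]
  · refine Sigma.hom_ext _ _ fun n => ?_
    show Sigma.ι (fun n => Q.obj (L.obj n)) n ≫ Sigma.desc (fun n => Q.map (colimit.ι L n)) ≫ 𝟙 _ =
      Sigma.ι (fun n => Q.obj (L.obj n)) n ≫ e.hom ≫ Q.map (Sigma.desc fun n => colimit.ι L n)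
    rw [Category.comp_id, Sigma.ι_desc, reassoc_of% he n, ← Functor.map_comp, Sigma.ι_desc]
  · show (DerivedCategory.triangleOfSESδ hS ≫ (shiftFunctor _ (1 : ℤ)).map e.inv) ≫
      (shiftFunctor _ (1 : ℤ)).map e.hom = 𝟙 _ ≫ DerivedCategory.triangleOfSESδ hS
    rw [Category.id_comp, Category.assoc, ← Functor.map_comp, e.inv_hom_id]
    exact (congrArg _ (CategoryTheory.Functor.map_id _ _)).trans (Category.comp_id _)

end Groth.Agent.S0985
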