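import Groth.Statements.S6501
import Mathlib.Tactic.Ring

set_option autoImplicit false
universe u
open DPow

namespace Groth.Agent.S6501

/-- Let A be a commutative ring whose additive group is torsion free and I an ideal of A. Then I carries
at most one divided power structure, and it carries one if and only if I is generated by a set S
such that for every x in S and every n ≥ 1 the power x^n lies in the ideal generated by the products
of n! with elements of I. -/
theorem result {A : Type u} [CommRing A] [IsAddTorsionFree A] (I : Ideal A) :
    Subsingleton (DividedPowers I) ∧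
    (Nonempty (DividedPowers I) ↔ ∃ S : Set A, Ideal.span S = I ∧
      ∀ x ∈ S, ∀ n : ℕ, 1 ≤ n → x ^ n ∈ Ideal.span {(Nat.factorial n : A)} * I) := by
  have hf : ∀ (n : ℕ) (a b : A), (n.factorial : A) * a = n.factorial * b → a = b := fun n a b h =>
    nsmul_right_injective n.factorial_ne_zero (by simpa [nsmul_eq_mul] using h)
  refine ⟨⟨fun γ γ' => DividedPowers.ext γ γ' fun {n x} hx => hf n _ _ ?_⟩, ?_⟩
  · rw [γ.factorial_mul_dpow_eq_pow hx, γ'.factorial_mul_dpow_eq_pow hx]
  constructor
  · rintro ⟨γ⟩
    refine ⟨I, Ideal.span_eq I, fun x hx n hn => ?_⟩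
    rw [← γ.factorial_mul_dpow_eq_pow hx]
    exact Ideal.mul_mem_mul (Ideal.subset_span rfl) (γ.dpow_mem (by omega) hx)
  · rintro ⟨S, hS, hSn⟩
    have key : ∀ x ∈ I, ∀ n : ℕ, ∃ y : A, (n ≠ 0 → y ∈ I) ∧ (n.factorial : A) * y = x ^ n := by
      intro x hx
      rw [← hS] at hx
      induction hx using Submodule.span_induction with
      | mem x hx =>
        intro n
        rcases Nat.eq_zero_or_pos n with rfl | hn
        · exact ⟨1, by simp⟩
        · obtain ⟨y, hy, hyx⟩ := Ideal.mem_span_singleton_mul.1 (hSn x hx n hn)
          exact ⟨y, fun _ => hy, hyx⟩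
      | zero =>
        intro n
        rcases Nat.eq_zero_or_pos n with rfl | hn
        · exact ⟨1, by simp⟩
        · exact ⟨0, fun _ => zero_mem _, by simp [zero_pow hn.ne']⟩
      | add a b _ _ ha hb =>
        intro n
        choose f hf0 hf1 using ha
        choose g hg0 hg1 using hb
        refine ⟨(Finset.antidiagonal n).sum fun k => f k.1 * g k.2, fun hn => ?_, ?_⟩
        · refine Submodule.sum_mem _ fun k hk => ?_
          rw [Finset.HasAntidiagonal.mem_antidiagonal] at hk
          rcases Nat.eq_zero_or_pos k.1 with h | h
          · exact Ideal.mul_mem_left _ _ (hg0 _ (by omega))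
          · exact Ideal.mul_mem_right _ _ (hf0 _ (by omega))
        · rw [Finset.mul_sum, (Commute.all a b).add_pow']
          refine Finset.sum_congr rfl fun k hk => ?_
          rw [nsmul_eq_mul]
          rw [Finset.HasAntidiagonal.mem_antidiagonal] at hk
          subst hk
          rw [← hf1, ← hg1, ← Nat.add_choose_mul_factorial_mul_factorial k.1 k.2]
          push_cast
          rw [Nat.choose_symm_add]
          ring
      | smul c x _ hx =>
        intro n
        obtain ⟨y, hy0, hy1⟩ := hx n
        exact ⟨c ^ n * y, fun hn => Ideal.mul_mem_left _ _ (hy0 hn),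
          by rw [mul_left_comm, hy1, smul_eq_mul, mul_pow]⟩
    classical
    choose f hf0 hf1 using key
    exact ⟨
      { dpow := fun n x => if h : x ∈ I then f x h n else 0
        dpow_null := fun {n x} h => dif_neg h
        dpow_zero := fun {x} h => hf 0 _ _ (by rw [dif_pos h, hf1]; simp)
        dpow_one := fun {x} h => hf 1 _ _ (by rw [dif_pos h, hf1]; simp)
        dpow_mem := fun {n x} hn h => by rw [dif_pos h]; exact hf0 x h n hn
        dpow_add := fun {n x y} hx hy => hf n _ _ (by
          rw [dif_pos (I.add_mem hx hy), hf1, (Commute.all x y).add_pow', Finset.mul_sum]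
          refine Finset.sum_congr rfl fun k hk => ?_
          rw [Finset.HasAntidiagonal.mem_antidiagonal] at hk
          subst hk
          rw [dif_pos hx, dif_pos hy, nsmul_eq_mul, ← hf1 x hx k.1, ← hf1 y hy k.2,
            ← Nat.add_choose_mul_factorial_mul_factorial k.1 k.2]
          push_cast
          rw [Nat.choose_symm_add]
          ring)
        dpow_mul := fun {n a x} hx => hf n _ _ (by
          rw [dif_pos (I.mul_mem_left a hx), hf1, dif_pos hx, mul_left_comm, hf1, mul_pow])
        mul_dpow := fun {m n x} hx => hf m _ _ (hf n _ _ (by
          simp only [dif_pos hx]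
          calc (n.factorial : A) * (m.factorial * (f x hx m * f x hx n))
              = (m.factorial * f x hx m) * (n.factorial * f x hx n) := by ring
            _ = x ^ (m + n) := by rw [hf1, hf1, pow_add]
            _ = _ := by
              rw [← hf1 x hx (m + n), ← Nat.add_choose_mul_factorial_mul_factorial m n]
              push_cast
              rw [Nat.choose_symm_add]
              ring))
        dpow_comp := fun {m n x} hn hx => hf m _ _ (by
          simp only [dif_pos hx, dif_pos (hf0 x hx n hn)]
          rw [hf1]
          refine nsmul_right_injective (pow_ne_zero m n.factorial_ne_zero) ?_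
          simp only [nsmul_eq_mul, Nat.cast_pow]
          rw [← mul_pow, hf1, ← pow_mul, mul_comm n m, ← hf1 x hx (m * n),
            ← Nat.uniformBell_mul_eq m hn]
          push_cast
          ring) }⟩

end Groth.Agent.S6501
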