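import Groth.Statements.S17539
import Groth.Agent.CAlg.AdicAux

set_option autoImplicit false
universe u v w
open W4c5adicflatcompl
open CAlg

namespace Groth.Agent.S17539

open Groth.Agent.CAlg in
theorem val_map {A : Type u} [CommRing A] (I : Ideal A) {M N : Type*} [AddCommGroup M] [Module A M]
    [AddCommGroup N] [Module A N] (f : M →ₗ[A] N) (x : AdicCompletion I M) (n : ℕ) (y : M)
    (hy : Submodule.Quotient.mk y = x.val n) :
    (AdicCompletion.map I f x).val n = Submodule.Quotient.mk (f y) := by
  rw [AdicCompletion.map_val_apply, ← hy]
  rfl

/-- For a commutative ring A, an ideal I, a set Z and an A-module M whose I-adic completion M^ is itself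
I-adically complete, the canonical map from the I-adic completion of Z →₀ M to the functions Z → M^,
whose z-th coordinate is the completion of evaluation at z, is injective with image the I-adically
decaying functions Z → M^. (The source states bijectivity of the inverse map, from decaying
functions to the limit of the finitely supported functions Z → M/I^n M, induced by the projections
M^ → M/I^n M; the two formulations are equivalent.) -/
theorem result {A : Type u} [CommRing A] (I : Ideal A) (Z : Type v)
    (M : Type w) [AddCommGroup M] [Module A M] [IsAdicComplete I (AdicCompletion I M)] :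
    Function.Injective
        (LinearMap.pi fun z : Z =>
          (AdicCompletion.map I (Finsupp.lapply (M := M) (R := A) z)).restrictScalars A) ∧
      LinearMap.range
        (LinearMap.pi fun z : Z =>
          (AdicCompletion.map I (Finsupp.lapply (M := M) (R := A) z)).restrictScalars A) =
        decaying I Z (AdicCompletion I M) := by
  classical
  constructor
  · rw [injective_iff_map_eq_zero]
    intro x hx
    ext n
    obtain ⟨f, hf⟩ := Submodule.Quotient.mk_surjective _ (x.val n)
    rw [AdicCompletion.val_zero_apply, ← hf, Submodule.Quotient.mk_eq_zero,
      Groth.Agent.CAlg.AdicAux.finsupp_mem_smul_top]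
    intro z
    have h := congrFun hx z
    have h1 := val_map I (Finsupp.lapply (M := M) (R := A) z) x n f hf
    rw [show AdicCompletion.map I (Finsupp.lapply (M := M) (R := A) z) x = 0 from h, AdicCompletion.val_zero_apply] at h1
    exact (Submodule.Quotient.mk_eq_zero _).1 h1.symm
  · ext g
    constructor
    · rintro ⟨x, rfl⟩ n
      obtain ⟨f, hf⟩ := Submodule.Quotient.mk_surjective _ (x.val n)
      refine f.support.finite_toSet.subset fun z hz => ?_
      by_contra hzs
      rw [Finset.mem_coe, Finsupp.notMem_support_iff] at hzs
      refine hz (Groth.Agent.CAlg.AdicAux.mem_of_val_eq_zero ?_)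
      show (AdicCompletion.map I (Finsupp.lapply (M := M) (R := A) z) x).val n = 0
      rw [val_map I _ x n f hf, Finsupp.lapply_apply, hzs, Submodule.Quotient.mk_zero]
    · intro hg
      choose r hr using fun (n : ℕ) (z : Z) => Submodule.Quotient.mk_surjective _ ((g z).val n)
      let f : ℕ → (Z →₀ M) := fun n => ∑ z ∈ (hg n).toFinset, Finsupp.single z (r n z)
      have hf : ∀ n z, Submodule.Quotient.mk (f n z) = (g z).val n := by
        intro n z
        simp only [f, Finsupp.finsetSum_apply, Finsupp.single_apply, Finset.sum_ite_eq', Set.Finite.mem_toFinset]
        split_ifs with h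
        · exact hr n z
        · simp only [Set.mem_ofPred_eq, not_not] at h
          rw [Submodule.Quotient.mk_zero, Groth.Agent.CAlg.AdicAux.val_eq_zero_of_mem h]
      have hc : ∀ n, f n ≡ f (n + 1) [SMOD (I ^ n • ⊤ : Submodule A (Z →₀ M))] := by
        intro n
        rw [SModEq.sub_mem, Groth.Agent.CAlg.AdicAux.finsupp_mem_smul_top]
        intro z
        rw [Finsupp.sub_apply, ← Submodule.Quotient.eq, hf]
        have h2 := (g z).2 n.le_succ
        rw [← hf (n + 1) z] at h2
        exact h2.symm
      refine ⟨AdicCompletion.mk I _ (AdicCompletion.AdicCauchySequence.mk I _ f hc), ?_⟩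
      funext z
      ext n
      exact (val_map I (Finsupp.lapply (M := M) (R := A) z) _ n (f n) rfl).trans (hf n z)

end Groth.Agent.S17539
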