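import Groth.Statements.S0534
import Groth.Agent.Hensel.Idempotent
import Mathlib.RingTheory.Finiteness.Projective
import Mathlib.LinearAlgebra.Matrix.ToLin
import Mathlib.LinearAlgebra.Matrix.Charpoly.Basic
import Mathlib.LinearAlgebra.TensorProduct.RightExactness

set_option autoImplicit false
universe u
open Hensel

namespace Groth.Agent.S0534

/-- If `R` is Henselian at `I`, every finitely generated projective `R/I`-module is the base change of a
finitely generated projective `R`-module. -/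
theorem result (R : Type u) [CommRing R] (I : Ideal R)
    [HenselianRing R I] (Q : Type u) [AddCommGroup Q] [Module (R ⧸ I) Q] [Module.Finite (R ⧸ I) Q]
    [Module.Projective (R ⧸ I) Q] :
    ∃ (P : Type u) (_ : AddCommGroup P) (_ : Module R P), Module.Finite R P ∧ Module.Projective R P ∧
      Nonempty (TensorProduct R (R ⧸ I) P ≃ₗ[R ⧸ I] Q) := by
  classical
  obtain ⟨n, p, s, hps, -, hid⟩ := Module.Finite.exists_comp_eq_id_of_projective (R ⧸ I) Q
  let P₀ : Matrix (Fin n) (Fin n) (R ⧸ I) := LinearMap.toMatrix' (s ∘ₗ p)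
  have hP₀ : IsIdempotentElem P₀ := by
    rw [IsIdempotentElem, ← LinearMap.toMatrix'_comp]
    congr 1
    rw [LinearMap.comp_assoc, ← LinearMap.comp_assoc _ s p, hid, LinearMap.id_comp]
  let ρ : Matrix (Fin n) (Fin n) R →ₐ[R] Matrix (Fin n) (Fin n) (R ⧸ I) :=
    (Ideal.Quotient.mkₐ R I).mapMatrix
  let P₁ : Matrix (Fin n) (Fin n) R := P₀.map (Function.surjInv Ideal.Quotient.mk_surjective)
  have hP₁ : ρ P₁ = P₀ := by
    ext i j
    exact Function.surjInv_eq Ideal.Quotient.mk_surjective (P₀ i j)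
  let f : Polynomial R := (P₁ ^ 2 - P₁).charpoly.comp (Polynomial.X ^ 2 - Polynomial.X) * (Polynomial.X ^ 2 - Polynomial.X)
  rcases subsingleton_or_nontrivial R with hR | hR
  · haveI : Subsingleton (R ⧸ I) := Ideal.Quotient.mk_surjective.subsingleton
    haveI : Subsingleton Q := Module.subsingleton (R ⧸ I) Q
    haveI : Subsingleton (TensorProduct R (R ⧸ I) PUnit.{u + 1}) := Module.subsingleton (R ⧸ I) _
    exact ⟨PUnit.{u + 1}, inferInstance, inferInstance, inferInstance, inferInstance, ⟨0⟩⟩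
  have hm1 : (Polynomial.X ^ 2 - Polynomial.X : Polynomial R).Monic := Polynomial.monic_X_pow_sub (by simp [Polynomial.degree_X])
  have hd : (Polynomial.X ^ 2 - Polynomial.X : Polynomial R).natDegree = 2 := by
    rw [Polynomial.natDegree_sub_eq_left_of_natDegree_lt] <;> simp
  have hfP : Polynomial.aeval P₁ f = 0 := by
    have h0 : Polynomial.aeval P₁ (Polynomial.X ^ 2 - Polynomial.X : Polynomial R) = P₁ ^ 2 - P₁ := by simp
    simp only [f, map_mul, Polynomial.aeval_comp, h0, Matrix.aeval_self_charpoly, zero_mul]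
  have hfI : f.map (Ideal.Quotient.mk I) = (Polynomial.X ^ 2 - Polynomial.X) ^ (n + 1) := by
    have h0 : (P₁ ^ 2 - P₁).map (Ideal.Quotient.mk I) = 0 := by
      change ρ (P₁ ^ 2 - P₁) = 0
      rw [map_sub, map_pow, hP₁, sq, hP₀.eq, sub_self]
    simp only [f, Polynomial.map_mul, Polynomial.map_comp, Polynomial.map_sub, Polynomial.map_pow, Polynomial.map_X, ← Matrix.charpoly_map, h0, Matrix.charpoly_zero]
    simp [pow_succ]
  obtain ⟨r, hr, hr'⟩ := Hensel.exists_isIdempotentElem_aeval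
    (Hensel.gabberRoots_of_henselianRing (I := I)) HenselianRing.jac ρ
    (fun a ha => by
      ext i j
      simp [Matrix.algebraMap_matrix_apply, Ideal.Quotient.eq_zero_iff_mem.2 ha])
    (by rw [hP₁]; exact hP₀)
    (((P₁ ^ 2 - P₁).charpoly_monic.comp hm1 (by rw [hd]; norm_num)).mul hm1) hfP (Nat.succ_pos n) hfI
  set E := Polynomial.aeval P₁ r
  rw [hP₁] at hr'
  let e : (Fin n → R) →ₗ[R] (Fin n → R) := Matrix.toLin' E
  have he : ∀ v, e (e v) = e v := fun v => by
    simp only [e, Matrix.toLin'_apply, Matrix.mulVec_mulVec, hr.eq]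
  let P := LinearMap.range e
  haveI : Module.Projective R P := Module.Projective.of_split P.subtype e.rangeRestrict
    (LinearMap.ext fun x => Subtype.ext (by obtain ⟨v, hv⟩ := x.2; change e x.1 = x.1; rw [← hv, he]))
  haveI : Module.Finite R P := Module.Finite.range e
  let red : (Fin n → R) →ₗ[R] (Fin n → R ⧸ I) := LinearMap.pi fun i => (Ideal.Quotient.mkₐ R I).toLinearMap ∘ₗ LinearMap.proj i
  letI : Module R Q := Module.compHom Q (Ideal.Quotient.mk I)
  haveI : IsScalarTower R (R ⧸ I) Q := IsScalarTower.of_algebraMap_smul fun _ _ => rfl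
  let θ : P →ₗ[R] Q := (p.restrictScalars R) ∘ₗ red ∘ₗ P.subtype
  let Φ : TensorProduct R (R ⧸ I) P →ₗ[R ⧸ I] Q := θ.liftBaseChange (R ⧸ I)
  let Ψ₀ : (Fin n → R ⧸ I) →ₗ[R ⧸ I] TensorProduct R (R ⧸ I) P :=
    Fintype.linearCombination (R ⧸ I) fun i => (1 : R ⧸ I) ⊗ₜ[R] e.rangeRestrict (Pi.single i 1)
  let Ψ : Q →ₗ[R ⧸ I] TensorProduct R (R ⧸ I) P := Ψ₀ ∘ₗ s
  have hred : ∀ v, red (e v) = s (p (red v)) := fun v => by
    have h1 : s (p (red v)) = Matrix.toLin' P₀ (red v) := by
      simp [P₀]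
    rw [h1, ← hr']
    funext i
    simp [red, e, ρ, Matrix.mulVec, dotProduct]
  have hΨ : ∀ v : Fin n → R, Ψ₀ (red v) = (1 : R ⧸ I) ⊗ₜ[R] e.rangeRestrict v := by
    intro v
    conv_rhs => rw [pi_eq_sum_univ' v, map_sum, TensorProduct.tmul_sum]
    simp only [Ψ₀, Fintype.linearCombination_apply]
    refine Finset.sum_congr rfl fun i _ => ?_
    rw [map_smul, TensorProduct.tmul_smul]
    exact algebraMap_smul (R ⧸ I) (v i) _
  have hps' : ∀ q, p (s q) = q := fun q => LinearMap.congr_fun hid q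
  refine ⟨P, inferInstance, inferInstance, inferInstance, inferInstance,
    ⟨LinearEquiv.ofLinearMap Φ Ψ ?_ ?_⟩⟩
  · refine LinearMap.ext fun q => ?_
    obtain ⟨x, rfl⟩ := hps q
    obtain ⟨v, rfl⟩ : ∃ v, red v = x := ⟨fun i => Function.surjInv Ideal.Quotient.mk_surjective (x i),
      funext fun i => Function.surjInv_eq Ideal.Quotient.mk_surjective (x i)⟩
    have h1 : Ψ (p (red v)) = (1 : R ⧸ I) ⊗ₜ[R] e.rangeRestrict v := by
      change Ψ₀ (s (p (red v))) = _
      rw [← hred, hΨ]
      exact congrArg _ (Subtype.ext (he v))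
    rw [LinearMap.comp_apply, LinearMap.id_apply, h1, LinearMap.liftBaseChange_tmul, one_smul]
    change p (red (e v)) = _
    rw [hred, hps']
  · refine LinearMap.ext fun z => ?_
    obtain ⟨⟨x, v, rfl⟩, rfl⟩ := TensorProduct.mk_surjective R P (R ⧸ I) Ideal.Quotient.mk_surjective z
    rw [LinearMap.comp_apply, LinearMap.id_apply, TensorProduct.mk_apply, LinearMap.liftBaseChange_tmul, one_smul]
    change Ψ₀ (s (p (red (e v)))) = _
    rw [← hred, he, hΨ, ]
    exact congrArg _ (Subtype.ext (he v))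

end Groth.Agent.S0534
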