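import Mathlib

/-!
A discretely valued ring `R` of characteristic `p` with `[K : K^p] = p`: the powers of a uniformizer
are a `p`-basis, and `Ω[R⁄ℤ]` is free on the differential of the uniformizer.
-/

namespace Groth.Agent.DVRPBasis

universe u

theorem dvd_coeff {R : Type u} [CommRing R] [IsDomain R] {p : ℕ} {π : R} (hπ : Prime π)
    (c : Fin p → R) (h : π ^ p ∣ ∑ i : Fin p, π ^ (i : ℕ) * c i ^ p) : ∀ i, π ∣ c i := by
  classical
  suffices ∀ n, ∀ i : Fin p, (i : ℕ) = n → π ∣ c i from fun i => this _ i rfl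
  intro n
  induction n using Nat.strong_induction_on with
  | _ n ih =>
    intro i hi
    have hsum : π ^ (n + 1) ∣ ∑ j : Fin p, π ^ (j : ℕ) * c j ^ p :=
      dvd_trans (pow_dvd_pow π (by omega)) h
    rw [← Finset.add_sum_erase _ _ (Finset.mem_univ i)] at hsum
    have hrest : π ^ (n + 1) ∣ ∑ j ∈ Finset.univ.erase i, π ^ (j : ℕ) * c j ^ p := by
      refine Finset.dvd_sum fun j hj => ?_
      have hne : (j : ℕ) ≠ n := fun hh => (Finset.mem_erase.1 hj).1 (Fin.ext (hh.trans hi.symm))
      rcases Nat.lt_or_ge (j : ℕ) n with hlt | hge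
      · exact dvd_mul_of_dvd_right (dvd_trans (pow_dvd_pow π (by omega : n + 1 ≤ p))
          (pow_dvd_pow_of_dvd (ih _ hlt j rfl) p)) _
      · exact dvd_mul_of_dvd_left (pow_dvd_pow π (by omega)) _
    have := (dvd_add_left hrest).1 hsum
    rw [hi, pow_succ, mul_dvd_mul_iff_left (pow_ne_zero _ hπ.ne_zero)] at this
    exact hπ.dvd_of_dvd_pow this

theorem exists_pow_mul {R : Type u} [CommRing R] [IsDomain R] {p : ℕ} {π : R} (hπ : Prime π) (n : ℕ) :
    ∀ (c : Fin p → R) (r : R), ∑ i : Fin p, π ^ (i : ℕ) * c i ^ p = (π ^ n) ^ p * r →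
      ∃ d : Fin p → R, (∀ i, c i = π ^ n * d i) ∧ ∑ i : Fin p, π ^ (i : ℕ) * d i ^ p = r := by
  induction n with
  | zero => exact fun c r h => ⟨c, fun i => by simp, by simpa using h⟩
  | succ n ih =>
    intro c r h
    obtain ⟨d, hd, hsum⟩ := ih c (π ^ p * r) (by rw [h, pow_succ, mul_pow]; ring)
    have hdvd : ∀ i, π ∣ d i := dvd_coeff hπ d (hsum ▸ dvd_mul_right _ r)
    choose e he using hdvd
    refine ⟨e, fun i => by rw [hd i, he i]; ring, mul_left_cancel₀ (pow_ne_zero p hπ.ne_zero) ?_⟩
    rw [← hsum, Finset.mul_sum]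
    exact Finset.sum_congr rfl fun i _ => by rw [he i]; ring

variable {p : ℕ} [Fact p.Prime] {R : Type u} [CommRing R]
    [IsDomain R] [IsDiscreteValuationRing R] {π : R} (hπ : Irreducible π)

include hπ in
theorem eq_zero_of_sum_eq_zero (c : Fin p → R) (h : ∑ i : Fin p, π ^ (i : ℕ) * c i ^ p = 0) :
    c = 0 := by
  funext i
  by_contra hne
  obtain ⟨n, u, hu⟩ := IsDiscreteValuationRing.eq_unit_mul_pow_irreducible hne hπ
  obtain ⟨d, hd, -⟩ := exists_pow_mul hπ.prime (n + 1) c 0 (by rw [h, mul_zero])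
  have h1 := hd i
  rw [hu, pow_succ, mul_assoc, mul_comm (u : R)] at h1
  exact hπ.not_isUnit (isUnit_of_dvd_unit ⟨d i, mul_left_cancel₀ (pow_ne_zero n hπ.ne_zero) h1⟩ u.isUnit)

variable [CharP R p]

include hπ in
theorem eq_of_sum_eq (c d : Fin p → R)
    (h : ∑ i : Fin p, π ^ (i : ℕ) * c i ^ p = ∑ i : Fin p, π ^ (i : ℕ) * d i ^ p) : c = d := by
  refine sub_eq_zero.1 (eq_zero_of_sum_eq_zero hπ (c - d) ?_)
  simp only [Pi.sub_apply, sub_pow_char, mul_sub, Finset.sum_sub_distrib, h, sub_self]

open Polynomial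

variable {kp : Subfield (FractionRing R)}
    (hkp : ∀ x : FractionRing R, x ∈ kp ↔ ∃ y : FractionRing R, y ^ p = x)
    (hdeg : Module.finrank kp (FractionRing R) = p)

include hkp in
theorem exists_integral_multiple (g : Fin p → kp) :
    ∃ (b : R) (c : Fin p → R), b ≠ 0 ∧
      ∀ i, (g i : FractionRing R) * algebraMap R (FractionRing R) b ^ p =
        algebraMap R (FractionRing R) (c i) ^ p := by
  choose y hy using fun i => (hkp (g i)).1 (g i).2
  obtain ⟨⟨b, hb⟩, hint⟩ := IsLocalization.exist_integer_multiples (nonZeroDivisors R) Finset.univ y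
  choose c hc using fun i => hint i (Finset.mem_univ i)
  refine ⟨b, c, nonZeroDivisors.ne_zero hb, fun i => ?_⟩
  rw [hc i, ← hy i, ← mul_pow, mul_comm]
  congr 1
  exact (Algebra.smul_def b (y i)).symm

include hkp hπ in
theorem linearIndependent_pow :
    LinearIndependent kp (fun i : Fin p => algebraMap R (FractionRing R) π ^ (i : ℕ)) := by
  rw [Fintype.linearIndependent_iff]
  intro g hg i
  obtain ⟨b, c, hb, hc⟩ := exists_integral_multiple hkp g
  have hsum : ∑ i : Fin p, π ^ (i : ℕ) * c i ^ p = 0 := by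
    apply IsFractionRing.injective R (FractionRing R)
    simp only [map_sum, map_mul, map_pow, map_zero, ← hc]
    calc _ = (∑ i, g i • algebraMap R (FractionRing R) π ^ (i : ℕ)) *
          algebraMap R (FractionRing R) b ^ p := by
            rw [Finset.sum_mul]
            exact Finset.sum_congr rfl fun j _ => by rw [Subfield.smul_def, smul_eq_mul]; ring
      _ = 0 := by rw [hg, zero_mul]
  have hc0 := congrFun (eq_zero_of_sum_eq_zero hπ c hsum) i
  have := hc i
  rw [hc0, Pi.zero_apply, map_zero, zero_pow (Fact.out : p.Prime).ne_zero] at this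
  have hb' : algebraMap R (FractionRing R) b ^ p ≠ 0 :=
    pow_ne_zero _ ((map_ne_zero_iff _ (IsFractionRing.injective R _)).2 hb)
  exact Subtype.ext ((mul_eq_zero.1 this).resolve_right hb')

include hkp hdeg hπ in
theorem exists_repr (r : R) : ∃ c : Fin p → R, r = ∑ i : Fin p, π ^ (i : ℕ) * c i ^ p := by
  have hspan := (linearIndependent_pow hπ hkp).span_eq_top_of_card_eq_finrank
    (by rw [Fintype.card_fin, hdeg])
  obtain ⟨g, hg⟩ := (Submodule.mem_span_range_iff_exists_fun kp).1
    (hspan ▸ Submodule.mem_top (x := algebraMap R (FractionRing R) r))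
  obtain ⟨b, c, hb, hc⟩ := exists_integral_multiple hkp g
  have hsum : ∑ i : Fin p, π ^ (i : ℕ) * c i ^ p = b ^ p * r := by
    apply IsFractionRing.injective R (FractionRing R)
    simp only [map_sum, map_mul, map_pow, ← hc]
    rw [← hg, Finset.mul_sum]
    exact Finset.sum_congr rfl fun j _ => by rw [Subfield.smul_def, smul_eq_mul]; ring
  obtain ⟨n, u, rfl⟩ := IsDiscreteValuationRing.eq_unit_mul_pow_irreducible hb hπ
  obtain ⟨d, hd, hds⟩ := exists_pow_mul hπ.prime n c ((u : R) ^ p * r) (by rw [hsum]; ring)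
  refine ⟨fun i => (↑u⁻¹ : R) * d i, ?_⟩
  calc r = ((↑u⁻¹ : R) * u) ^ p * r := by simp
    _ = (↑u⁻¹ : R) ^ p * ∑ i : Fin p, π ^ (i : ℕ) * d i ^ p := by rw [hds]; ring
    _ = _ := by
      rw [Finset.mul_sum]
      exact Finset.sum_congr rfl fun i _ => by ring

include hkp hdeg hπ in
theorem exists_derivation : ∃ δ : Derivation ℤ R (FractionRing R), δ π = 1 := by
  set x : FractionRing R := algebraMap R (FractionRing R) π with hx
  haveI : CharP (FractionRing R) p := charP_of_injective_algebraMap (IsFractionRing.injective R _) p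
  haveI : CharP kp p := RingHom.charP kp.subtype Subtype.val_injective p
  have hxp : x ^ p ∈ kp := (hkp _).2 ⟨x, rfl⟩
  set m : kp[X] := X ^ p - C ⟨x ^ p, hxp⟩ with hm
  have hmm : m.Monic := monic_X_pow_sub_C _ (Fact.out : p.Prime).ne_zero
  have hmdeg : m.natDegree = p := natDegree_X_pow_sub_C
  have hmd : derivative m = 0 := by
    rw [hm, derivative_sub, derivative_C, derivative_X_pow, CharP.cast_eq_zero, map_zero, zero_mul,
      sub_zero]
  have hmx : aeval x m = 0 := by
    rw [hm, map_sub, map_pow, aeval_X, aeval_C]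
    exact sub_self _
  have hz : ∀ f : kp[X], aeval x f = 0 → aeval x (derivative f) = 0 := by
    intro f hf
    have h0 : f %ₘ m = 0 := by
      have hd : (f %ₘ m).natDegree < p := by
        have h1 := natDegree_modByMonic_lt f hmm
          (fun h => (Fact.out : p.Prime).ne_zero (by rw [← hmdeg, h, natDegree_one]))
        rwa [hmdeg] at h1
      have h2 : aeval x (f %ₘ m) = 0 := by rwa [aeval_modByMonic_eq_self_of_root hmx]
      rw [aeval_eq_sum_range' hd, ← Fin.sum_univ_eq_sum_range] at h2
      have := Fintype.linearIndependent_iff.1 (linearIndependent_pow hπ hkp) _ h2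
      ext i
      by_cases hi : i < p
      · rw [this ⟨i, hi⟩, coeff_zero]
      · rw [coeff_eq_zero_of_natDegree_lt (by omega), coeff_zero]
    have hf' := modByMonic_add_div f m
    rw [h0, zero_add] at hf'
    rw [← hf', derivative_mul, hmd, zero_mul, zero_add, map_mul, hmx, zero_mul]
  have hsurj : ∀ r : R, ∃ f : kp[X], aeval x f = algebraMap R _ r := by
    intro r
    obtain ⟨c, hc⟩ := exists_repr hπ hkp hdeg r
    refine ⟨∑ i : Fin p, C ⟨algebraMap R _ (c i) ^ p, (hkp _).2 ⟨_, rfl⟩⟩ * X ^ (i : ℕ), ?_⟩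
    rw [hc]
    simp only [map_sum, map_mul, map_pow, aeval_C, aeval_X]
    exact Finset.sum_congr rfl fun i _ => mul_comm _ _
  choose F hF using hsurj
  have hwell : ∀ (f : kp[X]) (r : R), aeval x f = algebraMap R _ r →
      aeval x (derivative f) = aeval x (derivative (F r)) := fun f r h => by
    rw [← sub_eq_zero, ← map_sub, ← derivative_sub]
    exact hz _ (by rw [map_sub, h, hF, sub_self])
  let φ : R →+ FractionRing R := AddMonoidHom.mk' (fun r => aeval x (derivative (F r))) fun a b => by
    rw [← map_add, ← derivative_add]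
    exact (hwell _ _ (by rw [map_add, hF, hF, map_add])).symm
  have hmul : ∀ a b : R,
      φ.toIntLinearMap (a * b) = a • φ.toIntLinearMap b + b • φ.toIntLinearMap a := by
    intro a b
    show aeval x (derivative (F (a * b))) =
      a • aeval x (derivative (F b)) + b • aeval x (derivative (F a))
    rw [← hwell (F a * F b) _ (by rw [map_mul, hF, hF, map_mul]), derivative_mul, map_add, map_mul,
      map_mul, hF, hF, Algebra.smul_def, Algebra.smul_def]
    ring
  refine ⟨Derivation.mk' φ.toIntLinearMap hmul, ?_⟩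
  show aeval x (derivative (F π)) = 1
  rw [← hwell X π (aeval_X x), derivative_X, map_one]

include hkp hdeg hπ in
theorem bijective_smul_D : Function.Bijective (fun r : R => r • KaehlerDifferential.D ℤ R π) := by
  obtain ⟨δ, hδ⟩ := exists_derivation hπ hkp hdeg
  refine ⟨fun a b h => ?_, fun w => ?_⟩
  · have h1 := congrArg δ.liftKaehlerDifferential h
    simp only [map_smul, Derivation.liftKaehlerDifferential_comp_D, hδ, Algebra.smul_def,
      mul_one] at h1
    exact IsFractionRing.injective R _ h1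
  · have hw : w ∈ Submodule.span R {KaehlerDifferential.D ℤ R π} := by
      refine (Submodule.span_le.2 ?_) ((KaehlerDifferential.span_range_derivation ℤ R).ge
        (Submodule.mem_top : w ∈ (⊤ : Submodule R _)))
      rintro _ ⟨r, rfl⟩
      obtain ⟨c, hc⟩ := exists_repr hπ hkp hdeg r
      rw [hc, map_sum]
      refine sum_mem fun i _ => ?_
      rw [Derivation.leibniz, Derivation.leibniz_pow, Derivation.leibniz_pow]
      refine add_mem ?_ (Submodule.smul_mem _ _ (Submodule.smul_of_tower_mem _ _
        (Submodule.smul_mem _ _ (Submodule.subset_span rfl))))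
      rw [← Nat.cast_smul_eq_nsmul R, CharP.cast_eq_zero, zero_smul, smul_zero]
      exact zero_mem _
    exact Submodule.mem_span_singleton.1 hw

end Groth.Agent.DVRPBasis
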