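import Groth.Statements.S10961
import Groth.Agent.MeroDivMod.Values

set_option autoImplicit false
set_option linter.style.haveILetI false
universe u
open CategoryTheory AlgebraicGeometry TopologicalSpace
open Mero

namespace Groth.Agent.S10961

variable {X : Scheme.{u}}

theorem mem_irreducibleComponents_iff (x : X) :
    closure ({x} : Set X) ∈ irreducibleComponents (X : Type u) ↔ ∀ y : X, y ⤳ x → y = x := by
  constructor
  · intro h y hy
    have h1 : closure ({x} : Set X) ⊆ closure {y} := by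
      rw [specializes_iff_closure_subset] at hy
      exact hy
    have h2 := h.2 (isIrreducible_singleton.closure : IsIrreducible (closure ({y} : Set X))) h1
    exact ((specializes_iff_closure_subset.mpr h1).antisymm (specializes_iff_closure_subset.mpr h2)).eq
  · intro h
    refine ⟨isIrreducible_singleton.closure, fun Z hZ hle => ?_⟩
    obtain ⟨η, hη⟩ := QuasiSober.sober hZ.closure isClosed_closure
    have hmem : x ∈ closure ({η} : Set X) := by
      rw [hη.def]
      exact subset_closure (hle (subset_closure rfl))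
    rw [← h η (specializes_iff_mem_closure.mpr hmem), hη.def]
    exact subset_closure

theorem isField_stalk [IsReduced X] (x : X) (hx : ∀ y : X, y ⤳ x → y = x) :
    IsField (X.presheaf.stalk x) := by
  rw [IsLocalRing.isField_iff_maximalIdeal_eq, eq_bot_iff]
  intro a ha
  exact (Submodule.mem_bot _).mpr (IdealSh.Regular.isNilpotent_of_maximal x hx a ha).eq_zero

theorem bijective_algebraMap [IsReduced X] (x : X) (hx : ∀ y : X, y ⤳ x → y = x) :
    Function.Bijective (algebraMap (X.presheaf.stalk x) (KStalk X x)) := by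
  refine ⟨algebraMap_KStalk_injective x, fun q => ?_⟩
  induction q using Localization.induction_on with
  | H p =>
    obtain ⟨r, t⟩ := p
    obtain ⟨u, hu⟩ := ((isField_stalk x hx).mul_inv_cancel (nonZeroDivisors.ne_zero
      (regStalk_le_nonZeroDivisors x t.2)))
    refine ⟨u * r, ?_⟩
    rw [Groth.Agent.Mero.algebraMap_eq_mk]
    refine (Groth.Agent.Mero.mk_eq_mk_iff _ _ _ _).mpr ?_
    rw [OneMemClass.coe_one, one_mul, ← mul_assoc, hu, one_mul]

theorem result
    (X : Scheme.{u}) [IsReduced X] (hfin : (irreducibleComponents (X : Type u)).Finite) (U : X.Opens) :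
    Function.Bijective (fun s : Γ(Mero.kmod X, U) =>
      fun x : {x : U // closure ({x.1} : Set X) ∈ irreducibleComponents (X : Type u)} =>
        Mero.evalK X U x.1 s) ∧
    (∀ x : X, closure ({x} : Set X) ∈ irreducibleComponents (X : Type u) →
      IsField (X.presheaf.stalk x) ∧
        Function.Bijective (algebraMap (X.presheaf.stalk x) (Mero.KStalk X x))) := by
  classical
  refine ⟨⟨fun f g hfg => Subtype.ext (funext fun y => ?_), fun q => ?_⟩, fun x hx =>
    ⟨isField_stalk x ((mem_irreducibleComponents_iff x).mp hx),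
      bijective_algebraMap x ((mem_irreducibleComponents_iff x).mp hx)⟩⟩
  · obtain ⟨V, hyV, hV, a, b, w⟩ := Groth.Agent.Mero.exists_fraction (f - g) y.1 y.2
    have ha : a = 0 := IdealSh.GenericPts.eq_zero_of_germ_maximal a fun ξ hξ hmax => by
      have h : f.1 ⟨ξ, hV hξ⟩ = g.1 ⟨ξ, hV hξ⟩ :=
        congrFun hfg ⟨⟨ξ, hV hξ⟩, (mem_irreducibleComponents_iff ξ).mpr hmax⟩
      refine (Groth.Agent.Mero.mk_eq_zero_iff _ _).mp ((w ⟨ξ, hξ⟩).symm.trans ?_)
      exact sub_eq_zero.mpr h
    refine sub_eq_zero.mp ((w ⟨y.1, hyV⟩).trans ?_)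
    rw [ha, map_zero]
    exact LocalizedModule.zero_mk _
  let G := {x : U // closure ({x.1} : Set X) ∈ irreducibleComponents (X : Type u)}
  have hmax : ∀ x : G, ∀ y : X, y ⤳ x.1.1 → y = x.1.1 :=
    fun x => (mem_irreducibleComponents_iff _).mp x.2
  choose r hr using fun x : G => (bijective_algebraMap x.1.1 (hmax x)).2 (q x)
  choose W₀ hW₀ c₀ hc₀ using fun x : G => X.presheaf.exists_germ_eq (x := x.1.1) (r x)
  let others : G → Set X := fun x => ⋃ Z ∈ irreducibleComponents (X : Type u) \ {closure {x.1.1}}, Z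
  have hcl : ∀ x, IsClosed (others x) := fun x => Set.Finite.isClosed_biUnion (hfin.subset Set.sdiff_subset)
    fun Z hZ => isClosed_of_mem_irreducibleComponents Z hZ.1
  have hx₀ : ∀ x : G, x.1.1 ∉ others x := by
    intro x hx
    obtain ⟨Z, hZ, hxZ⟩ := Set.mem_iUnion₂.mp hx
    have h1 : closure ({x.1.1} : Set X) ⊆ Z :=
      closure_minimal (Set.singleton_subset_iff.mpr hxZ) (isClosed_of_mem_irreducibleComponents Z hZ.1)
    exact hZ.2 (le_antisymm (x.2.2 hZ.1.1 h1) h1)
  let O : G → X.Opens := fun x => (W₀ x ⊓ ⟨(others x)ᶜ, (hcl x).isOpen_compl⟩) ⊓ U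
  have hxO : ∀ x : G, x.1.1 ∈ O x := fun x => ⟨⟨hW₀ x, hx₀ x⟩, x.1.2⟩
  have honly : ∀ (x : G) (ξ : X), (∀ y : X, y ⤳ ξ → y = ξ) → ξ ∈ O x → ξ = x.1.1 := by
    intro x ξ hξ hξO
    by_contra hne
    refine hξO.1.2 (Set.mem_iUnion₂.mpr ⟨closure {ξ}, ⟨(mem_irreducibleComponents_iff ξ).mpr hξ, fun e => hne ?_⟩,
      subset_closure rfl⟩)
    have e' : closure ({ξ} : Set X) = closure {x.1.1} := e
    exact ((specializes_iff_closure_subset.mpr e'.ge).antisymm (specializes_iff_closure_subset.mpr e'.le)).eq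
  obtain ⟨c, hc, -⟩ := TopCat.Sheaf.existsUnique_gluing' X.sheaf O (⨆ x, O x) (fun x => homOfLE (le_iSup O x))
    le_rfl (fun x => X.presheaf.map (homOfLE (inf_le_left.trans inf_le_left : O x ≤ W₀ x)).op (c₀ x))
    (fun x x' => by
      refine TopCat.Presheaf.section_ext X.sheaf _ _ _ fun z hz => ?_
      obtain ⟨ξ, hξz, hξ⟩ := IdealSh.GenericPts.exists_maximal_generalization z
      have e : x = x' := Subtype.ext (Subtype.ext
        ((honly x ξ hξ (hξz.mem_open (O x).2 hz.1)).symm.trans (honly x' ξ hξ (hξz.mem_open (O x').2 hz.2))))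
      subst e
      rfl)
  have hWA : ∀ z : X, z ∈ U → Curv2.IsWeakAssPoint (Coh.structureModule X) z → z ∈ ⨆ x, O x := by
    intro z hzU hz
    have hz' := (mem_irreducibleComponents_iff z).mpr ((WeakAssSch.isWeakAssPoint_unit_iff_maximal z).mp hz)
    exact Opens.mem_iSup.mpr ⟨⟨⟨z, hzU⟩, hz'⟩, hxO _⟩
  have hWAfin : ∀ V : X.Opens, {z : X | z ∈ V ∧ Curv2.IsWeakAssPoint (Coh.structureModule X) z}.Finite := by
    intro V
    refine (Set.Finite.of_finite_image (f := fun z => closure ({z} : Set X)) (hfin.subset ?_) ?_)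
    · rintro _ ⟨z, hz, rfl⟩
      exact (mem_irreducibleComponents_iff z).mpr ((WeakAssSch.isWeakAssPoint_unit_iff_maximal z).mp hz.2)
    · intro z _ z' _ e
      exact ((specializes_iff_closure_subset.mpr e.ge).antisymm (specializes_iff_closure_subset.mpr e.le)).eq
  choose V hyV hVU using fun y : U => IdealSh.Comap.exists_affine_le y.1 U y.2
  choose a S h using fun y : U => Groth.Agent.MeroDivMod.exists_denominator_of_open (V y).2 (hWAfin _) (⨆ x, O x)
    (fun z hz hw => hWA z (hVU y hz) hw)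
    (X.presheaf.map (homOfLE (inf_le_right : (V y).1 ⊓ (⨆ x, O x) ≤ ⨆ x, O x)).op c)
  have hS : ∀ y : U, S y ∈ regSub X (V y).1 := fun y z =>
    WeakAssSch.germ_mem_nonZeroDivisors_of_isUnit (S y) (fun z' hz hw => (h y z' hz hw).1) z.1 z.2
  replace h : ∀ (y : U) (z : X) (hz : z ∈ (V y).1) (hw : Curv2.IsWeakAssPoint (Coh.structureModule X) z),
      IsUnit (X.presheaf.germ (V y).1 z hz (S y)) ∧
        X.presheaf.germ (V y).1 z hz (S y) * X.presheaf.germ (⨆ x, O x) z (hWA z (hVU y hz) hw) c =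
          X.presheaf.germ (V y).1 z hz (a y) := fun y z hz hw =>
    ⟨(h y z hz hw).1, (congrArg (_ * ·) (X.presheaf.germ_res_apply _ z
      (show z ∈ (V y).1 ⊓ ⨆ x, O x from ⟨hz, hWA z (hVU y hz) hw⟩) c).symm).trans (h y z hz hw).2⟩
  let v : ∀ (y : U) (z : X), z ∈ (V y).1 → KStalk X z := fun y z hz =>
    LocalizedModule.mk (X.presheaf.germ (V y).1 z hz (a y)) (regGerm ⟨z, hz⟩ ⟨S y, hS y⟩)
  have hagree : ∀ (y y' : U) (z : X) (hz : z ∈ (V y).1) (hz' : z ∈ (V y').1), v y z hz = v y' z hz' := by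
    intro y y' z hz hz'
    refine (Groth.Agent.Mero.mk_eq_mk_iff _ _ _ _).mpr ?_
    set dS := X.presheaf.map (homOfLE (inf_le_left : (V y).1 ⊓ (V y').1 ≤ (V y).1)).op (S y)
    set da := X.presheaf.map (homOfLE (inf_le_left : (V y).1 ⊓ (V y').1 ≤ (V y).1)).op (a y)
    set dS' := X.presheaf.map (homOfLE (inf_le_right : (V y).1 ⊓ (V y').1 ≤ (V y').1)).op (S y')
    set da' := X.presheaf.map (homOfLE (inf_le_right : (V y).1 ⊓ (V y').1 ≤ (V y').1)).op (a y')
    have h0 := MeroTotal.RegularSection.germ_eq_zero (dS' * da - dS * da') (fun w hw hwa => by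
      simp only [map_sub, map_mul, dS, da, dS', da', TopCat.Presheaf.germ_res_apply]
      rw [← (h y w hw.1 hwa).2, ← (h y' w hw.2 hwa).2]
      ring) z ⟨hz, hz'⟩
    simp only [map_sub, map_mul, sub_eq_zero, dS, da, dS', da'] at h0
    erw [X.presheaf.germ_res_apply, X.presheaf.germ_res_apply, X.presheaf.germ_res_apply,
      X.presheaf.germ_res_apply] at h0
    exact h0
  refine ⟨⟨fun y => v y y.1 (hyV y), fun y => ⟨(V y).1, hyV y, homOfLE (hVU y), a y, ⟨S y, hS y⟩,
    fun z => hagree _ y z.1 (hyV _) z.2⟩⟩, funext fun x => ?_⟩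
  change v x.1 x.1.1 (hyV x.1) = q x
  have hw := (WeakAssSch.isWeakAssPoint_unit_iff_maximal x.1.1).mpr (hmax x)
  rw [← hr x, Groth.Agent.Mero.algebraMap_eq_mk]
  refine (Groth.Agent.Mero.mk_eq_mk_iff _ _ _ _).mpr ?_
  rw [OneMemClass.coe_one, one_mul]
  refine (h x.1 x.1.1 (hyV x.1) hw).2.symm.trans (congrArg (_ * ·) ?_)
  rw [← hc₀ x]
  rw [← X.presheaf.germ_res_apply (homOfLE (le_iSup O x)) x.1.1 (hxO x) c]
  exact (congrArg _ (hc x)).trans (X.presheaf.germ_res_apply _ _ _ _)

end Groth.Agent.S10961
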