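import Groth.Statements.S9605
import Mathlib
-- import your own Groth.Agent.* helpers here

set_option autoImplicit false
universe u
open CAlg

namespace Groth.Agent.S9605

/-- For a ring R, an ideal I of R, an I-adically complete R-module M and a submodule K of M, the
quotient M/K is I-adically complete if and only if K = ⋂ₙ (K + IⁿM). -/
theorem result {R : Type u} [CommRing R] (I : Ideal R) (M : Type u) [AddCommGroup M] [Module R M] [IsAdicComplete I M] (K : Submodule R M) :
    IsAdicComplete I (M ⧸ K) ↔ K = ⨅ n : ℕ, K ⊔ I ^ n • (⊤ : Submodule R M) := by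
  have hm : ∀ n : ℕ, ∀ x : M, K.mkQ x ∈ (I ^ n • ⊤ : Submodule R (M ⧸ K)) ↔ x ∈ K ⊔ I ^ n • (⊤ : Submodule R M) := by
    intro n x
    rw [← Submodule.range_mkQ K, LinearMap.range_eq_map, ← Submodule.map_smul'', ← Submodule.mem_comap,
      Submodule.comap_map_mkQ]
  constructor
  · intro h
    refine le_antisymm (le_iInf fun n => le_sup_left) fun x hx => ?_
    rw [Submodule.mem_iInf] at hx
    have := IsHausdorff.haus h.toIsHausdorff (K.mkQ x) fun n => SModEq.zero.mpr ((hm n x).mpr (hx n))
    exact (Submodule.Quotient.mk_eq_zero K).mp this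
  · intro h
    rw [← AdicCompletion.of_bijective_iff]
    constructor
    · rw [AdicCompletion.of_injective_iff]
      refine ⟨fun q hq => ?_⟩
      obtain ⟨x, rfl⟩ := K.mkQ_surjective q
      refine (Submodule.Quotient.mk_eq_zero K).mpr ?_
      rw [h, Submodule.mem_iInf]
      exact fun n => (hm n x).mp (SModEq.zero.mp (hq n))
    · intro y
      obtain ⟨z, rfl⟩ := AdicCompletion.map_surjective I K.mkQ_surjective y
      obtain ⟨x, rfl⟩ := AdicCompletion.of_surjective I M z
      exact ⟨K.mkQ x, by rw [AdicCompletion.map_of]⟩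

end Groth.Agent.S9605
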