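import Groth.Statements.S0110
import Groth.Agent.EtaleSite.AmitsurAcyclic
import Groth.Agent.EtaleSite.AmitsurGamma
import Groth.Agent.EtZarCmp.Basic
import Groth.Agent.EtZarUlift.Main

set_option autoImplicit false
open CategoryTheory CategoryTheory.Limits AlgebraicGeometry Opposite
universe u
open EtBase

namespace Groth.Agent.S0110

open Groth.Agent.EtaleSite in
theorem zarCont (X : Scheme.{u}) : EtZar.ZarCont X := by
  refine Functor.isContinuous_of_coverPreserving (compatiblePreservingOfFlat _ _)
    (⟨fun {U R} hR => mem_topology_of_forall_exists _ fun x => ?_⟩ :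
      CoverPreserving (Opens.grothendieckTopology X) X.smallEtaleTopology (EtZar.zarToEt X))
  obtain ⟨V, h, hh, hx⟩ := hR x.1 x.2
  exact ⟨(EtZar.zarToEt X).obj V, (EtZar.zarToEt X).map h, (⟨x.1, hx⟩ : (V : Scheme.{u})),
    Sieve.image_mem_functorPushforward (EtZar.zarToEt X) R hh, Subtype.ext (Scheme.homOfLE_apply h.le _)⟩

open Groth.Agent.EtaleSite in
/-- `G_a` has no higher cohomology on affine étale schemes. -/
theorem affVan_Ga (X : Scheme.{u}) : EtZarCmp.AffVan (EtCoh.Ga X) := by
  have key : ∀ (q : ℕ) (W : X.Etale), IsAffine W.left → ∀ F : EtCoh.Ab X, Amitsur.Cech F →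
      Subsingleton (Abelian.Ext (Flasque.freeOn W) F (q + 1)) := by
    intro q
    induction q with
    | zero =>
      intro W hW F hF
      refine SiteCoh.DimShift.subsingleton_one (SiteCoh.DimShift.inj_shortExact F) fun g => ?_
      obtain ⟨s, hs⟩ := Amitsur.sections_surjective _ (SiteCoh.DimShift.inj_shortExact F) hF W
        (Flasque.freeSec W _ g)
      obtain ⟨a, ha⟩ := (Flasque.freeSec_bijective W _).2 s
      refine ⟨a, (Flasque.freeSec_bijective W _).1 ((Flasque.freeSec_comp W a _).trans ?_)⟩
      rw [ha]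
      exact hs
    | succ q ih =>
      intro W hW F hF
      exact SiteCoh.DimShift.subsingleton_succ (SiteCoh.DimShift.inj_shortExact F) q
        (ih W hW _ (Amitsur.cech_X₃ _ (SiteCoh.DimShift.inj_shortExact F) hF))
  intro W hW q hq
  obtain ⟨r, rfl⟩ : ∃ r, q = r + 1 := ⟨q - 1, by omega⟩
  exact key r W hW _ Amitsur.cech_Ga

set_option backward.isDefEq.respectTransparency false in
/-- The restriction of `G_a` to the opens is the structure sheaf. -/
noncomputable def resGaIso (X : Scheme.{u}) [EtZar.ZarCont X] :
    (EtZar.resZar X).obj (EtCoh.Ga X) ≅ (EtZarUlift.lift X).obj (Coh.toAb (Coh.structureModule X)) :=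
  (sheafToPresheaf _ _).preimageIso (NatIso.ofComponents
    (fun U => AddCommGrpCat.uliftFunctor.{u + 1}.mapIso
      ((forget₂ CommRingCat RingCat ⋙ forget₂ RingCat AddCommGrpCat).mapIso ((Scheme.Opens.topIso (X := X) U.unop))))
    (fun {U V} f => by
      refine AddCommGrpCat.hom_ext (DFunLike.ext _ _ fun x => ?_)
      obtain ⟨x⟩ : ULift.{u + 1} Γ((EtZar.zarToEt X).obj U.unop |>.left, ⊤) := x
      refine ULift.ext _ _ ?_
      have hnat : (X.homOfLE f.unop.le).appTop ≫ (Scheme.Opens.topIso (X := X) V.unop).hom =
          (Scheme.Opens.topIso (X := X) U.unop).hom ≫ X.presheaf.map f := by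
        simp only [Scheme.Opens.topIso_hom, Scheme.homOfLE_appTop, ← Functor.map_comp]
        congr 1
      exact ConcreteCategory.congr_hom hnat x))

/-- For any scheme X and every p, the étale cohomology group H^p(X_ét, G_a) of the additive group sheaf
is isomorphic, as an additive group, to the Zariski cohomology group H^p(X, O_X) of the structure
sheaf. (Only the existence of an additive isomorphism is asserted; the published statement gives a
canonical identification.) -/
theorem result (X : Scheme.{u}) (p : ℕ) :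
    Nonempty (EtCoh.H X (EtCoh.Ga X) p ≃+ Coh.HH X (Coh.structureModule X) p) := by
  haveI := zarCont X
  obtain ⟨e⟩ := EtZarCmp.nonempty_zarH_equiv (EtCoh.Ga X) (affVan_Ga X) p
  obtain ⟨e'⟩ := EtZarUlift.nonempty_H_lift_equiv p (Coh.toAb (Coh.structureModule X))
  exact ⟨e.symm.trans (((Sheaf.functorH _ p).mapIso (resGaIso X)).addCommGroupIsoToAddEquiv.trans e')⟩

end Groth.Agent.S0110
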