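import Groth.Statements.S16238
import Mathlib.Algebra.Homology.ShortComplex.Linear
import Groth.Agent.LocCoh.TorProZero
import Mathlib.RingTheory.Regular.RegularSequence
import Mathlib.RingTheory.Finiteness.Basic

set_option autoImplicit false
universe u
open CategoryTheory
open CAlg

namespace Groth.Agent.S16238

open Groth.Agent.LocCoh.Tor RingTheory.Sequence CategoryTheory TensorProduct MonoidalCategory in
theorem tf_smul {A : Type u} [CommRing A] {M : ModuleCat.{u} A} (r : A) (n : ℕ) (N : ModuleCat.{u} A) :
    tf (r • 𝟙 M) n N = r • 𝟙 (T n M N) := by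
  let R := projectiveResolution N
  have h := tIso_naturality R (r • 𝟙 M) n
  have h1 : (tC R).map (r • 𝟙 M) = r • 𝟙 ((tC R).obj M) := HomologicalComplex.hom_ext _ _ fun i => by
    refine ModuleCat.MonoidalCategory.tensor_ext (M₁ := M) (M₂ := R.complex.X i) (fun m z => ?_)
    show (r • m) ⊗ₜ[A] z = r • (m ⊗ₜ[A] z)
    rw [TensorProduct.smul_tmul']
  have h2 : HomologicalComplex.homologyMap (r • 𝟙 ((tC R).obj M)) n = r • HomologicalComplex.homologyMap (𝟙 ((tC R).obj M)) n := by
    exact @ShortComplex.homologyMap_smul A (ModuleCat.{u} A) _ _ _ _ _ _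
      ((HomologicalComplex.shortComplexFunctor (ModuleCat.{u} A) (ComplexShape.down ℕ) n).map (𝟙 ((tC R).obj M))) r _ _
  rw [h1, h2, HomologicalComplex.homologyMap_id, Linear.comp_smul, Category.comp_id] at h
  rw [← cancel_mono (tIso R n M).hom, h, Linear.smul_comp, Category.id_comp]

open Groth.Agent.LocCoh.Tor RingTheory.Sequence CategoryTheory TensorProduct MonoidalCategory IsLocalRing in
theorem main_aux {A : Type u} [CommRing A] [IsNoetherianRing A] [IsLocalRing A] (N : ModuleCat.{u} A) [Module.Finite A N] :
    ∀ rs : List A, IsWeaklyRegular A rs → (∀ r ∈ rs, r ∈ maximalIdeal A) →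
      (∀ i, Module.Finite A (T i (ModuleCat.of A (A ⧸ Ideal.ofList rs)) N)) ∧
      (IsWeaklyRegular N rs ↔ ∀ i, ∀ z : T (i + 1) (ModuleCat.of A (A ⧸ Ideal.ofList rs)) N, z = 0) := by
  intro rs
  induction rs using List.reverseRecOn with
  | nil =>
    intro _ _
    haveI : Module.Flat A (ModuleCat.of A (A ⧸ Ideal.ofList ([] : List A))) :=
      Module.Flat.of_linearEquiv (Submodule.quotEquivOfEqBot (Ideal.ofList ([] : List A)) Ideal.ofList_nil)
    refine ⟨fun i => ?_, iff_of_true (IsWeaklyRegular.nil A _) fun i z => tor_succ_eq_zero_of_flat _ i N z⟩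
    rcases i with - | i
    · haveI : Module.Finite A ((A ⧸ Ideal.ofList ([] : List A)) ⊗[A] N) := inferInstance
      exact Module.Finite.equiv (M := (A ⧸ Ideal.ofList ([] : List A)) ⊗[A] N) (t0 (ModuleCat.of A (A ⧸ Ideal.ofList ([] : List A))) N).toLinearEquiv.symm
    · haveI : Subsingleton (T (i + 1) (ModuleCat.of A (A ⧸ Ideal.ofList ([] : List A))) N) :=
        ⟨fun x y => (tor_succ_eq_zero_of_flat _ i N x).trans (tor_succ_eq_zero_of_flat _ i N y).symm⟩
      infer_instance
  | append_singleton rs a ih =>
    intro hreg hmem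
    rw [isWeaklyRegular_append_iff] at hreg
    obtain ⟨hreg, hrega⟩ := hreg
    have ha : a ∈ maximalIdeal A := hmem a (by simp)
    obtain ⟨hfin, hiff⟩ := ih hreg (fun r hr => hmem r (List.mem_append_left _ hr))
    set I := Ideal.ofList rs
    have hI' : Ideal.ofList (rs ++ [a]) = I ⊔ Ideal.span {a} := by
      rw [Ideal.ofList_append, Ideal.ofList_singleton]
    have hle : I ≤ Ideal.ofList (rs ++ [a]) := hI' ▸ le_sup_left
    have ha' : a ∈ Ideal.ofList (rs ++ [a]) := Ideal.subset_span (by simp)
    let Q := ModuleCat.of A (A ⧸ I)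
    let S : ShortComplex (ModuleCat.{u} A) := ShortComplex.mk (X₁ := Q) (X₂ := Q) (a • 𝟙 Q)
      (ModuleCat.ofHom (Submodule.factor hle)) (by
        refine ModuleCat.hom_ext (LinearMap.ext fun z => ?_)
        obtain ⟨z, rfl⟩ := Submodule.Quotient.mk_surjective _ z
        show Submodule.factor hle (a • Submodule.Quotient.mk z) = 0
        rw [← Submodule.Quotient.mk_smul, Submodule.factor, Submodule.mapQ_apply, Submodule.Quotient.mk_eq_zero]
        exact Ideal.mul_mem_right z _ ha')
    have haQ : IsSMulRegular (A ⧸ I) a := by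
      have h := (isWeaklyRegular_cons_iff _ _ _).1 hrega
      exact (LinearEquiv.isSMulRegular_congr (Submodule.quotEquivOfEq (I • ⊤ : Submodule A A) I (by rw [smul_eq_mul, Ideal.mul_top])) a).1 h.1
    have hS : S.ShortExact := by
      refine ShortComplex.ShortExact.moduleCat_exact_iff_function_exact S |> fun _ => ?_
      refine { exact := (ShortComplex.ShortExact.moduleCat_exact_iff_function_exact S).2 ?_, mono_f := ?_, epi_g := ?_ }
      · intro z
        refine ⟨fun hz => ?_, ?_⟩
        · obtain ⟨z, rfl⟩ := Submodule.Quotient.mk_surjective _ z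
          have hz' : z ∈ I ⊔ Ideal.span {a} := by
            rw [← hI']
            exact (Submodule.Quotient.mk_eq_zero _).1 hz
          obtain ⟨i, hi, j, hj, rfl⟩ := Submodule.mem_sup.1 hz'
          obtain ⟨w, rfl⟩ := Ideal.mem_span_singleton.1 hj
          refine ⟨Submodule.Quotient.mk w, ?_⟩
          show a • (Submodule.Quotient.mk w : A ⧸ I) = (Submodule.Quotient.mk (i + a * w) : A ⧸ I)
          rw [← Submodule.Quotient.mk_smul, Submodule.Quotient.eq, smul_eq_mul, sub_add_cancel_right]
          exact neg_mem hi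
        · rintro ⟨w, rfl⟩
          exact congrArg (fun k => k.hom w) S.zero
      · exact (ModuleCat.mono_iff_injective _).2 haQ
      · exact (ModuleCat.epi_iff_surjective _).2 (Submodule.factor_surjective hle)
    have hf : ∀ i (z : T i Q N), (tf S.f i N).hom z = a • z := fun i z => by
      show (tf (a • 𝟙 Q) i N).hom z = _
      rw [tf_smul]; rfl
    refine ⟨fun i => ?_, ?_⟩
    · haveI := hfin i
      rcases i with - | i
      · haveI : Module.Finite A ((A ⧸ Ideal.ofList (rs ++ [a])) ⊗[A] N) := inferInstance
        exact Module.Finite.equiv (M := (A ⧸ Ideal.ofList (rs ++ [a])) ⊗[A] N) (t0 (ModuleCat.of A (A ⧸ Ideal.ofList (rs ++ [a]))) N).toLinearEquiv.symm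
      · haveI := hfin i
        haveI : IsNoetherian A (T i Q N) := isNoetherian_of_isNoetherianRing_of_finite A (T i Q N)
        let f := (torδ hS i N).hom
        let g := (tf S.g (i + 1) N).hom
        haveI : Module.Finite A (T (i + 1) S.X₂ N) := hfin (i + 1)
        haveI : Module.Finite A (LinearMap.ker f) := by
          rw [show LinearMap.ker f = LinearMap.range g from LinearMap.exact_iff.1 (tor_exact₃ hS i N)]
          exact Module.Finite.range g
        haveI : Module.Finite A (LinearMap.range f) := Module.Finite.of_fg (IsNoetherian.noetherian _)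
        haveI : Module.Finite A (T (i + 1) S.X₃ N ⧸ LinearMap.ker f) := Module.Finite.equiv f.quotKerEquivRange.symm
        exact Module.Finite.of_submodule_quotient (M := T (i + 1) S.X₃ N) (LinearMap.ker f)
    · rw [isWeaklyRegular_append_iff, hiff]
      haveI : Module.Finite A (T 0 Q N) := hfin 0
      have hreg0 : IsWeaklyRegular (N ⧸ (I • ⊤ : Submodule A N)) [a] ↔ IsSMulRegular (T 0 Q N) a := by
        rw [isWeaklyRegular_cons_iff, and_iff_left (IsWeaklyRegular.nil A _)]
        exact ((t0 Q N).toLinearEquiv.trans (TensorProduct.quotTensorEquivQuotSMul N I)).isSMulRegular_congr a |>.symm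
      rw [hreg0]
      constructor
      · rintro ⟨hz, h0⟩ i z
        obtain ⟨y, rfl⟩ : z ∈ Set.range (tf S.g (i + 1) N).hom := by
          refine (tor_exact₃ hS i N z).1 ?_
          rcases i with - | i
          · have h1 := (tor_exact₁ hS 0 N).apply_apply_eq_zero z
            rw [hf] at h1
            exact h0 (h1.trans (smul_zero a).symm)
          · exact hz i _
        rw [hz i y, map_zero]
      · intro hz
        have hzero : ∀ i (w : T (i + 1) Q N), w = 0 := by
          intro i w
          haveI := hfin (i + 1)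
          have htop : (⊤ : Submodule A (T (i + 1) Q N)) ≤ Ideal.span {a} • (⊤ : Submodule A (T (i + 1) Q N)) := by
            intro v _
            obtain ⟨v', hv'⟩ := (tor_exact₂ hS (i + 1) N v).1 (hz i _)
            rw [hf] at hv'
            rw [← hv']
            exact Submodule.smul_mem_smul (Ideal.mem_span_singleton_self a) Submodule.mem_top
          have := Submodule.eq_bot_of_le_smul_of_le_jacobson_bot _ _ Module.Finite.fg_top htop
            ((Ideal.span_singleton_le_iff_mem _).2 (maximalIdeal_le_jacobson _ ha))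
          exact (Submodule.eq_bot_iff _).1 this w Submodule.mem_top
        refine ⟨hzero, fun v w hvw => ?_⟩
        have h1 : (tf S.f 0 N).hom (v - w) = 0 := by rw [hf, smul_sub, sub_eq_zero]; exact hvw
        obtain ⟨u', hu'⟩ := (tor_exact₁ hS 0 N (v - w)).1 h1
        rw [hz 0 u', map_zero] at hu'
        exact sub_eq_zero.1 hu'.symm

/-- Let A be a Noetherian local ring, x_1, …, x_n a regular sequence on A (each x_i a non-zero-divisor
on A/(x_1, …, x_{i-1})) generating the ideal I, and J an ideal with I + J ≠ A. Then the images of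
x_1, …, x_n form a regular sequence on A/J if and only if Tor_i^A(A/I, A/J) = 0 for all i ≥ 1 (in
degree 0 the Tor is A/(I + J) in any case). (The published statement does not ask the x_i to form a
regular sequence on A itself; without this the equivalence fails, for instance for A = k[e]/(e²), n
= 1, x_1 = e and J = 0, where every higher Tor of A/(e) against the free module A vanishes although
e is a zero-divisor.) -/
theorem result (A : Type u) [CommRing A] [IsNoetherianRing A] [IsLocalRing A]
    (n : ℕ) (x : Fin n → A) (hx : RingTheory.Sequence.IsWeaklyRegular A (List.ofFn x))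
    (J : Ideal A) (hIJ : Ideal.span (Set.range x) ⊔ J ≠ ⊤) :
    RingTheory.Sequence.IsWeaklyRegular (A ⧸ J) (List.ofFn (fun i : Fin n => Ideal.Quotient.mk J (x i))) ↔
      ∀ i : ℕ, 1 ≤ i → Limits.IsZero (((Tor (ModuleCat.{u} A) i).obj
        (ModuleCat.of A (A ⧸ Ideal.span (Set.range x)))).obj (ModuleCat.of A (A ⧸ J))) := by
  classical
  set I := Ideal.span (Set.range x)
  have hI : Ideal.ofList (List.ofFn x) = I := by
    show Ideal.span {r | r ∈ List.ofFn x} = _
    congr 1
    ext r
    simp [List.mem_ofFn]
  have hmem : ∀ r ∈ List.ofFn x, r ∈ IsLocalRing.maximalIdeal A := fun r hr => by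
    refine IsLocalRing.le_maximalIdeal hIJ (Ideal.mem_sup_left ?_)
    rw [← hI]
    exact Ideal.subset_span hr
  have h := (main_aux (ModuleCat.of A (A ⧸ J)) (List.ofFn x) hx hmem).2
  rw [hI] at h
  rw [show (List.ofFn fun i : Fin n => Ideal.Quotient.mk J (x i)) = (List.ofFn x).map (algebraMap A (A ⧸ J)) by
    rw [List.map_ofFn]; rfl, RingTheory.Sequence.isWeaklyRegular_map_algebraMap_iff, h]
  refine ⟨fun hz i hi => ?_, fun hz i z => ?_⟩
  · obtain ⟨j, rfl⟩ : ∃ j, i = j + 1 := ⟨i - 1, by omega⟩
    rw [ModuleCat.isZero_iff_subsingleton]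
    exact ⟨fun a b => (hz j a).trans (hz j b).symm⟩
  · haveI := ModuleCat.subsingleton_of_isZero (hz (i + 1) (by omega))
    exact Subsingleton.elim _ _

end Groth.Agent.S16238
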