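import Mathlib.CategoryTheory.EffectiveEpi.Comp
import Mathlib.CategoryTheory.MorphismProperty.Limits
import Mathlib.CategoryTheory.Limits.Shapes.Pullback.IsPullback.Basic
import Mathlib.CategoryTheory.Comma.Over.Pullback

/-!
# Universal effective epimorphisms
-/

set_option autoImplicit false
open CategoryTheory CategoryTheory.Limits
universe v u

namespace Groth.Agent.DescCatLib

variable {C : Type u} [Category.{v} C]

/-- Being a universal effective epimorphism. -/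
abbrev Uee : MorphismProperty C :=
  MorphismProperty.universally (fun (A B : C) (p : A ⟶ B) => EffectiveEpi p)

theorem effectiveEpi_mk {X Y : C} (f : X ⟶ Y)
    (h : ∀ {W : C} (e : X ⟶ W), (∀ {Z : C} (g₁ g₂ : Z ⟶ X), g₁ ≫ f = g₂ ≫ f → g₁ ≫ e = g₂ ≫ e) →
      ∃! m : Y ⟶ W, f ≫ m = e) : EffectiveEpi f :=
  ⟨⟨{ desc := fun e he => (h e he).exists.choose
      fac := fun e he => (h e he).exists.choose_spec
      uniq := fun e he _ hm => (h e he).unique hm (h e he).exists.choose_spec }⟩⟩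

theorem uee_effectiveEpi {X Y : C} {f : X ⟶ Y} (hf : Uee f) : EffectiveEpi f :=
  MorphismProperty.universally_le (fun (A B : C) (p : A ⟶ B) => EffectiveEpi p) f hf

theorem uee_of_isPullback {X Y X' Y' : C} {f : X ⟶ Y} {f' : X' ⟶ Y'} {i₁ : X' ⟶ X} {i₂ : Y' ⟶ Y}
    (h : IsPullback f' i₁ i₂ f) (hf : Uee f) : Uee f' :=
  (MorphismProperty.universally_isStableUnderBaseChange _).of_isPullback h.flip hf

theorem uee_pullback_snd {X Y Z : C} {f : X ⟶ Y} (g : Z ⟶ Y) [HasPullback f g] (hf : Uee f) :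
    Uee (pullback.snd f g) :=
  uee_of_isPullback (IsPullback.of_hasPullback f g).flip hf

theorem uee_pullback_fst {X Y Z : C} (g : Z ⟶ Y) {f : X ⟶ Y} [HasPullback g f] (hf : Uee f) :
    Uee (pullback.fst g f) :=
  uee_of_isPullback (IsPullback.of_hasPullback g f) hf

/-- Every morphism into the target of a universal effective epi lifts after a universal effective epi. -/
theorem exists_cover [HasPullbacks C] {S' S Z : C} {f : S' ⟶ S} (hf : Uee f) (g : Z ⟶ S) :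
    ∃ (Z' : C) (e : Z' ⟶ Z) (l : Z' ⟶ S'), Uee e ∧ Epi e ∧ e ≫ g = l ≫ f :=
  ⟨pullback g f, pullback.fst g f, pullback.snd g f, uee_pullback_fst g hf,
    by have := uee_effectiveEpi (uee_pullback_fst g hf); infer_instance, pullback.condition⟩

theorem effectiveEpi_comp [HasPullbacks C] {U T S : C} (v : U ⟶ T) (u : T ⟶ S)
    [EffectiveEpi u] [EffectiveEpi v]
    (hv : MorphismProperty.universally (MorphismProperty.epimorphisms C) v) :
    EffectiveEpi (v ≫ u) := by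
  refine effectiveEpi_mk _ fun {W} e he => ?_
  have h1 : ∀ {Z : C} (g₁ g₂ : Z ⟶ U), g₁ ≫ v = g₂ ≫ v → g₁ ≫ e = g₂ ≫ e := by
    intro Z g₁ g₂ h
    exact he _ _ (by rw [reassoc_of% h])
  have h2 : ∀ {Z : C} (g₁ g₂ : Z ⟶ T), g₁ ≫ u = g₂ ≫ u →
      g₁ ≫ EffectiveEpi.desc v e h1 = g₂ ≫ EffectiveEpi.desc v e h1 := by
    intro Z g₁ g₂ h
    have e1 : Epi (pullback.fst g₁ v) := hv _ _ _ (IsPullback.of_hasPullback g₁ v)
    have e2 : Epi (pullback.fst (pullback.fst g₁ v ≫ g₂) v) :=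
      hv _ _ _ (IsPullback.of_hasPullback _ v)
    rw [← cancel_epi (pullback.fst g₁ v), ← cancel_epi (pullback.fst (pullback.fst g₁ v ≫ g₂) v)]
    have a : pullback.fst g₁ v ≫ g₁ = pullback.snd g₁ v ≫ v := pullback.condition
    have b : pullback.fst (pullback.fst g₁ v ≫ g₂) v ≫ pullback.fst g₁ v ≫ g₂ =
      pullback.snd (pullback.fst g₁ v ≫ g₂) v ≫ v := pullback.condition
    rw [reassoc_of% a, reassoc_of% b, EffectiveEpi.fac]
    have hh := he (pullback.fst (pullback.fst g₁ v ≫ g₂) v ≫ pullback.snd g₁ v)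
      (pullback.snd (pullback.fst g₁ v ≫ g₂) v)
      (by rw [Category.assoc, ← reassoc_of% a, h, ← reassoc_of% b])
    simpa only [Category.assoc] using hh
  refine ⟨EffectiveEpi.desc u _ h2, by simp, fun m hm => ?_⟩
  rw [← cancel_epi u, ← cancel_epi v, EffectiveEpi.fac, EffectiveEpi.fac, ← hm, Category.assoc]

theorem uee_epi {X Y : C} {f : X ⟶ Y} (hf : Uee f) :
    MorphismProperty.universally (MorphismProperty.epimorphisms C) f := by
  intro X' Y' i₁ i₂ f' h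
  have : EffectiveEpi f' := hf _ _ _ h
  exact (MorphismProperty.epimorphisms.iff f').2 inferInstance

theorem uee_comp [HasPullbacks C] {U T S : C} (v : U ⟶ T) (u : T ⟶ S) (hv : Uee v) (hu : Uee u) :
    Uee (v ≫ u) := by
  intro X' Y' i₁ i₂ f' H
  have := pullback.lift_fst _ _ (H.w.trans (Category.assoc _ _ _).symm)
  rw [← this] at H ⊢
  have hv' := uee_of_isPullback (H.of_right (pullback.lift_snd _ _ _) (IsPullback.of_hasPullback i₂ u)) hv
  have hu' := uee_of_isPullback (IsPullback.of_hasPullback i₂ u) hu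
  have := uee_effectiveEpi hv'
  have := uee_effectiveEpi hu'
  exact effectiveEpi_comp _ _ (uee_epi hv')

theorem uee_of_comp [HasPullbacks C] {U T S : C} (v : U ⟶ T) (u : T ⟶ S) (h : Uee (v ≫ u)) :
    Uee u := by
  intro T' S' i₁ i₂ u' H
  let v' : pullback i₁ v ⟶ T' := pullback.fst i₁ v
  have hc : Uee (v' ≫ u') :=
    uee_of_isPullback ((IsPullback.of_hasPullback i₁ v).paste_horiz H) h
  have he := uee_effectiveEpi hc
  refine effectiveEpi_mk _ fun {W} e he' => ?_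
  have h1 : ∀ {Z : C} (g₁ g₂ : Z ⟶ pullback i₁ v),
      g₁ ≫ v' ≫ u' = g₂ ≫ v' ≫ u' → g₁ ≫ v' ≫ e = g₂ ≫ v' ≫ e := by
    intro Z g₁ g₂ hg
    simpa only [Category.assoc] using he' (g₁ ≫ v') (g₂ ≫ v') (by simpa only [Category.assoc] using hg)
  refine ⟨EffectiveEpi.desc (v' ≫ u') (v' ≫ e) h1, ?_, fun m hm => ?_⟩
  · obtain ⟨Z', q, l, -, hq, hl⟩ := exists_cover hc u'
    rw [← cancel_epi q, reassoc_of% hl]
    rw [show l ≫ v' ≫ u' ≫ EffectiveEpi.desc (v' ≫ u') (v' ≫ e) h1 = l ≫ v' ≫ e from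
      congrArg (l ≫ ·) (by rw [← Category.assoc, EffectiveEpi.fac])]
    simpa only [Category.assoc] using (he' q (l ≫ v') (by simpa only [Category.assoc] using hl)).symm
  · rw [← cancel_epi (v' ≫ u'), EffectiveEpi.fac, ← hm, Category.assoc]

theorem uee_iff_baseChange [HasPullbacks C] {S' S T : C} {g : S' ⟶ S} (hg : Uee g) (u : T ⟶ S) :
    Uee u ↔ Uee (pullback.snd u g) := by
  refine ⟨uee_pullback_snd g, fun h => uee_of_comp (pullback.fst u g) u ?_⟩
  rw [pullback.condition]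
  exact uee_comp _ _ h hg

theorem uee_id (X : C) : Uee (𝟙 X) := by
  intro X' Y' i₁ i₂ f' h
  have : IsIso f' := h.flip.isIso_snd_of_isIso
  infer_instance

theorem uee_of_isIso {X Y : C} (f : X ⟶ Y) [IsIso f] : Uee f := by
  intro X' Y' i₁ i₂ f' h
  have : IsIso f' := h.flip.isIso_snd_of_isIso
  infer_instance

theorem isIso_of_mono_effectiveEpi {X Y : C} (f : X ⟶ Y) [Mono f] [EffectiveEpi f] : IsIso f :=
  have h : ∀ {Z : C} (g₁ g₂ : Z ⟶ X), g₁ ≫ f = g₂ ≫ f → g₁ ≫ 𝟙 X = g₂ ≫ 𝟙 X :=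
    fun g₁ g₂ h => by rw [(cancel_mono f).1 h]
  ⟨⟨EffectiveEpi.desc f (𝟙 X) h, EffectiveEpi.fac f _ h, by
    rw [← cancel_epi f, ← Category.assoc, EffectiveEpi.fac]; simp⟩⟩

/-- Monomorphism criterion through a universal effective epi onto the source. -/
theorem mono_of_cover [HasPullbacks C] {S' S T : C} {f : S' ⟶ S} (hf : Uee f) (g : S ⟶ T)
    (h : ∀ {Z : C} (a b : Z ⟶ S'), a ≫ f ≫ g = b ≫ f ≫ g → a ≫ f = b ≫ f) : Mono g := by
  refine ⟨fun {Z} a b hab => ?_⟩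
  obtain ⟨Z₁, e₁, l₁, -, _, hl₁⟩ := exists_cover hf a
  obtain ⟨Z₂, e₂, l₂, -, _, hl₂⟩ := exists_cover hf (e₁ ≫ b)
  rw [← cancel_epi e₁, ← cancel_epi e₂, hl₁, hl₂, ← Category.assoc]
  refine h _ _ ?_
  rw [Category.assoc, ← reassoc_of% hl₁, hab, ← reassoc_of% hl₂]

theorem mono_iff_baseChange [HasPullbacks C] {X Y X' Y' : C} {g : X ⟶ Y} {g' : X' ⟶ Y'}
    {e : Y' ⟶ Y} {e' : X' ⟶ X} (h : IsPullback g' e' e g) (he : Uee e) : Mono g ↔ Mono g' := by
  refine ⟨fun _ => ⟨fun a b hab => h.hom_ext hab (by rw [← cancel_mono g, Category.assoc, Category.assoc, ← h.w, reassoc_of% hab])⟩, fun _ => ?_⟩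
  have he' : Uee e' := uee_of_isPullback h.flip he
  refine ⟨fun {Z} a b hab => ?_⟩
  obtain ⟨Z', q, l, -, _, hl⟩ := exists_cover he (a ≫ g)
  obtain ⟨la, hla₁, hla₂⟩ : ∃ la, la ≫ g' = l ∧ la ≫ e' = q ≫ a :=
    ⟨h.lift l (q ≫ a) (by rw [← hl, Category.assoc]), h.lift_fst _ _ _, h.lift_snd _ _ _⟩
  obtain ⟨lb, hlb₁, hlb₂⟩ : ∃ lb, lb ≫ g' = l ∧ lb ≫ e' = q ≫ b :=
    ⟨h.lift l (q ≫ b) (by rw [← hl, hab, Category.assoc]), h.lift_fst _ _ _, h.lift_snd _ _ _⟩
  rw [← cancel_epi q, ← hla₂, ← hlb₂, (cancel_mono g').1 (hla₁.trans hlb₁.symm)]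

theorem isIso_iff_baseChange [HasPullbacks C] {X Y X' Y' : C} {g : X ⟶ Y} {g' : X' ⟶ Y'}
    {e : Y' ⟶ Y} {e' : X' ⟶ X} (h : IsPullback g' e' e g) (he : Uee e) : IsIso g ↔ IsIso g' := by
  refine ⟨fun _ => h.flip.isIso_snd_of_isIso, fun _ => ?_⟩
  have : Mono g := (mono_iff_baseChange h he).2 inferInstance
  have hg : Uee g := by
    refine uee_of_comp e' g ?_
    rw [← h.w]
    exact uee_comp _ _ (uee_of_isIso g') he
  have := uee_effectiveEpi hg
  exact isIso_of_mono_effectiveEpi g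

/-- Descent of morphisms into a monomorphism along a universal effective epi. -/
theorem exists_lift_of_mono {X' X Y S : C} {e : X' ⟶ X} (he : Uee e) (x : X ⟶ S) (y : Y ⟶ S)
    [Mono y] (a : X' ⟶ Y) (ha : a ≫ y = e ≫ x) : ∃ k : X ⟶ Y, k ≫ y = x := by
  have := uee_effectiveEpi he
  have h : ∀ {Z : C} (g₁ g₂ : Z ⟶ X'), g₁ ≫ e = g₂ ≫ e → g₁ ≫ a = g₂ ≫ a := by
    intro Z g₁ g₂ hg
    rw [← cancel_mono y, Category.assoc, Category.assoc, ha, reassoc_of% hg]
  exact ⟨EffectiveEpi.desc e a h, by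
    rw [← cancel_epi e, ← Category.assoc, EffectiveEpi.fac, ha]⟩

end Groth.Agent.DescCatLib
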