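import Groth.Statements.S0233
import Groth.Agent.InvExt.Main
import Groth.Agent.PerfSch.DescSec
-- import your own Groth.Agent.* helpers here

set_option linter.style.haveILetI false
set_option backward.isDefEq.respectTransparency false
set_option backward.isDefEq.respectTransparency.types false

set_option autoImplicit false
universe u
open CategoryTheory CategoryTheory.Limits AlgebraicGeometry
open Curves

namespace Groth.Agent.S0233

open Groth.Agent TopologicalSpace Groth.Agent.InvExt Groth.Agent.QCoh Groth.Agent.Props.GenLocus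

/-- In a factorial domain, units at all principal primes below a prime are units there. -/
theorem un_of_prime {A K : Type u} [CommRing A] [IsDomain A] [UniqueFactorizationMonoid A] [Field K]
    [Algebra A K] [IsFractionRing A K] (q : Ideal A) [q.IsPrime] {c : K} (hc : c ≠ 0)
    (h : ∀ π : A, Prime π → π ∈ q → Un (Ideal.span {π}) c) : Un q c := by
  obtain ⟨a, b, hb, hab⟩ := IsFractionRing.div_surjective (A := A) c
  have hb0 : b ≠ 0 := nonZeroDivisors.ne_zero hb
  have ha0 : a ≠ 0 := fun h0 => hc (by rw [← hab, h0, map_zero, zero_div])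
  have hbK : algebraMap A K b ≠ 0 := IsFractionRing.to_map_ne_zero_of_mem_nonZeroDivisors hb
  obtain ⟨a', b', g, hcop, hga, hgb⟩ := UniqueFactorizationMonoid.exists_reduced_factors a ha0 b
  have hA : a * b' = b * a' := by rw [← hga, ← hgb]; ring
  have hcb : c * algebraMap A K b' = algebraMap A K a' := by
    rw [← hab, div_mul_eq_mul_div, div_eq_iff hbK, ← map_mul, ← map_mul, hA, mul_comm]
  have key : ∀ π : A, Prime π → π ∈ q → (π ∣ a' ∨ π ∣ b') → π ∣ a' ∧ π ∣ b' := by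
    intro π hπ hπq hd
    obtain ⟨a₁, b₁, ha₁, hb₁, hcb₁⟩ := h π hπ hπq
    have h1 : a' * b₁ = b' * a₁ := by
      refine IsFractionRing.injective A K ?_
      rw [map_mul, map_mul, ← hcb, ← hcb₁]
      ring
    rcases hd with hd | hd
    · exact ⟨hd, (hπ.dvd_or_dvd (h1 ▸ hd.mul_right b₁)).resolve_right
        fun h' => ha₁ (Ideal.mem_span_singleton.mpr h')⟩
    · exact ⟨(hπ.dvd_or_dvd (h1.symm ▸ hd.mul_right a₁)).resolve_right
        fun h' => hb₁ (Ideal.mem_span_singleton.mpr h'), hd⟩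
  have hf : ∀ w : A, w ≠ 0 → w ∈ q → ∃ π, Prime π ∧ π ∈ q ∧ π ∣ w := by
    intro w hw0
    induction w using UniqueFactorizationMonoid.induction_on_prime with
    | h₁ => exact absurd rfl hw0
    | h₂ x hx => exact fun hxm => absurd (Ideal.eq_top_of_isUnit_mem _ hxm hx) ‹q.IsPrime›.ne_top
    | h₃ x π hx hπ ih =>
      intro hm
      rcases ‹q.IsPrime›.mem_or_mem hm with hm | hm
      · exact ⟨π, hπ, hm, dvd_mul_right _ _⟩
      · obtain ⟨τ, h1, h2, h3⟩ := ih hx hm
        exact ⟨τ, h1, h2, h3.mul_left _⟩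
  refine ⟨a', b', fun ha => ?_, fun hb' => ?_, hcb⟩
  · obtain ⟨π, hπ, hπq, hd⟩ := hf a' (fun h0 => ha0 (by rw [← hga, h0, mul_zero])) ha
    obtain ⟨h1, h2⟩ := key π hπ hπq (Or.inl hd)
    exact hπ.not_isUnit (hcop h1 h2)
  · obtain ⟨π, hπ, hπq, hd⟩ := hf b' (fun h0 => hb0 (by rw [← hgb, h0, mul_zero])) hb'
    obtain ⟨h1, h2⟩ := key π hπ hπq (Or.inr hd)
    exact hπ.not_isUnit (hcop h1 h2)

/-- In a factorial domain, orders at finitely many principal primes can be prescribed. -/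
theorem exists_prescribed {A K : Type u} [CommRing A] [IsDomain A] [UniqueFactorizationMonoid A] [Field K]
    [Algebra A K] [IsFractionRing A K] (S : Finset (Ideal A)) (c : Ideal A → K)
    (hS : ∀ p ∈ S, ∃ π : A, Prime π ∧ p = Ideal.span {π}) (hc : ∀ p ∈ S, c p ≠ 0) :
    ∃ f : K, f ≠ 0 ∧ (∀ p ∈ S, Un p (f / c p)) ∧
      ∀ π : A, Prime π → Ideal.span {π} ∉ S → Un (Ideal.span {π}) f := by
  classical
  have hsingle : ∀ p : {p // p ∈ S}, ∃ g : K, g ≠ 0 ∧ Un p.1 (g / c p.1) ∧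
      ∀ σ : A, Prime σ → Ideal.span {σ} ≠ p.1 → Un (Ideal.span {σ}) g := by
    rintro ⟨p, hp⟩
    obtain ⟨π, hπ, rfl⟩ := hS p hp
    haveI := (Ideal.span_singleton_prime hπ.ne_zero).mpr hπ
    have hπK : algebraMap A K π ≠ 0 := fun h0 => hπ.ne_zero (IsFractionRing.to_map_eq_zero_iff.mp h0)
    obtain ⟨a, b, hb, hab⟩ := IsFractionRing.div_surjective (A := A) (c (Ideal.span {π}))
    have hb0 : b ≠ 0 := nonZeroDivisors.ne_zero hb
    have ha0 : a ≠ 0 := fun h0 => hc _ hp (by rw [← hab, h0, map_zero, zero_div])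
    obtain ⟨m, a', ha', hea⟩ := WfDvdMonoid.max_power_factor ha0 hπ.irreducible
    obtain ⟨l, b', hb', heb⟩ := WfDvdMonoid.max_power_factor hb0 hπ.irreducible
    refine ⟨algebraMap A K π ^ m / algebraMap A K π ^ l,
      div_ne_zero (pow_ne_zero _ hπK) (pow_ne_zero _ hπK), ⟨b', a', ?_, ?_, ?_⟩, fun σ hσ hne => ?_⟩
    · exact fun h => hb' (Ideal.mem_span_singleton.mp h)
    · exact fun h => ha' (Ideal.mem_span_singleton.mp h)
    · rw [← hab, hea, heb, map_mul, map_mul, map_pow, map_pow]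
      have h1 : algebraMap A K a' ≠ 0 := fun h0 => ha0 (by
        rw [hea, IsFractionRing.to_map_eq_zero_iff.mp h0, mul_zero])
      have h2 : algebraMap A K b' ≠ 0 := fun h0 => hb0 (by
        rw [heb, IsFractionRing.to_map_eq_zero_iff.mp h0, mul_zero])
      field_simp
    · haveI := (Ideal.span_singleton_prime hσ.ne_zero).mpr hσ
      have hπσ : π ∉ Ideal.span {σ} := fun h =>
        hne (Ideal.span_singleton_eq_span_singleton.mpr
          (hσ.associated_of_dvd hπ (Ideal.mem_span_singleton.mp h)))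
      have h1 := Un.of_notMem (K := K) hπσ
      rw [← zpow_natCast, ← zpow_natCast]
      exact (h1.zpow _).div (h1.zpow _)
  choose g hg0 hgp hgo using hsingle
  refine ⟨∏ p ∈ S.attach, g p, Finset.prod_ne_zero_iff.mpr fun p _ => hg0 p, fun p hp => ?_,
    fun π hπ hnot => ?_⟩
  · obtain ⟨π, hπ, rfl⟩ := hS p hp
    haveI := (Ideal.span_singleton_prime hπ.ne_zero).mpr hπ
    rw [← Finset.mul_prod_erase _ _ (Finset.mem_attach S ⟨_, hp⟩), mul_div_right_comm]
    exact (hgp ⟨_, hp⟩).mul (Un.prod _ _ fun p' hp' => hgo p' π hπ fun h =>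
      (Finset.mem_erase.mp hp').1 (Subtype.ext h.symm))
  · haveI := (Ideal.span_singleton_prime hπ.ne_zero).mpr hπ
    exact Un.prod _ _ fun p' _ => hgo p' π hπ fun h => hnot (h ▸ p'.2)

/-- A normalised generator on any open of an affine chart with factorial functions. -/
theorem exists_gen {X : Scheme.{u}} {M : X.Modules} (C : Chart X) [UniqueFactorizationMonoid Γ(X, C.V)]
    (U : X.Opens) (hUV : U ≤ C.V)
    (hU : ∀ z ∈ U, ∃ (O : X.Opens) (g : Γ(M, O)), z ∈ O ∧ O ≤ U ∧ IsGen M O g) :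
    ∃ g : Γ(M, U), IsGen M U g := by
  classical
  by_cases hη : C.η ∈ U
  swap
  · exact ⟨0, IsGen.of_local fun z hz => absurd (C.η_mem_of_nonempty (hUV hz) hz) hη⟩
  letI := C.fieldK
  obtain ⟨W₀, h, hW₀, hW₀U, hh⟩ := hU _ hη
  let A := Γ(X, C.V)
  have hopen : IsOpen {p : PrimeSpectrum A | C.pt p ∈ W₀} := W₀.2.preimage C.affine.fromSpec.continuous
  obtain ⟨s, hs⟩ := (PrimeSpectrum.isOpen_iff _).mp hopen
  obtain ⟨a, has, ha0⟩ : ∃ a ∈ s, a ≠ (0 : A) := by
    by_contra hcon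
    have h1 : (⟨⊥, Ideal.isPrime_bot⟩ : PrimeSpectrum A) ∈ PrimeSpectrum.zeroLocus s := fun r hr =>
      (show r = 0 from by_contra fun h0 => hcon ⟨r, hr, h0⟩) ▸ Submodule.zero_mem _
    rw [← hs] at h1
    exact h1 hW₀
  have hB : ∀ p : PrimeSpectrum A, a ∉ p.asIdeal → C.pt p ∈ W₀ := by
    intro p hp
    by_contra hb
    have h1 : p ∈ PrimeSpectrum.zeroLocus s := by rw [← hs]; exact hb
    exact hp (h1 has)
  have h1W : ratio hh hW₀ hW₀ h = 1 := by
    rw [ratio_eq hh hW₀ hW₀ (T := W₀) hW₀ le_rfl le_rfl (a := 1) (by rw [one_smul]), map_one]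
  have hr : ∀ p : Ideal A, ∃ c : X.presheaf.stalk C.η, c ≠ 0 ∧ ∀ hp : p.IsPrime, C.pt ⟨p, hp⟩ ∈ U →
      ∃ (O : X.Opens) (g : Γ(M, O)) (hO : C.η ∈ O), C.pt ⟨p, hp⟩ ∈ O ∧ O ≤ U ∧ IsGen M O g ∧
        ratio hh hW₀ hO g = c := by
    intro p
    by_cases hp : p.IsPrime ∧ ∀ hp : p.IsPrime, C.pt ⟨p, hp⟩ ∈ U
    · obtain ⟨O, g, hzO, hOU, hg⟩ := hU _ (hp.2 hp.1)
      exact ⟨_, ratio_ne_zero hh hW₀ (C.η_mem_of_nonempty (C.pt_mem _) hzO) hg,
        fun _ _ => ⟨O, g, _, hzO, hOU, hg, rfl⟩⟩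
    · exact ⟨1, one_ne_zero, fun hp' hU' => absurd ⟨hp', fun _ => hU'⟩ hp⟩
  choose c hc0 hc using hr
  let S := ((UniqueFactorizationMonoid.factors a).toFinset).image fun π => Ideal.span {π}
  obtain ⟨f, hf0, hfS, hfo⟩ := exists_prescribed S c (fun p hp => by
    obtain ⟨π, hπ, rfl⟩ := Finset.mem_image.mp hp
    exact ⟨π, UniqueFactorizationMonoid.prime_of_factor π (Multiset.mem_toFinset.mp hπ), rfl⟩)
    (fun p _ => hc0 p)
  have un : ∀ (p : PrimeSpectrum A) (e : X.presheaf.stalk C.η), Un p.asIdeal e ↔ UnAt C.η (C.pt p) e := by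
    intro p e
    have h1 := C.un_iff (C.pt_mem p) e
    rwa [C.pr_pt] at h1
  have good : ∀ z ∈ U, GoodAt C hh hW₀ U f z := by
    intro z hzU
    obtain ⟨p, rfl⟩ : ∃ p, C.pt p = z := ⟨_, C.pt_pr (hUV hzU)⟩
    obtain ⟨O, g, hzO, hOU, hg⟩ := hU _ hzU
    have hO : C.η ∈ O := C.η_mem_of_nonempty (C.pt_mem _) hzO
    have hρ : ratio hh hW₀ hO g ≠ 0 := ratio_ne_zero hh hW₀ hO hg
    have h1 : Un p.asIdeal (f / ratio hh hW₀ hO g) := by
      refine un_of_prime p.asIdeal (div_ne_zero hf0 hρ) fun π hπ hπp => ?_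
      haveI hP : (Ideal.span {π}).IsPrime := (Ideal.span_singleton_prime hπ.ne_zero).mpr hπ
      let y : PrimeSpectrum A := ⟨Ideal.span {π}, hP⟩
      have hyz : C.pt y ⤳ C.pt p :=
        C.pt_specializes.mpr ((Ideal.span_singleton_le_iff_mem _).mpr hπp)
      have hyU : C.pt y ∈ U := hyz.mem_open U.2 hzU
      have hyO : C.pt y ∈ O := hyz.mem_open O.2 hzO
      by_cases hyS : Ideal.span {π} ∈ S
      · obtain ⟨O₁, g₁, hO₁, hyO₁, -, hg₁, hr₁⟩ := hc _ hP hyU
        obtain ⟨e, he, he'⟩ := unAt_of_gen C hh hW₀ hg hg₁ hO hO₁ hyO hyO₁ (C.pt_mem _)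
        have h2 : Un y.asIdeal (f / c (Ideal.span {π}) * e) := (hfS _ hyS).mul ((un y e).mpr he)
        rw [← hr₁, he', div_mul_eq_mul_div, mul_comm e, mul_div_mul_right _ _ (fun h0 => by
          apply hc0 (Ideal.span {π})
          rw [← hr₁, he', h0, zero_mul])] at h2
        exact h2
      · have hyW : C.pt y ∈ W₀ := hB y fun hay => hyS (by
          obtain ⟨q, hq, hqa⟩ := UniqueFactorizationMonoid.exists_mem_factors_of_dvd ha0 hπ.irreducible
            (Ideal.mem_span_singleton.mp hay)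
          exact Finset.mem_image.mpr ⟨q, Multiset.mem_toFinset.mpr hq,
            (Ideal.span_singleton_eq_span_singleton.mpr hqa).symm⟩)
        obtain ⟨e, he, he'⟩ := unAt_of_gen C hh hW₀ hh hg hW₀ hO hyW hyO (C.pt_mem _)
        rw [h1W, mul_one] at he'
        rw [he']
        exact (hfo π hπ hyS).div ((un y e).mpr he)
    have h2 := good_of_gen C hh hW₀ hg hOU hO hzO (C.pt_mem _) ((un p _).mp h1)
    rwa [div_mul_cancel₀ _ hρ] at h2
  obtain ⟨g, hg, -⟩ := exists_gen_of_good C hh hW₀ U f U hη good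
  exact ⟨g, hg⟩

/-- Every invertible module on an open subscheme of the spectrum of a unique factorisation domain is
trivial. -/
theorem result (R : Type u) [CommRing R] [IsDomain R] [UniqueFactorizationMonoid R]
    (U : (Spec (CommRingCat.of R)).Opens) (L : (U : Scheme.{u}).Modules) (hL : PicF.IsInvertible L) :
    Nonempty (L ≅ Coh.structureModule (U : Scheme.{u})) := by
  haveI : IsDomain Γ(Spec (CommRingCat.of R), ⊤) :=
    (Scheme.ΓSpecIso (CommRingCat.of R)).commRingCatIsoToRingEquiv.toMulEquiv.isDomain R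
  let C : Chart (Spec (CommRingCat.of R)) := ⟨⊤, isAffineOpen_top _, ‹_›⟩
  haveI : UniqueFactorizationMonoid Γ(Spec (CommRingCat.of R), C.V) :=
    MulEquiv.uniqueFactorizationMonoid
      (Scheme.ΓSpecIso (CommRingCat.of R)).symm.commRingCatIsoToRingEquiv.toMulEquiv ‹_›
  obtain ⟨g, hg⟩ := exists_gen C U le_top (exists_gen_push U L hL)
  have h1 := (isGen_push_iff U L le_rfl g).mp hg
  have hle : (⊤ : (U : Scheme.{u}).Opens) ≤ U.ι ⁻¹ᵁ U := fun z _ => z.2
  obtain ⟨e⟩ := PerfSch.DescSec.nonempty_iso_of_isGen (h1.restrict hle)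
  exact ⟨e.symm⟩

end Groth.Agent.S0233
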