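import Groth.Statements.S15351
import Groth.Agent.SecComp.FlatNbhd
import Groth.Agent.AbVarLib.Basics

set_option autoImplicit false
universe u
open CategoryTheory CategoryTheory.Limits AlgebraicGeometry
open MoreMor

namespace Groth.Agent.S15351

/-- Let f : X ⟶ S be a smooth morphism of schemes, X quasi-separated, with a section e : S ⟶ X, and let
X⁰ ⊆ X be the union over the points s of S of the connected component of e(s) in the fibre f⁻¹(s)
with its subspace topology. Then X⁰ is open in X; no quasi-compactness is assumed. (The published
statement is for an algebraic space X smooth over S; this row is the case of a scheme.) -/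
theorem result {S X : Scheme.{u}} [QuasiSeparatedSpace ↥X] (f : X ⟶ S) [Smooth f]
    (e : S ⟶ X) (he : e ≫ f = 𝟙 S) :
    IsOpen (MoreMor.sectionComponents f e) := by
  refine subset_interior_iff_isOpen.mp fun x hx => ?_
  refine Groth.Agent.SecComp.component_subset_interior_lfp f e he (f x) (fun z _ => ?_) hx
  haveI : Smooth (f.fiberToSpecResidueField (f z)) :=
    CategoryTheory.MorphismProperty.pullback_snd (P := @Smooth) _ _ ‹_›
  haveI : GeometricallyReduced (f.fiberToSpecResidueField (f z)) :=
    Groth.Agent.AbVarLib.Basics.geometricallyReduced_of_smooth (K := S.residueField (f z)) (f.fiberToSpecResidueField (f z))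
  exact Groth.Agent.SecComp.isGeomReducedAt_of_geometricallyReduced
    (k := S.residueField (f z)) (f.fiberToSpecResidueField (f z)) (f.asFiber z)

end Groth.Agent.S15351
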