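import Groth.Statements.S0095
import Groth.Agent.EtSubmersive.Main
import Groth.Agent.FBase.BC

set_option autoImplicit false
open CategoryTheory CategoryTheory.Limits AlgebraicGeometry Opposite
universe u
open EtBase

namespace Groth.Agent.S0095

/-- For a scheme over a separably closed field k and a field extension K of k, global sections of an
abelian étale sheaf do not change under base change to K (the source proves this for sheaves of
sets; the abelian case is stated). -/
theorem result {k K : Type u} [Field k] [IsSepClosed k] [Field K] [Algebra k K]
    {S : Scheme.{u}} (a : S ⟶ Spec (CommRingCat.of k))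
    [EtCoh.BCCont (pullback.fst a (Spec.map (CommRingCat.ofHom (algebraMap k K))))]
    (F : EtCoh.Ab S) :
    Function.Bijective (((EtCoh.pullPushAdj
      (pullback.fst a (Spec.map (CommRingCat.ofHom (algebraMap k K))))).unit.app F).hom.app
        (op (EtCoh.top S))) := by
  let φ := Spec.map (CommRingCat.ofHom (algebraMap k K))
  have : GeometricallyConnected φ :=
    FBase.BC.geometricallyConnected_specMap_of_isSepClosed (k := k) (K := K)
  have : Flat φ := (HasRingHomProperty.Spec_iff (P := @Flat)).2
    (RingHom.flat_algebraMap_iff.2 inferInstance)
  have : Flat (pullback.fst a φ) := MorphismProperty.pullback_fst _ _ inferInstance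
  have : QuasiCompact (pullback.fst a φ) := MorphismProperty.pullback_fst _ _ inferInstance
  refine EtSubmersive.bijective_pullSect_of_flat (pullback.fst a φ) (fun Ω _ _ s => ?_) F (EtCoh.top S)
  exact GeometricallyConnected.geometrically_connectedSpace (f := φ) (s ≫ a)
    (pullback.fst (pullback.fst a φ) s ≫ pullback.snd a φ) (pullback.snd (pullback.fst a φ) s)
    ((IsPullback.of_hasPullback (pullback.fst a φ) s).flip.paste_vert
      (IsPullback.of_hasPullback a φ)).flip

end Groth.Agent.S0095
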