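import Groth.Statements.S0168
import Groth.Agent.S0153
import Groth.Agent.Hens.ProperClopenGen
-- import your own Groth.Agent.* helpers here

set_option autoImplicit false
universe u
open CategoryTheory CategoryTheory.Limits AlgebraicGeometry Opposite
open EtPBC

namespace Groth.Agent.S0168

/-- Over a henselian pair, the part over `V(I)` of a point closure of a proper scheme is connected. -/
theorem isConnected_inter_closure (A : Type u) [CommRing A] (I : Ideal A) [HenselianRing A I]
    (X : Scheme.{u}) (f : X ⟶ Spec (CommRingCat.of A)) [IsProper f] (x : X) :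
    IsConnected (f ⁻¹' PrimeSpectrum.zeroLocus (I : Set A) ∩ closure {x}) := by
  let J := Scheme.IdealSheafData.vanishingIdeal (⟨closure {x}, isClosed_closure⟩ : TopologicalSpace.Closeds X)
  have hr : Set.range J.subschemeι = closure {x} := by
    rw [Scheme.IdealSheafData.range_subschemeι, Scheme.IdealSheafData.coe_support_vanishingIdeal]
    rfl
  haveI : IrreducibleSpace J.subscheme := by
    haveI : IrreducibleSpace ↥(Set.range J.subschemeι) :=
      Subtype.irreducibleSpace (by rw [hr]; exact isIrreducible_singleton.closure)
    exact J.subschemeι.isClosedEmbedding.isEmbedding.toHomeomorph.symm.surjective.irreducibleSpace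
      J.subschemeι.isClosedEmbedding.isEmbedding.toHomeomorph.symm.continuous
  let g := J.subschemeι ≫ f
  have hP : ConnectedSpace ↥(g ⁻¹' PrimeSpectrum.zeroLocus (I : Set A)) := by
    refine (Hens.ProperClopenGen.connectedSpace_iff (Y := J.subscheme)
      (q := (Subtype.val : ↥(g ⁻¹' PrimeSpectrum.zeroLocus (I : Set A)) → J.subscheme))
      continuous_subtype_val fun V hV => ?_).1 inferInstance
    have h := Hens.ProperClopenGen.existsUnique_clopen I g (V := Subtype.val '' V)
      (Subtype.coe_image_subset _ _) (by rwa [Set.preimage_image_eq _ Subtype.val_injective])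
    have e : ∀ U : Set J.subscheme,
        U ∩ g ⁻¹' PrimeSpectrum.zeroLocus (I : Set A) = Subtype.val '' V ↔
        (Subtype.val : ↥(g ⁻¹' PrimeSpectrum.zeroLocus (I : Set A)) → J.subscheme) ⁻¹' U = V := fun U => by
      rw [← Set.image_eq_image Subtype.val_injective, Subtype.image_preimage_coe, Set.inter_comm]
    simpa only [e] using h
  have h := (isConnected_iff_connectedSpace.2 hP).image J.subschemeι J.subschemeι.continuous.continuousOn
  rwa [show g ⁻¹' PrimeSpectrum.zeroLocus (I : Set A) =
    J.subschemeι ⁻¹' (f ⁻¹' PrimeSpectrum.zeroLocus (I : Set A)) from rfl,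
    Set.image_preimage_eq_inter_range, hr] at h

/-- (A, I) a henselian pair, f : X -> Spec A proper, Z ⊆ X the closed subset X x_{Spec A} Spec (A/I)
(the image of the first projection). For any sheaf of sets F on the underlying topological space of
X, restriction Gamma(X, F) -> Gamma(Z, F|_Z) is bijective; written as the global-sections component
of the unit F -> i_* i^* F for the inclusion i : Z -> X of topological spaces. -/
theorem result (A : Type u) [CommRing A] (I : Ideal A) [HenselianRing A I]
    (X : Scheme.{u}) (f : X ⟶ Spec (CommRingCat.of A)) [IsProper f]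
    (F : TopCat.Sheaf (Type u) X.carrier) :
    Function.Bijective
      (((TopCat.Sheaf.pullbackPushforwardAdjunction (Type u)
        (TopCat.ofHom ⟨(Subtype.val :
          (Set.range (pullback.fst f (Spec.map (CommRingCat.ofHom (Ideal.Quotient.mk I))))) → X),
          continuous_subtype_val⟩)).unit.app F).hom.app (op ⊤)) := by
  haveI : CompactSpace X := QuasiCompact.compactSpace_of_compactSpace f
  haveI : QuasiSeparatedSpace X := quasiSeparatedSpace_of_quasiSeparated f
  haveI : SpectralSpace X.carrier := { }
  refine S0153.result X.carrier _ ?_ ?_ F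
  · rw [Hens.ProperClopenLift.range_fst_mk]
    exact (PrimeSpectrum.isClosed_zeroLocus _).preimage f.continuous
  · intro x
    rw [Hens.ProperClopenLift.range_fst_mk]
    exact isConnected_inter_closure A I X f x

end Groth.Agent.S0168
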