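import Groth.Statements.S4452
import Groth.Agent.ProjPush48.Basic
import Groth.Agent.S3581

set_option autoImplicit false
universe u
open CategoryTheory CategoryTheory.Limits AlgebraicGeometry
open EGA2

namespace Groth.Agent.S4452

/-- Every finite morphism f : X ⟶ Y is projective (here: X is Y-isomorphic to the homogeneous spectrum
of a quasi-coherent graded O_Y-algebra generated by its degree-one part, that part being of finite
type — the form of projectivity equivalent to X being a closed subscheme of a projective bundle P(E)
with E quasi-coherent of finite type). -/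
theorem result {X Y : Scheme.{u}} (f : X ⟶ Y) [IsFinite f] : RelProj.IsProjective f := by
  have : IsIso (CohB1.ProjSpace.toSpec 0 (ULift.{u} ℤ)) := Groth.Agent.S3581.result _
  have hiso : IsIso (CohB1.ProjSpaceOver.toBase 0 X) :=
    inferInstanceAs (IsIso (pullback.snd (CohB1.ProjSpace.toSpec 0 (ULift.{u} ℤ)) (specULiftZIsTerminal.from X)))
  obtain ⟨𝒮, P, p, chart, e, hg, hft, hP, he⟩ := Groth.Agent.ProjMor.isProjective_toBase (S := X) 0
  have hid : RelProj.IsProjective (𝟙 X) :=
    ⟨𝒮, P, p, chart, (asIso (CohB1.ProjSpaceOver.toBase 0 X)).symm ≪≫ e, hg, hft, hP,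
      by rw [Iso.trans_hom, Category.assoc, he]; simp⟩
  simpa using Groth.Agent.ProjPush48.isProjective_comp_finite f hid

end Groth.Agent.S4452
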