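import Groth.Statements.S4837
import Groth.Agent.S8255
import Groth.Agent.AffAlgLib.Basic
import Groth.Agent.AlgSp.DenseFlat

set_option autoImplicit false
open CategoryTheory AlgebraicGeometry
universe u
open Lim8

namespace Groth.Agent.S4837

open Opposite TopologicalSpace

/-- A quasi-compact morphism with trivial scheme-theoretic kernel is injective on sections. -/
theorem app_injective_of_ker {A B : Scheme.{u}} (g : A ⟶ B) [QuasiCompact g] (h : g.ker = ⊥)
    (V : B.Opens) : Function.Injective (g.app V) := by
  rw [injective_iff_map_eq_zero]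
  intro s hs
  refine AlgSp.DenseFlat.eq_zero_of_locally s fun x hx => ?_
  obtain ⟨_, ⟨W, hW, rfl⟩, hxW, hWV⟩ :=
    B.isBasis_affineOpens.exists_subset_of_mem_open hx V.2
  have hWV' : W ≤ V := hWV
  refine ⟨W, hWV', hxW, ?_⟩
  have hm : B.presheaf.map (homOfLE hWV').op s ∈ g.ker.ideal ⟨W, hW⟩ := by
    rw [Scheme.Hom.ker_apply]
    show g.app W (B.presheaf.map (homOfLE hWV').op s) = 0
    rw [← CommRingCat.comp_apply]
    erw [g.naturality (homOfLE hWV').op]
    exact (congrArg _ hs).trans (RingHom.map_zero _)
  rw [h, Scheme.IdealSheafData.ideal_bot] at hm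
  exact hm

end Groth.Agent.S4837

namespace Groth.Agent.S4837

/-- Let f : X ⟶ Y be a quasi-compact quasi-separated morphism, C a quasi-coherent O_Y-algebra with
relative spectrum Z = Spec(C) over Y, g : X ⟶ Z a Y-morphism which is an immersion, and φ : C ⟶
f_*O_X the homomorphism of O_Y-algebras corresponding to g (the canonical identification of C with
the direct image of O_Z followed by the map induced by g). Then the scheme-theoretic image of g is
the whole of Z, i.e. the kernel ideal of g vanishes, if and only if φ is injective; and when this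
holds g is an open immersion. -/
theorem result {X Y : Scheme.{u}} (f : X ⟶ Y)
    [QuasiCompact f] [QuasiSeparated f] (C : RelSpec.QCAlg Y) (g : X ⟶ C.spec) (w : g ≫ C.π = f)
    [IsImmersion g] (φ : C ⟶ RelSpec.QCAlg.directImage f)
    (hφ : C.gammaMap ≫ φ.hom = AffAlg.algHom C.π f g w) :
    (g.ker = ⊥ ↔ ∀ U : Y.Opens, Function.Injective (φ.hom.app (Opposite.op U)).hom) ∧
      (g.ker = ⊥ → IsOpenImmersion g) := by
  subst w
  have := Groth.Agent.S8255.result C
  have : QuasiCompact g := QuasiCompact.of_comp g C.π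
  have key : ∀ U : Y.Opens, Function.Injective (φ.hom.app (Opposite.op U)).hom ↔
      Function.Injective (g.app (C.π ⁻¹ᵁ U)).hom := by
    intro U
    have hγ : Function.Bijective (C.gammaMap.app (Opposite.op U)).hom :=
      ConcreteCategory.bijective_of_isIso (C.gammaMap.app (Opposite.op U))
    have h := NatTrans.congr_app hφ (Opposite.op U)
    rw [NatTrans.comp_app, AffAlgLib.algHom_app] at h
    have h' : (C.gammaMap.app (Opposite.op U) ≫ φ.hom.app (Opposite.op U)) =
        g.app (C.π ⁻¹ᵁ U) := h.trans (Scheme.Hom.app_eq_appLE g).symm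
    have hfun : ⇑(g.app (C.π ⁻¹ᵁ U)).hom =
        ⇑(φ.hom.app (Opposite.op U)).hom ∘ ⇑(C.gammaMap.app (Opposite.op U)).hom := by
      rw [← h']; rfl
    rw [hfun]
    exact ⟨fun hi => hi.comp hγ.1, fun hi => hi.of_comp_right hγ.2⟩
  refine ⟨⟨fun h U => (key U).mpr (app_injective_of_ker g h _), fun h => ?_⟩, fun h => ?_⟩
  · refine Scheme.IdealSheafData.ext_of_iSup_eq_top
      (fun U : Y.affineOpens => (⟨C.π ⁻¹ᵁ U.1, U.2.preimage C.π⟩ : C.spec.affineOpens))
      (by rw [← Scheme.Hom.preimage_iSup, iSup_affineOpens_eq_top]; rfl) fun U => ?_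
    rw [Scheme.Hom.ker_apply, Scheme.IdealSheafData.ideal_bot]
    exact (RingHom.injective_iff_ker_eq_bot _).mp ((key U.1).mp (h U.1))
  · have : IsIso g.imageι := by
      delta Scheme.Hom.imageι Scheme.Hom.image
      rw [h]
      infer_instance
    rw [← g.toImage_imageι]
    infer_instance

end Groth.Agent.S4837
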