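import Groth.Statements.S4810
import Groth.Agent.S4837
import Mathlib.AlgebraicGeometry.ZariskisMainTheorem
import Mathlib.AlgebraicGeometry.Morphisms.LocalIso
import Mathlib.AlgebraicGeometry.FunctionField

set_option autoImplicit false
universe u
open CategoryTheory AlgebraicGeometry
open Lim8

namespace Groth.Agent.S4810

open TopologicalSpace Opposite

/-- On an integral normal scheme a section over a nonempty open which is integral over functions on
a bigger open extends to that open. -/
theorem exists_extend {X : Scheme.{u}} [IsIntegral X]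
    (hN : ∀ x : X, IsIntegrallyClosed (X.presheaf.stalk x)) {A : Type u} [CommRing A]
    {W V : X.Opens} (hle : V ≤ W) [Nonempty V] (φ : A →+* Γ(X, W)) (c : Γ(X, V))
    (hc : ((X.presheaf.map (homOfLE hle).op).hom.comp φ).IsIntegralElem c) :
    ∃ c' : Γ(X, W), X.presheaf.map (homOfLE hle).op c' = c := by
  obtain ⟨⟨v, hv⟩⟩ := (inferInstance : Nonempty V)
  have hη : ∀ {T : X.Opens} {y : X}, y ∈ T → genericPoint X ∈ T := fun {T y} hy =>
    ((genericPoint_spec X).mem_open_set_iff T.2).2 ⟨y, trivial, hy⟩
  let z : X.functionField := X.presheaf.germ V _ (hη hv) c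
  have hloc : ∀ x : W, ∃ (T : X.Opens) (_ : x.1 ∈ T) (_ : T ≤ W) (d : Γ(X, T)),
      ∀ h : genericPoint X ∈ T, X.presheaf.germ T _ h d = z := by
    rintro ⟨x, hx⟩
    have := hN x
    obtain ⟨p, hp, hp0⟩ := hc
    have hint : IsIntegral (X.presheaf.stalk x) z := by
      refine ⟨p.map ((X.presheaf.germ W x hx).hom.comp φ), hp.map _, ?_⟩
      rw [Polynomial.eval₂_map]
      have e1 : (algebraMap (X.presheaf.stalk x) X.functionField).comp
          ((X.presheaf.germ W x hx).hom.comp φ) =
            (X.presheaf.germ V _ (hη hv)).hom.comp ((X.presheaf.map (homOfLE hle).op).hom.comp φ) := by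
        refine RingHom.ext fun a => ?_
        show (X.presheaf.germ W x hx ≫
            X.presheaf.stalkSpecializes ((genericPoint_spec X).specializes trivial)) (φ a) = _
        rw [TopCat.Presheaf.germ_stalkSpecializes]
        exact (X.presheaf.germ_res_apply (homOfLE hle) _ (hη hv) (φ a)).symm
      rw [e1, ← Polynomial.hom_eval₂, hp0, map_zero]
    obtain ⟨d, hd⟩ := IsIntegrallyClosed.isIntegral_iff.mp hint
    obtain ⟨T, hT, d', rfl⟩ := X.presheaf.exists_germ_eq d
    refine ⟨T ⊓ W, ⟨hT, hx⟩, inf_le_right,
      X.presheaf.map (homOfLE (inf_le_left : T ⊓ W ≤ T)).op d', fun h => ?_⟩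
    rw [X.presheaf.germ_res_apply]
    refine Eq.trans ?_ hd
    show _ = (X.presheaf.germ T x hT ≫
      X.presheaf.stalkSpecializes ((genericPoint_spec X).specializes trivial)) d'
    rw [TopCat.Presheaf.germ_stalkSpecializes]
  choose T hxT hTW d hd using hloc
  have hcompat : TopCat.Presheaf.IsCompatible X.presheaf T d := by
    intro a b
    rcases (T a ⊓ T b).1.eq_empty_or_nonempty with he | ⟨y, hy⟩
    · exact TopCat.Presheaf.section_ext X.sheaf _ _ _ fun y hy =>
        absurd hy (Set.eq_empty_iff_forall_notMem.mp he y)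
    · refine germ_injective_of_isIntegral _ (genericPoint X) (hη hy) ?_
      erw [X.presheaf.germ_res_apply, X.presheaf.germ_res_apply]
      exact (hd a _).trans (hd b _).symm
  obtain ⟨s, hs, -⟩ := TopCat.Sheaf.existsUnique_gluing' X.sheaf T W (fun a => homOfLE (hTW a))
    (fun y hy => Opens.mem_iSup.mpr ⟨⟨y, hy⟩, hxT _⟩) d hcompat
  refine ⟨s, germ_injective_of_isIntegral _ (genericPoint X) (hη hv) ?_⟩
  have hηT : genericPoint X ∈ T ⟨v, hle hv⟩ := hη (hxT ⟨v, hle hv⟩)
  erw [X.presheaf.germ_res_apply]
  refine Eq.trans ?_ (hd _ hηT)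
  rw [← hs ⟨v, hle hv⟩]
  erw [X.presheaf.germ_res_apply]

/-- Near each point the canonical map to the normalization is an open immersion. -/
theorem exists_isOpenImmersion {X Y : Scheme.{u}} [IsIntegral X]
    (hN : ∀ x : X, IsIntegrallyClosed (X.presheaf.stalk x)) (f : X ⟶ Y)
    [LocallyQuasiFinite f] [LocallyOfFiniteType f] [QuasiCompact f] [QuasiSeparated f] (x : X) :
    ∃ V : X.Opens, x ∈ V ∧ IsOpenImmersion (V.ι ≫ f.toNormalization) := by
  obtain ⟨U, hU, hxU, -⟩ :=
    exists_isAffineOpen_mem_and_subset (x := f x) (U := (⊤ : Y.Opens)) trivial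
  obtain ⟨V, hV, hxV, hVU⟩ := exists_isAffineOpen_mem_and_subset (x := x) (U := f ⁻¹ᵁ U) hxU
  replace hVU : V ≤ f ⁻¹ᵁ U := hVU
  refine ⟨V, hxV, ?_⟩
  have : Nonempty V := ⟨⟨x, hxV⟩⟩
  have : IsAffine (U : Scheme.{u}) := hU
  have : IsAffine (V : Scheme.{u}) := hV
  let g := f.toNormalization
  let P := f.fromNormalization ⁻¹ᵁ U
  have hP : IsAffineOpen P := hU.preimage f.fromNormalization
  have : IsAffine (P : Scheme.{u}) := hP
  have hgP : g ⁻¹ᵁ P = f ⁻¹ᵁ U := by
    rw [← Scheme.Hom.comp_preimage, f.toNormalization_fromNormalization]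
  have eP : V ≤ g ⁻¹ᵁ P := hgP.symm ▸ hVU
  let h₀ := f.resLE U V hVU
  have : IsAffineHom h₀ := isAffineHom_of_isAffine _
  have : IsSeparated h₀ := inferInstance
  have : LocallyOfFiniteType h₀ := by
    have : LocallyOfFiniteType (h₀ ≫ U.ι) := by
      rw [Scheme.Hom.resLE_comp_ι]; infer_instance
    exact locallyOfFiniteType_of_comp h₀ U.ι
  let gP := g.resLE P V eP
  let πU := f.fromNormalization ∣_ U
  have hH : h₀ = gP ≫ πU := by
    rw [← cancel_mono U.ι, Category.assoc, morphismRestrict_ι, Scheme.Hom.resLE_comp_ι,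
      Scheme.Hom.resLE_comp_ι_assoc, f.toNormalization_fromNormalization]
  have : IsIntegralHom πU := IsZariskiLocalAtTarget.restrict (P := @IsIntegralHom) inferInstance U
  let u := h₀.toNormalization
  let ψ := h₀.normalizationDesc gP πU hH
  have hψ : u ≫ ψ = gP := h₀.toNormalization_normalizationDesc _ _ _
  suffices IsIso ψ by
    rw [show V.ι ≫ f.toNormalization = (u ≫ ψ) ≫ P.ι by rw [hψ, Scheme.Hom.resLE_comp_ι]]
    infer_instance
  have : IsAffine h₀.normalization := isAffine_of_isAffineHom h₀.fromNormalization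
  -- injectivity of the restriction to `V`
  have hres : Function.Injective (X.presheaf.map (homOfLE hVU).op).hom := by
    intro a b hab
    have hη : genericPoint X ∈ V := ((genericPoint_spec X).mem_open_set_iff V.2).2 ⟨x, trivial, hxV⟩
    refine germ_injective_of_isIntegral _ (genericPoint X) (hVU hη) ?_
    exact (X.presheaf.germ_res_apply (homOfLE hVU) _ hη a).symm.trans
      ((congrArg _ hab).trans (X.presheaf.germ_res_apply (homOfLE hVU) _ hη b))
  let _ := (f.app U).hom.toAlgebra
  have hval := f.normalizationObjIso_hom_val hU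
  have hinj : Function.Injective (g.appLE P V eP).hom := by
    have e1 : g.appLE P V eP =
        g.appLE P (f ⁻¹ᵁ U) hgP.ge ≫ X.presheaf.map (homOfLE hVU).op :=
      (Scheme.Hom.appLE_map _ _ _).symm
    intro a b hab
    rw [e1] at hab
    have h2 : g.appLE P (f ⁻¹ᵁ U) hgP.ge a = g.appLE P (f ⁻¹ᵁ U) hgP.ge b := hres hab
    rw [← hval] at h2
    exact (ConcreteCategory.bijective_of_isIso (f.normalizationObjIso hU).hom).1
      (Subtype.val_injective h2)
  have hgtop : gP.appTop = P.topIso.hom ≫ g.appLE P V eP ≫ V.topIso.inv := Scheme.Hom.resLE_app_top ..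
  have hinj' : Function.Injective gP.appTop.hom := by
    rw [hgtop]
    exact ((ConcreteCategory.bijective_of_isIso V.topIso.inv).1.comp hinj).comp
      (ConcreteCategory.bijective_of_isIso P.topIso.hom).1
  have hψtop : ψ.appTop ≫ u.appTop = gP.appTop := by rw [← Scheme.Hom.comp_appTop, hψ]
  have hu : Function.Injective u.appTop.hom :=
    S4837.app_injective_of_ker u h₀.ker_toNormalization ⊤
  have hbij : Function.Bijective ψ.appTop.hom := by
    refine ⟨?_, fun b => ?_⟩
    · rw [← hψtop] at hinj'
      exact fun a a' haa => hinj' (congrArg u.appTop.hom haa)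
    have hb : (h₀.fromNormalization.appTop).hom.IsIntegralElem b :=
      h₀.fromNormalization.isIntegral_app ⊤ (isAffineOpen_top _) b
    have hc : (h₀.appTop).hom.IsIntegralElem (u.appTop b) := by
      obtain ⟨p, hp, hp0⟩ := hb
      refine ⟨p, hp, ?_⟩
      have e2 : h₀.appTop = h₀.fromNormalization.appTop ≫ u.appTop := by
        rw [← Scheme.Hom.comp_appTop, h₀.toNormalization_fromNormalization]
      rw [e2, CommRingCat.hom_comp, ← Polynomial.hom_eval₂, hp0, map_zero]
    let φA : Γ(Y, U) ⟶ Γ(X, f ⁻¹ᵁ U) := f.app U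
    have hcV : ((X.presheaf.map (homOfLE hVU).op).hom.comp φA.hom).IsIntegralElem
        (V.topIso.hom (u.appTop b)) := by
      obtain ⟨p, hp, hp0⟩ := hc
      refine ⟨p.map U.topIso.hom.hom, hp.map _, ?_⟩
      rw [Polynomial.eval₂_map]
      have e3 : U.topIso.hom ≫ φA ≫ X.presheaf.map (homOfLE hVU).op =
          h₀.appTop ≫ V.topIso.hom := by
        rw [show h₀.appTop = _ from Scheme.Hom.resLE_app_top .., Category.assoc, Category.assoc,
          Iso.inv_hom_id, Category.comp_id]
        rfl
      have e4 := congrArg CommRingCat.Hom.hom e3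
      simp only [CommRingCat.hom_comp] at e4
      rw [e4, ← Polynomial.hom_eval₂, hp0, map_zero]
    obtain ⟨c', hc'⟩ := exists_extend hN hVU φA.hom _ hcV
    have hc'int : IsIntegral Γ(Y, U) c' := by
      obtain ⟨p, hp, hp0⟩ := hcV
      refine ⟨p, hp, hres ?_⟩
      rw [map_zero, Polynomial.hom_eval₂, hc']
      exact hp0
    obtain ⟨a, ha⟩ := (ConcreteCategory.bijective_of_isIso (f.normalizationObjIso hU).hom).2
      ⟨c', hc'int⟩
    refine ⟨P.topIso.inv a, hu ?_⟩
    show (ψ.appTop ≫ u.appTop) (P.topIso.inv a) = u.appTop b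
    rw [hψtop, hgtop]
    have e5 : g.appLE P (f ⁻¹ᵁ U) hgP.ge a = c' := by
      rw [← hval]
      exact congrArg Subtype.val ha
    simp only [CommRingCat.comp_apply, Iso.inv_hom_id_apply]
    rw [← Scheme.Hom.appLE_map g hgP.ge (homOfLE hVU).op, CommRingCat.comp_apply, e5, hc',
      Iso.hom_inv_id_apply]
  have : IsIso ψ.appTop := (ConcreteCategory.isIso_iff_bijective _).mpr hbij
  exact (HasAffineProperty.iff_of_isAffine (P := MorphismProperty.isomorphisms Scheme)).mpr
    ⟨inferInstance, this⟩

end Groth.Agent.S4810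

namespace Groth.Agent.S4810

/-- Let Y be an integral scheme, X an integral normal scheme (every local ring integrally closed) and f
: X ⟶ Y a dominant locally quasi-finite morphism (locally of finite type with discrete fibres). Let
Y' be the relative normalization of Y in X (here the normalization of Y in the function field of X)
and f' : X ⟶ Y' the canonical morphism, so that f is f' followed by the canonical morphism Y' ⟶ Y.
Then f' is a local isomorphism, and f' is an open immersion if and only if f is separated. (The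
published statement assumes f only locally quasi-finite; this row takes f moreover quasi-compact and
quasi-separated, the setting in which the relative normalization is built chart by chart from
integral closures.) -/
theorem result {X Y : Scheme.{u}} [IsIntegral X] [IsIntegral Y]
    (hN : ∀ x : X, IsIntegrallyClosed (X.presheaf.stalk x)) (f : X ⟶ Y) [IsDominant f]
    [LocallyQuasiFinite f] [LocallyOfFiniteType f] [QuasiCompact f] [QuasiSeparated f] :
    IsLocalIso f.toNormalization ∧ (IsOpenImmersion f.toNormalization ↔ IsSeparated f) := by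
  refine ⟨⟨fun x => exists_isOpenImmersion hN f x⟩, fun h => ?_, fun h => inferInstance⟩
  rw [← f.toNormalization_fromNormalization]
  infer_instance

end Groth.Agent.S4810
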