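import Groth.Statements.S9673
import Groth.Agent.NormNormal.Rel
import Groth.Agent.S9672
-- import your own Groth.Agent.* helpers here

set_option autoImplicit false
universe u
open CategoryTheory CategoryTheory.Limits AlgebraicGeometry
open Mor

namespace Groth.Agent.S9673
set_option backward.isDefEq.respectTransparency.types false

/-- Let f : Y ⟶ X be quasi-compact and quasi-separated, with Y normal and the irreducible components of
Y locally finite (equivalently, each quasi-compact open subset of Y meets only finitely many of
them). Let X' be the normalization of X in Y and f' : Y ⟶ X' the canonical morphism. Then X' is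
normal with locally finitely many irreducible components (hence a disjoint union of normal integral
schemes), f' maps generic points of irreducible components of Y to generic points of irreducible
components of X', and over each generic point of a component of X' there lies exactly one generic
point of a component of Y. (Dominance of f' holds for every quasi-compact quasi-separated f and is
not restated.) -/
theorem result {X Y : Scheme.{u}} (f : Y ⟶ X)
    [QuasiCompact f] [QuasiSeparated f] (hY : Pi1.IsNormalScheme Y)
    (hfin : LocallyFinite (fun Z : ↥(irreducibleComponents ↥Y) => (Z : Set ↥Y))) :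
    Pi1.IsNormalScheme f.normalization ∧
    LocallyFinite (fun Z : ↥(irreducibleComponents ↥f.normalization) => (Z : Set ↥f.normalization)) ∧
    (∀ y : Y, closure {y} ∈ irreducibleComponents ↥Y →
      closure {f.toNormalization.base y} ∈ irreducibleComponents ↥f.normalization) ∧
    (∀ x' : ↥f.normalization, closure {x'} ∈ irreducibleComponents ↥f.normalization →
      ∃! y : Y, closure {y} ∈ irreducibleComponents ↥Y ∧ f.toNormalization.base y = x') := by
  have huniq : ∀ (y : Y), closure {y} ∈ irreducibleComponents ↥Y → ∀ (y₁ : Y),
      closure {y₁} ∈ irreducibleComponents ↥Y → f.toNormalization y₁ ⤳ f.toNormalization y → y₁ = y :=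
    fun y hy y₁ hy₁ h =>
      (NormNormal.normal_and_eq f hY hfin hy (f.toNormalization y) specializes_rfl).2 y₁ hy₁ h
  refine ⟨fun x' => ?_, ?_, fun y hy => ?_, fun x' hx' => ?_⟩
  · obtain ⟨x₀, hx₀, hsp⟩ := FlatMor.GenericPts.exists_generic_specializes x'
    obtain ⟨y, hy, rfl⟩ := S9672.result f x₀ hx₀
    exact (NormNormal.normal_and_eq f hY hfin hy x' hsp).1
  · intro x'
    obtain ⟨W, hW, hxW, -⟩ := exists_isAffineOpen_mem_and_subset (x := x') (U := ⊤) trivial
    refine ⟨W, W.2.mem_nhds hxW, ?_⟩
    have hfin' := (NormNormal.finite_generic hfin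
      (f.toNormalization.isCompact_preimage hW.isCompact)).image
        fun y => closure ({f.toNormalization.base y} : Set f.normalization)
    refine (hfin'.preimage Subtype.val_injective.injOn).subset ?_
    rintro Z ⟨z, hzZ, hzW⟩
    obtain ⟨g, hg⟩ := QuasiSober.sober Z.2.1 (isClosed_of_mem_irreducibleComponents _ Z.2)
    obtain ⟨y, hy, rfl⟩ := S9672.result f g (hg.def.symm ▸ Z.2)
    exact ⟨y, ⟨hy, ((hg.specializes hzZ).mem_open W.2 hzW :)⟩, hg.def⟩
  · obtain ⟨x₀, hx₀, hsp⟩ :=
      FlatMor.GenericPts.exists_generic_specializes (f.toNormalization.base y)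
    obtain ⟨y₁, hy₁, rfl⟩ := S9672.result f x₀ hx₀
    obtain rfl := huniq y hy y₁ hy₁ hsp
    exact hx₀
  · obtain ⟨y, hy, rfl⟩ := S9672.result f x' hx'
    exact ⟨y, ⟨hy, rfl⟩, fun y₁ ⟨hy₁, he⟩ => huniq y hy y₁ hy₁ (specializes_of_eq he)⟩

end Groth.Agent.S9673
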