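import Groth.Statements.S9833
import Groth.Agent.Props.N2Local
import Mathlib.AlgebraicGeometry.Noetherian
-- import your own Groth.Agent.* helpers here

set_option autoImplicit false
universe u
open CategoryTheory AlgebraicGeometry TopologicalSpace
open Props

namespace Groth.Agent.S9833

/-- If a scheme has an affine open covering by spectra of Nagata rings, then the coordinate ring of
every affine open is Nagata. -/
theorem result (X : Scheme.{u}) {ι : Type u} (U : ι → X.Opens)
    (hU : iSup U = ⊤) (haff : ∀ i, IsAffineOpen (U i)) (hN : ∀ i, CAlg.IsNagata Γ(X, U i))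
    (V : X.Opens) (hV : IsAffineOpen V) : CAlg.IsNagata Γ(X, V) := by
  haveI : IsLocallyNoetherian X := isLocallyNoetherian_of_affine_cover
    (S := fun i => (⟨U i, haff i⟩ : X.affineOpens)) hU fun i => (hN i).1
  have key : ∀ V : X.affineOpens, Props.N2Local.QuotN2 Γ(X, V) := by
    intro V
    induction V using of_affine_open_cover (fun i => (⟨U i, haff i⟩ : X.affineOpens)) hU with
    | basicOpen W f hW =>
      haveI := W.2.isLocalization_basicOpen f
      exact Props.N2Local.quotN2_localization hW (Submonoid.powers f) Γ(X, X.basicOpen f)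
    | openCover W s hs hW =>
      haveI : ∀ f, IsLocalization.Away f Γ(X, X.basicOpen (U := (W : X.Opens)) f) :=
        fun f => W.2.isLocalization_basicOpen f
      exact Props.N2Local.quotN2_of_span s hs
        (fun f => Γ(X, X.basicOpen (U := (W : X.Opens)) f)) fun f hf => hW ⟨f, hf⟩
    | hU i => exact (Props.N2Local.isNagata_iff.mp (hN i)).2
  exact Props.N2Local.isNagata_iff.mpr
    ⟨IsLocallyNoetherian.component_noetherian ⟨V, hV⟩, key ⟨V, hV⟩⟩

end Groth.Agent.S9833
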