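import Groth.Statements.S1349
import Groth.Agent.Wt.CMScheme
import Groth.Agent.Wt.CMSliceQF
-- Template for statement S1349 (row 1349; see the milestone table for weights).
-- Copy to Groth/Agent/S1349.lean and replace the sorry. The statement below is byte-identical to the frozen
-- statement FlatMor.GrothFrozen.S1349 (Groth/Statements/S1349.lean; the theorem FlatMor.slice_cohenMacaulay_to_quasiFinite);
-- the grader kernel-checks Groth.Agent.S1349.result against that frozen type. Keep the theorem IN THIS FILE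
-- (a `result` declared elsewhere and merely imported here is not credited); helpers may live anywhere
-- under Groth/Agent/.


set_option autoImplicit false
universe u
open FlatMor

namespace Groth.Agent.S1349

open AlgebraicGeometry CategoryTheory Limits in
/-- Let f be locally of finite presentation and Cohen–Macaulay at a point x which is closed in its
fibre. Then there are an open neighbourhood V of x and a regular closed immersion i into V whose
image contains x, such that the composite Z ⟶ V ⟶ X ⟶ S is flat, locally of finite presentation and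
locally quasi-finite, and x is the only point of (the image of) Z lying over the image of x. -/
theorem result {X S : Scheme.{u}} (f : X ⟶ S) [LocallyOfFinitePresentation f] (x : X)
    (hcm : MoreMor.IsCMAt f x) (hcl : IsClosed ({f.asFiber x} : Set ↑(f.fiber (f x)))) :
    ∃ (V : X.Opens) (Z : Scheme.{u}) (i : Z ⟶ (V : Scheme.{u})), Mor2.IsRegularClosedImmersion i ∧ x ∈ Set.range ⇑(i ≫ V.ι) ∧
      Flat (i ≫ V.ι ≫ f) ∧ LocallyOfFinitePresentation (i ≫ V.ι ≫ f) ∧ LocallyQuasiFinite (i ≫ V.ι ≫ f) ∧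
      ∀ z : Z, f (V.ι (i z)) = f x → V.ι (i z) = x := by
  obtain ⟨U, hU, U₁, hU₁, e, hx₁⟩ := EtStruct.exists_chart f x
  let := (f.appLE U U₁ e).hom.toAlgebra
  have : Algebra.FinitePresentation Γ(S, U) Γ(X, U₁) := f.finitePresentation_appLE hU hU₁ e
  let q := hU₁.primeIdealOf ⟨x, hx₁⟩
  obtain ⟨hflat₀, hcm₀⟩ := (Wt.CMBase.isCMAt_iff_chart f hU hU₁ e hx₁).mp hcm
  have hflat : FlatCA.FlatAt Γ(S, U) q.asIdeal Γ(X, U₁) := by
    have : IsLocalizedModule q.asIdeal.primeCompl
        (Algebra.linearMap Γ(X, U₁) (Localization.AtPrime q.asIdeal)) :=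
      (isLocalizedModule_iff_isLocalization' _ _).2 inferInstance
    exact Module.Flat.of_linearEquiv ((IsLocalizedModule.iso q.asIdeal.primeCompl
      (Algebra.linearMap Γ(X, U₁) (Localization.AtPrime q.asIdeal))).restrictScalars Γ(S, U))
  have hfrom : ∀ P : PrimeSpectrum Γ(X, U₁), f (hU₁.fromSpec P) =
      hU.fromSpec (PrimeSpectrum.comap (algebraMap Γ(S, U) Γ(X, U₁)) P) := fun P =>
    ((Scheme.Hom.comp_apply _ _ _).symm.trans
      (congr($(IsAffineOpen.SpecMap_appLE_fromSpec f hU hU₁ e) P)).symm).trans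
      (Scheme.Hom.comp_apply _ _ _)
  have hxx : hU₁.fromSpec q = x := hU₁.fromSpec_primeIdealOf ⟨x, hx₁⟩
  have := hU.isOpenImmersion_fromSpec
  have := hU₁.isOpenImmersion_fromSpec
  have hunder : ∀ P : PrimeSpectrum Γ(X, U₁), f (hU₁.fromSpec P) = f x ↔
      P.asIdeal.under Γ(S, U) = q.asIdeal.under Γ(S, U) := fun P => by
    refine Eq.congr (hfrom P) ((congrArg f hxx).symm.trans (hfrom q)) |>.trans ?_
    exact hU.fromSpec.isOpenEmbedding.injective.eq_iff.trans PrimeSpectrum.ext_iff
  have hmax : ∀ P : Ideal Γ(X, U₁), P.IsPrime → q.asIdeal ≤ P →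
      P.under Γ(S, U) = q.asIdeal.under Γ(S, U) → P = q.asIdeal := by
    intro P hP hle hPq
    have hf : f (hU₁.fromSpec ⟨P, hP⟩) = f x := (hunder ⟨P, hP⟩).mpr hPq
    have hsp : x ⤳ hU₁.fromSpec ⟨P, hP⟩ := by
      have h := ((PrimeSpectrum.le_iff_specializes q ⟨P, hP⟩).mp hle).map hU₁.fromSpec.continuous
      exact hxx ▸ h
    obtain ⟨a, ha⟩ : hU₁.fromSpec ⟨P, hP⟩ ∈ Set.range (f.fiberι (f x)) := by
      rw [f.range_fiberι]; exact hf
    have hs : f.asFiber x ⤳ a := (f.fiberι (f x)).isEmbedding.isInducing.specializes_iff.mp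
      (by rw [f.fiberι_asFiber, ha]; exact hsp)
    have ha' : a = f.asFiber x := hs.mem_closed hcl rfl
    rw [ha', f.fiberι_asFiber] at ha
    exact congrArg PrimeSpectrum.asIdeal
      (hU₁.fromSpec.isOpenEmbedding.injective (hxx.trans ha)).symm
  obtain ⟨g, hg, rs, hrsq, hC⟩ := Wt.CMSlice.exists_slice_quasiFinite (hcm := hcm₀) q hflat hmax
  -- the open
  let V := X.basicOpen g
  have hV : IsAffineOpen V := hU₁.basicOpen g
  have hxV : x ∈ V := hxx ▸ (show hU₁.fromSpec q ∈ X.basicOpen g from by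
    have h : q ∈ hU₁.fromSpec ⁻¹ᵁ X.basicOpen g := by
      rw [hU₁.fromSpec_preimage_basicOpen]; exact hg
    exact h)
  have e' : V ≤ f ⁻¹ᵁ U := (X.basicOpen_le g).trans e
  let : Algebra Γ(X, U₁) Γ(X, V) := (X.presheaf.map (homOfLE (X.basicOpen_le g)).op).hom.toAlgebra
  have : IsLocalization.Away g Γ(X, V) := hU₁.isLocalization_basicOpen g
  let := (f.appLE U V e').hom.toAlgebra
  have : IsScalarTower Γ(S, U) Γ(X, U₁) Γ(X, V) := IsScalarTower.of_algebraMap_eq' (by
    show (f.appLE U V e').hom = (X.presheaf.map _).hom.comp (f.appLE U U₁ e).hom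
    rw [← CommRingCat.hom_comp, Scheme.Hom.appLE_map])
  obtain ⟨hreg, hfl, hqf, huniq⟩ := hC Γ(X, V)
  let A : Ideal Γ(X, V) := Ideal.ofList (rs.map (algebraMap Γ(X, U₁) Γ(X, V)))
  let mk : Γ(X, V) ⟶ CommRingCat.of (Γ(X, V) ⧸ A) := CommRingCat.ofHom (Ideal.Quotient.mk A)
  have hci : IsClosedImmersion (Spec.map mk) :=
    IsClosedImmersion.spec_of_surjective mk Ideal.Quotient.mk_surjective
  let i : Spec (CommRingCat.of (Γ(X, V) ⧸ A)) ⟶ (V : Scheme.{u}) := Spec.map mk ≫ hV.isoSpec.inv
  have hiV : i ≫ V.ι = Spec.map mk ≫ hV.fromSpec := by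
    rw [Category.assoc, IsAffineOpen.isoSpec_inv_ι hV]
  let φ : Γ(S, U) ⟶ CommRingCat.of (Γ(X, V) ⧸ A) := f.appLE U V e' ≫ mk
  have hif : i ≫ V.ι ≫ f = Spec.map φ ≫ hU.fromSpec := by
    rw [← Category.assoc, hiV, Category.assoc, Spec.map_comp, Category.assoc,
      IsAffineOpen.SpecMap_appLE_fromSpec f hU hV e']
  -- the point
  have hres : ∀ P : PrimeSpectrum Γ(X, V), hV.fromSpec P =
      hU₁.fromSpec (PrimeSpectrum.comap (algebraMap Γ(X, U₁) Γ(X, V)) P) := fun P =>
    ((congr($(IsAffineOpen.map_fromSpec hU₁ hV (homOfLE (X.basicOpen_le g)).op) P)).symm).trans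
      (Scheme.Hom.comp_apply _ _ _)
  have hqV : PrimeSpectrum.comap (algebraMap Γ(X, U₁) Γ(X, V)) (hV.primeIdealOf ⟨x, hxV⟩) = q :=
    hU₁.fromSpec.isOpenEmbedding.injective
      ((hres _).symm.trans ((hV.fromSpec_primeIdealOf ⟨x, hxV⟩).trans hxx.symm))
  have hAV : A ≤ (hV.primeIdealOf ⟨x, hxV⟩).asIdeal := by
    show Ideal.ofList _ ≤ _
    rw [← Ideal.map_ofList, Ideal.map_le_iff_le_comap]
    exact hrsq.trans (le_of_eq (congrArg PrimeSpectrum.asIdeal hqV).symm)
  have hq' : hV.primeIdealOf ⟨x, hxV⟩ ∈ Set.range (Spec.map mk) := by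
    refine ⟨⟨(hV.primeIdealOf ⟨x, hxV⟩).asIdeal.map (Ideal.Quotient.mk A),
      Ideal.map_isPrime_of_surjective Ideal.Quotient.mk_surjective (by rwa [Ideal.mk_ker])⟩,
      PrimeSpectrum.ext ?_⟩
    show Ideal.comap (Ideal.Quotient.mk A) _ = _
    rw [Ideal.comap_map_of_surjective' _ Ideal.Quotient.mk_surjective, Ideal.mk_ker, sup_eq_left]
    exact hAV
  have hxr : x ∈ Set.range (i ≫ V.ι) := by
    obtain ⟨z, hz⟩ := hq'
    refine ⟨z, ?_⟩
    rw [hiV, Scheme.Hom.comp_apply, hz, hV.fromSpec_primeIdealOf]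
  have hnt : Nonempty (Spec (CommRingCat.of (Γ(X, V) ⧸ A)) : Scheme.{u}) := ⟨hxr.choose⟩
  refine ⟨V, _, i, ⟨inferInstance, fun z => ?_⟩, hxr, ?_, ?_, ?_, fun z hz => ?_⟩
  · -- regular immersion
    have : IsAffine (V : Scheme.{u}) := hV
    have : IsClosedImmersion i := inferInstance
    let τ := V.topIso.inv.hom
    let rs' := (rs.map (algebraMap Γ(X, U₁) Γ(X, V))).map τ
    refine ⟨⊤, isAffineOpen_top _, trivial, rs', ⟨?_, ?_⟩, ?_⟩
    · let := τ.toAlgebra
      have : Module.Flat Γ(X, V) Γ((V : Scheme.{u}), ⊤) :=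
        RingHom.Flat.of_bijective (ConcreteCategory.bijective_of_isIso V.topIso.inv)
      exact hreg.of_flat
    · intro htop
      have htop' : (⊤ : Ideal Γ((V : Scheme.{u}), ⊤)) = A.map τ := by
        rw [smul_eq_mul, Ideal.mul_top] at htop
        exact htop.trans (Ideal.map_ofList τ _).symm
      have : A = ⊤ := by
        have h := congrArg (Ideal.comap τ) htop'
        rw [Ideal.comap_top, Ideal.comap_map_of_bijective τ
          (ConcreteCategory.bijective_of_isIso V.topIso.inv)] at h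
        exact h.symm
      have : Subsingleton (Γ(X, V) ⧸ A) := Ideal.Quotient.subsingleton_iff.mpr this
      exact IsEmpty.false (α := PrimeSpectrum (Γ(X, V) ⧸ A)) hnt.some
    · rw [Scheme.Hom.ker_apply]
      have happ : i.app ⊤ = V.topIso.hom ≫ mk ≫ (Scheme.ΓSpecIso _).inv := by
        show (Spec.map mk ≫ hV.isoSpec.inv).appTop = _
        rw [Scheme.Hom.comp_appTop, hV.isoSpec_inv_appTop, Category.assoc,
          Scheme.ΓSpecIso_inv_naturality]
      rw [happ]
      rw [show Ideal.ofList rs' = A.map τ from (Ideal.map_ofList τ _).symm]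
      ext a
      have hb : Function.Bijective τ := ConcreteCategory.bijective_of_isIso V.topIso.inv
      obtain ⟨a, rfl⟩ := hb.2 a
      rw [Ideal.mem_map_iff_of_surjective _ hb.2, RingHom.mem_ker]
      show (V.topIso.inv ≫ V.topIso.hom ≫ mk ≫ (Scheme.ΓSpecIso _).inv) a = 0 ↔ _
      rw [Iso.inv_hom_id_assoc]
      simp only [CommRingCat.comp_apply]
      rw [map_eq_zero_iff _ (ConcreteCategory.bijective_of_isIso (Scheme.ΓSpecIso _).inv).1]
      exact Ideal.Quotient.eq_zero_iff_mem.trans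
        ⟨fun h => ⟨a, h, rfl⟩, fun ⟨b, hb', hab⟩ => hb.1 hab ▸ hb'⟩
  · rw [hif]
    have : Flat (Spec.map φ) := (HasRingHomProperty.Spec_iff (P := @Flat)).mpr
      (RingHom.flat_algebraMap_iff.mpr hfl)
    infer_instance
  · rw [hif]
    have : LocallyOfFinitePresentation (Spec.map φ) :=
      (HasRingHomProperty.Spec_iff (P := @LocallyOfFinitePresentation)).mpr
        (RingHom.FinitePresentation.comp (RingHom.FinitePresentation.of_surjective _
          Ideal.Quotient.mk_surjective (by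
            change (RingHom.ker (Ideal.Quotient.mk A)).FG
            rw [Ideal.mk_ker]; exact Submodule.fg_span (List.finite_toSet _)))
          (f.finitePresentation_appLE hU hV e'))
    infer_instance
  · rw [hif]
    have : LocallyQuasiFinite (Spec.map φ) :=
      (HasRingHomProperty.Spec_iff (P := @LocallyQuasiFinite)).mpr
        (RingHom.quasiFinite_algebraMap.mpr hqf)
    infer_instance
  · have h1 : V.ι (i z) = hV.fromSpec (Spec.map mk z) := by
      rw [← Scheme.Hom.comp_apply, hiV, Scheme.Hom.comp_apply]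
    let P : PrimeSpectrum Γ(X, V) := Spec.map mk z
    have h2 := hres P
    rw [h1] at hz
    have hz' := (hunder (PrimeSpectrum.comap (algebraMap Γ(X, U₁) Γ(X, V)) P)).mp (h2 ▸ hz)
    have hAP : A ≤ P.asIdeal := fun a ha => by
      show Ideal.Quotient.mk A a ∈ z.asIdeal
      rw [Ideal.Quotient.eq_zero_iff_mem.mpr ha]
      exact zero_mem _
    have h3 := huniq P.asIdeal P.isPrime hAP (by
      rw [← hz', PrimeSpectrum.comap_asIdeal, Ideal.under, Ideal.under, Ideal.comap_comap,
        ← IsScalarTower.algebraMap_eq])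
    have h4 : PrimeSpectrum.comap (algebraMap Γ(X, U₁) Γ(X, V)) P = q := PrimeSpectrum.ext h3
    exact h1.trans (h2.trans ((congrArg hU₁.fromSpec h4).trans hxx))

end Groth.Agent.S1349
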