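import Groth.Statements.S5267
import Groth.Agent.DiagRig.ConstPieces
-- import your own Groth.Agent.* helpers here

set_option autoImplicit false
open CategoryTheory MonoidalCategory CartesianMonoidalCategory MonObj GrpObj AlgebraicGeometry
universe u
open SGA3x

namespace Groth.Agent.S5267

open CategoryTheory.Limits in
set_option backward.isDefEq.respectTransparency.types false in
/-- A piece of the etale cover on which `Z` is a union of full sheets. -/
theorem exists_piece {S : Scheme.{u}} [IsLocallyNoetherian S] (P : Over S)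
    (hP : TwC.IsTwConst TwC.Topology.etale P) {Z : Scheme.{u}} (z : Z ⟶ P.left) [IsOpenImmersion z]
    [IsClosedImmersion z] (t : S) :
    ∃ (V : Scheme.{u}) (g : V ⟶ S), Etale g ∧ t ∈ Set.range g.base ∧
      (∀ v v' : V, Set.Finite ((z ≫ P.hom).base ⁻¹' {g.base v}) → Set.Finite ((z ≫ P.hom).base ⁻¹' {g.base v'})) ∧
      ((∀ v : V, Set.Finite ((z ≫ P.hom).base ⁻¹' {g.base v})) → IsFinite (pullback.snd (z ≫ P.hom) g)) := by
  classical
  obtain ⟨S', f, hf, ⟨s', hs'⟩, I, ⟨e⟩⟩ := hP t
  have : IsLocallyNoetherian S' := LocallyOfFiniteType.isLocallyNoetherian f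
  obtain ⟨(U0 : S.Opens), hU0, htU0, -⟩ := TopologicalSpace.Opens.isBasis_iff_nbhd.mp S.isBasis_affineOpens
    (show t ∈ (⊤ : S.Opens) from trivial)
  obtain ⟨(W : S'.Opens), hW, hsW, hWU⟩ := TopologicalSpace.Opens.isBasis_iff_nbhd.mp S'.isBasis_affineOpens
    (show s' ∈ f ⁻¹ᵁ (U0 : S.Opens) by show f.base s' ∈ (U0 : S.Opens); rw [hs']; exact htU0)
  have : IsAffine W := hW
  have : IsNoetherian W := { }
  let C : (W : Scheme.{u}).Opens :=
    ⟨connectedComponent (⟨s', hsW⟩ : W), SchPoints.isOpen_connectedComponent_of_noetherian _⟩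
  have : IsClosedImmersion C.ι := IsClosedImmersion.of_isPreimmersion _ (by
    rw [Scheme.Opens.range_ι]; exact isClosed_connectedComponent)
  have : IsAffine C := isAffine_of_isAffineHom C.ι
  have hCc : PreconnectedSpace C :=
    Subtype.preconnectedSpace isPreconnected_connectedComponent
  have hg : (C.ι ≫ W.ι) ≫ f = C.ι ≫ W.ι ≫ f := Category.assoc _ _ _
  obtain ⟨σ, hσo, hσs, hσd, hσc⟩ := DiagRig.exists_sections P f e (C.ι ≫ W.ι) (C.ι ≫ W.ι ≫ f) hg
  generalize hgdef : (C.ι ≫ W.ι ≫ f : (C : Scheme.{u}) ⟶ S) = g at *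
  have : Etale g := hgdef ▸ inferInstance
  have : LocallyQuasiFinite g := AlgSpB.lqf_of_lft_unramified g
  have : QuasiCompact g := by
    have h1 : Set.range g.base ⊆ Set.range U0.ι.base := by
      rintro _ ⟨v, rfl⟩
      rw [Scheme.Opens.range_ι, ← hgdef]
      exact hWU (C.ι.base v).2
    have : IsAffine U0 := hU0
    rw [← IsOpenImmersion.lift_fac _ _ h1]
    infer_instance
  refine ⟨C, g, inferInstance, ⟨⟨⟨s', hsW⟩, mem_connectedComponent⟩, hgdef ▸ hs'⟩, ?_⟩
  let p := pullback.snd P.hom g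
  let z' := pullback.snd z (pullback.fst P.hom g)
  let q := pullbackRightPullbackFstIso P.hom g z
  have hq : q.hom ≫ pullback.snd (z ≫ P.hom) g = z' ≫ p := by simp [q, z', p]
  let F : Set I := {i | ∃ v, (σ i).base v ∈ Set.range z'.base}
  have hfull : ∀ i ∈ F, ∀ v, (σ i).base v ∈ Set.range z'.base := by
    rintro i ⟨v₀, hv₀⟩ v
    have hcl : IsClopen ((σ i).base ⁻¹' Set.range z'.base) :=
      ⟨z'.isClosedEmbedding.isClosed_range.preimage (σ i).continuous,
        z'.isOpenEmbedding.isOpen_range.preimage (σ i).continuous⟩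
    have := hcl.eq_univ ⟨v₀, hv₀⟩
    exact this.ge (Set.mem_univ v)
  have hfib : ∀ v, Set.Finite ((z ≫ P.hom).base ⁻¹' {g.base v}) ↔ F.Finite := by
    intro v
    have hq' : ∀ w, (pullback.snd (z ≫ P.hom) g).base (q.hom.base w) = p.base (z'.base w) := fun w => by
      rw [← Scheme.Hom.comp_apply, hq, Scheme.Hom.comp_apply]
    have hsec : ∀ i, p.base ((σ i).base v) = v := fun i => by
      rw [← Scheme.Hom.comp_apply, hσs]; rfl
    constructor
    · intro hfin
      have h1 : Set.Finite ((pullback.fst (z ≫ P.hom) g).base ⁻¹' ((z ≫ P.hom).base ⁻¹' {g.base v})) :=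
        (pullback.fst (z ≫ P.hom) g).finite_preimage hfin
      have h2 : ∀ i : F, ∃ w, q.hom.base w ∈ (pullback.fst (z ≫ P.hom) g).base ⁻¹'
          ((z ≫ P.hom).base ⁻¹' {g.base v}) ∧ z'.base w = (σ i.1).base v := fun i => by
        obtain ⟨w, hw⟩ := hfull i.1 i.2 v
        refine ⟨w, ?_, hw⟩
        show (z ≫ P.hom).base _ = g.base v
        rw [← Scheme.Hom.comp_apply, pullback.condition, Scheme.Hom.comp_apply, hq', hw, hsec]
      choose w hw hw' using h2
      have := h1.to_subtype
      exact Set.finite_coe_iff.mp (Finite.of_injective (fun i : F => (⟨q.hom.base (w i), hw i⟩ :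
        ↥((pullback.fst (z ≫ P.hom) g).base ⁻¹' ((z ≫ P.hom).base ⁻¹' {g.base v}))))
        fun i k h => Subtype.ext (hσd _ _ v v (by
          rw [← hw', ← hw', q.hom.isOpenEmbedding.injective (congrArg Subtype.val h)])))
    · intro hF
      have h1 : Set.Finite (z'.base ⁻¹' ((fun i => (σ i).base v) '' F)) :=
        (hF.image _).preimage z'.isOpenEmbedding.injective.injOn
      refine (h1.image fun w => (pullback.fst (z ≫ P.hom) g).base (q.hom.base w)).subset fun x hx => ?_
      obtain ⟨y, hy1, hy2⟩ := Scheme.Pullback.exists_preimage_pullback (f := z ≫ P.hom) (g := g) x v hx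
      obtain ⟨w, rfl⟩ := q.hom.homeomorph.surjective y
      obtain ⟨i, a, ha⟩ := hσc (z'.base w)
      refine ⟨w, ⟨i, ⟨a, ⟨w, ha.symm⟩⟩, ?_⟩, hy1⟩
      have : a = v := by
        have h3 := congrArg p.base ha
        rw [← Scheme.Hom.comp_apply, hσs] at h3
        rw [← hy2]
        show _ = (pullback.snd (z ≫ P.hom) g).base (q.hom.base w)
        rw [hq']
        exact h3
      show (σ i).base v = z'.base w
      rw [← this, ha]
  refine ⟨fun v v' h => (hfib v').mpr ((hfib v).mp h), fun hall => ?_⟩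
  have hF : F.Finite := (hfib ⟨⟨s', hsW⟩, mem_connectedComponent⟩).mp (hall _)
  have : CompactSpace (pullback z (pullback.fst P.hom g) : Scheme.{u}) := by
    have : IsCompact (Set.range z'.base) := (hF.isCompact_biUnion fun i _ =>
      isCompact_range (σ i).continuous).of_isClosed_subset z'.isClosedEmbedding.isClosed_range (by
        rintro _ ⟨w, rfl⟩
        obtain ⟨i, a, ha⟩ := hσc (z'.base w)
        exact Set.mem_iUnion₂.mpr ⟨i, ⟨a, ⟨w, ha.symm⟩⟩, a, ha⟩)
    refine ⟨z'.isClosedEmbedding.isInducing.isCompact_iff.mpr ?_⟩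
    rwa [Set.image_univ]
  have : QuasiCompact (z' ≫ p) := inferInstance
  rw [← MorphismProperty.cancel_left_of_respectsIso (P := @IsFinite) q.hom, hq]
  have := hσo
  exact DiagRig.finite_const _ I p σ hσs hσd hσc z'

set_option backward.isDefEq.respectTransparency.types false in
/-- Let S be a locally Noetherian connected scheme, P a quasi-isotrivial twisted constant S-scheme
(etale-locally on S isomorphic to a constant scheme) and Z an open and closed subscheme of P such
that for some s ∈ S the fibre Z_s is finite. Then Z is finite over S. -/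
theorem result {S : Scheme.{u}} [IsLocallyNoetherian S] [ConnectedSpace S]
    (P : Over S) (hP : TwC.IsTwConst TwC.Topology.etale P)
    {Z : Scheme.{u}} (z : Z ⟶ P.left) [IsOpenImmersion z] [IsClosedImmersion z]
    (hs : ∃ s : S, Set.Finite ((z ≫ P.hom).base ⁻¹' {s})) :
    IsFinite (z ≫ P.hom) := by
  obtain ⟨s₀, hs₀⟩ := hs
  let T : Set S := {t | Set.Finite ((z ≫ P.hom).base ⁻¹' {t})}
  have hT : IsClopen T := by
    constructor
    · rw [← isOpen_compl_iff, isOpen_iff_forall_mem_open]
      intro t ht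
      obtain ⟨V, g, hg, ⟨v, rfl⟩, hconst, -⟩ := exists_piece P hP z t
      exact ⟨Set.range g.base, by rintro _ ⟨v', rfl⟩ h; exact ht (hconst v' v h),
        g.isOpenMap.isOpen_range, v, rfl⟩
    · rw [isOpen_iff_forall_mem_open]
      intro t ht
      obtain ⟨V, g, hg, ⟨v, rfl⟩, hconst, -⟩ := exists_piece P hP z t
      exact ⟨Set.range g.base, by rintro _ ⟨v', rfl⟩; exact hconst v v' ht,
        g.isOpenMap.isOpen_range, v, rfl⟩
  have huniv : T = Set.univ := hT.eq_univ ⟨s₀, hs₀⟩
  have : MorphismProperty.DescendsAlong (@IsFinite : MorphismProperty Scheme.{u})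
      (@Surjective ⊓ @Flat ⊓ @QuasiCompact) := FpqcDesc.descendsAlong_isFinite
  refine TwCLib.of_etale_cover @IsFinite _ fun t => ?_
  obtain ⟨V, g, hg, ht, -, hfin⟩ := exists_piece P hP z t
  exact ⟨V, g, hg, ht, hfin fun v => huniv.ge (Set.mem_univ (g.base v))⟩

end Groth.Agent.S5267
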