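import Groth.Statements.S5268
import Groth.Agent.S5267
import Groth.Agent.Chevalley.Local
import Groth.Agent.Chevalley.Scheme
-- import your own Groth.Agent.* helpers here

set_option autoImplicit false
open CategoryTheory MonoidalCategory CartesianMonoidalCategory MonObj GrpObj AlgebraicGeometry
universe u
open SGA3x

namespace Groth.Agent.S5268

open CategoryTheory.Limits in
set_option backward.isDefEq.respectTransparency.types false in
/-- Schemes étale over a locally Noetherian geometrically unibranch scheme are locally irreducible. -/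
theorem exists_irreducible_nhd {S X : Scheme.{u}} [IsLocallyNoetherian S]
    (hS : ∀ s : S, CAlg2.IsGeomUnibranch (S.presheaf.stalk s)) (f : X ⟶ S) [Etale f] (x : X) :
    ∃ N : Set X, IsOpen N ∧ x ∈ N ∧ IsIrreducible N := by
  obtain ⟨M, hM, hxM, hMi⟩ := Chevalley.exists_irreducible_nhd_of_noetherian (fun s => (hS s).1) (f.base x)
  obtain ⟨_, ⟨(V : S.Opens), hV, rfl⟩, hxV, hVM⟩ := S.isBasis_affineOpens.exists_subset_of_mem_open hxM hM
  have : IsAffine V := hV
  have : IrreducibleSpace (V : Scheme.{u}) := Subtype.irreducibleSpace ⟨⟨_, hxV⟩, hMi.open_subset V.2 hVM⟩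
  let I := Scheme.IdealSheafData.vanishingIdeal (⊤ : TopologicalSpace.Closeds (V : Scheme.{u}))
  let i := I.subschemeι
  have hsurj : Function.Surjective i := Set.range_eq_univ.mp
    (RedSub.range_vanishingIdeal_subschemeι (⊤ : TopologicalSpace.Closeds (V : Scheme.{u})))
  have : Surjective i := ⟨hsurj⟩
  have hb : IsHomeomorph i := isHomeomorph_iff_isEmbedding_surjective.mpr ⟨i.isEmbedding, hsurj⟩
  have : IrreducibleSpace I.subscheme := by
    refine (irreducibleSpace_def _).mpr ?_
    have h : IsIrreducible (hb.homeomorph.symm '' (Set.univ : Set (V : Scheme.{u}))) :=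
      (IrreducibleSpace.isIrreducible_univ _).image _ hb.homeomorph.symm.continuous.continuousOn
    rwa [Set.image_univ, EquivLike.range_eq_univ] at h
  have := isIntegral_of_irreducibleSpace_of_isReduced I.subscheme
  have hI : ∀ y, CAlg2.IsGeomUnibranch (I.subscheme.presheaf.stalk y) := fun y =>
    Chevalley.isGeomUnibranch_comp_equiv (i.stalkMap y).hom (i.stalkMap_surjective y)
      (EtStruct.ker_stalkMap_eq_nilradical i hsurj y) (asIso (V.ι.stalkMap (i y))).commRingCatIsoToRingEquiv (hS _)
  let a := pullback.fst (f ∣_ V) i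
  have ha : IsHomeomorph a := isHomeomorph_iff_isEmbedding_surjective.mpr ⟨a.isEmbedding, a.surjective⟩
  obtain ⟨x', hx'⟩ := ha.bijective.surjective ⟨x, hxV⟩
  obtain ⟨N, hxN, hN⟩ := EtStruct.exists_irreducible_nhd_of_etale (pullback.snd (f ∣_ V) i) x' (hI _)
  refine ⟨(f ⁻¹ᵁ V).ι.base '' (a.base '' (N : Set _)), (f ⁻¹ᵁ V).ι.isOpenEmbedding.isOpenMap _ (ha.isOpenMap _ N.2),
    ⟨_, ⟨x', hxN, rfl⟩, congrArg Subtype.val hx'⟩, ?_⟩
  exact (hN.image _ a.continuous.continuousOn).image _ (f ⁻¹ᵁ V).ι.continuous.continuousOn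

set_option backward.isDefEq.respectTransparency.types false in
/-- Let S be a locally Noetherian scheme all of whose local rings are geometrically unibranch, and P a
quasi-isotrivial twisted constant S-scheme (etale-locally on S isomorphic to a constant scheme).
Then every connected component of P is open, and as an open subscheme of P it is finite over S. -/
theorem result {S : Scheme.{u}} [IsLocallyNoetherian S]
    (hS : ∀ s : S, CAlg2.IsGeomUnibranch (S.presheaf.stalk s))
    (P : Over S) (hP : TwC.IsTwConst TwC.Topology.etale P) (x : P.left) :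
    ∃ U : P.left.Opens, (U : Set P.left) = connectedComponent x ∧ IsFinite (U.ι ≫ P.hom) := by
  obtain ⟨-, hEt⟩ := TwCLib.isSeparated_and_etale hP
  have hirr := exists_irreducible_nhd hS P.hom
  let U : P.left.Opens := ⟨connectedComponent x, by
    rw [isOpen_iff_forall_mem_open]
    intro y hy
    obtain ⟨N, hN, hyN, hNi⟩ := hirr y
    exact ⟨N, connectedComponent_eq hy ▸ hNi.isConnected.2.subset_connectedComponent hyN, hN, hyN⟩⟩
  have : ConnectedSpace (U : Scheme.{u}) := Subtype.connectedSpace isConnected_connectedComponent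
  have : IrreducibleSpace (U : Scheme.{u}) :=
    EtStruct.irreducibleSpace_of_connected_of_exists_irreducible_nhd
      (exists_irreducible_nhd hS (U.ι ≫ P.hom))
  have : IsClosedImmersion U.ι := IsClosedImmersion.of_isPreimmersion _ (by
    rw [Scheme.Opens.range_ι]; exact isClosed_connectedComponent)
  have : LocallyQuasiFinite (U.ι ≫ P.hom) := AlgSpB.lqf_of_lft_unramified _
  refine ⟨U, rfl, ?_⟩
  let T : Set S := {t | Set.Finite ((U.ι ≫ P.hom).base ⁻¹' {t})}
  have hT : IsClosed T := by
    rw [← isOpen_compl_iff, isOpen_iff_forall_mem_open]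
    intro t ht
    obtain ⟨V, g, hg, ⟨v, rfl⟩, hconst, -⟩ := S5267.exists_piece P hP U.ι t
    exact ⟨Set.range g.base, by rintro _ ⟨v', rfl⟩ h; exact ht (hconst v' v h),
      g.isOpenMap.isOpen_range, v, rfl⟩
  let p := U.ι ≫ P.hom
  let ξ := genericPoint (U : Scheme.{u})
  have hη : p.base ξ ∈ T := by
    refine (Set.finite_singleton ξ).subset fun y (hy : p.base y = p.base ξ) => ?_
    have hd := (p.isDiscrete_preimage_singleton (p.base ξ)).to_subtype
    have h : (⟨ξ, rfl⟩ : ↥(p.base ⁻¹' {p.base ξ})) ⤳ ⟨y, hy⟩ :=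
      (subtype_specializes_iff (⟨ξ, rfl⟩ : ↥(p.base ⁻¹' {p.base ξ})) ⟨y, hy⟩).mpr (genericPoint_specializes y)
    exact (congrArg Subtype.val h.eq).symm
  have huniv : ∀ t, t ∈ T := fun t => by
    by_cases h : ∃ y, p.base y = t
    · obtain ⟨y, rfl⟩ := h
      exact ((genericPoint_specializes y).map p.continuous).mem_closed hT hη
    · refine Set.finite_empty.subset fun y hy => h ⟨y, hy⟩
  have : MorphismProperty.DescendsAlong (@IsFinite : MorphismProperty Scheme.{u})
      (@Surjective ⊓ @Flat ⊓ @QuasiCompact) := FpqcDesc.descendsAlong_isFinite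
  refine TwCLib.of_etale_cover @IsFinite _ fun t => ?_
  obtain ⟨V, g, hg, ht, -, hfin⟩ := S5267.exists_piece P hP U.ι t
  exact ⟨V, g, hg, ht, hfin fun v => huniv (g.base v)⟩

end Groth.Agent.S5268
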