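import Groth.Statements.S9812
import Mathlib
-- import your own Groth.Agent.* helpers here

set_option autoImplicit false
universe u
open CAlg2

namespace Groth.Agent.S9812

open scoped TensorProduct

/-- At the level of the local ring: an integrally closed local domain is geometrically unibranch.
Consequently a normal scheme is geometrically unibranch. -/
theorem result (A : Type u) [CommRing A] [IsLocalRing A]
    [IsDomain A] [IsIntegrallyClosed A] : CAlg2.IsGeomUnibranch A := by
  have h0 : nilradical A = ⊥ := nilradical_eq_zero A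
  let e : CAlg2.red A ≃+* A := (Ideal.quotEquivOfEq h0).trans (RingEquiv.quotientBot A)
  have hd : IsDomain (CAlg2.red A) := e.toMulEquiv.isDomain_iff.mpr inferInstance
  have hi : IsIntegrallyClosed (CAlg2.red A) := IsIntegrallyClosed.of_equiv e.symm
  have hsurj : Function.Surjective (algebraMap (CAlg2.red A) (CAlg2.normRed A)) := by
    rintro ⟨y, hy⟩
    obtain ⟨z, hz⟩ := IsIntegrallyClosed.algebraMap_eq_of_integral hy
    exact ⟨z, Subtype.ext hz⟩
  have hinj : Function.Injective (algebraMap (CAlg2.red A) (CAlg2.normRed A)) := fun a b h ↦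
    IsFractionRing.injective (CAlg2.red A) (FractionRing (CAlg2.red A)) (congr_arg Subtype.val h)
  let e' := (RingEquiv.ofBijective _ ⟨hinj, hsurj⟩).symm.trans e
  have : IsLocalRing (CAlg2.normRed A) := RingEquiv.isLocalRing e'.symm
  refine ⟨⟨hd, this⟩, fun m' _ x ↦ ⟨0, ?_⟩⟩
  obtain ⟨y, rfl⟩ := Ideal.Quotient.mk_surjective x
  obtain ⟨z, rfl⟩ := hsurj y
  obtain ⟨w, rfl⟩ := Ideal.Quotient.mk_surjective z
  exact ⟨w, by simp⟩

end Groth.Agent.S9812
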