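import Groth.Statements.S1489
import Groth.Agent.InfLift.Etale
import Groth.Agent.S1487

set_option autoImplicit false
universe u
open FlatMor

namespace Groth.Agent.S1489

open AlgebraicGeometry CategoryTheory Limits in
/-- A morphism f : X → S is étale if and only if it is locally of finite presentation and formally
étale, i.e. has the unique lifting property against first order thickenings of affine schemes (rings
in the same universe). -/
theorem result {X S : Scheme.{u}} (f : X ⟶ S) :
    Etale f ↔ LocallyOfFinitePresentation f ∧ MoreMor.IsFormallyEtaleHom f := by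
  refine ⟨fun h ↦ ⟨inferInstance, (Groth.Agent.S1487.result f).mpr fun U V hU hV hUV ↦ ?_⟩,
    fun ⟨h1, h2⟩ ↦ ⟨fun {V} hV {U} hU hUV ↦ ?_⟩⟩
  · let _ := (f.appLE V U hUV).hom.toAlgebra
    have := f.etale_appLE hV hU hUV
    rw [RingHom.Etale] at this
    exact Algebra.Etale.formallyEtale
  · let _ := (f.appLE V U hUV).hom.toAlgebra
    have := (Groth.Agent.S1487.result f).mp h2 U V hU hV hUV
    have h3 : Algebra.FinitePresentation Γ(S, V) Γ(X, U) := f.finitePresentation_appLE hV hU hUV
    exact ({} : Algebra.Etale Γ(S, V) Γ(X, U))

end Groth.Agent.S1489
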