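import Groth.Statements.S7007
import Groth.Agent.RelFP.Basic
import Mathlib.RingTheory.FinitePresentation
import Mathlib.RingTheory.Localization.Away.AdjoinRoot


set_option autoImplicit false
set_option linter.style.haveILetI false
universe u
open CAlg

namespace Groth.Agent.S7007

open Groth.Agent.RelFP.Basic

/-- `awayMap` as an algebra map. -/
noncomputable def awayAlgHom {R B A : Type u} [CommRing R] [CommRing B] [CommRing A] [Algebra R B]
    [Algebra R A] (φ : B →ₐ[R] A) (G : B) :
    Localization.Away G →ₐ[R] Localization.Away (φ.toRingHom G) :=
  { awayMap φ.toRingHom G with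
    commutes' := fun r => by
      show awayMap φ.toRingHom G (algebraMap R _ r) = _
      rw [IsScalarTower.algebraMap_apply R B (Localization.Away G), ← RingHom.comp_apply,
        awayMap_comp, RingHom.comp_apply]
      show algebraMap A _ (φ (algebraMap R B r)) = _
      rw [AlgHom.commutes, ← IsScalarTower.algebraMap_apply R A] }

/-- Let R → A be a finite type homomorphism of commutative rings with a surjective R-algebra
homomorphism α : R[x_1, ..., x_n] → A, M an A-module, f_1, ..., f_r elements of A generating the
unit ideal, and for each i a surjective R-algebra homomorphism γ_i : R[z_1, ..., z_(k_i)] → A_(f_i).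
Then M is finitely presented as an R[x_1, ..., x_n]-module through α if and only if, for every i,
the localization M_(f_i) is finitely presented as an R[z_1, ..., z_(k_i)]-module through γ_i. -/
theorem result {R A : Type u} [CommRing R] [CommRing A] [Algebra R A]
    {n : ℕ} (α : MvPolynomial (Fin n) R →ₐ[R] A) (hα : Function.Surjective α) (M : Type u) [AddCommGroup M]
    [Module A M] {r : ℕ} (f : Fin r → A) (hf : Ideal.span (Set.range f) = ⊤) (k : Fin r → ℕ)
    (γ : ∀ i, MvPolynomial (Fin (k i)) R →ₐ[R] Localization.Away (f i)) (hγ : ∀ i, Function.Surjective (γ i)) :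
    @Module.FinitePresentation (MvPolynomial (Fin n) R) (M) _ _ (Module.compHom (M) α.toRingHom) ↔
      ∀ i, @Module.FinitePresentation (MvPolynomial (Fin (k i)) R) (LocalizedModule (Submonoid.powers (f i)) M) _ _ (Module.compHom (LocalizedModule (Submonoid.powers (f i)) M) (γ i).toRingHom) := by
  classical
  choose F hF using fun i => hα (f i)
  obtain rfl : (fun i => α (F i)) = f := funext hF
  constructor
  · intro hM i
    haveI : Algebra.FinitePresentation (MvPolynomial (Fin n) R) (Localization.Away (F i)) :=
      IsLocalization.Away.finitePresentation (F i)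
    haveI : Algebra.FinitePresentation R (Localization.Away (F i)) :=
      Algebra.FinitePresentation.trans R (MvPolynomial (Fin n) R) _
    refine (fpVia_iff_fpVia (awayAlgHom α (F i)) (awayMap_surjective α.toRingHom (F i) hα)
      (γ i) (hγ i) _).1 ?_
    exact fpVia_awayMap α.toRingHom (F i) (LocalizedModule.mkLinearMap (Submonoid.powers (α (F i))) M) hM
  · intro h
    obtain ⟨c, hc⟩ := (Ideal.mem_span_range_iff_exists_fun).1 (show (1 : A) ∈ _ from hf ▸ Submodule.mem_top)
    choose C hC using fun i => hα (c i)
    set u := ∑ i, C i * F i with hu
    have hαu : α u = 1 := by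
      rw [hu, map_sum, ← hc]
      exact Finset.sum_congr rfl fun i _ => by rw [map_mul, hC]
    let B' := Localization.Away u
    have hunit : IsUnit (α.toRingHom u) := by
      show IsUnit (α u)
      rw [hαu]; exact isUnit_one
    let α' : B' →ₐ[R] A :=
      { IsLocalization.Away.lift (S := B') u hunit with
        commutes' := fun r => by
          show IsLocalization.Away.lift (S := B') u hunit (algebraMap R _ r) = _
          rw [IsScalarTower.algebraMap_apply R (MvPolynomial (Fin n) R) B',
            IsLocalization.Away.lift_eq]
          exact α.commutes r }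
    have hlift : ∀ x, α' (algebraMap _ B' x) = α x := fun x => IsLocalization.Away.lift_eq u hunit x
    have hα' : Function.Surjective α' := fun a => by
      obtain ⟨x, rfl⟩ := hα a
      exact ⟨_, hlift x⟩
    haveI : Algebra.FinitePresentation (MvPolynomial (Fin n) R) B' :=
      IsLocalization.Away.finitePresentation u
    haveI : Algebra.FinitePresentation R B' :=
      Algebra.FinitePresentation.trans R (MvPolynomial (Fin n) R) _
    refine (fpVia_iff_fpVia α hα α' hα' M).2 ?_
    refine fpVia_of_cover α'.toRingHom (fun i => algebraMap _ B' (F i)) ?_ fun i => ?_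
    · rw [Ideal.eq_top_iff_one]
      have hu' : algebraMap (MvPolynomial (Fin n) R) B' u * IsLocalization.Away.invSelf u = 1 :=
        IsLocalization.Away.mul_invSelf u
      rw [← hu']
      refine Ideal.mul_mem_right _ _ ?_
      rw [show algebraMap (MvPolynomial (Fin n) R) B' u = algebraMap (MvPolynomial (Fin n) R) B' (∑ i, C i * F i) from rfl, map_sum]
      refine sum_mem fun i _ => ?_
      rw [map_mul]
      exact Ideal.mul_mem_left _ _ (Ideal.subset_span ⟨i, rfl⟩)
    · have key : ∀ (a : A) (ha : a = α (F i)),
          ∀ (ψ : Localization.Away (algebraMap _ B' (F i)) →ₐ[R] Localization.Away a),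
          Function.Surjective ψ → FPVia ψ.toRingHom (LocalizedModule (Submonoid.powers a) M) := by
        rintro a rfl ψ hψ
        haveI : Algebra.FinitePresentation B' (Localization.Away (algebraMap _ B' (F i))) :=
          IsLocalization.Away.finitePresentation (algebraMap (MvPolynomial (Fin n) R) B' (F i))
        haveI : Algebra.FinitePresentation R (Localization.Away (algebraMap _ B' (F i))) :=
          Algebra.FinitePresentation.trans R B' _
        exact (fpVia_iff_fpVia ψ hψ (γ i) (hγ i) _).2 (h i)
      exact key _ (hlift (F i)) (awayAlgHom α' _) (awayMap_surjective α'.toRingHom _ hα')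

end Groth.Agent.S7007
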