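import Groth.Statements.S1640
import Groth.Agent.OneDim.Gluing

set_option autoImplicit false
universe u
open Variety

namespace Groth.Agent.S1640

/-- Let K be a field, A ⊆ K a subring with fraction field K, and B_1, …, B_r ⊆ K Noetherian
one-dimensional subrings with finitely many maximal ideals and fraction field K, such that for each
i the subring generated by A and B_i is all of K. Then some nonzero x ∈ A has x⁻¹ lying in B_i and
in the Jacobson radical of B_i for every i. -/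
theorem result (K : Type u) [Field K] (A : Subring K) [IsFractionRing A K]
    (r : ℕ) (B : Fin r → Subring K) [∀ i, IsNoetherianRing (B i)] [∀ i, IsFractionRing (B i) K]
    (hdim : ∀ i, ringKrullDim (B i) = 1) (hsl : ∀ i, Finite (MaximalSpectrum (B i)))
    (hgen : ∀ i, A ⊔ B i = ⊤) :
    ∃ x : K, x ∈ A ∧ x ≠ 0 ∧ ∀ i, ∃ hx : x⁻¹ ∈ B i, (⟨x⁻¹, hx⟩ : B i) ∈ (⊥ : Ideal (B i)).jacobson := by
  classical
  haveI := fun i => OneDim.krullDimLE_one_of_eq (hdim i)
  set S : Finset (ValuationSubring K) :=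
    Finset.univ.biUnion (fun i => (OneDim.finite_valuationSubring_ge (B i) (hsl i)).toFinset)
  have hS : ∀ O ∈ S, ∃ i, B i ≤ O.toSubring ∧ O ≠ ⊤ := by
    intro O hO
    obtain ⟨i, -, hO'⟩ := Finset.mem_biUnion.mp hO
    rw [Set.Finite.mem_toFinset] at hO'
    exact ⟨i, hO'⟩
  obtain ⟨x, hx, hx0, hxS⟩ := OneDim.exists_notMem A S
    (fun O hO y hy w => by
      obtain ⟨i, h1, h2⟩ := hS O hO
      exact OneDim.eventually_pow_mul_mem_nonunits (B i) h1 h2 hy w)
    (fun O hO => by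
      obtain ⟨i, h1, h2⟩ := hS O hO
      exact OneDim.not_le_of_sup_eq_top (hgen i) h1 h2)
  have hy : ∀ i, ∀ O : ValuationSubring K, B i ≤ O.toSubring → O ≠ ⊤ → x⁻¹ ∈ O.nonunits := fun i O h1 h2 =>
    OneDim.inv_mem_nonunits_of_notMem O (hxS O (Finset.mem_biUnion.mpr
      ⟨i, Finset.mem_univ _, (Set.Finite.mem_toFinset _).mpr ⟨h1, h2⟩⟩))
  choose N hN using fun i => OneDim.eventually_pow_mul_mem (B i) (hy i) 1
  set n := Finset.univ.sup N + 1
  refine ⟨x ^ n, pow_mem hx n, pow_ne_zero _ hx0, fun i => ?_⟩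
  have hmem : (x ^ n)⁻¹ ∈ B i := by
    rw [← inv_pow]
    have := hN i n ((Finset.le_sup (Finset.mem_univ i)).trans (Nat.le_succ _))
    rwa [mul_one] at this
  refine ⟨hmem, Ideal.mem_sInf.mpr fun {m} hm => ?_⟩
  refine OneDim.mem_of_isMaximal (OneDim.not_isField_of_eq (hdim i)) (fun O h1 h2 => ?_) hm.2
  change (x ^ n)⁻¹ ∈ O.nonunits
  rw [← inv_pow]
  obtain ⟨h3, h4⟩ := O.mem_nonunits_iff_exists_mem_maximalIdeal.mp (hy i O h1 h2)
  exact O.coe_mem_nonunits_iff.mpr (Ideal.pow_mem_of_mem _ h4 n (Nat.succ_pos _))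

end Groth.Agent.S1640
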