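import Groth.Statements.S1689
import Groth.Agent.S1688
import Groth.Agent.CAlg76.Planar
-- import your own Groth.Agent.* helpers here

set_option autoImplicit false
universe u
open CategoryTheory CategoryTheory.Limits AlgebraicGeometry TopologicalSpace
open SDiv

namespace Groth.Agent.S1689

set_option linter.style.haveILetI false

/-- Over a regular local ring of dimension at most two the dual of a finite module is free. -/
theorem free_dual (R : Type u) [CommRing R] [IsRegularLocalRing R] [Ring.KrullDimLE 2 R]
    (N : Type u) [AddCommGroup N] [Module R N] [Module.Finite R N] :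
    Module.Free R (Module.Dual R N) := by
  classical
  haveI := Groth.Agent.RegLoc.isDomain R
  by_cases h1 : Ring.KrullDimLE 1 R
  · haveI := Groth.Agent.S1688.isPrincipalIdealRing_of_regular R
    exact Module.free_of_finite_type_torsion_free'
  have hdim : ringKrullDim R = 2 := by
    have h2 : ringKrullDim R ≤ 2 := Ring.krullDimLE_iff.mp inferInstance
    refine le_antisymm h2 ?_
    obtain ⟨d, hd⟩ := Groth.Agent.RegLoc.exists_natCast_eq_ringKrullDim R
    have h1' : ¬ ringKrullDim R ≤ 1 := fun h => h1 (Ring.krullDimLE_iff.mpr h)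
    rw [hd.1] at h1' ⊢
    have : ¬ d ≤ 1 := fun h => h1' (by exact_mod_cast h)
    exact_mod_cast (show 2 ≤ d by omega)
  obtain ⟨x, hx, hx0⟩ : ∃ x ∈ IsLocalRing.maximalIdeal R, x ≠ 0 := by
    refine Submodule.exists_mem_ne_zero_of_ne_bot fun h => h1 ?_
    haveI : Ring.KrullDimLE 0 R := by
      letI := (IsLocalRing.isField_iff_maximalIdeal_eq.mpr h).toField
      infer_instance
    exact Ring.krullDimLE_iff.mpr ((Ring.krullDimLE_iff.mp this).trans (by norm_num))
  obtain ⟨n, π, hπ⟩ := Module.Finite.exists_fin' R N
  obtain ⟨m, r, hr⟩ := Submodule.fg_iff_exists_fin_generating_family.mp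
    (IsNoetherian.noetherian (LinearMap.ker π))
  let g : (Fin n → R) →ₗ[R] (Fin m → R) :=
    LinearMap.pi fun j => (Fintype.linearCombination R (r j) : (Fin n → R) →ₗ[R] R)
  have hxD : IsSMulRegular (Fin m → R) x := fun a b hab => funext fun i =>
    mul_left_cancel₀ hx0 (congrFun hab i)
  haveI := Groth.Agent.CAlg76.Planar.free_ker hdim (Fin m → R) x hx hx0 hxD g
  have hg : ∀ (v : Fin n → R) j, g v j = ∑ i, v i * r j i := fun v j => by
    simp [g, Fintype.linearCombination_apply]
  have hval : ∀ (φ : Module.Dual R N) (w : Fin n → R),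
      φ (π w) = ∑ i, φ (π (Pi.single i 1)) * w i := fun φ w => by
    conv_lhs => rw [pi_eq_sum_univ' w]
    simp [map_sum, mul_comm]
  let Φ : Module.Dual R N →ₗ[R] (LinearMap.ker g) :=
    { toFun := fun φ => ⟨fun i => φ (π (Pi.single i 1)), by
        rw [LinearMap.mem_ker]
        funext j
        rw [hg, ← hval, show π (r j) = 0 from
          LinearMap.mem_ker.mp (hr ▸ Submodule.subset_span ⟨j, rfl⟩), map_zero]
        rfl⟩
      map_add' := fun _ _ => rfl
      map_smul' := fun _ _ => rfl }
  refine Module.Free.of_equiv (LinearEquiv.ofBijective Φ ⟨?_, ?_⟩).symm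
  · intro φ ψ h
    refine LinearMap.ext fun y => ?_
    obtain ⟨w, rfl⟩ := hπ y
    rw [hval φ, hval ψ]
    exact Finset.sum_congr rfl fun i _ => by rw [show φ (π (Pi.single i 1)) = ψ (π (Pi.single i 1))
      from congrFun (congrArg Subtype.val h) i]
  · rintro ⟨v, hv⟩
    have hker : LinearMap.ker π ≤ LinearMap.ker (Fintype.linearCombination R v) := by
      rw [← hr, Submodule.span_le]
      rintro _ ⟨j, rfl⟩
      rw [SetLike.mem_coe, LinearMap.mem_ker, Fintype.linearCombination_apply]
      have h0 : g v j = 0 := congrFun hv j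
      rw [hg] at h0
      simpa [mul_comm] using h0
    refine ⟨(Submodule.liftQ (LinearMap.ker π) (Fintype.linearCombination R v) hker).comp
      (π.quotKerEquivOfSurjective hπ).symm.toLinearMap, Subtype.ext (funext fun i => ?_)⟩
    change (Submodule.liftQ (LinearMap.ker π) (Fintype.linearCombination R v) hker)
      ((π.quotKerEquivOfSurjective hπ).symm (π (Pi.single i 1))) = v i
    rw [show (π.quotKerEquivOfSurjective hπ).symm (π (Pi.single i 1)) =
      Submodule.Quotient.mk (Pi.single i 1) from (LinearEquiv.symm_apply_eq _).mpr rfl,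
      Submodule.liftQ_apply, Fintype.linearCombination_apply_single, one_smul]


/-- Let X be a locally Noetherian scheme of dimension at most 2 all of whose local rings are regular,
and F a coherent module on X. Then F is reflexive (every stalk is a reflexive module over the local
ring) if and only if F is finite locally free. -/
theorem result (X : Scheme.{u}) [IsLocallyNoetherian X]
    (hreg : ∀ x : ↥X, IsRegularLocalRing (X.presheaf.stalk x)) (hdim : topologicalKrullDim ↥X ≤ 2) (F : X.Modules)
    (hF : Coh.IsCoh F) : (∀ x : ↥X, Module.IsReflexive (X.presheaf.stalk x) (F.presheaf.stalk x)) ↔ FlatMod.IsFinLocFree F := by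
  rw [Groth.Agent.S1688.finLocFree_iff F hF]
  refine forall_congr' fun x => ?_
  haveI := hreg x
  haveI : Ring.KrullDimLE 2 (X.presheaf.stalk x) := Groth.Agent.S1688.krullDimLE_stalk (n := 2) hdim x
  haveI := Groth.Agent.FDesc.QuasiFlat.finite_stalk_of_isCoh F hF x
  refine ⟨fun h => ?_, fun h => ?_⟩
  · haveI := h
    haveI := free_dual (X.presheaf.stalk x)
      (Module.Dual (X.presheaf.stalk x) (F.presheaf.stalk x))
    exact Module.Free.of_equiv (Module.evalEquiv (X.presheaf.stalk x) (F.presheaf.stalk x)).symm
  · haveI := h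
    infer_instance

end Groth.Agent.S1689
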