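import Groth.Statements.S12451
import Groth.Agent.Props.QTilde

set_option autoImplicit false
universe u
open CategoryTheory AlgebraicGeometry
open Props

namespace Groth.Agent.S12451

/-- For a commutative ring R and an R-module M, the associated quasi-coherent module M~ on Spec R is a
finite locally free O-module exactly when M is finitely generated and projective over R
(equivalently, a finite locally free R-module). -/
theorem result {R : CommRingCat.{u}} (M : ModuleCat.{u} R) :
    FlatMod.IsFinLocFree (tilde M) ↔ Module.Finite R M ∧ Module.Projective R M := by
  constructor
  · intro h
    have h1 := Groth.Agent.Props.QProj.finitePresentation_sections (tilde M) h (isAffineOpen_top _)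
    have h2 := (Groth.Agent.Props.QTilde.finitePresentation_top_iff M).mp h1
    exact ⟨inferInstance, (Groth.Agent.Props.QTilde.projective_top_iff M).mp
      (Groth.Agent.Props.QProj.projective_sections (tilde M) h (isAffineOpen_top _))⟩
  · rintro ⟨_, _⟩
    have hfp := Module.finitePresentation_of_projective R M
    have h1 := (Groth.Agent.Props.QTilde.finitePresentation_top_iff M).mpr hfp
    have h2 := (Groth.Agent.Props.QTilde.projective_top_iff M).mpr ‹_›
    intro x
    refine Groth.Agent.Props.QProj.exists_free_nhd (tilde M) (isAffineOpen_top _) trivial h1 ?_
    exact Groth.Agent.Props.QProj.free_stalk_of_flat (tilde M) (isAffineOpen_top _) trivial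

end Groth.Agent.S12451
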