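import Groth.Agent.DRing.PCTrunc
-- import your own Groth.Agent.* helpers here

set_option autoImplicit false
universe u
open CategoryTheory CategoryTheory.Limits
attribute [local instance] HasDerivedCategory.standard
open DRing

namespace Groth.Agent.S6942

/-- Let R be a Noetherian commutative ring and m an integer. An object K of D(R) is m-pseudo-coherent
exactly when H^i(K) = 0 for all large i and H^i(K) is a finitely generated R-module for each i ≥ m.
Every finitely generated R-module M is pseudo-coherent, and conversely. -/
theorem result (R : Type u) [CommRing R]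
    [IsNoetherianRing R] (m : ℤ) (K : Dual.D R) (M : Type u) [AddCommGroup M] [Module R M] :
    (DRing.IsPseudoCoherent R m K ↔
      (∃ b : ℤ, ∀ i : ℤ, b < i → Subsingleton (Dual.HD R K i)) ∧ ∀ i : ℤ, m ≤ i → Module.Finite R (Dual.HD R K i)) ∧
      (DRing.IsPseudoCoherentModule' R M ↔ Module.Finite R M) := by
  have hR : ∀ I : Ideal R, I.FG → Module.FinitePresentation R I := fun I hI =>
    have := Module.Finite.iff_fg.2 hI
    Module.finitePresentation_of_finite R I
  refine ⟨⟨fun h => ?_, fun h => ?_⟩, fun h => ?_, fun h => ?_⟩
  · obtain ⟨h1, h2⟩ := (Agent.DRing.PC.pc_iff_of_coherent hR (Agent.DRing.PC.pc_boundedAbove h)).1 h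
    refine ⟨Agent.DRing.PC.pc_boundedAbove h, fun i hi => ?_⟩
    rcases eq_or_lt_of_le hi with rfl | hlt
    · exact h1
    · have := h2 i hlt
      infer_instance
  · exact (Agent.DRing.PC.pc_iff_of_coherent hR h.1).2 ⟨h.2 m le_rfl, fun i hi =>
      have := h.2 i hi.le
      Module.finitePresentation_of_finite R _⟩
  · exact Agent.DRing.PC.pcModule_zero_iff.1 (Agent.DRing.PC.pcModule'_iff.1 h 0)
  · have := Module.finitePresentation_of_finite R M
    exact Agent.DRing.PC.pcModule'_of_fp hR M

end Groth.Agent.S6942
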