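import Groth.Statements.S7240
import Groth.Agent.PerfTri.QCohHom
-- import your own Groth.Agent.* helpers here

set_option autoImplicit false
universe u
open CategoryTheory CategoryTheory.Limits AlgebraicGeometry
attribute [local instance] HasDerivedCategory.standard
open Perf

namespace Groth.Agent.S7240

/-- Let X be a scheme, m an integer and E an m-pseudo-coherent object of D(O_X). Then the cohomology
sheaf Hⁱ(E) is quasi-coherent for every i > m, and Hᵐ(E) is, locally on X, a quotient of a
quasi-coherent module: every point of X has an open neighbourhood V and a quasi-coherent O_V-module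
mapping onto Hᵐ(E)|_V. (The published statement says that Hᵐ(E) is a quotient of a quasi-coherent
O_X-module; its proof gives this only locally on X, which is what this row states, and the global
form fails: on the affine plane over ℚ, the direct image of an invertible module over the inverse
image of O_X on a triangle of three lines, twisted by the constant 2 around the cycle, is an
O_X-module of finite type with no nonzero global section, so it is not a quotient of any
quasi-coherent module.) -/
theorem result {X : Scheme.{u}} (m : ℤ) (E : DCoh.D X)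
    (hE : DCoh.IsPseudoCoherentD m E) :
    (∀ i : ℤ, m < i → Coh.IsQCoh (DCoh.HD E i)) ∧
      ∀ x : X, ∃ (V : X.Opens) (Q : (V : Scheme.{u}).Modules)
        (π : Q ⟶ (Scheme.Modules.restrictFunctor V.ι).obj (DCoh.HD E m)), x ∈ V ∧ Coh.IsQCoh Q ∧ Epi π := by
  let F := DerivedCategory.Q.objPreimage E
  let eF : DerivedCategory.Q.obj F ≅ E := DerivedCategory.Q.objObjPreimageIso E
  choose V hxV hV using hE
  choose S α hS hiso hepi using fun x => hV x F ⟨eF⟩
  let eH : ∀ x i, (DCoh.HD E i).restrict (V x).ι ≅
      (DerivedCategory.homologyFunctor _ i).obj (DerivedCategory.Q.obj ((DCoh.restrictCx (V x)).obj F)) :=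
    fun x i => (Scheme.Modules.restrictFunctor (V x).ι).mapIso
        ((DerivedCategory.homologyFunctor X.Modules i).mapIso eF.symm ≪≫
          (DerivedCategory.homologyFunctorFactors X.Modules i).app F) ≪≫
      ((F.sc i).mapHomologyIso (Scheme.Modules.restrictFunctor (V x).ι)).symm ≪≫
      ((DerivedCategory.homologyFunctorFactors _ i).app ((DCoh.restrictCx (V x)).obj F)).symm
  have hq : ∀ x i, Coh.IsQCoh ((DerivedCategory.homologyFunctor _ i).obj (DerivedCategory.Q.obj (S x))) :=
    fun x i => by
    haveI : ∀ j, ((S x).X j).IsQuasicoherent := fun j =>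
      Groth.Agent.PerfTri.Betti.isQuasicoherent_of_isFinLocFree ((hS x).2 j)
    exact @Groth.Agent.QCoh.isQuasicoherent_of_iso _ _ _
      ((DerivedCategory.homologyFunctorFactors (V x : Scheme.{u}).Modules i).app (S x)).symm
      (Groth.Agent.PerfTri.QCohHom.isQuasicoherent_homology (S x) i)
  refine ⟨fun i hi => ?_, fun x => ⟨V x, _,
    (DerivedCategory.homologyFunctor _ m).map (α x) ≫ (eH x m).inv, hxV x, hq x m, ?_⟩⟩
  · haveI : ∀ x, ((DCoh.HD E i).restrict (V x).ι).IsQuasicoherent := fun x =>
      haveI := hiso x i hi
      @Groth.Agent.QCoh.isQuasicoherent_of_iso _ _ _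
        (asIso ((DerivedCategory.homologyFunctor _ i).map (α x)) ≪≫ (eH x i).symm) (hq x i)
    exact Groth.Agent.QCoh.isQuasicoherent_of_isOpenCover _ V (TopologicalSpace.IsOpenCover.mk
      (top_le_iff.mp fun x _ => TopologicalSpace.Opens.mem_iSup.mpr ⟨x, hxV x⟩))
  · haveI := hepi x
    exact epi_comp _ _

end Groth.Agent.S7240
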