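import Groth.Statements.S1809
import Groth.Agent.DualCx.SchStalk

set_option autoImplicit false
universe u
open CategoryTheory CategoryTheory.Limits AlgebraicGeometry
attribute [local instance] HasDerivedCategory.standard
open Dual

namespace Groth.Agent.S1809

/-- Let X be a locally Noetherian scheme and ω a dualizing complex on X (affine-locally the derived
tilde of a dualizing complex of the ring; exactness of restriction of module sheaves to opens and of
M ↦ M~ is assumed through instance binders). Then for every point x the local ring O_{X,x} is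
Cohen–Macaulay if and only if exactly one cohomology sheaf of ω has nonzero stalk at x; and the set
of points whose local ring is Cohen–Macaulay is open. -/
theorem result (X : Scheme.{u}) [IsLocallyNoetherian X] [∀ (U : Scheme.{u}) (j : U ⟶ X) [IsOpenImmersion j], PreservesFiniteLimits (Scheme.Modules.restrictFunctor j)] [∀ (R : CommRingCat.{u}), PreservesFiniteLimits (tilde.functor R)] (ω : DCoh.D X) (hω : Dual2.IsDualizingSch X ω) : (∀ x : X, LocCoh.IsCohenMacaulayLocalRing (X.presheaf.stalk x) ↔ ∃! i : ℤ, Nontrivial ((DCoh.HD ω i).presheaf.stalk x)) ∧ IsOpen {x : X | LocCoh.IsCohenMacaulayLocalRing (X.presheaf.stalk x)} := by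
  have hchart : ∀ x : X, ∃ (A : Type u) (_ : CommRing A) (j : Spec (CommRingCat.of A) ⟶ X)
      (_ : IsOpenImmersion j), x ∈ Set.range j.base := fun x => by
    obtain ⟨U, hU, hxU, -⟩ := TopologicalSpace.Opens.isBasis_iff_nbhd.mp X.isBasis_affineOpens
      (show x ∈ (⊤ : X.Opens) from trivial)
    exact ⟨Γ(X, U), inferInstance, IsAffineOpen.fromSpec hU, inferInstance, by
      rw [IsAffineOpen.range_fromSpec]; exact hxU⟩
  refine ⟨fun x => ?_, isOpen_iff_forall_mem_open.mpr fun x hx => ?_⟩
  · obtain ⟨A, _, j, _, p, rfl⟩ := hchart x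
    obtain ⟨ω', hω', ⟨e⟩⟩ := hω A j
    rw [DualCx.SchStalk.cm_stalk_iff j p, DualCx.SchStalk.cm_iff_existsUnique hω' p]
    simp only [DualCx.SchStalk.chart j e p]
  · obtain ⟨A, _, j, _, p, rfl⟩ := hchart x
    obtain ⟨ω', hω', -⟩ := hω A j
    have := hω'.isNoetherianRing
    refine ⟨j.base '' {q | LocCoh.IsCohenMacaulayLocalRing (Localization.AtPrime q.asIdeal)}, ?_, ?_, ?_⟩
    · rintro _ ⟨q, hq, rfl⟩
      exact (DualCx.SchStalk.cm_stalk_iff j q).mpr hq
    · refine j.isOpenEmbedding.isOpenMap _ ?_
      exact (Set.ext fun q => DualCx.Locus.cmRing_iff q.asIdeal :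
        {q : PrimeSpectrum A | LocCoh.IsCohenMacaulayLocalRing (Localization.AtPrime q.asIdeal)} = _) ▸
          DualCx.Locus.isOpen_cm hω' A
    · exact ⟨p, (DualCx.SchStalk.cm_stalk_iff j p).mp hx, rfl⟩

end Groth.Agent.S1809
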