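import Groth.Statements.S3675
import Groth.Agent.S1809
-- import your own Groth.Agent.* helpers here

set_option autoImplicit false
universe u
open CategoryTheory CategoryTheory.Limits AlgebraicGeometry
attribute [local instance] HasDerivedCategory.standard
open Dual3

namespace Groth.Agent.S3675

theorem exists_not_Z {A : Type u} [CommRing A] {ω : Dual.D A} (hω : Dual.IsDualizing A ω) (p : PrimeSpectrum A) :
    ∃ i : ℤ, ¬ DualCx.Dimfun.Z p (Dual.HD A ω i) := by
  have := hω.isNoetherianRing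
  obtain ⟨Q, hQ, hQp⟩ := Ideal.exists_minimalPrimes_le (bot_le : (⊥ : Ideal A) ≤ p.1)
  let q : PrimeSpectrum A := ⟨Q, hQ.1.1⟩
  have hd := (DualCx.Dimfun.not_Z_HD_iff_minimal hω q hQ (DualCx.Dimfun.deg hω q)).mpr rfl
  exact ⟨_, fun h => hd fun e => by
    obtain ⟨s, hs, he⟩ := h e
    exact ⟨s, fun h => hs (hQp h), he⟩⟩

/-- Let X be a locally Noetherian scheme (exactness instances as in the definition of dualizing
complexes) and ω a coherent O_X-module such that ω[0] is a dualizing complex on X. Then X is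
Cohen–Macaulay: every local ring O_{X,x} is a Cohen–Macaulay local ring. -/
theorem result (X : Scheme.{u}) [IsLocallyNoetherian X] [∀ (U V : Scheme.{u}) (j : U ⟶ V) [IsOpenImmersion j], PreservesFiniteLimits (Scheme.Modules.restrictFunctor j)] [∀ (R : CommRingCat.{u}), PreservesFiniteLimits (tilde.functor R)] (ω : X.Modules) (hω : Coh.IsCoh ω) (hD : Dual2.IsDualizingSch X (DCoh.inD X ω)) (x : X) : LocCoh.IsCohenMacaulayLocalRing (X.presheaf.stalk x) := by
  haveI : ∀ (U : Scheme.{u}) (j : U ⟶ X) [IsOpenImmersion j],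
      PreservesFiniteLimits (Scheme.Modules.restrictFunctor j) := fun U j _ => inferInstance
  refine ((S1809.result X _ hD).1 x).2 ?_
  have h0 : ∀ i : ℤ, i ≠ 0 → ¬ Nontrivial ((DCoh.HD (DCoh.inD X ω) i).presheaf.stalk x) := by
    intro i hi
    rw [not_nontrivial_iff_subsingleton]
    have hz : IsZero (DCoh.HD (DCoh.inD X ω) i) := by
      rcases lt_or_gt_of_ne hi with h | h
      · exact DerivedCategory.isZero_of_isGE _ 0 i h
      · exact DerivedCategory.isZero_of_isLE _ 0 i h
    let g := Scheme.Modules.toPresheaf X ⋙ TopCat.Presheaf.stalkFunctor _ x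
    exact AddCommGrpCat.subsingleton_of_isZero (Functor.map_isZero g hz)
  obtain ⟨U, hU, hxU, -⟩ := TopologicalSpace.Opens.isBasis_iff_nbhd.mp X.isBasis_affineOpens
    (show x ∈ (⊤ : X.Opens) from trivial)
  obtain ⟨p, hp⟩ : x ∈ Set.range hU.fromSpec := hU.range_fromSpec.symm ▸ hxU
  haveI := hU.isOpenImmersion_fromSpec
  obtain ⟨ω', hω', ⟨e⟩⟩ := hD Γ(X, U) hU.fromSpec
  obtain ⟨i, hi⟩ := exists_not_Z hω' p
  have hi' : Nontrivial ((DCoh.HD (DCoh.inD X ω) i).presheaf.stalk x) :=
    hp ▸ (DualCx.SchStalk.chart (hU.fromSpec) e p i).mpr hi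
  exact ⟨i, hi', fun j hj => (not_imp_not.1 (h0 j) hj).trans (not_imp_not.1 (h0 i) hi').symm⟩

end Groth.Agent.S3675
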