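import Groth.Statements.S6528
import Groth.Agent.CohDerLib.QC.CohPush
import Groth.Agent.KFlat.ExtZero
import Groth.Agent.KFlat.ExtZeroTensor
import Groth.Agent.CohDev.Loc

set_option autoImplicit false
universe u
open CategoryTheory
attribute [local instance] HasDerivedCategory.standard
open DCoh
open CategoryTheory.Limits AlgebraicGeometry
attribute [-instance] CategoryTheory.ReflQuiver.toQuiver
attribute [-instance] Groth.Agent.Props.SubExt.preservesFiniteLimits_restrict
attribute [-instance] Groth.Agent.KFlat.FlatPull.preservesFiniteLimits_restrict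

namespace Groth.Agent.S6528

theorem isZero_restrict_extZero {X : Scheme.{u}} (U W : X.Opens) (M : (U : Scheme.{u}).Modules)
    (hM : IsZero (M.restrict (U.ι ⁻¹ᵁ W).ι)) : IsZero (((CxOX.extZero U.ι).obj M).restrict W.ι) := by
  let N := ((CxOX.extZero U.ι).obj M).restrict W.ι
  have key : ∀ φ : M ⟶ (Scheme.Modules.restrictFunctor U.ι).obj ((Scheme.Modules.pushforward W.ι).obj N), φ = 0 := by
    intro φ
    ext V m
    let O : (U.ι ⁻¹ᵁ W).toScheme.Opens := (U.ι ⁻¹ᵁ W).ι ⁻¹ᵁ V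
    let V' : U.toScheme.Opens := (U.ι ⁻¹ᵁ W).ι ''ᵁ O
    have hle : V' ≤ V := by rintro _ ⟨z, hz, rfl⟩; exact hz
    have h1 : M.presheaf.map (homOfLE hle).op m = 0 :=
      congr($(congrArg (fun ψ => Scheme.Modules.Hom.app ψ O) ((IsZero.iff_id_eq_zero _).1 hM))
        (M.presheaf.map (homOfLE hle).op m))
    have h2 := congr($(φ.mapPresheaf.naturality (homOfLE hle).op) m)
    simp only [CategoryTheory.comp_apply] at h2
    have heq : W.ι ⁻¹ᵁ (U.ι ''ᵁ V') = W.ι ⁻¹ᵁ (U.ι ''ᵁ V) := by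
      ext z
      constructor
      · rintro ⟨y, hy, e⟩; exact ⟨y, hle hy, e⟩
      · rintro ⟨y, hy, e⟩
        have hyW : y ∈ U.ι ⁻¹ᵁ W := by
          show U.ι y ∈ W
          exact (congrArg (fun p => p ∈ W) e).mpr z.2
        exact ⟨y, ⟨⟨y, hyW⟩, hy, rfl⟩, e⟩
    have hinj : Function.Injective (((Scheme.Modules.restrictFunctor U.ι).obj
        ((Scheme.Modules.pushforward W.ι).obj N)).presheaf.map (homOfLE hle).op) := by
      have : IsIso (homOfLE (le_of_eq heq)).op := by
        have : IsIso (homOfLE (le_of_eq heq)) := ⟨homOfLE (le_of_eq heq.symm), rfl, rfl⟩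
        infer_instance
      exact (ConcreteCategory.bijective_of_isIso (N.presheaf.map (homOfLE (le_of_eq heq)).op)).1
    apply hinj
    refine h2.symm.trans ?_
    rw [h1, map_zero]
    exact (map_zero _).symm
  have hη : (Scheme.Modules.restrictAdjunction W.ι).unit.app ((CxOX.extZero U.ι).obj M) = 0 :=
    ((CxOX.extZeroAdj U.ι).homEquiv _ _).injective ((key _).trans (key _).symm)
  rw [IsZero.iff_id_eq_zero]
  apply ((Scheme.Modules.restrictAdjunction W.ι).homEquiv _ _).injective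
  rw [Adjunction.homEquiv_unit, Adjunction.homEquiv_unit]
  exact ((congrArg (· ≫ _) hη).trans zero_comp).trans ((congrArg (· ≫ _) hη).trans zero_comp).symm

theorem subsingleton_stalk {Y : Scheme.{u}} {M : Y.Modules} {U : Y.Opens} (h : IsZero (M.restrict U.ι))
    {y : Y} (hy : y ∈ U) : Subsingleton (M.presheaf.stalk y) := by
  refine subsingleton_of_forall_eq 0 fun t => ?_
  obtain ⟨W, hyW, s, rfl⟩ := M.presheaf.exists_germ_eq t
  let W' : U.toScheme.Opens := U.ι ⁻¹ᵁ W
  have h1 : ∀ z : Γ(M.restrict U.ι, W'), z = 0 := fun z =>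
    congr($(congrArg (fun φ => Scheme.Modules.Hom.app φ W') ((IsZero.iff_id_eq_zero _).1 h)) z)
  have hy' : y ∈ U.ι ''ᵁ W' := ⟨⟨y, hy⟩, hyW, rfl⟩
  have hle : U.ι ''ᵁ W' ≤ W := by
    rintro _ ⟨z, hz, rfl⟩; exact hz
  rw [← M.presheaf.germ_res_apply (homOfLE hle) y hy' s]
  exact (congrArg _ (h1 (M.presheaf.map (homOfLE hle).op s))).trans (map_zero _)

open AlgebraicGeometry CategoryTheory.Limits in
/-- Let j : U → X be an open subscheme and T ⊆ U a subset which is closed in X. (1) If E ∈ D(O_X) has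
cohomology sheaves supported on T, then E ≅ Rj_*(E|_U). (2) If F ∈ D(O_U) has cohomology sheaves
supported on T, then j_!F ≅ Rj_*F. The published statement asserts that the canonical maps are
isomorphisms; this row asserts only that isomorphisms exist. (The published statement is for ringed
spaces; this row is for schemes.) -/
theorem result {X : Scheme.{u}} (U : X.Opens) [DCoh.HasRpush U.ι]
    [PreservesFiniteLimits (CxOX.extZero U.ι)] (T : Set X) (hT : IsClosed T) (hTU : T ⊆ (U : Set X)) :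
    (∀ E : DCoh.D X, (∀ i : ℤ, CohB1.support (DCoh.HD E i) ⊆ T) →
      Nonempty (E ≅ (DCoh.Rpush U.ι).obj ((DCoh.restrictD U.ι).obj E))) ∧
    (∀ F : DCoh.D (U : Scheme.{u}),
      (∀ i : ℤ, (fun x : (U : Scheme.{u}) => U.ι.base x) '' CohB1.support (DCoh.HD F i) ⊆ T) →
      Nonempty ((CxOX.extZeroD U.ι).obj F ≅ (DCoh.Rpush U.ι).obj F)) := by
  let W : X.Opens := ⟨Tᶜ, hT.isOpen_compl⟩
  have hUW : U ⊔ W = ⊤ := by
    refine top_le_iff.1 fun x _ => ?_
    by_cases hx : x ∈ T
    · exact Or.inl (hTU hx)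
    · exact Or.inr hx
  obtain ⟨adj⟩ : Nonempty (DCoh.restrictD U.ι ⊣ DCoh.Rpush U.ι) :=
    Groth.Agent.DTrunc.DerivedPushAdj.nonempty_adjunction (DCoh.Rpush U.ι)
      ((DCoh.pushKh U.ι).totalRightDerivedUnit DerivedCategory.Qh
        (HomotopyCategory.quasiIso (U : Scheme.{u}).Modules (ComplexShape.up ℤ)))
      (Scheme.Modules.restrictAdjunction U.ι)
  have h1 : ∀ E : DCoh.D X, (∀ i : ℤ, CohB1.support (DCoh.HD E i) ⊆ T) →
      Nonempty (E ≅ (DCoh.Rpush U.ι).obj ((DCoh.restrictD U.ι).obj E)) := fun E hE => by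
    have := Groth.Agent.CohDerLib.QC.isIso_unit_of_support U W hUW adj E
      fun i => Set.disjoint_left.2 fun x hx hx' => hx (hE i hx')
    exact ⟨@asIso _ _ _ _ (adj.unit.app E) this⟩
  refine ⟨h1, fun F hF => ?_⟩
  obtain ⟨e⟩ := h1 ((CxOX.extZeroD U.ι).obj F) fun i x hx => by
    by_contra hxT
    let hi : DCoh.HD ((CxOX.extZeroD U.ι).obj F) i ≅ (CxOX.extZero U.ι).obj (DCoh.HD F i) :=
      (Groth.Agent.KFlat.MapHomology.iso (CxOX.extZero U.ι) i).app F
    refine hx (subsingleton_stalk (U := W) ?_ hxT)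
    refine (isZero_restrict_extZero U W _ ?_).of_iso ((Scheme.Modules.restrictFunctor W.ι).mapIso hi)
    refine Groth.Agent.CohDev.isZero_restrict_of_support (U.ι ⁻¹ᵁ W).ι fun z hz => ?_
    rw [Scheme.Opens.range_ι]
    exact fun hzW => hzW (hF i ⟨z, hz, rfl⟩)
  let K := DerivedCategory.Q.objPreimage F
  let eK : DerivedCategory.Q.obj K ≅ F := DerivedCategory.Q.objObjPreimageIso F
  let eU : (DCoh.restrictD U.ι).obj ((CxOX.extZeroD U.ι).obj F) ≅ F :=
    (DCoh.restrictD U.ι).mapIso ((CxOX.extZeroD U.ι).mapIso eK.symm ≪≫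
      (CxOX.extZero U.ι).mapDerivedCategoryFactors.app K) ≪≫
    (Scheme.Modules.restrictFunctor U.ι).mapDerivedCategoryFactors.app _ ≪≫
    DerivedCategory.Q.mapIso ((Functor.mapHomologicalComplexCompIso (asIso (CxOX.extZeroAdj U.ι).unit).symm _).app K) ≪≫ eK
  exact ⟨e ≪≫ (DCoh.Rpush U.ι).mapIso eU⟩

end Groth.Agent.S6528
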