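import Groth.Statements.S4480
import Groth.Agent.S2422
import Groth.Agent.FormalFun.Conn
import Groth.Agent.FormalFun.SecFinite

set_option autoImplicit false
universe u
open Coherent

namespace Groth.Agent.S4480


section Helpers

open AlgebraicGeometry CategoryTheory TopologicalSpace Opposite

variable {X Y : Scheme.{u}} (f : X ⟶ Y) [IsProper f] [IsIntegral X] [IsIntegral Y] [IsLocallyNoetherian Y]
  (hdom : f.base (genericPoint X) ⤳ genericPoint Y)
include hdom

/-- Near a normal point, one denominator turns all functions on `f⁻¹V` into functions on `V`. -/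
theorem exists_denominator
    (halg : ∀ x : X.functionField,
      (∃ q : Polynomial Y.functionField, q ≠ 0 ∧
        Polynomial.eval₂ (CohIII.stalkToFunctionField f (genericPoint Y) hdom) x q = 0) →
      x ∈ Set.range (CohIII.stalkToFunctionField f (genericPoint Y) hdom))
    {V : Y.Opens} (hV : IsAffineOpen V) {y : Y} (hy : y ∈ V) (hn : IsIntegrallyClosed (Y.presheaf.stalk y)) :
    ∃ w : Γ(Y, V), y ∈ Y.basicOpen w ∧ ∀ s : Γ(X, f ⁻¹ᵁ V), ∃ a, f.app V a = f.app V w * s := by
  classical
  haveI : UniversallyClosed f := inferInstance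
  haveI := hn
  haveI hne : Nonempty V := ⟨⟨y, hy⟩⟩
  haveI := functionField_isFractionRing_of_isAffineOpen Y V hV
  let φ := CohIII.stalkToFunctionField f (genericPoint Y) hdom
  let ψ := (X.presheaf.germ (f ⁻¹ᵁ V) (genericPoint X) (S2422.genericPoint_mem_preimage f hdom hne)).hom
  let g : Γ(Y, V) →+* Y.functionField :=
    (Y.presheaf.germ V (genericPoint Y) ((genericPoint_spec Y).specializes trivial |>.mem_open V.isOpen hne.some.2)).hom
  have hc : φ.comp g = ψ.comp (f.app V).hom := RingHom.ext fun a => S2422.stalkToFunctionField_germ f hdom hne a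
  letI := TopCat.Presheaf.algebra_section_stalk Y.presheaf ⟨y, hy⟩
  haveI := IsAffineOpen.isLocalization_stalk hV ⟨y, hy⟩
  -- every function on the preimage comes from the local ring of `y` generically
  have key : ∀ s : Γ(X, f ⁻¹ᵁ V), ∃ w : Γ(Y, V), y ∈ Y.basicOpen w ∧ ∃ a, f.app V a = f.app V w * s := by
    intro s
    obtain ⟨P, hP, hPs⟩ := S2422.isIntegral_app_of_universallyClosed f hV s
    have h1 : Polynomial.eval₂ φ (ψ s) (P.map g) = 0 := by
      rw [Polynomial.eval₂_map, hc, ← Polynomial.hom_eval₂, hPs, map_zero]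
    obtain ⟨k, hk⟩ := halg (ψ s) ⟨P.map g, (hP.map g).ne_zero, h1⟩
    have h2 : IsIntegral Γ(Y, V) k := by
      refine ⟨P, hP, φ.injective ?_⟩
      rw [map_zero, Polynomial.hom_eval₂]
      rw [Polynomial.eval₂_map] at h1
      rw [← hk] at h1
      exact h1
    let R := Y.presheaf.stalk y
    letI : Algebra R Y.functionField :=
      (Y.presheaf.stalkSpecializes ((genericPoint_spec Y).specializes trivial : genericPoint Y ⤳ y)).hom.toAlgebra
    haveI : IsScalarTower Γ(Y, V) R Y.functionField := IsScalarTower.of_algebraMap_eq fun a => by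
      show g a = (Y.presheaf.stalkSpecializes _).hom ((Y.presheaf.germ V y hy).hom a)
      erw [TopCat.Presheaf.germ_stalkSpecializes_apply]
    haveI : IsFractionRing R Y.functionField := inferInstance
    obtain ⟨r, hr⟩ := IsIntegrallyClosed.isIntegral_iff.mp (h2.tower_top (A := R))
    obtain ⟨a, w, haw⟩ := IsLocalization.exists_mk'_eq (hV.primeIdealOf ⟨y, hy⟩).asIdeal.primeCompl r
    refine ⟨w, ?_, a, ?_⟩
    · refine (Y.mem_basicOpen _ y hy).mpr ?_
      exact IsLocalization.map_units R w
    · refine germ_injective_of_isIntegral X (genericPoint X) (S2422.genericPoint_mem_preimage f hdom hne) ?_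
      show ψ (f.app V a) = ψ (f.app V w * s)
      rw [map_mul, ← hk]
      show (ψ.comp (f.app V).hom) a = (ψ.comp (f.app V).hom) w * φ k
      rw [← hc, RingHom.comp_apply, RingHom.comp_apply, ← map_mul]
      refine congrArg φ ?_
      show algebraMap Γ(Y, V) Y.functionField a = algebraMap Γ(Y, V) Y.functionField w * k
      rw [IsScalarTower.algebraMap_apply Γ(Y, V) R Y.functionField a,
        IsScalarTower.algebraMap_apply Γ(Y, V) R Y.functionField w, ← hr, ← map_mul, ← haw, IsLocalization.mk'_spec']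
  letI : Algebra Γ(Y, V) Γ(X, f ⁻¹ᵁ V) := (f.app V).hom.toAlgebra
  haveI : Module.Finite Γ(Y, V) Γ(X, f ⁻¹ᵁ V) := Groth.Agent.FormalFun.finite_app f hV
  obtain ⟨S, hS⟩ := (Module.Finite.fg_top : (⊤ : Submodule Γ(Y, V) Γ(X, f ⁻¹ᵁ V)).FG)
  choose w hw a ha using key
  refine ⟨∏ s ∈ S, w s, ?_, fun s => ?_⟩
  · refine (Y.mem_basicOpen _ y hy).mpr ?_
    rw [map_prod]
    exact IsUnit.prod_iff.mpr fun s _ => (Y.mem_basicOpen _ y hy).mp (hw s)
  · induction (hS.symm ▸ Submodule.mem_top : s ∈ Submodule.span Γ(Y, V) (S : Set Γ(X, f ⁻¹ᵁ V)))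
      using Submodule.span_induction with
    | mem t ht =>
      refine ⟨(∏ u ∈ S.erase t, w u) * a t, ?_⟩
      rw [map_mul, ha, ← mul_assoc, ← map_mul, Finset.prod_erase_mul S w ht]
    | zero => exact ⟨0, by rw [map_zero, mul_zero]⟩
    | add t t' _ _ ht ht' =>
      obtain ⟨b, hb⟩ := ht
      obtain ⟨b', hb'⟩ := ht'
      exact ⟨b + b', by rw [map_add, hb, hb', mul_add]⟩
    | smul r t _ ht =>
      obtain ⟨b, hb⟩ := ht
      exact ⟨r * b, by rw [map_mul, hb]; exact (mul_left_comm _ _ _)⟩

/-- A denominator as above makes `O_Y → f_* O_X` an isomorphism where it is invertible. -/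
theorem isIso_app_of_denominator {V₀ : Y.Opens} (hV₀ : IsAffineOpen V₀) (w : Γ(Y, V₀))
    (hw : ∀ s : Γ(X, f ⁻¹ᵁ V₀), ∃ a, f.app V₀ a = f.app V₀ w * s) {V : Y.Opens} (hV : V ≤ Y.basicOpen w) :
    IsIso (f.app V) := by
  rw [ConcreteCategory.isIso_iff_bijective]
  refine ⟨S2422.app_injective f hdom V, fun s => ?_⟩
  have nat : ∀ (A B : Y.Opens) (h : A ≤ B) (z : Γ(Y, B)), f.app A (Y.presheaf.map (homOfLE h).op z) =
      X.presheaf.map (homOfLE (f.preimage_mono h)).op (f.app B z) := fun A B h z =>
    congr($(f.naturality (homOfLE h).op) z)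
  let ι := {r : Γ(Y, V₀) // Y.basicOpen r ≤ V}
  let U : ι → Y.Opens := fun r => Y.basicOpen r.1
  have hcov : V ≤ iSup U := fun v hv => by
    obtain ⟨r, hr, hvr⟩ := hV₀.exists_basicOpen_le ⟨v, hv⟩ (Y.basicOpen_le w (hV hv))
    exact Opens.mem_iSup.mpr ⟨⟨r, hr⟩, hvr⟩
  have hloc : ∀ r : ι, ∃ a, f.app (U r) a = X.presheaf.map (homOfLE (f.preimage_mono r.2)).op s := by
    intro r
    let t := X.presheaf.map (homOfLE (f.preimage_mono r.2)).op s
    have hle : X.basicOpen (f.app V₀ r.1) = f ⁻¹ᵁ U r := (Scheme.preimage_basicOpen f r.1).symm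
    obtain ⟨n, g, hg⟩ := exists_eq_pow_mul_of_isCompact_of_isQuasiSeparated X (f ⁻¹ᵁ V₀)
      (f.isCompact_preimage hV₀.isCompact) (f.isQuasiSeparated_preimage hV₀.isQuasiSeparated) (f.app V₀ r.1)
      (X.presheaf.map (homOfLE hle.le).op t)
    obtain ⟨a, ha⟩ := hw g
    have hU : U r ≤ V₀ := Y.basicOpen_le _
    have hu1 : IsUnit (Y.presheaf.map (homOfLE hU).op r.1) :=
      RingedSpace.isUnit_res_basicOpen Y.toRingedSpace r.1
    have hu2 : IsUnit (Y.presheaf.map (homOfLE hU).op w) := by
      have e : Y.presheaf.map (homOfLE hU).op w = Y.presheaf.map (homOfLE (r.2.trans hV)).op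
          (Y.presheaf.map (homOfLE (Y.basicOpen_le w)).op w) := by
        rw [← CommRingCat.comp_apply, ← Functor.map_comp]; rfl
      rw [e]
      exact RingHom.isUnit_map _ (RingedSpace.isUnit_res_basicOpen Y.toRingedSpace w)
    refine ⟨((hu2.mul (hu1.pow n)).unit⁻¹ : Γ(Y, U r)ˣ) * Y.presheaf.map (homOfLE hU).op a, ?_⟩
    have h3 := congrArg (X.presheaf.map (homOfLE hle.ge).op) hg
    simp only [TopCat.Presheaf.restrictOpenCommRingCat_apply, map_mul, map_pow, ← CommRingCat.comp_apply,
      ← Functor.map_comp] at h3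
    rw [← IsUnit.mul_right_inj (RingHom.isUnit_map (f.app (U r)).hom (hu2.mul (hu1.pow n))), ← map_mul, ← mul_assoc,
      IsUnit.mul_val_inv, one_mul, map_mul, map_pow, nat, nat, nat, ha, map_mul, mul_assoc]
    refine congrArg _ (h3.trans ?_)
    simp only [t, ← CommRingCat.comp_apply, Category.assoc, ← Functor.map_comp]
    rfl
  choose a ha using hloc
  have hcomp : TopCat.Presheaf.IsCompatible Y.sheaf.1 U a := fun i j => by
    apply S2422.app_injective f hdom
    show f.app _ (Y.presheaf.map (homOfLE inf_le_left).op (a i)) = f.app _ (Y.presheaf.map (homOfLE inf_le_right).op (a j))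
    rw [nat, nat, ha, ha, ← CommRingCat.comp_apply, ← CommRingCat.comp_apply, ← Functor.map_comp, ← Functor.map_comp]
    rfl
  obtain ⟨t, ht, -⟩ := Y.sheaf.existsUnique_gluing' U V (fun r => homOfLE r.2) hcov a hcomp
  refine ⟨t, TopCat.Sheaf.eq_of_locally_eq' X.sheaf (fun r : ι => f ⁻¹ᵁ U r) (f ⁻¹ᵁ V)
    (fun r => homOfLE (f.preimage_mono r.2)) (fun x hx => by
      obtain ⟨r, hr⟩ := Opens.mem_iSup.mp (hcov hx)
      exact Opens.mem_iSup.mpr ⟨r, hr⟩) _ _ fun r => ?_⟩
  refine ((nat _ _ r.2 t).symm.trans ?_).trans (ha r)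
  exact congrArg _ (ht r)

end Helpers

open AlgebraicGeometry CategoryTheory in
/-- Let X and Y be locally Noetherian integral schemes and f : X → Y a proper dominant morphism such
that the function field R(Y) is algebraically closed in R(X) (every element of R(X) satisfying a
nonzero polynomial over R(Y) comes from R(Y)). Let y be a point of Y whose local ring is integrally
closed (a normal point). Then the fibre X_y is geometrically connected over the residue field of y
(its base change to every field extension of that residue field is connected and nonempty; in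
particular X_y is connected and nonempty), and there is an open neighbourhood U of y such that
O_Y(V) → O_X(f⁻¹V) is an isomorphism for every open V ⊆ U. -/
theorem result {X Y : Scheme.{u}}
    [IsIntegral X] [IsIntegral Y] [IsLocallyNoetherian X] [IsLocallyNoetherian Y] (f : X ⟶ Y) [IsProper f]
    (hdom : f.base (genericPoint X) ⤳ genericPoint Y)
    (halg : ∀ x : X.functionField,
      (∃ q : Polynomial Y.functionField, q ≠ 0 ∧
        Polynomial.eval₂ (CohIII.stalkToFunctionField f (genericPoint Y) hdom) x q = 0) →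
      x ∈ Set.range (CohIII.stalkToFunctionField f (genericPoint Y) hdom))
    (y : Y) (hy : IsIntegrallyClosed (Y.presheaf.stalk y)) :
    GeometricallyConnected (f.fiberToSpecResidueField y) ∧
      ∃ U : Y.Opens, y ∈ U ∧ ∀ V : Y.Opens, V ≤ U → IsIso (f.app V) := by
  obtain ⟨_, ⟨V₀, hV₀, rfl⟩, hyV, -⟩ :=
    Y.isBasis_affineOpens.exists_subset_of_mem_open (Set.mem_univ y) isOpen_univ
  obtain ⟨w, hwy, hw⟩ := exists_denominator f hdom halg hV₀ hyV hy
  refine ⟨⟨geometrically_iff_of_isClosedUnderIsomorphisms.mpr fun K _ t => ?_⟩,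
    Y.basicOpen w, hwy, fun V hV => isIso_app_of_denominator f hdom hV₀ w hw hV⟩
  obtain ⟨ψ, rfl⟩ := Spec.map_surjective t
  haveI := Groth.Agent.FormalFun.connectedSpace_pullback f (hV₀.basicOpen w)
    (isIso_app_of_denominator f hdom hV₀ w hw le_rfl) hwy K ψ
  exact (Limits.pullbackLeftPullbackSndIso f (Y.fromSpecResidueField y) (Spec.map ψ)).hom.homeomorph.connectedSpace_iff.mpr this

end Groth.Agent.S4480
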