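import Groth.Statements.S10931
import Groth.Agent.DualAbs.WedgePair
import Groth.Agent.DualAbs.PnTop
import Groth.Agent.DualAbs.Closed
import Groth.Agent.DualAbs.Horrocks
import Groth.Agent.SerrePn.ExtDual
import Groth.Agent.ExtHom.Linear
import Groth.Agent.LimTop.TensorQC
-- import your own Groth.Agent.* helpers here

set_option autoImplicit false
universe u
open CategoryTheory CategoryTheory.Limits AlgebraicGeometry
open ProjDual

namespace Groth.Agent.S10931

/-- `Hom(L ⊗ D, G) ≅ Hom(D, Hom(L, G))`. -/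
theorem nonempty_sheafHom_tensor {X : Scheme.{u}} (L D G : X.Modules) [DCoh.HasSheafHom L]
    [DCoh.HasSheafHom D] [DCoh.HasSheafHom (CohB1.tensorMod L D)] :
    Nonempty ((DCoh.sheafHom (CohB1.tensorMod L D)).obj G ≅
      (DCoh.sheafHom D).obj ((DCoh.sheafHom L).obj G)) := by
  let adj := ((DCoh.sheafHomAdj D).comp (DCoh.sheafHomAdj L)).ofNatIsoLeft
    (SerrePn.tensorCompIso L D _ (Iso.refl _))
  exact ⟨((DCoh.sheafHomAdj (CohB1.tensorMod L D)).rightAdjointUniq adj).app G⟩

end Groth.Agent.S10931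

namespace Groth.Agent.S10931

/-- Let k be a field, p ≤ r and q ≤ r natural numbers, P = P^r_k with structure map to Spec k, Ω =
Ω^1_{P/k} (the conormal sheaf of the diagonal), L an O_P-module which is a p-th exterior power of Ω
and L' one which is an (r − p)-th exterior power of Ω, and d an integer; write M(d) = M ⊗ O_P(d).
Then H^q(P, L(d)) = H^q(P^r, Ω^p(d)) and H^{r−q}(P, L'(−d)) = H^{r−q}(P^r, Ω^{r−p}(−d)) have the
same dimension over k. (The published statement asserts an isomorphism between these two cohomology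
groups, obtained from Serre duality; this row records the equality of dimensions.) -/
theorem result (k : Type u) [Field k] (r p q : ℕ)
    (hp : p ≤ r) (hq : q ≤ r) (L L' : (CohB1.ProjSpace r k).Modules)
    (hL : ExtPow.IsExtPow p (Omega.sheaf (CohB1.ProjSpace.toSpec r k)) L)
    (hL' : ExtPow.IsExtPow (r - p) (Omega.sheaf (CohB1.ProjSpace.toSpec r k)) L') (d : ℤ) :
    Module.finrank k (Coh.HH (CohB1.ProjSpace r k) (CohB1.tensorMod L (Twist.twistProjSpace r k d)) q) =
      Module.finrank k (Coh.HH (CohB1.ProjSpace r k)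
        (CohB1.tensorMod L' (Twist.twistProjSpace r k (-d))) (r - q)) := by
  let P := CohB1.ProjSpace r k
  haveI : IsLocallyNoetherian P := SerrePn.isLocallyNoetherian (n := r) (R := k)
  haveI := DualAbs.PnTop.smoothOfRelativeDimension_toSpec r k
  haveI : QuasiSeparated (CohB1.ProjSpace.toSpec r k) :=
    haveI := ProjProper.Basic.isProper_toSpec r k
    inferInstance
  have hΩ : Coh.IsCoh (Omega.sheaf (CohB1.ProjSpace.toSpec r k)) :=
    VBLib.isCoh_of_ofRank (CanonTriv.isFinLocFreeOfRank_omega (CohB1.ProjSpace.toSpec r k) r)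
  haveI := hΩ.1
  obtain ⟨j, rfl⟩ : ∃ j, r = p + j := ⟨r - p, by omega⟩
  rw [Nat.add_sub_cancel_left] at hL'
  have hb := DualAbs.SmoothImm.exists_basis_omega (CohB1.ProjSpace.toSpec (p + j) k) (p + j)
  obtain ⟨T, hT⟩ := ExtPowSt.Exists.exists_isExtPow (p + j) (Omega.sheaf (CohB1.ProjSpace.toSpec (p + j) k))
  obtain ⟨eT⟩ := DualAbs.PnTop.nonempty_top_iso (p + j) k hT
  let Φ : ExtPowSt.Sys p _ L := ⟨hL.choose, hL.choose_spec⟩
  have hF := DualAbs.WedgePair.isFinLocFree Φ hΩ hb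
  let D := Twist.twistProjSpace (p + j) k d
  let D' := Twist.twistProjSpace (p + j) k (-d)
  haveI := KFlat.hasSheafHom_scheme L
  haveI := KFlat.hasSheafHom_scheme D
  haveI := KFlat.hasSheafHom_scheme (CohB1.tensorMod L D)
  haveI : HasExt.{u} (CohB1.ProjSpace (p + j) k).Modules := Groth.Agent.ModShf.schemeModulesHasExt _
  have hLD : FlatMod.IsFinLocFree (CohB1.tensorMod L D) :=
    LimTop.TensorQC.tensM_eq (F := L) (G := D) ▸ KFlat.TensorLocFree.isFinLocFree_tensM hF (DualAbs.isFinLocFree_twist _)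
  obtain ⟨e₁⟩ := (SerrePn.dualAt (k := k) (n := p + j) (p + j - q) _ (VBLib.isCoh_of_isFinLocFree hLD)).1 (Nat.sub_le _ _)
  rw [Nat.sub_sub_self hq] at e₁
  obtain ⟨e₂⟩ := ExtHom.nonempty_ext_linearEquiv k hLD (SerrePn.omega (p + j) k) (p + j - q)
  obtain ⟨a⟩ := DualAbs.WedgePair.nonempty_iso Φ ⟨hL'.choose, hL'.choose_spec⟩ ⟨hT.choose, hT.choose_spec⟩
    (HomShEval.QCoh.isFP_of_isCoh _ (VBLib.isCoh_of_isFinLocFree hF)) hb
  obtain ⟨t⟩ := ProjTwist.nonempty_twistProjSpace_tensor (p + j) k (-d) d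
  obtain ⟨b⟩ := DualAbs.nonempty_sheafHom_invertible D D'
    (t ≪≫ eqToIso (congrArg (Twist.twistProjSpace (p + j) k) (neg_add_cancel d)) ≪≫
      (ProjTwist.twistZeroIso (CohB1.polyGrading (p + j) k)).symm) ((DCoh.sheafHom L).obj (SerrePn.omega (p + j) k))
  obtain ⟨c⟩ := nonempty_sheafHom_tensor L D (SerrePn.omega (p + j) k)
  let f : CohB1.tensorMod L' D' ≅ (DCoh.sheafHom (CohB1.tensorMod L D)).obj (SerrePn.omega (p + j) k) :=
    ((DCoh.tensorBi (X := CohB1.ProjSpace (p + j) k)).mapIso (a ≪≫ (DCoh.sheafHom L).mapIso eT)).app D' ≪≫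
      ChgRings.commIso _ D' ≪≫ b.symm ≪≫ c.symm
  refine (Subspace.dual_finrank_eq (K := k)).symm.trans ?_
  exact (e₁.symm ≪≫ₗ e₂).finrank_eq.trans (CohLES.mapEquiv k f (p + j - q)).finrank_eq.symm

end Groth.Agent.S10931
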