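import Groth.Statements.S10831
import Groth.Agent.TopDimLib.Basic

set_option autoImplicit false
universe u
open Topology TopologicalSpace
open TopDim

namespace Groth.Agent.S10831

open Set Order TopologicalSpace Topology Groth.Agent.TopDimLib

/-- The Krull dimension of a topological space is the supremum of the Krull dimensions of its
irreducible components. -/
theorem result (X : Type u) [TopologicalSpace X] :
    topologicalKrullDim X = ⨆ Y ∈ irreducibleComponents X, topologicalKrullDim ↥Y := by
  refine le_antisymm (topDim_le_iff.2 fun l => ?_)
    (iSup₂_le fun Z _ => topologicalKrullDim_subspace_le X Z)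
  obtain ⟨W, hW, hlW⟩ :=
    exists_mem_irreducibleComponents_subset_of_isIrreducible _ l.last.isIrreducible
  exact le_iSup₂_of_le W hW (length_le_of_subset l hlW)

end Groth.Agent.S10831
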