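import Groth.Statements.S8347
import Groth.Agent.SpSeqLib.Basic

set_option autoImplicit false
universe v u
open CategoryTheory CategoryTheory.Limits
open SpSeq

namespace Groth.Agent.S8347

/-- Let E be a spectral sequence in an abelian category with abutment data (H^m), and suppose that for
some page r and every total degree m there is an integer q(m) such that E_r^{m-q,q} = 0 for every q
other than q(m). Let n be a total degree such that the filtration of H^n is discrete (some step is
zero) and exhaustive (H^n is the supremum of the steps), and such that the position (n - q(n), q(n))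
is stationary from page r on. Then H^n is isomorphic to E_r^{n-q(n), q(n)}. (The published statement
asserts this without any condition on the differentials at the surviving positions; that version
fails when a differential d_r links the surviving terms of two consecutive total degrees, for
instance a spectral sequence whose only nonzero page-2 terms are E_2^{0,1} and E_2^{2,0} with d_2 an
isomorphism between them and zero abutment. The stationarity assumed here is automatic when q(m)
does not depend on m and r ≥ 2.) -/
theorem result {C : Type u} [Category.{v} C] [Abelian C] {r₀ : ℤ}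
    (E : CohomologicalSpectralSequence C r₀) {H : ℤ → C} (a : SpSeq.Abutment E H)
    (r : ℤ) (hr : r₀ ≤ r) (q : ℤ → ℤ)
    (hdeg : ∀ m q' : ℤ, q' ≠ q m → IsZero ((E.page r hr).X (m - q', q')))
    (n : ℤ) (hdisc : (a.filObj n).IsDiscrete) (hexh : a.IsExhaustive n)
    (hst : SpSeq.StationaryAt E (n - q n, q n) r) :
    Nonempty (H n ≅ (E.page r hr).X (n - q n, q n)) := by
  have hz : ∀ p : ℤ, p ≠ n - q n → IsZero (SpSeq.grPiece (a.fil n) (a.anti n) p) := by
    intro p hp
    have := SpSeqLib.isZero_grPiece E a r hr (n - (n - p), n - p)
      (hdeg n (n - p) (by omega))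
    dsimp only at this
    rw [show n - (n - p) = p by omega, show p + (n - p) = n by omega] at this
    exact this
  obtain ⟨e⟩ := SpSeqLib.nonempty_iso_grPiece E a (n - q n, q n) r hst
  dsimp only at e
  set p₀ := n - q n with hp₀
  have hbot : a.fil n (p₀ + 1) = ⊥ := by
    obtain ⟨b, hb⟩ := hdisc
    change a.fil n b = ⊥ at hb
    rcases le_total (p₀ + 1) b with h | h
    · rw [← SpSeqLib.eq_of_grPiece_isZero _ (a.anti n) _ _ h (fun s hs _ => hz s (by omega)), hb]
    · exact le_bot_iff.1 (hb ▸ a.anti n h)
  have htop : a.fil n p₀ = ⊤ := by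
    refine top_le_iff.1 (hexh.2 ?_)
    rintro _ ⟨p, rfl⟩
    change a.fil n p ≤ a.fil n p₀
    rcases le_total p p₀ with h | h
    · rw [SpSeqLib.eq_of_grPiece_isZero _ (a.anti n) _ _ h (fun s _ hs => hz s (by omega))]
    · exact a.anti n h
  have key : ∀ m : ℤ, m = n → Nonempty (SpSeq.grPiece (a.fil m) (a.anti m) p₀ ≅ H n) := by
    rintro m rfl
    have : IsIso (a.fil m p₀).arrow := (Subobject.isIso_arrow_iff_eq_top _).2 htop
    have h0 : (a.fil m (p₀ + 1)).ofLE (a.fil m p₀) (a.anti m (Int.le_add_one le_rfl)) = 0 := by
      rw [← cancel_mono (a.fil m p₀).arrow, Subobject.ofLE_arrow, zero_comp]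
      exact (SubElem.bot_factors_iff _).1 (hbot ▸ SubElem.factors_arrow _)
    exact ⟨cokernelIsoOfEq h0 ≪≫ cokernelZeroIsoTarget ≪≫ asIso (a.fil m p₀).arrow⟩
  obtain ⟨e'⟩ := key (p₀ + q n) (by omega)
  exact ⟨(e ≪≫ e').symm⟩

end Groth.Agent.S8347
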