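import Groth.Statements.S2943
import Groth.Agent.DualCx.LocalDuality
import Groth.Agent.DualCx.LocalGlobal
import Groth.Agent.DualCx.Normalized
import Groth.Agent.DRing.PCTools
import Groth.Agent.S0342

set_option autoImplicit false
universe u
open CategoryTheory Opposite
open Dual

namespace Groth.Agent.S2943

/-- Local duality for a regular local ring: let A be a regular local ring of dimension r with maximal
ideal m, κ → E an injective hull of the residue field (a dualizing module for A), and M a finite
A-module. For every i ≤ r the local cohomology module H^i_m(M) is isomorphic to Hom_A(Ext^{r−i}_A(M,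
A), E). (The published statement gives the isomorphism as the map induced by the Yoneda pairing;
here only the existence of an A-linear isomorphism is asserted.) -/
theorem result (A : Type u) [CommRing A] [IsRegularLocalRing A] (r : ℕ) (hr : ringKrullDim A = r) (E : Type u) [AddCommGroup E] [Module A E] (f : IsLocalRing.ResidueField A →ₗ[A] E) (hf : InjHull.IsInjectiveHull f) (M : Type u) [AddCommGroup M] [Module A M] [Module.Finite A M] (i : ℕ) (hi : i ≤ r) : Nonempty (LocCoh.H (IsLocalRing.maximalIdeal A) i M ≃ₗ[A] ((((Ext A (ModuleCat.{u} A) (r - i)).obj (op (ModuleCat.of A M))).obj (ModuleCat.of A A)) →ₗ[A] E)) := by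
  have : LocCoh.IsGorensteinLocalRing A := by
    exact S0342.result A
  have hI : Dual.IsDualizing A (Dual.inD A A) :=
    DualCx.Gorenstein.isDualizing_of_isGorensteinLocalRing
  obtain ⟨n, hn⟩ := DualCx.Normalized.exists_isNormalized hI
  have hω := DualCx.Normalized.isDualizing_shift hI n
  obtain rfl : n = r := by
    have hd : Module.supportDim A A = r := (Module.supportDim_self_eq_ringKrullDim (R := A)).trans hr
    have h1 := DualCx.LocalGlobal.nontrivial_E_neg_supportDim hω hn A r hd
    by_contra hne
    have : Subsingleton (Dual.HD A (Dual.inD A A) (n + -(r : ℤ))) :=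
      DRing.PC.subsingleton_HD_inD A A _ (by omega)
    exact not_subsingleton (DualCx.Devissage.E A ((Dual.inD A A)⟦n⟧) (-(r : ℤ)))
      ((DualCx.Normalized.shiftE A _ n _ _ rfl).trans
        (DualCx.Cx.homUnitEquivShift _ _)).toEquiv.subsingleton
  obtain ⟨e⟩ := DualCx.LocalDuality.nonempty_H_equiv hω hn hf M i
  let e1 := (OldExt.oldExtEquiv A (ModuleCat.of A M) (ModuleCat.of A A) (r - i)).trans
    ((show Abelian.Ext.{u} (ModuleCat.of A M) (ModuleCat.of A A) (r - i) ≃ₗ[A]
        DualCx.Devissage.E M (Dual.inD A A) ((r - i : ℕ) : ℤ) from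
      letI := HasDerivedCategory.standard (ModuleCat.{u} A)
      Abelian.Ext.homLinearEquiv).trans
      (DualCx.Normalized.shiftE (A := A) M (Dual.inD A A) (r : ℤ) (-(i : ℤ)) ((r - i : ℕ) : ℤ)
        (by omega)).symm)
  exact ⟨e.trans (LinearEquiv.congrLeft E A e1.symm)⟩

end Groth.Agent.S2943
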