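import Groth.Statements.S10943
import Groth.Agent.InjMod.ExtSections
import Groth.Agent.QCoh.FiniteType

set_option autoImplicit false
universe u
open CategoryTheory AlgebraicGeometry
open Coherent

namespace Groth.Agent.S10943

/-- Let X be a Noetherian scheme and F, G coherent O_X-modules. Then for every i the Ext sheaf Ext^i(F,
G) - the i-th right derived functor of the internal Hom functor Hom(F, -) on O_X-modules (its
existence and that of injective resolutions are the stated instance hypotheses, both true),
evaluated at G - is a coherent O_X-module (quasi-coherent of finite type). -/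
theorem result (X : Scheme.{u}) [IsNoetherian X] (F G : X.Modules)
    (hF : Coh.IsCoh F) (hG : Coh.IsCoh G)
    [ModSite.HasSheafHom (O := X.sheaf) F] [HasInjectiveResolutions (ModSite.Mod X.sheaf)] (i : ℕ) :
    Coh.IsCoh ((ModSite.extSh (O := X.sheaf) F i).obj G) := by
  have : HasInjectiveResolutions X.Modules := ‹HasInjectiveResolutions (ModSite.Mod X.sheaf)›
  have hFP := Groth.Agent.HomShEval.QCoh.isFP_of_isCoh F hF
  have : F.IsQuasicoherent := hF.1
  have : G.IsQuasicoherent := hG.1
  obtain ⟨hq, he⟩ := Groth.Agent.InjMod.extSh_qcoh_aux (F := F) hFP i G hG.1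
  refine ⟨hq, ?_⟩
  have := hq
  refine (Groth.Agent.QCoh.isFiniteType_iff (((Groth.Agent.InjMod.homF F).rightDerived i).obj G)).2 fun U hU => ?_
  obtain ⟨e⟩ := he U hU
  have : IsNoetherianRing Γ(X, U) := IsLocallyNoetherian.component_noetherian ⟨U, hU⟩
  have := hF.2
  have := hG.2
  have : Module.Finite Γ(X, U) (Groth.Agent.InjMod.secObj F U) :=
    Groth.Agent.QCoh.finite_sections_of_isFiniteType F hU
  have : Module.Finite Γ(X, U) (Groth.Agent.InjMod.secObj G U) :=
    Groth.Agent.QCoh.finite_sections_of_isFiniteType G hU
  exact Module.Finite.equiv e.symm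

end Groth.Agent.S10943
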