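import Groth.Statements.S10820
import Groth.Agent.ProjDim.Hyper


set_option autoImplicit false
universe u
open AlgebraicGeometry Topology TopologicalSpace
open Variety

namespace Groth.Agent.S10820

/-- For a field k, n ≥ 2 and a nonzero homogeneous polynomial f of degree d ≥ 1 in n + 1 variables, the
hypersurface V_+(f) in projective n-space over k (as a subspace of Proj of the polynomial ring
graded by degree) is connected and nonempty. -/
theorem result (k : Type u) [Field k] (n d : ℕ) (hn : 2 ≤ n)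
    (f : MvPolynomial (Fin (n + 1)) k) (hf : f.IsHomogeneous d) (hd : 0 < d) (hf0 : f ≠ 0) :
    IsConnected (ProjectiveSpectrum.zeroLocus (CohB1.polyGrading n k)
      ({f} : Set (MvPolynomial (Fin (n + 1)) k))) := by
  have hI : (Ideal.span {f}).IsHomogeneous (CohB1.polyGrading n k) :=
    ProjDim.isHomogeneous_span_of_homogeneous fun a ha => ⟨d, Set.mem_singleton_iff.1 ha ▸ hf⟩
  have hfirr := ProjDim.mem_irr_of_isHomogeneous hf hd
  have hspan : (⊥ : Ideal (MvPolynomial (Fin (n + 1)) k)) ⊔ Ideal.span (Set.range ![f]) =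
      Ideal.span {f} := by simp
  -- minimal points
  have hex : ∀ P : Ideal (MvPolynomial (Fin (n + 1)) k), P.IsPrime →
      P ∈ (Ideal.span {f}).minimalPrimes → ∃ η, ProjDim.pt η = P ∧ n ≤ ProjDim.dimQ (ProjDim.pt η) := by
    intro P hP hmin
    haveI := hP
    have h1 := ProjDim.dimQ_le_of_mem_minimalPrimes_sup ⊥ P ![f] (hspan.symm ▸ hmin)
    rw [ProjDim.dimQ_bot] at h1
    obtain ⟨η, rfl⟩ := ProjDim.exists_pt_of_dim P (GenPt.minimal_isHomogeneous hI hmin) (by omega)
    exact ⟨η, rfl, by omega⟩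
  have hsub : ∀ η, f ∈ ProjDim.pt η → closure ({η} : Set (ProjectiveSpectrum (CohB1.polyGrading n k))) ⊆
      ProjectiveSpectrum.zeroLocus (CohB1.polyGrading n k) ({f} : Set _) := fun η hη y hy => by
    rw [ProjDim.mem_zeroLocus_iff, Set.singleton_subset_iff]
    exact (ProjDim.mem_closure_iff η y).1 hy hη
  refine ⟨?_, ?_⟩
  · obtain ⟨M, hM⟩ := Ideal.nonempty_minimalPrimes (I := Ideal.span {f})
      (ne_top_of_le_ne_top (Ideal.IsPrime.ne_top' (I := GenPt.irr k n))
        ((Ideal.span_singleton_le_iff_mem _).2 hfirr))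
    obtain ⟨η, rfl, -⟩ := hex M hM.1.1 hM
    exact ⟨η, by
      rw [ProjDim.mem_zeroLocus_iff, Set.singleton_subset_iff]
      exact hM.1.2 (Ideal.subset_span rfl)⟩
  refine isPreconnected_of_forall_pair fun x hx y hy => ?_
  rw [ProjDim.mem_zeroLocus_iff, Set.singleton_subset_iff] at hx hy
  obtain ⟨Mx, hMx, hMxle⟩ := Ideal.exists_minimalPrimes_le (J := ProjDim.pt x)
    ((Ideal.span_singleton_le_iff_mem _).2 hx)
  obtain ⟨My, hMy, hMyle⟩ := Ideal.exists_minimalPrimes_le (J := ProjDim.pt y)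
    ((Ideal.span_singleton_le_iff_mem _).2 hy)
  obtain ⟨a, rfl, ha⟩ := hex Mx hMx.1.1 hMx
  obtain ⟨b, rfl, hb⟩ := hex My hMy.1.1 hMy
  have hne : ProjDim.pt a ⊔ ProjDim.pt b ≠ ⊤ :=
    ne_top_of_le_ne_top (Ideal.IsPrime.ne_top' (I := GenPt.irr k n))
      (sup_le (ProjDim.pt_lt_irr a).le (ProjDim.pt_lt_irr b).le)
  obtain ⟨M, hM⟩ := Ideal.nonempty_minimalPrimes hne
  haveI := hM.1.1
  have key := ProjDim.add_le_of_mem_minimalPrimes_sup k (ProjDim.pt a) (ProjDim.pt b) M hM
    (ProjDim.dimQ_spec _) (ProjDim.dimQ_spec _) (ProjDim.dimQ_spec M)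
  obtain ⟨z, rfl⟩ := ProjDim.exists_pt_of_dim M (GenPt.minimal_isHomogeneous
    ((ProjDim.pt_isHomogeneous a).sup (ProjDim.pt_isHomogeneous b)) hM) (by omega)
  exact ⟨closure {a} ∪ closure {b},
    Set.union_subset (hsub a (hMx.1.2 (Ideal.subset_span rfl)))
      (hsub b (hMy.1.2 (Ideal.subset_span rfl))),
    Or.inl ((ProjDim.mem_closure_iff a x).2 hMxle), Or.inr ((ProjDim.mem_closure_iff b y).2 hMyle),
    IsPreconnected.union z ((ProjDim.mem_closure_iff a z).2 (le_sup_left.trans hM.1.2))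
      ((ProjDim.mem_closure_iff b z).2 (le_sup_right.trans hM.1.2))
      isIrreducible_singleton.closure.isPreirreducible.isPreconnected
      isIrreducible_singleton.closure.isPreirreducible.isPreconnected⟩

end Groth.Agent.S10820
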