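import Groth.Statements.S13973
import Groth.Agent.DualAbs.HypChi
import Groth.Agent.DualAbs.Closed
import Groth.Agent.S10931
-- import your own Groth.Agent.* helpers here

set_option autoImplicit false
set_option linter.style.haveILetI false
universe u
open CategoryTheory CategoryTheory.Limits AlgebraicGeometry
open LefPen

namespace Groth.Agent.S13973

open Groth.Agent Groth.Agent.DualAbs.Bott

theorem nonempty_swap {X : Scheme.{u}} (A D G : X.Modules) [DCoh.HasSheafHom A] [DCoh.HasSheafHom D] :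
    Nonempty ((DCoh.sheafHom A).obj ((DCoh.sheafHom D).obj G) ≅
      (DCoh.sheafHom D).obj ((DCoh.sheafHom A).obj G)) := by
  let adj := ((DCoh.sheafHomAdj A).comp (DCoh.sheafHomAdj D)).ofNatIsoLeft
    (SerrePn.tensorCompIso D A _ (ChgRings.commIso D A) ≪≫
      (SerrePn.tensorCompIso A D _ (Iso.refl _)).symm)
  exact ⟨(adj.rightAdjointUniq ((DCoh.sheafHomAdj D).comp (DCoh.sheafHomAdj A))).app G⟩

/-- `T_P ≅ Ω^(n-1)(n+1)`. -/
theorem nonempty_tangent (k : Type u) [Field k] (m : ℕ) {L : (CohB1.ProjSpace (1 + m) k).Modules}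
    [DCoh.HasSheafHom (Omega.sheaf (CohB1.ProjSpace.toSpec (1 + m) k))]
    (hL : ExtPow.IsExtPow m (Om (1 + m) k) L) :
    Nonempty ((DCoh.sheafHom (Omega.sheaf (CohB1.ProjSpace.toSpec (1 + m) k))).obj
      (Coh.structureModule (CohB1.ProjSpace (1 + m) k)) ≅
        CohB1.tensorMod (Twist.twistProjSpace (1 + m) k (((1 + m : ℕ) : ℤ) + 1)) L) := by
  let Ω := Om (1 + m) k
  let c : ℤ := ((1 + m : ℕ) : ℤ) + 1
  let D := Twist.twistProjSpace (1 + m) k (-c)
  let D' := Twist.twistProjSpace (1 + m) k c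
  haveI : IsProper (CohB1.ProjSpace.toSpec (1 + m) k) := ProjProper.Basic.isProper_toSpec (1 + m) k
  haveI : IsLocallyNoetherian (CohB1.ProjSpace (1 + m) k) := SerrePn.isLocallyNoetherian (n := 1 + m) (R := k)
  haveI := DualAbs.PnTop.smoothOfRelativeDimension_toSpec (1 + m) k
  haveI := (isCoh_Om (n := 1 + m) (k := k)).1
  haveI := KFlat.hasSheafHom_scheme D
  have hb := DualAbs.SmoothImm.exists_basis_omega (CohB1.ProjSpace.toSpec (1 + m) k) (1 + m)
  obtain ⟨W, hW⟩ := exists_pow_Om (n := 1 + m) (k := k) (1 + m)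
  obtain ⟨eW⟩ := DualAbs.PnTop.nonempty_top_iso (1 + m) k hW
  have h1 := S3203.isExtPow_one (X := CohB1.ProjSpace (1 + m) k) (Om (1 + m) k)
  obtain ⟨w⟩ := DualAbs.WedgePair.nonempty_iso (i := 1) (j := m) ⟨h1.choose, h1.choose_spec⟩
    ⟨hL.choose, hL.choose_spec⟩ ⟨hW.choose, hW.choose_spec⟩
    (HomShEval.QCoh.isFP_of_isCoh _ (isCoh_Om (n := 1 + m) (k := k))) hb
  obtain ⟨t⟩ := ProjTwist.nonempty_twistProjSpace_tensor (1 + m) k c (-c)
  let e : CohB1.tensorMod D' D ≅ Coh.structureModule (CohB1.ProjSpace (1 + m) k) :=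
    t ≪≫ eqToIso (congrArg (Twist.twistProjSpace (1 + m) k) (add_neg_cancel c)) ≪≫
      (ProjTwist.twistZeroIso (CohB1.polyGrading (1 + m) k)).symm
  obtain ⟨b⟩ := DualAbs.nonempty_sheafHom_invertible D D' e D
  obtain ⟨b'⟩ := DualAbs.nonempty_sheafHom_invertible D D' e ((DCoh.sheafHom (Om (1 + m) k)).obj D)
  obtain ⟨sw⟩ := nonempty_swap (Om (1 + m) k) D D
  exact ⟨(DCoh.sheafHom (Om (1 + m) k)).mapIso (b ≪≫ e).symm ≪≫ sw ≪≫ b' ≪≫
    ProjTwist.tensCongr (Iso.refl D') ((DCoh.sheafHom (Om (1 + m) k)).mapIso eW.symm ≪≫ w.symm)⟩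

theorem two_mul_choose_two (x : ℤ) : 2 * Ring.choose x 2 = x * (x - 1) := by
  have h : ∀ y : ℤ, Ring.choose (y + 1) 2 = y + Ring.choose y 2 := fun y => by
    rw [Ring.choose_succ_succ y 1, Ring.choose_one_right]
  induction x using Int.induction_on with
  | zero => simp
  | succ i ih => rw [h]; linear_combination ih
  | pred i ih =>
    have := h (-(i : ℤ) - 1)
    rw [sub_add_cancel] at this
    linear_combination ih - 2 * this

/-- `h¹` of the restriction of `Ω^(n-1)(c)`. -/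
theorem core (k : Type u) [Field k] (m d : ℕ) (F : LefPen.Form (1 + m) k d) (hF : F ≠ 0)
    [(LefPen.hypIdeal F).subscheme.Over (Spec (CommRingCat.of k))]
    (hover : (LefPen.hypIdeal F).subschemeι ≫ CohB1.ProjSpace.toSpec (1 + m) k =
      (LefPen.hypIdeal F).subscheme ↘ Spec (CommRingCat.of k))
    {L : (CohB1.ProjSpace (1 + m) k).Modules} (hL : ExtPow.IsExtPow m (Om (1 + m) k) L) (c : ℤ) (hc : 1 ≤ c) :
    Module.finrank k (Coh.HH (LefPen.hypIdeal F).subscheme
        ((Scheme.Modules.pullback (LefPen.hypIdeal F).subschemeι).obj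
          (CohB1.tensorMod (Twist.twistProjSpace (1 + m) k c) L)) 1) =
      Groth.Agent.DualAbs.Bott.h ((Groth.Agent.DualAbs.Bott.tw (n := 1 + m) (k := k) (c - d)).obj L) 2 := by
  let P := CohB1.ProjSpace (1 + m) k
  haveI : IsProper (P ↘ Spec (CommRingCat.of k)) := ProjProper.Basic.isProper_toSpec (1 + m) k
  haveI : IsProper (CohB1.ProjSpace.toSpec (1 + m) k) := ProjProper.Basic.isProper_toSpec (1 + m) k
  haveI := Groth.Agent.EulerChar.isLocallyNoetherian k (X := P)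
  haveI := Groth.Agent.EulerChar.isNoetherian k (X := P)
  haveI := Groth.Agent.DualAbs.PnTop.smoothOfRelativeDimension_toSpec (1 + m) k
  let I := LefPen.hypIdeal F
  let ι := I.subschemeι
  haveI : IsProper (I.subscheme ↘ Spec (CommRingCat.of k)) :=
    hover ▸ (inferInstance : IsProper (ι ≫ CohB1.ProjSpace.toSpec (1 + m) k))
  haveI := Groth.Agent.EulerChar.isLocallyNoetherian k (X := I.subscheme)
  haveI := Groth.Agent.EulerChar.isNoetherian k (X := I.subscheme)
  have cOm := Groth.Agent.DualAbs.Bott.isCoh_Om (n := 1 + m) (k := k)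
  haveI := cOm.1
  have cL : Coh.IsCoh L := Groth.Agent.ExtPowSt.isCoh ⟨hL.choose, hL.choose_spec⟩ cOm
  have fL : FlatMod.IsFinLocFree L := Groth.Agent.DualAbs.WedgePair.isFinLocFree ⟨hL.choose, hL.choose_spec⟩ cOm
    (Groth.Agent.DualAbs.SmoothImm.exists_basis_omega (CohB1.ProjSpace.toSpec (1 + m) k) (1 + m))
  have hV := Groth.Agent.ProjTwist.isFinLocFreeOfRank_one
    (Groth.Agent.ProjTwist.isInvertible_twistProjSpace (1 + m) k c)
  have hS := Groth.Agent.CohDev.tens_shortExact hV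
    (Groth.Agent.DualAbs.HypChi.shortExact_tensR fL (Groth.Agent.EulerChar.shortExact_ideal ι.ker))
  have hker : ι.ker = LefPen.hypIdeal F := Scheme.IdealSheafData.ker_subschemeι _
  obtain ⟨eJ⟩ : Nonempty (ClSub.idealMod ι.ker ≅ Twist.twistProjSpace (1 + m) k (-(d : ℤ))) := by
    rw [hker]; exact Groth.Agent.CIProj49.nonempty_hypIso F (fun h => hF (Subtype.ext h))
  obtain ⟨t⟩ := Groth.Agent.ProjTwist.nonempty_twistProjSpace_tensor (1 + m) k c (-(d : ℤ))
  let f₁ : CohB1.tensorMod (Twist.twistProjSpace (1 + m) k c) (CohB1.tensorMod (ClSub.idealMod ι.ker) L) ≅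
      CohB1.tensorMod (Twist.twistProjSpace (1 + m) k (c - d)) L :=
    Groth.Agent.ProjTwist.tensCongr (Iso.refl _) (Groth.Agent.ProjTwist.tensCongr eJ (Iso.refl L)) ≪≫
      (Groth.Agent.ProjTwist.tensAssoc _ _ L).symm ≪≫
      Groth.Agent.ProjTwist.tensCongr (t ≪≫ eqToIso (congrArg _ (sub_eq_add_neg c (d : ℤ)).symm)) (Iso.refl L)
  let f₂ : CohB1.tensorMod (Twist.twistProjSpace (1 + m) k c) (CohB1.tensorMod (Coh.structureModule P) L) ≅
      CohB1.tensorMod (Twist.twistProjSpace (1 + m) k c) L :=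
    Groth.Agent.ProjTwist.tensCongr (Iso.refl _) (Groth.Agent.ProjTwist.oneTens L)
  obtain ⟨q₁⟩ := Groth.Agent.DualAbs.HypChi.nonempty_quot_tensor' ι (Twist.twistProjSpace (1 + m) k c) L
  obtain ⟨q₂⟩ := Groth.Agent.DualAbs.HypChi.nonempty_quot_tensor ι
    (CohB1.tensorMod (Twist.twistProjSpace (1 + m) k c) L)
  let M := CohB1.tensorMod ((Scheme.Modules.pullback ι).obj (CohB1.tensorMod (Twist.twistProjSpace (1 + m) k c) L))
    (Coh.structureModule I.subscheme)
  have cM : Coh.IsCoh M := Groth.Agent.CohDev.isCoh_of_iso (Groth.Agent.ProjTwist.tensOne _).symm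
    (Groth.Agent.ZClosLib.CohDescent.isCoh_pullback ι _ (Groth.Agent.CohDev.isCoh_tens hV cL))
  let eM : M ≅ (Scheme.Modules.pullback ι).obj (CohB1.tensorMod (Twist.twistProjSpace (1 + m) k c) L) :=
    Groth.Agent.ProjTwist.tensOne _
  haveI := cM.1
  have c₁ := Groth.Agent.CohDev.isCoh_of_iso f₁.symm (Groth.Agent.CohDev.isCoh_tens
    (Groth.Agent.ProjTwist.isFinLocFreeOfRank_one
      (Groth.Agent.ProjTwist.isInvertible_twistProjSpace (1 + m) k (c - d))) cL)
  have c₂ := Groth.Agent.CohDev.isCoh_of_iso f₂.symm (Groth.Agent.CohDev.isCoh_tens hV cL)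
  have c₃ := Groth.Agent.CohDev.isCoh_of_iso (q₁ ≪≫ q₂).symm (Groth.Agent.CycLib.isCoh_push _ ι cM)
  obtain ⟨r, a, b, r0, hr⟩ := Groth.Agent.DualAbs.CICoh.exists_ranks (k := k) hS c₁ c₂ c₃
  obtain ⟨E⟩ := Groth.Agent.EulerChar.nonempty_pushEquiv (A := k) ι hover M cM.1 1
  have h₁ : ∀ q, Groth.Agent.DualAbs.Bott.h ((Groth.Agent.DualAbs.Bott.tw (n := 1 + m) (k := k) (c - d)).obj L) q = r q + a q := fun q =>
    (Groth.Agent.SurfRR.hhEquiv k f₁ q).finrank_eq.symm.trans (hr q).1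
  have h₂ : ∀ q, a (q + 1) + b (q + 1) = 0 := fun q =>
    ((hr (q + 1)).2.1.symm.trans (Groth.Agent.SurfRR.hhEquiv k f₂ (q + 1)).finrank_eq).trans
      (Groth.Agent.DualAbs.Bott.h_pos_succ (n := 1 + m) (k := k) (d := c) (by omega) (1 + m + 1) m (by omega) L hL q)
  have h₃ : Module.finrank k (Coh.HH I.subscheme ((Scheme.Modules.pullback ι).obj
      (CohB1.tensorMod (Twist.twistProjSpace (1 + m) k c) L)) 1) =
        b 1 + r 2 :=
    (((Groth.Agent.SurfRR.hhEquiv k (q₁ ≪≫ q₂) 1) ≪≫ₗ E ≪≫ₗ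
      Groth.Agent.SurfRR.hhEquiv k eM 1).finrank_eq).symm.trans (hr 1).2.2
  have heq : Module.finrank k (Coh.HH I.subscheme ((Scheme.Modules.pullback ι).obj
      (CohB1.tensorMod (Twist.twistProjSpace (1 + m) k c) L)) 1) =
        Groth.Agent.DualAbs.Bott.h ((Groth.Agent.DualAbs.Bott.tw (n := 1 + m) (k := k) (c - d)).obj L) 2 := by
    have := h₁ 2; have := h₂ 0; have := h₂ 1
    simp only [zero_add, show (1 : ℕ) + 1 = 2 from rfl] at *
    omega
  exact heq

/-- The Bott numbers. -/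
theorem numeric (k : Type u) [Field k] (m d : ℕ) (hn : 2 ≤ 1 + m) (hd : 1 ≤ d) {L : (CohB1.ProjSpace (1 + m) k).Modules}
    (hL : ExtPow.IsExtPow m (Om (1 + m) k) L) (cL : Coh.IsCoh L) (c : ℤ) (hc : (((1 + m : ℕ) : ℤ) + 1) = c) :
    Groth.Agent.DualAbs.Bott.h ((Groth.Agent.DualAbs.Bott.tw (n := 1 + m) (k := k) (c - d)).obj L) 2 = 0 ↔ ¬ ((1 + m = 2 ∧ 5 ≤ d) ∨ (1 + m = 3 ∧ d = 4)) := by
  haveI : IsProper (CohB1.ProjSpace (1 + m) k ↘ Spec (CommRingCat.of k)) := ProjProper.Basic.isProper_toSpec (1 + m) k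
  rcases lt_trichotomy (c - (d : ℤ)) 0 with ht | ht | ht
  · by_cases hm : m = 1 ∧ c - (d : ℤ) < -1
    · obtain ⟨rfl, hlt⟩ := hm
      refine iff_of_false (fun h0 => ?_) (fun hh => hh (Or.inl ⟨rfl, by omega⟩))
      have hχ := Groth.Agent.DualAbs.HypChi.euler_Om (k := k) (N := 1 + 1) (by omega) 1 L hL (c - d)
      have hcC := Groth.Agent.DualAbs.Bott.isCoh_tw (n := 1 + 1) (k := k) (c - d) cL
      replace hχ := (Groth.Agent.EulerChar.euler_eq_sum k
        (M := CohB1.tensorMod (Twist.twistProjSpace (1 + 1) k (c - d)) L) (t := 3) fun j hj =>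
          Groth.Agent.SerrePn.subsingleton_HH_of_lt (n := 1 + 1) (R := k) hcC.1 (by omega)).symm.trans hχ
      have hv : ∀ j, j < 2 → Groth.Agent.DualAbs.Bott.h ((Groth.Agent.DualAbs.Bott.tw (n := 1 + 1) (k := k) (c - d)).obj L) j = 0 := fun j hj => by
        rw [← Groth.Agent.DualAbs.Bott.h_tensor]
        exact Groth.Agent.DualAbs.Bott.h_vanish hL (by omega) j (by omega) (by omega)
      change ∑ j ∈ Finset.range 3, (-1 : ℤ) ^ j * (Groth.Agent.DualAbs.Bott.h ((Groth.Agent.DualAbs.Bott.tw (n := 1 + 1) (k := k) (c - d)).obj L) j : ℤ) = _ at hχ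
      rw [Finset.sum_range_succ, Finset.sum_range_succ, Finset.sum_range_one, hv 0 (by omega), hv 1 (by omega),
        h0] at hχ
      simp only [Groth.Agent.DualAbs.HypGenus.E] at hχ
      have e1 := two_mul_choose_two (c - (d : ℤ) - ((0 + 1 : ℕ) : ℤ) + ((1 + 1 : ℕ) : ℤ))
      have e2 := two_mul_choose_two (c - (d : ℤ) + ((1 + 1 : ℕ) : ℤ))
      norm_num at hχ e1 e2
      nlinarith [hχ, e1, e2, hlt]
    · refine iff_of_true ?_ (by omega)
      rw [← Groth.Agent.DualAbs.Bott.h_tensor]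
      exact Groth.Agent.DualAbs.Bott.h_vanish hL (by omega) 2 (by omega) (by omega)
  · rw [ht, Groth.Agent.DualAbs.Bott.h_zero_twist m (by omega) L hL 2]
    split_ifs with h2
    · exact iff_of_false (by simp) (by omega)
    · exact iff_of_true (by simp) (by omega)
  · refine iff_of_true ?_ (by omega)
    exact Groth.Agent.DualAbs.Bott.h_pos_succ (n := 1 + m) (k := k) (by omega) (1 + m + 1) m (by omega) L hL 1

end Groth.Agent.S13973

namespace Groth.Agent.S13973

/-- In the form its proof establishes, for a smooth hypersurface Z₀ = V(F) ⊂ Pⁿ_k of degree d ≥ 1, n ≥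
2, over a field k (F a nonzero form), the group H¹(Z₀, T_{Pⁿ}|_{Z₀}) vanishes exactly when (n, d) is
not one of: n = 2 and d ≥ 5; n = 3 and d = 4. Here T_{Pⁿ} = Hom(Ω_{Pⁿ/k}, O) (the sheaf Hom, assumed
to exist as the right adjoint of tensoring with Ω_{Pⁿ/k}) and T_{Pⁿ}|_{Z₀} is its pullback along the
closed immersion. (The published statement says that the coboundary δ : H⁰(Z₀, N₀) → H¹(Z₀, T_{Z₀})
of the dual conormal sequence is surjective exactly in these cases; its proof identifies the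
cokernel of δ with H¹(Z₀, T_{Pⁿ}|_{Z₀}), and that group with H²(Pⁿ, T_{Pⁿ}(−d)), and computes when
it vanishes, which is what this row states.) -/
theorem result (k : Type u) [Field k] (n d : ℕ)
    (hn : 2 ≤ n) (hd : 1 ≤ d) (F : LefPen.Form n k d) (hF : F ≠ 0)
    [Smooth ((LefPen.hypIdeal F).subschemeι ≫ CohB1.ProjSpace.toSpec n k)]
    [DCoh.HasSheafHom (Omega.sheaf (CohB1.ProjSpace.toSpec n k))] :
    Subsingleton (Coh.HH (LefPen.hypIdeal F).subscheme
        ((Scheme.Modules.pullback (LefPen.hypIdeal F).subschemeι).obj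
          ((DCoh.sheafHom (Omega.sheaf (CohB1.ProjSpace.toSpec n k))).obj
            (Coh.structureModule (CohB1.ProjSpace n k)))) 1) ↔
      ¬ ((n = 2 ∧ 5 ≤ d) ∨ (n = 3 ∧ d = 4)) := by
  obtain ⟨m, rfl⟩ : ∃ m, n = 1 + m := ⟨n - 1, by omega⟩
  haveI : IsProper (CohB1.ProjSpace.toSpec (1 + m) k) := Groth.Agent.ProjProper.Basic.isProper_toSpec (1 + m) k
  haveI : IsProper (CohB1.ProjSpace (1 + m) k ↘ Spec (CommRingCat.of k)) := Groth.Agent.ProjProper.Basic.isProper_toSpec (1 + m) k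
  haveI := Groth.Agent.EulerChar.isLocallyNoetherian k (X := CohB1.ProjSpace (1 + m) k)
  haveI := Groth.Agent.EulerChar.isNoetherian k (X := CohB1.ProjSpace (1 + m) k)
  letI : (LefPen.hypIdeal F).subscheme.Over (Spec (CommRingCat.of k)) :=
    ⟨(LefPen.hypIdeal F).subschemeι ≫ CohB1.ProjSpace.toSpec (1 + m) k⟩
  haveI : IsProper ((LefPen.hypIdeal F).subscheme ↘ Spec (CommRingCat.of k)) :=
    inferInstanceAs (IsProper ((LefPen.hypIdeal F).subschemeι ≫ CohB1.ProjSpace.toSpec (1 + m) k))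
  haveI := Groth.Agent.EulerChar.isLocallyNoetherian k (X := (LefPen.hypIdeal F).subscheme)
  haveI := Groth.Agent.EulerChar.isNoetherian k (X := (LefPen.hypIdeal F).subscheme)
  obtain ⟨L, hL⟩ := Groth.Agent.DualAbs.Bott.exists_pow_Om (n := 1 + m) (k := k) m
  have cL : Coh.IsCoh L := Groth.Agent.ExtPowSt.isCoh ⟨hL.choose, hL.choose_spec⟩
    (Groth.Agent.DualAbs.Bott.isCoh_Om (n := 1 + m) (k := k))
  obtain ⟨eT⟩ := nonempty_tangent k m hL
  generalize hc : (((1 + m : ℕ) : ℤ) + 1) = c at eT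
  let e := (Scheme.Modules.pullback (LefPen.hypIdeal F).subschemeι).mapIso eT
  have cX := Groth.Agent.CohDev.isCoh_of_iso e.symm (Groth.Agent.ZClosLib.CohDescent.isCoh_pullback
    (LefPen.hypIdeal F).subschemeι _ (Groth.Agent.CohDev.isCoh_tens (Groth.Agent.ProjTwist.isFinLocFreeOfRank_one
      (Groth.Agent.ProjTwist.isInvertible_twistProjSpace (1 + m) k c)) cL))
  haveI := Groth.Agent.EulerChar.finite_HH k _ cX 1
  rw [← Module.finrank_zero_iff (R := k), (Groth.Agent.SurfRR.hhEquiv k e 1).finrank_eq,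
    core k m d F hF rfl hL c (by omega)]
  exact numeric k m d hn hd hL cL c hc

end Groth.Agent.S13973
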