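import Groth.Statements.S6472
import Groth.Agent.RelDiv.CurveSmooth
import Groth.Agent.DualAbs.SmoothImm

set_option autoImplicit false
universe u
open CategoryTheory CategoryTheory.Limits AlgebraicGeometry
open IntMult

namespace Groth.Agent.S6472

theorem smoothOfRelativeDimension_of_dim {k : Type u} [Field k] {X : Scheme.{u}} [X.Over (Spec (CommRingCat.of k))] (n : ℕ)
    [Smooth (X ↘ Spec (CommRingCat.of k))] [IsIntegral X]
    (hdim : topologicalKrullDim X = n) : SmoothOfRelativeDimension n (X ↘ Spec (CommRingCat.of k)) := by
  let f := X ↘ Spec (CommRingCat.of k)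
  refine ⟨fun x => ?_⟩
  obtain ⟨U, hU, V, hV, hx, e, hs⟩ := Smooth.exists_isStandardSmooth f x
  obtain rfl : U = ⊤ := eq_top_iff.mpr fun y _ => by
    have : y = f x := Subsingleton.elim (α := PrimeSpectrum k) _ _
    rw [this]; exact e hx
  refine ⟨⊤, hU, V, hV, hx, e, ?_⟩
  haveI : Nonempty V := ⟨⟨x, hx⟩⟩
  let φ : k →+* Γ(X, V) := (f.appLE ⊤ V e).hom.comp (Scheme.ΓSpecIso (CommRingCat.of k)).inv.hom
  have hiso : ∀ {P : ∀ {R S : Type u} [CommRing R] [CommRing S], (R →+* S) → Prop},
      RingHom.RespectsIso P → (P (f.appLE ⊤ V e).hom ↔ P φ) := fun hP =>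
    ⟨fun h => hP.2 _ (Scheme.ΓSpecIso (CommRingCat.of k)).symm.commRingCatIsoToRingEquiv h, fun h => by
      have := hP.2 φ (Scheme.ΓSpecIso (CommRingCat.of k)).commRingCatIsoToRingEquiv h
      convert this using 1
      ext a
      show _ = (f.appLE ⊤ V e) ((Scheme.ΓSpecIso (CommRingCat.of k)).inv ((Scheme.ΓSpecIso (CommRingCat.of k)).hom a))
      rw [Iso.hom_inv_id_apply]⟩
  refine (hiso (P := RingHom.IsStandardSmoothOfRelativeDimension n)
    RingHom.isStandardSmoothOfRelativeDimension_respectsIso).mpr ?_
  have hs' := (hiso (P := RingHom.IsStandardSmooth) RingHom.isStandardSmooth_respectsIso).mp hs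
  letI : Algebra k Γ(X, V) := φ.toAlgebra
  haveI : Algebra.IsStandardSmooth k Γ(X, V) := hs'
  letI : Algebra k X.functionField := ((X.germToFunctionField V).hom.comp φ).toAlgebra
  haveI : IsScalarTower k Γ(X, V) X.functionField := IsScalarTower.of_algebraMap_eq fun _ => rfl
  haveI := functionField_isFractionRing_of_isAffineOpen X V hV
  haveI : Algebra.FormallyEtale Γ(X, V) X.functionField :=
    Algebra.FormallyEtale.of_isLocalization (nonZeroDivisors Γ(X, V))
  haveI : Algebra.EssFiniteType Γ(X, V) X.functionField :=
    Algebra.EssFiniteType.of_isLocalization _ (nonZeroDivisors Γ(X, V))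
  haveI : Algebra.EssFiniteType k X.functionField := Algebra.EssFiniteType.comp k Γ(X, V) X.functionField
  haveI : Algebra.FormallySmooth k X.functionField := Algebra.FormallySmooth.comp k Γ(X, V) X.functionField
  have htr : Algebra.trdeg k X.functionField = (n : ℕ) := by
    letI := Curv2.resAlgebra k X (genericPoint X)
    have h1 := VarDim.trdeg_residueField k X (genericPoint X)
    rw [show VarDim.dimPt k X (genericPoint X) = n from by
      have h := (VarDim.topologicalKrullDim_eq_of_irreducible k (X := X)).symm.trans hdim
      exact_mod_cast h] at h1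
    rw [← h1]
    have hb : Function.Bijective (X.residue (genericPoint X)) :=
      ⟨RingHom.injective (R := X.functionField) (X.residue (genericPoint X)).hom, X.residue_surjective _⟩
    let ee : X.functionField ≃ₐ[k] X.residueField (genericPoint X) :=
      AlgEquiv.ofRingEquiv (f := RingEquiv.ofBijective (X.residue (genericPoint X)).hom hb) fun c => by
        show X.residue (genericPoint X) (X.germToFunctionField V ((f.appLE ⊤ V e) _)) =
          X.residue (genericPoint X) (X.presheaf.germ ⊤ (genericPoint X) trivial (Coh.toGlobal f c))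
        congr 1
        simp only [Scheme.Hom.appLE, CommRingCat.comp_apply, Scheme.germToFunctionField, TopCat.Presheaf.germ_res_apply]
        rfl
    exact ee.trdeg_eq
  have h2 : Module.finrank Γ(X, V) Ω[Γ(X, V)⁄k] = n := by
    rw [← Module.finrank_baseChange (R := X.functionField),
      (KaehlerDifferential.isBaseChange_of_formallyEtale k Γ(X, V) X.functionField).equiv.finrank_eq]
    exact Omega.RankDim.finrank_kaehler_eq_trdeg k X.functionField n htr
  show Algebra.IsStandardSmoothOfRelativeDimension n k Γ(X, V)
  rw [Algebra.IsStandardSmoothOfRelativeDimension.iff_of_isStandardSmooth, ← Module.finrank_eq_rank, h2]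


/-- Let X be a nonsingular variety of dimension n over the algebraically closed field K. Then Δ : X → X
×_K X, the diagonal, is regular of codimension n as an immersion (RegImm.IsRegularImmersionOfCodim
of kind regular: an immersion which, around every point, in an affine open where it is closed, is
cut out by a regular sequence of length n). Nonsingular variety: X → Spec K smooth, separated,
quasi-compact, X integral; n = Krull dimension of X. -/
theorem result (K : Type u) [Field K] [IsAlgClosed K] (X : Scheme.{u}) (f : X ⟶ Spec (CommRingCat.of K)) [Smooth f] [IsSeparated f] [QuasiCompact f] [IsIntegral X] (n : ℕ) (hn : topologicalKrullDim X = n) : RegImm.IsRegularImmersionOfCodim RegImm.Kind.regular n (pullback.diagonal f) := by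
  letI : X.Over (Spec (CommRingCat.of K)) := ⟨f⟩
  haveI : Smooth (X ↘ Spec (CommRingCat.of K)) := ‹Smooth f›
  haveI : SmoothOfRelativeDimension n f := smoothOfRelativeDimension_of_dim (k := K) (X := X) n hn
  haveI := smoothOfRelativeDimension_isStableUnderBaseChange.{u} (n := n)
  haveI : SmoothOfRelativeDimension n (pullback.fst f f) :=
    MorphismProperty.of_isPullback (IsPullback.of_hasPullback f f).flip inferInstance
  haveI : SmoothOfRelativeDimension (n + n) (pullback.fst f f ≫ f) :=
    smoothOfRelativeDimension_comp n n (f := pullback.fst f f) (g := f)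
  haveI : SmoothOfRelativeDimension n (pullback.diagonal f ≫ pullback.fst f f ≫ f) := by
    rw [pullback.diagonal_fst_assoc]
    infer_instance
  haveI : IsLocallyNoetherian (pullback f f) :=
    LocallyOfFiniteType.isLocallyNoetherian (pullback.fst f f ≫ f)
  simpa using DualAbs.SmoothImm.isRegularImmersionOfCodim (pullback.fst f f ≫ f) (pullback.diagonal f)
    (n + n) n

end Groth.Agent.S6472
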