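import Groth.Statements.S1812
import Groth.Agent.LocCoh.HDIGamma

set_option autoImplicit false
universe u
open CategoryTheory
attribute [local instance] HasDerivedCategory.standard
open LocCoh

namespace Groth.Agent.S1812

/-- Let A be a ring, I a finitely generated ideal and K an object of D(A); assume the total right
derived functor RΓ_I of the I-power torsion functor exists. Then for every q the A-module
H^q(RΓ_I(K)) is isomorphic to the direct limit over n of the A-modules of maps A/I^n → K[q] in D(A). -/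
theorem result (A : Type u) [CommRing A] (I : Ideal A) (hI : I.FG) [DRing.HasRgammaI I] (K : Dual.D A) (q : ℤ) : Nonempty (Dual.HD A ((DRing.RgammaI I).obj K) q ≃ₗ[A] Dual2.HDI A I K q) := by
  obtain ⟨E, hE, -, ⟨e⟩⟩ := Groth.Agent.LocCoh.RGamma.exists_resolution K
  have := Groth.Agent.LocCoh.RGamma.isIso_unitQ I E
  let F := Groth.Agent.LocCoh.RGamma.GC I
  let θ : DRing.toD ((shiftFunctor (DRing.Cx A) q).obj E) ≅ (shiftFunctor (Dual.D A) q).obj K :=
    ((DerivedCategory.Q (C := ModuleCat.{u} A)).commShiftIso q).app E ≪≫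
      (shiftFunctor (Dual.D A) q).mapIso e
  let c : DRing.toD (F.obj ((shiftFunctor (DRing.Cx A) q).obj E)) ≅
      (shiftFunctor (Dual.D A) q).obj (DRing.toD (F.obj E)) :=
    DerivedCategory.Q.mapIso ((F.commShiftIso q).app E) ≪≫
      ((DerivedCategory.Q (C := ModuleCat.{u} A)).commShiftIso q).app (F.obj E)
  let r := (Groth.Agent.DRing.DBasic.HF q).mapIso
      ((DRing.RgammaI I).mapIso e.symm ≪≫
        (asIso (Groth.Agent.LocCoh.RGamma.unitQ I E)).symm) ≪≫
    (Groth.Agent.DRing.DBasic.HFShiftIso (DRing.toD (F.obj E)) q 0 q (add_zero q)).symm ≪≫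
    (Groth.Agent.DRing.DBasic.HF 0).mapIso c.symm ≪≫ Groth.Agent.DRing.DBasic.hIso _ 0
  exact ⟨r.toLinearEquiv.trans (Groth.Agent.LocCoh.HDIGamma.equiv I θ).symm⟩

end Groth.Agent.S1812
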