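import Groth.Statements.S19135
import Groth.Agent.DualCx.LocalDualityGen
import Groth.Agent.InjHull.Matlis
import Groth.Agent.S1812

set_option autoImplicit false
universe u
open CategoryTheory
attribute [local instance] HasDerivedCategory.standard
open Dual

namespace Groth.Agent.S19135

open IsLocalRing in
/-- `L_m(M[q]) = Hom(Hom(M, ω[-q]), E)` -/
lemma nonempty_duality {A : Type u} [CommRing A] [IsLocalRing A] [IsNoetherianRing A] {ω : Dual.D A}
    (hω : Dual.IsDualizing A ω) (hn : Dual.IsNormalized A ω) {E : Type u} [AddCommGroup E]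
    [Module A E] {f : ResidueField A →ₗ[A] E} (hf : _root_.InjHull.IsInjectiveHull f) (M : Dual.D A)
    (hM : ∀ i, Module.Finite A (Dual.HD A M i)) (q : ℤ) :
    Nonempty (DualCx.TorsColim.L (maximalIdeal A) (M⟦q⟧) ≃ₗ[A] ((M ⟶ ω⟦-q⟧) →ₗ[A] E)) := by
  obtain ⟨θ, hθ⟩ := DualCx.Trace.exists_trace hω hn hf
  exact ⟨(LinearEquiv.ofBijective _ (DualCx.LocalDualityGen.bijective hω hn hf hθ M hM q)).trans
    (LinearEquiv.congrLeft E A (DualCx.Hom.shiftHom A q (-q) 0 (by omega) M ω).symm)⟩

lemma finite_hom {A : Type u} [CommRing A] [IsNoetherianRing A] {ω : Dual.D A}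
    (hω : Dual.IsDualizing A ω) (M : Dual.D A) (hM : ∀ i, Module.Finite A (Dual.HD A M i)) (i : ℤ) :
    Module.Finite A (M ⟶ ω⟦i⟧) := by
  obtain ⟨a, b, hab⟩ := hω.finite_injective_dimension
  exact DualCx.LocalGlobal.finite_hom_of_injRep hM hω.finite_cohomology
    (DRing.InjAmp.hasInjAmplitudeIn_of_vanishing (a := a) (b := b) fun J j hj => hab (A ⧸ J) j hj) i


/-- In the case of the spectrum of the base local ring and its closed point, let A be a Noetherian local
ring with maximal ideal m and ω a normalized dualizing complex over A (Hom(k, ω[i]) = 0 in D(A) for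
i ≠ 0), assume the total right derived functor RΓ_m of the m-power-torsion functor exists on D(A),
and let M be an object of D(A) which is bounded with finitely generated cohomology modules. Then
RHom(M, ω) is concentrated in degrees ≥ 0 (Hom(M, ω[i]) = 0 for all i < 0) if and only if RΓ_m M is
concentrated in degrees ≤ 0 (H^i(RΓ_m M) = 0 for all i > 0); and RHom(M, ω) is concentrated in
degrees ≤ 0 if and only if RΓ_m M is concentrated in degrees ≥ 0. In particular M is perverse
coherent (RHom(M, ω) concentrated in degree 0) exactly when its local cohomology at m is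
concentrated in degree 0. (The published statement of the two halves, read in cohomological
indexing, has the inequalities on the local cohomology side exchanged: over a field k with ω = k,
the complex k[1] has RHom(k[1], ω) = k[−1] concentrated in degrees ≥ 0 while its local cohomology
k[1] is concentrated in degree −1, not in degrees ≥ 0. This statement gives the form that local
duality yields, which is the one compatible with the description of the perverse t-structure by
support conditions.) -/
theorem result
    (A : Type u) [CommRing A] [IsLocalRing A] [IsNoetherianRing A]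
    (ω : Dual.D A) (hω : Dual.IsDualizing A ω) (hn : Dual.IsNormalized A ω)
    [DRing.HasRgammaI (IsLocalRing.maximalIdeal A)] (M : Dual.D A)
    (hfin : ∀ i : ℤ, Module.Finite A (Dual.HD A M i))
    (hbd : ∃ a b : ℤ, ∀ i : ℤ, (i < a ∨ b < i) → Subsingleton (Dual.HD A M i)) :
    ((∀ i : ℤ, i < 0 → Subsingleton (M ⟶ ω⟦i⟧)) ↔
      (∀ i : ℤ, 0 < i → Subsingleton (Dual.HD A ((DRing.RgammaI (IsLocalRing.maximalIdeal A)).obj M) i))) ∧
    ((∀ i : ℤ, 0 < i → Subsingleton (M ⟶ ω⟦i⟧)) ↔
      (∀ i : ℤ, i < 0 → Subsingleton (Dual.HD A ((DRing.RgammaI (IsLocalRing.maximalIdeal A)).obj M) i))) := by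
  obtain ⟨E, _, _, f, hf⟩ := InjHull.Basic.exists_isInjectiveHull (R := A) (IsLocalRing.ResidueField A)
  have key : ∀ q : ℤ, Subsingleton (Dual.HD A ((DRing.RgammaI (IsLocalRing.maximalIdeal A)).obj M) q) ↔
      Subsingleton (M ⟶ ω⟦-q⟧) := fun q => by
    obtain ⟨e₁⟩ := S1812.result A (IsLocalRing.maximalIdeal A) (IsNoetherian.noetherian _) M q
    obtain ⟨e₂⟩ := nonempty_duality hω hn hf M hfin q
    have := finite_hom hω M hfin (-q)
    refine (e₁.trans e₂).toEquiv.subsingleton_congr.trans ⟨fun h => ?_, fun h => inferInstance⟩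
    let e := Module.Finite.reprEquiv A (M ⟶ ω⟦-q⟧)
    have : Subsingleton (Module.Finite.repr A (M ⟶ ω⟦-q⟧) →ₗ[A] E) :=
      (LinearEquiv.congrLeft E A e).toEquiv.subsingleton
    have : Subsingleton (Module.Finite.repr A (M ⟶ ω⟦-q⟧)) :=
      subsingleton_of_forall_eq 0 fun x => by
        by_contra hx
        obtain ⟨φ, hφ⟩ := InjHull.Matlis.exists_apply_ne_zero hf hx
        exact hφ (by rw [Subsingleton.elim φ 0, LinearMap.zero_apply])
    exact e.symm.toEquiv.subsingleton
  refine ⟨⟨fun h i hi => (key i).mpr (h (-i) (by omega)), fun h i hi => ?_⟩,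
    ⟨fun h i hi => (key i).mpr (h (-i) (by omega)), fun h i hi => ?_⟩⟩ <;>
  · have := (key (-i)).mp (h (-i) (by omega))
    rwa [neg_neg] at this

end Groth.Agent.S19135
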