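import Groth.Statements.S0358
import Groth.Agent.LocCoh.FlatFibre.IdealDepth

set_option autoImplicit false
universe u v
open LocCoh

namespace Groth.Agent.S0358

/-- For a flat local homomorphism R → S of Noetherian local rings whose closed fibre S/m_R S is
Cohen–Macaulay, and a proper ideal I of S, the I-depth of S is at least dim(S/m_R S) − dim(S/(m_R S
+ I)); stated additively. -/
theorem result (R : Type u) [CommRing R] [IsLocalRing R] [IsNoetherianRing R] (S : Type u) [CommRing S] [IsLocalRing S] [IsNoetherianRing S] [Algebra R S] [IsLocalHom (algebraMap R S)] [Module.Flat R S] (hCM : LocCoh.IsCohenMacaulayLocalRing (S ⧸ (IsLocalRing.maximalIdeal R).map (algebraMap R S))) (I : Ideal S) (hI : I ≠ ⊤) : ringKrullDim (S ⧸ (IsLocalRing.maximalIdeal R).map (algebraMap R S)) ≤ ringKrullDim (S ⧸ ((IsLocalRing.maximalIdeal R).map (algebraMap R S) ⊔ I)) + ((LocCoh.idealDepth I S : ℕ∞) : WithBot ℕ∞) := by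
  set m := (IsLocalRing.maximalIdeal R).map (algebraMap R S) with hm
  have hmle : m ≤ IsLocalRing.maximalIdeal S :=
    Ideal.map_le_iff_le_comap.2 fun r hr => map_nonunit (algebraMap R S) r hr
  have : Nontrivial (S ⧸ m) :=
    Ideal.Quotient.nontrivial_iff.2 (ne_top_of_le_ne_top (IsLocalRing.maximalIdeal.isMaximal S).ne_top hmle)
  have : IsLocalRing (S ⧸ m) := IsLocalRing.of_surjective' (Ideal.Quotient.mk m) Ideal.Quotient.mk_surjective
  have hs : Function.Surjective (algebraMap S (S ⧸ m)) := Ideal.Quotient.mk_surjective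
  have hF : LocCoh.IsCohenMacaulayModule S (S ⧸ m) :=
    (Groth.Agent.Depth.isCohenMacaulayModule_iff_of_surjective hs).1
      (Groth.Agent.Depth.isCohenMacaulayModule_self (S ⧸ m) (h := hCM))
  have h := Groth.Agent.Depth.supportDim_eq_supportDim_quotient_add_idealDepth
    (IsLocalRing.le_maximalIdeal hI) hF
  have h1 : Module.supportDim S (S ⧸ m) = ringKrullDim (S ⧸ m) := by
    rw [Module.supportDim_eq_ringKrullDim_quotient_annihilator, Ideal.annihilator_quotient]
  have h2 : I • (⊤ : Submodule S (S ⧸ m)) = Submodule.map m.mkQ I := by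
    rw [← (Submodule.range_mkQ m), ← Submodule.map_top, ← Submodule.map_smul'', smul_eq_mul, Ideal.mul_top]
  have h3 : Module.supportDim S ((S ⧸ m) ⧸ I • (⊤ : Submodule S (S ⧸ m))) = ringKrullDim (S ⧸ (m ⊔ I)) := by
    rw [Module.supportDim_eq_of_equiv ((Submodule.quotEquivOfEq _ _ h2).trans
        (Submodule.quotientQuotientEquivQuotientSup m I)),
      Module.supportDim_eq_ringKrullDim_quotient_annihilator, Ideal.annihilator_quotient]
  have e : (S ⧸ m • (⊤ : Submodule S S)) ≃ₗ[S] S ⧸ m :=
    Submodule.quotEquivOfEq _ _ (by rw [smul_eq_mul, Ideal.mul_top])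
  have h4 : LocCoh.idealDepth I (S ⧸ m) ≤ LocCoh.idealDepth I S := by
    refine le_of_forall_le fun a ha => ?_
    rw [← Groth.Agent.Depth.idealDepth_congr e] at ha
    induction a using ENat.recTopCoe with
    | top =>
      rw [top_le_iff, ENat.eq_top_iff_forall_ge]
      exact fun k => Groth.Agent.LocCoh.FlatFibre.le_idealDepth (R := R) k S (le_top.trans ha)
    | coe k => exact Groth.Agent.LocCoh.FlatFibre.le_idealDepth (R := R) k S ha
  rw [h1, h3] at h
  rw [h]
  exact add_le_add le_rfl (WithBot.coe_le_coe.2 h4)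

end Groth.Agent.S0358
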