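import Groth.Statements.S5165
import Groth.Agent.RegLoc.PD
import Groth.Agent.S5791
import Groth.Agent.S0563
import Mathlib.RingTheory.Spectrum.Prime.FreeLocus

set_option autoImplicit false
universe u
open CategoryTheory
open LocCoh

namespace Groth.Agent.S5165

open CategoryTheory in
theorem exists_freeLocus_eq {A : Type u} [CommRing A] [IsNoetherianRing A] : ∀ (d : ℕ) (M : Type u)
    [AddCommGroup M] [Module A M] [Module.Finite A M], ∃ (K : Type u) (_ : AddCommGroup K) (_ : Module A K)
      (_ : Module.Finite A K), ∀ p : PrimeSpectrum A, HasProjectiveDimensionLE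
        (ModuleCat.of (Localization.AtPrime p.asIdeal) (LocalizedModule p.asIdeal.primeCompl M)) d ↔
          p ∈ Module.freeLocus A K := by
  intro d
  induction d with
  | zero =>
    intro M _ _ _
    refine ⟨M, inferInstance, inferInstance, inferInstance, fun p => ?_⟩
    rw [Groth.Agent.RegLoc.PD.pd_zero_iff, Module.mem_freeLocus]
    exact ⟨fun h => Module.free_of_flat_of_isLocalRing, fun h => inferInstance⟩
  | succ d ih =>
    intro M _ _ _
    obtain ⟨n, f, hf⟩ := Module.Finite.exists_fin' A M
    obtain ⟨K, _, _, _, hK⟩ := ih (LinearMap.ker f)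
    refine ⟨K, inferInstance, inferInstance, inferInstance, fun p => (Iff.trans ?_ (hK p))⟩
    let T := p.asIdeal.primeCompl
    have hex : Function.Exact (LocalizedModule.map T (LinearMap.ker f).subtype) (LocalizedModule.map T f) :=
      LocalizedModule.map_exact T (LinearMap.ker f).subtype f (LinearMap.exact_subtype_ker_map f)
    have hinj := LocalizedModule.map_injective T _ (LinearMap.ker f).injective_subtype
    rw [Groth.Agent.RegLoc.PD.pd_shift _ (LocalizedModule.map_surjective T f hf) d]
    let e : LocalizedModule T (LinearMap.ker f) ≃ₗ[Localization T] LinearMap.ker (LocalizedModule.map T f) :=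
      (LinearEquiv.ofInjective _ hinj).trans (LinearEquiv.ofEq _ _ hex.linearMap_ker_eq.symm)
    exact ⟨Groth.Agent.RegLoc.PD.pd_congr e.symm d, Groth.Agent.RegLoc.PD.pd_congr e d⟩

/-- Suppose A is a regular Noetherian ring and consider a finitely generated A-module M. Then some
natural number d bounds the projective dimension of M (equivalently, p ↦ proj.dim M_p stays bounded
as p ranges over Spec A, and this holds even if the Krull dimension of A is infinite). -/
theorem result (A : Type u) [CommRing A] [IsRegularRing A] (M : Type u) [AddCommGroup M] [Module A M] [Module.Finite A M] : ∃ d : ℕ, HasProjectiveDimensionLE (ModuleCat.of A M) d := by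
  choose K i1 i2 i3 hK using fun d => exists_freeLocus_eq (A := A) d M
  have hopen : ∀ d, IsOpen (Module.freeLocus A (K d)) := fun d => by
    let := i1 d; let := i2 d; have := i3 d
    have := Module.finitePresentation_of_finite A (K d)
    exact Module.isOpen_freeLocus
  obtain ⟨s, hs⟩ := CompactSpace.isCompact_univ.elim_finite_subcover _ hopen fun p _ => by
    obtain ⟨d, hd⟩ : ∃ d : ℕ, ringKrullDim (Localization.AtPrime p.asIdeal) = d :=
      ⟨_, (IsRegularLocalRing.spanFinrank_maximalIdeal (R := Localization.AtPrime p.asIdeal)).symm⟩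
    exact Set.mem_iUnion.mpr ⟨d, (hK d p).mp (Groth.Agent.S0563.result _ d hd _)⟩
  refine ⟨s.sup id, ?_⟩
  refine (Groth.Agent.S5791.result A M (s.sup id)).mpr fun p => ?_
  obtain ⟨d, hd, hpd⟩ := Set.mem_iUnion₂.mp (hs (Set.mem_univ p))
  exact Groth.Agent.RegLoc.PD.pd_mono _ (Finset.le_sup (f := id) hd) ((hK d p).mpr hpd)

end Groth.Agent.S5165
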