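import Groth.Statements.S14412
import Mathlib
-- import your own Groth.Agent.* helpers here

set_option autoImplicit false
universe u
open CategoryTheory
open CAlg

namespace Groth.Agent.S14412


open CategoryTheory Abelian in
private theorem map_smul_hom (R : Type u) [CommRing R] (S : Submonoid R) {M N : ModuleCat.{u} R}
    (r : R) (f : M ⟶ N) :
    (ModuleCat.localizedModuleFunctor.{u} S).map (r • f) =
      algebraMap R (Localization S) r • (ModuleCat.localizedModuleFunctor.{u} S).map f := by
  ext x
  show IsLocalizedModule.mapExtendScalars S (M.localizedModuleMkLinearMap S) (N.localizedModuleMkLinearMap S)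
      (Localization S) (r • f.hom) x = algebraMap R (Localization S) r •
    IsLocalizedModule.mapExtendScalars S (M.localizedModuleMkLinearMap S) (N.localizedModuleMkLinearMap S)
      (Localization S) f.hom x
  rw [map_smul]
  exact (algebraMap_smul (Localization S) r
    ((IsLocalizedModule.mapExtendScalars S (M.localizedModuleMkLinearMap S) (N.localizedModuleMkLinearMap S)
      (Localization S) f.hom x : N.localizedModule S))).symm

open CategoryTheory Abelian in
private theorem map_smul_ext (R : Type u) [CommRing R] (S : Submonoid R) {M N : ModuleCat.{u} R}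
    {n : ℕ} (r : R) (e : Ext M N n) :
    (r • e).mapExactFunctor (ModuleCat.localizedModuleFunctor.{u} S) =
      algebraMap R (Localization S) r • e.mapExactFunctor (ModuleCat.localizedModuleFunctor.{u} S) := by
  rw [Ext.smul_eq_comp_mk₀, Ext.mapExactFunctor_comp, Ext.mapExactFunctor_mk₀, map_smul_hom,
    CategoryTheory.Functor.map_id, ← Ext.smul_eq_comp_mk₀]

open CategoryTheory Abelian in
private theorem key (R : Type u) [CommRing R] [IsNoetherianRing R] (S : Submonoid R)
    (N : ModuleCat.{u} R) [Module.Finite R N] (i : ℕ) :
    ∀ (M : ModuleCat.{u} R) [Module.Finite R M],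
    (∀ y : Ext ((ModuleCat.localizedModuleFunctor.{u} S).obj M) ((ModuleCat.localizedModuleFunctor.{u} S).obj N) i,
        ∃ (e : Ext M N i) (s : S),
          algebraMap R (Localization S) (s : R) • y = e.mapExactFunctor (ModuleCat.localizedModuleFunctor.{u} S)) ∧
      (∀ e : Ext M N i,
        e.mapExactFunctor (ModuleCat.localizedModuleFunctor.{u} S) = 0 → ∃ s : S, (s : R) • e = 0) := by
  induction i with
  | zero =>
    intro M _
    haveI := Module.finitePresentation_of_finite R M
    let F := ModuleCat.localizedModuleFunctor.{u} S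
    let μ := IsLocalizedModule.mapExtendScalars S (M.localizedModuleMkLinearMap S)
      (N.localizedModuleMkLinearMap S) (Localization S)
    haveI : IsLocalizedModule S μ := Module.FinitePresentation.isLocalizedModule_mapExtendScalars _ _ _ _
    constructor
    · intro y
      obtain ⟨g, rfl⟩ := (Ext.mk₀_bijective _ _).2 y
      obtain ⟨⟨f, s⟩, hfs⟩ := IsLocalizedModule.surj S μ g.hom
      refine ⟨Ext.mk₀ (ModuleCat.ofHom f), s, ?_⟩
      rw [Ext.mapExactFunctor_mk₀, ← Ext.mk₀_smul]
      congr 1
      ext x
      have := LinearMap.congr_fun hfs x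
      simp only [Submonoid.smul_def, LinearMap.smul_apply] at this
      show algebraMap R (Localization S) (s : R) • g.hom x = μ f x
      refine (algebraMap_smul (M := N.localizedModule S) (Localization S) (s : R) _).trans ?_
      exact this
    · intro e he
      obtain ⟨f, rfl⟩ := (Ext.mk₀_bijective _ _).2 e
      rw [Ext.mapExactFunctor_mk₀, Ext.mk₀_eq_zero_iff] at he
      have h0 : μ f.hom = 0 := congrArg ModuleCat.Hom.hom he
      obtain ⟨s, hs⟩ := (IsLocalizedModule.eq_zero_iff S μ).mp h0
      refine ⟨s, ?_⟩
      rw [← Ext.mk₀_smul, Ext.mk₀_eq_zero_iff]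
      ext x
      exact LinearMap.congr_fun hs x
  | succ i ih =>
    intro M _
    let F := ModuleCat.localizedModuleFunctor.{u} S
    obtain ⟨n, p, hp⟩ := Module.Finite.exists_fin' R M
    let T : ShortComplex (ModuleCat.{u} R) := p.shortComplexKer
    have hT : T.ShortExact := LinearMap.shortExact_shortComplexKer hp
    haveI hP : Projective T.X₂ := (ModuleCat.of R (Fin n → R)).projective_of_categoryTheory_projective
    haveI : Module.Finite R T.X₂ := inferInstanceAs (Module.Finite R (Fin n → R))
    haveI : Module.Finite R T.X₁ := inferInstanceAs (Module.Finite R (LinearMap.ker p))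
    haveI : Projective (T.map F).X₂ := F.projective_obj_of_projective hP
    obtain ⟨ihs, ihk⟩ := ih T.X₁
    obtain ⟨ihs₂, -⟩ := ih T.X₂
    constructor
    · intro y
      obtain ⟨y', hy'⟩ := precomp_extClass_surjective_of_projective_X₂ (F.obj N) (hT.map_of_exact F) i y
      obtain ⟨e', s, hs⟩ := ihs y'
      refine ⟨hT.extClass.comp e' (add_comm 1 i), s, ?_⟩
      rw [Ext.mapExactFunctor_comp, Ext.mapExactFunctor_extClass, ← hs]
      exact (congrArg (algebraMap R (Localization S) (s : R) • ·) hy'.symm).trans
        (Ext.comp_smul (R := Localization S) _ y' _ _).symm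
    · intro e he
      obtain ⟨e', he'⟩ := precomp_extClass_surjective_of_projective_X₂ N hT i e
      have he2 : e = hT.extClass.comp e' (add_comm 1 i) := he'.symm
      subst he2
      rw [Ext.mapExactFunctor_comp, Ext.mapExactFunctor_extClass] at he
      obtain ⟨x, hx⟩ := Ext.contravariant_sequence_exact₁ (hT.map_of_exact F) (F.obj N) _ (add_comm 1 i) he
      obtain ⟨z, s, hs⟩ := ihs₂ x
      have h1 : ((s : R) • e' - (Ext.mk₀ T.f).comp z (zero_add i)).mapExactFunctor F = 0 := by
        rw [← F.mapExtAddHom_apply, map_sub, F.mapExtAddHom_apply, F.mapExtAddHom_apply, map_smul_ext,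
          Ext.mapExactFunctor_comp, Ext.mapExactFunctor_mk₀, ← hs]
        exact sub_eq_zero.mpr ((congrArg (algebraMap R (Localization S) (s : R) • ·) hx.symm).trans
          (Ext.comp_smul (R := Localization S) _ x _ _).symm)
      obtain ⟨t, ht⟩ := ihk _ h1
      refine ⟨t * s, ?_⟩
      have h2 : hT.extClass.comp ((t : R) • ((s : R) • e' - (Ext.mk₀ T.f).comp z (zero_add i))) (add_comm 1 i) = 0 := by
        rw [ht, Ext.comp_zero]
      rw [Ext.comp_smul, sub_eq_add_neg, Ext.comp_add, Ext.comp_neg, hT.extClass_comp_assoc z, neg_zero,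
        add_zero, Ext.comp_smul, smul_smul] at h2
      exact h2

/-- Let R be a Noetherian commutative ring, S a multiplicative subset of R, and M, N finitely generated
R-modules. For i ≥ 0 consider the map Ext^i_R(M, N) → Ext^i_{S⁻¹R}(S⁻¹M, S⁻¹N) induced on Ext groups
(computed in the categories of modules) by the exact localization functor M ↦ S⁻¹M. Then this map
exhibits its target as the localization S⁻¹ Ext^i_R(M, N): every element of the target, after
multiplication by some s ∈ S, is the image of an element of Ext^i_R(M, N), and an element of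
Ext^i_R(M, N) maps to zero if and only if it is annihilated by some element of S. (Equivalently, the
induced map identifies S⁻¹Ext^i_R(M, N) with Ext^i_{S⁻¹R}(S⁻¹M, S⁻¹N).) -/
theorem result (R : Type u) [CommRing R] [IsNoetherianRing R]
    (S : Submonoid R) (M N : ModuleCat.{u} R) [Module.Finite R M] [Module.Finite R N] (i : ℕ) :
    (∀ y : Abelian.Ext ((ModuleCat.localizedModuleFunctor.{u} S).obj M) ((ModuleCat.localizedModuleFunctor.{u} S).obj N) i,
        ∃ (e : Abelian.Ext M N i) (s : S),
          algebraMap R (Localization S) (s : R) • y = (ModuleCat.localizedModuleFunctor.{u} S).mapExtAddHom M N i e) ∧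
      (∀ e : Abelian.Ext M N i,
        (ModuleCat.localizedModuleFunctor.{u} S).mapExtAddHom M N i e = 0 ↔ ∃ s : S, (s : R) • e = 0) := by
  obtain ⟨h1, h2⟩ := key R S N i M
  refine ⟨h1, fun e => ⟨h2 e, ?_⟩⟩
  rintro ⟨s, hs⟩
  have h : algebraMap R (Localization S) (s : R) •
      (ModuleCat.localizedModuleFunctor.{u} S).mapExtAddHom M N i e = 0 := by
    rw [CategoryTheory.Functor.mapExtAddHom_apply, ← map_smul_ext, hs, CategoryTheory.Abelian.Ext.mapExactFunctor_zero]
  exact (IsLocalization.map_units (Localization S) s).smul_eq_zero.mp h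

end Groth.Agent.S14412
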