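import Groth.Statements.S9776
import Groth.Agent.Omega.LiftCharts

set_option autoImplicit false
universe u
open OmegaSh

namespace Groth.Agent.S9776

open AlgebraicGeometry CategoryTheory Limits in
/-- Consider a commutative square of schemes with vertical maps p₁ : X₁ ⟶ S₁, p₂ : X₂ ⟶ S₂ and
horizontal maps f : X₂ ⟶ X₁, g : S₂ ⟶ S₁, where f and g are étale. Let d₁ : O_{X₁} → Ω₁ and d₂ :
O_{X₂} → Ω₂ be universal derivations over S₁ and S₂ (sheaves of differentials) and c : f^*Ω₁ ⟶ Ω₂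
the O_{X₂}-linear map compatible with d₁ and d₂ (the canonical map c_f). Then c is an isomorphism. -/
theorem result {X₁ S₁ X₂ S₂ : Scheme.{u}} (p₁ : X₁ ⟶ S₁) (p₂ : X₂ ⟶ S₂) (f : X₂ ⟶ X₁) (g : S₂ ⟶ S₁)
    [Etale f] [Etale g] (hsq : f ≫ p₁ = p₂ ≫ g)
    (Ω₁ : X₁.Modules) (d₁ : OmegaSh.Der p₁ Ω₁) (hd₁ : OmegaSh.IsUniversal d₁)
    (Ω₂ : X₂.Modules) (d₂ : OmegaSh.Der p₂ Ω₂) (hd₂ : OmegaSh.IsUniversal d₂)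
    (c : (Scheme.Modules.pullback f).obj Ω₁ ⟶ Ω₂) (hc : OmegaSh.IsDiffCompat f d₁ d₂ c) : IsIso c := by
  refine Groth.Agent.Omega.Lift.isIso_of_local c fun x => ?_
  obtain ⟨V₁, hV₁, U₁, hU₁, hxU₁, -, hUV₁⟩ :=
    Groth.Agent.Omega.Chart.exists_affine_pair p₁ (f x) (W := ⊤) (Set.mem_univ _)
  have hmem : g (p₂ x) ∈ V₁ := by
    rw [← Scheme.Hom.comp_apply, ← hsq]
    exact hUV₁ hxU₁
  obtain ⟨_, ⟨V₂, hV₂, rfl⟩, hxV₂, hV₂V⟩ :=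
    S₂.isBasis_affineOpens.exists_subset_of_mem_open (show p₂ x ∈ g ⁻¹ᵁ V₁ from hmem) (g ⁻¹ᵁ V₁).isOpen
  obtain ⟨_, ⟨U₂, hU₂, rfl⟩, hxU₂, hU₂'⟩ :=
    X₂.isBasis_affineOpens.exists_subset_of_mem_open
      (show x ∈ f ⁻¹ᵁ U₁ ⊓ p₂ ⁻¹ᵁ V₂ from ⟨hxU₁, hxV₂⟩) (f ⁻¹ᵁ U₁ ⊓ p₂ ⁻¹ᵁ V₂).isOpen
  have hU₂U : U₂ ≤ f ⁻¹ᵁ U₁ := fun y hy => (hU₂' hy).1
  have hU₂V : U₂ ≤ p₂ ⁻¹ᵁ V₂ := fun y hy => (hU₂' hy).2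
  replace hV₂ : IsAffineOpen V₂ := hV₂
  replace hU₂ : IsAffineOpen U₂ := hU₂
  replace hV₂V : V₂ ≤ g ⁻¹ᵁ V₁ := hV₂V
  let := (p₁.appLE V₁ U₁ hUV₁).hom.toAlgebra
  let := (g.appLE V₁ V₂ hV₂V).hom.toAlgebra
  let := (f.appLE U₁ U₂ hU₂U).hom.toAlgebra
  let := (p₂.appLE V₂ U₂ hU₂V).hom.toAlgebra
  let : Algebra Γ(S₁, V₁) Γ(X₂, U₂) :=
    ((f.appLE U₁ U₂ hU₂U).hom.comp (p₁.appLE V₁ U₁ hUV₁).hom).toAlgebra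
  have : IsScalarTower Γ(S₁, V₁) Γ(X₁, U₁) Γ(X₂, U₂) := IsScalarTower.of_algebraMap_eq fun _ => rfl
  have : IsScalarTower Γ(S₁, V₁) Γ(S₂, V₂) Γ(X₂, U₂) := IsScalarTower.of_algebraMap_eq fun a => by
    change ((p₁.appLE V₁ U₁ hUV₁) ≫ f.appLE U₁ U₂ hU₂U) a = ((g.appLE V₁ V₂ hV₂V) ≫ p₂.appLE V₂ U₂ hU₂V) a
    rw [Scheme.Hom.appLE_comp_appLE, Scheme.Hom.appLE_comp_appLE]
    simp only [hsq]
  have : SMulCommClass Γ(S₂, V₂) Γ(X₁, U₁) Γ(X₂, U₂) := ⟨fun a b x => by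
    simp only [Algebra.smul_def]; exact mul_left_comm _ _ _⟩
  have : Algebra.Etale Γ(X₁, U₁) Γ(X₂, U₂) :=
    HasRingHomProperty.appLE @Etale f inferInstance ⟨U₁, hU₁⟩ ⟨U₂, hU₂⟩ hU₂U
  have : Algebra.Etale Γ(S₁, V₁) Γ(S₂, V₂) :=
    HasRingHomProperty.appLE @Etale g inferInstance ⟨V₁, hV₁⟩ ⟨V₂, hV₂⟩ hV₂V
  have hb := Groth.Agent.Omega.LiftCharts.isBaseChange_of_formallyEtale
    (A := Γ(S₁, V₁)) (B := Γ(X₁, U₁)) (A' := Γ(S₂, V₂)) (B' := Γ(X₂, U₂))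
  have h₁ := (Groth.Agent.Omega.Chart.fromSpec_comp p₁ hV₁ hU₁ hUV₁).symm
  have h₂ := (Groth.Agent.Omega.Chart.fromSpec_comp p₂ hV₂ hU₂ hU₂V).symm
  have h₃ := (Groth.Agent.Omega.Chart.fromSpec_comp f hU₁ hU₂ hU₂U).symm
  exact ⟨_, hU₂.fromSpec, inferInstance, by rw [hU₂.range_fromSpec]; exact hxU₂,
    Groth.Agent.Omega.Lift.isIso_restrict_of_ext hU₂.fromSpec
      (Groth.Agent.Omega.LiftAffine.extSurj_chart (Groth.Agent.Omega.LiftAffine.derExt_of_isBaseChange hb) h₁ h₂ h₃)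
      (Groth.Agent.Omega.LiftAffine.extInj_chart hb h₂ h₃) hd₁ hd₂ hc⟩

end Groth.Agent.S9776
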