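import Groth.Statements.S6303
import Mathlib
-- import your own Groth.Agent.* helpers here

set_option autoImplicit false
universe u
open CAlg

namespace Groth.Agent.S6303

/-- Let R be a ring, I, J ⊆ R ideals and M a flat R-module. Then IM ∩ JM = (I ∩ J)M. -/
theorem result {R : Type u} [CommRing R] (I J : Ideal R) (M : Type u) [AddCommGroup M] [Module R M] [Module.Flat R M] : (I • (⊤ : Submodule R M)) ⊓ (J • ⊤) = (I ⊓ J) • (⊤ : Submodule R M) := by
  classical
  refine le_antisymm ?_ (le_inf (Submodule.smul_mono_left inf_le_left) (Submodule.smul_mono_left inf_le_right))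
  rintro x ⟨hxI, hxJ⟩
  let d : R →ₗ[R] (R ⧸ I) × (R ⧸ J) := I.mkQ.prod J.mkQ
  have hex : Function.Exact (I ⊓ J : Ideal R).subtype d := by
    rw [LinearMap.exact_iff, Submodule.range_subtype, LinearMap.ker_prod, Submodule.ker_mkQ, Submodule.ker_mkQ]
  have h0 : d.lTensor M (x ⊗ₜ[R] (1 : R)) = 0 := by
    apply (TensorProduct.prodRight R R M (R ⧸ I) (R ⧸ J)).injective
    rw [LinearMap.lTensor_tmul, map_zero, TensorProduct.prodRight_tmul]
    have aux : ∀ (K : Ideal R) (y : M), y ∈ K • (⊤ : Submodule R M) → y ⊗ₜ[R] (K.mkQ 1) = 0 := by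
      intro K y hy
      induction hy using Submodule.smul_induction_on' with
      | smul r hr m hm =>
        rw [TensorProduct.smul_tmul, ← map_smul, smul_eq_mul, mul_one, Submodule.mkQ_apply,
          (Submodule.Quotient.mk_eq_zero K).mpr hr, TensorProduct.tmul_zero]
      | add a _ b _ ha hb => rw [TensorProduct.add_tmul, ha, hb, add_zero]
    exact Prod.ext (aux I x hxI) (aux J x hxJ)
  obtain ⟨z, hz⟩ := (Module.Flat.lTensor_exact M hex _).mp h0
  have : ∀ z : TensorProduct R M ↥(I ⊓ J : Ideal R), TensorProduct.rid R M ((I ⊓ J : Ideal R).subtype.lTensor M z) ∈ (I ⊓ J) • (⊤ : Submodule R M) := by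
    intro z
    induction z using TensorProduct.induction_on with
    | zero => simp
    | tmul a b => simpa using Submodule.smul_mem_smul b.2 (Submodule.mem_top (x := a))
    | add a b ha hb => simp only [map_add]; exact add_mem ha hb
  have h2 := this z
  rw [hz] at h2
  simpa using h2

end Groth.Agent.S6303
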