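import Groth.Statements.S2594
import Groth.Agent.FlatOpen.EquiDim
import Groth.Agent.AlgSpD.FibreDimBC
import Groth.Agent.AlgSpD.RelDim

set_option autoImplicit false
open CategoryTheory AlgebraicGeometry
universe u
open EGA43

namespace Groth.Agent.S2594
open AlgebraicGeometry CategoryTheory Limits Groth.Agent Groth.Agent.FlatOpen in
/-- Around a point, all maximal points specialize to it. -/
theorem exists_open_max_specializes {X : Scheme.{u}} [IsLocallyNoetherian X] (x : X) (U₀ : X.Opens) (hx : x ∈ U₀) :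
    ∃ U : X.Opens, U ≤ U₀ ∧ x ∈ U ∧ ∀ ξ : X, ξ ∈ U → EquiDim.Max ξ → ξ ⤳ x := by
  obtain ⟨V, hV, hxV, hVU⟩ := exists_isAffineOpen_mem_and_subset hx
  haveI : IsNoetherianRing Γ(X, V) := IsLocallyNoetherian.component_noetherian ⟨V, hV⟩
  haveI : IsAffine V.toScheme := hV
  haveI : IsLocallyNoetherian V.toScheme := isLocallyNoetherian_of_isOpenImmersion V.ι
  haveI : IsNoetherian V.toScheme := ⟨⟩
  let M : Set X := {ξ | ξ ∈ V ∧ EquiDim.Max ξ}
  have hMfin : M.Finite := by
    have hsub : M ⊆ V.ι '' {w : V.toScheme | closure ({w} : Set V.toScheme) ∈ irreducibleComponents V.toScheme} := by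
      rintro ξ ⟨hξV, hmax⟩
      exact ⟨⟨ξ, hξV⟩, EquiDim.closure_mem_irreducibleComponents fun z hz =>
        Subtype.ext (hmax _ (hz.map V.ι.continuous)), rfl⟩
    refine (Set.Finite.image _ ?_).subset hsub
    refine Set.Finite.of_finite_image ((TopologicalSpace.NoetherianSpace.finite_irreducibleComponents
      (α := V.toScheme)).subset (Set.image_subset_iff.2 fun w hw => hw)) ?_
    intro a _ b _ hab
    have hb : IsGenericPoint b (closure {a}) := by
      simp only at hab
      rw [hab]; exact isGenericPoint_closure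
    exact (isGenericPoint_closure (x := a)).eq hb
  let C : Set X := ⋃ ξ ∈ {ξ ∈ M | ¬ ξ ⤳ x}, closure {ξ}
  have hC : IsClosed C := (hMfin.subset (Set.sep_subset _ _)).isClosed_biUnion fun ξ _ => isClosed_closure
  refine ⟨V ⊓ ⟨Cᶜ, hC.isOpen_compl⟩, le_trans inf_le_left hVU, ⟨hxV, fun hx => ?_⟩, fun ξ hξ hmax => ?_⟩
  · simp only [C, Set.mem_iUnion] at hx
    obtain ⟨ξ, ⟨_, hξ⟩, hmem⟩ := hx
    exact hξ (specializes_iff_mem_closure.2 hmem)
  · by_contra h
    exact hξ.2 (Set.mem_biUnion (x := ξ) ⟨⟨hξ.1, hmax⟩, h⟩ (subset_closure rfl))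

open AlgebraicGeometry CategoryTheory Limits Groth.Agent Groth.Agent.FlatOpen in
/-- Maximal points over a maximal point: the image is maximal. -/
theorem max_baseChange {X Y X' Y' : Scheme.{u}} {f : X ⟶ Y} {g : Y' ⟶ Y} {g' : X' ⟶ X} {f' : X' ⟶ Y'}
    (hsq : IsPullback g' f' f g) (ξ : X') (hξ : EquiDim.Max ξ) (hη : EquiDim.Max (g (f' ξ))) :
    EquiDim.Max (f' ξ) := by
  intro η'' hsp
  have hgη : g η'' = g (f' ξ) := hη _ (hsp.map g.continuous)
  let η := g (f' ξ)
  let ι := g.fiberι η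
  let a := pullback.fst f' ι
  let b := pullback.snd f' ι
  have h0 : IsPullback (a ≫ g') b f (ι ≫ g) := (IsPullback.of_hasPullback f' ι).paste_horiz hsq
  have hι : ι ≫ g = g.fiberToSpecResidueField η ≫ Y.fromSpecResidueField η := pullback.condition
  rw [hι] at h0
  have h1 := IsPullback.of_right' h0 (IsPullback.of_hasPullback f (Y.fromSpecResidueField η))
  haveI : Flat (f.fiberToSpecResidueField η) := inferInstance
  haveI : Flat b := MorphismProperty.of_isPullback h1 ‹Flat (f.fiberToSpecResidueField η)›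
  have hr : ∀ y, g y = η → y ∈ Set.range ι := fun y hy => by
    rw [g.range_fiberι]; exact hy
  obtain ⟨t, ht⟩ := hr (f' ξ) rfl
  obtain ⟨t'', ht''⟩ := hr η'' hgη
  have hts : t'' ⤳ t := ι.isEmbedding.specializes_iff.1 (by rw [ht, ht'']; exact hsp)
  obtain ⟨p, hp₁, hp₂⟩ := Scheme.Pullback.exists_preimage_pullback (f := f') (g := ι) ξ t ht.symm
  obtain ⟨p'', hp'', hb⟩ := Flat.generalizingMap b (show t'' ⤳ b p from hp₂.symm ▸ hts)
  have he : a p'' = ξ := hξ _ (hp₁ ▸ hp''.map a.continuous)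
  rw [← ht'', ← hb, ← he, ← Scheme.Hom.comp_apply, ← Scheme.Hom.comp_apply]
  exact congrArg (fun F : pullback f' ι ⟶ Y' => F p'') pullback.condition.symm


open CategoryTheory.Limits in
/-- Let f : X ⟶ Y be locally of finite type and equidimensional at a point x, and g : Y' ⟶ Y a flat
morphism with Y' locally Noetherian (the source states this for arbitrary Y', but its proof reduces
to the case where every irreducible component passes through the point, which needs the irreducible
components to be locally finite). Then the base change X ×_Y Y' ⟶ Y' is equidimensional at every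
point lying over x. -/
theorem result {X Y Y' : Scheme.{u}} (f : X ⟶ Y) [LocallyOfFiniteType f] (g : Y' ⟶ Y) [Flat g] [IsLocallyNoetherian Y']
    (x : X) (h : EGA43.IsEquidimAt f x) (x' : ↥(pullback f g)) (hx' : (pullback.fst f g).base x' = x) :
    EGA43.IsEquidimAt (pullback.snd f g) x' := by
  obtain ⟨e, U, hxU, hcomp, hdim⟩ := h
  let f' := pullback.snd f g
  let g' := pullback.fst f g
  haveI : IsLocallyNoetherian (pullback f g) := LocallyOfFiniteType.isLocallyNoetherian f'
  let U₁ : (pullback f g).Opens := g' ⁻¹ᵁ U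
  have hrelU : Cyc.HasRelDim (U.ι ≫ f) e := fun y T hT => by
    obtain ⟨t, -⟩ := hT.1.1
    have hy : (U.ι ≫ f) ((U.ι ≫ f).fiberι y t) = y := ((U.ι ≫ f).range_fiberι y).le (Set.mem_range_self t)
    generalize (U.ι ≫ f).fiberι y t = w at hy
    subst hy
    exact hdim w T hT
  obtain ⟨U', hU'U, hxU', hgen⟩ := exists_open_max_specializes x' U₁ (show g' x' ∈ U by rw [hx']; exact hxU)
  have hrel' : Cyc.HasRelDim (U'.ι ≫ f') e := by
    refine (Groth.Agent.FlatOpen.EquiDim.hasRelDim_iff_trdeg _ e).2 fun w hw =>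
      Groth.Agent.FlatOpen.EquiDim.fibreDimAt_eq_trdeg _ hw ?_
    have hsq : IsPullback (g' ∣_ U) (U₁.ι ≫ f') (U.ι ≫ f) g :=
      (isPullback_morphismRestrict g' U).paste_vert (IsPullback.of_hasPullback f g)
    rw [Groth.Agent.AlgSpD.fibreDimAt_inv ((pullback f g).homOfLE hU'U) (𝟙 Y') (U'.ι ≫ f') (U₁.ι ≫ f')
        (by rw [Category.comp_id, Scheme.homOfLE_ι_assoc]) w,
      Groth.Agent.AlgSpD.fibreDimAt_of_isPullback (U.ι ≫ f) hsq]
    exact Groth.Agent.FlatOpen.EquiDim.fibreDimAt_eq_of_hasRelDim _ hrelU _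
  refine ⟨e, U', hxU', fun Z hZ => ?_, fun w Z hZ => hrel' _ Z hZ⟩
  obtain ⟨ξ, hξ, rfl⟩ := Groth.Agent.FlatOpen.EquiDim.exists_max_closure_eq (X := U'.toScheme) hZ
  have hξX : Groth.Agent.FlatOpen.EquiDim.Max (U'.ι ξ) := fun z hz => by
    obtain ⟨w, rfl⟩ : z ∈ Set.range U'.ι := by rw [Scheme.Opens.range_ι]; exact hz.mem_open U'.2 ξ.2
    rw [hξ w (U'.ι.isEmbedding.specializes_iff.1 hz)]
  have hgξ : g' (U'.ι ξ) ∈ U := hU'U ξ.2
  have hmaxX : Groth.Agent.FlatOpen.EquiDim.Max (g' (U'.ι ξ)) := fun z hz => by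
    obtain ⟨w, hw, rfl⟩ := Flat.generalizingMap g' hz
    rw [hξX w hw]
  have hη : Groth.Agent.FlatOpen.EquiDim.Max (g (f' (U'.ι ξ))) := by
    obtain ⟨W, hW, -, hcl⟩ := hcomp (closure {⟨g' (U'.ι ξ), hgξ⟩})
      (Groth.Agent.FlatOpen.EquiDim.closure_mem_irreducibleComponents (X := U.toScheme) fun z hz =>
        Subtype.ext (hmaxX _ (hz.map U.ι.continuous)))
    erw [closure_image_closure (U.ι ≫ f).continuous, Set.image_singleton] at hcl
    obtain ⟨m, hm, hmW⟩ := Groth.Agent.FlatOpen.EquiDim.exists_max_closure_eq hW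
    have he : m = f (g' (U'.ι ξ)) :=
      (hmW ▸ isGenericPoint_closure : IsGenericPoint m W).eq (hcl ▸ isGenericPoint_closure : IsGenericPoint _ W)
    rw [← Scheme.Hom.comp_apply f', ← pullback.condition, Scheme.Hom.comp_apply, ← he]
    exact hm
  have hmax := max_baseChange (IsPullback.of_hasPullback f g) (U'.ι ξ) hξX hη
  refine ⟨closure {f' (U'.ι ξ)}, Groth.Agent.FlatOpen.EquiDim.closure_mem_irreducibleComponents hmax,
    specializes_iff_mem_closure.1 ((hgen _ ξ.2 hξX).map f'.continuous), ?_⟩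
  erw [closure_image_closure (U'.ι ≫ f').continuous, Set.image_singleton]
  rfl

end Groth.Agent.S2594
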