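import Groth.Statements.S3448
import Groth.Agent.EquidimPt.Basic
-- import your own Groth.Agent.* helpers here

set_option autoImplicit false
open CategoryTheory AlgebraicGeometry
universe u
open EGA43

namespace Groth.Agent.S3448

/-- A point of the closure of `ξ` in the fibre of `x`, generizing `x`, of dimension at least that of the fibre of `ξ`. -/
theorem exists_point {X Y : Scheme.{u}} (f : X ⟶ Y) [LocallyOfFiniteType f] {ξ x : X} (h : ξ ⤳ x)
    (hmax : Groth.Agent.FlatOpen.EquiDim.Max ξ) :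
    ∃ z, f.base z = f.base x ∧ z ⤳ x ∧ ξ ⤳ z ∧
      FlatMor.fibreDimAt f ξ ≤ Order.krullDim {w : X | f w = f z ∧ z ⤳ w} := by
  let J := Scheme.IdealSheafData.vanishingIdeal (⟨closure {ξ}, isClosed_closure⟩ : TopologicalSpace.Closeds X)
  let i := J.subschemeι
  have hr : Set.range i = closure {ξ} := by
    rw [Scheme.IdealSheafData.range_subschemeι, Scheme.IdealSheafData.coe_support_vanishingIdeal]
    rfl
  obtain ⟨ξ', hξ'⟩ : ξ ∈ Set.range i := hr ▸ subset_closure rfl
  obtain ⟨x', hx'⟩ : x ∈ Set.range i := hr ▸ specializes_iff_mem_closure.1 h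
  have hiff : ∀ a b : J.subscheme, i a ⤳ i b ↔ a ⤳ b := fun a b => i.isEmbedding.specializes_iff
  obtain ⟨c, hcx, hfc, -, -, -, e', -, -, hfdx, hc, -⟩ := Groth.Agent.FibSemi.exists_max_fibre (i ≫ f) x'
  have hge := hr ▸ Set.mem_range_self (f := i) c
  refine ⟨i c, by rw [← hx']; exact hfc, hx' ▸ hcx.map i.continuous, specializes_iff_mem_closure.2 hge, ?_⟩
  have hC : ∀ a : J.subscheme, Order.krullDim {w : J.subscheme | (i ≫ f) w = (i ≫ f) a ∧ a ⤳ w} =
      Order.krullDim {w : X | f w = f (i a) ∧ i a ⤳ w} := fun a => by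
    refine Groth.Agent.FibSemi.krullDim_eq_of_embedding i (fun a b => hiff b a) i.isEmbedding.injective _ _ fun w => ⟨fun hw => ?_, ?_⟩
    · obtain ⟨w', rfl⟩ : w ∈ Set.range i := hr ▸ specializes_iff_mem_closure.1
        ((specializes_iff_mem_closure.2 (hr ▸ Set.mem_range_self a : i a ∈ closure {ξ})).trans hw.2)
      exact ⟨w', ⟨hw.1, (hiff _ _).1 hw.2⟩, rfl⟩
    · rintro ⟨w', hw', rfl⟩
      exact ⟨hw'.1, hw'.2.map i.continuous⟩
  rw [← hC c, hc, ← hfdx]
  refine le_trans ?_ (Groth.Agent.EquidimPt.fibreDimAt_mono (i ≫ f) ((hiff _ _).1 (hξ' ▸ hx' ▸ h : i ξ' ⤳ i x')))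
  obtain ⟨n, t, -, -, ht, -, hfd⟩ := Groth.Agent.EquidimPt.fibre_facts (i ≫ f) ξ'
  obtain ⟨n₁, t₁, -, hn₁, ht₁, -, hfd₁⟩ := Groth.Agent.EquidimPt.fibre_facts f ξ
  have hn₁0 : n₁ = 0 := by
    rw [Groth.Agent.EquidimPt.dim_zero_of_fMax f (fun z hz _ => hmax z hz)] at hn₁
    exact Nat.cast_eq_zero.mp hn₁.symm
  rw [hC ξ', hξ', ht₁] at ht
  rw [hfd₁, hfd, Nat.cast_inj.mp ht, hn₁0]
  exact Nat.cast_le.mpr (by omega)

/-- Let Y be locally Noetherian, f : X ⟶ Y of finite type, x a point of X with y = f x, and suppose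
O_{Y,y} is universally catenary. Then dim O_{X,x} = dim O_{Y,y} + dim O_{X_y,x} if and only if there
is a point z of the fibre over y which is a generization of x, is maximal in the fibre (the generic
point of an irreducible component Z of X_y containing x), has local fibre dimension at z equal to
that at x (dim Z = dim_x X_y), and satisfies dim O_{X,z} = dim O_{Y,y}. -/
theorem result {X Y : Scheme.{u}} [IsLocallyNoetherian Y]
    (f : X ⟶ Y) [LocallyOfFiniteType f] [QuasiCompact f] (x : X)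
    (hcat : CAlg.IsUniversallyCatenary (Y.presheaf.stalk (f.base x))) :
    ringKrullDim (X.presheaf.stalk x) =
        ringKrullDim (Y.presheaf.stalk (f.base x)) + ringKrullDim ((f.fiber (f.base x)).presheaf.stalk (f.asFiber x)) ↔
      ∃ z : X, f.base z = f.base x ∧ z ⤳ x ∧ (∀ z' : X, f.base z' = f.base x → z' ⤳ z → z' = z) ∧
        FlatMor.fibreDimAt f z = FlatMor.fibreDimAt f x ∧
        ringKrullDim (X.presheaf.stalk z) = ringKrullDim (Y.presheaf.stalk (f.base z)) := by
  haveI : IsLocallyNoetherian X := LocallyOfFiniteType.isLocallyNoetherian f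
  constructor
  · intro hd
    obtain ⟨ξ, hξ, hmax, hb⟩ := Groth.Agent.EquidimPt.exists_max_attained x
    obtain ⟨-, h2, h3⟩ := Groth.Agent.EquidimPt.component_of_formula f hξ hmax hb hd
    obtain ⟨z, hfz, hzx, hξz, hz⟩ := exists_point f hξ hmax
    obtain ⟨nx, tx, -, -, -, -, hfdx⟩ := Groth.Agent.EquidimPt.fibre_facts f x
    obtain ⟨nz, tz, hnz, hnz', htz, -, hfdz⟩ := Groth.Agent.EquidimPt.fibre_facts f z
    have h4 := Groth.Agent.EquidimPt.fibreDimAt_mono f hzx
    rw [htz, h2, hfdx] at hz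
    rw [hfdz, hfdx] at h4
    have h5 : nx + tx ≤ tz := Nat.cast_le.mp hz
    have h6 : nz + tz ≤ nx + tx := Nat.cast_le.mp h4
    obtain rfl : nz = 0 := by omega
    rw [Nat.cast_zero] at hnz hnz'
    have hze : FlatMor.fibreDimAt f z = FlatMor.fibreDimAt f x := by
      rw [hfdz, hfdx]; congr 1; omega
    refine ⟨z, hfz, hzx, fun z' hz' hz'z => Groth.Agent.EquidimPt.fMax_of_dim_zero f hnz' z' hz'z (hz'.trans hfz.symm), hze, ?_⟩
    have key : ∀ y, f x = y → CAlg.IsUniversallyCatenary (Y.presheaf.stalk y) ∧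
        Order.krullDim (Groth.Agent.EquidimPt.between (f ξ) y) = ringKrullDim (Y.presheaf.stalk y) := by
      rintro _ rfl; exact ⟨hcat, h3⟩
    obtain ⟨hcat', ha⟩ := key _ hfz.symm
    rw [(Groth.Agent.EquidimPt.formula_of_component f hξz hmax hcat' ha (h2.trans hze.symm)).1, hnz, add_zero]
  · rintro ⟨z, hfz, hzx, hzmax, hze, hdz⟩
    obtain ⟨n, t, hn, hn', -, -, -⟩ := Groth.Agent.EquidimPt.fibre_facts f z
    rw [Groth.Agent.EquidimPt.dim_zero_of_fMax f (fun w hw hfw => hzmax w (hfw.trans hfz) hw)] at hn'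
    rw [← hn'] at hn
    obtain ⟨ξ, hξz, hmax, hb⟩ := Groth.Agent.EquidimPt.exists_max_attained z
    obtain ⟨-, h2, h3⟩ := Groth.Agent.EquidimPt.component_of_formula f hξz hmax hb (by rw [hn, add_zero]; exact hdz)
    refine (Groth.Agent.EquidimPt.formula_of_component f (hξz.trans hzx) hmax hcat ?_ (h2.trans hze)).1
    have key : ∀ y, f z = y → Order.krullDim (Groth.Agent.EquidimPt.between (f ξ) y) = ringKrullDim (Y.presheaf.stalk y) := by
      rintro _ rfl; exact h3
    exact key _ hfz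

end Groth.Agent.S3448
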