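import Groth.Statements.S2562
import Groth.Agent.FlatDVR.Main
import Groth.Agent.FlatDVR.Quot
import Groth.Agent.FDesc.BaseChangeStalk

set_option autoImplicit false
open CategoryTheory AlgebraicGeometry
universe u
open EGA43

namespace Groth.Agent.S2562

open CategoryTheory.Limits IsLocalRing
open scoped TensorProduct

/-- Comparison of `X ×_Y Spec V` with `Spec (V ⊗ O_x)`. -/
theorem exists_flat_chart {X Y : Scheme.{u}} (f : X ⟶ Y) (x : X) (V : Type u) [CommRing V]
    (φ : (Y.presheaf.stalk (f.base x) : Type u) →+* V) :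
    letI := φ.toAlgebra
    letI := (f.stalkMap x).hom.toAlgebra
    ∃ j : Spec (CommRingCat.of (V ⊗[Y.presheaf.stalk (f.base x)] X.presheaf.stalk x)) ⟶
        pullback f (Spec.map (CommRingCat.ofHom φ) ≫ Y.fromSpecStalk (f.base x)),
      IsPullback (Spec.map (CommRingCat.ofHom (Algebra.TensorProduct.includeRight
          (R := Y.presheaf.stalk (f.base x)) (A := V) (B := X.presheaf.stalk x)).toRingHom))
        j (X.fromSpecStalk x) (pullback.fst f _) ∧ Flat j ∧
      j ≫ pullback.snd f _ = Spec.map (CommRingCat.ofHom Algebra.TensorProduct.includeLeftRingHom) := by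
  letI := φ.toAlgebra
  letI := (f.stalkMap x).hom.toAlgebra
  let O := Y.presheaf.stalk (f.base x)
  let B := X.presheaf.stalk x
  let sl : Spec (CommRingCat.of (V ⊗[O] B)) ⟶ Spec (CommRingCat.of V) :=
    Spec.map (CommRingCat.ofHom Algebra.TensorProduct.includeLeftRingHom)
  let sr : Spec (CommRingCat.of (V ⊗[O] B)) ⟶ Spec (CommRingCat.of B) :=
    Spec.map (CommRingCat.ofHom (Algebra.TensorProduct.includeRight (R := O) (A := V)).toRingHom)
  have h0 : IsPullback sr sl (Spec.map (f.stalkMap x)) (Spec.map (CommRingCat.ofHom φ)) :=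
    (isPullback_SpecMap_of_isPushout _ _ _ _ (CommRingCat.isPushout_tensorProduct O V B)).flip
  have hB : X.fromSpecStalk x ≫ f = Spec.map (f.stalkMap x) ≫ Y.fromSpecStalk (f.base x) :=
    (Scheme.SpecMap_stalkMap_fromSpecStalk f).symm
  have hout : IsPullback sr sl (X.fromSpecStalk x ≫ f)
      (Spec.map (CommRingCat.ofHom φ) ≫ Y.fromSpecStalk (f.base x)) := by
    rw [hB]
    refine ⟨⟨by rw [reassoc_of% h0.w]; rfl⟩, ⟨PullbackCone.isLimitAux' _ fun s => ?_⟩⟩
    have hw : s.fst ≫ Spec.map (f.stalkMap x) = s.snd ≫ Spec.map (CommRingCat.ofHom φ) := by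
      rw [← cancel_mono (Y.fromSpecStalk (f.base x)), Category.assoc, Category.assoc]
      exact s.condition
    exact ⟨h0.lift _ _ hw, h0.lift_fst _ _ _, h0.lift_snd _ _ _,
      fun h1 h2 => h0.hom_ext (h1.trans (h0.lift_fst _ _ _).symm) (h2.trans (h0.lift_snd _ _ _).symm)⟩
  let g := Spec.map (CommRingCat.ofHom φ) ≫ Y.fromSpecStalk (f.base x)
  let j := pullback.lift (f := f) (g := g) (sr ≫ X.fromSpecStalk x) sl
    (by rw [Category.assoc]; exact hout.w)
  have hjf : j ≫ pullback.fst f g = sr ≫ X.fromSpecStalk x := pullback.lift_fst _ _ _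
  have hjs : j ≫ pullback.snd f g = sl := pullback.lift_snd _ _ _
  have hpb : IsPullback sr j (X.fromSpecStalk x) (pullback.fst f g) :=
    IsPullback.of_bot (hjs.symm ▸ hout) hjf.symm (IsPullback.of_hasPullback f g)
  exact ⟨j, hpb, MorphismProperty.of_isPullback (P := @Flat) hpb
    (Groth.Agent.FDesc.BaseChangeStalk.flat_fromSpecStalk x), hjs⟩

/-- Flatness of a stalk map descends along a flat morphism. -/
theorem flat_stalkMap_of_comp {X Y Z : Scheme.{u}} (j : X ⟶ Y) (q : Y ⟶ Z) [Flat j] (P : X)
    (h : ((j ≫ q).stalkMap P).hom.Flat) : (q.stalkMap (j.base P)).hom.Flat := by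
  rw [Scheme.Hom.stalkMap_comp] at h
  letI : Algebra (Z.presheaf.stalk (q.base (j.base P))) (Y.presheaf.stalk (j.base P)) :=
    (q.stalkMap (j.base P)).hom.toAlgebra
  letI : Algebra (Y.presheaf.stalk (j.base P)) (X.presheaf.stalk P) := (j.stalkMap P).hom.toAlgebra
  letI : Algebra (Z.presheaf.stalk (q.base (j.base P))) (X.presheaf.stalk P) :=
    ((j.stalkMap P).hom.comp (q.stalkMap (j.base P)).hom).toAlgebra
  haveI : IsScalarTower (Z.presheaf.stalk (q.base (j.base P))) (Y.presheaf.stalk (j.base P))
      (X.presheaf.stalk P) := IsScalarTower.of_algebraMap_eq' rfl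
  haveI : Module.Flat (Y.presheaf.stalk (j.base P)) (X.presheaf.stalk P) := Flat.stalkMap j P
  haveI : Module.Flat (Z.presheaf.stalk (q.base (j.base P))) (X.presheaf.stalk P) := h
  haveI : IsLocalHom (algebraMap (Y.presheaf.stalk (j.base P)) (X.presheaf.stalk P)) :=
    inferInstanceAs (IsLocalHom (j.stalkMap P).hom)
  haveI : Module.FaithfullyFlat (Y.presheaf.stalk (j.base P)) (X.presheaf.stalk P) :=
    Module.FaithfullyFlat.of_flat_of_isLocalHom
  exact Groth.Agent.FDesc.Algebra.flat_of_comp_faithfullyFlat (C := X.presheaf.stalk P)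

/-- Stalk maps of `Spec W ⟶ Spec V` are flat exactly when the localisations of `W` are flat over `V`. -/
theorem flat_stalkMap_iff {V W : Type u} [CommRing V] [CommRing W] (g : V →+* W) (P : PrimeSpectrum W) :
    ((Spec.map (CommRingCat.ofHom g)).stalkMap P).hom.Flat ↔
      (Localization.localRingHom (P.asIdeal.comap g) P.asIdeal g rfl).Flat :=
  RingHom.Flat.respectsIso.arrow_mk_iso_iff
    (Scheme.arrowStalkMapSpecIso (CommRingCat.ofHom g) P)

/-- Flat stalk maps compose. -/
theorem flat_stalkMap_comp {X Y Z : Scheme.{u}} (j : X ⟶ Y) (q : Y ⟶ Z) [Flat j] (P : X)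
    (h : (q.stalkMap (j.base P)).hom.Flat) : ((j ≫ q).stalkMap P).hom.Flat := by
  rw [Scheme.Hom.stalkMap_comp]
  exact RingHom.Flat.comp h (Flat.stalkMap j P)

/-- Localisations are flat over the base when the stalk maps are. -/
theorem flat_localization_of_stalkMap (V W : Type u) [CommRing V] [CommRing W] [Algebra V W]
    (P : PrimeSpectrum W) (h : ((Spec.map (CommRingCat.ofHom (algebraMap V W))).stalkMap P).hom.Flat) :
    Module.Flat V (Localization.AtPrime P.asIdeal) := by
  have h3 := (flat_stalkMap_iff _ P).mp h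
  letI := (Localization.localRingHom (P.asIdeal.comap (algebraMap V W)) P.asIdeal (algebraMap V W) rfl).toAlgebra
  haveI : IsScalarTower V (Localization.AtPrime (P.asIdeal.comap (algebraMap V W)))
      (Localization.AtPrime P.asIdeal) :=
    IsScalarTower.of_algebraMap_eq fun r =>
      ((Localization.localRingHom_to_map _ _ _ rfl r).trans
        (IsScalarTower.algebraMap_apply V W (Localization.AtPrime P.asIdeal) r).symm).symm
  haveI : Module.Flat (Localization.AtPrime (P.asIdeal.comap (algebraMap V W)))
      (Localization.AtPrime P.asIdeal) := h3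
  haveI : Module.Flat V (Localization.AtPrime (P.asIdeal.comap (algebraMap V W))) :=
    IsLocalization.flat _ (P.asIdeal.comap (algebraMap V W)).primeCompl
  exact Module.Flat.trans V (Localization.AtPrime (P.asIdeal.comap (algebraMap V W))) _

open CategoryTheory.Limits in
/-- Let f : X ⟶ Y be locally of finite presentation, x a point of X, y = f x, and suppose the local ring
O_{Y,y} is reduced and Noetherian. Then O_{Y,y} ⟶ O_{X,x} is flat if and only if, for every discrete
valuation ring A' and every local homomorphism O_{Y,y} ⟶ A', the base change X' = X ×_Y Spec A' ⟶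
Spec A' is flat at every point of X' lying over x and over the closed point of Spec A'. -/
theorem result {X Y : Scheme.{u}} (f : X ⟶ Y) [LocallyOfFinitePresentation f]
    (x : X) [IsNoetherianRing (Y.presheaf.stalk (f.base x))] [_root_.IsReduced (Y.presheaf.stalk (f.base x))] :
    (f.stalkMap x).hom.Flat ↔
      ∀ (A' : Type u) [CommRing A'] [IsDomain A'] [IsDiscreteValuationRing A']
        (φ : (Y.presheaf.stalk (f.base x) : Type u) →+* A') [IsLocalHom φ],
        ∀ x' : ↥(pullback f (Spec.map (CommRingCat.ofHom φ) ≫ Y.fromSpecStalk (f.base x))),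
          (pullback.fst f _).base x' = x →
          (pullback.snd f _).base x' = IsLocalRing.closedPoint A' →
          ((pullback.snd f (Spec.map (CommRingCat.ofHom φ) ≫ Y.fromSpecStalk (f.base x))).stalkMap x').hom.Flat := by
  letI : Algebra (Y.presheaf.stalk (f.base x)) (X.presheaf.stalk x) := (f.stalkMap x).hom.toAlgebra
  constructor
  · intro hflat A' _ _ _ φ _ x' hx' hx's
    letI := φ.toAlgebra
    obtain ⟨j, hpb, hj, hjs⟩ := exists_flat_chart f x A' φ
    haveI := hj
    obtain ⟨P, -, hP⟩ := Scheme.exists_preimage_of_isPullback hpb (closedPoint (X.presheaf.stalk x)) x'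
      (by rw [X.fromSpecStalk_closedPoint]; exact hx'.symm)
    subst hP
    haveI : Module.Flat (Y.presheaf.stalk (f.base x)) (X.presheaf.stalk x) := hflat
    let W := A' ⊗[Y.presheaf.stalk (f.base x)] X.presheaf.stalk x
    have hc : ((Spec.map (CommRingCat.ofHom (Algebra.TensorProduct.includeLeftRingHom :
        A' →+* W))).stalkMap P).hom.Flat := by
      haveI : Flat (Spec.map (CommRingCat.ofHom (Algebra.TensorProduct.includeLeftRingHom : A' →+* W))) := by
        rw [HasRingHomProperty.Spec_iff (P := @Flat)]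
        exact RingHom.flat_algebraMap_iff.mpr (inferInstance : Module.Flat A' W)
      exact Flat.stalkMap _ P
    rw [← hjs] at hc
    exact flat_stalkMap_of_comp j _ P hc
  · intro H
    have hess : Algebra.EssFiniteType (Y.presheaf.stalk (f.base x)) (X.presheaf.stalk x) :=
      LocallyOfFiniteType.stalkMap f x
    haveI := hess
    haveI : IsLocalHom (algebraMap (Y.presheaf.stalk (f.base x)) (X.presheaf.stalk x)) :=
      inferInstanceAs (IsLocalHom (f.stalkMap x).hom)
    haveI : IsNoetherianRing (X.presheaf.stalk x) :=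
      Groth.Agent.FlatDVR.isNoetherianRing_of_essFiniteType (Y.presheaf.stalk (f.base x)) _
    refine Groth.Agent.FlatDVR.flat_of_artinTest (B := X.presheaf.stalk x) (X.presheaf.stalk x) ?_
    intro V _ _ _ alg hloc hfin k
    obtain ⟨φ, rfl⟩ : ∃ φ : (Y.presheaf.stalk (f.base x) : Type u) →+* V, alg = φ.toAlgebra :=
      ⟨algebraMap (Y.presheaf.stalk (f.base x)) V, Algebra.algebra_ext _ _ fun r => rfl⟩
    letI := φ.toAlgebra
    let W := V ⊗[Y.presheaf.stalk (f.base x)] X.presheaf.stalk x
    haveI : IsLocalHom φ := hloc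
    obtain ⟨j, hpb, hj, hjs⟩ := exists_flat_chart f x V φ
    haveI := hj
    suffices h1 : ∀ P : Ideal W, ∀ [P.IsMaximal],
        (maximalIdeal V ^ k).map (algebraMap V W) ≤ P → Module.Flat V (Localization.AtPrime P) by
      haveI := Groth.Agent.FlatDVR.flat_quot_of_maximal (maximalIdeal V ^ k) h1
      exact Module.Flat.of_linearEquiv
        (TensorProduct.AlgebraTensorModule.cancelBaseChange (Y.presheaf.stalk (f.base x)) V
          (V ⧸ maximalIdeal V ^ k) (V ⧸ maximalIdeal V ^ k) (X.presheaf.stalk x)).symm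
    intro P _ hkP
    let π := Ideal.Quotient.mk P
    letI := Ideal.Quotient.field P
    have hmP : maximalIdeal V ≤ P.comap (algebraMap V W) := fun r hr =>
      (‹P.IsMaximal›.isPrime).mem_of_pow_mem k (by
        rw [← map_pow]; exact hkP (Ideal.mem_map_of_mem _ (Ideal.pow_mem_pow hr k)))
    have hV : P.comap (algebraMap V W) = maximalIdeal V :=
      ((maximalIdeal.isMaximal V).eq_of_le (Ideal.IsPrime.ne_top inferInstance) hmP).symm
    -- `W / P` is integral over `O_x`
    let incR : (X.presheaf.stalk x : Type u) →+* W :=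
      (Algebra.TensorProduct.includeRight (R := Y.presheaf.stalk (f.base x)) (A := V)).toRingHom
    let ψ : (X.presheaf.stalk x : Type u) →+* W ⧸ P := π.comp incR
    have hint : ψ.IsIntegral := by
      intro z
      obtain ⟨z, rfl⟩ := Ideal.Quotient.mk_surjective z
      induction z using TensorProduct.induction_on with
      | zero => rw [map_zero]; exact ψ.isIntegralElem_zero
      | add a b ha hb => rw [map_add]; exact ha.add _ hb
      | tmul v b =>
        have e : (v ⊗ₜ b : W) = algebraMap V W v * incR b := by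
          show _ = (v ⊗ₜ[_] (1 : X.presheaf.stalk x)) * ((1 : V) ⊗ₜ[_] b)
          rw [Algebra.TensorProduct.tmul_mul_tmul, mul_one, one_mul]
        rw [e, map_mul]
        refine RingHom.IsIntegralElem.mul _ ?_ (ψ.isIntegralElem_map (x := b))
        obtain ⟨p, hp, hpz⟩ := (RingHom.Finite.to_isIntegral hfin) (residue V v)
        refine ⟨p.map (f.stalkMap x).hom, hp.map _, ?_⟩
        let ρ : ResidueField V →+* W ⧸ P := Ideal.Quotient.lift _ (π.comp (algebraMap V W)) fun r hr =>
          Ideal.Quotient.eq_zero_iff_mem.mpr (hmP hr)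
        have hcomp : ψ.comp (f.stalkMap x).hom = ρ.comp ((residue V).comp φ) := by
          ext r
          show π ((1 : V) ⊗ₜ[_] (f.stalkMap x).hom r) = π (φ r ⊗ₜ[_] (1 : X.presheaf.stalk x))
          congr 1
          rw [show (f.stalkMap x).hom r = r • (1 : X.presheaf.stalk x) from
              Algebra.algebraMap_eq_smul_one r,
            show φ r = r • (1 : V) from Algebra.algebraMap_eq_smul_one r,
            TensorProduct.tmul_smul, TensorProduct.smul_tmul']
        rw [Polynomial.eval₂_map, hcomp, show π (algebraMap V W v) = ρ (residue V v) from rfl,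
          ← Polynomial.hom_eval₂]
        exact (congrArg ρ hpz).trans (map_zero ρ)
    have hB : P.comap incR = maximalIdeal (X.presheaf.stalk x) := by
      have : (RingHom.ker ψ).IsMaximal := by
        letI := ψ.toAlgebra
        haveI : Algebra.IsIntegral (X.presheaf.stalk x) (W ⧸ P) := ⟨hint⟩
        have := Ideal.isMaximal_comap_of_isIntegral_of_isMaximal (R := X.presheaf.stalk x)
          (⊥ : Ideal (W ⧸ P)) (hI := Ideal.bot_isMaximal)
        exact this
      rw [← IsLocalRing.eq_maximalIdeal this, ← RingHom.comap_ker, Ideal.mk_ker]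
    let pt : ↥(Spec (CommRingCat.of W)) := ⟨P, inferInstance⟩
    have hfst : (pullback.fst f _).base (j.base pt) = x := by
      rw [← Scheme.Hom.comp_apply, ← hpb.w, Scheme.Hom.comp_apply]
      exact (congrArg (X.fromSpecStalk x) (PrimeSpectrum.ext hB)).trans X.fromSpecStalk_closedPoint
    have hsnd : (pullback.snd f _).base (j.base pt) = closedPoint V := by
      rw [← Scheme.Hom.comp_apply, hjs]
      exact PrimeSpectrum.ext hV
    refine flat_localization_of_stalkMap V W pt ?_
    have h1 := flat_stalkMap_comp j _ pt (H V φ (j.base pt) hfst hsnd)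
    rw [hjs] at h1
    exact h1

end Groth.Agent.S2562
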