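import Groth.Statements.S2561
import Groth.Agent.S2562
import Groth.Agent.UnivOpenDVR.Basic
import Groth.Agent.FlatMor.DVRFlat
import Groth.Agent.FBase.PointScheme

set_option autoImplicit false
open CategoryTheory AlgebraicGeometry
universe u
open EGA43

namespace Groth.Agent.S2561

open CategoryTheory.Limits IsLocalRing

/-- Flatness at a point over a DVR: no minimal prime contains the uniformizer and the closed fibre is
reduced there. -/
theorem flat_stalkMap_dvr {P : Scheme.{u}} (A : Type u) [CommRing A] [IsDomain A]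
    [IsDiscreteValuationRing A] (q : P ⟶ Spec (CommRingCat.of A)) (x : P)
    [IsNoetherianRing (P.presheaf.stalk x)]
    (Bc : Scheme.{u}) (ι : Bc ⟶ P) (s : Bc ⟶ Spec (CommRingCat.of (ResidueField A)))
    (hpb : IsPullback ι s q (Spec.map (CommRingCat.ofHom (residue A))))
    (hxs : q.base x = closedPoint A)
    (hred : ∀ u : Bc, ι.base u = x → _root_.IsReduced (Bc.presheaf.stalk u))
    (hgen : ∀ η : P, η ⤳ x → (∀ w, w ⤳ η → w = η) → q.base η ≠ closedPoint A) :
    (q.stalkMap x).hom.Flat := by
  obtain ⟨π, hπ⟩ := IsDiscreteValuationRing.exists_irreducible A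
  have hm : maximalIdeal A = Ideal.span {π} :=
    (IsDiscreteValuationRing.irreducible_iff_uniformizer π).mp hπ
  obtain ⟨c, hc⟩ := Spec.map_surjective (P.fromSpecStalk x ≫ q)
  have hcl : Spec.map c (closedPoint (P.presheaf.stalk x)) = closedPoint A := by
    rw [hc, Scheme.Hom.comp_apply, P.fromSpecStalk_closedPoint, hxs]
  have hcπ : c π ∈ maximalIdeal (P.presheaf.stalk x) := by
    have : (maximalIdeal A) ≤ (maximalIdeal (P.presheaf.stalk x)).comap c.hom :=
      (congrArg PrimeSpectrum.asIdeal hcl).ge
    exact this (hm ▸ Ideal.mem_span_singleton_self π)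
  have hmin : ∀ Q ∈ minimalPrimes (P.presheaf.stalk x), c π ∉ Q := by
    intro Q hQ hπQ
    haveI : Q.IsPrime := Ideal.minimalPrimes_isPrime hQ
    let Qp : ↥(Spec (P.presheaf.stalk x)) := ⟨Q, inferInstance⟩
    refine hgen (P.fromSpecStalk x Qp) ?_ (fun w hw => ?_) ?_
    · exact (Scheme.range_fromSpecStalk (x := x)).le ⟨Qp, rfl⟩
    · have hwx : w ⤳ x := hw.trans ((Scheme.range_fromSpecStalk (x := x)).le ⟨Qp, rfl⟩)
      obtain ⟨Q', rfl⟩ := (Scheme.range_fromSpecStalk (x := x)).ge hwx
      have hle : Q'.asIdeal ≤ Q := (PrimeSpectrum.le_iff_specializes Q' Qp).mpr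
        ((P.fromSpecStalk x).isEmbedding.isInducing.specializes_iff.mp hw)
      congr 1
      exact PrimeSpectrum.ext (le_antisymm hle (hQ.2 ⟨Q'.isPrime, bot_le⟩ hle))
    · rw [← Scheme.Hom.comp_apply, ← hc]
      refine PrimeSpectrum.ext ((maximalIdeal.isMaximal A).eq_of_le
        (Ideal.IsPrime.ne_top (Ideal.IsPrime.comap c.hom)) ?_).symm
      rw [hm, Ideal.span_singleton_le_iff_mem]
      exact hπQ
  -- the closed fibre is reduced at `x`
  obtain ⟨u, hu, -⟩ := Scheme.exists_preimage_of_isPullback hpb x
    (closedPoint (ResidueField A)) (by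
      rw [hxs]
      exact (comap_closedPoint (residue A)).symm)
  subst hu
  haveI := hred u rfl
  let I : Ideal (P.presheaf.stalk (ι.base u)) := Ideal.span {c π}
  haveI : Nontrivial (P.presheaf.stalk (ι.base u) ⧸ I) := Ideal.Quotient.nontrivial_iff.mpr fun h =>
    (maximalIdeal.isMaximal _).ne_top
      (top_le_iff.mp (h.ge.trans ((Ideal.span_singleton_le_iff_mem _).mpr hcπ)))
  haveI : IsLocalRing (P.presheaf.stalk (ι.base u) ⧸ I) :=
    IsLocalRing.of_surjective' (Ideal.Quotient.mk I) Ideal.Quotient.mk_surjective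
  haveI : IsLocalHom (Ideal.Quotient.mk I) := .of_surjective _ Ideal.Quotient.mk_surjective
  let mkI : P.presheaf.stalk (ι.base u) ⟶ CommRingCat.of (P.presheaf.stalk (ι.base u) ⧸ I) :=
    CommRingCat.ofHom (Ideal.Quotient.mk I)
  let κ : ResidueField A →+* P.presheaf.stalk (ι.base u) ⧸ I :=
    Ideal.Quotient.lift _ (mkI.hom.comp c.hom) fun a ha => by
      obtain ⟨b, rfl⟩ := Ideal.mem_span_singleton'.mp (hm ▸ ha)
      rw [map_mul]
      refine mul_eq_zero_of_right _ ?_
      exact Ideal.Quotient.eq_zero_iff_mem.mpr (Ideal.mem_span_singleton_self (c π))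
  have hw : (Spec.map mkI ≫ P.fromSpecStalk (ι.base u)) ≫ q =
      Spec.map (CommRingCat.ofHom κ) ≫ Spec.map (CommRingCat.ofHom (residue A)) := by
    rw [Category.assoc, ← hc, ← Spec.map_comp, ← Spec.map_comp]
    rfl
  let l := hpb.lift _ _ hw
  have hlι : l ≫ ι = Spec.map mkI ≫ P.fromSpecStalk (ι.base u) := hpb.lift_fst _ _ _
  have hιinj : Function.Injective ι.base := by
    haveI : IsClosedImmersion (Spec.map (CommRingCat.ofHom (residue A))) :=
      IsClosedImmersion.spec_of_surjective _ residue_surjective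
    haveI : IsClosedImmersion ι := MorphismProperty.of_isPullback (P := @IsClosedImmersion) hpb.flip
      inferInstance
    exact ι.isClosedEmbedding.injective
  have hker : ∀ a, ι.stalkMap u a = 0 → a ∈ I := by
    intro a ha
    have hcl' : l.base (closedPoint _) = u := by
      apply hιinj
      rw [← Scheme.Hom.comp_apply, hlι, Scheme.Hom.comp_apply]
      exact (congrArg (P.fromSpecStalk (ι.base u)) (comap_closedPoint (Ideal.Quotient.mk I))).trans
        P.fromSpecStalk_closedPoint
    let β : Bc.presheaf.stalk u ⟶ CommRingCat.of (P.presheaf.stalk (ι.base u) ⧸ I) :=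
      Bc.presheaf.stalkSpecializes (specializes_of_eq hcl') ≫ Scheme.stalkClosedPointTo l
    have hβ : ι.stalkMap u ≫ β = mkI := by
      apply Spec.map_injective
      rw [← cancel_mono (P.fromSpecStalk (ι.base u)), Spec.map_comp, Category.assoc,
        Scheme.SpecMap_stalkMap_fromSpecStalk, Spec.map_comp, Category.assoc,
        Scheme.SpecMap_stalkSpecializes_fromSpecStalk_assoc,
        Scheme.Spec_stalkClosedPointTo_fromSpecStalk_assoc, hlι]
    have := congrArg (fun k => k.hom a) hβ
    rw [CommRingCat.hom_comp, RingHom.comp_apply, ha, map_zero] at this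
    exact Ideal.Quotient.eq_zero_iff_mem.mp this.symm
  have hπ0 : ι.stalkMap u (c π) = 0 := by
    obtain ⟨d, hd⟩ := Spec.map_surjective (Bc.fromSpecStalk u ≫ s)
    have : c ≫ ι.stalkMap u = CommRingCat.ofHom (residue A) ≫ d := by
      apply Spec.map_injective
      rw [Spec.map_comp, Spec.map_comp, hc, hd, ← Category.assoc,
        Scheme.SpecMap_stalkMap_fromSpecStalk, Category.assoc, Category.assoc, hpb.w]
    have h2 := congrArg (fun k => k.hom π) this
    refine h2.trans ?_
    rw [CommRingCat.hom_comp, RingHom.comp_apply]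
    show d (residue A π) = 0
    rw [(residue_eq_zero_iff π).mpr (hm ▸ Ideal.mem_span_singleton_self π), map_zero]
  have hredq : _root_.IsReduced (P.presheaf.stalk (ι.base u) ⧸ I) := by
    refine ⟨fun z ⟨n, hn⟩ => ?_⟩
    obtain ⟨a, rfl⟩ := Ideal.Quotient.mk_surjective z
    rw [← map_pow, Ideal.Quotient.eq_zero_iff_mem, Ideal.mem_span_singleton'] at hn
    obtain ⟨b, hb⟩ := hn
    refine Ideal.Quotient.eq_zero_iff_mem.mpr (hker a (IsReduced.eq_zero _ ⟨n, ?_⟩))
    rw [← map_pow, ← hb, map_mul, hπ0, mul_zero]
  -- torsion freeness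
  have hflat : c.hom.Flat := by
    letI := c.hom.toAlgebra
    show Module.Flat A (P.presheaf.stalk (ι.base u))
    rw [Module.Flat.flat_iff_torsion_eq_bot_of_isBezout, eq_bot_iff]
    rintro a ⟨⟨b, hb⟩, hba⟩
    obtain ⟨n, v, rfl⟩ := IsDiscreteValuationRing.eq_unit_mul_pow_irreducible
      (nonZeroDivisors.ne_zero hb) hπ
    change (algebraMap A _) (↑v * π ^ n) * a = 0 at hba
    rw [map_mul, mul_assoc, map_pow] at hba
    replace hba := ((v.isUnit.map (algebraMap A _)).mul_right_eq_zero).mp hba
    clear hb
    induction n with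
    | zero => simpa using hba
    | succ n ih =>
      apply ih
      rw [pow_succ', mul_assoc] at hba
      exact Groth.Agent.FlatMor.DVRFlat.eq_zero_of_mul_eq_zero hmin hredq hba
  have hF : Flat (P.fromSpecStalk (ι.base u) ≫ q) := by
    rw [← hc, HasRingHomProperty.Spec_iff (P := @Flat)]
    exact hflat
  have h1 := Flat.stalkMap (P.fromSpecStalk (ι.base u) ≫ q)
    (closedPoint (P.presheaf.stalk (ι.base u)))
  haveI := Groth.Agent.FDesc.BaseChangeStalk.flat_fromSpecStalk (ι.base u)
  have h2 := Groth.Agent.S2562.flat_stalkMap_of_comp (P.fromSpecStalk (ι.base u)) q _ h1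
  rwa [P.fromSpecStalk_closedPoint] at h2

/-- Let Y be locally Noetherian, f : X ⟶ Y locally of finite type, x a point of X with y = f x. Suppose
that f is universally open at the generic point of every irreducible component of the fibre over y
passing through x, that this fibre is geometrically reduced at x, and that the local ring of Y at y
is reduced. Then the local homomorphism O_{Y,y} ⟶ O_{X,x} is flat. -/
theorem result {X Y : Scheme.{u}} [IsLocallyNoetherian Y]
    (f : X ⟶ Y) [LocallyOfFiniteType f] (x : X)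
    (hopen : ∀ z : ↥(f.fiber (f.base x)), f.asFiber x ∈ closure {z} →
      (∀ z' : ↥(f.fiber (f.base x)), z ∈ closure {z'} → z' = z) →
      EGA43.IsUnivOpenAt f ((f.fiberι (f.base x)).base z))
    (hred : FBase.IsGeomReducedAt (f.fiberToSpecResidueField (f.base x)) (f.asFiber x))
    (hy : _root_.IsReduced (Y.presheaf.stalk (f.base x))) :
    (f.stalkMap x).hom.Flat := by
  haveI : LocallyOfFinitePresentation f :=
    LocallyOfFinitePresentation.iff_locallyOfFiniteType.mpr inferInstance
  haveI : _root_.IsReduced (Y.presheaf.stalk (f.base x)) := hy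
  rw [Groth.Agent.S2562.result f x]
  intro A' _ _ _ φ _ x' hx' hxs
  let g := Spec.map (CommRingCat.ofHom φ) ≫ Y.fromSpecStalk (f.base x)
  haveI : IsLocallyNoetherian (pullback f g) := LocallyOfFiniteType.isLocallyNoetherian (pullback.snd f g)
  letI : Algebra (Y.residueField (f.base x)) (ResidueField A') := (ResidueField.map φ).toAlgebra
  let fk : f.fiber (f.base x) ⟶ Spec (CommRingCat.of (Y.residueField (f.base x))) := f.fiberToSpecResidueField (f.base x)
  let K := ResidueField A'
  let ψ := Spec.map (CommRingCat.ofHom (algebraMap (Y.residueField (f.base x)) K))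
  have hK : ψ ≫ Y.fromSpecResidueField (f.base x) = Spec.map (CommRingCat.ofHom (residue A')) ≫ g := by
    rw [Scheme.fromSpecResidueField, ← Spec.map_comp_assoc, ← Spec.map_comp_assoc]
    rfl
  have h1 : IsPullback (pullback.fst fk ψ ≫ f.fiberι (f.base x)) (pullback.snd fk ψ) f
      (Spec.map (CommRingCat.ofHom (residue A')) ≫ g) :=
    hK ▸ (IsPullback.of_hasPullback fk ψ).paste_horiz (IsPullback.of_hasPullback f (Y.fromSpecResidueField (f.base x)))
  let ι : FBase.bc fk K ⟶ pullback f g :=
    pullback.lift (f := f) (g := g) (pullback.fst fk ψ ≫ f.fiberι (f.base x))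
      (pullback.snd fk ψ ≫ Spec.map (CommRingCat.ofHom (residue A')))
      (h1.w.trans (Category.assoc _ _ _).symm)
  have hι : IsPullback ι (pullback.snd fk ψ) (pullback.snd f g)
      (Spec.map (CommRingCat.ofHom (residue A'))) :=
    IsPullback.of_right (by rw [pullback.lift_fst]; exact h1) (pullback.lift_snd _ _ _)
      (IsPullback.of_hasPullback f g)
  have hιf : ∀ v : FBase.bc fk K,
      (f.fiberι (f.base x)).base ((FBase.bcπ fk K).base v) = (pullback.fst f g).base (ι.base v) := fun v => by
    rw [← Scheme.Hom.comp_apply, ← Scheme.Hom.comp_apply ι, pullback.lift_fst]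
    rfl
  refine flat_stalkMap_dvr A' (pullback.snd f g) x' _ ι _ hι hxs (fun u hu => ?_) fun η hηx hmax hηs => ?_
  · refine @hred K _ ((ResidueField.map φ).toAlgebra) u ((f.fiberι (f.base x)).isEmbedding.injective ?_)
    refine (hιf u).trans ?_
    rw [hu, hx']
    exact (f.fiberι_asFiber x).symm
  obtain ⟨v, hv, -⟩ := Scheme.exists_preimage_of_isPullback hι η (closedPoint (ResidueField A')) (by
    rw [hηs]
    exact (comap_closedPoint (residue A')).symm)
  subst hv
  let z := (FBase.bcπ fk K).base v
  have hzx : f.asFiber x ∈ closure {z} := by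
    rw [← specializes_iff_mem_closure, ← (f.fiberι (f.base x)).isEmbedding.isInducing.specializes_iff]
    have h2 := hηx.map (pullback.fst f g).continuous
    rw [hx'] at h2
    rw [hιf, f.fiberι_asFiber]
    exact h2
  have hzmax : ∀ w, z ∈ closure {w} → w = z := by
    intro w hw
    rw [← specializes_iff_mem_closure] at hw
    haveI : Flat (FBase.bcπ fk K) := by
      haveI : Flat ψ := by
        rw [HasRingHomProperty.Spec_iff (P := @Flat)]
        exact RingHom.flat_algebraMap_iff.mpr inferInstance
      exact MorphismProperty.pullback_fst (P := @Flat) _ _ inferInstance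
    obtain ⟨v', hv', rfl⟩ := Flat.generalizingMap (FBase.bcπ fk K) hw
    have hv2 := hmax (ι.base v') (hv'.map ι.continuous)
    haveI : IsClosedImmersion (Spec.map (CommRingCat.ofHom (residue A'))) :=
      IsClosedImmersion.spec_of_surjective _ residue_surjective
    haveI : IsClosedImmersion ι := MorphismProperty.of_isPullback (P := @IsClosedImmersion) hι.flip
      inferInstance
    rw [ι.isClosedEmbedding.injective hv2]
  have hopen' := (Groth.Agent.UnivOpenDVR.isUnivOpenAt_iff_dvr f _).mp (hopen z hzx hzmax) A' g (by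
    refine (congrArg (Y.fromSpecStalk _) (comap_closedPoint φ)).trans (Y.fromSpecStalk_closedPoint.trans ?_)
    rw [← Scheme.Hom.comp_apply (f.fiberι (f.base x)) f, f.fiber_fac, Scheme.Hom.comp_apply]
    exact (Scheme.fromSpecResidueField_apply ..).symm)
    (ι.base v) (hιf v).symm hηs
  obtain ⟨z', hz', hne⟩ := hopen'
  exact hne (hmax z' hz' ▸ hηs)

end Groth.Agent.S2561
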