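import Groth.Statements.S9359
import Groth.Agent.FlatOpen.EquiDim
import Groth.Agent.AlgSpD.EtaleTop

set_option autoImplicit false
universe u
open FibDim

namespace Groth.Agent.S9359

open AlgebraicGeometry CategoryTheory Groth.Agent in
theorem coheight_fiberι {X Y : Scheme.{u}} [IsLocallyNoetherian X] [IsLocallyNoetherian Y] (f : X ⟶ Y)
    [Flat f] (y : Y) (z : f.fiber y) :
    Order.coheight (f.fiberι y z) = Order.coheight y + Order.coheight z := by
  have hy : f (f.fiberι y z) = y := (f.range_fiberι y).le (Set.mem_range_self z)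
  set w := f.fiberι y z
  rw [show Order.coheight y = Order.coheight (f w) by rw [hy]]
  letI := (f.stalkMap w).hom.toAlgebra
  haveI : IsLocalHom (algebraMap (Y.presheaf.stalk (f w)) (X.presheaf.stalk w)) :=
    inferInstanceAs (IsLocalHom (f.stalkMap w).hom)
  haveI : Module.Flat (Y.presheaf.stalk (f w)) (X.presheaf.stalk w) := Flat.stalkMap f w
  have h1 := Dim.ringKrullDim_eq_add_fibre (Y.presheaf.stalk (f w)) (X.presheaf.stalk w)
  have hs : Function.Surjective ((f.fiberι y).stalkMap z).hom := (f.fiberι y).stalkMap_surjective z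
  let e := (Ideal.quotEquivOfEq (Groth.Agent.FlatMor.FibreStalk.ker_stalkMap_fiberι f y z).symm).trans
    (RingHom.quotientKerEquivOfSurjective hs)
  rw [ringKrullDim_stalk_eq_coheight, ringKrullDim_stalk_eq_coheight,
    show ringKrullDim (X.presheaf.stalk w ⧸ (IsLocalRing.maximalIdeal (Y.presheaf.stalk (f w))).map
      (algebraMap (Y.presheaf.stalk (f w)) (X.presheaf.stalk w))) = (Order.coheight z : WithBot ℕ∞) from
      (ringKrullDim_eq_of_ringEquiv e).trans (ringKrullDim_stalk_eq_coheight z)] at h1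
  exact_mod_cast h1

open AlgebraicGeometry CategoryTheory in
/-- Let f : X → Y be flat, locally of finite type and of relative dimension d, with X and Y locally
Noetherian. Then dim_x(X) = dim_y(Y) + d for every x ∈ X with image y. -/
theorem result {X Y : Scheme.{u}} [IsLocallyNoetherian X] [IsLocallyNoetherian Y] (f : X ⟶ Y)
    [Flat f] [LocallyOfFiniteType f] (d : ℕ) (hd : Cyc.HasRelDim f d) (x : X) :
    FlatMor.localDim ↑X x = FlatMor.localDim ↑Y (f.base x) + (d : WithBot ℕ∞) := by
  haveI : LocallyOfFinitePresentation f := inferInstance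
  have key : ∀ U : X.Opens, (U : Set X).Nonempty →
      topologicalKrullDim (U : Set X) = topologicalKrullDim (f '' (U : Set X)) + (d : WithBot ℕ∞) := by
    intro U hU
    let V : Y.Opens := ⟨f '' (U : Set X), f.isOpenMap _ U.2⟩
    show topologicalKrullDim (U : Set X) = topologicalKrullDim (V : Set Y) + (d : WithBot ℕ∞)
    rw [Groth.Agent.AlgSpD.topologicalKrullDim_opens_eq, Groth.Agent.AlgSpD.topologicalKrullDim_opens_eq]
    have hfib : ∀ (y : Y) (z : f.fiber y), Order.coheight z ≤ (d : ℕ∞) ∧ ∀ U' : (f.fiber y).Opens, z ∈ U' →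
        ∃ z' ∈ U', Order.coheight z' = (d : ℕ∞) := by
      intro y z
      letI := f.fiberOverSpecResidueField y
      haveI : LocallyOfFiniteType ((f.fiber y) ↘ Spec (CommRingCat.of (Y.residueField y))) :=
        Groth.Agent.CycLib.locallyOfFiniteType_fiberToSpecResidueField f y
      have hall := Groth.Agent.FlatOpen.EquiDim.coheight_add_dimPt (Y.residueField y)
        ((Groth.Agent.FlatOpen.EquiDim.irreducibleComponents_dimPt_iff (Y.residueField y) d).1 (hd y))
      refine ⟨?_, fun U' hz => ?_⟩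
      · obtain ⟨n, hn, hnd, -⟩ := hall z
        rw [hn]
        exact_mod_cast (show n ≤ d by omega)
      · by_contra hno
        push Not at hno
        obtain ⟨-, -, -, hloc⟩ := hall z
        have h1 : (d : WithBot ℕ∞) ≤ ⨆ w : (U' : Set (f.fiber y)), (Order.coheight (w : f.fiber y) : WithBot ℕ∞) := by
          rw [← hloc, ← Groth.Agent.AlgSpD.topologicalKrullDim_opens_eq]
          exact iInf_le (fun V : {V : TopologicalSpace.Opens (f.fiber y) // z ∈ V} =>
            topologicalKrullDim (V.1 : Set (f.fiber y))) ⟨U', hz⟩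
        have hlt : ∀ z' ∈ U', ∃ n : ℕ, Order.coheight z' = n ∧ n + 1 ≤ d := fun z' hz' => by
          obtain ⟨n, hn, hnd, -⟩ := hall z'
          refine ⟨n, hn, ?_⟩
          rcases eq_or_ne n d with rfl | hne
          · exact (hno z' hz' hn).elim
          · omega
        obtain ⟨n₀, -, h0⟩ := hlt z hz
        have h2 : (⨆ w : (U' : Set (f.fiber y)), (Order.coheight (w : f.fiber y) : WithBot ℕ∞)) ≤
            ((d - 1 : ℕ) : WithBot ℕ∞) := iSup_le fun w => by
          obtain ⟨n, hn, hnd⟩ := hlt _ w.2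
          rw [hn]
          exact WithBot.coe_le_coe.2 (Nat.cast_le.2 (show n ≤ d - 1 by omega))
        have h3 : d ≤ d - 1 := by exact_mod_cast h1.trans h2
        omega
    obtain ⟨x₀, hx₀⟩ := hU
    haveI : Nonempty (V : Set Y) := ⟨⟨f x₀, x₀, hx₀, rfl⟩⟩
    rw [show (⨆ y : (V : Set Y), (Order.coheight (y : Y) : WithBot ℕ∞)) + (d : WithBot ℕ∞) =
        ⨆ y : (V : Set Y), ((Order.coheight (y : Y) : WithBot ℕ∞) + (d : WithBot ℕ∞)) by
      simp_rw [← WithBot.coe_natCast, ← WithBot.coe_add]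
      rw [← WithBot.coe_iSup (OrderTop.bddAbove _), ← WithBot.coe_iSup (OrderTop.bddAbove _), ← WithBot.coe_add,
        ENat.iSup_add]]
    refine le_antisymm (iSup_le fun w => ?_) (iSup_le fun y => ?_)
    · refine le_trans ?_ (le_iSup (fun y : (V : Set Y) =>
        (Order.coheight (y : Y) : WithBot ℕ∞) + (d : WithBot ℕ∞)) ⟨f w, w, w.2, rfl⟩)
      have h := coheight_fiberι f (f (w : X)) (f.asFiber (w : X))
      rw [f.fiberι_asFiber] at h
      rw [h]
      exact_mod_cast add_le_add le_rfl (hfib _ (f.asFiber (w : X))).1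
    · obtain ⟨_, x₁, hx₁, rfl⟩ := y
      obtain ⟨z, hz, hzd⟩ := (hfib (f x₁) (f.asFiber x₁)).2 (f.fiberι (f x₁) ⁻¹ᵁ U)
        (by show f.fiberι (f x₁) (f.asFiber x₁) ∈ U; rw [f.fiberι_asFiber]; exact hx₁)
      refine le_trans (le_of_eq ?_) (le_iSup (fun w : (U : Set X) => (Order.coheight (w : X) : WithBot ℕ∞))
        ⟨f.fiberι (f x₁) z, hz⟩)
      rw [coheight_fiberι f (f x₁) z, hzd]
      push_cast
      rfl
  apply le_antisymm
  · obtain ⟨V, hVo, hxV, hV⟩ := Groth.Agent.TopDimLib.exists_localDim_eq (f.base x)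
    rw [← hV]
    refine (iInf_le _ ⟨f ⁻¹ᵁ ⟨V, hVo⟩, hxV⟩).trans ?_
    rw [key _ ⟨x, hxV⟩]
    gcongr
    exact Groth.Agent.TopDimLib.topDim_le_of_subset (Set.image_preimage_subset _ _)
  · refine le_iInf fun U => ?_
    rw [key _ ⟨x, U.2⟩]
    gcongr
    exact iInf_le (fun V : {V : TopologicalSpace.Opens ↑Y // f.base x ∈ V} => topologicalKrullDim (V.1 : Set Y))
      ⟨⟨f '' (U.1 : Set X), f.isOpenMap _ U.1.2⟩, ⟨x, U.2, rfl⟩⟩

end Groth.Agent.S9359
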