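import Groth.Statements.S3386
import Groth.Agent.FlatOpen.EquiDim
import Groth.Agent.FlatOpen.CMAffine
import Groth.Agent.FlatOpen.CMLocusScheme
import Groth.Agent.RelDim.QuasiFiniteMap
import Groth.Agent.Omega.SmoothFibreDim
import Groth.Agent.AlgSpD.RelDim
import Groth.Agent.AlgSpD.LqfLocus
import Groth.Agent.FibSemi.Equidim
import Groth.Agent.S2594

set_option autoImplicit false
open CategoryTheory AlgebraicGeometry
universe u
open EGA43

namespace Groth.Agent.S3386

section
open AlgebraicGeometry CategoryTheory CategoryTheory.Limits Groth.Agent Groth.Agent.FlatOpen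

theorem exists_qf_affineSpace {X Y : Scheme.{u}} (f : X ⟶ Y) [LocallyOfFiniteType f] (x : X) (n : ℕ)
    (hn : FlatMor.fibreDimAt f x ≤ n) :
    ∃ (W : X.Opens) (g : (W : Scheme.{u}) ⟶ 𝔸(ULift.{u} (Fin n); Y)), x ∈ W ∧
      g ≫ (𝔸(ULift.{u} (Fin n); Y) ↘ Y) = W.ι ≫ f ∧ LocallyQuasiFinite g := by
  obtain ⟨V, hV, hxV, -⟩ := exists_isAffineOpen_mem_and_subset (show f x ∈ (⊤ : Y.Opens) from trivial)
  obtain ⟨U, hU, hx, e⟩ := exists_isAffineOpen_mem_and_subset (show x ∈ f ⁻¹ᵁ V from hxV)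
  let R := Γ(Y, V)
  let C₀ := Γ(X, U)
  letI : Algebra R C₀ := (f.appLE V U e).hom.toAlgebra
  haveI : Algebra.FiniteType R C₀ := f.finiteType_appLE hV hU e
  let q := hU.primeIdealOf ⟨x, hx⟩
  haveI : q.asIdeal.LiesOver (q.asIdeal.under R) := ⟨rfl⟩
  obtain ⟨Q, hQ⟩ := RelDim.exists_over' (R := R) (q.asIdeal.under R) q.asIdeal
  obtain ⟨a, ha, φ, -, hφ⟩ := RelDim.exists_quasiFinite_away R C₀ (q.asIdeal.under R) q.asIdeal Q hQ n
    (by rwa [← CMLocus.fibreDimAt_eq_localDim f hV hU e x hx Q hQ])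
  obtain ⟨j, hj, hjo, -⟩ := CMAffine.exists_chartSpace hV n
  let P := MvPolynomial (ULift.{u} (Fin n)) R
  let ren : P ≃ₐ[R] MvPolynomial (Fin n) R := MvPolynomial.renameEquiv R Equiv.ulift
  let ψ : P →ₐ[R] Localization.Away a := φ.comp ren.toAlgHom
  let i : Spec (.of (Localization.Away a)) ⟶ X :=
    Spec.map (CommRingCat.ofHom (algebraMap C₀ (Localization.Away a))) ≫ hU.fromSpec
  haveI : IsOpenImmersion (Spec.map (CommRingCat.ofHom (algebraMap C₀ (Localization.Away a)))) :=
    IsOpenImmersion.of_isLocalization a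
  haveI : IsOpenImmersion i := inferInstance
  obtain ⟨q₁, hq₁⟩ := (PrimeSpectrum.localization_away_comap_range (Localization.Away a) a).ge
    (show hU.primeIdealOf ⟨x, hx⟩ ∈ PrimeSpectrum.basicOpen a from ha)
  have hiq : i q₁ = x :=
    (congrArg hU.fromSpec hq₁).trans (hU.fromSpec_primeIdealOf ⟨x, hx⟩)
  let g₀ := Spec.map (CommRingCat.ofHom ψ.toRingHom) ≫ j
  have hxW : x ∈ i.opensRange := ⟨q₁, hiq⟩
  refine ⟨i.opensRange, i.isoOpensRange.inv ≫ g₀, hxW, ?_, ?_⟩
  · rw [Category.assoc, Category.assoc, hjo, ← Spec.map_comp_assoc,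
      show CommRingCat.ofHom MvPolynomial.C ≫ CommRingCat.ofHom ψ.toRingHom =
        f.appLE V U e ≫ CommRingCat.ofHom (algebraMap C₀ (Localization.Away a)) from
        CommRingCat.hom_ext (RingHom.ext fun r =>
          (ψ.commutes r).trans (IsScalarTower.algebraMap_apply R C₀ (Localization.Away a) r)),
      Spec.map_comp_assoc, IsAffineOpen.SpecMap_appLE_fromSpec f hV hU e,
      ← Scheme.Hom.isoOpensRange_inv_comp i, Category.assoc, Category.assoc]
  · haveI : LocallyQuasiFinite (Spec.map (CommRingCat.ofHom ψ.toRingHom)) := by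
      rw [HasRingHomProperty.Spec_iff (P := @LocallyQuasiFinite)]
      exact RingHom.QuasiFinite.comp hφ
        (RingHom.QuasiFinite.of_finite (RingHom.Finite.of_surjective _ ren.surjective))
    infer_instance

set_option backward.isDefEq.respectTransparency.types false in
theorem flat_affineSpace (n : Type u) (S : Scheme.{u}) : Flat (𝔸(n; S) ↘ S) :=
  MorphismProperty.pullback_fst _ _ <| by
  have := isIso_of_isTerminal specULiftZIsTerminal.{u} terminalIsTerminal (terminal.from _)
  rw [← terminal.comp_from (Spec.map (CommRingCat.ofHom MvPolynomial.C)),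
    MorphismProperty.cancel_right_of_respectsIso (P := @Flat),
    HasRingHomProperty.Spec_iff (P := @Flat)]
  exact RingHom.flat_algebraMap_iff.2 inferInstance

theorem fibreDimAt_affineSpace (n : ℕ) (Y : Scheme.{u}) (w : ↥𝔸(ULift.{u} (Fin n); Y)) :
    FlatMor.fibreDimAt (𝔸(ULift.{u} (Fin n); Y) ↘ Y) w = n := by
  obtain ⟨V, hV, hwV, -⟩ := exists_isAffineOpen_mem_and_subset
    (show (𝔸(ULift.{u} (Fin n); Y) ↘ Y) w ∈ (⊤ : Y.Opens) from trivial)
  obtain ⟨j, _, hjo, hjr⟩ := CMAffine.exists_chartSpace hV n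
  obtain ⟨P, rfl⟩ := hjr w hwV
  let R := Γ(Y, V)
  let A := MvPolynomial (ULift.{u} (Fin n)) R
  haveI : Algebra.Smooth R A := ⟨inferInstance, inferInstance⟩
  haveI : Nontrivial A := P.nontrivial
  haveI : Module.Free A Ω[A⁄R] := Module.Free.of_basis (KaehlerDifferential.mvPolynomialBasis R (ULift.{u} (Fin n)))
  rw [← Omega.SmoothFibreDim.fibreDimAt_chart (𝔸(ULift.{u} (Fin n); Y) ↘ Y)
    (CommRingCat.ofHom (MvPolynomial.C : R →+* A)) j hV.fromSpec hjo.symm P,
    show (CommRingCat.ofHom (MvPolynomial.C : R →+* A)) = CommRingCat.ofHom (algebraMap R A) from rfl,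
    Omega.SmoothFibreDim.fibreDimAt_spec R A P, Module.rankAtStalk_eq_finrank_of_free,
    Module.finrank_eq_card_basis (KaehlerDifferential.mvPolynomialBasis R (ULift.{u} (Fin n)))]
  simp
  rfl

theorem exists_trdeg {X Y : Scheme.{u}} (f : X ⟶ Y) [LocallyOfFiniteType f] (x : X) :
    ∃ j : ℕ, (letI := (f.residueFieldMap x).hom.toAlgebra
      Algebra.trdeg (Y.residueField (f x)) (X.residueField x)) = j := by
  obtain ⟨z, hz, htr⟩ := EquiDim.exists_trdeg_fibre f x
  exact ⟨_, htr⟩

theorem trdeg_le {X Y : Scheme.{u}} (f : X ⟶ Y) [LocallyOfFiniteType f] (x : X) {d j : ℕ}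
    (hd : FlatMor.fibreDimAt f x ≤ d)
    (hj : (letI := (f.residueFieldMap x).hom.toAlgebra
      Algebra.trdeg (Y.residueField (f x)) (X.residueField x)) = j) : j ≤ d := by
  obtain ⟨z, hz, htr⟩ := EquiDim.exists_trdeg_fibre f x
  have he : z = f.asFiber x := (f.fiberι (f x)).isEmbedding.injective (hz.trans (f.fiberι_asFiber x).symm)
  subst he
  letI := f.fiberOverSpecResidueField (f x)
  haveI : LocallyOfFiniteType ((f.fiber (f x)) ↘ Spec (CommRingCat.of (Y.residueField (f x)))) :=
    CycLib.locallyOfFiniteType_fiberToSpecResidueField f (f x)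
  obtain ⟨n, -, hl⟩ := VarDim.localDim_eq_coheight_add (Y.residueField (f x)) (f.asFiber x)
  rw [FlatMor.fibreDimAt, hl] at hd
  rw [hj] at htr
  have h1 : j = VarDim.dimPt (Y.residueField (f x)) (f.fiber (f x)) (f.asFiber x) := by exact_mod_cast htr
  have h2 : n + VarDim.dimPt (Y.residueField (f x)) (f.fiber (f x)) (f.asFiber x) ≤ d := by exact_mod_cast hd
  omega

theorem trdeg_of_fMax {X Y : Scheme.{u}} (f : X ⟶ Y) [LocallyOfFiniteType f] (x : X) (hx : EquiDim.FMax f x)
    {n : ℕ} (hn : FlatMor.fibreDimAt f x = n) :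
    (letI := (f.residueFieldMap x).hom.toAlgebra;
      Algebra.trdeg (Y.residueField (f x)) (X.residueField x)) = n :=
  EquiDim.fibreDimAt_eq_trdeg f hx hn

/-- A point of the transcendence degree of the fibre dimension is maximal in its fibre. -/
theorem fMax_of_trdeg {X Y : Scheme.{u}} (f : X ⟶ Y) [LocallyOfFiniteType f] (x : X) {d : ℕ}
    (hd : ∀ z, FlatMor.fibreDimAt f z ≤ d)
    (hj : (letI := (f.residueFieldMap x).hom.toAlgebra
      Algebra.trdeg (Y.residueField (f x)) (X.residueField x)) = d) : EquiDim.FMax f x := by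
  intro z hz hfz
  by_contra hne
  obtain ⟨w, hw⟩ : z ∈ Set.range (f.fiberι (f x)) := by rw [f.range_fiberι]; exact hfz
  letI := f.fiberOverSpecResidueField (f x)
  haveI : LocallyOfFiniteType ((f.fiber (f x)) ↘ Spec (CommRingCat.of (Y.residueField (f x)))) :=
    CycLib.locallyOfFiniteType_fiberToSpecResidueField f (f x)
  obtain ⟨v, hv, htr⟩ := EquiDim.exists_trdeg_fibre f x
  rw [hj] at htr
  have hdv : d = VarDim.dimPt (Y.residueField (f x)) (f.fiber (f x)) v := by exact_mod_cast htr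
  have hwv : w ⤳ v := (f.fiberι (f x)).isEmbedding.specializes_iff.1 (by rw [hw, hv]; exact hz)
  have hne' : w ≠ v := fun h => hne (hw ▸ h ▸ hv)
  have hlt := VarDim.dimPt_lt_of_lt (Y.residueField (f x))
    (lt_iff_le_not_ge.2 ⟨(hwv : v ≤ w), fun h => hne' (hwv.antisymm h).eq⟩)
  obtain ⟨n, -, hl⟩ := VarDim.localDim_eq_coheight_add (Y.residueField (f x)) w
  have h1 : FlatMor.localDim ↥(f.fiber (f x)) w ≤ d := by
    have key : ∀ (y : Y) (w' : f.fiber y), FlatMor.localDim ↥(f.fiber y) w' ≤ d := by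
      intro y w'
      have hy : f (f.fiberι y w') = y := (f.range_fiberι y).le (Set.mem_range_self w')
      obtain ⟨z', hz'⟩ : ∃ z', f.fiberι y w' = z' := ⟨_, rfl⟩
      rw [hz'] at hy
      subst hy
      have : w' = f.asFiber z' := (f.fiberι (f z')).isEmbedding.injective (hz'.trans (f.fiberι_asFiber z').symm)
      subst this
      exact hd z'
    exact key _ w
  rw [hl] at h1
  have h2 : n + VarDim.dimPt (Y.residueField (f x)) (f.fiber (f x)) w ≤ d := by exact_mod_cast h1
  omega

theorem trdeg_comp {U P Y : Scheme.{u}} (g : U ⟶ P) (p : P ⟶ Y) [LocallyOfFiniteType g] [LocallyQuasiFinite g]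
    (x : U) {j : ℕ}
    (hj : (letI := (p.residueFieldMap (g x)).hom.toAlgebra
      Algebra.trdeg (Y.residueField (p (g x))) (P.residueField (g x))) = j) :
    (letI := ((g ≫ p).residueFieldMap x).hom.toAlgebra;
      Algebra.trdeg (Y.residueField ((g ≫ p) x)) (U.residueField x)) = j := by
  obtain ⟨m, hm⟩ := exists_trdeg g x
  obtain rfl : m = 0 := by
    have h0 : FlatMor.fibreDimAt g x ≤ (0 : ℕ) := by
      rw [(AlgSpD.quasiFiniteAt_iff_fibreDimAt_eq_zero g x).1 (g.quasiFiniteAt x)]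
      rfl
    exact Nat.le_zero.1 (trdeg_le g x h0 hm)
  letI i₁ := (g.residueFieldMap x).hom.toAlgebra
  letI i₂ := (p.residueFieldMap (g x)).hom.toAlgebra
  letI i₃ : Algebra (Y.residueField (p (g x))) (U.residueField x) :=
    ((g.residueFieldMap x).hom.comp (p.residueFieldMap (g x)).hom).toAlgebra
  haveI : IsScalarTower (Y.residueField (p (g x))) (P.residueField (g x)) (U.residueField x) :=
    IsScalarTower.of_algebraMap_eq' rfl
  haveI : FaithfulSMul (Y.residueField (p (g x))) (P.residueField (g x)) :=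
    (faithfulSMul_iff_algebraMap_injective _ _).2 (algebraMap (Y.residueField (p (g x))) _).injective
  haveI : FaithfulSMul (P.residueField (g x)) (U.residueField x) :=
    (faithfulSMul_iff_algebraMap_injective _ _).2 (algebraMap (P.residueField (g x)) _).injective
  have e := trdeg_add_eq (Y.residueField (p (g x))) (P.residueField (g x)) (A := U.residueField x)
  rw [hj, hm, Nat.cast_zero, add_zero] at e
  rw [e]
  congr 1
  show RingHom.toAlgebra ((g ≫ p).residueFieldMap x).hom = RingHom.toAlgebra _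
  rw [Scheme.residueFieldMap_comp g p x]
  rfl

end


open CategoryTheory.Limits in
/-- Conditions a) and b): let f : X ⟶ Y be locally of finite type and fix a point x of X. Condition a)
is equidimensionality of f at x (the definition used here); condition b): there are a natural number
e, an open neighbourhood U of x and a Y-morphism g from U to the affine space of dimension e over Y
which is locally quasi-finite and sends the generic point of every irreducible component of U to the
generic point of an irreducible component of the affine space. Then a) implies b); and b) implies a)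
when Y is locally Noetherian. (The source states the equivalence over an arbitrary base; the
implication b) ⟹ a) uses that irreducible components are locally finite and fails without some such
hypothesis.) -/
theorem result {X Y : Scheme.{u}}
    (f : X ⟶ Y) [LocallyOfFiniteType f] (x : X) :
    (EGA43.IsEquidimAt f x → (∃ (e : ℕ) (U : X.Opens) (g : (U : Scheme.{u}) ⟶ 𝔸(ULift.{u} (Fin e); Y)),
        x ∈ U ∧ g ≫ (𝔸(ULift.{u} (Fin e); Y) ↘ Y) = U.ι ≫ f ∧ LocallyQuasiFinite g ∧
        ∀ Z ∈ irreducibleComponents (↥U : Type u),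
          closure (g.base '' Z) ∈ irreducibleComponents (↥𝔸(ULift.{u} (Fin e); Y) : Type u))) ∧
    (IsLocallyNoetherian Y → (∃ (e : ℕ) (U : X.Opens) (g : (U : Scheme.{u}) ⟶ 𝔸(ULift.{u} (Fin e); Y)),
        x ∈ U ∧ g ≫ (𝔸(ULift.{u} (Fin e); Y) ↘ Y) = U.ι ≫ f ∧ LocallyQuasiFinite g ∧
        ∀ Z ∈ irreducibleComponents (↥U : Type u),
          closure (g.base '' Z) ∈ irreducibleComponents (↥𝔸(ULift.{u} (Fin e); Y) : Type u)) → EGA43.IsEquidimAt f x) := by
  constructor
  · rintro ⟨e, U, hxU, hcomp, hdim⟩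
    let g₀ := U.ι ≫ f
    have hrel : Cyc.HasRelDim g₀ e := fun y T hT => by
      obtain ⟨t, -⟩ := hT.1.1
      have hy : g₀ (g₀.fiberι y t) = y := (g₀.range_fiberι y).le (Set.mem_range_self t)
      generalize g₀.fiberι y t = w at hy
      subst hy
      exact hdim w T hT
    obtain ⟨W, g, hxW, hg, hq⟩ := exists_qf_affineSpace g₀ ⟨x, hxU⟩ e
      (Groth.Agent.FlatOpen.EquiDim.fibreDimAt_eq_of_hasRelDim g₀ hrel _).le
    let i := W.ι ≫ U.ι
    haveI : IsOpenImmersion i := inferInstance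
    let pr := 𝔸(ULift.{u} (Fin e); Y) ↘ Y
    let G := i.isoOpensRange.inv ≫ g
    have hG : G ≫ pr = i.opensRange.ι ≫ f := by
      rw [Category.assoc, hg, ← Category.assoc, ← Category.assoc, ← Scheme.Hom.isoOpensRange_inv_comp i]
      rfl
    haveI : LocallyOfFiniteType G := by
      haveI : LocallyOfFiniteType (G ≫ pr) := by rw [hG]; infer_instance
      exact locallyOfFiniteType_of_comp G pr
    haveI : LocallyQuasiFinite G := inferInstance
    refine ⟨e, i.opensRange, G, ⟨⟨⟨x, hxU⟩, hxW⟩, rfl⟩, hG, inferInstance, fun Z hZ => ?_⟩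
    obtain ⟨ξ, hξ, rfl⟩ := Groth.Agent.FlatOpen.EquiDim.exists_max_closure_eq (X := i.opensRange.toScheme) hZ
    erw [closure_image_closure G.continuous, Set.image_singleton]
    refine Groth.Agent.FlatOpen.EquiDim.closure_mem_irreducibleComponents ?_
    -- the generic point upstairs
    obtain ⟨w, hw⟩ : ∃ w : W.toScheme, i w = i.opensRange.ι ξ := ξ.2
    have hwmax : Groth.Agent.FlatOpen.EquiDim.Max (W.ι w) := fun z hz => by
      obtain ⟨z', rfl⟩ : z ∈ Set.range W.ι := by rw [Scheme.Opens.range_ι]; exact hz.mem_open W.2 w.2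
      have h1 : (⟨i z', z', rfl⟩ : i.opensRange.toScheme) ⤳ ξ :=
        i.opensRange.ι.isEmbedding.specializes_iff.1 (by
          show i z' ⤳ i.opensRange.ι ξ
          rw [← hw]
          exact hz.map U.ι.continuous)
      have h2 := congrArg i.opensRange.ι (hξ _ h1)
      rw [← hw] at h2
      exact congrArg W.ι (i.isOpenEmbedding.injective h2)
    obtain ⟨W₀, hW₀, -, hcl⟩ := hcomp (closure {W.ι w})
      (Groth.Agent.FlatOpen.EquiDim.closure_mem_irreducibleComponents (X := U.toScheme) hwmax)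
    erw [closure_image_closure (U.ι ≫ f).continuous, Set.image_singleton] at hcl
    obtain ⟨η, hη, hηW⟩ := Groth.Agent.FlatOpen.EquiDim.exists_max_closure_eq hW₀
    have hηeq : η = f (i w) :=
      (hηW ▸ isGenericPoint_closure : IsGenericPoint η W₀).eq (hcl ▸ isGenericPoint_closure : IsGenericPoint _ W₀)
    have hprG : pr (G ξ) = η := by
      rw [hηeq, hw, ← Scheme.Hom.comp_apply, hG, Scheme.Hom.comp_apply]
    have hξdim : FlatMor.fibreDimAt (G ≫ pr) ξ = e := by
      let p : i.opensRange.toScheme ⟶ U.toScheme := i.isoOpensRange.inv ≫ W.ι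
      have hp : (G ≫ pr) ≫ 𝟙 Y = p ≫ g₀ := by
        rw [Category.comp_id, hG, ← Scheme.Hom.isoOpensRange_inv_comp i]
        simp only [p, g₀, i, Category.assoc]
      rw [Groth.Agent.AlgSpD.fibreDimAt_inv p (𝟙 Y) (G ≫ pr) g₀ hp ξ]
      exact Groth.Agent.FlatOpen.EquiDim.fibreDimAt_eq_of_hasRelDim g₀ hrel _
    have htr := trdeg_of_fMax (G ≫ pr) ξ (fun z hz _ => hξ z hz) hξdim
    obtain ⟨j, hj⟩ := exists_trdeg pr (G ξ)
    have hj2 := trdeg_comp G pr ξ hj
    rw [htr] at hj2
    have hje : e = j := by exact_mod_cast hj2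
    subst hje
    have hF := fMax_of_trdeg pr (G ξ) (fun z => (fibreDimAt_affineSpace e Y z).le) hj
    intro z hz
    refine hF z hz ?_
    have h3 := hη (pr z) (hprG ▸ hz.map pr.continuous)
    rw [h3, hprG]
  · intro hY ⟨e, U, g, hxU, hg, hq, hcomp⟩
    haveI := hY
    haveI : IsLocallyNoetherian X := LocallyOfFiniteType.isLocallyNoetherian f
    let pr := 𝔸(ULift.{u} (Fin e); Y) ↘ Y
    haveI : LocallyOfFiniteType g := by
      haveI : LocallyOfFiniteType (g ≫ pr) := by rw [hg]; infer_instance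
      exact locallyOfFiniteType_of_comp g pr
    haveI : LocallyOfFiniteType (g ≫ pr) := inferInstance
    haveI := hq
    haveI : Flat pr := flat_affineSpace _ Y
    have hle : ∀ z, FlatMor.fibreDimAt (g ≫ pr) z ≤ e := fun z => by
      letI := (g ≫ pr).fiberOverSpecResidueField ((g ≫ pr) z)
      haveI : LocallyOfFiniteType (((g ≫ pr).fiber ((g ≫ pr) z)) ↘
          Spec (CommRingCat.of (Y.residueField ((g ≫ pr) z)))) :=
        Groth.Agent.CycLib.locallyOfFiniteType_fiberToSpecResidueField (g ≫ pr) ((g ≫ pr) z)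
      obtain ⟨η, -, -, heq⟩ :=
        Groth.Agent.VarDim.exists_localDim_eq (Y.residueField ((g ≫ pr) z)) ((g ≫ pr).asFiber z)
      have h1 := Groth.Agent.CycLib.trdeg_fibre (g ≫ pr) ((g ≫ pr) z) η
      obtain ⟨j, hj⟩ := exists_trdeg pr (g ((g ≫ pr).fiberι ((g ≫ pr) z) η))
      have hje := trdeg_le pr _ (fibreDimAt_affineSpace e Y _).le hj
      have h2 := h1.symm.trans (trdeg_comp g pr _ hj)
      have h3 : Groth.Agent.VarDim.dimPt (Y.residueField ((g ≫ pr) z)) ((g ≫ pr).fiber ((g ≫ pr) z)) η = j := by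
        exact_mod_cast h2
      show FlatMor.localDim _ _ ≤ _
      rw [heq, h3]
      exact_mod_cast hje
    have hmax : ∀ ξ : U.toScheme, Groth.Agent.FlatOpen.EquiDim.Max ξ →
        Groth.Agent.FlatOpen.EquiDim.Max (g ξ) ∧ Groth.Agent.FlatOpen.EquiDim.Max (pr (g ξ)) := fun ξ hξ => by
      have h1 := hcomp _ (Groth.Agent.FlatOpen.EquiDim.closure_mem_irreducibleComponents hξ)
      erw [closure_image_closure g.continuous, Set.image_singleton] at h1
      obtain ⟨m, hm, hmeq⟩ := Groth.Agent.FlatOpen.EquiDim.exists_max_closure_eq h1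
      have : m = g ξ := (hmeq ▸ isGenericPoint_closure : IsGenericPoint m (closure {g ξ})).eq isGenericPoint_closure
      subst this
      refine ⟨hm, fun z hz => ?_⟩
      obtain ⟨w, hw, rfl⟩ := Flat.generalizingMap pr hz
      rw [hm w hw]
    have hrel : Cyc.HasRelDim (U.ι ≫ f) e := by
      rw [← hg]
      refine (Groth.Agent.FlatOpen.EquiDim.hasRelDim_iff_trdeg _ e).2 fun c hc =>
        Groth.Agent.FlatOpen.EquiDim.fibreDimAt_eq_trdeg _ hc (le_antisymm (hle c) ?_)
      obtain ⟨ξ, hξc, hξmax⟩ := Groth.Agent.FlatOpen.EquiDim.exists_max c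
      obtain ⟨h1, h2⟩ := hmax ξ hξmax
      obtain ⟨j, hj⟩ := exists_trdeg pr (g ξ)
      have hj' := trdeg_of_fMax pr (g ξ) (fun z hz _ => h1 z hz) (fibreDimAt_affineSpace e Y (g ξ))
      rw [hj] at hj'
      have hje : j = e := by exact_mod_cast hj'
      subst hje
      have htr := trdeg_comp g pr ξ hj
      have h3 := Groth.Agent.FibSemi.topDim_closure_le_fibreDimAt (g ≫ pr) hξc
      rw [Groth.Agent.FibSemi.topDim_closure_inter_fibre_eq, ← Groth.Agent.FibSemi.height_asFiber (g ≫ pr) ξ] at h3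
      refine le_trans (le_of_eq ?_) h3
      obtain ⟨v, hv, hvtr⟩ := Groth.Agent.FlatOpen.EquiDim.exists_trdeg_fibre (g ≫ pr) ξ
      have he : v = (g ≫ pr).asFiber ξ := ((g ≫ pr).fiberι ((g ≫ pr) ξ)).isEmbedding.injective
        (hv.trans ((g ≫ pr).fiberι_asFiber ξ).symm)
      subst he
      letI := (g ≫ pr).fiberOverSpecResidueField ((g ≫ pr) ξ)
      haveI : LocallyOfFiniteType (((g ≫ pr).fiber ((g ≫ pr) ξ)) ↘
          Spec (CommRingCat.of (Y.residueField ((g ≫ pr) ξ)))) :=
        Groth.Agent.CycLib.locallyOfFiniteType_fiberToSpecResidueField (g ≫ pr) ((g ≫ pr) ξ)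
      have h4 := hvtr.symm.trans htr
      have h5 : Groth.Agent.VarDim.dimPt (Y.residueField ((g ≫ pr) ξ)) ((g ≫ pr).fiber ((g ≫ pr) ξ))
          ((g ≫ pr).asFiber ξ) = j := by exact_mod_cast h4
      rw [Groth.Agent.VarDim.height_eq_dimPt (Y.residueField ((g ≫ pr) ξ)), h5]
      rfl
    obtain ⟨U', hU'U, hxU', hgen⟩ := Groth.Agent.S2594.exists_open_max_specializes x U hxU
    have hrel' : Cyc.HasRelDim (U'.ι ≫ f) e := by
      refine (Groth.Agent.FlatOpen.EquiDim.hasRelDim_iff_trdeg _ e).2 fun w hw =>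
        Groth.Agent.FlatOpen.EquiDim.fibreDimAt_eq_trdeg _ hw ?_
      rw [Groth.Agent.AlgSpD.fibreDimAt_inv (X.homOfLE hU'U) (𝟙 Y) (U'.ι ≫ f) (U.ι ≫ f)
          (by rw [Category.comp_id, Scheme.homOfLE_ι_assoc]) w]
      exact Groth.Agent.FlatOpen.EquiDim.fibreDimAt_eq_of_hasRelDim _ hrel _
    refine ⟨e, U', hxU', fun Z hZ => ?_, fun w Z hZ => hrel' _ Z hZ⟩
    obtain ⟨ξ, hξ, rfl⟩ := Groth.Agent.FlatOpen.EquiDim.exists_max_closure_eq (X := U'.toScheme) hZ
    have hξX : Groth.Agent.FlatOpen.EquiDim.Max (U'.ι ξ) := fun z hz => by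
      obtain ⟨w, rfl⟩ : z ∈ Set.range U'.ι := by rw [Scheme.Opens.range_ι]; exact hz.mem_open U'.2 ξ.2
      rw [hξ w (U'.ι.isEmbedding.specializes_iff.1 hz)]
    obtain ⟨-, h2⟩ := hmax ⟨U'.ι ξ, hU'U ξ.2⟩ fun z hz => Subtype.ext (hξX _ (hz.map U.ι.continuous))
    rw [← Scheme.Hom.comp_apply, hg] at h2
    refine ⟨closure {f (U'.ι ξ)}, Groth.Agent.FlatOpen.EquiDim.closure_mem_irreducibleComponents h2,
      specializes_iff_mem_closure.1 ((hgen _ ξ.2 hξX).map f.continuous), ?_⟩
    erw [closure_image_closure (U'.ι ≫ f).continuous, Set.image_singleton]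
    rfl

end Groth.Agent.S3386
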