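import Groth.Statements.S18415
import Groth.Agent.EtaleSite.EtaleRoot
-- import your own Groth.Agent.* helpers here

set_option autoImplicit false
universe u
open CategoryTheory AlgebraicGeometry
open EtCoh

namespace Groth.Agent.S18415

/-- Let p be a prime and X a scheme with p = 0 in Γ(X, O_X). Then the Artin–Schreier endomorphism x ↦
x^p − x of the additive group sheaf G_a on the small étale site of X is an epimorphism of abelian
étale sheaves (the right-hand exactness of 0 → Z/p → G_a → G_a → 0 on X_et). (The published example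
takes X a variety over a field of characteristic p; this row assumes only that p = 0 in Γ(X, O_X).) -/
theorem result
    (p : ℕ) (hp : p.Prime) {X : Scheme.{u}} (h0 : (p : Γ(X, ⊤)) = 0) :
    Epi (W4c5etcohweilstudent.artinSchreierEndo X p hp h0) := by
  suffices Sheaf.IsLocallySurjective (W4c5etcohweilstudent.artinSchreierEndo X p hp h0) from
    inferInstance
  constructor
  intro U t
  refine Groth.Agent.EtaleSite.mem_topology_of_forall_exists _ fun u => ?_
  let a : Γ(U.left, ⊤) := (show ULift.{u + 1} Γ(U.left, ⊤) from t).down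
  haveI : Nontrivial Γ(U.left, ⊤) := (U.left.Γevaluation u).hom.domain_nontrivial
  have hU0 := W4c5etcohweilstudent.natCast_eq_zero_etale p h0 U
  open Polynomial in
  have hlt : (Polynomial.X + C a : Polynomial Γ(U.left, ⊤)).degree < (p : WithBot ℕ) := by
    refine lt_of_le_of_lt (degree_add_le _ _) (max_lt ?_ ?_)
    · rw [degree_X]; exact_mod_cast hp.one_lt
    · exact lt_of_le_of_lt degree_C_le (by exact_mod_cast hp.pos)
  open Polynomial in
  obtain ⟨V, g, hg, v, x, hv, hx⟩ := Groth.Agent.EtaleSite.exists_etale_root u
    (Polynomial.X ^ p - (Polynomial.X + C a)) (monic_X_pow_sub hlt)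
    (by
      rw [natDegree_eq_of_degree_eq_some (n := p) (by
        rw [degree_sub_eq_left_of_degree_lt (by rwa [degree_X_pow]), degree_X_pow])]
      exact hp.ne_zero)
    ⟨-1, 0, by
      rw [derivative_sub, derivative_X_pow, hU0]
      simp⟩
  haveI : AlgebraicGeometry.Etale (g ≫ U.hom) :=
    haveI : AlgebraicGeometry.Etale U.hom := U.prop
    inferInstance
  let W : X.Etale := Scheme.Etale.mk (g ≫ U.hom)
  refine ⟨W, MorphismProperty.Over.homMk g rfl trivial, v,
    ⟨(ULift.up x : ULift.{u + 1} Γ(V, ⊤)), ?_⟩, hv⟩
  refine ULift.ext _ _ ?_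
  show x ^ p - x = g.appTop.hom a
  simp at hx
  linear_combination hx

end Groth.Agent.S18415
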