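import Groth.Statements.S8525
import Groth.Agent.EtaleSite.Stalk

set_option autoImplicit false
universe u
open CategoryTheory CategoryTheory.Limits AlgebraicGeometry Opposite
open EtAcyc

namespace Groth.Agent.S8525

lemma smul_zero_of_dvd {M : Type*} [AddCommMonoid M] {m : ℕ} {x : M} (h : m • x = 0) {n : ℕ}
    (hn : m ∣ n) : n • x = 0 := by
  obtain ⟨k, rfl⟩ := hn
  rw [mul_nsmul, h]; simp


/-- Let L be a set of primes and F an abelian sheaf on the small etale site of a scheme X. Then F is an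
L-torsion sheaf if and only if for every geometric point ξ of X every element of the stalk F_ξ is
killed by a positive integer all of whose prime factors lie in L. -/
theorem result {X : Scheme.{u}} (L : Set ℕ) (F : EtCoh.Ab X) :
    EtAcyc.IsLTorsion L F ↔
      ∀ (Ω : Type u) [Field Ω] [IsSepClosed Ω] (ξ : Spec (CommRingCat.of Ω) ⟶ X)
        (t : (EtCoh.stalk ξ).obj F), ∃ m : ℕ, EtAcyc.PrimesIn L m ∧ m • t = 0 := by
  constructor
  · intro hF Ω _ _ ξ t
    obtain ⟨U, x, s, rfl⟩ := Groth.Agent.EtaleSite.exists_germ_eq ξ F t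
    let a : Spec (CommRingCat.of Ω) := default
    obtain ⟨V, g, m, ⟨v, hv⟩, hm, hz⟩ := hF U s (x.left a)
    obtain ⟨l, h₁, h₂⟩ := Scheme.exists_fac_of_etale_of_isSepClosed g.left x.left v hv
    have hl : l ≫ V.hom = ξ := by
      rw [← MorphismProperty.Over.w g, ← Category.assoc, h₁]
      exact Over.w x
    let y : (Scheme.pointSmallEtale ξ).fiber.obj V :=
      (Over.homMk l hl : Over.mk ξ ⟶ (Scheme.Etale.forget X).obj V)
    have hy : (Scheme.pointSmallEtale ξ).fiber.map g y = x := Over.OverMorphism.ext h₁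
    refine ⟨m, hm, ?_⟩
    rw [← hy, ← Groth.Agent.EtaleSite.germ_res, ← map_nsmul, hz, map_zero]
  · intro h U s u
    let ζ := Groth.Agent.EtaleSite.geomPointAt U.left u
    let x : (Scheme.pointSmallEtale (ζ ≫ U.hom)).fiber.obj U :=
      (Over.homMk ζ rfl : Over.mk (ζ ≫ U.hom) ⟶ (Scheme.Etale.forget X).obj U)
    obtain ⟨m, hm, hz⟩ := h _ (ζ ≫ U.hom) (Groth.Agent.EtaleSite.germ (ζ ≫ U.hom) F U x s)
    rw [← map_nsmul, ← map_zero (Groth.Agent.EtaleSite.germ (ζ ≫ U.hom) F U x).hom,
      Groth.Agent.EtaleSite.germ_eq_iff] at hz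
    obtain ⟨V, g, y, hy, e⟩ := hz
    let a : Spec (CommRingCat.of (SeparableClosure (U.left.residueField u))) := default
    refine ⟨V, g, m, ⟨y.left a, ?_⟩, hm, ?_⟩
    · exact (congrArg (fun k => k.left a) hy).trans
        (Groth.Agent.EtaleSite.geomPointAt_apply U.left u a)
    · rw [map_nsmul, map_zero] at e
      exact e

end Groth.Agent.S8525
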