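import Groth.Statements.S3513
import Groth.Agent.S8525
import Groth.Agent.EtaleSite.UnitComp

set_option autoImplicit false
universe u
open CategoryTheory CategoryTheory.Limits AlgebraicGeometry Opposite
open EtAcyc

namespace Groth.Agent.S3513

open Groth.Agent.EtaleSite

variable {X Y Z : Scheme.{u}}

lemma isLTorsion_pull (g : X ⟶ Y) (L : Set ℕ) (F : EtCoh.Ab Y) (hF : EtAcyc.IsLTorsion L F) :
    EtAcyc.IsLTorsion L ((EtCoh.pull g).obj F) := by
  refine (Groth.Agent.S8525.result L _).2 fun Ω _ _ ξ t => ?_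
  obtain ⟨m, hm, hz⟩ := (Groth.Agent.S8525.result L F).1 hF Ω (ξ ≫ g) ((stalkPullIso g ξ).hom.app F t)
  rw [← map_nsmul, ← map_zero ((stalkPullIso g ξ).hom.app F).hom] at hz
  exact ⟨m, hm, (ConcreteCategory.bijective_of_isIso ((stalkPullIso g ξ).hom.app F)).1 hz⟩

lemma compN_of_iso (φ : X ⟶ Y) [IsIso φ] (L : Set ℕ) (n : ℕ) : EtAcyc.CompN φ L n :=
  fun F _ _ => ⟨fun q _ => HpullComp.Hpull_bijective_of_isIso φ q F,
    (HpullComp.Hpull_bijective_of_isIso φ (n + 1) F).1⟩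

lemma compN_comp_iff (a : X ⟶ Y) (b : Y ⟶ Z) (L : Set ℕ) (n : ℕ) (ha : EtAcyc.CompN a L n) :
    EtAcyc.CompN (a ≫ b) L n ↔ EtAcyc.CompN b L n := by
  constructor
  · intro hc F hF _
    obtain ⟨hb, hi⟩ := ha _ (isLTorsion_pull b L F hF)
    obtain ⟨cb, ci⟩ := hc F hF
    refine ⟨fun q hq => ⟨fun x y h => ?_, fun y => ?_⟩, fun x y h => ?_⟩
    · exact (HpullComp.Hpull_comp_injective_iff a b q F).1.1 (cb q hq).1
        (congrArg (EtCore.Hpull a _ q) h)
    · obtain ⟨x, hx⟩ := (HpullComp.Hpull_comp_injective_iff a b q F).2.1 (cb q hq).2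
        (EtCore.Hpull a _ q y)
      exact ⟨x, (hb q hq).1 hx⟩
    · exact (HpullComp.Hpull_comp_injective_iff a b (n + 1) F).1.1 ci
        (congrArg (EtCore.Hpull a _ (n + 1)) h)
  · intro hc F hF _
    obtain ⟨hb, hi⟩ := ha _ (isLTorsion_pull b L F hF)
    obtain ⟨cb, ci⟩ := hc F hF
    exact ⟨fun q hq => ⟨(HpullComp.Hpull_comp_injective_iff a b q F).1.2 ((hb q hq).1.comp (cb q hq).1),
      (HpullComp.Hpull_comp_injective_iff a b q F).2.2 ((hb q hq).2.comp (cb q hq).2)⟩,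
      (HpullComp.Hpull_comp_injective_iff a b (n + 1) F).1.2 (hi.comp ci)⟩

/-- The fibre product over `V` of a composite. -/
noncomputable def prjIso (g : X ⟶ Y) (h : Y ⟶ Z) (V : Z.Etale) :
    pullback V.hom (g ≫ h) ≅ pullback ((EtCoh.bc h).obj V).hom g :=
  (pullbackLeftPullbackSndIso V.hom h g).symm

lemma prj_eq (g : X ⟶ Y) (h : Y ⟶ Z) (V : Z.Etale) :
    EtAcyc.prj (g ≫ h) V =
      (prjIso g h V).hom ≫ EtAcyc.prj g ((EtCoh.bc h).obj V) ≫ EtAcyc.prj h V :=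
  (pullbackLeftPullbackSndIso_inv_fst V.hom h g).symm

lemma isIso_unit_comp_iff_of_left (a : X ⟶ Y) (b : Y ⟶ Z)
    (ha : ∀ G, IsIso ((EtDesc.adjSh a).unit.app G)) (F : EtDesc.Sh Z) :
    IsIso ((EtDesc.adjSh (a ≫ b)).unit.app F) ↔ IsIso ((EtDesc.adjSh b).unit.app F) := by
  have := ha ((EtDesc.pullSh b).obj F)
  rw [UnitComp.isIso_unit_comp_iff, UnitComp.isIso_comp_iff']


/-- Last assertion, abelian and sets cases: let g : X → Y and h : Y → Z be morphisms of schemes, L a set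
of primes and n a natural number. If g is n-acyclic for L, then h is n-acyclic for L if and only if
g ≫ h is; if g is 0-acyclic, then h is 0-acyclic if and only if g ≫ h is. -/
theorem result {X Y Z : Scheme.{u}} (g : X ⟶ Y) (h : Y ⟶ Z) (L : Set ℕ) (n : ℕ) :
    (EtAcyc.IsAcyclicN g L n → (EtAcyc.IsAcyclicN h L n ↔ EtAcyc.IsAcyclicN (g ≫ h) L n)) ∧
      (EtAcyc.IsZeroAcyclic g → (EtAcyc.IsZeroAcyclic h ↔ EtAcyc.IsZeroAcyclic (g ≫ h))) := by
  refine ⟨fun hg => ?_, fun hg => ?_⟩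
  · have key : ∀ V : Z.Etale,
        EtAcyc.CompN (EtAcyc.prj (g ≫ h) V) L n ↔ EtAcyc.CompN (EtAcyc.prj h V) L n := fun V => by
      rw [prj_eq, compN_comp_iff _ _ L n (compN_of_iso _ L n)]
      exact compN_comp_iff _ _ L n (hg _)
    exact ⟨fun hh V => (key V).2 (hh V), fun hh V => (key V).1 (hh V)⟩
  · have key : ∀ (V : Z.Etale) (F : EtDesc.Sh V.left),
        IsIso ((EtDesc.adjSh (EtAcyc.prj (g ≫ h) V)).unit.app F) ↔
          IsIso ((EtDesc.adjSh (EtAcyc.prj h V)).unit.app F) := fun V F => by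
      rw [prj_eq, isIso_unit_comp_iff_of_left _ _ (fun G => UnitComp.isIso_unit_of_isIso _ G)]
      exact isIso_unit_comp_iff_of_left _ _ (hg _) F
    exact ⟨fun hh V F => (key V F).2 (hh V F), fun hh V F => (key V F).1 (hh V F)⟩

end Groth.Agent.S3513
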