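import Groth.Statements.S8534
import Groth.Agent.S3513
import Groth.Agent.EtAcDepth.FibreLimit
-- import your own Groth.Agent.* helpers here

set_option autoImplicit false
set_option backward.isDefEq.respectTransparency false
universe u
open CategoryTheory CategoryTheory.Limits AlgebraicGeometry Opposite
open EtAcyc

namespace Groth.Agent.S8534

/-- Let g : X → Y be quasi-compact and quasi-separated, L a set of primes containing at least one prime,
and n a natural number, and suppose g is n-acyclic for L. Then for every point y of Y and every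
separably closed field Ω algebraic over κ(y), the geometric fibre X ×_Y Spec Ω is an n-acyclic
scheme for L (nonempty, connected, with H^q(-, Z/ℓ) = 0 for ℓ ∈ L and 1 ≤ q ≤ n). (The published
statement allows L empty, for which every morphism is n-acyclic while geometric fibres may be empty;
this row assumes L contains a prime.) -/
theorem result {X Y : Scheme.{u}} (g : X ⟶ Y) [QuasiCompact g] [QuasiSeparated g]
    (L : Set ℕ) (hL : ∃ ℓ ∈ L, ℓ.Prime) (n : ℕ) (hg : EtAcyc.IsAcyclicN g L n) :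
    EtAcyc.GeomFibresAcyclicN L n g := by
  obtain ⟨ℓ₀, hℓ₀, hℓ₀p⟩ := hL
  intro y Ω _ _ _ _
  obtain ⟨U, hU, hy, -⟩ := exists_isAffineOpen_mem_and_subset (X := Y) (U := ⊤) (x := y) trivial
  let A := Γ(Y, U)
  let j : Spec A ⟶ Y := hU.fromSpec
  let v : pullback g j ⟶ Spec A := pullback.snd g j
  haveI : QuasiCompact v := MorphismProperty.pullback_snd _ _ ‹_›
  haveI : QuasiSeparated v := MorphismProperty.pullback_snd _ _ ‹_›
  letI : Algebra A (Y.presheaf.stalk y) := TopCat.Presheaf.algebra_section_stalk Y.presheaf ⟨y, hy⟩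
  letI : Algebra (Y.presheaf.stalk y) Ω :=
    ((algebraMap (Y.residueField y) Ω).comp (Y.residue y).hom).toAlgebra
  letI : Algebra A Ω :=
    ((algebraMap (Y.presheaf.stalk y) Ω).comp (algebraMap A (Y.presheaf.stalk y))).toAlgebra
  haveI : IsScalarTower A (Y.presheaf.stalk y) Ω := .of_algebraMap_eq fun _ => rfl
  haveI := hU.isLocalization_stalk ⟨y, hy⟩
  let p : Ideal A := (hU.primeIdealOf ⟨y, hy⟩).asIdeal
  have hker : RingHom.ker (algebraMap A Ω) = p := by
    rw [← IsLocalization.AtPrime.under_maximalIdeal (Y.presheaf.stalk y) p]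
    ext a
    rw [Ideal.mem_comap, ← IsLocalRing.residue_eq_zero_iff, RingHom.mem_ker]
    exact map_eq_zero (algebraMap (Y.residueField y) Ω)
  have hfr : ∀ z : Ω, ∃ a : A, a ∉ p ∧ IsIntegral A (algebraMap A Ω a * z) := fun z => by
    have h1 : IsIntegral (Y.residueField y) z := Algebra.IsIntegral.isIntegral z
    obtain ⟨P, hP, hPz⟩ := h1
    obtain ⟨Q, rfl, -, hQ⟩ := Polynomial.lifts_and_degree_eq_and_monic
      ((Polynomial.lifts_iff_coeff_lifts _).2 fun i =>
        IsLocalRing.residue_surjective (R := Y.presheaf.stalk y) (P.coeff i)) hP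
    rw [Polynomial.eval₂_map] at hPz
    have h2 : IsIntegral (Y.presheaf.stalk y) z := ⟨Q, hQ, hPz⟩
    obtain ⟨m, hm⟩ := h2.exists_multiple_integral_of_isLocalization p.primeCompl z
    exact ⟨m, m.2, by rw [← Algebra.smul_def]; exact hm⟩
  have hv : ∀ W : (Spec A).Etale, IsAffine W.left → EtAcyc.CompN (EtAcyc.prj v W) L n := fun W _ => by
    haveI : Etale W.hom := W.prop
    haveI : Etale (W.hom ≫ j) := inferInstance
    let V : Y.Etale := MorphismProperty.Over.mk ⊤ (W.hom ≫ j) (inferInstanceAs (Etale (W.hom ≫ j)))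
    let φ : pullback W.hom v ≅ pullback (W.hom ≫ j) g :=
      (pullbackSymmetry _ _) ≪≫ pullbackLeftPullbackSndIso g j W.hom ≪≫ pullbackSymmetry _ _
    have e : EtAcyc.prj v W = φ.hom ≫ EtAcyc.prj g V := by
      show pullback.fst W.hom v = φ.hom ≫ pullback.fst (W.hom ≫ j) g
      simp [φ, v]
    rw [e]
    exact (S3513.compN_comp_iff _ _ L n (S3513.compN_of_iso _ L n)).2 (hg V)
  have hgeom : geomPt Y y Ω = Spec.map (CommRingCat.ofHom (algebraMap A Ω)) ≫ j := by
    have e : CommRingCat.ofHom (algebraMap A Ω) = Y.presheaf.germ U y hy ≫ Y.residue y ≫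
        CommRingCat.ofHom (algebraMap (Y.residueField y) Ω) := rfl
    rw [e, Spec.map_comp, Spec.map_comp, Category.assoc, Category.assoc]
    refine congrArg (_ ≫ ·) ?_
    show Spec.map (Y.residue y) ≫ Y.fromSpecStalk y = _
    rw [← hU.fromSpecStalk_eq_fromSpecStalk hy]
    rfl
  have hgood : ∀ ℓ : ℕ, ℓ.Prime → ℓ ∈ L →
      EtAcDepth.GoodScheme (pullback g (geomPt Y y Ω)) ℓ n := fun ℓ hℓ hℓL => by
    refine (EtAcDepth.goodScheme_fibre_of_compN v L n hv p hker hfr hℓ hℓL).of_iso ?_
    rw [hgeom]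
    exact (pullbackLeftPullbackSndIso g j _).symm
  exact ⟨(hgood ℓ₀ hℓ₀p hℓ₀).nonempty hℓ₀p, (hgood ℓ₀ hℓ₀p hℓ₀).connectedSpace hℓ₀p,
    fun ℓ hℓ hℓL q h1 h2 => (hgood ℓ hℓ hℓL).1 q h1 h2⟩

end Groth.Agent.S8534
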