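import Groth.Prelude.Def_SixF1
import Groth.Agent.EtSixLib.DerivedComp
import Groth.Agent.EtaleSite.Pull

set_option autoImplicit false
universe u
open CategoryTheory CategoryTheory.Limits AlgebraicGeometry Opposite
attribute [local instance] HasDerivedCategory.standard
open EtSix

namespace Groth.Agent.S4329

open Groth.Agent

/-- Composition of derived direct images: for the small etale sites of schemes and abelian sheaves: let
f : X -> Y and g : Y -> Z be morphisms of schemes and assume the unbounded derived direct images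
Rf_*, Rg_* and R(g ∘ f)_* exist (they do; the existence is recorded as instance hypotheses). Then
the canonical morphism R(g ∘ f)_* -> Rg_* ∘ Rf_* of functors D(X_et) -> D(Z_et), induced by (g ∘
f)_* ≅ g_* ∘ f_* through the universal property of R(g ∘ f)_* as a right derived functor, is an
isomorphism. -/
theorem result {X Y Z : Scheme.{u}} (f : X ⟶ Y) (g : Y ⟶ Z)
    [DCoh.HasRpushEt X f] [DCoh.HasRpushEt Y g] [DCoh.HasRpushEt X (f ≫ g)] :
    IsIso (EtSix.compMap f g) := by
  let W := HomotopyCategory.quasiIso (EtCoh.Ab X) (ComplexShape.up ℤ)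
  let q := HomotopyCategory.quotient (EtCoh.Ab X) (ComplexShape.up ℤ)
  haveI : (EtCoh.pull f).Additive := (EtCoh.pullPushAdj f).left_adjoint_additive
  haveI : PreservesFiniteColimits (EtCoh.pull f) :=
    have : PreservesColimitsOfSize.{0, 0} (EtCoh.pull f) := (EtCoh.pullPushAdj f).leftAdjoint_preservesColimits
    inferInstance
  have h : ∀ (I : CochainComplex (EtCoh.Ab X) ℤ), I.IsKInjective →
      IsIso ((EtSix.compMap f g).app (DerivedCategory.Qh.obj (q.obj I))) := fun I _ => by
    have hfac := (DCoh.RpushEt X (f ≫ g)).rightDerived_fac_app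
      ((DCoh.pushEtKh X (f ≫ g)).totalRightDerivedUnit DerivedCategory.Qh W) W
      (DCoh.RpushEt X f ⋙ DCoh.RpushEt Y g) (EtSix.compUnit f g) (q.obj I)
    haveI := EtSixLib.isKInjective_map (EtCoh.pullPushAdj f) I
    haveI h₁ := EtSixLib.isIso_app_of_kInjective (DCoh.RpushEt X (f ≫ g))
      ((DCoh.pushEtKh X (f ≫ g)).totalRightDerivedUnit DerivedCategory.Qh W) I
    haveI h₂ := EtSixLib.isIso_app_of_kInjective (DCoh.RpushEt X f)
      ((DCoh.pushEtKh X f).totalRightDerivedUnit DerivedCategory.Qh W) I
    let u := (DCoh.pushEtKh Y g).totalRightDerivedUnit DerivedCategory.Qh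
      (HomotopyCategory.quasiIso (EtCoh.Ab Y) (ComplexShape.up ℤ))
    haveI h₃ : IsIso (u.app (((EtCoh.push f).mapHomotopyCategory (ComplexShape.up ℤ)).obj (q.obj I))) :=
      (NatTrans.isIso_app_iff_of_iso u
        (((EtCoh.push f).mapHomotopyCategoryFactors (ComplexShape.up ℤ)).app I)).2
        (EtSixLib.isIso_app_of_kInjective (DCoh.RpushEt Y g) u _)
    haveI : IsIso (NatTrans.mapHomotopyCategory (EtCoh.pushComp g f).inv (ComplexShape.up ℤ)) := by
      refine ⟨NatTrans.mapHomotopyCategory (EtCoh.pushComp g f).hom _, ?_, ?_⟩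
      · rw [← NatTrans.mapHomotopyCategory_comp, Iso.inv_hom_id, NatTrans.mapHomotopyCategory_id]
      · rw [← NatTrans.mapHomotopyCategory_comp, Iso.hom_inv_id, NatTrans.mapHomotopyCategory_id]
    haveI : IsIso ((EtSix.compUnit f g).app (q.obj I)) := by
      simp only [EtSix.compUnit, NatTrans.comp_app, Functor.whiskerRight_app,
        Functor.whiskerLeft_app, Functor.associator_hom_app, Functor.associator_inv_app,
        Category.id_comp, Category.comp_id]
      infer_instance
    exact IsIso.of_isIso_fac_left hfac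
  have h' : ∀ K, IsIso ((EtSix.compMap f g).app K) := fun K => by
    obtain ⟨C, hC⟩ := HomotopyCategory.quotient_obj_surjective
      ((DerivedCategory.Qh (C := EtCoh.Ab X)).objPreimage K)
    obtain ⟨I, s, hI, hs, -, -⟩ := Groth.Agent.DHA.KInj.exists_resolution (EtCoh.Ab X) C
    haveI : IsIso (DerivedCategory.Qh.map (q.map s)) :=
      (NatIso.isIso_map_iff (DerivedCategory.quotientCompQhIso (EtCoh.Ab X)) s).2 inferInstance
    refine (NatTrans.isIso_app_iff_of_iso (EtSix.compMap f g)
      ((asIso (DerivedCategory.Qh.map (q.map s))).symm ≪≫ DerivedCategory.Qh.mapIso (eqToIso hC) ≪≫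
        DerivedCategory.Qh.objObjPreimageIso K)).1 (h I hI)
  exact NatIso.isIso_of_isIso_app _

end Groth.Agent.S4329
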