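import Groth.Statements.S6694
import Groth.Prelude.Def_SixF1
import Groth.Agent.S4329
import Groth.Agent.EtBCLib.VComp
-- import your own Groth.Agent.* helpers here

set_option backward.isDefEq.respectTransparency false
set_option backward.isDefEq.respectTransparency.types false

set_option autoImplicit false
universe u
open CategoryTheory CategoryTheory.Limits AlgebraicGeometry Opposite
attribute [local instance] HasDerivedCategory.standard
open EtBC

namespace Groth.Agent.S6694

open Groth.Agent Groth.Agent.EtaleSite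

section
variable {A B C : Scheme.{u}}

theorem compIso_refl_inv_app (F : EtCoh.Ab A ⥤ EtCoh.Ab B) (G : EtCoh.Ab B ⥤ EtCoh.Ab C) [F.Additive]
    [G.Additive] (K : CochainComplex (EtCoh.Ab A) ℤ) :
    (Functor.mapHomotopyCategoryCompIso (Iso.refl (F ⋙ G)) (ComplexShape.up ℤ)).inv.app
      ((HomotopyCategory.quotient _ _).obj K) = 𝟙 _ := by
  refine Eq.trans ?_ ((HomotopyCategory.quotient _ _).map_id _)
  refine congrArg (HomotopyCategory.quotient _ _).map ?_
  ext n
  simp [Functor.mapHomologicalComplexCompIso]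
  rfl

end

section
variable {X S X' S' : Scheme.{u}} (f : X ⟶ S) (g : S' ⟶ S) (f' : X' ⟶ S') (g' : X' ⟶ X)
  (w : g' ≫ f = f' ≫ g) [PreservesFiniteLimits (EtCoh.pull g')]
  [DCoh.HasRpushEt X f] [DCoh.HasRpushEt X' f'] [DCoh.HasRpushEt S' g]

local notation "q" => HomotopyCategory.quotient (EtCoh.Ab _) (ComplexShape.up ℤ)

noncomputable abbrev unitD {A B : Scheme.{u}} (h : A ⟶ B) [DCoh.HasRpushEt A h] :=
  (DCoh.pushEtKh A h).totalRightDerivedUnit DerivedCategory.Qh
    (HomotopyCategory.quasiIso (EtCoh.Ab A) (ComplexShape.up ℤ))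

theorem bcAdj_fac (K : CochainComplex (EtCoh.Ab X) ℤ) :
    (unitD f).app ((q).obj K) ≫ (EtBC.bcAdj f g f' g' w).app (DerivedCategory.Qh.obj ((q).obj K)) =
      DerivedCategory.Qh.map ((q).map ((NatTrans.mapHomologicalComplex
          (EtBC.pushToPushPull f g f' g' w) (ComplexShape.up ℤ)).app K)) ≫
      (unitD g).app (((EtCoh.push f').mapHomotopyCategory _).obj
        (((EtCoh.pull g').mapHomotopyCategory _).obj ((q).obj K))) ≫
      (DCoh.RpushEt S' g).map ((unitD f').app (((EtCoh.pull g').mapHomotopyCategory _).obj ((q).obj K)) ≫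
        (DCoh.RpushEt X' f').map ((EtCoh.pull g').mapDerivedCategoryFactorsh.inv.app ((q).obj K))) := by
  refine ((DCoh.RpushEt X f).rightDerived_fac_app (unitD f) (HomotopyCategory.quasiIso (EtCoh.Ab X) (ComplexShape.up ℤ))
    (EtBC.pullD g' ⋙ DCoh.RpushEt X' f' ⋙ DCoh.RpushEt S' g) (EtBC.bcUnit f g f' g' w) ((q).obj K)).trans ?_
  dsimp only [EtBC.bcUnit, EtBC.pushToPushPullH, NatTrans.comp_app, Functor.whiskerRight_app,
    Functor.whiskerLeft_app, Functor.associator_hom_app, Functor.associator_inv_app, Functor.comp_map,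
    Functor.comp_obj]
  simp only [Category.id_comp, Category.comp_id, Functor.map_comp]
  erw [compIso_refl_inv_app (EtCoh.pull g') (EtCoh.push f' ⋙ EtCoh.push g) K]
  simp only [Category.assoc]
  erw [DerivedCategory.Qh.map_id, Category.id_comp, Category.id_comp]
  rfl

end

section
variable {X Y Z : Scheme.{u}} (f : X ⟶ Y) (g : Y ⟶ Z)
    [DCoh.HasRpushEt X f] [DCoh.HasRpushEt Y g] [DCoh.HasRpushEt X (f ≫ g)]

theorem compMap_fac (K : CochainComplex (EtCoh.Ab X) ℤ) :
    ((DCoh.pushEtKh X (f ≫ g)).totalRightDerivedUnit DerivedCategory.Qh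
      (HomotopyCategory.quasiIso _ (ComplexShape.up ℤ))).app ((HomotopyCategory.quotient _ _).obj K) ≫
        (EtSix.compMap f g).app (DerivedCategory.Qh.obj ((HomotopyCategory.quotient _ _).obj K)) =
      DerivedCategory.Qh.map ((HomotopyCategory.quotient _ _).map ((NatTrans.mapHomologicalComplex
          (EtCoh.pushComp g f).inv (ComplexShape.up ℤ)).app K)) ≫
      ((DCoh.pushEtKh Y g).totalRightDerivedUnit DerivedCategory.Qh
        (HomotopyCategory.quasiIso _ (ComplexShape.up ℤ))).app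
          (((EtCoh.push f).mapHomotopyCategory _).obj ((HomotopyCategory.quotient _ _).obj K)) ≫
      (DCoh.RpushEt Y g).map (((DCoh.pushEtKh X f).totalRightDerivedUnit DerivedCategory.Qh
        (HomotopyCategory.quasiIso _ (ComplexShape.up ℤ))).app ((HomotopyCategory.quotient _ _).obj K)) := by
  refine ((DCoh.RpushEt X (f ≫ g)).rightDerived_fac_app _
    (HomotopyCategory.quasiIso (EtCoh.Ab X) (ComplexShape.up ℤ))
    (DCoh.RpushEt X f ⋙ DCoh.RpushEt Y g) (EtSix.compUnit f g) _).trans ?_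
  dsimp only [EtSix.compUnit, NatTrans.comp_app, Functor.whiskerRight_app,
    Functor.whiskerLeft_app, Functor.associator_hom_app, Functor.associator_inv_app, Functor.comp_map,
    Functor.comp_obj]
  simp only [Category.id_comp, Category.comp_id, Functor.map_comp]
  erw [compIso_refl_inv_app (EtCoh.push f) (EtCoh.push g) K]
  simp only [Category.assoc]
  erw [DerivedCategory.Qh.map_id, Category.id_comp]
  rfl

end

section
variable {X S Y T W Z : Scheme.{u}} (f : X ⟶ S) (g : T ⟶ S) (h : Y ⟶ X) (e : Y ⟶ T) (w : e ≫ g = h ≫ f)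
    (i : W ⟶ X) (j : Z ⟶ W) (k : Z ⟶ Y) (w' : k ≫ h = j ≫ i) (w'' : (k ≫ e) ≫ g = j ≫ (i ≫ f))

theorem sheaf_paste (F : EtCoh.Ab T) :
    (EtBC.pushToPushPull g (i ≫ f) j (k ≫ e) w'').app F ≫
      (EtCoh.push (i ≫ f)).map ((EtCoh.push j).map ((EtCore.pullComp k e).hom.app F)) ≫
        (EtCoh.pushComp f i).inv.app _ =
    (EtBC.pushToPushPull g f h e w).app F ≫
      (EtCoh.push f).map ((EtBC.pushToPushPull h i j k w').app ((EtCoh.pull e).obj F)) := by
  have hp := HpullFunctor.pullComp_homEquiv k e F (F := (EtCoh.pull k).obj ((EtCoh.pull e).obj F)) (𝟙 _)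
  simp only [Adjunction.homEquiv_unit] at hp
  erw [Category.comp_id] at hp
  rw [(EtCoh.push k).map_id] at hp
  erw [Category.comp_id] at hp
  simp only [Category.assoc] at hp
  have hs := EtBCLib.squareIso_paste f g h e w i j k w' w'' ((EtCoh.pull k).obj ((EtCoh.pull e).obj F))
  have hn := (EtBCLib.squareIso g (i ≫ f) j (k ≫ e) w'').hom.naturality ((EtCore.pullComp k e).hom.app F)
  have hn' := (EtBCLib.squareIso g f h e w).hom.naturality ((EtCoh.pullPushAdj k).unit.app ((EtCoh.pull e).obj F))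
  dsimp only [EtBC.pushToPushPull, EtBCLib.squareIso, Iso.trans_hom, Iso.symm_hom, NatTrans.comp_app,
    Functor.whiskerRight_app, Functor.whiskerLeft_app, Functor.leftUnitor_inv_app,
    Functor.associator_hom_app, Functor.comp_obj, Functor.comp_map, Functor.id_obj] at hs hn hn' ⊢
  simp only [Category.id_comp, Category.assoc, Functor.map_comp] at hs hn hn' ⊢
  refine (congrArg (_ ≫ ·) ((reassoc_of% hn) _).symm).trans ?_
  refine ((EtCoh.push g).map_comp_assoc _ _ _).symm.trans ?_
  rw [hp]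
  simp only [Functor.map_comp, Category.assoc]
  refine (congrArg (_ ≫ ·) (congrArg (_ ≫ ·) ((reassoc_of% hs) _))).trans ?_
  refine Eq.trans ?_ (congrArg (_ ≫ ·) ((reassoc_of% hn') _))
  refine congrArg (_ ≫ ·) (congrArg (_ ≫ ·) ?_)
  simp only [Iso.hom_inv_id_app, Category.comp_id]
  first
    | rfl
    | (erw [Category.comp_id]; rfl)

variable [PreservesFiniteLimits (EtCoh.pull e)] [PreservesFiniteLimits (EtCoh.pull k)]
  [PreservesFiniteLimits (EtCoh.pull (k ≫ e))]
  [DCoh.HasRpushEt T g] [DCoh.HasRpushEt Y h] [DCoh.HasRpushEt Z j] [DCoh.HasRpushEt X f]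
  [DCoh.HasRpushEt W i] [DCoh.HasRpushEt W (i ≫ f)]

theorem paste_eq [IsIso (EtSix.compMap i f)] (C : CochainComplex (EtCoh.Ab T) ℤ) [C.IsKInjective]
    (φ : (EtBC.pullD (k ≫ e)).obj (DerivedCategory.Qh.obj ((HomotopyCategory.quotient _ _).obj C)) ⟶
      (EtBC.pullD k).obj ((EtBC.pullD e).obj (DerivedCategory.Qh.obj ((HomotopyCategory.quotient _ _).obj C))))
    (hφ : φ = (EtCoh.pull (k ≫ e)).mapDerivedCategoryFactorsh.hom.app _ ≫
      DerivedCategory.Qh.map ((HomotopyCategory.quotient _ _).map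
        ((NatTrans.mapHomologicalComplex (EtCore.pullComp k e).hom (ComplexShape.up ℤ)).app C)) ≫
      (EtCoh.pull k).mapDerivedCategoryFactorsh.inv.app ((HomotopyCategory.quotient _ _).obj
        (((EtCoh.pull e).mapHomologicalComplex (ComplexShape.up ℤ)).obj C)) ≫
      (EtBC.pullD k).map ((EtCoh.pull e).mapDerivedCategoryFactorsh.inv.app _)) :
    (EtBC.bcAdj g (i ≫ f) j (k ≫ e) w'').app (DerivedCategory.Qh.obj ((HomotopyCategory.quotient _ _).obj C)) ≫
      (DCoh.RpushEt W (i ≫ f)).map ((DCoh.RpushEt Z j).map φ) =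
    (EtBC.bcAdj g f h e w).app (DerivedCategory.Qh.obj ((HomotopyCategory.quotient _ _).obj C)) ≫
      (DCoh.RpushEt X f).map ((EtBC.bcAdj h i j k w').app
        ((EtBC.pullD e).obj (DerivedCategory.Qh.obj ((HomotopyCategory.quotient _ _).obj C)))) ≫
      (inv (EtSix.compMap i f)).app _ := by
  let cx := ComplexShape.up ℤ
  let qS := HomotopyCategory.quotient (EtCoh.Ab S) cx
  let qT := HomotopyCategory.quotient (EtCoh.Ab T) cx
  let qY := HomotopyCategory.quotient (EtCoh.Ab Y) cx
  let qZ := HomotopyCategory.quotient (EtCoh.Ab Z) cx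
  haveI := EtSixLib.isIso_app_of_kInjective (DCoh.RpushEt T g) (unitD g) C
  rw [← cancel_epi ((unitD g).app (qT.obj C))]
  rw [NatIso.isIso_inv_app]
  simp only [← Category.assoc]
  rw [IsIso.eq_comp_inv]
  simp only [Category.assoc]
  rw [reassoc_of% (bcAdj_fac g (i ≫ f) j (k ≫ e) w'' C), reassoc_of% (bcAdj_fac g f h e w C)]
  -- names
  let Ce := ((EtCoh.pull e).mapHomologicalComplex cx).obj C
  let L := ((EtCoh.pull k).mapHomologicalComplex cx).obj Ce
  let θ := (NatTrans.mapHomologicalComplex (EtCore.pullComp k e).hom cx).app C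
  let jθ := ((EtCoh.push j).mapHomologicalComplex cx).map θ
  let rest : DerivedCategory.Qh.obj (qZ.obj L) ⟶
      (EtBC.pullD k).obj ((EtBC.pullD e).obj (DerivedCategory.Qh.obj (qT.obj C))) :=
    (EtCoh.pull k).mapDerivedCategoryFactorsh.inv.app (qY.obj Ce) ≫
      (EtBC.pullD k).map ((EtCoh.pull e).mapDerivedCategoryFactorsh.inv.app (qT.obj C))
  have hL : (unitD j).app (qZ.obj (((EtCoh.pull (k ≫ e)).mapHomologicalComplex cx).obj C)) ≫
      (DCoh.RpushEt Z j).map ((EtCoh.pull (k ≫ e)).mapDerivedCategoryFactorsh.inv.app (qT.obj C) ≫ φ) =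
      DerivedCategory.Qh.map ((HomotopyCategory.quotient _ _).map jθ) ≫ (unitD j).app (qZ.obj L) ≫
        (DCoh.RpushEt Z j).map rest := by
    rw [hφ]
    erw [Iso.inv_hom_id_app_assoc]
    rw [Functor.map_comp]
    exact ((unitD j).naturality_assoc (qZ.map θ) _).symm
  have hi : (unitD (i ≫ f)).app ((HomotopyCategory.quotient _ _).obj
        (((EtCoh.push j).mapHomologicalComplex cx).obj (((EtCoh.pull (k ≫ e)).mapHomologicalComplex cx).obj C))) ≫
      (DCoh.RpushEt W (i ≫ f)).map (DerivedCategory.Qh.map ((HomotopyCategory.quotient _ _).map jθ)) =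
      DerivedCategory.Qh.map (qS.map (((EtCoh.push (i ≫ f)).mapHomologicalComplex cx).map jθ)) ≫
        (unitD (i ≫ f)).app _ :=
    ((unitD (i ≫ f)).naturality ((HomotopyCategory.quotient _ _).map jθ)).symm
  have h2 : (unitD h).app (qY.obj Ce) ≫
        (DCoh.RpushEt Y h).map ((EtCoh.pull e).mapDerivedCategoryFactorsh.inv.app (qT.obj C)) ≫
        (EtBC.bcAdj h i j k w').app ((EtBC.pullD e).obj (DerivedCategory.Qh.obj (qT.obj C))) =
      DerivedCategory.Qh.map ((HomotopyCategory.quotient _ _).map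
          ((NatTrans.mapHomologicalComplex (EtBC.pushToPushPull h i j k w') cx).app Ce)) ≫
        (unitD i).app ((HomotopyCategory.quotient _ _).obj (((EtCoh.push j).mapHomologicalComplex cx).obj L)) ≫
        (DCoh.RpushEt W i).map ((unitD j).app (qZ.obj L) ≫ (DCoh.RpushEt Z j).map rest) := by
    erw [(EtBC.bcAdj h i j k w').naturality]
    erw [reassoc_of% (bcAdj_fac h i j k w' Ce)]
    refine congrArg (_ ≫ ·) (congrArg (_ ≫ ·) ?_)
    refine ((DCoh.RpushEt W i).map_comp _ _).symm.trans (congrArg (DCoh.RpushEt W i).map ?_)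
    refine (Category.assoc _ _ _).trans (congrArg (_ ≫ ·) ?_)
    exact ((DCoh.RpushEt Z j).map_comp _ _).symm
  have hc : qS.map ((NatTrans.mapHomologicalComplex (EtBC.pushToPushPull g (i ≫ f) j (k ≫ e) w'') cx).app C) ≫
      qS.map (((EtCoh.push (i ≫ f)).mapHomologicalComplex cx).map jθ) ≫
      qS.map ((NatTrans.mapHomologicalComplex (EtCoh.pushComp f i).inv cx).app
        (((EtCoh.push j).mapHomologicalComplex cx).obj L)) =
      qS.map ((NatTrans.mapHomologicalComplex (EtBC.pushToPushPull g f h e w) cx).app C) ≫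
      qS.map (((EtCoh.push f).mapHomologicalComplex cx).map
          ((NatTrans.mapHomologicalComplex (EtBC.pushToPushPull h i j k w') cx).app Ce)) := by
    simp only [← Functor.map_comp]
    refine congrArg qS.map ?_
    ext1 n
    simp only [HomologicalComplex.comp_f]
    exact sheaf_paste f g h e w i j k w' w'' (C.X n)
  trans DerivedCategory.Qh.map (qS.map ((NatTrans.mapHomologicalComplex (EtBC.pushToPushPull g f h e w) cx).app C) ≫
      qS.map (((EtCoh.push f).mapHomologicalComplex cx).map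
          ((NatTrans.mapHomologicalComplex (EtBC.pushToPushPull h i j k w') cx).app Ce))) ≫
    (unitD f).app _ ≫ (DCoh.RpushEt X f).map
      ((unitD i).app ((HomotopyCategory.quotient _ _).obj (((EtCoh.push j).mapHomologicalComplex cx).obj L)) ≫
        (DCoh.RpushEt W i).map ((unitD j).app (qZ.obj L) ≫ (DCoh.RpushEt Z j).map rest))
  · rw [← hc]
    have hA : (DCoh.RpushEt W (i ≫ f)).map ((unitD j).app (qZ.obj (((EtCoh.pull (k ≫ e)).mapHomologicalComplex cx).obj C)) ≫
          (DCoh.RpushEt Z j).map ((EtCoh.pull (k ≫ e)).mapDerivedCategoryFactorsh.inv.app (qT.obj C))) ≫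
        (DCoh.RpushEt W (i ≫ f)).map ((DCoh.RpushEt Z j).map φ) ≫ (EtSix.compMap i f).app _ =
      (DCoh.RpushEt W (i ≫ f)).map (DerivedCategory.Qh.map ((HomotopyCategory.quotient _ _).map jθ) ≫
        (unitD j).app (qZ.obj L) ≫ (DCoh.RpushEt Z j).map rest) ≫ (EtSix.compMap i f).app _ := by
      refine ((DCoh.RpushEt W (i ≫ f)).map_comp_assoc _ _ _).symm.trans ?_
      refine congrArg (fun x => (DCoh.RpushEt W (i ≫ f)).map x ≫ _) ?_
      rw [← hL, Functor.map_comp]
      exact Category.assoc _ _ _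
    refine (congrArg (_ ≫ ·) (congrArg (_ ≫ ·) hA)).trans ?_
    rw [Functor.map_comp, Category.assoc]
    erw [reassoc_of% hi]
    erw [(EtSix.compMap i f).naturality ((unitD j).app (qZ.obj L) ≫ (DCoh.RpushEt Z j).map rest)]
    erw [reassoc_of% (compMap_fac i f (((EtCoh.push j).mapHomologicalComplex cx).obj L))]
    simp only [Functor.map_comp, Category.assoc]
    rfl
  · symm
    have hB : (DCoh.RpushEt X f).map ((unitD h).app (qY.obj Ce) ≫
          (DCoh.RpushEt Y h).map ((EtCoh.pull e).mapDerivedCategoryFactorsh.inv.app (qT.obj C))) ≫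
        (DCoh.RpushEt X f).map
          ((EtBC.bcAdj h i j k w').app ((EtBC.pullD e).obj (DerivedCategory.Qh.obj (qT.obj C)))) =
      (DCoh.RpushEt X f).map (DerivedCategory.Qh.map ((HomotopyCategory.quotient _ _).map
          ((NatTrans.mapHomologicalComplex (EtBC.pushToPushPull h i j k w') cx).app Ce)) ≫
        (unitD i).app ((HomotopyCategory.quotient _ _).obj (((EtCoh.push j).mapHomologicalComplex cx).obj L)) ≫
        (DCoh.RpushEt W i).map ((unitD j).app (qZ.obj L) ≫ (DCoh.RpushEt Z j).map rest)) := by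
      refine ((DCoh.RpushEt X f).map_comp _ _).symm.trans (congrArg (DCoh.RpushEt X f).map ?_)
      exact (Category.assoc _ _ _).trans h2
    refine (congrArg (_ ≫ ·) (congrArg (_ ≫ ·) hB)).trans ?_
    rw [Functor.map_comp]
    erw [← (unitD f).naturality_assoc]
    simp only [Functor.map_comp, Category.assoc]
    rfl

end

section
variable {X S X' S' : Scheme.{u}} (f : X ⟶ S) (g : S' ⟶ S) (f' : X' ⟶ S') (g' : X' ⟶ X)
  (w : g' ≫ f = f' ≫ g) [PreservesFiniteLimits (EtCoh.pull g')] [PreservesFiniteLimits (EtCoh.pull g)]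
  [DCoh.HasRpushEt X f] [DCoh.HasRpushEt X' f'] [DCoh.HasRpushEt S' g]

theorem isIso_bcMap_iff (adj : EtBC.pullD g ⊣ DCoh.RpushEt S' g) {K L : DCoh.DEt X} (φ : K ≅ L) :
    IsIso (EtBC.bcMap f g f' g' w adj K) ↔ IsIso (EtBC.bcMap f g f' g' w adj L) := by
  have hn : (EtBC.pullD g).map ((DCoh.RpushEt X f).map φ.hom) ≫ EtBC.bcMap f g f' g' w adj L =
      EtBC.bcMap f g f' g' w adj K ≫ (DCoh.RpushEt X' f').map ((EtBC.pullD g').map φ.hom) := by
    simp only [EtBC.bcMap]
    rw [← adj.homEquiv_naturality_left_symm, ← adj.homEquiv_naturality_right_symm]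
    exact congrArg _ ((EtBC.bcAdj f g f' g' w).naturality φ.hom)
  constructor <;> intro h
  · haveI : IsIso ((EtBC.pullD g).map ((DCoh.RpushEt X f).map φ.hom) ≫ EtBC.bcMap f g f' g' w adj L) := by
      rw [hn]; infer_instance
    exact IsIso.of_isIso_comp_left ((EtBC.pullD g).map ((DCoh.RpushEt X f).map φ.hom)) _
  · haveI : IsIso (EtBC.bcMap f g f' g' w adj K ≫ (DCoh.RpushEt X' f').map ((EtBC.pullD g').map φ.hom)) := by
      rw [← hn]; infer_instance
    exact IsIso.of_isIso_comp_right _ ((DCoh.RpushEt X' f').map ((EtBC.pullD g').map φ.hom))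

end

/-- Consider a tower of cartesian squares of schemes, Y = X ×_S T with f : X → S, g : T → S, h : Y → X,
e : Y → T, and Z = W ×_X Y with i : W → X, j : Z → W, k : Z → Y, so that Z = W ×_S T is cartesian.
Let K be an object of D(T_et). If the base change morphisms f⁻¹ Rg_* K → Rh_* e⁻¹ K and i⁻¹ Rh_*
(e⁻¹ K) → Rj_* k⁻¹ (e⁻¹ K) are isomorphisms, then the base change morphism (f ∘ i)⁻¹ Rg_* K → Rj_*
(e ∘ k)⁻¹ K of the outer rectangle is an isomorphism. (The unbounded derived direct images exist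
under the stated binders; each base change morphism is the transpose under an adjunction between
inverse image and derived direct image on derived categories, supplied as data; left exactness of
the inverse image functors is carried as instance hypotheses.) -/
theorem result {X S Y T W Z : Scheme.{u}} (f : X ⟶ S) (g : T ⟶ S) (h : Y ⟶ X) (e : Y ⟶ T)
    (c : IsPullback e h g f) (i : W ⟶ X) (j : Z ⟶ W) (k : Z ⟶ Y) (c' : IsPullback k j h i)
    (c'' : IsPullback (k ≫ e) j g (i ≫ f))
    [PreservesFiniteLimits (EtCoh.pull f)] [PreservesFiniteLimits (EtCoh.pull i)]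
    [PreservesFiniteLimits (EtCoh.pull (i ≫ f))] [PreservesFiniteLimits (EtCoh.pull e)]
    [PreservesFiniteLimits (EtCoh.pull k)] [PreservesFiniteLimits (EtCoh.pull (k ≫ e))]
    [DCoh.HasRpushEt T g] [DCoh.HasRpushEt Y h] [DCoh.HasRpushEt Z j] [DCoh.HasRpushEt X f]
    [DCoh.HasRpushEt W i] [DCoh.HasRpushEt W (i ≫ f)]
    (adj₁ : EtBC.pullD f ⊣ DCoh.RpushEt X f) (adj₂ : EtBC.pullD i ⊣ DCoh.RpushEt W i)
    (adj₃ : EtBC.pullD (i ≫ f) ⊣ DCoh.RpushEt W (i ≫ f)) (K : DCoh.DEt T)
    (h1 : IsIso (EtBC.bcMap g f h e c.w adj₁ K))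
    (h2 : IsIso (EtBC.bcMap h i j k c'.w adj₂ ((EtBC.pullD e).obj K))) :
    IsIso (EtBC.bcMap g (i ≫ f) j (k ≫ e) c''.w adj₃ K) := by
  haveI := Groth.Agent.S4329.result i f
  let θR : DCoh.RpushEt W i ⋙ DCoh.RpushEt X f ≅ DCoh.RpushEt W (i ≫ f) := (asIso (EtSix.compMap i f)).symm
  obtain ⟨C₀, hC⟩ := HomotopyCategory.quotient_obj_surjective
    ((DerivedCategory.Qh (C := EtCoh.Ab T)).objPreimage K)
  obtain ⟨C, sI, hI, hs, -, -⟩ := Groth.Agent.DHA.KInj.exists_resolution (EtCoh.Ab T) C₀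
  haveI : IsIso (DerivedCategory.Qh.map ((HomotopyCategory.quotient _ _).map sI)) :=
    (NatIso.isIso_map_iff (DerivedCategory.quotientCompQhIso (EtCoh.Ab T)) sI).2 inferInstance
  let eK : DerivedCategory.Qh.obj ((HomotopyCategory.quotient (EtCoh.Ab T) (ComplexShape.up ℤ)).obj C) ≅ K :=
    (asIso (DerivedCategory.Qh.map ((HomotopyCategory.quotient _ _).map sI))).symm ≪≫
      DerivedCategory.Qh.mapIso (eqToIso hC) ≪≫ DerivedCategory.Qh.objObjPreimageIso K
  rw [← isIso_bcMap_iff g f h e c.w adj₁ eK] at h1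
  rw [← isIso_bcMap_iff h i j k c'.w adj₂ ((EtBC.pullD e).mapIso eK)] at h2
  rw [← isIso_bcMap_iff g (i ≫ f) j (k ≫ e) c''.w adj₃ eK]
  have a1 := (EtBCLib.isIso_transpose_iff adj₁ _).1 h1
  have a2 := (EtBCLib.isIso_transpose_iff adj₂ _).1 h2
  have a := EtBCLib.Univ.paste θR a1 a2
  let qT := HomotopyCategory.quotient (EtCoh.Ab T) (ComplexShape.up ℤ)
  let qY := HomotopyCategory.quotient (EtCoh.Ab Y) (ComplexShape.up ℤ)
  let qZ := HomotopyCategory.quotient (EtCoh.Ab Z) (ComplexShape.up ℤ)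
  let pe := (EtCoh.pull e).mapHomologicalComplex (ComplexShape.up ℤ)
  haveI : IsIso ((NatTrans.mapHomologicalComplex (EtCore.pullComp k e).hom (ComplexShape.up ℤ)).app C) :=
    ((NatIso.mapHomologicalComplex (EtCore.pullComp k e) (ComplexShape.up ℤ)).app C).isIso_hom
  let φ : (EtBC.pullD (k ≫ e)).obj (DerivedCategory.Qh.obj (qT.obj C)) ≅
      (EtBC.pullD k).obj ((EtBC.pullD e).obj (DerivedCategory.Qh.obj (qT.obj C))) :=
    (EtCoh.pull (k ≫ e)).mapDerivedCategoryFactorsh.app (qT.obj C) ≪≫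
      DerivedCategory.Qh.mapIso (qZ.mapIso (asIso
        ((NatTrans.mapHomologicalComplex (EtCore.pullComp k e).hom (ComplexShape.up ℤ)).app C))) ≪≫
      ((EtCoh.pull k).mapDerivedCategoryFactorsh.app (qY.obj (pe.obj C))).symm ≪≫
      (EtBC.pullD k).mapIso ((EtCoh.pull e).mapDerivedCategoryFactorsh.app (qT.obj C)).symm
  refine (EtBCLib.isIso_transpose_iff adj₃ _).2 (EtBCLib.Univ.of_comp_map ((DCoh.RpushEt Z j).map φ.hom) ?_)
  convert a using 1
  exact paste_eq f g h e c.w i j k c'.w c''.w C φ.hom rfl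


end Groth.Agent.S6694
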