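import Groth.Statements.S6626
import Groth.Agent.EtaleSite.PushFiber
import Groth.Prelude.Def_BigSite

set_option autoImplicit false
open CategoryTheory CategoryTheory.Limits AlgebraicGeometry Opposite
universe u
open EtCore

namespace Groth.Agent.S6626

set_option backward.isDefEq.respectTransparency.types false in
/-- Let f : X ⟶ Y be a morphism of schemes satisfying condition (A) (for every etale U ⟶ X and every
point u of U there are an etale V ⟶ Y, an open and closed subscheme W of X ×_Y V and an X-morphism W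
⟶ U whose image contains u). Then, on abelian sheaves on the small etale sites, f_* reflects
monomorphisms and epimorphisms, the counit f⁻¹ f_* F ⟶ F is an epimorphism for every F, and f_* is
faithful. -/
theorem result {X Y : Scheme.{u}} (f : X ⟶ Y) (hA : BigSite.PropA f) :
    (EtCoh.push f).ReflectsMonomorphisms ∧ (EtCoh.push f).ReflectsEpimorphisms ∧
      (∀ F : EtCoh.Ab X, Epi ((EtCoh.pullPushAdj f).counit.app F)) ∧ (EtCoh.push f).Faithful := by
  have hsurj : ∀ (F : EtCoh.Ab X) (Ω : Type u) [Field Ω] [IsSepClosed Ω]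
      (ξ : Spec (CommRingCat.of Ω) ⟶ X), Function.Surjective (Groth.Agent.EtaleSite.cmp f ξ F) := by
    intro F Ω _ _ ξ q
    obtain ⟨U, x, t, rfl⟩ := Groth.Agent.EtaleSite.exists_germ_eq ξ F q
    let xl : Spec (CommRingCat.of Ω) ⟶ U.left := Over.Hom.left x
    have hxl : xl ≫ U.hom = ξ := Over.w x
    haveI : AlgebraicGeometry.Etale U.hom := U.prop
    obtain ⟨V, v, hv, W, hWc, h, hh, w, hw⟩ :=
      hA U.left U.hom (xl (default : Spec (CommRingCat.of Ω)))
    let V' : Y.Etale := Scheme.Etale.mk v
    let P := (EtCoh.bc f).obj V'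
    let s : pullback v f ⟶ pullback f v := (pullbackSymmetry v f).hom
    let W' : (pullback v f).Opens := s ⁻¹ᵁ W
    let k : (W' : Scheme.{u}) ⟶ U.left := (s ∣_ W) ≫ h
    have hk : k ≫ U.hom = W'.ι ≫ pullback.snd v f := by
      simp only [k, Category.assoc, hh]
      rw [← Category.assoc, morphismRestrict_ι, Category.assoc]
      exact congrArg (W'.ι ≫ ·) (pullbackSymmetry_hom_comp_fst v f)
    let M : Bool → (pullback v f).Opens := fun b =>
      Bool.rec ⟨(W' : Set ↥(pullback v f))ᶜ, (hWc.preimage s.continuous).isOpen_compl⟩ W' b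
    have hd : ∀ a b, a ≠ b → Disjoint (M a) (M b) := by
      rintro (_ | _) (_ | _) hab
      · exact absurd rfl hab
      · exact disjoint_iff.2 (le_bot_iff.1 fun z hz => hz.1 hz.2)
      · exact disjoint_iff.2 (le_bot_iff.1 fun z hz => hz.2 hz.1)
      · exact absurd rfl hab
    have hc : ∀ z, ∃ a, z ∈ M a := fun z => by
      by_cases hz : z ∈ W'
      · exact ⟨true, hz⟩
      · exact ⟨false, hz⟩
    let k' : Groth.Agent.EtaleSite.piece P (M true) ⟶ U :=
      MorphismProperty.Over.homMk k hk trivial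
    obtain ⟨r, hr⟩ := Groth.Agent.EtaleSite.exists_glue_disjoint (U := P) F M hd hc
      (fun b => match b with
        | true => F.obj.map k'.op t
        | false => 0)
    let s' : pullback f v ⟶ pullback v f := (pullbackSymmetry v f).inv
    let z : ↥(pullback v f) := s' (W.ι w)
    have hz : z ∈ W' := by
      show s (s' (W.ι w)) ∈ W
      rw [← Scheme.Hom.comp_apply, Iso.inv_hom_id]
      exact w.2
    have hkz : k ⟨z, hz⟩ = xl default := by
      refine Eq.trans ?_ hw
      show h ((s ∣_ W) ⟨z, hz⟩) = h w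
      refine congrArg h (W.ι.isOpenEmbedding.injective ?_)
      refine (congrArg (fun q : (W' : Scheme.{u}) ⟶ pullback f v => q ⟨z, hz⟩)
        (morphismRestrict_ι s W)).trans ?_
      show s (s' (W.ι w)) = W.ι w
      rw [← Scheme.Hom.comp_apply, Iso.inv_hom_id]
      rfl
    haveI : AlgebraicGeometry.Etale (k ≫ U.hom) := by
      rw [hk]
      exact (Groth.Agent.EtaleSite.piece P (M true)).prop
    haveI : AlgebraicGeometry.Etale k := Etale.of_comp k U.hom
    obtain ⟨l, hl, -⟩ := Scheme.exists_fac_of_etale_of_isSepClosed k xl ⟨z, hz⟩ hkz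
    let j : (W' : Scheme.{u}) ⟶ pullback v f := W'.ι
    have hlξ : l ≫ j ≫ pullback.snd v f = ξ := by
      rw [← hxl, ← hl, Category.assoc, hk]
    let φ : (Scheme.pointSmallEtale (ξ ≫ f)).fiber.obj V' :=
      (Over.homMk (l ≫ j ≫ pullback.fst v f) (by
        show (l ≫ j ≫ pullback.fst v f) ≫ v = ξ ≫ f
        simp only [Category.assoc, pullback.condition]
        rw [← hlξ]
        simp only [Category.assoc]) :
      Over.mk (ξ ≫ f) ⟶ (Scheme.Etale.forget Y).obj V')
    let ζ : (Scheme.pointSmallEtale ξ).fiber.obj (Groth.Agent.EtaleSite.piece P (M true)) :=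
      (Over.homMk l hlξ :
        Over.mk ξ ⟶ (Scheme.Etale.forget X).obj (Groth.Agent.EtaleSite.piece P (M true)))
    have hζ : (Scheme.pointSmallEtale ξ).fiber.map
        (Groth.Agent.EtaleSite.pieceHom P (M true)) ζ =
          Groth.Agent.EtaleSite.fiberBcEquiv f ξ V' φ := by
      refine Over.OverMorphism.ext (pullback.hom_ext ?_ ?_)
      · exact (Category.assoc _ _ _).trans (pullback.lift_fst _ _ _).symm
      · exact (Category.assoc _ _ _).trans (hlξ.trans (pullback.lift_snd _ _ _).symm)
    have hζx : (Scheme.pointSmallEtale ξ).fiber.map k' ζ = x := Over.OverMorphism.ext hl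
    refine ⟨Groth.Agent.EtaleSite.germ (ξ ≫ f) ((EtCoh.push f).obj F) V' φ r, ?_⟩
    refine (Groth.Agent.EtaleSite.cmp_germ f ξ F V' φ r).trans ?_
    rw [← hζ, ← Groth.Agent.EtaleSite.germ_res]
    refine (congrArg (Groth.Agent.EtaleSite.germ ξ F _ ζ) (hr true)).trans ?_
    rw [Groth.Agent.EtaleSite.germ_res, hζx]
  have hepi : ∀ F : EtCoh.Ab X, Epi ((EtCoh.pullPushAdj f).counit.app F) := fun F =>
    Groth.Agent.EtaleSite.epi_of_stalk _ fun Ω _ _ ξ q => by
      obtain ⟨p, hp⟩ := hsurj F Ω ξ q
      exact ⟨(Groth.Agent.EtaleSite.stalkPullIso f ξ).inv.app ((EtCoh.push f).obj F) p, hp⟩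
  haveI := hepi
  haveI : (EtCoh.push f).Faithful := (EtCoh.pullPushAdj f).faithful_R_of_epi_counit_app
  exact ⟨inferInstance, inferInstance, hepi, inferInstance⟩

end Groth.Agent.S6626
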