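import Groth.Statements.S0133
import Groth.Agent.EtConsAb.ExtZero
import Groth.Agent.EtConsAb.ConstMod
import Groth.Agent.EtaleSite.OpenImm

set_option autoImplicit false
universe u
open CategoryTheory CategoryTheory.Limits AlgebraicGeometry Opposite
open EtPBC

namespace Groth.Agent.S0133

/-- (2): for j : U -> X etale with U and X quasi-compact and quasi-separated and M a finite abelian
group, j_! M is a constructible abelian sheaf on X_et. -/
theorem result (X : Scheme.{u}) [CompactSpace X] [QuasiSeparatedSpace X]
    (U : X.Etale) [CompactSpace U.left] [QuasiSeparatedSpace U.left]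
    (M : Type) [AddCommGroup M] [Finite M] :
    EtPBC.IsConstructible (EtPBC.extZeroConst U M) := by
  haveI : Etale U.hom := U.prop
  let A := AddCommGrpCat.{u + 1}
  let T : U.left.Etale := EtCoh.top U.left
  let hT : IsTerminal T := MorphismProperty.Over.mkIdTerminal _ _
  let e : (EtShriek.compEtale U.hom).obj T ≅ U :=
    MorphismProperty.Over.isoMk (Iso.refl _) (by rfl)
  let a₁ := (constantSheafAdj (X.smallEtaleTopology.over U) A Over.mkIdTerminal).comp (EtPBC.extZeroAdj U)
  let a₂ := (constantSheafAdj U.left.smallEtaleTopology A hT).comp (EtShriek.extZeroAdj U.hom)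
  let r : EtShriek.restrAlong U.hom ⋙ (sheafSections U.left.smallEtaleTopology A).obj (op T) ≅
      X.smallEtaleTopology.overPullback A U ⋙
        (sheafSections (X.smallEtaleTopology.over U) A).obj (op (Over.mk (𝟙 U))) :=
    NatIso.ofComponents (fun G => G.obj.mapIso e.symm.op) (fun {G G'} f => (f.hom.naturality e.symm.hom.op).symm)
  refine Groth.Agent.EtConsAb.isConstructible_of_iso
    ((a₁.leftAdjointUniq (a₂.ofNatIsoRight r)).app (AddCommGrpCat.of (ULift.{u + 1} M))).symm ?_
  exact @Groth.Agent.EtConsAb.isConstructible_extZero U.left X ‹_› ‹_› ‹_› ‹_› U.hom _ _ (EtCoh.const U.left M)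
    (Groth.Agent.EtConsAb.isFLC_const (ULift.{u + 1} M))

end Groth.Agent.S0133
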