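import Groth.Statements.S0385
import Groth.Agent.LocImm77.Finite

set_option autoImplicit false
universe u
open FlatMor

namespace Groth.Agent.S0385

open AlgebraicGeometry CategoryTheory Limits in
/-- Zariski's Main Theorem in its finite-factorization form (Mathlib already has the open immersion into
the integral relative normalization; the content here is replacing integral by finite): a
quasi-finite separated morphism (locally of finite type, quasi-compact, with finite fibres) to a
quasi-compact quasi-separated scheme is a quasi-compact open immersion followed by a finite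
morphism. -/
theorem result {X S : Scheme.{u}} (f : X ⟶ S) [CompactSpace S] [QuasiSeparatedSpace S] [LocallyQuasiFinite f] [LocallyOfFiniteType f] [QuasiCompact f] [IsSeparated f] :
    ∃ (T : Scheme.{u}) (j : X ⟶ T) (π : T ⟶ S), IsOpenImmersion j ∧ QuasiCompact j ∧ IsFinite π ∧ j ≫ π = f := by
  obtain ⟨I, hP, hdir, hne, D, c, hc, hD, ⟨e⟩⟩ := Groth.Agent.S7382.result f.fromNormalization
  haveI : ∀ (a b : Iᵒᵖ) (g : a ⟶ b), IsAffineHom (D.map g).left := fun a b g => by
    haveI := (hD a).1
    haveI := (hD b).1
    haveI : IsAffineHom ((D.map g).left ≫ (D.obj b).hom) := by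
      rw [Over.w]
      infer_instance
    exact IsAffineHom.of_comp (D.map g).left (D.obj b).hom
  let j : X ⟶ c.pt.left := f.toNormalization ≫ e.inv.left
  haveI : IsOpenImmersion j := inferInstanceAs (IsOpenImmersion (f.toNormalization ≫ e.inv.left))
  have hj : j ≫ c.pt.hom = f := by
    show (f.toNormalization ≫ e.inv.left) ≫ c.pt.hom = f
    rw [Category.assoc, Over.w e.inv]
    exact f.toNormalization_fromNormalization
  haveI : CompactSpace X := QuasiCompact.compactSpace_of_compactSpace f
  haveI : LocallyOfFiniteType (j ≫ c.pt.hom) := hj.symm ▸ inferInstance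
  haveI : IsCofiltered Iᵒᵖ := inferInstance
  obtain ⟨i, hi⟩ := Groth.Agent.LocImm77.exists_immersion_stage D c hc j
  haveI := hi
  haveI := (hD i).1
  have hfac : (j ≫ (c.π.app i).left) ≫ (D.obj i).hom = f := by
    rw [Category.assoc, Over.w (c.π.app i)]
    exact hj
  haveI : QuasiCompact ((j ≫ (c.π.app i).left) ≫ (D.obj i).hom) := hfac.symm ▸ inferInstance
  haveI : QuasiCompact (j ≫ (c.π.app i).left) := QuasiCompact.of_comp _ (D.obj i).hom
  obtain ⟨Z, g₁, g₂, h1, h2, h12⟩ :=
    (IsImmersion.isImmersion_iff_exists_of_quasiCompact (f := j ≫ (c.π.app i).left)).mp hi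
  have hfin : IsFinite (g₂ ≫ (D.obj i).hom) := inferInstance
  have e12 : g₁ ≫ g₂ ≫ (D.obj i).hom = f := by rw [← Category.assoc, h12, hfac]
  haveI : QuasiCompact (g₁ ≫ g₂ ≫ (D.obj i).hom) := e12.symm ▸ inferInstance
  exact ⟨Z, g₁, g₂ ≫ (D.obj i).hom, h1, QuasiCompact.of_comp g₁ (g₂ ≫ (D.obj i).hom), hfin, e12⟩

end Groth.Agent.S0385
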