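import Groth.Statements.S0686
import Groth.Agent.EtShriekLib.ExtZeroIso
import Groth.Agent.EtShriekLib.Comp

set_option autoImplicit false
open CategoryTheory CategoryTheory.Limits AlgebraicGeometry Opposite
universe u
open EtShriek

namespace Groth.Agent.S0686

/-- Let j : X -> Xbar be an open immersion and fbar : Xbar -> Y proper, f = fbar o j. Then f_! is
isomorphic to fbar_* o j_! as functors on abelian etale sheaves. (The source's isomorphism is
canonical; here existence.) -/
theorem result {X Xb Y : Scheme.{u}} (j : X ⟶ Xb) [IsOpenImmersion j]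
    (fb : Xb ⟶ Y) [IsProper fb] (f : X ⟶ Y) (hf : f = j ≫ fb) [EtShriek.JCont j] :
    Nonempty (EtShriek.lowerShriek f ≅ EtShriek.extZero j ⋙ EtCoh.push fb) := by
  subst hf
  obtain ⟨e⟩ := EtShriekLib.nonempty_extZero_iso j
  have : ∀ G, IsIso ((EtShriekLib.shriek₀ι fb).app G) := fun G => by
    have hb : ∀ V, IsIso ((EtShriek.lowerShriekPreι fb G).app V) := fun V =>
      (ConcreteCategory.isIso_iff_bijective _).mpr ⟨Subtype.val_injective, fun s => ⟨⟨s, by
        rw [EtShriekLib.mem_shriekSubgroup_iff]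
        have : IsProper (EtShriek.prV fb V.unop) :=
          MorphismProperty.pullback_fst (P := @IsProper) _ _ ‹_›
        exact EtShriekLib.ipo_of_isProper _ (EtShriekLib.isClosed_sectSupp _ _ _)⟩, rfl⟩⟩
    have : IsIso ((sheafToPresheaf Y.smallEtaleTopology AddCommGrpCat.{u + 1}).map ((EtShriekLib.shriek₀ι fb).app G)) :=
      @NatIso.isIso_of_isIso_app _ _ _ _ _ _ (EtShriek.lowerShriekPreι fb G) hb
    exact isIso_of_fully_faithful (f := (EtShriekLib.shriek₀ι fb).app G) (sheafToPresheaf Y.smallEtaleTopology AddCommGrpCat.{u + 1})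
  exact ⟨EtShriekLib.shriekIso _ ≪≫ EtShriekLib.compIso j fb ≪≫
    Functor.isoWhiskerRight ((EtShriekLib.shriekIso j).symm ≪≫ e.symm) _ ≪≫
    Functor.isoWhiskerLeft _ (@asIso _ _ _ _ _ (NatIso.isIso_of_isIso_app (EtShriekLib.shriek₀ι fb)))⟩

end Groth.Agent.S0686
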