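import Groth.Statements.S3519
import Groth.Agent.EtConsAb.DevFin
import Groth.Agent.EtaleSite.ArtinSchreierKer
import Groth.Agent.AlgSpCov.IntegralDim
import Groth.Agent.CohTop.Vanishing
import Groth.Agent.S0110
-- import your own Groth.Agent.* helpers here

set_option autoImplicit false
universe u
open CategoryTheory CategoryTheory.Limits AlgebraicGeometry Opposite
open EtCd

namespace Groth.Agent.S3519

open Groth.Agent

/-- Vanishing of the cohomology of `ℤ/p` above the dimension plus one in characteristic `p`. -/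
theorem const_vanish (p : ℕ) [Fact p.Prime] (Y : Scheme.{u}) [AlgebraicGeometry.IsNoetherian Y]
    (h0 : (p : Γ(Y, ⊤)) = 0) (d : ℕ) (hd : topologicalKrullDim Y ≤ d) (q : ℕ) (hq : d + 1 < q) :
    Subsingleton (EtCoh.H Y (EtCoh.const Y (ZMod p)) q) := by
  have hGa : ∀ i, d < i → Subsingleton (EtCoh.H Y (EtCoh.Ga Y) i) := fun i hi => by
    obtain ⟨e⟩ := S0110.result Y i
    haveI : TopologicalSpace.NoetherianSpace Y.toTopCat := inferInstanceAs (TopologicalSpace.NoetherianSpace Y)
    haveI : Subsingleton (Coh.HH Y (Coh.structureModule Y) i) :=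
      CohTop.Vanishing.grothendieck_vanishing (X := Y.toTopCat) d hd (Coh.toAb (Coh.structureModule Y)) i hi
    exact e.toEquiv.subsingleton
  obtain ⟨q', rfl⟩ : ∃ q', q = q' + 1 := ⟨q - 1, by omega⟩
  exact GalCohAux.EtDimVanA.subsingleton_H_left (EtaleSite.ArtinSchreierKer.shortExact p h0) q'
    (hGa _ (by omega)) (hGa _ (by omega))

/-- A closed immersion of integral schemes which is not an isomorphism lowers the dimension. -/
theorem dim_lt {Y₁ Y₂ : Scheme.{u}} [AlgebraicGeometry.IsIntegral Y₁] [AlgebraicGeometry.IsIntegral Y₂]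
    (m : Y₁ ⟶ Y₂) [IsClosedImmersion m] (h : ¬ IsIso m) (a b : ℕ) (ha : topologicalKrullDim Y₁ = a)
    (hb : topologicalKrullDim Y₂ = b) : a < b := by
  have hk : ∀ Z : Scheme.{u}, topologicalKrullDim Z = Order.krullDim Z := fun Z =>
    (@Order.krullDim_eq_of_orderIso _ _ _ _ (irreducibleSetEquivPoints (α := Z)))
  have hle := AlgSpCov.IntegralDim.topologicalKrullDim_le_of_strictMono m
    (AlgSpCov.IntegralDim.strictMono_of_isIntegralHom m)
  have hlt : m (genericPoint Y₁) < genericPoint Y₂ := by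
    refine lt_of_le_not_ge (genericPoint_specializes _) fun hge => h ?_
    have hs : Surjective m := ⟨fun y => by
      have e : m (genericPoint Y₁) = genericPoint Y₂ :=
        ((show m (genericPoint Y₁) ⤳ genericPoint Y₂ from hge).antisymm (genericPoint_specializes _)).eq
      have hcl := m.isClosedEmbedding.isClosed_range
      refine hcl.closure_subset_iff.2 (Set.singleton_subset_iff.2 ⟨_, e⟩) ?_
      rw [(genericPoint_spec Y₂).def]
      trivial⟩
    exact isIso_of_isClosedImmersion_of_surjective m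
  have hh : ∀ Z : Scheme.{u}, ∀ z : Z, (Order.height z : WithBot ℕ∞) ≤ topologicalKrullDim Z := fun Z z => by
    rw [hk]; exact Order.height_le_krullDim z
  have h2 : Order.height (m (genericPoint Y₁)) + 1 ≤ Order.height (genericPoint Y₂) := Order.height_add_one_le hlt
  have h3 : Order.height (genericPoint Y₁) ≤ Order.height (m (genericPoint Y₁)) :=
    Order.height_le_height_apply_of_strictMono _ (AlgSpCov.IntegralDim.strictMono_of_isIntegralHom m) _
  have h1 : (a : ℕ∞) ≤ Order.height (genericPoint Y₁) := by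
    refine WithBot.coe_le_coe.1 ?_
    show ((a : ℕ) : WithBot ℕ∞) ≤ _
    rw [← ha, hk, Order.krullDim_eq_iSup_height]
    exact iSup_le fun z => WithBot.coe_le_coe.2 (Order.height_mono (genericPoint_specializes z))
  have h4 := hh Y₂ (genericPoint Y₂)
  rw [hb] at h4
  have h5 : Order.height (genericPoint Y₂) ≤ (b : ℕ∞) := WithBot.coe_le_coe.1 h4
  have h6 : (a : ℕ∞) + 1 ≤ b := ((add_le_add_left (h1.trans h3) 1).trans h2).trans h5
  exact_mod_cast h6

/-- Let k be a field of characteristic p > 0 and X a scheme of finite type over k of dimension at most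
n. Then cd_p(X) ≤ n + 1: the etale cohomology of every p-primary torsion abelian sheaf on X vanishes
above degree n + 1. -/
theorem result (k : Type u) [Field k] (p : ℕ) [Fact p.Prime] [CharP k p]
    (X : Scheme.{u}) (f : X ⟶ Spec (CommRingCat.of k)) [LocallyOfFiniteType f] [QuasiCompact f]
    (n : ℕ) (hn : topologicalKrullDim X ≤ n) : Dix.CohDimLEAt X p (n + 1) := by
  intro F hF q hq
  classical
  haveI : IsLocallyNoetherian X := LocallyOfFiniteType.isLocallyNoetherian f
  haveI : CompactSpace X := QuasiCompact.compactSpace_of_compactSpace f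
  haveI : AlgebraicGeometry.IsNoetherian X := {}
  have hp : p.Prime := Fact.out
  have h0X : (p : Γ(X, ⊤)) = 0 := by
    let a : k →+* Γ(X, ⊤) := ((Scheme.ΓSpecIso (CommRingCat.of k)).inv ≫ f.appTop).hom
    rw [← map_natCast a, CharP.cast_eq_zero, map_zero]
  -- dimensions of finite integral schemes over `X`
  have hdim : ∀ (Y : Scheme.{u}) (g : Y ⟶ X) [AlgebraicGeometry.IsIntegral Y] [IsFinite g],
      ∃ d : ℕ, topologicalKrullDim Y = d ∧ d ≤ n := fun Y g _ _ => by
    have hle : topologicalKrullDim Y ≤ n := le_trans (AlgSpCov.IntegralDim.topologicalKrullDim_le_of_strictMono g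
      (AlgSpCov.IntegralDim.strictMono_of_isIntegralHom g)) hn
    have hne : topologicalKrullDim Y ≠ ⊥ := by
      have hk : topologicalKrullDim Y = Order.krullDim Y :=
        (@Order.krullDim_eq_of_orderIso _ _ _ _ (irreducibleSetEquivPoints (α := Y)))
      rw [hk, Ne, Order.krullDim_eq_bot_iff]
      exact fun h => h.false (genericPoint Y)
    obtain ⟨d, hd⟩ := WithBot.ne_bot_iff_exists.1 hne
    rw [← hd] at hle ⊢
    have hle' : d ≤ (n : ℕ∞) := WithBot.coe_le_coe.1 hle
    obtain ⟨e, rfl⟩ := ENat.ne_top_iff_exists.1 (ne_top_of_le_ne_top (ENat.coe_ne_top n) hle')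
    exact ⟨e, rfl, by exact_mod_cast hle'⟩
  let φ : ∀ (Y : Scheme.{u}), (Y ⟶ X) → ℕ := fun Y g =>
    if h : ∃ d : ℕ, topologicalKrullDim Y = d then h.choose + 1 else 0
  have hφ : ∀ (Y : Scheme.{u}) (g : Y ⟶ X) (d : ℕ), topologicalKrullDim Y = d → φ Y g = d + 1 := fun Y g d hd => by
    have h : ∃ d : ℕ, topologicalKrullDim Y = d := ⟨d, hd⟩
    simp only [φ, dif_pos h]
    have h2 := h.choose_spec.symm.trans hd
    exact congrArg (· + 1) (by exact_mod_cast h2)
  refine EtConsAb.DevFin.vanishing (φ := φ) (ℓ := p) ?_ ?_ (𝟙 X) F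
    ((GalCohAux.EtDimVanD.isPrimaryTorsion_iff hp F).1 hF) q fun y _ => ?_
  · intro Y₁ Y₂ g₁ g₂ _ _ _ _ m hm
    obtain ⟨a, ha, -⟩ := hdim Y₁ g₁
    obtain ⟨b, hb, -⟩ := hdim Y₂ g₂
    rw [hφ Y₁ g₁ a ha, hφ Y₂ g₂ b hb]
    haveI : IsFinite (m ≫ g₂) := hm ▸ inferInstance
    haveI : IsFinite m := MorphismProperty.of_postcomp (W := @IsFinite) (W' := @IsSeparated) m g₂
      inferInstance inferInstance
    refine ⟨?_, fun hc hi => ?_⟩
    · have h := AlgSpCov.IntegralDim.topologicalKrullDim_le_of_strictMono m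
        (AlgSpCov.IntegralDim.strictMono_of_isIntegralHom m)
      rw [ha, hb] at h
      exact Nat.add_le_add_right (by exact_mod_cast h) 1
    · haveI := hc
      exact Nat.add_lt_add_right (dim_lt m hi a b ha hb) 1
  · intro Y g _ _ i hi
    obtain ⟨d, hd, -⟩ := hdim Y g
    rw [hφ Y g d hd] at hi
    haveI := EtConsAb.DevFin.noeth g
    refine const_vanish p Y ?_ d hd.le i hi
    rw [← map_natCast g.appTop.hom, h0X, map_zero]
  · obtain ⟨d, hd, hdn⟩ := hdim (EtConsAb.DevFin.pc y) (EtConsAb.DevFin.pcι y ≫ 𝟙 X)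
    show φ (EtConsAb.DevFin.pc y) (EtConsAb.DevFin.pcι y ≫ 𝟙 X) < q
    rw [hφ (EtConsAb.DevFin.pc y) (EtConsAb.DevFin.pcι y ≫ 𝟙 X) d hd]
    omega

end Groth.Agent.S3519
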