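import Groth.Statements.S3884
import Groth.Agent.EtLimit.SysCoh
import Groth.Agent.EtLimit.PushTrans
-- import your own Groth.Agent.* helpers here

set_option autoImplicit false
open CategoryTheory CategoryTheory.Limits AlgebraicGeometry Opposite
universe u
open EtLim

namespace Groth.Agent.S3884

/-- Let ι be a nonempty directed preordered set, (X_i) an inverse system of quasi-compact
quasi-separated schemes indexed by ι with affine transition morphisms, X a limit with projections
u_i : X -> X_i, and F an abelian sheaf on the small etale site of X. Then the canonical maps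
H^n(X_i, u_{i*} F) -> H^n(X, F) (pull back along u_i, then apply the counit u_i^{-1} u_{i*} F -> F)
identify H^n(X, F) with the directed colimit of the H^n(X_i, u_{i*} F), in the concrete sense: every
class on X comes from some stage, and a class at stage j mapping to zero on X already maps to zero
at some stage k ≥ j under the transition map. (Exactness of pullback of abelian sheaves, which
always holds, is carried as an instance hypothesis.) -/
theorem result {ι : Type u} [Preorder ι] [Nonempty ι] [IsDirected ι (· ≤ ·)] (Xs : ιᵒᵖ ⥤ Scheme.{u})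
    (haff : ∀ ⦃a b : ιᵒᵖ⦄ (h : a ⟶ b), IsAffineHom (Xs.map h))
    (hqc : ∀ a, CompactSpace ↥(Xs.obj a)) (hqs : ∀ a, QuasiSeparatedSpace ↥(Xs.obj a))
    (c : Cone Xs) (hc : IsLimit c) (F : EtCoh.Ab c.pt) (n : ℕ)
    [∀ a, PreservesFiniteLimits (EtCoh.pull (c.π.app a))]
    [∀ ⦃a b : ιᵒᵖ⦄ (h : a ⟶ b), PreservesFiniteLimits (EtCoh.pull (Xs.map h))] :
    (∀ ξ : EtCoh.H c.pt F n,
      ∃ (j : ι) (ξj : EtCoh.H (Xs.obj (op j)) ((EtCoh.push (c.π.app (op j))).obj F) n),
        EtLim.HofPush (c.π.app (op j)) F n ξj = ξ) ∧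
    (∀ (j : ι) (ξj : EtCoh.H (Xs.obj (op j)) ((EtCoh.push (c.π.app (op j))).obj F) n),
      EtLim.HofPush (c.π.app (op j)) F n ξj = 0 →
        ∃ (k : ι) (hk : j ≤ k),
          EtLim.HpushTrans (Xs.map (homOfLE hk).op) (c.π.app (op k)) (c.π.app (op j))
            (c.w (homOfLE hk).op) F n ξj = 0) := by
  haveI : ∀ (a b : ιᵒᵖ) (h : a ⟶ b), IsAffineHom (Xs.map h) := fun a b h => haff h
  obtain ⟨hK⟩ := Groth.Agent.EtLimit.nonempty_isColimit_pushSysCocone c F hc
  let S := Groth.Agent.EtLimit.pushSys c F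
  let s : ∀ {j i : ιᵒᵖ} (a : j ⟶ i), (EtCoh.pull (Xs.map a)).obj (S.E i) ⟶ S.E j :=
    fun {j i} a => (Groth.Agent.EtLimit.pushσ c F a).desc
  let ψ : ∀ i : ιᵒᵖ, (EtCoh.pull (c.π.app i)).obj (S.E i) ≅ (S.pullDiag c).obj (op i) :=
    fun i => Iso.refl _
  have hψ : ∀ (j i : ιᵒᵖ) (a : j ⟶ i), (EtCoh.pull (c.π.app j)).map (s a) ≫ (ψ j).hom =
      (Groth.Agent.EtLimit.FHom.κ (c.π.app j) (Xs.map a) (c.w a) (S.E i)).hom ≫
        (ψ i).hom ≫ (S.pullDiag c).map a.op := fun j i a =>
    (Category.comp_id _).trans ((S.pull_desc_σ c j i a).trans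
      (congrArg (_ ≫ ·) (Category.id_comp _).symm))
  refine ⟨fun ξ => ?_, fun j ξj h => ?_⟩
  · obtain ⟨j, η, hη⟩ := Groth.Agent.EtLimit.sys_surjective hc s hK ψ hψ n ξ
    refine ⟨j.unop, η, Eq.trans ?_ hη⟩
    show Sheaf.H.map ((EtCoh.pullPushAdj (c.π.app j)).counit.app F) n _ = _
    exact congrArg (fun q => Sheaf.H.map q n _)
      ((Groth.Agent.EtLimit.desc_pushε c F j).symm.trans (Category.id_comp _).symm)
  · obtain ⟨k, a, ha⟩ := Groth.Agent.EtLimit.sys_injective hc s hK ψ hψ
      (fun k j i b a => S.desc_σ_comp k j i b a) n (op j) ξj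
      ((congrArg (fun q => Sheaf.H.map q n _)
        ((Category.id_comp _).trans (Groth.Agent.EtLimit.desc_pushε c F (op j)))).trans h)
    refine ⟨k.unop, leOfHom a.unop, Eq.trans ?_ ha⟩
    show Sheaf.H.map ((EtCoh.pullPushAdj (Xs.map a)).counit.app _) n
      (EtCore.Hpull (Xs.map a) _ n (Sheaf.H.map _ n ξj)) = _
    refine (congrArg _ (Groth.Agent.EtLimit.Hpull_H_map _ _ n _)).trans ?_
    refine (Groth.Agent.EtLimit.H_map_map _ _ n _).trans ?_
    exact congrArg (fun q => Sheaf.H.map q n _) (Groth.Agent.EtLimit.desc_pushσ c F a).symm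

end Groth.Agent.S3884
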