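import Groth.Statements.S14389
import Groth.Agent.EtaleSite.HpullFunctor
-- import your own Groth.Agent.* helpers here

set_option autoImplicit false
open CategoryTheory CategoryTheory.Limits AlgebraicGeometry Opposite
universe u
open EtLim

namespace Groth.Agent.S14389

open Groth.Agent.EtaleSite in
theorem congr_comp {X Y : Scheme.{u}} {a b : X ⟶ Y} (h : a = b) [PreservesFiniteLimits (EtCoh.pull a)]
    [PreservesFiniteLimits (EtCoh.pull b)] {G : EtCoh.Ab Y} {F : EtCoh.Ab X}
    (i : (EtCoh.pull a).obj G ⟶ F) (j : (EtCoh.pull b).obj G ⟶ F)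
    (hij : (EtCoh.pullPushAdj a).homEquiv _ _ i ≫ (EtCoh.pushCongr h).hom.app F =
      (EtCoh.pullPushAdj b).homEquiv _ _ j) (n : ℕ) (e : EtCoh.H Y G n) :
    (EtCore.Hpull a G n e).comp (Abelian.Ext.mk₀ i) (add_zero n) =
      (EtCore.Hpull b G n e).comp (Abelian.Ext.mk₀ j) (add_zero n) := by
  subst h
  have h1 : (EtCoh.pushCongr (rfl : a = a)).hom.app F = 𝟙 _ := by
    have hc : ∀ V : Y.Etale, (MorphismProperty.Over.pullbackCongr (P := EtCoh.etaleMP) (Q := ⊤)
        (rfl : a = a)).inv.app V = 𝟙 _ := fun V => by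
      ext
      simp [MorphismProperty.Over.pullbackCongr]
      first | exact pullback.congrHom_inv _ _ | (apply pullback.hom_ext <;> exact (Category.id_comp _).symm)
    apply Sheaf.hom_ext
    apply NatTrans.ext
    funext V
    change F.obj.map ((MorphismProperty.Over.pullbackCongr (P := EtCoh.etaleMP) (Q := ⊤)
        (rfl : a = a)).inv.app V.unop).op = 𝟙 _
    rw [hc]
    exact F.obj.map_id _
  rw [h1, Category.comp_id] at hij
  rw [((EtCoh.pullPushAdj a).homEquiv _ _).injective hij]

/-- For small étale sites of schemes: let g' ≫ f = f' ≫ g be a commutative square of schemes with f : X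
→ Y, g : Y' → Y, f' : X' → Y', g' : X' → X, and let F be an abelian sheaf on the small étale site of
X. For every q and every class ζ in H^q(Y_ét, f_*F), the pullback along g' of the image of ζ under
the canonical map H^q(Y, f_*F) → H^q(X, F) (pull back along f, then apply the counit f⁻¹f_*F → F)
equals the image of g^*ζ ∈ H^q(Y', g⁻¹f_*F) under the map induced by the base-change morphism
g⁻¹f_*F → f'_*g'⁻¹F followed by the canonical map H^q(Y', f'_*g'⁻¹F) → H^q(X', g'⁻¹F). (The
published statement is for a commutative square of topoi with a chosen isomorphism f_*g'_* ≅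
g_*f'_*; this row is the square of étale topoi of schemes. Exactness of pullback of abelian sheaves,
which always holds, is carried as instance hypotheses.) -/
theorem result {X Y X' Y' : Scheme.{u}} (f : X ⟶ Y)
    (g : Y' ⟶ Y) (f' : X' ⟶ Y') (g' : X' ⟶ X) (w : g' ≫ f = f' ≫ g) (F : EtCoh.Ab X) (q : ℕ)
    [PreservesFiniteLimits (EtCoh.pull f)] [PreservesFiniteLimits (EtCoh.pull g)]
    [PreservesFiniteLimits (EtCoh.pull f')] [PreservesFiniteLimits (EtCoh.pull g')]
    (ζ : EtCoh.H Y ((EtCoh.push f).obj F) q) :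
    EtCore.Hpull g' F q (EtLim.HofPush f F q ζ) =
      EtLim.HofPush f' ((EtCoh.pull g').obj F) q
        (((EtCoh.HF Y' q).map (EtCoh.baseChange0 f g f' g' w F)).hom
          (EtCore.Hpull g ((EtCoh.push f).obj F) q ζ)) := by
  haveI : PreservesFiniteLimits (EtCoh.pull (g' ≫ f)) := preservesFiniteLimits_of_natIso (EtCore.pullComp g' f).symm
  haveI : PreservesFiniteLimits (EtCoh.pull (f' ≫ g)) := preservesFiniteLimits_of_natIso (EtCore.pullComp f' g).symm
  have L := Groth.Agent.EtaleSite.HpullFunctor.Hpull_comp_comp g' f q ζ ((EtCoh.pullPushAdj f).counit.app F)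
    (𝟙 ((EtCoh.pull g').obj F)) _ rfl
  refine ((Abelian.Ext.comp_mk₀_id _).symm.trans L).trans (Eq.trans (congr_comp w _ _ ?_ q ζ)
    (Groth.Agent.EtaleSite.HpullFunctor.Hpull_comp_comp f' g q ζ (EtCoh.baseChange0 f g f' g' w F)
      ((EtCoh.pullPushAdj f').counit.app ((EtCoh.pull g').obj F)) _ rfl).symm)
  rw [Groth.Agent.EtaleSite.HpullFunctor.pullComp_homEquiv, Groth.Agent.EtaleSite.HpullFunctor.pullComp_homEquiv]
  have h1 : (EtCoh.pullPushAdj f).homEquiv _ _ ((EtCoh.pullPushAdj g').homEquiv _ _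
      ((EtCoh.pull g').map ((EtCoh.pullPushAdj f).counit.app F) ≫ 𝟙 ((EtCoh.pull g').obj F))) =
      (EtCoh.push f).map ((EtCoh.pullPushAdj g').unit.app F) := by
    simp [Adjunction.homEquiv_unit]
  have h2 : (EtCoh.pullPushAdj f').homEquiv _ _ ((EtCoh.pull f').map (EtCoh.baseChange0 f g f' g' w F) ≫
      (EtCoh.pullPushAdj f').counit.app ((EtCoh.pull g').obj F)) = EtCoh.baseChange0 f g f' g' w F := by
    simp [Adjunction.homEquiv_unit]
  erw [h1, h2]
  simp [EtCoh.baseChange0]

end Groth.Agent.S14389
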