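import Groth.Statements.S14451
import Groth.Agent.EtaleSite.AdjExt


set_option autoImplicit false
universe u
open CategoryTheory CategoryTheory.Limits AlgebraicGeometry
open EtCore

namespace Groth.Agent.S14451

theorem bijective_aux {X Y : Scheme.{u}} (f : X ⟶ Y)
    [PreservesFiniteLimits (EtCoh.pull f)] (F : EtCoh.Ab X) (p : ℕ)
    (h : Function.Bijective
      (EtaleSite.AdjExt.toExt (EtCoh.pullPushAdj f) (EtCoh.const Y ℤ) F p)) :
    Function.Bijective (EtLim.HofPush f F p) := by
  let c := EtCore.pullConst f ℤ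
  let e : Abelian.Ext.{u + 1} ((EtCoh.pull f).obj (EtCoh.const Y ℤ)) F p ≃
      Abelian.Ext.{u + 1} (EtCoh.const X ℤ) F p :=
    { toFun := fun a => (Abelian.Ext.mk₀ c.inv).comp a (zero_add p)
      invFun := fun a => (Abelian.Ext.mk₀ c.hom).comp a (zero_add p)
      left_inv := fun a => by simp
      right_inv := fun a => by simp }
  have key : (EtLim.HofPush f F p : EtCoh.H Y ((EtCoh.push f).obj F) p → EtCoh.H X F p) =
      e ∘ EtaleSite.AdjExt.toExt (EtCoh.pullPushAdj f) (EtCoh.const Y ℤ) F p := by
    funext a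
    exact Abelian.Ext.comp_assoc_of_third_deg_zero _ _ _ (zero_add p)
  rw [key]
  exact e.bijective.comp h

/-- Let f : X ⟶ Y be a morphism of schemes and F an abelian sheaf on the small étale site of X whose
higher direct images R^q f_* F vanish for all q > 0. Then for every p the canonical map H^p(Y, f_*
F) → H^p(X, F) (pull back along f, then apply the counit f⁻¹ f_* F ⟶ F) is bijective. (Exactness of
f⁻¹, which always holds, is carried as an instance hypothesis.) -/
theorem result {X Y : Scheme.{u}} (f : X ⟶ Y)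
    [PreservesFiniteLimits (EtCoh.pull f)] (F : EtCoh.Ab X)
    (hR : ∀ q : ℕ, 0 < q → IsZero ((EtCoh.Rpush f q).obj F)) (p : ℕ) :
    Function.Bijective (EtLim.HofPush f F p) := by
  haveI : PreservesLimitsOfSize.{0, 0} (EtCoh.push f) := (EtCoh.pullPushAdj f).rightAdjoint_preservesLimits
  haveI : PreservesFiniteLimits (EtCoh.push f) := PreservesLimitsOfSize.preservesFiniteLimits _
  refine bijective_aux f F p ?_
  exact EtaleSite.AdjExt.toExt_bijective (EtCoh.pullPushAdj f) p (EtCoh.const Y ℤ) F hR

end Groth.Agent.S14451
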