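import Groth.Statements.S0124
import Groth.Agent.EtConsAb.Colim
import Groth.Agent.EtColim.CohColimLarge

set_option autoImplicit false
universe u
open CategoryTheory CategoryTheory.Limits AlgebraicGeometry Opposite
open EtPBC

namespace Groth.Agent.S0124

/-- Part (1): if X is quasi-compact and quasi-separated and F is a torsion abelian sheaf on X_et, then
H^n(X_et, F) is a torsion abelian group for every n. -/
theorem result (X : Scheme.{u}) [CompactSpace X] [QuasiSeparatedSpace X]
    (F : EtCoh.Ab X) (hF : EtCoh.IsTorsion F) (n : ℕ) :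
    IsAddTorsion (EtCoh.H X F n) := by
  classical
  let P : Groth.Agent.EtConsAb.Stage F → Prop := fun _ => True
  have hP : ∀ p, ∃ q, p ≤ q ∧ P q := fun p => ⟨p, le_refl p, trivial⟩
  haveI := Groth.Agent.EtConsAb.Stage.directed_subtype P hP
  haveI : Nonempty {p // P p} := ⟨⟨Classical.arbitrary _, trivial⟩⟩
  obtain ⟨hcol⟩ := Groth.Agent.EtConsAb.Stage.nonempty_isColimit_cocone hF P hP
  intro x
  obtain ⟨p, y, rfl⟩ := (Groth.Agent.EtColim.CohColimLarge.coh_colimit n hcol).1 x
  let N := ∏ g ∈ p.1.1.1, g.n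
  have hN : N • 𝟙 p.1.obj = 0 := by
    rw [← cancel_epi (cokernel.π p.1.relMap), comp_zero, Preadditive.comp_nsmul, Category.comp_id,
      ← Category.id_comp (cokernel.π p.1.relMap), ← Preadditive.nsmul_comp]
    suffices h : N • 𝟙 (Groth.Agent.EtConsAb.genSum p.1.1.1) = 0 by rw [h, zero_comp]
    refine biproduct.hom_ext' _ _ fun g => ?_
    obtain ⟨k, hk⟩ : g.1.n ∣ N := Finset.dvd_prod_of_mem _ g.2
    rw [comp_zero, Preadditive.comp_nsmul, Category.comp_id, ← Category.id_comp (biproduct.ι _ g),
      ← Preadditive.nsmul_comp, hk, mul_comm, mul_nsmul',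
      Groth.Agent.EtConsAb.nsmul_id_extZeroConst, nsmul_zero, zero_comp]
  have hy : N • y = 0 := by
    let Φ := (EtCoh.HF X n)
    haveI : Φ.Additive := by
      show (EtCoh.HF X n).Additive
      unfold EtCoh.HF
      infer_instance
    have h : Φ.map (N • 𝟙 p.1.obj) = N • 𝟙 (Φ.obj p.1.obj) := by
      rw [Functor.map_nsmul, CategoryTheory.Functor.map_id]
    rw [hN, Functor.map_zero] at h
    exact (congrArg (fun k => k y) h).symm
  exact isOfFinAddOrder_iff_nsmul_eq_zero.2 ⟨N, Finset.prod_pos fun g _ => g.pos,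
    (map_nsmul _ N y).symm.trans ((congrArg _ hy).trans (map_zero _))⟩

end Groth.Agent.S0124
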