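import Groth.Statements.S13198
import Mathlib.FieldTheory.PurelyInseparable.Basic
import Mathlib.RingTheory.Ideal.GoingUp
import Mathlib.RingTheory.Flat.Basic

set_option autoImplicit false
set_option linter.style.haveILetI false
universe u
open scoped TensorProduct
open Hensel

namespace Groth.Agent.S13198

/-- Let R be a local ring which is strictly henselian (henselian, with separably closed residue field),
A a local ring which is an integral R-algebra with local structure map and whose residue field is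
purely inseparable over that of R, and B a local ring with a local homomorphism R → B. Then A ⊗_R B
is a local ring, the map B → A ⊗_R B is local, and the residue field extension of A ⊗_R B over B is
purely inseparable: every element of A ⊗_R B has a p^n-th power, p the characteristic exponent of
the residue field of B, congruent modulo the maximal ideal to an element 1 ⊗ b. -/
theorem result
    (R A B : Type u) [CommRing R] [HenselianLocalRing R] [IsSepClosed (IsLocalRing.ResidueField R)]
    [CommRing A] [IsLocalRing A] [Algebra R A] [IsLocalHom (algebraMap R A)] [Algebra.IsIntegral R A]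
    [IsPurelyInseparable (IsLocalRing.ResidueField R) (IsLocalRing.ResidueField A)]
    [CommRing B] [IsLocalRing B] [Algebra R B] [IsLocalHom (algebraMap R B)] :
    ∃ _ : IsLocalRing (A ⊗[R] B),
      IsLocalHom (Algebra.TensorProduct.includeRight : B →ₐ[R] A ⊗[R] B).toRingHom ∧
      ∀ x : A ⊗[R] B, ∃ (n : ℕ) (b : B),
        x ^ (ringExpChar (IsLocalRing.ResidueField B)) ^ n - (1 : A) ⊗ₜ[R] b ∈ IsLocalRing.maximalIdeal (A ⊗[R] B) := by
  classical
  let kR := IsLocalRing.ResidueField R
  let q := ringExpChar kR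
  haveI : ExpChar kR q := inferInstance
  let K : Ideal (A ⊗[R] B) :=
    (IsLocalRing.maximalIdeal A).map (Algebra.TensorProduct.includeLeft : A →ₐ[R] A ⊗[R] B).toRingHom ⊔
      (IsLocalRing.maximalIdeal B).map (Algebra.TensorProduct.includeRight : B →ₐ[R] A ⊗[R] B).toRingHom
  letI : Algebra B (A ⊗[R] B) := Algebra.TensorProduct.rightAlgebra
  haveI : Algebra.IsIntegral B (A ⊗[R] B) := by
    refine ⟨fun x => ?_⟩
    induction x with
    | zero => exact isIntegral_zero
    | add x y hx hy => exact hx.add hy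
    | tmul a b =>
      have h1 : IsIntegral B (a ⊗ₜ[R] (1 : B)) := by
        have := (Algebra.IsIntegral.isIntegral (R := R) a).map
          (Algebra.TensorProduct.includeLeft : A →ₐ[R] A ⊗[R] B)
        exact this.tower_top
      have h2 : IsIntegral B ((1 : A) ⊗ₜ[R] b) := isIntegral_algebraMap
      simpa using h1.mul h2
  -- every maximal ideal contains `K`
  have hK : ∀ M : Ideal (A ⊗[R] B), M.IsMaximal → K ≤ M ∧
      M.comap (Algebra.TensorProduct.includeRight : B →ₐ[R] A ⊗[R] B).toRingHom = IsLocalRing.maximalIdeal B := by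
    intro M hM
    have hB : M.comap (algebraMap B (A ⊗[R] B)) = IsLocalRing.maximalIdeal B :=
      IsLocalRing.eq_maximalIdeal (Ideal.isMaximal_comap_of_isIntegral_of_isMaximal (R := B) M)
    have hB' : M.comap (Algebra.TensorProduct.includeRight : B →ₐ[R] A ⊗[R] B).toRingHom =
        IsLocalRing.maximalIdeal B := hB
    refine ⟨sup_le (Ideal.map_le_iff_le_comap.2 ?_) (Ideal.map_le_iff_le_comap.2 hB'.ge), hB'⟩
    let N := M.comap (Algebra.TensorProduct.includeLeft : A →ₐ[R] A ⊗[R] B).toRingHom
    haveI : N.IsPrime := Ideal.comap_isPrime _ _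
    have hN : N.comap (algebraMap R A) = IsLocalRing.maximalIdeal R := by
      ext r
      have e : algebraMap R A r ⊗ₜ[R] (1 : B) = (1 : A) ⊗ₜ[R] algebraMap R B r := by
        rw [Algebra.algebraMap_eq_smul_one, Algebra.algebraMap_eq_smul_one, TensorProduct.smul_tmul]
      show algebraMap R A r ⊗ₜ[R] (1 : B) ∈ M ↔ _
      rw [e]
      show algebraMap R B r ∈ M.comap (Algebra.TensorProduct.includeRight : B →ₐ[R] A ⊗[R] B).toRingHom ↔ _
      rw [hB']
      simp [IsLocalRing.mem_maximalIdeal, mem_nonunits_iff]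
    haveI : (N.comap (algebraMap R A)).IsMaximal := hN ▸ inferInstance
    have hNm : N.IsMaximal := Ideal.isMaximal_of_isIntegral_of_isMaximal_comap (R := R) N inferInstance
    exact (IsLocalRing.eq_maximalIdeal hNm).ge
  -- `A ⊗ B` is nontrivial
  haveI hnt : Nontrivial (A ⊗[R] B) := by
    let fA : A →ₐ[R] IsLocalRing.ResidueField A ⊗[kR] IsLocalRing.ResidueField B :=
      ((Algebra.TensorProduct.includeLeft : IsLocalRing.ResidueField A →ₐ[kR] _).restrictScalars R).comp
        (IsScalarTower.toAlgHom R A (IsLocalRing.ResidueField A))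
    let fB : B →ₐ[R] IsLocalRing.ResidueField A ⊗[kR] IsLocalRing.ResidueField B :=
      ((Algebra.TensorProduct.includeRight : IsLocalRing.ResidueField B →ₐ[kR] _).restrictScalars R).comp
        (IsScalarTower.toAlgHom R B (IsLocalRing.ResidueField B))
    haveI : Nontrivial (IsLocalRing.ResidueField A ⊗[kR] IsLocalRing.ResidueField B) :=
      (Algebra.TensorProduct.includeLeft_injective (R := kR) (S := kR) (A := IsLocalRing.ResidueField A)
        (B := IsLocalRing.ResidueField B) (RingHom.injective _)).nontrivial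
    exact (Algebra.TensorProduct.lift fA fB fun _ _ => Commute.all _ _).toRingHom.domain_nontrivial
  obtain ⟨M₀, hM₀⟩ := Ideal.exists_maximal (A ⊗[R] B)
  let Q := (A ⊗[R] B) ⧸ K
  haveI : Nontrivial Q := Ideal.Quotient.nontrivial_iff.2 fun h => hM₀.ne_top (top_le_iff.1 (h ▸ (hK M₀ hM₀).1))
  let ρ : kR →+* Q := Ideal.Quotient.lift (IsLocalRing.maximalIdeal R) ((Ideal.Quotient.mk K).comp (algebraMap R _))
    fun r hr => Ideal.Quotient.eq_zero_iff_mem.2 (Ideal.mem_sup_left (by
      have : algebraMap R A r ∈ IsLocalRing.maximalIdeal A := by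
        simpa [IsLocalRing.mem_maximalIdeal, mem_nonunits_iff] using hr
      exact Ideal.mem_map_of_mem (Algebra.TensorProduct.includeLeft : A →ₐ[R] A ⊗[R] B).toRingHom this))
  haveI : ExpChar Q q := expChar_of_injective_ringHom (RingHom.injective ρ) q
  haveI : ExpChar (IsLocalRing.ResidueField B) q :=
    expChar_of_injective_ringHom (RingHom.injective (algebraMap kR (IsLocalRing.ResidueField B))) q
  have hq : ringExpChar (IsLocalRing.ResidueField B) = q := ringExpChar.eq _ q
  have key : ∀ x : A ⊗[R] B, ∃ n : ℕ, ∀ m, n ≤ m → ∃ b : B,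
      x ^ q ^ m - (1 : A) ⊗ₜ[R] b ∈ K := by
    intro x
    induction x with
    | zero => exact ⟨0, fun m _ => ⟨0, by rw [zero_pow (expChar_pow_pos kR q m).ne', TensorProduct.tmul_zero, sub_zero]; exact zero_mem K⟩⟩
    | add x y hx hy =>
      obtain ⟨n, hn⟩ := hx
      obtain ⟨n', hn'⟩ := hy
      refine ⟨max n n', fun m hm => ?_⟩
      obtain ⟨b, hb⟩ := hn m (le_of_max_le_left hm)
      obtain ⟨b', hb'⟩ := hn' m (le_of_max_le_right hm)
      refine ⟨b + b', ?_⟩
      rw [← Ideal.Quotient.eq] at hb hb' ⊢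
      rw [map_pow, map_add, add_pow_expChar_pow, ← map_pow, ← map_pow, hb, hb', ← map_add, TensorProduct.tmul_add]
    | tmul a b =>
      obtain ⟨n, c, hc⟩ := IsPurelyInseparable.pow_mem kR q (IsLocalRing.residue A a)
      refine ⟨n, fun m hm => ?_⟩
      obtain ⟨d, rfl⟩ := Nat.exists_eq_add_of_le hm
      obtain ⟨r, rfl⟩ := IsLocalRing.residue_surjective c
      have hmem : a ^ q ^ (n + d) - algebraMap R A (r ^ q ^ d) ∈ IsLocalRing.maximalIdeal A := by
        rw [← IsLocalRing.residue_eq_zero_iff, map_sub, map_pow, pow_add, pow_mul, ← hc, map_pow, map_pow, sub_eq_zero]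
        rfl
      refine ⟨algebraMap R B (r ^ q ^ d) * b ^ q ^ (n + d), ?_⟩
      refine Ideal.mem_sup_left ?_
      have h := Ideal.mul_mem_right ((1 : A) ⊗ₜ[R] b ^ q ^ (n + d)) _ (Ideal.mem_map_of_mem
        (Algebra.TensorProduct.includeLeft : A →ₐ[R] A ⊗[R] B).toRingHom hmem)
      have e : (a ⊗ₜ[R] b) ^ q ^ (n + d) - (1 : A) ⊗ₜ[R] (algebraMap R B (r ^ q ^ d) * b ^ q ^ (n + d)) =
          ((a ^ q ^ (n + d) - algebraMap R A (r ^ q ^ d)) ⊗ₜ[R] (1 : B)) * ((1 : A) ⊗ₜ[R] b ^ q ^ (n + d)) := by
        rw [Algebra.TensorProduct.tmul_pow, Algebra.TensorProduct.tmul_pow, one_pow,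
          Algebra.TensorProduct.tmul_mul_tmul, mul_one, one_mul, TensorProduct.sub_tmul, ← Algebra.smul_def, TensorProduct.tmul_smul,
        TensorProduct.smul_tmul', ← Algebra.algebraMap_eq_smul_one]
      exact e ▸ h
  have hall : ∀ M : Ideal (A ⊗[R] B), M.IsMaximal → M = M₀ := by
    intro M hM
    refine hM.eq_of_le hM₀.ne_top fun x hx => ?_
    obtain ⟨n, hn⟩ := key x
    obtain ⟨b, hb⟩ := hn n le_rfl
    have h1 : (1 : A) ⊗ₜ[R] b ∈ M := by
      have := M.sub_mem (Ideal.pow_mem_of_mem M hx _ (expChar_pow_pos kR q n)) ((hK M hM).1 hb)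
      simpa using this
    have h2 : b ∈ IsLocalRing.maximalIdeal B := (hK M hM).2 ▸ h1
    have h3 : (1 : A) ⊗ₜ[R] b ∈ M₀ := by
      have := (hK M₀ hM₀).2.symm ▸ h2
      exact this
    have h4 : x ^ q ^ n ∈ M₀ := by simpa using M₀.add_mem ((hK M₀ hM₀).1 hb) h3
    exact hM₀.isPrime.mem_of_pow_mem _ h4
  haveI : IsLocalRing (A ⊗[R] B) := IsLocalRing.of_unique_max_ideal ⟨M₀, hM₀, hall⟩
  have hmax := hK _ (IsLocalRing.maximalIdeal.isMaximal (A ⊗[R] B))
  refine ⟨inferInstance, ⟨fun b hb => ?_⟩, fun x => ?_⟩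
  · by_contra hnb
    have : b ∈ (IsLocalRing.maximalIdeal (A ⊗[R] B)).comap
        (Algebra.TensorProduct.includeRight : B →ₐ[R] A ⊗[R] B).toRingHom := hmax.2.symm ▸ hnb
    exact this hb
  · obtain ⟨n, hn⟩ := key x
    obtain ⟨b, hb⟩ := hn n le_rfl
    exact ⟨n, b, hq.symm ▸ hmax.1 hb⟩

end Groth.Agent.S13198
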