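import Groth.Statements.S9623
import Groth.Agent.CAlgA.GeomTensor

set_option autoImplicit false
universe u
open CAlg

namespace Groth.Agent.S9623

open TensorProduct in
/-- Let k be a separably closed field and R, S two k-algebras with connected (nonempty) spectra. Then
Spec(R ⊗_k S) is connected. -/
theorem result {k R S : Type u} [Field k] [IsSepClosed k] [CommRing R] [CommRing S] [Algebra k R] [Algebra k S]
    [ConnectedSpace (PrimeSpectrum R)] [ConnectedSpace (PrimeSpectrum S)] :
    ConnectedSpace (PrimeSpectrum (R ⊗[k] S)) := by
  refine Groth.Agent.CAlgA.GeomTensor.connectedSpace_tensor fun p => ?_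
  have h : ConnectedSpace (PrimeSpectrum (S ⊗[k] p.asIdeal.ResidueField)) := by
    refine Groth.Agent.CAlgA.GeomTensor.connectedSpace_tensor fun q => ?_
    have : (nilradical q.asIdeal.ResidueField).IsPrime := by rw [nilradical_eq_zero]; exact Ideal.isPrime_bot
    have := PrimeSpectrum.irreducibleSpace_iff_isPrime_nilradical.2
      (Groth.Agent.FBase.TensorAlgClosed.isPrime_nilradical_tensor_of_isSepClosed (k := k) (A := q.asIdeal.ResidueField) (K := p.asIdeal.ResidueField))
    infer_instance
  exact (PrimeSpectrum.homeomorphOfRingEquiv (Algebra.TensorProduct.comm k S p.asIdeal.ResidueField).toRingEquiv).connectedSpace_iff.1 h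

end Groth.Agent.S9623
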