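import Groth.Statements.S0674
import Groth.Agent.EtSubmersive.ShBC
import Groth.Agent.S0537
import Groth.Agent.IndAlg.Etale
import Groth.Agent.Hens.IndEtale
import Groth.Agent.Hens.Unique
import Groth.Agent.AlgSp.GorCore

set_option autoImplicit false
open CategoryTheory CategoryTheory.Limits AlgebraicGeometry Opposite
universe u
open EtCore

namespace Groth.Agent.S0674

open Groth.Agent in
theorem specOf_closedPoint (Z : Scheme.{u}) (z : Z) (R : Type u) [CommRing R] [IsLocalRing R]
    [Algebra (Z.presheaf.stalk z) R] [IsLocalHom (algebraMap (Z.presheaf.stalk z) R)] :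
    Hens2.specOf Z z R (IsLocalRing.closedPoint R) = z := by
  show Z.fromSpecStalk z (PrimeSpectrum.comap (algebraMap (Z.presheaf.stalk z) R) _) = z
  rw [IsLocalRing.comap_closedPoint]
  exact Scheme.fromSpecStalk_closedPoint

theorem exists_lift_localHom (L L' R R' : Type u) [CommRing L] [IsLocalRing L] [CommRing L'] [IsLocalRing L']
    [CommRing R] [IsLocalRing R] [CommRing R'] [IsLocalRing R']
    [Algebra L R] [IsLocalHom (algebraMap L R)] [hR : Hensel.IsStrictHenselization L R]
    [Algebra L' R'] [IsLocalHom (algebraMap L' R')] [hR' : Hensel.IsStrictHenselization L' R']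
    (φ : L →+* L') [IsLocalHom φ] :
    ∃ (ψ : R →+* R'), IsLocalHom ψ ∧ ψ.comp (algebraMap L R) = (algebraMap L' R').comp φ := by
  haveI := hR'.henselian
  haveI := hR'.isSepClosure.sep_closed
  haveI := hR.isSepClosure.separable
  let f := (algebraMap L' R').comp φ
  letI : Algebra (IsLocalRing.ResidueField L) (IsLocalRing.ResidueField R') :=
    (IsLocalRing.ResidueField.map f).toAlgebra
  let τ : IsLocalRing.ResidueField R →ₐ[IsLocalRing.ResidueField L] IsLocalRing.ResidueField R' :=
    IsSepClosed.lift
  obtain ⟨ψ, ⟨h₁, h₂⟩, -⟩ := hR.universal R' f τ.toRingHom τ.comp_algebraMap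
  refine ⟨ψ, ⟨fun a ha => ?_⟩, h₁⟩
  rw [← IsLocalRing.residue_ne_zero_iff_isUnit] at ha ⊢
  rw [h₂] at ha
  exact fun h0 => ha (by rw [h0, map_zero])

/-- Let f : X -> S be flat and assume that for every point x of X and all strict henselizations R_S of
the local ring of S at f(x) and R_X of the local ring of X at x, every local homomorphism R_S -> R_X
compatible with the map of local rings induces a morphism Spec R_X -> Spec R_S with connected
geometric fibres. Then for every cartesian square Y = X x_S T with g : T -> S quasi-compact and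
quasi-separated and projections h : Y -> X, e : Y -> T, the base change map from f^{-1} g_* F to h_*
e^{-1} F is an isomorphism for every abelian sheaf F on the small etale site of T. -/
theorem result {X S : Scheme.{u}} (f : X ⟶ S) [Flat f]
    (hconn : ∀ (x : X) (RS : Type u) [CommRing RS] [IsLocalRing RS] [Algebra (S.presheaf.stalk (f.base x)) RS]
      [IsLocalHom (algebraMap (S.presheaf.stalk (f.base x)) RS)]
      [Hensel.IsStrictHenselization (S.presheaf.stalk (f.base x)) RS]
      (RX : Type u) [CommRing RX] [IsLocalRing RX] [Algebra (X.presheaf.stalk x) RX]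
      [IsLocalHom (algebraMap (X.presheaf.stalk x) RX)] [Hensel.IsStrictHenselization (X.presheaf.stalk x) RX]
      (ψ : RS →+* RX) [IsLocalHom ψ],
      ψ.comp (algebraMap (S.presheaf.stalk (f.base x)) RS) = (algebraMap (X.presheaf.stalk x) RX).comp (f.stalkMap x).hom →
      ∀ (Ω : Type u) [Field Ω] [IsAlgClosed Ω] (η : Spec (CommRingCat.of Ω) ⟶ Spec (CommRingCat.of RS)),
        ConnectedSpace ↥(pullback (Spec.map (CommRingCat.ofHom ψ)) η))
    {Y T : Scheme.{u}} (g : T ⟶ S) [QuasiCompact g] [QuasiSeparated g] (h : Y ⟶ X) (e : Y ⟶ T)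
    (hsq : IsPullback e h g f) (F : EtCoh.Ab T) :
    IsIso (EtCoh.baseChange0 g f h e hsq.w F) := by
  refine EtSubmersive.isIso_baseChange0 g f h e hsq F fun x => ?_
  obtain ⟨RS, _, _, _, _, iS⟩ := S0537.result (S.presheaf.stalk (f.base x))
  obtain ⟨RX, _, _, _, _, iX⟩ := S0537.result (X.presheaf.stalk x)
  haveI := iS.henselian
  haveI := iX.henselian
  haveI := iS.isSepClosure.sep_closed
  haveI := iX.isSepClosure.sep_closed
  obtain ⟨ψ, hψl, hψ⟩ := exists_lift_localHom (S.presheaf.stalk (f.base x)) (X.presheaf.stalk x) RS RX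
    (f.stalkMap x).hom
  obtain ⟨PS⟩ := EtLimit.nonempty_etPres S (f.base x) RS
  obtain ⟨PX⟩ := EtLimit.nonempty_etPres X x RX
  refine ⟨RS, RX, _, _, inferInstance, inferInstance, inferInstance, inferInstance,
    Hens2.specOf S (f.base x) RS, Hens2.specOf X x RX, PS, PX, ψ, hψl, ?_, ?_,
    specOf_closedPoint X x RX, hconn x RS RX ψ hψ⟩
  · haveI : Algebra.WeaklyEtale (S.presheaf.stalk (f.base x)) RS :=
      IndAlg.Etale.weaklyEtale (IndAlg.fac_algEquiv (Hens.strictHenselizationEquiv RS) Hens.fac_etLoc)
    refine AlgSp.GorCore.flat_of_weaklyEtale_comp (R := S.presheaf.stalk (f.base x)) ψ ?_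
    rw [hψ]
    haveI : Module.FaithfullyFlat (X.presheaf.stalk x) RX :=
      Hens.faithfullyFlat_of_isStrictHenselization RX
    exact RingHom.Flat.comp (Flat.stalkMap f x) (RingHom.flat_algebraMap_iff.2 inferInstance)
  · show Spec.map _ ≫ Spec.map _ ≫ _ = _
    rw [← Spec.map_comp_assoc, ← CommRingCat.ofHom_comp, hψ, Category.assoc,
      ← Scheme.SpecMap_stalkMap_fromSpecStalk, ← Spec.map_comp_assoc]
    rfl

end Groth.Agent.S0674
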