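import Groth.Statements.S0163
import Groth.Agent.S0674
import Groth.Agent.EtConsAb.RedFibreConn
import Groth.Agent.EtLimit.Nbhd

set_option autoImplicit false
universe u
open CategoryTheory CategoryTheory.Limits AlgebraicGeometry Opposite
open EtPBC

namespace Groth.Agent.S0163

open TensorProduct in
theorem isReduced_tensor_chart {X S : Scheme.{u}} (f : X ⟶ S)
    (hred : ∀ (s : S) (K : Type u) [Field K] (k : Spec (CommRingCat.of K) ⟶ S),
      Set.range k = {s} → IsReduced (pullback f k))
    {W : S.Opens} (hW : IsAffineOpen W) {U : X.Opens} (hU : IsAffineOpen U) (hle : U ≤ f ⁻¹ᵁ W)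
    (K : Type u) [Field K] [Algebra Γ(S, W) K] :
    letI := (f.appLE W U hle).hom.toAlgebra
    _root_.IsReduced (K ⊗[Γ(S, W)] Γ(X, U)) := by
  letI := (f.appLE W U hle).hom.toAlgebra
  let k : Spec (CommRingCat.of K) ⟶ S :=
    Spec.map (CommRingCat.ofHom (algebraMap Γ(S, W) K)) ≫ hW.fromSpec
  let pt : ↥(Spec (CommRingCat.of K)) := default
  haveI : IsReduced (pullback f k) := hred (k pt) K k (by
    ext z
    exact ⟨by rintro ⟨w, rfl⟩; rw [Subsingleton.elim w pt]; exact Set.mem_singleton _,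
      fun hz => ⟨pt, (Set.mem_singleton_iff.1 hz).symm⟩⟩)
  let q : Spec Γ(X, U) ⟶ Spec Γ(S, W) := Spec.map (f.appLE W U hle)
  let c : Spec (CommRingCat.of K) ⟶ Spec Γ(S, W) := Spec.map (CommRingCat.ofHom (algebraMap Γ(S, W) K))
  haveI : IsReduced (pullback q c) :=
    isReduced_of_isOpenImmersion (pullback.map q c f k hU.fromSpec (𝟙 _) hW.fromSpec
      (hW.SpecMap_appLE_fromSpec f hU hle) (Category.id_comp _).symm)
  haveI : IsReduced (Spec (CommRingCat.of (Γ(X, U) ⊗[Γ(S, W)] K))) :=
    isReduced_of_isOpenImmersion (pullbackSpecIso Γ(S, W) Γ(X, U) K).inv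
  haveI : _root_.IsReduced (Γ(X, U) ⊗[Γ(S, W)] K) :=
    (affine_isReduced_iff (CommRingCat.of (Γ(X, U) ⊗[Γ(S, W)] K))).1 inferInstance
  exact isReduced_of_injective (Algebra.TensorProduct.comm Γ(S, W) K Γ(X, U)) (AlgEquiv.injective _)

open TensorProduct in
theorem connectedSpace_fibre {X S : Scheme.{u}} (f : X ⟶ S) [Flat f] [LocallyOfFinitePresentation f]
    (hred : ∀ (s : S) (K : Type u) [Field K] (k : Spec (CommRingCat.of K) ⟶ S),
      Set.range k = {s} → IsReduced (pullback f k))
    (x : X) (RS : Type u) [CommRing RS] [IsLocalRing RS] [Algebra (S.presheaf.stalk (f.base x)) RS]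
    [IsLocalHom (algebraMap (S.presheaf.stalk (f.base x)) RS)]
    [iS : Hensel.IsStrictHenselization (S.presheaf.stalk (f.base x)) RS]
    (RX : Type u) [CommRing RX] [IsLocalRing RX] [Algebra (X.presheaf.stalk x) RX]
    [IsLocalHom (algebraMap (X.presheaf.stalk x) RX)]
    [iX : Hensel.IsStrictHenselization (X.presheaf.stalk x) RX]
    (ψ : RS →+* RX) [IsLocalHom ψ]
    (hψ : ψ.comp (algebraMap (S.presheaf.stalk (f.base x)) RS) =
      (algebraMap (X.presheaf.stalk x) RX).comp (f.stalkMap x).hom)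
    (Ω : Type u) [Field Ω] [IsAlgClosed Ω] (χ : RS →+* Ω) :
    letI := ψ.toAlgebra
    letI := χ.toAlgebra
    ConnectedSpace (PrimeSpectrum (Ω ⊗[RS] RX)) := by
  letI := ψ.toAlgebra
  letI := χ.toAlgebra
  haveI := iS.henselian
  haveI := iS.isSepClosure.sep_closed
  obtain ⟨W, hW, hsW, -⟩ :=
    exists_isAffineOpen_mem_and_subset (show f.base x ∈ (⊤ : S.Opens) from trivial)
  obtain ⟨U, hU, hxU, hle⟩ := exists_isAffineOpen_mem_and_subset (show x ∈ f ⁻¹ᵁ W from hsW)
  letI : Algebra Γ(S, W) (S.presheaf.stalk (f.base x)) := (S.presheaf.germ W (f.base x) hsW).hom.toAlgebra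
  letI : Algebra Γ(X, U) (X.presheaf.stalk x) := (X.presheaf.germ U x hxU).hom.toAlgebra
  haveI : IsLocalization.AtPrime (S.presheaf.stalk (f.base x)) (hW.primeIdealOf ⟨f.base x, hsW⟩).asIdeal :=
    hW.isLocalization_stalk ⟨f.base x, hsW⟩
  haveI : IsLocalization.AtPrime (X.presheaf.stalk x) (hU.primeIdealOf ⟨x, hxU⟩).asIdeal :=
    hU.isLocalization_stalk ⟨x, hxU⟩
  letI : Algebra Γ(S, W) Γ(X, U) := (f.appLE W U hle).hom.toAlgebra
  haveI : Algebra.FinitePresentation Γ(S, W) Γ(X, U) := f.finitePresentation_appLE hW hU hle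
  haveI : Module.Flat Γ(S, W) Γ(X, U) := f.flat_appLE hW hU hle
  letI : Algebra Γ(S, W) RS := ((algebraMap (S.presheaf.stalk (f.base x)) RS).comp
    (algebraMap Γ(S, W) (S.presheaf.stalk (f.base x)))).toAlgebra
  haveI : IsScalarTower Γ(S, W) (S.presheaf.stalk (f.base x)) RS := .of_algebraMap_eq' rfl
  letI : Algebra Γ(X, U) RX := ((algebraMap (X.presheaf.stalk x) RX).comp
    (algebraMap Γ(X, U) (X.presheaf.stalk x))).toAlgebra
  haveI : IsScalarTower Γ(X, U) (X.presheaf.stalk x) RX := .of_algebraMap_eq' rfl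
  letI : Algebra Γ(S, W) RX := ((algebraMap Γ(X, U) RX).comp (algebraMap Γ(S, W) Γ(X, U))).toAlgebra
  haveI : IsScalarTower Γ(S, W) Γ(X, U) RX := .of_algebraMap_eq' rfl
  haveI : IsScalarTower Γ(S, W) RS RX := IsScalarTower.of_algebraMap_eq fun r => by
    show algebraMap (X.presheaf.stalk x) RX ((X.presheaf.germ U x hxU).hom ((f.appLE W U hle).hom r)) =
      ψ (algebraMap (S.presheaf.stalk (f.base x)) RS ((S.presheaf.germ W (f.base x) hsW).hom r))
    rw [← RingHom.comp_apply ψ, hψ, RingHom.comp_apply, Scheme.Hom.germ_stalkMap_apply, Scheme.Hom.appLE,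
      CommRingCat.comp_apply, TopCat.Presheaf.germ_res_apply]
  haveI : IsLocalHom (algebraMap RS RX) := inferInstanceAs (IsLocalHom ψ)
  haveI : Module.Flat RS RX := by
    haveI : Algebra.WeaklyEtale (S.presheaf.stalk (f.base x)) RS :=
      IndAlg.Etale.weaklyEtale (IndAlg.fac_algEquiv (Hens.strictHenselizationEquiv RS) Hens.fac_etLoc)
    refine RingHom.flat_algebraMap_iff.1 ?_
    refine AlgSp.GorCore.flat_of_weaklyEtale_comp (R := S.presheaf.stalk (f.base x)) ψ ?_
    rw [hψ]
    haveI : Module.FaithfullyFlat (X.presheaf.stalk x) RX :=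
      Hens.faithfullyFlat_of_isStrictHenselization RX
    exact RingHom.Flat.comp (Flat.stalkMap f x) (RingHom.flat_algebraMap_iff.2 inferInstance)
  exact EtConsAb.RedFibre.connectedSpace_fibre
    (fun K _ _ => isReduced_tensor_chart f hred hW hU hle K)
    (EtLimit.fac_et_strictHenselization (L := S.presheaf.stalk (f.base x))
      (hW.primeIdealOf ⟨f.base x, hsW⟩).asIdeal)
    (EtLimit.fac_et_strictHenselization (L := X.presheaf.stalk x)
      (hU.primeIdealOf ⟨x, hxU⟩).asIdeal) Ω

/-- Consider a cartesian square of schemes Y = X ×_S T with projections h : Y → X and e : Y → T, where f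
: X → S is flat and locally of finite presentation with geometrically reduced fibres (for every
point s of S and every morphism Spec K → S from the spectrum of a field with image {s}, the base
change X ×_S Spec K is reduced), and g : T → S is quasi-compact and quasi-separated. Then for every
abelian sheaf F on T_ét the base change map f⁻¹g_*F → h_*e⁻¹F is an isomorphism. The published
statement is for sheaves of sets; stated here for abelian sheaves. (Continuity of the functors of
étale sites along f, g, h and e is carried as instance binders.) -/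
theorem result {X S Y T : Scheme.{u}} (f : X ⟶ S) [Flat f]
    [LocallyOfFinitePresentation f]
    (hred : ∀ (s : S) (K : Type u) [Field K] (k : Spec (CommRingCat.of K) ⟶ S),
      Set.range k = {s} → IsReduced (pullback f k))
    (g : T ⟶ S) [QuasiCompact g] [QuasiSeparated g] (h : Y ⟶ X) (e : Y ⟶ T) (hc : IsPullback e h g f)
    [EtCoh.BCCont f] [EtCoh.BCCont g] [EtCoh.BCCont h] [EtCoh.BCCont e] (F : EtCoh.Ab T) :
    IsIso (EtCoh.baseChange0 g f h e hc.w F) := by
  refine S0674.result f (fun x RS _ _ _ _ _ RX _ _ _ _ _ ψ _ hψ Ω _ _ η => ?_) g h e hc F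
  obtain ⟨χ, rfl⟩ : ∃ χ : RS →+* Ω, η = Spec.map (CommRingCat.ofHom χ) :=
    ⟨(Spec.preimage η).hom, by simp⟩
  letI := ψ.toAlgebra
  letI := χ.toAlgebra
  haveI := connectedSpace_fibre f hred x RS RX ψ hψ Ω χ
  haveI : ConnectedSpace (PrimeSpectrum (TensorProduct RS RX Ω)) :=
    (PrimeSpectrum.homeomorphOfRingEquiv
      (Algebra.TensorProduct.comm RS Ω RX).toRingEquiv).surjective.connectedSpace (Homeomorph.continuous _)
  haveI : ConnectedSpace ↥(Spec (CommRingCat.of (TensorProduct RS RX Ω))) := ‹_›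
  exact (Scheme.homeoOfIso (pullbackSpecIso RS RX Ω).symm).surjective.connectedSpace
    (Homeomorph.continuous _)

end Groth.Agent.S0163
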