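import Groth.Statements.S9674
import Groth.Agent.Nagata.NormalizationFinite

set_option autoImplicit false
universe u
open CategoryTheory CategoryTheory.Limits AlgebraicGeometry
open Mor

namespace Groth.Agent.S9674

/-- Let f : X ⟶ S be quasi-compact and quasi-separated. Assume every affine open of S has Nagata
coordinate ring, X is reduced, the irreducible components of X are locally finite (equivalently
every quasi-compact open of X has finitely many), and at each point x that is generic in a component
of X, the residue field of x is essentially of finite type over the residue field of f x. Then the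
normalization of S in X is finite over S. -/
theorem result {X S : Scheme.{u}} (f : X ⟶ S)
    [QuasiCompact f] [QuasiSeparated f] [IsReduced X]
    (hS : ∀ U : S.affineOpens, CAlg.IsNagata Γ(S, U))
    (hfin : LocallyFinite (fun Z : ↥(irreducibleComponents ↥X) => (Z : Set ↥X)))
    (hres : ∀ x : X, closure {x} ∈ irreducibleComponents ↥X → (f.residueFieldMap x).hom.EssFiniteType) :
    IsFinite f.fromNormalization := by
  classical
  refine Groth.Agent.Nagata.NormalizationFinite.isFinite_fromNormalization f fun U hU => ?_
  let _ := (f.app U).hom.toAlgebra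
  have hA := hS ⟨U, hU⟩
  have := hA.1
  let G : Set X := {x | x ∈ f ⁻¹ᵁ U ∧ closure {x} ∈ irreducibleComponents X}
  have hG : G.Finite := by
    have h1 := hfin.finite_nonempty_inter_compact (f.isCompact_preimage hU.isCompact)
    refine Set.Finite.of_injOn (f := fun x : X => closure {x}) (t := Subtype.val '' _) ?_ ?_
      (h1.image _)
    · intro x hx
      exact ⟨⟨_, hx.2⟩, ⟨x, subset_closure (Set.mem_singleton x), hx.1⟩, rfl⟩
    · intro x _ y _ h
      exact (inseparable_iff_closure_eq.mpr h).eq
  have : Finite G := hG.to_subtype
  let ψ : ∀ η : G, Γ(S, U) →+* X.residueField η := fun η =>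
    (S.evaluation U (f η) η.2.1 ≫ f.residueFieldMap η).hom
  let _ : ∀ η : G, Algebra Γ(S, U) (X.residueField η) := fun η => (ψ η).toAlgebra
  let φ : ∀ η : G, Γ(X, f ⁻¹ᵁ U) →ₐ[Γ(S, U)] X.residueField η := fun η =>
    { (X.evaluation (f ⁻¹ᵁ U) η η.2.1).hom with
      commutes' := fun a => (Scheme.evaluation_naturality_apply f η.1 η.2.1 a).symm }
  refine Groth.Agent.Nagata.NormalizationFinite.finite_integralClosure_of_pi _ φ (fun η => ?_)
    fun b hb => ?_
  · have : Algebra.EssFiniteType Γ(S, U) (X.residueField η) := by
      have h1 : (S.evaluation U (f η) η.2.1).hom.EssFiniteType := by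
        let _ := S.presheaf.algebra_section_stalk ⟨f η, η.2.1⟩
        have := hU.isLocalization_stalk ⟨f η, η.2.1⟩
        show (S.presheaf.germ U (f η) η.2.1 ≫ S.residue (f η)).hom.EssFiniteType
        rw [CommRingCat.hom_comp]
        refine RingHom.EssFiniteType.comp ?_
          (RingHom.FiniteType.essFiniteType <|
            RingHom.FiniteType.of_surjective _ (S.residue_surjective (f η)))
        exact RingHom.essFiniteType_algebraMap.mpr
          (Algebra.EssFiniteType.of_isLocalization _ (hU.primeIdealOf ⟨f η, η.2.1⟩).asIdeal.primeCompl)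
      exact RingHom.essFiniteType_algebraMap.mp (h1.comp (hres η η.2.2))
    exact Groth.Agent.Nagata.NormalizationFinite.finite_integralClosure_field hA
  · rw [← AlgebraicGeometry.basicOpen_eq_bot_iff, eq_bot_iff]
    intro x hx
    obtain ⟨Z, hZ, hxZ⟩ : ∃ Z ∈ irreducibleComponents X, x ∈ Z :=
      ⟨irreducibleComponent x, irreducibleComponent_mem_irreducibleComponents x,
        mem_irreducibleComponent⟩
    obtain ⟨η, hη⟩ : ∃ η, IsGenericPoint η Z :=
      QuasiSober.sober hZ.1 (isClosed_of_mem_irreducibleComponents Z hZ)
    have hηb : η ∈ X.basicOpen b := (hη.specializes hxZ).mem_open (X.basicOpen b).2 hx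
    have hηG : η ∈ G := ⟨X.basicOpen_le b hηb, hη.def.symm ▸ hZ⟩
    exact absurd (hb ⟨η, hηG⟩) ((X.evaluation_ne_zero_iff_mem_basicOpen η hηG.1 b).mpr hηb)

end Groth.Agent.S9674
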