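import Groth.Statements.S1992
import Mathlib

set_option autoImplicit false
universe u
open Polynomial
open EtAlg

namespace Groth.Agent.S1992

/-- Let A be an absolutely integrally closed ring, i.e. every monic polynomial over A is a product of
linear factors X - a. Then for every prime p of A the localization A_p is a strictly henselian local
ring (henselian with separably closed residue field). -/
theorem result (A : Type u) [CommRing A]
    (hA : ∀ f : A[X], f.Monic → ∃ s : Multiset A, f = (s.map fun a => X - C a).prod)
    (p : Ideal A) [p.IsPrime] :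
    EtCoh.IsStrictlyHenselianLocalRing (Localization.AtPrime p) := by
  classical
  let Ap := Localization.AtPrime p
  have hsplit : ∀ f : Ap[X], f.Monic → ∃ s : Multiset Ap, f = (s.map fun a => X - C a).prod := by
    intro f hf
    obtain ⟨s, hs⟩ := IsLocalization.exist_integer_multiples_of_finset p.primeCompl (Finset.image f.coeff (Finset.range f.natDegree))
    have hu : IsUnit (algebraMap A Ap (s : A)) := IsLocalization.map_units Ap s
    set F := f.scaleRoots (algebraMap A Ap (s : A)) with hF
    have hlift : F ∈ lifts (algebraMap A Ap) := by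
      rw [lifts_iff_coeff_lifts]
      intro i
      rw [hF, coeff_scaleRoots]
      rcases lt_trichotomy i f.natDegree with hi | rfl | hi
      · obtain ⟨c, hc⟩ := hs (f.coeff i) (Finset.mem_image_of_mem _ (Finset.mem_range.mpr hi))
        refine ⟨c * (s : A) ^ (f.natDegree - i - 1), ?_⟩
        rw [map_mul, hc, Algebra.smul_def, map_pow, mul_assoc, mul_left_comm, ← pow_succ']
        congr 2
        omega
      · exact ⟨1, by rw [map_one, hf.coeff_natDegree, Nat.sub_self, pow_zero, mul_one]⟩
      · exact ⟨0, by rw [map_zero, coeff_eq_zero_of_natDegree_lt hi, zero_mul]⟩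
    obtain ⟨G, hG, -, hGm⟩ := lifts_and_natDegree_eq_and_monic hlift ((monic_scaleRoots_iff _).mpr hf)
    obtain ⟨t, ht⟩ := hA G hGm
    let u := hu.unit
    refine ⟨t.map fun a => algebraMap A Ap a * ↑u⁻¹, ?_⟩
    have h1 : f = F.scaleRoots (↑u⁻¹ : Ap) := by
      rw [hF, ← scaleRoots_mul, show algebraMap A Ap (s : A) * ↑u⁻¹ = 1 from IsUnit.mul_val_inv hu, scaleRoots_one]
    rw [h1, ← hG, ht, Multiset.map_map]
    clear ht hG hGm h1
    induction t using Multiset.induction with
    | empty => simp
    | cons a t ih =>
      have hm : (((t.map fun a => X - C a).prod).map (algebraMap A Ap)).Monic :=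
        (monic_multiset_prod_of_monic _ _ fun a _ => monic_X_sub_C a).map _
      rw [Multiset.map_cons, Multiset.prod_cons, Multiset.map_cons, Multiset.prod_cons, Polynomial.map_mul,
        mul_scaleRoots', ih, Polynomial.map_sub, map_X, map_C, X_sub_C_scaleRoots]
      · rfl
      · rw [hm.leadingCoeff, mul_one, (monic_X_sub_C a).map _ |>.leadingCoeff]
        exact one_ne_zero
  have hsplitk : ∀ f : (IsLocalRing.ResidueField Ap)[X], f.Monic → f.Splits := by
    intro f hf
    obtain ⟨F, hF, -, hFm⟩ := lifts_and_natDegree_eq_and_monic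
      (map_surjective (IsLocalRing.residue Ap) IsLocalRing.residue_surjective f) hf
    obtain ⟨t, ht⟩ := hsplit F hFm
    rw [← hF, ht, Polynomial.map_multiset_prod, Multiset.map_map]
    refine Splits.multisetProd fun g hg => ?_
    obtain ⟨a, -, rfl⟩ := Multiset.mem_map.mp hg
    simpa using Splits.X_sub_C (IsLocalRing.residue Ap a)
  haveI : IsAlgClosed (IsLocalRing.ResidueField Ap) := IsAlgClosed.of_exists_root _ fun f hf hirr => by
    exact (hsplitk f hf).exists_eval_eq_zero (degree_pos_of_irreducible hirr).ne'
  refine ⟨⟨fun f hf a₀ h1 h2 => ?_⟩, inferInstance⟩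
  obtain ⟨t, ht⟩ := hsplit f hf
  rw [ht, eval_multiset_prod, Multiset.map_map] at h1
  obtain ⟨a, ha, ha'⟩ : ∃ a ∈ t, a₀ - a ∈ IsLocalRing.maximalIdeal Ap := by
    by_contra hne
    push Not at hne
    have : IsUnit ((t.map ((fun p => eval a₀ p) ∘ fun a => X - C a)).prod) := by
      refine Multiset.prod_induction IsUnit _ (fun _ _ => IsUnit.mul) isUnit_one ?_
      intro x hx
      obtain ⟨a, ha, rfl⟩ := Multiset.mem_map.mp hx
      have := hne a ha
      simpa using IsLocalRing.notMem_maximalIdeal.mp this
    exact h1 this
  refine ⟨a, ?_, by rw [← neg_sub]; exact neg_mem ha'⟩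
  rw [IsRoot, ht, eval_multiset_prod, Multiset.map_map]
  exact Multiset.prod_eq_zero (Multiset.mem_map.mpr ⟨a, ha, by simp⟩)

end Groth.Agent.S1992
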