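import Groth.Statements.S9474
import Mathlib
-- import your own Groth.Agent.* helpers here

set_option autoImplicit false
universe u
open CAlg

namespace Groth.Agent.S9474

open MvPolynomial in
/-- For an unramified presentation the unit vectors are combinations of gradients of relations
modulo the relations. -/
theorem exists_combination {R S : Type u} [CommRing R] [CommRing S] [Algebra R S]
    [Algebra.FormallyUnramified R S] {n : ℕ} (π : MvPolynomial (Fin n) R →ₐ[R] S)
    (hπ : Function.Surjective π) (i : Fin n) :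
    (Pi.single i 1 : Fin n → S) ∈ Submodule.span S
      ((fun f l => π (pderiv l f)) '' (RingHom.ker π.toRingHom : Set (MvPolynomial (Fin n) R))) := by
  classical
  let G : MvPolynomial (Fin n) R → (Fin n → S) := fun f l => π (pderiv l f)
  let W := Submodule.span S (G '' (RingHom.ker π.toRingHom : Set (MvPolynomial (Fin n) R)))
  let N := (Fin n → S) ⧸ W
  let σ := Function.surjInv hπ
  have hσ : ∀ s, π (σ s) = s := Function.surjInv_eq hπ
  have hGadd : ∀ f g, G (f + g) = G f + G g := fun f g => by funext l; simp [G]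
  have hGmul : ∀ f g, G (f * g) = π f • G g + π g • G f := fun f g => by
    funext l; simp [G]
  have hGC : ∀ r : R, G (C r) = 0 := fun r => by funext l; simp [G]
  have hwd : ∀ s p, π p = s → W.mkQ (G (σ s)) = W.mkQ (G p) := by
    intro s p hp
    rw [Submodule.mkQ_apply, Submodule.mkQ_apply, Submodule.Quotient.eq]
    refine Submodule.subset_span ⟨σ s - p, ?_, ?_⟩
    · show π (σ s - p) = 0
      rw [map_sub, hσ, hp, sub_self]
    · funext l; simp [G]
  let δ : S →ₗ[R] N :=
    { toFun := fun s => W.mkQ (G (σ s))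
      map_add' := fun s t => by
        rw [hwd (s + t) (σ s + σ t) (by rw [map_add, hσ, hσ]), hGadd, map_add]
      map_smul' := fun r s => by
        rw [hwd (r • s) (r • σ s) (by rw [map_smul, hσ]), RingHom.id_apply,
          MvPolynomial.smul_eq_C_mul, hGmul, hGC, smul_zero, add_zero, map_smul,
          ← MvPolynomial.algebraMap_eq, π.commutes, algebraMap_smul] }
  let D : Derivation R S N := Derivation.mk' δ fun s t => by
    show W.mkQ (G (σ (s * t))) = s • W.mkQ (G (σ t)) + t • W.mkQ (G (σ s))
    rw [hwd (s * t) (σ s * σ t) (by rw [map_mul, hσ, hσ]), hGmul, map_add, map_smul, map_smul,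
      hσ, hσ]
  have hD : D = 0 := by
    haveI : Subsingleton Ω[S⁄R] := Algebra.FormallyUnramified.subsingleton_kaehlerDifferential
    apply (KaehlerDifferential.linearMapEquivDerivation R S).symm.injective
    exact LinearMap.ext fun x => by rw [Subsingleton.elim x 0, map_zero, map_zero]
  have h := DFunLike.congr_fun hD (π (X i))
  have h' : W.mkQ (G (X i)) = 0 := (hwd _ _ rfl).symm.trans h
  rw [Submodule.mkQ_apply, Submodule.Quotient.mk_eq_zero] at h'
  convert h' using 1
  funext l
  show _ = π (pderiv l (X i))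
  rcases eq_or_ne l i with rfl | hl
  · rw [Pi.single_eq_same, pderiv_X_self, map_one]
  · rw [Pi.single_eq_of_ne hl, pderiv_X_of_ne hl.symm, map_zero]

open MvPolynomial in
/-- A quotient of a polynomial ring is formally unramified if the unit vectors are combinations of
gradients of relations modulo the relations. -/
theorem formallyUnramified_quotient {A B : Type u} [CommRing A] [CommRing B] [Algebra A B] {n : ℕ}
    {ι : Type u} [Fintype ι] (q : MvPolynomial (Fin n) A →ₐ[A] B) (hq : Function.Surjective q)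
    (f : ι → MvPolynomial (Fin n) A)
    (a : Fin n → ι → MvPolynomial (Fin n) A) (b : Fin n → Fin n → MvPolynomial (Fin n) A)
    (hf : ∀ j, q (f j) = 0) (hb : ∀ i l, q (b i l) = 0)
    (hab : ∀ i l, (if i = l then 1 else 0) = ∑ j, a i j * pderiv l (f j) + b i l) :
    Algebra.FormallyUnramified A B := by
  classical
  let d := KaehlerDifferential.D A B
  have hsum : ∀ p, d (q p) = ∑ l, q (pderiv l p) • d (q (X l)) := by
    intro p
    induction p using MvPolynomial.induction_on with
    | C c =>
      rw [← MvPolynomial.algebraMap_eq, q.commutes, Derivation.map_algebraMap]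
      simp
    | add p p' hp hp' => simp [map_add, add_smul, Finset.sum_add_distrib, hp, hp']
    | mul_X p k hp =>
      rw [map_mul, Derivation.leibniz, hp, Finset.smul_sum]
      simp only [pderiv_mul, map_add, map_mul, add_smul, Finset.sum_add_distrib, smul_smul]
      rw [add_comm]
      congr 1
      · exact Finset.sum_congr rfl fun l _ => by rw [mul_comm (q (X k))]
      · rw [Finset.sum_eq_single k (fun l _ hl => by simp [pderiv_X_of_ne hl.symm])
          (fun h => absurd (Finset.mem_univ k) h)]
        simp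
  have hX : ∀ i, d (q (X i)) = 0 := by
    intro i
    have h0 : ∀ j, ∑ l, q (pderiv l (f j)) • d (q (X l)) = 0 := fun j => by
      rw [← hsum, hf j, map_zero]
    calc d (q (X i)) = ∑ l, q (if i = l then 1 else 0) • d (q (X l)) := by
          simp [apply_ite q]
      _ = ∑ l, ∑ j, q (a i j) • q (pderiv l (f j)) • d (q (X l)) := by
          refine Finset.sum_congr rfl fun l _ => ?_
          rw [hab, map_add, hb i l,
            add_zero, map_sum, Finset.sum_smul]
          simp only [map_mul, mul_smul]
      _ = 0 := by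
          rw [Finset.sum_comm]
          simp only [← Finset.smul_sum, h0, smul_zero, Finset.sum_const_zero]
  constructor
  have hall : ∀ x : B, d x = 0 := fun x => by
    obtain ⟨p, rfl⟩ := hq x
    rw [hsum]
    simp [hX]
  refine subsingleton_of_forall_eq 0 fun w => ?_
  have hw : w ∈ Submodule.span B (Set.range d) := by
    rw [KaehlerDifferential.span_range_derivation]; trivial
  induction hw using Submodule.span_induction with
  | mem w hw => obtain ⟨x, rfl⟩ := hw; exact hall x
  | zero => rfl
  | add x y _ _ hx hy => rw [hx, hy, add_zero]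
  | smul c x _ hx => rw [hx, smul_zero]


open TensorProduct in
/-- If R → S is unramified (of finite type with vanishing module of differentials), then there are a
finite type ℤ-algebra R₀, an unramified R₀-algebra S₀, a ring map R₀ → R, and a surjective R-algebra
map from R ⊗_{R₀} S₀ onto S. -/
theorem result (R : Type u) [CommRing R] (S : Type u)
    [CommRing S] [Algebra R S] [Algebra.Unramified R S] :
    ∃ (R₀ : Type u) (_ : CommRing R₀) (_ : Algebra.FiniteType ℤ R₀) (S₀ : Type u) (_ : CommRing S₀)
      (_ : Algebra R₀ S₀) (_ : Algebra.Unramified R₀ S₀) (_ : Algebra R₀ R)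
      (ψ : R ⊗[R₀] S₀ →ₐ[R] S), Function.Surjective ψ := by
  classical
  obtain ⟨n, π, hπ⟩ := Algebra.FiniteType.iff_quotient_mvPolynomial''.1
    (inferInstance : Algebra.FiniteType R S)
  let P := MvPolynomial (Fin n) R
  have hT : ∀ i : Fin n, ∃ T : Finset P, (∀ f ∈ T, π f = 0) ∧ (Pi.single i 1 : Fin n → S) ∈
      Submodule.span S ((fun f l => π (MvPolynomial.pderiv l f)) '' (T : Set P)) := by
    intro i
    obtain ⟨T', hT', hmem⟩ :=
      Submodule.mem_span_finite_of_mem_span (exists_combination π hπ i)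
    obtain ⟨T, hT, rfl⟩ := Finset.subset_set_image_iff.1 hT'
    exact ⟨T, fun f hf => hT hf, by simpa using hmem⟩
  choose T hTker hTspan using hT
  let F : Finset P := Finset.univ.biUnion T
  have hFker : ∀ f ∈ F, π f = 0 := fun f hf => by
    obtain ⟨i, -, hi⟩ := Finset.mem_biUnion.1 hf
    exact hTker i f hi
  have hspan : ∀ i, ∃ c : F → S, ∑ j : F, c j • (fun l => π (MvPolynomial.pderiv l (j : P))) =
      (Pi.single i 1 : Fin n → S) := by
    intro i
    rw [← Submodule.mem_span_range_iff_exists_fun]
    refine Submodule.span_mono ?_ (hTspan i)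
    rintro - ⟨f, hf, rfl⟩
    exact ⟨⟨f, Finset.mem_biUnion.2 ⟨i, Finset.mem_univ i, hf⟩⟩, rfl⟩
  choose c hc using hspan
  choose a ha using fun i j => hπ (c i j)
  let coef : Finset R := (F.biUnion fun v => v.coeffs) ∪
    Finset.univ.biUnion fun i => Finset.univ.biUnion fun j : F => (a i j).coeffs
  let R₀ := Algebra.adjoin ℤ (coef : Set R)
  haveI : Algebra.FiniteType ℤ R₀ := (Subalgebra.fg_iff_finiteType R₀).1 ⟨coef, rfl⟩
  let μ : MvPolynomial (Fin n) R₀ →+* P := MvPolynomial.map (algebraMap R₀ R)
  have hlift : ∀ v : P, v.coeffs ⊆ coef → ∃ w, μ w = v := fun v hv =>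
    MvPolynomial.mem_range_map_iff_coeffs_subset.2 fun x hx =>
      ⟨⟨x, Algebra.subset_adjoin (hv hx)⟩, rfl⟩
  choose f₀ hf₀ using fun j : F => hlift j fun x hx =>
    Finset.mem_union_left _ (Finset.mem_biUnion.2 ⟨j, j.2, hx⟩)
  choose a₀ ha₀ using fun i (j : F) => hlift (a i j) fun x hx =>
    Finset.mem_union_right _ (Finset.mem_biUnion.2 ⟨i, Finset.mem_univ i,
      Finset.mem_biUnion.2 ⟨j, Finset.mem_univ j, hx⟩⟩)
  let b₀ : Fin n → Fin n → MvPolynomial (Fin n) R₀ := fun i l =>
    (if i = l then 1 else 0) - ∑ j, a₀ i j * MvPolynomial.pderiv l (f₀ j)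
  have hb₀ : ∀ i l, π (μ (b₀ i l)) = 0 := by
    intro i l
    have hd : ∀ j, μ (MvPolynomial.pderiv l (f₀ j)) = MvPolynomial.pderiv l (j : P) := fun j => by
      rw [← hf₀ j]; exact (MvPolynomial.pderiv_map).symm
    have h1 := congrFun (hc i) l
    simp only [Finset.sum_apply, Pi.smul_apply, smul_eq_mul, ← ha] at h1
    simp only [b₀, map_sub, map_sum, map_mul, ha₀, hd, h1]
    rcases eq_or_ne i l with rfl | hil
    · simp
    · simp [hil, Pi.single_eq_of_ne hil.symm]
  let I : Ideal (MvPolynomial (Fin n) R₀) :=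
    Ideal.span (Set.range f₀ ∪ Set.range fun il : Fin n × Fin n => b₀ il.1 il.2)
  let S₀ := MvPolynomial (Fin n) R₀ ⧸ I
  haveI : Algebra.FormallyUnramified R₀ S₀ :=
    formallyUnramified_quotient (Ideal.Quotient.mkₐ R₀ I) Ideal.Quotient.mk_surjective f₀ a₀ b₀
      (fun j => Ideal.Quotient.eq_zero_iff_mem.2 (Ideal.subset_span (Or.inl ⟨j, rfl⟩)))
      (fun i l => Ideal.Quotient.eq_zero_iff_mem.2 (Ideal.subset_span (Or.inr ⟨(i, l), rfl⟩))) fun i l => by simp [b₀]
  haveI : Algebra.FiniteType R₀ S₀ :=
    Algebra.FiniteType.of_surjective (Ideal.Quotient.mkₐ R₀ I) Ideal.Quotient.mk_surjective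
  let χ : MvPolynomial (Fin n) R₀ →ₐ[R₀] S := MvPolynomial.aeval fun i => π (MvPolynomial.X i)
  have hχ : χ.toRingHom = π.toRingHom.comp μ := by
    refine MvPolynomial.ringHom_ext (fun r => ?_) fun i => ?_
    · show χ (MvPolynomial.C r) = π (μ (MvPolynomial.C r))
      rw [MvPolynomial.aeval_C, show μ (MvPolynomial.C r) = MvPolynomial.C (algebraMap R₀ R r) from
        MvPolynomial.map_C _ r, ← MvPolynomial.algebraMap_eq, π.commutes,
        ← IsScalarTower.algebraMap_apply]
    · show χ (MvPolynomial.X i) = π (μ (MvPolynomial.X i))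
      rw [MvPolynomial.aeval_X, show μ (MvPolynomial.X i) = MvPolynomial.X i from
        MvPolynomial.map_X _ i]
  have hI : I ≤ RingHom.ker χ.toRingHom := by
    rw [hχ, Ideal.span_le]
    rintro - (⟨j, rfl⟩ | ⟨⟨i, l⟩, rfl⟩)
    · show π (μ (f₀ j)) = 0
      rw [hf₀ j]; exact hFker _ j.2
    · exact hb₀ i l
  let χ' : S₀ →ₐ[R₀] S := Ideal.Quotient.liftₐ I χ fun x hx => hI hx
  let ψ : R ⊗[R₀] S₀ →ₐ[R] S :=
    Algebra.TensorProduct.lift (Algebra.ofId R S) χ' fun _ _ => Commute.all _ _
  refine ⟨R₀, inferInstance, inferInstance, S₀, inferInstance, inferInstance, ⟨inferInstance, inferInstance⟩, inferInstance,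
    ψ, ?_⟩
  have hle : π.range ≤ ψ.range := by
    rw [← Algebra.map_top, ← MvPolynomial.adjoin_range_X, AlgHom.map_adjoin, Algebra.adjoin_le_iff]
    rintro - ⟨-, ⟨i, rfl⟩, rfl⟩
    refine ⟨(1 : R) ⊗ₜ[R₀] Ideal.Quotient.mk I (MvPolynomial.X i), ?_⟩
    show ψ _ = _
    rw [Algebra.TensorProduct.lift_tmul, map_one, one_mul]
    exact MvPolynomial.aeval_X _ _
  intro s
  obtain ⟨p, rfl⟩ := hπ s
  exact hle ⟨p, rfl⟩

end Groth.Agent.S9474
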