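import Groth.Statements.S12085
import Groth.Agent.S9474
-- import your own Groth.Agent.* helpers here

set_option autoImplicit false
universe u
open TensorProduct
open CAlg

namespace Groth.Agent.S12085

/-- Base change of a quotient of a polynomial ring. -/
theorem nonempty_equiv {A R S : Type u} [CommRing A] [CommRing R] [CommRing S] [Algebra A R]
    [Algebra R S] {n : ℕ} (π : MvPolynomial (Fin n) R →ₐ[R] S) (hπ : Function.Surjective π)
    (I : Ideal (MvPolynomial (Fin n) A))
    (hI : RingHom.ker π.toRingHom = I.map (MvPolynomial.map (algebraMap A R))) :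
    Nonempty (R ⊗[A] (MvPolynomial (Fin n) A ⧸ I) ≃ₐ[R] S) := by
  let e := MvPolynomial.algebraTensorAlgEquiv (σ := Fin n) A R
  have h : RingHom.ker π.toRingHom =
      (I.map (Algebra.TensorProduct.includeRight (A := R) (R := A))).map
        (e : R ⊗[A] MvPolynomial (Fin n) A →+* MvPolynomial (Fin n) R) := by
    rw [hI]
    have he : ∀ p, e (1 ⊗ₜ[A] p) = MvPolynomial.map (algebraMap A R) p := fun p => by
      rw [MvPolynomial.algebraTensorAlgEquiv_tmul, one_smul]
    refine le_antisymm (Ideal.map_le_iff_le_comap.2 fun x hx => ?_)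
      (Ideal.map_le_iff_le_comap.2 (Ideal.map_le_iff_le_comap.2 fun x hx => ?_))
    · rw [Ideal.mem_comap, ← he]
      exact Ideal.mem_map_of_mem _ (Ideal.mem_map_of_mem _ hx)
    · rw [Ideal.mem_comap, Ideal.mem_comap]
      show e (1 ⊗ₜ[A] x) ∈ _
      rw [he]
      exact Ideal.mem_map_of_mem _ hx
  exact ⟨((Algebra.TensorProduct.tensorQuotientEquiv R (MvPolynomial (Fin n) A) R I).trans
    (Ideal.quotientEquivAlg _ _ e h)).trans (Ideal.quotientKerAlgEquivOfSurjective hπ)⟩

/-- If `R → S` is G-unramified (of finite presentation and formally unramified), then there are a finite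
type `ℤ`-algebra `R₀`, a ring map `R₀ → R` and a G-unramified ring map `R₀ → S₀` such that `S ≅ R
⊗_{R₀} S₀` as `R`-algebras (existence of an isomorphism). -/
theorem result (R : Type u) [CommRing R] (S : Type u) [CommRing S]
    [Algebra R S] [Algebra.FinitePresentation R S] [Algebra.FormallyUnramified R S] :
    ∃ (R₀ : Type u) (_ : CommRing R₀) (_ : Algebra.FiniteType ℤ R₀) (S₀ : Type u) (_ : CommRing S₀)
      (_ : Algebra R₀ S₀) (_ : Algebra.FinitePresentation R₀ S₀) (_ : Algebra.FormallyUnramified R₀ S₀)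
      (_ : Algebra R₀ R), Nonempty (R ⊗[R₀] S₀ ≃ₐ[R] S) := by
  classical
  obtain ⟨n, π, hπ, ⟨G, hG⟩⟩ := (inferInstance : Algebra.FinitePresentation R S).out
  let P := MvPolynomial (Fin n) R
  have hT : ∀ i : Fin n, ∃ T : Finset P, (∀ f ∈ T, π f = 0) ∧ (Pi.single i 1 : Fin n → S) ∈
      Submodule.span S ((fun f l => π (MvPolynomial.pderiv l f)) '' (T : Set P)) := by
    intro i
    obtain ⟨T', hT', hmem⟩ :=
      Submodule.mem_span_finite_of_mem_span (S9474.exists_combination π hπ i)
    obtain ⟨T, hT, rfl⟩ := Finset.subset_set_image_iff.1 hT'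
    exact ⟨T, fun f hf => hT hf, by simpa using hmem⟩
  choose T hTker hTspan using hT
  let F : Finset P := G ∪ Finset.univ.biUnion T
  have hFker : ∀ f ∈ F, π f = 0 := fun f hf => by
    rcases Finset.mem_union.1 hf with hf | hf
    · have : f ∈ RingHom.ker π.toRingHom := hG ▸ Submodule.subset_span hf
      exact this
    · obtain ⟨i, -, hi⟩ := Finset.mem_biUnion.1 hf
      exact hTker i f hi
  have hspan : ∀ i, ∃ c : F → S, ∑ j : F, c j • (fun l => π (MvPolynomial.pderiv l (j : P))) =
      (Pi.single i 1 : Fin n → S) := by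
    intro i
    rw [← Submodule.mem_span_range_iff_exists_fun]
    refine Submodule.span_mono ?_ (hTspan i)
    rintro - ⟨f, hf, rfl⟩
    exact ⟨⟨f, Finset.mem_union_right _ (Finset.mem_biUnion.2 ⟨i, Finset.mem_univ i, hf⟩)⟩, rfl⟩
  choose c hc using hspan
  choose a ha using fun i j => hπ (c i j)
  let coef : Finset R := (F.biUnion fun v => v.coeffs) ∪
    Finset.univ.biUnion fun i => Finset.univ.biUnion fun j : F => (a i j).coeffs
  let R₀ := Algebra.adjoin ℤ (coef : Set R)
  haveI : Algebra.FiniteType ℤ R₀ := (Subalgebra.fg_iff_finiteType R₀).1 ⟨coef, rfl⟩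
  let μ : MvPolynomial (Fin n) R₀ →+* P := MvPolynomial.map (algebraMap R₀ R)
  have hlift : ∀ v : P, v.coeffs ⊆ coef → ∃ w, μ w = v := fun v hv =>
    MvPolynomial.mem_range_map_iff_coeffs_subset.2 fun x hx =>
      ⟨⟨x, Algebra.subset_adjoin (hv hx)⟩, rfl⟩
  choose f₀ hf₀ using fun j : F => hlift j fun x hx =>
    Finset.mem_union_left _ (Finset.mem_biUnion.2 ⟨j, j.2, hx⟩)
  choose a₀ ha₀ using fun i (j : F) => hlift (a i j) fun x hx =>
    Finset.mem_union_right _ (Finset.mem_biUnion.2 ⟨i, Finset.mem_univ i,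
      Finset.mem_biUnion.2 ⟨j, Finset.mem_univ j, hx⟩⟩)
  let b₀ : Fin n → Fin n → MvPolynomial (Fin n) R₀ := fun i l =>
    (if i = l then 1 else 0) - ∑ j, a₀ i j * MvPolynomial.pderiv l (f₀ j)
  have hb₀ : ∀ i l, π (μ (b₀ i l)) = 0 := by
    intro i l
    have hd : ∀ j, μ (MvPolynomial.pderiv l (f₀ j)) = MvPolynomial.pderiv l (j : P) := fun j => by
      rw [← hf₀ j]; exact (MvPolynomial.pderiv_map).symm
    have h1 := congrFun (hc i) l
    simp only [Finset.sum_apply, Pi.smul_apply, smul_eq_mul, ← ha] at h1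
    simp only [b₀, map_sub, map_sum, map_mul, ha₀, hd, h1]
    rcases eq_or_ne i l with rfl | hil
    · simp
    · simp [hil, Pi.single_eq_of_ne hil.symm]
  let I : Ideal (MvPolynomial (Fin n) R₀) :=
    Ideal.span (Set.range f₀ ∪ Set.range fun il : Fin n × Fin n => b₀ il.1 il.2)
  let S₀ := MvPolynomial (Fin n) R₀ ⧸ I
  haveI : Algebra.FormallyUnramified R₀ S₀ :=
    S9474.formallyUnramified_quotient (Ideal.Quotient.mkₐ R₀ I) Ideal.Quotient.mk_surjective f₀ a₀ b₀
      (fun j => Ideal.Quotient.eq_zero_iff_mem.2 (Ideal.subset_span (Or.inl ⟨j, rfl⟩)))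
      (fun i l => Ideal.Quotient.eq_zero_iff_mem.2 (Ideal.subset_span (Or.inr ⟨(i, l), rfl⟩))) fun i l => by simp [b₀]
  haveI : Algebra.FiniteType R₀ S₀ :=
    Algebra.FiniteType.of_surjective (Ideal.Quotient.mkₐ R₀ I) Ideal.Quotient.mk_surjective
  let χ : MvPolynomial (Fin n) R₀ →ₐ[R₀] S := MvPolynomial.aeval fun i => π (MvPolynomial.X i)
  have hχ : χ.toRingHom = π.toRingHom.comp μ := by
    refine MvPolynomial.ringHom_ext (fun r => ?_) fun i => ?_
    · show χ (MvPolynomial.C r) = π (μ (MvPolynomial.C r))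
      rw [MvPolynomial.aeval_C, show μ (MvPolynomial.C r) = MvPolynomial.C (algebraMap R₀ R r) from
        MvPolynomial.map_C _ r, ← MvPolynomial.algebraMap_eq, π.commutes,
        ← IsScalarTower.algebraMap_apply]
    · show χ (MvPolynomial.X i) = π (μ (MvPolynomial.X i))
      rw [MvPolynomial.aeval_X, show μ (MvPolynomial.X i) = MvPolynomial.X i from
        MvPolynomial.map_X _ i]
  have hI : I ≤ RingHom.ker χ.toRingHom := by
    rw [hχ, Ideal.span_le]
    rintro - (⟨j, rfl⟩ | ⟨⟨i, l⟩, rfl⟩)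
    · show π (μ (f₀ j)) = 0
      rw [hf₀ j]; exact hFker _ j.2
    · exact hb₀ i l
  let χ' : S₀ →ₐ[R₀] S := Ideal.Quotient.liftₐ I χ fun x hx => hI hx
  let ψ : R ⊗[R₀] S₀ →ₐ[R] S :=
    Algebra.TensorProduct.lift (Algebra.ofId R S) χ' fun _ _ => Commute.all _ _
  have hker : RingHom.ker π.toRingHom = I.map μ := by
    refine le_antisymm ?_ (Ideal.map_le_iff_le_comap.2 ?_)
    · rw [← hG, Ideal.span_le]
      intro v hv
      have h := Ideal.mem_map_of_mem μ (I := I)
        (Ideal.subset_span (Or.inl ⟨⟨v, Finset.mem_union_left _ hv⟩, rfl⟩))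
      rwa [hf₀] at h
    · intro x hx
      exact (RingHom.congr_fun hχ x).symm.trans (hI hx)
  obtain ⟨e⟩ := nonempty_equiv π hπ I hker
  haveI : Algebra.FinitePresentation R₀ S₀ :=
    haveI : IsNoetherianRing R₀ := Algebra.FiniteType.isNoetherianRing ℤ R₀
    (Algebra.FinitePresentation.of_finiteType (R := R₀) (A := S₀)).1 inferInstance
  exact ⟨R₀, inferInstance, inferInstance, S₀, inferInstance, inferInstance, inferInstance,
    inferInstance, inferInstance, ⟨e⟩⟩

end Groth.Agent.S12085
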