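import Groth.Statements.S9432
import Mathlib
import Groth.Agent.RegLoc.NNDomain
import Groth.Agent.FlatOpen.Descend
import Groth.Agent.LocFlat.Fibre
import Groth.Agent.S12085
-- import your own Groth.Agent.* helpers here

set_option autoImplicit false
set_option linter.style.haveILetI false
universe u
open CAlg
open TensorProduct Function

namespace Groth.Agent.S9432

/-- An algebra generated by universal roots of monic polynomials. -/
theorem root_algebra {A : Type u} [CommRing A] : ∀ (d : ℕ) (G : Fin d → Polynomial A),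
    (∀ i, (G i).Monic) →
    ∃ (E : Type u) (_ : CommRing E) (_ : Algebra A E) (e : Fin d → E),
      Module.Finite A E ∧ Module.Free A E ∧ ∀ (T : Type u) [CommRing T] [Algebra A T] (t : Fin d → T),
        (∀ i, Polynomial.aeval (t i) (G i) = 0) → ∃ ψ : E →ₐ[A] T, ∀ i, ψ (e i) = t i
  | 0, _, _ => ⟨A, inferInstance, inferInstance, Fin.elim0, inferInstance, inferInstance,
      fun T _ _ _ _ => ⟨Algebra.ofId A T, fun i => i.elim0⟩⟩
  | d + 1, G, hG => by
    obtain ⟨E, _, _, e, hfin, hfree, hE⟩ := root_algebra d (fun i => G i.castSucc) fun i => hG _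
    let P := (G (Fin.last d)).map (algebraMap A E)
    have hP : P.Monic := (hG _).map _
    haveI : Module.Finite E (AdjoinRoot P) := hP.finite_adjoinRoot
    haveI : Module.Free E (AdjoinRoot P) := hP.free_adjoinRoot
    refine ⟨AdjoinRoot P, inferInstance, inferInstance,
      Fin.snoc (fun i => algebraMap E _ (e i)) (AdjoinRoot.root P),
      Module.Finite.trans E _, Module.Free.trans (S := E), fun T _ _ t ht => ?_⟩
    obtain ⟨ψ, hψ⟩ := hE T (fun i => t i.castSucc) fun i => ht _
    have h0 : P.eval₂ ψ.toRingHom (t (Fin.last d)) = 0 := by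
      rw [Polynomial.eval₂_map, show ψ.toRingHom.comp (algebraMap A E) = algebraMap A T from
        RingHom.ext ψ.commutes, ← Polynomial.aeval_def]
      exact ht _
    refine ⟨⟨AdjoinRoot.lift ψ.toRingHom (t (Fin.last d)) h0, fun a => ?_⟩, fun i => ?_⟩
    · show AdjoinRoot.lift ψ.toRingHom (t (Fin.last d)) h0 (algebraMap A (AdjoinRoot P) a) = _
      rw [IsScalarTower.algebraMap_apply A E (AdjoinRoot P), AdjoinRoot.algebraMap_eq,
        AdjoinRoot.lift_of]
      exact ψ.commutes a
    · show AdjoinRoot.lift ψ.toRingHom (t (Fin.last d)) h0 _ = _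
      induction i using Fin.lastCases with
      | last => rw [Fin.snoc_last, AdjoinRoot.lift_root]
      | cast i => rw [Fin.snoc_castSucc, AdjoinRoot.algebraMap_eq, AdjoinRoot.lift_of]; exact hψ i

/-- Noether normalization of the fibre of `S` over a prime `p` of `R`, up to one element `f ∉ p`. -/
theorem exists_normalization_mod {R S : Type u} [CommRing R] [CommRing S] [Algebra R S]
    [Algebra.FiniteType R S] (p : Ideal R) [p.IsPrime]
    (hp : (p.map (algebraMap R S)).comap (algebraMap R S) ≤ p) :
    ∃ (d : ℕ) (s : Fin d → S) (f : R), f ∉ p ∧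
      (∀ a : MvPolynomial (Fin d) R, MvPolynomial.aeval s a ∈ p.map (algebraMap R S) →
        a ∈ p.map MvPolynomial.C) ∧
      ∀ z : S, ∃ (k : ℕ) (G : Polynomial (MvPolynomial (Fin d) R)), G.Monic ∧
        G.eval₂ (MvPolynomial.aeval s).toRingHom (f ^ k • z) ∈ p.map (algebraMap R S) := by
  classical
  let J := p.map (algebraMap R S)
  let D := R ⧸ p
  let Sb := S ⧸ J
  have hinj : Injective (algebraMap D Sb) := by
    rw [injective_iff_map_eq_zero]
    intro x hx
    obtain ⟨r, rfl⟩ := Ideal.Quotient.mk_surjective x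
    exact Ideal.Quotient.eq_zero_iff_mem.2
      (hp (show algebraMap R S r ∈ J from Ideal.Quotient.eq_zero_iff_mem.1 hx))
  haveI : IsScalarTower R D Sb := IsScalarTower.of_algebraMap_eq fun _ => rfl
  haveI : Algebra.FiniteType R Sb :=
    Algebra.FiniteType.of_surjective (Ideal.Quotient.mkₐ R J) Ideal.Quotient.mk_surjective
  haveI : Algebra.FiniteType D Sb := Algebra.FiniteType.of_restrictScalars_finiteType R D Sb
  haveI : Nontrivial Sb := hinj.nontrivial
  obtain ⟨d, y, S', hAI, -, -, hint, f, hf, hS'⟩ := RegLoc.NNDomain.exists_normalization hinj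
  choose s hs using fun i => Ideal.Quotient.mk_surjective (y i)
  obtain ⟨f, rfl⟩ := Ideal.Quotient.mk_surjective f
  have hsq : (Ideal.Quotient.mk J).comp (MvPolynomial.aeval s).toRingHom =
      (MvPolynomial.aeval (R := D) y).toRingHom.comp (MvPolynomial.map (Ideal.Quotient.mk p)) := by
    refine MvPolynomial.ringHom_ext (fun r => ?_) fun i => ?_
    · simp
      exact IsScalarTower.algebraMap_apply R D Sb r
    · simp [hs]
  refine ⟨d, s, f, fun h => hf (Ideal.Quotient.eq_zero_iff_mem.2 h), fun a ha => ?_, fun z => ?_⟩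
  · have h1 : (MvPolynomial.aeval (R := D) y) (MvPolynomial.map (Ideal.Quotient.mk p) a) = 0 :=
      (RingHom.congr_fun hsq a).symm.trans (Ideal.Quotient.eq_zero_iff_mem.2 ha)
    have h2 : MvPolynomial.map (Ideal.Quotient.mk p) a = 0 := hAI (h1.trans (map_zero _).symm)
    have h3 : a ∈ RingHom.ker (MvPolynomial.map (σ := Fin d) (Ideal.Quotient.mk p)) := h2
    rwa [MvPolynomial.ker_map, Ideal.mk_ker] at h3
  · obtain ⟨k, hk⟩ := hS' (Ideal.Quotient.mk J z)
    obtain ⟨q, hqm, hq⟩ := hint _ hk
    let θ : MvPolynomial (Fin d) R →+* Algebra.adjoin D (Set.range y) :=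
      ((MvPolynomial.aeval (R := D) y).toRingHom.comp
        (MvPolynomial.map (Ideal.Quotient.mk p))).codRestrict _ fun a => by
          rw [Algebra.adjoin_range_eq_range_aeval]
          exact ⟨_, rfl⟩
    have hθ : Surjective θ := by
      rintro ⟨x, hx⟩
      rw [Algebra.adjoin_range_eq_range_aeval] at hx
      obtain ⟨b, rfl⟩ := hx
      obtain ⟨a, rfl⟩ := MvPolynomial.map_surjective _ Ideal.Quotient.mk_surjective b
      exact ⟨a, rfl⟩
    obtain ⟨G, hG, -, hGm⟩ := Polynomial.lifts_and_degree_eq_and_monic (f := θ)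
      (Polynomial.map_surjective θ hθ q) hqm
    refine ⟨k, G, hGm, Ideal.Quotient.eq_zero_iff_mem.1 ?_⟩
    rw [Polynomial.hom_eval₂, hsq,
      show (MvPolynomial.aeval (R := D) y).toRingHom.comp (MvPolynomial.map (Ideal.Quotient.mk p)) =
        (algebraMap (Algebra.adjoin D (Set.range y)) Sb).comp θ from rfl,
      ← Polynomial.eval₂_map, hG]
    refine Eq.trans ?_ hq
    congr 1

/-- The fibre of `S` over a prime `q` of `P` lying over `p` and avoiding `f` is finite. -/
theorem finite_fiber {R P S : Type u} [CommRing R] [CommRing P] [CommRing S] [Algebra R P]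
    [Algebra R S] [Algebra P S] [IsScalarTower R P S] [Algebra.FiniteType R S] (p : Ideal R)
    (q : Ideal P) [q.IsPrime] (f : R) (hpq : p.map (algebraMap R P) ≤ q)
    (hf : algebraMap R P f ∉ q)
    (h : ∀ z : S, ∃ (k : ℕ) (G : Polynomial P), G.Monic ∧
      G.eval₂ (algebraMap P S) (f ^ k • z) ∈ p.map (algebraMap R S)) :
    Module.Finite q.ResidueField (q.Fiber S) := by
  haveI : Algebra.FiniteType P S := Algebra.FiniteType.of_restrictScalars_finiteType R P S
  let ι : S →ₐ[P] q.Fiber S := Algebra.TensorProduct.includeRight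
  have hι : p.map (algebraMap R S) ≤ RingHom.ker ι.toRingHom := by
    rw [Ideal.map_le_iff_le_comap]
    intro r hr
    show ι (algebraMap R S r) = 0
    rw [IsScalarTower.algebraMap_apply R P S, ι.commutes,
      IsScalarTower.algebraMap_apply P q.ResidueField (q.Fiber S),
      Ideal.algebraMap_residueField_eq_zero.2 (hpq (Ideal.mem_map_of_mem _ hr)), map_zero]
  have key : ∀ z : S, IsIntegral q.ResidueField (ι z) := by
    intro z
    obtain ⟨k, G, hGm, hG⟩ := h z
    have h1 : IsIntegral P (ι (f ^ k • z)) := by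
      refine ⟨G, hGm, ?_⟩
      have h0 : ι (G.eval₂ (algebraMap P S) (f ^ k • z)) = 0 := hι hG
      rw [← Polynomial.aeval_def, ← Polynomial.aeval_algHom_apply] at h0
      exact h0
    have h2 : IsIntegral q.ResidueField (ι (f ^ k • z)) := h1.tower_top
    have hu : algebraMap P q.ResidueField (algebraMap R P f) ≠ 0 := fun h0 =>
      hf (Ideal.algebraMap_residueField_eq_zero.1 h0)
    have : ι z = ((algebraMap P q.ResidueField (algebraMap R P f)) ^ k)⁻¹ • ι (f ^ k • z) := by
      rw [show f ^ k • z = algebraMap R P (f ^ k) • z from (algebraMap_smul P (f ^ k) z).symm,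
        map_smul, map_pow, ← algebraMap_smul q.ResidueField (algebraMap R P f ^ k) (ι z), map_pow,
        smul_smul, inv_mul_cancel₀ (pow_ne_zero k hu), one_smul]
    rw [this]
    exact h2.smul _
  haveI : Algebra.IsIntegral q.ResidueField (q.Fiber S) := ⟨fun x => by
    induction x using TensorProduct.induction_on with
    | zero => exact isIntegral_zero
    | tmul c z =>
      have : c ⊗ₜ[P] z = c • ι z := by
        show _ = c • ((1 : q.ResidueField) ⊗ₜ[P] z)
        rw [smul_tmul', smul_eq_mul, mul_one]
      rw [this]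
      exact (key z).smul c
    | add a b ha hb => exact ha.add hb⟩
  exact Algebra.IsIntegral.finite

/-- For an injective finite type map out of a Noetherian domain, over an open set of primes every
prime lifts and the algebra is flat. -/
theorem exists_generic_flat (A B : Type u) [CommRing A] [IsDomain A] [IsNoetherianRing A]
    [CommRing B] [Algebra A B] [Algebra.FiniteType A B] (hinj : Injective (algebraMap A B)) :
    ∃ h : A, h ≠ 0 ∧ Module.Flat A (Localization (Algebra.algebraMapSubmonoid B (Submonoid.powers h))) ∧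
      ∀ q : Ideal A, q.IsPrime → h ∉ q →
        ∃ Q : Ideal B, Q.IsPrime ∧ Q.comap (algebraMap A B) = q := by
  obtain ⟨h, hh, hfree⟩ := FlatOpen.isGenFree_of_finiteType A B B
  let Ah := Localization.Away h
  let L := Ah ⊗[A] B
  haveI : Module.Flat A Ah := IsLocalization.flat Ah (Submonoid.powers h)
  haveI : Module.Flat A L := Module.Flat.trans A Ah L
  haveI : IsLocalizedModule (Submonoid.powers h) (TensorProduct.mk A Ah B 1) :=
    (isLocalizedModule_iff_isBaseChange (Submonoid.powers h) Ah _).mpr
      (TensorProduct.isBaseChange A B Ah)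
  let T := Localization (Algebra.algebraMapSubmonoid B (Submonoid.powers h))
  haveI : IsLocalizedModule (Submonoid.powers h) (IsScalarTower.toAlgHom A B T).toLinearMap :=
    (isLocalizedModule_iff_isLocalization).mpr inferInstance
  have hflat : Module.Flat A T := Module.Flat.of_linearEquiv
    (IsLocalizedModule.linearEquiv (Submonoid.powers h)
      (IsScalarTower.toAlgHom A B T).toLinearMap (TensorProduct.mk A Ah B 1))
  refine ⟨h, hh, hflat, fun q hq hhq => ?_⟩
  have hnt : Nontrivial L := by
    haveI : Nontrivial Ah :=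
      (IsLocalization.injective Ah (powers_le_nonZeroDivisors_of_noZeroDivisors hh)).nontrivial
    have hi : Injective (LinearMap.lTensor Ah (Algebra.linearMap A B)) :=
      Module.Flat.lTensor_preserves_injective_linearMap _ hinj
    exact (hi.comp (TensorProduct.rid A Ah).symm.injective).nontrivial
  haveI : Module.FaithfullyFlat Ah L := inferInstance
  have hdisj : Disjoint (Submonoid.powers h : Set A) q := by
    rw [Set.disjoint_left]
    rintro _ ⟨n, rfl⟩ hmem
    exact hhq (hq.mem_of_pow_mem n hmem)
  let qh : PrimeSpectrum Ah :=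
    ⟨q.map (algebraMap A Ah), IsLocalization.isPrime_of_isPrime_disjoint _ Ah q hq hdisj⟩
  obtain ⟨Q, hQ⟩ := PrimeSpectrum.comap_surjective_of_faithfullyFlat (A := Ah) (B := L) qh
  refine ⟨Q.asIdeal.comap (Algebra.TensorProduct.includeRight : B →ₐ[A] L), inferInstance, ?_⟩
  change (Q.asIdeal.comap ((Algebra.TensorProduct.includeRight : B →ₐ[A] L) : B →+* L)).comap _ = q
  rw [Ideal.comap_comap,
    show ((Algebra.TensorProduct.includeRight : B →ₐ[A] L) : B →+* L).comp (algebraMap A B) =
      (algebraMap Ah L).comp (algebraMap A Ah) from by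
    rw [AlgHom.comp_algebraMap, ← IsScalarTower.algebraMap_eq],
    ← Ideal.comap_comap,
    show Q.asIdeal.comap (algebraMap Ah L) = q.map (algebraMap A Ah) from congrArg (·.asIdeal) hQ]
  exact IsLocalization.comap_map_of_isPrime_disjoint (Submonoid.powers h) Ah hq hdisj

/-- Flatness at a prime from flatness of the fibre (Noetherian). -/
theorem flatAt_of_fibre {R P S : Type u} [CommRing R] [CommRing P] [CommRing S] [Algebra R P]
    [Algebra R S] [Algebra P S] [IsScalarTower R P S] [Module.Flat R S] [IsNoetherianRing P]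
    [IsNoetherianRing S] (p : Ideal R) (Q : Ideal S) [Q.IsPrime]
    (hpQ : p.map (algebraMap R S) ≤ Q)
    (T : Submonoid (S ⧸ (p.map (algebraMap R P)).map (algebraMap P S)))
    (hT : T ≤ Algebra.algebraMapSubmonoid
      (S ⧸ (p.map (algebraMap R P)).map (algebraMap P S)) Q.primeCompl)
    (h : Module.Flat (P ⧸ p.map (algebraMap R P)) (Localization T)) :
    FlatCA.FlatAt P Q S := by
  let I := p.map (algebraMap R P)
  let J := I.map (algebraMap P S)
  let A := P ⧸ I
  let Sb := S ⧸ J
  let SQ := Localization.AtPrime Q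
  let M' := Algebra.algebraMapSubmonoid Sb Q.primeCompl
  letI : Algebra (Localization T) (Localization M') :=
    IsLocalization.localizationAlgebraOfSubmonoidLe (Localization T) (Localization M') T M' hT
  haveI : IsScalarTower Sb (Localization T) (Localization M') :=
    IsLocalization.localization_isScalarTower_of_submonoid_le (Localization T) (Localization M') T M' hT
  haveI : IsLocalization (Submonoid.map (algebraMap Sb (Localization T)) M') (Localization M') :=
    IsLocalization.isLocalization_of_submonoid_le (Localization T) (Localization M') T M' hT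
  haveI : Module.Flat (Localization T) (Localization M') :=
    IsLocalization.flat _ (Submonoid.map (algebraMap Sb (Localization T)) M')
  haveI : IsScalarTower A (Localization T) (Localization M') :=
    IsScalarTower.of_algebraMap_eq fun a =>
      ((IsScalarTower.algebraMap_apply A Sb (Localization M') a).trans
        (IsScalarTower.algebraMap_apply Sb (Localization T) (Localization M') (algebraMap A Sb a))).trans
        (congrArg _ (IsScalarTower.algebraMap_apply A Sb (Localization T) a).symm)
  haveI : Module.Flat A (Localization M') := Module.Flat.trans A (Localization T) (Localization M')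
  haveI : IsLocalization M' (SQ ⧸ J.map (algebraMap S SQ)) := inferInstance
  have hJ : J.map (algebraMap S SQ) = I.map (algebraMap P SQ) := by
    rw [Ideal.map_map, ← IsScalarTower.algebraMap_eq]
  let e₁ : Localization M' ≃ₐ[Sb] SQ ⧸ J.map (algebraMap S SQ) := IsLocalization.algEquiv M' _ _
  let g : (A ⊗[P] SQ) ≃ₗ[P] SQ ⧸ J.map (algebraMap S SQ) :=
    (quotTensorEquivQuotSMul SQ I).trans
      ((Submodule.quotEquivOfEq _ ((J.map (algebraMap S SQ)).restrictScalars P) (by
        rw [Ideal.smul_top_eq_map, hJ])).trans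
        (Submodule.Quotient.restrictScalarsEquiv P _))
  let e₁' : Localization M' ≃ₗ[P] SQ ⧸ J.map (algebraMap S SQ) :=
    { e₁.toAddEquiv with
      map_smul' := fun a x => by
        show e₁ (a • x) = a • e₁ x
        refine (congrArg e₁ (Algebra.smul_def a x)).trans ((map_mul e₁ _ _).trans ?_)
        refine Eq.trans ?_ (Algebra.smul_def a (e₁ x)).symm
        congr 1
        exact e₁.commutes (Ideal.Quotient.mk J (algebraMap P S a)) }
  have hAflat : Module.Flat A (A ⊗[P] SQ) :=
    Module.Flat.of_linearEquiv (LinearEquiv.extendScalarsOfSurjective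
      (R := P) (S := A) Ideal.Quotient.mk_surjective (g.trans e₁'.symm))
  haveI : Module.Flat S SQ := IsLocalization.flat SQ Q.primeCompl
  haveI : Module.Flat R SQ := Module.Flat.trans R S SQ
  haveI : IsNoetherianRing SQ := IsLocalization.isNoetherianRing Q.primeCompl SQ inferInstance
  have hfl : Module.Flat P SQ := by
    refine LocFlat.flat_criterion (S := SQ) SQ I ?_ (LocFlat.rTensor_map_injective p SQ) hAflat
    rw [IsLocalRing.jacobson_eq_maximalIdeal ⊥ bot_ne_top, ← hJ, ← Localization.AtPrime.map_eq_maximalIdeal]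
    refine Ideal.map_mono ?_
    rw [show J = p.map (algebraMap R S) from
      (Ideal.map_map _ _).trans (by rw [← IsScalarTower.algebraMap_eq])]
    exact hpQ
  show Module.Flat P (LocalizedModule Q.primeCompl S)
  exact hfl

/-- Flatness of a localization from flatness at the primes it contains. -/
theorem flat_away (P : Type u) {S : Type u} [CommRing P] [CommRing S] [Algebra P S] (g : S)
    (h : ∀ x : PrimeSpectrum S, g ∉ x.asIdeal → FlatCA.FlatAt P x.asIdeal S) :
    Module.Flat P (Localization.Away g) := by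
  refine FlatOpen.flat_of_forall_flatAt (S := Localization.Away g) (M := Localization.Away g)
    fun Q' hQ' => ?_
  let Q := Q'.comap (algebraMap S (Localization.Away g))
  have hgQ : g ∉ Q := fun hmem =>
    hQ'.ne_top (Ideal.eq_top_of_isUnit_mem _ hmem (IsLocalization.Away.algebraMap_isUnit g))
  haveI : Module.Flat P (Localization.AtPrime Q) := h ⟨Q, inferInstance⟩ hgQ
  haveI : IsLocalization.AtPrime (Localization.AtPrime Q') Q :=
    IsLocalization.isLocalization_isLocalization_atPrime_isLocalization (Submonoid.powers g)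
      (Localization.AtPrime Q') Q'
  show Module.Flat P (Localization.AtPrime Q')
  exact Module.Flat.of_linearEquiv
    ((IsLocalization.algEquiv Q.primeCompl (Localization.AtPrime Q)
      (Localization.AtPrime Q')).toLinearEquiv.restrictScalars P).symm

/-- Over a Noetherian base, every prime in the image of a flat finite type algebra is in the image
of a quasi-finite flat algebra receiving it. -/
theorem exists_point {R S : Type u} [CommRing R] [IsNoetherianRing R] [CommRing S] [Algebra R S]
    [Algebra.FiniteType R S] [Module.Flat R S] (p : Ideal R) [p.IsPrime]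
    (q₀ : Ideal S) [q₀.IsPrime] (hq₀ : q₀.comap (algebraMap R S) = p) :
    ∃ (S' : Type u) (_ : CommRing S') (_ : Algebra R S'), Algebra.QuasiFinite R S' ∧
      Algebra.FiniteType R S' ∧ Module.Flat R S' ∧ Nonempty (S →ₐ[R] S') ∧
      ∃ q' : Ideal S', q'.IsPrime ∧ q'.comap (algebraMap R S') = p := by
  classical
  have hp : (p.map (algebraMap R S)).comap (algebraMap R S) ≤ p := by
    calc (p.map (algebraMap R S)).comap (algebraMap R S) ≤ q₀.comap (algebraMap R S) :=
          Ideal.comap_mono (Ideal.map_le_iff_le_comap.2 hq₀.ge)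
      _ = p := hq₀
  obtain ⟨d, s, f, hf, hker, hint⟩ := exists_normalization_mod p hp
  let P := MvPolynomial (Fin d) R
  letI : Algebra P S := (MvPolynomial.aeval s).toRingHom.toAlgebra
  haveI : IsScalarTower R P S :=
    IsScalarTower.of_algebraMap_eq fun r => ((MvPolynomial.aeval s).commutes r).symm
  haveI : Algebra.FiniteType P S := Algebra.FiniteType.of_restrictScalars_finiteType R P S
  haveI : IsNoetherianRing S := Algebra.FiniteType.isNoetherianRing R S
  haveI : Algebra.FinitePresentation P S := Algebra.FinitePresentation.of_finiteType.1 inferInstance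
  -- the generic point of the fibre of `P`
  let κ := p.ResidueField
  let μ : P →+* MvPolynomial (Fin d) κ := MvPolynomial.map (algebraMap R κ)
  let I := p.map (algebraMap R P)
  have hμ : RingHom.ker μ = I := by
    rw [MvPolynomial.ker_map, Ideal.ker_algebraMap_residueField]; rfl
  haveI : I.IsPrime := hμ ▸ RingHom.ker_isPrime μ
  have hIS : I.map (algebraMap P S) = p.map (algebraMap R S) :=
    (Ideal.map_map _ _).trans (by rw [← IsScalarTower.algebraMap_eq])
  haveI : IsScalarTower R (P ⧸ I) (S ⧸ I.map (algebraMap P S)) :=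
    IsScalarTower.of_algebraMap_eq (R := R) (S := P ⧸ I)
      (A := S ⧸ I.map (algebraMap P S)) fun r => by
      show Ideal.Quotient.mk _ (algebraMap R S r) =
        Ideal.Quotient.mk _ (algebraMap P S (algebraMap R P r))
      rw [← IsScalarTower.algebraMap_apply R P S]
  haveI : Algebra.FiniteType R (S ⧸ I.map (algebraMap P S)) :=
    Algebra.FiniteType.of_surjective (Ideal.Quotient.mkₐ R _) Ideal.Quotient.mk_surjective
  haveI : Algebra.FiniteType (P ⧸ I) (S ⧸ I.map (algebraMap P S)) :=
    Algebra.FiniteType.of_restrictScalars_finiteType R (P ⧸ I) (S ⧸ I.map (algebraMap P S))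
  obtain ⟨h, hh, hflat, hlift⟩ := exists_generic_flat (P ⧸ I) (S ⧸ I.map (algebraMap P S)) (by
    rw [injective_iff_map_eq_zero]
    intro x hx
    obtain ⟨a, rfl⟩ := Ideal.Quotient.mk_surjective x
    refine Ideal.Quotient.eq_zero_iff_mem.2 (hker a ?_)
    rw [← hIS]
    exact Ideal.Quotient.eq_zero_iff_mem.1 hx)
  obtain ⟨h, rfl⟩ := Ideal.Quotient.mk_surjective h
  have hh' : μ h ≠ 0 := fun h0 => hh (Ideal.Quotient.eq_zero_iff_mem.2 (hμ ▸ h0))
  obtain ⟨N, hNmax, hhN⟩ : ∃ N : Ideal (MvPolynomial (Fin d) κ), N.IsMaximal ∧ μ h ∉ N := by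
    by_contra hall
    push Not at hall
    have hrad : (⊥ : Ideal (MvPolynomial (Fin d) κ)).IsRadical := Ideal.isPrime_bot.isRadical
    have hjac := IsJacobsonRing.out (inferInstance : IsJacobsonRing (MvPolynomial (Fin d) κ)) hrad
    have hmem : μ h ∈ (⊥ : Ideal (MvPolynomial (Fin d) κ)).jacobson :=
      Ideal.mem_sInf.2 fun M hM => hall M hM.2
    rw [hjac] at hmem
    exact hh' hmem
  let q := N.comap μ
  have hqI : I ≤ q := hμ ▸ Ideal.ker_le_comap μ
  have hfq : algebraMap R P f ∉ q := by
    intro hmem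
    have hu : IsUnit (μ (algebraMap R P f)) := by
      rw [show μ (algebraMap R P f) = MvPolynomial.C (algebraMap R κ f) from MvPolynomial.map_C _ f]
      exact (isUnit_iff_ne_zero.2 fun h0 => hf (Ideal.algebraMap_residueField_eq_zero.1 h0)).map _
    exact hNmax.ne_top (Ideal.eq_top_of_isUnit_mem _ hmem hu)
  have hhq : h ∉ q := hhN
  -- algebraic coordinates
  haveI : Module.Finite κ (MvPolynomial (Fin d) κ ⧸ N) :=
    letI := Ideal.Quotient.field N
    finite_of_finite_type_of_isJacobsonRing κ (MvPolynomial (Fin d) κ ⧸ N)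
  have hG : ∀ i : Fin d, ∃ G : Polynomial R, G.leadingCoeff ∉ p ∧
      Polynomial.aeval (MvPolynomial.X i : P) G ∈ q := by
    intro i
    obtain ⟨g, hgm, hg⟩ := Algebra.IsIntegral.isIntegral (R := κ)
      (Ideal.Quotient.mk N (MvPolynomial.X i))
    obtain ⟨b, hb⟩ := IsLocalization.integerNormalization_map_to_map (nonZeroDivisors (R ⧸ p)) g
    set Qn := IsLocalization.integerNormalization (nonZeroDivisors (R ⧸ p)) g with hQn
    clear_value Qn
    have hinjD : Injective (algebraMap (R ⧸ p) κ) := IsFractionRing.injective _ _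
    have hb0 : algebraMap (R ⧸ p) κ b ≠ 0 :=
      (map_ne_zero_iff _ hinjD).2 (nonZeroDivisors.ne_zero b.2)
    rw [← algebraMap_smul κ, Polynomial.smul_eq_C_mul] at hb
    obtain ⟨G, hGQ, hdeg⟩ := Polynomial.mem_lifts_and_degree_eq
      (Polynomial.map_surjective (Ideal.Quotient.mk p) Ideal.Quotient.mk_surjective Qn)
    refine ⟨G, fun hmem => ?_, ?_⟩
    · have h1 : Qn.leadingCoeff = 0 := by
        rw [Polynomial.leadingCoeff, ← Polynomial.natDegree_eq_of_degree_eq hdeg, ← hGQ,
          Polynomial.coeff_map]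
        exact Ideal.Quotient.eq_zero_iff_mem.2 hmem
      have h2 := congrArg Polynomial.leadingCoeff hb
      rw [Polynomial.leadingCoeff_map_of_injective hinjD, h1, map_zero, Polynomial.leadingCoeff_mul,
        Polynomial.leadingCoeff_C, hgm.leadingCoeff, mul_one] at h2
      exact hb0 h2.symm
    · show μ (Polynomial.aeval (MvPolynomial.X i : P) G) ∈ N
      rw [← Ideal.Quotient.eq_zero_iff_mem, Polynomial.aeval_def, Polynomial.hom_eval₂,
        Polynomial.hom_eval₂, show μ (MvPolynomial.X i) = MvPolynomial.X i from MvPolynomial.map_X _ i]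
      have : (Ideal.Quotient.mk N).comp (μ.comp (algebraMap R P)) =
          ((algebraMap κ (MvPolynomial (Fin d) κ ⧸ N)).comp (algebraMap (R ⧸ p) κ)).comp
            (Ideal.Quotient.mk p) := RingHom.ext fun r => by
        show Ideal.Quotient.mk N (μ (MvPolynomial.C r)) = _
        rw [show μ (MvPolynomial.C r) = MvPolynomial.C (algebraMap R κ r) from MvPolynomial.map_C _ r]
        rfl
      rw [this, ← Polynomial.eval₂_map, hGQ, ← Polynomial.eval₂_map, hb, Polynomial.eval₂_mul, hg,
        mul_zero]
  choose G hGlead hGq using hG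
  -- the point of `S`
  obtain ⟨Qb, hQb, hQbq⟩ := hlift (q.map (Ideal.Quotient.mk I))
    (Ideal.map_isPrime_of_surjective Ideal.Quotient.mk_surjective (by rwa [Ideal.mk_ker])) (by
      intro hmem
      refine hhq ?_
      rwa [← Ideal.mem_comap, Ideal.comap_map_of_surjective' _ Ideal.Quotient.mk_surjective,
        Ideal.mk_ker, sup_eq_left.2 hqI] at hmem)
  let Q := Qb.comap (Ideal.Quotient.mk (I.map (algebraMap P S)))
  haveI : Q.IsPrime := Ideal.comap_isPrime _ _
  have hQq : Q.comap (algebraMap P S) = q := by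
    have := congrArg (Ideal.comap (Ideal.Quotient.mk I)) hQbq
    rw [Ideal.comap_map_of_surjective' _ Ideal.Quotient.mk_surjective, Ideal.mk_ker,
      sup_eq_left.2 hqI, Ideal.comap_comap] at this
    exact (Ideal.comap_comap _ _).trans this
  have hQp : Q.comap (algebraMap R S) = p := by
    rw [IsScalarTower.algebraMap_eq R P S, ← Ideal.comap_comap, hQq, Ideal.comap_comap,
      show μ.comp (algebraMap R P) = (MvPolynomial.C).comp (algebraMap R κ) from
        RingHom.ext fun r => MvPolynomial.map_C _ r, ← Ideal.comap_comap]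
    rw [(Ideal.eq_bot_or_top (N.comap (MvPolynomial.C : κ →+* MvPolynomial (Fin d) κ))).resolve_right
      (Ideal.comap_ne_top _ hNmax.ne_top), ← RingHom.ker_eq_comap_bot,
      Ideal.ker_algebraMap_residueField]
  -- quasi-finiteness at the point
  haveI := finite_fiber p q f hqI hfq hint
  haveI : Q.LiesOver q := ⟨hQq.symm⟩
  let Q' := (PrimeSpectrum.preimageEquivFiber P S ⟨q, inferInstance⟩
    ⟨⟨Q, inferInstance⟩, PrimeSpectrum.ext hQq⟩)
  haveI : Algebra.QuasiFiniteAt q.ResidueField Q'.asIdeal := inferInstance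
  have hQ' : Q'.asIdeal.comap Algebra.TensorProduct.includeRight.toRingHom = Q :=
    congrArg (fun x => x.1.asIdeal)
      ((PrimeSpectrum.preimageEquivFiber P S ⟨q, inferInstance⟩).symm_apply_apply
        ⟨⟨Q, inferInstance⟩, PrimeSpectrum.ext hQq⟩)
  haveI : Algebra.QuasiFiniteAt P Q :=
    Algebra.QuasiFiniteAt.of_quasiFiniteAt_residueField q Q Q'.asIdeal hQ'
  obtain ⟨Sf, hSf, r, hrQ, hr⟩ :=
    Algebra.QuasiFiniteAt.exists_fg_and_exists_notMem_and_awayMap_bijective (R := P) Q
  haveI : Module.Finite P Sf := ⟨(Submodule.fg_top _).mpr hSf⟩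
  haveI : Algebra.QuasiFinite P (Localization.Away r) := .trans _ Sf _
  haveI : Algebra.QuasiFinite P (Localization.Away r.1) :=
    Algebra.QuasiFinite.of_surjective_algHom (S := Localization.Away r)
      (T := Localization.Away r.1) (Localization.awayMapₐ Sf.val r) hr.2
  -- flatness near the point
  have hflatQ : FlatCA.FlatAt P Q S := by
    refine flatAt_of_fibre p Q (Ideal.map_le_iff_le_comap.2 hQp.ge) _ ?_ hflat
    rintro _ ⟨a, ha, rfl⟩
    obtain ⟨n, rfl⟩ := ha
    refine ⟨algebraMap P S (h ^ n), ?_, ?_⟩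
    · intro hmem
      have : h ^ n ∈ q := by rw [← hQq]; exact hmem
      exact hhq ((inferInstance : q.IsPrime).mem_of_pow_mem n this)
    · simp only [← map_pow]
      rfl
  obtain ⟨-, ⟨g, rfl⟩, hgQ, hgU⟩ := PrimeSpectrum.isTopologicalBasis_basic_opens.exists_subset_of_mem_open
    (show (⟨Q, inferInstance⟩ : PrimeSpectrum S) ∈ {x : PrimeSpectrum S | FlatCA.FlatAt P x.asIdeal S}
      from hflatQ) (FlatOpen.isOpen_flatLocus P S S)
  let T := Localization.Away (g * r.1)
  haveI : Module.Flat P T := flat_away P (g * r.1) fun x hx => hgU (show x ∈ PrimeSpectrum.basicOpen g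
    from fun h' => hx (x.asIdeal.mul_mem_right _ h'))
  haveI : Algebra.QuasiFinite P T := by
    let F : Localization.Away r.1 →ₐ[S] T :=
      IsLocalization.Away.liftAlgHom r.1 (f := Algebra.ofId _ _)
        (IsLocalization.Away.isUnit_of_dvd (x := g * r.1) (dvd_mul_left r.1 g))
    refine Algebra.QuasiFinite.of_forall_exists_mul_mem_range (F.restrictScalars P) fun x => ?_
    obtain ⟨x, ⟨t, ht⟩, rfl⟩ := IsLocalization.exists_mk'_eq (Submonoid.powers (g * r.1)) x
    exact ⟨algebraMap _ _ t, by simpa using IsLocalization.map_units T (⟨t, ht⟩ : Submonoid.powers (g * r.1)),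
      algebraMap _ _ x, by simp⟩
  haveI : Algebra.FiniteType S T := IsLocalization.finiteType_of_monoid_fg (Submonoid.powers (g * r.1)) T
  haveI : Algebra.FiniteType P T := Algebra.FiniteType.trans (S := S) inferInstance inferInstance
  -- a finite free algebra through the point
  let s₀ := ∏ i, (G i).leadingCoeff
  have hs₀ : s₀ ∉ p := fun hmem => by
    obtain ⟨i, -, hi⟩ := (inferInstance : p.IsPrime).prod_mem_iff.1 hmem
    exact hGlead i hi
  let A₁ := Localization.Away s₀
  have hlu : ∀ i, IsUnit (algebraMap R A₁ (G i).leadingCoeff) := fun i =>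
    IsLocalization.Away.isUnit_of_dvd (x := s₀) (Finset.dvd_prod_of_mem _ (Finset.mem_univ i))
  choose v hv using fun i => (hlu i).exists_left_inv
  let G₁ : Fin d → Polynomial A₁ := fun i => Polynomial.C (v i) * (G i).map (algebraMap R A₁)
  have hG₁ : ∀ i, (G₁ i).Monic := by
    intro i
    rcases subsingleton_or_nontrivial A₁ with h0 | h0
    · exact Subsingleton.elim _ _
    refine Polynomial.monic_C_mul_of_mul_leadingCoeff_eq_one ?_
    rw [Polynomial.leadingCoeff_map_of_leadingCoeff_ne_zero _ (hlu i).ne_zero]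
    exact hv i
  obtain ⟨E, _, _, e, hfin, hfree, hE⟩ := root_algebra d G₁ hG₁
  letI : Algebra R E := ((algebraMap A₁ E).comp (algebraMap R A₁)).toAlgebra
  haveI : IsScalarTower R A₁ E := IsScalarTower.of_algebraMap_eq fun _ => rfl
  letI : Algebra P E := (MvPolynomial.aeval e).toRingHom.toAlgebra
  haveI : IsScalarTower R P E :=
    IsScalarTower.of_algebraMap_eq fun r => ((MvPolynomial.aeval e).commutes r).symm
  haveI : Module.Flat R A₁ := IsLocalization.flat A₁ (Submonoid.powers s₀)
  haveI : Module.Flat R E := Module.Flat.trans R A₁ E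
  haveI : Algebra.QuasiFinite R E := Algebra.QuasiFinite.trans R A₁ E
  haveI : Algebra.FiniteType R A₁ := IsLocalization.finiteType_of_monoid_fg (Submonoid.powers s₀) A₁
  haveI : Algebra.FiniteType A₁ E := inferInstance
  haveI : Algebra.FiniteType R E := Algebra.FiniteType.trans (S := A₁) inferInstance inferInstance
  let S' := E ⊗[P] T
  haveI : Module.Flat R S' := Module.Flat.trans R E S'
  haveI : Algebra.QuasiFinite R S' := Algebra.QuasiFinite.trans R E S'
  haveI : Algebra.FiniteType R S' := Algebra.FiniteType.trans (S := E) inferInstance inferInstance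
  let φ : S →ₐ[R] S' :=
    { (Algebra.TensorProduct.includeRight : T →ₐ[P] S').toRingHom.comp (algebraMap S T) with
      commutes' := fun a => by
        show (1 : E) ⊗ₜ[P] algebraMap S T (algebraMap R S a) = algebraMap R S' a
        rw [IsScalarTower.algebraMap_apply R P S, ← IsScalarTower.algebraMap_apply P S T,
          Algebra.TensorProduct.algebraMap_apply, IsScalarTower.algebraMap_apply R P E,
          Algebra.algebraMap_eq_smul_one, Algebra.algebraMap_eq_smul_one (A := E),
          TensorProduct.smul_tmul] }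
  refine ⟨S', inferInstance, inferInstance, inferInstance, inferInstance, inferInstance, ⟨φ⟩, ?_⟩
  -- the point
  let K := Q.ResidueField
  have hRK : ∀ a, algebraMap R K a = 0 → a ∈ p := fun a ha => by
    rw [← hQp]
    exact Ideal.mem_comap.2 (Ideal.algebraMap_residueField_eq_zero.1
      (show algebraMap S K (algebraMap R S a) = 0 by rwa [← IsScalarTower.algebraMap_apply R S K]))
  letI : Algebra A₁ K := (IsLocalization.Away.lift (S := A₁) s₀
    (isUnit_iff_ne_zero.2 fun h0 => hs₀ (hRK _ h0) : IsUnit (algebraMap R K s₀))).toAlgebra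
  haveI : IsScalarTower R A₁ K :=
    IsScalarTower.of_algebraMap_eq fun a => (IsLocalization.Away.lift_eq (S := A₁) s₀ _ a).symm
  obtain ⟨ψ, hψ⟩ := hE K (fun i => algebraMap S K (s i)) fun i => by
    rw [map_mul, Polynomial.aeval_C, Polynomial.aeval_map_algebraMap,
      Polynomial.aeval_algebraMap_apply]
    have h1 : Polynomial.aeval (s i) (G i) ∈ Q := by
      have h2 : algebraMap P S (Polynomial.aeval (MvPolynomial.X i : P) (G i)) ∈ Q := by
        rw [← hQq] at hGq
        exact hGq i
      rw [← Polynomial.aeval_algebraMap_apply,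
        show algebraMap P S (MvPolynomial.X i) = s i from MvPolynomial.aeval_X s i] at h2
      exact h2
    rw [Ideal.algebraMap_residueField_eq_zero.2 h1, mul_zero]
  let ρ : E →ₐ[P] K :=
    { ψ.toRingHom with
      commutes' := fun a => by
        show ψ (MvPolynomial.aeval e a) = algebraMap P K a
        rw [IsScalarTower.algebraMap_apply P S K]
        show (ψ.toRingHom.comp (MvPolynomial.aeval e).toRingHom) a =
          ((algebraMap S K).comp (MvPolynomial.aeval s).toRingHom) a
        congr 1
        refine MvPolynomial.ringHom_ext (fun x => ?_) fun i => ?_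
        · simp [IsScalarTower.algebraMap_apply R A₁ E, ← IsScalarTower.algebraMap_apply R A₁ K,
            ← IsScalarTower.algebraMap_apply R S K]
        · simp [hψ] }
  let τ : T →ₐ[P] K := (IsLocalization.Away.liftAlgHom (g * r.1) (f := Algebra.ofId S K)
    (isUnit_iff_ne_zero.2 fun h0 => by
      rcases (inferInstance : Q.IsPrime).mem_or_mem (Ideal.algebraMap_residueField_eq_zero.1 h0) with
        h1 | h1
      · exact hgQ h1
      · exact hrQ h1)).restrictScalars P
  let χ : S' →ₐ[P] K := Algebra.TensorProduct.lift ρ τ fun _ _ => Commute.all _ _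
  refine ⟨RingHom.ker χ.toRingHom, RingHom.ker_isPrime _, ?_⟩
  have hc : ∀ a : R, χ (algebraMap R S' a) = algebraMap R K a := fun a => by
    rw [IsScalarTower.algebraMap_apply R P S', χ.commutes, ← IsScalarTower.algebraMap_apply R P K]
  ext a
  show χ (algebraMap R S' a) = 0 ↔ a ∈ p
  rw [hc]
  refine ⟨hRK a, fun ha => ?_⟩
  rw [← hQp] at ha
  rw [IsScalarTower.algebraMap_apply R S K, Ideal.algebraMap_residueField_eq_zero]
  exact ha

/-- A quotient of `P¹` is a quotient of `P` by an ideal. -/
theorem quotVecEquiv {A : Type u} [CommRing A] {n : ℕ} (R : Type u) [CommRing R] [Algebra A R]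
    (W : Set (MvPolynomial (Fin n) A)) :
    Nonempty (FlatOpen.Quot R (Submodule.span (MvPolynomial (Fin n) A)
        ((fun x _ => x) '' W : Set (FlatOpen.Vec n 1 A))) ≃ₗ[R]
      MvPolynomial (Fin n) R ⧸ (Ideal.span W).map (MvPolynomial.map (algebraMap A R))) := by
  let P := MvPolynomial (Fin n) R
  let f : FlatOpen.Vec n 1 R ≃ₗ[P] P := LinearEquiv.funUnique (Fin 1) P P
  refine ⟨(Submodule.Quotient.equiv _ _ f ?_).restrictScalars R⟩
  rw [FlatOpen.ext_span, Submodule.map_span, Ideal.map_span, Set.image_image, Set.image_image]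
  rfl

/-- A product of two flat modules is flat. -/
theorem flat_prod (R M N : Type u) [CommRing R] [AddCommGroup M] [Module R M] [AddCommGroup N]
    [Module R N] [Module.Flat R M] [Module.Flat R N] : Module.Flat R (M × N) := by
  rw [Module.Flat.iff_lTensor_preserves_injective_linearMap]
  intro A B _ _ _ _ f hf
  have hcomm : ∀ z, TensorProduct.prodLeft R R M N B (f.lTensor (M × N) z) =
      ((f.lTensor M).prodMap (f.lTensor N)) (TensorProduct.prodLeft R R M N A z) := by
    intro z
    induction z with
    | zero => simp only [map_zero]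
    | tmul x a => obtain ⟨m, n⟩ := x; simp
    | add x y hx hy => simp only [map_add, hx, hy]
  intro x y hxy
  have h := congrArg (TensorProduct.prodLeft R R M N B) hxy
  rw [hcomm, hcomm] at h
  refine (TensorProduct.prodLeft R R M N A).injective (Prod.ext ?_ ?_)
  · exact Module.Flat.lTensor_preserves_injective_linearMap (M := M) f hf (congrArg Prod.fst h)
  · exact Module.Flat.lTensor_preserves_injective_linearMap (M := N) f hf (congrArg Prod.snd h)

/-- Finitely many points can be covered at once. -/
theorem exists_points {R S : Type u} [CommRing R] [IsNoetherianRing R] [CommRing S] [Algebra R S]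
    [Algebra.FiniteType R S] [Module.Flat R S] {ι : Type u} (t : Finset ι)
    (U : ι → Set (PrimeSpectrum R))
    (hU : ∀ p ∈ t, ∃ (S' : Type u) (_ : CommRing S') (_ : Algebra R S'), Algebra.QuasiFinite R S' ∧
      Algebra.FiniteType R S' ∧ Module.Flat R S' ∧ Nonempty (S →ₐ[R] S') ∧
      U p ⊆ Set.range (PrimeSpectrum.comap (algebraMap R S'))) :
    ∃ (S' : Type u) (_ : CommRing S') (_ : Algebra R S'), Algebra.QuasiFinite R S' ∧
      Algebra.FiniteType R S' ∧ Module.Flat R S' ∧ Nonempty (S →ₐ[R] S') ∧
      ∀ p ∈ t, U p ⊆ Set.range (PrimeSpectrum.comap (algebraMap R S')) := by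
  classical
  induction t using Finset.induction_on with
  | empty =>
    haveI : Subsingleton (R ⧸ (⊤ : Ideal R)) := Ideal.Quotient.subsingleton_iff.2 rfl
    let φ : S →ₐ[R] R ⧸ (⊤ : Ideal R) :=
      { toFun := fun _ => 0
        map_one' := Subsingleton.elim _ _
        map_mul' := fun _ _ => Subsingleton.elim _ _
        map_zero' := rfl
        map_add' := fun _ _ => Subsingleton.elim _ _
        commutes' := fun _ => Subsingleton.elim _ _ }
    exact ⟨R ⧸ (⊤ : Ideal R), inferInstance, inferInstance, inferInstance,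
      Algebra.FiniteType.of_surjective (Ideal.Quotient.mkₐ R _) Ideal.Quotient.mk_surjective,
      inferInstance, ⟨φ⟩, fun p hp => absurd hp (Finset.notMem_empty p)⟩
  | insert a t hat ih =>
    obtain ⟨X, _, _, hXq, hXf, hXfl, ⟨φX⟩, hX⟩ := hU a (Finset.mem_insert_self a t)
    obtain ⟨Y, _, _, hYq, hYf, hYfl, ⟨φY⟩, hY⟩ :=
      ih fun p hp => hU p (Finset.mem_insert_of_mem hp)
    have hl : ∀ x : PrimeSpectrum X, PrimeSpectrum.comap (algebraMap R (X × Y))
        (PrimeSpectrum.comap (RingHom.fst X Y) x) = PrimeSpectrum.comap (algebraMap R X) x :=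
      fun x => rfl
    have hr : ∀ y : PrimeSpectrum Y, PrimeSpectrum.comap (algebraMap R (X × Y))
        (PrimeSpectrum.comap (RingHom.snd X Y) y) = PrimeSpectrum.comap (algebraMap R Y) y :=
      fun y => rfl
    have hq : Algebra.QuasiFinite R (X × Y) := by
      rw [Algebra.QuasiFinite.iff_finite_comap_preimage_singleton]
      intro x
      refine ((((Algebra.QuasiFinite.finite_comap_preimage_singleton (S := X) x).image
        (PrimeSpectrum.comap (RingHom.fst X Y))).union
        ((Algebra.QuasiFinite.finite_comap_preimage_singleton (S := Y) x).image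
          (PrimeSpectrum.comap (RingHom.snd X Y))))).subset ?_
      intro z hz
      rcases (Ideal.ideal_prod_prime z.asIdeal).1 z.isPrime with ⟨q, hq, hzq⟩ | ⟨q, hq, hzq⟩
      · have hzx : PrimeSpectrum.comap (RingHom.fst X Y) ⟨q, hq⟩ = z := by
          ext a
          rw [hzq]
          simp [Ideal.mem_prod]
        exact Or.inl ⟨⟨q, hq⟩, (hl _).symm.trans ((congrArg _ hzx).trans hz), hzx⟩
      · have hzx : PrimeSpectrum.comap (RingHom.snd X Y) ⟨q, hq⟩ = z := by
          ext a
          rw [hzq]
          simp [Ideal.mem_prod]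
        exact Or.inr ⟨⟨q, hq⟩, (hr _).symm.trans ((congrArg _ hzx).trans hz), hzx⟩
    refine ⟨X × Y, inferInstance, inferInstance, hq, inferInstance, flat_prod R X Y, ⟨φX.prod φY⟩,
      fun p hp => ?_⟩
    rcases Finset.mem_insert.1 hp with rfl | hp
    · rintro z hz
      obtain ⟨x, rfl⟩ := hX hz
      exact ⟨_, hl x⟩
    · rintro z hz
      obtain ⟨y, rfl⟩ := hY p hp hz
      exact ⟨_, hr y⟩

/-- The model over `R₁`. -/
theorem flat_model_aux {R S A : Type u} [CommRing R] [CommRing S] [Algebra R S] [CommRing A]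
    [Algebra A R] {n : ℕ} (π : MvPolynomial (Fin n) R →ₐ[R] S) (hπ : Surjective π)
    (W : Set (MvPolynomial (Fin n) A))
    (hker : RingHom.ker π.toRingHom = (Ideal.span W).map (MvPolynomial.map (algebraMap A R)))
    (R₁ : Type u) [CommRing R₁] [Algebra A R₁] [Algebra R₁ R] [IsScalarTower A R₁ R]
    [IsNoetherianRing R₁]
    (hflat : Module.Flat R₁ (FlatOpen.Quot R₁ (Submodule.span (MvPolynomial (Fin n) A)
        ((fun x _ => x) '' W : Set (FlatOpen.Vec n 1 A))))) :
    ∃ (R₁ : Type u) (_ : CommRing R₁) (_ : Algebra R₁ R) (S₁ : Type u) (_ : CommRing S₁)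
      (_ : Algebra R₁ S₁), IsNoetherianRing R₁ ∧ Algebra.FiniteType R₁ S₁ ∧ Module.Flat R₁ S₁ ∧
        Nonempty (R ⊗[R₁] S₁ ≃ₐ[R] S) := by
  obtain ⟨e₁⟩ := quotVecEquiv R₁ W
  let I₁ := (Ideal.span W).map (MvPolynomial.map (algebraMap A R₁))
  have hI₁ : RingHom.ker π.toRingHom = I₁.map (MvPolynomial.map (algebraMap R₁ R)) := by
    rw [hker, Ideal.map_map]
    congr 1
    refine MvPolynomial.ringHom_ext (fun a => ?_) fun i => ?_
    · simp [← IsScalarTower.algebraMap_apply]
    · simp
  exact ⟨R₁, inferInstance, inferInstance, MvPolynomial (Fin n) R₁ ⧸ I₁, inferInstance,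
    inferInstance, inferInstance,
    Algebra.FiniteType.of_surjective (Ideal.Quotient.mkₐ R₁ I₁) Ideal.Quotient.mk_surjective,
    Module.Flat.of_linearEquiv e₁.symm, S12085.nonempty_equiv π hπ I₁ hI₁⟩

/-- A finitely presented flat algebra descends to a flat algebra over a finite type `ℤ`-algebra. -/
theorem exists_flat_model (R S : Type u) [CommRing R] [CommRing S] [Algebra R S]
    [Algebra.FinitePresentation R S] [Module.Flat R S] :
    ∃ (R₁ : Type u) (_ : CommRing R₁) (_ : Algebra R₁ R) (S₁ : Type u) (_ : CommRing S₁)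
      (_ : Algebra R₁ S₁), IsNoetherianRing R₁ ∧ Algebra.FiniteType R₁ S₁ ∧ Module.Flat R₁ S₁ ∧
        Nonempty (R ⊗[R₁] S₁ ≃ₐ[R] S) := by
  classical
  obtain ⟨n, π, hπ, ⟨G, hG⟩⟩ := (inferInstance : Algebra.FinitePresentation R S).out
  let A := Algebra.adjoin ℤ ((G.biUnion fun v => v.coeffs : Finset R) : Set R)
  haveI : IsNoetherianRing A := isNoetherianRing_of_fg ⟨_, rfl⟩
  have hlift : ∀ v ∈ G, ∃ w : MvPolynomial (Fin n) A, MvPolynomial.map (algebraMap A R) w = v :=
    fun v hv => MvPolynomial.mem_range_map_iff_coeffs_subset.2 fun x hx =>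
      ⟨⟨x, Algebra.subset_adjoin (Finset.mem_biUnion.2 ⟨v, hv, hx⟩)⟩, rfl⟩
  choose! w hw using hlift
  let W : Set (MvPolynomial (Fin n) A) := w '' (G : Set (MvPolynomial (Fin n) R))
  let Z₀ : Submodule (MvPolynomial (Fin n) A) (FlatOpen.Vec n 1 A) :=
    Submodule.span _ ((fun x _ => x) '' W)
  have hker : RingHom.ker π.toRingHom = (Ideal.span W).map (MvPolynomial.map (algebraMap A R)) := by
    rw [← hG, Ideal.map_span, Set.image_image, Set.image_congr hw, Set.image_id']
  obtain ⟨e⟩ := quotVecEquiv R W
  haveI : Module.Flat R (FlatOpen.Quot R Z₀) :=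
    Module.Flat.of_linearEquiv (e.trans ((Ideal.quotientEquivAlgOfEq R hker.symm).trans
      (Ideal.quotientKerAlgEquivOfSurjective hπ)).toLinearEquiv)
  obtain ⟨R₁, hR₁, hflat⟩ := FlatOpen.exists_model_flat_all Z₀ R
  haveI : Algebra.FiniteType A R₁ := (Subalgebra.fg_iff_finiteType R₁).1 hR₁
  haveI : IsNoetherianRing R₁ := Algebra.FiniteType.isNoetherianRing A R₁
  exact flat_model_aux π hπ W hker R₁ hflat

/-- For a faithfully flat ring map R → S of finite presentation there is a quasi-finite (of finite type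
with finite fibres), faithfully flat, finitely presented R-algebra S' together with an R-algebra map
S → S'. -/
theorem result (R : Type u) [CommRing R]
    (S : Type u) [CommRing S] [Algebra R S] [Module.FaithfullyFlat R S]
    [Algebra.FinitePresentation R S] :
    ∃ (S' : Type u) (_ : CommRing S') (_ : Algebra R S'),
      Algebra.QuasiFinite R S' ∧ Algebra.FiniteType R S' ∧ Module.FaithfullyFlat R S' ∧
        Algebra.FinitePresentation R S' ∧ Nonempty (S →ₐ[R] S') := by
  classical
  obtain ⟨R₁, _, _, S₁, _, _, _, hft, hfl, ⟨e⟩⟩ := exists_flat_model R S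
  have hpt : ∀ p : PrimeSpectrum R, ∃ (X : Type u) (_ : CommRing X) (_ : Algebra R₁ X),
      Algebra.QuasiFinite R₁ X ∧ Algebra.FiniteType R₁ X ∧ Module.Flat R₁ X ∧
      Nonempty (S₁ →ₐ[R₁] X) ∧
      PrimeSpectrum.comap (algebraMap R₁ R) p ∈ Set.range (PrimeSpectrum.comap (algebraMap R₁ X)) := by
    intro p
    obtain ⟨q, hq⟩ := PrimeSpectrum.comap_surjective_of_faithfullyFlat (A := R) (B := S) p
    let ι : S₁ →+* S := (e.toAlgHom.toRingHom).comp
      (Algebra.TensorProduct.includeRight : S₁ →ₐ[R₁] R ⊗[R₁] S₁).toRingHom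
    have hι : ι.comp (algebraMap R₁ S₁) = (algebraMap R S).comp (algebraMap R₁ R) := by
      ext a
      show e ((Algebra.TensorProduct.includeRight : S₁ →ₐ[R₁] R ⊗[R₁] S₁) (algebraMap R₁ S₁ a)) = _
      rw [AlgHom.commutes, IsScalarTower.algebraMap_apply R₁ R (R ⊗[R₁] S₁), e.commutes]
      rfl
    obtain ⟨X, i1, i2, h1, h2, h3, h4, q', hq', hq'p⟩ := exists_point (S := S₁)
      (PrimeSpectrum.comap (algebraMap R₁ R) p).asIdeal (q.asIdeal.comap ι) (by
        rw [Ideal.comap_comap, hι, ← Ideal.comap_comap, ← hq]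
        rfl)
    exact ⟨X, i1, i2, h1, h2, h3, h4, ⟨⟨q', hq'⟩, PrimeSpectrum.ext hq'p⟩⟩
  choose X iX aX hqfX hftX hflX hφX hpX using hpt
  let V : PrimeSpectrum R → Set (PrimeSpectrum R₁) := fun p =>
    @Set.range (PrimeSpectrum R₁) (PrimeSpectrum (X p))
      (PrimeSpectrum.comap (algebraMap R₁ (X p)))
  have hV : ∀ p, IsOpen (V p) := fun p => by
    haveI := hftX p
    haveI := hflX p
    haveI : Algebra.FinitePresentation R₁ (X p) := Algebra.FinitePresentation.of_finiteType.1 inferInstance
    exact (PrimeSpectrum.isOpenMap_comap_of_hasGoingDown_of_finitePresentation).isOpen_range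
  obtain ⟨t, ht⟩ := isCompact_univ.elim_finite_subcover
    (fun p => PrimeSpectrum.comap (algebraMap R₁ R) ⁻¹' V p)
    (fun p => (hV p).preimage (PrimeSpectrum.continuous_comap _))
    (fun p _ => Set.mem_iUnion.2 ⟨p, hpX p⟩)
  obtain ⟨T, _, _, hTq, hTft, hTfl, ⟨φ⟩, hT⟩ := exists_points (S := S₁) t V fun p _ =>
    ⟨X p, iX p, aX p, hqfX p, hftX p, hflX p, hφX p, subset_rfl⟩
  haveI : Algebra.FinitePresentation R₁ T := Algebra.FinitePresentation.of_finiteType.1 hTft
  let S' := R ⊗[R₁] T
  refine ⟨S', inferInstance, inferInstance, inferInstance, inferInstance, ?_, inferInstance,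
    ⟨(Algebra.TensorProduct.map (AlgHom.id R R) φ).comp e.symm.toAlgHom⟩⟩
  refine Module.FaithfullyFlat.of_comap_surjective fun p => ?_
  obtain ⟨i, hit, hip⟩ := Set.mem_iUnion₂.1 (ht (Set.mem_univ p))
  have hp₀ : (PrimeSpectrum.comap (algebraMap R₁ R) p) ∈
      Set.range (PrimeSpectrum.comap (algebraMap R₁ T)) := hT i hit hip
  let p₀ := (PrimeSpectrum.comap (algebraMap R₁ R) p).asIdeal
  haveI : Nontrivial (p₀.Fiber T) :=
    (PrimeSpectrum.nontrivial_iff_mem_rangeComap _).2 hp₀
  haveI : p.asIdeal.LiesOver p₀ := ⟨rfl⟩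
  letI := Localization.AtPrime.algebraOfLiesOver p₀ p.asIdeal
  haveI : Module.Flat p₀.ResidueField (p₀.Fiber T) := inferInstance
  haveI : Nontrivial (p.asIdeal.ResidueField ⊗[p₀.ResidueField] (p₀.Fiber T)) := inferInstance
  have e' : p.asIdeal.Fiber S' ≃ₐ[p.asIdeal.ResidueField]
      p.asIdeal.ResidueField ⊗[p₀.ResidueField] (p₀.Fiber T) :=
    (Algebra.TensorProduct.cancelBaseChange _ _ _ _ _).trans
      (Algebra.TensorProduct.cancelBaseChange _ _ _ _ _).symm
  haveI : Nontrivial (p.asIdeal.Fiber S') := e'.toEquiv.nontrivial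
  exact (PrimeSpectrum.nontrivial_iff_mem_rangeComap p).1 this

end Groth.Agent.S9432
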