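import Groth.Statements.S1375
import Mathlib
import Groth.Agent.S9432
-- import your own Groth.Agent.* helpers here

set_option autoImplicit false
set_option linter.style.haveILetI false
universe u
open FlatMor

namespace Groth.Agent.S1375

set_option backward.isDefEq.respectTransparency.types false in
set_option backward.isDefEq.respectTransparency false in
open AlgebraicGeometry CategoryTheory Limits in
/-- Over an affine open, an fppf cover has a quasi-finite affine refinement. -/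
theorem exists_affine_refinement {S' S : Scheme.{u}} (g : S' ⟶ S) [Flat g]
    [LocallyOfFinitePresentation g] [Surjective g] (U : S.Opens) (hU : IsAffineOpen U) :
    ∃ (T : Scheme.{u}) (π : T ⟶ U.toScheme) (r : T ⟶ S'), IsAffine T ∧ Flat π ∧
      LocallyOfFinitePresentation π ∧ LocallyQuasiFinite π ∧ Surjective π ∧ r ≫ g = π ≫ U.ι := by
  classical
  haveI : IsAffine U.toScheme := hU
  haveI : CompactSpace U.toScheme := inferInstance
  let f := g ∣_ U
  haveI : Surjective f := MorphismProperty.of_isPullback (isPullback_morphismRestrict g U).flip ‹_›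
  let X := (g ⁻¹ᵁ U).toScheme
  let 𝒰 := X.affineCover
  have hopen : ∀ i, IsOpen (Set.range (𝒰.f i ≫ f)) := fun i => (𝒰.f i ≫ f).isOpenMap.isOpen_range
  obtain ⟨t, ht⟩ := isCompact_univ.elim_finite_subcover (fun i => Set.range (𝒰.f i ≫ f)) hopen
    (fun u _ => by
      obtain ⟨x, hx⟩ := f.surjective u
      obtain ⟨i, y, hy⟩ := 𝒰.exists_eq x
      exact Set.mem_iUnion.2 ⟨i, y, by rw [Scheme.Hom.comp_apply, hy, hx]⟩)
  let W : Scheme.{u} := ∐ fun i : t => 𝒰.X i.1
  let w : W ⟶ U.toScheme := Sigma.desc fun i : t => 𝒰.f i.1 ≫ f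
  haveI : Flat w := IsZariskiLocalAtSource.sigmaDesc fun i => inferInstance
  haveI : LocallyOfFinitePresentation w :=
    IsZariskiLocalAtSource.sigmaDesc fun i => inferInstance
  haveI : Surjective w := ⟨fun u => by
    obtain ⟨i, hi, y, hy⟩ := Set.mem_iUnion₂.1 (ht (Set.mem_univ u))
    refine ⟨Sigma.ι (fun i : t => 𝒰.X i.1) ⟨i, hi⟩ y, ?_⟩
    rw [← Scheme.Hom.comp_apply, Sigma.ι_desc]
    exact hy⟩
  let φ := w.appTop
  have hff : φ.hom.FaithfullyFlat :=
    (Flat.flat_and_surjective_iff_faithfullyFlat_of_isAffine w).mp ⟨‹_›, ‹_›⟩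
  have hfp : φ.hom.FinitePresentation :=
    HasRingHomProperty.appTop (P := @LocallyOfFinitePresentation) w inferInstance
  algebraize [φ.hom]
  haveI : Module.FaithfullyFlat Γ(U.toScheme, ⊤) Γ(W, ⊤) := hff
  haveI : Algebra.FinitePresentation Γ(U.toScheme, ⊤) Γ(W, ⊤) := hfp
  obtain ⟨C, _, _, hqf, -, hCff, hCfp, ⟨θ⟩⟩ := S9432.result Γ(U.toScheme, ⊤) Γ(W, ⊤)
  let ψ : Γ(U.toScheme, ⊤) ⟶ CommRingCat.of C := CommRingCat.ofHom (algebraMap Γ(U.toScheme, ⊤) C)
  let T := Spec (CommRingCat.of C)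
  let π : T ⟶ U.toScheme := Spec.map ψ ≫ U.toScheme.isoSpec.inv
  let θ' : Γ(W, ⊤) ⟶ CommRingCat.of C := CommRingCat.ofHom θ.toRingHom
  have hθ : φ ≫ θ' = ψ := CommRingCat.hom_ext (RingHom.ext fun a => θ.commutes a)
  obtain ⟨hflatψ, hsurjψ⟩ := (flat_and_surjective_SpecMap_iff ψ).mpr
    (RingHom.faithfullyFlat_algebraMap_iff.mpr hCff)
  haveI := hflatψ
  haveI := hsurjψ
  haveI : LocallyOfFinitePresentation (Spec.map ψ) :=
    (HasRingHomProperty.Spec_iff (P := @LocallyOfFinitePresentation)).mpr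
      (RingHom.finitePresentation_algebraMap.mpr hCfp)
  haveI : LocallyQuasiFinite (Spec.map ψ) :=
    (HasRingHomProperty.Spec_iff (P := @LocallyQuasiFinite)).mpr
      (RingHom.quasiFinite_algebraMap.mpr hqf)
  refine ⟨T, π, Spec.map θ' ≫ W.isoSpec.inv ≫ Sigma.desc (fun i : t => 𝒰.f i.1) ≫ (g ⁻¹ᵁ U).ι,
    inferInstance, inferInstance, inferInstance, inferInstance, inferInstance, ?_⟩
  have h1 : Sigma.desc (fun i : t => 𝒰.f i.1) ≫ (g ⁻¹ᵁ U).ι ≫ g = w ≫ U.ι := by
    refine Sigma.hom_ext _ _ fun i => ?_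
    simp [w, f]
  simp only [Category.assoc, h1]
  have h2 : W.isoSpec.inv ≫ w = Spec.map φ ≫ U.toScheme.isoSpec.inv :=
    (Scheme.isoSpec_inv_naturality w).symm
  rw [reassoc_of% h2]
  simp only [π, ← hθ, Spec.map_comp, Category.assoc]

set_option backward.isDefEq.respectTransparency.types false in
set_option backward.isDefEq.respectTransparency false in
open AlgebraicGeometry CategoryTheory Limits in
/-- Let S' → S be flat, locally of finite presentation and surjective (an fppf cover by one morphism).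
Then there is a flat, locally of finite presentation, locally quasi-finite and surjective T → S
which factors through S' locally on T. -/
theorem result {S' S : Scheme.{u}} (g : S' ⟶ S) [Flat g] [LocallyOfFinitePresentation g] [Surjective g] :
    ∃ (T : Scheme.{u}) (h : T ⟶ S), Flat h ∧ LocallyOfFinitePresentation h ∧ LocallyQuasiFinite h ∧ Surjective h ∧
      ∀ t : ↑T, ∃ (V : T.Opens) (r : ↑V ⟶ S'), t ∈ V ∧ r ≫ g = V.ι ≫ h := by
  classical
  choose T π r _ hfl hfp hqf hsurj hr using fun U : S.affineOpens => exists_affine_refinement g U.1 U.2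
  let T' : Scheme.{u} := ∐ T
  let h : T' ⟶ S := Sigma.desc fun U => π U ≫ U.1.ι
  haveI := hfl; haveI := hfp; haveI := hqf
  refine ⟨T', h, IsZariskiLocalAtSource.sigmaDesc fun U => inferInstance,
    IsZariskiLocalAtSource.sigmaDesc fun U => inferInstance,
    IsZariskiLocalAtSource.sigmaDesc fun U => inferInstance,
    ⟨fun x => ?_⟩, fun t => ?_⟩
  · obtain ⟨U, hU, hx, -⟩ := exists_isAffineOpen_mem_and_subset (show x ∈ (⊤ : S.Opens) from trivial)
    haveI := hsurj ⟨U, hU⟩
    obtain ⟨y, hy⟩ := (π ⟨U, hU⟩).surjective ⟨x, hx⟩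
    refine ⟨Sigma.ι T ⟨U, hU⟩ y, ?_⟩
    rw [← Scheme.Hom.comp_apply, Sigma.ι_desc, Scheme.Hom.comp_apply, hy]
    rfl
  · obtain ⟨i, y, hy⟩ := (sigmaOpenCover T).exists_eq t
    refine ⟨(Sigma.ι T i).opensRange, (Sigma.ι T i).isoOpensRange.inv ≫ r i, ⟨y, hy⟩, ?_⟩
    rw [Category.assoc, hr i, ← Iso.inv_hom_id_assoc (Sigma.ι T i).isoOpensRange
      ((Sigma.ι T i).opensRange.ι ≫ h), Scheme.Hom.isoOpensRange_hom_ι_assoc, Sigma.ι_desc]

end Groth.Agent.S1375
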