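import Groth.Statements.S0108
import Groth.Agent.EtaleSite.EtaleRoot
import Groth.Agent.EtaleSite.Clopen
-- import your own Groth.Agent.* helpers here

set_option autoImplicit false
open CategoryTheory CategoryTheory.Limits AlgebraicGeometry Opposite
universe u
open EtBase

namespace Groth.Agent.S0108

/-- The Kummer sequence — when n is invertible on S, the n-th power map on the multiplicative group
sheaf is an epimorphism of étale sheaves (its kernel μ_n is, by definition in the prelude, the sheaf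
of n-th roots of unity, so the sequence 0 → μ_n → G_m → G_m → 0 is exact). -/
theorem result (S : Scheme.{u}) (n : ℕ) (hn : IsUnit (n : Γ(S, ⊤))) : Epi (EtCoh.powMap S n) := by
  suffices Sheaf.IsLocallySurjective (EtCoh.powMap S n) from inferInstance
  constructor
  intro U t
  rcases Nat.eq_zero_or_pos n with rfl | hnpos
  · haveI : IsEmpty U.left := ⟨fun x => by
      have h0 : IsUnit (0 : U.left.residueField x) := by
        simpa using hn.map ((U.left.Γevaluation x).hom.comp U.hom.appTop.hom)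
      exact not_isUnit_zero h0⟩
    exact Groth.Agent.EtaleSite.mem_topology_of_forall_exists _ fun u => isEmptyElim u
  refine Groth.Agent.EtaleSite.mem_topology_of_forall_exists _ fun u => ?_
  let a : (Γ(U.left, ⊤))ˣ :=
    (show ULift.{u + 1} (Additive (Γ(U.left, ⊤))ˣ) from t).down.toMul
  obtain ⟨ν, hν⟩ : ∃ ν : (Γ(U.left, ⊤))ˣ, (ν : Γ(U.left, ⊤)) = (n : Γ(U.left, ⊤)) :=
    ⟨(hn.map U.hom.appTop.hom).unit, (hn.map U.hom.appTop.hom).unit_spec.trans (map_natCast _ _)⟩
  open Polynomial in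
  obtain ⟨V, g, hg, v, x, hv, hx⟩ := Groth.Agent.EtaleSite.exists_etale_root u (X ^ n - C a.val)
    (monic_X_pow_sub_C _ (by omega))
    (by
      haveI : Nontrivial Γ(U.left, ⊤) := (U.left.Γevaluation u).hom.domain_nontrivial
      rw [natDegree_X_pow_sub_C]; omega)
    ⟨C ((ν⁻¹).val * (a⁻¹).val) * X, C (-(a⁻¹).val), by
      obtain ⟨m, rfl⟩ : ∃ m, n = m + 1 := ⟨n - 1, by omega⟩
      rw [derivative_sub, derivative_X_pow, derivative_C, sub_zero, ← hν, Nat.add_sub_cancel,
        map_mul, map_neg]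
      have h1 : C ν.val * C (ν⁻¹).val = (1 : Γ(U.left, ⊤)[X]) := by rw [← map_mul, ν.mul_inv, map_one]
      have h2 : C a.val * C (a⁻¹).val = (1 : Γ(U.left, ⊤)[X]) := by rw [← map_mul, a.mul_inv, map_one]
      linear_combination (X ^ (m + 1) * C (a⁻¹).val) * h1 + h2⟩
  have hxn : x ^ n = g.appTop.hom a.val := by simpa [sub_eq_zero] using hx
  have hxu : IsUnit x := (isUnit_pow_iff (by omega : n ≠ 0)).1 (hxn ▸ a.isUnit.map g.appTop.hom)
  haveI : AlgebraicGeometry.Etale (g ≫ U.hom) :=
    haveI : AlgebraicGeometry.Etale U.hom := U.prop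
    inferInstance
  let W : S.Etale := Scheme.Etale.mk (g ≫ U.hom)
  refine ⟨W, MorphismProperty.Over.homMk g rfl trivial, v,
    ⟨(ULift.up (Additive.ofMul hxu.unit) : ULift.{u + 1} (Additive (Γ(V, ⊤))ˣ)), ?_⟩, hv⟩
  refine ULift.ext _ _ (Additive.toMul.injective (Units.ext ?_))
  have happ : ∀ s : ULift.{u + 1} (Additive (Γ(V, ⊤))ˣ),
      (EtCoh.powMap S n).hom.app (op W) s = n • s := fun s => by
    simp [EtCoh.powMap]
    rfl
  rw [happ]
  show (((n • Additive.ofMul hxu.unit).toMul : (Γ(V, ⊤))ˣ) : Γ(V, ⊤)) = g.appTop.hom a.val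
  rw [← ofMul_pow, toMul_ofMul, Units.val_pow_eq_pow_val, IsUnit.unit_spec, hxn]

end Groth.Agent.S0108
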