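import Groth.Prelude.Def_EtModW
import Groth.Prelude.Def_ARSys
import Mathlib.CategoryTheory.Linear.FunctorCategory
import Mathlib.RingTheory.Ideal.Operations
import Groth.Statements.S14017
import Mathlib.CategoryTheory.Sites.EpiMono

set_option autoImplicit false
open CategoryTheory CategoryTheory.Limits AlgebraicGeometry Opposite
universe u
open EtModW

namespace Groth.Agent.S14017

variable {Λ : Type (u + 1)} [CommRing Λ] (I : Ideal Λ)

/-- The functor `M ↦ M / I M`. -/
noncomputable def quotFun : ModuleCat.{u + 1} Λ ⥤ ModuleCat.{u + 1} Λ where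
  obj M := ModuleCat.of Λ (M ⧸ (I • ⊤ : Submodule Λ M))
  map {M N} f := ModuleCat.ofHom (Submodule.mapQ _ _ f.hom (by
    rw [← Submodule.map_le_iff_le_comap, Submodule.map_smul'']
    exact Submodule.smul_mono le_rfl le_top))
  map_id M := by ext x; rfl
  map_comp f g := by ext x; rfl

/-- The projection `M ⟶ M / I M`. -/
noncomputable def quotPi : 𝟭 (ModuleCat.{u + 1} Λ) ⟶ quotFun I where
  app M := ModuleCat.ofHom (Submodule.mkQ _)
  naturality M N f := by ext x; rfl

variable {X : Scheme.{u}} (F : EtModW.ModP Λ X)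

/-- The quotient sheaf `F / I F`. -/
noncomputable def quotSheaf : EtModW.ModP Λ X :=
  (presheafToSheaf (Scheme.ProEt.topology X) (ModuleCat.{u + 1} Λ)).obj (F.obj ⋙ quotFun I)

/-- The projection to `F / I F`. -/
noncomputable def quotMap : F ⟶ quotSheaf I F :=
  ⟨Functor.whiskerLeft F.obj (quotPi I) ≫ toSheafify (Scheme.ProEt.topology X) (F.obj ⋙ quotFun I)⟩

theorem homKilledBy_quotMap : ARSys.HomKilledBy I (quotMap I F) := by
  intro a ha
  refine Sheaf.hom_ext (NatTrans.ext (funext fun V => ?_))
  ext x
  show a • (toSheafify (Scheme.ProEt.topology X) (F.obj ⋙ quotFun I)).app V (Submodule.Quotient.mk x) = 0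
  erw [← map_smul ((toSheafify (Scheme.ProEt.topology X) (F.obj ⋙ quotFun I)).app V).hom,
    ← Submodule.Quotient.mk_smul,
    (Submodule.Quotient.mk_eq_zero _).2 (Submodule.smul_mem_smul ha Submodule.mem_top)]
  exact map_zero _

theorem exists_sum_smul {r : ℕ} (g : Fin r → Λ) {M : Type (u + 1)} [AddCommGroup M] [Module Λ M]
    {x : M} (hx : x ∈ (Ideal.span (Set.range g) • ⊤ : Submodule Λ M)) :
    ∃ t : Fin r → M, ∑ i, g i • t i = x := by
  refine Submodule.smul_induction_on hx ?_ ?_
  · intro a ha m _
    obtain ⟨c, rfl⟩ := Ideal.mem_span_range_iff_exists_fun.1 ha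
    refine ⟨fun i => c i • m, ?_⟩
    rw [Finset.sum_smul]
    exact Finset.sum_congr rfl fun i _ => by rw [← mul_smul, mul_comm]
  · intro x y hx hy
    obtain ⟨s, rfl⟩ := hx
    obtain ⟨t, rfl⟩ := hy
    exact ⟨fun i => s i + t i, by simp [smul_add, Finset.sum_add_distrib]⟩

theorem surjective_app_of_epi {G : EtModW.ModP Λ X} (q : F ⟶ G) [Epi q] (U : X.ProEt)
    (hU : ProEtS.IsWC U) : Function.Surjective (q.hom.app (op U)).hom := by
  have : Sheaf.IsLocallySurjective q := (Sheaf.isLocallySurjective_iff_epi' _ q).2 inferInstance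
  exact hU _ _ ((sheafCompose (Scheme.ProEt.topology X) (forget (ModuleCat.{u + 1} Λ))).map q)
    inferInstance

theorem main (hI : I.FG) (Q : EtModW.ModP Λ X) (p : F ⟶ Q) (hp : ARSys.IsQuot I p)
    (U : X.ProEt) (hU : ProEtS.IsWC U) :
    Function.Surjective (p.hom.app (op U)).hom ∧
      LinearMap.ker (p.hom.app (op U)).hom = I • (⊤ : Submodule Λ (F.obj.obj (op U))) := by
  have : Epi p := ⟨fun {Y} a b hab => by
    have hk : ARSys.HomKilledBy I (p ≫ a) := fun c hc => by
      rw [← Linear.comp_smul, ← Category.id_comp (c • a), Linear.comp_smul, ← Linear.smul_comp,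
        hp.1 c hc, zero_comp, comp_zero]
    exact (hp.2 Y (p ≫ a) hk).unique rfl hab.symm⟩
  haveI : HasFiniteBiproducts (EtModW.ModP Λ X) := HasFiniteBiproducts.of_hasFiniteProducts
  refine ⟨surjective_app_of_epi F p U hU, le_antisymm ?_ ?_⟩
  · obtain ⟨r, g, hg⟩ := Submodule.fg_iff_exists_fin_generating_family.1 hI
    let ψ : (⨁ fun _ : Fin r => F) ⟶ F := biproduct.desc fun i => g i • 𝟙 F
    obtain ⟨χ, hχ, -⟩ := hp.2 _ (quotMap I F) (homKilledBy_quotMap I F)
    have hψ : ψ ≫ p = 0 := biproduct.hom_ext' _ _ fun i => by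
      rw [biproduct.ι_desc_assoc, Linear.smul_comp, Category.id_comp, comp_zero]
      conv_lhs => rw [← Category.comp_id p]
      rw [← Linear.comp_smul, hp.1 _ (hg ▸ Submodule.subset_span ⟨i, rfl⟩), comp_zero]
    let ψ' : (⨁ fun _ : Fin r => F) ⟶ kernel p := kernel.lift p ψ hψ
    have hinj : ∀ V : X.ProEtᵒᵖ, Function.Injective ((kernel.ι p).hom.app V) := by
      intro V
      have : Mono (((sheafToPresheaf _ _ ⋙ (evaluation _ _).obj V)).map (kernel.ι p)) := inferInstance
      exact (ModuleCat.mono_iff_injective _).1 this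
    have hker : ∀ (V : X.ProEtᵒᵖ) (x : (kernel p).obj.obj V),
        p.hom.app V ((kernel.ι p).hom.app V x) = 0 := fun V x =>
      congrArg (fun k => k.hom.app V x) (kernel.condition p)
    have : Sheaf.IsLocallySurjective ψ' := by
      constructor
      intro V s
      have h0 : (toSheafify (Scheme.ProEt.topology X) (F.obj ⋙ quotFun I)).app (op V)
          (Submodule.Quotient.mk ((kernel.ι p).hom.app (op V) s)) = 0 := by
        have := congrArg (fun k => k.hom.app (op V) ((kernel.ι p).hom.app (op V) s)) hχ
        refine this.symm.trans ?_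
        show χ.hom.app (op V) (p.hom.app (op V) ((kernel.ι p).hom.app (op V) s)) = 0
        rw [hker]
        exact map_zero _
      refine (Scheme.ProEt.topology X).superset_covering ?_
        (Presheaf.equalizerSieve_mem (Scheme.ProEt.topology X)
          (toSheafify (Scheme.ProEt.topology X) (F.obj ⋙ quotFun I))
          (Submodule.Quotient.mk ((kernel.ι p).hom.app (op V) s)) 0
          (h0.trans (map_zero _).symm))
      intro W f hf
      have hf' : Submodule.Quotient.mk
          (p := (I • ⊤ : Submodule Λ (F.obj.obj (op W))))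
          (F.obj.map f.op ((kernel.ι p).hom.app (op V) s)) = 0 := hf.trans (map_zero _)
      rw [Submodule.Quotient.mk_eq_zero, ← hg] at hf'
      obtain ⟨t, ht⟩ := exists_sum_smul g hf'
      refine ⟨∑ i, (biproduct.ι (fun _ : Fin r => F) i).hom.app (op W) (t i), hinj _ ?_⟩
      rw [NatTrans.naturality_apply]
      refine Eq.trans ?_ ht
      rw [map_sum, map_sum]
      refine Finset.sum_congr rfl fun i _ => ?_
      exact congrArg (fun k => k.hom.app (op W) (t i))
        (show biproduct.ι (fun _ : Fin r => F) i ≫ ψ' ≫ kernel.ι p = g i • 𝟙 F by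
          rw [kernel.lift_ι, biproduct.ι_desc])
    have : Epi ψ' := inferInstance
    intro x hx
    obtain ⟨y, hy⟩ : ∃ y, (kernel.ι p).hom.app (op U) y = x := by
      let Ψ := sheafToPresheaf (Scheme.ProEt.topology X) (ModuleCat.{u + 1} Λ) ⋙
        (evaluation _ _).obj (op U)
      obtain ⟨k, hk⟩ := (ModuleCat.epi_iff_surjective (PreservesKernel.iso Ψ p).hom).1
        inferInstance ((ModuleCat.kernelIsoKer (Ψ.map p)).inv ⟨x, hx⟩)
      refine ⟨k, ?_⟩
      have h1 := congrArg (fun φ => φ k) (PreservesKernel.iso_hom Ψ p)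
      refine Eq.trans (?_ : _ = kernel.ι (Ψ.map p) ((PreservesKernel.iso Ψ p).hom k)) ?_
      · exact (congrArg (fun φ => φ k) (kernelComparison_comp_ι p Ψ)).symm.trans
          (congrArg (kernel.ι (Ψ.map p)) h1.symm)
      · rw [hk]
        exact congrArg (fun φ => φ ⟨x, hx⟩) (ModuleCat.kernelIsoKer_inv_kernel_ι (Ψ.map p))
    obtain ⟨z, hz⟩ := surjective_app_of_epi _ ψ' U hU y
    have hdec : z = ∑ i, (biproduct.ι (fun _ : Fin r => F) i).hom.app (op U)
        ((biproduct.π (fun _ : Fin r => F) i).hom.app (op U) z) := by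
      have h := congrArg (fun k => k.hom.app (op U) z) (biproduct.total (f := fun _ : Fin r => F))
      let ev := sheafToPresheaf (Scheme.ProEt.topology X) (ModuleCat.{u + 1} Λ) ⋙
        (evaluation _ _).obj (op U)
      have h2 := congrArg (fun k => k z)
        (ev.map_sum (fun i => biproduct.π (fun _ : Fin r => F) i ≫ biproduct.ι (fun _ : Fin r => F) i) Finset.univ)
      refine h.symm.trans (h2.trans ?_)
      exact (congrArg (fun k : _ →ₗ[Λ] _ => k z) (ModuleCat.hom_sum _ _)).trans
        (LinearMap.sum_apply _ _ _)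
    rw [← hy, ← hz, hdec, map_sum, map_sum]
    refine Submodule.sum_mem _ fun i _ => ?_
    have hi := congrArg (fun k => k.hom.app (op U) ((biproduct.π (fun _ : Fin r => F) i).hom.app (op U) z))
        (show biproduct.ι (fun _ : Fin r => F) i ≫ ψ' ≫ kernel.ι p = g i • 𝟙 F by
          rw [kernel.lift_ι, biproduct.ι_desc])
    refine (congrArg (· ∈ (I • ⊤ : Submodule Λ (F.obj.obj (op U)))) hi).mpr ?_
    exact Submodule.smul_mem_smul (hg ▸ Submodule.subset_span ⟨i, rfl⟩) Submodule.mem_top
  · refine Submodule.smul_le.2 fun a ha x _ => ?_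
    have := congrArg (fun k => k.hom.app (op U) (p.hom.app (op U) x)) (hp.1 a ha)
    rw [LinearMap.mem_ker, map_smul]
    exact this

/-- Let X be a scheme, Λ a commutative ring and I a finitely generated ideal of Λ; let F be a sheaf of
Λ-modules on the small pro-étale site of X and p : F ⟶ Q a quotient map modulo I (Q is killed by I
and every morphism out of F killed by I factors uniquely through p, so Q = F/IF); let U be a weakly
contractible object of the pro-étale site. Then the map on sections F(U) → Q(U) is surjective and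
its kernel is exactly the submodule I·F(U): sections over a weakly contractible object commute with
forming IF and F/IF. (The published lemma is for sheaves of Λ-modules on an arbitrary site and a
weakly contractible object of it; this row states the case of the small pro-étale site of a scheme.) -/
theorem result
    (Λ : Type (u + 1)) [CommRing Λ] (I : Ideal Λ) (hI : I.FG)
    (X : Scheme.{u}) (F Q : EtModW.ModP Λ X) (p : F ⟶ Q) (hp : ARSys.IsQuot I p)
    (U : X.ProEt) (hU : ProEtS.IsWC U) :
    Function.Surjective (p.hom.app (op U)).hom ∧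
      LinearMap.ker (p.hom.app (op U)).hom = I • (⊤ : Submodule Λ (F.obj.obj (op U))) :=
  main I F hI Q p hp U hU

end Groth.Agent.S14017
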