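import Groth.Statements.S0742
import Mathlib.CategoryTheory.Adjunction.Triple
import Mathlib.CategoryTheory.Adjunction.FullyFaithful

set_option autoImplicit false
open CategoryTheory CategoryTheory.Limits AlgebraicGeometry Opposite
universe u
open ProEtS

namespace Groth.Agent.S0742

variable {U X : Scheme.{u}} (j : U ⟶ X)

/-- Composition with `j` is left adjoint to base change along `j`. -/
noncomputable def compBcAdj [hj : WeaklyEtale j] : ProEtS.compP j ⊣ ProEtS.bcP j :=
  MorphismProperty.Over.mapPullbackAdj @WeaklyEtale ⊤ j hj trivial

/-- Restriction along `j` is left adjoint to `j_*`. -/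
noncomputable def restrPushAdj [WeaklyEtale j] [ProEtS.JPCont j] [ProEtS.PCont j] :
    ProEtS.restrP j ⊣ ProEtS.pushP j :=
  (compBcAdj j).sheafPushforwardContinuous (Scheme.ProEt.topology U) (Scheme.ProEt.topology X)

set_option backward.isDefEq.respectTransparency.types false in
/-- `j_*` is fully faithful. -/
noncomputable def pushFullyFaithful [WeaklyEtale j] [Mono j] [ProEtS.JPCont j] [ProEtS.PCont j] :
    (ProEtS.pushP j).FullyFaithful := by
  have : ∀ F, IsIso ((restrPushAdj j).counit.app F) := fun F => by
    have : ∀ V, IsIso (((restrPushAdj j).counit.app F).hom.app V) := fun V => by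
      change IsIso (F.obj.map ((compBcAdj j).unit.app V.unop).op)
      have : IsIso ((Scheme.ProEt.forget U).map ((compBcAdj j).unit.app V.unop)).left := by
        let W := V.unop
        let l : W.left ⟶ pullback (W.hom ≫ j) j := pullback.lift (𝟙 _) W.hom (by simp)
        show IsIso l
        refine ⟨pullback.fst _ _, pullback.lift_fst _ _ _, ?_⟩
        apply pullback.hom_ext
        · rw [Category.assoc, pullback.lift_fst, Category.comp_id, Category.id_comp]
        · rw [Category.assoc, pullback.lift_snd, Category.id_comp, ← cancel_mono j, Category.assoc]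
          exact pullback.condition
      have : IsIso ((Scheme.ProEt.forget U).map ((compBcAdj j).unit.app V.unop)) :=
        @isIso_of_reflects_iso _ _ _ _ _ _ _ (CategoryTheory.Over.forget U) this _
      have : IsIso ((compBcAdj j).unit.app V.unop) :=
        isIso_of_reflects_iso _ (Scheme.ProEt.forget U)
      infer_instance
    have : IsIso ((sheafToPresheaf (Scheme.ProEt.topology U) AddCommGrpCat.{u + 1}).map
        ((restrPushAdj j).counit.app F)) :=
      @NatIso.isIso_of_isIso_app _ _ _ _ _ _ ((restrPushAdj j).counit.app F).hom this
    exact isIso_of_fully_faithful (f := (restrPushAdj j).counit.app F)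
      (sheafToPresheaf (Scheme.ProEt.topology U) AddCommGrpCat.{u + 1})
  have : IsIso (restrPushAdj j).counit := NatIso.isIso_of_isIso_app _
  exact (restrPushAdj j).fullyFaithfulROfIsIsoCounit

/-- For an open immersion j : U -> X, the unit F -> j^{-1} j_! F and the counit j^{-1} j_* G -> G are
isomorphisms on abelian pro-etale sheaves (so j_! and j_* are fully faithful; continuity binders
assumed). -/
theorem result {U X : Scheme.{u}} (j : U ⟶ X) [IsOpenImmersion j]
    [ProEtS.JPCont j] [ProEtS.PCont j] (F G : ProEtS.AbP U) :
    IsIso ((ProEtS.extZeroPAdj j).unit.app F) ∧ IsIso ((ProEtS.pullPushAdjP j).counit.app G) := by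
  have t : Adjunction.Triple (ProEtS.extZeroP j) (ProEtS.restrP j) (ProEtS.pushP j) :=
    ⟨ProEtS.extZeroPAdj j, restrPushAdj j⟩
  have hF := pushFullyFaithful j
  have := hF.full
  have := hF.faithful
  have := (t.fullyFaithfulEquiv.symm hF).full
  have := (t.fullyFaithfulEquiv.symm hF).faithful
  exact ⟨inferInstance, inferInstance⟩

end Groth.Agent.S0742
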