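import Groth.Statements.S1974
import Groth.Agent.EtAlgPair.MaxWeak

set_option autoImplicit false
universe u
open EtAlg

open scoped TensorProduct

namespace Groth.Agent.S1974

/-- Let A -> B be weakly etale and q a prime of B lying over the prime p of A. Then the residue field of
q is a separable algebraic extension of the residue field of p. -/
theorem result (A B : Type u) [CommRing A] [CommRing B] [Algebra A B]
    [Algebra.WeaklyEtale A B] (p : Ideal A) [p.IsPrime] (q : Ideal B) [q.IsPrime] [q.LiesOver p]
    [Algebra (Localization.AtPrime p) (Localization.AtPrime q)] [Localization.AtPrime.IsLiesOverAlgebra p q] :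
    Algebra.IsSeparable p.ResidueField q.ResidueField := by
  haveI : Algebra.WeaklyEtale p.ResidueField (TensorProduct A p.ResidueField B) := inferInstance
  let ψ : TensorProduct A p.ResidueField B →ₐ[p.ResidueField] q.ResidueField :=
    Algebra.TensorProduct.lift (Algebra.ofId p.ResidueField q.ResidueField)
      (IsScalarTower.toAlgHom A B q.ResidueField) fun _ _ => mul_comm _ _
  have hB : ∀ b : B, IsSeparable p.ResidueField (algebraMap B q.ResidueField b) := by
    intro b
    obtain ⟨f, hf, hb⟩ := Groth.Agent.EtAlgPair.WeakField.isSep_algHom ψ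
      (Groth.Agent.EtAlgPair.WeakField.exists_separable_aeval p.ResidueField
        ((1 : p.ResidueField) ⊗ₜ[A] b))
    have h1 : ψ ((1 : p.ResidueField) ⊗ₜ[A] b) = algebraMap B q.ResidueField b := by
      simp [ψ]
    rw [h1] at hb
    exact hf.of_dvd (minpoly.dvd _ _ hb)
  refine ⟨fun z => ?_⟩
  rw [← mem_separableClosure_iff]
  obtain ⟨x, y, -, rfl⟩ := IsFractionRing.div_surjective (B ⧸ q) z
  obtain ⟨x, rfl⟩ := Ideal.Quotient.mk_surjective x
  obtain ⟨y, rfl⟩ := Ideal.Quotient.mk_surjective y
  rw [← Ideal.Quotient.algebraMap_eq, ← IsScalarTower.algebraMap_apply, ← IsScalarTower.algebraMap_apply]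
  exact div_mem (mem_separableClosure_iff.mpr (hB x)) (mem_separableClosure_iff.mpr (hB y))

end Groth.Agent.S1974
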