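import Groth.Statements.S7127
import Groth.Agent.FlatMor.LmulFlat

set_option autoImplicit false
universe u
open EtAlg

open scoped TensorProduct

namespace Groth.Agent.S7127

/-- Flatness descends along a surjection. -/
theorem flat_of_surjective {R S T : Type u} [CommRing R] [CommRing S] [CommRing T] (f : R →+* S) (g : S →+* T)
    (hf : Function.Surjective f) (h : (g.comp f).Flat) : g.Flat := by
  letI := f.toAlgebra
  letI := g.toAlgebra
  letI := (g.comp f).toAlgebra
  haveI : IsScalarTower R S T := IsScalarTower.of_algebraMap_eq' rfl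
  haveI : Module.Flat R T := h
  show Module.Flat S T
  refine Groth.Agent.FlatMor.LmulFlat.flat_of_flat_lmul R S (RingHom.Flat.of_bijective ?_) T
  refine ⟨fun x y hxy => ?_, fun z => ⟨z ⊗ₜ 1, by simp⟩⟩
  have key : ∀ w : S ⊗[R] S, ∃ a : S, w = a ⊗ₜ 1 := by
    intro w
    induction w with
    | zero => exact ⟨0, (TensorProduct.zero_tmul _ _).symm⟩
    | tmul a b =>
      obtain ⟨r, rfl⟩ := hf b
      refine ⟨r • a, ?_⟩
      rw [TensorProduct.smul_tmul, Algebra.smul_def, mul_one]
      rfl
    | add x y hx hy =>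
      obtain ⟨a, rfl⟩ := hx; obtain ⟨b, rfl⟩ := hy
      exact ⟨a + b, (TensorProduct.add_tmul _ _ _).symm⟩
  obtain ⟨a, rfl⟩ := key x
  obtain ⟨b, rfl⟩ := key y
  simp at hxy
  rw [hxy]

/-- Let A be a ring and B → C an A-algebra homomorphism between weakly étale A-algebras. Then C is
weakly étale over B. -/
theorem result (A B C : Type u) [CommRing A] [CommRing B] [CommRing C]
    [Algebra A B] [Algebra A C] [Algebra B C] [IsScalarTower A B C] [Algebra.WeaklyEtale A B]
    [Algebra.WeaklyEtale A C] : Algebra.WeaklyEtale B C := by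
  haveI : Module.Flat B C :=
    Groth.Agent.FlatMor.LmulFlat.flat_of_flat_lmul A B (Algebra.WeaklyEtale.flat_lmul' A B) C
  refine ⟨inferInstance, ?_⟩
  let π : C ⊗[A] C →ₐ[A] C ⊗[B] C := Algebra.TensorProduct.lift
    (Algebra.TensorProduct.includeLeft (R := B) (S := A) (A := C) (B := C))
    ((Algebra.TensorProduct.includeRight (R := B) (A := C) (B := C)).restrictScalars A) fun _ _ => mul_comm _ _
  have hπ : ∀ c c' : C, π (c ⊗ₜ[A] c') = c ⊗ₜ[B] c' := fun c c' => by
    simp [π, Algebra.TensorProduct.tmul_mul_tmul]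
  have hπs : Function.Surjective π := by
    intro z
    induction z with
    | zero => exact ⟨0, map_zero _⟩
    | tmul c c' => exact ⟨c ⊗ₜ c', hπ c c'⟩
    | add x y hx hy =>
      obtain ⟨x', rfl⟩ := hx; obtain ⟨y', rfl⟩ := hy
      exact ⟨x' + y', map_add _ _ _⟩
  let μA := (Algebra.TensorProduct.lmul' A (S := C)).toRingHom
  let μB := (Algebra.TensorProduct.lmul' B (S := C)).toRingHom
  have hcomp : μB.comp π.toRingHom = μA := by
    refine RingHom.ext fun z => ?_
    induction z with
    | zero => simp only [map_zero]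
    | tmul c c' => simp [μA, μB, hπ]
    | add x y hx hy => simp only [map_add, hx, hy]
  show μB.Flat
  exact flat_of_surjective π.toRingHom μB hπs (by rw [hcomp]; exact Algebra.WeaklyEtale.flat_lmul' A C)

end Groth.Agent.S7127
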