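import Groth.Prelude.Def_EtModW
import Groth.Prelude.Def_ARSys
import Mathlib.CategoryTheory.Linear.FunctorCategory
import Mathlib.CategoryTheory.Limits.HasLimits
import Groth.Agent.EtModWLib.LimitQuot
import Groth.Agent.EtModWLib.EpsPull

set_option autoImplicit false
open CategoryTheory CategoryTheory.Limits AlgebraicGeometry Opposite
universe u
open EtModW

namespace Groth.Agent.S14010

open Groth.Agent Groth.Agent.EtModWLib

/-- Let X be a scheme, Λ a commutative ring, I a finitely generated ideal of Λ and F a sheaf of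
Λ-modules on the small pro-étale site of X. Call F an I-adic pro-étale sheaf when there is a
compatible tower of quotient maps F ⟶ Q_n modulo I^(n+1) (Q_n = F/I^(n+1)F) such that every Q_n is
isomorphic to the pro-étale pullback ε⁻¹ of a constructible sheaf of Λ-modules on the small étale
site and the canonical map F ⟶ lim_n Q_n is an isomorphism. Then F is an I-adic pro-étale sheaf if
and only if F is isomorphic to lim_n ε⁻¹G_n for some I-adic inverse system (G_n) of constructible
étale sheaves of Λ-modules (I^(n+1) G_n = 0, transition maps quotient maps modulo I^(n+1)).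
(Continuity of the inclusion of the étale site into the pro-étale site is carried as a binder.) -/
theorem result
    (Λ : Type (u + 1)) [CommRing Λ] (I : Ideal Λ) (hI : I.FG)
    (X : Scheme.{u}) [ProEtS.EpsCont X] (F : EtModW.ModP Λ X) :
    (∃ (Q : ℕᵒᵖ ⥤ EtModW.ModP Λ X) (p : (Functor.const ℕᵒᵖ).obj F ⟶ Q),
        (∀ n : ℕ, ARSys.IsQuot (I ^ (n + 1)) (p.app (op n))) ∧
        (∀ n : ℕ, ∃ E : EtModW.Mod Λ X, EtModW.IsConstructible Λ E ∧
          Nonempty ((EtModW.epsPullMod Λ X).obj E ≅ Q.obj (op n))) ∧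
        IsIso (limit.lift Q (Cone.mk F p))) ↔
      ∃ G : ARSys.PS (EtModW.Mod Λ X), ARSys.IsAdic I G ∧
        (∀ n : ℕ, EtModW.IsConstructible Λ (G.obj (op n))) ∧
        Nonempty (limit (G ⋙ EtModW.epsPullMod Λ X) ≅ F) := by
  constructor
  · rintro ⟨Q, p, hQ, hc, hlim⟩
    obtain ⟨G, hG, hGc, ⟨e⟩⟩ := exists_system hQ hc
    haveI := hlim
    exact ⟨G, hG, hGc, ⟨HasLimit.isoOfNatIso e ≪≫ (asIso (limit.lift Q (Cone.mk F p))).symm⟩⟩
  · rintro ⟨G, hG, hGc, ⟨e⟩⟩
    let H := G ⋙ EtModW.epsPullMod Λ X
    refine ⟨H, { app := fun j => e.inv ≫ limit.π H j, naturality := fun a b r => ?_ }, fun n => ?_,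
      fun n => ⟨G.obj (op n), hGc n, ⟨Iso.refl _⟩⟩, ?_⟩
    · exact (Category.id_comp _).trans (((Category.assoc _ _ _).trans (congrArg (e.inv ≫ ·) (limit.w H r))).symm)
    · exact Groth.Agent.ARLib.quot_iso_left _ (isQuot_limit_π_eps hI hG n)
    · convert (inferInstance : IsIso e.inv) using 1
      exact limit.hom_ext fun j => limit.lift_π _ j

end Groth.Agent.S14010
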