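import Groth.Prelude.Def_EtModW
import Groth.Prelude.Def_ARSys
import Mathlib.CategoryTheory.Linear.FunctorCategory
import Mathlib.CategoryTheory.Limits.HasLimits
import Mathlib.AlgebraicGeometry.Noetherian
import Mathlib.CategoryTheory.Limits.Shapes.Kernels
import Groth.Agent.EtModWLib.LimExact
import Groth.Agent.S14010

set_option autoImplicit false
open CategoryTheory CategoryTheory.Limits AlgebraicGeometry Opposite
universe u
open EtModW

namespace Groth.Agent.S14013

open Groth.Agent Groth.Agent.EtModWLib Groth.Agent.ARLib ARSys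

/-- Let X be a Noetherian scheme, Λ a Noetherian commutative ring and I an ideal of Λ. Call a sheaf of
Λ-modules F on the small pro-étale site of X an I-adic pro-étale sheaf when it has a compatible
tower of quotient maps F ⟶ Q_n modulo I^(n+1), every Q_n being isomorphic to the pro-étale pullback
of a constructible étale sheaf of Λ-modules, and the canonical map F ⟶ lim_n Q_n is an isomorphism.
Then for every morphism w : F ⟶ G between I-adic pro-étale sheaves, the kernel and the cokernel of w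
computed among all sheaves of Λ-modules are again I-adic pro-étale sheaves. (The published statement
is that the I-adic pro-étale sheaves form an abelian subcategory of the category of all sheaves of
Λ-modules; this row states the closure under kernels and cokernels. Continuity of the inclusion of
the étale site into the pro-étale site is carried as a binder.) -/
theorem result
    (Λ : Type (u + 1)) [CommRing Λ] [IsNoetherianRing Λ] (I : Ideal Λ)
    (X : Scheme.{u}) [IsNoetherian X] [ProEtS.EpsCont X]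
    (F G : EtModW.ModP Λ X)
    (hF : (∃ (Q : ℕᵒᵖ ⥤ EtModW.ModP Λ X) (p : (Functor.const ℕᵒᵖ).obj F ⟶ Q),
        (∀ n : ℕ, ARSys.IsQuot (I ^ (n + 1)) (p.app (op n))) ∧
        (∀ n : ℕ, ∃ E : EtModW.Mod Λ X, EtModW.IsConstructible Λ E ∧
          Nonempty ((EtModW.epsPullMod Λ X).obj E ≅ Q.obj (op n))) ∧
        IsIso (limit.lift Q (Cone.mk F p))))
    (hG : (∃ (Q : ℕᵒᵖ ⥤ EtModW.ModP Λ X) (p : (Functor.const ℕᵒᵖ).obj G ⟶ Q),
        (∀ n : ℕ, ARSys.IsQuot (I ^ (n + 1)) (p.app (op n))) ∧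
        (∀ n : ℕ, ∃ E : EtModW.Mod Λ X, EtModW.IsConstructible Λ E ∧
          Nonempty ((EtModW.epsPullMod Λ X).obj E ≅ Q.obj (op n))) ∧
        IsIso (limit.lift Q (Cone.mk G p))))
    (w : F ⟶ G) :
    (∃ (Q : ℕᵒᵖ ⥤ EtModW.ModP Λ X) (p : (Functor.const ℕᵒᵖ).obj (kernel w) ⟶ Q),
      (∀ n : ℕ, ARSys.IsQuot (I ^ (n + 1)) (p.app (op n))) ∧
      (∀ n : ℕ, ∃ E : EtModW.Mod Λ X, EtModW.IsConstructible Λ E ∧
        Nonempty ((EtModW.epsPullMod Λ X).obj E ≅ Q.obj (op n))) ∧
      IsIso (limit.lift Q (Cone.mk (kernel w) p))) ∧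
    (∃ (Q : ℕᵒᵖ ⥤ EtModW.ModP Λ X) (p : (Functor.const ℕᵒᵖ).obj (cokernel w) ⟶ Q),
      (∀ n : ℕ, ARSys.IsQuot (I ^ (n + 1)) (p.app (op n))) ∧
      (∀ n : ℕ, ∃ E : EtModW.Mod Λ X, EtModW.IsConstructible Λ E ∧
        Nonempty ((EtModW.epsPullMod Λ X).obj E ≅ Q.obj (op n))) ∧
      IsIso (limit.lift Q (Cone.mk (cokernel w) p))) := by
  have hI : I.FG := IsNoetherian.noetherian I
  obtain ⟨A, hA, hAc, ⟨eA⟩⟩ := (Groth.Agent.S14010.result Λ I hI X F).1 hF
  obtain ⟨B, hB, hBc, ⟨eB⟩⟩ := (Groth.Agent.S14010.result Λ I hI X G).1 hG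
  let Φ := limEps Λ X
  obtain ⟨f, hf, -⟩ := exists_unique_preimage hI hA hB (eA.hom ≫ w ≫ eB.inv)
  have hsq : Φ.map f ≫ eB.hom = eA.hom ≫ w := by
    refine (congrArg (· ≫ eB.hom) hf).trans ?_
    simp only [Category.assoc, Iso.inv_hom_id, Category.comp_id]
  obtain ⟨⟨hk, -⟩, hc, -⟩ := arAdicNoeth_kernel_cokernel hI f (arAdicNoeth_of_isConstructible hA hAc)
    (arAdicNoeth_of_isConstructible hB hBc)
  obtain ⟨-, Y, v, hY, hv⟩ := hk
  obtain ⟨-, Y', v', hY', hv'⟩ := hc
  refine ⟨(Groth.Agent.S14010.result Λ I hI X _).2 ⟨Y, hY, isConstructible_of_arIso hY hv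
      (fun n => (isConstructible_kernel_app f hAc hBc n).1), ⟨?_⟩⟩,
    (Groth.Agent.S14010.result Λ I hI X _).2 ⟨Y', hY', isConstructible_of_arIso hY' hv'
      (fun n => (isConstructible_kernel_app f hAc hBc n).2), ?_⟩⟩
  · haveI := isIso_limEps (X := X) (adic_strict hY) hv
    exact asIso (Φ.map v) ≪≫ PreservesKernel.iso Φ f ≪≫ kernel.mapIso (Φ.map f) w eA eB hsq
  · haveI := isIso_limEps (X := X) (adic_strict hY') hv'
    obtain ⟨e⟩ := nonempty_cokernel_limEps f (adic_strict hA) v (adic_strict hY) hv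
    exact ⟨asIso (Φ.map v') ≪≫ e.symm ≪≫ cokernel.mapIso (Φ.map f) w eA eB hsq⟩

end Groth.Agent.S14013
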