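import Groth.Prelude.Def_EtModW
import Groth.Prelude.Def_ARSys
import Mathlib.CategoryTheory.Linear.FunctorCategory
import Mathlib.CategoryTheory.Limits.HasLimits
import Mathlib.AlgebraicGeometry.Noetherian
import Mathlib.CategoryTheory.Subobject.Basic
import Mathlib.Order.Hom.Basic
import Groth.Agent.EtModWLib.LimExact
import Groth.Agent.S14010

set_option autoImplicit false
open CategoryTheory CategoryTheory.Limits AlgebraicGeometry Opposite
universe u
open EtModW

namespace Groth.Agent.S14014

open Groth.Agent Groth.Agent.EtModWLib Groth.Agent.ARLib ARSys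

/-- Let X be a Noetherian scheme, Λ a Noetherian commutative ring, I an ideal of Λ and F an I-adic
pro-étale sheaf of Λ-modules on X: F has a compatible tower of quotient maps F ⟶ Q_n modulo I^(n+1),
every Q_n isomorphic to the pro-étale pullback of a constructible étale sheaf of Λ-modules, and the
canonical map F ⟶ lim_n Q_n is an isomorphism. Then every increasing chain Z_0 ≤ Z_1 ≤ ⋯ of
subobjects of F (subsheaves of Λ-modules on the small pro-étale site) all of whose underlying
sheaves are I-adic pro-étale sheaves becomes constant: Z_k = Z_(k₀) for all k ≥ k₀. (Continuity of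
the inclusion of the étale site into the pro-étale site is carried as a binder.) -/
theorem result
    (Λ : Type (u + 1)) [CommRing Λ] [IsNoetherianRing Λ] (I : Ideal Λ)
    (X : Scheme.{u}) [IsNoetherian X] [ProEtS.EpsCont X]
    (F : EtModW.ModP Λ X)
    (hF : (∃ (Q : ℕᵒᵖ ⥤ EtModW.ModP Λ X) (p : (Functor.const ℕᵒᵖ).obj F ⟶ Q),
        (∀ n : ℕ, ARSys.IsQuot (I ^ (n + 1)) (p.app (op n))) ∧
        (∀ n : ℕ, ∃ E : EtModW.Mod Λ X, EtModW.IsConstructible Λ E ∧
          Nonempty ((EtModW.epsPullMod Λ X).obj E ≅ Q.obj (op n))) ∧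
        IsIso (limit.lift Q (Cone.mk F p))))
    (Z : ℕ →o Subobject F)
    (hZ : ∀ k : ℕ, (∃ (Q : ℕᵒᵖ ⥤ EtModW.ModP Λ X) (p : (Functor.const ℕᵒᵖ).obj (Subobject.underlying.obj (Z k)) ⟶ Q),
        (∀ n : ℕ, ARSys.IsQuot (I ^ (n + 1)) (p.app (op n))) ∧
        (∀ n : ℕ, ∃ E : EtModW.Mod Λ X, EtModW.IsConstructible Λ E ∧
          Nonempty ((EtModW.epsPullMod Λ X).obj E ≅ Q.obj (op n))) ∧
        IsIso (limit.lift Q (Cone.mk (Subobject.underlying.obj (Z k)) p)))) :
    ∃ k₀ : ℕ, ∀ k : ℕ, k₀ ≤ k → Z k = Z k₀ := by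
  have hI : I.FG := IsNoetherian.noetherian I
  obtain ⟨A, hA, hAc, ⟨eA⟩⟩ := (Groth.Agent.S14010.result Λ I hI X F).1 hF
  choose B hB hBc eB' using fun k => (Groth.Agent.S14010.result Λ I hI X _).1 (hZ k)
  let eB := fun k => (eB' k).some
  let Φ := limEps Λ X
  choose f hf hfu using fun k => exists_unique_preimage hI (hB k) hA ((eB k).hom ≫ (Z k).arrow ≫ eA.inv)
  have hf' : ∀ k, Φ.map (f k) = (eB k).hom ≫ (Z k).arrow ≫ eA.inv := hf
  let W : ℕ → ARSys.PS (EtModW.Mod Λ X) := fun k => Abelian.image (f k)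
  let ι : ∀ k, W k ⟶ A := fun k => Abelian.image.ι (f k)
  have : ∀ k, Mono (ι k) := fun k => inferInstanceAs (Mono (kernel.ι _))
  have hW : ∀ k, IsStrict (W k) := by
    intro k n m hnm
    have := adic_strict (hB k) n m hnm
    have := epi_app (Abelian.factorThruImage (f k)) n
    exact epi_of_epi_fac (tr_nat (Abelian.factorThruImage (f k)) hnm).symm
  have inc : ∀ k m, k ≤ m → ∃ c : W k ⟶ W m, c ≫ ι m = ι k := by
    intro k m hkm
    obtain ⟨g, hg, -⟩ := exists_unique_preimage hI (hB k) (hB m)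
      ((eB k).hom ≫ Subobject.ofLE _ _ (Z.monotone hkm) ≫ (eB m).inv)
    have hgf : g ≫ f m = f k := by
      refine hfu k (g ≫ f m) ?_
      refine (Φ.map_comp g (f m)).trans ?_
      rw [hf', show Φ.map g = _ from hg]
      simp only [Category.assoc, Iso.inv_hom_id_assoc, Subobject.ofLE_arrow_assoc]
    refine ⟨kernel.lift _ (kernel.ι _) ?_, kernel.lift_ι _ _ _⟩
    rw [← cancel_epi (Abelian.factorThruImage (f k)), ← Category.assoc, comp_zero]
    refine (congrArg (· ≫ _) (Abelian.image.fac _)).trans ?_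
    rw [← hgf, Category.assoc, cokernel.condition, comp_zero]
  obtain ⟨k₀, hk₀⟩ := strict_chain hI ⟨hA, fun n => isNoetherianObject_of_isConstructible (hAc n)⟩ W ι hW inc
  refine ⟨k₀, fun k hk => le_antisymm ?_ (Z.monotone hk)⟩
  have hiso : ∀ j, IsIso (Φ.map (Abelian.factorThruImage (f j))) := fun j => by
    obtain ⟨⟨⟨-, Y, v, hY, hv⟩, -⟩, -⟩ := arAdicNoeth_kernel_cokernel hI (f j)
      (arAdicNoeth_of_isConstructible (hB j) (hBc j)) (arAdicNoeth_of_isConstructible hA hAc)
    obtain ⟨r, -, hr⟩ := exists_bounds hv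
    haveI : Mono (Φ.map (f j)) := by rw [hf']; infer_instance
    haveI : Mono (Φ.map (Abelian.factorThruImage (f j))) :=
      mono_of_mono_fac (((Φ.map_comp _ _).symm.trans (congrArg Φ.map (Abelian.image.fac (f j)))))
    have w0 : kernel.ι (f j) ≫ Abelian.factorThruImage (f j) = 0 := by
      rw [← cancel_mono (Abelian.image.ι (f j)), Category.assoc, Abelian.image.fac, kernel.condition, zero_comp]
    haveI : Epi (Φ.map (Abelian.factorThruImage (f j))) := by
      refine epi_limEps (ShortComplex.mk (kernel.ι (f j)) (Abelian.factorThruImage (f j)) w0)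
        { exact := ?_, mono_f := inferInstanceAs (Mono (kernel.ι (f j))),
          epi_g := inferInstanceAs (Epi (Abelian.factorThruImage (f j))) } v (adic_strict hY) (r := r) hr
      exact ShortComplex.exact_of_f_is_kernel _ (KernelFork.IsLimit.ofι _ _
          (fun a ha => kernel.lift (f j) a (by rw [← Abelian.image.fac (f j), ← Category.assoc, ha, zero_comp]))
          (fun a ha => kernel.lift_ι _ _ _) (fun a ha m hm => by
            rw [← cancel_mono (kernel.ι (f j)), kernel.lift_ι]; exact hm))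
    exact isIso_of_mono_of_epi _
  obtain ⟨c, hc⟩ := inc k₀ k hk
  haveI : IsIso c := by
    haveI : ∀ j, IsIso (c.app j) := fun j => by
      obtain ⟨n⟩ := j
      haveI := mono_app (ι k) n
      haveI := mono_app (ι k₀) n
      have e : Subobject.mk ((ι k₀).app (op n)) = Subobject.mk ((ι k).app (op n)) := by
        rw [← imageSubobject_mono, ← imageSubobject_mono, hk₀ k hk n]
      have h1 : c.app (op n) = (Subobject.isoOfMkEqMk _ _ e).hom := by
        rw [← cancel_mono ((ι k).app (op n))]
        exact (NatTrans.congr_app hc (op n)).trans (Subobject.ofMkLEMk_comp _).symm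
      rw [h1]
      infer_instance
    exact NatIso.isIso_of_isIso_app c
  haveI := hiso k₀
  haveI := hiso k
  refine Subobject.le_of_comm ((eB k).inv ≫ Φ.map (Abelian.factorThruImage (f k)) ≫ Φ.map (inv c) ≫
    inv (Φ.map (Abelian.factorThruImage (f k₀))) ≫ (eB k₀).hom) ?_
  have h0 : (eB k₀).hom ≫ (Z k₀).arrow = Φ.map (f k₀) ≫ eA.hom := by
    simp only [hf', Category.assoc, Iso.inv_hom_id, Category.comp_id]
  have h1 : inv (Φ.map (Abelian.factorThruImage (f k₀))) ≫ Φ.map (f k₀) = Φ.map (ι k₀) :=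
    (IsIso.inv_comp_eq _).2 ((congrArg Φ.map (Abelian.image.fac (f k₀)).symm).trans (Φ.map_comp _ _))
  simp only [Category.assoc]
  rw [h0, reassoc_of% h1, ← hc, Functor.map_comp, Category.assoc, ← Φ.map_comp_assoc (inv c) c,
    IsIso.inv_hom_id, CategoryTheory.Functor.map_id, Category.id_comp, ← Φ.map_comp_assoc,
    Abelian.image.fac, hf']
  simp only [Category.assoc, Iso.inv_hom_id, Category.comp_id, Iso.inv_hom_id_assoc]

end Groth.Agent.S14014
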