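import Groth.Statements.S0649
import Mathlib.CategoryTheory.Adjunction.Unique
-- import your own Groth.Agent.* helpers here

set_option autoImplicit false
open CategoryTheory CategoryTheory.Limits AlgebraicGeometry Opposite
universe u
open EtCore

namespace Groth.Agent.S0649

/-- Base change commutes with composition along the étale legs. -/
noncomputable def bcCompIso {V' V Y X : Scheme.{u}} (j : V ⟶ X) [AlgebraicGeometry.Etale j]
    (f : Y ⟶ X) (j' : V' ⟶ Y) [AlgebraicGeometry.Etale j'] (f' : V' ⟶ V)
    (h : IsPullback j' f' f j) :
    EtShriek.compEtale j ⋙ EtCoh.bc f ≅ EtCoh.bc f' ⋙ EtShriek.compEtale j' :=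
  NatIso.ofComponents
    (fun W => MorphismProperty.Over.isoMk
      (((IsPullback.of_hasPullback W.hom f').paste_vert h.flip).isoPullback.symm :
        pullback (W.hom ≫ j) f ≅ pullback W.hom f')
      (by
        show ((IsPullback.of_hasPullback W.hom f').paste_vert h.flip).isoPullback.inv ≫
          pullback.snd W.hom f' ≫ j' = pullback.snd (W.hom ≫ j) f
        simp))
    (fun {W₁ W₂} g => by
      apply MorphismProperty.Over.Hom.ext
      refine ((IsPullback.of_hasPullback W₂.hom f').paste_vert h.flip).hom_ext ?_ ?_
      · show ((pullback.lift (pullback.fst (W₁.hom ≫ j) f ≫ g.left) (pullback.snd (W₁.hom ≫ j) f) _) ≫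
            ((IsPullback.of_hasPullback W₂.hom f').paste_vert h.flip).isoPullback.inv) ≫ pullback.fst W₂.hom f' =
          (((IsPullback.of_hasPullback W₁.hom f').paste_vert h.flip).isoPullback.inv ≫
            pullback.lift (pullback.fst W₁.hom f' ≫ g.left) (pullback.snd W₁.hom f') _) ≫ pullback.fst W₂.hom f'
        simp only [Category.assoc, IsPullback.isoPullback_inv_fst]
        erw [pullback.lift_fst, pullback.lift_fst, ← Category.assoc, IsPullback.isoPullback_inv_fst]
      · show ((pullback.lift (pullback.fst (W₁.hom ≫ j) f ≫ g.left) (pullback.snd (W₁.hom ≫ j) f) _) ≫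
            ((IsPullback.of_hasPullback W₂.hom f').paste_vert h.flip).isoPullback.inv) ≫ pullback.snd W₂.hom f' ≫ j' =
          (((IsPullback.of_hasPullback W₁.hom f').paste_vert h.flip).isoPullback.inv ≫
            pullback.lift (pullback.fst W₁.hom f' ≫ g.left) (pullback.snd W₁.hom f') _) ≫ pullback.snd W₂.hom f' ≫ j'
        simp only [Category.assoc, IsPullback.isoPullback_inv_snd]
        erw [pullback.lift_snd, pullback.lift_snd_assoc, IsPullback.isoPullback_inv_snd])

/-- Extension by zero commutes with pullback, for abelian sheaves. Let f : Y → X be a morphism of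
schemes and j : V → X étale, and let V' = Y ×_X V with projections j' : V' → Y and f' : V' → V. Then
the functors j'_! ∘ f'^(-1) and f^(-1) ∘ j_! from abelian sheaves on V_ét to abelian sheaves on Y_ét
are isomorphic. Only the existence of an isomorphism of functors is asserted; the published
statement gives the canonical one. (Continuity of the composition functor of étale sites, which
always holds, is carried as an instance hypothesis.) -/
theorem result {V' V Y X : Scheme.{u}} (j : V ⟶ X) [AlgebraicGeometry.Etale j] [EtShriek.JCont j]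
    (f : Y ⟶ X) (j' : V' ⟶ Y) [AlgebraicGeometry.Etale j'] [EtShriek.JCont j'] (f' : V' ⟶ V)
    (h : IsPullback j' f' f j) :
    Nonempty (EtCoh.pull f' ⋙ EtShriek.extZero j' ≅ EtShriek.extZero j ⋙ EtCoh.pull f) := by
  let e : EtCoh.push f ⋙ EtShriek.restrAlong j ≅ EtShriek.restrAlong j' ⋙ EtCoh.push f' :=
    (haveI := Functor.isContinuous_comp (EtShriek.compEtale j) (EtCoh.bc f)
        V.smallEtaleTopology X.smallEtaleTopology Y.smallEtaleTopology
     haveI := Functor.isContinuous_comp (EtCoh.bc f') (EtShriek.compEtale j')
        V.smallEtaleTopology V'.smallEtaleTopology Y.smallEtaleTopology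
     Functor.sheafPushforwardContinuousComp _ _ _ _ _ _ ≪≫
       Functor.sheafPushforwardContinuousIso (bcCompIso j f j' f' h) _ _ _ ≪≫
       (Functor.sheafPushforwardContinuousComp _ _ _ _ _ _).symm)
  exact ⟨(((EtCoh.pullPushAdj f').comp (EtShriek.extZeroAdj j')).ofNatIsoRight e.symm).leftAdjointUniq
    ((EtShriek.extZeroAdj j).comp (EtCoh.pullPushAdj f))⟩

end Groth.Agent.S0649
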