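import Groth.Statements.S0743
-- import your own Groth.Agent.* helpers here

set_option autoImplicit false
open CategoryTheory CategoryTheory.Limits AlgebraicGeometry Opposite
universe u
open ProEtS

namespace Groth.Agent.S0743

set_option backward.isDefEq.respectTransparency.types false in
/-- `eps` commutes with composing with an étale morphism. -/
noncomputable def siteIso {U X : Scheme.{u}} (j : U ⟶ X) [Etale j] :
    EtShriek.compEtale j ⋙ ProEtS.eps X ≅ ProEtS.eps U ⋙ ProEtS.compP j :=
  NatIso.ofComponents (fun V => MorphismProperty.Over.isoMk (Iso.refl _))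

set_option backward.isDefEq.respectTransparency.types false in
/-- Restriction commutes with `ε_*`. -/
noncomputable def pushIso {U X : Scheme.{u}} (j : U ⟶ X) [Etale j] [EtShriek.JCont j]
    [ProEtS.JPCont j] [ProEtS.EpsCont U] [ProEtS.EpsCont X] :
    ProEtS.epsPush X ⋙ EtShriek.restrAlong j ≅ ProEtS.restrP j ⋙ ProEtS.epsPush U :=
  NatIso.ofComponents (fun F => (sheafToPresheaf _ _).preimageIso
    (NatIso.ofComponents (fun V => F.obj.mapIso (((siteIso j).app V.unop).op.symm))
      (fun {V W} g => by
        change F.obj.map _ ≫ F.obj.map _ = F.obj.map _ ≫ F.obj.map _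
        rw [← F.obj.map_comp, ← F.obj.map_comp]
        congr 1)))
    (fun {F F'} φ => by
      apply (sheafToPresheaf _ _).map_injective
      apply NatTrans.ext
      funext V
      rw [Functor.map_comp, Functor.map_comp, Functor.preimageIso_hom, Functor.preimageIso_hom,
        Functor.map_preimage, Functor.map_preimage]
      exact (φ.hom.naturality (((siteIso j).app V.unop).op.symm.hom)).symm)


set_option backward.isDefEq.respectTransparency.types false in
/-- For an etale morphism j : U -> X and an abelian sheaf G on U_et, eps^{-1} (j_! G) and j_! (eps^{-1}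
G) are isomorphic as abelian sheaves on X_proet (existence of an isomorphism; continuity binders
assumed). -/
theorem result {U X : Scheme.{u}} (j : U ⟶ X) [Etale j] [EtShriek.JCont j]
    [ProEtS.JPCont j] [ProEtS.EpsCont U] [ProEtS.EpsCont X] (G : EtCoh.Ab U) :
    Nonempty ((ProEtS.epsPull X).obj ((EtShriek.extZero j).obj G) ≅
      (ProEtS.extZeroP j).obj ((ProEtS.epsPull U).obj G)) := by
  exact ⟨(((EtShriek.extZeroAdj j).comp (ProEtS.epsAdj X)).leftAdjointUniq
    (((ProEtS.epsAdj U).comp (ProEtS.extZeroPAdj j)).ofNatIsoRight (pushIso j).symm)).app G⟩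

end Groth.Agent.S0743
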