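import Groth.Statements.S7158
import Mathlib
import Groth.Agent.ASPurity.Extend
import Groth.Agent.EtRamLib.ValTower

set_option autoImplicit false
universe u
open EtAlg Polynomial
open scoped Classical

namespace Groth.Agent.S7158

section AS

variable {K L : Type u} [Field K] [Field L] [Algebra K L]

lemma isIntegral_AS (p : ℕ) (hp : p.Prime) (ξ : K) (z : L) (hz : z ^ p - z = algebraMap K L ξ) :
    ∃ F : K[X], F.Monic ∧ F.natDegree = p ∧ F = X ^ p - X - C ξ ∧ aeval z F = 0 := by
  refine ⟨X ^ p - X - C ξ, ?_, ?_, rfl, by simp [hz]⟩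
  · rw [sub_sub]
    exact monic_X_pow_sub ((degree_X_add_C ξ).trans_lt (by exact_mod_cast hp.one_lt))
  · rw [sub_sub]
    refine natDegree_eq_of_degree_eq_some ?_
    rw [degree_sub_eq_left_of_degree_lt, degree_X_pow]
    rw [degree_X_pow, degree_X_add_C]
    exact_mod_cast hp.one_lt

lemma finiteDimensional_AS (p : ℕ) (hp : p.Prime) (ξ : K) (z : L) (hz : z ^ p - z = algebraMap K L ξ)
    (hgen : IntermediateField.adjoin K {z} = ⊤) : FiniteDimensional K L := by
  obtain ⟨F, hFm, -, -, hF⟩ := isIntegral_AS p hp ξ z hz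
  have := IntermediateField.adjoin.finiteDimensional (K := K) (x := z) ⟨F, hFm, hF⟩
  rw [hgen] at this
  exact Module.Finite.equiv IntermediateField.topEquiv.toLinearEquiv

lemma map_AS (p : ℕ) (hp : p.Prime) [CharP L p] (ξ : K) (z : L) (hz : z ^ p - z = algebraMap K L ξ)
    (F : K[X]) (hFm : F.Monic) (hFd : F.natDegree = p) (hF : F = X ^ p - X - C ξ) :
    haveI := Fact.mk hp
    F.map (algebraMap K L) = ∏ i : ZMod p, (X - C (z + ZMod.castHom dvd_rfl L i)) := by
  haveI := Fact.mk hp
  refine (Polynomial.eq_of_degree_sub_lt_of_eval_finset_eq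
    (Finset.univ.image fun i : ZMod p ↦ z + ZMod.castHom dvd_rfl L i) ?_ ?_)
  · rw [Finset.card_image_of_injective _ (fun i j h ↦ (ZMod.castHom dvd_rfl L).injective (add_left_cancel h)),
      Finset.card_univ, ZMod.card]
    have hP : (∏ i : ZMod p, (X - C (z + ZMod.castHom dvd_rfl L i)) : L[X]).Monic :=
      monic_prod_of_monic _ _ fun i _ ↦ monic_X_sub_C _
    have hd : (∏ i : ZMod p, (X - C (z + ZMod.castHom dvd_rfl L i)) : L[X]).natDegree = p := by
      rw [natDegree_finsetProd_X_sub_C_eq_card, Finset.card_univ, ZMod.card]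
    refine (degree_sub_lt_left ?_ (hFm.map _).ne_zero ?_).trans_le ?_
    · rw [degree_eq_natDegree (hFm.map _).ne_zero, degree_eq_natDegree hP.ne_zero, hd,
        hFm.natDegree_map, hFd]
    · rw [(hFm.map _).leadingCoeff, hP.leadingCoeff]
    · rw [degree_eq_natDegree (hFm.map _).ne_zero, hFm.natDegree_map, hFd]
  · intro x hx
    obtain ⟨i, -, rfl⟩ := Finset.mem_image.1 hx
    rw [eval_prod, Finset.prod_eq_zero (Finset.mem_univ i) (by simp), hF]
    simp only [Polynomial.map_sub, Polynomial.map_pow, map_X, map_C, eval_sub, eval_pow, eval_X, eval_C]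
    rw [add_pow_char, ← map_pow, ZMod.pow_card, ← hz]
    ring

lemma separable_AS (p : ℕ) [CharP K p] (ξ : K) : (X ^ p - X - C ξ : K[X]).Separable := by
  rw [Polynomial.separable_def]
  have : derivative (X ^ p - X - C ξ : K[X]) = -1 := by
    simp [derivative_X_pow, CharP.cast_eq_zero]
  rw [this]
  exact isCoprime_one_right.neg_right

lemma isGalois_AS (p : ℕ) (hp : p.Prime) [CharP K p] (ξ : K) (z : L) (hz : z ^ p - z = algebraMap K L ξ)
    (hgen : IntermediateField.adjoin K {z} = ⊤) : IsGalois K L := by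
  haveI := Fact.mk hp
  haveI : CharP L p := charP_of_injective_algebraMap (algebraMap K L).injective p
  haveI := finiteDimensional_AS p hp ξ z hz hgen
  obtain ⟨F, hFm, hFd, hF, hzF⟩ := isIntegral_AS p hp ξ z hz
  have hmap := map_AS p hp ξ z hz F hFm hFd hF
  haveI : IsSplittingField K L F := by
    refine ⟨?_, ?_⟩
    · rw [hmap]; exact Polynomial.Splits.prod fun i _ ↦ Polynomial.Splits.X_sub_C _
    · rw [eq_top_iff]
      intro x _
      have hx : x ∈ Algebra.adjoin K {z} := by
        rw [← IntermediateField.adjoin_simple_toSubalgebra_of_isAlgebraic (Algebra.IsAlgebraic.isAlgebraic z), hgen]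
        exact IntermediateField.mem_top
      refine Algebra.adjoin_mono (Set.singleton_subset_iff.2 ?_) hx
      rw [mem_rootSet]
      exact ⟨hFm.ne_zero, hzF⟩
  exact IsGalois.of_separable_splitting_field (hF ▸ separable_AS p ξ)

lemma finrank_AS (p : ℕ) (hp : p.Prime) [CharP K p] (ξ : K) (z : L) (hz : z ^ p - z = algebraMap K L ξ)
    (hgen : IntermediateField.adjoin K {z} = ⊤) : Module.finrank K L = 1 ∨ Module.finrank K L = p := by
  haveI := Fact.mk hp
  haveI : CharP L p := charP_of_injective_algebraMap (algebraMap K L).injective p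
  haveI := finiteDimensional_AS p hp ξ z hz hgen
  obtain ⟨F, hFm, hFd, hF, hzF⟩ := isIntegral_AS p hp ξ z hz
  have hzi : IsIntegral K z := IsIntegral.of_finite K z
  set m := minpoly K z with hm
  have hd : Module.finrank K L = m.natDegree := by
    rw [← IntermediateField.finrank_top', ← hgen, IntermediateField.adjoin.finrank hzi]
  rw [hd]
  have hdvd : m ∣ F := minpoly.dvd K z hzF
  rcases (natDegree_le_of_dvd hdvd hFm.ne_zero).trans_eq hFd |>.eq_or_lt with h | h
  · exact Or.inr h
  left
  have hmapF := map_AS p hp ξ z hz F hFm hFd hF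
  have hFsplit : (F.map (algebraMap K L)).Splits := by
    rw [hmapF]; exact Polynomial.Splits.prod fun i _ ↦ Polynomial.Splits.X_sub_C _
  have hsplit : (m.map (algebraMap K L)).Splits :=
    hFsplit.of_dvd (hFm.map _).ne_zero (Polynomial.map_dvd _ hdvd)
  have hpos : 0 < m.natDegree := minpoly.natDegree_pos hzi
  have hroots : ∀ r ∈ (m.map (algebraMap K L)).roots, ∃ i : ZMod p, r = z + ZMod.castHom dvd_rfl L i := by
    intro r hr
    have h0 : aeval r F = 0 := by
      obtain ⟨q, hq⟩ := hdvd
      rw [mem_roots ((minpoly.monic hzi).map _).ne_zero, IsRoot, eval_map, ← aeval_def] at hr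
      rw [hq, map_mul, hr, zero_mul]
    refine ASPurity.exists_eq_add_of_pow_sub p (β := z) ?_
    rw [hz]
    rw [hF] at h0
    simpa [sub_eq_zero] using h0
  choose! i hi using hroots
  have hsum : (m.map (algebraMap K L)).roots.sum =
      (m.natDegree : L) * z + algebraMap K L (ZMod.castHom dvd_rfl K ((m.map (algebraMap K L)).roots.map i).sum) := by
    conv_lhs => rw [← Multiset.map_id' (m.map (algebraMap K L)).roots, Multiset.map_congr rfl hi]
    rw [Multiset.sum_map_add, Multiset.map_const', Multiset.sum_replicate, nsmul_eq_mul,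
      ← hsplit.natDegree_eq_card_roots, (minpoly.monic hzi).natDegree_map, map_multiset_sum, map_multiset_sum,
      Multiset.map_map, Multiset.map_map]
    congr 2
    refine Multiset.map_congr rfl fun r _ ↦ ?_
    exact (RingHom.congr_fun (Subsingleton.elim ((algebraMap K L).comp (ZMod.castHom dvd_rfl K))
      (ZMod.castHom dvd_rfl L)) _).symm
  have hnc := hsplit.nextCoeff_eq_neg_sum_roots_of_monic ((minpoly.monic hzi).map _)
  rw [nextCoeff_map (algebraMap K L).injective, hsum] at hnc
  have hne : (m.natDegree : K) ≠ 0 := by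
    rw [Ne, CharP.cast_eq_zero_iff K p]
    exact fun hdv ↦ absurd (Nat.le_of_dvd hpos hdv) (not_le.2 h)
  have hzmem : z = algebraMap K L ((-(m.nextCoeff) -
      ZMod.castHom dvd_rfl K ((m.map (algebraMap K L)).roots.map i).sum) / (m.natDegree : K)) := by
    rw [map_div₀, eq_div_iff (by rw [map_natCast]; exact fun h0 ↦ hne ((algebraMap K L).injective (by rw [map_natCast, h0, map_zero]))),
      map_sub, map_neg, map_natCast, hnc]
    ring
  rw [hm, hzmem, minpoly.eq_X_sub_C, natDegree_X_sub_C]

lemma unramified_AS (p : ℕ) (hp : p.Prime) [CharP K p] (A : Type u) [CommRing A] [IsDomain A]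
    [IsDiscreteValuationRing A] [Algebra A K] [IsFractionRing A K] (a : A) (ξ : K) (ha : algebraMap A K a = ξ)
    (z : L) (hz : z ^ p - z = algebraMap K L ξ)
    (hgen : IntermediateField.adjoin K {z} = ⊤) :
    EtRam.IsUnramifiedExt A ((algebraMap K L).comp (algebraMap A K)) := by
  haveI := Fact.mk hp
  haveI := finiteDimensional_AS p hp ξ z hz hgen
  haveI := isGalois_AS p hp ξ z hz hgen
  letI : Algebra A L := ((algebraMap K L).comp (algebraMap A K)).toAlgebra
  haveI : IsScalarTower A K L := IsScalarTower.of_algebraMap_eq fun _ ↦ rfl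
  set B := integralClosure A L
  haveI : Module.Finite A B := IsIntegralClosure.finite A K L B
  haveI : IsFractionRing B L := integralClosure.isFractionRing_of_finite_extension K L
  haveI : IsDedekindDomain B := IsIntegralClosure.isDedekindDomain A K L B
  haveI : FaithfulSMul A B := by
    refine (faithfulSMul_iff_algebraMap_injective A B).2 fun x y h ↦ IsFractionRing.injective A K ?_
    exact (algebraMap K L).injective (congrArg Subtype.val h)
  letI := FractionRing.liftAlgebra A (FractionRing B)
  haveI : Algebra.IsSeparable (FractionRing A) (FractionRing B) := by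
    refine Algebra.IsSeparable.of_equiv_equiv (FractionRing.algEquiv A K).symm.toRingEquiv
      (FractionRing.algEquiv B L).symm.toRingEquiv ?_
    apply IsLocalization.ringHom_ext (nonZeroDivisors A)
    ext x
    change algebraMap (FractionRing A) (FractionRing B) ((FractionRing.algEquiv A K).symm (algebraMap A K x))
      = (FractionRing.algEquiv B L).symm (algebraMap K L (algebraMap A K x))
    rw [AlgEquiv.commutes, ← IsScalarTower.algebraMap_apply, ← IsScalarTower.algebraMap_apply,
      IsScalarTower.algebraMap_apply A B L, AlgEquiv.commutes, ← IsScalarTower.algebraMap_apply]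
  have hpA : (p : A) = 0 := IsFractionRing.injective A K (by rw [map_natCast, map_zero, CharP.cast_eq_zero])
  have hFm : (X ^ p - X - C a : A[X]).Monic := by
    rw [sub_sub]
    exact monic_X_pow_sub ((degree_X_add_C a).trans_lt (by exact_mod_cast hp.one_lt))
  have hroot : aeval z (X ^ p - X - C a : A[X]) = 0 := by
    simp only [map_sub, map_pow, aeval_X, aeval_C]
    rw [IsScalarTower.algebraMap_apply A K L, ha, hz, sub_self]
  let zB : B := ⟨z, _, hFm, by rwa [← aeval_def]⟩
  have hrootB : aeval zB (X ^ p - X - C a : A[X]) = 0 := by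
    apply Subtype.ext
    rw [← Subalgebra.aeval_coe]
    exact hroot
  have hzgen : Algebra.adjoin K {algebraMap B L zB} = ⊤ := by
    change Algebra.adjoin K {z} = ⊤
    rw [← IntermediateField.adjoin_simple_toSubalgebra_of_isAlgebraic (Algebra.IsAlgebraic.isAlgebraic z), hgen,
      IntermediateField.top_toSubalgebra]
  have hdiff := aeval_derivative_mem_differentIdeal A K L zB hzgen
  obtain ⟨r, hr⟩ := minpoly.isIntegrallyClosed_dvd (⟨_, hFm, hrootB⟩ : IsIntegral A zB) hrootB
  haveI : Algebra.FormallyUnramified A B := by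
    rw [← Algebra.unramifiedLocus_eq_univ_iff, Set.eq_univ_iff_forall]
    intro P
    change Algebra.IsUnramifiedAt A P.asIdeal
    rw [← not_dvd_differentIdeal_iff, Ideal.dvd_iff_le]
    intro hle
    have hmem : aeval zB (derivative (X ^ p - X - C a : A[X])) ∈ P.asIdeal := by
      rw [hr, derivative_mul, map_add, map_mul, map_mul, minpoly.aeval, zero_mul, add_zero]
      exact P.asIdeal.mul_mem_right _ (hle hdiff)
    rw [derivative_sub, derivative_sub, derivative_X_pow, hpA] at hmem
    simp only [map_zero, zero_mul, derivative_X, derivative_C, zero_sub, sub_zero, map_neg, map_one] at hmem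
    exact P.2.ne_top (Ideal.eq_top_of_isUnit_mem _ hmem isUnit_one.neg)
  exact EtRamLib.ValTower.isUnramifiedExt_of_formallyUnramified A K L

/-- Some valuation ring dominates. -/
lemma exists_dominates (A : Type u) [CommRing A] [IsDomain A] [IsLocalRing A] [Algebra A K] [IsFractionRing A K] :
    ∃ V : ValuationSubring L, EtRam.Dominates A ((algebraMap K L).comp (algebraMap A K)) V := by
  set g := (algebraMap K L).comp (algebraMap A K) with hg
  have hf : Function.Injective g := (algebraMap K L).injective.comp (IsFractionRing.injective A K)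
  obtain ⟨W, hle, hnu⟩ := Ideal.image_subset_nonunits_valuationSubring (A := g.range)
    ((IsLocalRing.maximalIdeal A).map g.rangeRestrict) (by
      intro htop
      refine (IsLocalRing.maximalIdeal.isMaximal A).ne_top ?_
      rw [← Ideal.comap_map_of_bijective g.rangeRestrict
        ⟨fun a b h ↦ hf (congrArg Subtype.val h), g.rangeRestrict_surjective⟩ (I := IsLocalRing.maximalIdeal A), htop,
        Ideal.comap_top])
  exact ⟨W, fun a ↦ hle ⟨a, rfl⟩, fun a ha ↦
    (ValuationSubring.mem_nonunits_iff W).1 (hnu ⟨g.rangeRestrict a, Ideal.mem_map_of_mem _ ha, rfl⟩)⟩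

variable (A : Type u) [CommRing A] [IsDomain A] [IsDiscreteValuationRing A] [Algebra A K] [IsFractionRing A K]
  (π : A) (hπ : IsLocalRing.maximalIdeal A = Ideal.span {π})
  {V : ValuationSubring L} (hV : EtRam.Dominates A ((algebraMap K L).comp (algebraMap A K)) V)

include hπ hV

lemma val_unit (u : Aˣ) : V.valuation (algebraMap K L (algebraMap A K u)) = 1 := by
  refine le_antisymm ((V.valuation_le_one_iff _).2 (hV.1 _)) ?_
  have h2 : V.valuation (algebraMap K L (algebraMap A K ↑u⁻¹)) ≤ 1 := (V.valuation_le_one_iff _).2 (hV.1 _)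
  calc (1 : V.ValueGroup) = V.valuation (algebraMap K L (algebraMap A K u)) *
        V.valuation (algebraMap K L (algebraMap A K ↑u⁻¹)) := by
          rw [← map_mul, ← map_mul, ← map_mul, Units.mul_inv, map_one, map_one, map_one]
    _ ≤ _ := mul_le_of_le_one_right' h2

lemma val_lt_one : V.valuation (algebraMap K L (algebraMap A K π)) < 1 :=
  hV.2 π (hπ ▸ Ideal.mem_span_singleton_self π)

lemma val_pos : 0 < V.valuation (algebraMap K L (algebraMap A K π)) :=
  zero_lt_iff.2 ((Valuation.ne_zero_iff _).2 ((_root_.map_ne_zero _).2 ((map_ne_zero_iff _ (IsFractionRing.injective A K)).2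
    ((IsDiscreteValuationRing.irreducible_iff_uniformizer π).2 hπ).ne_zero)))

lemma val_mem_range (c : K) : V.valuation (algebraMap K L c) ≤ 1 ↔ ∃ a : A, algebraMap A K a = c := by
  refine ⟨fun h ↦ ?_, fun ⟨a, ha⟩ ↦ ha ▸ (V.valuation_le_one_iff _).2 (hV.1 a)⟩
  by_contra hzero
  rcases ValuationRing.isInteger_or_isInteger A c with hc | ⟨a, ha⟩
  · exact hzero hc
  by_cases hau : IsUnit a
  · exact hzero ⟨↑hau.unit⁻¹, by rw [map_units_inv, IsUnit.unit_spec, ha, inv_inv]⟩
  · exfalso
    have hlt : V.valuation (algebraMap K L (algebraMap A K a)) < 1 := hV.2 a ((IsLocalRing.mem_maximalIdeal a).2 hau)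
    rcases eq_or_ne c 0 with rfl | hc0
    · exact hau.elim (by
        rw [inv_zero] at ha
        exact absurd (IsFractionRing.injective A K (ha.trans (map_zero _).symm)) (fun ha0 ↦ hzero ⟨0, map_zero _⟩))
    rw [ha, map_inv₀, map_inv₀, inv_lt_one₀ (zero_lt_iff.2 ((Valuation.ne_zero_iff _).2 ((_root_.map_ne_zero _).2 hc0)))] at hlt
    exact absurd h (not_le.2 hlt)

lemma val_exponent {c : K} (hc : c ≠ 0) :
    ∃ j : ℤ, V.valuation (algebraMap K L c) = V.valuation (algebraMap K L (algebraMap A K π)) ^ j := by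
  have hπi : Irreducible π := (IsDiscreteValuationRing.irreducible_iff_uniformizer π).2 hπ
  obtain ⟨x, y, hy, rfl⟩ := IsFractionRing.div_surjective A c
  have hx : x ≠ 0 := fun h ↦ hc (by rw [h, map_zero, zero_div])
  obtain ⟨i, u, hu⟩ := IsDiscreteValuationRing.eq_unit_mul_pow_irreducible hx hπi
  obtain ⟨j, v, hv⟩ := IsDiscreteValuationRing.eq_unit_mul_pow_irreducible (nonZeroDivisors.ne_zero hy) hπi
  refine ⟨(i : ℤ) - j, ?_⟩
  rw [map_div₀, map_div₀, hu, hv, map_mul, map_mul, map_mul, map_mul, map_mul, map_mul, map_pow, map_pow,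
    map_pow, map_pow, map_pow, map_pow, val_unit A π hπ hV, val_unit A π hπ hV, one_mul, one_mul,
    zpow_sub₀ (val_pos A π hπ hV).ne', zpow_natCast, zpow_natCast]

omit hπ hV in
lemma exists_coeffs (p : ℕ) (w : L) (q : K[X]) (hq : q.Monic) (hqd : q.natDegree = p) (hw : aeval w q = 0)
    (hgen : IntermediateField.adjoin K {w} = ⊤) (hp0 : 0 < p) (y : L) :
    ∃ c : Fin p → K, y = ∑ i : Fin p, algebraMap K L (c i) * w ^ (i : ℕ) := by
  have hy : y ∈ Algebra.adjoin K {w} := by
    rw [← IntermediateField.adjoin_simple_toSubalgebra_of_isAlgebraic (IsIntegral.isAlgebraic ⟨q, hq, hw⟩), hgen]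
    exact IntermediateField.mem_top
  rw [Algebra.adjoin_singleton_eq_range_aeval] at hy
  obtain ⟨P, rfl⟩ := hy
  refine ⟨fun i ↦ (P %ₘ q).coeff i, ?_⟩
  change aeval w P = _
  have hdec : aeval w P = aeval w (P %ₘ q) := by
    conv_lhs => rw [← modByMonic_add_div P q, map_add, map_mul, hw, zero_mul, add_zero]
  rw [hdec, aeval_eq_sum_range' (n := p)]
  · rw [Finset.sum_range]
    simp [Algebra.smul_def]
  · rcases eq_or_ne (P %ₘ q) 0 with h0 | h0
    · rw [h0, natDegree_zero]; exact hp0
    · rw [← hqd]; exact natDegree_lt_natDegree h0 (degree_modByMonic_lt P hq)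

lemma val_sum_distinct (p n : ℕ) (hp : p.Prime) (hpn : ¬ p ∣ n) (z : L)
    (hvz : V.valuation z ^ p = (V.valuation (algebraMap K L (algebraMap A K π)) ^ n)⁻¹)
    (c : Fin p → K) :
    (∑ i : Fin p, algebraMap K L (c i) * z ^ (i : ℕ) = 0 → c = 0) ∧
    (V.valuation (∑ i : Fin p, algebraMap K L (c i) * z ^ (i : ℕ)) ≤ 1 ↔
      ∀ i : Fin p, ∃ a : A, algebraMap A K a = c i ^ p / algebraMap A K π ^ (n * (i : ℕ))) ∧
    (∀ i : Fin p, (i : ℕ) ≠ 0 → V.valuation (algebraMap K L (c i) * z ^ (i : ℕ)) ≠ 1) := by
  classical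
  set t := V.valuation (algebraMap K L (algebraMap A K π)) with ht
  have ht0 := val_pos A π hπ hV
  have ht1 := val_lt_one A π hπ hV
  have hinj : ∀ a b : ℤ, t ^ a = t ^ b → a = b := fun a b h ↦ zpow_right_injective₀ ht0 ht1.ne h
  have hterm : ∀ i : Fin p, c i ≠ 0 → ∃ j : ℤ,
      V.valuation (algebraMap K L (c i) * z ^ (i : ℕ)) ^ p = t ^ ((p : ℤ) * j - n * (i : ℕ)) := by
    intro i hi
    obtain ⟨j, hj⟩ := val_exponent A π hπ hV hi
    refine ⟨j, ?_⟩
    rw [map_mul, map_pow, mul_pow, hj, ← pow_mul, mul_comm (i : ℕ) p, pow_mul, hvz, inv_pow, ← pow_mul,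
      zpow_sub₀ ht0.ne', mul_comm (p : ℤ) j, zpow_mul, zpow_natCast, div_eq_mul_inv, ← zpow_natCast t (n * i)]
    push_cast
    rfl
  have hne1 : ∀ i : Fin p, (i : ℕ) ≠ 0 → V.valuation (algebraMap K L (c i) * z ^ (i : ℕ)) ≠ 1 := by
    intro i hi h1
    have hci : c i ≠ 0 := fun h0 ↦ by simp [h0] at h1
    obtain ⟨j, hj⟩ := hterm i hci
    rw [h1, one_pow, ← zpow_zero t] at hj
    have := hinj _ _ hj
    have hdvd : p ∣ n * (i : ℕ) := Int.natCast_dvd_natCast.1 ⟨j, by push_cast; linarith⟩
    rcases hp.dvd_mul.1 hdvd with h | h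
    · exact hpn h
    · exact absurd (Nat.le_of_dvd (Nat.pos_of_ne_zero hi) h) (not_le.2 i.2)
  have hdist : ∀ i k : Fin p, c i ≠ 0 → c k ≠ 0 →
      V.valuation (algebraMap K L (c i) * z ^ (i : ℕ)) = V.valuation (algebraMap K L (c k) * z ^ (k : ℕ)) → i = k := by
    intro i k hi hk h
    obtain ⟨j, hj⟩ := hterm i hi
    obtain ⟨l, hl⟩ := hterm k hk
    rw [h, hl] at hj
    have := hinj _ _ hj
    have hdvd : (p : ℤ) ∣ (n : ℤ) * ((i : ℕ) - (k : ℕ)) := ⟨j - l, by push_cast; linarith⟩
    rcases (Nat.prime_iff_prime_int.1 hp).dvd_mul.1 hdvd with h | h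
    · exact absurd (Int.natCast_dvd_natCast.1 h) hpn
    · refine Fin.ext ?_
      have := Int.eq_zero_of_abs_lt_dvd h (by rw [abs_lt]; constructor <;> omega)
      omega
  have hmax : c ≠ 0 → ∃ k : Fin p, c k ≠ 0 ∧
      (∀ i : Fin p, V.valuation (algebraMap K L (c i) * z ^ (i : ℕ)) ≤
        V.valuation (algebraMap K L (c k) * z ^ (k : ℕ))) ∧
      V.valuation (∑ i : Fin p, algebraMap K L (c i) * z ^ (i : ℕ)) =
        V.valuation (algebraMap K L (c k) * z ^ (k : ℕ)) := by
    intro hc
    obtain ⟨i₀, hi₀⟩ := Function.ne_iff.1 hc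
    haveI : Nonempty (Fin p) := ⟨i₀⟩
    obtain ⟨k, -, hk⟩ := Finset.exists_max_image Finset.univ
      (fun i : Fin p ↦ V.valuation (algebraMap K L (c i) * z ^ (i : ℕ))) Finset.univ_nonempty
    have hz0 : z ≠ 0 := by
      intro h0
      rw [h0, map_zero, zero_pow hp.ne_zero, eq_comm, inv_eq_zero] at hvz
      exact pow_ne_zero _ ht0.ne' hvz
    have hpos : 0 < V.valuation (algebraMap K L (c i₀) * z ^ (i₀ : ℕ)) :=
      zero_lt_iff.2 ((Valuation.ne_zero_iff _).2 (mul_ne_zero ((_root_.map_ne_zero _).2 hi₀) (pow_ne_zero _ hz0)))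
    have hck : c k ≠ 0 := fun h0 ↦ by
      have := hpos.trans_le (hk i₀ (Finset.mem_univ _))
      simp [h0] at this
    refine ⟨k, hck, fun i ↦ hk i (Finset.mem_univ _),
      Valuation.map_sum_eq_of_lt _ (Finset.mem_univ k) fun i hi ↦ ?_⟩
    rw [Finset.mem_sdiff, Finset.mem_singleton] at hi
    refine lt_of_le_of_ne (hk i hi.1) fun he ↦ ?_
    rcases eq_or_ne (c i) 0 with h0 | h0
    · have := hpos.trans_le (hk i₀ (Finset.mem_univ _))
      simp [← he, h0] at this
    · exact hi.2 (hdist i k h0 hck he)
  refine ⟨fun hsum ↦ ?_, ?_, hne1⟩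
  · by_contra hc
    obtain ⟨k, hk, -, hv⟩ := hmax hc
    rw [hsum, map_zero, eq_comm, Valuation.zero_iff, mul_eq_zero] at hv
    rcases hv with h | h
    · exact hk ((_root_.map_eq_zero _).1 h)
    · rw [pow_eq_zero_iff', ← Valuation.zero_iff V.valuation] at h
      rw [h.1, zero_pow hp.ne_zero, eq_comm, inv_eq_zero] at hvz
      exact pow_ne_zero _ ht0.ne' hvz
  · have hiff : ∀ i : Fin p, V.valuation (algebraMap K L (c i) * z ^ (i : ℕ)) ≤ 1 ↔
        ∃ a : A, algebraMap A K a = c i ^ p / algebraMap A K π ^ (n * (i : ℕ)) := by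
      intro i
      rw [← val_mem_range A π hπ hV, ← pow_le_one_iff hp.ne_zero, map_mul, map_pow, mul_pow, ← pow_mul,
        mul_comm (i : ℕ) p, pow_mul, hvz, inv_pow, ← pow_mul, map_div₀, map_div₀, map_pow, map_pow, map_pow,
        map_pow, div_eq_mul_inv, ← ht]
    simp only [← hiff]
    rcases eq_or_ne c 0 with rfl | hc
    · simp
    obtain ⟨k, -, hk, hv⟩ := hmax hc
    rw [hv]
    exact ⟨fun h i ↦ (hk i).trans h, fun h ↦ h k⟩

omit hπ hV in
lemma val_z {n : ℕ} (p : ℕ) (hp : p.Prime) {t : V.ValueGroup} (ht0 : 0 < t) (ht1 : t < 1) (hn : 0 < n)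
    (z y : L) (hz : z ^ p - z = y) (hy : V.valuation y = (t ^ n)⁻¹) :
    V.valuation z ^ p = (t ^ n)⁻¹ := by
  have hy1 : 1 < V.valuation y := by
    rw [hy]
    exact (one_lt_inv₀ (pow_pos ht0 n)).2 (pow_lt_one₀ (le_of_lt ht0) ht1 hn.ne')
  have hgt : 1 < V.valuation z := by
    by_contra hle
    push Not at hle
    have : V.valuation y ≤ 1 := by
      rw [← hz]
      refine (Valuation.map_sub _ _ _).trans (max_le ?_ hle)
      rw [map_pow]
      exact pow_le_one₀ zero_le hle
    exact absurd hy1 (not_lt.2 this)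
  have hlt : V.valuation z < V.valuation (z ^ p) := by
    rw [map_pow]
    conv_lhs => rw [← pow_one (V.valuation z)]
    exact pow_lt_pow_right₀ hgt hp.one_lt
  rw [← hy, ← hz, ← map_pow, Valuation.map_sub_eq_of_lt_left _ hlt]

omit hV in
lemma totallyRamified_AS (p : ℕ) (hp : p.Prime) [CharP K p] (ξ : K) (z : L)
    (hz : z ^ p - z = algebraMap K L ξ) (hgen : IntermediateField.adjoin K {z} = ⊤)
    (n : ℕ) (a : Aˣ) (hn : 0 < n) (hpn : ¬ p ∣ n) (h : ξ * algebraMap A K π ^ n = algebraMap A K a) :
    EtRam.IsTotallyRamified A ((algebraMap K L).comp (algebraMap A K)) ∧ Module.finrank K L = p := by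
  classical
  obtain ⟨F, hFm, hFd, -, hzF⟩ := isIntegral_AS p hp ξ z hz
  have hrep := exists_coeffs p z F hFm hFd hzF hgen hp.pos
  have hvz : ∀ {V : ValuationSubring L}, EtRam.Dominates A ((algebraMap K L).comp (algebraMap A K)) V →
      V.valuation z ^ p = (V.valuation (algebraMap K L (algebraMap A K π)) ^ n)⁻¹ := by
    intro V hV
    refine val_z p hp (val_pos A π hπ hV) (val_lt_one A π hπ hV) hn z _ hz ?_
    have := congrArg (fun x ↦ V.valuation (algebraMap K L x)) h
    simp only [map_mul, map_pow, val_unit A π hπ hV] at this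
    exact eq_inv_of_mul_eq_one_left this
  obtain ⟨V₀, hV₀⟩ := exists_dominates (K := K) (L := L) A
  refine ⟨⟨⟨V₀, hV₀⟩, fun V V' hV hV' ↦ ?_, fun V hV r ↦ ?_⟩, ?_⟩
  · ext y
    obtain ⟨c, rfl⟩ := hrep y
    rw [← V.valuation_le_one_iff, ← V'.valuation_le_one_iff,
      (val_sum_distinct A π hπ hV p n hp hpn z (hvz hV) c).2.1,
      (val_sum_distinct A π hπ hV' p n hp hpn z (hvz hV') c).2.1]
  · obtain ⟨⟨y, hy⟩, rfl⟩ := IsLocalRing.residue_surjective r
    obtain ⟨c, rfl⟩ := hrep y
    obtain ⟨-, h2, h3⟩ := val_sum_distinct A π hπ hV p n hp hpn z (hvz hV) c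
    have hcs := h2.1 ((V.valuation_le_one_iff _).2 hy)
    have hterm : ∀ i : Fin p, V.valuation (algebraMap K L (c i) * z ^ (i : ℕ)) ≤ 1 := by
      intro i
      obtain ⟨b, hb⟩ := hcs i
      rw [← pow_le_one_iff hp.ne_zero, map_mul, map_pow, mul_pow, ← pow_mul, mul_comm (i : ℕ) p, pow_mul,
        hvz hV, inv_pow, ← pow_mul, ← div_eq_mul_inv, ← map_pow V.valuation, ← map_pow V.valuation,
        ← map_div₀, ← map_pow, ← map_pow, ← map_div₀, ← hb]
      exact (V.valuation_le_one_iff _).2 (hV.1 b)
    have hp0 : 0 < p := hp.pos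
    obtain ⟨a₀, ha₀⟩ := (val_mem_range A π hπ hV (c ⟨0, hp0⟩)).1 (by simpa using hterm ⟨0, hp0⟩)
    refine ⟨a₀, ?_⟩
    rw [← sub_eq_zero]
    simp only [← map_sub]
    rw [IsLocalRing.residue_eq_zero_iff]
    refine (V.valuation_lt_one_iff _).2 ?_
    change V.valuation (algebraMap K L (algebraMap A K a₀) - ∑ i : Fin p, algebraMap K L (c i) * z ^ (i : ℕ)) < 1
    rw [Finset.sum_eq_add_sum_sdiff_singleton_of_mem (Finset.mem_univ (⟨0, hp0⟩ : Fin p)), ha₀]
    simp only [pow_zero, mul_one, sub_add_cancel_left, Valuation.map_neg]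
    refine Valuation.map_sum_lt _ one_ne_zero fun i hi ↦ lt_of_le_of_ne (hterm i) (h3 i ?_)
    rw [Finset.mem_sdiff, Finset.mem_singleton] at hi
    exact fun h0 ↦ hi.2 (Fin.ext h0)
  · haveI := finiteDimensional_AS p hp ξ z hz hgen
    refine le_antisymm ?_ ?_
    · rcases finrank_AS p hp ξ z hz hgen with h1 | h1 <;> rw [h1]
      exact hp.one_lt.le
    · have hli : LinearIndependent K (fun i : Fin p ↦ z ^ (i : ℕ)) := by
        rw [Fintype.linearIndependent_iff]
        intro c hc i
        exact congrFun ((val_sum_distinct A π hπ hV₀ p n hp hpn z (hvz hV₀) c).1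
          (by simpa [Algebra.smul_def] using hc)) i
      simpa using hli.fintype_card_le_finrank

omit hV in
lemma inseparable_AS (p : ℕ) (hp : p.Prime) [CharP K p] (ξ : K) (z : L)
    (hz : z ^ p - z = algebraMap K L ξ) (hgen : IntermediateField.adjoin K {z} = ⊤)
    (n : ℕ) (a : A) (hn : 0 < n) (hpn : p ∣ n)
    (hr : ∀ r : A, IsLocalRing.residue A a ≠ IsLocalRing.residue A r ^ p)
    (h : ξ * algebraMap A K π ^ n = algebraMap A K a) (g : A →+* L) (hg : g = (algebraMap K L).comp (algebraMap A K)) :
    (∃ V : ValuationSubring L, EtRam.Dominates A g V) ∧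
      (∀ V V' : ValuationSubring L, EtRam.Dominates A g V → EtRam.Dominates A g V' → V = V') ∧
      ∀ (V : ValuationSubring L) (h : EtRam.Dominates A g V),
        letI : Algebra A V := (RingHom.codRestrict g V h.1).toAlgebra
        ∀ [IsLocalHom (algebraMap A V)],
          EtRam.IsWeaklyUnramified A V ∧
            IsPurelyInseparable (IsLocalRing.ResidueField A) (IsLocalRing.ResidueField V) ∧
            Module.finrank (IsLocalRing.ResidueField A) (IsLocalRing.ResidueField V) = p := by
  subst hg
  obtain ⟨m, rfl⟩ := hpn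
  have hπ0 : algebraMap A K π ≠ 0 := (map_ne_zero_iff _ (IsFractionRing.injective A K)).2
    ((IsDiscreteValuationRing.irreducible_iff_uniformizer π).2 hπ).ne_zero
  set P : K := algebraMap A K π ^ ((p - 1) * m) with hP
  set w : L := z * algebraMap K L (algebraMap A K π) ^ m with hw
  have hwq : w ^ p - algebraMap K L P * w = algebraMap K L (algebraMap A K a) := by
    have hsplit : algebraMap K L (algebraMap A K π) ^ (p * m) =
        algebraMap K L P * algebraMap K L (algebraMap A K π) ^ m := by
      rw [hP, map_pow, ← pow_add, ← Nat.succ_mul, Nat.succ_eq_add_one, Nat.sub_add_cancel hp.one_le]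
    rw [← h, map_mul, map_pow (algebraMap K L) (algebraMap A K π) (p * m), ← hz, hw, mul_pow, ← pow_mul, mul_comm m p, hsplit]
    ring
  have hwgen : IntermediateField.adjoin K {w} = ⊤ := by
    rw [eq_top_iff, ← hgen, IntermediateField.adjoin_simple_le_iff]
    have hne : algebraMap K L (algebraMap A K π) ^ m ≠ 0 := pow_ne_zero _ ((_root_.map_ne_zero _).2 hπ0)
    have : z = w * (algebraMap K L (algebraMap A K π) ^ m)⁻¹ := by rw [hw, mul_inv_cancel_right₀ hne]
    rw [this]
    exact mul_mem (IntermediateField.mem_adjoin_simple_self K w)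
      (inv_mem (pow_mem (IntermediateField.algebraMap_mem _ _) _))
  have hqdeg : (C P * X + C (algebraMap A K a) : K[X]).degree < (p : ℕ) :=
    ((degree_add_le _ _).trans (max_le (degree_C_mul_X_le _) (degree_C_le.trans (by exact_mod_cast zero_le_one)))).trans_lt
      (by exact_mod_cast hp.one_lt)
  have hqm : (X ^ p - (C P * X + C (algebraMap A K a)) : K[X]).Monic := monic_X_pow_sub hqdeg
  have hqd : (X ^ p - (C P * X + C (algebraMap A K a)) : K[X]).natDegree = p :=
    natDegree_eq_of_degree_eq_some (by rw [degree_sub_eq_left_of_degree_lt (by rwa [degree_X_pow]), degree_X_pow])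
  have hwroot : aeval w (X ^ p - (C P * X + C (algebraMap A K a)) : K[X]) = 0 := by
    simp only [map_sub, map_add, map_mul, map_pow, aeval_X, aeval_C]
    linear_combination hwq
  have hrep := exists_coeffs p w _ hqm hqd hwroot hwgen hp.pos
  have hPA : ∃ b ∈ IsLocalRing.maximalIdeal A, algebraMap A K b = P := by
    have hm : 0 < (p - 1) * m := Nat.mul_pos (Nat.sub_pos_of_lt hp.one_lt) (pos_of_mul_pos_right hn (Nat.zero_le _))
    refine ⟨π ^ ((p - 1) * m), Ideal.pow_mem_of_mem _ ?_ _ hm, by rw [map_pow]⟩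
    rw [hπ]; exact Ideal.mem_span_singleton_self π
  -- the structure at a dominating valuation ring
  have main : ∀ (V : ValuationSubring L) (hV : EtRam.Dominates A ((algebraMap K L).comp (algebraMap A K)) V),
      letI : Algebra A V := (RingHom.codRestrict ((algebraMap K L).comp (algebraMap A K)) V hV.1).toAlgebra
      ∀ [IsLocalHom (algebraMap A V)],
        (∀ c : Fin p → K, V.valuation (∑ i : Fin p, algebraMap K L (c i) * w ^ (i : ℕ)) ≤ 1 ↔
          ∀ i, ∃ b : A, algebraMap A K b = c i) ∧
        (∀ c : Fin p → A, V.valuation (∑ i : Fin p, algebraMap K L (algebraMap A K (c i)) * w ^ (i : ℕ)) < 1 ↔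
          ∀ i, c i ∈ IsLocalRing.maximalIdeal A) ∧
        ∃ hwV : w ∈ V, IsLocalRing.residue V ⟨w, hwV⟩ ^ p =
          algebraMap (IsLocalRing.ResidueField A) (IsLocalRing.ResidueField V) (IsLocalRing.residue A a) := by
    intro V hV
    intro _
    letI : Algebra A V := (RingHom.codRestrict ((algebraMap K L).comp (algebraMap A K)) V hV.1).toAlgebra
    have hone : ∀ b : A, V.valuation (algebraMap K L (algebraMap A K b)) ≤ 1 :=
      fun b ↦ (V.valuation_le_one_iff _).2 (hV.1 b)
    obtain ⟨bP, hbPm, hbP⟩ := hPA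
    have hvw : V.valuation w ≤ 1 := by
      by_contra hgt
      push Not at hgt
      have h1 : V.valuation (algebraMap K L P * w) < V.valuation (w ^ p) := by
        rw [map_mul, map_pow V.valuation w, ← hbP]
        refine (mul_le_of_le_one_left' (hone _)).trans_lt ?_
        conv_lhs => rw [← pow_one (V.valuation w)]
        exact pow_lt_pow_right₀ hgt hp.one_lt
      have h2 := Valuation.map_sub_eq_of_lt_left _ h1
      rw [hwq] at h2
      have h3 : 1 < V.valuation (w ^ p) := by rw [map_pow]; exact one_lt_pow₀ hgt hp.ne_zero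
      rw [← h2] at h3
      exact absurd h3 (not_lt.2 (hone a))
    have hwV : w ∈ V := (V.valuation_le_one_iff _).1 hvw
    have hres : IsLocalRing.residue V ⟨w, hwV⟩ ^ p =
        algebraMap (IsLocalRing.ResidueField A) (IsLocalRing.ResidueField V) (IsLocalRing.residue A a) := by
      have heq : (⟨w, hwV⟩ : V) ^ p = algebraMap A V a + algebraMap A V bP * ⟨w, hwV⟩ := by
        apply Subtype.ext
        change w ^ p = algebraMap K L (algebraMap A K a) + algebraMap K L (algebraMap A K bP) * w
        rw [hbP]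
        linear_combination hwq
      rw [IsLocalRing.ResidueField.algebraMap_residue, ← map_pow, heq, map_add, map_mul,
        (IsLocalRing.residue_eq_zero_iff (algebraMap A V bP)).2 (fun hu ↦ hbPm (isUnit_of_map_unit (algebraMap A V) bP hu)),
        zero_mul, add_zero]
    have hirr : Irreducible (X ^ p - C (IsLocalRing.residue A a) : (IsLocalRing.ResidueField A)[X]) := by
      refine X_pow_sub_C_irreducible_of_prime hp fun r hr' ↦ ?_
      obtain ⟨r, rfl⟩ := IsLocalRing.residue_surjective r
      exact hr r hr'.symm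
    have hindep : ∀ c : Fin p → A, V.valuation (∑ i : Fin p, algebraMap K L (algebraMap A K (c i)) * w ^ (i : ℕ)) < 1 →
        ∀ i, c i ∈ IsLocalRing.maximalIdeal A := by
      intro c hc i
      have hsum : (∑ i : Fin p, algebraMap A V (c i) * (⟨w, hwV⟩ : V) ^ (i : ℕ)) ∈ IsLocalRing.maximalIdeal V := by
        rw [V.valuation_lt_one_iff, AddSubmonoidClass.coe_finsetSum]
        exact hc
      rw [← IsLocalRing.residue_eq_zero_iff, map_sum] at hsum
      simp only [map_mul, map_pow, ← IsLocalRing.ResidueField.algebraMap_residue] at hsum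
      set Q : (IsLocalRing.ResidueField A)[X] := ∑ i : Fin p, C (IsLocalRing.residue A (c i)) * X ^ (i : ℕ)
      have hQ0 : aeval (IsLocalRing.residue V ⟨w, hwV⟩) Q = 0 := by simpa [Q] using hsum
      have hdvd := minpoly.dvd _ _ hQ0
      rw [← minpoly.eq_of_irreducible_of_monic hirr (by simp [hres]) (monic_X_pow_sub_C _ hp.ne_zero)] at hdvd
      have hQdeg : Q.degree < (X ^ p - C (IsLocalRing.residue A a) : (IsLocalRing.ResidueField A)[X]).degree := by
        rw [degree_X_pow_sub_C hp.pos]
        refine (degree_sum_le _ _).trans_lt ((Finset.sup_lt_iff (WithBot.bot_lt_coe p)).2 fun i _ ↦ ?_)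
        exact (degree_C_mul_X_pow_le _ _).trans_lt (WithBot.coe_lt_coe.2 i.2)
      have hQ := eq_zero_of_dvd_of_degree_lt hdvd hQdeg
      have := congrArg (fun R : (IsLocalRing.ResidueField A)[X] ↦ R.coeff i) hQ
      rw [← IsLocalRing.residue_eq_zero_iff]
      simpa [Q, finsetSum_coeff, coeff_X_pow, Fin.val_inj] using this
    have hle1 : ∀ c : Fin p → A, V.valuation (∑ i : Fin p, algebraMap K L (algebraMap A K (c i)) * w ^ (i : ℕ)) ≤ 1 :=
      fun c ↦ Valuation.map_sum_le _ fun i _ ↦ by
        rw [map_mul, map_pow]; exact mul_le_one' (hone _) (pow_le_one₀ zero_le hvw)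
    refine ⟨fun c ↦ ⟨fun hc ↦ ?_, fun hc ↦ ?_⟩, fun c ↦ ⟨hindep c, fun hc ↦ ?_⟩, hwV, hres⟩
    · haveI : Nonempty (Fin p) := ⟨⟨0, hp.pos⟩⟩
      obtain ⟨k, -, hk⟩ := Finset.exists_max_image Finset.univ
        (fun i : Fin p ↦ V.valuation (algebraMap K L (c i))) Finset.univ_nonempty
      intro i
      rcases eq_or_ne (c k) 0 with hk0 | hk0
      · have := hk i (Finset.mem_univ _)
        rw [hk0, map_zero, map_zero, le_zero_iff, Valuation.zero_iff, _root_.map_eq_zero] at this
        exact ⟨0, by rw [map_zero, this]⟩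
      have hvk : 0 < V.valuation (algebraMap K L (c k)) :=
        zero_lt_iff.2 ((Valuation.ne_zero_iff _).2 ((_root_.map_ne_zero _).2 hk0))
      have hdiv : ∀ j, ∃ b : A, algebraMap A K b = c j / c k := fun j ↦ by
        rw [← val_mem_range A π hπ hV, map_div₀, map_div₀, div_le_one₀ hvk]
        exact hk j (Finset.mem_univ _)
      choose d hd using hdiv
      have hk1 : ¬ (d k ∈ IsLocalRing.maximalIdeal A) := by
        have : d k = 1 := IsFractionRing.injective A K (by rw [hd, div_self hk0, map_one])
        rw [this]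
        exact fun h1 ↦ h1 isUnit_one
      have hnot : ¬ V.valuation (∑ i : Fin p, algebraMap K L (algebraMap A K (d i)) * w ^ (i : ℕ)) < 1 :=
        fun hlt ↦ hk1 (hindep d hlt k)
      have hval : V.valuation (∑ i : Fin p, algebraMap K L (c i) * w ^ (i : ℕ)) = V.valuation (algebraMap K L (c k)) := by
        have hfac : (∑ i : Fin p, algebraMap K L (c i) * w ^ (i : ℕ)) =
            algebraMap K L (c k) * ∑ i : Fin p, algebraMap K L (algebraMap A K (d i)) * w ^ (i : ℕ) := by
          rw [Finset.mul_sum]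
          refine Finset.sum_congr rfl fun j _ ↦ ?_
          rw [← mul_assoc, ← map_mul, hd, mul_div_cancel₀ _ hk0]
        rw [hfac, map_mul, le_antisymm (hle1 d) (not_lt.1 hnot), mul_one]
      rw [hval] at hc
      exact (val_mem_range A π hπ hV _).1 ((hk i (Finset.mem_univ _)).trans hc)
    · choose b hb using hc
      simp only [← hb]
      exact hle1 b
    · refine Valuation.map_sum_lt _ one_ne_zero fun i _ ↦ ?_
      rw [map_mul, map_pow]
      exact mul_lt_one_of_lt_of_le (hV.2 _ (hc i)) (pow_le_one₀ zero_le hvw)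
  refine ⟨exists_dominates (K := K) (L := L) A, fun V V' hV hV' ↦ ?_, fun V hV ↦ ?_⟩
  · haveI := EtRamLib.ValTower.isLocalHom_of_dominates V hV
    haveI := EtRamLib.ValTower.isLocalHom_of_dominates V' hV'
    ext y
    obtain ⟨c, rfl⟩ := hrep y
    rw [← V.valuation_le_one_iff, ← V'.valuation_le_one_iff, (main V hV).1 c, (main V' hV').1 c]
  · intro _
    letI : Algebra A V := (RingHom.codRestrict ((algebraMap K L).comp (algebraMap A K)) V hV.1).toAlgebra
    obtain ⟨h1, h2, hwV, hres⟩ := main V hV
    set wb := IsLocalRing.residue V ⟨w, hwV⟩ with hwb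
    have hvals : ∀ y : V, ∃ c : Fin p → A, y = ∑ i : Fin p, algebraMap A V (c i) * (⟨w, hwV⟩ : V) ^ (i : ℕ) := by
      intro y
      obtain ⟨c, hc⟩ := hrep (y : L)
      have := (h1 c).1 (hc ▸ (V.valuation_le_one_iff _).2 y.2)
      choose b hb using this
      refine ⟨b, Subtype.ext ?_⟩
      rw [hc, AddSubmonoidClass.coe_finsetSum]
      refine Finset.sum_congr rfl fun i _ ↦ ?_
      change _ = algebraMap K L (algebraMap A K (b i)) * w ^ (i : ℕ)
      rw [hb i]
    have hspan : ∀ x : IsLocalRing.ResidueField V, ∃ c : Fin p → A,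
        x = ∑ i : Fin p, algebraMap (IsLocalRing.ResidueField A) (IsLocalRing.ResidueField V) (IsLocalRing.residue A (c i)) * wb ^ (i : ℕ) := by
      intro x
      obtain ⟨y, rfl⟩ := IsLocalRing.residue_surjective x
      obtain ⟨c, rfl⟩ := hvals y
      exact ⟨c, by simp only [map_sum, map_mul, map_pow, wb, IsLocalRing.ResidueField.algebraMap_residue]⟩
    refine ⟨le_antisymm ?_ fun y hy ↦ ?_, ?_, ?_⟩
    · rw [Ideal.map_le_iff_le_comap]
      exact fun b hb hu ↦ hb (isUnit_of_map_unit (algebraMap A V) b hu)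
    · obtain ⟨c, rfl⟩ := hvals y
      rw [V.valuation_lt_one_iff, AddSubmonoidClass.coe_finsetSum] at hy
      have hc := (h2 c).1 hy
      exact Ideal.sum_mem _ fun i _ ↦ Ideal.mul_mem_right _ _ (Ideal.mem_map_of_mem _ (hc i))
    · haveI : Fact p.Prime := ⟨hp⟩
      haveI : CharP A p := (RingHom.charP_iff (algebraMap A K) (IsFractionRing.injective A K) p).2 inferInstance
      haveI : CharP (IsLocalRing.ResidueField A) p :=
        (CharP.charP_iff_prime_eq_zero hp).2 (by rw [← map_natCast (IsLocalRing.residue A), CharP.cast_eq_zero, map_zero])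
      haveI : CharP (IsLocalRing.ResidueField V) p := charP_of_injective_algebraMap
        (algebraMap (IsLocalRing.ResidueField A) (IsLocalRing.ResidueField V)).injective p
      haveI : ExpChar (IsLocalRing.ResidueField A) p := ExpChar.prime hp
      rw [isPurelyInseparable_iff_pow_mem (IsLocalRing.ResidueField A) p]
      intro x
      obtain ⟨c, rfl⟩ := hspan x
      refine ⟨1, ?_⟩
      rw [pow_one, sum_pow_char]
      refine Subring.sum_mem _ fun i _ ↦ ?_
      rw [mul_pow, ← pow_mul, mul_comm (i : ℕ) p, pow_mul, hres]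
      exact mul_mem (pow_mem (RingHom.mem_range_self _ _) _) (pow_mem (RingHom.mem_range_self _ _) _)
    · have hli : LinearIndependent (IsLocalRing.ResidueField A) (fun i : Fin p ↦ wb ^ (i : ℕ)) := by
        rw [Fintype.linearIndependent_iff]
        intro c hc i
        choose b hb using fun i ↦ IsLocalRing.residue_surjective (c i)
        have : V.valuation (∑ i : Fin p, algebraMap K L (algebraMap A K (b i)) * w ^ (i : ℕ)) < 1 := by
          have hmem : (∑ i : Fin p, algebraMap A V (b i) * (⟨w, hwV⟩ : V) ^ (i : ℕ)) ∈ IsLocalRing.maximalIdeal V := by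
            rw [← IsLocalRing.residue_eq_zero_iff, map_sum]
            simp only [Algebra.smul_def, ← hb, wb, IsLocalRing.ResidueField.algebraMap_residue] at hc
            simp only [map_mul, map_pow]
            exact hc
          rw [V.valuation_lt_one_iff, AddSubmonoidClass.coe_finsetSum] at hmem
          exact hmem
        rw [← hb i, IsLocalRing.residue_eq_zero_iff]
        exact (h2 b).1 this i
      have hsp : ⊤ ≤ Submodule.span (IsLocalRing.ResidueField A) (Set.range fun i : Fin p ↦ wb ^ (i : ℕ)) := by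
        intro x _
        obtain ⟨c, rfl⟩ := hspan x
        refine Submodule.sum_mem _ fun i _ ↦ ?_
        rw [← Algebra.smul_def]
        exact Submodule.smul_mem _ _ (Submodule.subset_span ⟨i, rfl⟩)
      rw [Module.finrank_eq_card_basis (Module.Basis.mk hli hsp), Fintype.card_fin]


end AS

/-- Let A be a discrete valuation ring whose fraction field K has characteristic p > 0, let ξ be an
element of K and let L = K(z) be obtained by adjoining a root z of z^p - z = ξ. Then L/K is a Galois
extension, and it falls under one of four cases: (1) L = K; (2) L/K has degree p and is unramified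
with respect to A; (3) L/K has degree p and is totally ramified with respect to A (ramification
index p); (4) exactly one valuation ring of L dominates A (so B, the integral closure of A in L, is
itself a discrete valuation ring), the extension A → B is weakly unramified, and its residue field
extension is purely inseparable of degree p. Moreover, with π a uniformizer of A: (A) if ξ lies in
A, case (1) or (2) holds; (B) if ξ = π⁻ⁿa with n > 0 prime to p and a a unit of A, case (3) holds;
(C) if ξ = π⁻ⁿa with n > 0 divisible by p and the residue class of a not a p-th power, case (4)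
holds. -/
theorem result (p : ℕ) (hp : p.Prime) (A K L : Type u) [CommRing A] [IsDomain A]
    [IsDiscreteValuationRing A] [Field K] [Algebra A K] [IsFractionRing A K] [Field L] [Algebra K L] [Algebra A L]
    [IsScalarTower A K L] [CharP K p] (π : A) (hπ : IsLocalRing.maximalIdeal A = Ideal.span {π})
    (ξ : K) (z : L) (hz : z ^ p - z = algebraMap K L ξ) (hgen : IntermediateField.adjoin K {z} = ⊤) :
    let g : A →+* L := algebraMap A L
    let case1 : Prop := Module.finrank K L = 1
    let case2 : Prop := EtRam.IsUnramifiedExt A g ∧ Module.finrank K L = p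
    let case3 : Prop := EtRam.IsTotallyRamified A g ∧ Module.finrank K L = p
    let case4 : Prop := (∃ V : ValuationSubring L, EtRam.Dominates A g V) ∧
      (∀ V V' : ValuationSubring L, EtRam.Dominates A g V → EtRam.Dominates A g V' → V = V') ∧
      ∀ (V : ValuationSubring L) (h : EtRam.Dominates A g V),
        letI : Algebra A V := (RingHom.codRestrict g V h.1).toAlgebra
        ∀ [IsLocalHom (algebraMap A V)],
          EtRam.IsWeaklyUnramified A V ∧
            IsPurelyInseparable (IsLocalRing.ResidueField A) (IsLocalRing.ResidueField V) ∧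
            Module.finrank (IsLocalRing.ResidueField A) (IsLocalRing.ResidueField V) = p
    IsGalois K L ∧ (case1 ∨ case2 ∨ case3 ∨ case4) ∧
      ((∃ a : A, algebraMap A K a = ξ) → case1 ∨ case2) ∧
      (∀ (n : ℕ) (a : Aˣ), 0 < n → ¬ p ∣ n → ξ * algebraMap A K π ^ n = algebraMap A K a → case3) ∧
      (∀ (n : ℕ) (a : A), 0 < n → p ∣ n → (∀ r : A, IsLocalRing.residue A a ≠ IsLocalRing.residue A r ^ p) →
          ξ * algebraMap A K π ^ n = algebraMap A K a → case4) := by
  intro g case1 case2 case3 case4
  have hg : g = (algebraMap K L).comp (algebraMap A K) := IsScalarTower.algebraMap_eq A K L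
  have hgal := isGalois_AS p hp ξ z hz hgen
  haveI : FiniteDimensional K L := finiteDimensional_AS p hp ξ z hz hgen
  have hA : (∃ a : A, algebraMap A K a = ξ) → case1 ∨ case2 := by
    rintro ⟨a, ha⟩
    rcases finrank_AS p hp ξ z hz hgen with h | h
    · exact Or.inl h
    · exact Or.inr ⟨hg ▸ unramified_AS p hp A a ξ ha z hz hgen, h⟩
  have hπi : Irreducible π := (IsDiscreteValuationRing.irreducible_iff_uniformizer π).2 hπ
  have hπ0 : algebraMap A K π ≠ 0 := (map_ne_zero_iff _ (IsFractionRing.injective A K)).2 hπi.ne_zero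
  have hB : ∀ (n : ℕ) (a : Aˣ), 0 < n → ¬ p ∣ n → ξ * algebraMap A K π ^ n = algebraMap A K a → case3 :=
    fun n a hn hpn h ↦ by
      change EtRam.IsTotallyRamified A g ∧ _
      rw [hg]
      exact totallyRamified_AS A π hπ p hp ξ z hz hgen n a hn hpn h
  have hC : ∀ (n : ℕ) (a : A), 0 < n → p ∣ n →
      (∀ r : A, IsLocalRing.residue A a ≠ IsLocalRing.residue A r ^ p) →
      ξ * algebraMap A K π ^ n = algebraMap A K a → case4 :=
    fun n a hn hpn hr h ↦ inseparable_AS A π hπ p hp ξ z hz hgen n a hn hpn hr h g hg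
  refine ⟨hgal, ?_, hA, hB, hC⟩
  -- reduction to the three normal forms
  have key : ∀ (n : ℕ) (ξ' : K) (z' : L), z' ^ p - z' = algebraMap K L ξ' →
      IntermediateField.adjoin K {z'} = ⊤ → (∃ a : A, ξ' * algebraMap A K π ^ n = algebraMap A K a) →
      case1 ∨ case2 ∨ case3 ∨ case4 := by
    intro n
    induction n using Nat.strong_induction_on with
    | _ n ih =>
      rintro ξ' z' hz' hgen' ⟨a, ha⟩
      rcases Nat.eq_zero_or_pos n with rfl | hn
      · rw [pow_zero, mul_one] at ha
        rcases finrank_AS p hp ξ' z' hz' hgen' with h | h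
        · exact Or.inl h
        · exact Or.inr (Or.inl ⟨hg ▸ unramified_AS p hp A a ξ' ha.symm z' hz' hgen', h⟩)
      by_cases hau : IsUnit a
      · by_cases hpn : p ∣ n
        · by_cases hr : ∀ r : A, IsLocalRing.residue A a ≠ IsLocalRing.residue A r ^ p
          · exact Or.inr (Or.inr (Or.inr (inseparable_AS A π hπ p hp ξ' z' hz' hgen' n a hn hpn hr ha g hg)))
          · push Not at hr
            obtain ⟨r, hr⟩ := hr
            obtain ⟨b, hb⟩ : π ∣ a - r ^ p := by
              rw [← Ideal.mem_span_singleton, ← hπ]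
              exact (IsLocalRing.residue_eq_zero_iff _).1 (by rw [map_sub, map_pow, hr, sub_self])
            obtain ⟨m, rfl⟩ := hpn
            have hm : 0 < m := pos_of_mul_pos_right hn (Nat.zero_le _)
            set η : K := algebraMap A K r / algebraMap A K π ^ m with hη
            refine ih (p * m - 1) (by omega) (ξ' - η ^ p + η) (z' - algebraMap K L η) ?_ ?_
              ⟨b + r * π ^ (p * m - m - 1), ?_⟩
            · haveI : Fact p.Prime := ⟨hp⟩
              haveI : CharP L p := charP_of_injective_algebraMap (algebraMap K L).injective p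
              rw [sub_pow_char, map_add, map_sub, map_pow]
              linear_combination hz'
            · rw [eq_top_iff, ← hgen', IntermediateField.adjoin_simple_le_iff]
              simpa using add_mem (IntermediateField.mem_adjoin_simple_self K (z' - algebraMap K L η))
                (IntermediateField.algebraMap_mem _ η)
            · apply mul_right_cancel₀ hπ0
              have hlt : m < p * m := lt_mul_of_one_lt_left hm hp.one_lt
              rw [mul_assoc, ← pow_succ, Nat.sub_add_cancel (by omega), add_mul, sub_mul, ha, ← map_mul]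
              have h1 : η ^ p * algebraMap A K π ^ (p * m) = algebraMap A K (r ^ p) := by
                rw [hη, div_pow, ← pow_mul, mul_comm p m, div_mul_cancel₀ _ (pow_ne_zero _ hπ0), map_pow]
              have h2 : η * algebraMap A K π ^ (p * m) = algebraMap A K (r * π ^ (p * m - m)) := by
                rw [hη, map_mul, map_pow, div_mul_eq_mul_div, div_eq_iff (pow_ne_zero _ hπ0), mul_assoc,
                  ← pow_add, Nat.sub_add_cancel hlt.le]
              rw [h1, h2, ← map_sub, ← map_add, hb]
              congr 1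
              have : π ^ (p * m - m) = π ^ (p * m - m - 1) * π := by
                rw [← pow_succ, Nat.sub_add_cancel (by omega)]
              rw [this]; ring
        · refine Or.inr (Or.inr (Or.inl ?_))
          change EtRam.IsTotallyRamified A g ∧ _
          rw [hg]
          exact totallyRamified_AS A π hπ p hp ξ' z' hz' hgen' n hau.unit hn hpn ha
      · obtain ⟨b, rfl⟩ : π ∣ a := by
          rw [← Ideal.mem_span_singleton, ← hπ]; exact (IsLocalRing.mem_maximalIdeal a).2 hau
        refine ih (n - 1) (by omega) ξ' z' hz' hgen' ⟨b, ?_⟩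
        apply mul_right_cancel₀ hπ0
        rw [mul_assoc, ← pow_succ, Nat.sub_add_cancel hn, ha, map_mul, mul_comm]
  obtain ⟨x, y, hy, hxy⟩ := IsFractionRing.div_surjective A ξ
  obtain ⟨n, u, hu⟩ := IsDiscreteValuationRing.eq_unit_mul_pow_irreducible (nonZeroDivisors.ne_zero hy) hπi
  refine key n ξ z hz hgen ⟨x * ↑u⁻¹, ?_⟩
  rw [← hxy, hu, map_mul, map_mul, map_pow, map_units_inv]
  have : algebraMap A K (u : A) ≠ 0 := (IsUnit.map _ u.isUnit).ne_zero
  field_simp

end Groth.Agent.S7158
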