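import Groth.Statements.S7155
import Groth.Agent.EtRamLib.AS.Data
import Groth.Agent.EtRamLib.AS.RootTR
import Groth.Agent.EtRamLib.AS.Gen
import Groth.Agent.EtRamLib.AS.Solve

set_option autoImplicit false
universe u
open EtAlg

namespace Groth.Agent.S7155

open Polynomial IntermediateField
open Groth.Agent.EtRamLib

/-- the part of the residue field consisting of all infinitely divisible elements is perfect -/
theorem perfect_of {κA κB : Type u} [Field κA] [Field κB] [Algebra κA κB] (p : ℕ) [Fact p.Prime] [CharP κB p]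
    (hk : ∀ x : κB, (∀ n : ℕ, ∃ y : κB, y ^ (p ^ n) = x) ↔ x ∈ Set.range (algebraMap κA κB)) (x : κA) :
    ∃ y, y ^ p = x := by
  obtain ⟨y, hy⟩ := (hk (algebraMap κA κB x)).2 ⟨x, rfl⟩ 1
  rw [pow_one] at hy
  obtain ⟨z, hz⟩ := (hk y).1 fun n ↦ by
    obtain ⟨w, hw⟩ := (hk (algebraMap κA κB x)).2 ⟨x, rfl⟩ (n + 1)
    refine ⟨w, frobenius_inj κB p ?_⟩
    rw [frobenius_def, frobenius_def, hy, ← hw, ← pow_mul, ← pow_succ]
  exact ⟨z, (algebraMap κA κB).injective (by rw [map_pow, hz, hy])⟩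

/-- the totally ramified extension carrying the two reductions -/
theorem exists_ext {A K : Type u} [CommRing A] [IsDomain A] [IsDiscreteValuationRing A] [Field K] [Algebra A K]
    [IsFractionRing A K] (p : ℕ) [hp : Fact p.Prime] [CharP K p] (π : A)
    (hπ : IsLocalRing.maximalIdeal A = Ideal.span {π}) (M₁ : ℕ) (hM₁ : 0 < M₁) (j : ℕ)
    (S' : Finset ℕ) (bK : ℕ → A) (hS' : ∀ i ∈ S', ¬ p ∣ i ∧ IsUnit (bK i)) :
    ∃ (K₂ : Type u) (_ : Field K₂) (_ : Algebra K K₂) (x z₀ : K₂),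
      FiniteDimensional K K₂ ∧ Algebra.IsSeparable K K₂ ∧
      EtRam.IsTotallyRamified A ((algebraMap K K₂).comp (algebraMap A K)) ∧
      x ^ p ^ M₁ = algebraMap K K₂ (algebraMap A K π) - algebraMap K K₂ (algebraMap A K π) ^ (j + 1) * x ∧
      z₀ ^ p - z₀ = ∑ i ∈ S', algebraMap K K₂ (algebraMap A K (bK i)) / x ^ i := by
  classical
  set P : K := algebraMap A K π with hP
  have hP0 : P ≠ 0 := (map_ne_zero_iff _ (IsFractionRing.injective A K)).2
    ((IsDiscreteValuationRing.irreducible_iff_uniformizer π).2 hπ).ne_zero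
  have hq : 1 < p ^ M₁ := Nat.one_lt_pow hM₁.ne' hp.out.one_lt
  set f : K[X] := X ^ p ^ M₁ + (Polynomial.C (P ^ (j + 1)) * X - Polynomial.C P) with hf
  have hfdeg : (Polynomial.C (P ^ (j + 1)) * X - Polynomial.C P : K[X]).degree < (p ^ M₁ : ℕ) := by
    refine (degree_sub_le _ _).trans_lt (max_lt ((degree_C_mul_X_le _).trans_lt ?_) (degree_C_le.trans_lt ?_))
    · exact_mod_cast hq
    · exact_mod_cast (zero_lt_one.trans hq)
  have hfm : f.Monic := monic_X_pow_add hfdeg
  have hfsep : f.Separable := by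
    have hd : derivative f = Polynomial.C (P ^ (j + 1)) := by
      simp [hf, derivative_X_pow, CharP.cast_eq_zero, hM₁.ne', ← map_pow]
    rw [separable_def, hd]
    exact isCoprime_one_right.of_isCoprime_of_dvd_right (isUnit_iff_dvd_one.1 (isUnit_C.2 (pow_ne_zero _ hP0).isUnit))
  obtain ⟨x₀, hx₀⟩ := IsAlgClosed.exists_aeval_eq_zero (AlgebraicClosure K) f (fun h ↦ by
    rw [hf, degree_add_eq_left_of_degree_lt (by rwa [degree_X_pow]), degree_X_pow] at h
    have : p ^ M₁ = 0 := by exact_mod_cast h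
    omega)
  have hx₀eq : x₀ ^ p ^ M₁ = algebraMap K _ P - algebraMap K _ P ^ (j + 1) * x₀ := by
    simp only [hf, map_add, map_sub, map_mul, map_pow, aeval_X, aeval_C] at hx₀
    linear_combination hx₀
  have hxint : IsIntegral K x₀ := ⟨f, hfm, by rwa [← aeval_def]⟩
  haveI := adjoin.finiteDimensional hxint
  haveI hsep₁ : Algebra.IsSeparable K K⟮x₀⟯ :=
    (isSeparable_adjoin_simple_iff_isSeparable K (AlgebraicClosure K)).2 (hfsep.of_dvd (minpoly.dvd K x₀ hx₀))
  set x : K⟮x₀⟯ := AdjoinSimple.gen K x₀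
  have hgen : K⟮x⟯ = ⊤ := by
    rw [← lift_inj, lift_adjoin_simple, lift_top]; rfl
  have hxeq : x ^ p ^ M₁ = algebraMap K K⟮x₀⟯ P - algebraMap K K⟮x₀⟯ P ^ (j + 1) * x := Subtype.ext hx₀eq
  obtain ⟨hT, hmax⟩ := AS.RootTR.root_tr π hπ (p ^ M₁) hq j x hxeq hgen
  rcases S'.eq_empty_or_nonempty with rfl | hne
  · exact ⟨K⟮x₀⟯, inferInstance, inferInstance, x, 0, inferInstance, hsep₁, hT, hxeq, by
      simp [hp.out.ne_zero]⟩
  set n := S'.max' hne with hn
  have hnS : n ∈ S' := S'.max'_mem hne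
  have hn0 : 0 < n := Nat.pos_of_ne_zero fun h ↦ (hS' n hnS).1 (h ▸ dvd_zero p)
  obtain ⟨V, hV⟩ := hT.1
  haveI : CharP K⟮x₀⟯ p := charP_of_injective_algebraMap (algebraMap K K⟮x₀⟯).injective p
  haveI : CharP (AlgebraicClosure K) p := charP_of_injective_algebraMap (algebraMap K _).injective p
  haveI : IsDiscreteValuationRing V := Solution.isDVR A K K⟮x₀⟯ V hV
  obtain ⟨hx1, hxv⟩ := DegPRoot.val_root hπ hV (p ^ M₁) hq j x hxeq
  have hxV : x ∈ V := (V.valuation_le_one_iff _).1 hx1.le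
  have hx0 : x ≠ 0 := fun h ↦ by
    rw [h, map_zero, zero_pow (by omega)] at hxv
    exact (Groth.Agent.S7158.val_pos A π hπ hV).ne hxv
  have hVmax : IsLocalRing.maximalIdeal V = Ideal.span {(⟨x, hxV⟩ : V)} := by
    refine le_antisymm (fun y hy ↦ ?_) ?_
    · have hle := hmax V hV y ((V.valuation_lt_one_iff _).1 hy)
      rw [Ideal.mem_span_singleton]
      refine ⟨⟨(y : K⟮x₀⟯) / x, ?_⟩, Subtype.ext (mul_div_cancel₀ _ hx0).symm⟩
      rw [← V.valuation_le_one_iff, map_div₀, div_le_one₀ (zero_lt_iff.2 ((Valuation.ne_zero_iff _).2 hx0))]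
      exact hle
    · rw [Ideal.span_le, Set.singleton_subset_iff]
      exact (V.valuation_lt_one_iff _).2 hx1
  set ξ₀ : K⟮x₀⟯ := ∑ i ∈ S', algebraMap K K⟮x₀⟯ (algebraMap A K (bK i)) / x ^ i with hξ₀
  have hu1 : V.valuation (ξ₀ * x ^ n) = 1 := by
    rw [hξ₀, Finset.sum_mul]
    rw [Valuation.map_sum_eq_of_lt _ hnS]
    · rw [div_mul_cancel₀ _ (pow_ne_zero _ hx0)]
      exact Groth.Agent.S7158.val_unit A π hπ hV (hS' n hnS).2.unit
    · intro i hi
      rw [Finset.mem_sdiff, Finset.mem_singleton] at hi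
      have hlt : i < n := lt_of_le_of_ne (S'.le_max' i hi.1) hi.2
      rw [div_mul_cancel₀ _ (pow_ne_zero _ hx0), div_mul_eq_mul_div, mul_div_assoc, div_eq_mul_inv,
        ← pow_sub₀ x hx0 hlt.le, mul_comm, map_mul, map_pow]
      refine lt_of_lt_of_eq (mul_lt_one_of_lt_of_le (pow_lt_one₀ zero_le hx1 (by omega))
        ((V.valuation_le_one_iff _).2 (hV.1 _))) (Groth.Agent.S7158.val_unit A π hπ hV (hS' n hnS).2.unit).symm
  obtain ⟨u, hu⟩ : IsUnit (⟨ξ₀ * x ^ n, (V.valuation_le_one_iff _).1 hu1.le⟩ : V) :=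
    (V.valuation_eq_one_iff _).2 hu1
  have hdeg0 : (X ^ p - X - Polynomial.C (ξ₀ : AlgebraicClosure K) : (AlgebraicClosure K)[X]).degree ≠ 0 := by
    rw [sub_sub, degree_sub_eq_left_of_degree_lt (by
      rw [degree_X_pow, degree_X_add_C]; exact_mod_cast hp.out.one_lt), degree_X_pow]
    exact_mod_cast hp.out.ne_zero
  obtain ⟨z₁, hz₁⟩ := IsAlgClosed.exists_root _ hdeg0
  simp only [IsRoot.def, eval_sub, eval_pow, eval_X, eval_C, sub_eq_zero] at hz₁
  set z₀ : (K⟮x₀⟯)⟮z₁⟯ := AdjoinSimple.gen K⟮x₀⟯ z₁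
  have hz₀ : z₀ ^ p - z₀ = algebraMap K⟮x₀⟯ (K⟮x₀⟯)⟮z₁⟯ ξ₀ := Subtype.ext hz₁
  have hgen₂ : (K⟮x₀⟯)⟮z₀⟯ = ⊤ := by
    rw [← lift_inj, lift_adjoin_simple, lift_top]; rfl
  haveI := Groth.Agent.S7158.finiteDimensional_AS p hp.out ξ₀ z₀ hz₀ hgen₂
  haveI := Groth.Agent.S7158.isGalois_AS p hp.out ξ₀ z₀ hz₀ hgen₂
  refine ⟨(K⟮x₀⟯)⟮z₁⟯, inferInstance, inferInstance, algebraMap K⟮x₀⟯ _ x, z₀,
    Module.Finite.trans K⟮x₀⟯ _, Algebra.IsSeparable.trans K K⟮x₀⟯ _, ?_, ?_, ?_⟩
  · refine AS.RootTR.tr_trans hT fun V₁ hV₁ ↦ ?_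
    obtain rfl := hT.2.1 V₁ V hV₁ hV
    exact (Groth.Agent.S7158.totallyRamified_AS V₁ ⟨x, hxV⟩ hVmax p hp.out ξ₀ z₀ hz₀ hgen₂ n u hn0 (hS' n hnS).1
      (by rw [hu]; rfl)).1
  · rw [← map_pow, hxeq, map_sub, map_mul, map_pow, ← IsScalarTower.algebraMap_apply]
  · rw [hz₀, hξ₀, map_sum]
    refine Finset.sum_congr rfl fun i _ ↦ ?_
    rw [map_div₀, map_pow, ← IsScalarTower.algebraMap_apply]

/-- Let A → B → C be injective local homomorphisms of discrete valuation rings whose fields of fractions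
are K ⊆ L ⊆ M, where A → B is weakly unramified, K has characteristic p, M/L is Galois of degree p,
and κ_A, inside κ_B, is exactly the set of elements admitting a pⁿ-th root for every n. Then some
finite separable extension K₁/K that is totally ramified with respect to A is a weak solution for A
→ C. (The published statement asks for K₁/K Galois; this row asks only that K₁/K be separable, which
is what the printed construction provides.) -/
theorem result (p : ℕ) (hp : p.Prime) (A B C K L M : Type u)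
    [CommRing A] [IsDomain A] [IsDiscreteValuationRing A] [CommRing B] [IsDomain B] [IsDiscreteValuationRing B]
    [CommRing C] [IsDomain C] [IsDiscreteValuationRing C]
    [Algebra A B] [Algebra B C] [Algebra A C] [IsScalarTower A B C]
    (hAB : Function.Injective (algebraMap A B)) (hBC : Function.Injective (algebraMap B C))
    [IsLocalHom (algebraMap A B)] [IsLocalHom (algebraMap B C)]
    [Field K] [Field L] [Field M] [Algebra A K] [IsFractionRing A K] [Algebra B L] [IsFractionRing B L]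
    [Algebra C M] [IsFractionRing C M] [Algebra K L] [Algebra L M] [Algebra K M] [IsScalarTower K L M]
    [Algebra A L] [IsScalarTower A K L] [IsScalarTower A B L] [Algebra B M] [IsScalarTower B L M] [IsScalarTower B C M]
    [Algebra A M] [IsScalarTower A K M] [IsScalarTower A C M]
    (hw : EtRam.IsWeaklyUnramified A B) [CharP K p] [IsGalois L M] (hdeg : Module.finrank L M = p)
    (hk : ∀ x : IsLocalRing.ResidueField B, (∀ n : ℕ, ∃ y : IsLocalRing.ResidueField B, y ^ (p ^ n) = x) ↔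
      x ∈ Set.range (algebraMap (IsLocalRing.ResidueField A) (IsLocalRing.ResidueField B))) :
    ∃ (K₁ : Type u) (_ : Field K₁) (_ : Algebra K K₁), FiniteDimensional K K₁ ∧ Algebra.IsSeparable K K₁ ∧
      EtRam.IsTotallyRamified A ((algebraMap K K₁).comp (algebraMap A K)) ∧ EtRam.IsWeakSolution C K M K₁ := by
  haveI : Fact p.Prime := ⟨hp⟩
  haveI : CharP L p := charP_of_injective_algebraMap (algebraMap K L).injective p
  haveI : FiniteDimensional L M := Module.finite_of_finrank_pos (hdeg ▸ hp.pos)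
  haveI : CharP B p := (RingHom.charP_iff (algebraMap B L) (IsFractionRing.injective B L) p).2 inferInstance
  haveI : CharP (IsLocalRing.ResidueField B) p :=
    (CharP.charP_iff_prime_eq_zero hp).2 (by rw [← map_natCast (IsLocalRing.residue B), CharP.cast_eq_zero, map_zero])
  have hperf := perfect_of p hk
  obtain ⟨π, hπi⟩ := IsDiscreteValuationRing.exists_irreducible A
  have hπB : IsLocalRing.maximalIdeal B = Ideal.span {algebraMap A B π} := by
    rw [← hw, hπi.maximalIdeal_eq, Ideal.map_span, Set.image_singleton]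
  obtain ⟨z, ξ, hz, hzgen⟩ := AS.Gen.exists_generator (L := L) (M := M) p hdeg
  obtain ⟨S, m, s, aK, b, g, hS0, hS, hξ⟩ := AS.Data.decompose (K := K) p π hπB hk ξ
  set M₁ := S.sup m + 1 with hM₁
  obtain ⟨S', bK, a', gK, hS', hξK⟩ := AS.Data.decompose₂ p π hπi.maximalIdeal_eq hperf M₁ aK
  set j := max (S.sup id) (S'.sup id) with hj
  obtain ⟨K₂, _, _, x, z₀, hfin, hsep, hT, hx, hz₀⟩ :=
    exists_ext (K := K) p π hπi.maximalIdeal_eq M₁ (Nat.succ_pos _) j S' bK hS'
  haveI := hfin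
  exact ⟨K₂, inferInstance, inferInstance, hfin, hsep, hT,
    AS.Solve.weakSolution p π hπB hw z ξ hz hzgen S m s aK b g hS0 hS hξ M₁
      (fun i hi ↦ Nat.lt_succ_of_le (Finset.le_sup hi)) (Nat.succ_pos _) S' bK a' gK hξK j
      (fun i hi ↦ (Finset.le_sup (f := id) hi).trans (le_max_left _ _))
      (fun i hi ↦ (Finset.le_sup (f := id) hi).trans (le_max_right _ _)) K₂ hT x z₀ hx hz₀⟩

end Groth.Agent.S7155
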