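import Groth.Statements.S7156
import Groth.Agent.EtRamLib.DegPRoot
import Groth.Agent.EtRamLib.DegPApprox
import Groth.Agent.EtRamLib.Solution

set_option autoImplicit false
universe u
open EtAlg

namespace Groth.Agent.S7156

open Polynomial IntermediateField
open Groth.Agent.S7158 (exists_dominates val_mem_range val_exponent exists_coeffs)
open scoped TensorProduct

/-- a purely inseparable extension of prime degree `p` has characteristic `p` and exponent one -/
theorem insep_facts {L M : Type u} [Field L] [Field M] [Algebra L M] [IsPurelyInseparable L M] (p : ℕ) (hp : p.Prime)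
    (hdeg : Module.finrank L M = p) :
    CharP L p ∧ ∀ m : M, ∃ l : L, algebraMap L M l = m ^ p := by
  haveI : FiniteDimensional L M := Module.finite_of_finrank_pos (hdeg ▸ hp.pos)
  obtain ⟨q, hq⟩ := ExpChar.exists L
  obtain ⟨n, hn⟩ := IsPurelyInseparable.finrank_eq_pow (F := L) M q
  have hqp : q = p := by
    have hn1 : n = 1 := by
      have := (Nat.Prime.pow_eq_iff hp).1 (hn.symm.trans hdeg)
      exact this.2
    rw [hdeg, hn1, pow_one] at hn
    exact hn.symm
  subst hqp
  refine ⟨?_, fun m ↦ ?_⟩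
  · cases hq with
    | zero => exact absurd hp Nat.not_prime_one
    | prime h => assumption
  obtain ⟨k, y, hk⟩ := IsPurelyInseparable.minpoly_eq_X_pow_sub_C L q m
  have hdle : (minpoly L m).natDegree ≤ q := hdeg ▸ minpoly.natDegree_le m
  rw [hk, natDegree_X_pow_sub_C] at hdle
  have hroot := minpoly.aeval L m
  rw [hk, map_sub, map_pow, aeval_X, aeval_C, sub_eq_zero] at hroot
  obtain rfl | rfl : k = 0 ∨ k = 1 := by
    have : k ≤ 1 := (Nat.pow_le_pow_iff_right hp.one_lt).1 (by rwa [pow_one])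
    omega
  · exact ⟨y ^ q, by rw [map_pow, ← hroot, pow_zero, pow_one]⟩
  · exact ⟨y, by rw [← hroot, pow_one]⟩

theorem gen_top {K Ω : Type u} [Field K] [Field Ω] [Algebra K Ω] (x : Ω) :
    K⟮AdjoinSimple.gen K x⟯ = ⊤ := by
  rw [← lift_inj, lift_adjoin_simple, lift_top]
  rfl

/-- a field generated over `L` by the image of `K⟮x⟯` is generated by the image of `x` -/
theorem gen_of {K L Ω F : Type u} [Field K] [Field L] [Field Ω] [Field F] [Algebra K Ω] (x : Ω) [Algebra K L]
    [Algebra K F] [Algebra L F] [Algebra K⟮x⟯ F] [IsScalarTower K L F] [IsScalarTower K K⟮x⟯ F]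
    (hgen : Algebra.adjoin L (Set.range (algebraMap K⟮x⟯ F)) = ⊤) :
    L⟮algebraMap K⟮x⟯ F (AdjoinSimple.gen K x)⟯ = ⊤ := by
  set E := L⟮algebraMap K⟮x⟯ F (AdjoinSimple.gen K x)⟯
  have h1 : K⟮AdjoinSimple.gen K x⟯ ≤ (E.restrictScalars K).comap (IsScalarTower.toAlgHom K K⟮x⟯ F) :=
    adjoin_simple_le_iff.2 (mem_adjoin_simple_self L _)
  rw [gen_top] at h1
  rw [eq_top_iff]
  intro y _
  have h2 : Algebra.adjoin L (Set.range (algebraMap K⟮x⟯ F)) ≤ E.toSubalgebra :=
    Algebra.adjoin_le (by rintro _ ⟨z, rfl⟩; exact h1 (x := z) mem_top)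
  rw [hgen] at h2
  exact h2 (x := y) Algebra.mem_top

/-- `L ⊗ K⟮x⟯` is a field when `x` has the same degree over `L` -/
theorem isField_tensor {K L Ω : Type u} [Field K] [Field L] [Field Ω] [Algebra K L] [Algebra K Ω] [Algebra L Ω]
    [IsScalarTower K L Ω] (x : Ω) (hx : IsIntegral K x) (p : ℕ) (hK : Module.finrank K K⟮x⟯ = p)
    (hL : Module.finrank L L⟮x⟯ = p) : IsField (L ⊗[K] K⟮x⟯) := by
  have hle : ∀ z : K⟮x⟯, algebraMap K⟮x⟯ Ω z ∈ L⟮x⟯ := fun z ↦
    (adjoin_simple_le_iff.2 (mem_adjoin_simple_self L x) : K⟮x⟯ ≤ L⟮x⟯.restrictScalars K) z.2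
  letI : Algebra K⟮x⟯ L⟮x⟯ := ((algebraMap K⟮x⟯ Ω).codRestrict L⟮x⟯ hle).toAlgebra
  haveI : IsScalarTower K K⟮x⟯ L⟮x⟯ := IsScalarTower.of_algebraMap_eq fun k ↦ Subtype.ext
    (IsScalarTower.algebraMap_apply K K⟮x⟯ Ω k)
  have hxL : IsIntegral L x := hx.tower_top
  haveI := adjoin.finiteDimensional hxL
  have hgen : Algebra.adjoin L (Set.range (algebraMap K⟮x⟯ L⟮x⟯)) = ⊤ := by
    rw [eq_top_iff, ← IntermediateField.top_toSubalgebra, ← gen_top (K := L) x,
      adjoin_simple_toSubalgebra_of_isAlgebraic (Algebra.IsAlgebraic.isAlgebraic (R := L) _) ]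
    · exact Algebra.adjoin_mono (Set.singleton_subset_iff.2 ⟨AdjoinSimple.gen K x, rfl⟩)
  let θ : L ⊗[K] K⟮x⟯ →ₐ[L] L⟮x⟯ := Algebra.TensorProduct.lift (Algebra.ofId L L⟮x⟯)
    (IsScalarTower.toAlgHom K K⟮x⟯ L⟮x⟯) fun _ _ ↦ Commute.all _ _
  have hsurj : Function.Surjective θ := EtRamLib.Solution.surjective_lift K L K⟮x⟯ L⟮x⟯ hgen
  haveI := adjoin.finiteDimensional hx
  have hinj : Function.Injective θ.toLinearMap :=
    (LinearMap.injective_iff_surjective_of_finrank_eq_finrank (by rw [Module.finrank_baseChange, hK, hL])).2 hsurj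
  exact MulEquiv.isField (Field.toIsField L⟮x⟯) (AlgEquiv.ofBijective θ ⟨hinj, hsurj⟩).toMulEquiv

/-- the case where `π` is a `p`-th power in `M` -/
theorem adjoin_eq_top {B C L M : Type u} [CommRing B] [IsDomain B] [IsDiscreteValuationRing B] [CommRing C]
    [IsDomain C] [IsDiscreteValuationRing C] [Algebra B C] [IsLocalHom (algebraMap B C)] [Field L] [Field M]
    [Algebra B L] [IsFractionRing B L] [Algebra C M] [IsFractionRing C M] [Algebra L M] [Algebra B M]
    [IsScalarTower B L M] [IsScalarTower B C M] (π : B) (hπ : IsLocalRing.maximalIdeal B = Ideal.span {π})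
    (p : ℕ) (hp : p.Prime) (hdeg : Module.finrank L M = p) (c : C) (hc : c ^ p = algebraMap B C π) :
    Algebra.adjoin B {c} = ⊤ := by
  haveI : FiniteDimensional L M := Module.finite_of_finrank_pos (hdeg ▸ hp.pos)
  obtain ⟨W, hW⟩ := exists_dominates (K := M) (L := M) C
  have hWB : EtRam.Dominates B ((algebraMap L M).comp (algebraMap B L)) W := by
    rw [← IsScalarTower.algebraMap_eq B L M, IsScalarTower.algebraMap_eq B C M]
    exact ⟨fun b ↦ hW.1 _, fun b hb ↦ hW.2 _ (map_nonunit (algebraMap B C) b hb)⟩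
  set c' := algebraMap C M c
  have hc' : c' ^ p = algebraMap L M (algebraMap B L π) := by
    rw [← map_pow, hc, ← IsScalarTower.algebraMap_apply, ← IsScalarTower.algebraMap_apply]
  have hvc : W.valuation c' ^ p = W.valuation (algebraMap L M (algebraMap B L π)) := by rw [← map_pow, hc']
  have hπi : Irreducible π := (IsDiscreteValuationRing.irreducible_iff_uniformizer π).2 hπ
  have hgen : L⟮c'⟯ = ⊤ := by
    haveI := isSimpleOrder_of_finrank_prime L M (hdeg.symm ▸ hp)
    refine (eq_bot_or_eq_top _).resolve_left fun h ↦ ?_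
    obtain ⟨l, hl⟩ := mem_bot.1 (h ▸ mem_adjoin_simple_self L c')
    have hlp : l ^ p = algebraMap B L π := (algebraMap L M).injective (by rw [map_pow, hl, hc'])
    obtain ⟨b, rfl⟩ := IsIntegrallyClosed.exists_algebraMap_eq_of_isIntegral_pow (R := B) hp.pos
      (hlp ▸ isIntegral_algebraMap : IsIntegral B (l ^ p))
    rw [← map_pow] at hlp
    obtain rfl := IsFractionRing.injective B L hlp
    exact absurd hπi.not_isUnit (not_not.2 (IsUnit.pow p
      ((hπi.isUnit_or_isUnit (show b ^ p = b * b ^ (p - 1) by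
        rw [← pow_succ', Nat.sub_add_cancel hp.one_le])).elim id fun h ↦
        (isUnit_pow_iff (Nat.sub_ne_zero_of_lt hp.one_lt)).1 h)))
  rw [eq_top_iff]
  intro y _
  obtain ⟨d, hd⟩ := exists_coeffs p c' (X ^ p - Polynomial.C (algebraMap B L π)) (monic_X_pow_sub_C _ hp.ne_zero)
    natDegree_X_pow_sub_C (by rw [map_sub, map_pow, aeval_X, aeval_C, hc', sub_self]) hgen hp.pos (algebraMap C M y)
  rcases eq_or_ne d 0 with rfl | hd0
  · have : y = 0 := IsFractionRing.injective C M (by rw [hd]; simp)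
    rw [this]; exact zero_mem _
  obtain ⟨k, m, -, hm, -, hall⟩ := EtRamLib.DegPRoot.val_terms hπ hWB p hp.pos c' hvc d hd0
  have hs1 : W.valuation c' < 1 := by
    rw [← pow_lt_one_iff_of_nonneg zero_le hp.ne_zero, hvc]
    exact Groth.Agent.S7158.val_lt_one B π hπ hWB
  have hs0 : 0 < W.valuation c' := by
    refine zero_lt_iff.2 fun h ↦ ?_
    rw [h, zero_pow hp.ne_zero] at hvc
    exact (Groth.Agent.S7158.val_pos B π hπ hWB).ne hvc
  have hy1 : W.valuation c' ^ m ≤ 1 := by
    rw [← hm, ← hd]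
    exact (W.valuation_le_one_iff _).2 (hW.1 y)
  have hmemB : ∀ i, ∃ b : B, algebraMap B L b = d i := by
    intro i
    rcases eq_or_ne (d i) 0 with h0 | h0
    · exact ⟨0, by rw [h0, map_zero]⟩
    rw [← val_mem_range B π hπ hWB]
    obtain ⟨l, hl⟩ := val_exponent B π hπ hWB h0
    have h := (hall i).trans hy1
    rw [map_mul, map_pow, hl, ← hvc, ← zpow_natCast _ p, ← zpow_mul, ← zpow_natCast, ← zpow_add₀ hs0.ne'] at h
    have hl0 : 0 ≤ l := by
      by_contra hneg
      push Not at hneg
      have hlt : (p : ℤ) * l + (i : ℕ) < 0 := by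
        have h1 : (p : ℤ) * l ≤ (p : ℤ) * (-1) := mul_le_mul_of_nonneg_left (by omega) (by positivity)
        have h2 := i.2
        omega
      exact absurd (one_lt_zpow_of_neg₀ hs0 hs1 hlt) (not_lt.2 h)
    rw [hl]
    lift l to ℕ using hl0
    rw [zpow_natCast]
    exact pow_le_one₀ zero_le (Groth.Agent.S7158.val_lt_one B π hπ hWB).le
  choose b hb using hmemB
  have hy : y = ∑ i : Fin p, algebraMap B C (b i) * c ^ (i : ℕ) := by
    apply IsFractionRing.injective C M
    rw [hd, map_sum]
    refine Finset.sum_congr rfl fun i _ ↦ ?_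
    rw [map_mul, map_pow, ← hb i, ← IsScalarTower.algebraMap_apply, ← IsScalarTower.algebraMap_apply]
  rw [hy]
  exact Subalgebra.sum_mem _ fun i _ ↦
    mul_mem (Subalgebra.algebraMap_mem _ _) (pow_mem (Algebra.self_mem_adjoin_singleton B c) _)

/-- the weak solution in the remaining case -/
theorem exists_weakSolution {A B C K L M : Type u} [CommRing A] [IsDomain A] [IsDiscreteValuationRing A]
    [CommRing B] [IsDomain B] [IsDiscreteValuationRing B] [CommRing C] [IsDomain C] [IsDiscreteValuationRing C]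
    [Algebra A B] [IsLocalHom (algebraMap A B)] [Algebra B C] [IsLocalHom (algebraMap B C)]
    [Field K] [Field L] [Field M] [Algebra A K] [IsFractionRing A K] [Algebra B L] [IsFractionRing B L]
    [Algebra C M] [IsFractionRing C M] [Algebra K L] [Algebra L M] [Algebra K M] [IsScalarTower K L M]
    [Algebra A L] [IsScalarTower A K L] [IsScalarTower A B L] [Algebra B M] [IsScalarTower B L M]
    [IsScalarTower B C M] (π : A) (hπ : IsLocalRing.maximalIdeal A = Ideal.span {π})
    (hw : EtRam.IsWeaklyUnramified A B) (hπB : IsLocalRing.maximalIdeal B = Ideal.span {algebraMap A B π})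
    (p : ℕ) (hp : p.Prime) [CharP L p] (hdeg : Module.finrank L M = p) (w : M) (hwgen : L⟮w⟯ = ⊤)
    (u c : B) (b : Fin p → B) (j : ℕ) (hwp : w ^ p = algebraMap L M (algebraMap B L (algebraMap A B π * u)))
    (hq : u - ∑ i : Fin p, b i ^ p * algebraMap A B π ^ (i : ℕ) = algebraMap A B π ^ j * c)
    (hc : ∀ r : B, IsLocalRing.residue B c ≠ IsLocalRing.residue B r ^ p) :
    ∃ (K₁ : Type u) (_ : Field K₁) (_ : Algebra K K₁),
        Module.finrank K K₁ = p ∧ Algebra.IsSeparable K K₁ ∧
          EtRam.IsTotallyRamified A ((algebraMap K K₁).comp (algebraMap A K)) ∧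
          IsField (L ⊗[K] K₁) ∧ IsField (M ⊗[K] K₁) ∧
          EtRam.IsWeakSolution B K L K₁ ∧ EtRam.IsWeakSolution C K M K₁ := by
  haveI : CharP K p := (RingHom.charP_iff (algebraMap K L) (algebraMap K L).injective p).2 inferInstance
  set P : K := algebraMap A K π with hP
  have hP0 : P ≠ 0 := (map_ne_zero_iff _ (IsFractionRing.injective A K)).2
    ((IsDiscreteValuationRing.irreducible_iff_uniformizer π).2 hπ).ne_zero
  set f : K[X] := X ^ p + (Polynomial.C (P ^ (j + 1)) * X - Polynomial.C P) with hf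
  have hfdeg : (Polynomial.C (P ^ (j + 1)) * X - Polynomial.C P : K[X]).degree < (p : ℕ) := by
    refine (degree_sub_le _ _).trans_lt (max_lt ((degree_C_mul_X_le _).trans_lt ?_) (degree_C_le.trans_lt ?_))
    · exact_mod_cast hp.one_lt
    · exact_mod_cast hp.pos
  have hfm : f.Monic := monic_X_pow_add hfdeg
  have hfsep : f.Separable := by
    have hd : derivative f = Polynomial.C (P ^ (j + 1)) := by
      simp [hf, derivative_X_pow, CharP.cast_eq_zero, ← map_pow]
    rw [separable_def, hd]
    exact isCoprime_one_right.of_isCoprime_of_dvd_right (isUnit_iff_dvd_one.1 (isUnit_C.2 (pow_ne_zero _ hP0).isUnit))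
  obtain ⟨x, hx⟩ := IsAlgClosed.exists_aeval_eq_zero (AlgebraicClosure M) f (fun h ↦ by
    rw [hf, degree_add_eq_left_of_degree_lt (by rwa [degree_X_pow]), degree_X_pow] at h
    exact hp.ne_zero (by exact_mod_cast h))
  have hxK : IsIntegral K x := ⟨f, hfm, by rwa [← aeval_def]⟩
  have hxeq : x ^ p = algebraMap K _ P - algebraMap K _ P ^ (j + 1) * x := by
    simp only [hf, map_add, map_sub, map_mul, map_pow, aeval_X, aeval_C] at hx
    linear_combination hx
  have himg : ∀ {F : Type u} [Field F] [Algebra L F] [Algebra K F] [IsScalarTower K L F],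
      algebraMap K F P = algebraMap L F (algebraMap B L (algebraMap A B π)) := by
    intro F _ _ _ _
    rw [hP, IsScalarTower.algebraMap_apply K L F, ← IsScalarTower.algebraMap_apply A K L,
      IsScalarTower.algebraMap_apply A B L]
  set g : K⟮x⟯ := AdjoinSimple.gen K x
  have hgeq : g ^ p = algebraMap K K⟮x⟯ P - algebraMap K K⟮x⟯ P ^ (j + 1) * g := Subtype.ext hxeq
  obtain ⟨hT, hKd⟩ := EtRamLib.DegPRoot.root_totallyRamified π hπ p hp j g hgeq (gen_top x)
  haveI := adjoin.finiteDimensional hxK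
  -- degree over `L`
  have hLd : Module.finrank L L⟮x⟯ = p := by
    refine (EtRamLib.DegPRoot.root_totallyRamified (algebraMap A B π) hπB p hp j (AdjoinSimple.gen L x)
      ?_ (gen_top x)).2
    rw [← himg]
    exact Subtype.ext hxeq
  -- degree over `M`
  haveI : IsScalarTower K L M⟮x⟯ := IsScalarTower.of_algebraMap_eq fun k ↦ Subtype.ext
    (IsScalarTower.algebraMap_apply K L (AlgebraicClosure M) k)
  have hMd : Module.finrank M M⟮x⟯ = p := by
    refine (EtRamLib.DegPRoot.key (algebraMap A B π) hπB p hp hdeg w hwgen u c b j hwp hq hc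
      (AdjoinSimple.gen M x) ?_ (gen_top x)).1
    rw [← himg]
    exact Subtype.ext hxeq
  refine ⟨K⟮x⟯, inferInstance, inferInstance, hKd, ?_, hT, isField_tensor x hxK p hKd hLd,
    isField_tensor x hxK p hKd hMd, ?_, ?_⟩
  · exact (isSeparable_adjoin_simple_iff_isSeparable K (AlgebraicClosure M)).2
      (hfsep.of_dvd (minpoly.dvd K x hx))
  · intro F _ _ _ _ _ _ hgen W hW
    exact (EtRamLib.Solution.main A B K L K⟮x⟯ F hw hgen W hW (Or.inr hT)).1
  · intro F _ _ _ _ _ _ hgen W hW
    letI : Algebra L F := ((algebraMap M F).comp (algebraMap L M)).toAlgebra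
    haveI : IsScalarTower L M F := IsScalarTower.of_algebraMap_eq fun _ ↦ rfl
    haveI : IsScalarTower K L F := IsScalarTower.of_algebraMap_eq fun k ↦ by
      rw [RingHom.algebraMap_toAlgebra, RingHom.comp_apply, ← IsScalarTower.algebraMap_apply K L M,
        ← IsScalarTower.algebraMap_apply K M F]
    have hWB : EtRam.Dominates B ((algebraMap L F).comp (algebraMap B L)) W := by
      rw [IsScalarTower.algebraMap_eq L M F, RingHom.comp_assoc, ← IsScalarTower.algebraMap_eq B L M,
        IsScalarTower.algebraMap_eq B C M, ← RingHom.comp_assoc]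
      exact ⟨fun b ↦ hW.1 _, fun b hb ↦ hW.2 _ (map_nonunit (algebraMap B C) b hb)⟩
    have heq : algebraMap K⟮x⟯ F g ^ p = algebraMap K F P - algebraMap K F P ^ (j + 1) * algebraMap K⟮x⟯ F g := by
      rw [← map_pow, hgeq, map_sub, map_mul, map_pow, ← IsScalarTower.algebraMap_apply]
    rw [himg (F := F)] at heq
    obtain ⟨hx1, hxm⟩ := (EtRamLib.DegPRoot.key (algebraMap A B π) hπB p hp hdeg w hwgen u c b j hwp hq hc
      (algebraMap K⟮x⟯ F g) heq (gen_of x hgen)).2 W hWB
    letI : Algebra (W.comap (algebraMap K⟮x⟯ F)) W := (EtRam.inclOfComap W (algebraMap K⟮x⟯ F)).toAlgebra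
    refine le_antisymm (Ideal.map_le_iff_le_comap.2 fun a ha ↦ ?_) fun y hy ↦ ?_
    · exact map_nonunit (EtRam.inclOfComap W (algebraMap K⟮x⟯ F)) a ha
    have hgW : g ∈ W.comap (algebraMap K⟮x⟯ F) := (W.valuation_le_one_iff _).1 hx1.le
    have hgm : (⟨g, hgW⟩ : W.comap (algebraMap K⟮x⟯ F)) ∈ IsLocalRing.maximalIdeal _ := fun hu ↦
      ((W.valuation_lt_one_iff _).2 hx1 :
        EtRam.inclOfComap W (algebraMap K⟮x⟯ F) ⟨g, hgW⟩ ∈ IsLocalRing.maximalIdeal W) (hu.map _)
    have hx0 : algebraMap K⟮x⟯ F g ≠ 0 := fun h0 ↦ by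
      rw [h0, zero_pow hp.ne_zero, mul_zero, sub_zero, eq_comm, ← himg, _root_.map_eq_zero] at heq
      exact hP0 heq
    have hle := hxm y ((W.valuation_lt_one_iff y).1 hy)
    have hdiv : (y : F) / algebraMap K⟮x⟯ F g ∈ W := by
      rw [← W.valuation_le_one_iff, map_div₀,
        div_le_one₀ (zero_lt_iff.2 ((Valuation.ne_zero_iff _).2 hx0))]
      exact hle
    have hy' : y = algebraMap (W.comap (algebraMap K⟮x⟯ F)) W ⟨g, hgW⟩ * ⟨_, hdiv⟩ :=
      Subtype.ext (mul_div_cancel₀ _ hx0).symm
    rw [hy']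
    exact Ideal.mul_mem_right _ _ (Ideal.mem_map_of_mem _ hgm)

open TensorProduct in
/-- Let A → B → C be injective local homomorphisms of discrete valuation rings whose fields of fractions
are K ⊆ L ⊆ M, and let π be a uniformizer of A; suppose B is a Nagata ring, A → B is weakly
unramified, and M/L is purely inseparable of prime degree p. Then one of the following holds: the
extension A → C is itself weakly unramified; or else C = B[π^(1/p)]; or else there is a separable
degree-p extension K₁/K, totally ramified with respect to A, for which L ⊗_K K₁ and M ⊗_K K₁ are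
fields and the integral closures A₁ → B₁ → C₁ are weakly unramified extensions, i.e. K₁ is a weak
solution for A ⊆ B and for A ⊆ C. -/
theorem result (p : ℕ) (hp : p.Prime) (A B C K L M : Type u)
    [CommRing A] [IsDomain A] [IsDiscreteValuationRing A] [CommRing B] [IsDomain B] [IsDiscreteValuationRing B]
    [CommRing C] [IsDomain C] [IsDiscreteValuationRing C]
    [Algebra A B] [Algebra B C] [Algebra A C] [IsScalarTower A B C]
    (hAB : Function.Injective (algebraMap A B)) (hBC : Function.Injective (algebraMap B C))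
    [IsLocalHom (algebraMap A B)] [IsLocalHom (algebraMap B C)]
    [Field K] [Field L] [Field M] [Algebra A K] [IsFractionRing A K] [Algebra B L] [IsFractionRing B L]
    [Algebra C M] [IsFractionRing C M] [Algebra K L] [Algebra L M] [Algebra K M] [IsScalarTower K L M]
    [Algebra A L] [IsScalarTower A K L] [IsScalarTower A B L] [Algebra B M] [IsScalarTower B L M] [IsScalarTower B C M]
    [Algebra A M] [IsScalarTower A K M] [IsScalarTower A C M]
    (π : A) (hπ : IsLocalRing.maximalIdeal A = Ideal.span {π}) (hB : CAlg.IsNagata B)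
    (hw : EtRam.IsWeaklyUnramified A B) [IsPurelyInseparable L M] (hdeg : Module.finrank L M = p) :
    EtRam.IsWeaklyUnramified A C ∨
      (∃ c : C, c ^ p = algebraMap A C π ∧ Algebra.adjoin B {c} = ⊤) ∨
      ∃ (K₁ : Type u) (_ : Field K₁) (_ : Algebra K K₁),
        Module.finrank K K₁ = p ∧ Algebra.IsSeparable K K₁ ∧
          EtRam.IsTotallyRamified A ((algebraMap K K₁).comp (algebraMap A K)) ∧
          IsField (L ⊗[K] K₁) ∧ IsField (M ⊗[K] K₁) ∧
          EtRam.IsWeakSolution B K L K₁ ∧ EtRam.IsWeakSolution C K M K₁ := by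
  obtain ⟨hcharL, hpow⟩ := insep_facts (L := L) (M := M) p hp hdeg
  haveI := hcharL
  haveI : FiniteDimensional L M := Module.finite_of_finrank_pos (hdeg ▸ hp.pos)
  have hπB : IsLocalRing.maximalIdeal B = Ideal.span {algebraMap A B π} := by
    rw [← hw, hπ, Ideal.map_span, Set.image_singleton]
  have hπBi : Irreducible (algebraMap A B π) := (IsDiscreteValuationRing.irreducible_iff_uniformizer _).2 hπB
  obtain ⟨w, hwi⟩ := IsDiscreteValuationRing.exists_irreducible C
  have hπC0 : algebraMap B C (algebraMap A B π) ≠ 0 := (map_ne_zero_iff _ hBC).2 hπBi.ne_zero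
  obtain ⟨e, v, hev⟩ := IsDiscreteValuationRing.eq_unit_mul_pow_irreducible hπC0 hwi
  have he0 : e ≠ 0 := fun h ↦ hπBi.not_isUnit (isUnit_of_map_unit (algebraMap B C) _ (by
    rw [hev, h, pow_zero, mul_one]; exact v.isUnit))
  rcases eq_or_ne e 1 with rfl | he1
  · left
    rw [EtRam.IsWeaklyUnramified, hπ, Ideal.map_span, Set.image_singleton, hwi.maximalIdeal_eq,
      IsScalarTower.algebraMap_apply A B C, hev, pow_one]
    exact Ideal.span_singleton_eq_span_singleton.2 (associated_unit_mul_left w _ v.isUnit)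
  right
  obtain ⟨W, hW⟩ := exists_dominates (K := M) (L := M) C
  have hWB : EtRam.Dominates B ((algebraMap L M).comp (algebraMap B L)) W := by
    rw [← IsScalarTower.algebraMap_eq B L M, IsScalarTower.algebraMap_eq B C M]
    exact ⟨fun b ↦ hW.1 _, fun b hb ↦ hW.2 _ (map_nonunit (algebraMap B C) b hb)⟩
  obtain ⟨l, hl⟩ := hpow (algebraMap C M w)
  obtain ⟨b₀, rfl⟩ := (val_mem_range B (algebraMap A B π) hπB hWB l).1 (by
    rw [hl, ← map_pow]; exact (W.valuation_le_one_iff _).2 (hW.1 _))
  have hbC : algebraMap B C b₀ = w ^ p := IsFractionRing.injective C M (by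
    rw [map_pow, ← hl, ← IsScalarTower.algebraMap_apply, ← IsScalarTower.algebraMap_apply])
  have hb0 : b₀ ≠ 0 := fun h ↦ pow_ne_zero p hwi.ne_zero (by rw [← hbC, h, map_zero])
  obtain ⟨k, u, hk⟩ := IsDiscreteValuationRing.eq_unit_mul_pow_irreducible hb0 hπBi
  have hpek : p = e * k := by
    have hass : Associated (w ^ p) (w ^ (e * k)) := by
      rw [← hbC, hk, map_mul, map_pow, hev, mul_pow, ← pow_mul, ← mul_assoc]
      exact associated_unit_mul_left _ _ ((u.isUnit.map _).mul (v.isUnit.pow k))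
    exact le_antisymm ((pow_dvd_pow_iff hwi.ne_zero hwi.not_isUnit).1 hass.dvd)
      ((pow_dvd_pow_iff hwi.ne_zero hwi.not_isUnit).1 hass.symm.dvd)
  have hk1 : k = 1 := by
    rcases hp.eq_one_or_self_of_dvd e ⟨k, hpek⟩ with h | h
    · exact absurd h he1
    · subst h
      exact (Nat.mul_eq_left hp.ne_zero).1 hpek.symm
  by_cases hpp : ∃ c : M, c ^ p = algebraMap L M (algebraMap B L (algebraMap A B π))
  · left
    obtain ⟨c, hc⟩ := hpp
    rw [← IsScalarTower.algebraMap_apply, IsScalarTower.algebraMap_apply B C M] at hc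
    obtain ⟨c', rfl⟩ := IsIntegrallyClosed.exists_algebraMap_eq_of_isIntegral_pow (R := C) hp.pos
      (hc ▸ isIntegral_algebraMap : IsIntegral C (c ^ p))
    have hc' : c' ^ p = algebraMap B C (algebraMap A B π) := IsFractionRing.injective C M (by rw [map_pow, hc])
    exact ⟨c', by rw [hc', ← IsScalarTower.algebraMap_apply],
      adjoin_eq_top (L := L) (M := M) _ hπB p hp hdeg c' hc'⟩
  right
  push Not at hpp
  have hwp : algebraMap C M w ^ p = algebraMap L M (algebraMap B L (algebraMap A B π * u)) := by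
    rw [← hl, hk, hk1, pow_one, mul_comm]
  have hwgen : L⟮algebraMap C M w⟯ = ⊤ := by
    haveI := isSimpleOrder_of_finrank_prime L M (hdeg.symm ▸ hp)
    refine (eq_bot_or_eq_top _).resolve_left fun h ↦ ?_
    obtain ⟨l', hl'⟩ := mem_bot.1 (h ▸ mem_adjoin_simple_self L (algebraMap C M w))
    obtain ⟨b', rfl⟩ := (val_mem_range B (algebraMap A B π) hπB hWB l').1 (by
      rw [hl']; exact (W.valuation_le_one_iff _).2 (hW.1 _))
    have hb' : algebraMap B C b' = w := IsFractionRing.injective C M (by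
      rw [← hl', ← IsScalarTower.algebraMap_apply, ← IsScalarTower.algebraMap_apply])
    have hbm : b' ∈ IsLocalRing.maximalIdeal B := fun hu ↦ hwi.not_isUnit (hb' ▸ hu.map _)
    rw [hπB, Ideal.mem_span_singleton] at hbm
    have hdvd : w ^ e ∣ w ^ 1 := by
      rw [pow_one]
      refine (dvd_mul_left _ (v : C)).trans ?_
      rw [← hev]
      conv_rhs => rw [← hb']
      exact map_dvd _ hbm
    have := (pow_dvd_pow_iff hwi.ne_zero hwi.not_isUnit).1 hdvd
    omega
  obtain ⟨b, j, c, hq, hc⟩ := EtRamLib.DegPApprox.exists_approx hB hπB p hp hdeg _ hwgen _ hwp hpp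
  exact exists_weakSolution π hπ hw hπB p hp hdeg _ hwgen _ c b j hwp hq hc

end Groth.Agent.S7156
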