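import Groth.Statements.S1412
import Mathlib.AlgebraicGeometry.Morphisms.WeaklyEtale
import Mathlib.RingTheory.RingHom.FaithfullyFlat
-- import your own Groth.Agent.* helpers here

set_option autoImplicit false
universe u
open FlatMor

namespace Groth.Agent.S1412

section
set_option backward.isDefEq.respectTransparency.types false
open AlgebraicGeometry CategoryTheory Limits

variable {X Y : Scheme.{u}}

theorem flat_fromSpecStalk (x : X) : Flat (X.fromSpecStalk x) := by
  obtain ⟨_, ⟨U, hU, rfl⟩, hxU, -⟩ :=
    X.isBasis_affineOpens.exists_subset_of_mem_open (Set.mem_univ x) isOpen_univ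
  rw [← hU.fromSpecStalk_eq_fromSpecStalk hxU]
  show Flat (Spec.map (X.presheaf.germ U x hxU) ≫ hU.fromSpec)
  letI : Algebra Γ(X, U) (X.presheaf.stalk x) := (X.presheaf.germ U x hxU).hom.toAlgebra
  haveI := hU.isLocalization_stalk ⟨x, hxU⟩
  have : Module.Flat Γ(X, U) (X.presheaf.stalk x) :=
    IsLocalization.flat _ (hU.primeIdealOf ⟨x, hxU⟩).asIdeal.primeCompl
  have : Flat (Spec.map (X.presheaf.germ U x hxU)) :=
    Flat.SpecMap_iff.mpr (RingHom.flat_algebraMap_iff.mpr this)
  infer_instance

theorem weaklyEtale_fromSpecStalk (x : X) : WeaklyEtale (X.fromSpecStalk x) where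
  flat := flat_fromSpecStalk x

theorem flat_stalkMap_of_flat_comp {Z : Scheme.{u}} (g : X ⟶ Z) (x : X)
    (h : Flat (X.fromSpecStalk x ≫ g)) : (g.stalkMap x).hom.Flat := by
  have key : ∀ y : Spec (X.presheaf.stalk x), y = IsLocalRing.closedPoint (X.presheaf.stalk x) →
      (g.stalkMap (X.fromSpecStalk x y)).hom.Flat := by
    intro y _
    have h1 := (Flat.iff_flat_stalkMap (X.fromSpecStalk x ≫ g)).mp h y
    rw [Scheme.Hom.stalkMap_comp] at h1
    have hbij : Function.Bijective ((X.fromSpecStalk x).stalkMap y).hom := by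
      refine ⟨?_, (X.fromSpecStalk x).stalkMap_surjective y⟩
      letI := ((X.fromSpecStalk x).stalkMap y).hom.toAlgebra
      have : Module.Flat _ _ := (Flat.iff_flat_stalkMap _).mp (flat_fromSpecStalk x) y
      have : IsLocalHom (algebraMap (X.presheaf.stalk (X.fromSpecStalk x y)) ((Spec (X.presheaf.stalk x)).presheaf.stalk y)) :=
        inferInstanceAs (IsLocalHom ((X.fromSpecStalk x).stalkMap y).hom)
      exact RingHom.FaithfullyFlat.injective (f := algebraMap _ _)
        ((RingHom.faithfullyFlat_algebraMap_iff).mpr Module.FaithfullyFlat.of_flat_of_isLocalHom)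
    exact (RingHom.Flat.comp_iff_of_bijective_left hbij).mp h1
  have := key _ rfl
  rwa [Scheme.fromSpecStalk_closedPoint] at this

theorem weaklyEtale_specMap_iff {A B : CommRingCat.{u}} (φ : A ⟶ B) :
    WeaklyEtale (Spec.map φ) ↔ φ.hom.Flat ∧
      (letI := φ.hom.toAlgebra
       (Algebra.TensorProduct.lmul' (S := B) A).toRingHom.Flat) := by
  letI := φ.hom.toAlgebra
  rw [weaklyEtale_iff, Flat.SpecMap_iff]
  refine and_congr_right fun _ => ?_
  rw [show φ = CommRingCat.ofHom (algebraMap A B) from rfl, diagonal_SpecMap]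
  show Flat _ ↔ _
  rw [MorphismProperty.cancel_right_of_respectsIso (P := @Flat), Flat.SpecMap_iff]
  rfl

theorem main (f : X ⟶ Y) :
    WeaklyEtale f ↔ ∀ x : X, WeaklyEtale (Spec.map (f.stalkMap x)) := by
  refine ⟨fun _ x => ?_, fun h => ?_⟩
  · have := weaklyEtale_fromSpecStalk x
    have := weaklyEtale_fromSpecStalk (f x)
    have : WeaklyEtale (Spec.map (f.stalkMap x) ≫ Y.fromSpecStalk (f x)) := by
      rw [Scheme.SpecMap_stalkMap_fromSpecStalk]; infer_instance
    exact WeaklyEtale.of_comp _ (Y.fromSpecStalk (f x))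
  · have hflat : Flat f := (Flat.iff_flat_stalkMap f).mpr fun x => Flat.SpecMap_iff.mp (h x).flat
    refine ⟨hflat, (Flat.iff_flat_stalkMap _).mpr fun x => flat_stalkMap_of_flat_comp _ x ?_⟩
    let j := X.fromSpecStalk x
    have := h x
    have := weaklyEtale_fromSpecStalk (f x)
    have hc : WeaklyEtale (j ≫ f) := by
      rw [← Scheme.SpecMap_stalkMap_fromSpecStalk]; infer_instance
    have : Flat (pullback.diagonal (j ≫ f)) := hc.flat_diagonal
    have : Flat (pullback.map (j ≫ f) (j ≫ f) f f j j (𝟙 _) (by simp) (by simp)) :=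
      MorphismProperty.pullbackMap (P := @Flat) (flat_fromSpecStalk x) (flat_fromSpecStalk x) rfl rfl
    have e : j ≫ pullback.diagonal f =
        pullback.diagonal (j ≫ f) ≫ pullback.map (j ≫ f) (j ≫ f) f f j j (𝟙 _) (by simp) (by simp) := by
      apply pullback.hom_ext <;>
        simp only [pullback.map, Category.assoc, pullback.lift_fst, pullback.lift_snd, pullback.diagonal_fst, pullback.diagonal_snd, pullback.diagonal_fst_assoc, pullback.diagonal_snd_assoc, Category.comp_id, Category.id_comp, j]
    rw [e]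
    infer_instance

end

open AlgebraicGeometry CategoryTheory Limits in
/-- A morphism of schemes f : X → Y is weakly étale (flat with flat diagonal) if and only if for every
point x of X the local ring map O_{Y, f(x)} → O_{X, x} is weakly étale, that is, flat and with flat
multiplication map O_{X,x} ⊗_{O_{Y, f(x)}} O_{X,x} → O_{X,x}. -/
theorem result {X Y : Scheme.{u}} (f : X ⟶ Y) :
    WeaklyEtale f ↔ ∀ x : X, (f.stalkMap x).hom.Flat ∧
      (letI := (f.stalkMap x).hom.toAlgebra
       (Algebra.TensorProduct.lmul' (S := ↑(X.presheaf.stalk x)) (↑(Y.presheaf.stalk (f x)))).toRingHom.Flat) := by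
  exact (main f).trans (forall_congr' fun x => weaklyEtale_specMap_iff (f.stalkMap x))

end Groth.Agent.S1412
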