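import Groth.Statements.S16765
import Groth.Agent.Omega.UnramBC

set_option autoImplicit false
universe u
open Unram17

namespace Groth.Agent.S16765

open AlgebraicGeometry CategoryTheory CategoryTheory.Limits in
/-- Let g : Y → S and h : X → S be locally of finite presentation, f : X → Y an S-morphism (f ≫ g = h;
in particular f is locally of finite presentation, so unramified amounts to formally unramified),
and x a point of X with image s = h(x). Then f is unramified at x (formally unramified on an open
neighbourhood of x) if and only if the induced morphism of fibres X_s → Y_s is unramified at the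
point of X_s lying over x. No flatness is needed. -/
theorem result {X Y S : Scheme.{u}} (g : Y ⟶ S) (h : X ⟶ S)
    [LocallyOfFinitePresentation g] [LocallyOfFinitePresentation h] (f : X ⟶ Y) (w : f ≫ g = h)
    (x : ↥X)
    (x' : ↥(h.fiber (h x))) (hx' : (h.fiberι (h x)) x' = x) :
    (∃ U : X.Opens, x ∈ U ∧ FormallyUnramified (U.ι ≫ f)) ↔
      ∃ V : (h.fiber (h x)).Opens, x' ∈ V ∧ FormallyUnramified (V.ι ≫ CohIII.fiberMapOver f h g w (h x)) := by
  subst w
  have : LocallyOfFiniteType f := locallyOfFiniteType_of_comp f g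
  let F := CohIII.fiberMapOver f (f ≫ g) g rfl ((f ≫ g) x)
  have e₁ : F ≫ g.fiberι ((f ≫ g) x) = (f ≫ g).fiberι ((f ≫ g) x) ≫ f := pullback.lift_fst _ _ _
  have e₂ : F ≫ pullback.snd g _ = pullback.snd (f ≫ g) _ :=
    (pullback.lift_snd _ _ _).trans (Category.comp_id _)
  have sq : IsPullback ((f ≫ g).fiberι ((f ≫ g) x)) F f (g.fiberι ((f ≫ g) x)) := by
    refine IsPullback.of_bot ?_ e₁.symm (IsPullback.of_hasPullback g (S.fromSpecResidueField ((f ≫ g) x)))
    rw [e₂]
    exact IsPullback.of_hasPullback (f ≫ g) (S.fromSpecResidueField ((f ≫ g) x))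
  constructor
  · rintro ⟨U, hx, hU⟩
    exact Groth.Agent.Omega.UnramBC.exists_nhd_baseChange f sq x' U (by rw [hx']; exact hx) hU
  · rintro ⟨V, hx, hV⟩
    refine Groth.Agent.Omega.UnramBC.exists_nhd_of_isPullback f sq x
      (Groth.Agent.Omega.UnramBC.toFiber g (f x) _ (Scheme.Hom.comp_apply f g x).symm)
      (Groth.Agent.Omega.UnramBC.toFiber_fiberι g (f x) _ _) V (fun z hz => ?_) hV
    rwa [((f ≫ g).fiberι _).isEmbedding.injective (hz.trans hx'.symm)]

end Groth.Agent.S16765
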