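import Groth.Statements.S14676
import Mathlib
-- import your own Groth.Agent.* helpers here

set_option autoImplicit false
universe u
open CAlg

namespace Groth.Agent.S14676

open Polynomial Function in
open scoped Ring in
/-- Hensel's lemma by Newton iteration, no monicity assumption (proof as for `IsAdicComplete.henselianRing`). -/
theorem exists_root (R : Type u) [CommRing R] (I : Ideal R) [IsAdicComplete I R] (f : R[X]) (a₀ : R)
    (h₁ : f.eval a₀ ∈ I) (h₂ : IsUnit (Ideal.Quotient.mk I (f.derivative.eval a₀))) :
    ∃ a : R, f.IsRoot a ∧ a - a₀ ∈ I := by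
    classical
      let f' := derivative f
      -- we define a sequence `c n` by starting at `a₀` and then continually
      -- applying the function sending `b` to `b - f(b)/f'(b)` (Newton's method).
      -- Note that `f'.eval b` is a unit, because `b` has the same residue as `a₀` modulo `I`.
      let c : ℕ → R := fun n => Nat.recOn n a₀ fun _ b => b - f.eval b * (f'.eval b)⁻¹ʳ
      have hc : ∀ n, c (n + 1) = c n - f.eval (c n) * (f'.eval (c n))⁻¹ʳ := by
        intro n
        simp only [c]
      -- we now spend some time determining properties of the sequence `c : ℕ → R`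
      -- `hc_mod`: for every `n`, we have `c n ≡ a₀ [SMOD I]`
      -- `hf'c`  : for every `n`, `f'.eval (c n)` is a unit
      -- `hfcI`  : for every `n`, `f.eval (c n)` is contained in `I ^ (n+1)`
      have hc_mod : ∀ n, c n ≡ a₀ [SMOD I] := by
        intro n
        induction n with
        | zero => rfl
        | succ n ih => ?_
        rw [hc, sub_eq_add_neg, ← add_zero a₀]
        refine ih.add ?_
        rw [SModEq.zero, Ideal.neg_mem_iff]
        refine I.mul_mem_right _ ?_
        rw [← SModEq.zero] at h₁ ⊢
        exact (ih.eval f).trans h₁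
      have hf'c : ∀ n, IsUnit (f'.eval (c n)) := by
        intro n
        have := isLocalHom_of_le_jacobson_bot I (IsAdicComplete.le_jacobson_bot I)
        apply IsUnit.of_map (Ideal.Quotient.mk I)
        convert! h₂ using 1
        exact SModEq.def.mp ((hc_mod n).eval _)
      have hfcI : ∀ n, f.eval (c n) ∈ I ^ (n + 1) := by
        intro n
        induction n with
        | zero => simpa only [Nat.rec_zero, zero_add, pow_one] using! h₁
        | succ n ih => ?_
        rw [← taylor_eval_sub (c n), hc, sub_eq_add_neg, sub_eq_add_neg,
          add_neg_cancel_comm]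
        rw [eval_eq_sum, sum_over_range' _ _ _ (lt_add_of_pos_right _ zero_lt_two), ←
          Finset.sum_range_add_sum_Ico _ (Nat.le_add_left _ _)]
        swap
        · intro i
          rw [zero_mul]
        refine Ideal.add_mem _ ?_ ?_
        · rw [← one_add_one_eq_two, Finset.sum_range_succ, Finset.range_one, Finset.sum_singleton,
            taylor_coeff_zero, taylor_coeff_one, pow_zero, pow_one, mul_one, mul_neg,
            mul_left_comm, Ring.mul_inverse_cancel _ (hf'c n), mul_one, add_neg_cancel]
          exact Ideal.zero_mem _
        · refine Submodule.sum_mem _ ?_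
          simp only [Finset.mem_Ico]
          rintro i ⟨h2i, _⟩
          have aux : n + 2 ≤ i * (n + 1) := by trans 2 * (n + 1) <;> nlinarith only [h2i]
          refine Ideal.mul_mem_left _ _ (Ideal.pow_le_pow_right aux ?_)
          rw [pow_mul']
          exact Ideal.pow_mem_pow ((Ideal.neg_mem_iff _).2 <| Ideal.mul_mem_right _ _ ih) _
      -- we are now in the position to show that `c : ℕ → R` is a Cauchy sequence
      have aux : ∀ m n, m ≤ n → c m ≡ c n [SMOD (I ^ m • ⊤ : Ideal R)] := by
        intro m n hmn
        rw [← Ideal.one_eq_top, Ideal.smul_eq_mul, mul_one]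
        obtain ⟨k, rfl⟩ := Nat.exists_eq_add_of_le hmn
        clear hmn
        induction k with
        | zero => rw [add_zero]
        | succ k ih => ?_
        rw [← add_assoc, hc, ← add_zero (c m), sub_eq_add_neg]
        refine ih.add ?_
        symm
        rw [SModEq.zero, Ideal.neg_mem_iff]
        refine Ideal.mul_mem_right _ _ (Ideal.pow_le_pow_right ?_ (hfcI _))
        rw [add_assoc]
        exact le_self_add
      -- hence the sequence converges to some limit point `a`, which is the `a` we are looking for
      obtain ⟨a, ha⟩ := IsPrecomplete.prec' c (aux _ _)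
      refine ⟨a, ?_, ?_⟩
      · show f.IsRoot a
        suffices ∀ n, f.eval a ≡ 0 [SMOD (I ^ n • ⊤ : Ideal R)] by exact IsHausdorff.haus' _ this
        intro n
        specialize ha n
        rw [← Ideal.one_eq_top, Ideal.smul_eq_mul, mul_one] at ha ⊢
        refine (ha.symm.eval f).trans ?_
        rw [SModEq.zero]
        exact Ideal.pow_le_pow_right le_self_add (hfcI _)
      · show a - a₀ ∈ I
        specialize ha (0 + 1)
        rw [hc, pow_one, ← Ideal.one_eq_top, Ideal.smul_eq_mul, mul_one, sub_eq_add_neg] at ha
        rw [← SModEq.sub_mem, ← add_zero a₀]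
        refine ha.symm.trans (SModEq.rfl.add ?_)
        rw [SModEq.zero, Ideal.neg_mem_iff]
        exact Ideal.mul_mem_right _ _ h₁



/-- Let A be a commutative ring which is separated and complete for the I-adic topology of an ideal I,
let P be any polynomial over A (not assumed monic) and a₀ an element of A such that P(a₀) lies in I
and P'(a₀) is a unit modulo I. Then there is a unique a in A congruent to a₀ modulo I with P(a) = 0. -/
theorem result (A : Type u) [CommRing A] (I : Ideal A) [IsAdicComplete I A]
    (P : Polynomial A) (a₀ : A) (h₀ : P.eval a₀ ∈ I)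
    (h₁ : IsUnit (Ideal.Quotient.mk I (P.derivative.eval a₀))) :
    ∃! a : A, a - a₀ ∈ I ∧ P.IsRoot a := by
  have hloc := isLocalHom_of_le_jacobson_bot I (IsAdicComplete.le_jacobson_bot I)
  obtain ⟨a, ha, ha'⟩ := exists_root A I P a₀ h₀ h₁
  refine ⟨a, ⟨ha', ha⟩, fun b hb => ?_⟩
  obtain ⟨k, hk⟩ := Polynomial.binomExpansion P a (b - a)
  have he : P.derivative.eval a * (b - a) + k * (b - a) ^ 2 = 0 := by
    have h := hk
    rw [add_sub_cancel, hb.2, show P.eval a = 0 from ha, zero_add] at h
    exact h.symm
  have hba : b - a ∈ I := by simpa using I.sub_mem hb.1 ha'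
  have hu : IsUnit (P.derivative.eval a + k * (b - a)) := by
    apply IsUnit.of_map (Ideal.Quotient.mk I)
    rw [map_add, Ideal.Quotient.eq_zero_iff_mem.mpr (I.mul_mem_left k hba), add_zero]
    have : Ideal.Quotient.mk I a = Ideal.Quotient.mk I a₀ := Ideal.Quotient.eq.mpr ha'
    have h2 : ∀ x, Ideal.Quotient.mk I (P.derivative.eval x) =
        (P.derivative.map (Ideal.Quotient.mk I)).eval (Ideal.Quotient.mk I x) := fun x => by
      rw [Polynomial.eval_map, Polynomial.eval₂_at_apply]
    rwa [h2, this, ← h2]
  have : (P.derivative.eval a + k * (b - a)) * (b - a) = 0 := by rw [← he]; ring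
  exact sub_eq_zero.mp (hu.mul_right_eq_zero.mp this)

end Groth.Agent.S14676
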