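import Groth.Statements.S2912
import Groth.Agent.SGA1Desc.Glue
import Groth.Agent.SGA1Desc.Affine
-- import your own Groth.Agent.* helpers here

set_option autoImplicit false
open CategoryTheory CategoryTheory.Limits AlgebraicGeometry Opposite
universe u
open SGA1

namespace Groth.Agent.S2912

/-- Let g : S' ⟶ S be flat, surjective, quasi-compact and universally injective. Then every descent
datum relative to g (on an arbitrary S'-scheme) is isomorphic to the canonical descent datum of some
S-scheme. (Descent data relative to g are taken in functor-of-points form.) -/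
theorem result {S' S : Scheme.{u}} (g : S' ⟶ S) [Flat g] [Surjective g] [QuasiCompact g]
    [UniversallyInjective g] (D : Desc.SchDD g) : ∃ U : Over S, Nonempty ((Desc.toDD g).obj U ≅ D) := by
  refine Groth.Agent.SGA1Desc.effective_of_pieces D fun z => ?_
  let x : S' := D.obj.hom.base z
  have hinj : Function.Injective g.base := g.injective
  have hqm := Flat.isQuotientMap_of_surjective g
  obtain ⟨U₁, hU₁, hxU₁, -⟩ := exists_isAffineOpen_mem_and_subset (x := g.base x) (U := ⊤) trivial
  obtain ⟨W, hW, hxW, hWU⟩ := exists_isAffineOpen_mem_and_subset (x := x) (U := g ⁻¹ᵁ U₁) hxU₁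
  let V : S.Opens := ⟨g.base '' W.1, by
    rw [← hqm.isOpen_preimage, hinj.preimage_image]
    exact W.isOpen⟩
  obtain ⟨f, hfV, hxf⟩ := hU₁.exists_basicOpen_le (V := V) ⟨g.base x, ⟨x, hxW, rfl⟩⟩ hxU₁
  have hpre : g ⁻¹ᵁ S.basicOpen f ≤ W := fun y hy => by
    obtain ⟨w, hw, hwy⟩ := hfV hy
    exact hinj hwy ▸ hw
  have hX : IsAffineOpen (g ⁻¹ᵁ S.basicOpen f) := by
    have e : g ⁻¹ᵁ S.basicOpen f =
        S'.basicOpen ((S'.presheaf.map (homOfLE hWU).op) (g.app U₁ f)) := by
      rw [Scheme.basicOpen_res, ← Scheme.preimage_basicOpen]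
      exact (inf_eq_right.2 hpre).symm
    rw [e]
    exact hW.basicOpen _
  obtain ⟨W₀, hW₀, hzW₀, hle⟩ := exists_isAffineOpen_mem_and_subset (x := z)
    (U := D.obj.hom ⁻¹ᵁ (g ⁻¹ᵁ S.basicOpen f)) hxf
  exact ⟨W₀, hzW₀, Groth.Agent.SGA1Desc.exists_piece_of_affine D (hU₁.basicOpen f) hX hW₀
    (Groth.Agent.SGA1Desc.stable_of_universallyInjective _) hle⟩

end Groth.Agent.S2912
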