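import Groth.Statements.S5115
import Groth.Agent.EtaleSite.TopInv
import Groth.Agent.S2912
import Groth.Agent.SGA1Desc.Etale
import Mathlib.AlgebraicGeometry.Morphisms.LocalFlatDescent

set_option autoImplicit false
universe u
open EtBase

namespace Groth.Agent.S5115

section
open CategoryTheory CategoryTheory.Limits AlgebraicGeometry
open Groth.Agent.EtaleSite (hom_ext_of_surjective bijective_pullback_map)

set_option backward.isDefEq.respectTransparency false
set_option backward.isDefEq.respectTransparency.types false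

/-- Points of an étale scheme extend along integral universally injective surjections. -/
theorem exists_lift {E T U S' : Scheme.{u}} (ι : E ⟶ T) [IsIntegralHom ι] [UniversallyInjective ι]
    [Surjective ι] (u : U ⟶ S') [Etale u] (x : T ⟶ S') (e : E ⟶ U) (he : e ≫ u = ι ≫ x) :
    ∃ w : T ⟶ U, w ≫ u = x ∧ ι ≫ w = e := by
  let Z : Over T := Over.mk (pullback.fst x u)
  haveI : Etale Z.hom := MorphismProperty.pullback_fst x u ‹_›
  let Y : Over T := Over.mk (𝟙 T)
  let zl : pullback (𝟙 T) ι ⟶ pullback x u :=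
    pullback.snd (𝟙 T) ι ≫ pullback.lift ι e he.symm
  let ψ : (Over.pullback ι).obj Y ⟶ (Over.pullback ι).obj Z :=
    Over.homMk (pullback.lift zl (pullback.snd (𝟙 T) ι) (by simp [zl, Z]))
      (pullback.lift_snd _ _ _)
  obtain ⟨φ, hφ⟩ := (bijective_pullback_map ι Z Y).2 ψ
  refine ⟨φ.left ≫ pullback.snd x u, ?_, ?_⟩
  · rw [Category.assoc, ← pullback.condition, ← Category.assoc]
    exact (congrArg (· ≫ x) (Over.w φ)).trans (Category.id_comp x)
  let j : E ⟶ pullback (𝟙 T) ι := pullback.lift ι (𝟙 E) (by simp)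
  have h : j ≫ ((Over.pullback ι).map φ).left ≫ pullback.fst Z.hom ι = j ≫ zl :=
    (congrArg (fun k => j ≫ k.left ≫ pullback.fst Z.hom ι) hφ).trans
      (congrArg (j ≫ ·) (pullback.lift_fst zl _ _))
  have h1 : ((Over.pullback ι).map φ).left ≫ pullback.fst Z.hom ι = pullback.fst (𝟙 T) ι ≫ φ.left :=
    pullback.lift_fst _ _ _
  rw [h1, ← Category.assoc, pullback.lift_fst] at h
  have h2 : j ≫ zl = pullback.lift ι e he.symm := by
    rw [← Category.assoc]
    exact (congrArg (· ≫ pullback.lift ι e he.symm) (pullback.lift_snd _ _ _)).trans (Category.id_comp _)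
  rw [← Category.assoc, h, h2, pullback.lift_snd]

variable {S S' : Scheme.{u}} (g : S' ⟶ S) [UniversallyInjective g]

theorem isClosedImmersion_diagonal : IsClosedImmersion (pullback.diagonal g) := by
  haveI : Surjective (pullback.diagonal g) :=
    (UniversallyInjective.iff_diagonal g).1 inferInstance
  exact IsClosedImmersion.of_isPreimmersion _ (by
    rw [(pullback.diagonal g).surjective.range_eq]
    exact isClosed_univ)

/-- The locus where two points over the same point of the base agree. -/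
theorem exists_eqLocus {T : Scheme.{u}} (x₀ x₁ : T ⟶ S') (h : x₀ ≫ g = x₁ ≫ g) :
    ∃ (E : Scheme.{u}) (ι : E ⟶ T), IsIntegralHom ι ∧ UniversallyInjective ι ∧ Surjective ι ∧
      ι ≫ x₀ = ι ≫ x₁ := by
  haveI := isClosedImmersion_diagonal g
  haveI : Surjective (pullback.diagonal g) :=
    (UniversallyInjective.iff_diagonal g).1 inferInstance
  let l := pullback.lift x₀ x₁ h
  haveI : IsClosedImmersion (pullback.snd (pullback.diagonal g) l) :=
    MorphismProperty.pullback_snd _ _ inferInstance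
  haveI : Surjective (pullback.snd (pullback.diagonal g) l) :=
    MorphismProperty.pullback_snd _ _ inferInstance
  refine ⟨_, pullback.snd (pullback.diagonal g) l, inferInstance, inferInstance, inferInstance, ?_⟩
  have hc := pullback.condition (f := pullback.diagonal g) (g := l)
  have h0 := congrArg (· ≫ pullback.fst g g) hc
  have h1 := congrArg (· ≫ pullback.snd g g) hc
  simp only [Category.assoc, pullback.diagonal_fst, pullback.diagonal_snd, Category.comp_id, l,
    pullback.lift_fst, pullback.lift_snd] at h0 h1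
  exact h0.symm.trans h1

/-- Transport of points between two lifts of a point of the base. -/
theorem existsUnique_transport (U : Over S') [Etale U.hom] {T : Scheme.{u}} (x₀ x₁ : T ⟶ S')
    (h : x₀ ≫ g = x₁ ≫ g) (v : Desc.Lifts U x₀) :
    ∃ w : Desc.Lifts U x₁, ∀ ⦃E : Scheme.{u}⦄ (k : E ⟶ T), k ≫ x₀ = k ≫ x₁ → k ≫ w.1 = k ≫ v.1 := by
  obtain ⟨E, ι, _, _, _, hι⟩ := exists_eqLocus g x₀ x₁ h
  obtain ⟨w, hw, hw'⟩ := exists_lift ι U.hom x₁ (ι ≫ v.1) (by rw [Category.assoc, v.2, hι])
  refine ⟨⟨w, hw⟩, fun E' k hk => ?_⟩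
  haveI : Surjective (pullback.snd ι k) := MorphismProperty.pullback_snd _ _ inferInstance
  refine hom_ext_of_surjective U.hom _ _ ?_ (pullback.snd ι k) ?_
  · rw [Category.assoc, Category.assoc, hw, v.2, hk]
  · rw [← Category.assoc, ← Category.assoc, ← pullback.condition, Category.assoc, Category.assoc, hw']

/-- The chosen transport. -/
noncomputable def tr (U : Over S') [Etale U.hom] {T : Scheme.{u}} (x₀ x₁ : T ⟶ S')
    (h : x₀ ≫ g = x₁ ≫ g) (v : Desc.Lifts U x₀) : Desc.Lifts U x₁ :=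
  (existsUnique_transport g U x₀ x₁ h v).choose

theorem tr_spec (U : Over S') [Etale U.hom] {T : Scheme.{u}} (x₀ x₁ : T ⟶ S') (h : x₀ ≫ g = x₁ ≫ g)
    (v : Desc.Lifts U x₀) {E : Scheme.{u}} (k : E ⟶ T) (hk : k ≫ x₀ = k ≫ x₁) :
    k ≫ (tr g U x₀ x₁ h v).1 = k ≫ v.1 :=
  (existsUnique_transport g U x₀ x₁ h v).choose_spec k hk

theorem tr_comp (U : Over S') [Etale U.hom] {T : Scheme.{u}} (x₀ x₁ x₂ : T ⟶ S')
    (h₀₁ : x₀ ≫ g = x₁ ≫ g) (h₁₂ : x₁ ≫ g = x₂ ≫ g) (v : Desc.Lifts U x₀) :
    tr g U x₁ x₂ h₁₂ (tr g U x₀ x₁ h₀₁ v) = tr g U x₀ x₂ (h₀₁.trans h₁₂) v := by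
  obtain ⟨E, ι, _, _, _, hι⟩ := exists_eqLocus g x₀ x₁ h₀₁
  obtain ⟨E', ι', _, _, _, hι'⟩ := exists_eqLocus g (ι ≫ x₁) (ι ≫ x₂) (by simp [h₁₂])
  have h01 : (ι' ≫ ι) ≫ x₀ = (ι' ≫ ι) ≫ x₁ := by simp [hι]
  have h12 : (ι' ≫ ι) ≫ x₁ = (ι' ≫ ι) ≫ x₂ := by simpa using hι'
  refine Subtype.ext (hom_ext_of_surjective U.hom _ _ ?_ (ι' ≫ ι) ?_)
  · rw [(tr g U x₁ x₂ h₁₂ _).2, (tr g U x₀ x₂ _ v).2]
  · rw [tr_spec g U x₁ x₂ h₁₂ _ _ h12, tr_spec g U x₀ x₁ h₀₁ _ _ h01,
      tr_spec g U x₀ x₂ _ _ _ (h01.trans h12)]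

theorem tr_self (U : Over S') [Etale U.hom] {T : Scheme.{u}} (x : T ⟶ S') (v : Desc.Lifts U x) :
    tr g U x x rfl v = v :=
  Subtype.ext (by simpa using tr_spec g U x x rfl v (𝟙 T) rfl)

/-- The descent datum of an étale scheme. -/
noncomputable def datum (U : Over S') [Etale U.hom] : Desc.SchDD g where
  obj := U
  φ := fun T x₀ x₁ h =>
    { toFun := tr g U x₀ x₁ h
      invFun := tr g U x₁ x₀ h.symm
      left_inv := fun v => (tr_comp g U x₀ x₁ x₀ h h.symm v).trans (tr_self g U x₀ v)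
      right_inv := fun v => (tr_comp g U x₁ x₀ x₁ h.symm h v).trans (tr_self g U x₁ v) }
  φ_natural := fun T T' q x₀ x₁ h h' v v' hv => by
    show (tr g U (q ≫ x₀) (q ≫ x₁) h' v').1 = q ≫ (tr g U x₀ x₁ h v).1
    obtain ⟨E, ι, _, _, _, hι⟩ := exists_eqLocus g (q ≫ x₀) (q ≫ x₁) h'
    refine hom_ext_of_surjective U.hom _ _ ?_ ι ?_
    · rw [(tr g U (q ≫ x₀) (q ≫ x₁) h' v').2, Category.assoc, (tr g U x₀ x₁ h v).2]
    · rw [tr_spec g U _ _ h' v' ι hι, hv, ← Category.assoc ι q (tr g U x₀ x₁ h v).1,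
        tr_spec g U x₀ x₁ h v (ι ≫ q) (by simpa using hι), Category.assoc]
  φ_self := fun T x v => tr_self g U x v
  φ_comp := fun T x₀ x₁ x₂ h₀₁ h₁₂ v => tr_comp g U x₀ x₁ x₂ h₀₁ h₁₂ v

variable [Flat g] [Surjective g] [QuasiCompact g]

theorem univSubmersive : SGA1.UnivSubmersive g := by
  intro A B a b q hq
  haveI : Flat q := MorphismProperty.of_isPullback hq.flip ‹Flat g›
  haveI : Surjective q := MorphismProperty.of_isPullback hq.flip ‹Surjective g›
  haveI : QuasiCompact q := MorphismProperty.of_isPullback hq.flip ‹QuasiCompact g›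
  exact Flat.isQuotientMap_of_surjective q

theorem bijective_map (V W : S.Etale) :
    Function.Bijective (fun φ : V ⟶ W => (EtCoh.bc g).map φ) := by
  haveI : Etale W.hom := W.prop
  let π : pullback V.hom g ⟶ V.left := pullback.fst V.hom g
  haveI : Surjective π := MorphismProperty.pullback_fst _ _ ‹_›
  haveI : UniversallyInjective π := MorphismProperty.pullback_fst _ _ ‹_›
  haveI : Flat π := MorphismProperty.pullback_fst _ _ ‹_›
  haveI : QuasiCompact π := MorphismProperty.pullback_fst _ _ ‹_›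
  have e : ∀ φ : V ⟶ W, ((EtCoh.bc g).map φ).left ≫ pullback.fst W.hom g = π ≫ φ.left :=
    fun φ => pullback.lift_fst _ _ _
  refine ⟨fun a b h => ?_, fun ψ => ?_⟩
  · refine MorphismProperty.Over.Hom.ext (hom_ext_of_surjective W.hom a.left b.left
      ((MorphismProperty.Over.w a).trans (MorphismProperty.Over.w b).symm) π ?_)
    rw [← e, ← e]
    exact congrArg (fun k => k.left ≫ pullback.fst W.hom g) h
  · let ψl : pullback V.hom g ⟶ pullback W.hom g := ψ.left
    have hψ : ψl ≫ pullback.snd W.hom g = pullback.snd V.hom g := MorphismProperty.Over.w ψ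
    let m : pullback V.hom g ⟶ W.left := ψl ≫ pullback.fst W.hom g
    have hm : m ≫ W.hom = π ≫ V.hom := by
      simp only [m, π, Category.assoc, pullback.condition]
      rw [reassoc_of% hψ]
    haveI : Surjective (pullback.diagonal π) := (UniversallyInjective.iff_diagonal π).1 inferInstance
    have hcoc : pullback.fst π π ≫ m = pullback.snd π π ≫ m := by
      refine hom_ext_of_surjective W.hom _ _ ?_ (pullback.diagonal π) (by simp)
      rw [Category.assoc (pullback.fst π π) m, Category.assoc (pullback.snd π π) m, hm, pullback.condition_assoc]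
    obtain ⟨φ, hφ₁, hφ₂⟩ := Groth.Agent.SGA1Desc.exists_desc_etale V.hom W.hom π (univSubmersive π) m hm hcoc
    refine ⟨MorphismProperty.Over.homMk φ hφ₁ trivial, MorphismProperty.Over.Hom.ext ?_⟩
    refine pullback.hom_ext (f := W.hom) (g := g) ?_ ?_
    · exact (e _).trans hφ₂
    · exact (pullback.lift_snd _ _ _).trans hψ.symm

theorem essSurj (U : S'.Etale) : ∃ V : S.Etale, Nonempty ((EtCoh.bc g).obj V ≅ U) := by
  let Uo : Over S' := Over.mk U.hom
  haveI : Etale Uo.hom := U.prop
  obtain ⟨V, ⟨i⟩⟩ := Groth.Agent.S2912.result g (datum g Uo)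
  let i' : Over.mk (pullback.fst g V.hom) ≅ Uo :=
    { hom := i.hom.hom
      inv := i.inv.hom
      hom_inv_id := congrArg Desc.SchDD.Hom.hom i.hom_inv_id
      inv_hom_id := congrArg Desc.SchDD.Hom.hom i.inv_hom_id }
  have hV : Etale V.hom := by
    refine MorphismProperty.of_pullback_fst_of_descendsAlong (P := @Etale)
      (Q := @Surjective ⊓ @Flat ⊓ @QuasiCompact) (f := g) (g := V.hom) ⟨⟨inferInstance, inferInstance⟩, inferInstance⟩ ?_
    have h : i'.hom.left ≫ U.hom = pullback.fst g V.hom := Over.w i'.hom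
    haveI : IsIso i'.hom.left := ((Over.forget S').mapIso i').isIso_hom
    rw [← h]
    haveI : Etale U.hom := U.prop
    infer_instance
  haveI := hV
  refine ⟨Scheme.Etale.mk V.hom, ⟨MorphismProperty.Over.isoMk
    (pullbackSymmetry V.hom g ≪≫ (Over.forget S').mapIso i') ?_⟩⟩
  show ((pullbackSymmetry V.hom g).hom ≫ i'.hom.left) ≫ U.hom = pullback.snd V.hom g
  rw [Category.assoc]
  exact (congrArg (_ ≫ ·) (Over.w i'.hom)).trans (pullbackSymmetry_hom_comp_fst _ _)

end

open AlgebraicGeometry CategoryTheory CategoryTheory.Limits in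
/-- Let g : S' ⟶ S be faithfully flat (flat and surjective), quasi-compact and radicial (universally
injective). Then base change along g is an equivalence from the category of schemes etale over S to
the category of schemes etale over S'. -/
theorem result {S S' : Scheme.{u}} (g : S' ⟶ S)
    [Flat g] [Surjective g] [QuasiCompact g] [UniversallyInjective g] :
    (EtCoh.bc g).IsEquivalence := by
  haveI : (EtCoh.bc g).Faithful := ⟨fun {V W} a b h => (bijective_map g V W).1 h⟩
  haveI : (EtCoh.bc g).Full := ⟨fun {V W} ψ => (bijective_map g V W).2 ψ⟩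
  haveI : (EtCoh.bc g).EssSurj := ⟨fun U => by
    obtain ⟨V, h⟩ := essSurj g U
    exact ⟨V, h⟩⟩
  exact { }

end Groth.Agent.S5115
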