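import Groth.Statements.S4936
import Groth.Agent.GUPoly.Basic
import Mathlib.AlgebraicGeometry.PullbackCarrier

set_option autoImplicit false
open CategoryTheory AlgebraicGeometry
universe u v w
open EGA43

namespace Groth.Agent.S4936

/-- Let Y be a scheme, Y' = Y[T_1, …, T_n] affine n-space over Y, y' a point of Y' and y its image in Y.
If Y is geometrically unibranch at y, then Y' is geometrically unibranch at y'. -/
theorem result {Y : Scheme.{u}} (n : ℕ) (y' : ↥𝔸(ULift.{u} (Fin n); Y))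
    (hy : CAlg2.IsGeomUnibranch (Y.presheaf.stalk ((𝔸(ULift.{u} (Fin n); Y) ↘ Y).base y'))) :
    CAlg2.IsGeomUnibranch ((𝔸(ULift.{u} (Fin n); Y)).presheaf.stalk y') := by
  obtain ⟨U, hU, hyU, -⟩ := exists_isAffineOpen_mem_and_subset
    (x := (𝔸(ULift.{u} (Fin n); Y) ↘ Y).base y') (U := ⊤) trivial
  let R := Γ(Y, U)
  let σ := ULift.{u} (Fin n)
  let j : Spec (CommRingCat.of (MvPolynomial σ R)) ⟶ 𝔸(σ; Y) :=
    (AffineSpace.SpecIso σ R).inv ≫ AffineSpace.map σ hU.fromSpec
  haveI : IsOpenImmersion (AffineSpace.map σ hU.fromSpec) :=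
    MorphismProperty.of_isPullback (AffineSpace.isPullback_map hU.fromSpec).flip inferInstance
  haveI : IsOpenImmersion j := inferInstanceAs (IsOpenImmersion (_ ≫ _))
  have hj : j ≫ 𝔸(σ; Y) ↘ Y = Spec.map (CommRingCat.ofHom MvPolynomial.C) ≫ hU.fromSpec := by
    rw [Category.assoc, AffineSpace.map_over, AffineSpace.SpecIso_inv_over_assoc]
  obtain ⟨z, hz⟩ : ∃ z, j.base z = y' := by
    obtain ⟨w, rfl⟩ : ∃ w, (AffineSpace.map σ hU.fromSpec).base w = y' := by
      obtain ⟨v, hv⟩ : ((𝔸(σ; Y) ↘ Y).base y') ∈ Set.range hU.fromSpec.base := by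
        rw [hU.range_fromSpec]; exact hyU
      obtain ⟨w, -, hw⟩ := Scheme.Pullback.exists_preimage_pullback
        (f := hU.fromSpec) (g := 𝔸(σ; Y) ↘ Y) v y' hv
      refine ⟨(AffineSpace.isPullback_map hU.fromSpec).flip.isoPullback.inv.base w, ?_⟩
      rw [← Scheme.Hom.comp_apply, (AffineSpace.isPullback_map hU.fromSpec).flip.isoPullback_inv_snd]
      exact hw
    obtain ⟨z, rfl⟩ := (AffineSpace.SpecIso σ R).inv.surjective w
    exact ⟨z, rfl⟩
  subst hz
  let q : PrimeSpectrum (MvPolynomial σ R) := z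
  let v : Spec R := (Spec.map (CommRingCat.ofHom (MvPolynomial.C (σ := σ)))).base z
  have hv : hU.fromSpec.base v = (𝔸(σ; Y) ↘ Y).base (j.base z) := by
    rw [← Scheme.Hom.comp_apply, ← Scheme.Hom.comp_apply, hj]
  let eY : Y.presheaf.stalk ((𝔸(σ; Y) ↘ Y).base (j.base z)) ≅ (Spec R).presheaf.stalk v :=
    Y.presheaf.stalkCongr (.of_eq hv.symm) ≪≫ asIso (hU.fromSpec.stalkMap v)
  have hR : CAlg2.IsGeomUnibranch (Localization.AtPrime
      (q.asIdeal.comap (MvPolynomial.C : R →+* MvPolynomial σ R))) := by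
    refine Groth.Agent.GUPoly.isGeomUnibranch_congr
      (eY.commRingCatIsoToRingEquiv.trans ?_) hy
    exact (StructureSheaf.stalkIso R v).toRingEquiv.symm
  have h := Groth.Agent.GUPoly.isGeomUnibranch_polynomial σ q.asIdeal hR
  refine Groth.Agent.GUPoly.isGeomUnibranch_congr ?_ h
  exact (StructureSheaf.stalkIso (MvPolynomial σ R) q).toRingEquiv.trans
    (asIso (j.stalkMap z)).symm.commRingCatIsoToRingEquiv

end Groth.Agent.S4936
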