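import Groth.Statements.S3087
import Mathlib
import Groth.Agent.Topos.ModExtZero

set_option autoImplicit false
universe u
open CategoryTheory
open SGA4

namespace Groth.Agent.S3087

open CategoryTheory.Limits in
/-- For the ringed topos of sheaves on a small site (C, J) with sheaf of rings A, localised at an object
X of C: the restriction functor j_X^* from sheaves of A-modules to sheaves of A|X-modules on the
site of objects over X admits a left adjoint (extension by zero j_{X!}), and any such left adjoint
is exact (preserves finite limits and finite colimits) and faithful. -/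
theorem result {C : Type u} [SmallCategory C] (J : GrothendieckTopology C) (X : C)
    (A : Sheaf J RingCat.{u}) :
    (SheafOfModules.overFunctor.{u} A X).IsRightAdjoint ∧
    ∀ (L : SheafOfModules.{u} (A.over X) ⥤ SheafOfModules.{u} A) (_ : L ⊣ SheafOfModules.overFunctor.{u} A X),
      PreservesFiniteLimits L ∧ PreservesFiniteColimits L ∧ L.Faithful := by
  classical
  let adj0 := (Groth.Agent.Topos.ModExtZero.adjunction X A).comp
    (PresheafOfModules.sheafificationAdjunction (𝟙 A.obj))
  let L₀ := SheafOfModules.forget (A.over X) ⋙ Groth.Agent.Topos.ModExtZero.ext0 X A ⋙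
    PresheafOfModules.sheafification (R₀ := A.obj) (𝟙 A.obj)
  let adjL : L₀ ⊣ SheafOfModules.overFunctor.{u} A X :=
    adj0.restrictFullyFaithful (SheafOfModules.fullyFaithfulForget (A.over X)) (Functor.FullyFaithful.id _)
      (Functor.rightUnitor _).symm
      (NatIso.ofComponents (fun N => PresheafOfModules.isoMk (fun U => Iso.refl _)))
  refine ⟨adjL.isRightAdjoint, fun L adj => ?_⟩
  have e : L ≅ L₀ := Adjunction.leftAdjointUniq adj adjL
  have : L₀.IsLeftAdjoint := adjL.isLeftAdjoint
  have : PreservesFiniteColimits L₀ := by
    have := adjL.leftAdjoint_preservesColimits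
    infer_instance
  have : L₀.Additive := by
    have : (SheafOfModules.overFunctor.{u} A X).Additive := ⟨fun {M N f g} => rfl⟩
    exact adjL.left_adjoint_additive
  have : L₀.PreservesMonomorphisms := ⟨fun {M N} f hf => by
    have h1 : Mono ((Groth.Agent.Topos.ModExtZero.ext0 X A).map
        ((SheafOfModules.forget (A.over X)).map f)) :=
      PresheafOfModules.mono_of_injective fun U =>
        Groth.Agent.Topos.ModExtZero.extMap_injective _
          (fun W => PresheafOfModules.injective_of_mono ((SheafOfModules.forget (A.over X)).map f) W) U
    exact inferInstanceAs (Mono ((PresheafOfModules.sheafification (R₀ := A.obj) (𝟙 A.obj)).map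
      ((Groth.Agent.Topos.ModExtZero.ext0 X A).map ((SheafOfModules.forget (A.over X)).map f))))⟩
  have : PreservesFiniteLimits L₀ := by
    rw [L₀.preservesFiniteLimits_iff_forall_exact_map_and_mono]
    intro S hS
    have := hS.mono_f
    exact ⟨((L₀.preservesFiniteColimits_iff_forall_exact_map_and_epi).1 inferInstance S hS).1,
      inferInstance⟩
  have hinj : ∀ (M : SheafOfModules.{u} (A.over X)) (W : (Over X)ᵒᵖ),
      Function.Injective ((adj0.unit.app M.val).app W) := by
    intro M W
    refine (injective_iff_map_eq_zero ((adj0.unit.app M.val).app W).hom).2 fun m hm => ?_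
    have hz : (toSheafify J (Groth.Agent.Topos.ModExtZero.extObj M.val).presheaf).app
        (Opposite.op W.unop.left)
          (Groth.Agent.Topos.ModExtZero.inc M.val W.unop.left W.unop.hom m) =
        (toSheafify J (Groth.Agent.Topos.ModExtZero.extObj M.val).presheaf).app
        (Opposite.op W.unop.left) 0 := by
      rw [map_zero]
      exact hm
    have hS := Presheaf.equalizerSieve_mem J _ _ _ hz
    have hsep := ((isSheaf_iff_isSheaf_of_type _ _).1
      ((Presheaf.isSheaf_iff_isSheaf_forget (J.over X) _ (forget AddCommGrpCat.{u})).1 M.isSheaf))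
        ((Sieve.overEquiv W.unop).symm _) (J.overEquiv_symm_mem_over W.unop _ hS)
    refine hsep.isSeparatedFor.ext fun V g hg => ?_
    rw [Sieve.overEquiv_symm_iff] at hg
    have h0 : Groth.Agent.Topos.ModExtZero.inc M.val V.left V.hom
        ((M.val.presheaf.map g.op).hom m : Groth.Agent.Topos.ModExtZero.fib M.val V.left V.hom) = 0 := by
      exact (Groth.Agent.Topos.ModExtZero.inc_map M.val g m).trans (hg.trans (map_zero _))
    have h1 := (Groth.Agent.Topos.ModExtZero.unit_injective (M := M.val) (Opposite.op V))
      (a₁ := ((M.val.presheaf.map g.op).hom m : _)) (a₂ := 0) (h0.trans (map_zero _).symm)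
    exact h1.trans (map_zero (M.val.presheaf.map g.op).hom).symm
  have : L₀.Faithful := ⟨fun {M N} f g h => by
    have h' := congrArg (adj0.homEquiv M.val _) h
    simp only [Adjunction.homEquiv_unit] at h'
    erw [← adj0.unit.naturality, ← adj0.unit.naturality] at h'
    refine (SheafOfModules.forget (A.over X)).map_injective (PresheafOfModules.hom_ext fun W =>
      ModuleCat.hom_ext (LinearMap.ext fun m => hinj N W ?_))
    exact congrArg (fun t => t.app W m) h'⟩
  exact ⟨preservesFiniteLimits_of_natIso e.symm, preservesFiniteColimits_of_natIso e.symm,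
    Functor.Faithful.of_iso e.symm⟩

end Groth.Agent.S3087
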