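import Groth.Statements.S8267
import Groth.Agent.SymLib.Affine
import Groth.Agent.RelSpecLib.Local
import Groth.Agent.QCoh.FiniteType
-- import your own Groth.Agent.* helpers here

set_option autoImplicit false
universe u
open CategoryTheory CategoryTheory.Limits AlgebraicGeometry Opposite TopologicalSpace
open EGA2

namespace Groth.Agent.S8267

/-- Let E be a quasi-coherent O_S-module of finite type and A (through j : E → A) its symmetric algebra.
Then the vector bundle V(E) = Spec(A) is of finite type over S, i.e. its (affine) structure morphism
is locally of finite type. -/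
theorem result {S : Scheme.{u}} (E : S.Modules) (hE : Coh.IsCoh E)
    (A : RelSpec.QCAlg S) (j : E ⟶ A.toModule) (hA : RelSpec.IsSymAlg E A j) :
    LocallyOfFiniteType A.π := by
  have : E.IsQuasicoherent := hE.1
  have : SheafOfModules.IsFiniteType.{u} E := hE.2
  refine RelSpecLib.π_property @LocallyOfFiniteType fun U hU => ?_
  rw [HasRingHomProperty.Spec_iff (P := @LocallyOfFiniteType)]
  let : Algebra Γ(S, U) (A.presheaf.obj (op U)) := (A.str.app (op U)).hom.toAlgebra
  change Algebra.FiniteType Γ(S, U) (A.presheaf.obj (op U))
  obtain ⟨s, hs⟩ := (QCoh.finite_sections_of_isFiniteType E hU).fg_top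
  classical
  refine ⟨⟨s.image (fun m => (j.app U m : A.presheaf.obj (op U))), Algebra.eq_top_iff.2 fun a => ?_⟩⟩
  induction a using SymLib.affInduction hA hU with
  | hstr r => exact Subalgebra.algebraMap_mem _ r
  | hj m =>
    have hm : m ∈ Submodule.span Γ(S, U) (s : Set Γ(E, U)) := hs.ge Submodule.mem_top
    induction hm using Submodule.span_induction with
    | mem m hm => exact Algebra.subset_adjoin (Finset.mem_image_of_mem _ hm)
    | zero =>
      rw [map_zero]
      exact zero_mem (Algebra.adjoin Γ(S, U) (_ : Set (A.presheaf.obj (op U))))
    | add x y _ _ hx hy =>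
      rw [map_add]
      exact add_mem hx hy
    | smul r x _ hx =>
      rw [j.app_smul r x]
      exact Subalgebra.smul_mem _ hx r
  | hmul a b ha hb => exact mul_mem ha hb
  | hadd a b ha hb => exact add_mem ha hb

end Groth.Agent.S8267
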