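import Groth.Statements.S0633
import Groth.Agent.EtaleSite.SplitScheme
import Groth.Agent.IndAlg.EtaleLift

set_option autoImplicit false
open CategoryTheory CategoryTheory.Limits AlgebraicGeometry Opposite
universe u
open EtCore

namespace Groth.Agent.S0633

set_option backward.isDefEq.respectTransparency.types false in
/-- Let X -> Y be a closed immersion and U -> X etale. Then there exist etale morphisms V_i -> Y and
X-morphisms V_i x_Y X -> U which are open immersions whose images cover U. -/
theorem result {X Y : Scheme.{u}} (f : X ⟶ Y) [IsClosedImmersion f]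
    (U : X.Etale) :
    ∃ (κ : Type u) (V : κ → Y.Etale) (h : ∀ j, pullback (V j).hom f ⟶ U.left),
      (∀ j, h j ≫ U.hom = pullback.snd (V j).hom f) ∧ (∀ j, IsOpenImmersion (h j)) ∧
      ∀ x : U.left, ∃ (j : κ) (y : ↥(pullback (V j).hom f)), (h j).base y = x := by
  have key : ∀ u : U.left, ∃ (V : Y.Etale) (h : pullback V.hom f ⟶ U.left),
      h ≫ U.hom = pullback.snd V.hom f ∧ IsOpenImmersion h ∧ u ∈ Set.range h := by
    intro u
    haveI : AlgebraicGeometry.Etale U.hom := U.prop
    let g : U.left ⟶ X := U.hom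
    obtain ⟨A, B, ψ, j, hj, e, η₀, hη, hB⟩ := Groth.Agent.EtaleSite.exists_affine_chart f
      (Groth.Agent.EtaleSite.geomPointAt Y (f (g u)))
    have hu : f (g u) ∈ Set.range j :=
      ⟨η₀ default, (congrArg (fun k : _ ⟶ Y => k default) hη).trans
        (Groth.Agent.EtaleSite.geomPointAt_apply Y _ _)⟩
    obtain ⟨a, ha⟩ := hu
    obtain ⟨b, hb, -⟩ := Scheme.Pullback.exists_preimage_pullback (f := f) (g := j) (g u) a ha.symm
    let b' : Spec B := hB.isoPullback.inv b
    have hb' : e b' = g u := by
      rw [← hb, ← Scheme.Hom.comp_apply, IsPullback.isoPullback_inv_fst]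
    obtain ⟨z, hz, -⟩ := Scheme.Pullback.exists_preimage_pullback (f := g) (g := e) u b' hb'.symm
    obtain ⟨R, jR, hjR, ⟨w, rfl⟩, -⟩ := Scheme.exists_affine_mem_range_and_range_subset
      (x := z) (U := ⊤) (by trivial)
    obtain ⟨c, hc⟩ := Spec.map_surjective (jR ≫ pullback.snd g e)
    have hsurj : Function.Surjective ψ.hom := by
      haveI : IsClosedImmersion (Spec.map ψ) := MorphismProperty.of_isPullback hB inferInstance
      have h2 : Function.Surjective (Spec.map ψ).appTop := (Spec.map ψ).app_surjective ⊤ (isAffineOpen_top _)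
      haveI : (RingHom.toMorphismProperty fun f => Function.Surjective f).RespectsIso :=
        RingHom.toMorphismProperty_respectsIso_iff.1 RingHom.surjective_respectsIso
      exact ((RingHom.toMorphismProperty fun f => Function.Surjective f).arrow_mk_iso_iff
        (arrowIsoΓSpecOfIsAffine ψ)).2 h2
    haveI : IsOpenImmersion e := MorphismProperty.of_isPullback (P := @IsOpenImmersion) hB.flip hj
    let I := RingHom.ker ψ.hom
    letI : Algebra A B := ψ.hom.toAlgebra
    let e₀ : (A ⧸ I) ≃ₐ[A] B :=
      Ideal.quotientKerAlgEquivOfSurjective (f := Algebra.ofId A B) hsurj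
    letI : Algebra (A ⧸ I) R := (c.hom.comp e₀.toAlgHom.toRingHom).toAlgebra
    letI : Algebra A R := (c.hom.comp ψ.hom).toAlgebra
    haveI : IsScalarTower A (A ⧸ I) R := .of_algebraMap_eq fun x => congrArg c.hom (e₀.commutes x).symm
    haveI : Algebra.Etale (A ⧸ I) R := by
      refine RingHom.etale_algebraMap.1 ?_
      have h1 : c.hom.Etale := by
        refine (HasRingHomProperty.Spec_iff (P := @AlgebraicGeometry.Etale)).1 ?_
        rw [hc]; infer_instance
      exact RingHom.Etale.respectsIso.2 _ e₀.toRingEquiv h1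
    obtain ⟨T, _, _, hT, ⟨eT⟩⟩ := Groth.Agent.IndAlg.EtaleLift.exists_lift A I R
    let E : R ≃ₐ[A] TensorProduct A T B :=
      eT.symm.trans ((Algebra.TensorProduct.quotIdealMapEquivTensorQuot T I).restrictScalars A |>.trans
        (Algebra.TensorProduct.congr AlgEquiv.refl e₀))
    haveI : AlgebraicGeometry.Etale (Spec.map (CommRingCat.ofHom (algebraMap A T))) :=
      (HasRingHomProperty.Spec_iff (P := @AlgebraicGeometry.Etale)).2
        (RingHom.etale_algebraMap.2 hT)
    let v : Spec (CommRingCat.of T) ⟶ Spec A := Spec.map (CommRingCat.ofHom (algebraMap A T))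
    have sq : IsPullback (pullback.fst v (Spec.map ψ)) (pullback.snd v (Spec.map ψ) ≫ e)
        (v ≫ j) f := (IsPullback.of_hasPullback v (Spec.map ψ)).paste_vert hB.flip
    let P := (pullbackSpecIso A T B).hom ≫ Spec.map E.toRingEquiv.toCommRingCatIso.hom
    have hP : P ≫ jR ≫ pullback.snd g e = pullback.snd v (Spec.map ψ) := by
      rw [← hc]
      simp only [P, Category.assoc, ← Spec.map_comp]
      have : c ≫ E.toRingEquiv.toCommRingCatIso.hom = CommRingCat.ofHom
          (Algebra.TensorProduct.includeRight (R := A) (A := T)).toRingHom := by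
        ext x
        obtain ⟨y, rfl⟩ := hsurj x
        exact (E.commutes y).trans (Algebra.TensorProduct.includeRight.commutes y).symm
      rw [this]
      exact pullbackSpecIso_hom_snd A T B
    refine ⟨Scheme.Etale.mk (v ≫ j), sq.isoPullback.inv ≫ P ≫ jR ≫ pullback.fst g e, ?_, ?_, ?_⟩
    · show (sq.isoPullback.inv ≫ P ≫ jR ≫ pullback.fst g e) ≫ g = pullback.snd (v ≫ j) f
      simp only [Category.assoc, pullback.condition]
      rw [reassoc_of% hP, IsPullback.isoPullback_inv_snd]
    · haveI : IsIso P := inferInstance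
      exact inferInstanceAs (IsOpenImmersion (sq.isoPullback.inv ≫ P ≫ jR ≫ pullback.fst g e))
    · refine ⟨(asIso P ≪≫ Iso.refl _).inv ≫ sq.isoPullback.hom |> fun k => k w, ?_⟩
      show (((asIso P ≪≫ Iso.refl _).inv ≫ sq.isoPullback.hom) ≫
        sq.isoPullback.inv ≫ P ≫ jR ≫ pullback.fst g e) w = u
      simp only [Category.assoc, Iso.trans_inv, Iso.refl_inv, Category.id_comp, asIso_inv,
        Iso.hom_inv_id_assoc, IsIso.inv_hom_id_assoc]
      rw [Scheme.Hom.comp_apply, hz]
  choose V h hh ho hr using key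
  exact ⟨U.left, V, h, hh, ho, fun x => ⟨x, hr x⟩⟩

end Groth.Agent.S0633
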