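import Groth.Statements.S0118
import Groth.Agent.EtaleSite.TopInvGlue
import Groth.Agent.S0633

set_option autoImplicit false
open CategoryTheory CategoryTheory.Limits AlgebraicGeometry Opposite
universe u
open EtBase

namespace Groth.Agent.S0118

/-- Base change to a closed subscheme with the same underlying space is an equivalence between the
categories of étale schemes over the two. -/
theorem result {S S₀ : Scheme.{u}} (i : S₀ ⟶ S) [IsClosedImmersion i] [Surjective i] :
    (EtCoh.bc i).IsEquivalence := by
  refine Groth.Agent.EtaleSite.isEquivalence_bc i fun U u => ?_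
  obtain ⟨κ, V, h, hh, ho, hu⟩ := Groth.Agent.S0633.result i U
  obtain ⟨j, y, hy⟩ := hu u
  exact ⟨V j, h j, hh j, ho j, y, hy⟩

end Groth.Agent.S0118
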