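import Groth.Statements.S5153
import Groth.Agent.LocCoh.Connected
import Groth.Agent.SchPoints.Basic
import Mathlib.AlgebraicGeometry.Noetherian

set_option autoImplicit false
universe u
open AlgebraicGeometry
open LocCoh

namespace Groth.Agent.S5153

open TopologicalSpace Topology Set

theorem noetherian_nhd (X : Scheme.{u}) [IsLocallyNoetherian X] (x : X) :
    ∃ W ∈ nhds x, NoetherianSpace W := by
  obtain ⟨W, hW, hxW, -⟩ := exists_isAffineOpen_mem_and_subset (X := X) (x := x) (U := ⊤) trivial
  have : IsNoetherianRing Γ(X, W) := IsLocallyNoetherian.component_noetherian ⟨W, hW⟩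
  exact ⟨(W : Set X), W.isOpen.mem_nhds hxW, noetherianSpace_of_isAffineOpen W hW⟩

/-- A point in the closure of an open set is a specialization of one of its points. -/
theorem exists_specializes_of_mem_closure {T : Type*} [TopologicalSpace T] [QuasiSober T]
    (hT : ∀ x : T, ∃ W ∈ nhds x, NoetherianSpace W) {C : Set T} (hC : IsOpen C) {x : T}
    (hx : x ∈ closure C) : ∃ y ∈ C, y ⤳ x := by
  have hlf := Groth.Agent.SchPoints.locallyFinite_irreducibleComponents hT
  have hCeq : C = ⋃ Z : irreducibleComponents T, C ∩ (Z : Set T) := by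
    rw [← inter_iUnion, inter_eq_left.mpr]
    exact fun y _ => mem_iUnion.mpr
      ⟨⟨irreducibleComponent y, irreducibleComponent_mem_irreducibleComponents y⟩, mem_irreducibleComponent⟩
  rw [hCeq, (hlf.subset fun Z => inter_subset_right).closure_iUnion, mem_iUnion] at hx
  obtain ⟨Z, hxZ⟩ := hx
  obtain ⟨y, hyC, hyZ⟩ : (C ∩ (Z : Set T)).Nonempty := closure_nonempty_iff.mp ⟨x, hxZ⟩
  have hg := Z.2.1.isGenericPoint_genericPoint (isClosed_of_mem_irreducibleComponents _ Z.2)
  refine ⟨Z.2.1.genericPoint, (hg.specializes hyZ).mem_open hC hyC, hg.specializes ?_⟩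
  exact closure_minimal inter_subset_right (isClosed_of_mem_irreducibleComponents _ Z.2) hxZ

/-- Let X be a locally Noetherian scheme and Y = X − U a closed subset such that depth O_{X,x} ≥ 2 for
every x ∈ Y. Then the inclusion U → X induces a bijection on sets of connected components. -/
theorem result (X : Scheme.{u}) [IsLocallyNoetherian X] (U : X.Opens) (h : ∀ x : X, x ∉ (U : Set X) → (2 : ℕ∞) ≤ LocCoh.depth (X.presheaf.stalk x) (X.presheaf.stalk x)) : Function.Bijective (Continuous.connectedComponentsMap (continuous_subtype_val : Continuous (fun x : U => (x : X)))) := by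
  classical
  have hX := noetherian_nhd X
  have : LocallyConnectedSpace X := Groth.Agent.SchPoints.locallyConnectedSpace hX
  have : LocallyConnectedSpace (U : Set X) := U.isOpen.locallyConnectedSpace
  -- the connected punctured neighbourhood of a point outside `U`
  have hP : ∀ x : X, x ∉ (U : Set X) → _root_.IsConnected {y : X | y ⤳ x ∧ y ≠ x} := by
    intro x hx
    have hc := (Groth.Agent.LocCoh.isConnected_punctured (h x hx)).image (X.fromSpecStalk x)
      (X.fromSpecStalk x).continuous.continuousOn
    convert! hc using 1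
    ext y
    constructor
    · rintro ⟨hy, hne⟩
      obtain ⟨z, rfl⟩ : y ∈ Set.range (X.fromSpecStalk x) := by rw [Scheme.range_fromSpecStalk]; exact hy
      refine ⟨z, fun e => hne ?_, rfl⟩
      rw [show z = IsLocalRing.closedPoint _ from PrimeSpectrum.ext e, Scheme.fromSpecStalk_closedPoint]
    · rintro ⟨z, hz, rfl⟩
      refine ⟨by have := Set.mem_range_self (f := X.fromSpecStalk x) z; rwa [Scheme.range_fromSpecStalk] at this,
        fun e => hz ?_⟩
      rw [(X.fromSpecStalk x).isEmbedding.injective (e.trans Scheme.fromSpecStalk_closedPoint.symm)]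
      rfl
  refine ⟨fun a b hab => ?_, fun c => ?_⟩
  · obtain ⟨u, rfl⟩ := ConnectedComponents.surjective_coe a
    obtain ⟨v, rfl⟩ := ConnectedComponents.surjective_coe b
    rw [ConnectedComponents.coe_eq_coe']
    change ((u : X) : ConnectedComponents X) = ((v : X) : ConnectedComponents X) at hab
    rw [ConnectedComponents.coe_eq_coe] at hab
    by_contra hne
    let C : Set X := Subtype.val '' connectedComponent v
    let D : Set X := Subtype.val '' (connectedComponent v)ᶜ
    have hC : IsOpen C := U.isOpen.isOpenMap_subtype_val _ isOpen_connectedComponent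
    have hD : IsOpen D := U.isOpen.isOpenMap_subtype_val _ isClosed_connectedComponent.isOpen_compl
    have hCD : ∀ y, y ∈ C → y ∈ D → False := by
      rintro _ ⟨a, ha, rfl⟩ ⟨b, hb, e⟩
      exact hb (Subtype.ext e ▸ ha)
    have hcov : ∀ y ∈ (U : Set X), y ∈ C ∨ y ∈ D := fun y hy =>
      (em ((⟨y, hy⟩ : (U : Set X)) ∈ connectedComponent v)).imp (fun h => ⟨_, h, rfl⟩) (fun h => ⟨_, h, rfl⟩)
    have hdense : ∀ x : X, x ∈ closure C ∨ x ∈ closure D := by
      intro x
      have hg := (isIrreducible_irreducibleComponent (x := x)).isGenericPoint_genericPoint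
        isClosed_irreducibleComponent
      set η := (isIrreducible_irreducibleComponent (x := x)).genericPoint
      have hηU : η ∈ (U : Set X) := by
        by_contra hη
        obtain ⟨y, hy, hne⟩ := (hP η hη).nonempty
        refine hne ?_
        have hmax := (Groth.Agent.SchPoints.closure_mem_irreducibleComponents_iff (x := η)).mp
          (hg.def.symm ▸ irreducibleComponent_mem_irreducibleComponents x) y hy
        exact (Inseparable.eq (inseparable_iff_specializes_and.mpr ⟨hy, hmax⟩))
      have hηx : η ⤳ x := hg.specializes mem_irreducibleComponent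
      exact (hcov η hηU).imp (fun h => hηx.mem_closed isClosed_closure (subset_closure h))
        (fun h => hηx.mem_closed isClosed_closure (subset_closure h))
    have hdisj : ∀ x : X, x ∈ closure C → x ∈ closure D → False := by
      intro x hxC hxD
      obtain ⟨W, hW, hWn⟩ := hX x
      obtain ⟨W', hW'sub, hW'o, hxW'⟩ := mem_nhds_iff.mp hW
      -- a maximal generalization inside `closure C ∩ closure D`
      let S := closure C ∩ closure D
      obtain ⟨Z, hZ, hxZ⟩ : ∃ Z ∈ irreducibleComponents S, (⟨x, hxC, hxD⟩ : S) ∈ Z :=
        ⟨_, irreducibleComponent_mem_irreducibleComponents _, mem_irreducibleComponent⟩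
      have hSc : IsClosed S := isClosed_closure.inter isClosed_closure
      have : QuasiSober S := hSc.isClosedEmbedding_subtypeVal.quasiSober
      have hg := hZ.1.isGenericPoint_genericPoint (isClosed_of_mem_irreducibleComponents _ hZ)
      set z := hZ.1.genericPoint
      have hmax := (Groth.Agent.SchPoints.closure_mem_irreducibleComponents_iff (x := z)).mp (hg.def.symm ▸ hZ)
      have hzU : (z : X) ∉ (U : Set X) := fun hzU =>
        (hcov _ hzU).elim
          (fun hzC => by
            obtain ⟨w, hw, hwD⟩ := mem_closure_iff.mp z.2.2 C hC hzC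
            exact hCD w hw hwD)
          (fun hzD => by
            obtain ⟨w, hw, hwC⟩ := mem_closure_iff.mp z.2.1 D hD hzD
            exact hCD w hwC hw)
      obtain ⟨c, hcC, hcz⟩ := exists_specializes_of_mem_closure hX hC z.2.1
      obtain ⟨d, hdD, hdz⟩ := exists_specializes_of_mem_closure hX hD z.2.2
      have inU : ∀ {y}, y ∈ C ∨ y ∈ D → y ∈ (U : Set X) := by
        rintro _ (⟨a, -, rfl⟩ | ⟨a, -, rfl⟩) <;> exact a.2
      obtain ⟨w, ⟨hwz, hne⟩, hwC, hwD⟩ := isPreconnected_closed_iff.mp (hP z hzU).2 (closure C) (closure D)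
        isClosed_closure isClosed_closure (fun y _ => hdense y)
        ⟨c, ⟨hcz, fun e => hzU (e ▸ inU (Or.inl hcC))⟩, subset_closure hcC⟩
        ⟨d, ⟨hdz, fun e => hzU (e ▸ inU (Or.inr hdD))⟩, subset_closure hdD⟩
      have hw' : (⟨w, hwC, hwD⟩ : S) ⤳ z := (subtype_specializes_iff _ _).mpr hwz
      exact hne (Inseparable.eq (inseparable_iff_specializes_and.mpr
        ⟨hwz, (subtype_specializes_iff _ _).mp (hmax _ hw')⟩))
    have hclopen : IsClopen (closure C) := by
      refine ⟨isClosed_closure, ?_⟩
      have : closure C = (closure D)ᶜ := Set.ext fun y => ⟨fun hy hy' => hdisj y hy hy', (hdense y).resolve_right⟩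
      rw [this]
      exact isClosed_closure.isOpen_compl
    refine hdisj u ?_ (subset_closure ⟨u, hne, rfl⟩)
    exact hclopen.connectedComponent_subset (subset_closure ⟨v, mem_connectedComponent, rfl⟩)
      (hab ▸ mem_connectedComponent)
  · obtain ⟨x, rfl⟩ := ConnectedComponents.surjective_coe c
    let hg := (isIrreducible_irreducibleComponent (x := x)).isGenericPoint_genericPoint
      isClosed_irreducibleComponent
    set η := (isIrreducible_irreducibleComponent (x := x)).genericPoint
    have hηU : η ∈ (U : Set X) := by
      by_contra hη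
      obtain ⟨y, hy, hne⟩ := (hP η hη).nonempty
      exact hne (Inseparable.eq (inseparable_iff_specializes_and.mpr ⟨hy,
        (Groth.Agent.SchPoints.closure_mem_irreducibleComponents_iff (x := η)).mp
          (hg.def.symm ▸ irreducibleComponent_mem_irreducibleComponents x) y hy⟩))
    refine ⟨((⟨η, hηU⟩ : (U : Set X)) : ConnectedComponents (U : Set X)), ?_⟩
    show ((η : X) : ConnectedComponents X) = (x : ConnectedComponents X)
    rw [ConnectedComponents.coe_eq_coe']
    exact irreducibleComponent_subset_connectedComponent hg.mem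

end Groth.Agent.S5153
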