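import Groth.Statements.S12073
import Groth.Agent.ModPairLib.LimitEtale
import Groth.Agent.FEtCat.Basic

set_option autoImplicit false
universe u
open CategoryTheory CategoryTheory.Limits AlgebraicGeometry
open Pi1

namespace Groth.Agent.S12073

set_option backward.isDefEq.respectTransparency false
set_option backward.isDefEq.respectTransparency.types false
set_option maxHeartbeats 800000

/-- Let X = lim X_i be the limit of a cofiltered system of quasi-compact quasi-separated schemes with
affine transition morphisms, given by a limit cone. Then: (1) every finite étale cover of X is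
isomorphic, over X, to the base change of a finite étale cover of some X_i; (2) if two morphisms
between finite étale covers of some X_i have the same base change to X, then they have the same base
change to some X_j with j → i. (Fullness — every morphism over X between base changes comes from
some stage — is part of the published statement and is not stated here; nor is the consequence on
fundamental groups.) -/
theorem result {I : Type u} [SmallCategory I] [IsCofiltered I]
    (D : I ⥤ Scheme.{u}) (c : Limits.Cone D) (hc : Limits.IsLimit c)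
    [∀ (i j : I) (f : i ⟶ j), IsAffineHom (D.map f)] [∀ i, CompactSpace (D.obj i)]
    [∀ i, QuasiSeparatedSpace (D.obj i)] :
    (∀ V : FEt.Cat c.pt, ∃ (i : I) (Vi : FEt.Cat (D.obj i)), Nonempty ((FEt.restrict (c.π.app i)).obj Vi ≅ V)) ∧
    (∀ (i : I) (Vi Wi : FEt.Cat (D.obj i)) (φ ψ : Vi ⟶ Wi),
      (FEt.restrict (c.π.app i)).map φ = (FEt.restrict (c.π.app i)).map ψ →
      ∃ (j : I) (a : j ⟶ i), (FEt.restrict (D.map a)).map φ = (FEt.restrict (D.map a)).map ψ) := by
  refine ⟨fun V => ?_, fun i Vi Wi φ ψ h => ?_⟩
  · have : Nonempty I := IsCofiltered.nonempty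
    have : CompactSpace c.pt := Scheme.compactSpace_of_isLimit D c hc
    have : QuasiSeparatedSpace c.pt :=
      have := isAffineHom_π_app D c hc
      quasiSeparatedSpace_of_quasiSeparated (c.π.app (Classical.arbitrary I))
    have : CompactSpace V.left := QuasiCompact.compactSpace_of_compactSpace (Y := c.pt) V.hom
    have : QuasiSeparatedSpace V.left := quasiSeparatedSpace_of_quasiSeparated (Y := c.pt) V.hom
    obtain ⟨i, Xi, fi, g, hfi, h2, h3, hpb⟩ := ModPairLib.LimitEtale.exists_model D c hc (X := V.left) V.hom
    obtain ⟨k, a, ha⟩ := LimLib.descends_isFinite D c hc inferInstance inferInstance inferInstance i Xi fi h2 h3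
      inferInstance V.left g V.hom hpb V.prop.1
    obtain ⟨-, -, -, hpb'⟩ := LimLib.HasModel.at_finer (c := c) inferInstance h2 h3 hpb a
    refine ⟨k, MorphismProperty.Over.mk ⊤ (pullback.snd fi (D.map a))
      ⟨ha, MorphismProperty.pullback_snd _ _ hfi⟩, ⟨?_⟩⟩
    exact MorphismProperty.Over.isoMk hpb'.isoPullback.symm hpb'.isoPullback_inv_snd
  · let g₀ : Vi.left ⟶ D.obj i := Vi.hom
    let t' : LimLib.bcDiag D i g₀ ⟶ (Functor.const (Over i)).obj (D.obj i) :=
      { app := fun j => pullback.fst g₀ (D.map j.hom) ≫ g₀
        naturality := fun j k a => by simp }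
    have : CompactSpace Vi.left := QuasiCompact.compactSpace_of_compactSpace g₀
    let j₀ : Over i := Over.mk (𝟙 i)
    let hl := LimLib.isLimitBcCone hc (IsPullback.of_hasPullback g₀ (c.π.app i))
    obtain ⟨k, b, hb⟩ := Scheme.exists_hom_comp_eq_comp_of_locallyOfFiniteType (LimLib.bcDiag D i g₀) t'
      Wi.hom _ hl (i := j₀) (pullback.fst g₀ (D.map j₀.hom) ≫ φ.left)
      (pullback.fst g₀ (D.map j₀.hom) ≫ ψ.left)
      (by simp [t', g₀, MorphismProperty.Over.w φ]) (by simp [t', g₀, MorphismProperty.Over.w ψ]) (by
        have h1 := congrArg (fun m => m.left ≫ pullback.fst Wi.hom (c.π.app i)) h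
        simpa [FEt.restrict, g₀, j₀] using h1)
    refine ⟨k.left, k.hom, FEtCat.Basic.hom_ext (pullback.hom_ext ?_ ?_)⟩
    · simpa [FEt.restrict, g₀, j₀] using hb
    · simp [FEt.restrict]

end Groth.Agent.S12073
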