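import Groth.Statements.S2946
import Mathlib.AlgebraicGeometry.IdealSheaf.Functorial
import Groth.Agent.Props.GenLocus
import Groth.Agent.QCoh.Basic

set_option linter.style.haveILetI false

set_option autoImplicit false
universe u
open CategoryTheory CategoryTheory.Limits AlgebraicGeometry
open Lef

namespace Groth.Agent.S2946

open CategoryTheory AlgebraicGeometry TopologicalSpace
open Groth.Agent.Props.GenLocus Groth.Agent.QCoh

set_option backward.isDefEq.respectTransparency false

/-- An idempotent is zero where it is not invertible. -/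
theorem germ_eq_zero_of_notMem {X : Scheme.{u}} {e : Γ(X, ⊤)} (he : IsIdempotentElem e) {x : X}
    (hx : x ∉ X.basicOpen e) : X.presheaf.germ ⊤ x trivial e = 0 := by
  have h : IsIdempotentElem (X.presheaf.germ ⊤ x trivial e) := by
    rw [IsIdempotentElem, ← map_mul, he]
  have hnu : ¬ IsUnit (X.presheaf.germ ⊤ x trivial e) := fun hu =>
    hx ((Scheme.mem_basicOpen X e x trivial).2 hu)
  obtain ⟨u, hu⟩ := (IsLocalRing.isUnit_or_isUnit_one_sub_self _).resolve_left hnu
  have : X.presheaf.germ ⊤ x trivial e * (u : X.presheaf.stalk x) = 0 := by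
    rw [hu, mul_sub, mul_one, h.eq, sub_self]
  exact (Units.mul_left_eq_zero u).1 this

/-- Idempotent global functions are determined by where they are invertible. -/
theorem idempotent_eq_of_mem_iff {X : Scheme.{u}} {e e' : Γ(X, ⊤)} (he : IsIdempotentElem e)
    (he' : IsIdempotentElem e') (h : ∀ x, x ∈ X.basicOpen e ↔ x ∈ X.basicOpen e') : e = e' := by
  refine TopCat.Presheaf.section_ext X.sheaf ⊤ e e' fun x hx => ?_
  show X.presheaf.germ ⊤ x trivial e = X.presheaf.germ ⊤ x trivial e'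
  have h1 : ∀ {d : Γ(X, ⊤)}, IsIdempotentElem d → x ∈ X.basicOpen d →
      X.presheaf.germ ⊤ x trivial d = 1 := fun {d} hd hxd => by
    have hu := (Scheme.mem_basicOpen X d x trivial).1 hxd
    exact hu.mul_left_cancel (by rw [mul_one, ← map_mul, hd])
  by_cases hxe : x ∈ X.basicOpen e
  · rw [h1 he hxe, h1 he' ((h x).1 hxe)]
  · rw [germ_eq_zero_of_notMem he hxe, germ_eq_zero_of_notMem he' fun h' => hxe ((h x).2 h')]

theorem hom_ext_one {Z : Scheme.{u}} {L : Z.Modules} (φ ψ : Coh.structureModule Z ⟶ L)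
    (h : φ.app ⊤ (1 : Γ(Z, ⊤)) = ψ.app ⊤ (1 : Γ(Z, ⊤))) : φ = ψ := by
  refine Scheme.Modules.hom_ext _ _ fun V => ?_
  ext a
  have hs : sec φ ⊤ = sec ψ ⊤ := h
  rw [app_eq φ V a, app_eq ψ V a, ← sec_res φ (le_top : V ≤ ⊤), ← sec_res ψ (le_top : V ≤ ⊤), hs]

theorem app_one_homOfSec {Z : Scheme.{u}} {L : Z.Modules} (σ : Γ(L, ⊤)) :
    (homOfSec σ).app ⊤ (1 : Γ(Z, ⊤)) = σ :=
  (sec_homOfSec σ ⊤).trans (res_self L _ σ)

theorem mem_basicOpen_map {A B : Scheme.{u}} (f : A ⟶ B) (e : Γ(B, ⊤)) (x : A) :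
    x ∈ A.basicOpen (f.appTop e) ↔ f x ∈ B.basicOpen e := by
  rw [← Scheme.preimage_basicOpen_top]
  rfl

/-- The idempotent of a clopen subset. -/
theorem exists_indicator (Z : Scheme.{u}) (C : Z.Opens) (hC : IsClosed (C : Set Z)) :
    ∃ e : Γ(Z, ⊤), IsIdempotentElem e ∧ ∀ x, (x ∈ Z.basicOpen e ↔ x ∈ C) := by
  let D : Z.Opens := ⟨(C : Set Z)ᶜ, hC.isOpen_compl⟩
  let W : Bool → Z.Opens := fun b => if b then C else D
  let v : ∀ b : Bool, Γ(Coh.structureModule Z, W b) := fun b =>
    (if b then (1 : Γ(Z, W b)) else (0 : Γ(Z, W b)) : Γ(Z, W b))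
  have hWle : ∀ b, W b ≤ (⊤ : Z.Opens) := fun b => le_top
  have hcov : (⊤ : Z.Opens) ≤ ⨆ b, W b := fun x _ => by
    by_cases hx : x ∈ C
    · exact Opens.mem_iSup.mpr ⟨true, hx⟩
    · exact Opens.mem_iSup.mpr ⟨false, hx⟩
  obtain ⟨e, he⟩ := exists_glue (Coh.structureModule Z) hWle hcov v fun i j => by
    rcases i with - | - <;> rcases j with - | -
    · rfl
    · refine eq_of_locally_eq (Coh.structureModule Z) (ι := PEmpty.{1}) (U := fun i => i.elim)
        (fun i => i.elim) ?_ _ _ fun i => i.elim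
      intro x hx
      exact absurd (show x ∈ C from hx.2) hx.1
    · refine eq_of_locally_eq (Coh.structureModule Z) (ι := PEmpty.{1}) (U := fun i => i.elim)
        (fun i => i.elim) ?_ _ _ fun i => i.elim
      intro x hx
      exact absurd (show x ∈ C from hx.1) hx.2
    · rfl
  have e' : Γ(Z, ⊤) := e
  have h1 : ∀ b, rres (hWle b) (show Γ(Z, ⊤) from e) = (if b then (1 : Γ(Z, W b)) else 0) := he
  have hgerm : ∀ (b : Bool) (x : Z) (hx : x ∈ W b), Z.presheaf.germ ⊤ x trivial (show Γ(Z, ⊤) from e) =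
      Z.presheaf.germ (W b) x hx (if b then (1 : Γ(Z, W b)) else 0) := fun b x hx => by
    rw [← h1 b]
    exact (Z.presheaf.germ_res_apply (homOfLE (hWle b)) x hx _).symm
  refine ⟨(show Γ(Z, ⊤) from e), ?_, fun x => ?_⟩
  · refine TopCat.Presheaf.section_ext Z.sheaf ⊤ _ _ fun x hx => ?_
    show Z.presheaf.germ ⊤ x trivial _ = Z.presheaf.germ ⊤ x trivial _
    rw [map_mul]
    by_cases hxC : x ∈ C
    · rw [hgerm true x hxC]; simp
    · rw [hgerm false x hxC]; simp
  · rw [Scheme.mem_basicOpen _ _ x (show x ∈ (⊤ : Z.Opens) from trivial)]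
    by_cases hxC : x ∈ C
    · rw [hgerm true x hxC]; simp [hxC]
    · rw [hgerm false x hxC]; simp [hxC]

theorem isClosed_basicOpen {Z : Scheme.{u}} {a : Γ(Z, ⊤)} (ha : IsIdempotentElem a) :
    IsClosed (Z.basicOpen a : Set Z) := by
  rw [← isOpen_compl_iff]
  have h : (Z.basicOpen a : Set Z)ᶜ = Z.basicOpen (1 - a) := by
    ext x
    rw [Set.mem_compl_iff, SetLike.mem_coe, SetLike.mem_coe]
    constructor
    · intro hx
      rw [Scheme.mem_basicOpen _ _ x (show x ∈ (⊤ : Z.Opens) from trivial), map_sub, map_one,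
        germ_eq_zero_of_notMem ha hx, sub_zero]
      exact isUnit_one
    · intro h1 h2
      rw [Scheme.mem_basicOpen _ _ x (show x ∈ (⊤ : Z.Opens) from trivial)] at h1 h2
      have h3 := h1.mul h2
      rw [← map_mul, sub_mul, one_mul, ha, sub_self, map_zero] at h3
      exact not_isUnit_zero h3
  rw [h]
  exact (Z.basicOpen _).2

theorem basicOpen_eq_bot_or_top {Z : Scheme.{u}} [PreconnectedSpace Z] {a : Γ(Z, ⊤)}
    (ha : IsIdempotentElem a) : (Z.basicOpen a : Set Z) = ∅ ∨ (Z.basicOpen a : Set Z) = Set.univ :=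
  isClopen_iff.mp ⟨isClosed_basicOpen ha, (Z.basicOpen a).2⟩

theorem unitToPush_comp_app_top {A B U : Scheme.{u}} (k : A ⟶ B) (i : B ⟶ U) (j : A ⟶ U) (e : k ≫ i = j)
    (σ : Γ(B, ⊤)) :
    ((Scheme.Modules.pushforward i).map (ClSub.unitToPush k) ≫
      (Scheme.Modules.pushforwardComp k i).hom.app (Coh.structureModule A) ≫
      (Scheme.Modules.pushforwardCongr e).hom.app (Coh.structureModule A)).app ⊤ σ =
      (k.appTop σ : Γ(A, ⊤)) := by
  subst e
  simp only [Scheme.Modules.Hom.comp_app, ConcreteCategory.comp_apply,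
    Scheme.Modules.pushforwardComp_hom_app_app, Scheme.Modules.pushforwardCongr_hom_app_app]
  show A.presheaf.map (𝟙 _) (k.appTop σ) = _
  rw [CategoryTheory.Functor.map_id]
  rfl

theorem quotMap_app_top {U : Scheme.{u}} {I J : U.IdealSheafData} (h : I ≤ J) (σ : Γ(I.subscheme, ⊤)) :
    (Lef.quotMap h).app ⊤ σ = ((Scheme.IdealSheafData.inclusion h).appTop σ : Γ(J.subscheme, ⊤)) :=
  unitToPush_comp_app_top (Scheme.IdealSheafData.inclusion h) I.subschemeι J.subschemeι
    (Scheme.IdealSheafData.inclusion_subschemeι h) σ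

theorem toSubscheme_app_top {U : Scheme.{u}} (I : U.IdealSheafData) (σ : Γ(U, ⊤))
    (φ : Coh.structureModule U ⟶ Coh.structureModule U) (hφ : φ.app ⊤ (1 : Γ(U, ⊤)) = σ) :
    (φ ≫ ClSub.toSubscheme I).app ⊤ (1 : Γ(U, ⊤)) = (I.subschemeι.appTop σ : Γ(I.subscheme, ⊤)) := by
  rw [Scheme.Modules.Hom.comp_app, ConcreteCategory.comp_apply, hφ]
  rfl

theorem sep_of_bijective {U : Scheme.{u}} (𝓙 : U.IdealSheafData)
    (h : Lef.HomToFormalBijective 𝓙 (Coh.structureModule U)) (a b : Γ(U, ⊤))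
    (hab : ∀ n, (𝓙 ^ (n + 1)).subschemeι.appTop a = (𝓙 ^ (n + 1)).subschemeι.appTop b) : a = b := by
  have := h.1 (homOfSec (L := Coh.structureModule U) a) (homOfSec (L := Coh.structureModule U) b)
    fun n => hom_ext_one _ _ ((toSubscheme_app_top _ a _ (app_one_homOfSec _)).trans
      ((hab n).trans (toSubscheme_app_top _ b _ (app_one_homOfSec _)).symm))
  have h' := congrArg (fun φ : Coh.structureModule U ⟶ Coh.structureModule U => φ.app ⊤ (1 : Γ(U, ⊤))) this
  simpa only [app_one_homOfSec] using h'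

/-- With a formal comparison map injective on functions, and surjective onto compatible systems,
connectedness passes between a scheme and the closed subscheme. -/
theorem connected_iff {U : Scheme.{u}} (𝓙 : U.IdealSheafData)
    (h : Lef.HomToFormalBijective 𝓙 (Coh.structureModule U)) :
    ConnectedSpace (𝓙.support : Set U) ↔ ConnectedSpace U := by
  have hrange : ∀ n, Set.range (𝓙 ^ (n + 1)).subschemeι = (𝓙.support : Set U) := fun n => by
    rw [Scheme.IdealSheafData.range_subschemeι, Scheme.IdealSheafData.support_pow_succ]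
  have hsep := sep_of_bijective 𝓙 h
  constructor
  · intro hY
    obtain ⟨⟨y₀, hy₀⟩⟩ := (inferInstance : Nonempty (𝓙.support : Set U))
    haveI : Nonempty U := ⟨y₀⟩
    refine { toPreconnectedSpace := ?_, toNonempty := inferInstance }
    rw [preconnectedSpace_iff_clopen]
    intro C hC
    let O : U.Opens := ⟨C, hC.2⟩
    obtain ⟨e, he, heO⟩ := exists_indicator U O hC.1
    have hpre : IsClopen (Subtype.val ⁻¹' C : Set (𝓙.support : Set U)) :=
      ⟨hC.1.preimage continuous_subtype_val, hC.2.preimage continuous_subtype_val⟩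
    rcases isClopen_iff.mp hpre with h0 | h0
    · left
      have : e = 0 := hsep e 0 fun n => by
        rw [map_zero]
        refine idempotent_eq_of_mem_iff (he.map _) IsIdempotentElem.zero fun x => ?_
        rw [mem_basicOpen_map, heO, Scheme.basicOpen_zero]
        refine ⟨fun hx => ?_, fun hx => hx.elim⟩
        have hxY : (𝓙 ^ (n + 1)).subschemeι x ∈ (𝓙.support : Set U) := hrange n ▸ ⟨x, rfl⟩
        exact absurd (show (⟨_, hxY⟩ : (𝓙.support : Set U)) ∈ (Subtype.val ⁻¹' C) from hx)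
          (by rw [h0]; exact Set.notMem_empty _)
      refine Set.eq_empty_iff_forall_notMem.mpr fun x hx => ?_
      have := (heO x).mpr hx
      rw [‹e = 0›, Scheme.basicOpen_zero] at this
      exact this.elim
    · right
      have : e = 1 := hsep e 1 fun n => by
        rw [map_one]
        refine idempotent_eq_of_mem_iff (he.map _) IsIdempotentElem.one fun x => ?_
        rw [mem_basicOpen_map, heO, Scheme.basicOpen_of_isUnit _ isUnit_one]
        refine ⟨fun _ => trivial, fun _ => ?_⟩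
        have hxY : (𝓙 ^ (n + 1)).subschemeι x ∈ (𝓙.support : Set U) := hrange n ▸ ⟨x, rfl⟩
        exact (show (⟨_, hxY⟩ : (𝓙.support : Set U)) ∈ (Subtype.val ⁻¹' C) by rw [h0]; trivial)
      refine Set.eq_univ_iff_forall.mpr fun x => (heO x).mp ?_
      rw [‹e = 1›, Scheme.basicOpen_of_isUnit _ isUnit_one]
      trivial
  · intro hU
    have hne : Nonempty (𝓙.support : Set U) := by
      by_contra hempty
      have h01 : (1 : Γ(U, ⊤)) = 0 := hsep 1 0 fun n => by
        haveI : IsEmpty (𝓙 ^ (n + 1)).subscheme := ⟨fun x => by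
          have hx : (𝓙 ^ (n + 1)).subschemeι x ∈ (𝓙.support : Set U) := hrange n ▸ ⟨x, rfl⟩
          exact hempty ⟨⟨_, hx⟩⟩⟩
        refine TopCat.Presheaf.section_ext (𝓙 ^ (n + 1)).subscheme.sheaf ⊤ _ _ fun x _ => ?_
        exact isEmptyElim x
      obtain ⟨x⟩ := (inferInstance : Nonempty U)
      have : IsUnit (U.presheaf.germ ⊤ x trivial (1 : Γ(U, ⊤))) := by rw [map_one]; exact isUnit_one
      rw [h01, map_zero] at this
      exact not_isUnit_zero this
    refine { toPreconnectedSpace := ?_, toNonempty := hne }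
    rw [preconnectedSpace_iff_clopen]
    intro C hC
    obtain ⟨O, hO, hOC⟩ := isOpen_induced_iff.mp hC.2
    obtain ⟨F, hF, hFC⟩ := isClosed_induced_iff.mp hC.1
    have hiff : ∀ y : U, y ∈ (𝓙.support : Set U) → (y ∈ O ↔ y ∈ F) := fun y hy => by
      have e1 := Set.ext_iff.mp (hOC.trans hFC.symm) ⟨y, hy⟩
      exact e1
    have hcl : ∀ n, IsClosed ((𝓙 ^ (n + 1)).subschemeι ⁻¹' O) := fun n => by
      have : (𝓙 ^ (n + 1)).subschemeι ⁻¹' O = (𝓙 ^ (n + 1)).subschemeι ⁻¹' F := by
        ext x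
        exact hiff _ (hrange n ▸ ⟨x, rfl⟩)
      rw [this]
      exact hF.preimage (𝓙 ^ (n + 1)).subschemeι.continuous
    choose e he heO using fun n => exists_indicator (𝓙 ^ (n + 1)).subscheme
      ⟨(𝓙 ^ (n + 1)).subschemeι ⁻¹' O, hO.preimage (𝓙 ^ (n + 1)).subschemeι.continuous⟩ (hcl n)
    let y : ∀ n : ℕ, Coh.structureModule U ⟶ ClSub.quotMod (𝓙 ^ (n + 1)) := fun n =>
      homOfSec (L := ClSub.quotMod (𝓙 ^ (n + 1))) (e n)
    have hy : Lef.IsFormalHom 𝓙 (Coh.structureModule U) y := fun n => by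
      refine hom_ext_one _ _ ?_
      rw [Scheme.Modules.Hom.comp_app, ConcreteCategory.comp_apply, app_one_homOfSec, app_one_homOfSec]
      have key : (Scheme.IdealSheafData.inclusion (Lef.pow_succ_le 𝓙 n)).appTop (e (n + 1)) = e n := by
        refine idempotent_eq_of_mem_iff ((he (n + 1)).map _) (he n) fun x => ?_
        rw [mem_basicOpen_map, heO (n + 1), heO n]
        show (𝓙 ^ (n + 1 + 1)).subschemeι _ ∈ O ↔ (𝓙 ^ (n + 1)).subschemeι x ∈ O
        rw [← Scheme.Hom.comp_apply, Scheme.IdealSheafData.inclusion_subschemeι]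
      exact (quotMap_app_top (Lef.pow_succ_le 𝓙 n) (e (n + 1))).trans key
    obtain ⟨φ, hφ⟩ := h.2 y hy
    let a : Γ(U, ⊤) := φ.app ⊤ (1 : Γ(U, ⊤))
    have han : ∀ n, (𝓙 ^ (n + 1)).subschemeι.appTop a = e n := fun n => by
      have := congrArg (fun ψ : Coh.structureModule U ⟶ ClSub.quotMod (𝓙 ^ (n + 1)) =>
        ψ.app ⊤ (1 : Γ(U, ⊤))) (hφ n)
      exact (toSubscheme_app_top _ a φ rfl).symm.trans (this.trans (app_one_homOfSec _))
    have ha : IsIdempotentElem a := hsep (a * a) a fun n => by rw [map_mul, han]; exact he n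
    have hmem : ∀ z : (𝓙.support : Set U), z ∈ C ↔ z.1 ∈ U.basicOpen a := fun z => by
      obtain ⟨x, hx⟩ : z.1 ∈ Set.range (𝓙 ^ (0 + 1)).subschemeι := by rw [hrange]; exact z.2
      rw [← hx, ← mem_basicOpen_map, han 0, heO 0, ← hOC]
      show z.1 ∈ O ↔ (𝓙 ^ (0 + 1)).subschemeι x ∈ O
      rw [hx]
    rcases basicOpen_eq_bot_or_top ha with h0 | h0
    · left
      exact Set.eq_empty_iff_forall_notMem.mpr fun z hz => by
        have := (hmem z).mp hz
        rw [← SetLike.mem_coe, h0] at this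
        exact this
    · right
      exact Set.eq_univ_iff_forall.mpr fun z => (hmem z).mpr (by rw [← SetLike.mem_coe, h0]; trivial)

theorem isFinLocFree_structureModule (U : Scheme.{u}) : FlatMod.IsFinLocFree (Coh.structureModule U) :=
  fun x => ⟨⊤, 1, trivial, ⟨Scheme.Modules.restrictUnitIso (⊤ : U.Opens).ι ≪≫
    (Limits.coproductUniqueIso fun _ : Fin 1 => Coh.structureModule (⊤ : U.Opens).toScheme).symm⟩⟩

/-- Let X be a locally Noetherian scheme and 𝓘 a quasi-coherent ideal sheaf with Y = V(𝓘), and suppose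
Lef(X, Y) holds (this prelude's Lef.LefCond). Then for every open U of X containing Y, Y is
connected if and only if U is connected. -/
theorem result (X : Scheme.{u}) [IsLocallyNoetherian X] (𝓘 : X.IdealSheafData) (h : Lef.LefCond X 𝓘) (U : X.Opens) (hU : (𝓘.support : Set X) ⊆ (U : Set X)) : ConnectedSpace (𝓘.support : Set X) ↔ ConnectedSpace U := by
  have hs : ((𝓘.comap U.ι).support : Set (U : Scheme.{u})) = U.ι ⁻¹' (𝓘.support : Set X) := by
    rw [Scheme.IdealSheafData.support_comap]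
    rfl
  rw [← connected_iff (𝓘.comap U.ι) (h U hU _ (isFinLocFree_structureModule _))]
  let e : ((𝓘.comap U.ι).support : Set (U : Scheme.{u})) ≃ₜ (𝓘.support : Set X) :=
    { toFun := fun z => ⟨U.ι z.1, (Set.ext_iff.mp hs z.1).mp z.2⟩
      invFun := fun z => ⟨⟨z.1, hU z.2⟩, by rw [hs]; exact z.2⟩
      left_inv := fun z => Subtype.ext (Subtype.ext rfl)
      right_inv := fun z => Subtype.ext rfl
      continuous_toFun := (U.ι.continuous.comp continuous_subtype_val).subtype_mk _
      continuous_invFun := (Continuous.subtype_mk continuous_subtype_val fun z => hU z.2).subtype_mk fun z => by rw [hs]; exact z.2 }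
  exact ⟨fun _ => e.symm.surjective.connectedSpace e.symm.continuous,
    fun _ => e.surjective.connectedSpace e.continuous⟩

end Groth.Agent.S2946
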