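import Groth.Statements.S0239
import Groth.Agent.FEtCat.Full
import Groth.Agent.S0532
import Groth.Agent.S17971

set_option autoImplicit false
universe u
open Pi1

namespace Groth.Agent.S0239

open AlgebraicGeometry CategoryTheory CategoryTheory.Limits TensorProduct in
/-- For a henselian pair (A, I) in Mathlib's sense, restricting finite etale covers from Spec A to the
closed subscheme Spec (A/I) is an equivalence of categories. -/
theorem result (A : Type u) [CommRing A] (I : Ideal A) [HenselianRing A I] :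
    (FEt.restrict (Spec.map (CommRingCat.ofHom (Ideal.Quotient.mk I)))).IsEquivalence := by
  set i := Spec.map (CommRingCat.ofHom (Ideal.Quotient.mk I))
  have hlift := (S17971.result A I).mp inferInstance
  have h1 : FEtCat.Full.ClopenInj i := fun Y W hW hp => by
    obtain ⟨U, -, hU⟩ := hlift Y.left Y.hom Y.prop.1 ∅ isClopen_empty
    exact (hU W ⟨hW, hp⟩).trans (hU ∅ ⟨isClopen_empty, Set.preimage_empty⟩).symm
  have h2 : FEtCat.Full.ClopenSurj i := fun Y W' hW' => by
    obtain ⟨U, hU, -⟩ := hlift Y.left Y.hom Y.prop.1 W' hW'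
    exact ⟨U, hU⟩
  obtain ⟨hfull, hfaith⟩ := FEtCat.Full.full_faithful i h1 h2
  have : (FEt.restrict i).EssSurj := ⟨fun Y => by
    have : IsFinite Y.hom := Y.prop.1
    have : Etale Y.hom := Y.prop.2
    let h : Y.left ⟶ Spec (CommRingCat.of (A ⧸ I)) := Y.hom
    have : IsAffine Y.left := isAffine_of_isAffineHom h
    let φ : CommRingCat.of (A ⧸ I) ⟶ Γ(Y.left, ⊤) := (Scheme.ΓSpecIso _).inv ≫ h.appTop
    have hYφ : h = Y.left.isoSpec.hom ≫ Spec.map φ := by
      simp only [φ, Scheme.isoSpec_hom, Spec.map_comp]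
      rw [← Scheme.toSpecΓ_naturality_assoc, ← SpecMap_ΓSpecIso_hom, ← Spec.map_comp, Iso.inv_hom_id, Spec.map_id, Category.comp_id]
    have hh : Spec.map φ = Y.left.isoSpec.inv ≫ h := by rw [hYφ, Iso.inv_hom_id_assoc]
    have hφ1 : IsFinite (Spec.map φ) := by rw [hh]; infer_instance
    have hφ2 : Etale (Spec.map φ) := by rw [hh]; infer_instance
    let := φ.hom.toAlgebra
    have : Module.Finite (A ⧸ I) Γ(Y.left, ⊤) := (IsFinite.SpecMap_iff φ).mp hφ1
    have : Algebra.Etale (A ⧸ I) Γ(Y.left, ⊤) :=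
      RingHom.etale_algebraMap.mp (HasRingHomProperty.Spec_iff (P := @Etale).mp hφ2)
    obtain ⟨B, _, _, hB1, hB2, ⟨e⟩⟩ := S0532.result A I Γ(Y.left, ⊤)
    have : IsFinite (Spec.map (CommRingCat.ofHom (algebraMap A B))) :=
      (IsFinite.SpecMap_iff (f := CommRingCat.ofHom (algebraMap A B))).mpr (RingHom.finite_algebraMap.mpr hB1)
    have : Etale (Spec.map (CommRingCat.ofHom (algebraMap A B))) :=
      HasRingHomProperty.Spec_iff (P := @Etale).mpr (RingHom.etale_algebraMap.mpr hB2)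
    let c := TensorProduct.comm A B (A ⧸ I)
    let e' : TensorProduct A B (A ⧸ I) ≃+* Γ(Y.left, ⊤) :=
      (Algebra.TensorProduct.comm A B (A ⧸ I)).toRingEquiv.trans e.toRingEquiv
    refine ⟨FEtCat.Basic.mk (Spec.map (CommRingCat.ofHom (algebraMap A B))),
      ⟨MorphismProperty.Over.isoMk (pullbackSpecIso A B (A ⧸ I) ≪≫
        Scheme.Spec.mapIso e'.symm.toCommRingCatIso.op ≪≫ Y.left.isoSpec.symm) ?_⟩⟩
    change _ = pullback.snd (Spec.map (CommRingCat.ofHom (algebraMap A B))) i
    refine Eq.trans (Category.assoc _ _ _) ?_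
    refine Eq.trans (congrArg ((pullbackSpecIso A B (A ⧸ I)).hom ≫ ·) ((Category.assoc _ _ _).trans
      (congrArg (_ ≫ ·) ((congrArg (Y.left.isoSpec.inv ≫ ·) hYφ).trans (Iso.inv_hom_id_assoc _ _))))) ?_
    refine Eq.trans (congrArg ((pullbackSpecIso A B (A ⧸ I)).hom ≫ ·) ?_)
      (pullbackSpecIso_hom_snd A B (A ⧸ I))
    change Spec.map _ ≫ Spec.map φ = _
    rw [← Spec.map_comp]
    congr 1
    refine CommRingCat.hom_ext (RingHom.ext fun x => ?_)
    change e'.symm (φ.hom x) = (1 : B) ⊗ₜ[A] (x : A ⧸ I)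
    apply e'.injective
    rw [RingEquiv.apply_symm_apply]
    exact (e.commutes x).symm⟩
  exact { }

end Groth.Agent.S0239
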