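import Groth.Statements.S0268
import Groth.Agent.FEtCat.Full
import Mathlib.AlgebraicGeometry.Morphisms.QuasiFinite
import Mathlib.Topology.JacobsonSpace

set_option autoImplicit false
universe u
open Pi1

namespace Groth.Agent.S0268

open AlgebraicGeometry CategoryTheory CategoryTheory.Limits in
theorem cover_fibre (k : Type u) [Field k] {X : Scheme.{u}} (f : X ⟶ Spec (CommRingCat.of k))
    [ConnectedSpace ↥(pullback f (Spec.map (CommRingCat.ofHom (algebraMap k (AlgebraicClosure k)))))]
    (Y : FEt.Cat (Spec (CommRingCat.of k))) (y : Y.left) :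
    _root_.IsConnected (pullback.fst Y.hom f ⁻¹' {y}) := by
  let ξ := Spec.map (CommRingCat.ofHom (algebraMap k (AlgebraicClosure k)))
  obtain ⟨⟨p, hp⟩, hpy⟩ := Groth.Agent.FEtCat.Count.exists_sec_apply_eq Y.hom ξ y (Subsingleton.elim (α := Spec (CommRingCat.of k)) _ _)
  have hrange : Set.range p = {y} := by
    ext z
    refine ⟨fun ⟨a, ha⟩ => ?_, fun hz => ⟨default, hpy.trans hz.symm⟩⟩
    rw [← ha, Subsingleton.elim a default, hpy]
    rfl
  let e : pullback p (pullback.fst Y.hom f) ≅ pullback f ξ :=
    pullbackRightPullbackFstIso Y.hom f p ≪≫ pullback.congrHom hp rfl ≪≫ pullbackSymmetry _ _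
  have : ConnectedSpace ↥(pullback p (pullback.fst Y.hom f)) :=
    e.symm.hom.homeomorph.surjective.connectedSpace e.symm.hom.continuous
  rw [← hrange, ← Scheme.Pullback.range_snd, ← Set.image_univ]
  exact isConnected_univ.image _ (pullback.snd p (pullback.fst Y.hom f)).continuous.continuousOn

open AlgebraicGeometry CategoryTheory CategoryTheory.Limits in
/-- Functor form of the surjectivity of pi_1(X) -> pi_1(Spec k): Let X be quasi-compact and
quasi-separated over a field k with X_{kbar} connected. Then the functor pulling back finite etale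
k-schemes to X is full and faithful. -/
theorem result (k : Type u) [Field k] {X : Scheme.{u}} (f : X ⟶ Spec (CommRingCat.of k)) [CompactSpace X]
    [QuasiSeparatedSpace X]
    [ConnectedSpace ↥(pullback f (Spec.map (CommRingCat.ofHom (algebraMap k (AlgebraicClosure k)))))] :
    (FEt.restrict f).Full ∧ (FEt.restrict f).Faithful := by
  obtain ⟨h₁, h₂⟩ := Groth.Agent.FEtCat.Full.clopen_of_isQuotientMap f fun Y => by
    have hc := cover_fibre k f Y
    have hs : Function.Surjective (pullback.fst Y.hom f) := fun y => (hc y).nonempty
    let π : Y.left ⟶ Spec (CommRingCat.of k) := Y.hom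
    have : IsFinite π := Y.prop.1
    have : JacobsonSpace Y.left := LocallyOfFiniteType.jacobsonSpace π
    have : Finite Y.left := by
      have h := π.finite_preimage_singleton default
      rw [show π ⁻¹' {default} = Set.univ from
        Set.eq_univ_of_forall fun y => Subsingleton.elim (π y) default] at h
      exact Set.finite_univ_iff.mp h
    have : DiscreteTopology Y.left := inferInstance
    have ho : IsOpenMap (pullback.fst Y.hom f) := fun s _ => isOpen_discrete (α := Y.left) _
    exact ⟨ho.isQuotientMap (pullback.fst Y.hom f).continuous hs, fun y => (hc y).isPreconnected⟩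
  exact Groth.Agent.FEtCat.Full.full_faithful f h₁ h₂

end Groth.Agent.S0268
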