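import Groth.Statements.S0263
import Groth.Agent.FEtCat.DepthTwo
import Groth.Agent.HartogsAffine.Basic
-- import your own Groth.Agent.* helpers here

set_option autoImplicit false
universe u
open Pi1

namespace Groth.Agent.S0263

set_option backward.isDefEq.respectTransparency.types false
set_option linter.style.haveILetI false


noncomputable section

open AlgebraicGeometry CategoryTheory CategoryTheory.Limits in
theorem bijective_appTop {X Z : Scheme.{u}} [IsAffine X] [IsLocallyNoetherian X] (q : Z ⟶ X) [IsOpenImmersion q]
    (h : ∀ x : X, x ∉ Set.range q → (2 : ℕ∞) ≤ LocCoh.depth (X.presheaf.stalk x) (X.presheaf.stalk x)) :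
    Function.Bijective q.appTop := by
  have hb := HartogsAffine.bijective_res q.opensRange h
  have hι : Function.Bijective q.opensRange.ι.appTop := by
    have hiso : IsIso (X.presheaf.map (homOfLE (le_top : q.opensRange ≤ ⊤)).op) :=
      (ConcreteCategory.isIso_iff_bijective _).mpr hb
    refine (ConcreteCategory.isIso_iff_bijective _).mp ?_
    have h1 : q.opensRange.ι.appTop ≫ q.opensRange.topIso.hom = X.presheaf.map (homOfLE (le_top : q.opensRange ≤ ⊤)).op := by
      rw [Scheme.Opens.ι_appTop]
      exact (X.presheaf.map_comp _ _).symm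
    rw [(Iso.eq_comp_inv q.opensRange.topIso).mpr h1]
    infer_instance
  have e : q.isoOpensRange.hom ≫ q.opensRange.ι = q := q.isoOpensRange_hom_ι
  rw [← e, Scheme.Hom.comp_appTop, ConcreteCategory.coe_comp]
  have hi : IsIso (Scheme.Hom.appTop q.isoOpensRange.hom) := Functor.map_isIso Scheme.Γ q.isoOpensRange.hom.op
  exact ((ConcreteCategory.isIso_iff_bijective _).mp hi).comp hι

open AlgebraicGeometry CategoryTheory CategoryTheory.Limits in
/-- Let A be a Noetherian local ring of depth at least 2 and V a finite étale cover of the punctured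
spectrum of A which is isomorphic to the restriction of some finite étale cover of Spec A. Then the
ring of global sections Γ(V, O_V) is finite and étale over A, via the ring map A → Γ(V, O_V) induced
by the composite V → Spec A. (Only this implication of the published statement is asserted here; its
converse is not.) -/
theorem result (A : Type u) [CommRing A] [IsNoetherianRing A] [IsLocalRing A] (hA : (2 : ℕ∞) ≤ LocCoh.depth A A)
    (V : FEt.Cat (FEt.puncturedSpec A : Scheme.{u}))
    (hV : ∃ Y : FEt.Cat (Spec (CommRingCat.of A)),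
      Nonempty ((FEt.restrict (FEt.puncturedSpec A).ι).obj Y ≅ V)) :
    ((Scheme.ΓSpecIso (CommRingCat.of A)).inv ≫ (V.hom ≫ (FEt.puncturedSpec A).ι).appTop).hom.Finite ∧
    ((Scheme.ΓSpecIso (CommRingCat.of A)).inv ≫ (V.hom ≫ (FEt.puncturedSpec A).ι).appTop).hom.Etale := by
  obtain ⟨Y, ⟨e⟩⟩ := hV
  have : IsAffine Y.left := isAffine_of_isAffineHom (Y := Spec (CommRingCat.of A)) Y.hom
  have : IsLocallyNoetherian Y.left :=
    LocallyOfFiniteType.isLocallyNoetherian (Y := Spec (CommRingCat.of A)) Y.hom
  let q : V.left ⟶ Y.left := e.inv.left ≫ pullback.fst Y.hom (FEt.puncturedSpec A).ι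
  have : IsIso e.inv.left := FEtCat.Basic.isIso_left e.inv
  have hq : V.hom ≫ (FEt.puncturedSpec A).ι = q ≫ Y.hom := by
    rw [← MorphismProperty.Over.w e.inv, Category.assoc, Category.assoc]
    exact congrArg (e.inv.left ≫ ·) pullback.condition.symm
  have : IsOpenImmersion q := @IsOpenImmersion.comp _ _ _ e.inv.left (pullback.fst Y.hom (FEt.puncturedSpec A).ι) inferInstance (MorphismProperty.pullback_fst (P := @IsOpenImmersion) (f := Y.hom) (g := (FEt.puncturedSpec A).ι) inferInstance)
  have hb : Function.Bijective q.appTop := by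
    refine bijective_appTop q fun y hy => ?_
    refine le_trans ?_ (FEtCat.DepthTwo.depth_stalk (X := Spec (CommRingCat.of A)) Y.hom y).ge
    have hx : Y.hom y = IsLocalRing.closedPoint A := by_contra fun hne => hy (by
      have : y ∈ Set.range (pullback.fst Y.hom (FEt.puncturedSpec A).ι) := by
        rw [Scheme.Pullback.range_fst, Scheme.Opens.range_ι]; exact hne
      obtain ⟨z, rfl⟩ := this
      exact ⟨e.hom.left z, by
        have h1 : e.hom.left ≫ e.inv.left = 𝟙 _ := congrArg (·.left) e.hom_inv_id
        have h2 : e.hom.left ≫ q = pullback.fst Y.hom (FEt.puncturedSpec A).ι :=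
          (Category.assoc _ _ _).symm.trans ((congrArg (· ≫ pullback.fst Y.hom (FEt.puncturedSpec A).ι) h1).trans (Category.id_comp _))
        exact (Scheme.Hom.comp_apply e.hom.left q z).symm.trans (congrArg (fun t => t z) h2)⟩)
    rw [hx]
    let S := (Spec (CommRingCat.of A)).presheaf.stalk (IsLocalRing.closedPoint A)
    letI : Algebra A S := inferInstanceAs (Algebra A ((Spec.structureSheaf A).presheaf.stalk _))
    have : IsLocalization.AtPrime S (IsLocalRing.maximalIdeal A) :=
      inferInstanceAs (IsLocalization.AtPrime ((Spec.structureSheaf A).presheaf.stalk _) (IsLocalRing.closedPoint A).asIdeal)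
    have : Module.Flat A S := IsLocalization.flat S (IsLocalRing.maximalIdeal A).primeCompl
    have : IsLocalHom (algebraMap A S) := ⟨fun a ha =>
      by_contra fun h => ((IsLocalization.AtPrime.isUnit_to_map_iff S (IsLocalRing.maximalIdeal A) a).mp ha) h⟩
    rw [Hensel.UnramifiedFlat.depth_eq A S (IsLocalization.AtPrime.map_eq_maximalIdeal (IsLocalRing.maximalIdeal A) S)]
    exact hA
  rw [hq, Scheme.Hom.comp_appTop, CommRingCat.hom_comp, CommRingCat.hom_comp]
  let ε := (RingEquiv.ofBijective q.appTop.hom hb)
  let δ := (Scheme.ΓSpecIso (CommRingCat.of A)).symm.commRingCatIsoToRingEquiv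
  refine ⟨?_, ?_⟩
  · exact ((RingHom.Finite.of_surjective q.appTop.hom hb.2).comp (@Scheme.Hom.finite_appTop Y.left (Spec (CommRingCat.of A)) Y.hom _ Y.prop.1)).comp
      (RingHom.Finite.of_surjective _ δ.surjective)
  · exact RingHom.Etale.respectsIso.2 _ δ (RingHom.Etale.respectsIso.1 _ ε
      (HasRingHomProperty.appTop @Etale (X := Y.left) (Y := Spec (CommRingCat.of A)) Y.hom Y.prop.2))

end

end Groth.Agent.S0263
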