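import Groth.Statements.S10837
import Mathlib.AlgebraicGeometry.AffineScheme
import Mathlib.RingTheory.Spectrum.Prime.Topology
-- import your own Groth.Agent.* helpers here

set_option autoImplicit false
universe u
open CategoryTheory AlgebraicGeometry Topology
open Mor

namespace Groth.Agent.S10837

/-- For a morphism of schemes f : X → Y which is open as a map of topological spaces, generalizations
lift along f: every generalization of f(x) is the image of a generalization of x. -/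
theorem result {X Y : Scheme.{u}} (f : X ⟶ Y) (hf : IsOpenMap f.base) :
    GeneralizingMap f.base := by
  intro x y' hy'
  obtain ⟨V, hV, hxV, -⟩ := TopologicalSpace.Opens.isBasis_iff_nbhd.mp Y.isBasis_affineOpens
    (TopologicalSpace.Opens.mem_top (f.base x))
  obtain ⟨U, hU, hxU, e⟩ := TopologicalSpace.Opens.isBasis_iff_nbhd.mp X.isBasis_affineOpens
    (show x ∈ f ⁻¹ᵁ V from hxV)
  have hy'V : y' ∈ V := hy'.mem_open V.2 hxV
  set φ := (f.appLE V U e).hom with hφ
  set q := (hU.primeIdealOf ⟨x, hxU⟩).asIdeal with hq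
  set p := (hV.primeIdealOf ⟨y', hy'V⟩).asIdeal with hp
  let M : Submonoid Γ(X, U) := q.primeCompl ⊔ p.primeCompl.map φ
  have hdisj : Disjoint (Ideal.map φ p : Set Γ(X, U)) (M : Set Γ(X, U)) := by
    rw [Set.disjoint_left]
    intro m hmI hmM
    obtain ⟨g, hg, t, ht, rfl⟩ := Submonoid.mem_sup.mp hmM
    obtain ⟨s, hs, rfl⟩ := ht
    have hxg : x ∈ X.basicOpen g := by
      have h1 : hU.fromSpec (hU.primeIdealOf ⟨x, hxU⟩) = x := hU.fromSpec_primeIdealOf _
      have h2 : hU.primeIdealOf ⟨x, hxU⟩ ∈ PrimeSpectrum.basicOpen g := hg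
      rw [← hU.fromSpec_preimage_basicOpen g] at h2
      have h3 : hU.fromSpec (hU.primeIdealOf ⟨x, hxU⟩) ∈ X.basicOpen g := h2
      rwa [h1] at h3
    have hopen : IsOpen (f.base '' (X.basicOpen g : Set X)) := hf _ (X.basicOpen g).2
    obtain ⟨x'', hx'', hfx''⟩ := hy'.mem_open hopen ⟨x, hxg, rfl⟩
    have hx''U : x'' ∈ U := X.basicOpen_le g hx''
    have e1 := IsAffineOpen.comap_primeIdealOf_appLE V hV U hU (f := f) e hx''U
    have e2 : hV.primeIdealOf ⟨f x'', e hx''U⟩ = hV.primeIdealOf ⟨y', hy'V⟩ :=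
      congrArg hV.primeIdealOf (Subtype.ext hfx'')
    have e3 : (hU.primeIdealOf ⟨x'', hx''U⟩).asIdeal.comap φ = p :=
      congrArg PrimeSpectrum.asIdeal (e1.trans e2)
    have hg'' : g ∉ (hU.primeIdealOf ⟨x'', hx''U⟩).asIdeal := by
      have h3 : hU.fromSpec (hU.primeIdealOf ⟨x'', hx''U⟩) ∈ X.basicOpen g := by
        rwa [hU.fromSpec_primeIdealOf]
      have h4 : hU.primeIdealOf ⟨x'', hx''U⟩ ∈ hU.fromSpec ⁻¹ᵁ X.basicOpen g := h3
      rw [hU.fromSpec_preimage_basicOpen g] at h4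
      exact h4
    have hle : Ideal.map φ p ≤ (hU.primeIdealOf ⟨x'', hx''U⟩).asIdeal := by
      rw [Ideal.map_le_iff_le_comap, e3]
    rcases (hU.primeIdealOf ⟨x'', hx''U⟩).isPrime.mem_or_mem (hle hmI) with h | h
    · exact hg'' h
    · exact hs (e3 ▸ h : s ∈ p)
  obtain ⟨q', hq'prime, hq'I, hq'M⟩ := Ideal.exists_le_prime_disjoint _ M hdisj
  have hcomap : q'.comap φ = p := by
    refine le_antisymm (fun a ha => ?_) (fun a ha => hq'I (Ideal.mem_map_of_mem _ ha))
    by_contra hap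
    exact Set.disjoint_left.mp hq'M ha (Submonoid.mem_sup_right ⟨a, hap, rfl⟩)
  have hq'q : q' ≤ q := fun a ha => by
    by_contra haq
    exact Set.disjoint_left.mp hq'M ha (Submonoid.mem_sup_left haq)
  let P' : PrimeSpectrum Γ(X, U) := ⟨q', hq'prime⟩
  refine ⟨hU.fromSpec P', ?_, ?_⟩
  · have hs : P' ⤳ hU.primeIdealOf ⟨x, hxU⟩ := (PrimeSpectrum.le_iff_specializes _ _).mp hq'q
    have := hs.map hU.fromSpec.continuous
    rwa [hU.fromSpec_primeIdealOf] at this
  · have h1 : hV.fromSpec (Spec.map (f.appLE V U e) P') = f (hU.fromSpec P') := by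
      exact congrArg (fun ψ : Spec Γ(X, U) ⟶ Y => ψ P') (IsAffineOpen.SpecMap_appLE_fromSpec f hV hU e)
    have h2 : Spec.map (f.appLE V U e) P' = hV.primeIdealOf ⟨y', hy'V⟩ := PrimeSpectrum.ext hcomap
    rw [h2, hV.fromSpec_primeIdealOf] at h1
    exact h1.symm

end Groth.Agent.S10837
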