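import Groth.Statements.S2916
import Groth.Agent.SGA1Misc.EtaleSection
-- import your own Groth.Agent.* helpers here

set_option autoImplicit false
set_option linter.style.haveILetI false
open CategoryTheory CategoryTheory.Limits AlgebraicGeometry Opposite
universe u
open SGA1

namespace Groth.Agent.S2916

open CategoryTheory CategoryTheory.Limits AlgebraicGeometry Topology

/-- The fibres of a morphism with geometrically connected fibres are connected. -/
theorem isConnected_preimage {S' S : Scheme.{u}} (g : S' ⟶ S)
    (hconn : ∀ (K : Type u) [Field K] [IsAlgClosed K] (ξ : Spec (CommRingCat.of K) ⟶ S),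
      ConnectedSpace ↑(pullback g ξ)) (s : S) : _root_.IsConnected (g ⁻¹' {s}) := by
  let K := AlgebraicClosure (S.residueField s)
  let ξ : Spec (CommRingCat.of K) ⟶ S :=
    Spec.map (CommRingCat.ofHom (algebraMap (S.residueField s) K)) ≫ S.fromSpecResidueField s
  haveI := hconn K ξ
  have hr : Set.range (pullback.fst g ξ) = g ⁻¹' Set.range ξ := Scheme.Pullback.range_fst g ξ
  have hξ : Set.range ξ = {s} := by
    refine Set.eq_singleton_iff_nonempty_unique_mem.2 ⟨Set.range_nonempty _, ?_⟩
    rintro _ ⟨x, rfl⟩
    rw [Scheme.Hom.comp_apply]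
    exact Scheme.fromSpecResidueField_apply _ _
  rw [← hξ, ← hr]
  exact isConnected_range (pullback.fst g ξ).continuous

theorem locallyQuasiFinite_of_etale {X Y : Scheme.{u}} (f : X ⟶ Y) [Etale f] : LocallyQuasiFinite f := by
  refine ⟨fun {U} hU {V} hV e => ?_⟩
  have h := HasRingHomProperty.appLE @Etale f ‹_› ⟨U, hU⟩ ⟨V, hV⟩ e
  algebraize [(f.appLE U V e).hom]
  exact RingHom.quasiFinite_algebraMap.2 inferInstance

/-- A morphism into an étale scheme descends along a universally submersive morphism with geometrically
connected fibres: it satisfies the cocycle condition. -/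
theorem fst_comp_eq_snd_comp {X' X Z : Scheme.{u}} (h : X' ⟶ X) (π : Z ⟶ X) [Etale π]
    (hconn : ∀ (K : Type u) [Field K] [IsAlgClosed K] (ξ : Spec (CommRingCat.of K) ⟶ X),
      ConnectedSpace ↑(pullback h ξ)) (s : X' ⟶ Z) (hs : s ≫ π = h) :
    pullback.fst h h ≫ s = pullback.snd h h ≫ s := by
  let u₁ := pullback.fst h h ≫ s
  let u₂ := pullback.snd h h ≫ s
  have huv : u₁ ≫ π = u₂ ≫ π := by simp only [u₁, u₂, Category.assoc, hs, pullback.condition]
  have key : ∀ (K : Type u) [Field K] [IsAlgClosed K] (r : Spec (CommRingCat.of K) ⟶ pullback h h),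
      r ≫ u₁ = r ≫ u₂ := by
    intro K _ _ r
    let ξ := r ≫ pullback.fst h h ≫ h
    haveI := hconn K ξ
    haveI : Etale (pullback.snd π ξ) := MorphismProperty.pullback_snd _ _ inferInstance
    haveI : DiscreteTopology ↥(pullback π ξ) := by
      haveI := locallyQuasiFinite_of_etale (pullback.snd π ξ)
      have hd := (pullback.snd π ξ).isDiscrete_preimage_singleton (IsLocalRing.closedPoint K)
      exact isDiscrete_univ_iff.1 (hd.mono fun z _ => Subsingleton.elim (α := PrimeSpectrum K) _ _)
    let S₀ : pullback h ξ ⟶ pullback π ξ :=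
      pullback.lift (pullback.fst h ξ ≫ s) (pullback.snd h ξ) (by rw [Category.assoc, hs, pullback.condition])
    let a : Spec (CommRingCat.of K) ⟶ pullback h ξ :=
      pullback.lift (r ≫ pullback.fst h h) (𝟙 _) (by simp [ξ])
    let b : Spec (CommRingCat.of K) ⟶ pullback h ξ :=
      pullback.lift (r ≫ pullback.snd h h) (𝟙 _) (by simp [ξ, pullback.condition])
    let σ₁ := a ≫ S₀
    let σ₂ := b ≫ S₀
    have hσ₁ : σ₁ ≫ pullback.snd π ξ = 𝟙 _ := by
      simp only [σ₁, a, S₀, Category.assoc]
      erw [pullback.lift_snd, pullback.lift_snd]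
    have hσ₂ : σ₂ ≫ pullback.snd π ξ = 𝟙 _ := by
      simp only [σ₂, b, S₀, Category.assoc]
      erw [pullback.lift_snd, pullback.lift_snd]
    have hpt : σ₁ (IsLocalRing.closedPoint K) = σ₂ (IsLocalRing.closedPoint K) :=
      PreconnectedSpace.constant (inferInstanceAs (PreconnectedSpace ↥(pullback h ξ)))
        S₀.continuous
    haveI : Etale (σ₁ ≫ pullback.snd π ξ) := by rw [hσ₁]; infer_instance
    haveI : Etale σ₁ := Etale.of_comp σ₁ (pullback.snd π ξ)
    haveI : IsSplitMono σ₁ := ⟨⟨pullback.snd π ξ, hσ₁⟩⟩
    haveI : IsOpenImmersion σ₁ := IsOpenImmersion.of_flat_of_mono σ₁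
    have hsub : Set.range σ₂ ⊆ Set.range σ₁ := by
      rintro _ ⟨x, rfl⟩
      exact ⟨IsLocalRing.closedPoint K, by rw [Subsingleton.elim x (IsLocalRing.closedPoint K)]; exact hpt⟩
    have hl := IsOpenImmersion.lift_fac σ₁ σ₂ hsub
    have hid : IsOpenImmersion.lift σ₁ σ₂ hsub = 𝟙 _ := by
      have := congrArg (· ≫ pullback.snd π ξ) hl
      rw [Category.assoc, hσ₁, hσ₂, Category.comp_id] at this
      exact this
    rw [hid, Category.id_comp] at hl
    have := congrArg (· ≫ pullback.fst π ξ) hl
    simp only [σ₁, σ₂, a, b, S₀, Category.assoc] at this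
    erw [pullback.lift_fst, pullback.lift_fst_assoc, pullback.lift_fst_assoc] at this
    simpa [u₁, u₂] using this
  let l : pullback h h ⟶ pullback π π := pullback.lift u₁ u₂ huv
  let e := pullback.fst l (pullback.diagonal π)
  haveI : IsOpenImmersion e :=
    MorphismProperty.pullback_fst _ _ (inferInstanceAs (IsOpenImmersion (pullback.diagonal π)))
  haveI : Surjective e := ⟨fun z => by
    let K := AlgebraicClosure ((pullback h h).residueField z)
    let r : Spec (CommRingCat.of K) ⟶ pullback h h :=
      Spec.map (CommRingCat.ofHom (algebraMap ((pullback h h).residueField z) K)) ≫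
        (pullback h h).fromSpecResidueField z
    let a : Spec (CommRingCat.of K) ⟶ pullback l (pullback.diagonal π) := pullback.lift r (r ≫ u₁) (by
      apply pullback.hom_ext
      · simp only [l, Category.assoc]
        erw [pullback.lift_fst, pullback.diagonal_fst, Category.comp_id]
      · simp only [l, Category.assoc]
        erw [pullback.lift_snd, pullback.diagonal_snd, Category.comp_id]
        exact (key K r).symm)
    refine ⟨a (IsLocalRing.closedPoint K), ?_⟩
    rw [← Scheme.Hom.comp_apply, pullback.lift_fst, Scheme.Hom.comp_apply]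
    exact Scheme.fromSpecResidueField_apply _ _⟩
  haveI : IsIso e := (isIso_iff_isOpenImmersion_and_surjective e).2 ⟨‹_›, ‹_›⟩
  show u₁ = u₂
  rw [← cancel_epi e]
  have c := pullback.condition (f := l) (g := pullback.diagonal π)
  have c1 := congrArg (· ≫ pullback.fst π π) c
  have c2 := congrArg (· ≫ pullback.snd π π) c
  simp only [l, Category.assoc, pullback.lift_fst, pullback.lift_snd, pullback.diagonal_fst,
    pullback.diagonal_snd, Category.comp_id] at c1 c2
  exact c1.trans c2.symm

/-- Let g : S' ⟶ S be universally submersive with geometrically connected fibres (the base change of S'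
to any algebraically closed field valued point of S is connected). Then S' is connected whenever S
is, and for schemes X, Y etale over S every S'-morphism between their base changes comes from
exactly one S-morphism X ⟶ Y. -/
theorem result {S' S : Scheme.{u}} (g : S' ⟶ S)
    (hg : SGA1.UnivSubmersive g)
    (hconn : ∀ (K : Type u) [Field K] [IsAlgClosed K] (ξ : Spec (CommRingCat.of K) ⟶ S), ConnectedSpace ↑(pullback g ξ)) :
    (ConnectedSpace S → ConnectedSpace S') ∧
    ∀ (X Y : Over S) [Etale X.hom] [Etale Y.hom], Function.Bijective ((Over.pullback g).map : (X ⟶ Y) → _) := by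
  have hgq := SGA1Misc.univSubmersive_isQuotientMap hg
  refine ⟨fun hS => connectedSpace_iff_clopen.2 ⟨?_, fun A hA => ?_⟩, fun X Y _ _ => ?_⟩
  · obtain ⟨s⟩ := hS.toNonempty
    exact ⟨(hgq.surjective s).choose⟩
  · have hsat : g ⁻¹' (g '' A) = A := by
      refine subset_antisymm ?_ (Set.subset_preimage_image _ _)
      rintro a ⟨b, hb, hab⟩
      exact (isConnected_preimage g hconn (g a)).isPreconnected.subset_isClopen hA ⟨b, hab, hb⟩ rfl
    have hcl : IsClopen (g '' A) :=
      ⟨hgq.isClosed_preimage.1 (by rw [hsat]; exact hA.1), hgq.isOpen_preimage.1 (by rw [hsat]; exact hA.2)⟩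
    rcases isClopen_iff.1 hcl with h | h
    · exact Or.inl (Set.image_eq_empty.1 h)
    · exact Or.inr (by rw [← hsat, h, Set.preimage_univ])
  · -- the base change `h` of `g` to `X`
    let h := pullback.fst X.hom g
    have hh : SGA1.UnivSubmersive h :=
      (MorphismProperty.universally_isStableUnderBaseChange (P := AlgebraicGeometry.topologically fun f => Topology.IsQuotientMap f)).of_isPullback (IsPullback.of_hasPullback X.hom g).flip hg
    haveI : Surjective h := SGA1Misc.univSubmersive_surjective hh
    constructor
    · intro k₁ k₂ hk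
      apply Over.OverMorphism.ext
      refine SGA1Misc.eq_of_surjective_comp_eq Y.hom k₁.left k₂.left (by rw [Over.w k₁, Over.w k₂]) h ?_
      have := congrArg (fun m => m.left ≫ pullback.fst Y.hom g) hk
      simp only [Over.pullback_map_left] at this
      erw [pullback.lift_fst, pullback.lift_fst] at this
      exact this
    · intro m
      let s₀ := m.left ≫ pullback.fst Y.hom g
      have hs₀ : s₀ ≫ Y.hom = h ≫ X.hom := by
        have hw : m.left ≫ pullback.snd Y.hom g = pullback.snd X.hom g := Over.w m
        simp only [s₀, h, Category.assoc, pullback.condition, reassoc_of% hw]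
      let π := pullback.fst X.hom Y.hom
      haveI : Etale π := MorphismProperty.pullback_fst _ _ inferInstance
      let s' := pullback.lift h s₀ hs₀.symm
      have hs' : s' ≫ π = h := pullback.lift_fst _ _ _
      have hc := fst_comp_eq_snd_comp h π (fun K _ _ ξ => by
        haveI := hconn K (ξ ≫ X.hom)
        exact (((IsPullback.of_hasPullback h ξ).paste_horiz
          (IsPullback.of_hasPullback X.hom g).flip).isoPullback.symm.hom.homeomorph.surjective.connectedSpace
            (Scheme.Hom.continuous _))) s' hs'
      obtain ⟨σ, hσ, hσ'⟩ := SGA1Misc.exists_section_of_univSubmersive π h hh s' hs' hc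
      refine ⟨Over.homMk (σ ≫ pullback.snd X.hom Y.hom) (by
        rw [Category.assoc, ← pullback.condition, reassoc_of% hσ]), ?_⟩
      apply Over.OverMorphism.ext
      apply pullback.hom_ext
      · have : h ≫ σ ≫ pullback.snd X.hom Y.hom = s₀ := by rw [reassoc_of% hσ', pullback.lift_snd]
        simp only [Over.pullback_map_left, Over.homMk_left]
        erw [pullback.lift_fst]
        exact this
      · have hw : m.left ≫ pullback.snd Y.hom g = pullback.snd X.hom g := Over.w m
        simp only [Over.pullback_map_left, Over.homMk_left]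
        erw [pullback.lift_snd]
        exact hw.symm

end Groth.Agent.S2916
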