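import Groth.Statements.S7181
import Groth.Agent.PinchLib.StdPushout
import Groth.Agent.FlatMisc.PushoutCovers

set_option autoImplicit false
universe u
open FlatMor

namespace Groth.Agent.S7181

open AlgebraicGeometry CategoryTheory Limits in
/-- The diagonal restricted to a piece. -/
theorem comp_diagonal_eq {W P S : Scheme.{u}} (c : W ⟶ P) (r : P ⟶ S) :
    c ≫ pullback.diagonal r = pullback.diagonal (c ≫ r) ≫
      pullback.map (c ≫ r) (c ≫ r) r r c c (𝟙 S) (Category.comp_id _) (Category.comp_id _) := by
  apply pullback.hom_ext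
  · rw [Category.assoc, pullback.diagonal_fst, Category.comp_id, Category.assoc]
    simp only [pullback.map]
    erw [pullback.lift_fst, pullback.diagonal_fst_assoc]
  · rw [Category.assoc, pullback.diagonal_snd, Category.comp_id, Category.assoc]
    simp only [pullback.map]
    erw [pullback.lift_snd, pullback.diagonal_snd_assoc]

open AlgebraicGeometry CategoryTheory Limits in
/-- The square of an integral piece is integral. -/
theorem integral_map {W P S : Scheme.{u}} (c : W ⟶ P) [IsIntegralHom c] (r : P ⟶ S) :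
    IsIntegralHom (pullback.map (c ≫ r) (c ≫ r) r r c c (𝟙 S) (Category.comp_id _) (Category.comp_id _)) :=
  MorphismProperty.pullback_map (P := @IsIntegralHom) inferInstance inferInstance rfl rfl

open AlgebraicGeometry CategoryTheory Limits in
/-- In the pushout P = Y ⨿_Z X of a closed immersion i : Z → X and an integral morphism j : Z → Y over a
base S (each fibre of j contained in the preimage of an affine open of X), if X and Y are separated
(resp. quasi-separated) over S then so is P. -/
theorem result {X Y Z P S : Scheme.{u}} (i : Z ⟶ X) (j : Z ⟶ Y) [IsClosedImmersion i] [IsIntegralHom j]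
    (haff : ∀ y : Y, ∃ U : X.Opens, IsAffineOpen U ∧ j ⁻¹' {y} ⊆ (i ⁻¹ᵁ U : Set ↑Z))
    (a : X ⟶ P) (b : Y ⟶ P) (hP : IsPushout i j a b) (p : X ⟶ S) (q : Y ⟶ S) (r : P ⟶ S)
    (hp : a ≫ r = p) (hq : b ≫ r = q) :
    ((IsSeparated p ∧ IsSeparated q) → IsSeparated r) ∧ ((QuasiSeparated p ∧ QuasiSeparated q) → QuasiSeparated r) := by
  have hc : ∀ y : Y, ∃ (U : X.Opens) (V : Y.Opens), IsAffineOpen U ∧ IsAffineOpen V ∧ y ∈ V ∧
      i ⁻¹ᵁ U = j ⁻¹ᵁ V := fun y => by
    obtain ⟨U, hU, hsub⟩ := haff y
    exact FlatMisc.PushoutCovers.exists_cover_integral i j y hU hsub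
  obtain ⟨-, hb, ha, hs⟩ := PinchLib.StdPushout.props i j hc hP
  subst hp hq
  haveI := hb
  haveI := ha
  refine ⟨fun ⟨h1, h2⟩ => ?_, fun ⟨h1, h2⟩ => ?_⟩
  · refine ⟨IsClosedImmersion.of_isPreimmersion _ ?_⟩
    have e : Set.range (pullback.diagonal r) =
        Set.range (a ≫ pullback.diagonal r) ∪ Set.range (b ≫ pullback.diagonal r) := by
      ext w
      constructor
      · rintro ⟨z, rfl⟩
        rcases hs z with ⟨x, rfl⟩ | ⟨x, rfl⟩
        · exact Or.inl ⟨x, rfl⟩
        · exact Or.inr ⟨x, rfl⟩
      · rintro (⟨x, rfl⟩ | ⟨x, rfl⟩) <;> exact ⟨_, rfl⟩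
    rw [e, comp_diagonal_eq a r, comp_diagonal_eq b r]
    haveI := integral_map a r
    haveI := integral_map b r
    exact (Scheme.Hom.isClosedMap _).isClosed_range.union (Scheme.Hom.isClosedMap _).isClosed_range
  · haveI := integral_map a r
    haveI := integral_map b r
    haveI : QuasiCompact (a ≫ pullback.diagonal r) := by rw [comp_diagonal_eq]; infer_instance
    haveI : QuasiCompact (b ≫ pullback.diagonal r) := by rw [comp_diagonal_eq]; infer_instance
    exact ⟨PinchLib.StdPushout.quasiCompact a b hs (pullback.diagonal r)⟩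

end Groth.Agent.S7181
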