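import Groth.Statements.S7683
import Groth.Agent.BCPoint.Local
import Groth.Agent.BCPoint.Delta
import Groth.Agent.Curv2Norm.Branches
import Groth.Agent.RedNorm.Nagata
import Groth.Agent.FBase.BC
import Groth.Agent.S0566
import Groth.Agent.S4710
-- import your own Groth.Agent.* helpers here

set_option autoImplicit false
universe u
open CategoryTheory CategoryTheory.Limits AlgebraicGeometry
open Variety
open scoped TensorProduct

namespace Groth.Agent.S7683

open scoped TensorProduct in
theorem isReduced_tensor (k A K : Type u) [Field k] [CommRing A] [Algebra k A] [Field K] [Algebra k K]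
    [Algebra.IsGeometricallyReduced k A] : _root_.IsReduced (A ⊗[k] K) := by
  haveI : _root_.IsReduced (K ⊗[k] A) :=
    Groth.Agent.FBase.TensorAlgClosed.isReduced_tensor_of_isGeometricallyReduced
  exact isReduced_of_injective _ (Algebra.TensorProduct.comm k A K).injective

/-- A field is Nagata. -/
theorem isNagata_field (F : Type u) [Field F] : CAlg.IsNagata F := by
  refine ⟨inferInstance, fun p hp => ?_⟩
  obtain rfl : p = ⊥ := (Ideal.eq_bot_or_top p).resolve_right hp.ne_top
  intro L _ _ _ _ _
  haveI : Module.Finite (F ⧸ (⊥ : Ideal F)) (FractionRing (F ⧸ (⊥ : Ideal F))) := by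
    refine Module.Finite.of_surjective (Algebra.linearMap _ _) fun z => ?_
    obtain ⟨a, b, hb, rfl⟩ := IsFractionRing.div_surjective (A := F ⧸ (⊥ : Ideal F)) z
    haveI : (⊥ : Ideal F).IsMaximal := Ideal.bot_isMaximal
    obtain ⟨c, hc⟩ := ((Ideal.Quotient.maximal_ideal_iff_isField_quotient _).mp ‹_›).mul_inv_cancel
      (nonZeroDivisors.ne_zero hb)
    refine ⟨a * c, ?_⟩
    have hb0 : algebraMap (F ⧸ (⊥ : Ideal F)) (FractionRing (F ⧸ (⊥ : Ideal F))) b ≠ 0 := fun h =>
      nonZeroDivisors.ne_zero hb (IsFractionRing.injective _ _ (by rw [h, map_zero]))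
    rw [Algebra.linearMap_apply, eq_div_iff hb0, ← map_mul, mul_assoc, mul_comm c b, hc, mul_one]
  haveI : Module.Finite (F ⧸ (⊥ : Ideal F)) L :=
    Module.Finite.trans (FractionRing (F ⧸ (⊥ : Ideal F))) L
  haveI : IsNoetherianRing (F ⧸ (⊥ : Ideal F)) := Ideal.Quotient.isNoetherianRing _
  exact Module.Finite.of_injective (integralClosure (F ⧸ (⊥ : Ideal F)) L).val.toLinearMap Subtype.val_injective

attribute [local instance] Curv2.stalkAlgebra Curv2.resAlgebra

open scoped TensorProduct in
/-- The normalization of a local ring of an integral scheme of finite type over a field is finite. -/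
theorem finite_normalization (k : Type u) [Field k] (X : Scheme.{u}) [X.Over (Spec (CommRingCat.of k))]
    [IsIntegral X] [LocallyOfFiniteType (X ↘ (Spec (CommRingCat.of k)))] (x : X) :
    Module.Finite (X.presheaf.stalk x) (integralClosure (X.presheaf.stalk x) (FractionRing (X.presheaf.stalk x))) := by
  obtain ⟨U, hU, hxU, -⟩ := exists_isAffineOpen_mem_and_subset (x := x) (U := ⊤) trivial
  letI := Groth.Agent.VarDim.secAlgebra k X U
  haveI := Groth.Agent.VarDim.finiteType_sections k hU
  haveI : Nonempty U := ⟨⟨x, hxU⟩⟩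
  letI := X.presheaf.algebra_section_stalk ⟨x, hxU⟩
  haveI := hU.isLocalization_stalk ⟨x, hxU⟩
  set p := (hU.primeIdealOf ⟨x, hxU⟩).asIdeal
  have hN : CAlg.IsNagata (Localization p.primeCompl) :=
    Groth.Agent.S4710.result _ (Groth.Agent.S0566.result k (isNagata_field k) Γ(X, U)) _
  let e : Localization p.primeCompl ≃+* X.presheaf.stalk x :=
    (IsLocalization.algEquiv p.primeCompl (Localization p.primeCompl) (X.presheaf.stalk x)).toRingEquiv
  haveI : IsReduced (Localization p.primeCompl) := isReduced_of_injective e e.injective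
  exact Groth.Agent.RedNorm.finite_integralClosure_congr e
    (Groth.Agent.RedNorm.finite_integralClosure_of_isNagata _ hN)

/-- The residue field map of the normalization respects the maps from the base field. -/
theorem residueFieldMap_resMap (k : Type u) [Field k] (X Y : Scheme.{u}) [X.Over (Spec (CommRingCat.of k))]
    (f : Y ⟶ X) (z : Y) {x : X} (h : f.base z = x) (c : k) :
    letI : Y.Over (Spec (CommRingCat.of k)) := ⟨f ≫ (X ↘ (Spec (CommRingCat.of k)))⟩
    f.residueFieldMap z ((X.residueFieldCongr h.symm).hom (X.residue x (Curv2.stalkMap k X x c))) =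
      Curv2.resMap k Y z c := by
  subst h
  rw [Scheme.residueFieldCongr_refl]
  show f.residueFieldMap z (X.residue _ (Curv2.stalkMap k X _ c)) = _
  rw [← CommRingCat.comp_apply, Scheme.residue_residueFieldMap, CommRingCat.comp_apply]
  letI : Y.Over (Spec (CommRingCat.of k)) := ⟨f ≫ (X ↘ (Spec (CommRingCat.of k)))⟩
  show Y.residue z (f.stalkMap z (X.presheaf.germ ⊤ _ trivial _)) = Y.residue z (Y.presheaf.germ ⊤ z trivial _)
  erw [Scheme.Hom.germ_stalkMap_apply]
  rfl

/-- Let X be locally of finite type over a field k with normalization ν : X^ν → X, K/k a field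
extension, y ∈ X_K a point with image x ∈ X. Assume O_{X,x} is reduced of dimension one, κ(x')/k is
separable for every x' ∈ X^ν over x, and dim O_{X_K,y} = 1. Then the δ-invariant of X at x equals
the δ-invariant of X_K at y. (The published statement needs only O_{X,x} reduced; this row takes X
integral so that X^ν is the normalization of an integral scheme.) -/
theorem result (k : Type u) [Field k] (X : Scheme.{u}) [X.Over (Spec (CommRingCat.of k))]
    [IsIntegral X] [LocallyOfFiniteType (X ↘ (Spec (CommRingCat.of k)))]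
    [QuasiCompact (X.fromSpecStalk (genericPoint X))] [QuasiSeparated (X.fromSpecStalk (genericPoint X))]
    (K : Type u) [Field K] [Algebra k K] (y : ↥(Curv2.bc k X K))
    (hdx : ringKrullDim (X.presheaf.stalk ((Curv2.bcFst k X K).base y)) = 1)
    (hsep : letI : (Curv2.normalization X).Over (Spec (CommRingCat.of k)) :=
        ⟨Curv2.normalizationι X ≫ (X ↘ (Spec (CommRingCat.of k)))⟩
      ∀ x' : ↥(Curv2.normalization X), (Curv2.normalizationι X).base x' = (Curv2.bcFst k X K).base y →
        GeometricallyReduced (Spec.map (CommRingCat.ofHom (Curv2.resMap k (Curv2.normalization X) x'))))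
    (hdy : ringKrullDim ((Curv2.bc k X K).presheaf.stalk y) = 1) :
    Curv2.deltaInv (X.presheaf.stalk ((Curv2.bcFst k X K).base y)) =
      Curv2.deltaInv ((Curv2.bc k X K).presheaf.stalk y) := by
  obtain ⟨_, _⟩ := Groth.Agent.BCPoint.isNoetherianRing_stalk k X K y
  set x := (Curv2.bcFst k X K).base y with hxdef
  obtain ⟨U, hU, hxU, -⟩ := exists_isAffineOpen_mem_and_subset (x := x) (U := ⊤) trivial
  obtain ⟨β, hβ, hloc⟩ := Groth.Agent.Curv2Norm.exists_localization X hU hxU
  letI := β.toAlgebra
  haveI := hloc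
  obtain ⟨G, hG⟩ := Groth.Agent.Curv2Norm.exists_fibre_equiv_aux X hU hxU
    ((algebraMap (CAlg2.red (X.presheaf.stalk x)) (CAlg2.normRed (X.presheaf.stalk x))).comp
      (Ideal.Quotient.mk _))
    (RingHom.IsIntegral.trans _ _ (RingHom.isIntegral_of_surjective _ Ideal.Quotient.mk_surjective)
      (algebraMap_isIntegral_iff.mpr inferInstance))
    hβ
  obtain ⟨ε, hε⟩ := Groth.Agent.Curv2Norm.exists_normRed_equiv (X.presheaf.stalk x)
    (FractionRing (X.presheaf.stalk x))
  letI algkN : Algebra k (Groth.Agent.DeltaFlat.Nrm (X.presheaf.stalk x)) :=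
    ((algebraMap (X.presheaf.stalk x) _).comp (algebraMap k (X.presheaf.stalk x))).toAlgebra
  haveI : IsScalarTower k (X.presheaf.stalk x) (Groth.Agent.DeltaFlat.Nrm (X.presheaf.stalk x)) :=
    IsScalarTower.of_algebraMap_eq' rfl
  -- geometric reducedness of the residue fields of the normalization
  have hres : ∀ (M' : Ideal (Groth.Agent.DeltaFlat.Nrm (X.presheaf.stalk x))) [M'.IsMaximal],
      Algebra.IsGeometricallyReduced k (Groth.Agent.DeltaFlat.Nrm (X.presheaf.stalk x) ⧸ M') := by
    intro M' hM'
    haveI : (M'.comap ε.toRingHom).IsMaximal := Ideal.comap_isMaximal_of_surjective _ ε.surjective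
    obtain ⟨z, hz⟩ := G.surjective ⟨M'.comap ε.toRingHom, inferInstance⟩
    obtain ⟨e, he⟩ := hG z
    letI : (Curv2.normalization X).Over (Spec (CommRingCat.of k)) :=
      ⟨Curv2.normalizationι X ≫ (X ↘ (Spec (CommRingCat.of k)))⟩
    haveI : GeometricallyReduced (Spec.map (CommRingCat.ofHom
        (algebraMap k ((Curv2.normalization X).residueField z.1)))) := hsep z.1 z.2
    haveI := Groth.Agent.FBase.BC.isGeometricallyReduced_of_geometricallyReduced_specMap (k := k)
      ((Curv2.normalization X).residueField z.1)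
    have hker : M'.comap ε.toRingHom = (G z).asIdeal := by rw [hz]
    let e₁ : (CAlg2.normRed (X.presheaf.stalk x) ⧸ (G z).asIdeal) ≃+*
        (Groth.Agent.DeltaFlat.Nrm (X.presheaf.stalk x) ⧸ M') :=
      Ideal.quotientEquiv _ _ ε (by rw [← hker]; exact (Ideal.map_comap_of_surjective _ ε.surjective M').symm)
    let f : (Groth.Agent.DeltaFlat.Nrm (X.presheaf.stalk x) ⧸ M') →ₐ[k]
        (Curv2.normalization X).residueField z.1 :=
      { (e.toRingHom.comp e₁.symm.toRingHom) with
        commutes' := fun c => by
          show e (e₁.symm (Ideal.Quotient.mk M' (algebraMap (X.presheaf.stalk x) _ (algebraMap k (X.presheaf.stalk x) c)))) = _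
          rw [← hε, show e₁.symm (Ideal.Quotient.mk M' (ε _)) = Ideal.Quotient.mk (G z).asIdeal _ from
            e₁.symm_apply_eq.mpr rfl]
          refine (he (algebraMap k (X.presheaf.stalk x) c)).trans ?_
          exact residueFieldMap_resMap k X _ (Curv2.normalizationι X) z.1 z.2 c }
    exact Algebra.IsGeometricallyReduced.of_injective f (e.injective.comp e₁.symm.injective)
  haveI := finite_normalization k X x
  obtain ⟨M₀, hM₀⟩ := Ideal.exists_maximal (Groth.Agent.DeltaFlat.Nrm (X.presheaf.stalk x))
  -- `κ(x)` is geometrically reduced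
  haveI : Algebra.IsGeometricallyReduced k (X.residueField x) := by
    have hle : IsLocalRing.maximalIdeal (X.presheaf.stalk x) ≤
        M₀.comap (algebraMap (X.presheaf.stalk x) _) :=
      (IsLocalRing.eq_maximalIdeal (Ideal.isMaximal_comap_of_isIntegral_of_isMaximal M₀)).ge
    haveI := hres M₀
    let f : X.residueField x →ₐ[k] (Groth.Agent.DeltaFlat.Nrm (X.presheaf.stalk x) ⧸ M₀) :=
      { (Ideal.quotientMap M₀ (algebraMap (X.presheaf.stalk x) _) hle :
          X.residueField x →+* _) with
        commutes' := fun c => rfl }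
    haveI : Nontrivial (Groth.Agent.DeltaFlat.Nrm (X.presheaf.stalk x) ⧸ M₀) := Ideal.Quotient.nontrivial_iff.mpr hM₀.ne_top
    exact Algebra.IsGeometricallyReduced.of_injective f f.toRingHom.injective
  have hred : _root_.IsReduced (X.residueField x ⊗[k] K) :=
    isReduced_tensor k _ K
  have hm := Groth.Agent.BCPoint.map_maximalIdeal_eq k X K y (hdx.trans hdy.symm) hred
  letI : Algebra (X.presheaf.stalk x) ((Curv2.bc k X K).presheaf.stalk y) :=
    ((Curv2.bcFst k X K).stalkMap y).hom.toAlgebra
  haveI : Module.Flat (X.presheaf.stalk x) ((Curv2.bc k X K).presheaf.stalk y) :=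
    Groth.Agent.BCPoint.flat_stalkMap k X K y
  haveI : IsLocalHom (algebraMap (X.presheaf.stalk x) ((Curv2.bc k X K).presheaf.stalk y)) :=
    inferInstanceAs (IsLocalHom ((Curv2.bcFst k X K).stalkMap y).hom)
  obtain ⟨ψ, hψ, -, hlocy⟩ := Groth.Agent.BCPoint.exists_stalk_equiv k X K y
  letI := ψ.toAlgebra
  haveI := hlocy
  refine (Groth.Agent.DeltaFlat.deltaInv_eq_of_fibre hdx hm fun M' _ w n hw => ?_).symm
  haveI := hres M'
  exact Groth.Agent.BCPoint.mem_map_of_pow_mem_of_tensor
    ((IsLocalRing.maximalIdeal ((Curv2.bc k X K).presheaf.stalk y)).comap ψ).primeCompl hψ M'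
    (by exact isReduced_tensor k (Groth.Agent.DeltaFlat.Nrm (X.presheaf.stalk x) ⧸ M') K) hw

end Groth.Agent.S7683
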