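import Groth.Statements.S1666
import Groth.Agent.EulerChar.FiniteMap
import Groth.Agent.EulerChar.Components
import Groth.Agent.FlatMor.GenericPts

set_option autoImplicit false
universe u
open CategoryTheory CategoryTheory.Limits AlgebraicGeometry
open Variety

namespace Groth.Agent.S1666
open TopologicalSpace Groth.Agent.EulerChar Groth.Agent.PullStalk.Sky Groth.Agent.PullStalk.Exact Groth.Agent.Props.GenLocus

set_option linter.style.haveILetI false
set_option maxHeartbeats 1000000

theorem finite_compl_dense {Z : Scheme.{u}} [IsNoetherian Z] (hdim : topologicalKrullDim Z ≤ 1)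
    (V : Z.Opens) (hV : Dense (V : Set Z)) :
    ((V : Set Z)ᶜ).Finite ∧ ∀ z ∈ (V : Set Z)ᶜ, IsClosed ({z} : Set Z) := by
  have hcl : ∀ z ∈ (V : Set Z)ᶜ, IsClosed ({z} : Set Z) := fun z hz => by
    obtain ⟨η, hη, hηz⟩ := FlatMor.GenericPts.exists_generic_specializes (α := Z) z
    exact isClosed_singleton_of_specializes hdim hηz fun h => hz (h ▸ FlatMor.GenericPts.mem_of_dense hV hη)
  refine ⟨?_, hcl⟩
  obtain ⟨S, hSf, hScl, hSirr, hS⟩ :=
    TopologicalSpace.NoetherianSpace.exists_finite_set_isClosed_irreducible V.2.isClosed_compl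
  rw [show (V : Set Z)ᶜ = ⋃₀ S from hS]
  refine Set.Finite.sUnion hSf fun T hT => ?_
  have hgp := (hSirr T hT).isGenericPoint_genericPoint_closure
  rw [(hScl T hT).closure_eq] at hgp
  have hmem : (hSirr T hT).genericPoint ∈ (V : Set Z)ᶜ :=
    (show (V : Set Z)ᶜ = ⋃₀ S from hS).ge (Set.mem_sUnion.2 ⟨T, hT, hgp.mem⟩)
  rw [IsGenericPoint, (hcl _ hmem).closure_eq] at hgp
  rw [← hgp]
  exact Set.finite_singleton _

theorem bijective_app_of_le {X' X : Scheme.{u}} (f : X' ⟶ X) (U : X.Opens) (h : IsIso (f ∣_ U))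
    (W : X.Opens) (hW : W ≤ U) : Function.Bijective (f.app W) := by
  have e : U.ι ''ᵁ (U.ι ⁻¹ᵁ W) = W := by
    rw [Scheme.Hom.image_preimage_eq_opensRange_inf, Scheme.Opens.opensRange_ι, inf_eq_right]
    exact hW
  have h2 : IsIso ((f ∣_ U).app (U.ι ⁻¹ᵁ W)) := inferInstance
  rw [morphismRestrict_app] at h2
  have h3 : IsIso (f.app (U.ι ''ᵁ (U.ι ⁻¹ᵁ W))) := @IsIso.of_isIso_comp_right _ _ _ _ _ (f.app _)
    (X'.presheaf.map (eqToHom (image_morphismRestrict_preimage f U (U.ι ⁻¹ᵁ W))).op) inferInstance h2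
  rw [e] at h3
  exact ConcreteCategory.bijective_of_isIso (f.app W)

theorem exists_unit {X' X : Scheme.{u}} (f : X' ⟶ X) :
    ∃ φ : Coh.structureModule X ⟶ (Scheme.Modules.pushforward f).obj (Coh.structureModule X'),
      ∀ (W : X.Opens) (r : Γ(X, W)), φ.app W r = CycLib.mkPush f (f.app W r) := by
  refine ⟨homOfSec (L := (Coh.push f).obj (Coh.structureModule X')) (CycLib.mkPush f (W := ⊤) 1), fun W r => ?_⟩
  refine (app_eq (homOfSec (L := (Coh.push f).obj (Coh.structureModule X')) (CycLib.mkPush f (W := ⊤) 1)) W r).trans ?_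
  rw [sec_homOfSec]
  show r • ((Coh.push f).obj (Coh.structureModule X')).presheaf.map (homOfLE (le_top : W ≤ ⊤)).op (CycLib.mkPush f (W := ⊤) 1) = _
  rw [CycLib.res_mkPush, CycLib.smul_mkPush, map_one, mul_one]


/-- Let f : X' → X be a k-morphism of proper schemes of dimension at most one over k which is an
isomorphism over a dense open of X whose preimage is dense in X'. Then for every finite locally free
module E of rank n on X, deg(f^* E) = deg(E). -/
theorem result (k : Type u) [Field k] (X X' : Scheme.{u}) [X.Over (Spec (CommRingCat.of k))] [X'.Over (Spec (CommRingCat.of k))]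
    [IsProper (X ↘ (Spec (CommRingCat.of k)))] [IsProper (X' ↘ (Spec (CommRingCat.of k)))] (hdim : topologicalKrullDim X ≤ 1) (hdim' : topologicalKrullDim X' ≤ 1)
    (f : X' ⟶ X) (hf : f ≫ (X ↘ (Spec (CommRingCat.of k))) = X' ↘ (Spec (CommRingCat.of k)))
    (U : X.Opens) (hU : Dense (U : Set X)) (hU' : Dense ((f ⁻¹ᵁ U : X'.Opens) : Set X')) (hfU : IsIso (f ∣_ U))
    (n : ℕ) (E : X.Modules) (hE : FlatMod.IsFinLocFreeOfRank n E) :
    Curv2.deg k X' ((Scheme.Modules.pullback f).obj E) n = Curv2.deg k X E n := by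
  haveI := isProper_hom f hf
  haveI := EulerChar.isNoetherian k (X := X)
  haveI := EulerChar.isNoetherian k (X := X')
  obtain ⟨hUf, hUc⟩ := finite_compl_dense hdim U hU
  obtain ⟨hU'f, -⟩ := finite_compl_dense hdim' (f ⁻¹ᵁ U) hU'
  haveI : LocallyQuasiFinite f := LocallyQuasiFinite.of_finite_preimage_singleton f fun y => by
    by_cases hy : y ∈ U
    · refine Set.Subsingleton.finite fun a ha b hb => ?_
      have ha' : f a ∈ U := (show f a = y from ha) ▸ hy
      have hb' : f b ∈ U := (show f b = y from hb) ▸ hy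
      have h : (f ∣_ U) ⟨a, ha'⟩ = (f ∣_ U) ⟨b, hb'⟩ := Subtype.ext ((morphismRestrict_base_coe f U ⟨a, ha'⟩).trans
        (((show f a = y from ha).trans (show f b = y from hb).symm).trans (morphismRestrict_base_coe f U ⟨b, hb'⟩).symm))
      exact congrArg Subtype.val ((f ∣_ U).homeomorph.injective h)
    · exact hU'f.subset fun a ha h => hy ((show f a = y from ha) ▸ h)
  haveI : IsFinite f := IsFinite.of_isProper_of_locallyQuasiFinite _
  have hO := ProjTwist.isFinLocFreeOfRank_one (PicLoc.isInvertible_structureModule X)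
  have hO' := ProjTwist.isFinLocFreeOfRank_one (PicLoc.isInvertible_structureModule X')
  have hOc := VBLib.isCoh_of_ofRank hO
  have hP : Coh.IsCoh ((Scheme.Modules.pushforward f).obj (Coh.structureModule X')) :=
    ProperFin.isCoh_push_of_isFinite f _ (VBLib.isCoh_of_ofRank hO')
  haveI := (VBLib.isCoh_of_ofRank hE).1
  haveI : (Coh.structureModule X').IsQuasicoherent := (VBLib.isCoh_of_ofRank hO').1
  let P := (Scheme.Modules.pushforward f).obj (Coh.structureModule X')
  -- the unit
  obtain ⟨φ, happ⟩ := exists_unit f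
  have hbij : ∀ y ∈ U, Function.Bijective (stalkLin φ y) := by
    intro y hy
    constructor
    · refine (injective_iff_map_eq_zero _).2 fun t ht => ?_
      obtain ⟨W, hW, r, rfl⟩ := exists_germM_eq _ y t
      rw [stalkLin_germ] at ht
      obtain ⟨W', hW', i₁, i₂, he⟩ := P.presheaf.germ_eq y hW hW (φ.app W r) 0 (ht.trans (map_zero _).symm)
      rw [map_zero] at he
      let r' : Γ(X, W' ⊓ U) := X.presheaf.map (homOfLE (inf_le_left.trans i₁.le)).op r
      have h1 : f.app (W' ⊓ U) r' = 0 := by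
        have h2 := congrArg (P.presheaf.map (homOfLE (inf_le_left : W' ⊓ U ≤ W')).op) he
        rw [map_zero, ← ConcreteCategory.comp_apply, ← Functor.map_comp] at h2
        refine Eq.trans ?_ ((congrArg (P.presheaf.map _) (happ W r)).symm.trans h2)
        exact ConcreteCategory.congr_hom (f.naturality (homOfLE (inf_le_left.trans i₁.le)).op) r
      have h3 : r' = 0 := (bijective_app_of_le f U hfU _ inf_le_right).1 (h1.trans (map_zero _).symm)
      refine ((Coh.structureModule X).presheaf.germ_res_apply (homOfLE (inf_le_left.trans i₁.le)) y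
        (show y ∈ W' ⊓ U from ⟨hW', hy⟩) r).symm.trans ?_
      exact (congrArg (fun z => germM (Coh.structureModule X) (W' ⊓ U) y ⟨hW', hy⟩ z) h3).trans (map_zero _)
    · intro t
      obtain ⟨W, hW, s, rfl⟩ := exists_germM_eq P y t
      obtain ⟨r, hr⟩ := (bijective_app_of_le f U hfU (W ⊓ U) inf_le_right).2
        (P.presheaf.map (homOfLE (inf_le_left : W ⊓ U ≤ W)).op s)
      refine ⟨germM (Coh.structureModule X) (W ⊓ U) y ⟨hW, hy⟩ r, ?_⟩
      refine (stalkLin_germ φ _ _ _ r).trans ?_
      rw [happ]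
      refine (congrArg (germM P (W ⊓ U) y ⟨hW, hy⟩) (show CycLib.mkPush f (f.app (W ⊓ U) r) = _ from hr)).trans ?_
      exact P.presheaf.germ_res_apply (homOfLE (inf_le_left : W ⊓ U ≤ W)) y ⟨hW, hy⟩ s
  have hmem := CohDev.kcl_sub_mem_of_roof (𝟙 (Coh.structureModule X)) φ hOc hOc hP (T := Set.univ) (U := (U : Set X))
    (Set.subset_univ _) (Set.subset_univ _)
    (fun y _ => ⟨fun a b h => by rwa [CohDev.stalkLin_id_apply, CohDev.stalkLin_id_apply] at h,
      fun a => ⟨a, CohDev.stalkLin_id_apply y a⟩⟩) hbij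
  have hle : CohDev.clSpan (Set.univ \ (U : Set X)) ≤ (dev k hE).ker := by
    rw [CohDev.clSpan, AddSubgroup.closure_le]
    rintro c ⟨G, hG, hsub, rfl⟩
    exact dev_eq_zero_of_support k hE hG ((TopDimLib.topDim_le_of_subset
      (hsub.trans fun z hz => hz.2)).trans (topDim_le_zero_of_finite hUf hUc))
  have h0 := hle hmem
  rw [AddMonoidHom.mem_ker, map_sub, sub_eq_zero, dev_structure k hE, dev_kcl k hE hP] at h0
  let θ : CohDev.tens E P ≅ (Scheme.Modules.pushforward f).obj ((Scheme.Modules.pullback f).obj E) :=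
    ProjTwist.tensComm E _ ≪≫
      (ProjForm.projNatIso f (VBLib.isFinLocFree_of_ofRank hE)).app (Coh.structureModule X') ≪≫
      (Scheme.Modules.pushforward f).mapIso (ProjTwist.oneTens _)
  rw [euler_iso k θ, euler_push f hf _ inferInstance, euler_push f hf _ inferInstance] at h0
  rw [Curv2.deg]
  linarith

end Groth.Agent.S1666
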