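import Groth.Statements.S0602
import Groth.Agent.RegLoc.SupportDim
import Groth.Agent.RegLoc.Basic
import Mathlib.RingTheory.LocalProperties.Reduced
-- import your own Groth.Agent.* helpers here

set_option autoImplicit false
universe u
open CAlg

namespace Groth.Agent.S0602

/-- A Noetherian ring is reduced exactly when it satisfies the conditions R₀ and S₁. -/
theorem result (R : Type u) [CommRing R] [IsNoetherianRing R] :
    IsReduced R ↔ (LocCoh.HasRk 0 R ∧ LocCoh.HasSk 1 R R) := by
  rw [RegLoc.SupportDim.hasSk_one_iff]
  have hann : Module.annihilator R R = ⊥ := Module.annihilator_eq_bot.mpr inferInstance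
  rw [hann]
  constructor
  · intro hred
    refine ⟨fun p _ hp => ?_, fun p hp => ?_⟩
    · have hdim : Ring.KrullDimLE 0 (Localization.AtPrime p) := Ring.krullDimLE_iff.mpr <| by
        rw [IsLocalization.AtPrime.ringKrullDim_eq_height p (Localization.AtPrime p)]
        exact_mod_cast hp
      have : IsField (Localization.AtPrime p) := by
        rw [IsLocalRing.isField_iff_maximalIdeal_eq, ← Ring.KrullDimLE.nilradical_eq_maximalIdeal, nilradical_eq_zero]
        rfl
      letI := this.toField
      infer_instance
    · have := Depth.isPrime_of_mem_associatedPrimes hp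
      obtain ⟨-, x, hx⟩ := isAssociatedPrime_iff.mp hp
      have hx0 : x ≠ 0 := by
        rintro rfl
        exact (‹p.IsPrime›).ne_top (hx.trans (Ideal.eq_top_iff_one _ |>.mpr (by simp)))
      obtain ⟨q, hq, hxq⟩ : ∃ q ∈ minimalPrimes R, x ∉ q := by
        by_contra hc
        push Not at hc
        refine hx0 (IsNilpotent.eq_zero (mem_nilradical.mp ?_))
        rw [nilradical, ← Ideal.sInf_minimalPrimes, Submodule.mem_sInf]
        exact hc
      have hpq : p ≤ q := fun a ha => by
        rw [hx, Submodule.mem_colon_singleton, Submodule.mem_bot, smul_eq_mul] at ha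
        exact ((Ideal.IsMinimalPrime.isPrime hq).mem_or_mem (ha ▸ zero_mem q)).resolve_right hxq
      rwa [le_antisymm hpq (hq.2 ⟨this, bot_le⟩ hpq)]
  · rintro ⟨hR0, hS1⟩
    refine ⟨fun x hx => ?_⟩
    by_contra hx0
    obtain ⟨p, hp, hle⟩ := exists_le_isAssociatedPrime_of_isNoetherianRing R x hx0
    have := Depth.isPrime_of_mem_associatedPrimes hp
    have hmin : p ∈ minimalPrimes R := hS1 p hp
    have hreg := hR0 p (by rw [Ideal.height_eq_zero_iff.mpr hmin]; exact zero_le)
    have := RegLoc.isDomain (Localization.AtPrime p)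
    obtain ⟨⟨c, hc⟩, hcx⟩ := (IsLocalization.map_eq_zero_iff p.primeCompl (Localization.AtPrime p) x).mp
      (hx.map (algebraMap R (Localization.AtPrime p))).eq_zero
    exact hc (hle (by rw [Submodule.mem_colon_singleton, Submodule.mem_bot]; exact hcx))

end Groth.Agent.S0602
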