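import Groth.Statements.S0220
import Groth.Agent.VarDim.Curve
import Groth.Agent.ZCorrLib.Finite

set_option autoImplicit false
universe u
open CategoryTheory CategoryTheory.Limits AlgebraicGeometry TopologicalSpace
open Curves

namespace Groth.Agent.S0220

/-- A nonconstant morphism between curves over a field (integral, separated, finite type, dimension one)
whose target has integrally closed local domains is flat. -/
theorem result (k : Type u) [Field k] (X Y : Scheme.{u}) (p : X ⟶ Spec (CommRingCat.of k)) (q : Y ⟶ Spec (CommRingCat.of k))
    [IsIntegral X] [IsIntegral Y] [IsSeparated p] [IsSeparated q] [LocallyOfFiniteType p] [LocallyOfFiniteType q]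
    [QuasiCompact p] [QuasiCompact q] (hX : topologicalKrullDim X = 1) (hY : topologicalKrullDim Y = 1)
    (hN : ∀ y : Y, IsDomain (Y.presheaf.stalk y) ∧ IsIntegrallyClosed (Y.presheaf.stalk y))
    (f : X ⟶ Y) (hf : f ≫ q = p) (hnc : (Set.range f.base).Nontrivial) :
    Flat f := by
  letI : Y.Over (Spec (CommRingCat.of k)) := ⟨q⟩
  haveI : LocallyOfFiniteType (Y ↘ Spec (CommRingCat.of k)) := ‹LocallyOfFiniteType q›
  haveI : IsLocallyNoetherian Y := LocallyOfFiniteType.isLocallyNoetherian q
  have hη : f.base (genericPoint X) = genericPoint Y := by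
    by_contra hne
    have hc := Groth.Agent.VarDim.isClosed_singleton_of_ne_genericPoint k hY hne
    obtain ⟨a, ha, b, hb, hab⟩ := hnc
    have hsub : Set.range f.base ⊆ {f.base (genericPoint X)} := by
      rintro _ ⟨x, rfl⟩
      have h1 : f.base (genericPoint X) ⤳ f.base x :=
        (genericPoint_specializes x).map f.continuous
      exact hc.closure_subset (specializes_iff_mem_closure.mp h1)
    exact hab ((hsub ha).trans (hsub hb).symm)
  haveI : IsDominant f := by
    refine ⟨?_⟩
    rw [DenseRange, dense_iff_closure_eq]
    refine Set.eq_univ_of_forall fun z => ?_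
    have hsub : ({genericPoint Y} : Set Y) ⊆ Set.range f.base :=
      Set.singleton_subset_iff.mpr ⟨genericPoint X, hη⟩
    exact closure_mono hsub (specializes_iff_mem_closure.mp (genericPoint_specializes z))
  rw [Flat.iff_flat_stalkMap]
  intro x
  obtain ⟨hdom, hic⟩ := hN (f.base x)
  haveI := hdom
  haveI := hic
  have hinj := Groth.Agent.ZCorrLib.stalkMap_injective f x
  algebraize [(f.stalkMap x).hom]
  rw [RingHom.Flat]
  haveI : Module.IsTorsionFree (Y.presheaf.stalk (f.base x)) (X.presheaf.stalk x) :=
    Module.isTorsionFree_iff_algebraMap_injective.mpr hinj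
  by_cases hy : f.base x = genericPoint Y
  · have hfld : IsField (Y.presheaf.stalk (f.base x)) := by
      rw [hy]
      exact Field.toIsField Y.functionField
    letI := hfld.toField
    infer_instance
  · haveI : IsDiscreteValuationRing (Y.presheaf.stalk (f.base x)) := by
      refine Groth.Agent.VarDim.isDiscreteValuationRing_of_ringKrullDim_eq_one _ ?_
      rw [ringKrullDim_stalk_eq_coheight, Groth.Agent.VarDim.coheight_eq_one_of_ne_genericPoint k hY hy]
      rfl
    infer_instance

end Groth.Agent.S0220
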