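import Groth.Statements.S10822
import Groth.Agent.ProjDim.Points


set_option autoImplicit false
universe u
open AlgebraicGeometry Topology TopologicalSpace
open Variety

namespace Groth.Agent.S10822

/-- Let k be a field, X an irreducible closed subset of projective n-space over k of positive dimension,
and f a homogeneous polynomial in n + 1 variables whose zero set V_+(f) is nonempty and does not
contain X. Then X meets V_+(f), and every irreducible component C of X ∩ V_+(f) has dim C + 1 = dim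
X, i.e. codimension 1 in X (all maximal chains of irreducible closed subsets of X have length dim
X). -/
theorem result (k : Type u) [Field k] (n d : ℕ)
    (X : Set (ProjectiveSpectrum (CohB1.polyGrading n k))) (hXc : IsClosed X) (hXi : IsIrreducible X)
    (hXd : 0 < topologicalKrullDim ↥X)
    (f : MvPolynomial (Fin (n + 1)) k) (hf : f.IsHomogeneous d)
    (hV : (ProjectiveSpectrum.zeroLocus (CohB1.polyGrading n k)
      ({f} : Set (MvPolynomial (Fin (n + 1)) k))).Nonempty)
    (hX : ¬ X ⊆ ProjectiveSpectrum.zeroLocus (CohB1.polyGrading n k)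
      ({f} : Set (MvPolynomial (Fin (n + 1)) k))) :
    (X ∩ ProjectiveSpectrum.zeroLocus (CohB1.polyGrading n k)
        ({f} : Set (MvPolynomial (Fin (n + 1)) k))).Nonempty ∧
      ∀ C ∈ irreducibleComponents ↥(X ∩ ProjectiveSpectrum.zeroLocus (CohB1.polyGrading n k)
          ({f} : Set (MvPolynomial (Fin (n + 1)) k))),
        topologicalKrullDim ↥C + 1 = topologicalKrullDim ↥X := by
  obtain ⟨ξ, rfl⟩ := ProjDim.exists_eq_closure hXc hXi
  obtain ⟨v, hv⟩ := hV
  have hfirr : f ∈ GenPt.irr k n := (ProjDim.pt_lt_irr v).le (hv rfl)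
  have hfξ : f ∉ ProjDim.pt ξ := fun h => hX fun y hy => by
    rw [ProjDim.mem_zeroLocus_iff, Set.singleton_subset_iff]
    exact (ProjDim.mem_closure_iff ξ y).1 hy h
  have hspan : Ideal.span {f} = Ideal.span (Set.range ![f]) := by simp
  have hI : (ProjDim.pt ξ ⊔ Ideal.span (Set.range ![f])).IsHomogeneous (CohB1.polyGrading n k) := by
    refine (ProjDim.pt_isHomogeneous ξ).sup (Ideal.homogeneous_span _ _ ?_)
    rintro _ ⟨i, rfl⟩
    fin_cases i
    exact ⟨d, (MvPolynomial.mem_homogeneousSubmodule _ _).2 hf⟩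
  have hmem : ∀ y, y ∈ closure ({ξ} : Set _) ∩
      ProjectiveSpectrum.zeroLocus (CohB1.polyGrading n k) ({f} : Set _) ↔
      ProjDim.pt ξ ⊔ Ideal.span (Set.range ![f]) ≤ ProjDim.pt y := fun y => by
    rw [← hspan, sup_le_iff, Ideal.span_le, Set.mem_inter_iff, ProjDim.mem_closure_iff,
      ProjDim.mem_zeroLocus_iff]
  rw [ProjDim.topDim_closure_singleton] at hXd ⊢
  obtain ⟨a, ha⟩ : ∃ a, ProjDim.dimQ (ProjDim.pt ξ) = a + 1 :=
    ⟨ProjDim.dimQ (ProjDim.pt ξ) - 1, by have := ProjDim.one_le_dimQ_pt ξ; omega⟩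
  rw [(ProjDim.coheight_eq_iff ξ a).2 ha] at hXd ⊢
  have ha0 : 0 < a := by exact_mod_cast hXd
  have key : ∀ (M : Ideal (MvPolynomial (Fin (n + 1)) k)) [M.IsPrime],
      M ∈ (ProjDim.pt ξ ⊔ Ideal.span (Set.range ![f])).minimalPrimes →
      ProjDim.dimQ M + 1 = a + 1 := by
    intro M _ hM
    have h1 := ProjDim.dimQ_le_of_mem_minimalPrimes_sup (ProjDim.pt ξ) M ![f] hM
    have hlt : ProjDim.pt ξ < M := lt_of_le_of_ne (le_sup_left.trans hM.1.2) fun h =>
      hfξ (h ▸ hM.1.2 (Ideal.mem_sup_right (Ideal.subset_span ⟨0, rfl⟩)))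
    have h2 := ProjDim.dimQ_strictAnti hlt
    omega
  constructor
  · have hne : ProjDim.pt ξ ⊔ Ideal.span (Set.range ![f]) ≠ ⊤ := by
      refine ne_top_of_le_ne_top (Ideal.IsPrime.ne_top' (I := GenPt.irr k n))
        (sup_le (ProjDim.pt_lt_irr ξ).le ?_)
      rw [← hspan, Ideal.span_singleton_le_iff_mem]
      exact hfirr
    obtain ⟨M, hM⟩ := Ideal.nonempty_minimalPrimes hne
    haveI := hM.1.1
    have := key M hM
    obtain ⟨z, rfl⟩ := ProjDim.exists_pt_of_dim M (GenPt.minimal_isHomogeneous hI hM) (by omega)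
    exact ⟨z, (hmem z).2 hM.1.2⟩
  · intro C hC
    obtain ⟨η, hη, hmin, hdim⟩ := ProjDim.exists_of_mem_irreducibleComponents
      (isClosed_closure.inter (ProjectiveSpectrum.isClosed_zeroLocus _ _)) hC
    have hM := ProjDim.mem_minimalPrimes_of_minimal hI ((hmem η).1 hη)
      fun y hy hyx => hmin y ((hmem y).2 hy) hyx
    have h1 := key (ProjDim.pt η) hM
    rw [hdim, ProjDim.topDim_closure_singleton]
    obtain ⟨b, hb⟩ : ∃ b, ProjDim.dimQ (ProjDim.pt η) = b + 1 :=
      ⟨ProjDim.dimQ (ProjDim.pt η) - 1, by have := ProjDim.one_le_dimQ_pt η; omega⟩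
    rw [(ProjDim.coheight_eq_iff η b).2 hb]
    exact_mod_cast (show b + 1 = a by omega)

end Groth.Agent.S10822
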