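import Groth.Statements.S12463
import Groth.Agent.CVar22.Wedge
import Groth.Agent.RedNorm.Nagata
import Groth.Agent.S7652
import Groth.Agent.VarDim.Algebra

set_option autoImplicit false
universe u
open Variety

namespace Groth.Agent.S12463

/-- Let (A, m) be a strictly henselian reduced Nagata local ring of dimension one with δ-invariant equal
to the number of geometric branches minus one, and A' the integral closure of A in its total ring of
fractions. Then A is a wedge of discrete valuation rings: for every maximal ideal m' of A' the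
localization A'_{m'} is a discrete valuation ring whose residue field is the image of A, and A
consists exactly of the elements of A' congruent to an element of A modulo every maximal ideal of A'
(the displayed inclusion; the reverse inclusion is trivial). (The inequality δ ≥ branches − 1 of the
published statement holds for every reduced Nagata local ring of dimension one and is not restated.) -/
theorem result (A : Type u) [CommRing A] [HenselianLocalRing A]
    [IsSepClosed (IsLocalRing.ResidueField A)] [IsReduced A] (hN : CAlg.IsNagata A) (hdim : ringKrullDim A = 1)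
    (heq : Curv2.deltaInv A + 1 = Brnch.numGeomBranches A) :
    (∀ m' : MaximalSpectrum ↥(integralClosure A (FractionRing A)),
        (∃ _ : IsDomain (Localization.AtPrime m'.asIdeal), IsDiscreteValuationRing (Localization.AtPrime m'.asIdeal)) ∧
        Function.Surjective (⇑(IsLocalRing.residue (Localization.AtPrime m'.asIdeal)) ∘
          ⇑(algebraMap ↥(integralClosure A (FractionRing A)) (Localization.AtPrime m'.asIdeal)) ∘
          ⇑(algebraMap A ↥(integralClosure A (FractionRing A))))) ∧
    ∀ a' : ↥(integralClosure A (FractionRing A)),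
      (∃ a : A, ∀ m' : MaximalSpectrum ↥(integralClosure A (FractionRing A)),
          a' - algebraMap A _ a ∈ m'.asIdeal) →
      a' ∈ (algebraMap A ↥(integralClosure A (FractionRing A))).range := by
  classical
  haveI : IsLocalRing A := inferInstance
  haveI := hN.1
  obtain ⟨hfin, hloc, hlt⟩ := Groth.Agent.S7652.result A hN hdim
  set N := ↥(integralClosure A (FractionRing A))
  haveI : Module.Finite A N := hfin
  haveI : IsNoetherianRing N := IsNoetherianRing.of_finite A N
  haveI : FaithfulSMul A N := (faithfulSMul_iff_algebraMap_injective _ _).mpr fun a b h =>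
    IsFractionRing.injective A (FractionRing A) (congrArg Subtype.val h)
  haveI : Algebra.IsIntegral A N := Algebra.IsIntegral.of_finite A N
  -- comparison with the normalization of the reduction
  let e : A ≃+* CAlg2.red A := RingEquiv.ofBijective (Ideal.Quotient.mk (nilradical A))
    ⟨fun a b h => by
      have := Ideal.Quotient.eq.mp h
      rw [nilradical_eq_zero] at this
      exact sub_eq_zero.mp this, Ideal.Quotient.mk_surjective⟩
  let F : FractionRing A ≃+* FractionRing (CAlg2.red A) := IsFractionRing.ringEquivOfRingEquiv e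
  have hF : ∀ a : A, F (algebraMap A _ a) = algebraMap (CAlg2.red A) _ (e a) := fun a =>
    IsFractionRing.ringEquivOfRingEquiv_algebraMap e a
  have hmem : ∀ x : FractionRing A, x ∈ integralClosure A (FractionRing A) →
      F x ∈ integralClosure (CAlg2.red A) (FractionRing (CAlg2.red A)) := fun x hx => by
    simp only [mem_integralClosure_iff] at hx ⊢
    exact hx.map_of_comp_eq e.toRingHom F.toRingHom (RingHom.ext fun a => (hF a).symm)
  have hmem' : ∀ y, y ∈ integralClosure (CAlg2.red A) (FractionRing (CAlg2.red A)) →
      F.symm y ∈ integralClosure A (FractionRing A) := fun y hy => by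
    simp only [mem_integralClosure_iff] at hy ⊢
    refine hy.map_of_comp_eq e.symm.toRingHom F.symm.toRingHom (RingHom.ext fun b => ?_)
    apply F.injective
    show F (algebraMap A _ (e.symm b)) = F (F.symm (algebraMap (CAlg2.red A) _ b))
    rw [hF, e.apply_symm_apply, F.apply_symm_apply]
  let G : N ≃+* CAlg2.normRed A :=
    { toFun := fun x => ⟨F x.1, hmem x.1 x.2⟩
      invFun := fun y => ⟨F.symm y.1, hmem' y.1 y.2⟩
      left_inv := fun x => Subtype.ext (F.symm_apply_apply x.1)
      right_inv := fun y => Subtype.ext (F.apply_symm_apply y.1)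
      map_mul' := fun x y => Subtype.ext (map_mul F x.1 y.1)
      map_add' := fun x y => Subtype.ext (map_add F x.1 y.1) }
  have hG : ∀ a : A, G (algebraMap A N a) = algebraMap (CAlg2.red A) (CAlg2.normRed A) (e a) :=
    fun a => Subtype.ext (hF a)
  haveI : Module.Finite (CAlg2.red A) (CAlg2.normRed A) :=
    RedNorm.finite_integralClosure_congr e hfin
  haveI : Algebra.IsIntegral (CAlg2.red A) (CAlg2.normRed A) := Algebra.IsIntegral.of_finite _ _
  -- at most one embedding for each maximal ideal
  letI : Algebra (IsLocalRing.ResidueField A) (AlgebraicClosure (IsLocalRing.ResidueField A)) :=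
    AlgebraicClosure.instAlgebra _
  have hsub : ∀ m : MaximalSpectrum (CAlg2.normRed A), Subsingleton (Brnch.Emb A m) := fun m => by
    haveI := RedNorm.isLocalRing_red A
    haveI := m.isMaximal
    letI : Field (CAlg2.normRed A ⧸ m.asIdeal) := Ideal.Quotient.field m.asIdeal
    let φ : IsLocalRing.ResidueField A →+* CAlg2.normRed A ⧸ m.asIdeal :=
      Ideal.Quotient.lift (IsLocalRing.maximalIdeal A) (Brnch.toResidue A m) (RedNorm.toResidue_eq_zero A m)
    have hφ : φ.IsIntegral := by
      refine RingHom.IsIntegral.tower_top (IsLocalRing.residue A) φ ?_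
      show (Brnch.toResidue A m).IsIntegral
      intro z
      obtain ⟨w, rfl⟩ := Ideal.Quotient.mk_surjective z
      obtain ⟨x, rfl⟩ := G.surjective w
      obtain ⟨P, hP, hPx⟩ := Algebra.IsIntegral.isIntegral (R := A) x
      refine ⟨P, hP, ?_⟩
      have := congrArg ((Ideal.Quotient.mk m.asIdeal).comp G.toRingHom) hPx
      rw [Polynomial.hom_eval₂, map_zero] at this
      have hc : ((Ideal.Quotient.mk m.asIdeal).comp G.toRingHom).comp (algebraMap A N) =
          Brnch.toResidue A m := RingHom.ext fun a => congrArg (Ideal.Quotient.mk m.asIdeal) (hG a)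
      rw [hc] at this
      exact this
    refine ⟨fun σ τ => Subtype.ext (CVar22.Wedge.ringHom_ext_of_isSepClosed φ hφ σ.1 τ.1 (RingHom.ext fun z => ?_))⟩
    obtain ⟨a, rfl⟩ := Ideal.Quotient.mk_surjective z
    exact (DFunLike.congr_fun σ.2 a).trans (DFunLike.congr_fun τ.2 a).symm
  -- finitely many maximal ideals
  haveI hfinMax : Finite (MaximalSpectrum N) := by
    by_contra hinf
    haveI := not_finite_iff_infinite.mp hinf
    obtain ⟨S, hS⟩ := Infinite.exists_subset_card_eq (MaximalSpectrum N) ((Curv2.deltaInv A).toNat + 2)
    have h1 : ((S.card : ℕ) : ℕ∞) ≤ Curv2.deltaInv A + 1 := by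
      refine le_trans ?_ (RedNorm.sum_length_quotient_le (R := A) (N := N) S)
      refine le_trans (by simp) (Finset.sum_le_sum (s := S) (f := fun _ => (1 : ℕ∞)) fun m _ => ?_)
      haveI := Ideal.Quotient.nontrivial_iff.mpr m.isMaximal.ne_top
      exact Order.one_le_iff_pos.mpr Module.length_pos
    rw [hS, Nat.cast_add, ENat.coe_toNat hlt.ne] at h1
    exact absurd h1 (not_le.mpr ((ENat.add_lt_add_iff_left hlt.ne).mpr (by norm_num)))
  cases nonempty_fintype (MaximalSpectrum N)
  let j : (Σ m' : MaximalSpectrum (CAlg2.normRed A), Brnch.Emb A m') → MaximalSpectrum N :=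
    fun x => ⟨x.1.asIdeal.comap G, by
      haveI := x.1.isMaximal
      exact Ideal.comap_isMaximal_of_surjective _ G.surjective⟩
  have hj : Function.Injective j := fun ⟨m, σ⟩ ⟨m', σ'⟩ h => by
    obtain rfl : m = m' := MaximalSpectrum.ext
      (Ideal.comap_injective_of_surjective _ G.surjective (congrArg MaximalSpectrum.asIdeal h))
    rw [(hsub m).elim σ σ']
  have hle : Curv2.deltaInv A + 1 ≤ (Fintype.card (MaximalSpectrum N) : ℕ∞) := by
    rw [heq, Brnch.numGeomBranches, if_pos (minimalPrimes.finite_of_isNoetherianRing A),
      ← ENat.card_eq_coe_fintype_card (α := MaximalSpectrum N)]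
    exact ENat.card_le_card_of_injective hj
  obtain ⟨hres, hdiag⟩ := CVar22.Wedge.equality_case (R := A) (N := N) hlt.ne hle
  refine ⟨fun m' => ⟨?_, fun z => ?_⟩, fun a' ha => ?_⟩
  · haveI := m'.isMaximal
    obtain ⟨hdom, hic⟩ := hloc ⟨m'.asIdeal, inferInstance⟩
    haveI : IsDomain (Localization.AtPrime m'.asIdeal) := hdom
    haveI : IsIntegrallyClosed (Localization.AtPrime m'.asIdeal) := hic
    refine ⟨inferInstance, ?_⟩
    set L := Localization.AtPrime m'.asIdeal
    have hnot : ¬ IsField L := by
      obtain ⟨s, hs, hs0⟩ : ∃ s ∈ IsLocalRing.maximalIdeal A, s ∈ nonZeroDivisors A := by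
        by_contra hcon
        push_neg at hcon
        have hsub' : (IsLocalRing.maximalIdeal A : Set A) ⊆ ⋃ p ∈ minimalPrimes A, (p : Set A) := by
          intro x hx
          have hxn := hcon x hx
          rw [RedNorm.mem_nonZeroDivisors_iff] at hxn
          push_neg at hxn
          obtain ⟨⟨p, hp⟩, hxp⟩ := hxn
          exact Set.mem_biUnion hp hxp
        obtain ⟨p, hp, hmp⟩ := (Ideal.subset_union_prime_finite (minimalPrimes.finite_of_isNoetherianRing A)
          ⊥ ⊥ (fun p hp _ _ => hp.1.1)).mp hsub'
        have heq' : IsLocalRing.maximalIdeal A = p :=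
          (IsLocalRing.maximalIdeal.isMaximal A).eq_of_le hp.1.1.ne_top hmp
        have h0 : (IsLocalRing.maximalIdeal A).height = 0 := by
          rw [Ideal.height_eq_zero_iff, heq']
          exact hp
        have h1 := IsLocalRing.maximalIdeal_height_eq_ringKrullDim (R := A)
        rw [h0, hdim] at h1
        exact absurd h1 (by decide)
      intro hF
      have hsm : algebraMap A N s ∈ m'.asIdeal := by
        haveI := Ideal.isMaximal_comap_of_isIntegral_of_isMaximal (R := A) m'.asIdeal
        rw [← IsLocalRing.eq_maximalIdeal (R := A) (I := m'.asIdeal.comap (algebraMap A N)) inferInstance] at hs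
        exact hs
      have hz : algebraMap N L (algebraMap A N s) = 0 := by
        by_contra hne
        obtain ⟨b, hb⟩ := hF.mul_inv_cancel hne
        exact (IsLocalization.AtPrime.isUnit_to_map_iff L m'.asIdeal _).mp (IsUnit.of_mul_eq_one _ hb) hsm
      obtain ⟨⟨t, ht⟩, htz⟩ := (IsLocalization.map_eq_zero_iff m'.asIdeal.primeCompl L _).mp hz
      have : (t : N) = 0 := by
        have h2 := congrArg Subtype.val htz
        simp only [MulMemClass.coe_mul, ZeroMemClass.coe_zero] at h2
        exact Subtype.ext ((IsUnit.mul_left_eq_zero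
          (IsLocalization.map_units (FractionRing A) (⟨s, hs0⟩ : nonZeroDivisors A))).mp h2)
      exact ht (this ▸ m'.asIdeal.zero_mem)
    haveI : IsNoetherianRing L := IsLocalization.isNoetherianRing m'.asIdeal.primeCompl L inferInstance
    haveI : Ring.DimensionLEOne L := ⟨fun {P} hP hPp => by
      have hd : ringKrullDim L ≤ 1 := by
        refine le_trans (IsLocalization.AtPrime.ringKrullDim_eq_height m'.asIdeal L ▸ Ideal.height_le_ringKrullDim_of_ne_top m'.isMaximal.ne_top) ?_
        rw [VarDim.ringKrullDim_eq_of_isIntegral (R := A) (S := N), hdim]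
      haveI : Ring.KrullDimLE 1 L := Ring.krullDimLE_iff.mpr hd
      rcases Ring.krullDimLE_one_iff.mp inferInstance P hPp with hmin | hmax
      · rw [IsDomain.minimalPrimes_eq_singleton_bot, Set.mem_singleton_iff] at hmin
        exact absurd hmin hP
      · exact hmax⟩
    haveI : IsDedekindRing L := {}
    haveI : IsDedekindDomain L := {}
    exact ((IsDiscreteValuationRing.TFAE L hnot).out 2 0).mp ‹_›
  · obtain ⟨w, rfl⟩ := IsLocalRing.residue_surjective z
    haveI := m'.isMaximal
    let ψ := IsLocalization.AtPrime.equivQuotMaximalIdeal m'.asIdeal (Localization.AtPrime m'.asIdeal)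
    obtain ⟨x, hx⟩ := ψ.surjective (IsLocalRing.residue _ w)
    obtain ⟨a, ha⟩ := hres m' x
    refine ⟨a, ?_⟩
    rw [← hx, ← ha]
    rfl
  · obtain ⟨a, ha⟩ := hdiag a' ha
    exact ⟨a, ha⟩

end Groth.Agent.S12463
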