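import Groth.Statements.S12524
import Groth.Agent.PSLoc.Basic
import Mathlib.RingTheory.AdicCompletion.RingHom
import Mathlib.RingTheory.PowerSeries.Inverse
import Mathlib.RingTheory.PowerSeries.Trunc
-- import your own Groth.Agent.* helpers here

set_option autoImplicit false
universe u v
open CAlg

namespace Groth.Agent.S12524

open IsLocalRing Polynomial in
theorem main (K : Type u) (A : Type v) [Field K] [CommRing A] [IsDomain A] [IsDiscreteValuationRing A]
    [Algebra K A] [IsAdicComplete (maximalIdeal A) A]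
    (hK : Function.Surjective ((residue A).comp (algebraMap K A)))
    (x : A) (hx : maximalIdeal A = Ideal.span {x}) :
    ∃ φ : PowerSeries K →ₐ[K] A, φ PowerSeries.X = x ∧ Function.Bijective φ ∧
      ∀ (f : PowerSeries K) (n : ℕ),
        φ f - (Finset.range n).sum (fun i => algebraMap K A (PowerSeries.coeff i f) * x ^ i) ∈
          maximalIdeal A ^ n := by
  have hdvd : ∀ (n : ℕ) (p q : K[X]), (Polynomial.X : K[X]) ^ n ∣ p - q →
      Polynomial.aeval x p - Polynomial.aeval x q ∈ maximalIdeal A ^ n := by
    rintro n p q ⟨r, hr⟩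
    rw [← map_sub, hr, map_mul, map_pow, Polynomial.aeval_X, hx, Ideal.span_singleton_pow,
      Ideal.mem_span_singleton]
    exact dvd_mul_right _ _
  let f' : (n : ℕ) → PowerSeries K →ₐ[K] A ⧸ maximalIdeal A ^ n := fun n =>
    AlgHom.ofLinearMap
      (((Ideal.Quotient.mkₐ K (maximalIdeal A ^ n)).comp (Polynomial.aeval x)).toLinearMap ∘ₗ PowerSeries.trunc n)
      (by
        show Ideal.Quotient.mk _ (Polynomial.aeval x (PowerSeries.trunc n 1)) = 1
        rw [← map_one (Ideal.Quotient.mk (maximalIdeal A ^ n)), ← map_one (Polynomial.aeval (R := K) x),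
          Ideal.Quotient.eq]
        refine hdvd n _ _ (Polynomial.X_pow_dvd_iff.mpr fun d hd => ?_)
        rw [Polynomial.coeff_sub, PowerSeries.coeff_trunc, if_pos hd, PowerSeries.coeff_one, Polynomial.coeff_one, sub_self])
      (fun a b => by
        show Ideal.Quotient.mk _ (Polynomial.aeval x (PowerSeries.trunc n (a * b))) =
          Ideal.Quotient.mk _ (Polynomial.aeval x (PowerSeries.trunc n a)) *
          Ideal.Quotient.mk _ (Polynomial.aeval x (PowerSeries.trunc n b))
        rw [← map_mul (Ideal.Quotient.mk _), ← map_mul (Polynomial.aeval x), Ideal.Quotient.eq]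
        refine hdvd n _ _ (Polynomial.X_pow_dvd_iff.mpr fun d hd => ?_)
        rw [Polynomial.coeff_sub, PowerSeries.coeff_trunc, if_pos hd,
          PowerSeries.coeff_mul_eq_coeff_trunc_mul_trunc a b hd, ← Polynomial.coe_mul, Polynomial.coeff_coe, sub_self])
  have hf' : ∀ {m n : ℕ} (hle : m ≤ n),
      (Ideal.Quotient.factorₐ K (Ideal.pow_le_pow_right hle)).comp (f' n) = f' m := by
    intro m n hle
    refine AlgHom.ext fun a => ?_
    show Ideal.Quotient.mk _ (Polynomial.aeval x (PowerSeries.trunc n a)) = Ideal.Quotient.mk _ (Polynomial.aeval x (PowerSeries.trunc m a))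
    rw [Ideal.Quotient.eq]
    refine hdvd m _ _ (Polynomial.X_pow_dvd_iff.mpr fun d hd => ?_)
    rw [Polynomial.coeff_sub, PowerSeries.coeff_trunc, PowerSeries.coeff_trunc, if_pos hd, if_pos (lt_of_lt_of_le hd hle), sub_self]
  let φ : PowerSeries K →ₐ[K] A := IsAdicComplete.liftAlgHom (maximalIdeal A) f' hf'
  have hcl : ∀ (f : PowerSeries K) (n : ℕ),
      φ f - (Finset.range n).sum (fun i => algebraMap K A (PowerSeries.coeff i f) * x ^ i) ∈ maximalIdeal A ^ n := by
    intro f n
    rw [← Ideal.Quotient.eq, IsAdicComplete.mk_liftAlgHom]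
    show Ideal.Quotient.mk _ (Polynomial.aeval x (PowerSeries.trunc n f)) = _
    rw [Polynomial.aeval_def, PowerSeries.eval₂_trunc_eq_sum_range]
  have hX : φ PowerSeries.X = x := by
    refine (IsHausdorff.eq_iff_smodEq (I := maximalIdeal A)).mpr fun n => ?_
    rw [SModEq.sub_mem, smul_eq_mul, Ideal.mul_top]
    refine Ideal.pow_le_pow_right (Nat.le_add_right n 2) ?_
    convert hcl PowerSeries.X (n + 2) using 2
    rw [Finset.sum_eq_single 1]
    · simp
    · intro b _ hb; simp [PowerSeries.coeff_X, hb]
    · simp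
  refine ⟨φ, hX, ⟨?_, ?_⟩, hcl⟩
  · rw [injective_iff_map_eq_zero]
    intro f hf
    by_contra hne
    obtain ⟨n, g, hfg, hg⟩ : ∃ (n : ℕ) (g : PowerSeries K), f = PowerSeries.X ^ n * g ∧ IsUnit g := by
      obtain ⟨n, u, h⟩ := IsDiscreteValuationRing.eq_unit_mul_pow_irreducible hne PowerSeries.X_irreducible
      exact ⟨n, u, by rw [h, mul_comm], u.isUnit⟩
    rw [hfg, map_mul, map_pow, hX] at hf
    refine (mul_ne_zero (pow_ne_zero n ?_) (hg.map φ).ne_zero) hf
    intro h0
    exact IsDiscreteValuationRing.not_a_field A (by rw [hx, h0, Ideal.span_singleton_eq_bot])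
  · refine Groth.Agent.PSLoc.surjective_of_cotangent (Ideal.span {PowerSeries.X}) φ.toRingHom ?_ ?_ ?_
    · rw [Ideal.map_span, Set.image_singleton]
      exact le_of_eq (by rw [hx, show φ.toRingHom PowerSeries.X = x from hX])
    · rw [Ideal.map_span, Set.image_singleton]
      refine le_trans (le_of_eq ?_) le_sup_left
      rw [hx]; congr; exact hX.symm
    · intro y
      obtain ⟨c, hc⟩ := hK y
      refine ⟨algebraMap K _ c, ?_⟩
      rw [← hc, RingHom.comp_apply, RingHom.comp_apply]
      exact congrArg _ (φ.commutes c)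


open IsLocalRing in
/-- Let `A` be a complete discrete valuation ring with maximal ideal `m`, containing a field `K` such
that `K → A → A/m` is bijective (a coefficient field), and let `x` be any generator of `m`. Then the
`K`-algebra map `K[X] → A`, `X ↦ x`, extends to a bijective `K`-algebra map `φ : K⟦X⟧ → A`,
characterised by `φ(∑ aᵢ Xⁱ) ≡ ∑_{i<n} aᵢ xⁱ (mod mⁿ)` for every `n`. -/
theorem result (K : Type u) (A : Type v) [Field K]
    [CommRing A] [IsDomain A] [IsDiscreteValuationRing A] [Algebra K A]
    [IsAdicComplete (maximalIdeal A) A]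
    (hK : Function.Bijective ((residue A).comp (algebraMap K A)))
    (x : A) (hx : maximalIdeal A = Ideal.span {x}) :
    ∃ φ : PowerSeries K →ₐ[K] A, φ PowerSeries.X = x ∧ Function.Bijective φ ∧
      ∀ (f : PowerSeries K) (n : ℕ),
        φ f - (Finset.range n).sum (fun i => algebraMap K A (PowerSeries.coeff i f) * x ^ i) ∈
          maximalIdeal A ^ n := by
  exact main K A hK.2 x hx

end Groth.Agent.S12524
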