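import Groth.Statements.S7654
import Groth.Agent.DeltaFlat.Basic
import Groth.Agent.RedNorm.Nagata
import Groth.Agent.Hensel.EtLike
import Groth.Agent.RegLoc.Completion
-- import your own Groth.Agent.* helpers here

set_option autoImplicit false
universe u
open CategoryTheory CategoryTheory.Limits AlgebraicGeometry
open Variety

namespace Groth.Agent.S7654

open IsLocalRing TensorProduct in
theorem geometricallyReduced_of_separable (k K : Type u) [Field k] [Field K] [Algebra k K]
    [Algebra.IsSeparable k K] : Algebra.IsGeometricallyReduced k K := by
  refine Algebra.IsGeometricallyReduced.of_forall_fg fun B hB => ?_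
  obtain ⟨s, rfl⟩ := hB
  let E := IntermediateField.adjoin k (s : Set K)
  haveI : FiniteDimensional k E :=
    IntermediateField.finiteDimensional_adjoin fun x _ => Algebra.IsIntegral.isIntegral x
  haveI : Algebra.IsSeparable k E := Algebra.isSeparable_tower_bot_of_isSeparable k E K
  haveI : Algebra.FormallyUnramified k E := Algebra.FormallyUnramified.of_isSeparable k E
  haveI : Algebra.IsGeometricallyReduced k E := by
    rw [Algebra.isGeometricallyReduced_field_iff]
    exact Algebra.FormallyUnramified.isReduced_of_field (AlgebraicClosure k) _
  exact Algebra.IsGeometricallyReduced.of_injective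
    (Subalgebra.inclusion (show Algebra.adjoin k (s : Set K) ≤ E.toSubalgebra from
      IntermediateField.algebra_adjoin_le_adjoin k (s : Set K)))
    (Subalgebra.inclusion_injective _)

theorem geometricallyReduced_of_bijective (k K : Type u) [Field k] [Field K] [Algebra k K]
    (h : Function.Bijective (algebraMap k K)) : Algebra.IsGeometricallyReduced k K := by
  haveI : Algebra.IsSeparable k K := ⟨fun x => by
    obtain ⟨y, rfl⟩ := h.2 x
    exact isSeparable_algebraMap y⟩
  exact geometricallyReduced_of_separable k K

/-- For a reduced local Nagata ring A of Krull dimension one, the δ-invariant does not change on passing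
to a henselization of A, to a strict henselization of A, or to the completion of A. -/
theorem result (A : Type u) [CommRing A] [IsLocalRing A]
    [IsReduced A] (hN : CAlg.IsNagata A) (hdim : ringKrullDim A = 1) :
    (∀ (B : Type u) [CommRing B] [IsLocalRing B] [Algebra A B] [IsLocalHom (algebraMap A B)],
        Hensel.IsHenselization A B → Curv2.deltaInv B = Curv2.deltaInv A) ∧
      (∀ (B : Type u) [CommRing B] [IsLocalRing B] [Algebra A B] [IsLocalHom (algebraMap A B)],
        Hensel.IsStrictHenselization A B → Curv2.deltaInv B = Curv2.deltaInv A) ∧
      Curv2.deltaInv (Curv2.cpl A) = Curv2.deltaInv A := by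
  haveI := hN.1
  haveI := Groth.Agent.RedNorm.finite_integralClosure_of_isNagata A hN
  refine ⟨?_, ?_, ?_⟩
  · intro B _ _ _ _ hB
    have h := Groth.Agent.Hensel.isEtLike_of_isHenselization A B
    haveI := h.flat
    haveI := h.isNoetherianRing_of_base
    haveI := geometricallyReduced_of_bijective (IsLocalRing.ResidueField A) (IsLocalRing.ResidueField B)
      (Groth.Agent.Hens.residueMap_bijective_of_isHenselization (R := A) B)
    exact Groth.Agent.DeltaFlat.deltaInv_eq hdim h.map_max
  · intro B _ _ _ _ hB
    have h := Groth.Agent.Hensel.isEtLike_of_isStrictHenselization A B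
    haveI := h.flat
    haveI := h.isNoetherianRing_of_base
    haveI := hB.isSepClosure
    haveI : Algebra.IsSeparable (IsLocalRing.ResidueField A) (IsLocalRing.ResidueField B) :=
      IsSepClosure.separable
    haveI := geometricallyReduced_of_separable (IsLocalRing.ResidueField A) (IsLocalRing.ResidueField B)
    exact Groth.Agent.DeltaFlat.deltaInv_eq hdim h.map_max
  · haveI : IsNoetherianRing (Curv2.cpl A) :=
      Groth.Agent.RegLoc.Completion.isNoetherianRing_adicCompletion' _
    haveI := geometricallyReduced_of_bijective (IsLocalRing.ResidueField A)
      (IsLocalRing.ResidueField (Curv2.cpl A)) (AdicCompletion.residueField_map_bijective A)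
    exact Groth.Agent.DeltaFlat.deltaInv_eq hdim (AdicCompletion.maximalIdeal_eq_map).symm

end Groth.Agent.S7654
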