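import Groth.Statements.S9241
import Groth.Agent.HenGeomInt.DimOneBranch
import Groth.Agent.S1235
import Groth.Agent.S9237
import Groth.Agent.S9238
import Groth.Agent.RegLoc.AdicNoeth
-- import your own Groth.Agent.* helpers here

set_option autoImplicit false
universe u
open Brnch

namespace Groth.Agent.S9241

/-- For a Noetherian local ring A of dimension 1, A and its completion A^ have the same number of
branches and the same number of geometric branches. -/
theorem result (A : Type u) [CommRing A] [IsLocalRing A]
    [IsNoetherianRing A] (hA : ringKrullDim A = 1) :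
    Brnch.numBranches (AdicCompletion (IsLocalRing.maximalIdeal A) A) = Brnch.numBranches A ∧
      Brnch.numGeomBranches (AdicCompletion (IsLocalRing.maximalIdeal A) A) =
        Brnch.numGeomBranches A := by
  let C := AdicCompletion (IsLocalRing.maximalIdeal A) A
  haveI : IsNoetherianRing C :=
    Groth.Agent.RegLoc.AdicNoeth.isNoetherianRing_adicCompletion _ (IsNoetherian.noetherian _)
  haveI : Hensel.IsHenselization C C := Groth.Agent.Hens.isHenselization_self C
  constructor
  · let S := Groth.Agent.Hens.Henselization A
    have hS := Groth.Agent.Hensel.isEtLike_of_isHenselization A S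
    obtain ⟨ψ, hψ, -⟩ := (inferInstance : Hensel.IsHenselization A S).universal C (algebraMap A C) inferInstance
    letI : Algebra S C := ψ.toAlgebra
    haveI : IsScalarTower A S C := .of_algebraMap_eq fun a => (RingHom.congr_fun hψ a).symm
    haveI : IsLocalHom (algebraMap S C) := Groth.Agent.Hens.isLocalHom_of_isEtLike hS
    haveI : Module.Flat S C := Groth.Agent.S1235.flat_of_isEtLike hS C
    haveI : HenselianLocalRing S := Hensel.IsHenselization.henselian (R := A)
    haveI : IsNoetherianRing S := hS.isNoetherianRing_of_base
    have hmapC : (IsLocalRing.maximalIdeal S).map (algebraMap S C) =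
        (IsLocalRing.maximalIdeal A).map (algebraMap A C) := by
      rw [← hS.map_max, Ideal.map_map, ← IsScalarTower.algebraMap_eq]
    rw [← Groth.Agent.S9237.result A S, ← Groth.Agent.S9237.result C C]
    refine Groth.Agent.HenGeomInt.card_minimalPrimes_eq (fun N z => ?_)
      (hmapC.trans AdicCompletion.maximalIdeal_eq_map.symm) ?_
    · obtain ⟨a, ha⟩ := Groth.Agent.HenGeomInt.exists_sub_mem_of_completion A N z
      exact ⟨algebraMap A S a, by rw [hmapC, ← IsScalarTower.algebraMap_apply]; exact ha⟩
    · rw [Groth.Agent.RegLoc.Completion.ringKrullDim_completion, hA]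
  · let S := Groth.Agent.Hens.StrictHenselization A
    let T := Groth.Agent.Hens.StrictHenselization C
    have hS := Groth.Agent.Hensel.isEtLike_of_isStrictHenselization A S
    have hT := Groth.Agent.Hensel.isEtLike_of_isStrictHenselization C T
    haveI : HenselianLocalRing S := Hensel.IsStrictHenselization.henselian (R := A)
    haveI : HenselianLocalRing T := Hensel.IsStrictHenselization.henselian (R := C)
    haveI : IsNoetherianRing S := hS.isNoetherianRing_of_base
    haveI : IsNoetherianRing T := hT.isNoetherianRing_of_base
    letI : Algebra A T := ((algebraMap C T).comp (algebraMap A C)).toAlgebra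
    haveI : IsScalarTower A C T := .of_algebraMap_eq' rfl
    haveI : IsLocalHom (algebraMap A T) := RingHom.isLocalHom_comp _ _
    haveI : Module.Flat C T := hT.flat
    haveI : Module.Flat A T := Module.Flat.trans A C T
    haveI : IsSepClosure (IsLocalRing.ResidueField C) (IsLocalRing.ResidueField T) :=
      Hensel.IsStrictHenselization.isSepClosure
    haveI : IsSepClosure (IsLocalRing.ResidueField A) (IsLocalRing.ResidueField T) :=
      Groth.Agent.Hens.isSepClosure_residue_of_bijective (C := C) (AdicCompletion.residueField_map_bijective A)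
    haveI : IsSepClosure (IsLocalRing.ResidueField A) (IsLocalRing.ResidueField S) :=
      Hensel.IsStrictHenselization.isSepClosure
    let σ := IsSepClosure.equiv (IsLocalRing.ResidueField A) (IsLocalRing.ResidueField S) (IsLocalRing.ResidueField T)
    obtain ⟨ψ, ⟨hψ, -⟩, -⟩ := (inferInstance : Hensel.IsStrictHenselization A S).universal T (algebraMap A T)
      σ.toAlgHom.toRingHom (RingHom.ext fun z => by
        obtain ⟨a, rfl⟩ := IsLocalRing.residue_surjective z
        exact σ.commutes (IsLocalRing.residue A a))
    letI : Algebra S T := ψ.toAlgebra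
    haveI : IsScalarTower A S T := .of_algebraMap_eq fun a => (RingHom.congr_fun hψ a).symm
    haveI : IsLocalHom (algebraMap S T) := Groth.Agent.Hens.isLocalHom_of_isEtLike hS
    haveI : Module.Flat S T := Groth.Agent.S1235.flat_of_isEtLike hS T
    let U := AdicCompletion (IsLocalRing.maximalIdeal S) S
    haveI : IsNoetherianRing U :=
      Groth.Agent.RegLoc.AdicNoeth.isNoetherianRing_adicCompletion _ (IsNoetherian.noetherian _)
    let f : A →+* U := (algebraMap S U).comp (algebraMap A S)
    haveI : IsLocalHom f := RingHom.isLocalHom_comp _ _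
    have hfg : (IsLocalRing.maximalIdeal S).FG := IsNoetherian.noetherian _
    haveI : IsAdicComplete (IsLocalRing.maximalIdeal U) U := by
      rw [AdicCompletion.maximalIdeal_eq_map]
      exact Groth.Agent.Adic.Rig.isAdicComplete_map hfg
    obtain ⟨μ, hμ⟩ := Groth.Agent.Adic.Rig.exists_lift (J := IsLocalRing.maximalIdeal A) f
      (IsLocalRing.maximalIdeal U) (by
        rw [AdicCompletion.maximalIdeal_eq_map, ← Ideal.map_map, hS.map_max])
    haveI : IsLocalHom μ := ⟨fun x hx => by
      by_contra hnx
      have h1 : x ∈ IsLocalRing.maximalIdeal C := hnx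
      rw [AdicCompletion.maximalIdeal_eq_map] at h1
      have h2 := Ideal.mem_map_of_mem μ h1
      rw [Ideal.map_map, hμ] at h2
      exact IsLocalRing.map_maximalIdeal_le f h2 hx⟩
    let ρS := RingEquiv.ofBijective _ (AdicCompletion.residueField_map_bijective S)
    let τ : IsLocalRing.ResidueField T →+* IsLocalRing.ResidueField U :=
      ρS.toRingHom.comp σ.symm.toAlgHom.toRingHom
    obtain ⟨χ, ⟨hχ, -⟩, -⟩ := (inferInstance : Hensel.IsStrictHenselization C T).universal U μ τ (by
      refine RingHom.ext fun z => ?_
      obtain ⟨z, rfl⟩ := (AdicCompletion.residueField_map_bijective A).2 z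
      obtain ⟨a, rfl⟩ := IsLocalRing.residue_surjective z
      have e1 : IsLocalRing.ResidueField.map (algebraMap C T) (IsLocalRing.ResidueField.map (algebraMap A C)
          (IsLocalRing.residue A a)) = algebraMap (IsLocalRing.ResidueField A) (IsLocalRing.ResidueField T)
            (IsLocalRing.residue A a) := rfl
      rw [RingHom.comp_apply, e1]
      show ρS (σ.symm (algebraMap _ _ (IsLocalRing.residue A a))) = _
      rw [AlgEquiv.commutes]
      show IsLocalRing.residue U (f a) = IsLocalRing.residue U (μ (algebraMap A C a))
      rw [← RingHom.comp_apply μ, hμ])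
    letI : Algebra C U := μ.toAlgebra
    letI : Algebra T U := χ.toAlgebra
    haveI : IsScalarTower C T U := .of_algebraMap_eq fun x => (RingHom.congr_fun hχ x).symm
    haveI : IsScalarTower A S U := .of_algebraMap_eq fun _ => rfl
    haveI : IsScalarTower A T U := .of_algebraMap_eq fun a => by
      rw [IsScalarTower.algebraMap_apply A C T, ← IsScalarTower.algebraMap_apply C T U]
      exact (RingHom.congr_fun hμ a).symm
    haveI : IsLocalHom (algebraMap C U) := inferInstanceAs (IsLocalHom μ)
    haveI : IsLocalHom (algebraMap T U) := Groth.Agent.Hens.isLocalHom_of_isEtLike hT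
    haveI : Module.Flat A S := hS.flat
    haveI : Module.Flat A U := Module.Flat.trans A S U
    have hTmax : (IsLocalRing.maximalIdeal A).map (algebraMap A T) = IsLocalRing.maximalIdeal T := by
      rw [IsScalarTower.algebraMap_eq A C T, ← Ideal.map_map, ← AdicCompletion.maximalIdeal_eq_map,
        hT.map_max]
    haveI : ((IsLocalRing.maximalIdeal A).map (algebraMap A T)).IsMaximal :=
      hTmax ▸ IsLocalRing.maximalIdeal.isMaximal T
    haveI : Module.Flat T U := Groth.Agent.Adic.Rig.flat_of_map_isMaximal (IsLocalRing.maximalIdeal A) (by
      rw [IsLocalRing.jacobson_eq_maximalIdeal ⊥ bot_ne_top]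
      exact IsLocalRing.le_maximalIdeal (by
        rw [IsScalarTower.algebraMap_eq A S U, ← Ideal.map_map, hS.map_max,
          ← AdicCompletion.maximalIdeal_eq_map]
        exact (IsLocalRing.maximalIdeal.isMaximal U).ne_top))
    rw [← Groth.Agent.S9238.result A S, ← Groth.Agent.S9238.result C T]
    refine le_antisymm ((Groth.Agent.Hens.card_minimalPrimes_le (S := T) (T := U)).trans (le_of_eq ?_))
      Groth.Agent.Hens.card_minimalPrimes_le
    refine Groth.Agent.HenGeomInt.card_minimalPrimes_eq
      (fun N z => Groth.Agent.HenGeomInt.exists_sub_mem_of_completion S N z)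
      AdicCompletion.maximalIdeal_eq_map.symm ?_
    rw [Groth.Agent.RegLoc.Completion.ringKrullDim_completion, hS.ringKrullDim_eq, hA]

end Groth.Agent.S9241
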