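import Groth.Statements.S0912
import Groth.Agent.KFlat.SchemeTor
import Groth.Agent.KFlat.FlatRes

open Groth.Agent.KFlat

set_option autoImplicit false
universe u
open CategoryTheory
attribute [local instance] HasDerivedCategory.standard
open DCoh

namespace Groth.Agent.S0912

open AlgebraicGeometry in
/-- For E in D(O_X) and integers a ≤ b, E has tor-amplitude in [a, b] (all H^i(E ⊗^L F), F an
O_X-module, vanish for i outside [a, b]; derived tensor products under their existence binder) if
and only if E is represented by a complex of flat O_X-modules which is zero outside [a, b]. The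
existence of the derived tensor product – ⊗^L G for every O_X-module G is assumed (hypothesis hL). -/
theorem result {X : Scheme.{u}} (E : DCoh.D X) (a b : ℤ) (hab : a ≤ b)
    (hL : ∀ G : X.Modules, DCoh.HasLTensorMod G) :
    DCoh.HasTorAmplitudeIn a b E ↔ DCoh.HasFlatAmplitudeIn a b E := by
  refine ⟨fun h => ?_, SchemeTor.torAmp_of_flatAmp⟩
  let F := DerivedCategory.Q.objPreimage E
  let P₀ := (Pull.resY X).obj F
  have := Pull.quasiIso_resYπ F
  let e₀ : DerivedCategory.Q.obj P₀ ≅ E :=
    asIso (DerivedCategory.Q.map ((Pull.resYπ X).app F)) ≪≫ DerivedCategory.Q.objObjPreimageIso E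
  have hF : ∀ i, b < i → Limits.IsZero (F.homology i) := fun i hi =>
    ((HomologicalComplex.exactAt_iff_isZero_homology _ _).1
      (SchemeTor.exactAt_of_tensor fun G =>
        (SchemeTor.torAmp_iff (Pull.isKFlat_resY F) e₀ a b).1 h G i (Or.inr hi))).of_iso
      (asIso (HomologicalComplex.homologyMap ((Pull.resYπ X).app F) i)).symm
  obtain ⟨P, g, hflat, hb, hg⟩ := FlatRes.exists_flatRes F b hF
  let e : DerivedCategory.Q.obj P ≅ E :=
    asIso (DerivedCategory.Q.map g) ≪≫ DerivedCategory.Q.objObjPreimageIso E
  have hP : DCoh.IsKFlat P := isKFlat_of_flat_boundedAbove P b hb hflat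
  have hv := (SchemeTor.torAmp_iff hP e a b).1 h
  have : P.IsGE a := (CochainComplex.isGE_iff P a).2 fun i hi =>
    SchemeTor.exactAt_of_tensor fun G => hv G i (Or.inl hi)
  have hcok := SchemeTor.flat_cokernel hflat a fun G => hv G (a - 1) (Or.inl (by omega))
  let T := P.truncGE a
  have hT : DCoh.VanishesOutside T a b := fun i hi => by
    rcases hi with hi | hi
    · exact T.isZero_of_isStrictlyGE a i hi
    · exact (hb i hi).of_iso (P.truncGEXIso a i (by omega))
  refine ⟨T, hT, fun i => ?_, ⟨(asIso (DerivedCategory.Q.map (P.πTruncGE a))).symm ≪≫ e⟩⟩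
  rcases lt_trichotomy i a with hi | hi | hi
  · exact FlatRes.flatP_of_isZero X (T.isZero_of_isStrictlyGE a i hi)
  · subst hi
    exact (FlatRes.flatP X).prop_of_iso
      ((P.truncGEXIsoOpcycles i ≪≫ (P.opcyclesIsCokernel (i - 1) i (by simp)).coconePointUniqueUpToIso
        (Limits.cokernelIsCokernel (P.d (i - 1) i))).symm) hcok
  · exact (FlatRes.flatP X).prop_of_iso (P.truncGEXIso a i hi).symm (hflat i)

end Groth.Agent.S0912
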