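import Groth.Statements.S3564
import Groth.Agent.ProjMor.ChartIdeal
import Groth.Agent.ProjMor.ChartKer
import Groth.Agent.ProjMor.Closed
import Groth.Agent.RelProjLib.ProjMap
-- import your own Groth.Agent.* helpers here

set_option autoImplicit false
universe u
open CategoryTheory CategoryTheory.Limits AlgebraicGeometry
open EGA2

namespace Groth.Agent.S3564

set_option backward.isDefEq.respectTransparency.types false

open HomogeneousLocalization Groth.Agent.ProjMor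
open scoped HomogeneousIdeal

section

variable {R A B : Type u} [CommRing R] [CommRing A] [CommRing B] [Algebra R A] [Algebra R B]
  (𝒜 : ℕ → Submodule R A) [GradedAlgebra 𝒜] (π : A →ₐ[R] B)

theorem isInternal_map (hs : Function.Surjective π) (hk : (RingHom.ker π).IsHomogeneous 𝒜) :
    DirectSum.IsInternal (fun i => (𝒜 i).map π.toLinearMap) :=
  pushGr_isInternal (𝒜 := 𝒜) (π := π.toRingHom) hs hk

/-- The grading of the quotient. -/
@[instance_reducible]
noncomputable def mapGraded (hs : Function.Surjective π) (hk : (RingHom.ker π).IsHomogeneous 𝒜) :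
    GradedAlgebra (fun i => (𝒜 i).map π.toLinearMap) :=
  { (isInternal_map 𝒜 π hs hk).chooseDecomposition with
    one_mem := ⟨1, SetLike.one_mem_graded 𝒜, map_one π⟩
    mul_mem := by
      rintro i j _ _ ⟨a, ha, rfl⟩ ⟨b, hb, rfl⟩
      exact ⟨a * b, SetLike.mul_mem_graded ha hb, map_mul π a b⟩ }

end

section

variable {A σ : Type u} [CommRing A] [SetLike σ A] [AddSubgroupClass σ A] (𝒜 : ℕ → σ) [GradedRing 𝒜]
  {Z : Scheme.{u}} (i : Z ⟶ Proj 𝒜)

/-- The ideals of `i` on the standard charts. -/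
noncomputable def fam : ChartFam 𝒜 := fun d f hf =>
  if hd : 0 < d then kerAt i (Proj.awayι 𝒜 f hf hd) else ⊤

theorem fam_of_pos {d : ℕ} (hd : 0 < d) (f : A) (hf : f ∈ 𝒜 d) :
    fam 𝒜 i d f hf = kerAt i (Proj.awayι 𝒜 f hf hd) :=
  dif_pos hd

theorem fam_compat : Compat (fam 𝒜 i) := by
  intro d e hd he f g hf hg
  rw [fam_of_pos 𝒜 i hd, fam_of_pos 𝒜 i he]
  refine (kerAt_comp i _ (CommRingCat.ofHom (awayMap 𝒜 hg rfl))).symm.trans
    (Eq.trans ?_ (kerAt_comp i _ (CommRingCat.ofHom (awayMap 𝒜 hf (mul_comm f g)))))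
  refine kerAt_congr i ?_
  rw [Proj.SpecMap_awayMap_awayι, Proj.SpecMap_awayMap_awayι]
  have key : ∀ (m m' : ℕ) (hm : f * g ∈ 𝒜 m) (hm' : f * g ∈ 𝒜 m') (h : 0 < m) (h' : 0 < m'),
      m = m' → Proj.awayι 𝒜 (f * g) hm h = Proj.awayι 𝒜 (f * g) hm' h' := by
    rintro m m' hm hm' h h' rfl
    rfl
  exact key _ _ _ _ _ _ (add_comm d e)

theorem map_awayι_isPullback {B τ : Type u} [CommRing B] [SetLike τ B] [AddSubgroupClass τ B] {ℬ : ℕ → τ}
    [GradedRing ℬ] (φ : 𝒜 →+*ᵍ ℬ) (hφ : ℬ₊ ≤ 𝒜₊.map φ) {d : ℕ} (hd : 0 < d) (f : A) (hf : f ∈ 𝒜 d) :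
    IsPullback (Proj.awayι ℬ (φ f) (φ.2 hf) hd) (Spec.map (CommRingCat.ofHom (Away.map φ f)))
      (Proj.map φ hφ) (Proj.awayι 𝒜 f hf hd) := by
  refine (IsOpenImmersion.isPullback _ _ (Proj.awayι 𝒜 f hf hd) (Proj.map φ hφ)
    (Proj.awayι_comp_map φ hφ hd f hf) ?_).flip
  rw [Proj.opensRange_awayι, Proj.opensRange_awayι, Proj.map_preimage_basicOpen]

theorem ker_eq {B τ : Type u} [CommRing B] [SetLike τ B] [AddSubgroupClass τ B] {ℬ : ℕ → τ}
    [GradedRing ℬ] (φ : 𝒜 →+*ᵍ ℬ) (hφ : ℬ₊ ≤ 𝒜₊.map φ) [IsClosedImmersion (Proj.map φ hφ)]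
    (hker : ∀ x, φ x = 0 ↔ x ∈ core (fam 𝒜 i))
    {ι : Type u} [Finite ι] {deg : ι → ℕ} {el : ι → A} (hT : Covers (𝒜 := 𝒜) deg el) :
    i.ker = (Proj.map φ hφ).ker := by
  refine ker_eq_of_kerAt i _ (fun j : {q : ℕ × A // 0 < q.1 ∧ q.2 ∈ 𝒜 q.1} =>
    Proj.awayι 𝒜 j.1.2 j.2.2 j.2.1) (fun x => ?_) ?_
  · obtain ⟨s, hs⟩ := TopologicalSpace.Opens.mem_iSup.1
      (((Proj.affineOpenCover 𝒜).openCover.iSup_opensRange).ge (Set.mem_univ x))
    exact ⟨⟨(s.1.1, s.2.1), s.1.2, s.2.2⟩, (Proj.opensRange_awayι 𝒜 (s.2 : A) s.2.2 s.1.2).ge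
      ((Proj.opensRange_awayι 𝒜 (s.2 : A) s.2.2 s.1.2).le hs)⟩
  rintro ⟨⟨d, f⟩, hd, hf⟩
  rw [kerAt_of_isPullback _ _ _ _ (map_awayι_isPullback 𝒜 φ hφ hd f hf), ← fam_of_pos 𝒜 i hd f hf]
  ext z
  obtain ⟨k, x, hx, rfl⟩ := Away.mk_surjective 𝒜 hf z
  rw [mk_mem_iff (fam 𝒜 i) (fam_compat 𝒜 i) hT hd, RingHom.mem_ker]
  refine Iff.trans ?_ (Eq.congr_left (Away.map_mk φ f hf k x hx).symm)
  rw [ProjMor.mk_eq_zero_iff]
  refine exists_congr fun n => ?_
  rw [← hker, map_mul, map_pow]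

end


/-- Let S be a graded ring whose irrelevant ideal S_+ is generated by finitely many elements of degree
one, X = Proj S, and Z → X a closed immersion. Then Z is X-isomorphic to Proj S' for a graded
quotient S' of S (a surjective homomorphism of graded rings S → S'), the isomorphism being
compatible with the morphism Proj S' → X induced by the quotient map. (The source moreover
identifies the kernel: the largest graded ideal with this property, the inverse image of Γ_*(J)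
under α; that description is not stated here.) -/
theorem result {R A : Type u} [CommRing R] [CommRing A] [Algebra R A] (𝒜 : ℕ → Submodule R A) [GradedAlgebra 𝒜]
    (s : Finset A) (hs1 : ∀ f ∈ s, f ∈ 𝒜 1)
    (hs : (HomogeneousIdeal.irrelevant 𝒜).toIdeal = Ideal.span (s : Set A))
    {Z : Scheme.{u}} (i : Z ⟶ Proj 𝒜) [IsClosedImmersion i] :
    ∃ (B : Type u) (_ : CommRing B) (_ : Algebra R B) (ℬ : ℕ → Submodule R B) (_ : GradedAlgebra ℬ)
      (φ : 𝒜 →+*ᵍ ℬ) (_ : Function.Surjective φ)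
      (hφ : HomogeneousIdeal.irrelevant ℬ ≤ (HomogeneousIdeal.irrelevant 𝒜).map φ)
      (e : Z ≅ Proj ℬ), e.hom ≫ Proj.map φ hφ = i := by
  classical
  let I : Ideal A := core (fam 𝒜 i)
  let π : A →ₐ[R] A ⧸ I := Ideal.Quotient.mkₐ R I
  have hs' : Function.Surjective π := Ideal.Quotient.mkₐ_surjective R I
  have hk : (RingHom.ker π).IsHomogeneous 𝒜 := by
    have h : RingHom.ker π = I := Ideal.Quotient.mkₐ_ker R I
    rw [h]
    exact core_isHomogeneous (fam 𝒜 i)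
  let inst : GradedAlgebra (fun n => (𝒜 n).map π.toLinearMap) := mapGraded 𝒜 π hs' hk
  let φ : 𝒜 →+*ᵍ (fun n => (𝒜 n).map π.toLinearMap) :=
    { π.toRingHom with map_mem := fun {n x} hx => ⟨x, hx, rfl⟩ }
  have hφ : HomogeneousIdeal.irrelevant (fun n => (𝒜 n).map π.toLinearMap) ≤
      (HomogeneousIdeal.irrelevant 𝒜).map φ := by
    rw [HomogeneousIdeal.irrelevant_le]
    rintro n hn _ ⟨a, ha, rfl⟩
    exact Ideal.mem_map_of_mem _ (HomogeneousIdeal.mem_irrelevant_of_mem _ hn ha)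
  have hci : IsClosedImmersion (Proj.map φ hφ) := RelProjLib.isClosedImmersion_map φ hφ hs'
  have hT : Covers (𝒜 := 𝒜) (fun _ : s => 1) (fun j : s => (j : A)) :=
    ⟨fun _ => Nat.one_pos, fun j => hs1 j j.2, fun d hd f hf => Ideal.le_radical (by
      rw [show Set.range (fun j : s => (j : A)) = (s : Set A) from Subtype.range_coe_subtype.trans rfl, ← hs]
      exact HomogeneousIdeal.mem_irrelevant_of_mem _ hd hf)⟩
  have hker : i.ker = (Proj.map φ hφ).ker :=
    ker_eq 𝒜 i φ hφ (fun x => Ideal.Quotient.eq_zero_iff_mem) hT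
  have := IsClosedImmersion.isIso_lift i (Proj.map φ hφ) hker
  refine ⟨A ⧸ I, inferInstance, inferInstance, fun n => (𝒜 n).map π.toLinearMap, inst, φ, hs', hφ,
    (asIso (IsClosedImmersion.lift i (Proj.map φ hφ) hker.le)).symm, ?_⟩
  rw [Iso.symm_hom, asIso_inv, IsIso.inv_comp_eq]
  exact (IsClosedImmersion.lift_fac _ _ _).symm

end Groth.Agent.S3564
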