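import Groth.Statements.S9570
import Groth.Agent.S3564
import Groth.Agent.ProjSpec.DomTwist
import Groth.Agent.ProjTwist.Invertible

set_option autoImplicit false
universe u
open CategoryTheory CategoryTheory.Limits AlgebraicGeometry TopologicalSpace Opposite
open Constr

namespace Groth.Agent.S9570

open Groth.Agent Groth.Agent.QCoh Groth.Agent.Props.GenLocus Groth.Agent.Props.GenPull
  Groth.Agent.ProjMor HomogeneousLocalization

section

variable {R A : Type u} [CommRing R] [CommRing A] [Algebra R A] {𝒜 : ℕ → Submodule R A} [GradedAlgebra 𝒜]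
  {Z : Scheme.{u}} (i : Z ⟶ Proj 𝒜) [IsClosedImmersion i]

lemma mem_kerAt_awayι {d : ℕ} {f : A} (hf : f ∈ 𝒜 d) (hd : 0 < d) (z : Away 𝒜 f) :
    z ∈ kerAt i (Proj.awayι 𝒜 f hf hd) ↔
      i.app (Proj.basicOpen 𝒜 f) (Proj.awayToSection 𝒜 f z) = 0 := by
  let U := Proj.basicOpen 𝒜 f
  have hU : IsAffineOpen U := Proj.isAffineOpen_basicOpen 𝒜 f hf hd
  have hV : IsAffineOpen (i ⁻¹ᵁ U) := hU.preimage i
  have hfrom : Spec.map (Proj.awayToSection 𝒜 f) ≫ Proj.awayι 𝒜 f hf hd = hU.fromSpec := by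
    haveI : IsAffine U.toScheme := hU
    have key : U.toSpecΓ ≫ Spec.map (Proj.awayToSection 𝒜 f) ≫ Proj.awayι 𝒜 f hf hd = U.ι := by
      rw [← Category.assoc, show U.toSpecΓ ≫ Spec.map (Proj.awayToSection 𝒜 f) =
        (Proj.basicOpenIsoSpec 𝒜 f hf hd).hom from rfl, Proj.awayι, Iso.hom_inv_id_assoc]
    rw [← cancel_epi hU.isoSpec.hom, IsAffineOpen.fromSpec, Iso.hom_inv_id_assoc]
    exact key
  have hpb : IsPullback hV.fromSpec (Spec.map (Proj.awayToSection 𝒜 f ≫ i.app U)) i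
      (Proj.awayι 𝒜 f hf hd) := by
    refine (IsOpenImmersion.isPullback _ _ (Proj.awayι 𝒜 f hf hd) i ?_ ?_).flip
    · rw [Spec.map_comp, Category.assoc, hfrom, Scheme.Hom.app_eq_appLE,
        IsAffineOpen.SpecMap_appLE_fromSpec]
    · rw [Proj.opensRange_awayι, hV.opensRange_fromSpec]
  rw [kerAt_of_isPullback i _ _ _ hpb, RingHom.mem_ker]
  rfl

end

lemma frac_smul {R A : Type u} [CommRing R] [CommRing A] [Algebra R A] {𝒜 : ℕ → Submodule R A}
    [GradedAlgebra 𝒜] {f F : A} {d : ℕ} (hf : f ∈ 𝒜 1) (hF : F ∈ 𝒜 d) (hF' : F ∈ 𝒜 (d • 1)) :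
    Proj.awayToSection 𝒜 f (Away.mk 𝒜 hf d F hF') •
        (show Γ(Twist.twist 𝒜 (d : ℤ), Proj.basicOpen 𝒜 f) from
          ProjTwist.unitSec hf (d : ℤ) (Opposite.op (Proj.basicOpen 𝒜 f)) fun y => y.2) =
      res (Twist.twist 𝒜 (d : ℤ)) (le_top : Proj.basicOpen 𝒜 f ≤ ⊤)
        (show Γ(Twist.twist 𝒜 (d : ℤ), ⊤) from Twist.globalOf 𝒜 ⟨F, hF⟩) := by
  refine ProjTwist.sectN_ext (U := Opposite.op (Proj.basicOpen 𝒜 f)) fun y =>
    (ProjTwist.smul_coe (U := Opposite.op (Proj.basicOpen 𝒜 f)) _ _ y).trans ?_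
  erw [ProjTwist.unitSec_coe]
  rw [ProjTwist.unitAt_zpow y.1 y.2 d 0 d (by simp)]
  refine (congrArg (· * _) (show _ = Localization.mk F
    ⟨f ^ d, ProjTwist.not_mem_pow y.1 y.2 d⟩ from HomogeneousLocalization.val_mk _)).trans ?_
  rw [Localization.mk_mul]
  show _ = Localization.mk F _
  rw [Localization.mk_eq_mk_iff, Localization.r_iff_exists]
  exact ⟨1, by simp [mul_comm]⟩

/-- Let R be a ring and i : Z → P^n_R a closed immersion. For d ≥ 0 let I_d be the kernel of the map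
from the degree-d forms of R[T_0, …, T_n] to the global sections of i^*O(d), sending a form F to the
inverse image of the global section F of O(d). Then I = ⊕ I_d is a graded ideal and Z is the closed
subscheme Proj(R[T_0, …, T_n]/I) of P^n_R: for every surjective homomorphism of graded rings φ from
R[T_0, …, T_n] onto a graded ring B whose kernel in each degree d is exactly I_d, there is an
isomorphism Z ≅ Proj B whose composite with the morphism Proj B → P^n_R induced by φ is i. -/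
theorem result {R : Type u} [CommRing R] (n : ℕ)
    {Z : Scheme.{u}} (i : Z ⟶ CohB1.ProjSpace n R) [IsClosedImmersion i]
    {B : Type u} [CommRing B] [Algebra R B] (ℬ : ℕ → Submodule R B) [GradedAlgebra ℬ]
    (φ : CohB1.polyGrading n R →+*ᵍ ℬ) (hφs : Function.Surjective φ)
    (hker : ∀ (d : ℕ) (F : MvPolynomial (Fin (n + 1)) R) (hF : F ∈ CohB1.polyGrading n R d),
      φ F = 0 ↔ ProjUP.pullSec i (Twist.twistProjSpace n R d) (Twist.globalOf (CohB1.polyGrading n R) ⟨F, hF⟩) = 0)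
    (hφ : HomogeneousIdeal.irrelevant ℬ ≤ (HomogeneousIdeal.irrelevant (CohB1.polyGrading n R)).map φ) :
    ∃ e : Z ≅ Proj ℬ, e.hom ≫ Proj.map φ hφ = i := by
  classical
  let 𝒜 := CohB1.polyGrading n R
  let i' : Z ⟶ Proj 𝒜 := i
  haveI : IsClosedImmersion i' := ‹IsClosedImmersion i›
  let el : ULift.{u} (Fin (n + 1)) → MvPolynomial (Fin (n + 1)) R := fun k => MvPolynomial.X k.down
  have hel : ∀ k, el k ∈ 𝒜 1 := fun k => MvPolynomial.isHomogeneous_X R k.down
  have hT : Covers (𝒜 := 𝒜) (fun _ : ULift.{u} (Fin (n + 1)) => 1) el := by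
    refine ⟨fun _ => Nat.one_pos, hel, fun d hd f hf => Ideal.le_radical ?_⟩
    have hsup : f ∈ Ideal.span (MvPolynomial.X '' (Set.univ : Set (Fin (n + 1)))) := by
      rw [MvPolynomial.mem_ideal_span_X_image]
      intro m hm
      by_contra! hno
      have hm0 : m = 0 := Finsupp.ext fun a => by simpa using hno a trivial
      have := (MvPolynomial.mem_homogeneousSubmodule d f).mp hf (MvPolynomial.mem_support_iff.mp hm)
      rw [hm0, map_zero] at this
      omega
    refine Ideal.span_mono ?_ hsup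
    rintro _ ⟨k, -, rfl⟩
    exact ⟨⟨k⟩, rfl⟩
  have hc := S3564.fam_compat 𝒜 i'
  have hcov : (⊤ : (Proj 𝒜).Opens) ≤ ⨆ k : ULift.{u} (Fin (n + 1)), Proj.basicOpen 𝒜 (el k) := by
    intro x _
    obtain ⟨k, hk⟩ := TopologicalSpace.Opens.mem_iSup.mp
      ((ProjTwist.iSup_stdOpen n R).ge (trivial : x ∈ (⊤ : (CohB1.ProjSpace n R).Opens)))
    exact TopologicalSpace.Opens.mem_iSup.mpr ⟨⟨k⟩, hk⟩
  have hdeg : ∀ (d : ℕ) (F : MvPolynomial (Fin (n + 1)) R), F ∈ 𝒜 d →
      (φ F = 0 ↔ F ∈ core (S3564.fam 𝒜 i')) := by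
    intro d F hF
    rw [hker d F hF]
    have hF' : F ∈ 𝒜 (d • 1) := by simpa using hF
    have h1 : F ∈ core (S3564.fam 𝒜 i') ↔ ∀ k, i'.app (Proj.basicOpen 𝒜 (el k))
        (Proj.awayToSection 𝒜 (el k) (Away.mk 𝒜 (hel k) d F hF')) = 0 := by
      simp_rw [← mem_kerAt_awayι i' (hel _) Nat.one_pos, ← S3564.fam_of_pos 𝒜 i' Nat.one_pos,
        mk_mem_iff (S3564.fam 𝒜 i') hc hT Nat.one_pos]
      refine ⟨fun h k => ⟨0, by simpa using h⟩, fun h => mem_core_of_cover _ hc hT fun k => ?_⟩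
      obtain ⟨m, hm⟩ := h k
      exact sat_saturated _ ((mem_core _).mp hm 1 (el k) (hel k) Nat.one_pos)
    rw [h1]
    let L := Twist.twist 𝒜 (d : ℤ)
    let P := (Scheme.Modules.pullback i').obj L
    let G : Γ(L, ⊤) := Twist.globalOf 𝒜 ⟨F, hF⟩
    show pb i' G = 0 ↔ _
    have hres : ∀ k, res P (i'.preimage_mono le_top) (pb i' G) =
        i'.app _ (Proj.awayToSection 𝒜 (el k) (Away.mk 𝒜 (hel k) d F hF')) •
          pb i' (show Γ(L, Proj.basicOpen 𝒜 (el k)) from
            ProjTwist.unitSec (hel k) (d : ℤ) (Opposite.op (Proj.basicOpen 𝒜 (el k))) fun y => y.2) := by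
      intro k
      have h2 := congrArg (LFFrame.unitSec i' L (Proj.basicOpen 𝒜 (el k))) (frac_smul (hel k) hF hF')
      rw [LFFrame.unitSec_smul, LFFrame.unitSec_res] at h2
      exact h2.symm
    constructor
    · intro h k
      have h3 := hres k
      rw [h, map_zero] at h3
      have hg := isGen_pb i' (L := L) (e := (show Γ(L, Proj.basicOpen 𝒜 (el k)) from
        ProjTwist.unitSec (hel k) (d : ℤ) (Opposite.op (Proj.basicOpen 𝒜 (el k))) fun y => y.2))
        (fun V hV => ProjTwist.bijective_smul_unitSec (hel k) (d : ℤ) (Opposite.op V) fun y => hV y.2)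
      refine hg.injective le_rfl ?_
      rw [res_self, zero_smul]
      exact h3.symm
    · intro h
      refine eq_of_locally_eq P (U := fun k => i' ⁻¹ᵁ Proj.basicOpen 𝒜 (el k))
        (fun k => i'.preimage_mono le_top) (fun z _ => ?_) _ _ fun k => ?_
      · obtain ⟨k, hk⟩ := TopologicalSpace.Opens.mem_iSup.mp (hcov (trivial : i' z ∈ _))
        exact TopologicalSpace.Opens.mem_iSup.mpr ⟨k, hk⟩
      · rw [map_zero]
        refine (hres k).trans ?_
        rw [h k, zero_smul]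
  have hcore : ∀ x, φ x = 0 ↔ x ∈ core (S3564.fam 𝒜 i') := by
    intro x
    constructor
    · intro hx
      rw [← DirectSum.sum_support_decompose 𝒜 x]
      refine sum_mem fun j _ => (hdeg j _ (DirectSum.decompose 𝒜 x j).2).mp ?_
      have h := DirectSum.decompose_map (ℬ := ℬ) (𝒜 := 𝒜) φ (x := x)
      have h2 : (DirectSum.decompose ℬ (φ x) j : B) = φ (DirectSum.decompose 𝒜 x j : _) := by
        rw [h]
        simp [GradedRingHom.gradedAddHom]
      rw [← h2, hx]
      simp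
    · intro hx
      rw [← DirectSum.sum_support_decompose 𝒜 x, map_sum]
      exact Finset.sum_eq_zero fun j _ =>
        (hdeg j _ (DirectSum.decompose 𝒜 x j).2).mpr (core_isHomogeneous _ j hx)
  haveI : IsClosedImmersion (Proj.map φ hφ) := RelProjLib.isClosedImmersion_map φ hφ hφs
  have hk : i'.ker = (Proj.map φ hφ).ker := S3564.ker_eq 𝒜 i' φ hφ hcore hT
  have := IsClosedImmersion.isIso_lift i' (Proj.map φ hφ) hk
  refine ⟨(asIso (IsClosedImmersion.lift i' (Proj.map φ hφ) hk.le)).symm, ?_⟩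
  show (asIso (IsClosedImmersion.lift i' (Proj.map φ hφ) hk.le)).symm.hom ≫ Proj.map φ hφ = i'
  rw [Iso.symm_hom, asIso_inv, IsIso.inv_comp_eq]
  exact (IsClosedImmersion.lift_fac _ _ _).symm

end Groth.Agent.S9570
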