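import Groth.Statements.S6263
import Mathlib
-- import your own Groth.Agent.* helpers here

set_option autoImplicit false
universe u
open CAlg

namespace Groth.Agent.S6263

/-- For a ring map R → S and a finite S-module N which is flat as an R-module, generalizations lift
along the map from the support of N (a subset of Spec S) to Spec R: if p ≤ p' are primes of R and q'
is a prime of S in the support of N whose inverse image in R is p', then some prime q ≤ q' of S lies
in the support of N and has inverse image p. -/
theorem result {R S : Type u} [CommRing R] [CommRing S] [Algebra R S] (N : Type u) [AddCommGroup N] [Module S N] [Module R N] [IsScalarTower R S N] [Module.Finite S N] [Module.Flat R N] (p p' : Ideal R) [p.IsPrime] [p'.IsPrime] (hle : p ≤ p') (q' : PrimeSpectrum S) (hq' : q' ∈ Module.support S N) (hover : q'.asIdeal.under R = p') : ∃ q : PrimeSpectrum S, q ≤ q' ∧ q ∈ Module.support S N ∧ q.asIdeal.under R = p := by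
  classical
  haveI : q'.asIdeal.IsPrime := q'.2
  let I : Ideal S := p.map (algebraMap R S)
  let V := N ⧸ (p • (⊤ : Submodule R N))
  have hS : ∀ (t : S) (z : N), z ∈ p • (⊤ : Submodule R N) → t • z ∈ p • (⊤ : Submodule R N) := by
    intro t z hz
    induction hz using Submodule.smul_induction_on' with
    | smul r hr m hm => rw [smul_comm]; exact Submodule.smul_mem_smul hr Submodule.mem_top
    | add u _ v _ hu hv => rw [smul_add]; exact add_mem hu hv
  have hgen : ∀ z : N, z ∈ p • (⊤ : Submodule R N) → z ∈ q'.asIdeal • (⊤ : Submodule S N) := by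
    intro z hz
    induction hz using Submodule.smul_induction_on' with
    | smul r hr n hn =>
      rw [← algebraMap_smul S r n]
      refine Submodule.smul_mem_smul ?_ Submodule.mem_top
      have h2 : r ∈ q'.asIdeal.under R := hover ▸ hle hr
      exact h2
    | add a _ b _ ha hb => exact add_mem ha hb
  have hkill : ∀ t : S, (∀ x : N, t • x ∈ (p • (⊤ : Submodule R N))) → t ∈ q'.asIdeal := by
    intro t ht
    let f : N →ₗ[S] N := LinearMap.lsmul S N t
    have hrange : LinearMap.range f ≤ q'.asIdeal • (⊤ : Submodule S N) := by
      rintro _ ⟨x, rfl⟩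
      exact hgen _ (ht x)
    obtain ⟨P, hPm, -, hPc, hP0⟩ := LinearMap.exists_monic_and_natDegree_eq_and_coeff_mem_pow_and_aeval_eq_zero S (M := N) f q'.asIdeal hrange
    by_contra htq
    have hann : P.eval t ∈ Module.annihilator S N := by
      rw [Module.mem_annihilator]
      intro x
      have hf : f = algebraMap S (Module.End S N) t := by ext y; simp [f]
      have h2 := LinearMap.congr_fun hP0 x
      rw [hf, Polynomial.aeval_algebraMap_apply, Module.algebraMap_end_apply, LinearMap.zero_apply] at h2
      simpa [Polynomial.coe_aeval_eq_eval] using h2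
    have hev : P.eval t ∈ q'.asIdeal := (Module.mem_support_iff_of_finite.mp hq') hann
    rw [Polynomial.eval_eq_sum_range, Finset.sum_range_succ, hPm.coeff_natDegree, one_mul] at hev
    have hs : ∑ i ∈ Finset.range P.natDegree, P.coeff i * t ^ i ∈ q'.asIdeal := Submodule.sum_mem _ fun i hi =>
      Ideal.mul_mem_right _ _ (Ideal.pow_le_self (Nat.sub_ne_zero_of_lt (Finset.mem_range.mp hi)) (hPc i))
    exact htq (q'.2.mem_of_pow_mem _ ((Submodule.add_mem_iff_right _ hs).mp hev))
  have hreg : ∀ c : R, c ∉ p → ∀ x : N, c • x ∈ p • (⊤ : Submodule R N) → x ∈ p • (⊤ : Submodule R N) := by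
    intro c hc x hx
    have hinj : Function.Injective (LinearMap.lsmul R (R ⧸ p) c) := by
      intro a b hab
      simp only [LinearMap.lsmul_apply, Algebra.smul_def] at hab
      exact mul_left_cancel₀ (show (algebraMap R (R ⧸ p) c) ≠ 0 from fun h0 => hc (Ideal.Quotient.eq_zero_iff_mem.mp h0)) hab
    have h2 := Module.Flat.rTensor_preserves_injective_linearMap (M := N) _ hinj
    let e := TensorProduct.quotTensorEquivQuotSMul N p
    have hce : ∀ z, (LinearMap.lsmul R (R ⧸ p) c).rTensor N z = c • z := by
      intro z
      induction z using TensorProduct.induction_on with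
      | zero => simp
      | tmul a b => simp [TensorProduct.smul_tmul']
      | add a b ha hb => simp [ha, hb]
    have h3 : e.symm (Submodule.Quotient.mk x) = 0 := by
      apply h2
      rw [hce, map_zero, ← map_smul, ← Submodule.Quotient.mk_smul, (Submodule.Quotient.mk_eq_zero _).mpr hx, map_zero]
    rwa [LinearEquiv.map_eq_zero_iff, Submodule.Quotient.mk_eq_zero] at h3
  obtain ⟨n, g, hg⟩ := Module.Finite.exists_fin (R := S) (M := N)
  let J : Fin n → Ideal S := fun i =>
    { carrier := {t | t • g i ∈ p • (⊤ : Submodule R N)}
      add_mem' := fun {a b} ha hb => by simpa [add_smul] using add_mem ha hb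
      zero_mem' := by simp
      smul_mem' := fun a t ht => by
        have := hS a _ ht
        rw [← mul_smul] at this
        exact this }
  obtain ⟨i, hi⟩ : ∃ i, J i ≤ q'.asIdeal := by
    by_contra! hcon
    choose t ht htq using fun i => SetLike.not_le_iff_exists.mp (hcon i)
    apply q'.2.prod_mem_iff.not.mpr (by rintro ⟨i, -, hi⟩; exact htq i hi) (hkill (∏ i, t i) fun x => ?_)
    have hx : x ∈ Submodule.span S (Set.range g) := hg ▸ Submodule.mem_top
    induction hx using Submodule.span_induction with
    | mem y hy =>
      obtain ⟨i, rfl⟩ := hy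
      rw [← Finset.prod_erase_mul _ _ (Finset.mem_univ i)]
      exact (J i).mul_mem_left _ (ht i)
    | zero => simp
    | add a b _ _ ha hb => rw [smul_add]; exact add_mem ha hb
    | smul a b _ hb =>
      rw [smul_comm]
      exact hS a _ hb
  obtain ⟨q, hq, hqle⟩ := Ideal.exists_minimalPrimes_le hi
  refine ⟨⟨q, hq.1.1⟩, hqle, ?_, ?_⟩
  · rw [Module.mem_support_iff_of_finite]
    intro t ht
    refine hq.1.2 (show t • g i ∈ p • (⊤ : Submodule R N) from ?_)
    rw [Module.mem_annihilator.mp ht]
    exact zero_mem _
  · refine le_antisymm (fun r hr => ?_) (fun r hr => hq.1.2 ?_)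
    · by_contra hrp
      have hr' : algebraMap R S r ∈ q := hr
      obtain ⟨y, hy, hk⟩ := Ideal.exists_mul_mem_of_mem_minimalPrimes hq hr'
      have hk' : r • (y • g i) ∈ p • (⊤ : Submodule R N) := by
        rw [← algebraMap_smul S r, ← mul_smul]
        exact hk
      exact hy (hreg r hrp _ hk')
    · change algebraMap R S r • g i ∈ p • (⊤ : Submodule R N)
      rw [algebraMap_smul]
      exact Submodule.smul_mem_smul hr Submodule.mem_top

end Groth.Agent.S6263
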