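import Groth.Statements.S6285
import Mathlib
import Groth.Agent.CAlgLib.Minors
-- import your own Groth.Agent.* helpers here

set_option autoImplicit false
universe u
open CAlg

namespace Groth.Agent.S6285

/-- For a ring R and an R-module M of finite presentation, the support Supp(M) is closed in Spec(R), and
its complement in Spec(R) is quasi-compact. -/
theorem result (R : Type u) [CommRing R] (M : Type u) [AddCommGroup M] [Module R M] [Module.FinitePresentation R M] : IsClosed (Module.support R M) ∧ IsCompact (Module.support R M)ᶜ := by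
  classical
  refine ⟨Module.isClosed_support, ?_⟩
  obtain ⟨n, π, hπ⟩ := Module.Finite.exists_fin' R M
  obtain ⟨m, v, hv⟩ := Submodule.fg_iff_exists_fin_generating_family.mp (Module.FinitePresentation.fg_ker π hπ)
  let A : Matrix (Fin n) (Fin m) R := Matrix.of fun i j => v j i
  let d : (Fin n → Fin m) → R := fun f => (A.submatrix id f).det
  suffices h : (Module.support R M)ᶜ = ⋃ f, (PrimeSpectrum.basicOpen (d f) : Set (PrimeSpectrum R)) by
    rw [h]; exact isCompact_iUnion fun f => PrimeSpectrum.isCompact_basicOpen _
  ext p
  simp only [Set.mem_compl_iff, Set.mem_iUnion, SetLike.mem_coe, PrimeSpectrum.mem_basicOpen]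
  constructor
  · intro hp
    rw [Module.mem_support_iff_of_finite, SetLike.not_le_iff_exists] at hp
    obtain ⟨s, hs, hsp⟩ := hp
    have hB : ∀ i : Fin n, ∃ c : Fin m → R, ∑ j, c j • v j = Pi.single i s := by
      intro i
      rw [← Submodule.mem_span_range_iff_exists_fun, hv, LinearMap.mem_ker]
      have : Pi.single i s = s • (Pi.single i (1:R) : Fin n → R) := by simp [← Pi.single_smul]
      rw [this, map_smul]
      exact Module.mem_annihilator.mp hs _
    choose B hB using hB
    have hAB : A * Matrix.of (fun j i => B i j) = s • (1 : Matrix (Fin n) (Fin n) R) := by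
      ext k i
      have := congrFun (hB i) k
      simp only [Finset.sum_apply, Pi.smul_apply, smul_eq_mul] at this
      simp only [Matrix.mul_apply, A, Matrix.of_apply, Matrix.smul_apply, Matrix.one_apply, smul_eq_mul, mul_ite, mul_one, mul_zero]
      rw [Pi.single_apply] at this
      rw [← this]
      exact Finset.sum_congr rfl fun j _ => mul_comm _ _
    have hmem := CAlgLib.Minors.det_mul_mem_span_minors' A (Matrix.of fun j i => B i j)
    rw [hAB, Matrix.det_smul, Matrix.det_one, mul_one] at hmem
    by_contra! hcon
    apply hsp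
    exact p.isPrime.mem_of_pow_mem _ (Ideal.span_le.mpr (by rintro _ ⟨f, rfl⟩; exact hcon f) hmem)
  · rintro ⟨f, hf⟩ hp
    apply hf
    refine Module.annihilator_le_of_mem_support hp (Module.mem_annihilator.mpr fun x => ?_)
    obtain ⟨y, rfl⟩ := hπ x
    rw [← map_smul, ← LinearMap.mem_ker, ← hv, Submodule.mem_span_range_iff_exists_fun]
    have hadj : A.submatrix id f * (A.submatrix id f).adjugate = d f • (1 : Matrix (Fin n) (Fin n) R) := Matrix.mul_adjugate _
    let z : Fin n → R := (A.submatrix id f).adjugate.mulVec y
    refine ⟨fun j => ∑ k, if f k = j then z k else 0, ?_⟩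
    have hz : (A.submatrix id f).mulVec z = d f • y := by
      rw [Matrix.mulVec_mulVec, hadj, Matrix.smul_mulVec, Matrix.one_mulVec]
    rw [← hz]
    ext i
    simp only [Finset.sum_apply, Pi.smul_apply, smul_eq_mul, Matrix.mulVec, dotProduct, A, Matrix.submatrix_apply, Matrix.of_apply, id_eq, Finset.sum_mul]
    rw [Finset.sum_comm]
    refine Finset.sum_congr rfl fun k _ => ?_
    rw [Finset.sum_eq_single (f k)]
    · rw [if_pos rfl, mul_comm]
    · intro j _ hj; rw [if_neg (Ne.symm hj), zero_mul]
    · simp

end Groth.Agent.S6285
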