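import Groth.Statements.S4799
import Groth.Agent.FlatOpen.GenericFlat

set_option autoImplicit false
universe u
open CategoryTheory AlgebraicGeometry
open Lim8

namespace Groth.Agent.S4799

/-- Generic flatness without Noetherian hypotheses: let Y be an integral scheme, u : X ⟶ Y a
quasi-compact morphism locally of finite presentation, and F a quasi-coherent O_X-module of finite
presentation. Then there is a nonempty open subset U of Y such that F restricted to u⁻¹(U) is flat
over U, i.e. the stalk F_x is flat over O_{Y, u(x)} for every x with u(x) ∈ U. -/
theorem result {X Y : Scheme.{u}} (u : X ⟶ Y) [IsIntegral Y]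
    [LocallyOfFinitePresentation u] [QuasiCompact u] (F : X.Modules) [Coh.IsQCoh F] (hF : CohB1.IsFP F) :
    ∃ U : Y.Opens, (U : Set Y).Nonempty ∧ ∀ x : X, u.base x ∈ U → FlatMod.IsFlatOverAt u F x := by
  exact FlatOpen.GenericFlat.exists_open_flat u F fun U hU => by
    haveI := (Props.QFP.isFP_iff F).1 hF U hU
    infer_instance

end Groth.Agent.S4799
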