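import Groth.Statements.S5889
import Groth.Agent.S5886
import Groth.Agent.S5884

set_option autoImplicit false
universe u
open CategoryTheory AlgebraicGeometry
open ConsProp

namespace Groth.Agent.S5889

/-- Being quasi-finite (locally of finite type, quasi-compact, with discrete fibres) is a constructible
property of morphisms of algebraic schemes. -/
theorem result :
    ConsProp.IsConsMor
      (fun X Y T f g => AlgebraicGeometry.LocallyOfFiniteType f ∧ AlgebraicGeometry.QuasiCompact f ∧
        AlgebraicGeometry.LocallyQuasiFinite f) := by
  refine Groth.Agent.ConsPropLib.isConsMor_congr (Groth.Agent.S5884.result Groth.Agent.S5886.result)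
    (fun {X Y T} f g _ _ _ _ _ => ?_)
  haveI : LocallyOfFiniteType f := locallyOfFiniteType_of_comp f g
  haveI : QuasiCompact f := Groth.Agent.ConsPropLib.quasiCompact_left f g
  show (∀ y : ↥Y, IsFinite (f.fiberToSpecResidueField y)) ↔ _
  rw [← locallyQuasiFinite_iff_isFinite_fiber]
  exact ⟨fun h => ⟨inferInstance, inferInstance, h⟩, fun h => h.2.2⟩

end Groth.Agent.S5889
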