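import Groth.Statements.S12208
import Groth.Agent.NoetherInt.Basic
import Groth.Agent.VarDim.Algebra
-- import your own Groth.Agent.* helpers here

set_option autoImplicit false
universe u
open CAlg

namespace Groth.Agent.S12208

/-- Let k be a field and S = k[x_1, …, x_n]/I with I a proper ideal. Then there exist r ≥ 0 and elements
y_1, …, y_r of k[x_1, …, x_n] lying in the subring generated by x_1, …, x_n (polynomials with
integer coefficients) such that the k-algebra map from the polynomial ring k[t_1, …, t_r] to S
sending t_i to the class of y_i is injective and finite; and for any r ≥ 0 and any y_1, …, y_r in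
k[x_1, …, x_n] (with or without the integer-coefficient condition) for which that map is injective
and finite, r is the Krull dimension of S. -/
theorem result (k : Type u) [Field k] (n : ℕ) (I : Ideal (MvPolynomial (Fin n) k))
    (hI : I ≠ ⊤) :
    (∃ (r : ℕ) (y : Fin r → MvPolynomial (Fin n) k),
      (∀ i, y i ∈ Set.range (MvPolynomial.map (Int.castRingHom k) : MvPolynomial (Fin n) ℤ → MvPolynomial (Fin n) k)) ∧
      Function.Injective ((Ideal.Quotient.mkₐ k I).comp (MvPolynomial.aeval y)) ∧
      ((Ideal.Quotient.mkₐ k I).comp (MvPolynomial.aeval y)).toRingHom.Finite) ∧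
    ∀ (r : ℕ) (y : Fin r → MvPolynomial (Fin n) k),
      Function.Injective ((Ideal.Quotient.mkₐ k I).comp (MvPolynomial.aeval y)) →
      ((Ideal.Quotient.mkₐ k I).comp (MvPolynomial.aeval y)).toRingHom.Finite →
      ringKrullDim (MvPolynomial (Fin n) k ⧸ I) = r := by
  constructor
  · obtain ⟨r, y, hy, hinj, hint⟩ := Groth.Agent.NoetherInt.exists_normalization n I hI
    refine ⟨r, y, hy, hinj, hint.to_finite (RingHom.FiniteType.of_comp_finiteType (f := MvPolynomial.C) ?_)⟩
    have e : ((Ideal.Quotient.mkₐ k I).comp (MvPolynomial.aeval y)).toRingHom.comp MvPolynomial.C =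
        algebraMap k (MvPolynomial (Fin n) k ⧸ I) :=
      ((Ideal.Quotient.mkₐ k I).comp (MvPolynomial.aeval y)).comp_algebraMap
    rw [e]
    exact RingHom.finiteType_algebraMap.mpr inferInstance
  · intro r y hinj hfin
    letI := ((Ideal.Quotient.mkₐ k I).comp (MvPolynomial.aeval y)).toRingHom.toAlgebra
    haveI : Algebra.IsIntegral (MvPolynomial (Fin r) k) (MvPolynomial (Fin n) k ⧸ I) :=
      ⟨RingHom.IsIntegral.of_finite hfin⟩
    haveI : FaithfulSMul (MvPolynomial (Fin r) k) (MvPolynomial (Fin n) k ⧸ I) :=
      (faithfulSMul_iff_algebraMap_injective _ _).mpr hinj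
    rw [Groth.Agent.VarDim.ringKrullDim_eq_of_isIntegral (R := MvPolynomial (Fin r) k),
      MvPolynomial.ringKrullDim_of_isNoetherianRing, ringKrullDim_eq_zero_of_field, Nat.card_fin, zero_add]

end Groth.Agent.S12208
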