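import Groth.Statements.S4881
import Mathlib.Topology.KrullDimension
import Mathlib.Topology.JacobsonSpace
-- import your own Groth.Agent.* helpers here

set_option autoImplicit false
universe u
open CategoryTheory AlgebraicGeometry
open EGA43

namespace Groth.Agent.S4881

open TopologicalSpace

/-- The dimension of a space is bounded by that of its irreducible components. -/
theorem topologicalKrullDim_le {T : Type u} [TopologicalSpace T] {e : WithBot ℕ∞}
    (h : ∀ C ∈ irreducibleComponents T, topologicalKrullDim ↥C ≤ e) : topologicalKrullDim T ≤ e := by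
  refine iSup_le fun s => ?_
  obtain ⟨C, hC, hsC⟩ := exists_mem_irreducibleComponents_subset_of_isIrreducible
    (s.last : Set T) s.last.isIrreducible
  refine le_trans ?_ (h C hC)
  have hsub : ∀ i, (s i : Set T) ⊆ C := fun i =>
    le_trans (s.monotone (Fin.le_last i) : (s i : Set T) ⊆ s.last) hsC
  let g : Fin (s.length + 1) → IrreducibleCloseds ↥C := fun i =>
    ⟨Subtype.val ⁻¹' (s i : Set T), ⟨by
        obtain ⟨x, hx⟩ := (s i).isIrreducible.nonempty
        exact ⟨⟨x, hsub i hx⟩, hx⟩, fun u v hu hv => by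
        obtain ⟨U, hU, rfl⟩ := isOpen_induced_iff.mp hu
        obtain ⟨V, hV, rfl⟩ := isOpen_induced_iff.mp hv
        rintro ⟨a, ha, haU⟩ ⟨b, hb, hbV⟩
        obtain ⟨z, hz, hzU, hzV⟩ := (s i).isIrreducible.2 U V hU hV ⟨a, ha, haU⟩ ⟨b, hb, hbV⟩
        exact ⟨⟨z, hsub i hz⟩, hz, hzU, hzV⟩⟩, (s i).isClosed.preimage continuous_subtype_val⟩
  have hg : StrictMono g := fun i j hij => by
    refine lt_of_le_not_ge (fun x hx => (s.monotone hij.le : (s i : Set T) ⊆ s j) hx) fun hle => ?_
    exact (s.strictMono hij).not_ge fun x hx => hle (x := ⟨x, hsub j hx⟩) hx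
  exact le_iSup (fun p : LTSeries (IrreducibleCloseds ↥C) => (p.length : WithBot ℕ∞))
    (LTSeries.mk _ g hg)


/-- Let X be a locally Noetherian scheme which is Jacobson, whose local rings are universally catenary,
and whose irreducible components X' are equidimensional in the sense that for every closed point x
of X' the dimension of X' equals the dimension of the set of generizations of x in X'. Then for
every dense open subset U of X, dim U = dim X. -/
theorem result (X : Scheme.{u}) [IsLocallyNoetherian X] [JacobsonSpace X]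
    (h2 : ∀ x : X, CAlg.IsUniversallyCatenary (X.presheaf.stalk x))
    (h3 : ∀ X' ∈ irreducibleComponents (X : Type u), ∀ x ∈ X', IsClosed ({x} : Set X) →
      topologicalKrullDim (↥X' : Type u) = topologicalKrullDim ↥{t : X | t ∈ X' ∧ t ⤳ x})
    (U : Set X) (hU : IsOpen U) (hd : Dense U) :
    topologicalKrullDim ↥U = topologicalKrullDim X := by
  refine le_antisymm (topologicalKrullDim_subspace_le X U) (topologicalKrullDim_le fun C hC => ?_)
  obtain ⟨x, hx, hxcl⟩ : (U ∩ C ∩ closedPoints X).Nonempty := by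
    refine nonempty_inter_closedPoints ?_
      (hU.isLocallyClosed.inter (isClosed_of_mem_irreducibleComponents C hC).isLocallyClosed)
    obtain ⟨η, hη⟩ : ∃ η, IsGenericPoint η C :=
      QuasiSober.sober hC.1 (isClosed_of_mem_irreducibleComponents C hC)
    refine ⟨η, ?_, hη.mem⟩
    by_contra hηU
    -- a component lying in the complement of a dense open set is impossible
    obtain ⟨_, ⟨⟨V, hV : AlgebraicGeometry.IsAffineOpen V, rfl⟩, hηV, -⟩⟩ :=
      (X.isBasis_affineOpens).exists_subset_of_mem_open (Set.mem_univ η) isOpen_univ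
    haveI : IsNoetherianRing Γ(X, V) :=
      IsLocallyNoetherian.component_noetherian ⟨V, hV⟩
    haveI : NoetherianSpace ↥(V : Set X) := noetherianSpace_of_isAffineOpen V hV
    let W : Set ↥(V : Set X) := Subtype.val ⁻¹' U
    obtain ⟨T, hTfin, hTcl, hTirr, hT⟩ :=
      NoetherianSpace.exists_finite_set_isClosed_irreducible (α := ↥W) isClosed_univ
    have hηcl : η ∈ closure (⋃ S ∈ T, (fun w : ↥W => (w.1.1 : X)) '' S) := by
      refine closure_mono ?_ ((Dense.open_subset_closure_inter hd V.2) hηV)
      rintro z ⟨hzV, hzU⟩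
      have hz : (⟨⟨z, hzV⟩, hzU⟩ : ↥W) ∈ ⋃₀ T := hT ▸ Set.mem_univ _
      obtain ⟨S, hS, hzS⟩ := Set.mem_sUnion.mp hz
      exact Set.mem_biUnion hS ⟨_, hzS, rfl⟩
    rw [hTfin.closure_biUnion] at hηcl
    obtain ⟨S, hS, hηS⟩ := Set.mem_iUnion₂.mp hηcl
    have himg := ((hTirr S hS).image (fun w : ↥W => (w.1.1 : X))
      (continuous_subtype_val.comp continuous_subtype_val).continuousOn)
    have hle : C ⊆ closure ((fun w : ↥W => (w.1.1 : X)) '' S) := fun z hz =>
      (hη.specializes hz).mem_closed isClosed_closure hηS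
    obtain ⟨w, hw⟩ := (hTirr S hS).nonempty
    exact hηU ((hη.specializes (hC.2 himg.closure hle (subset_closure ⟨w, hw, rfl⟩))).mem_open hU w.2)
  rw [h3 C hC x hx.2 hxcl]
  let j : {t : X | t ∈ C ∧ t ⤳ x} → U := fun t => ⟨t.1, t.2.2.mem_open hU hx.1⟩
  exact Topology.IsInducing.topologicalKrullDim_le
    (Topology.IsInducing.codRestrict Topology.IsInducing.subtypeVal
      (fun t => t.2.2.mem_open hU hx.1) : Topology.IsInducing j)

end Groth.Agent.S4881
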