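import Groth.Statements.S4964
import Groth.Agent.FibCodepth.SchemeAss

set_option autoImplicit false
open CategoryTheory AlgebraicGeometry
universe u v w
open EGA43

namespace Groth.Agent.S4964

/-- Let f : X ⟶ Y be a proper morphism of finite presentation and F a finitely presented O_X-module
which is f-flat; for y in Y write F_y for the restriction of F to the fibre X_y. Let Φ be a finite
set of natural numbers. Then the set of points y of Y such that the closure in X_y of every
associated point of F_y has dimension in Φ is open in Y. In particular (Φ = {k}), the set of y such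
that every associated point of F_y has closure of dimension k is open. -/
theorem result {X Y : Scheme.{u}} (f : X ⟶ Y) [IsProper f]
    [LocallyOfFinitePresentation f] (F : X.Modules) (hF : CohB1.IsFP F) (hflat : FlatMod.IsFlatOver f F) (Φ : Finset ℕ) :
    IsOpen {y : Y | ∀ z ∈ AssSch.Ass ((Scheme.Modules.pullback (f.fiberι y)).obj F), ∃ n ∈ Φ,
      topologicalKrullDim ↥(closure ({z} : Set ↥(f.fiber y))) = (n : WithBot ℕ∞)} := by
  have hopen := Groth.Agent.FibCodepth.isOpen_assDims f F hF hflat Φ
  have : SheafOfModules.IsFinitePresentation.{u} F := hF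
  have : F.IsQuasicoherent := by
    obtain ⟨σ, -⟩ := SheafOfModules.IsFinitePresentation.exists_quasicoherentData.{u} F
    exact { nonempty_quasicoherentData := ⟨σ⟩ }
  let P : (y : Y) → f.fiber y → Prop := fun y w =>
    ∀ z ∈ AssSch.Ass ((Scheme.Modules.pullback (f.fiberι y)).obj F), w ∈ closure {z} →
      ∃ n ∈ Φ, topologicalKrullDim ↥(closure ({z} : Set ↥(f.fiber y))) = (n : WithBot ℕ∞)
  have htr : ∀ (y : Y) (w : f.fiber y), P y w ↔
      P (f.base (f.fiberι y w)) (f.asFiber (f.fiberι y w)) := by
    intro y w
    obtain ⟨V, U, hV, hU, e, hxU⟩ := Groth.Agent.FlatSect.exists_chart f (f.fiberι y w)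
    have : Module.FinitePresentation Γ(X, U) Γ(F, U) := Groth.Agent.Props.QFP.finitePresentation_sections_of_isFP F hU
    exact (Groth.Agent.FibCodepth.assDims_iff_chart f hV hU e F inferInstance Φ y w _ rfl hxU).trans
      (Groth.Agent.FibCodepth.assDims_iff_chart f hV hU e F inferInstance Φ _ (f.asFiber (f.fiberι y w)) _
        (f.fiberι_asFiber _) hxU).symm
  have h : {y : Y | ∀ z ∈ AssSch.Ass ((Scheme.Modules.pullback (f.fiberι y)).obj F), ∃ n ∈ Φ,
      topologicalKrullDim ↥(closure ({z} : Set ↥(f.fiber y))) = (n : WithBot ℕ∞)} =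
      (f.base '' {x : X | P (f.base x) (f.asFiber x)}ᶜ)ᶜ := by
    ext y
    simp only [Set.mem_compl_iff, Set.mem_image, Set.mem_ofPred_eq, not_exists, not_and]
    constructor
    · intro hy x hx hxy
      subst hxy
      exact hx fun z hz _ => hy z hz
    · intro hy z hz
      by_contra hne
      have hyz : f (f.fiberι y z) = y := Groth.Agent.FibCodepth.fiber_fiberι f y z
      exact hy (f.fiberι y z) (fun hP => hne (((htr y z).2 hP) z hz (subset_closure rfl))) hyz
  rw [h, isOpen_compl_iff]
  exact f.isClosedMap _ hopen.isClosed_compl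

end Groth.Agent.S4964
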