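import Groth.Statements.S4901
import Groth.Agent.Fibres16.LimCritScheme
import Groth.Agent.LimTop.BaseChange
import Groth.Agent.ConsPairLib.ModLoci

set_option autoImplicit false
universe u
open CategoryTheory AlgebraicGeometry
open EGA43

namespace Groth.Agent.S4901

open CategoryTheory.Limits in
/-- Let S be the limit of a cofiltered system (S_i) of schemes with affine transition morphisms, i₀ an
index, f₀ : X₀ ⟶ Y₀ a morphism locally of finite presentation of S_{i₀}-schemes, F₀ and G₀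
quasi-coherent O_{X₀}-modules of finite presentation and h₀ : F₀ ⟶ G₀ a homomorphism; let f : X ⟶ Y
and h = q^*h₀ be the base changes to S and x a point of X. Then the stalk map h_x is injective and
Coker h is f-flat at x if and only if there are an index i over i₀ and base changes f_i : X_i ⟶ Y_i,
h_i = p^*h₀ to S_i (pullback squares with the compatible morphisms X ⟶ X_i, Y ⟶ Y_i) such that
(h_i)_{x_i} is injective and Coker h_i is f_i-flat at the image x_i of x. -/
theorem result {I : Type u} [SmallCategory I] [IsCofiltered I]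
    (D : I ⥤ Scheme.{u}) (c : Limits.Cone D) (hc : Limits.IsLimit c)
    [∀ (i j : I) (φ : i ⟶ j), IsAffineHom (D.map φ)] (i₀ : I)
    {X₀ Y₀ : Scheme.{u}} (f₀ : X₀ ⟶ Y₀) (g₀ : Y₀ ⟶ D.obj i₀) [LocallyOfFinitePresentation f₀]
    (F₀ G₀ : X₀.Modules) [Coh.IsQCoh F₀] [Coh.IsQCoh G₀] (hF₀ : CohB1.IsFP F₀) (hG₀ : CohB1.IsFP G₀)
    (h₀ : F₀ ⟶ G₀)
    {X Y : Scheme.{u}} (f : X ⟶ Y) (g : Y ⟶ c.pt) (qY : Y ⟶ Y₀) (qX : X ⟶ X₀)
    (hY : IsPullback qY g g₀ (c.π.app i₀)) (hX : IsPullback qX f f₀ qY) (x : X) :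
    (Function.Injective ((TopCat.Presheaf.stalkFunctor Ab x).map
        (Scheme.Modules.Hom.mapPresheaf ((Scheme.Modules.pullback qX).map h₀))) ∧
      FlatMod.IsFlatOverAt f (cokernel ((Scheme.Modules.pullback qX).map h₀)) x) ↔
      ∃ (i : I) (φ : i ⟶ i₀) (Xi Yi : Scheme.{u}) (fi : Xi ⟶ Yi) (gi : Yi ⟶ D.obj i)
        (pY : Yi ⟶ Y₀) (pX : Xi ⟶ X₀) (vY : Y ⟶ Yi) (vX : X ⟶ Xi),
        IsPullback pY gi g₀ (D.map φ) ∧ IsPullback pX fi f₀ pY ∧
          vY ≫ pY = qY ∧ vY ≫ gi = g ≫ c.π.app i ∧ vX ≫ pX = qX ∧ vX ≫ fi = f ≫ vY ∧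
          Function.Injective ((TopCat.Presheaf.stalkFunctor Ab (vX x)).map
            (Scheme.Modules.Hom.mapPresheaf ((Scheme.Modules.pullback pX).map h₀))) ∧
          FlatMod.IsFlatOverAt fi (cokernel ((Scheme.Modules.pullback pX).map h₀)) (vX x) := by
  have hcπ : ∀ i, IsAffineHom (c.π.app i) := fun i => isAffineHom_π_app D c hc i
  constructor
  · intro hx
    haveI : IsIso (D.map (Over.mk (𝟙 i₀)).hom) := inferInstanceAs (IsIso (D.map (𝟙 i₀)))
    haveI : IsIso (Limits.pullback.snd (D.map (Over.mk (𝟙 i₀)).hom) g₀) := inferInstance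
    let i₀' : Over i₀ := Over.mk (𝟙 i₀)
    let s : (LimTop.bcDiagram D i₀ g₀).obj i₀' ⟶ Y₀ := Limits.pullback.snd _ _
    haveI : IsIso s := ‹_›
    let c' := (LimTop.bcCone c i₀ g₀).extend hY.flip.isoPullback.hom
    let hc' : Limits.IsLimit c' :=
      Limits.IsLimit.extendIso _ (LimTop.isLimitBcCone hc i₀ g₀)
    haveI : LocallyOfFinitePresentation (f₀ ≫ inv s) := inferInstance
    have hπs : c'.π.app i₀' ≫ s = qY := by
      show (hY.flip.isoPullback.hom ≫ (LimTop.bcCone c i₀ g₀).π.app i₀') ≫ Limits.pullback.snd _ _ = qY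
      rw [Category.assoc]
      exact (congrArg (hY.flip.isoPullback.hom ≫ ·) (LimTop.bcCone_snd _ _ _ _)).trans hY.flip.isoPullback_hom_snd
    have sq : IsPullback qX f (f₀ ≫ inv s) (c'.π.app i₀') :=
      hX.of_iso (Iso.refl _) (Iso.refl _) (Iso.refl _) (asIso s).symm (by simp) (by simp) (by simp)
        (by rw [← cancel_mono s]; simp [hπs])
    obtain ⟨j, v, hv₁, hv₂, hj⟩ := Fibres16.LimCrit.exists_stage hc' (f₀ ≫ inv s) hF₀ hG₀ h₀ f qX sq x hx
    refine ⟨j.left.left, j.left.hom, _, _, Limits.pullback.snd (f₀ ≫ inv s) _,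
      Limits.pullback.fst (D.map j.left.hom) g₀, Limits.pullback.snd _ _,
      Limits.pullback.fst (f₀ ≫ inv s) _, c'.π.app j.left, v, (IsPullback.of_hasPullback _ _).flip,
      ?_, ?_, ?_, hv₁, hv₂, hj.1, hj.2⟩
    · refine (IsPullback.of_hasPullback (f₀ ≫ inv s) ((LimTop.bcDiagram D i₀ g₀).map j.hom)).of_iso
        (Iso.refl _) (Iso.refl _) (Iso.refl _) (asIso s) (Category.id_comp _).symm ((Category.comp_id _).trans (Category.id_comp _).symm) (by simp [s]) ?_
      simp only [asIso_hom, Iso.refl_hom]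
      exact (Limits.pullback.lift_snd _ _ _).trans (Category.id_comp _).symm
    · show (hY.flip.isoPullback.hom ≫ (LimTop.bcCone c i₀ g₀).π.app j.left) ≫ Limits.pullback.snd _ _ = qY
      rw [Category.assoc]
      exact (congrArg (hY.flip.isoPullback.hom ≫ ·) (LimTop.bcCone_snd _ _ _ _)).trans hY.flip.isoPullback_hom_snd
    · show (hY.flip.isoPullback.hom ≫ (LimTop.bcCone c i₀ g₀).π.app j.left) ≫ Limits.pullback.fst _ _ = _
      rw [Category.assoc]
      exact (congrArg (hY.flip.isoPullback.hom ≫ ·) (LimTop.bcCone_fst _ _ _ _)).trans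
        (hY.flip.isoPullback_hom_fst_assoc _)
  · rintro ⟨i, φ, Xi, Yi, fi, gi, pY, pX, vY, vX, hYi, hXi, hvY₁, hvY₂, hvX₁, hvX₂, hinj, hflat⟩
    subst hvY₁ hvX₁
    have hY' : IsPullback vY g gi (c.π.app i) :=
      IsPullback.of_right (by rw [c.w φ]; exact hY) hvY₂ hYi
    haveI : IsAffineHom vY := MorphismProperty.of_isPullback hY'.flip (hcπ i)
    have hX' : IsPullback vX f fi vY := IsPullback.of_right hX hvX₂ hXi
    haveI : LocallyOfFinitePresentation fi := MorphismProperty.of_isPullback hXi ‹_›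
    obtain ⟨hFq, hFp⟩ := ConsPairLib.isFP_pullback pX F₀ hF₀
    obtain ⟨hGq, hGp⟩ := ConsPairLib.isFP_pullback pX G₀ hG₀
    exact (Fibres16.LimCrit.condAt_of_baseChange fi hFp hGp _ vY vX f hX' x ⟨hinj, hflat⟩).of_iso
      ((Scheme.Modules.pullbackComp vX pX).app F₀) ((Scheme.Modules.pullbackComp vX pX).app G₀)
      ((Scheme.Modules.pullbackComp vX pX).hom.naturality h₀)

end Groth.Agent.S4901
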