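import Groth.Statements.S4900
import Groth.Agent.S4901
import Groth.Agent.GrpScheme.FlatFib.Scheme
import Groth.Agent.LimTop.ModModel

set_option autoImplicit false
universe u
open CategoryTheory AlgebraicGeometry
open EGA43

namespace Groth.Agent.S4900

/-- Let S be the limit of a cofiltered system (S_i) of schemes with affine transition morphisms, S_{i₀}
a quasi-compact stage, f₀ : X₀ ⟶ Y₀ an S_{i₀}-morphism between schemes of finite presentation over
S_{i₀}, F₀ a quasi-coherent O_{X₀}-module of finite presentation, f : X ⟶ Y and F the base changes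
to S, and x a point of X. Then F is f-flat at x if and only if there are an index i over i₀ and base
changes f_i : X_i ⟶ Y_i, F_i of f₀, F₀ to S_i (pullback squares, with the induced compatible
morphisms X ⟶ X_i, Y ⟶ Y_i) such that F_i is f_i-flat at the image x_i of x in X_i. -/
theorem result {I : Type u} [SmallCategory I] [IsCofiltered I]
    (D : I ⥤ Scheme.{u}) (c : Limits.Cone D) (hc : Limits.IsLimit c)
    [∀ (i j : I) (φ : i ⟶ j), IsAffineHom (D.map φ)] (i₀ : I) [CompactSpace (D.obj i₀)]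
    {X₀ Y₀ : Scheme.{u}} (f₀ : X₀ ⟶ Y₀) (g₀ : Y₀ ⟶ D.obj i₀)
    [LocallyOfFinitePresentation g₀] [QuasiCompact g₀] [QuasiSeparated g₀]
    [LocallyOfFinitePresentation (f₀ ≫ g₀)] [QuasiCompact (f₀ ≫ g₀)] [QuasiSeparated (f₀ ≫ g₀)]
    (F₀ : X₀.Modules) [Coh.IsQCoh F₀] (hF₀ : CohB1.IsFP F₀)
    {X Y : Scheme.{u}} (f : X ⟶ Y) (g : Y ⟶ c.pt) (qY : Y ⟶ Y₀) (qX : X ⟶ X₀)
    (hY : IsPullback qY g g₀ (c.π.app i₀)) (hX : IsPullback qX f f₀ qY) (x : X) :
    FlatMod.IsFlatOverAt f ((Scheme.Modules.pullback qX).obj F₀) x ↔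
      ∃ (i : I) (φ : i ⟶ i₀) (Xi Yi : Scheme.{u}) (fi : Xi ⟶ Yi) (gi : Yi ⟶ D.obj i)
        (pY : Yi ⟶ Y₀) (pX : Xi ⟶ X₀) (vY : Y ⟶ Yi) (vX : X ⟶ Xi),
        IsPullback pY gi g₀ (D.map φ) ∧ IsPullback pX fi f₀ pY ∧
          vY ≫ pY = qY ∧ vY ≫ gi = g ≫ c.π.app i ∧ vX ≫ pX = qX ∧ vX ≫ fi = f ≫ vY ∧
          FlatMod.IsFlatOverAt fi ((Scheme.Modules.pullback pX).obj F₀) (vX x) := by
  haveI : LocallyOfFinitePresentation f₀ :=
    GrpScheme.FlatFib.locallyOfFinitePresentation_of_comp f₀ g₀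
  let O₀ := Limits.cokernel (𝟙 F₀)
  have hO : Limits.IsZero O₀ := Limits.isZero_cokernel_of_epi _
  have hFT : CohB1.IsFT F₀ := LimTop.isFT_of_finOn _ (LimTop.fpOn_of_isFP F₀ hF₀ ⊤).finOn
  haveI : Coh.IsQCoh O₀ := QCoh.isQuasicoherent_cokernel (𝟙 F₀)
  have hOfp : CohB1.IsFP O₀ := LimTop.isFP_cokernel hFT hF₀ (𝟙 F₀)
  have key : ∀ {Z W : Scheme.{u}} (p : Z ⟶ X₀) (φ : Z ⟶ W) (z : Z),
      (Function.Injective ((TopCat.Presheaf.stalkFunctor Ab z).map
        (Scheme.Modules.Hom.mapPresheaf ((Scheme.Modules.pullback p).map (0 : O₀ ⟶ F₀)))) ∧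
        FlatMod.IsFlatOverAt φ (Limits.cokernel ((Scheme.Modules.pullback p).map (0 : O₀ ⟶ F₀))) z) ↔
      FlatMod.IsFlatOverAt φ ((Scheme.Modules.pullback p).obj F₀) z := by
    intro Z W p φ z
    have h0 : (Scheme.Modules.pullback p).map (0 : O₀ ⟶ F₀) = 0 := Functor.map_zero _ _ _
    have hinj : Function.Injective ((TopCat.Presheaf.stalkFunctor Ab z).map
        (Scheme.Modules.Hom.mapPresheaf ((Scheme.Modules.pullback p).map (0 : O₀ ⟶ F₀)))) := by
      have hz := AddCommGrpCat.subsingleton_of_isZero ((Scheme.Modules.toPresheaf Z ⋙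
        TopCat.Presheaf.stalkFunctor Ab.{u} z).map_isZero ((Scheme.Modules.pullback p).map_isZero hO))
      intro a b _
      exact hz.elim a b
    let e : Limits.cokernel ((Scheme.Modules.pullback p).map (0 : O₀ ⟶ F₀)) ≅
        (Scheme.Modules.pullback p).obj F₀ :=
      Limits.cokernelIsoOfEq h0 ≪≫ Limits.cokernelZeroIsoTarget
    exact ⟨fun h => Fibres16.LimCrit.isFlatOverAt_of_iso φ e z h.2,
      fun h => ⟨hinj, Fibres16.LimCrit.isFlatOverAt_of_iso φ e.symm z h⟩⟩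
  rw [← key qX f x, S4901.result D c hc i₀ f₀ g₀ O₀ F₀ hOfp hF₀ (0 : O₀ ⟶ F₀) f g qY qX hY hX x]
  refine exists_congr fun i => exists_congr fun φ => exists_congr fun Xi => exists_congr fun Yi =>
    exists_congr fun fi => exists_congr fun gi => exists_congr fun pY => exists_congr fun pX =>
      exists_congr fun vY => exists_congr fun vX => ?_
  simp only [key pX fi (vX x)]

end Groth.Agent.S4900
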