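import Groth.Statements.S4366
import Mathlib.AlgebraicGeometry.Morphisms.Flat
import Mathlib.AlgebraicGeometry.Fiber
import Mathlib.AlgebraicGeometry.Morphisms.ClosedImmersion
import Mathlib.AlgebraicGeometry.Morphisms.UniversallyInjective
import Mathlib.AlgebraicGeometry.Morphisms.QuasiSeparated
import Mathlib.Topology.LocalAtTarget
import Mathlib.RingTheory.Flat.FaithfullyFlat.Algebra


set_option autoImplicit false
universe u
open SchMor

namespace Groth.Agent.S4366

open AlgebraicGeometry in
open CategoryTheory in
open CategoryTheory.Limits in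
/-- Let f : X -> Y be a morphism, y a point of Y and Z = Spec O_{Y,y} the local scheme of Y at y with
its canonical morphism to Y. Then the projection p : X x_Y Z -> X induces isomorphisms on all local
rings: for every point t of X x_Y Z the homomorphism O_{X, p t} -> O_{X x_Y Z, t} is bijective. (The
published statement also asserts that p is a homeomorphism onto the preimage of Z; that part is not
stated here.) -/
theorem result
    {X Y : Scheme.{u}} (f : X ⟶ Y) (y : Y) (t : ↑(pullback f (Y.fromSpecStalk y))) :
    IsIso ((pullback.fst f (Y.fromSpecStalk y)).stalkMap t) := by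
  haveI : IsPreimmersion (Y.fromSpecStalk y) := inferInstance
  haveI : Flat (Y.fromSpecStalk y) := Flat.of_stalkMap _ fun q => by
    have hsur := (Y.fromSpecStalk y).stalkMap_surjective q
    obtain ⟨_, ⟨V, hV, rfl⟩, hyV, -⟩ := Y.isBasis_affineOpens.exists_subset_of_mem_open
      (Set.mem_univ y) isOpen_univ
    letI : Algebra Γ(Y, V) (Y.presheaf.stalk y) := (Y.presheaf.germ V y hyV).hom.toAlgebra
    haveI := IsAffineOpen.isLocalization_stalk hV ⟨y, hyV⟩
    have h1 : Flat (Spec.map (Y.presheaf.germ V y hyV)) :=
      Flat.SpecMap_iff.2 (IsLocalization.flat (Y.presheaf.stalk y)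
        (hV.primeIdealOf ⟨y, hyV⟩).asIdeal.primeCompl)
    have h2 : Flat (Y.fromSpecStalk y) := by
      rw [← hV.fromSpecStalk_eq_fromSpecStalk hyV, IsAffineOpen.fromSpecStalk]
      infer_instance
    exact Flat.stalkMap (Y.fromSpecStalk y) q
  rw [ConcreteCategory.isIso_iff_bijective]
  refine ⟨?_, (pullback.fst f (Y.fromSpecStalk y)).stalkMap_surjective t⟩
  letI := ((pullback.fst f (Y.fromSpecStalk y)).stalkMap t).hom.toAlgebra
  haveI : Module.Flat (X.presheaf.stalk (pullback.fst f (Y.fromSpecStalk y) t))
      ((pullback f (Y.fromSpecStalk y)).presheaf.stalk t) :=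
    Flat.stalkMap (pullback.fst f (Y.fromSpecStalk y)) t
  haveI : IsLocalHom (algebraMap (X.presheaf.stalk (pullback.fst f (Y.fromSpecStalk y) t))
      ((pullback f (Y.fromSpecStalk y)).presheaf.stalk t)) :=
    inferInstanceAs (IsLocalHom ((pullback.fst f (Y.fromSpecStalk y)).stalkMap t).hom)
  haveI := Module.FaithfullyFlat.of_flat_of_isLocalHom
    (A := X.presheaf.stalk (pullback.fst f (Y.fromSpecStalk y) t))
    (B := (pullback f (Y.fromSpecStalk y)).presheaf.stalk t)
  exact FaithfulSMul.algebraMap_injective _ _

end Groth.Agent.S4366
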