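import Groth.Statements.S3449
import Groth.Agent.PtTop.Catenary
import Groth.Agent.CycLib.Interval
import Groth.Agent.CycLib.ChartKills
import Groth.Agent.FlatOpen.EquiDim

set_option autoImplicit false
open CategoryTheory AlgebraicGeometry
universe u
open EGA43

namespace Groth.Agent.S3449

section
open AlgebraicGeometry CategoryTheory Groth.Agent.PtTop.Catenary

/-- The specialization partial order on the points of a scheme. -/
local instance instPO (S : Scheme.{u}) : PartialOrder S :=
  { (inferInstance : Preorder S) with le_antisymm := fun a b h1 h2 => (Specializes.antisymm (show a ⤳ b from h2) (show b ⤳ a from h1)).eq }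

theorem cat_points {S : Scheme.{u}} (h : ∀ s : S, CAlg.IsUniversallyCatenary (S.presheaf.stalk s)) : Cat S := by
  refine cat_of_cover fun p q hpq => ?_
  haveI := (h p).1
  have hcat : CAlg.IsCatenary (S.presheaf.stalk p) := (h p).2 _ inferInstance
  let φ := S.fromSpecStalk p
  have hrange : ∀ w : S, w ∈ Set.range φ ↔ p ≤ w := fun w => by
    rw [Scheme.range_fromSpecStalk]; rfl
  let g : (PrimeSpectrum (S.presheaf.stalk p))ᵒᵈ ↪o S :=
    OrderEmbedding.ofMapLEIff (fun a => φ (OrderDual.ofDual a)) fun a b => by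
      refine Iff.trans ?_ ((PrimeSpectrum.le_iff_specializes (OrderDual.ofDual b) (OrderDual.ofDual a)).symm)
      exact φ.isEmbedding.isInducing.specializes_iff
  have hg : ∀ w : S, w ∈ Set.range g ↔ p ≤ w := fun w => by
    rw [← hrange w]
    exact ⟨fun ⟨a, ha⟩ => ⟨OrderDual.ofDual a, ha⟩, fun ⟨a, ha⟩ => ⟨OrderDual.toDual a, ha⟩⟩
  exact ⟨_, inferInstance, g, ⟨fun a ha b _ c hc => (hg c).2 (((hg a).1 ha).trans hc.1)⟩,
    (hg p).2 le_rfl, (hg q).2 hpq, cat_dual.2 hcat⟩

section Len

variable {P : Type u} [PartialOrder P]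

theorem exists_saturated_ge (hP : Cat P) (s : LTSeries P) :
    ∃ t : LTSeries P, t.head = s.head ∧ t.last = s.last ∧ Saturated t ∧ s.length ≤ t.length := by
  classical
  obtain ⟨n, hn⟩ := hP.1 s.head s.last s.head_le_last
  have hex : ∃ k, ∃ t : LTSeries P, t.head = s.head ∧ t.last = s.last ∧ n - t.length = k := ⟨_, s, rfl, rfl, rfl⟩
  obtain ⟨t, ht0, ht1, htk⟩ := Nat.find_spec hex
  refine ⟨t, ht0, ht1, saturated_of_longest t fun t' h0 h1 => ?_, ?_⟩
  · have h2 := Nat.find_min' hex ⟨t', h0.trans ht0, h1.trans ht1, rfl⟩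
    have := hn t ht0 ht1
    have := hn t' (h0.trans ht0) (h1.trans ht1)
    omega
  · have h2 := Nat.find_min' hex ⟨s, rfl, rfl, rfl⟩
    have := hn t ht0 ht1
    have := hn s rfl rfl
    omega

/-- The common length of the saturated series between two points. -/
def IsLen (p q : P) (n : ℕ) : Prop :=
  ∃ s : LTSeries P, s.head = p ∧ s.last = q ∧ Saturated s ∧ s.length = n

theorem exists_isLen (hP : Cat P) {p q : P} (h : p ≤ q) : ∃ n, IsLen p q n := by
  obtain ⟨s, h0, h1⟩ : ∃ s : LTSeries P, s.head = p ∧ s.last = q := by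
    rcases h.eq_or_lt with rfl | h
    · exact ⟨RelSeries.singleton _ p, rfl, rfl⟩
    · exact ⟨(RelSeries.singleton _ p).snoc q h, RelSeries.head_snoc .., RelSeries.last_snoc ..⟩
  obtain ⟨t, ht0, ht1, ht, -⟩ := exists_saturated_ge hP s
  exact ⟨_, t, ht0.trans h0, ht1.trans h1, ht, rfl⟩

theorem IsLen.unique (hP : Cat P) {p q : P} {m n : ℕ} (h : IsLen p q m) (h' : IsLen p q n) : m = n := by
  obtain ⟨s, s0, s1, ss, rfl⟩ := h
  obtain ⟨t, t0, t1, ts, rfl⟩ := h'
  exact hP.2 s t (s0.trans t0.symm) (s1.trans t1.symm) ss ts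

theorem IsLen.length_le (hP : Cat P) {p q : P} {n : ℕ} (h : IsLen p q n) (s : LTSeries P)
    (h0 : s.head = p) (h1 : s.last = q) : s.length ≤ n := by
  obtain ⟨t, ht0, ht1, ht, hle⟩ := exists_saturated_ge hP s
  exact hle.trans (IsLen.unique hP ⟨t, ht0.trans h0, ht1.trans h1, ht, rfl⟩ h).le

theorem IsLen.add {p q r : P} {m n : ℕ} (h : IsLen p q m) (h' : IsLen q r n) : IsLen p r (m + n) := by
  obtain ⟨s, s0, s1, ss, rfl⟩ := h
  obtain ⟨t, t0, t1, ts, rfl⟩ := h'
  have hc : s.last = t.head := s1.trans t0.symm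
  refine ⟨RelSeries.smash s t hc, by rw [RelSeries.head_smash, s0], by rw [RelSeries.last_smash, t1], ?_, rfl⟩
  intro i
  refine Fin.addCases (m := s.length) (n := t.length)
    (motive := fun i => (RelSeries.smash s t hc) (Fin.castSucc i) ⋖
      (RelSeries.smash s t hc) (Fin.succ i)) (fun i => ?_) (fun i => ?_) i
  · erw [RelSeries.smash_castAdd, RelSeries.smash_succ_castAdd]; exact ss i
  · erw [RelSeries.smash_natAdd, RelSeries.smash_succ_natAdd]; exact ts i

theorem IsLen.pos {p q : P} {n : ℕ} (h : IsLen p q n) (hne : p ≠ q) : 0 < n := by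
  obtain ⟨s, s0, s1, -, rfl⟩ := h
  rcases Nat.eq_zero_or_pos s.length with h0 | h0
  · exact absurd (s0.symm.trans ((congrArg s (Fin.ext (by simp [h0]))).trans s1)) hne
  · exact h0

theorem isLen_one {p q : P} (h : p ⋖ q) : IsLen p q 1 := by
  refine ⟨(RelSeries.singleton _ p).snoc q h.lt, RelSeries.head_snoc .., RelSeries.last_snoc .., fun i => ?_, rfl⟩
  fin_cases i
  exact h

end Len

theorem exists_closed_le {S : Scheme.{u}} [JacobsonSpace S] (x : S) : ∃ z : S, x ⤳ z ∧ IsClosed ({z} : Set S) := by
  have hne : ((closure {x} : Set S) ∩ closedPoints S).Nonempty := by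
    rw [Set.nonempty_iff_ne_empty]
    intro he
    have := JacobsonSpace.closure_inter_closedPoints (Z := closure ({x} : Set S)) isClosed_closure
    rw [he, closure_empty] at this
    exact (this ▸ subset_closure rfl : x ∈ (∅ : Set S))
  obtain ⟨z, hz, hzc⟩ := hne
  exact ⟨z, specializes_iff_mem_closure.2 hz, hzc⟩

/-- The topological dimension of the generizations of `s` inside an irreducible closed set. -/
theorem topDim_interval {S : Scheme.{u}} (σ s : S) (hP : Cat S) {n : ℕ} (h : IsLen s σ n) :
    topologicalKrullDim ↥{t : S | t ∈ closure ({σ} : Set S) ∧ t ⤳ s} = n := by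
  let A : Set S := {t : S | t ∈ closure ({σ} : Set S) ∧ t ⤳ s}
  have hA : ∀ t, t ∈ A ↔ s ≤ t ∧ t ≤ σ := fun t =>
    ⟨fun ht => ⟨ht.2, specializes_iff_mem_closure.2 ht.1⟩, fun ht => ⟨specializes_iff_mem_closure.1 ht.2, ht.1⟩⟩
  haveI : QuasiSober A := ⟨fun {Z} hZ hZc => by
    have hi : IsIrreducible (Subtype.val '' Z : Set S) := hZ.image _ continuous_subtype_val.continuousOn
    have hg := hi.isGenericPoint_genericPoint_closure
    obtain ⟨z, hz⟩ := hZ.1
    have h1 : hi.genericPoint ⤳ (z : S) := hg.specializes (subset_closure ⟨z, hz, rfl⟩)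
    have h2 : closure (Subtype.val '' Z : Set S) ⊆ closure {σ} := by
      refine closure_minimal ?_ isClosed_closure
      rintro _ ⟨w, -, rfl⟩
      exact w.2.1
    have hgA : hi.genericPoint ∈ A := ⟨h2 hg.mem, h1.trans z.2.2⟩
    refine ⟨⟨hi.genericPoint, hgA⟩, ?_⟩
    rw [isGenericPoint_def]
    ext w
    rw [closure_subtype, Set.image_singleton, hg.def, ← closure_subtype, hZc.closure_eq]⟩
  haveI : T0Space A := inferInstance
  let e : TopologicalSpace.IrreducibleCloseds A ≃ Set.Icc s σ :=
    irreducibleSetEquivPoints.toEquiv.trans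
      { toFun := fun w => ⟨w.1, (hA w.1).1 w.2⟩
        invFun := fun w => ⟨w.1, (hA w.1).2 w.2⟩
        left_inv := fun w => rfl
        right_inv := fun w => rfl }
  have hdim : topologicalKrullDim A = Order.krullDim (Set.Icc s σ) := Order.krullDim_eq_of_orderIso
    { toEquiv := e
      map_rel_iff' := fun {a b} => (subtype_specializes_iff (irreducibleSetEquivPoints b)
        (irreducibleSetEquivPoints a)).symm.trans irreducibleSetEquivPoints.map_rel_iff' }
  show topologicalKrullDim A = n
  rw [hdim]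
  refine le_antisymm (iSup_le fun l => ?_) ?_
  · let t : LTSeries S := l.map Subtype.val fun _ _ hab => hab
    obtain ⟨m₁, hm₁⟩ := exists_isLen hP (l.head.2.1 : s ≤ t.head)
    obtain ⟨m₂, hm₂⟩ := exists_isLen hP (l.last.2.2 : t.last ≤ σ)
    obtain ⟨t', h0, h1, hsat, hle⟩ := exists_saturated_ge hP t
    have := ((hm₁.add ⟨t', h0, h1, hsat, rfl⟩).add hm₂).unique hP h
    have ht : t.length = l.length := rfl
    exact_mod_cast (show l.length ≤ n by omega)
  · obtain ⟨t, t0, t1, -, rfl⟩ := h
    let l : LTSeries (Set.Icc s σ) :=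
      { length := t.length
        toFun := fun i => ⟨t i, t0 ▸ t.monotone (Fin.zero_le i), t1 ▸ t.monotone (Fin.le_last i)⟩
        step := fun i => t.step i }
    exact le_iSup (fun p : LTSeries (Set.Icc s σ) => (p.length : WithBot ℕ∞)) l

/-- On an equicodimensional Jacobson catenary scheme, the length of saturated series down to a closed
point is a dimension function. -/
theorem exists_dimFun {S : Scheme.{u}} [IsLocallyNoetherian S] [JacobsonSpace S]
    (h2 : ∀ s : S, CAlg.IsUniversallyCatenary (S.presheaf.stalk s))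
    (h3 : ∀ S' ∈ irreducibleComponents (S : Type u), ∀ s ∈ S', IsClosed ({s} : Set S) →
      topologicalKrullDim (↥S' : Type u) = topologicalKrullDim ↥{t : S | t ∈ S' ∧ t ⤳ s}) :
    ∃ δ : S → ℤ, Cyc.IsDimFun S δ ∧ ∀ x : S, IsClosed ({x} : Set S) → δ x = 0 := by
  classical
  have hP := cat_points h2
  choose c hc hcl using fun x : S => exists_closed_le x
  choose d hd using fun x : S => exists_isLen hP (hc x : c x ≤ x)
  have key : ∀ (x z : S), x ⤳ z → IsClosed ({z} : Set S) → IsLen z x (d x) := by
    intro x z hz hzc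
    obtain ⟨σ, hσ, hmax⟩ := Groth.Agent.FlatOpen.EquiDim.exists_max x
    obtain ⟨b, hb⟩ := exists_isLen hP (hσ : x ≤ σ)
    obtain ⟨a, ha⟩ := exists_isLen hP (hz : z ≤ x)
    have hS' := Groth.Agent.FlatOpen.EquiDim.closure_mem_irreducibleComponents hmax
    have e1 := h3 _ hS' z (specializes_iff_mem_closure.1 (hσ.trans hz)) hzc
    have e2 := h3 _ hS' (c x) (specializes_iff_mem_closure.1 (hσ.trans (hc x))) (hcl x)
    rw [topDim_interval σ z hP (ha.add hb)] at e1
    rw [topDim_interval σ (c x) hP ((hd x).add hb), e1] at e2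
    have : a + b = d x + b := by exact_mod_cast e2
    rwa [show d x = a by omega]
  refine ⟨fun x => d x, fun x y hxy hne => ?_, fun x hx => ?_⟩
  · obtain ⟨a, ha⟩ := exists_isLen hP (hxy : y ≤ x)
    have h1 := key x (c y) (hxy.trans (hc y)) (hcl y)
    have he := ((hd y).add ha).unique hP h1
    have hpos := ha.pos (fun h => hne h.symm)
    refine ⟨show (d y : ℤ) < (d x : ℤ) by omega, fun himm => ?_⟩
    show (d x : ℤ) = (d y : ℤ) + 1
    have hcov : y ⋖ x := by
      refine ⟨lt_of_le_of_ne hxy fun h => hne h.symm, fun z hz1 hz2 => ?_⟩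
      rcases himm z hz2.le hz1.le with h | h
      · exact hz2.ne h
      · exact hz1.ne h.symm
    have := (isLen_one hcov).unique hP ha
    omega
  · have h1 := key x x specializes_rfl hx
    have h0 : IsLen x x 0 := ⟨RelSeries.singleton _ x, rfl, rfl, fun i => i.elim0, rfl⟩
    have := h1.unique hP h0
    simp [this]

theorem exists_trdeg {X Y : Scheme.{u}} (f : X ⟶ Y) [LocallyOfFiniteType f] (x : X) :
    ∃ n : ℕ, (letI := (f.residueFieldMap x).hom.toAlgebra
      Algebra.trdeg (Y.residueField (f x)) (X.residueField x)) = n ∧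
      Order.height (f.asFiber x) = n := by
  obtain ⟨z, hz, htr⟩ := Groth.Agent.FlatOpen.EquiDim.exists_trdeg_fibre f x
  have he : z = f.asFiber x := (f.fiberι (f x)).isEmbedding.injective (hz.trans (f.fiberι_asFiber x).symm)
  subst he
  letI := f.fiberOverSpecResidueField (f x)
  haveI : LocallyOfFiniteType ((f.fiber (f x)) ↘ Spec (CommRingCat.of (Y.residueField (f x)))) :=
    Groth.Agent.CycLib.locallyOfFiniteType_fiberToSpecResidueField f (f x)
  exact ⟨_, htr, Groth.Agent.VarDim.height_eq_dimPt _ _⟩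

theorem exists_compat {X S : Scheme.{u}} (p : X ⟶ S) [LocallyOfFiniteType p] [JacobsonSpace S] (δ : S → ℤ)
    (h0 : ∀ s : S, IsClosed ({s} : Set S) → δ s = 0) :
    ∃ δX : X → ℤ, Cyc.DeltaCompat p δX δ ∧ ∀ x : X, IsClosed ({x} : Set X) → δX x = 0 := by
  choose n hn hn' using exists_trdeg p
  refine ⟨fun x => δ (p x) + n x, fun x => ⟨n x, hn x, rfl⟩, fun x hx => ?_⟩
  have hz : Order.height (p.asFiber x) = 0 := by
    rw [Order.height_eq_zero]
    intro w hw
    have h1 : x ⤳ p.fiberι (p x) w := by
      have := (show p.asFiber x ⤳ w from hw).map (p.fiberι (p x)).continuous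
      rwa [p.fiberι_asFiber] at this
    have h2 : p.fiberι (p x) w = x := by
      have := (specializes_iff_mem_closure.1 h1); rwa [hx.closure_eq] at this
    have h3 : w = p.asFiber x := (p.fiberι (p x)).isEmbedding.injective (h2.trans (p.fiberι_asFiber x).symm)
    exact h3.ge
  rw [hn' x] at hz
  have h4 : n x = 0 := by exact_mod_cast hz
  show δ (p x) + (n x : ℤ) = 0
  rw [h0 _ (p.closePoints_subset_preimage_closedPoints hx), h4]
  rfl

theorem topDim_eq {X : Scheme.{u}} [JacobsonSpace X] [IrreducibleSpace X] {δ : X → ℤ} (hd : Cyc.IsDimFun X δ)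
    (h0 : ∀ x : X, IsClosed ({x} : Set X) → δ x = 0) :
    0 ≤ δ (genericPoint X) ∧ topologicalKrullDim X = ((δ (genericPoint X)).toNat : WithBot ℕ∞) := by
  obtain ⟨hnn, hh⟩ := Groth.Agent.CycLib.height_eq hd h0 (genericPoint X)
  refine ⟨hnn, ?_⟩
  have e : topologicalKrullDim X = topologicalKrullDim (closure ({genericPoint X} : Set X)) :=
    (IsHomeomorph.topologicalKrullDim_eq _ ((Homeomorph.setCongr (genericPoint_spec X).def).trans
      (Homeomorph.Set.univ X)).isHomeomorph).symm
  rw [e, Groth.Agent.CycLib.topologicalKrullDim_closure, hh]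
  rfl

end


/-- Let S be a locally Noetherian scheme which is Jacobson, whose local rings are universally catenary,
and whose irreducible components S' are equidimensional in the sense that for every closed point s
of S' the dimension of S' equals the dimension of S' at s (the Krull dimension of the set of
generizations of s inside S'). Let X and Y be S-schemes, each locally of finite type over the base
S, and let f : X ⟶ Y be a morphism over S, with X irreducible and f dominant; let η be the generic
point of Y and e the dimension of the fibre over η. Then dim X = dim Y + e. -/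
theorem result {X Y S : Scheme.{u}} [IsLocallyNoetherian S]
    [JacobsonSpace S] (h2 : ∀ s : S, CAlg.IsUniversallyCatenary (S.presheaf.stalk s))
    (h3 : ∀ S' ∈ irreducibleComponents (S : Type u), ∀ s ∈ S', IsClosed ({s} : Set S) →
      topologicalKrullDim (↥S' : Type u) = topologicalKrullDim ↥{t : S | t ∈ S' ∧ t ⤳ s})
    (p : X ⟶ S) (q : Y ⟶ S) [LocallyOfFiniteType p] [LocallyOfFiniteType q] (f : X ⟶ Y) (hf : f ≫ q = p)
    [IrreducibleSpace X] [IrreducibleSpace Y] [IsDominant f] :
    topologicalKrullDim (X : Type u) =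
      topologicalKrullDim (Y : Type u) + topologicalKrullDim ↥(f.fiber (genericPoint Y)) := by
  obtain ⟨δ, hdS, h0S⟩ := exists_dimFun h2 h3
  haveI : LocallyOfFiniteType f := by
    haveI : LocallyOfFiniteType (f ≫ q) := hf ▸ ‹LocallyOfFiniteType p›
    exact locallyOfFiniteType_of_comp f q
  haveI : JacobsonSpace X := LocallyOfFiniteType.jacobsonSpace p
  haveI : JacobsonSpace Y := LocallyOfFiniteType.jacobsonSpace q
  subst hf
  obtain ⟨δY, hYc, h0Y⟩ := exists_compat q δ h0S
  obtain ⟨δX, hXc, h0X⟩ := exists_compat (f ≫ q) δ h0S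
  have hdY := Groth.Agent.CycLib.isDimFun_of_deltaCompat q h2 hdS hYc
  have hdX := Groth.Agent.CycLib.isDimFun_of_deltaCompat (f ≫ q) h2 hdS hXc
  have hfc := Groth.Agent.CycLib.deltaCompat_cancel f q hXc hYc
  obtain ⟨hXn, hX⟩ := topDim_eq hdX h0X
  obtain ⟨hYn, hY⟩ := topDim_eq hdY h0Y
  have hgen : f (genericPoint X) = genericPoint Y := by
    refine IsGenericPoint.eq ?_ (genericPoint_spec Y)
    have := (genericPoint_spec X).image f.continuous
    rwa [Set.image_univ, f.denseRange.closure_range] at this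
  obtain ⟨n, hn, hn'⟩ := hfc (genericPoint X)
  obtain ⟨m, hm, hm'⟩ := exists_trdeg f (genericPoint X)
  rw [hn] at hm
  have hnm : n = m := by exact_mod_cast hm
  subst hnm
  have hF : topologicalKrullDim ↥(f.fiber (f (genericPoint X))) = (n : WithBot ℕ∞) := by
    set z := f.asFiber (genericPoint X)
    have hu : closure ({z} : Set (f.fiber (f (genericPoint X)))) = Set.univ :=
      Set.eq_univ_of_forall fun w => specializes_iff_mem_closure.1
        ((f.fiberι (f (genericPoint X))).isEmbedding.isInducing.specializes_iff.1 (by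
          rw [f.fiberι_asFiber]; exact genericPoint_specializes _))
    have e : topologicalKrullDim ↥(f.fiber (f (genericPoint X))) = topologicalKrullDim (closure ({z} : Set (f.fiber (f (genericPoint X))))) :=
      (IsHomeomorph.topologicalKrullDim_eq _ ((Homeomorph.setCongr hu).trans
        (Homeomorph.Set.univ _)).isHomeomorph).symm
    rw [e, Groth.Agent.CycLib.topologicalKrullDim_closure, hm']
    rfl
  rw [← hgen, hF, hX, hY]
  rw [hgen] at hn'
  exact_mod_cast (show (δX (genericPoint X)).toNat = (δY (genericPoint Y)).toNat + n by omega)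

end Groth.Agent.S3449
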