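import Groth.Statements.S10862
import Groth.Agent.CAlgA.N2Field
import Mathlib.RingTheory.NoetherNormalization
import Mathlib.RingTheory.Localization.Finiteness
import Mathlib.RingTheory.Algebraic.Integral

set_option autoImplicit false
universe u
open CAlg

namespace Groth.Agent.S10862

attribute [local instance] FractionRing.liftAlgebra FractionRing.isScalarTower_liftAlgebra

theorem finite_of_finite_subring (P A K L : Type u) [CommRing P] [IsDomain P] [IsNoetherianRing P] [CommRing A] [IsDomain A]
    [Algebra P A] [Module.Finite P A] [FaithfulSMul P A] [Field K] [Field L] [Algebra A K] [IsFractionRing A K]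
    [Algebra K L] [FiniteDimensional K L] [Algebra A L] [IsScalarTower A K L]
    (H : ∀ (L : Type u) [Field L] [Algebra P L] [FaithfulSMul P L] [FiniteDimensional (FractionRing P) L],
      Module.Finite P (integralClosure P L)) : Module.Finite A (integralClosure A L) := by
  let : Algebra P K := ((algebraMap A K).comp (algebraMap P A)).toAlgebra
  have : IsScalarTower P A K := .of_algebraMap_eq fun _ => rfl
  let : Algebra P L := ((algebraMap A L).comp (algebraMap P A)).toAlgebra
  have : IsScalarTower P A L := .of_algebraMap_eq fun _ => rfl
  have : IsScalarTower P K L := .of_algebraMap_eq fun p => IsScalarTower.algebraMap_apply A K L (algebraMap P A p)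
  have : FaithfulSMul P K := (faithfulSMul_iff_algebraMap_injective _ _).mpr
    ((IsFractionRing.injective A K).comp (FaithfulSMul.algebraMap_injective P A))
  have : FaithfulSMul P L := (faithfulSMul_iff_algebraMap_injective _ _).mpr (by
    rw [IsScalarTower.algebraMap_eq P K L]
    exact (algebraMap K L).injective.comp (FaithfulSMul.algebraMap_injective P K))
  let : Algebra (FractionRing P) K := FractionRing.liftAlgebra P K
  let : Algebra (FractionRing P) L := FractionRing.liftAlgebra P L
  have : IsScalarTower (FractionRing P) K L := IsScalarTower.of_algebraMap_eq' (IsLocalization.ringHom_ext (nonZeroDivisors P) (RingHom.ext fun p => by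
    simp only [RingHom.comp_apply, ← IsScalarTower.algebraMap_apply P (FractionRing P) K, ← IsScalarTower.algebraMap_apply P (FractionRing P) L,
      ← IsScalarTower.algebraMap_apply P K L]))
  have : IsLocalization (Algebra.algebraMapSubmonoid A (nonZeroDivisors P)) K := inferInstance
  have : FiniteDimensional (FractionRing P) K := .of_isLocalization P A (nonZeroDivisors P)
  have : FiniteDimensional (FractionRing P) L := Module.Finite.trans K L
  have := H L
  let f : integralClosure A L →ₗ[P] integralClosure P L :=
    { toFun := fun z => ⟨z.1, isIntegral_trans (R := P) z.1 z.2⟩
      map_add' := fun _ _ => rfl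
      map_smul' := fun _ _ => rfl }
  have : Algebra.IsIntegral P A := Algebra.IsIntegral.of_finite P A
  have : Module.Finite P (integralClosure A L) := Module.Finite.of_injective f fun a b h => Subtype.ext (congrArg (fun x : integralClosure P L => x.1) h)
  exact Module.Finite.of_restrictScalars_finite P A _

/-- For a field k, an integral domain A of finite type over k with fraction field K, and a finite field
extension L of K, the integral closure of A in L is a finitely generated A-module. -/
theorem result (k A K L : Type u) [Field k] [CommRing A] [IsDomain A]
    [Algebra k A] [Algebra.FiniteType k A] [Field K] [Field L] [Algebra A K] [IsFractionRing A K] [Algebra K L]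
    [FiniteDimensional K L] [Algebra A L] [IsScalarTower A K L] : Module.Finite A (integralClosure A L) := by
  obtain ⟨n, φ, hφ, hfin⟩ := exists_finite_inj_algHom_of_fg k A
  let : Algebra (MvPolynomial (Fin n) k) A := φ.toRingHom.toAlgebra
  have : Module.Finite (MvPolynomial (Fin n) k) A := hfin
  have : FaithfulSMul (MvPolynomial (Fin n) k) A := (faithfulSMul_iff_algebraMap_injective _ _).mpr hφ
  exact finite_of_finite_subring (MvPolynomial (Fin n) k) A K L
    (fun L => CAlgA.N2Field.finite_integralClosure_mvPolynomial k n L)

end Groth.Agent.S10862
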