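import Groth.Statements.S12916
import Mathlib.RingTheory.Ideal.AssociatedPrime.Finiteness
import Mathlib.RingTheory.Ideal.AssociatedPrime.Localization
import Mathlib.RingTheory.FiniteLength
import Mathlib.Algebra.Module.Submodule.Union

set_option autoImplicit false
universe u
open CAlgX

namespace Groth.Agent.S12916

theorem isFiniteLength_of_support {A : Type u} [CommRing A] [IsNoetherianRing A] {N : Type u}
    [AddCommGroup N] [Module A N] [hN : Module.Finite A N]
    (h : ∀ p ∈ Module.support A N, p.asIdeal.IsMaximal) : IsFiniteLength A N := by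
  induction hN using IsNoetherianRing.induction_on_isQuotientEquivQuotientPrime A with
  | subsingleton N => exact .of_subsingleton
  | quotient N p e =>
    have hm : p.asIdeal.IsMaximal := h p (by
      rw [e.support_eq, Module.support_eq_zeroLocus, Ideal.annihilator_quotient]
      exact fun x hx => hx)
    have : IsSimpleModule A N := by
      rw [isSimpleModule_iff_quot_maximal]; exact ⟨p.asIdeal, hm, ⟨e⟩⟩
    exact isFiniteLength_iff_isNoetherian_isArtinian.2 ⟨inferInstance, inferInstance⟩
  | exact N₁ N₂ N₃ f g hf hg hfg h₁ h₃ =>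
    have hs := Module.support_of_exact hfg hf hg
    have a := h₁ fun p hp => h p (hs ▸ Or.inl hp)
    have b := h₃ fun p hp => h p (hs ▸ Or.inr hp)
    rw [isFiniteLength_iff_isNoetherian_isArtinian] at a b ⊢
    haveI := a.1; haveI := a.2; haveI := b.1; haveI := b.2
    exact ⟨isNoetherian_of_range_eq_ker f g hfg.linearMap_ker_eq.symm,
      isArtinian_of_range_eq_ker f g hfg.linearMap_ker_eq.symm⟩

theorem isFiniteLength_of_associatedPrimes {A : Type u} [CommRing A] [IsNoetherianRing A]
    {N : Type u} [AddCommGroup N] [Module A N] [Module.Finite A N]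
    (h : ∀ P ∈ associatedPrimes A N, P.IsMaximal) : IsFiniteLength A N := by
  refine isFiniteLength_of_support fun p hp => ?_
  rw [Module.support_eq_zeroLocus, PrimeSpectrum.mem_zeroLocus] at hp
  obtain ⟨q, hq, hqp⟩ := Ideal.exists_minimalPrimes_le hp
  have hm := h q (Module.associatedPrimes.minimalPrimes_annihilator_subset_associatedPrimes A N hq)
  exact hm.eq_of_le p.2.ne_top hqp ▸ hm


/-- Let k be an infinite field, S = k[x_0, …, x_r], M a finitely generated S-module and d a natural
number. Then some nonzero homogeneous polynomial f of degree d is quasi-regular on M: the submodule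
(0 :_M f) of elements of M annihilated by f has finite length. (The published statement assumes M
graded; this row assumes only that M is finitely generated.) -/
theorem result (k : Type u) [Field k] [Infinite k] (r d : ℕ)
    (M : Type u) [AddCommGroup M] [Module (MvPolynomial (Fin (r + 1)) k) M] [Module.Finite (MvPolynomial (Fin (r + 1)) k) M] :
    ∃ f : MvPolynomial (Fin (r + 1)) k, f.IsHomogeneous d ∧ f ≠ 0 ∧
      IsFiniteLength (MvPolynomial (Fin (r + 1)) k) ↥(Submodule.torsionBy (MvPolynomial (Fin (r + 1)) k) M f) := by
  let S := MvPolynomial (Fin (r + 1)) k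
  let V := MvPolynomial.homogeneousSubmodule (Fin (r + 1)) k d
  let B : Set (Ideal S) := {P ∈ associatedPrimes S M | ¬ P.IsMaximal}
  haveI : Finite B := ((associatedPrimes.finite S M).subset fun P hP => hP.1).to_subtype
  let p : Option B → Submodule k V := fun o => o.elim ⊥
    fun P => ((P : Ideal S).restrictScalars k).comap V.subtype
  have hX : ∀ i : Fin (r + 1), (MvPolynomial.X i : S) ^ d ∈ V := fun i => by
    simpa [V] using (MvPolynomial.isHomogeneous_X k i).pow d
  have hp : ∀ o, p o ≠ ⊤ := by
    intro o ho
    rcases o with _ | ⟨P, hPa, hPm⟩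
    · have h0 : (⟨_, hX 0⟩ : V) ∈ (⊥ : Submodule k V) := by
        rw [show (⊥ : Submodule k V) = p none from rfl, ho]; exact Submodule.mem_top
      exact pow_ne_zero d (MvPolynomial.X_ne_zero 0) (congrArg Subtype.val ((Submodule.mem_bot k).1 h0))
    · have hP : P.IsPrime := hPa.isPrime
      have hXP : ∀ i : Fin (r + 1), (MvPolynomial.X i : S) ∈ P := fun i => by
        have h0 : (⟨_, hX i⟩ : V) ∈ p (some ⟨P, hPa, hPm⟩) := ho ▸ Submodule.mem_top
        exact hP.mem_of_pow_mem d h0
      refine hPm ?_
      have hmax : (RingHom.ker (MvPolynomial.constantCoeff : S →+* k)).IsMaximal :=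
        RingHom.ker_isMaximal_of_surjective _ fun c => ⟨MvPolynomial.C c, MvPolynomial.constantCoeff_C _ c⟩
      have key : ∀ q : S, q - MvPolynomial.C (MvPolynomial.constantCoeff q) ∈ P := by
        intro q
        induction q using MvPolynomial.induction_on with
        | C a => simp
        | add a b ha hb => simpa [add_sub_add_comm] using P.add_mem ha hb
        | mul_X a i _ => simpa using P.mul_mem_left a (hXP i)
      have hle : RingHom.ker (MvPolynomial.constantCoeff : S →+* k) ≤ P := fun q hq => by
        simpa [RingHom.mem_ker.1 hq] using key q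
      exact hmax.eq_of_le hP.ne_top hle ▸ hmax
  obtain ⟨x, hx⟩ := Submodule.exists_forall_notMem_of_forall_ne_top p hp
  refine ⟨x.1, x.2, fun h0 => hx none (by simpa [p] using Subtype.ext h0), ?_⟩
  refine isFiniteLength_of_associatedPrimes fun Q hQ => ?_
  have hQM : Q ∈ associatedPrimes S M :=
    associatedPrimes.subset_of_injective (Submodule.torsionBy S M x.1).injective_subtype hQ
  have hxQ : x.1 ∈ Q := hQ.annihilator_le (Submodule.mem_annihilator.2 fun m _ => Subtype.ext m.2)
  by_contra hm
  exact hx (some ⟨Q, hQM, hm⟩) hxQ

end Groth.Agent.S12916
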