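import Groth.Statements.S3406
import Groth.Agent.EGA41Lib.Params

set_option autoImplicit false
universe u
open EGA41

namespace Groth.Agent.S3406

/-- The equality s(M) = dim(M): let A be a Noetherian ring with finitely many maximal ideals, r its
Jacobson radical and M a nonzero finitely generated A-module. Then the dimension of M (the Krull
dimension of its support) is the least n for which there are elements x_1, …, x_n of r such that
M/(x_1 M + ⋯ + x_n M) has finite length. -/
theorem result (A : Type u) [CommRing A] [IsNoetherianRing A]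
    [Finite (MaximalSpectrum A)] (M : Type u) [AddCommGroup M] [Module A M] [Module.Finite A M] [Nontrivial M] :
    Module.supportDim A M =
      sInf {k : WithBot ℕ∞ | ∃ (n : ℕ) (x : Fin n → A), k = n ∧ (∀ i, x i ∈ Ring.jacobson A) ∧
        IsFiniteLength A (M ⧸ (Ideal.span (Set.range x) • (⊤ : Submodule A M)))} := by
  obtain ⟨d, hd⟩ := EGA41Lib.exists_supportDim_eq_natCast (A := A) M
  refine (IsLeast.csInf_eq ⟨?_, ?_⟩).symm
  · obtain ⟨ys, hys, hlen, hfl⟩ := EGA41Lib.exists_parameters (A := A) d M hd.le (by rw [hd]; exact Nat.cast_nonneg _)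
    refine ⟨ys.length, ys.get, hlen.symm, fun i => hys _ (List.get_mem ys i), ?_⟩
    rwa [show Ideal.span (Set.range ys.get) = Ideal.ofList ys by rw [Set.range_list_get]]
  · rintro k ⟨n, x, rfl, hx, hfl⟩
    have h := EGA41Lib.supportDim_le_quotient_add_length (List.ofFn x) M
      (fun y hy => by obtain ⟨i, rfl⟩ := List.mem_ofFn.mp hy; exact hx i)
    rw [List.length_ofFn, show Ideal.ofList (List.ofFn x) = Ideal.span (Set.range x) by
      rw [Ideal.ofList]; congr 1; ext; simp [List.mem_ofFn]] at h
    refine h.trans ?_
    calc _ ≤ (0 : WithBot ℕ∞) + n :=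
          add_le_add ((EGA41Lib.isFiniteLength_iff_supportDim_le_zero _).mp hfl) le_rfl
      _ = n := zero_add _

end Groth.Agent.S3406
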