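import Groth.Statements.S6266
import Mathlib
-- import your own Groth.Agent.* helpers here

set_option autoImplicit false
universe u
open scoped TensorProduct
open CAlg

namespace Groth.Agent.S6266

open TensorProduct in
theorem free_away_of_constant {R : Type u} [CommRing R] [IsReduced R] (M : Type u) [AddCommGroup M] [Module R M]
    [Module.Finite R M] (p : PrimeSpectrum R)
    (hconst : IsLocallyConstant (fun q : PrimeSpectrum R => Module.finrank q.asIdeal.ResidueField (q.asIdeal.ResidueField ⊗[R] M))) :
    ∃ f : R, f ∉ p.asIdeal ∧ Module.Free (Localization.Away f) (LocalizedModule.Away f M) := by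
  classical
  let K := p.asIdeal.ResidueField
  let s : Set (K ⊗[R] M) := Set.range fun m : M => (1 : K) ⊗ₜ[R] m
  have hs : ⊤ ≤ Submodule.span K s := by
    rintro z -
    induction z using TensorProduct.induction_on with
    | zero => exact zero_mem _
    | tmul a m =>
      rw [show a ⊗ₜ[R] m = a • ((1 : K) ⊗ₜ[R] m) by simp [TensorProduct.smul_tmul']]
      exact Submodule.smul_mem _ _ (Submodule.subset_span ⟨m, rfl⟩)
    | add a b ha hb => exact add_mem ha hb
  let bb := Module.Basis.ofSpan hs
  haveI : Module.Finite K (K ⊗[R] M) := inferInstance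
  let n := Module.finrank K (K ⊗[R] M)
  let bn : Module.Basis (Fin n) K (K ⊗[R] M) := bb.reindex (bb.indexEquiv (Module.finBasis K (K ⊗[R] M)))
  have hmem : ∀ i, ∃ m : M, (1 : K) ⊗ₜ[R] m = bn i := by
    intro i
    have h1 : bn i ∈ Set.range bb := by rw [Module.Basis.reindex_apply]; exact Set.mem_range_self _
    have h2 : bn i ∈ s := (Set.Subset.trans (Module.Basis.extendLe_subset (linearIndependent_empty K _) (Set.empty_subset s) hs) subset_rfl) h1
    exact h2
  choose x hx using hmem
  let N' : Submodule R M := Submodule.span R (Set.range x)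
  have hspan : ∀ z : K ⊗[R] M, N'.mkQ.lTensor K z = 0 := by
    intro z
    have hz : z ∈ Submodule.span K (Set.range bn) := bn.span_eq ▸ Submodule.mem_top
    have hL : ∀ (a : K) (w : K ⊗[R] M), N'.mkQ.lTensor K (a • w) = a • N'.mkQ.lTensor K w := fun a w =>
      (TensorProduct.AlgebraTensorModule.lTensor K K N'.mkQ).map_smul a w
    induction hz using Submodule.span_induction with
    | mem y hy =>
      obtain ⟨i, rfl⟩ := hy
      rw [← hx i, LinearMap.lTensor_tmul, Submodule.mkQ_apply,
        (Submodule.Quotient.mk_eq_zero N').mpr (Submodule.subset_span ⟨i, rfl⟩), TensorProduct.tmul_zero]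
    | zero => simp
    | add a b _ _ ha hb => rw [map_add, ha, hb, add_zero]
    | smul a b _ hb => rw [hL, hb, smul_zero]
  have hsupp : p ∉ Module.support R (M ⧸ N') := by
    rw [Module.mem_support_iff_nontrivial_residueField_tensorProduct, not_nontrivial_iff_subsingleton]
    refine subsingleton_of_forall_eq 0 fun w => ?_
    obtain ⟨z, rfl⟩ := LinearMap.lTensor_surjective K (Submodule.mkQ_surjective N') w
    exact hspan z
  rw [Module.mem_support_iff_of_finite, SetLike.not_le_iff_exists] at hsupp
  obtain ⟨f₁, hf₁, hf₁p⟩ := hsupp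
  obtain ⟨U, hUo, hpU, hU⟩ := (IsLocallyConstant.iff_exists_open _).mp hconst p
  obtain ⟨_, ⟨f₂, rfl⟩, hpf₂, hf₂U⟩ := PrimeSpectrum.isTopologicalBasis_basic_opens.exists_subset_of_mem_open hpU hUo
  let f := f₁ * f₂
  refine ⟨f, p.asIdeal.primeCompl.mul_mem hf₁p hpf₂, ?_⟩
  let Rf := Localization.Away f
  let Mf := LocalizedModule.Away f M
  let ι := LocalizedModule.mkLinearMap (Submonoid.powers f) M
  have hkill : ∀ m : M, f • m ∈ N' := fun m => by
    have := Module.mem_annihilator.mp hf₁ (Submodule.Quotient.mk m)
    rw [← Submodule.Quotient.mk_smul, Submodule.Quotient.mk_eq_zero] at this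
    change (f₁ * f₂) • m ∈ N'
    rw [mul_comm, mul_smul]; exact N'.smul_mem _ this
  have hrel : ∀ c : Fin n → R, ∑ i, c i • x i = 0 → ∀ i, f * c i = 0 := by
    intro c hc i
    apply IsNilpotent.eq_zero
    rw [← mem_nilradical, nilradical_eq_sInf, Submodule.mem_sInf]
    intro Q hQ
    by_cases hfQ : f ∈ Q
    · exact Ideal.mul_mem_right _ _ hfQ
    refine Ideal.mul_mem_left _ _ ?_
    obtain ⟨q, rfl⟩ : ∃ q : PrimeSpectrum R, q.asIdeal = Q := ⟨⟨Q, hQ⟩, rfl⟩
    have hq2 : f₂ ∉ q.asIdeal := fun h => hfQ (Ideal.mul_mem_left q.asIdeal _ h)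
    let L := q.asIdeal.ResidueField
    have hn : Module.finrank L (L ⊗[R] M) = n := hU q (hf₂U hq2)
    have hsp : (⊤ : Submodule L (L ⊗[R] M)) ≤ Submodule.span L (Set.range fun i => (1 : L) ⊗ₜ[R] x i) := by
      rintro z -
      induction z using TensorProduct.induction_on with
      | zero => exact zero_mem _
      | tmul a m =>
        have hfL : algebraMap R L f ≠ 0 := fun h => hfQ (Ideal.algebraMap_residueField_eq_zero.mp h)
        obtain ⟨d, hd⟩ := Submodule.mem_span_range_iff_exists_fun R |>.mp (hkill m)
        have : a ⊗ₜ[R] m = ∑ i, (a * (algebraMap R L f)⁻¹ * algebraMap R L (d i)) • ((1 : L) ⊗ₜ[R] x i) := by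
          have h1 : (a * (algebraMap R L f)⁻¹) ⊗ₜ[R] (f • m) = a ⊗ₜ[R] m := by
            rw [TensorProduct.tmul_smul, TensorProduct.smul_tmul', Algebra.smul_def]
            congr 1
            rw [mul_left_comm, mul_inv_cancel₀ hfL, mul_one]
          rw [← h1, ← hd, TensorProduct.tmul_sum]
          refine Finset.sum_congr rfl fun i _ => ?_
          rw [TensorProduct.tmul_smul, TensorProduct.smul_tmul', TensorProduct.smul_tmul', Algebra.smul_def, smul_eq_mul, mul_one, mul_comm]
        rw [this]
        exact Submodule.sum_mem _ fun i _ => Submodule.smul_mem _ _ (Submodule.subset_span ⟨i, rfl⟩)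
      | add a b ha hb => exact add_mem ha hb
    have hli : LinearIndependent L (fun i => (1 : L) ⊗ₜ[R] x i) :=
      linearIndependent_of_top_le_span_of_card_eq_finrank hsp (by rw [Fintype.card_fin, hn])
    have h0 : ∑ i, algebraMap R L (c i) • ((1 : L) ⊗ₜ[R] x i) = 0 := by
      have := congrArg (TensorProduct.mk R L M 1) hc
      simpa [map_sum, algebraMap_smul] using this
    exact Ideal.algebraMap_residueField_eq_zero.mp (Fintype.linearIndependent_iff.mp hli _ h0 i)
  refine Module.Free.of_basis (Module.Basis.mk (v := fun i => ι (x i)) ?_ ?_)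
  · rw [Fintype.linearIndependent_iff]
    intro c hc i
    obtain ⟨⟨b, hb⟩, hb'⟩ := IsLocalization.exist_integer_multiples_of_finite (Submonoid.powers f) c
    choose d hd using hb'
    have h1 : ι (∑ j, d j • x j) = 0 := by
      rw [map_sum, ← smul_zero b, ← hc, Finset.smul_sum]
      refine Finset.sum_congr rfl fun j _ => ?_
      rw [map_smul, ← algebraMap_smul Rf (d j), show algebraMap R Rf (d j) = b • c j from hd j, smul_assoc]
    obtain ⟨⟨_, k, rfl⟩, hk⟩ := (IsLocalizedModule.eq_zero_iff (Submonoid.powers f) ι).mp h1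
    have h2 : ∑ j, (f ^ k * d j) • x j = 0 := by
      simp_rw [mul_smul, ← Finset.smul_sum]; exact hk
    have h3 := hrel _ h2 i
    have h4 : algebraMap R Rf (d i) = 0 := (IsLocalization.map_eq_zero_iff (Submonoid.powers f) Rf _).mpr
      ⟨⟨_, k + 1, rfl⟩, by rw [← h3]; ring⟩
    rw [show algebraMap R Rf (d i) = b • c i from hd i, Algebra.smul_def] at h4
    exact (IsLocalization.map_units Rf ⟨b, hb⟩).mul_right_eq_zero.mp h4
  · rintro z -
    obtain ⟨⟨m, ⟨_, k, rfl⟩⟩, rfl⟩ := IsLocalizedModule.mk'_surjective (Submonoid.powers f) ι z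
    obtain ⟨d, hd⟩ := Submodule.mem_span_range_iff_exists_fun R |>.mp (hkill m)
    have : IsLocalizedModule.mk' ι m (⟨_, k, rfl⟩ : Submonoid.powers f) =
        ∑ i, IsLocalization.mk' Rf (d i) (⟨_, k + 1, rfl⟩ : Submonoid.powers f) • ι (x i) := by
      apply (IsLocalization.map_units Rf (⟨_, k + 1, rfl⟩ : Submonoid.powers f)).smul_left_cancel.mp
      rw [Finset.smul_sum]
      have hr : ∀ i, algebraMap R Rf (f ^ (k + 1)) • (IsLocalization.mk' Rf (d i) (⟨_, k + 1, rfl⟩ : Submonoid.powers f) • ι (x i)) = ι (d i • x i) := fun i => by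
        rw [smul_smul, IsLocalization.mk'_spec' Rf (d i) (⟨_, k + 1, rfl⟩ : Submonoid.powers f), algebraMap_smul, map_smul]
      rw [Finset.sum_congr rfl fun i _ => hr i, ← map_sum, hd, map_smul]
      change algebraMap R Rf (f ^ (k + 1)) • _ = f • ι m
      rw [algebraMap_smul, pow_succ', mul_smul]
      congr 1
      exact IsLocalizedModule.mk'_cancel' ι m (⟨_, k, rfl⟩ : Submonoid.powers f)
    rw [Function.uncurry_apply_pair, this]
    exact Submodule.sum_mem _ fun i _ => Submodule.smul_mem _ _ (Submodule.subset_span ⟨i, rfl⟩)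

/-- Let R be a reduced ring and M an R-module. Then M is a finite projective R-module if and only if M
is finitely generated and the function on Spec R sending a prime p to the dimension of κ(p) ⊗ M over
the residue field κ(p) is locally constant for the Zariski topology. -/
theorem result (R : Type u) [CommRing R] [IsReduced R] (M : Type u) [AddCommGroup M] [Module R M] : (Module.Finite R M ∧ Module.Projective R M) ↔ (Module.Finite R M ∧ IsLocallyConstant (fun p : PrimeSpectrum R => Module.finrank p.asIdeal.ResidueField (p.asIdeal.ResidueField ⊗[R] M))) := by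
  classical
  constructor
  · rintro ⟨hfin, hproj⟩
    refine ⟨hfin, ?_⟩
    haveI := Module.finitePresentation_of_projective R M
    have h := Module.isLocallyConstant_rankAtStalk (R := R) (M := M)
    convert h using 1
    funext p
    haveI : Module.Free (Localization.AtPrime p.asIdeal) (TensorProduct R (Localization.AtPrime p.asIdeal) M) := Module.free_of_flat_of_isLocalRing
    rw [Module.rankAtStalk_eq_finrank_tensorProduct,
      ← (TensorProduct.AlgebraTensorModule.cancelBaseChange R (Localization.AtPrime p.asIdeal) p.asIdeal.ResidueField p.asIdeal.ResidueField M).finrank_eq,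
      Module.finrank_baseChange]
  · rintro ⟨hfin, hconst⟩
    refine ⟨hfin, ?_⟩
    choose f hf hfree using fun p => free_away_of_constant M p hconst
    have hspan : Ideal.span (Set.range f) = ⊤ := by
      by_contra hne
      obtain ⟨m, hm, hle⟩ := Ideal.exists_le_maximal _ hne
      exact hf ⟨m, hm.isPrime⟩ (hle (Ideal.subset_span ⟨_, rfl⟩))
    haveI : Module.FinitePresentation R M := by
      refine Module.FinitePresentation.of_localizationSpan (Set.range f) hspan ?_
      rintro ⟨_, p, rfl⟩
      haveI := hfree p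
      exact Module.finitePresentation_of_projective _ _
    rw [← Module.freeLocus_eq_univ_iff, Set.eq_univ_iff_forall]
    intro p
    haveI := hfree p
    exact Module.basicOpen_subset_freeLocus_iff.mpr inferInstance (hf p)

end Groth.Agent.S6266
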