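import Groth.Statements.S4849
import Groth.Agent.S4900
import Groth.Agent.FDesc.BaseChangeStalk
import Groth.Agent.LimTop.BaseChange
import Groth.Agent.LimTop.Descend
import Groth.Agent.ConsPairLib.ModLoci
import Groth.Agent.FlatOpen.Scheme

set_option autoImplicit false
universe u
open CategoryTheory AlgebraicGeometry
open EGA43

namespace Groth.Agent.S4849

open CategoryTheory Limits AlgebraicGeometry

/-- Flatness passes from a base change of `f₀` to a further base change. -/
theorem bc {X₀ Y₀ Xi Yi X Y : Scheme.{u}} {f₀ : X₀ ⟶ Y₀} {F₀ : X₀.Modules} {fi : Xi ⟶ Yi} {pY : Yi ⟶ Y₀}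
    {pX : Xi ⟶ X₀} (hi : IsPullback pX fi f₀ pY) {f : X ⟶ Y} {qY : Y ⟶ Y₀} {qX : X ⟶ X₀}
    (h : IsPullback qX f f₀ qY) (vY : Y ⟶ Yi) (hvY : vY ≫ pY = qY) (vX : X ⟶ Xi) (hp : vX ≫ pX = qX)
    (hf : vX ≫ fi = f ≫ vY) (x : X)
    (hflat : FlatMod.IsFlatOverAt fi ((Scheme.Modules.pullback pX).obj F₀) (vX x)) :
    FlatMod.IsFlatOverAt f ((Scheme.Modules.pullback qX).obj F₀) x := by
  have sq : IsPullback vX f fi vY := IsPullback.of_right (by rw [hp, hvY]; exact h) hf hi
  exact Fibres16.LimCrit.isFlatOverAt_of_iso f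
    ((Scheme.Modules.pullbackComp vX pX ≪≫ Scheme.Modules.pullbackCongr hp).app F₀) x
    (FDesc.BaseChangeStalk.flatOverAt_baseChange sq x _ hflat)

/-- Let S be the limit of a cofiltered system (S_i) of schemes with affine transition morphisms, S_{i₀}
a quasi-compact stage, f₀ : X₀ ⟶ Y₀ an S_{i₀}-morphism between schemes of finite presentation over
S_{i₀}, and F₀ a quasi-coherent O_{X₀}-module of finite presentation. Let f : X ⟶ Y and F be
obtained by base change to S. Then F is f-flat if and only if there are an index i over i₀ and base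
changes f_i : X_i ⟶ Y_i, F_i of f₀, F₀ to S_i with F_i f_i-flat. (Base changes are expressed by
pullback squares; the stage S_{i₀} is only assumed quasi-compact.) -/
theorem result {I : Type u} [SmallCategory I] [IsCofiltered I]
    (D : I ⥤ Scheme.{u}) (c : Limits.Cone D) (hc : Limits.IsLimit c)
    [∀ (i j : I) (φ : i ⟶ j), IsAffineHom (D.map φ)] (i₀ : I) [CompactSpace (D.obj i₀)]
    {X₀ Y₀ : Scheme.{u}} (f₀ : X₀ ⟶ Y₀) (g₀ : Y₀ ⟶ D.obj i₀)
    [LocallyOfFinitePresentation g₀] [QuasiCompact g₀] [QuasiSeparated g₀]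
    [LocallyOfFinitePresentation (f₀ ≫ g₀)] [QuasiCompact (f₀ ≫ g₀)] [QuasiSeparated (f₀ ≫ g₀)]
    (F₀ : X₀.Modules) [Coh.IsQCoh F₀] (hF₀ : CohB1.IsFP F₀)
    {X Y : Scheme.{u}} (f : X ⟶ Y) (g : Y ⟶ c.pt) (qY : Y ⟶ Y₀) (qX : X ⟶ X₀)
    (hY : IsPullback qY g g₀ (c.π.app i₀)) (hX : IsPullback qX f f₀ qY) :
    FlatMod.IsFlatOver f ((Scheme.Modules.pullback qX).obj F₀) ↔
      ∃ (i : I) (φ : i ⟶ i₀) (Xi Yi : Scheme.{u}) (fi : Xi ⟶ Yi) (gi : Yi ⟶ D.obj i)
        (pY : Yi ⟶ Y₀) (pX : Xi ⟶ X₀),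
        IsPullback pY gi g₀ (D.map φ) ∧ IsPullback pX fi f₀ pY ∧
          FlatMod.IsFlatOver fi ((Scheme.Modules.pullback pX).obj F₀) := by
  haveI : LocallyOfFinitePresentation f₀ :=
    GrpScheme.FlatFib.locallyOfFinitePresentation_of_comp f₀ g₀
  constructor
  · intro hfl
    let X' : Over i₀ ⥤ Scheme.{u} := LimTop.bcDiagram D i₀ (f₀ ≫ g₀)
    let fY : ∀ j : Over i₀, pullback (D.map j.hom) (f₀ ≫ g₀) ⟶ pullback g₀ (D.map j.hom) := fun j =>
      pullback.lift ((pullback.snd (D.map j.hom) (f₀ ≫ g₀)) ≫ f₀) (pullback.fst (D.map j.hom) (f₀ ≫ g₀))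
        (by rw [Category.assoc]; exact pullback.condition.symm)
    have hZ : ∀ j : Over i₀, IsPullback (pullback.snd (D.map j.hom) (f₀ ≫ g₀)) (fY j) f₀
        (pullback.fst g₀ (D.map j.hom)) := fun j =>
      IsPullback.of_bot (by
          rw [show fY j ≫ pullback.snd g₀ (D.map j.hom) = pullback.fst (D.map j.hom) (f₀ ≫ g₀) from
            pullback.lift_snd _ _ _]
          exact (IsPullback.of_hasPullback (D.map j.hom) (f₀ ≫ g₀)).flip)
        (pullback.lift_fst _ _ _).symm (IsPullback.of_hasPullback g₀ (D.map j.hom))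
    let F : ∀ j : Over i₀, (j ⟶ Over.mk (𝟙 i₀)) → Set (X'.obj j) := fun j _ =>
      {z | FlatMod.IsFlatOverAt (fY j)
        ((Scheme.Modules.pullback (pullback.snd (D.map j.hom) (f₀ ≫ g₀))).obj F₀) z}
    haveI : CompactSpace (X'.obj (Over.mk (𝟙 i₀))) := by
      haveI : QuasiCompact (pullback.fst (D.map (𝟙 i₀)) (f₀ ≫ g₀)) :=
        MorphismProperty.of_isPullback (IsPullback.of_hasPullback (D.map (𝟙 i₀)) (f₀ ≫ g₀)).flip ‹QuasiCompact (f₀ ≫ g₀)›
      have hc : CompactSpace (pullback (D.map (𝟙 i₀)) (f₀ ≫ g₀) : Scheme.{u}) :=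
        QuasiCompact.compactSpace_of_compactSpace (pullback.fst (D.map (𝟙 i₀)) (f₀ ≫ g₀))
      exact hc
    have hX' : IsPullback qX (f ≫ g) (f₀ ≫ g₀) (c.π.app i₀) := hX.paste_vert hY
    let c' := LimTop.bcCone c i₀ (f₀ ≫ g₀)
    let e : c'.pt ⟶ X := hX'.lift (pullback.snd (c.π.app i₀) (f₀ ≫ g₀))
      (pullback.fst (c.π.app i₀) (f₀ ≫ g₀)) pullback.condition.symm
    have step : ∀ (j k : Over i₀) (ψ : k ⟶ j) (z : X'.obj k),
        FlatMod.IsFlatOverAt (fY j) ((Scheme.Modules.pullback (pullback.snd (D.map j.hom) (f₀ ≫ g₀))).obj F₀)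
          (X'.map ψ z) →
        FlatMod.IsFlatOverAt (fY k) ((Scheme.Modules.pullback (pullback.snd (D.map k.hom) (f₀ ≫ g₀))).obj F₀) z := by
      intro j k ψ z hz
      let m : pullback (D.map k.hom) (f₀ ≫ g₀) ⟶ pullback (D.map j.hom) (f₀ ≫ g₀) :=
        pullback.lift (pullback.fst (D.map k.hom) (f₀ ≫ g₀) ≫ D.map ψ.left)
          (pullback.snd (D.map k.hom) (f₀ ≫ g₀))
          (by rw [Category.assoc, ← D.map_comp, Over.w ψ]; exact pullback.condition)
      let mY : pullback g₀ (D.map k.hom) ⟶ pullback g₀ (D.map j.hom) :=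
        pullback.lift (pullback.fst g₀ (D.map k.hom)) (pullback.snd g₀ (D.map k.hom) ≫ D.map ψ.left)
          (by rw [Category.assoc, ← D.map_comp, Over.w ψ]; exact pullback.condition)
      refine bc (hZ j) (hZ k) mY (pullback.lift_fst _ _ _) m (pullback.lift_snd _ _ _) ?_ z hz
      apply pullback.hom_ext
      · simp only [fY, m, mY, Category.assoc, pullback.lift_fst]
        rw [← Category.assoc m, pullback.lift_snd]
      · simp only [fY, m, mY, Category.assoc, pullback.lift_snd]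
        rw [pullback.lift_fst, ← Category.assoc, pullback.lift_snd]
    obtain ⟨j, φ, hj⟩ := LimTop.exists_subset (LimTop.isLimitBcCone hc i₀ (f₀ ≫ g₀))
      (i₀ := Over.mk (𝟙 i₀)) (fun j _ => Set.univ) F
      (fun j _ => LimTop.isProConstructible_of_isClosed isClosed_univ)
      (fun j _ => LimTop.isIndConstructible_of_isOpen (by
        haveI : LocallyOfFinitePresentation (fY j) :=
          MorphismProperty.of_isPullback (hZ j) ‹LocallyOfFinitePresentation f₀›
        obtain ⟨h₁, h₂⟩ := ConsPairLib.isFP_pullback (pullback.snd (D.map j.hom) (f₀ ≫ g₀)) F₀ hF₀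
        haveI : ((Scheme.Modules.pullback (pullback.snd (D.map j.hom) (f₀ ≫ g₀))).obj F₀).IsQuasicoherent := h₁
        exact FlatOpen.Scheme.isOpen_isFlatOverAt (fY j) _ h₂))
      (fun _ _ _ _ _ _ => trivial)
      (fun j k ψ φ z hz => step j k ψ z hz)
      (fun s _ => by
        obtain ⟨i, φ, Xi, Yi, fi, gi, pY, pX, vY, vX, hYi, hXi, h1, h2, h3, h4, h5⟩ :=
          (S4900.result D c hc i₀ f₀ g₀ F₀ hF₀ f g qY qX hY hX (e s)).1 (hfl _)
        refine ⟨Over.mk φ, Over.homMk φ (Category.comp_id φ), ?_⟩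
        have hXi' := hXi.paste_vert hYi
        let t := hXi'.lift (pullback.snd (D.map φ) (f₀ ≫ g₀)) (pullback.fst (D.map φ) (f₀ ≫ g₀))
          pullback.condition.symm
        let tY := hYi.lift (pullback.fst g₀ (D.map φ)) (pullback.snd g₀ (D.map φ)) pullback.condition
        refine bc hXi (hZ (Over.mk φ)) tY (hYi.lift_fst _ _ _) t (hXi'.lift_fst _ _ _) ?_ _ ?_
        · apply hYi.hom_ext
          · rw [Category.assoc, ← hXi.w, ← Category.assoc, hXi'.lift_fst, Category.assoc, hYi.lift_fst]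
            exact (pullback.lift_fst _ _ _).symm
          · rw [Category.assoc, hXi'.lift_snd, Category.assoc, hYi.lift_snd]
            exact (pullback.lift_snd _ _ _).symm
        · have he : c'.π.app (Over.mk φ) ≫ t = e ≫ vX := by
            apply hXi'.hom_ext
            · refine (Category.assoc _ _ _).trans ?_
              erw [hXi'.lift_fst, Category.assoc, h3, hX'.lift_fst]
              exact LimTop.bcCone_snd c i₀ (f₀ ≫ g₀) (Over.mk φ)
            · refine (Category.assoc _ _ _).trans ?_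
              erw [hXi'.lift_snd, Category.assoc, reassoc_of% h4, h2, ← Category.assoc f g,
                ← Category.assoc e, hX'.lift_snd]
              exact LimTop.bcCone_fst c i₀ (f₀ ≫ g₀) (Over.mk φ)
          have := congrArg (fun m => m s) he
          simp only [Scheme.Hom.comp_apply] at this
          erw [this]
          exact h5)
    exact ⟨j.left, j.hom, X'.obj j, pullback g₀ (D.map j.hom), fY j, pullback.snd g₀ (D.map j.hom),
      pullback.fst g₀ (D.map j.hom), pullback.snd (D.map j.hom) (f₀ ≫ g₀),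
      IsPullback.of_hasPullback g₀ (D.map j.hom), hZ j, fun z => hj (Set.mem_univ z)⟩
  · rintro ⟨i, φ, Xi, Yi, fi, gi, pY, pX, hYi, hXi, hfl⟩ x
    let vY : Y ⟶ Yi := hYi.lift qY (g ≫ c.π.app i) (by rw [Category.assoc, c.w φ]; exact hY.w)
    exact bc hXi hX vY (hYi.lift_fst _ _ _)
      (hXi.lift qX (f ≫ vY) (by rw [Category.assoc, hYi.lift_fst]; exact hX.w))
      (hXi.lift_fst _ _ _) (hXi.lift_snd _ _ _) x (hfl _)

end Groth.Agent.S4849
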