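import Groth.Statements.S4515
import Groth.Agent.AdicFS.FlatComplete

set_option autoImplicit false
universe u
open EGA41

namespace Groth.Agent.S4515

/-- Let A be a ring, J an ideal of A, and M, N two A-modules which are Hausdorff for the J-adic
topology; suppose moreover that N is J-adically complete and M is flat. Let u : N → M be A-linear.
If the induced map N/JN → M/JM is bijective (surjectivity and injectivity written out below), then u
is bijective. -/
theorem result {A : Type u} [CommRing A] (J : Ideal A)
    {M N : Type u} [AddCommGroup M] [Module A M] [AddCommGroup N] [Module A N]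
    [IsHausdorff J M] [IsAdicComplete J N] [Module.Flat A M] (u : N →ₗ[A] M)
    (hsurj : ∀ m : M, ∃ n : N, m - u n ∈ (J • ⊤ : Submodule A M))
    (hinj : ∀ n : N, u n ∈ (J • ⊤ : Submodule A M) → n ∈ (J • ⊤ : Submodule A N)) :
    Function.Bijective u := by
  exact AdicFS.FlatComplete.bijective u hsurj hinj

end Groth.Agent.S4515
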