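import Groth.Statements.S6928
import Groth.Agent.FlatMor.EssStage.Presentation
import Groth.Agent.FlatMor.EssStage.Model
import Groth.Agent.FlatMor.EssStage.Stage
import Groth.Agent.FlatMor.EssStage.Colim

set_option autoImplicit false
universe u
open FlatMor

namespace Groth.Agent.S6928

/-- Let `R → S` be a ring map that is essentially of finite presentation, `J ⊆ S` an ideal and `M` a
finitely presented `S`-module. Let `(R_λ)` be a directed system of `R`-algebras with colimit `R'`,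
and `I_λ ⊆ R_λ` ideals with `I_λ R_μ ⊆ I_μ`, `I' = colim I_λ`, `S' = S ⊗_R R'`, `M' = M ⊗_R R'`. If
`M'_{𝔮'}` is flat over `R'` for every prime `𝔮' ⊇ I'S' + JS'`, then there is `λ` such that, with
`S_λ = S ⊗_R R_λ` and `M_λ = M ⊗_R R_λ`, `(M_λ)_𝔮` is flat over `R_λ` for every prime `𝔮 ⊇ I_λ S_λ +
J S_λ`. -/
theorem result {R S : Type u} [CommRing R] [CommRing S] [Algebra R S] (hS : FlatCA.EssFinitePresentation R S)
    {M : Type u} [AddCommGroup M] [Module S M] [Module R M] [IsScalarTower R S M] [Module.FinitePresentation S M]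
    {ι : Type u} [Preorder ι] (G : ι → Type u) [∀ i, CommRing (G i)] [∀ i, Algebra R (G i)]
    (g : ∀ i j, i ≤ j → G i →+* G j) (hgR : ∀ i j (h : i ≤ j), (g i j h).comp (algebraMap R (G i)) = algebraMap R (G j))
    (R' : Type u) [CommRing R'] [Algebra R R'] [∀ i, Algebra (G i) R'] [∀ i, IsScalarTower R (G i) R']
    (hcolim : FlatCA.IsDirectedColimitRing G g R')
    (Il : ∀ i, Ideal (G i)) (hIl : ∀ i j (h : i ≤ j), (Il i).map (g i j h) ≤ Il j)
    {S' : Type u} [CommRing S'] [Algebra S S'] [Algebra R' S'] [Algebra R S'] [IsScalarTower R S S']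
    [IsScalarTower R R' S'] [Algebra.IsPushout R S R' S']
    {M' : Type u} [AddCommGroup M'] [Module S' M'] [Module R' M'] [IsScalarTower R' S' M'] [Module S M']
    [IsScalarTower S S' M'] (f : M →ₗ[S] M') (hf : IsBaseChange S' f)
    (J : Ideal S)
    (h : ∀ (q' : Ideal S') [q'.IsPrime],
      (⨆ i, (Il i).map (algebraMap (G i) R')).map (algebraMap R' S') ⊔ J.map (algebraMap S S') ≤ q' →
        FlatCA.FlatAt R' q' M') :
    ∃ i : ι, ∀ (Si Mi : Type u) [CommRing Si] [Algebra S Si] [Algebra (G i) Si] [Algebra R Si] [IsScalarTower R S Si]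
      [IsScalarTower R (G i) Si] [Algebra.IsPushout R S (G i) Si] [AddCommGroup Mi] [Module Si Mi] [Module (G i) Mi]
      [IsScalarTower (G i) Si Mi] [Module S Mi] [IsScalarTower S Si Mi] (fi : M →ₗ[S] Mi), IsBaseChange Si fi →
      ∀ (q : Ideal Si) [q.IsPrime], (Il i).map (algebraMap (G i) Si) ⊔ J.map (algebraMap S Si) ≤ q → FlatCA.FlatAt (G i) q Mi := by
  classical
  obtain ⟨n, r, π, T, Z, hZmap, hZ, hT, hfrac, hsemi, hsurj, htors⟩ :=
    Groth.Agent.FlatMor.EssStage.exists_ess_presentation R S M hS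
  obtain ⟨R₀, Z₀, hR₀, rfl⟩ := Groth.Agent.FlatMor.EssStage.exists_subring_model Z hZ
  haveI : IsNoetherianRing R₀ := isNoetherianRing_of_fg hR₀
  haveI : ∀ i, IsScalarTower R₀ R (G i) := fun i => inferInstance
  haveI : ∀ i, IsScalarTower R₀ (G i) R' := fun i => IsScalarTower.of_algebraMap_eq fun a => by
    rw [IsScalarTower.algebraMap_apply R₀ R R', IsScalarTower.algebraMap_apply R₀ R (G i),
      ← IsScalarTower.algebraMap_apply R (G i) R']
  let L : Ideal (MvPolynomial (Fin n) R) := J.comap π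
  let ρ := fun i => MvPolynomial.map (σ := Fin n) (algebraMap R (G i))
  let ε := fun i => MvPolynomial.map (σ := Fin n) (algebraMap (G i) R')
  let Ji : ∀ i, Ideal (MvPolynomial (Fin n) (G i)) := fun i => (Il i).map MvPolynomial.C ⊔ L.map (ρ i)
  obtain ⟨hdir, hne, hid, hcomp, halg, hsj, hker⟩ := id hcolim
  have hmono : ∀ i k (hik : i ≤ k), (Ji i).map (MvPolynomial.map (g i k hik)) ≤ Ji k := by
    intro i k hik
    simp only [Ji, ρ, Ideal.map_sup, Ideal.map_map]
    refine sup_le_sup ?_ (le_of_eq ?_)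
    · rw [show (MvPolynomial.map (g i k hik)).comp MvPolynomial.C =
        (MvPolynomial.C (σ := Fin n)).comp (g i k hik) from RingHom.ext fun a => MvPolynomial.map_C _ _,
        ← Ideal.map_map]
      exact Ideal.map_mono (hIl i k hik)
    · congr 1
      refine RingHom.ext fun p => ?_
      rw [RingHom.comp_apply, MvPolynomial.map_map, hgR]
  let J' : Ideal (MvPolynomial (Fin n) R') :=
    { carrier := {p | ∃ i, ∃ x ∈ Ji i, ε i x = p}
      zero_mem' := hne.elim fun i => ⟨i, 0, (Ji i).zero_mem, map_zero _⟩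
      add_mem' := by
        rintro _ _ ⟨i, x, hx, rfl⟩ ⟨j, y, hy, rfl⟩
        obtain ⟨k, hik, hjk⟩ := hdir.directed i j
        refine ⟨k, _, (Ji k).add_mem (hmono i k hik (Ideal.mem_map_of_mem _ hx))
          (hmono j k hjk (Ideal.mem_map_of_mem _ hy)), ?_⟩
        simp only [ε, map_add, MvPolynomial.map_map, halg]
      smul_mem' := by
        rintro c _ ⟨i, x, hx, rfl⟩
        obtain ⟨j, y, rfl⟩ := Groth.Agent.FlatMor.EssStage.poly_surj hcolim c
        obtain ⟨k, hik, hjk⟩ := hdir.directed i j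
        refine ⟨k, _, (Ji k).mul_mem_left (MvPolynomial.map (g j k hjk) y)
          (hmono i k hik (Ideal.mem_map_of_mem _ hx)), ?_⟩
        simp only [ε, map_mul, MvPolynomial.map_map, halg, smul_eq_mul] }
  have hL : ∀ p ∈ L, MvPolynomial.map (algebraMap R R') p ∈ J' := fun p hp => hne.elim fun i =>
    ⟨i, ρ i p, (le_sup_right : _ ≤ Ji i) (Ideal.mem_map_of_mem _ hp), by
      simp only [ε, ρ, MvPolynomial.map_map, ← IsScalarTower.algebraMap_eq]⟩
  let T' := T.map (MvPolynomial.map (σ := Fin n) (algebraMap R R'))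
  obtain ⟨π', hπ', hiff, hlift⟩ := Groth.Agent.FlatMor.EssStage.exists_stage_map π T hT hfrac Z₀ hZmap
    hsemi hsurj htors R' f hf
  have hflat : ∀ (Q : Ideal (MvPolynomial (Fin n) R')) [Q.IsPrime], J' ≤ Q →
      Disjoint (Q : Set (MvPolynomial (Fin n) R')) T' →
      FlatCA.FlatAt R' Q (Groth.Agent.FlatOpen.Quot R' Z₀) := by
    intro Q _ hJQ hQT
    obtain ⟨q, hq, rfl⟩ := hlift Q
      (fun p hp => hJQ (hL p (show π p ∈ J from hp.symm ▸ J.zero_mem)))
      (fun t ht hmem => Set.disjoint_left.1 hQT hmem ⟨t, ht, rfl⟩)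
    haveI := hq
    refine (hiff q).2 (h q (sup_le ?_ ?_))
    · rw [Ideal.map_iSup, iSup_le_iff]
      intro i
      rw [Ideal.map_map, Ideal.map_le_iff_le_comap]
      intro x hx
      have h1 := hJQ (show ε i (MvPolynomial.C x) ∈ J' from
        ⟨i, _, (le_sup_left : _ ≤ Ji i) (Ideal.mem_map_of_mem _ hx), rfl⟩)
      rw [Ideal.mem_comap] at h1
      simp only [ε, MvPolynomial.map_C] at h1
      rw [← MvPolynomial.algebraMap_eq, π'.commutes] at h1
      exact h1
    · rw [Ideal.map_le_iff_le_comap]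
      intro s hs
      obtain ⟨t, ht, p, hp⟩ := hfrac s
      have h1 : algebraMap S S' (π p) ∈ q := by
        rw [← hπ']
        exact hJQ (hL p (show π p ∈ J from hp ▸ J.mul_mem_left _ hs))
      rw [← hp, map_mul] at h1
      exact (Ideal.unit_mul_mem_iff_mem q ((hT t ht).map _)).1 h1
  obtain ⟨R₁, hR₁, b, t₁, hb, ht₁, hR₁flat⟩ :=
    Groth.Agent.FlatMor.EssStage.exists_model_flatOn_disjoint Z₀ R' J' T' hflat
  obtain ⟨j, φ, hφ⟩ := Groth.Agent.FlatOpen.exists_stage_hom G g R' hcolim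
    (fun i k hik => by
      show (g i k hik).comp ((algebraMap R (G i)).comp (algebraMap R₀ R)) = _
      rw [← RingHom.comp_assoc, hgR]; rfl) R₁ hR₁
  have hε : ∀ x, ε j (MvPolynomial.map φ.toRingHom x) = MvPolynomial.map (algebraMap R₁ R') x :=
    fun x => by
      simp only [ε, MvPolynomial.map_map]
      congr 2
      exact RingHom.ext hφ
  obtain ⟨i, bi, hbi, hbieq⟩ := hb
  obtain ⟨t, ht, hteq⟩ := ht₁
  obtain ⟨k₁, hjk₁, hik₁, hk₁⟩ := Groth.Agent.FlatMor.EssStage.poly_eq hcolim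
    (MvPolynomial.map φ.toRingHom b) bi ((hε b).trans hbieq.symm)
  obtain ⟨k₂, hjk₂, hjk₂', hk₂⟩ := Groth.Agent.FlatMor.EssStage.poly_eq hcolim
    (MvPolynomial.map φ.toRingHom t₁) (ρ j t) (by
      refine (hε t₁).trans (hteq.symm.trans ?_)
      simp only [ρ, MvPolynomial.map_map, ← IsScalarTower.algebraMap_eq])
  obtain ⟨k, hk₁k, hk₂k⟩ := hdir.directed k₁ k₂
  refine ⟨k, fun Si Mi => ?_⟩
  intros
  rename_i fi hfi q hq hqle
  obtain ⟨πk, hπk, hiffk, -⟩ := Groth.Agent.FlatMor.EssStage.exists_stage_map π T hT hfrac Z₀ hZmap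
    hsemi hsurj htors (G k) fi hfi
  refine (hiffk q).1 ?_
  let φk : R₁ →+* G k := (g j k (hjk₁.trans hk₁k)).comp φ.toRingHom
  letI : Algebra R₁ (G k) := φk.toAlgebra
  haveI : IsScalarTower R₀ R₁ (G k) := IsScalarTower.of_algebraMap_eq fun a => by
    show algebraMap R₀ (G k) a = g j k _ (φ (algebraMap R₀ R₁ a))
    rw [φ.commutes, IsScalarTower.algebraMap_apply R₀ R (G j), IsScalarTower.algebraMap_apply R₀ R (G k)]
    exact (RingHom.congr_fun (hgR j k _) _).symm
  refine Groth.Agent.FlatOpen.flatAt_quot_of_tower Z₀ (G k) R₁ _ (hR₁flat _ ?_ ?_)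
  · rw [Ideal.mem_comap]
    have h0 : MvPolynomial.map (algebraMap R₁ (G k)) b = MvPolynomial.map (g i k (hik₁.trans hk₁k)) bi := by
      have h2 := congrArg (MvPolynomial.map (g k₁ k hk₁k)) hk₁
      simp only [MvPolynomial.map_map, ← RingHom.comp_assoc, hcomp] at h2
      exact h2
    have hmem : MvPolynomial.map (algebraMap R₁ (G k)) b ∈ Ji k := by
      rw [h0]; exact hmono i k _ (Ideal.mem_map_of_mem _ hbi)
    refine (show Ji k ≤ q.comap πk from sup_le ?_ ?_) hmem
    · rw [Ideal.map_le_iff_le_comap]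
      intro a ha
      rw [Ideal.mem_comap, Ideal.mem_comap, ← MvPolynomial.algebraMap_eq, πk.commutes]
      exact hqle (Ideal.mem_sup_left (Ideal.mem_map_of_mem _ ha))
    · rw [Ideal.map_le_iff_le_comap]
      intro p hp
      rw [Ideal.mem_comap, Ideal.mem_comap, hπk]
      exact hqle (Ideal.mem_sup_right (Ideal.mem_map_of_mem _ hp))
  · rw [Ideal.mem_comap, Ideal.mem_comap]
    intro hmem
    have h1 : MvPolynomial.map (algebraMap R₁ (G k)) t₁ = ρ k t := by
      have h2 := congrArg (MvPolynomial.map (g k₂ k hk₂k)) hk₂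
      simp only [ρ, MvPolynomial.map_map, ← RingHom.comp_assoc, hcomp, hgR] at h2 ⊢
      exact h2
    rw [h1, hπk] at hmem
    exact Ideal.IsPrime.ne_top inferInstance (q.eq_top_of_isUnit_mem hmem ((hT t ht).map _))

end Groth.Agent.S6928
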