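import Groth.Statements.S1233
import Groth.Agent.FlatMisc.WeakAssFlat
import Mathlib.RingTheory.Unramified.LocalStructure
import Mathlib.RingTheory.AdjoinRoot
import Mathlib.RingTheory.Etale.StandardEtale

set_option autoImplicit false
universe u
open FlatMor

namespace Groth.Agent.S1233

open TensorProduct in
/-- Let A → B be an étale ring map, M an A-module and u a prime of B lying over the prime p of A. Then u
is a weakly associated prime of the B-module B ⊗_A M if and only if p is a weakly associated prime
of M. -/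
theorem result {A B : Type u} [CommRing A] [CommRing B] [Algebra A B] [Algebra.Etale A B]
    (M : Type u) [AddCommGroup M] [Module A M] (p : Ideal A) [p.IsPrime] (u : Ideal B) [u.IsPrime] [u.LiesOver p] :
    u ∈ FlatCA.weakAss B (B ⊗[A] M) ↔ p ∈ FlatCA.weakAss A M := by
  classical
  obtain ⟨g, hg, hS⟩ := Algebra.IsEtaleAt.exists_isStandardEtale (R := A) u
  obtain ⟨P⟩ := hS.nonempty_standardEtalePresentation
  let Bg := Localization.Away g
  let C := AdjoinRoot P.f
  let e : Bg ≃ₐ[A] Localization.Away (AdjoinRoot.mk P.f P.g) := P.equivRing.trans P.P.equivAwayAdjoinRoot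
  let ug : Ideal Bg := u.map (algebraMap B Bg)
  have hd : Disjoint (Submonoid.powers g : Set B) (u : Set B) := Set.disjoint_left.mpr fun x hx hxu => by
    obtain ⟨n, rfl⟩ := hx
    exact hg (‹u.IsPrime›.mem_of_pow_mem n hxu)
  have : ug.IsPrime := IsLocalization.isPrime_of_isPrime_disjoint (Submonoid.powers g) Bg u ‹_› hd
  have hu : ug.comap (algebraMap B Bg) = u :=
    IsLocalization.under_map_of_isPrime_disjoint (Submonoid.powers g) Bg ‹u.IsPrime› hd
  let : Algebra C Bg := (e.symm.toRingEquiv.toRingHom.comp
    (algebraMap C (Localization.Away (AdjoinRoot.mk P.f P.g)))).toAlgebra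
  have : IsScalarTower A C Bg := IsScalarTower.of_algebraMap_eq fun a => by
    show algebraMap A Bg a = e.symm (algebraMap C _ (algebraMap A C a))
    rw [← IsScalarTower.algebraMap_apply, AlgEquiv.commutes]
  let eC : Localization.Away (AdjoinRoot.mk P.f P.g) ≃ₐ[C] Bg :=
    AlgEquiv.ofRingEquiv (f := e.symm.toRingEquiv) fun c => rfl
  have : IsLocalization (Submonoid.powers (AdjoinRoot.mk P.f P.g)) Bg :=
    IsLocalization.isLocalization_of_algEquiv _ eC
  have : Module.Finite A C := P.monic_f.finite_adjoinRoot
  have : Module.Free A C := P.monic_f.free_adjoinRoot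
  have hup : ug.comap (algebraMap A Bg) = p := by
    rw [IsScalarTower.algebraMap_eq A B Bg, ← Ideal.comap_comap, hu, ← Ideal.under_def, ← u.over_def p]
  have : (ug.comap (algebraMap C Bg)).LiesOver p := ⟨by
    rw [Ideal.under_def, Ideal.comap_comap, ← IsScalarTower.algebraMap_eq, hup]⟩
  conv_lhs => rw [← hu]
  rw [← Groth.Agent.FlatMisc.WeakAssFlat.mem_iff_of_isLocalization (Submonoid.powers g) ug,
    Groth.Agent.FlatMisc.WeakAssFlat.mem_iff_of_isLocalization (C := C) (Submonoid.powers (AdjoinRoot.mk P.f P.g)) ug]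
  exact Groth.Agent.FlatMisc.WeakAssFlat.mem_iff_of_finite p _

end Groth.Agent.S1233
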