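import Groth.Statements.S0938
import Mathlib

set_option autoImplicit false
universe u
open CategoryTheory
open Coh

namespace Groth.Agent.S0938

open AlgebraicGeometry Limits Opposite

variable {X : Scheme.{u}}

/-- Global sections. -/
abbrev Gam (X : Scheme.{u}) : X.Modules ⥤ ModuleCat.{u} Γ(X, ⊤) :=
  SheafOfModules.evaluation X.ringCatSheaf (op ⊤)

instance additive_Gam : (Gam X).Additive where
  map_add := rfl

/-- The section `1`. -/
noncomputable def one' (X : Scheme.{u}) : (Gam X).obj (Coh.structureModule X) := (1 : Γ(X, ⊤))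

theorem smul_one' (r : Γ(X, ⊤)) : r • one' X = (r : (Gam X).obj (Coh.structureModule X)) :=
  mul_one (M := Γ(X, ⊤)) r

theorem hom_ext_one {M : X.Modules} {f g : Coh.structureModule X ⟶ M}
    (h : (Gam X).map f (one' X) = (Gam X).map g (one' X)) : f = g := by
  apply (SheafOfModules.unitHomEquiv (R := X.ringCatSheaf) M).injective
  refine Subtype.ext (funext fun U => ?_)
  have key : ∀ s : M.val.sections, s.val U = M.val.map (homOfLE le_top : U.unop ⟶ ⊤).op (s.val (op ⊤)) :=
    fun s => (s.property _).symm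
  refine (key _).trans (Eq.trans ?_ (key _).symm)
  exact congrArg _ h

/-- The morphism attached to a section. -/
noncomputable def ofSection (M : X.Modules) (s : (Gam X).obj M) : Coh.structureModule X ⟶ M :=
  (SheafOfModules.unitHomEquiv (R := X.ringCatSheaf) M).symm
    ⟨fun U => M.val.map (homOfLE le_top : U.unop ⟶ ⊤).op s, fun {U V} f => by
      exact (PresheafOfModules.map_comp_apply M.val (homOfLE le_top : U.unop ⟶ ⊤).op f s).symm⟩

theorem ofSection_one (M : X.Modules) (s : (Gam X).obj M) : (Gam X).map (ofSection M s) (one' X) = s := by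
  have h := congrArg (fun t : M.val.sections => t.val (op ⊤))
    ((SheafOfModules.unitHomEquiv (R := X.ringCatSheaf) M).apply_symm_apply
      ⟨fun U => M.val.map (homOfLE le_top : U.unop ⟶ ⊤).op s, fun {U V} f => by
        exact (PresheafOfModules.map_comp_apply M.val (homOfLE le_top : U.unop ⟶ ⊤).op f s).symm⟩)
  exact h.trans (congrArg (fun g => M.val.presheaf.map g s) (Subsingleton.elim _ (𝟙 (op (⊤ : X.Opens)))) |>.trans
    (by rw [CategoryTheory.Functor.map_id]; rfl))

/-- The standard sections of a free module. -/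
noncomputable def e (n : ℕ) (i : Fin n) : (Gam X).obj (FlatMod.freeMod X n) :=
  (Gam X).map (Sigma.ι (fun _ : Fin n => Coh.structureModule X) i) (one' X)

theorem free_hom_ext {n : ℕ} {M : X.Modules} {f g : FlatMod.freeMod X n ⟶ M}
    (h : ∀ i, (Gam X).map f (e n i) = (Gam X).map g (e n i)) : f = g := by
  refine Sigma.hom_ext _ _ fun i => hom_ext_one ?_
  rw [Functor.map_comp, Functor.map_comp]
  exact h i

/-- The morphism out of a free module with prescribed values. -/
noncomputable def freeLift {n : ℕ} (M : X.Modules) (s : Fin n → (Gam X).obj M) : FlatMod.freeMod X n ⟶ M :=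
  Sigma.desc fun i => ofSection M (s i)

theorem freeLift_e {n : ℕ} (M : X.Modules) (s : Fin n → (Gam X).obj M) (i : Fin n) :
    (Gam X).map (freeLift M s) (e n i) = s i := by
  show ((Gam X).map _ ≫ (Gam X).map _) (one' X) = _
  rw [← Functor.map_comp, freeLift, Sigma.ι_desc, ofSection_one]

/-- The coordinate projections. -/
noncomputable def proj (n : ℕ) (i : Fin n) : FlatMod.freeMod X n ⟶ Coh.structureModule X :=
  Sigma.desc fun j => if j = i then 𝟙 _ else 0

theorem ι_proj (n : ℕ) (i j : Fin n) :
    Sigma.ι (fun _ : Fin n => Coh.structureModule X) j ≫ proj n i = if j = i then 𝟙 _ else 0 :=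
  Sigma.ι_desc _ _

theorem sum_proj (n : ℕ) :
    ∑ i, proj n i ≫ Sigma.ι (fun _ : Fin n => Coh.structureModule X) i = 𝟙 (FlatMod.freeMod X n) := by
  refine Sigma.hom_ext _ _ fun j => ?_
  rw [Preadditive.comp_sum, Category.comp_id, Finset.sum_eq_single j]
  · rw [← Category.assoc, ι_proj, if_pos rfl, Category.id_comp]
  · intro i _ hi
    rw [← Category.assoc, ι_proj, if_neg (Ne.symm hi), zero_comp]
  · simp

theorem span_e (n : ℕ) : ⊤ ≤ Submodule.span Γ(X, ⊤) (Set.range (e (X := X) n)) := by
  intro x _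
  have h := congrArg (fun φ => (Gam X).map φ x) (sum_proj (X := X) n)
  simp only [Functor.map_sum, Functor.map_id, Functor.map_comp, ModuleCat.hom_sum, LinearMap.sum_apply] at h
  change _ = x at h
  rw [← h]
  refine Submodule.sum_mem _ fun i _ => ?_
  show ((Gam X).map (Sigma.ι (fun _ : Fin n => Coh.structureModule X) i)).hom ((Gam X).map (proj n i) x) ∈ _
  exact (congrArg (· ∈ _) ((congrArg _ (smul_one' (X := X) ((Gam X).map (proj n i) x)).symm).trans
    (LinearMap.map_smul _ _ _))).mpr (Submodule.smul_mem _ _ (Submodule.subset_span ⟨i, rfl⟩))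

theorem map_proj_e (n : ℕ) (i j : Fin n) :
    ((Gam X).map (proj n i)).hom (e n j) = if j = i then one' X else 0 := by
  show ((Gam X).map (Sigma.ι (fun _ : Fin n => Coh.structureModule X) j) ≫ (Gam X).map (proj n i)) (one' X) = _
  rw [← Functor.map_comp, ι_proj]
  split_ifs
  · rw [CategoryTheory.Functor.map_id]; rfl
  · rw [Functor.map_zero]; rfl

theorem li_e (n : ℕ) : LinearIndependent Γ(X, ⊤) (e (X := X) n) := by
  rw [Fintype.linearIndependent_iff]
  intro c hc i
  have h := congrArg ((Gam X).map (proj n i)).hom hc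
  rw [map_sum, map_zero, Finset.sum_eq_single i] at h
  · exact (smul_one' (X := X) (c i)).symm.trans (((LinearMap.map_smul _ _ _).trans
      (congrArg (c i • ·) ((map_proj_e n i i).trans (if_pos rfl)))).symm.trans h)
  · intro j _ hj
    exact ((LinearMap.map_smul _ _ _).trans
      (congrArg (c j • ·) ((map_proj_e n i j).trans (if_neg hj)))).trans (smul_zero _)
  · exact fun hi => absurd (Finset.mem_univ i) hi

/-- The standard basis. -/
noncomputable def basis (X : Scheme.{u}) (n : ℕ) : Module.Basis (Fin n) Γ(X, ⊤) ((Gam X).obj (FlatMod.freeMod X n)) :=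
  Module.Basis.mk (li_e n) (span_e n)

theorem basis_apply (n : ℕ) (i : Fin n) : basis X n i = e n i := Module.Basis.mk_apply _ _ i

/-- Retracts of finite free modules. -/
abbrev PM (X : Scheme.{u}) : ObjectProperty X.Modules := fun M =>
  ∃ (n : ℕ) (i : M ⟶ FlatMod.freeMod X n) (r : FlatMod.freeMod X n ⟶ M), i ≫ r = 𝟙 M

/-- Finite projective modules. -/
abbrev PN (X : Scheme.{u}) : ObjectProperty (ModuleCat.{u} Γ(X, ⊤)) := fun N =>
  Module.Finite Γ(X, ⊤) N ∧ Module.Projective Γ(X, ⊤) N

theorem pN_of_pM (M : X.Modules) (hM : PM X M) : PN X ((Gam X).obj M) := by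
  obtain ⟨n, i, r, h⟩ := hM
  have hsplit : ((Gam X).map r).hom.comp ((Gam X).map i).hom = LinearMap.id := by
    rw [← ModuleCat.hom_comp, ← Functor.map_comp, h, CategoryTheory.Functor.map_id]; rfl
  haveI : Module.Finite Γ(X, ⊤) ((Gam X).obj (FlatMod.freeMod X n)) := Module.Finite.of_basis (basis X n)
  haveI : Module.Free Γ(X, ⊤) ((Gam X).obj (FlatMod.freeMod X n)) := Module.Free.of_basis (basis X n)
  exact ⟨Module.Finite.of_surjective ((Gam X).map r).hom fun y => ⟨((Gam X).map i).hom y, DFunLike.congr_fun hsplit y⟩,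
    Module.Projective.of_split _ _ hsplit⟩

theorem exists_section {R : Type u} [CommRing R] {Fm N : ModuleCat.{u} R} {n : ℕ} (b : Module.Basis (Fin n) R Fm)
    [Module.Projective R N] (π₀ : (Fin n → R) →ₗ[R] N) (hπ₀ : Function.Surjective π₀) :
    ∃ (π : Fm ⟶ N) (s : N ⟶ Fm), s ≫ π = 𝟙 N := by
  obtain ⟨s₀, hs₀⟩ := Module.projective_lifting_property (π₀.comp b.equivFun.toLinearMap) LinearMap.id
    (hπ₀.comp b.equivFun.surjective)
  exact ⟨ModuleCat.ofHom (π₀.comp b.equivFun.toLinearMap), ModuleCat.ofHom s₀, ModuleCat.hom_ext hs₀⟩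

/-- Two splittings of the same idempotent. -/
def isoOfSplit {C : Type*} [Category C] {A B N : C} (i : A ⟶ B) (r : B ⟶ A) (π : B ⟶ N) (s : N ⟶ B)
    (hir : i ≫ r = 𝟙 A) (hri : r ≫ i = π ≫ s) (hsπ : s ≫ π = 𝟙 N) : A ≅ N where
  hom := i ≫ π
  inv := s ≫ r
  hom_inv_id := by rw [Category.assoc, ← Category.assoc π, ← hri, Category.assoc, hir, Category.comp_id, hir]
  inv_hom_id := by rw [Category.assoc, ← Category.assoc r, hri, Category.assoc, hsπ, Category.comp_id, hsπ]

/-- The functor. -/
noncomputable def Φ (X : Scheme.{u}) : (PM X).FullSubcategory ⥤ (PN X).FullSubcategory :=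
  (PN X).lift ((PM X).ι ⋙ Gam X) fun M => pN_of_pM M.obj M.property

open AlgebraicGeometry CategoryTheory.Limits in
/-- For a scheme X with R = Γ(X, O_X), the full subcategory of O_X-modules which are retracts of a
finite free O_X-module is equivalent to the full subcategory of R-modules which are finite and
projective (existence of an equivalence of categories). The published statement is for ringed
spaces; stated here for schemes. -/
theorem result {X : Scheme.{u}} :
    Nonempty ((ObjectProperty.FullSubcategory fun M : X.Modules =>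
        ∃ (n : ℕ) (i : M ⟶ FlatMod.freeMod X n) (r : FlatMod.freeMod X n ⟶ M), i ≫ r = 𝟙 M) ≌
      (ObjectProperty.FullSubcategory fun N : ModuleCat.{u} (Γ(X, ⊤)) =>
        Module.Finite (Γ(X, ⊤)) N ∧ Module.Projective (Γ(X, ⊤)) N)) := by
  refine ⟨?_⟩
  haveI : (Φ X).Faithful := ⟨fun {M N} f g h => by
    obtain ⟨n, i, r, hir⟩ := M.property
    have h' : (Gam X).map f.hom = (Gam X).map g.hom := congrArg (fun t => t.hom) h
    have h'' : r ≫ f.hom = r ≫ g.hom := free_hom_ext fun j => by
      rw [Functor.map_comp, Functor.map_comp, h']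
    refine ObjectProperty.hom_ext _ ?_
    rw [← Category.id_comp f.hom, ← Category.id_comp g.hom, ← hir, Category.assoc, Category.assoc, h'']⟩
  haveI : (Φ X).Full := ⟨fun {M N} h => by
    obtain ⟨n, i, r, hir⟩ := M.property
    let F := freeLift N.obj fun j => h.hom ((Gam X).map r (e n j))
    refine ⟨ObjectProperty.homMk (i ≫ F), ObjectProperty.hom_ext _ ?_⟩
    show (Gam X).map (i ≫ F) = h.hom
    have hF : (Gam X).map F = (Gam X).map r ≫ h.hom := ModuleCat.hom_ext ((basis X n).ext fun j => by
      rw [basis_apply]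
      exact freeLift_e N.obj _ j)
    exact ((Gam X).map_comp i F).trans ((congrArg ((Gam X).map i ≫ ·) hF).trans ((Category.assoc _ _ _).symm.trans
      ((congrArg (· ≫ h.hom) (((Gam X).map_comp i r).symm.trans ((congrArg _ hir).trans ((Gam X).map_id _)))).trans
        (Category.id_comp _))))⟩
  haveI : (Φ X).EssSurj := ⟨fun N => by
    obtain ⟨hfin, hproj⟩ := N.property
    obtain ⟨n, π₀, hπ₀⟩ := Module.Finite.exists_fin' Γ(X, ⊤) N.obj
    obtain ⟨π, s, hsπ⟩ := exists_section (basis X n) π₀ hπ₀
    let P := freeLift (FlatMod.freeMod X n) fun j => (π ≫ s) (e n j)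
    have hP : (Gam X).map P = π ≫ s := ModuleCat.hom_ext ((basis X n).ext fun j => by
      rw [basis_apply]
      exact freeLift_e _ _ j)
    have hPP' : (Gam X).map (P ≫ P) = (Gam X).map P :=
      ((Gam X).map_comp P P).trans ((congrArg₂ (· ≫ ·) hP hP).trans ((Category.assoc _ _ _).trans
        ((congrArg (π ≫ ·) ((Category.assoc _ _ _).symm.trans ((congrArg (· ≫ s) hsπ).trans (Category.id_comp _)))).trans hP.symm)))
    have hPP : P ≫ P = P := free_hom_ext fun j => by rw [hPP']
    obtain ⟨Y, i, r, hir, hri⟩ := IsIdempotentComplete.idempotents_split (FlatMod.freeMod X n) P hPP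
    exact ⟨⟨Y, n, i, r, hir⟩, ⟨(PN X).isoMk (isoOfSplit (C := ModuleCat.{u} Γ(X, ⊤)) ((Gam X).map i) ((Gam X).map r) π s
      (((Gam X).map_comp i r).symm.trans ((congrArg _ hir).trans ((Gam X).map_id _)))
      ((((Gam X).map_comp r i).symm.trans (congrArg _ hri)).trans hP) hsπ)⟩⟩⟩
  haveI : (Φ X).IsEquivalence := { }
  exact (Φ X).asEquivalence

end Groth.Agent.S0938
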