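import Groth.Statements.S1327
import Groth.Agent.SecComp.FlatNbhd

set_option autoImplicit false
universe u
open FlatMor

namespace Groth.Agent.S1327

open AlgebraicGeometry CategoryTheory Limits in
/-- Let f be flat and of finite presentation with a section s, and let y be a point of the target whose
fibre is geometrically reduced. Then the section components of (f, s) contain an open neighbourhood
of the connected component of s y in the fibre over y. -/
theorem result {X Y : Scheme.{u}} (f : X ⟶ Y) (s : Y ⟶ X) (hs : s ≫ f = 𝟙 Y)
    [LocallyOfFinitePresentation f] [QuasiCompact f] [QuasiSeparated f] [Flat f] (y : Y)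
    (hy : GeometricallyReduced (f.fiberToSpecResidueField y)) :
    connectedComponentIn (f ⁻¹' {y}) (s y) ⊆ interior (MoreMor.sectionComponents f s) := by
  refine Groth.Agent.SecComp.component_subset_interior_fp f s hs y fun x hx => ?_
  have hxy : f x = y := connectedComponentIn_subset (f ⁻¹' {y}) _ hx
  subst hxy
  haveI := hy
  exact Groth.Agent.SecComp.isGeomReducedAt_of_geometricallyReduced
    (k := Y.residueField (f x)) (f.fiberToSpecResidueField (f x)) (f.asFiber x)

end Groth.Agent.S1327
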