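import Groth.Statements.S4646
import Groth.Agent.FBase.IrredComp
-- import your own Groth.Agent.* helpers here

set_option autoImplicit false
open CategoryTheory AlgebraicGeometry
universe u
open FBase

namespace Groth.Agent.S4646

open CategoryTheory.Limits TensorProduct
open Groth.Agent.FBase.BC Groth.Agent.FBase.BC2 Groth.Agent.FBase.Topo
open Groth.Agent.FBase.Components Groth.Agent.FBase.ConnComp Groth.Agent.FBase.IrredComp

/-- Let X be a scheme over a field k having finitely many irreducible components, such that for the
generic point x of each irreducible component the separable algebraic closure of k in κ(x) has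
finite degree over k. Then there is a finite separable extension L of k such that all irreducible
components of X ⊗_k L are geometrically irreducible over L: for every extension field K of L and
every irreducible component Z' of X ⊗_k L, the inverse image of Z' in (X ⊗_k L) ⊗_L K is
irreducible. (No finite-type hypothesis on X.) -/
theorem result {k : Type u} [Field k] {X : Scheme.{u}}
    (f : X ⟶ Spec (CommRingCat.of k)) [Finite ↥(irreducibleComponents ↥X)]
    (hx : ∀ (Z : Set ↥X) (hZ : Z ∈ irreducibleComponents ↥X),
      FBase.ResidueFieldProp f hZ.1.genericPoint (fun K _ _ => FiniteDimensional k (separableClosure k K))) :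
    ∃ (L : Type u) (_ : Field L) (_ : Algebra k L), FiniteDimensional k L ∧ Algebra.IsSeparable k L ∧
      ∀ (K : Type u) [Field K] [Algebra L K] (Z' : Set ↥(FBase.bc f L)), Z' ∈ irreducibleComponents ↥(FBase.bc f L) →
        IsIrreducible (⇑(FBase.bcπ (FBase.bcStr f L) K) ⁻¹' Z') := by
  choose κ i1 i2 ι h1 hι hr hfin using fun Z : irreducibleComponents ↥X ↦
    exists_point_of_residueFieldProp f (hx Z.1 Z.2)
  obtain ⟨L, _, _, hfd, hgal, hK⟩ :=
    exists_galois (k := k) (fun Z ↦ (separableClosure k (κ Z) : Type u))
  refine ⟨L, ‹_›, ‹_›, hfd, inferInstance, fun K _ _ Z' hZ' ↦ ?_⟩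
  let f' := pullback.snd f (specMap k L)
  let p := pullback.fst f (specMap k L)
  let Z'' : Set ↥(pullback f (specMap k L)) := Z'
  obtain ⟨w, hw⟩ : ∃ w : ↥(pullback f (specMap k L)), IsGenericPoint w Z'' :=
    QuasiSober.sober hZ'.1 (isClosed_of_mem_irreducibleComponents Z'' hZ')
  have hZ : closure {p w} ∈ irreducibleComponents ↥X :=
    closure_singleton_mem_irreducibleComponents fun z hz ↦ generization_maximal_map p
      (fun v ↦ specializes_of_isGenericPoint_component hZ' hw) hz
  have hg : hZ.1.genericPoint = p w := by
    have h1 : IsGenericPoint hZ.1.genericPoint (closure (closure {p w})) :=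
      hZ.1.isGenericPoint_genericPoint_closure
    rw [closure_closure] at h1
    exact h1.eq isGenericPoint_closure
  let L' := AlgebraicClosure L
  have : Algebra.IsAlgebraic k L' := Algebra.IsAlgebraic.trans k L L'
  exact isIrreducible_preimage_fst_of_point f' hw (subsingleton_iter_fibre f (ι ⟨_, hZ⟩)
    (hι ⟨_, hZ⟩) (splits_of_algHom (hK ⟨_, hZ⟩).some) L' ((hr ⟨_, hZ⟩).ge hg.symm)) (K := K)

end Groth.Agent.S4646
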