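import Groth.Statements.S1654
import Groth.Agent.S4646
import Groth.Agent.VarBC.Basic
import Groth.Agent.VarBC.SepFinite
import Groth.Agent.GeomPts.Basic
-- import your own Groth.Agent.* helpers here

set_option autoImplicit false
universe u
open CategoryTheory CategoryTheory.Limits AlgebraicGeometry
open Variety

namespace Groth.Agent.S1654

/-- Let X be a k-scheme locally of finite type, having only finitely many irreducible components. There
is then a finite separable extension k' of k such that every irreducible component of X_{k'}, with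
its reduced induced structure, is geometrically irreducible over k'. -/
theorem result (k : Type u) [Field k] (X : Scheme.{u}) [X.Over (Spec (CommRingCat.of k))] [LocallyOfFiniteType (X ↘ (Spec (CommRingCat.of k)))]
    (hirr : (irreducibleComponents (X : Type u)).Finite) :
    ∃ (k' : Type u) (_ : Field k') (_ : Algebra k k'), FiniteDimensional k k' ∧ Algebra.IsSeparable k k' ∧
      ∀ (T : Set (Curv2.bc k X k')) (hT : T ∈ irreducibleComponents (Curv2.bc k X k' : Type u)),
        GeometricallyIrreducible
          ((Scheme.IdealSheafData.vanishingIdeal ⟨T, isClosed_of_mem_irreducibleComponents T hT⟩).subschemeι ≫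
            Curv2.bcSnd k X k') := by
  let f := X ↘ Spec (CommRingCat.of k)
  have : Finite ↥(irreducibleComponents ↥X) := hirr.to_subtype
  have hfd : ∀ x : X, FBase.ResidueFieldProp f x
      (fun K _ _ ↦ FiniteDimensional k (separableClosure k K)) := fun x ↦ by
    refine ⟨Curv2.resMap k X x, (Groth.Agent.VarBC.fromSpecResidueField_comp X x).symm, ?_⟩
    have h := Groth.Agent.GeomPts.essFiniteType_residueField f x
    have e : Spec.preimage (X.fromSpecResidueField x ≫ f) = CommRingCat.ofHom (Curv2.resMap k X x) :=
      Spec.map_injective (by rw [Spec.map_preimage]; exact Groth.Agent.VarBC.fromSpecResidueField_comp X x)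
    rw [e] at h
    letI := (Curv2.resMap k X x).toAlgebra
    have : Algebra.EssFiniteType k (X.residueField x) := h
    exact Groth.Agent.VarBC.finiteDimensional_separableClosure
  obtain ⟨L, _, _, hfin, hsep, hL⟩ :=
    Groth.Agent.S4646.result f fun Z hZ ↦ hfd hZ.1.genericPoint
  refine ⟨L, inferInstance, inferInstance, hfin, hsep, fun T hT ↦ ?_⟩
  let j := (Scheme.IdealSheafData.vanishingIdeal ⟨T, isClosed_of_mem_irreducibleComponents T hT⟩).subschemeι
  let g := Curv2.bcSnd k X L
  refine ⟨geometrically_iff_of_commRing_of_isClosedUnderIsomorphisms.mpr fun K _ _ ↦ ?_⟩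
  have hZ : IsIrreducible (pullback.fst g (Spec.map (CommRingCat.ofHom (algebraMap L K))) ⁻¹' T) :=
    hL K T hT
  let q := Spec.map (CommRingCat.ofHom (algebraMap L K))
  let φ := pullback.map (j ≫ g) q g q j (𝟙 _) (𝟙 _) (by simp) (by simp)
  have hrange : Set.range φ = pullback.fst g q ⁻¹' T := by
    rw [Scheme.Pullback.range_map, Scheme.IdealSheafData.range_subschemeι,
      Scheme.IdealSheafData.coe_support_vanishingIdeal]
    simp
  have hsq : IsPullback φ (pullback.fst (j ≫ g) q) (pullback.fst g q) j := by
    refine (IsPullback.of_right (h₁₂ := pullback.snd g q) (v₁₃ := q) (h₂₂ := g) ?_ ?_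
      (IsPullback.of_hasPullback g q).flip).flip.flip
    · rw [pullback.lift_snd, Category.comp_id]
      exact (IsPullback.of_hasPullback (j ≫ g) q).flip
    · exact pullback.lift_fst _ _ _
  have : IsPreimmersion φ := MorphismProperty.of_isPullback (P := @IsPreimmersion) hsq.flip inferInstance
  obtain ⟨ζ, hζ⟩ : ∃ ζ, IsGenericPoint ζ (pullback.fst g q ⁻¹' T) :=
    QuasiSober.sober hZ ((isClosed_of_mem_irreducibleComponents T hT).preimage
      (pullback.fst g q).continuous)
  obtain ⟨w, hw⟩ := hrange.ge hζ.mem
  exact Groth.Agent.VarBC.irreducibleSpace_of_forall_specializes (z := w) fun y ↦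
    φ.isEmbedding.isInducing.specializes_iff.mp (hw.symm ▸ hζ.specializes (hrange.le ⟨y, rfl⟩))

end Groth.Agent.S1654
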