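import Groth.Statements.S13598
import Groth.Agent.Hens.Unique
import Groth.Agent.Hensel.Pair
set_option linter.style.haveILetI false

set_option autoImplicit false
universe u
open Hensel

namespace Groth.Agent.S13598

/-- For a local ring A, a henselization A ⟶ S of A (S a henselian local ring, the structure map local,
and initial among local homomorphisms from A to henselian local rings) and an ideal I of A inside
the maximal ideal, the quotient S/IS with its induced algebra structure over A/I is a henselization
of A/I. (The local-ring and local-homomorphism instances on the quotients hold automatically; they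
are taken as hypotheses only so that the conclusion can be stated.) -/
theorem result {A S : Type u} [CommRing A] [IsLocalRing A] [CommRing S]
    [IsLocalRing S] [Algebra A S] [IsLocalHom (algebraMap A S)] [Hensel.IsHenselization A S]
    (I : Ideal A) (hI : I ≤ IsLocalRing.maximalIdeal A)
    [IsLocalRing (A ⧸ I)] [IsLocalRing (S ⧸ I.map (algebraMap A S))]
    [IsLocalHom (algebraMap (A ⧸ I) (S ⧸ I.map (algebraMap A S)))] :
    Hensel.IsHenselization (A ⧸ I) (S ⧸ I.map (algebraMap A S)) := by
  have hh : HenselianLocalRing S := ‹Hensel.IsHenselization A S›.henselian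
  haveI := hh
  haveI : Nontrivial (S ⧸ I.map (algebraMap A S)) := inferInstance
  refine ⟨⟨fun f hf a₀ h1 h2 => ?_⟩, fun T _ _ f hf => ?_⟩
  · obtain ⟨F, hF, -, hFm⟩ := Polynomial.lifts_and_degree_eq_and_monic
      ((Polynomial.lifts_iff_coeff_lifts f).2 fun n => Ideal.Quotient.mk_surjective _) hf
    obtain ⟨b₀, rfl⟩ := Ideal.Quotient.mk_surjective a₀
    let π := Ideal.Quotient.mk (I.map (algebraMap A S))
    haveI : IsLocalHom π := .of_surjective π Ideal.Quotient.mk_surjective
    have he : ∀ (G : Polynomial S), (G.map π).eval (π b₀) = π (G.eval b₀) := fun G => by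
      rw [Polynomial.eval_map, Polynomial.eval₂_at_apply]
    obtain ⟨b, hb, hb'⟩ := HenselianLocalRing.is_henselian F hFm b₀
      (fun hu => h1 (by rw [← hF, he]; exact hu.map π))
      (isUnit_of_map_unit π _ (by rw [← he, ← Polynomial.derivative_map, hF]; exact h2))
    refine ⟨π b, ?_, ?_⟩
    · rw [Polynomial.IsRoot, ← hF, Polynomial.eval_map, Polynomial.eval₂_at_apply]
      rw [show F.eval b = 0 from hb, map_zero]
    · rw [← map_sub, IsLocalRing.mem_maximalIdeal]
      exact fun hu => hb' (isUnit_of_map_unit π _ hu)
  · haveI : IsLocalHom (Ideal.Quotient.mk I) := .of_surjective _ Ideal.Quotient.mk_surjective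
    obtain ⟨g, hg, hu⟩ := (‹Hensel.IsHenselization A S›).universal T (f.comp (Ideal.Quotient.mk I))
      inferInstance
    have hker : ∀ x ∈ I.map (algebraMap A S), g x = 0 := by
      intro x hx
      refine (Ideal.map_le_iff_le_comap (K := RingHom.ker g)).2 (fun a ha => ?_) hx
      show g (algebraMap A S a) = 0
      rw [← RingHom.comp_apply, hg, RingHom.comp_apply, Ideal.Quotient.eq_zero_iff_mem.2 ha,
        map_zero]
    refine ⟨Ideal.Quotient.lift _ g hker, ?_, fun g' hg' => ?_⟩
    · refine Ideal.Quotient.ringHom_ext (RingHom.ext fun a => ?_)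
      show g (algebraMap A S a) = f (Ideal.Quotient.mk I a)
      exact RingHom.congr_fun hg a
    · refine Ideal.Quotient.ringHom_ext ?_
      rw [hu (g'.comp (Ideal.Quotient.mk _)) (RingHom.ext fun a => ?_)]
      · exact RingHom.ext fun x => rfl
      · simpa using RingHom.congr_fun hg' (Ideal.Quotient.mk I a)

end Groth.Agent.S13598
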