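import Groth.Statements.S5072
import Groth.Agent.Hensel.StrictBC
import Groth.Agent.Hensel.EtLike

set_option autoImplicit false
open scoped TensorProduct
universe u
open Hensel IsLocalRing TensorProduct

namespace Groth.Agent.S5072

/-- Case of a local ring A and a local finite A-algebra B: let S be a strict henselization of A and T a
strict henselization of B. Then there is a maximal ideal q of B ⊗_A S such that T is isomorphic, as
a B-algebra, to the local ring (B ⊗_A S)_q. -/
theorem result (A B S T : Type u) [CommRing A] [IsLocalRing A]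
    [CommRing B] [IsLocalRing B] [Algebra A B] [Module.Finite A B]
    [CommRing S] [IsLocalRing S] [Algebra A S] [IsLocalHom (algebraMap A S)] [Hensel.IsStrictHenselization A S]
    [CommRing T] [IsLocalRing T] [Algebra B T] [IsLocalHom (algebraMap B T)] [Hensel.IsStrictHenselization B T] :
    ∃ (q : Ideal (B ⊗[A] S)) (_ : q.IsMaximal), Nonempty (Localization.AtPrime q ≃ₐ[B] T) := by
  classical
  obtain ⟨hSh, hSsep, hSu⟩ := ‹Hensel.IsStrictHenselization A S›
  obtain ⟨hTh, hTsep, hTu⟩ := ‹Hensel.IsStrictHenselization B T›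
  haveI := hSh
  haveI := hTh
  haveI : IsLocalHom (algebraMap A B) := by
    refine ((local_hom_TFAE (algebraMap A B)).out 0 4).2 ?_
    exact IsLocalRing.eq_maximalIdeal (Ideal.isMaximal_comap_of_isIntegral_of_isMaximal (R := A)
      (maximalIdeal B))
  let f : A →+* T := (algebraMap B T).comp (algebraMap A B)
  haveI : IsLocalHom f := RingHom.isLocalHom_comp _ _
  haveI := hSsep.sep_closed
  haveI := hTsep.sep_closed
  haveI := hSsep.separable
  haveI := hTsep.separable
  letI : Algebra A T := f.toAlgebra
  haveI : IsScalarTower A B T := .of_algebraMap_eq' rfl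
  haveI : IsLocalHom (algebraMap A T) := ‹IsLocalHom f›
  let τ : ResidueField S →ₐ[ResidueField A] ResidueField T := IsSepClosed.lift
  obtain ⟨g, ⟨hg, hgres⟩, hguniq⟩ := hSu T (algebraMap A T) τ.toRingHom (RingHom.ext τ.commutes)
  haveI : IsLocalHom g := ⟨fun x hx => by
    by_contra hx'
    have h1 : residue S x = 0 := (residue_eq_zero_iff x).2 hx'
    exact (hx.map (residue T)).ne_zero (by rw [hgres, h1, map_zero])⟩
  let g' : S →ₐ[A] T := ⟨g, RingHom.congr_fun hg⟩
  let μ : B ⊗[A] S →ₐ[B] T := Algebra.TensorProduct.lift (Algebra.ofId B T) g' fun _ _ => Commute.all _ _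
  let q : Ideal (B ⊗[A] S) := (maximalIdeal T).comap μ.toRingHom
  letI : Algebra S (B ⊗[A] S) := Algebra.TensorProduct.rightAlgebra
  haveI : Module.Finite S (B ⊗[A] S) := Module.Finite.of_equiv_equiv (RingEquiv.refl S)
    (Algebra.TensorProduct.comm A S B).toRingEquiv (RingHom.ext fun s => by
      show (1 : B) ⊗ₜ[A] s = Algebra.TensorProduct.comm A S B (s ⊗ₜ[A] (1 : B))
      rw [Algebra.TensorProduct.comm_tmul])
  haveI hqmax : q.IsMaximal := by
    refine Ideal.isMaximal_of_isIntegral_of_isMaximal_comap (R := S) q ?_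
    have : q.comap (algebraMap S (B ⊗[A] S)) = maximalIdeal S := by
      ext s
      show μ ((1 : B) ⊗ₜ[A] s) ∈ maximalIdeal T ↔ _
      rw [Algebra.TensorProduct.lift_tmul, map_one, one_mul, mem_maximalIdeal, mem_maximalIdeal,
        mem_nonunits_iff, mem_nonunits_iff]
      exact not_congr (isUnit_map_iff g s)
    rw [this]
    exact maximalIdeal.isMaximal S
  obtain ⟨hLh, hLfin, hLsurj⟩ := Hensel.localization_maximal_finite (S := S) (B ⊗[A] S) q
  let L := Localization.AtPrime q
  haveI : HenselianLocalRing L := hLh
  haveI : Module.Finite S L := hLfin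
  haveI : IsLocalHom (algebraMap S L) := by
    refine ((local_hom_TFAE (algebraMap S L)).out 0 4).2 ?_
    exact IsLocalRing.eq_maximalIdeal (Ideal.isMaximal_comap_of_isIntegral_of_isMaximal (R := S)
      (maximalIdeal L))
  have hunit : ∀ y : q.primeCompl, IsUnit (μ y) := fun y => by
    by_contra hy; exact y.2 hy
  let h : L →+* T := IsLocalization.lift hunit
  have hh : ∀ x, h (algebraMap (B ⊗[A] S) L x) = μ x := IsLocalization.lift_eq hunit
  haveI : IsLocalHom h := ⟨fun z hz => by
    obtain ⟨x, rfl⟩ := hLsurj z
    rw [hh] at hz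
    exact IsLocalization.map_units L (⟨x, fun hx => hx hz⟩ : q.primeCompl)⟩
  haveI : IsLocalHom (algebraMap B L) := ⟨fun b hb => isUnit_of_map_unit (algebraMap B T) b (by
    have := hb.map h
    rwa [IsScalarTower.algebraMap_apply B (B ⊗[A] S) L, hh, μ.commutes] at this)⟩
  haveI : IsLocalHom (algebraMap A L) := by
    rw [IsScalarTower.algebraMap_eq A B L]; exact RingHom.isLocalHom_comp _ _
  haveI : IsSepClosed (ResidueField L) := Hensel.isSepClosed_of_isAlgebraic (ResidueField S) (ResidueField L)
  let ι : ResidueField L →ₐ[ResidueField B] ResidueField T :=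
    { toRingHom := ResidueField.map h
      commutes' := fun c => by
        obtain ⟨b, rfl⟩ := residue_surjective c
        show ResidueField.map h (residue L (algebraMap B L b)) = residue T (algebraMap B T b)
        rw [ResidueField.map_residue, IsScalarTower.algebraMap_apply B (B ⊗[A] S) L, hh, μ.commutes] }
  have hιinj : Function.Injective ι := ι.toRingHom.injective
  have hιsurj : Function.Surjective ι := fun t => by
    letI : Algebra (ResidueField L) (ResidueField T) := ι.toRingHom.toAlgebra
    haveI : IsScalarTower (ResidueField B) (ResidueField L) (ResidueField T) :=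
      .of_algebraMap_eq' ι.comp_algebraMap.symm
    haveI : Algebra.IsSeparable (ResidueField L) (ResidueField T) :=
      Algebra.isSeparable_tower_top_of_isSeparable (ResidueField B) (ResidueField L) (ResidueField T)
    exact IsSepClosed.algebraMap_surjective (ResidueField L) (ResidueField T) t
  let ιe := AlgEquiv.ofBijective ι ⟨hιinj, hιsurj⟩
  obtain ⟨k, ⟨hk, hkres⟩, -⟩ := hTu L (algebraMap B L) ιe.symm.toAlgHom.toRingHom
    (RingHom.ext ιe.symm.commutes)
  have hkι : ∀ z, residue T (h (k z)) = residue T z := fun z => by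
    rw [← ResidueField.map_residue h, hkres]
    exact ιe.apply_symm_apply _
  obtain ⟨w, -, hwuniq⟩ := hTu T (algebraMap B T) (RingHom.id _) (RingHom.id_comp _)
  have hhk : h.comp k = RingHom.id T :=
    (hwuniq _ ⟨by
      rw [RingHom.comp_assoc, hk]
      exact RingHom.ext fun b => by
        show h (algebraMap B L b) = _
        rw [IsScalarTower.algebraMap_apply B (B ⊗[A] S) L, hh, μ.commutes], hkι⟩).trans
      (hwuniq _ ⟨RingHom.id_comp _, fun _ => rfl⟩).symm
  obtain ⟨w', -, hw'uniq⟩ := hSu L (algebraMap A L) (ResidueField.map (algebraMap S L))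
    (RingHom.ext fun c => by
      obtain ⟨a, rfl⟩ := residue_surjective c
      show ResidueField.map (algebraMap S L) (residue S (algebraMap A S a)) = residue L (algebraMap A L a)
      rw [ResidueField.map_residue, IsScalarTower.algebraMap_apply A (B ⊗[A] S) L a,
        IsScalarTower.algebraMap_apply S (B ⊗[A] S) L]
      congr 2
      show (1 : B) ⊗ₜ[A] (algebraMap A S a) = _
      exact ((Algebra.TensorProduct.includeRight : S →ₐ[A] B ⊗[A] S).commutes a))
  have hhS : ∀ s, h (algebraMap S L s) = g s := fun s => by
    rw [IsScalarTower.algebraMap_apply S (B ⊗[A] S) L, hh]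
    show μ ((1 : B) ⊗ₜ[A] s) = g s
    rw [Algebra.TensorProduct.lift_tmul, map_one, one_mul]
    rfl
  have hkg : k.comp g = algebraMap S L := by
    refine (hw'uniq _ ⟨?_, fun s => ?_⟩).trans (hw'uniq _ ⟨?_, fun s => rfl⟩).symm
    · rw [RingHom.comp_assoc, hg, show algebraMap A T = (algebraMap B T).comp (algebraMap A B) from rfl,
        ← RingHom.comp_assoc, hk, ← IsScalarTower.algebraMap_eq]
    · apply hιinj
      show ResidueField.map h (residue L (k (g s))) =
        ResidueField.map h (ResidueField.map (algebraMap S L) (residue S s))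
      simp only [ResidueField.map_residue, hkι, hhS]
    · refine RingHom.ext fun a => ?_
      rw [RingHom.comp_apply, IsScalarTower.algebraMap_apply S (B ⊗[A] S) L,
        IsScalarTower.algebraMap_apply A (B ⊗[A] S) L a]
      exact congrArg _ ((Algebra.TensorProduct.includeRight : S →ₐ[A] B ⊗[A] S).commutes a)
  have hkh : ∀ x, k (μ x) = algebraMap (B ⊗[A] S) L x := fun x => by
    induction x using TensorProduct.induction_on with
    | zero => simp
    | add x y hx hy => simp only [map_add, hx, hy]
    | tmul b s =>
      rw [Algebra.TensorProduct.lift_tmul, map_mul, show b ⊗ₜ[A] s = (b ⊗ₜ[A] (1 : S)) * ((1 : B) ⊗ₜ[A] s) by simp,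
        map_mul]
      refine congrArg₂ (· * ·) ?_ ?_
      · exact (RingHom.congr_fun hk b).trans (IsScalarTower.algebraMap_apply B (B ⊗[A] S) L b)
      · exact (RingHom.congr_fun hkg s).trans (IsScalarTower.algebraMap_apply S (B ⊗[A] S) L s)
  refine ⟨q, hqmax, ⟨AlgEquiv.ofAlgHom
    { toRingHom := h, commutes' := fun b => by
        show h (algebraMap B L b) = _
        rw [IsScalarTower.algebraMap_apply B (B ⊗[A] S) L, hh, μ.commutes] }
    { toRingHom := k, commutes' := RingHom.congr_fun hk } (AlgHom.ext (RingHom.congr_fun hhk))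
    (AlgHom.ext fun z => by
      obtain ⟨x, rfl⟩ := hLsurj z
      show k (h _) = _
      rw [hh, hkh]
      rfl)⟩⟩

end Groth.Agent.S5072
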