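import Groth.Statements.S9498
import Groth.Agent.QCoh.Exact
import Mathlib.CategoryTheory.Adjunction.Additive

set_option backward.isDefEq.respectTransparency false

set_option autoImplicit false
universe u
open AffSch

namespace Groth.Agent.S9498

open AlgebraicGeometry CategoryTheory Limits in
theorem exact_tilde (R : CommRingCat.{u}) :
    PreservesFiniteLimits (tilde.functor R) ∧ PreservesFiniteColimits (tilde.functor R) := by
  let T := tilde.functor R
  let G := moduleSpecΓFunctor (R := R)
  let adj : T ⊣ G := tilde.adjunction
  have : T.Additive := inferInstanceAs (tilde.functor R).Additive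
  have : G.Additive := adj.right_adjoint_additive
  have : IsIso adj.unit := inferInstanceAs (IsIso (tilde.adjunction (R := R)).unit)
  have : PreservesColimitsOfSize.{0, 0} T := adj.leftAdjoint_preservesColimits
  have : T.PreservesMonomorphisms := ⟨fun {M N} f hf => by
    have : (T.obj M).IsQuasicoherent := inferInstanceAs (tilde M).IsQuasicoherent
    have : (T.obj N).IsQuasicoherent := inferInstanceAs (tilde N).IsQuasicoherent
    have : Mono (G.map (T.map f)) := by
      have h := adj.unit.naturality f
      rw [Functor.id_map, Functor.comp_map] at h
      have e : G.map (T.map f) = inv (adj.unit.app M) ≫ f ≫ adj.unit.app N := by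
        rw [h, IsIso.inv_hom_id_assoc]
      rw [e]; infer_instance
    have hK := Groth.Agent.QCoh.isQuasicoherent_kernel (T.map f)
    have : IsIso (Scheme.Modules.fromTildeΓ (kernel (T.map f))) :=
      Scheme.Modules.isIso_fromTildeΓ_of_isQuasicoherent _
    have h0 : IsZero (G.obj (kernel (T.map f))) := by
      rw [IsZero.iff_id_eq_zero]
      have : PreservesLimitsOfSize.{0, 0} G := adj.rightAdjoint_preservesLimits
      have : G.map (kernel.ι (T.map f)) = 0 := by
        rw [← cancel_mono (G.map (T.map f)), ← G.map_comp, kernel.condition, G.map_zero, zero_comp]
      rw [← cancel_mono (G.map (kernel.ι (T.map f))), this, comp_zero, comp_zero]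
    have : IsZero (kernel (T.map f)) :=
      IsZero.of_iso (T.map_isZero h0) (asIso (Scheme.Modules.fromTildeΓ (kernel (T.map f)))).symm
    exact Preadditive.mono_of_kernel_zero (this.eq_of_src _ _)⟩
  have : PreservesFiniteColimits T := inferInstance
  refine ⟨?_, this⟩
  have : T.PreservesHomology := T.preservesHomology_of_preservesMonos_and_cokernels
  exact T.preservesFiniteLimits_of_preservesHomology

open AlgebraicGeometry in
open CategoryTheory Limits in
/-- For a commutative ring A, the functor M ↦ M~ from the category of A-modules to the category of
O-modules on Spec A is exact, i.e. it preserves finite limits and finite colimits. -/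
theorem result
    (A : Type u) [CommRing A] :
    PreservesFiniteLimits (tilde.functor (CommRingCat.of A)) ∧
      PreservesFiniteColimits (tilde.functor (CommRingCat.of A)) := by
  exact exact_tilde (CommRingCat.of A)

end Groth.Agent.S9498
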