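import Groth.Statements.S0408
import Groth.Agent.Wt.EtNbhd

set_option autoImplicit false
universe u
open FlatMor

namespace Groth.Agent.S0408

open AlgebraicGeometry CategoryTheory Limits in
/-- Étale localization of a quasi-finite point (one-point case): for f separated and locally of finite
type and x isolated in its fibre, after base change along an étale morphism g with a point u over
f(x) having the same residue field, the base change splits off an open and closed piece V, finite
over the base, whose fibre over u is a single point v lying over x with the same residue field as x,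
and no other point over u lies over x. -/
theorem result {X S : Scheme.{u}} (f : X ⟶ S) [LocallyOfFiniteType f] [IsSeparated f] (x : X) (hx : f.QuasiFiniteAt x) :
    ∃ (U : Scheme.{u}) (g : U ⟶ S) (u : U), Etale g ∧ g u = f x ∧ Function.Surjective (g.residueFieldMap u) ∧
      ∃ (V : (pullback f g).Opens) (v : ↑(pullback f g)), IsClopen (V : Set ↑(pullback f g)) ∧
        IsFinite (V.ι ≫ pullback.snd f g) ∧ v ∈ V ∧ pullback.fst f g v = x ∧ pullback.snd f g v = u ∧
        Function.Surjective ((pullback.fst f g).residueFieldMap v) ∧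
        (∀ w : ↑(pullback f g), pullback.snd f g w = u → (w ∈ V ∨ pullback.fst f g w = x) → w = v) := by
  obtain ⟨U, g, u, ⟨hg, hgu, hbij⟩, W, z, ⟨hmem, hfin, hzu, huniq⟩, hzx⟩ :=
    Groth.Agent.Wt.EtNbhd.exists_finPart f x hx
  obtain ⟨z₀, ⟨-, -, hz₀⟩, h₀⟩ :=
    Groth.Agent.Wt.EtNbhd.existsUnique_lift f g x u hgu.symm hbij
  have hz : z = z₀ := h₀ z hzx hzu
  haveI := hfin
  haveI : IsFinite W.ι := .of_comp _ (pullback.snd f g)
  refine ⟨U, g, u, hg, hgu, hbij.2, W, z, ⟨?_, W.isOpen⟩, hfin, hmem, hzx, hzu, hz ▸ hz₀.2, ?_⟩
  · simpa using W.ι.isClosedMap.isClosed_range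
  · rintro w hwu (hw | hw)
    · exact huniq w hw hwu
    · exact (h₀ w hw hwu).trans hz.symm

end Groth.Agent.S0408
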