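import Groth.Statements.S0442
import Groth.Agent.S0408
import Groth.Agent.RelDim.QuasiFiniteMap
import Groth.Agent.FlatMisc.FibreDimScheme
import Mathlib.RingTheory.RingHom.StandardSmooth

set_option autoImplicit false
universe u
open FlatMor

namespace Groth.Agent.S0442

theorem isStandardSmooth_mvPolynomial (n : ℕ) (A : Type u) [CommRing A] :
    Algebra.IsStandardSmoothOfRelativeDimension n A (MvPolynomial (Fin n) A) := by
  let v : Fin 0 → MvPolynomial (Fin n) A := Fin.elim0
  let P₀ : Algebra.PreSubmersivePresentation A (MvPolynomial (Fin n) A ⧸ Ideal.span (Set.range v)) (Fin n) (Fin 0) :=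
    Algebra.PreSubmersivePresentation.naive Fin.elim0 (fun i => i.elim0)
  have hj : IsUnit P₀.jacobian := by
    classical
    rw [Algebra.PreSubmersivePresentation.jacobian_eq_jacobiMatrix_det, Matrix.det_fin_zero, map_one]
    exact isUnit_one
  let P : Algebra.SubmersivePresentation A (MvPolynomial (Fin n) A ⧸ Ideal.span (Set.range v)) (Fin n) (Fin 0) :=
    ⟨P₀, hj⟩
  haveI : Algebra.IsStandardSmoothOfRelativeDimension n A (MvPolynomial (Fin n) A ⧸ Ideal.span (Set.range v)) :=
    ⟨⟨_, _, _, inferInstance, P, by simp [Algebra.Presentation.dimension]⟩⟩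
  have hbot : Ideal.span (Set.range v) = ⊥ := by simp [Set.range_eq_empty]
  exact .of_algEquiv n ((Ideal.quotientEquivAlgOfEq A hbot).trans (AlgEquiv.quotientBot A _))

open Topology in
theorem localDim_le_of_isInducing {Z W : Type u} [TopologicalSpace Z] [TopologicalSpace W] (ι : Z → W)
    (hι : IsInducing ι) (z : Z) : FlatMor.localDim Z z ≤ FlatMor.localDim W (ι z) :=
  le_iInf fun U => iInf_le_of_le ⟨⟨ι ⁻¹' U.1, U.1.2.preimage hι.continuous⟩, U.2⟩
    (IsInducing.topologicalKrullDim_le (f := fun w : (ι ⁻¹' U.1 : Set Z) => (⟨ι w, w.2⟩ : U.1))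
      (IsInducing.of_comp (by fun_prop) continuous_subtype_val (hι.comp IsInducing.subtypeVal)))


open AlgebraicGeometry CategoryTheory Limits in
/-- Local structure of a morphism locally of finite type: let f : X → S be locally of finite type, x a
point of X, and n the local dimension at x of its fibre. Then there are an étale morphism g : X' → X
with a point x' mapping to x such that the residue field map κ(x) → κ(x') is surjective (trivial
residue field extension), a morphism h : Y → S smooth of relative dimension n, and a finite morphism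
π : X' → Y with f ∘ g = h ∘ π, such that x' is the only point of X' mapping to π(x'). The published
statement also makes the residue field of π(x') purely transcendental over that of the image of x in
S; that is not stated here. -/
theorem result {X S : Scheme.{u}} (f : X ⟶ S) [LocallyOfFiniteType f] (x : X) (n : ℕ) (hn : FlatMor.fibreDimAt f x = n) :
    ∃ (X' Y : Scheme.{u}) (g : X' ⟶ X) (π : X' ⟶ Y) (h : Y ⟶ S) (x' : X'), g ≫ f = π ≫ h ∧ Etale g ∧ g x' = x ∧
      Function.Surjective (g.residueFieldMap x') ∧ IsFinite π ∧ SmoothOfRelativeDimension n h ∧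
      ∀ z : ↑X', π z = π x' → z = x' := by
  obtain ⟨_, ⟨V, hV, rfl⟩, hxV, -⟩ :=
    S.isBasis_affineOpens.exists_subset_of_mem_open (Set.mem_univ (f x)) isOpen_univ
  obtain ⟨_, ⟨U, hU, rfl⟩, hxU, hUV⟩ := X.isBasis_affineOpens.exists_subset_of_mem_open hxV (f ⁻¹ᵁ V).2
  replace hV : IsAffineOpen V := hV
  replace hU : IsAffineOpen U := hU
  algebraize [(f.appLE V U hUV).hom]
  haveI : Algebra.FiniteType Γ(S, V) Γ(X, U) := f.finiteType_appLE hV hU hUV
  have hsq : Spec.map (CommRingCat.ofHom (algebraMap Γ(S, V) Γ(X, U))) ≫ hV.fromSpec = hU.fromSpec ≫ f :=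
    IsAffineOpen.SpecMap_appLE_fromSpec f hV hU hUV
  have hcomm : ∀ Q : PrimeSpectrum Γ(X, U), f (hU.fromSpec Q) =
      hV.fromSpec (PrimeSpectrum.comap (algebraMap Γ(S, V) Γ(X, U)) Q) := fun Q =>
    (congr($hsq Q)).symm
  obtain ⟨P, rfl⟩ : x ∈ Set.range hU.fromSpec := by rw [hU.range_fromSpec]; exact hxU
  let pp : PrimeSpectrum Γ(S, V) := PrimeSpectrum.comap (algebraMap Γ(S, V) Γ(X, U)) P
  haveI : P.asIdeal.LiesOver pp.asIdeal := ⟨rfl⟩
  let e := PrimeSpectrum.preimageHomeomorphFiber Γ(S, V) Γ(X, U) pp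
  let Q := e ⟨P, rfl⟩
  have hQ : Q.asIdeal.comap Algebra.TensorProduct.includeRight.toRingHom = P.asIdeal :=
    congr($((PrimeSpectrum.preimageEquivFiber Γ(S, V) Γ(X, U) pp).symm_apply_apply ⟨P, rfl⟩).1.asIdeal)
  let ι : PrimeSpectrum (pp.asIdeal.Fiber Γ(X, U)) → ↥(f ⁻¹' {f (hU.fromSpec P)}) := fun q =>
    ⟨hU.fromSpec (e.symm q).1, show f _ = f _ by
      rw [hcomm, hcomm, show PrimeSpectrum.comap _ (e.symm q).1 = pp from (e.symm q).2]⟩
  have hι : Topology.IsInducing ι := Topology.IsInducing.of_comp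
    ((hU.fromSpec.continuous.comp (continuous_subtype_val.comp e.symm.continuous)).subtype_mk _)
    continuous_subtype_val
    (hU.fromSpec.isOpenEmbedding.isInducing.comp (Topology.IsInducing.subtypeVal.comp e.symm.isInducing))
  have hιQ : ι Q = ⟨hU.fromSpec P, rfl⟩ := Subtype.ext (by simp [ι, Q])
  have hdim : FlatMor.localDim (PrimeSpectrum (pp.asIdeal.Fiber Γ(X, U))) Q ≤ (n : WithBot ℕ∞) := by
    refine (localDim_le_of_isInducing ι hι Q).trans ?_
    rw [hιQ, ← Groth.Agent.FlatMisc.FibreDimScheme.fibreDimAt_eq, hn]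
  obtain ⟨r, hr, φ, hφft, hφqf⟩ :=
    Groth.Agent.RelDim.exists_quasiFinite_away Γ(S, V) Γ(X, U) pp.asIdeal P.asIdeal Q hQ n hdim
  let a : Spec (CommRingCat.of (Localization.Away r)) ⟶ X :=
    Spec.map (CommRingCat.ofHom (algebraMap Γ(X, U) (Localization.Away r))) ≫ hU.fromSpec
  haveI : IsOpenImmersion (Spec.map (CommRingCat.ofHom (algebraMap Γ(X, U) (Localization.Away r)))) :=
    IsOpenImmersion.of_isLocalization r
  obtain ⟨x₀, hx₀⟩ : hU.fromSpec P ∈ Set.range a := by
    obtain ⟨x₀, hx₀⟩ : P ∈ Set.range (PrimeSpectrum.comap (algebraMap Γ(X, U) (Localization.Away r))) := by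
      rw [PrimeSpectrum.localization_away_comap_range (Localization.Away r) r]; exact hr
    exact ⟨x₀, congrArg hU.fromSpec hx₀⟩
  let π₀ : Spec (CommRingCat.of (Localization.Away r)) ⟶ Spec (CommRingCat.of (MvPolynomial (Fin n) Γ(S, V))) :=
    Spec.map (CommRingCat.ofHom φ.toRingHom)
  let h₀ : Spec (CommRingCat.of (MvPolynomial (Fin n) Γ(S, V))) ⟶ S :=
    Spec.map (CommRingCat.ofHom (algebraMap Γ(S, V) (MvPolynomial (Fin n) Γ(S, V)))) ≫ hV.fromSpec
  have haf : a ≫ f = π₀ ≫ h₀ := by
    simp only [a, π₀, h₀, Category.assoc, ← hsq, ← Spec.map_comp_assoc, ← CommRingCat.ofHom_comp]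
    rw [AlgHom.toRingHom_eq_coe, AlgHom.comp_algebraMap, ← IsScalarTower.algebraMap_eq]
  haveI : LocallyOfFiniteType π₀ := HasRingHomProperty.Spec_iff.mpr hφft
  haveI : LocallyQuasiFinite π₀ := HasRingHomProperty.Spec_iff.mpr hφqf
  haveI : IsSeparated π₀ := inferInstance
  obtain ⟨U', g', u, hg', -, -, W, v, -, hfin, hvW, hvfst, hvu, hres, huniq⟩ :=
    Groth.Agent.S0408.result π₀ x₀ (π₀.quasiFiniteAt x₀)
  haveI := hg'
  haveI : SmoothOfRelativeDimension n
      (Spec.map (CommRingCat.ofHom (algebraMap Γ(S, V) (MvPolynomial (Fin n) Γ(S, V))))) :=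
    HasRingHomProperty.Spec_iff.mpr
      (RingHom.locally_of RingHom.isStandardSmoothOfRelativeDimension_respectsIso _
        ((RingHom.isStandardSmoothOfRelativeDimension_algebraMap n).mpr
          (isStandardSmooth_mvPolynomial n Γ(S, V))))
  haveI : SmoothOfRelativeDimension (n + 0) h₀ := inferInstance
  haveI : SmoothOfRelativeDimension (0 + (n + 0)) (g' ≫ h₀) := inferInstance
  have hn' : SmoothOfRelativeDimension n (g' ≫ h₀) := by
    have h' : SmoothOfRelativeDimension (0 + (n + 0)) (g' ≫ h₀) := inferInstance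
    simpa using h'
  refine ⟨(W : Scheme.{u}), U', W.ι ≫ pullback.fst π₀ g' ≫ a, W.ι ≫ pullback.snd π₀ g', g' ≫ h₀,
    ⟨v, hvW⟩, ?_, inferInstance, ?_, ?_, hfin, hn', ?_⟩
  · simp only [Category.assoc, haf, pullback.condition_assoc]
  · show a (pullback.fst π₀ g' v) = _
    rw [hvfst, hx₀]
  · rw [Scheme.residueFieldMap_comp, Scheme.residueFieldMap_comp]
    exact ((ConcreteCategory.bijective_of_isIso (W.ι.residueFieldMap ⟨v, hvW⟩)).2.comp hres).comp
      (ConcreteCategory.bijective_of_isIso (a.residueFieldMap _)).2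
  · rintro ⟨z, hz⟩ hzu
    refine Subtype.ext (huniq z ?_ (Or.inl hz))
    exact (show pullback.snd π₀ g' z = pullback.snd π₀ g' v from hzu).trans hvu

end Groth.Agent.S0442
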