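import Groth.Statements.S1356
import Groth.Agent.S1353
import Groth.Agent.Wt.Master
import Groth.Agent.FlatMor.GeomConnSpread
import Groth.Agent.FlatMor.GeomConnSpreadTools

set_option autoImplicit false
universe u
open FlatMor

namespace Groth.Agent.S1356

open Groth.Agent.FlatMor.GeomConnSpread

open AlgebraicGeometry CategoryTheory Limits in
/-- An open with geometrically connected trace on the fibre has connected base changes to field points
over the point. -/
theorem connectedSpace_of_trace {Y S : Scheme.{u}} (h : Y ⟶ S) (s : S) (O : Y.Opens)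
    (hT : GeometricallyConnected (((h.fiberι s) ⁻¹ᵁ O).ι ≫ h.fiberToSpecResidueField s))
    (K : Type u) [Field K] (y : Spec (CommRingCat.of K) ⟶ S) (hy : y (IsLocalRing.closedPoint K) = s)
    {Z : Scheme.{u}} {a : Z ⟶ O} {b : Z ⟶ Spec (CommRingCat.of K)}
    (hZ : IsPullback a b (O.ι ≫ h) y) : ConnectedSpace Z := by
  obtain ⟨⟨s', φ⟩, rfl⟩ := (Scheme.SpecToEquivOfField _ _).symm.surjective y
  have hs' : s' = s := by
    rw [← hy]
    simp [Scheme.SpecToEquivOfField]
  subst hs'
  have sq : IsPullback (h.fiberι s' ∣_ O) (((h.fiberι s') ⁻¹ᵁ O).ι ≫ h.fiberToSpecResidueField s')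
      (O.ι ≫ h) (S.fromSpecResidueField s') :=
    (isPullback_morphismRestrict (h.fiberι s') O).paste_vert
      (IsPullback.of_hasPullback h (S.fromSpecResidueField s'))
  haveI := hT
  have hp := IsPullback.of_hasPullback
    (((h.fiberι s') ⁻¹ᵁ O).ι ≫ h.fiberToSpecResidueField s') (Spec.map φ)
  haveI : ConnectedSpace ↥(pullback (((h.fiberι s') ⁻¹ᵁ O).ι ≫ h.fiberToSpecResidueField s') (Spec.map φ)) :=
    GeometricallyConnected.geometrically_connectedSpace _ _ _ hp
  let e := (hp.paste_horiz sq).isoIsPullback _ _ hZ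
  exact e.hom.homeomorph.surjective.connectedSpace e.hom.homeomorph.continuous

open AlgebraicGeometry CategoryTheory Limits in
/-- Let h : Y → S be flat and of finite presentation with all fibres geometrically reduced, let s be a
point of S and T an open of the fibre over s which is geometrically connected over the residue field
of s. Then there are an affine elementary étale neighbourhood (S', s') of (S, s) and a quasi-compact
open V of the base change of Y to S', with every fibre of V → S' geometrically connected, whose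
points over s' are exactly the points of the base change over s' whose image in Y lies in T. -/
theorem result {Y S : Scheme.{u}} (h : Y ⟶ S) [Flat h] [LocallyOfFinitePresentation h] [QuasiCompact h] [QuasiSeparated h]
    [GeometricallyReduced h] (s : S) (T : (h.fiber s).Opens) (hT : GeometricallyConnected (T.ι ≫ h.fiberToSpecResidueField s)) :
    ∃ (S' : Scheme.{u}) (g : S' ⟶ S) (s' : S'), IsAffine S' ∧ Hens2.IsEtaleNbhd g s' s ∧
      ∃ V : (pullback h g).Opens, IsCompact (V : Set ↑(pullback h g)) ∧ GeometricallyConnected (V.ι ≫ pullback.snd h g) ∧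
        ∀ y' : ↑(pullback h g), pullback.snd h g y' = s' → (y' ∈ V ↔ pullback.fst h g y' ∈ (h.fiberι s) '' (T : Set ↑(h.fiber s))) := by
  obtain ⟨_, ⟨(S0 : S.Opens), hS0, rfl⟩, hsS0, -⟩ :=
    S.isBasis_affineOpens.exists_subset_of_mem_open (Set.mem_univ s) isOpen_univ
  obtain ⟨O, hOc, hOS0, hOT⟩ := exists_isCompact_opens h s T S0 hsS0
  subst hOT
  have hT0 : ((h.fiberι s) ⁻¹ᵁ O : Set (h.fiber s)).Nonempty := by
    haveI := hT
    obtain ⟨t⟩ : Nonempty ((h.fiberι s) ⁻¹ᵁ O : (h.fiber s).Opens) :=
      let ⟨x, _⟩ := Surjective.surj (f := ((h.fiberι s) ⁻¹ᵁ O).ι ≫ h.fiberToSpecResidueField s)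
        (IsLocalRing.closedPoint (S.residueField s))
      ⟨x⟩
    exact ⟨t.1, t.2⟩
  obtain ⟨S'', g, s'', hg, hgs, σ, hσ⟩ := exists_etale_section h s O hT0
  haveI : LocallyQuasiFinite g := Groth.Agent.Wt.Master.locallyQuasiFinite_of_etale g
  -- an elementary neighbourhood over which the section becomes a finite étale multisection
  obtain ⟨U, gU, u, hgU, PV, v, hvPV, hfin, hvu, huniq, -, -⟩ :=
    S1353.result g s'' (Scheme.Hom.quasiFiniteAt g s'')
  obtain ⟨_, ⟨(U0 : U.Opens), hU0, rfl⟩, huU0, hU0le⟩ := U.isBasis_affineOpens.exists_subset_of_mem_open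
    (show u ∈ gU ⁻¹ᵁ S0 by
      show gU u ∈ S0
      rw [show gU u = g s'' from hgU.base_eq, hgs]; exact hsS0) (gU ⁻¹ᵁ S0).2
  let g0 : U0.toScheme ⟶ S0 := gU.resLE S0 U0 hU0le
  let g1 := U0.ι ≫ gU
  have hg01 : g0 ≫ S0.ι = g1 := Scheme.Hom.resLE_comp_ι _ _
  haveI : IsAffine (U0 : Scheme.{u}) := hU0
  haveI : IsAffine (S0 : Scheme.{u}) := hS0
  haveI := hfin
  haveI : Etale gU := hgU.etale
  let r := PV.ι ≫ pullback.snd g gU
  haveI : Etale (pullback.snd g gU) := MorphismProperty.pullback_snd _ _ hg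
  haveI : Etale r := inferInstance
  let p := r ∣_ U0
  haveI : IsFinite p := IsZariskiLocalAtTarget.restrict hfin U0
  haveI : Etale p := IsZariskiLocalAtTarget.restrict (P := @Etale) inferInstance U0
  have hvU0 : (⟨v, hvPV⟩ : PV.toScheme) ∈ r ⁻¹ᵁ U0 := by
    show pullback.snd g gU v ∈ U0
    rw [hvu]; exact huU0
  let v0 : (r ⁻¹ᵁ U0).toScheme := ⟨⟨v, hvPV⟩, hvU0⟩
  let u0 : U0.toScheme := ⟨u, huU0⟩
  have hval : ∀ w, (p w).1 = pullback.snd g gU w.1.1 := fun w => morphismRestrict_base_coe r U0 w
  have hv0 : p v0 = u0 := Subtype.ext ((hval v0).trans hvu)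
  have huniq0 : ∀ w, p w = u0 → w = v0 := fun w hw =>
    Subtype.ext (Subtype.ext (huniq _ w.1.2 ((hval w).symm.trans (congrArg Subtype.val hw))))
  -- the base change of `O`
  let k : O.toScheme ⟶ S0 := h.resLE S0 O hOS0
  have hkh : k ≫ S0.ι = O.ι ≫ h := Scheme.Hom.resLE_comp_ι _ _
  have hksq : IsPullback (𝟙 O.toScheme) k (O.ι ≫ h) S0.ι :=
    IsPullback.of_horiz_isIso_mono ⟨by rw [Category.id_comp, hkh]⟩
  haveI := geometricallyReduced_comp O.ι h
  haveI : GeometricallyReduced k := MorphismProperty.of_isPullback hksq inferInstance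
  haveI : Flat k := MorphismProperty.of_isPullback hksq inferInstance
  haveI : LocallyOfFinitePresentation k := MorphismProperty.of_isPullback hksq inferInstance
  haveI : QuasiSeparated k := MorphismProperty.of_isPullback hksq inferInstance
  haveI : CompactSpace O.toScheme := isCompact_iff_compactSpace.mp hOc
  haveI : QuasiCompact k := (HasAffineProperty.iff_of_isAffine (P := @QuasiCompact)).mpr inferInstance
  let A := pullback k g0
  let kU : A ⟶ U0.toScheme := pullback.snd k g0
  haveI : Flat kU := MorphismProperty.pullback_snd _ _ ‹_›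
  haveI : LocallyOfFinitePresentation kU := MorphismProperty.pullback_snd _ _ ‹_›
  haveI : QuasiCompact kU := MorphismProperty.pullback_snd _ _ ‹_›
  haveI : QuasiSeparated kU := MorphismProperty.pullback_snd _ _ ‹_›
  haveI : GeometricallyReduced kU := MorphismProperty.pullback_snd _ _ ‹_›
  have hA : IsPullback (pullback.fst k g0) kU (O.ι ≫ h) g1 := by
    have := isPullback_comp_mono (IsPullback.of_hasPullback k g0) S0.ι
    rwa [hkh, hg01] at this
  let ι0 := (r ⁻¹ᵁ U0).ι
  let σ0 : (r ⁻¹ᵁ U0).toScheme ⟶ A :=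
    pullback.lift (ι0 ≫ PV.ι ≫ pullback.fst g gU ≫ σ) p (by
      rw [← cancel_mono S0.ι]
      simp only [Category.assoc, hkh, hg01, g1]
      rw [hσ, pullback.condition, morphismRestrict_ι_assoc]
      simp [r, ι0])
  let σP : (r ⁻¹ᵁ U0).toScheme ⟶ pullback kU p := pullback.lift σ0 (𝟙 _) (by
    rw [Category.id_comp]; exact pullback.lift_snd _ _ _)
  have hne : ∃ a : A, kU a = u0 := ⟨σ0 v0, by
    rw [← Scheme.Hom.comp_apply, pullback.lift_snd]; exact hv0⟩
  have hgu : gU u = s := hgU.base_eq.trans hgs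
  have hconn : _root_.IsPreconnected (pullback.snd kU p ⁻¹' {v0}) := by
    let kP := pullback.snd kU p
    let c := (r ⁻¹ᵁ U0).toScheme.fromSpecResidueField v0
    have hsq := ((IsPullback.of_hasPullback kP c).paste_horiz
      (IsPullback.of_hasPullback kU p)).paste_horiz hA
    haveI : ConnectedSpace ↥(kP.fiber v0) := connectedSpace_of_trace h s O hT _ _ (by
      show g1 (p (c _)) = s
      rw [show c _ = v0 from Scheme.fromSpecResidueField_apply _ _, hv0]
      exact hgu) hsq
    rw [show pullback.snd kU p ⁻¹' {v0} = Set.range (kP.fiberι v0) from (kP.range_fiberι v0).symm]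
    exact (isConnected_range (kP.fiberι v0).continuous).isPreconnected
  obtain ⟨U', V, huU', hU', hVU', hVc, huV, hV⟩ := exists_open_geometricallyConnected kU p σP
    (pullback.lift_snd _ _ _) u0 v0 hv0 huniq0 hne hconn
  -- the neighbourhood and the open
  let g' : U'.toScheme ⟶ S := U'.ι ≫ g1
  let φ : V.toScheme ⟶ U' := kU.resLE U' V hVU'
  have hφ : φ ≫ U'.ι = V.ι ≫ kU := Scheme.Hom.resLE_comp_ι _ _
  let a : V.toScheme ⟶ pullback h g' := pullback.lift (V.ι ≫ pullback.fst k g0 ≫ O.ι) φ (by
    rw [show φ ≫ g' = (φ ≫ U'.ι) ≫ g1 from (Category.assoc _ _ _).symm, hφ]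
    simp only [Category.assoc, hA.w])
  let M1 : pullback h g' ⟶ pullback h g1 := pullback.map h g' h g1 (𝟙 _) U'.ι (𝟙 _) (by simp) (by simp [g'])
  haveI : IsOpenImmersion M1 := by
    have hM1 : IsPullback (pullback.snd h g') M1 U'.ι (pullback.snd h g1) := by
      refine IsPullback.of_bot (v₂₁ := pullback.fst h g1) (v₂₂ := g1) (h₃₁ := h) ?_
        (pullback.lift_snd _ _ _).symm (IsPullback.of_hasPullback h g1).flip
      rw [pullback.lift_fst, Category.comp_id]
      exact (IsPullback.of_hasPullback h g').flip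
    exact MorphismProperty.of_isPullback hM1 inferInstance
  let M2 : A ⟶ pullback h g1 := pullback.lift (pullback.fst k g0 ≫ O.ι) kU (by
    rw [Category.assoc, hA.w])
  have hM2 : IsPullback (pullback.fst k g0) M2 O.ι (pullback.fst h g1) := by
    refine IsPullback.of_bot (v₂₁ := pullback.snd h g1) (v₂₂ := h) (h₃₁ := g1) ?_
      (pullback.lift_fst _ _ _).symm (IsPullback.of_hasPullback h g1)
    rw [pullback.lift_snd]
    exact hA
  haveI : IsOpenImmersion M2 := MorphismProperty.of_isPullback hM2 inferInstance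
  have haM : a ≫ M1 = V.ι ≫ M2 := by
    refine pullback.hom_ext ?_ ?_
    · rw [Category.assoc, Category.assoc, pullback.lift_fst, pullback.lift_fst, Category.comp_id,
        pullback.lift_fst]
    · rw [Category.assoc, Category.assoc, pullback.lift_snd, pullback.lift_snd, pullback.lift_snd_assoc,
        hφ]
  haveI : IsOpenImmersion (a ≫ M1) := by rw [haM]; infer_instance
  haveI : IsOpenImmersion a := IsOpenImmersion.of_comp a M1
  refine ⟨U'.toScheme, g', ⟨u0, huU'⟩, hU', ⟨inferInstance, hgu, ?_⟩, a.opensRange, ?_, ?_, ?_⟩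
  · -- residue fields
    show Function.Bijective ((U'.ι ≫ U0.ι ≫ gU).residueFieldMap ⟨u0, huU'⟩)
    rw [Scheme.residueFieldMap_comp, Scheme.residueFieldMap_comp]
    exact ((ConcreteCategory.bijective_of_isIso (U'.ι.residueFieldMap ⟨u0, huU'⟩)).comp
      (ConcreteCategory.bijective_of_isIso (U0.ι.residueFieldMap u0))).comp hgU.residue_bijective
  · haveI : CompactSpace V.toScheme := isCompact_iff_compactSpace.mp hVc
    exact isCompact_range a.continuous
  · have hgc : GeometricallyConnected φ := by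
      refine ⟨fun K _ y Z fst snd hZ => ?_⟩
      have hZ' : IsPullback fst snd (V.ι ≫ kU) (y ≫ U'.ι) := hφ ▸ isPullback_comp_mono hZ U'.ι
      let ψ : Z ⟶ pullback kU (y ≫ U'.ι) := pullback.lift (fst ≫ V.ι) snd (by
        rw [Category.assoc]; exact hZ'.w)
      have hψ : IsPullback fst ψ V.ι (pullback.fst kU (y ≫ U'.ι)) := by
        refine IsPullback.of_bot (v₂₁ := pullback.snd kU (y ≫ U'.ι)) (v₂₂ := kU) (h₃₁ := y ≫ U'.ι) ?_
          (pullback.lift_fst _ _ _).symm (IsPullback.of_hasPullback kU (y ≫ U'.ι))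
        rw [pullback.lift_snd]
        exact hZ'
      haveI : IsOpenImmersion ψ := MorphismProperty.of_isPullback hψ inferInstance
      have hr : Set.range ψ = pullback.fst kU (y ≫ U'.ι) ⁻¹' (V : Set A) := by
        ext x
        refine ⟨?_, fun hx => ?_⟩
        · rintro ⟨z, rfl⟩
          show pullback.fst kU (y ≫ U'.ι) (ψ z) ∈ V
          rw [← Scheme.Hom.comp_apply, pullback.lift_fst]
          exact (fst z).2
        · obtain ⟨z, -, hz⟩ := Scheme.exists_preimage_of_isPullback hψ ⟨_, hx⟩ x rfl
          exact ⟨z, hz⟩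
      have := hV K (y ≫ U'.ι) (y (IsLocalRing.closedPoint K)).2
      rw [← hr] at this
      haveI := Subtype.connectedSpace this
      exact ψ.isEmbedding.toHomeomorph.symm.surjective.connectedSpace
        ψ.isEmbedding.toHomeomorph.symm.continuous
    have he : a.opensRange.ι ≫ pullback.snd h g' = a.isoOpensRange.inv ≫ φ := by
      rw [← Scheme.Hom.isoOpensRange_inv_comp a, Category.assoc, pullback.lift_snd]
    rw [he, MorphismProperty.cancel_left_of_respectsIso @GeometricallyConnected]
    exact hgc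
  · intro y' hy'
    have hhy : h (pullback.fst h g' y') = s := by
      rw [← Scheme.Hom.comp_apply, pullback.condition, Scheme.Hom.comp_apply, hy']
      exact hgu
    constructor
    · rintro ⟨x, rfl⟩
      obtain ⟨t, ht⟩ : pullback.fst h g' (a x) ∈ Set.range (h.fiberι s) := by
        rw [h.range_fiberι s]; exact hhy
      refine ⟨t, ?_, ht⟩
      show h.fiberι s t ∈ O
      rw [ht, ← Scheme.Hom.comp_apply, pullback.lift_fst]
      exact (pullback.fst k g0 (V.ι x)).2
    · rintro ⟨t, ht, hty⟩
      have hO : pullback.fst h g' y' ∈ O := hty ▸ ht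
      obtain ⟨x, -, hx⟩ := Scheme.exists_preimage_of_isPullback hM2 ⟨_, hO⟩ (M1 y') (by
        rw [← Scheme.Hom.comp_apply M1, pullback.lift_fst, Category.comp_id]; rfl)
      have hku : kU x = u0 := by
        rw [← pullback.lift_snd (f := h) (g := g1) (pullback.fst k g0 ≫ O.ι) kU (by rw [Category.assoc, hA.w]),
          Scheme.Hom.comp_apply, hx, ← Scheme.Hom.comp_apply, pullback.lift_snd, Scheme.Hom.comp_apply, hy']
        rfl
      refine ⟨⟨x, huV hku⟩, M1.isOpenEmbedding.injective ?_⟩
      rw [← Scheme.Hom.comp_apply, haM]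
      exact hx

end Groth.Agent.S1356
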