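import Groth.Statements.S4621
import Groth.Agent.FBase.BC2
-- import your own Groth.Agent.* helpers here

set_option autoImplicit false
open CategoryTheory AlgebraicGeometry
universe u
open FBase

namespace Groth.Agent.S4621

open CategoryTheory.Limits

/-- Let h : Y → X be a morphism of schemes over a field k, with Y nonempty and geometrically connected
over k. Then the connected component of X containing the (connected) image h(Y) is geometrically
connected: for every extension field K of k, the inverse image in X ⊗_k K of the connected component
of h(y), for a point y of Y, is connected. -/
theorem result {k K : Type u} [Field k] [Field K] [Algebra k K]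
    {X Y : Scheme.{u}} (f : X ⟶ Spec (CommRingCat.of k)) (g : Y ⟶ Spec (CommRingCat.of k)) (h : Y ⟶ X) (w : h ≫ f = g)
    [GeometricallyConnected g] (y : Y) :
    _root_.IsConnected (⇑(FBase.bcπ f K) ⁻¹' connectedComponent (h y)) := by
  unfold FBase.bcπ FBase.bc
  refine Groth.Agent.FBase.BC2.isConnected_preimage_fst f g h w isConnected_connectedComponent ?_
  have : ConnectedSpace ↥Y := by
    have : ConnectedSpace ↥(pullback g (Groth.Agent.FBase.BC.specMap k k)) :=
      pullback_of_geometrically GeometricallyConnected.geometrically_connectedSpace _ _
    have := Groth.Agent.FBase.BC.surjective_pullback_fst (K := k) g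
    exact Groth.Agent.FBase.BC.connectedSpace_of_surjective
      (pullback.fst g (Groth.Agent.FBase.BC.specMap k k))
  exact (isConnected_range h.continuous).subset_connectedComponent ⟨y, rfl⟩

end Groth.Agent.S4621
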