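import Groth.Statements.S1249
import Groth.Agent.FlatMor62.LocalStruct
import Groth.Agent.FlatMor62.EtaleLiftBase
import Groth.Agent.RGFlat.FibreMisc

set_option autoImplicit false
universe u
open FlatMor

namespace Groth.Agent.S1249

open TensorProduct in
/-- A surjective ring map has trivial residue extensions. -/
theorem bijective_map_of_surjective {A B : Type u} [CommRing A] [CommRing B] (f : A →+* B) (hf : Function.Surjective f)
    (p : Ideal A) (q : Ideal B) [p.IsPrime] [q.IsPrime] (h : p = q.comap f) :
    Function.Bijective (Ideal.ResidueField.map p q f h) := by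
  refine ⟨RingHom.injective _, fun y => ?_⟩
  let ι := Ideal.ResidueField.map p q f h
  have hB : ∀ b : B, algebraMap B q.ResidueField b ∈ ι.fieldRange := fun b => by
    obtain ⟨a, rfl⟩ := hf b
    exact ⟨algebraMap A _ a, Ideal.ResidueField.map_algebraMap p q f h a⟩
  obtain ⟨a, b, -, rfl⟩ := IsFractionRing.div_surjective (A := B ⧸ q) y
  obtain ⟨a, rfl⟩ := Ideal.Quotient.mk_surjective a
  obtain ⟨b, rfl⟩ := Ideal.Quotient.mk_surjective b
  rw [Ideal.algebraMap_quotient_residueField_mk, Ideal.algebraMap_quotient_residueField_mk]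
  exact div_mem (hB a) (hB b)

theorem bijective_map_left {A B C : Type u} [CommRing A] [CommRing B] [CommRing C] (f : A →+* B) (g : B →+* C)
    (k : A →+* C) (hk : g.comp f = k) {p : Ideal A} {q : Ideal B} {r : Ideal C} [p.IsPrime] [q.IsPrime] [r.IsPrime]
    (hp : p = q.comap f) (hq : q = r.comap g) (hpr : p = r.comap k)
    (h : Function.Bijective (Ideal.ResidueField.map p r k hpr)) :
    Function.Bijective (Ideal.ResidueField.map p q f hp) := by
  subst hk
  have e : Ideal.ResidueField.map p r (g.comp f) hpr =
      (Ideal.ResidueField.map q r g hq).comp (Ideal.ResidueField.map p q f hp) :=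
    Ideal.ResidueField.ringHom_ext (RingHom.ext fun a => by simp)
  rw [e] at h
  refine ⟨RingHom.injective _, fun y => ?_⟩
  obtain ⟨w, hw⟩ := h.2 (Ideal.ResidueField.map q r g hq y)
  exact ⟨w, (Ideal.ResidueField.map q r g hq).injective hw⟩

open TensorProduct in
/-- Assembly of an elementary dévissage. -/
theorem assemble {R S R' S' C D : Type u} [CommRing R] [CommRing S] [CommRing R'] [CommRing S'] [CommRing C]
    [CommRing D] [Algebra R S] [Algebra R R'] [Algebra S S'] [Algebra R' S'] [Algebra R S'] [IsScalarTower R R' S']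
    [IsScalarTower R S S'] [Algebra S' C] [Algebra D C] [Algebra R' D] [Algebra R' C] [IsScalarTower R' D C]
    [IsScalarTower R' S' C] (N : Type u) [AddCommGroup N] [Module S N] [Module.Finite S N] (p : Ideal R) (q : Ideal S)
    [p.IsPrime] [q.IsPrime] (n : ℕ) (J : Ideal S) (hJ : J.FG) (hJN : J ≤ Module.annihilator S N)
    (hsurj : Function.Surjective (algebraMap S' C))
    (hker : RingHom.ker (algebraMap S' C) = J.map (algebraMap S S'))
    (p' : Ideal R') (q' : Ideal S') (z : Ideal C) (y : Ideal D) [p'.IsPrime] [q'.IsPrime] [z.IsPrime] [y.IsPrime]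
    [q'.LiesOver p'] [z.LiesOver q'] [z.LiesOver y] [y.LiesOver p']
    (etR : FlatCA.IsEtaleNhd R R' p p') (etS : FlatCA.IsEtaleNhd S S' q q')
    (fin : Module.Finite D C) (uniq : ∀ z₁ : Ideal C, z₁.IsPrime → z₁.comap (algebraMap D C) = y → z₁ = z)
    (hpt : FlatCA.PurelyTranscendental p' y) (hsm : FlatCA.SmoothRelDim n R' D)
    (hgi : FlatCA.GeomIntegralFibres R' D) : Nonempty (FlatCA.ElemDevissage R S N p q n) := by
  let I : Ideal S' := J.map (algebraMap S S')
  let N' : Type u := S' ⊗[S] N
  have hann : I ≤ Module.annihilator S' N' := by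
    refine Ideal.map_le_iff_le_comap.mpr fun s hs => ?_
    rw [Ideal.mem_comap, Module.mem_annihilator]
    intro x
    induction x using TensorProduct.induction_on with
    | zero => rw [smul_zero]
    | add a b ha hb => rw [smul_add, ha, hb, add_zero]
    | tmul a b => rw [algebraMap_smul, ← TensorProduct.tmul_smul, Module.mem_annihilator.mp (hJN hs) b, TensorProduct.tmul_zero]
  let G : Type u := C ⊗[S'] N'
  let θ : N' →ₗ[S'] G := (TensorProduct.mk S' C N') 1
  have hθ : Function.Bijective θ := by
    let σ : C → S' := Function.surjInv hsurj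
    have hσ : ∀ c, algebraMap S' C (σ c) = c := Function.surjInv_eq hsurj
    have hz : ∀ {a b : S'} (x : N'), algebraMap S' C a = algebraMap S' C b → a • x = b • x := fun {a b} x h => by
      have h0 : (a - b) • x = 0 :=
        Module.mem_annihilator.mp (hann ((SetLike.ext_iff.mp hker (a - b)).mp (RingHom.mem_ker.mpr (by rw [map_sub, h, sub_self])))) x
      have e : a • x = (a - b) • x + b • x := by rw [← add_smul, sub_add_cancel]
      rw [e, h0, zero_add]
    let B : C →ₗ[S'] N' →ₗ[S'] N' := LinearMap.mk₂ S' (fun c x => σ c • x)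
      (fun c c' x => by rw [← add_smul]; exact hz x (by rw [map_add, hσ, hσ, hσ]))
      (fun t c x => by rw [smul_smul]; exact hz x (by rw [map_mul, hσ, hσ, Algebra.smul_def]))
      (fun c x x' => smul_add _ x x') (fun t c x => smul_comm _ t x)
    refine Function.bijective_iff_has_inverse.mpr ⟨TensorProduct.lift B, fun x => ?_, fun w => ?_⟩
    · show σ 1 • x = x
      rw [hz (b := 1) x (by rw [hσ, map_one]), one_smul]
    · induction w using TensorProduct.induction_on with
      | zero => rw [map_zero, map_zero]
      | add a b ha hb => rw [map_add, map_add, ha, hb]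
      | tmul c x =>
        show (1 : C) ⊗ₜ[S'] (σ c • x) = c ⊗ₜ x
        rw [← TensorProduct.smul_tmul, ← Algebra.algebraMap_eq_smul_one, hσ]
  have hIfg : I.FG := hJ.map _
  haveI : Algebra.FinitePresentation S' C :=
    Algebra.FinitePresentation.of_surjective (f := Algebra.ofId S' C) hsurj
      (by rw [show RingHom.ker (Algebra.ofId S' C).toRingHom = I from hker]; exact hIfg)
  exact ⟨{ R' := R', S' := S', C := C, D := D, N' := N', G := G, p' := p', q' := q', z := z, y := y
           etaleR := etR, etaleS := etS, f := (TensorProduct.mk S S' N) 1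
           isBaseChange := TensorProduct.isBaseChange S N S'
           surjC := hsurj, fpC := inferInstance, iso := LinearEquiv.ofBijective θ hθ
           finiteDC := fin, finiteG := inferInstance
           uniq := fun z₁ h₁ h => uniq z₁ h₁ h.over.symm
           pureTrans := hpt, smooth := hsm, geomInt := hgi }⟩


/-- Ring form, X = Spec S and S = Spec R affine: let S be a finite type R-algebra, N a finite S-module
and q a prime of S over p; let x be the point of the fibre Spec(κ(p) ⊗ S) given by q, assume x lies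
in the support of the fibre module of N and let n be the local dimension of that support at x. Then
there is an elementary dévissage of N at q in dimension n: étale neighbourhood rings R' of (R, p)
and S' of (S, q), a finitely presented quotient C of S' with a finite C-module G identified with the
base change of N, a smooth R'-algebra D of relative dimension n with geometrically integral fibres
and a finite map D → C, and compatible primes, with exactly one prime of C over the chosen prime y
of D and κ(y) purely transcendental over κ(p') (see FlatCA.ElemDevissage). -/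
theorem result {R S : Type u} [CommRing R] [CommRing S] [Algebra R S] [Algebra.FiniteType R S]
    (N : Type u) [AddCommGroup N] [Module S N] [Module R N] [IsScalarTower R S N] [Module.Finite S N]
    (p : Ideal R) [p.IsPrime] (q : Ideal S) [q.IsPrime] [q.LiesOver p] (n : ℕ)
    (x : PrimeSpectrum (p.Fiber S)) (hxq : x.asIdeal = FlatCA.fiberIdeal p q)
    (hx : x ∈ Module.support (p.Fiber S) (FlatCA.fiberMod p S N))
    (hn : FlatMor.localDim (Module.support (p.Fiber S) (FlatCA.fiberMod p S N)) ⟨x, hx⟩ = n) :
    Nonempty (FlatCA.ElemDevissage R S N p q n) := by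
  obtain ⟨J, hJfg, hJann, hJsupp⟩ := Groth.Agent.RGFlat.exists_fg_annihilating (S := S) (N := N) p
  let Sb := S ⧸ J
  let inc : S →+* p.Fiber S := (Algebra.TensorProduct.includeRight : S →ₐ[R] p.Fiber S).toRingHom
  let pp : PrimeSpectrum R := ⟨p, inferInstance⟩
  let qq : PrimeSpectrum S := ⟨q, inferInstance⟩
  let Eq := PrimeSpectrum.preimageEquivFiber R S pp
  have hcomap : ∀ w, (Eq.symm w).1 = PrimeSpectrum.comap inc w := fun w => rfl
  let w₀ := Eq ⟨qq, PrimeSpectrum.ext (q.over_def p).symm⟩
  have hw₀ : w₀.asIdeal.comap inc = q :=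
    congrArg (fun t => t.1.asIdeal) (Eq.symm_apply_apply ⟨qq, PrimeSpectrum.ext (q.over_def p).symm⟩)
  have hxle : x.asIdeal ≤ w₀.asIdeal := hxq.le.trans (Ideal.map_le_iff_le_comap.mpr hw₀.ge)
  have hxc : x.asIdeal.comap inc = q := le_antisymm ((Ideal.comap_mono hxle).trans hw₀.le)
    (Ideal.map_le_iff_le_comap.mp hxq.ge)
  have hJq : J ≤ q := hxc ▸ Ideal.map_le_iff_le_comap.mp ((hJsupp x).mpr hx)
  let qb : Ideal Sb := q.map (Ideal.Quotient.mk J)
  have hqb : qb.comap (Ideal.Quotient.mk J) = q := by
    rw [Ideal.comap_map_of_surjective _ Ideal.Quotient.mk_surjective, ← RingHom.ker_eq_comap_bot,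
      Ideal.mk_ker, sup_eq_left.mpr hJq]
  haveI : qb.IsPrime := Ideal.map_isPrime_of_surjective Ideal.Quotient.mk_surjective (by rwa [Ideal.mk_ker])
  haveI : qb.LiesOver p := ⟨by
    rw [Ideal.under_def, show algebraMap R Sb = (Ideal.Quotient.mk J).comp (algebraMap R S) from rfl,
      ← Ideal.comap_comap, hqb]
    exact q.over_def p⟩
  let incb : Sb →+* p.Fiber Sb := (Algebra.TensorProduct.includeRight : Sb →ₐ[R] p.Fiber Sb).toRingHom
  let Eb := PrimeSpectrum.preimageEquivFiber R Sb pp
  let Q := Eb ⟨⟨qb, inferInstance⟩, PrimeSpectrum.ext (qb.over_def p).symm⟩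
  have hQ : Q.asIdeal.comap incb = qb :=
    congrArg (fun t => t.1.asIdeal) (Eb.symm_apply_apply ⟨⟨qb, inferInstance⟩, PrimeSpectrum.ext (qb.over_def p).symm⟩)
  let m : p.Fiber S →ₐ[R] p.Fiber Sb :=
    Algebra.TensorProduct.map (AlgHom.id R p.ResidueField) (Ideal.Quotient.mkₐ R J)
  have hm : Function.Surjective m :=
    Algebra.TensorProduct.map_surjective (AlgHom.id R p.ResidueField) (Ideal.Quotient.mkₐ R J)
      Function.surjective_id (Ideal.Quotient.mkₐ_surjective R J)
  have hminc : ∀ s : S, m (inc s) = incb (Ideal.Quotient.mk J s) := fun s => rfl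
  have hmem : ∀ w : PrimeSpectrum (p.Fiber Sb),
      PrimeSpectrum.comap m.toRingHom w ∈ Module.support (p.Fiber S) (FlatCA.fiberMod p S N) := fun w => by
    refine (hJsupp _).mp (Ideal.map_le_iff_le_comap.mpr fun s hs => ?_)
    show m (inc s) ∈ w.asIdeal
    rw [hminc, Ideal.Quotient.eq_zero_iff_mem.mpr hs, map_zero]
    exact w.asIdeal.zero_mem
  have hmQ : PrimeSpectrum.comap m.toRingHom Q = x := by
    refine Eq.symm.injective (Subtype.ext (PrimeSpectrum.ext ?_))
    rw [hcomap, hcomap]
    show (Q.asIdeal.comap m.toRingHom).comap inc = x.asIdeal.comap inc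
    rw [Ideal.comap_comap, show m.toRingHom.comp inc = incb.comp (Ideal.Quotient.mk J) from RingHom.ext hminc,
      ← Ideal.comap_comap, hQ, hqb, hxc]
  have hdim : FlatMor.localDim (PrimeSpectrum (p.Fiber Sb)) Q ≤ (n : WithBot ℕ∞) := by
    let ι : PrimeSpectrum (p.Fiber Sb) → Module.support (p.Fiber S) (FlatCA.fiberMod p S N) := fun w =>
      ⟨PrimeSpectrum.comap m.toRingHom w, hmem w⟩
    have hι : Topology.IsInducing ι := Topology.IsInducing.of_comp
      ((PrimeSpectrum.continuous_comap _).subtype_mk _) continuous_subtype_val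
      (PrimeSpectrum.comap_isInducing_of_surjective _ _ hm)
    refine (Groth.Agent.S0442.localDim_le_of_isInducing ι hι Q).trans ?_
    rw [show ι Q = ⟨x, hx⟩ from Subtype.ext hmQ, hn]
  obtain ⟨d⟩ := Groth.Agent.FlatMor62.LocalStruct.exists_data R Sb p qb Q hQ n hdim
  obtain ⟨R', D, C, comm, p', y, z, zOverY, etR, ⟨hetS, hoS, hbS⟩, hfin, huniq, hsm, hgi, hpt⟩ := d
  letI : Algebra S C := ((algebraMap Sb C).comp (Ideal.Quotient.mk J)).toAlgebra
  haveI : IsScalarTower S Sb C := IsScalarTower.of_algebraMap_eq fun _ => rfl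
  haveI := etR.1
  letI : Algebra R' C := ((algebraMap D C).comp (algebraMap R' D)).toAlgebra
  obtain ⟨S', _, _, ψ, j, hS', hψ, hker, hψj, hj⟩ :=
    Groth.Agent.FlatMor62.EtaleLiftBase.exists_lift_over R R' S C J comm
  letI : Algebra S' C := ψ.toRingHom.toAlgebra
  letI : Algebra R' S' := j.toAlgebra
  letI : Algebra R S' := ((algebraMap S S').comp (algebraMap R S)).toAlgebra
  haveI : IsScalarTower R S S' := IsScalarTower.of_algebraMap_eq fun _ => rfl
  haveI : IsScalarTower R R' S' := IsScalarTower.of_algebraMap_eq fun r => (RingHom.congr_fun hj r).symm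
  haveI : IsScalarTower R' D C := IsScalarTower.of_algebraMap_eq fun _ => rfl
  haveI : IsScalarTower R' S' C := IsScalarTower.of_algebraMap_eq fun r => (RingHom.congr_fun hψj r).symm
  let q' : Ideal S' := z.comap ψ.toRingHom
  haveI : z.LiesOver q' := ⟨rfl⟩
  haveI : z.LiesOver y := ⟨zOverY.symm⟩
  haveI : q'.LiesOver p' := ⟨by
    show p' = (z.comap ψ.toRingHom).comap j
    rw [Ideal.comap_comap, hψj]
    show p' = z.comap ((algebraMap D C).comp (algebraMap R' D))
    rw [← Ideal.comap_comap, zOverY]
    exact y.over_def p'⟩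
  have hqz : q = z.comap (algebraMap S C) := by
    show q = z.comap ((algebraMap Sb C).comp (Ideal.Quotient.mk J))
    rw [← Ideal.comap_comap]
    exact hqb.symm.trans (congrArg (Ideal.comap (Ideal.Quotient.mk J)) hoS.over)
  have hqq' : q = q'.comap (algebraMap S S') := by
    show q = (z.comap ψ.toRingHom).comap _
    rw [Ideal.comap_comap, show ψ.toRingHom.comp (algebraMap S S') = algebraMap S C from ψ.comp_algebraMap]
    exact hqz
  refine assemble N p q n J hJfg hJann hψ hker p' q' z y etR ⟨hS', ⟨hqq'⟩, ?_⟩ hfin huniq hpt hsm hgi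
  refine bijective_map_left (algebraMap S S') ψ.toRingHom (algebraMap S C) ψ.comp_algebraMap hqq' rfl hqz ?_
  exact Groth.Agent.FlatMor62.LocalStruct.bijective_map_comp (Ideal.Quotient.mk J) (algebraMap Sb C)
    hqb.symm hoS.over hqz (bijective_map_of_surjective _ Ideal.Quotient.mk_surjective q qb hqb.symm) hbS


end Groth.Agent.S1249
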