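import Groth.Statements.S17417
import Mathlib
import Groth.Agent.ModSt71.Fib
import Groth.Agent.StFib.OpenSub
import Groth.Agent.FDesc.BaseChangeStalk
import Groth.Agent.ConsPairLib.ModLoci
import Groth.Agent.S2115
import Groth.Agent.PullStalk.Exact
-- import your own Groth.Agent.* helpers here

set_option autoImplicit false
open CategoryTheory CategoryTheory.Limits AlgebraicGeometry
universe u
open ModSt

namespace Groth.Agent.S17417

theorem isFlatOverAt_of_iso {X S : Scheme.{u}} (f : X ⟶ S) {M N : X.Modules} (e : M ≅ N) (x : X)
    (h : FlatMod.IsFlatOverAt f M x) : FlatMod.IsFlatOverAt f N x := by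
  let := FlatMod.moduleStalkOver f M x
  let := FlatMod.moduleStalkOver f N x
  have : Module.Flat (S.presheaf.stalk (f.base x)) (M.presheaf.stalk x) := h
  have hbij : Function.Bijective (Groth.Agent.PullStalk.Exact.stalkLin e.hom x) :=
    haveI : IsIso ((TopCat.Presheaf.stalkFunctor Ab.{u} x).map e.hom.mapPresheaf) :=
      Functor.map_isIso (Scheme.Modules.toPresheaf X ⋙ TopCat.Presheaf.stalkFunctor Ab.{u} x) e.hom
    ConcreteCategory.bijective_of_isIso ((TopCat.Presheaf.stalkFunctor Ab x).map e.hom.mapPresheaf)
  let l : M.presheaf.stalk x →ₗ[S.presheaf.stalk (f.base x)] N.presheaf.stalk x :=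
    { toFun := Groth.Agent.PullStalk.Exact.stalkLin e.hom x
      map_add' := map_add _
      map_smul' := fun r m => (Groth.Agent.PullStalk.Exact.stalkLin e.hom x).map_smul
        ((f.stalkMap x).hom r) m }
  exact Module.Flat.of_linearEquiv (LinearEquiv.ofBijective l hbij).symm

theorem isCohObj_of_hom {X S : Scheme.{u}} {f : X ⟶ S} {A B : Obj f} (φ : A ⟶ B) (h : IsCohObj B) :
    IsCohObj A := by
  obtain ⟨e⟩ := Groth.Agent.ModSt71.nonempty_pullback_iso φ
  haveI : B.E.IsQuasicoherent := by
    obtain ⟨σ, -⟩ := h.2.exists_quasicoherentData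
    exact σ.isQuasicoherent
  haveI : Coh.IsQCoh B.E := ‹B.E.IsQuasicoherent›
  refine ⟨fun x => isFlatOverAt_of_iso A.q e x
    (Groth.Agent.FDesc.BaseChangeStalk.flatOverAt_baseChange φ.isPullback_top x B.E (h.1 _)), ?_⟩
  obtain ⟨hq, hfp⟩ := Groth.Agent.ConsPairLib.isFP_pullback φ.top B.E h.2
  haveI : ((Scheme.Modules.pullback φ.top).obj B.E).IsQuasicoherent := hq
  haveI : A.E.IsQuasicoherent :=
    (SheafOfModules.isQuasicoherent A.XT.ringCatSheaf).prop_of_iso e ‹_›
  exact Groth.Agent.S2115.isFP_of_iso e hfp



/-- Let `f : X ⟶ S` be a morphism of schemes. The category over `(Sch/S)` of finitely presented modules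
flat over the base (objects over `T`: a cartesian square `X_T` over `T` and a finitely presented
`T`-flat module on `X_T`; morphisms: cartesian comparison maps over morphisms of bases) is fibred in
groupoids. (The source states this for a morphism of finite presentation of algebraic spaces `X → B`
over a base scheme and for modules whose support is moreover proper over the base; this row is the
case of schemes with base `S = B`, for the category without the support condition, and for any
morphism `f`.) -/
theorem result {X S : Scheme.{u}} (f : X ⟶ S) :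
    FibCat.IsFibGrpd (ModSt.Coh f).p := by
  exact Groth.Agent.StFib.isFibGrpd_fullSub (𝒳 := ModSt.Fam f) (Groth.Agent.ModSt71.isFibGrpd_forget f)
    ModSt.IsCohObj (fun φ h => isCohObj_of_hom φ h)


end Groth.Agent.S17417
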