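import Groth.Statements.S9769
import Groth.Agent.FlatMor.FreeFibre
import Groth.Agent.LimTop.PullSec
import Groth.Agent.FDesc.Stalk
import Groth.Agent.Props.QFP
-- import your own Groth.Agent.* helpers here

set_option autoImplicit false
universe u
open FlatMor

namespace Groth.Agent.S9769

open AlgebraicGeometry CategoryTheory Limits IsLocalRing
open scoped TensorProduct


theorem finitePresentation_stalk {X : Scheme.{u}} (F : X.Modules)
    [SheafOfModules.IsFinitePresentation.{u} F] (x : X) :
    Module.FinitePresentation (X.presheaf.stalk x) (F.presheaf.stalk x) := by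
  have : F.IsQuasicoherent := inferInstance
  obtain ⟨W, hW, hxW, -⟩ := exists_isAffineOpen_mem_and_subset (x := x) (U := ⊤) trivial
  letI := X.presheaf.algebra_section_stalk ⟨x, hxW⟩
  letI := Groth.Agent.LimTop.stalkModule F hxW
  haveI : IsScalarTower Γ(X, W) (X.presheaf.stalk x) (F.presheaf.stalk x) :=
    IsScalarTower.of_algebraMap_smul fun _ _ => rfl
  haveI := hW.isLocalization_stalk ⟨x, hxW⟩
  haveI := Groth.Agent.LimTop.isLocalizedModule_germLin F hW hxW
  haveI := Groth.Agent.Props.QFP.finitePresentation_sections_of_isFP F hW
  exact FinitePresentation.of_isBaseChange (Groth.Agent.LimTop.germLin F hxW)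
    ((isLocalizedModule_iff_isBaseChange (hW.primeIdealOf ⟨x, hxW⟩).asIdeal.primeCompl
      (X.presheaf.stalk x) _).mp inferInstance)


open AlgebraicGeometry CategoryTheory Limits in
/-- Let f : X ⟶ S be locally of finite presentation and F a finitely presented O_X-module which is flat
over S. Then the formation of the locus of points of X near which F is free (equivalently, for
finitely presented F, where the stalk of F is a free module) commutes with arbitrary base change:
for a cartesian square with g' : X' ⟶ X over S' ⟶ S, the free locus of (g')^*F is the preimage of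
that of F. The published statement also asserts that this locus is open; this row states only that
its formation commutes with base change. -/
theorem result {X S X' S' : Scheme.{u}} (f : X ⟶ S) [LocallyOfFinitePresentation f]
    (F : X.Modules) (hF : CohB1.IsFP F) (hfl : FlatMod.IsFlatOver f F)
    (g : S' ⟶ S) (f' : X' ⟶ S') (g' : X' ⟶ X) (hc : IsPullback g' f' f g) :
    {x' : ↑X' | Module.Free ↑(X'.presheaf.stalk x') ↑(((Scheme.Modules.pullback g').obj F).presheaf.stalk x')} =
      g' ⁻¹' {x : ↑X | Module.Free ↑(X.presheaf.stalk x) ↑(F.presheaf.stalk x)} := by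
  ext x'
  haveI : SheafOfModules.IsFinitePresentation.{u} F := hF
  simp only [Set.mem_setOf_eq, Set.mem_preimage]
  let := (g'.stalkMap x').hom.toAlgebra
  obtain ⟨e, -⟩ := Groth.Agent.FDesc.Stalk.exists_stalk_equiv g' F x'
  constructor
  · intro hfree
    have hN : Module.Free (X'.presheaf.stalk x')
        (X'.presheaf.stalk x' ⊗[X.presheaf.stalk (g' x')] F.presheaf.stalk (g' x')) :=
      Module.Free.of_equiv e.symm
    suffices key : ∀ (s' : S') (y' : f'.fiber s'),
        (letI := (g'.stalkMap (f'.fiberι s' y')).hom.toAlgebra
        Module.Free (X'.presheaf.stalk (f'.fiberι s' y'))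
          (X'.presheaf.stalk (f'.fiberι s' y') ⊗[X.presheaf.stalk (g' (f'.fiberι s' y'))]
            F.presheaf.stalk (g' (f'.fiberι s' y')))) →
        Module.Free (X.presheaf.stalk (g' (f'.fiberι s' y'))) (F.presheaf.stalk (g' (f'.fiberι s' y'))) by
      have h' := key (f' x') (f'.asFiber x')
      rw [f'.fiberι_asFiber] at h'
      exact h' hN
    clear e hfree hN this x'
    intro s' y'
    letI := (g'.stalkMap (f'.fiberι s' y')).hom.toAlgebra
    intro hN
    have : Nontrivial ((f'.fiber s').presheaf.stalk y') := inferInstance
    obtain ⟨E, iE, φ₀, σ, hs, hker, hσ, hloc, heq⟩ :=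
      Groth.Agent.FlatMor.FreeFibre.exists_fibre_stalk_map hc s' y'
    let A := S.presheaf.stalk (f (g' (f'.fiberι s' y')))
    let B := X.presheaf.stalk (g' (f'.fiberι s' y'))
    let C := X'.presheaf.stalk (f'.fiberι s' y')
    let E' := (f'.fiber s').presheaf.stalk y'
    let M := F.presheaf.stalk (g' (f'.fiberι s' y'))
    let : Algebra A B := (f.stalkMap _).hom.toAlgebra
    let := FlatMod.moduleStalkOver f F (g' (f'.fiberι s' y'))
    have : IsScalarTower A B M := IsScalarTower.of_algebraMap_smul fun _ _ => rfl
    have : IsLocalHom (algebraMap A B) := inferInstanceAs (IsLocalHom (f.stalkMap _).hom)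
    have : Module.Flat A M := hfl _
    have : Module.FinitePresentation B M := finitePresentation_stalk F _
    refine Groth.Agent.FlatMor.FreeFibre.free_of_free_fibre A B M ?_
    let Q := B ⧸ (maximalIdeal A).map (algebraMap A B)
    let eQ : Q ≃+* E :=
      (Ideal.quotEquivOfEq hker.symm).trans (RingHom.quotientKerEquivOfSurjective hs)
    let τ : Q →+* E' := σ.comp eQ.toRingHom
    let : Algebra Q E' := τ.toAlgebra
    let : Algebra C E' := ((f'.fiberι s').stalkMap y').hom.toAlgebra
    let : Algebra B E' := ((algebraMap C E').comp (algebraMap B C)).toAlgebra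
    have : IsScalarTower B C E' := IsScalarTower.of_algebraMap_eq' rfl
    have : IsScalarTower B Q E' := IsScalarTower.of_algebraMap_eq' heq.symm
    have : Module.Flat Q E' := (RingHom.Flat.of_bijective eQ.bijective).comp hσ
    have hQ : Nontrivial Q := τ.domain_nontrivial
    have : IsLocalRing Q := IsLocalRing.of_surjective' (Ideal.Quotient.mk _) Ideal.Quotient.mk_surjective
    have : IsLocalHom (algebraMap Q E') :=
      ⟨fun z hz => (isUnit_map_iff eQ z).mp (hloc.map_nonunit _ hz)⟩
    have := Module.FaithfullyFlat.of_flat_of_isLocalHom (A := Q) (B := E')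
    have : Module.Free E' (E' ⊗[B] M) :=
      Module.Free.of_equiv (TensorProduct.AlgebraTensorModule.cancelBaseChange B C E' E' M)
    have : Module.Flat E' (E' ⊗[Q] (Q ⊗[B] M)) :=
      Module.Flat.of_linearEquiv (TensorProduct.AlgebraTensorModule.cancelBaseChange B Q E' E' M)
    have : Module.Flat Q (Q ⊗[B] M) := Module.Flat.of_flat_tensorProduct Q (Q ⊗[B] M) E'
    exact Module.free_of_flat_of_isLocalRing
  · intro hfree
    exact Module.Free.of_equiv e

end Groth.Agent.S9769
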