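import Groth.Statements.S9029
import Groth.Agent.S2768
import Groth.Agent.S17417
import Groth.Agent.S9350
import Groth.Agent.S9769
import Groth.Agent.AlgSpD.RelDim
import Groth.Agent.FreeAlong.Stalk
import Groth.Agent.RankLocus.Basic
import Groth.Agent.GrpdLib.SepDense
import Groth.Agent.Props.QRank
import Groth.Agent.KFlat.LocFree
import Groth.Agent.ConsPairLib.ModLoci

set_option autoImplicit false
universe u
open FlatMor

namespace Groth.Agent.S9029

section Lemmas

open CategoryTheory CategoryTheory.Limits AlgebraicGeometry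
open Groth.Agent.FreeAlong Groth.Agent.QCohGen Groth.Agent.Props Groth.Agent.PullStalk.Exact
open scoped TensorProduct

variable {X S : Scheme.{u}}

theorem free_stalk_of_iso {M N : X.Modules} (e : M ≅ N) (x : X)
    [Module.Free (X.presheaf.stalk x) (M.presheaf.stalk x)] :
    Module.Free (X.presheaf.stalk x) (N.presheaf.stalk x) :=
  Module.Free.of_equiv (LinearEquiv.ofLinear (stalkLin e.hom x) (stalkLin e.inv x)
    (stalkLin_comp_eq_id e.inv_hom_id x) (stalkLin_comp_eq_id e.hom_inv_id x))

theorem isFinLocFreeOfRank_freeMod (Y : Scheme.{u}) (n : ℕ) :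
    FlatMod.IsFinLocFreeOfRank n (FlatMod.freeMod Y n) := fun _ =>
  ⟨⊤, trivial, ⟨(Scheme.Modules.restrictFunctorIsoPullback _).app _ ≪≫ KFlat.LocFree.pullFreeIso _ n⟩⟩

theorem free_stalk_pullback {Y : Scheme.{u}} (k : X ⟶ Y) (M : Y.Modules) (x : X)
    [Module.Free (Y.presheaf.stalk (k x)) (M.presheaf.stalk (k x))] :
    Module.Free (X.presheaf.stalk x) (((Scheme.Modules.pullback k).obj M).presheaf.stalk x) := by
  letI := (k.stalkMap x).hom.toAlgebra
  obtain ⟨e, -⟩ := FDesc.Stalk.exists_stalk_equiv k M x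
  exact Module.Free.of_equiv e

theorem exists_bound [IsAffine X] (F : X.Modules) [F.IsQuasicoherent] (hF : CohB1.IsFP F) :
    ∃ c : ℕ, ∀ x : X, QRank.fibreRank F x ≤ c := by
  haveI : SheafOfModules.IsFinitePresentation.{u} F := hF
  haveI := QFP.finitePresentation_sections_of_isFP F (isAffineOpen_top X)
  obtain ⟨n, m, hm⟩ := Module.Finite.exists_fin (R := Γ(X, ⊤)) (M := Γ(F, ⊤))
  refine ⟨n, fun x => ?_⟩
  have hs := QRank.span_germ_eq_top F (isAffineOpen_top X) hm (y := x) trivial
  let κ := IsLocalRing.ResidueField (X.presheaf.stalk x)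
  let g : Fin n → κ ⊗[X.presheaf.stalk x] F.presheaf.stalk x :=
    fun i => (1 : κ) ⊗ₜ PullStalk.Sky.germM F ⊤ x trivial (m i)
  have hg : Submodule.span κ (Set.range g) = ⊤ := by
    have := Submodule.baseChange_span (R := X.presheaf.stalk x) (A := κ) (Set.range fun i => PullStalk.Sky.germM F ⊤ x trivial (m i))
    rw [hs, Submodule.baseChange_top, ← Set.range_comp] at this
    exact this.symm
  calc QRank.fibreRank F x = Module.finrank κ (Submodule.span κ (Set.range g)) := by
        rw [hg, finrank_top]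
    _ ≤ n := by
        refine (finrank_range_le_card (R := κ) g).trans ?_
        rw [Fintype.card_fin]

theorem fibreRank_of_iso {M N : X.Modules} (e : M ≅ N) (x : X) :
    QRank.fibreRank M x = QRank.fibreRank N x :=
  LinearEquiv.finrank_eq (LinearEquiv.baseChange (X.presheaf.stalk x) _ _ _
    (LinearEquiv.ofLinear (stalkLin e.hom x) (stalkLin e.inv x)
      (stalkLin_comp_eq_id e.inv_hom_id x) (stalkLin_comp_eq_id e.hom_inv_id x)))

theorem rank_of_restrict_iso {M : X.Modules} [M.IsQuasicoherent] {V : X.Opens} {n : ℕ}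
    (φ : M.restrict V.ι ≅ FlatMod.freeMod (↑V) n) {x : X} (hx : x ∈ V) :
    Module.Free (X.presheaf.stalk x) (M.presheaf.stalk x) ∧ QRank.fibreRank M x = n := by
  have h0 : FlatMod.IsFinLocFreeOfRank n (FlatMod.freeMod (↑V) n) := isFinLocFreeOfRank_freeMod _ n
  have h1 : FlatMod.IsFinLocFreeOfRank n (M.restrict V.ι) :=
    RankLocus.isFinLocFreeOfRank_of_iso φ.symm h0
  refine ⟨free_stalk_of_restrict M (fun v => ?_) hx, ?_⟩
  · obtain ⟨U, hv, hU⟩ := h1 v
    exact ⟨U, n, hv, hU⟩
  obtain ⟨v, rfl⟩ : ∃ v : (V : Scheme.{u}), V.ι v = x := ⟨⟨x, hx⟩, rfl⟩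
  haveI : (M.restrict V.ι).IsQuasicoherent := Scheme.Modules.isQuasicoherent_restrictFunctor _ M
  obtain ⟨hfree, hrk⟩ := RankLocus.free_finrank_stalk h1 v
  haveI := hfree
  rw [← RankLocus.fibreRank_pullback V.ι M v,
    ← fibreRank_of_iso ((Scheme.Modules.restrictFunctorIsoPullback V.ι).app M) v]
  exact (QRank.fibreRank_eq_of_free _ v).trans hrk

theorem isFreeOfRankNear_of_free (M : X.Modules) [M.IsQuasicoherent] (hM : CohB1.IsFP M) (x : X)
    [Module.Free (X.presheaf.stalk x) (M.presheaf.stalk x)] :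
    FlatFun.IsFreeOfRankNear M (QRank.fibreRank M x) x := by
  haveI : SheafOfModules.IsFinitePresentation.{u} M := hM
  obtain ⟨W, hW, hxW, -⟩ := exists_isAffineOpen_mem_and_subset (x := x) (U := ⊤) trivial
  obtain ⟨V, n, hxV, ⟨φ⟩⟩ := QProj.exists_free_nhd M hW hxW (QFP.finitePresentation_sections_of_isFP M hW) ‹_›
  rw [(rank_of_restrict_iso φ hxV).2]
  exact ⟨V, hxV, ⟨φ⟩⟩

theorem isFlatOverAt_of_free (q : X ⟶ S) [Flat q] (M : X.Modules) (x : X)
    [Module.Free (X.presheaf.stalk x) (M.presheaf.stalk x)] : FlatMod.IsFlatOverAt q M x := by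
  letI : Algebra (S.presheaf.stalk (q x)) (X.presheaf.stalk x) := (q.stalkMap x).hom.toAlgebra
  letI := FlatMod.moduleStalkOver q M x
  haveI : IsScalarTower (S.presheaf.stalk (q x)) (X.presheaf.stalk x) (M.presheaf.stalk x) :=
    IsScalarTower.of_algebraMap_smul fun _ _ => rfl
  haveI : Module.Flat (S.presheaf.stalk (q x)) (X.presheaf.stalk x) := Flat.stalkMap q x
  exact Module.Flat.trans (S.presheaf.stalk (q x)) (X.presheaf.stalk x) (M.presheaf.stalk x)

/-- The fibre dimension theory of a smooth morphism with irreducible fibres at its generic points. -/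
theorem isGenericPtOfFibre_iff (d : ℕ) (q : X ⟶ S) [SmoothOfRelativeDimension d q]
    [GeometricallyIrreducible q] (x : X) :
    (FlatFun.IsGenericPtOfFibre q x ↔ IsMax (q.asFiber x)) ∧
    (IsMax (q.asFiber x) ↔ (d : Cardinal.{u}) ≤ Dual3.resTrdeg q x) := by
  haveI : Smooth q := SmoothOfRelativeDimension.smooth (n := d) q
  obtain ⟨n, m, hm, -, hn, hd⟩ := AlgSpD.exists_fibre_dims q x
  have hnm : d = n + m := by
    rw [S2768.result d q x] at hd
    exact_mod_cast hd
  have hmax : IsMax (q.asFiber x) ↔ n = 0 := by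
    rw [ringKrullDim_stalk_eq_coheight] at hn
    rw [← Order.coheight_eq_zero]
    constructor
    · intro h; rw [h] at hn; exact_mod_cast hn.symm
    · intro h; rw [h] at hn; exact_mod_cast hn
  refine ⟨?_, ?_⟩
  · constructor
    · intro hgen z (hz : q.asFiber x ≤ z)
      have h1 : x ⤳ q.fiberι (q x) z := hgen _ (by
        have : q.fiberι (q x) z ∈ Set.range (q.fiberι (q x)) := ⟨z, rfl⟩
        rw [Scheme.Hom.range_fiberι] at this
        exact this)
      have h2 : q.fiberι (q x) (q.asFiber x) ⤳ q.fiberι (q x) z := by rw [q.fiberι_asFiber]; exact h1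
      exact ((q.fiberι (q x)).isEmbedding.isInducing.specializes_iff.mp h2 :)
    · intro hmax x' hx'
      obtain ⟨z, rfl⟩ : x' ∈ Set.range (q.fiberι (q x)) := by rw [Scheme.Hom.range_fiberι]; exact hx'
      have hg : q.asFiber x ≤ genericPoint ↥(q.fiber (q x)) := genericPoint_specializes _
      have h2 : q.asFiber x ⤳ z := Specializes.trans (hmax hg : genericPoint ↥(q.fiber (q x)) ≤ q.asFiber x) (genericPoint_specializes z)
      have := h2.map (q.fiberι (q x)).continuous
      rwa [q.fiberι_asFiber] at this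
  · rw [hmax, hm]
    constructor
    · intro h; rw [hnm, h, zero_add]
    · intro h
      have : d ≤ m := by exact_mod_cast h
      omega

theorem exists_generic (d : ℕ) (q : X ⟶ S) [SmoothOfRelativeDimension d q] [GeometricallyIrreducible q]
    (t : S) : ∃ x : X, q x = t ∧ FlatFun.IsGenericPtOfFibre q x := by
  refine ⟨q.fiberι t (genericPoint ↥(q.fiber t)), ?_, fun x' hx' => ?_⟩
  · have : q.fiberι t (genericPoint ↥(q.fiber t)) ∈ Set.range (q.fiberι t) := ⟨_, rfl⟩
    rwa [Scheme.Hom.range_fiberι] at this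
  · have h0 : q.fiberι t (genericPoint ↥(q.fiber t)) ∈ Set.range (q.fiberι t) := ⟨_, rfl⟩
    obtain ⟨z, rfl⟩ : x' ∈ Set.range (q.fiberι t) := by
      rw [Scheme.Hom.range_fiberι] at h0 ⊢
      exact hx'.trans h0
    exact (genericPoint_specializes z).map (q.fiberι t).continuous

theorem free_of_flat_generic (d : ℕ) (q : X ⟶ S) [SmoothOfRelativeDimension d q]
    [GeometricallyIrreducible q] (M : X.Modules) [M.IsQuasicoherent] (hM : CohB1.IsFP M) {x : X}
    (hx : FlatFun.IsGenericPtOfFibre q x) (hfl : FlatMod.IsFlatOverAt q M x) :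
    Module.Free (X.presheaf.stalk x) (M.presheaf.stalk x) := by
  haveI : Smooth q := SmoothOfRelativeDimension.smooth (n := d) q
  haveI := GrpdLib.SepDense.geometricallyReduced_of_smooth q
  haveI : SheafOfModules.IsFinitePresentation.{u} M := hM
  have hmax := (isGenericPtOfFibre_iff d q x).1.mp hx
  suffices key : ∀ (s : S) (y : q.fiber s), IsMax y → FlatMod.IsFlatOverAt q M (q.fiberι s y) →
      Module.Free (X.presheaf.stalk (q.fiberι s y)) (M.presheaf.stalk (q.fiberι s y)) by
    have h' := key (q x) (q.asFiber x) hmax (by rw [q.fiberι_asFiber]; exact hfl)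
    rw [q.fiberι_asFiber] at h'
    exact h'
  intro s y hy hfl
  haveI := S9769.finitePresentation_stalk M (q.fiberι s y)
  have hF : IsField ((q.fiber s).presheaf.stalk y) := by
    haveI : Ring.KrullDimLE 0 ((q.fiber s).presheaf.stalk y) :=
      Ring.krullDimLE_iff.mpr (by rw [ringKrullDim_stalk_eq_coheight, Order.coheight_eq_zero.mpr hy]; rfl)
    exact Ring.KrullDimLE.isField_of_isReduced
  letI := hF.toField
  exact free_stalk_of_isPullback (g := S.fromSpecResidueField s) (f' := q.fiberToSpecResidueField s)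
    (g' := q.fiberι s) (IsPullback.of_hasPullback q (S.fromSpecResidueField s)) M y hfl
    (Module.Free.of_divisionRing ((q.fiber s).presheaf.stalk y)
      (((Scheme.Modules.pullback (q.fiberι s)).obj M).presheaf.stalk y))

end Lemmas

open CategoryTheory CategoryTheory.Limits AlgebraicGeometry Opposite in
/-- Let X → S be a morphism of affine schemes which is smooth of relative dimension d with geometrically
irreducible fibres, and F a quasi-coherent O_X-module of finite presentation. Then the functor F_d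
(F_T flat over T in dimensions ≥ d) is the disjoint union, as a sheaf, of the functors H_p for p =
0, …, c for some c ≥ 0: there is c such that for every scheme T over S, the base change F_T on X ×_S
T is flat over T in dimensions ≥ d (every point where it is not flat over T has residue field of
transcendence degree less than d over that of its image) if and only if every point of T has an open
neighbourhood V in T and an integer p ≤ c such that F_V is free of rank p on a neighbourhood of the
generic point of every fibre of X ×_S V → V. -/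
theorem result {X S : Scheme.{u}} [IsAffine X] [IsAffine S] (f : X ⟶ S) (d : ℕ) [SmoothOfRelativeDimension d f]
    [GeometricallyIrreducible f] (F : X.Modules) [Coh.IsQCoh F] (hF : CohB1.IsFP F) :
    ∃ c : ℕ, ∀ T : Over S,
      (FlatFun.DimFibresLT d (PicF.XTproj f T)
        {x | ¬ FlatMod.IsFlatOverAt (PicF.XTproj f T) (FGA.ET f F T) x}) ↔
      ∀ t : T.left, ∃ (V : T.left.Opens) (p : ℕ), t ∈ V ∧ p ≤ c ∧
        FlatFun.FreeAtGenericPts (PicF.XTproj f (Over.mk (V.ι ≫ T.hom)))
          (FGA.ET f F (Over.mk (V.ι ≫ T.hom))) p := by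
  haveI : F.IsQuasicoherent := ‹Coh.IsQCoh F›
  haveI : SheafOfModules.IsFinitePresentation.{u} F := hF
  obtain ⟨c, hc⟩ : ∃ c : ℕ, ∀ x : X, Props.QRank.fibreRank F x ≤ c := exists_bound F hF
  refine ⟨c, fun T => ?_⟩
  haveI : SmoothOfRelativeDimension d (PicF.XTproj f T) := (smoothOfRelativeDimension_isStableUnderBaseChange d).of_isPullback (IsPullback.of_hasPullback _ _) ‹_›
  haveI : Smooth (PicF.XTproj f T) := SmoothOfRelativeDimension.smooth (n := d) _
  let q := PicF.XTproj f T
  let M := FGA.ET f F T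
  haveI : M.IsQuasicoherent := (ConsPairLib.isFP_pullback _ F hF).1
  haveI : SheafOfModules.IsFinitePresentation.{u} M := (ConsPairLib.isFP_pullback _ F hF).2
  have hVfacts : ∀ (V : T.left.Opens), ∃ k : PicF.XT f (Over.mk (V.ι ≫ T.hom)) ⟶ PicF.XT f T,
      IsPullback k (PicF.XTproj f (Over.mk (V.ι ≫ T.hom))) q V.ι ∧
      Nonempty ((Scheme.Modules.pullback k).obj M ≅ FGA.ET f F (Over.mk (V.ι ≫ T.hom))) := by
    intro V
    let g : Over.mk (V.ι ≫ T.hom) ⟶ T := Over.homMk V.ι rfl
    refine ⟨PicF.XTmap f g, ?_, ⟨FGA.ETiso f F g⟩⟩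
    exact IsPullback.of_right (h₁₂ := pullback.fst f T.hom) (v₁₃ := f) (h₂₂ := T.hom)
      (by rw [FGA.XTmap_fst]; exact IsPullback.of_hasPullback f (V.ι ≫ T.hom))
      (pullback.lift_snd _ _ _) (IsPullback.of_hasPullback f T.hom)
  constructor
  · intro hT t
    obtain ⟨x, rfl, hgen⟩ := exists_generic d q t
    have hflat : ∀ y, FlatFun.IsGenericPtOfFibre q y → FlatMod.IsFlatOverAt q M y := fun y hy => by
      by_contra hny
      exact not_lt.mpr ((isGenericPtOfFibre_iff d q y).2.mp ((isGenericPtOfFibre_iff d q y).1.mp hy)) (hT y hny)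
    haveI := free_of_flat_generic d q M ‹_› hgen (hflat x hgen)
    obtain ⟨U, hxU, ⟨φ⟩⟩ := isFreeOfRankNear_of_free M ‹_› x
    refine ⟨⟨q '' U, q.isOpenMap _ U.2⟩, Props.QRank.fibreRank M x, ⟨x, hxU, rfl⟩, ?_, ?_⟩
    · rw [RankLocus.fibreRank_pullback]; exact hc _
    intro v
    obtain ⟨k, hk, ⟨e⟩⟩ := hVfacts ⟨q '' U, q.isOpenMap _ U.2⟩
    haveI : SmoothOfRelativeDimension d (PicF.XTproj f (Over.mk ((Scheme.Opens.ι (⟨q '' U, q.isOpenMap _ U.2⟩ : T.left.Opens)) ≫ T.hom))) :=
      (smoothOfRelativeDimension_isStableUnderBaseChange d).of_isPullback (IsPullback.of_hasPullback _ _) ‹_›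
    obtain ⟨z, hz, hzgen⟩ := exists_generic d (PicF.XTproj f _) v
    refine ⟨z, hz, hzgen, ?_⟩
    -- the image of the generic point lies in `U`
    obtain ⟨w, hwU, hw⟩ := v.2
    have hkz : q (k z) = q w := by
      rw [hw, ← Scheme.Hom.comp_apply, hk.w, Scheme.Hom.comp_apply, hz]; rfl
    have hgz : FlatFun.IsGenericPtOfFibre q (k z) := fun y hy => by
      obtain ⟨z', hz'1, hz'2⟩ := Scheme.exists_preimage_of_isPullback hk y v (by
        rw [hy, ← Scheme.Hom.comp_apply, hk.w, Scheme.Hom.comp_apply, hz])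
      exact hz'1 ▸ (hzgen z' (hz'2.trans hz.symm)).map k.continuous
    have hkU : k z ∈ U := (hgz w hkz.symm).mem_open U.2 hwU
    obtain ⟨hfree, hrk⟩ := rank_of_restrict_iso φ hkU
    haveI := hfree
    haveI := free_stalk_pullback k M z
    haveI : Module.Free _ ((FGA.ET f F _).presheaf.stalk z) := free_stalk_of_iso e z
    have hp : Props.QRank.fibreRank (FGA.ET f F _) z = Props.QRank.fibreRank M x := by
      rw [← fibreRank_of_iso e z, RankLocus.fibreRank_pullback, hrk, (rank_of_restrict_iso φ hxU).2]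
    rw [← hp]
    exact isFreeOfRankNear_of_free _ ((ConsPairLib.isFP_pullback _ F hF).2) z
  · intro H x hx
    by_contra hlt
    have hge : (d : Cardinal.{u}) ≤ Dual3.resTrdeg q x := not_lt.mp hlt
    have hgen := (isGenericPtOfFibre_iff d q x).1.mpr ((isGenericPtOfFibre_iff d q x).2.mpr hge)
    obtain ⟨V, p, hxV, -, hV⟩ := H (q x)
    obtain ⟨k, hk, ⟨e⟩⟩ := hVfacts V
    obtain ⟨z, hz, hzgen, W, hzW, ⟨φ⟩⟩ := hV ⟨q x, hxV⟩
    obtain ⟨z', hz'1, hz'2⟩ := Scheme.exists_preimage_of_isPullback hk x ⟨q x, hxV⟩ rfl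
    have h1 : k z ⤳ x := hz'1 ▸ (hzgen z' (hz'2.trans hz.symm)).map k.continuous
    have h2 : x ⤳ k z := hgen _ (by rw [← Scheme.Hom.comp_apply, hk.w, Scheme.Hom.comp_apply, hz]; rfl)
    obtain rfl : k z = x := (h1.antisymm h2).eq
    haveI : (FGA.ET f F (Over.mk (V.ι ≫ T.hom))).IsQuasicoherent := inferInstance
    haveI := (rank_of_restrict_iso φ hzW).1
    haveI := free_stalk_of_iso e.symm z
    haveI : Flat (PicF.XTproj f (Over.mk (V.ι ≫ T.hom))) :=
      haveI : Smooth f := SmoothOfRelativeDimension.smooth (n := d) f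
      inferInstanceAs (Flat (pullback.snd f (V.ι ≫ T.hom)))
    haveI : IsOpenImmersion k := MorphismProperty.of_isPullback hk.flip (inferInstance : IsOpenImmersion V.ι)
    haveI : Flat (k ≫ q) := inferInstance
    exact hx ((S9350.result k q M inferInstance z (Flat.stalkMap k z)).2 (isFlatOverAt_of_free _ _ z))

end Groth.Agent.S9029
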