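import Groth.Statements.S9023
import Groth.Agent.FlatFunSheaf.CondT
import Groth.Agent.Fibres16.LimCritScheme
import Groth.Agent.FDesc.BaseChangeStalk
import Groth.Agent.AlgSpD.RelDim
import Groth.Agent.TrdegBC.Basic

set_option autoImplicit false
set_option backward.isDefEq.respectTransparency false
set_option backward.isDefEq.respectTransparency.types false
universe u
open FlatMor

namespace Groth.Agent.S9023

open CategoryTheory CategoryTheory.Limits AlgebraicGeometry

/-- `F_T` flat at the image gives `F_{T'}` flat. -/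
theorem flatAt_of_flatAt {X S : Scheme.{u}} (f : X ⟶ S) (F : X.Modules) {T' T : Over S} (k : T' ⟶ T)
    (z : ↥(pullback f T'.hom)) (h : FlatMod.IsFlatOverAt (PicF.XTproj f T) (FGA.ET f F T)
      (Groth.Agent.FlatFunSheaf.bcMap f k z)) :
    FlatMod.IsFlatOverAt (PicF.XTproj f T') (FGA.ET f F T') z :=
  Groth.Agent.Fibres16.LimCrit.isFlatOverAt_of_iso _
    ((Groth.Agent.LimTop.compIso (Groth.Agent.FlatFunSheaf.bcMap f k) (pullback.fst f T.hom)
      (Groth.Agent.FlatFunSheaf.bcMap_fst f k)).app F) z
    (Groth.Agent.FDesc.BaseChangeStalk.flatOverAt_baseChange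
      (Groth.Agent.FlatFunSheaf.isPullback_bcMap f k) z _ h)

theorem resTrdeg_isoPullback {X S : Scheme.{u}} (f : X ⟶ S) {T' T : Over S} (k : T' ⟶ T)
    (z : ↥(pullback f T'.hom)) :
    Dual3.resTrdeg (PicF.XTproj f T') z =
      Dual3.resTrdeg (pullback.snd (pullback.snd f T.hom) k.left)
        ((Groth.Agent.FlatFunSheaf.isPullback_bcMap f k).isoPullback.hom z) := by
  have h := Groth.Agent.AlgSpD.resTrdeg_comp
    (Groth.Agent.FlatFunSheaf.isPullback_bcMap f k).isoPullback.hom
    (pullback.snd (pullback.snd f T.hom) k.left) z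
  rw [Groth.Agent.AlgSpD.resTrdeg_eq_zero_of_lqf (Groth.Agent.FlatFunSheaf.isPullback_bcMap f k).isoPullback.hom,
    zero_add, IsPullback.isoPullback_hom_snd] at h
  exact h

open CategoryTheory CategoryTheory.Limits AlgebraicGeometry Opposite in
/-- For f : X → S locally of finite type, F a quasi-coherent O_X-module of finite type and n ≥ 0, the
functor F_n on schemes over S (one point on T when the base change F_T on X_T = X ×_S T is flat over
T in dimensions ≥ n, that is every point of X_T at which F_T is not flat over T has residue field of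
transcendence degree less than n over the residue field of its image in T; empty otherwise; written
as the subfunctor of the final functor generated by that condition) satisfies the sheaf condition
for the fpqc topology. -/
theorem result {X S : Scheme.{u}} (f : X ⟶ S) [LocallyOfFiniteType f] (F : X.Modules) [Coh.IsQCoh F] (hF : CohB1.IsFT F)
    (n : ℕ) :
    Presheaf.IsSheaf (QuotSh.J Scheme.fpqcPrecoverage S)
      (FlatFun.genPSp S (fun T => FlatFun.DimFibresLT n (PicF.XTproj f T)
        {x | ¬ FlatMod.IsFlatOverAt (PicF.XTproj f T) (FGA.ET f F T) x})) := by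
  refine Groth.Agent.FlatFunSheaf.isSheaf_genPSp_of S _ (fun T T₀ k h z hz => ?_) ?_
  · show Dual3.resTrdeg (PicF.XTproj f T) z < (n : Cardinal.{u})
    rw [resTrdeg_isoPullback f k z]
    refine lt_of_le_of_lt (Groth.Agent.TrdegBC.resTrdeg_snd_le _) (h _ ?_)
    rw [← Scheme.Hom.comp_apply, IsPullback.isoPullback_hom_fst]
    exact fun hfl => hz (flatAt_of_flatAt f F k z hfl)
  · intro T ι Ti a _ hs h x hx
    obtain ⟨i, v, hv⟩ := hs (pullback.snd f T.hom x)
    obtain ⟨w, hw, -, hle⟩ :=
      Groth.Agent.TrdegBC.exists_resTrdeg_le_snd (f := pullback.snd f T.hom) (g := (a i).left) x v hv.symm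
    let e := (Groth.Agent.FlatFunSheaf.isPullback_bcMap f (a i)).isoPullback
    obtain ⟨z, rfl⟩ : ∃ z, e.hom z = w := ⟨e.inv w, by rw [← Scheme.Hom.comp_apply, e.inv_hom_id]; rfl⟩
    have hb : Groth.Agent.FlatFunSheaf.bcMap f (a i) z = x := by
      rw [← hw, ← Scheme.Hom.comp_apply]
      rw [IsPullback.isoPullback_hom_fst]
    refine lt_of_le_of_lt (hle.trans_eq (resTrdeg_isoPullback f (a i) z).symm) (h i z fun hfl => hx ?_)
    rw [← hb]
    exact Groth.Agent.FDesc.BaseChangeStalk.flatOverAt_of_baseChange
      (Groth.Agent.FlatFunSheaf.isPullback_bcMap f (a i)) z _ (Flat.stalkMap (a i).left _)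
      (Groth.Agent.Fibres16.LimCrit.isFlatOverAt_of_iso _
        ((Groth.Agent.LimTop.compIso (Groth.Agent.FlatFunSheaf.bcMap f (a i)) (pullback.fst f T.hom)
          (Groth.Agent.FlatFunSheaf.bcMap_fst f (a i))).app F).symm z hfl)

end Groth.Agent.S9023
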