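import Groth.Statements.S1246
import Groth.Agent.RGFlat.Impurity
import Mathlib.RingTheory.Etale.QuasiFinite
import Mathlib.RingTheory.Ideal.GoingDown
import Mathlib.RingTheory.Etale.StandardEtale

set_option autoImplicit false
universe u
open FlatMor

namespace Groth.Agent.S1246

open TensorProduct Groth.Agent.RGFlat.Impurity

attribute [local instance] Algebra.TensorProduct.rightAlgebra

/-- Pushing an impurity down a finite ring map with one point over the base point. -/
theorem exists_isImpurity_finite {A B : Type u} [CommRing A] [CommRing B] [Algebra A B] [Algebra.FiniteType A B]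
    {N : Type u} [AddCommGroup N] [Module B N] [Module.Finite B N] {p : Ideal A} [p.IsPrime]
    (A₂ : Type u) [CommRing A₂] [Algebra A A₂] (p₂ : Ideal A₂) [p₂.IsPrime] [p₂.LiesOver p]
    {C BC NC : Type u} [CommRing C] [CommRing BC] [Algebra A C] [Algebra B BC] [Algebra C BC] [Algebra A BC]
    [IsScalarTower A B BC] [IsScalarTower A C BC] [AddCommGroup NC] [Module BC NC] [Module B NC]
    [IsScalarTower B BC NC] [Module C NC] [IsScalarTower C BC NC] {g : N →ₗ[B] NC}
    {c' c : Ideal C} [c'.IsPrime] [c.IsPrime] {Pc : Ideal BC} [Pc.IsPrime]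
    (h : FlatCA.IsImpurity A B N p C BC NC g c' c Pc)
    [Algebra A₂ C] [IsScalarTower A A₂ C] [Module.Finite A₂ C] [c.LiesOver p₂]
    (huniq : ∀ Q : Ideal C, Q.IsPrime → Q.LiesOver p₂ → Q = c) :
    ∃ (B₂ N₂ : Type u) (_ : CommRing B₂) (_ : Algebra B B₂) (_ : Algebra A₂ B₂) (_ : Algebra A B₂)
      (_ : IsScalarTower A B B₂) (_ : IsScalarTower A A₂ B₂) (_ : AddCommGroup N₂) (_ : Module B₂ N₂)
      (_ : Module B N₂) (_ : IsScalarTower B B₂ N₂) (_ : Module A₂ N₂) (_ : IsScalarTower A₂ B₂ N₂)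
      (g₂ : N →ₗ[B] N₂) (a' : Ideal A₂) (_ : a'.IsPrime) (P₂ : Ideal B₂) (_ : P₂.IsPrime),
      FlatCA.IsImpurity A B N p A₂ B₂ N₂ g₂ a' p₂ P₂ := by
  let B₂ := A₂ ⊗[A] B
  let N₂ := B₂ ⊗[B] N
  let g₂ : N →ₗ[B] N₂ := TensorProduct.mk B B₂ N 1
  haveI hp₂ : Algebra.IsPushout A B A₂ B₂ := inferInstance
  have hg₂ : IsBaseChange B₂ g₂ := TensorProduct.isBaseChange B N B₂
  obtain ⟨_, _, _, _, _, _, _, g', hI⟩ := exists_isImpurity_rebase (A' := A₂) (B' := B₂) (N' := N₂) g₂ hg₂ p₂ h
  obtain ⟨hpush, hbc, hcc, hcp, hPc, hass, hno⟩ := hI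
  haveI := hPc
  obtain ⟨hover, hass₂⟩ := assoc_comap hpush g' hbc (c'.comap (algebraMap A₂ C)) c' rfl Pc hass
  refine ⟨B₂, N₂, inferInstance, inferInstance, inferInstance, inferInstance, inferInstance, inferInstance,
    inferInstance, inferInstance, inferInstance, inferInstance, inferInstance, inferInstance, g₂,
    c'.comap (algebraMap A₂ C), Ideal.comap_isPrime _ _, Pc.comap (algebraMap B₂ BC), Ideal.comap_isPrime _ _,
    hp₂, hg₂, ?_, inferInstance, hover, hass₂, fun Q _ hle hQ => ?_⟩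
  · rw [hcp.over]; exact Ideal.comap_mono hcc
  · haveI : Algebra.IsPushout A₂ B₂ C BC := hpush
    haveI : Module.Finite B₂ BC := Module.Finite.equiv (Algebra.IsPushout.equiv A₂ B₂ C BC).toLinearEquiv
    haveI := hQ
    obtain ⟨Q', hPQ, hQ', hQ'Q⟩ := Ideal.exists_ideal_over_prime_of_isIntegral Q Pc hle
    haveI := hQ'
    haveI : (Q'.comap (algebraMap C BC)).LiesOver p₂ := ⟨by
      rw [hQ.over, ← hQ'Q, Ideal.under_def, Ideal.under_def, Ideal.comap_comap, Ideal.comap_comap,
        ← IsScalarTower.algebraMap_eq, ← IsScalarTower.algebraMap_eq]⟩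
    exact hno Q' hPQ ⟨(huniq _ (Ideal.comap_isPrime _ _) this).symm⟩

theorem result_aux {A B : Type u} [CommRing A] [CommRing B] [Algebra A B] [Algebra.FiniteType A B]
    (N : Type u) [AddCommGroup N] [Module B N] [Module.Finite B N] (p : Ideal A) [p.IsPrime]
    {A₁ B₁ N₁ : Type u} [CommRing A₁] [CommRing B₁] [Algebra A A₁] [Algebra B B₁] [Algebra A₁ B₁] [Algebra A B₁]
    [IsScalarTower A B B₁] [IsScalarTower A A₁ B₁] [AddCommGroup N₁] [Module B₁ N₁] [Module B N₁]
    [IsScalarTower B B₁ N₁] [Module A₁ N₁] [IsScalarTower A₁ B₁ N₁] {f : N →ₗ[B] N₁}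
    {t' t : Ideal A₁} [t'.IsPrime] [t.IsPrime] {P : Ideal B₁} [P.IsPrime]
    (h : FlatCA.IsImpurity A B N p A₁ B₁ N₁ f t' t P)
    [Algebra.FiniteType A A₁] [Algebra.QuasiFiniteAt A t] :
    FlatCA.HasImpurity A B N p (fun A' _ _ t => ∃ _ : t.IsPrime, FlatCA.IsEtaleNhd A A' p t) := by
  haveI := h.2.2.2.1
  obtain ⟨A₂, _, _, _, p₂, _, _, e, he, T, _, hTp₂, hTt, heT, hbij, hfin, huniq⟩ :=
    Algebra.exists_etale_isIdempotentElem_forall_liesOver_eq p t
  let D := A₂ ⊗[A] A₁
  haveI : Module.Flat A₁ D :=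
    Module.Flat.of_linearEquiv ({ (Algebra.TensorProduct.comm A A₂ A₁).toAddEquiv with
      map_smul' := fun a x => by
        show Algebra.TensorProduct.comm A A₂ A₁ (a • x) = a • Algebra.TensorProduct.comm A A₂ A₁ x
        rw [Algebra.smul_def, map_mul, Algebra.smul_def]
        congr 1 } : D ≃ₗ[A₁] A₁ ⊗[A] A₂)
  haveI hTt' : T.LiesOver t := ⟨hTt.symm⟩
  obtain ⟨T', hT'le, hT', hT'over⟩ :=
    Ideal.exists_ideal_le_liesOver_of_le (R := A₁) (S := D) (p := t') (q := t) T h.2.2.1
  let C := Localization.Away e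
  have hd : ∀ Q : Ideal D, Q.IsPrime → e ∉ Q → Disjoint (Submonoid.powers e : Set D) Q := fun Q hQ hn =>
    (Ideal.disjoint_powers_iff_notMem _ hQ.isRadical).mpr hn
  let c := T.map (algebraMap D C)
  let c' := T'.map (algebraMap D C)
  haveI : c.IsPrime := IsLocalization.isPrime_of_isPrime_disjoint (Submonoid.powers e) C T ‹_› (hd T ‹_› heT)
  haveI : c'.IsPrime := IsLocalization.isPrime_of_isPrime_disjoint (Submonoid.powers e) C T' hT'
    (hd T' hT' fun hn => heT (hT'le hn))
  have hcT : c.comap (algebraMap D C) = T := IsLocalization.under_map_of_isPrime_disjoint (Submonoid.powers e) C ‹_› (hd T ‹_› heT)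
  have hcT' : c'.comap (algebraMap D C) = T' :=
    IsLocalization.under_map_of_isPrime_disjoint (Submonoid.powers e) C hT' (hd T' hT' fun hn => heT (hT'le hn))
  haveI : IsScalarTower A A₁ C := IsScalarTower.of_algebraMap_eq fun a => by
    rw [IsScalarTower.algebraMap_apply A D C, IsScalarTower.algebraMap_apply A₁ D C, ← IsScalarTower.algebraMap_apply A A₁ D]
  obtain ⟨BC, NC, _, _, _, _, _, _, _, _, _, _, _, _, gC, Pc, _, hC⟩ :=
    exists_isImpurity_baseChange h C c' c (Ideal.map_mono hT'le)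
      (by rw [IsScalarTower.algebraMap_eq A₁ D C, ← Ideal.comap_comap, hcT']; exact hT'over.over.symm)
      (by rw [IsScalarTower.algebraMap_eq A₁ D C, ← Ideal.comap_comap, hcT]; exact hTt'.over.symm)
  haveI : c.LiesOver p₂ := ⟨by
    rw [Ideal.under_def, IsScalarTower.algebraMap_eq A₂ D C, ← Ideal.comap_comap, hcT]; exact hTp₂.over⟩
  haveI : Module.Finite A₂ C := hfin
  obtain ⟨B₂, N₂, _, _, _, _, _, _, _, _, _, _, _, _, g₂, a', _, P₂, _, himp⟩ :=
    exists_isImpurity_finite (p := p) A₂ p₂ hC fun Q hQ hQp => by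
      haveI := hQ
      have hQe : e ∉ Q.comap (algebraMap D C) :=
        fun he' => hQ.ne_top (Ideal.eq_top_of_isUnit_mem _ he' (IsLocalization.Away.algebraMap_isUnit e))
      haveI : (Q.comap (algebraMap D C)).LiesOver p₂ := ⟨by
        rw [hQp.over, Ideal.under_def, Ideal.under_def, Ideal.comap_comap, ← IsScalarTower.algebraMap_eq]⟩
      have hQT := huniq _ (Ideal.comap_isPrime (algebraMap D C) Q) this hQe
      rw [← IsLocalization.map_comap (Submonoid.powers e) C Q, Ideal.under_def, hQT]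
  exact ⟨A₂, B₂, N₂, inferInstance, inferInstance, inferInstance, inferInstance, inferInstance, inferInstance,
    inferInstance, inferInstance, inferInstance, inferInstance, inferInstance, inferInstance, inferInstance,
    inferInstance, g₂, a', p₂, inferInstance, inferInstance, P₂, inferInstance, himp, inferInstance,
    inferInstance, inferInstance, hbij⟩

end Groth.Agent.S1246

namespace Groth.Agent.S1246

/-- Ring form, X = Spec B affine: let B be a finite type A-algebra, N a finite B-module and p a prime of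
A. If there is an impurity of N above p whose base change A → A' is of finite type and quasi-finite
at the point t, then there is an impurity of N above p for which (A', t) is an elementary étale ring
map at p. -/
theorem result {A B : Type u} [CommRing A] [CommRing B] [Algebra A B] [Algebra.FiniteType A B]
    (N : Type u) [AddCommGroup N] [Module B N] [Module.Finite B N] (p : Ideal A) [p.IsPrime]
    (h : FlatCA.HasImpurity A B N p (fun A' _ _ t => ∃ _ : t.IsPrime, Algebra.FiniteType A A' ∧ Algebra.QuasiFiniteAt A t)) :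
    FlatCA.HasImpurity A B N p (fun A' _ _ t => ∃ _ : t.IsPrime, FlatCA.IsEtaleNhd A A' p t) := by
  obtain ⟨A₁, B₁, N₁, _, _, _, _, _, _, _, _, _, _, _, _, _, _, f, t', t, _, _, P, _, himp, _, hft, hqf⟩ := h
  haveI := hft
  haveI := hqf
  exact result_aux N p himp

end Groth.Agent.S1246
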