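import Groth.Statements.S1226
import Groth.Agent.S1246
import Mathlib.RingTheory.QuasiFinite.Basic
import Mathlib.RingTheory.RingHom.Etale

set_option autoImplicit false
universe u
open FlatMor

namespace Groth.Agent.S1226

/-- Ring form, X = Spec B affine: let B be a finite type A-algebra, N a finite B-module and p a prime of
A; let A' be an A-algebra with a prime p' over p such that A' is of finite type over A and
quasi-finite at p', and let B', N' be the base changes of B, N. If N is pure along the fibre over p
then N' is pure along the fibre over p'. -/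
theorem result {A B : Type u} [CommRing A] [CommRing B] [Algebra A B] [Algebra.FiniteType A B]
    (N : Type u) [AddCommGroup N] [Module B N] [Module.Finite B N] (p : Ideal A) [p.IsPrime]
    (A' B' N' : Type u) [CommRing A'] [CommRing B'] [Algebra A A'] [Algebra B B'] [Algebra A' B'] [Algebra A B']
    [IsScalarTower A B B'] [IsScalarTower A A' B'] [Algebra.IsPushout A B A' B']
    [AddCommGroup N'] [Module B' N'] [Module B N'] [IsScalarTower B B' N'] (f : N →ₗ[B] N') (hf : IsBaseChange B' f)
    (p' : Ideal A') [p'.IsPrime] [p'.LiesOver p] [Algebra.FiniteType A A'] [Algebra.QuasiFiniteAt A p']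
    (h : FlatCA.IsPureAlong A B N p) : FlatCA.IsPureAlong A' B' N' p' := by
  classical
  intro A₂ B₂ N₂ _ _ _ _ _ _ _ _ _ _ _ _ _ _ g s' s _ _ P₂ _ hnhd himp
  obtain ⟨het, hsp', hbij⟩ := hnhd
  haveI := het
  haveI := hsp'
  obtain ⟨hpush, hg, hss, -, hP, hass, hno⟩ := himp
  letI : Algebra A A₂ := ((algebraMap A' A₂).comp (algebraMap A A')).toAlgebra
  haveI : IsScalarTower A A' A₂ := IsScalarTower.of_algebraMap_eq fun _ => rfl
  letI : Algebra B B₂ := ((algebraMap B' B₂).comp (algebraMap B B')).toAlgebra
  haveI : IsScalarTower B B' B₂ := IsScalarTower.of_algebraMap_eq fun _ => rfl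
  letI : Algebra A B₂ := ((algebraMap A₂ B₂).comp (algebraMap A A₂)).toAlgebra
  haveI : IsScalarTower A A₂ B₂ := IsScalarTower.of_algebraMap_eq fun _ => rfl
  haveI : IsScalarTower A B' B₂ := IsScalarTower.of_algebraMap_eq fun a => by
    rw [IsScalarTower.algebraMap_apply A A' B', ← IsScalarTower.algebraMap_apply A' B' B₂,
      IsScalarTower.algebraMap_apply A' A₂ B₂]
    rfl
  haveI : IsScalarTower A B B₂ := IsScalarTower.of_algebraMap_eq fun a => by
    rw [IsScalarTower.algebraMap_apply B B' B₂, ← IsScalarTower.algebraMap_apply A B B',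
      ← IsScalarTower.algebraMap_apply A B' B₂]
  letI : Module B N₂ := Module.compHom N₂ (algebraMap B B')
  haveI : IsScalarTower B B' N₂ := IsScalarTower.of_algebraMap_smul fun _ _ => rfl
  haveI : IsScalarTower B B₂ N₂ := IsScalarTower.of_algebraMap_smul fun b w => by
    show algebraMap B' B₂ (algebraMap B B' b) • w = algebraMap B B' b • w
    rw [IsScalarTower.algebraMap_smul]
  haveI : Algebra.IsPushout A A' B B' := Algebra.IsPushout.symm inferInstance
  haveI : Algebra.IsPushout A' A₂ B' B₂ := hpush.symm
  have hpush₂ : Algebra.IsPushout A B A₂ B₂ :=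
    ((Algebra.IsPushout.comp_iff (R := A) (S := A') (R' := B) (S' := B') (T := A₂) (T' := B₂)).mpr inferInstance).symm
  have hg₂ : IsBaseChange B₂ ((g.restrictScalars B) ∘ₗ f) := hf.comp hg
  haveI : s.LiesOver p := Ideal.LiesOver.trans s p' p
  haveI : Algebra.FiniteType A A₂ := Algebra.FiniteType.trans ‹Algebra.FiniteType A A'› inferInstance
  haveI : Algebra.QuasiFiniteAt A s := by
    haveI : Algebra.QuasiFinite A' A₂ := inferInstance
    letI := Localization.AtPrime.algebraOfLiesOver p' s
    haveI : Algebra.QuasiFinite A (Localization.AtPrime p') := ‹Algebra.QuasiFiniteAt A p'›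
    haveI : Algebra.QuasiFinite A' (Localization.AtPrime s) := inferInstance
    haveI : Algebra.QuasiFinite (Localization.AtPrime p') (Localization.AtPrime s) :=
      Algebra.QuasiFinite.of_restrictScalars A' (Localization.AtPrime p') (Localization.AtPrime s)
    exact Algebra.QuasiFinite.trans A (Localization.AtPrime p') (Localization.AtPrime s)
  obtain ⟨A₃, B₃, N₃, _, _, _, _, _, _, _, _, _, _, _, _, _, _, g₃, a', a, _, _, P₃, _, himp₃, _, hnhd₃⟩ :=
    Groth.Agent.S1246.result_aux N p
      (show FlatCA.IsImpurity A B N p A₂ B₂ N₂ ((g.restrictScalars B) ∘ₗ f) s' s P₂ from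
        ⟨hpush₂, hg₂, hss, inferInstance, hP, hass, hno⟩)
  exact h A₃ B₃ N₃ g₃ a' a P₃ hnhd₃ himp₃

end Groth.Agent.S1226
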