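import Groth.Statements.S9030
import Groth.Agent.FlatMor62.DimGETop
import Groth.Agent.FlatMor62.DimGEAway
import Groth.Agent.FlatMor62.DevDim
import Groth.Agent.RG.ContentExists
import Groth.Agent.PruferSerre.Alg

set_option autoImplicit false
set_option linter.style.haveILetI false
universe u
open FlatMor

namespace Groth.Agent.S9030

open TensorProduct in
/-- The hypothesis carried along the dévissage. -/
def FlatGE (A : Type u) [CommRing A] (g : A) (n : ℕ) (C : Type u) [CommRing C] [Algebra A C] (G : Type u)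
    [AddCommGroup G] [Module C G] [Module A G] [IsScalarTower A C G] : Prop :=
  ∀ (t : Ideal A) (P : Ideal C) [t.IsPrime] [P.IsPrime] [P.LiesOver t], g ∉ t →
    (n : Cardinal.{u}) ≤ Algebra.trdeg (A ⧸ t) (C ⧸ P) → FlatCA.FlatAt A P G

theorem flatGE_of_flatInDimGE {A : Type u} [CommRing A] (g : A) {n : ℕ} {C : Type u} [CommRing C] [Algebra A C]
    {G : Type u} [AddCommGroup G] [Module C G] [Module A G] [IsScalarTower A C G]
    (h : FlatCA.FlatInDimGE n A C G) : FlatGE A g n C G := by
  intro t P _ _ _ _ hn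
  by_contra hnf
  have := h t P hnf
  rw [Groth.Agent.FlatMor62.DimGE.trdeg_residue] at this
  exact absurd this (not_lt.mpr hn)

open AlgebraicGeometry CategoryTheory Groth.Agent.FlatMor62 in
/-- The induction along the dévissage. -/
theorem key {A S : Type u} [CommRing A] [CommRing S] [Algebra A S]
    (N : Type u) [AddCommGroup N] [Module S N]
    (s : Ideal A) [s.IsPrime] (D : FlatCA.CompleteDevissage A S N s)
    (hdim : ∀ i, i < D.n → ∃ e : ℕ, FlatCA.SmoothRelDim e A (D.B i))
    (d : ℕ) : ∀ (k i : ℕ), i + k + 1 = D.n → ∀ g : A, g ∉ s → Module.FinitePresentation (D.B i) (D.M i) →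
      FlatGE A g (d + 1) (D.B i) (D.M i) →
      ∃ g' ∉ s, ∃ (Z : Scheme.{u}) (ι : Z ⟶ Spec (CommRingCat.of A)), Mono ι ∧ LocallyOfFinitePresentation ι ∧
        QuasiCompact ι ∧ QuasiSeparated ι ∧
        DimGEModels.Reps A g' d (D.B i) (D.M i) (fun A' _ _ => DimGETop.Fac ι A') := by
  classical
  intro k
  induction k using Nat.strong_induction_on with
  | _ k ih =>
  intro i hik g hgs hfp hflat
  have hin : i < D.n := by omega
  obtain ⟨e, hsm⟩ := hdim i hin
  have hirr := D.geomIrred i hin
  haveI := D.smooth i hin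
  haveI := hfp
  have htriv : ∀ g' : A, DimGEModels.Reps A g' d (D.B i) (D.M i) (fun _ => True) →
      DimGEModels.Reps A g' d (D.B i) (D.M i) (fun A' _ _ => DimGETop.Fac (𝟙 (Spec (CommRingCat.of A))) A') := by
    intro g' h A' D' G' _ _ _ _ _ _ _ _ _ _ _ _ _ _ _ φ hφ hg
    exact (h A' D' G' φ hφ hg).trans (iff_of_true trivial ⟨_, Category.comp_id _⟩)
  rcases lt_trichotomy e d with hed | hed | hed
  · exact ⟨g, hgs, _, 𝟙 _, inferInstance, inferInstance, inferInstance, inferInstance,
      htriv g (DimGETop.vacuous hsm hirr hed g (D.M i))⟩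
  · subst hed
    obtain ⟨Z, ι, h1, h2, h3, h4, h5⟩ := DimGETop.exists_rep hsm hirr g (D.M i)
    exact ⟨g, hgs, Z, ι, h1, h2, h3, h4, h5⟩
  haveI := HP.DevStep.projective_of_smooth hirr
  have hdom : ∀ (K : Type u) [Field K] [Algebra A K], IsDomain (TensorProduct A K (D.B i)) :=
    fun K _ _ => RG.ContentExists.isDomain_fibre (HP.DevStep.geomIntegral hirr) K
  let η := s.map (algebraMap A (D.B i))
  obtain ⟨y, hy, hys⟩ : ∃ y : Ideal (D.B i), y.IsPrime ∧ y.LiesOver s := by
    haveI : SmoothOfRelativeDimension e (DimGEScheme.str A (D.B i)) := hsm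
    haveI : Smooth (DimGEScheme.str A (D.B i)) := SmoothOfRelativeDimension.smooth (n := e) _
    haveI : GeometricallyIrreducible (DimGEScheme.str A (D.B i)) := hirr
    obtain ⟨z, hz, -⟩ := S9029.exists_generic e (DimGEScheme.str A (D.B i)) (⟨s, inferInstance⟩ : PrimeSpectrum A)
    exact ⟨z.asIdeal, z.2, ⟨(congrArg PrimeSpectrum.asIdeal hz).symm⟩⟩
  haveI := hys
  haveI : η.LiesOver s := ⟨(DevDim.comap_map_eq (p := s) y).symm⟩
  have hηflat : FlatCA.FlatAt A η (D.M i) := hflat s η hgs
    (le_trans (by exact_mod_cast hed) ((DimGETop.trdeg_facts hsm hirr s η).2 rfl))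
  obtain ⟨h, hh, β, hβ⟩ := DimGEStep.exists_split s (D.α i) (D.fibreIso i hin) hηflat
  haveI : Algebra.FinitePresentation A (D.B i) := inferInstance
  have hopen : IsOpen (PrimeSpectrum.comap (algebraMap A (D.B i)) '' (PrimeSpectrum.basicOpen h : Set (PrimeSpectrum (D.B i)))) :=
    PrimeSpectrum.isOpenMap_comap_of_hasGoingDown_of_finitePresentation _ (PrimeSpectrum.basicOpen _).2
  obtain ⟨_, ⟨g₂, rfl⟩, hsg, hsub⟩ := PrimeSpectrum.isTopologicalBasis_basic_opens.exists_subset_of_mem_open
    (show (⟨s, inferInstance⟩ : PrimeSpectrum A) ∈ PrimeSpectrum.comap (algebraMap A (D.B i)) '' (PrimeSpectrum.basicOpen h : Set (PrimeSpectrum (D.B i))) from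
      ⟨⟨η, inferInstance⟩, hh, PrimeSpectrum.ext ((Ideal.LiesOver.over (P := η) (p := s)).symm)⟩) hopen
  let g₁ := g * g₂
  have hg₁ : g₁ ∉ s := fun hm => ((inferInstance : s.IsPrime).mem_or_mem hm).elim hgs hsg
  have hcov : ∀ (t : Ideal A) [t.IsPrime], g₁ ∉ t →
      ∃ P : Ideal (D.B i), P.IsPrime ∧ P.comap (algebraMap A (D.B i)) = t ∧ h ∉ P := fun t _ ht => by
    obtain ⟨P, hP, hPt⟩ := hsub (show (⟨t, inferInstance⟩ : PrimeSpectrum A) ∈ PrimeSpectrum.basicOpen g₂ from
      fun hm => ht (Ideal.mul_mem_left _ g hm))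
    exact ⟨P.asIdeal, P.2, congrArg PrimeSpectrum.asIdeal hPt, hP⟩
  by_cases hlast : i + 1 = D.n
  · refine ⟨g₁, hg₁, _, 𝟙 _, inferInstance, inferInstance, inferInstance, inferInstance, htriv g₁ ?_⟩
    haveI : Subsingleton (D.M i ⧸ LinearMap.range (D.α i)) := by
      rw [Submodule.Quotient.subsingleton_iff, LinearMap.range_eq_top]
      have := D.cokerLast
      rwa [show D.n - 1 = i by omega] at this
    exact DimGEModels.reps_step hdom (D.α i) h β hβ hcov DimGEModels.reps_subsingleton
  have hi1 : i + 1 < D.n := by omega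
  haveI := D.finiteBA (i + 1) hi1
  haveI : Module.Finite (D.B i) (D.A (i + 1)) :=
    Module.Finite.of_surjective (Algebra.linearMap (D.B i) (D.A (i + 1))) (D.surjBA' i hi1)
  haveI : Algebra.FinitePresentation (D.B i) (D.A (i + 1)) := D.fpBA' i hi1
  haveI := D.smooth (i + 1) hi1
  haveI : Module.FinitePresentation (D.B i) (D.M (i + 1)) := by
    haveI : Module.FinitePresentation (D.B i) (D.M i ⧸ LinearMap.range (D.α i)) :=
      Module.finitePresentation_of_surjective (LinearMap.range (D.α i)).mkQ (Submodule.mkQ_surjective _)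
        (by rw [Submodule.ker_mkQ]; exact Submodule.fg_range _)
    exact Module.FinitePresentation.of_equiv (D.isoCoker i hi1)
  haveI : Module.FinitePresentation (D.A (i + 1)) (D.M (i + 1)) :=
    PruferSerre.finitePresentation_of_surjective_algebraMap (P := D.B i) (D.surjBA' i hi1)
  haveI : Algebra.FinitePresentation A (D.A (i + 1)) := Algebra.FinitePresentation.trans A (D.B i) (D.A (i + 1))
  haveI : Algebra.FinitePresentation (D.B (i + 1)) (D.A (i + 1)) :=
    Algebra.FinitePresentation.of_restrict_scalars_finitePresentation A (D.B (i + 1)) (D.A (i + 1))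
  haveI : Module.FinitePresentation (D.B (i + 1)) (D.A (i + 1)) := Module.FinitePresentation.of_finite_of_finitePresentation _ _
  have hfp' : Module.FinitePresentation (D.B (i + 1)) (D.M (i + 1)) :=
    Module.FinitePresentation.trans (D.B (i + 1)) (D.M (i + 1)) (D.A (i + 1))
  haveI : IsScalarTower A (D.A (i + 1)) (D.M (i + 1)) := IsScalarTower.of_algebraMap_smul fun a m => by
    rw [IsScalarTower.algebraMap_apply A (D.B (i + 1)) (D.A (i + 1)), algebraMap_smul, algebraMap_smul]
  haveI : IsScalarTower A (D.B i) (D.M (i + 1)) := IsScalarTower.of_algebraMap_smul fun a m => by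
    rw [← algebraMap_smul (D.A (i + 1)) (algebraMap A (D.B i) a) m,
      ← IsScalarTower.algebraMap_apply A (D.B i) (D.A (i + 1)), algebraMap_smul]
  have hflat' : FlatGE A g₁ (d + 1) (D.B (i + 1)) (D.M (i + 1)) := by
    intro t P _ _ _ ht hd
    refine DimGE.flatAt_of_forall_over (C := D.A (i + 1)) P fun P₁ _ hP₁ => ?_
    haveI := hP₁
    haveI : P₁.LiesOver t := Ideal.LiesOver.trans P₁ P t
    let Q := P₁.comap (algebraMap (D.B i) (D.A (i + 1)))
    haveI : P₁.LiesOver Q := ⟨rfl⟩
    haveI : Q.LiesOver t := ⟨by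
      rw [Ideal.under_def, Ideal.comap_comap, ← IsScalarTower.algebraMap_eq]
      exact (inferInstance : P₁.LiesOver t).over⟩
    have htr : (d + 1 : ℕ) ≤ Algebra.trdeg (A ⧸ t) (D.B i ⧸ Q) := by
      rw [← DimGE.trdeg_over t Q P₁ (C := D.A (i + 1)), DimGE.trdeg_over t P P₁ (C := D.A (i + 1))]
      exact hd
    have hQ : FlatCA.FlatAt A Q (D.M i) := hflat t Q (fun hm => ht (Ideal.mul_mem_right _ _ hm)) htr
    have hgQ : algebraMap A (D.B i) g₁ ∉ Q := fun hm => ht ((Ideal.mem_of_liesOver Q t g₁).mpr hm)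
    haveI : Module.Flat A (Fin (D.r i) → D.B i) :=
      Module.Flat.of_linearEquiv (DFinsupp.linearEquivFunOnFintype (R := A) (M := fun _ : Fin (D.r i) => D.B i)).symm
    have hK : FlatCA.FlatAt A Q (D.M i ⧸ LinearMap.range (D.α i)) :=
      (DimGE.flatAt_coker_iff (D.α i) (LinearMap.range (D.α i)).mkQ (LinearMap.exact_map_mkQ_range (D.α i))
        (Submodule.mkQ_surjective _) Q fun L _ _ x hx =>
          DimGEAway.exists_smul_eq_zero hdom g₁ (D.α i) h β hβ hcov Q hgQ L x hx).mp hQ
    exact DimGE.flatAt_of_over Q P₁ (DimGE.flatAt_congr (D.isoCoker i hi1) Q hK)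
  obtain ⟨g', hg', Z, ι, h1, h2, h3, h4, h5⟩ :=
    ih (D.n - (i + 1) - 1) (by omega) (i + 1) (by omega) g₁ hg₁ hfp' hflat'
  refine ⟨g' * g₁, fun hm => ((inferInstance : s.IsPrime).mem_or_mem hm).elim hg' hg₁, Z, ι, h1, h2, h3, h4, ?_⟩
  refine DimGEModels.reps_step hdom (D.α i) h β hβ (fun t _ ht => hcov t fun hm => ht (Ideal.mul_mem_left _ g' hm)) ?_
  exact ((DimGEModels.reps_down (D := D.B i) (DimGEModels.reps_up (C := D.A (i + 1)) h5)).mul g₁).congr
    (D.isoCoker i hi1).symm

open CategoryTheory CategoryTheory.Limits AlgebraicGeometry Opposite in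
/-- In this form S = Spec A and X = Spec B are affine, as the existence of a complete dévissage forces,
and the test schemes are affine as well, which suffices. Let B be a finitely presented A-algebra, N
a finitely presented B-module, s a prime of A and d ≥ 0. Assume given a complete dévissage (A_i,
B_i, M_i, α_i) of N over B over A over s (the ring-level structure) in which, for every step i, the
smooth A-algebra B_i has relative dimension equal to the Krull dimension of the support of the fibre
module M_i ⊗ κ(s) over B_i ⊗ κ(s) — together this is the complete dévissage of the module over the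
scheme Spec B over Spec A over the point s — and assume that N is flat over A in dimensions ≥ d + 1.
Then, over some principal open neighbourhood D(g) of s, the functor F_d is representable by a
monomorphism of finite presentation: there are g ∈ A not in s and a monomorphism of schemes Z → Spec
A which is locally of finite presentation, quasi-compact and quasi-separated, such that for every
A-algebra A' in which g is invertible, with base changes B' of B and N' of N (any models), N' is
flat over A' in dimensions ≥ d if and only if Spec A' → Spec A factors through Z. -/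
theorem result {A B : Type u} [CommRing A] [CommRing B] [Algebra A B] [Algebra.FinitePresentation A B]
    (N : Type u) [AddCommGroup N] [Module B N] [Module A N] [IsScalarTower A B N] [Module.FinitePresentation B N]
    (s : Ideal A) [s.IsPrime] (D : FlatCA.CompleteDevissage A B N s)
    (hdim : ∀ i, i < D.n → ∃ e : ℕ, FlatCA.SmoothRelDim e A (D.B i) ∧
      Module.supportDim (s.Fiber (D.B i)) (FlatCA.fiberMod s (D.B i) (D.M i)) = e)
    (d : ℕ) (hflat : FlatCA.FlatInDimGE (d + 1) A B N) :
    ∃ g : A, g ∉ s ∧ ∃ (Z : Scheme.{u}) (i : Z ⟶ Spec (CommRingCat.of A)),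
      Mono i ∧ LocallyOfFinitePresentation i ∧ QuasiCompact i ∧ QuasiSeparated i ∧
      ∀ (A' B' N' : Type u) [CommRing A'] [CommRing B'] [Algebra A A'] [Algebra B B'] [Algebra A' B'] [Algebra A B']
        [IsScalarTower A B B'] [IsScalarTower A A' B'] [Algebra.IsPushout A B A' B']
        [AddCommGroup N'] [Module B' N'] [Module B N'] [IsScalarTower B B' N'] [Module A' N'] [IsScalarTower A' B' N']
        (φ : N →ₗ[B] N'), IsBaseChange B' φ → IsUnit (algebraMap A A' g) →
        (FlatCA.FlatInDimGE d A' B' N' ↔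
          ∃ k : Spec (CommRingCat.of A') ⟶ Z, k ≫ i = Spec.map (CommRingCat.ofHom (algebraMap A A'))) := by
  classical
  haveI := D.fpSA
  haveI : Module.Finite B (D.A 0) := Module.Finite.of_surjective (Algebra.linearMap B (D.A 0)) D.surjSA
  haveI := D.finiteBA 0 D.pos
  haveI := D.smooth 0 D.pos
  haveI : IsScalarTower A (D.A 0) (D.M 0) := IsScalarTower.of_algebraMap_smul fun a m => by
    rw [IsScalarTower.algebraMap_apply A (D.B 0) (D.A 0), algebraMap_smul, algebraMap_smul]
  haveI : IsScalarTower A B (D.M 0) := IsScalarTower.of_algebraMap_smul fun a m => by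
    rw [← algebraMap_smul (D.A 0) (algebraMap A B a) m, ← IsScalarTower.algebraMap_apply A B (D.A 0), algebraMap_smul]
  haveI : Module.FinitePresentation B (D.M 0) := Module.FinitePresentation.of_equiv D.isoN
  haveI : Module.FinitePresentation (D.A 0) (D.M 0) :=
    Groth.Agent.PruferSerre.finitePresentation_of_surjective_algebraMap (P := B) D.surjSA
  haveI : Algebra.FinitePresentation A (D.A 0) := Algebra.FinitePresentation.trans A B (D.A 0)
  haveI : Algebra.FinitePresentation (D.B 0) (D.A 0) :=
    Algebra.FinitePresentation.of_restrict_scalars_finitePresentation A (D.B 0) (D.A 0)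
  haveI : Module.FinitePresentation (D.B 0) (D.A 0) := Module.FinitePresentation.of_finite_of_finitePresentation _ _
  have hfp : Module.FinitePresentation (D.B 0) (D.M 0) := Module.FinitePresentation.trans (D.B 0) (D.M 0) (D.A 0)
  have hflat0 : FlatCA.FlatInDimGE (d + 1) A (D.B 0) (D.M 0) := by
    rw [Groth.Agent.FlatMor62.DimGE.flatInDimGE_iff (C := D.A 0),
      ← Groth.Agent.FlatMor62.DimGE.flatInDimGE_iff (D := B),
      ← Groth.Agent.FlatMor62.DimGE.flatInDimGE_congr D.isoN]
    exact hflat
  obtain ⟨g, hg, Z, ι, h1, h2, h3, h4, h5⟩ := key N s D (fun i hi => (hdim i hi).imp fun e he => he.1) d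
    (D.n - 1) 0 (by have := D.pos; omega) 1 ((Ideal.ne_top_iff_one s).mp (Ideal.IsPrime.ne_top inferInstance))
    hfp (flatGE_of_flatInDimGE 1 hflat0)
  refine ⟨g, hg, Z, ι, h1, h2, h3, h4, ?_⟩
  intro A' B' N' _ _ _ _ _ _ _ _ _ _ _ _ _ _ _ φ hφ hu
  exact ((Groth.Agent.FlatMor62.DimGEModels.reps_down (D := B)
    (Groth.Agent.FlatMor62.DimGEModels.reps_up (C := D.A 0) h5)).congr D.isoN.symm) A' B' N' φ hφ hu

end Groth.Agent.S9030
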