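import Groth.Statements.S1212
import Groth.Agent.FlatMisc.SmulTensor

set_option autoImplicit false
universe u
open FlatMor

namespace Groth.Agent.S1212

open TensorProduct IsLocalRing in
/-- Let R be a local ring, S an R-algebra and N an S-module which is projective as an R-module, such
that the closed fibre ring of S is Noetherian and the closed fibre module of N is finite over it.
Then every prime q of S, over p in R, which is an associated prime (the annihilator of an element)
of the S-module N ⊗_R κ(p) satisfies q + 𝔪_R S ≠ S. -/
theorem result {R S : Type u} [CommRing R] [IsLocalRing R] [CommRing S] [Algebra R S]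
    (N : Type u) [AddCommGroup N] [Module S N] [Module R N] [IsScalarTower R S N] [Module.Projective R N]
    [IsNoetherianRing ((maximalIdeal R).Fiber S)]
    [Module.Finite ((maximalIdeal R).Fiber S) (FlatCA.fiberMod (maximalIdeal R) S N)]
    (p : Ideal R) [p.IsPrime] (q : Ideal S) [q.IsPrime] [q.LiesOver p]
    (hq : q ∈ FlatCA.ass S (N ⊗[R] p.ResidueField)) :
    q ⊔ (maximalIdeal R).map (algebraMap R S) ≠ ⊤ := by
  intro htop
  obtain ⟨hqp, x, hx⟩ := hq
  rw [Ideal.eq_top_iff_one, Submodule.mem_sup] at htop
  obtain ⟨a, ha, b, hb, hab⟩ := htop
  rw [hx, Submodule.mem_annihilator_span_singleton] at ha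
  refine hqp.ne_top ((Ideal.eq_top_iff_one q).mpr ?_)
  rw [hx, Submodule.mem_annihilator_span_singleton, one_smul]
  have hbx : b • x = x := by
    have h := congrArg (fun s : S => s • x) hab
    simpa [add_smul, ha] using h
  let T : N →ₗ[R] N := (LinearMap.lsmul S N b).restrictScalars R
  refine Groth.Agent.FlatMisc.SmulTensor.eq_zero_of_fixed_of_projective T ?_ _ x ?_
  · intro n
    show b • n ∈ _
    clear hab hbx
    induction hb using Submodule.span_induction generalizing n with
    | mem z hz =>
      obtain ⟨i, hi, rfl⟩ := hz
      rw [algebraMap_smul]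
      exact Submodule.smul_mem_smul hi trivial
    | zero => simp
    | add y z _ _ ihy ihz => rw [add_smul]; exact add_mem (ihy n) (ihz n)
    | smul s z _ ih => rw [smul_eq_mul, mul_comm, mul_smul]; exact ih (s • n)
  · refine Eq.trans ?_ hbx
    clear hbx hx ha
    induction x with
    | zero => simp
    | tmul n m => simp [T, TensorProduct.smul_tmul']
    | add y z hy hz => simp only [map_add, hy, hz, smul_add]

end Groth.Agent.S1212
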