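import Groth.Statements.S9027
import Groth.Agent.S9350
import Groth.Agent.S17417
import Groth.Agent.AlgSpD.RelDim

set_option autoImplicit false
universe u
open FlatMor

namespace Groth.Agent.S9027

open CategoryTheory CategoryTheory.Limits AlgebraicGeometry Opposite in
/-- For f : X → S locally of finite type, F a quasi-coherent O_X-module of finite type, an etale
morphism h : X' → X and n ≥ 0, the functor F_n of F over S is a subfunctor of the functor F_n of the
pullback h^*F on X' over S: for every scheme T over S, if the base change F_T on X ×_S T is flat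
over T in dimensions ≥ n (transcendence-degree form) then so is the base change of h^*F on X' ×_S T. -/
theorem result {X X' S : Scheme.{u}} (f : X ⟶ S) [LocallyOfFiniteType f] (F : X.Modules) [Coh.IsQCoh F] (hF : CohB1.IsFT F)
    (h : X' ⟶ X) [Etale h] (n : ℕ) (T : Over S)
    (hT : FlatFun.DimFibresLT n (PicF.XTproj f T)
        {x | ¬ FlatMod.IsFlatOverAt (PicF.XTproj f T) (FGA.ET f F T) x}) :
    FlatFun.DimFibresLT n (PicF.XTproj (h ≫ f) T)
        {x | ¬ FlatMod.IsFlatOverAt (PicF.XTproj (h ≫ f) T) (FGA.ET (h ≫ f) ((Scheme.Modules.pullback h).obj F) T) x} := by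
  intro x' hx'
  let k : PicF.XT (h ≫ f) T ⟶ PicF.XT f T :=
    pullback.map (h ≫ f) T.hom f T.hom h (𝟙 _) (𝟙 _) (Category.comp_id _)
      ((Category.comp_id _).trans (Category.id_comp _).symm)
  have hk1 : k ≫ PicF.XTproj f T = PicF.XTproj (h ≫ f) T :=
    (pullback.lift_snd _ _ _).trans (Category.comp_id _)
  have hk2 : k ≫ pullback.fst f T.hom = pullback.fst (h ≫ f) T.hom ≫ h := pullback.lift_fst _ _ _
  have hsq : IsPullback k (pullback.fst (h ≫ f) T.hom) (pullback.fst f T.hom) h :=
    IsPullback.of_right (h₁₂ := PicF.XTproj f T) (v₁₃ := T.hom) (h₂₂ := f)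
      (by rw [hk1]; exact (IsPullback.of_hasPullback (h ≫ f) T.hom).flip) hk2
      (IsPullback.of_hasPullback f T.hom).flip
  haveI : Etale k := MorphismProperty.of_isPullback hsq.flip (inferInstance : Etale h)
  haveI := Groth.Agent.AlgSpB.locallyQuasiFinite_of_etale k
  let e : (Scheme.Modules.pullback k).obj (FGA.ET f F T) ≅
      FGA.ET (h ≫ f) ((Scheme.Modules.pullback h).obj F) T :=
    (Scheme.Modules.pullbackComp k (pullback.fst f T.hom)).app F ≪≫
      (Scheme.Modules.pullbackCongr hk2).app F ≪≫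
      ((Scheme.Modules.pullbackComp (pullback.fst (h ≫ f) T.hom) h).app F).symm
  haveI : Coh.IsQCoh (FGA.ET f F T) := inferInstance
  have hmem : k x' ∈ {x | ¬ FlatMod.IsFlatOverAt (PicF.XTproj f T) (FGA.ET f F T) x} := by
    intro hfl
    have h2 := (Groth.Agent.S9350.result k (PicF.XTproj f T) _ ‹_› x' (Flat.stalkMap k x')).1 hfl
    rw [hk1] at h2
    exact hx' (Groth.Agent.S17417.isFlatOverAt_of_iso _ e x' h2)
  have hd : Dual3.resTrdeg (PicF.XTproj f T) (k x') < (n : Cardinal.{u}) := hT _ hmem
  show Dual3.resTrdeg (PicF.XTproj (h ≫ f) T) x' < (n : Cardinal.{u})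
  rwa [← hk1, Groth.Agent.AlgSpD.resTrdeg_comp, Groth.Agent.AlgSpD.resTrdeg_eq_zero_of_lqf k,
    zero_add]

end Groth.Agent.S9027
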