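import Groth.Statements.S8885
import Groth.Agent.AssSch.ExtTensor
import Groth.Agent.S4641

set_option autoImplicit false
universe u
open CategoryTheory CategoryTheory.Limits AlgebraicGeometry TopologicalSpace
open SDiv

namespace Groth.Agent.S8885

open Groth.Agent.AssSch Groth.Agent.AssSch.ExtTensor Groth.Agent.AssSch.TensorFlat

theorem mem_ass_structure_iff_maximal {T : Scheme.{u}} [IsLocallyNoetherian T]
    (h : _root_.AssSch.NoEmbedded (Coh.structureModule T)) (t : T) :
    t ∈ _root_.AssSch.Ass (Coh.structureModule T) ↔ ∀ t' : T, t' ⤳ t → t' = t := by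
  refine ⟨fun ht t' ht' => ?_, fun hmax => ?_⟩
  · obtain ⟨a, ha, hat⟩ := Basic.exists_mem_ass_specializes (Coh.structureModule T) (S4641.nontrivial_stalk t')
    obtain rfl := h t ht a ha (hat.trans ht')
    exact (ht'.antisymm hat).eq
  · obtain ⟨a, ha, hat⟩ := Basic.exists_mem_ass_specializes (Coh.structureModule T) (S4641.nontrivial_stalk t)
    exact hmax a hat ▸ ha

theorem fibre_iff {X S : Scheme.{u}} (f : X ⟶ S) (F : X.Modules) (x : X) {s : S} (y : f.fiber s)
    (hy : f.fiberι s y = x) :
    Curv2.IsAssPoint ((Scheme.Modules.pullback (f.fiberι s)).obj F) y ↔ FibreAss f F x :=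
  hy ▸ mem_ass_fibre_iff f F s y

/-- Let f : X ⟶ S be locally of finite type, g : S' ⟶ S a morphism, X' = X ×_S S' with projections g' :
X' ⟶ X and f' : X' ⟶ S', F a quasi-coherent O_X-module and F' = g'^*F. For a point x' of X' with
images x in X and s' in S': x' lies in the relative assassin Ass_{X'/S'}(F') (x' is an associated
point of the pullback of F' to the fibre X'_{s'}) if and only if x lies in Ass_{X/S}(F) and x' is
maximal under generization among the points of X' mapping to x and to s' (that is, x' is the generic
point of some irreducible component of Spec(κ(s') ⊗_{κ(s)} κ(x))). -/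
theorem result {X S S' : Scheme.{u}} (f : X ⟶ S) [LocallyOfFiniteType f] (g : S' ⟶ S)
    (F : X.Modules) (hF : Coh.IsQCoh F) (x' : ↥(pullback f g)) :
    Curv2.IsAssPoint
        ((Scheme.Modules.pullback ((pullback.snd f g).fiberι ((pullback.snd f g) x'))).obj
          ((Scheme.Modules.pullback (pullback.fst f g)).obj F))
        ((pullback.snd f g).asFiber x') ↔
      Curv2.IsAssPoint ((Scheme.Modules.pullback (f.fiberι (f ((pullback.fst f g) x')))).obj F)
          (f.asFiber ((pullback.fst f g) x')) ∧
        ∀ x'' : ↥(pullback f g), (pullback.snd f g) x'' = (pullback.snd f g) x' →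
          (pullback.fst f g) x'' = (pullback.fst f g) x' → x'' ⤳ x' → x'' = x' := by
  let p := pullback.fst f g
  let q := pullback.snd f g
  let x := p x'
  let s' := q x'
  let w := q.asFiber x'
  have hw : q.fiberι s' w = x' := Scheme.Hom.fiberι_asFiber q x'
  haveI : LocallyOfFiniteType q := inferInstanceAs (LocallyOfFiniteType (pullback.snd f g))
  haveI : LocallyOfFiniteType (q.fiberToSpecResidueField s') :=
    MorphismProperty.of_isPullback (P := @LocallyOfFiniteType) (IsPullback.of_hasPullback q (S'.fromSpecResidueField s')) ‹_›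
  haveI : LocallyOfFiniteType (f.fiberToSpecResidueField (g s')) :=
    MorphismProperty.of_isPullback (P := @LocallyOfFiniteType) (IsPullback.of_hasPullback f (S.fromSpecResidueField (g s'))) ‹_›
  haveI : IsLocallyNoetherian (q.fiber s') := LocallyOfFiniteType.isLocallyNoetherian (q.fiberToSpecResidueField s')
  haveI : IsLocallyNoetherian (f.fiber (g s')) :=
    LocallyOfFiniteType.isLocallyNoetherian (f.fiberToSpecResidueField (g s'))
  have hcond : (q.fiberι s' ≫ p) ≫ f =
      (q.fiberToSpecResidueField s' ≫ Spec.map (g.residueFieldMap s')) ≫ S.fromSpecResidueField (g s') := by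
    rw [Category.assoc, Category.assoc, pullback.condition, ← Category.assoc, Scheme.Hom.fiber_fac,
      Category.assoc, Scheme.Hom.SpecMap_residueFieldMap_fromSpecResidueField]
  let h : q.fiber s' ⟶ f.fiber (g s') :=
    pullback.lift (q.fiberι s' ≫ p) (q.fiberToSpecResidueField s' ≫ Spec.map (g.residueFieldMap s')) hcond
  have hh : h ≫ f.fiberι (g s') = q.fiberι s' ≫ p := pullback.lift_fst _ _ _
  have hsq : IsPullback (q.fiberToSpecResidueField s') h (Spec.map (g.residueFieldMap s'))
      (f.fiberToSpecResidueField (g s')) := by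
    refine IsPullback.of_bot ?_ (pullback.lift_snd _ _ _).symm
      (IsPullback.of_hasPullback f (S.fromSpecResidueField (g s'))).flip
    have h0 : IsPullback (q.fiberToSpecResidueField s') (q.fiberι s' ≫ p)
        (Y := X) (Spec.map (g.residueFieldMap s') ≫ S.fromSpecResidueField (g s')) f := by
      rw [Scheme.Hom.SpecMap_residueFieldMap_fromSpecResidueField]
      exact (IsPullback.of_hasPullback q (S'.fromSpecResidueField s')).flip.paste_vert
        (IsPullback.of_hasPullback f g).flip
    rw [← hh] at h0
    exact h0
  haveI : Flat (Spec.map (g.residueFieldMap s')) := (HasRingHomProperty.Spec_iff (P := @Flat)).2 (by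
    let := (g.residueFieldMap s').hom.toAlgebra
    show Module.Flat (S.residueField (g s')) (S'.residueField s')
    infer_instance)
  haveI : Flat h := MorphismProperty.of_isPullback (P := @Flat) hsq ‹_›
  have e : (Scheme.Modules.pullback (q.fiberι s')).obj ((Scheme.Modules.pullback p).obj F) ≅
      (Scheme.Modules.pullback h).obj ((Scheme.Modules.pullback (f.fiberι (g s'))).obj F) :=
    (Scheme.Modules.pullbackComp (q.fiberι s') p).app F ≪≫
      (Scheme.Modules.pullbackCongr hh.symm).app F ≪≫
        ((Scheme.Modules.pullbackComp h (f.fiberι (g s'))).app F).symm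
  have hhw : f.fiberι (g s') (h w) = x := by
    rw [← Scheme.Hom.comp_apply, hh, Scheme.Hom.comp_apply, hw]
  refine (mem_ass_of_iso e w).trans ((mem_ass_flat_pullback_iff h _ w).trans ?_)
  refine and_congr ((fibre_iff f F x (h w) hhw).trans (fibre_iff f F x _ (Scheme.Hom.fiberι_asFiber f x)).symm) ?_
  -- the fibre of `h`
  let y := h w
  let T := h.fiber y
  haveI : IsLocallyNoetherian T := FibreNoeth.isLocallyNoetherian_fiber h y
  let t := h.asFiber w
  have ht : h.fiberι y t = w := Scheme.Hom.fiberι_asFiber h w
  have hT : _root_.AssSch.NoEmbedded (Coh.structureModule T) := by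
    let φ := Spec.preimage ((f.fiber (g s')).fromSpecResidueField y ≫ f.fiberToSpecResidueField (g s'))
    let := φ.hom.toAlgebra
    let := (g.residueFieldMap s').hom.toAlgebra
    have h1 := (IsPullback.of_hasPullback h ((f.fiber (g s')).fromSpecResidueField y)).flip.paste_vert hsq.flip
    rw [← Spec.map_preimage ((f.fiber (g s')).fromSpecResidueField y ≫ f.fiberToSpecResidueField (g s'))] at h1
    let e' := h1.isoPullback ≪≫ pullbackSpecIso (S.residueField (g s')) ((f.fiber (g s')).residueField y)
      (S'.residueField s')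
    haveI : IsLocallyNoetherian (pullback h ((f.fiber (g s')).fromSpecResidueField y)) := ‹IsLocallyNoetherian T›
    have := isLocallyNoetherian_of_isOpenImmersion e'.inv
    exact noEmbedded_of_iso e' noEmbedded_spec_tensor
  rw [← ht, ← mem_ass_fibre_structure_iff, mem_ass_structure_iff_maximal hT]
  constructor
  · intro hmax x'' h1 h2 hsp
    obtain ⟨a, rfl⟩ : x'' ∈ Set.range (q.fiberι s') := by
      rw [Scheme.Hom.range_fiberι]; exact h1
    have hya : h a = y := (f.fiberι (g s')).isEmbedding.injective (by
      rw [← Scheme.Hom.comp_apply, hh, Scheme.Hom.comp_apply, hhw]; exact h2)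
    obtain ⟨b, rfl⟩ : a ∈ Set.range (h.fiberι y) := by
      rw [Scheme.Hom.range_fiberι]; exact hya
    have hbt : b ⤳ t := by
      rw [← (h.fiberι y).isEmbedding.isInducing.specializes_iff, ht,
        ← (q.fiberι s').isEmbedding.isInducing.specializes_iff, hw]
      exact hsp
    rw [hmax b hbt, ht, hw]
  · intro hmax b hbt
    refine (h.fiberι y).isEmbedding.injective ((q.fiberι s').isEmbedding.injective ?_)
    rw [ht, hw]
    refine hmax _ ?_ ?_ ?_
    · exact (Scheme.Hom.range_fiberι q s').le ⟨_, rfl⟩
    · rw [← Scheme.Hom.comp_apply (q.fiberι s') p, ← hh, Scheme.Hom.comp_apply]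
      have hby : h (h.fiberι y b) = y := (Scheme.Hom.range_fiberι h y).le ⟨b, rfl⟩
      rw [hby, hhw]
    · have := (hbt.map (h.fiberι y).continuous).map (q.fiberι s').continuous
      rwa [ht, hw] at this

end Groth.Agent.S8885
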