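import Groth.Statements.S9780
import Groth.Agent.S8885
import Groth.Agent.FlatOpen.EquiDim

set_option autoImplicit false
universe u
open FlatMor

namespace Groth.Agent.S9780

open AlgebraicGeometry CategoryTheory Limits
open Groth.Agent.AssSch Groth.Agent.AssSch.ExtTensor Groth.Agent.AssSch.TensorFlat

/-- The relative assassin is the assassin of the fibre. -/
lemma mem_relAss_iff {X S : Scheme.{u}} (f : X ⟶ S) (F : X.Modules) (x : X) {s : S} (y : f.fiber s)
    (hy : f.fiberι s y = x) :
    Curv2.IsAssPoint ((Scheme.Modules.pullback (f.fiberι s)).obj F) y ↔ x ∈ MoreMor.relAss f F :=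
  Groth.Agent.S8885.fibre_iff f F x y hy

/-- Associated points of the pullback along an isomorphism. -/
lemma mem_ass_pullback_iso {X Y : Scheme.{u}} (k : X ⟶ Y) [IsIso k] (M : Y.Modules) (x : X) :
    x ∈ _root_.AssSch.Ass ((Scheme.Modules.pullback k).obj M) ↔ k x ∈ _root_.AssSch.Ass M := by
  have hb := ConcreteCategory.bijective_of_isIso (k.stalkMap x)
  rw [mem_ass_pullback_iff_of_surjective k M x hb.2,
    LinearEquiv.AssociatedPrimes.eq (Submodule.quotEquivOfEqBot
      (RingHom.ker (k.stalkMap x).hom • (⊤ : Submodule (Y.presheaf.stalk (k x)) (M.presheaf.stalk (k x))))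
      (by rw [(RingHom.injective_iff_ker_eq_bot _).1 hb.1, Submodule.bot_smul]))]
  rfl

/-- The relative assassin over a base change, via `S8885`. -/
lemma relAss_iff {X S X' S' : Scheme.{u}} (f : X ⟶ S) [LocallyOfFiniteType f] (F : X.Modules)
    (hF : Coh.IsQCoh F) (g : S' ⟶ S) (f' : X' ⟶ S') (g' : X' ⟶ X) (hc : IsPullback g' f' f g) (x' : X') :
    x' ∈ MoreMor.relAss f' ((Scheme.Modules.pullback g').obj F) ↔ g' x' ∈ MoreMor.relAss f F ∧
      ∀ x'' : X', f' x'' = f' x' → g' x'' = g' x' → x'' ⤳ x' → x'' = x' := by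
  let e := hc.isoPullback
  let p := pullback.fst f g
  let q := pullback.snd f g
  have ep : e.hom ≫ p = g' := hc.isoPullback_hom_fst
  have eq' : e.hom ≫ q = f' := hc.isoPullback_hom_snd
  have hq : q (e.hom x') = f' x' := by rw [← Scheme.Hom.comp_apply, eq']
  have hp : p (e.hom x') = g' x' := by rw [← Scheme.Hom.comp_apply, ep]
  let s' := q (e.hom x')
  obtain ⟨y, hy⟩ : x' ∈ Set.range (f'.fiberι s') := by rw [Scheme.Hom.range_fiberι]; exact hq.symm
  let k : f'.fiber s' ⟶ q.fiber s' :=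
    pullback.map f' (S'.fromSpecResidueField s') q (S'.fromSpecResidueField s') e.hom (𝟙 _) (𝟙 _)
      (by rw [Category.comp_id, eq']) (by simp)
  have hk : k ≫ q.fiberι s' = f'.fiberι s' ≫ e.hom := pullback.lift_fst _ _ _
  haveI : IsIso k := inferInstanceAs (IsIso (pullback.map _ _ _ _ _ _ _ _ _))
  have m : (Scheme.Modules.pullback (f'.fiberι s')).obj ((Scheme.Modules.pullback g').obj F) ≅
      (Scheme.Modules.pullback k).obj ((Scheme.Modules.pullback (q.fiberι s')).obj
        ((Scheme.Modules.pullback p).obj F)) :=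
    (Scheme.Modules.pullbackComp (f'.fiberι s') g').app F ≪≫
      (Scheme.Modules.pullbackCongr (show f'.fiberι s' ≫ g' = k ≫ q.fiberι s' ≫ p by
        rw [reassoc_of% hk, ep])).app F ≪≫
      ((Scheme.Modules.pullbackComp k (q.fiberι s' ≫ p)).app F).symm ≪≫
      (Scheme.Modules.pullback k).mapIso ((Scheme.Modules.pullbackComp (q.fiberι s') p).app F).symm
  have hky : k y = q.asFiber (e.hom x') := (q.fiberι s').isEmbedding.injective (by
    rw [Scheme.Hom.fiberι_asFiber, ← Scheme.Hom.comp_apply, hk, Scheme.Hom.comp_apply, hy])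
  haveI : LocallyOfFiniteType f' := MorphismProperty.of_isPullback hc ‹_›
  haveI : LocallyOfFiniteType (f'.fiberToSpecResidueField s') :=
    inferInstanceAs (LocallyOfFiniteType (pullback.snd f' _))
  haveI : IsLocallyNoetherian (f'.fiber s') := LocallyOfFiniteType.isLocallyNoetherian (f'.fiberToSpecResidueField s')
  refine (mem_relAss_iff f' _ x' y hy).symm.trans ((mem_ass_of_iso m y).trans
    ((mem_ass_pullback_iso k _ y).trans ?_))
  rw [hky]
  refine (Groth.Agent.S8885.result f g F hF (e.hom x')).trans (and_congr ?_ ?_)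
  · rw [mem_relAss_iff f F _ _ (Scheme.Hom.fiberι_asFiber f _)]
    exact iff_of_eq (congrArg (· ∈ MoreMor.relAss f F) hp)
  · constructor
    · intro H x'' h1 h2 h3
      refine e.hom.isOpenEmbedding.injective (H (e.hom x'') ?_ ?_ (h3.map e.hom.continuous))
      · rw [← Scheme.Hom.comp_apply, ← Scheme.Hom.comp_apply, eq', h1]
      · rw [← Scheme.Hom.comp_apply, ← Scheme.Hom.comp_apply, ep, h2]
    · intro H x'' h1 h2 h3
      obtain ⟨z, rfl⟩ := e.hom.surjective x''
      rw [H z (by rw [← eq', Scheme.Hom.comp_apply, Scheme.Hom.comp_apply]; exact h1)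
        (by rw [← ep, Scheme.Hom.comp_apply, Scheme.Hom.comp_apply]; exact h2)
        (e.hom.isOpenEmbedding.isInducing.specializes_iff.1 h3)]


open AlgebraicGeometry CategoryTheory Limits in
/-- Let f : X ⟶ S be locally of finite type, F a quasi-coherent O_X-module of finite type and U ⊆ X an
open subscheme. For a base change f' : X' ⟶ S' of f along S' ⟶ S with projection g' : X' ⟶ X, F' =
(g')^*F and U' = (g')⁻¹(U), and a point s' of S' with image s: the associated points of F on the
fibre X_s lie in U if and only if the associated points of F' on the fibre X'_{s'} lie in U'. -/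
theorem result {X S X' S' : Scheme.{u}} (f : X ⟶ S) [LocallyOfFiniteType f] (F : X.Modules) [Coh.IsQCoh F]
    (hF : CohB1.IsFT F) (U : X.Opens) (g : S' ⟶ S) (f' : X' ⟶ S') (g' : X' ⟶ X) (hc : IsPullback g' f' f g) (s' : S') :
    {x : ↑X | x ∈ MoreMor.relAss f F ∧ f x = g s'} ⊆ (U : Set ↑X) ↔
      {x' : ↑X' | x' ∈ MoreMor.relAss f' ((Scheme.Modules.pullback g').obj F) ∧ f' x' = s'} ⊆ (g' ⁻¹ᵁ U : Set ↑X') := by
  have hQ : Coh.IsQCoh F := inferInstance
  constructor
  · intro H x' hx'
    obtain ⟨hass, hs⟩ := hx'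
    refine H ⟨((relAss_iff f F hQ g f' g' hc x').1 hass).1, ?_⟩
    rw [← Scheme.Hom.comp_apply, hc.w, Scheme.Hom.comp_apply, hs]
  · intro H x hx
    obtain ⟨hass, hs⟩ := hx
    obtain ⟨a, ha, has⟩ := Scheme.exists_preimage_of_isPullback hc x s' hs
    let q₁ := g'.fiberι x ≫ f'
    obtain ⟨a₁, ha₁⟩ : a ∈ Set.range (g'.fiberι x) := by rw [Scheme.Hom.range_fiberι]; exact ha
    obtain ⟨a₂, ha₂⟩ : a₁ ∈ Set.range (q₁.fiberι s') := by
      rw [Scheme.Hom.range_fiberι]
      show (g'.fiberι x ≫ f') a₁ = s'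
      rw [Scheme.Hom.comp_apply, ha₁, has]
    obtain ⟨b, -, hb⟩ := Groth.Agent.FlatOpen.EquiDim.exists_max a₂
    let x' := g'.fiberι x (q₁.fiberι s' b)
    have hg : g' x' = x := (Scheme.Hom.range_fiberι g' x).le ⟨_, rfl⟩
    have hf' : f' x' = s' := (Scheme.Hom.range_fiberι q₁ s').le ⟨b, rfl⟩
    have h' : x' ∈ MoreMor.relAss f' ((Scheme.Modules.pullback g').obj F) := by
      rw [relAss_iff f F hQ g f' g' hc x', hg]
      refine ⟨hass, fun z h1 h2 h3 => ?_⟩
      obtain ⟨z₁, rfl⟩ : z ∈ Set.range (g'.fiberι x) := by rw [Scheme.Hom.range_fiberι]; exact h2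
      obtain ⟨z₂, rfl⟩ : z₁ ∈ Set.range (q₁.fiberι s') := by
        rw [Scheme.Hom.range_fiberι]
        exact h1.trans hf'
      rw [hb z₂ ((q₁.fiberι s').isEmbedding.isInducing.specializes_iff.1
        ((g'.fiberι x).isEmbedding.isInducing.specializes_iff.1 h3))]
    have hU := H ⟨h', hf'⟩
    rw [← hg]
    exact hU

end Groth.Agent.S9780
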