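import Groth.Statements.S9028
import Groth.Agent.FlatMor62.RelAssFlat
import Groth.Agent.S9780
import Groth.Agent.S9381
import Groth.Agent.S9350
import Groth.Agent.S17417
import Groth.Prelude.Def_Dual3
import Groth.Agent.FittLib.Sheaf

set_option autoImplicit false
universe u
open FlatMor

namespace Groth.Agent.S9028

open CategoryTheory CategoryTheory.Limits AlgebraicGeometry Opposite in
theorem resTrdeg_comp_le {X Y S : Scheme.{u}} (k : X ⟶ Y) (q : Y ⟶ S) (z : X) :
    Dual3.resTrdeg q (k z) ≤ Dual3.resTrdeg (k ≫ q) z := by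
  letI := (q.residueFieldMap (k z)).hom.toAlgebra
  letI alg : Algebra (S.residueField (q (k z))) (X.residueField z) := ((k ≫ q).residueFieldMap z).hom.toAlgebra
  refine trdeg_le_of_injective ({ (k.residueFieldMap z).hom with commutes' := fun r => ?_ } :
    Y.residueField (k z) →ₐ[S.residueField (q (k z))] X.residueField z) (RingHom.injective _)
  exact (RingHom.congr_fun (congrArg CommRingCat.Hom.hom (Scheme.residueFieldMap_comp k q z)) r).symm

open CategoryTheory CategoryTheory.Limits AlgebraicGeometry Opposite in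
/-- For f : X → S locally of finite type, F a quasi-coherent O_X-module of finite type, an etale
morphism h : X' → X whose image contains every point of the relative assassin of F over S, and n ≥
0, the functors F_n of F and of h^*F agree: for every scheme T over S, if the base change of h^*F on
X' ×_S T is flat over T in dimensions ≥ n then so is the base change F_T on X ×_S T (the other
implication holds without the hypothesis on the image). -/
theorem result {X X' S : Scheme.{u}} (f : X ⟶ S) [LocallyOfFiniteType f] (F : X.Modules) [Coh.IsQCoh F] (hF : CohB1.IsFT F)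
    (h : X' ⟶ X) [Etale h] (hAss : MoreMor.relAss f F ⊆ Set.range h.base) (n : ℕ) (T : Over S)
    (hT : FlatFun.DimFibresLT n (PicF.XTproj (h ≫ f) T)
        {x | ¬ FlatMod.IsFlatOverAt (PicF.XTproj (h ≫ f) T) (FGA.ET (h ≫ f) ((Scheme.Modules.pullback h).obj F) T) x}) :
    FlatFun.DimFibresLT n (PicF.XTproj f T)
        {x | ¬ FlatMod.IsFlatOverAt (PicF.XTproj f T) (FGA.ET f F T) x} := by
  haveI : F.IsQuasicoherent := ‹Coh.IsQCoh F›
  haveI : SheafOfModules.IsFiniteType.{u} F := hF
  have hFT : CohB1.IsFT (FGA.ET f F T) := Groth.Agent.FittLib.isFiniteType_pullback F _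
  intro y hy
  obtain ⟨y', hy'y, hfy', hass, hnf⟩ := Groth.Agent.FlatMor62.RelAssFlat.exists_relAss_not_flat
    (PicF.XTproj f T) (FGA.ET f F T) hFT y hy
  have hrel := ((Groth.Agent.S9780.relAss_iff f F ‹Coh.IsQCoh F› T.hom (pullback.snd f T.hom) (pullback.fst f T.hom)
    (IsPullback.of_hasPullback f T.hom) y').1 hass).1
  obtain ⟨a, ha⟩ := hAss hrel
  let k : pullback (h ≫ f) T.hom ⟶ pullback f T.hom :=
    pullback.map (h ≫ f) T.hom f T.hom h (𝟙 _) (𝟙 _) (by simp) (by simp)
  have hk₁ : k ≫ pullback.fst f T.hom = pullback.fst (h ≫ f) T.hom ≫ h := pullback.lift_fst _ _ _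
  have hk₂ : k ≫ pullback.snd f T.hom = pullback.snd (h ≫ f) T.hom :=
    (pullback.lift_snd _ _ _).trans (Category.comp_id _)
  have sq : IsPullback (pullback.fst (h ≫ f) T.hom) k h (pullback.fst f T.hom) := by
    refine IsPullback.of_bot ?_ hk₁.symm (IsPullback.of_hasPullback f T.hom)
    rw [hk₂]
    exact IsPullback.of_hasPullback (h ≫ f) T.hom
  haveI : Etale k := MorphismProperty.of_isPullback sq ‹Etale h›
  obtain ⟨z, -, hz⟩ := Scheme.exists_preimage_of_isPullback sq a y' ha
  subst hz
  have hnf' : ¬ FlatMod.IsFlatOverAt (PicF.XTproj (h ≫ f) T)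
      (FGA.ET (h ≫ f) ((Scheme.Modules.pullback h).obj F) T) z := by
    intro hz
    refine hnf ((Groth.Agent.S9350.result k (PicF.XTproj f T) (FGA.ET f F T) inferInstance z
      (Flat.stalkMap k z)).mpr ?_)
    have e : (Scheme.Modules.pullback k).obj (FGA.ET f F T) ≅ FGA.ET (h ≫ f) ((Scheme.Modules.pullback h).obj F) T :=
      (Scheme.Modules.pullbackComp k (pullback.fst f T.hom)).app F ≪≫ (Scheme.Modules.pullbackCongr hk₁).app F ≪≫
        ((Scheme.Modules.pullbackComp (pullback.fst (h ≫ f) T.hom) h).app F).symm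
    rw [show k ≫ PicF.XTproj f T = PicF.XTproj (h ≫ f) T from hk₂]
    exact Groth.Agent.S17417.isFlatOverAt_of_iso _ e.symm z hz
  have hlt : Dual3.resTrdeg (PicF.XTproj (h ≫ f) T) z < (n : Cardinal.{u}) := hT z hnf'
  rw [← show k ≫ PicF.XTproj f T = PicF.XTproj (h ≫ f) T from hk₂] at hlt
  have h1 := (resTrdeg_comp_le k (PicF.XTproj f T) z).trans_lt hlt
  show Dual3.resTrdeg (PicF.XTproj f T) y < (n : Cardinal.{u})
  rcases eq_or_ne (k z) y with heq | hne
  · rwa [← heq]
  · exact lt_trans (Groth.Agent.S9381.result (PicF.XTproj f T) (k z) y hy'y hne hfy') h1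

end Groth.Agent.S9028
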