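import Groth.Agent.AmpleLib.CompLemma
import Groth.Agent.AmpleLib.Rel
import Groth.Agent.AmpleLib.Locus
import Groth.Agent.Props.AmpleBase

/-! Ample modules on schemes with a relatively ample module over a base with an ample module. -/

set_option autoImplicit false

universe u

open CategoryTheory AlgebraicGeometry TopologicalSpace

namespace Groth.Agent.FlatMorPn

theorem exists_isAmple_of_isRelAmple {X S : Scheme.{u}} {N : S.Modules} (hN : CohB1.IsAmple N)
    (f : X ⟶ S) {L : X.Modules} (h : RelAmple.IsRelAmple f L) [IsSeparated f] :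
    ∃ L' : X.Modules, CohB1.IsAmple L' := by
  obtain ⟨_, hL, hLV⟩ := AmpleLib.isRelAmple_iff.mp h
  have := AmpleLib.isSeparated_of_isAmple hN
  obtain ⟨K, hK⟩ := AmpleLib.eventually_ampleOn_comp f hL hN.1 hLV
    ((AmpleLib.ampleOn_top_iff hN.1).2 hN) isQuasiSeparated_univ
  exact ⟨_, (AmpleLib.ampleOn_top_iff (AmpleLib.isInvertible_tensorMod hL
    (AmpleLib.isInvertible_tensorPow (PicCl.isInvertible_pullback f hN.1) K))).1 (hK K le_rfl)⟩

end Groth.Agent.FlatMorPn
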