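import Groth.Statements.S4961
import Groth.Agent.FlatOpen.CMLocusScheme

set_option autoImplicit false
open CategoryTheory AlgebraicGeometry
universe u v w
open EGA43

namespace Groth.Agent.S4961

/-- Let f : X ⟶ Y be a morphism locally of finite presentation. The set of points x of X at which f is
Cohen–Macaulay (f flat at x and the local ring at x of the fibre through x Cohen–Macaulay) is open
in X. -/
theorem result {X Y : Scheme.{u}} (f : X ⟶ Y)
    [LocallyOfFinitePresentation f] : IsOpen {x : X | MoreMor.IsCMAt f x} := by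
  have : {x : X | MoreMor.IsCMAt f x} =
      ⋃ n : ℕ, {x : X | MoreMor.IsCMAt f x ∧ FlatMor.fibreDimAt f x = n} := by
    ext x
    refine ⟨fun h => ?_, fun h => ?_⟩
    · obtain ⟨n, hn⟩ := Groth.Agent.FlatOpen.CMLocus.exists_fibreDimAt_eq f x
      exact Set.mem_iUnion.mpr ⟨n, h, hn⟩
    · obtain ⟨n, h, -⟩ := Set.mem_iUnion.mp h
      exact h
  rw [this]
  exact isOpen_iUnion fun n => Groth.Agent.FlatOpen.CMLocus.isOpen_isCMAt_fibreDim f n

end Groth.Agent.S4961
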