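import Groth.Statements.S1345
import Groth.Agent.Wt.CMScheme
-- Template for statement S1345 (row 1345; see the milestone table for weights).
-- Copy to Groth/Agent/S1345.lean and replace the sorry. The statement below is byte-identical to the frozen
-- statement FlatMor.GrothFrozen.S1345 (Groth/Statements/S1345.lean; the theorem FlatMor.isCMAt_baseChange_of_locallyOfFiniteType);
-- the grader kernel-checks Groth.Agent.S1345.result against that frozen type. Keep the theorem IN THIS FILE
-- (a `result` declared elsewhere and merely imported here is not credited); helpers may live anywhere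
-- under Groth/Agent/.

set_option autoImplicit false
universe u
open FlatMor

namespace Groth.Agent.S1345

open AlgebraicGeometry CategoryTheory Limits in
/-- Let f have locally Noetherian fibres and let f' be its base change along a morphism locally of
finite type. If f is Cohen–Macaulay at the image of a point x' of the new source, then f' is
Cohen–Macaulay at x'. -/
theorem result {X Y X' Y' : Scheme.{u}} (f : X ⟶ Y) (hN : ∀ y : Y, IsLocallyNoetherian (f.fiber y))
    (f' : X' ⟶ Y') (g' : X' ⟶ X) (g : Y' ⟶ Y) [LocallyOfFiniteType g] (hc : IsPullback g' f' f g) (x' : X')
    (h : MoreMor.IsCMAt f (g' x')) : MoreMor.IsCMAt f' x' := by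
  exact (Wt.CMBase.isCMAt_baseChange_iff hc x' (hN _) (Or.inr inferInstance)).1 h
    (Wt.CMBase.flat_stalkMap_baseChange hc x' (((FlatMor.CMFlat.isCMAt_iff f _).mp h).1))

end Groth.Agent.S1345
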