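import Groth.Statements.S1459
import Groth.Agent.FlatOpen.SliceSeq
import Groth.Agent.FlatOpen.SchemeMap
import Groth.Agent.RegImm44.Affine

set_option autoImplicit false
set_option linter.style.haveILetI false
universe u
open FlatMor

namespace Groth.Agent.S1459

section Aux

open AlgebraicGeometry CategoryTheory Limits RingTheory.Sequence Groth.Agent.AssSch.Stalk

/-- Finitely many germs lift to sections on one neighbourhood. -/
theorem exists_germ_list {X : Scheme.{u}} (x : X) (hs : List (X.presheaf.stalk x)) :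
    ∃ (W : X.Opens) (hx : x ∈ W) (l : List Γ(X, W)), l.map (X.presheaf.germ W x hx) = hs := by
  induction hs with
  | nil => exact ⟨⊤, trivial, [], rfl⟩
  | cons a hs ih =>
    obtain ⟨W, hx, l, rfl⟩ := ih
    obtain ⟨W', hx', s, rfl⟩ := X.presheaf.exists_germ_eq (x := x) a
    refine ⟨W ⊓ W', ⟨hx, hx'⟩, X.presheaf.map (homOfLE inf_le_right).op s ::
      l.map (X.presheaf.map (homOfLE inf_le_left).op), ?_⟩
    simp only [List.map_cons, List.map_map, Function.comp_def, List.cons.injEq, List.map_inj_left]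
    exact ⟨X.presheaf.germ_res_apply _ x _ s, fun a _ => X.presheaf.germ_res_apply _ x _ a⟩

theorem mem_of_mul_mem_sup {O : Type u} [CommRing O] (J : Ideal O) (L : List O)
    (h : IsWeaklyRegular (O ⧸ J) (L.map (Ideal.Quotient.mk J))) (k : ℕ) (hk : k < L.length) (z : O)
    (hz : L[k] * z ∈ J ⊔ Ideal.ofList (L.take k)) : z ∈ J ⊔ Ideal.ofList (L.take k) := by
  have hmem : ∀ c : O, Ideal.Quotient.mk J c ∈
      (Ideal.ofList ((L.map (Ideal.Quotient.mk J)).take k) • ⊤ : Submodule (O ⧸ J) (O ⧸ J)) ↔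
        c ∈ J ⊔ Ideal.ofList (L.take k) := fun c => by
    rw [smul_eq_mul, ← Ideal.one_eq_top, mul_one, ← List.map_take, ← Ideal.map_ofList,
      Ideal.mem_quotient_iff_mem_sup, sup_comm]
  have h0 := h.regular_mod_prev k (by simpa using hk)
  rw [← hmem] at hz ⊢
  have h1 := h0 (a₁ := Submodule.Quotient.mk (Ideal.Quotient.mk J z)) (a₂ := 0) (by
    simp only [List.getElem_map, smul_zero, ← Submodule.Quotient.mk_smul,
      Submodule.Quotient.mk_eq_zero, smul_eq_mul, ← map_mul]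
    exact hz)
  rwa [Submodule.Quotient.mk_eq_zero] at h1

/-- A closed immersion cut out by weakly regular sequences is regular. -/
theorem isRegularClosedImmersion_of_charts {Z Y : Scheme.{u}} (i : Z ⟶ Y) [IsClosedImmersion i]
    (h : ∀ z, ∃ (W : Y.Opens) (_ : IsAffineOpen W), i z ∈ W ∧ ∃ rs : List Γ(Y, W),
      IsWeaklyRegular Γ(Y, W) rs ∧ RingHom.ker (i.app W).hom = Ideal.ofList rs) :
    Mor2.IsRegularClosedImmersion i := by
  refine ⟨inferInstance, fun z => ?_⟩
  obtain ⟨W, hW, hz, rs, hrs, hker⟩ := h z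
  refine ⟨W, hW, hz, rs, ⟨hrs, fun htop => ?_⟩, by rw [Scheme.Hom.ker_apply]; exact hker⟩
  rw [smul_eq_mul, ← Ideal.one_eq_top, mul_one, ← hker] at htop
  have h1 := RegImm44.ker_le_primeIdealOf i hW z hz
  rw [← htop] at h1
  exact (hW.primeIdealOf ⟨i z, hz⟩).isPrime.ne_top (top_le_iff.1 (le_of_eq_of_le Ideal.one_eq_top.symm h1))

end Aux

open AlgebraicGeometry CategoryTheory Limits in
/-- Let f : X → S be locally of finite presentation and flat at x with image s, and let h_1, …, h_r be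
elements of O_{X,x} whose images in O_{X,x} / m_s O_{X,x} form a regular sequence. Then there are an
affine open U ∋ x and sections on U with these germs such that the closed subscheme Z of U they cut
out is a regular closed immersion whose image contains x, Z → S is flat and locally of finite
presentation, and the base change of Z → U along any S' → S is again a regular closed immersion. -/
theorem result {X S : Scheme.{u}} (f : X ⟶ S) [LocallyOfFinitePresentation f] (x : X)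
    (hflat : (f.stalkMap x).hom.Flat) (hs : List ↑(X.presheaf.stalk x))
    (hreg : RingTheory.Sequence.IsRegular (↑(X.presheaf.stalk x) ⧸ Ideal.map (f.stalkMap x).hom (IsLocalRing.maximalIdeal ↑(S.presheaf.stalk (f x))))
      (hs.map (Ideal.Quotient.mk (Ideal.map (f.stalkMap x).hom (IsLocalRing.maximalIdeal ↑(S.presheaf.stalk (f x))))))) :
    ∃ (U : X.Opens) (hU : IsAffineOpen U) (hx : x ∈ U) (hs' : List Γ(X, U)), hs'.map (X.presheaf.germ U x hx) = hs ∧
      Mor2.IsRegularClosedImmersion (Spec.map (CommRingCat.ofHom (Ideal.Quotient.mk (Ideal.ofList hs'))) ≫ hU.isoSpec.inv) ∧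
      x ∈ Set.range ⇑(Spec.map (CommRingCat.ofHom (Ideal.Quotient.mk (Ideal.ofList hs'))) ≫ hU.fromSpec) ∧
      Flat (Spec.map (CommRingCat.ofHom (Ideal.Quotient.mk (Ideal.ofList hs'))) ≫ hU.fromSpec ≫ f) ∧ LocallyOfFinitePresentation (Spec.map (CommRingCat.ofHom (Ideal.Quotient.mk (Ideal.ofList hs'))) ≫ hU.fromSpec ≫ f) ∧
      ∀ (S' : Scheme.{u}) (g : S' ⟶ S), Mor2.IsRegularClosedImmersion
        (pullback.map (Spec.map (CommRingCat.ofHom (Ideal.Quotient.mk (Ideal.ofList hs'))) ≫ hU.isoSpec.inv ≫ U.ι ≫ f) g (U.ι ≫ f) g (Spec.map (CommRingCat.ofHom (Ideal.Quotient.mk (Ideal.ofList hs'))) ≫ hU.isoSpec.inv) (𝟙 S') (𝟙 S)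
          (Category.comp_id _) ((Category.comp_id g).trans (Category.id_comp g).symm)) := by
  obtain ⟨W, hxW, l, rfl⟩ := exists_germ_list x hs
  obtain ⟨_, ⟨V, hV, rfl⟩, hxV, -⟩ := S.isBasis_affineOpens.exists_subset_of_mem_open
    (Set.mem_univ (f x)) isOpen_univ
  obtain ⟨_, ⟨U₀, hU₀, rfl⟩, hx₀, hUW⟩ := X.isBasis_affineOpens.exists_subset_of_mem_open
    (show x ∈ W ⊓ f ⁻¹ᵁ V from ⟨hxW, hxV⟩) (W ⊓ f ⁻¹ᵁ V).isOpen
  replace hUW : U₀ ≤ W ⊓ f ⁻¹ᵁ V := hUW
  replace hU₀ : IsAffineOpen U₀ := hU₀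
  replace hV : IsAffineOpen V := hV
  have e : U₀ ≤ f ⁻¹ᵁ V := hUW.trans inf_le_right
  let l₀ : List Γ(X, U₀) := l.map (X.presheaf.map (homOfLE (hUW.trans inf_le_left)).op)
  have hl₀ : l₀.map (X.presheaf.germ U₀ x hx₀) = l.map (X.presheaf.germ W x hxW) := by
    simp [l₀, List.map_map, Function.comp_def, TopCat.Presheaf.germ_res_apply]
  rw [← hl₀] at hreg
  clear_value l₀
  letI := (f.appLE V U₀ e).hom.toAlgebra
  haveI : Algebra.FinitePresentation Γ(S, V) Γ(X, U₀) := f.finitePresentation_appLE hV hU₀ e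
  letI : Algebra Γ(X, U₀) (X.presheaf.stalk x) := (X.presheaf.germ U₀ x hx₀).hom.toAlgebra
  let Q := AssSch.Stalk.primeOf hU₀ x hx₀
  haveI : IsLocalization.AtPrime (X.presheaf.stalk x) Q := hU₀.isLocalization_stalk ⟨x, hx₀⟩
  let I := (Q.comap (algebraMap Γ(S, V) Γ(X, U₀))).map (algebraMap Γ(S, V) Γ(X, U₀))
  let J := Ideal.map (f.stalkMap x).hom (IsLocalRing.maximalIdeal (S.presheaf.stalk (f x)))
  have hJ : J = I.map (algebraMap Γ(X, U₀) (X.presheaf.stalk x)) :=
    FlatOpen.Scheme.maximalIdeal_map_stalkMap f hV hU₀ e x hx₀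
  have hmapK : ∀ k, (I ⊔ Ideal.ofList (l₀.take k)).map (algebraMap Γ(X, U₀) (X.presheaf.stalk x)) =
      J ⊔ Ideal.ofList ((l₀.map (X.presheaf.germ U₀ x hx₀)).take k) := fun k => by
    rw [Ideal.map_sup, Ideal.map_ofList, ← hJ, List.map_take]
    rfl
  obtain ⟨a, haQ, ha⟩ := FlatOpen.exists_slice_seq Q
    ((FlatOpen.Scheme.stalkMap_flat_iff f hV hU₀ e x hx₀).1 hflat) l₀ fun k hk m hm => by
      have h1 := mem_of_mul_mem_sup J _ hreg.toIsWeaklyRegular k (by simpa using hk)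
        (X.presheaf.germ U₀ x hx₀ m) (by
          rw [← hmapK, List.getElem_map, ← map_mul]
          exact Ideal.mem_map_of_mem _ hm)
      rw [← hmapK] at h1
      obtain ⟨t, ht, htm⟩ := (IsLocalization.algebraMap_mem_map_algebraMap_iff Q.primeCompl
        (X.presheaf.stalk x) _ m).1 h1
      exact ⟨t, ht, htm⟩
  let U := X.basicOpen a
  have hU : IsAffineOpen U := hU₀.basicOpen a
  have hx : x ∈ U := (AssSch.Stalk.mem_basicOpen_iff hU₀ x hx₀ a).2 haQ
  let res : Γ(X, U₀) ⟶ Γ(X, U) := X.presheaf.map (homOfLE (X.basicOpen_le a)).op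
  let hs' : List Γ(X, U) := l₀.map res
  have hgerm : hs'.map (X.presheaf.germ U x hx) = l₀.map (X.presheaf.germ U₀ x hx₀) := by
    simp only [hs', res, List.map_map]
    exact List.map_congr_left fun c _ => X.presheaf.germ_res_apply _ x hx c
  letI : Algebra Γ(X, U₀) Γ(X, U) := res.hom.toAlgebra
  haveI : IsLocalization.Away a Γ(X, U) := hU₀.isLocalization_basicOpen a
  have e' : U ≤ f ⁻¹ᵁ V := (X.basicOpen_le a).trans e
  letI := (f.appLE V U e').hom.toAlgebra
  haveI : IsScalarTower Γ(S, V) Γ(X, U₀) Γ(X, U) := IsScalarTower.of_algebraMap_eq' (by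
    show (f.appLE V U e').hom = res.hom.comp (f.appLE V U₀ e).hom
    rw [← CommRingCat.hom_comp, Scheme.Hom.appLE_map])
  obtain ⟨-, hflU⟩ := ha Γ(X, U)
  have hflat' : Module.Flat Γ(S, V) (Γ(X, U) ⧸ Ideal.ofList hs') := by
    have h1 := hflU l₀.length le_rfl
    rw [List.take_of_length_le (by simp)] at h1
    exact h1
  let q : Γ(X, U) ⟶ CommRingCat.of (Γ(X, U) ⧸ Ideal.ofList hs') :=
    CommRingCat.ofHom (Ideal.Quotient.mk (Ideal.ofList hs'))
  have hcl : IsClosedImmersion (Spec.map q) :=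
    IsClosedImmersion.spec_of_surjective q Ideal.Quotient.mk_surjective
  let j := Spec.map q ≫ hU.isoSpec.inv
  haveI : IsClosedImmersion j := inferInstance
  haveI : IsAffine U.toScheme := hU
  -- the ring of functions of `U`
  let resT : Γ(X, U₀) ⟶ Γ(U.toScheme, ⊤) := res ≫ U.topIso.inv
  letI : Algebra Γ(X, U₀) Γ(U.toScheme, ⊤) := resT.hom.toAlgebra
  let ε : Γ(X, U) ≃ₐ[Γ(X, U₀)] Γ(U.toScheme, ⊤) :=
    AlgEquiv.ofRingEquiv (f := U.topIso.symm.commRingCatIsoToRingEquiv) fun _ => rfl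
  haveI : IsLocalization.Away a Γ(U.toScheme, ⊤) :=
    IsLocalization.isLocalization_of_algEquiv (Submonoid.powers a) ε
  have eT : (⊤ : U.toScheme.Opens) ≤ (U.ι ≫ f) ⁻¹ᵁ V := fun y _ => e' y.2
  letI : Algebra Γ(S, V) Γ(U.toScheme, ⊤) := ((U.ι ≫ f).appLE V ⊤ eT).hom.toAlgebra
  haveI : IsScalarTower Γ(S, V) Γ(X, U₀) Γ(U.toScheme, ⊤) := IsScalarTower.of_algebraMap_eq' (by
    show ((U.ι ≫ f).appLE V ⊤ eT).hom = resT.hom.comp (f.appLE V U₀ e).hom
    rw [← CommRingCat.hom_comp]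
    refine congrArg CommRingCat.Hom.hom ?_
    have hι : U.ι.appLE U ⊤ (fun y _ => y.2) = U.topIso.inv := by
      simp [Scheme.Hom.appLE]
      first | done | rfl | (erw [← Functor.map_comp]; rfl)
    rw [← Scheme.Hom.appLE_comp_appLE U.ι f (e₁ := e') (e₂ := fun y _ => y.2), hι,
      ← Scheme.Hom.appLE_map f e (homOfLE (X.basicOpen_le a)).op, Category.assoc])
  obtain ⟨hregT, hflT⟩ := ha Γ(U.toScheme, ⊤)
  let lT : List Γ(U.toScheme, ⊤) := l₀.map (algebraMap Γ(X, U₀) Γ(U.toScheme, ⊤))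
  have hker : RingHom.ker (j.app ⊤).hom = Ideal.ofList lT := by
    have happ : j.appTop = U.topIso.hom ≫ q ≫ (Scheme.ΓSpecIso _).inv := by
      rw [Scheme.Hom.comp_appTop, hU.isoSpec_inv_appTop, Category.assoc, Scheme.ΓSpecIso_inv_naturality]
    have hbij : Function.Bijective U.topIso.hom.hom := ConcreteCategory.bijective_of_isIso _
    have hinj : Function.Injective (Scheme.ΓSpecIso (CommRingCat.of (Γ(X, U) ⧸ Ideal.ofList hs'))).inv.hom :=
      (ConcreteCategory.bijective_of_isIso _).1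
    have hlT : lT.map U.topIso.hom.hom = hs' := by
      simp only [lT, hs', List.map_map]
      refine List.map_congr_left fun c _ => ?_
      exact U.topIso.inv_hom_id_apply (res c)
    rw [← Ideal.comap_map_of_bijective U.topIso.hom.hom hbij (I := Ideal.ofList lT), Ideal.map_ofList,
      hlT]
    ext c
    rw [RingHom.mem_ker, Ideal.mem_comap, ← Ideal.Quotient.eq_zero_iff_mem,
      ← map_eq_zero_iff _ hinj]
    show j.appTop c = 0 ↔ _
    rw [happ]
    rfl
  refine ⟨U, hU, hx, hs', hgerm.trans hl₀, ?_, ?_, ?_, ?_, fun S' g => ?_⟩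
  · exact isRegularClosedImmersion_of_charts j fun z =>
      ⟨⊤, isAffineOpen_top _, trivial, lT, hregT, hker⟩
  · have hle : Ideal.ofList hs' ≤ AssSch.Stalk.primeOf hU x hx := Ideal.span_le.2 fun c hc => by
      by_contra hcQ
      have hu : IsUnit (X.presheaf.germ U x hx c) := (AssSch.Stalk.isUnit_germ_iff hU x hx c).2 hcQ
      have hmem : X.presheaf.germ U x hx c ∈ l₀.map (X.presheaf.germ U₀ x hx₀) := by
        rw [← hgerm]; exact List.mem_map.2 ⟨c, hc, rfl⟩
      refine hreg.top_ne_smul ?_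
      rw [smul_eq_mul, ← Ideal.one_eq_top, mul_one, Ideal.one_eq_top]
      refine (Ideal.eq_top_of_isUnit_mem _ (Ideal.subset_span ?_) (hu.map (Ideal.Quotient.mk J))).symm
      exact List.mem_map.2 ⟨_, hmem, rfl⟩
    have hP : (⟨AssSch.Stalk.primeOf hU x hx, inferInstance⟩ : PrimeSpectrum Γ(X, U)) ∈
        Set.range (PrimeSpectrum.comap q.hom) := by
      rw [show q.hom = Ideal.Quotient.mk (Ideal.ofList hs') from rfl, _root_.range_comap_of_surjective _ _ Ideal.Quotient.mk_surjective,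
        PrimeSpectrum.mem_zeroLocus, SetLike.coe_subset_coe]
      exact le_of_eq_of_le Ideal.mk_ker hle
    obtain ⟨P, hP⟩ := hP
    refine ⟨P, ?_⟩
    show hU.fromSpec (PrimeSpectrum.comap q.hom P) = x
    rw [hP]
    exact hU.fromSpec_primeIdealOf ⟨x, hx⟩
  · rw [← IsAffineOpen.SpecMap_appLE_fromSpec f hV hU e', ← Category.assoc, ← Spec.map_comp]
    haveI : Flat (Spec.map (f.appLE V U e' ≫ q)) := by
      rw [HasRingHomProperty.Spec_iff (P := @Flat)]
      exact hflat'
    infer_instance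
  · rw [← IsAffineOpen.SpecMap_appLE_fromSpec f hV hU e', ← Category.assoc, ← Spec.map_comp]
    haveI : LocallyOfFinitePresentation (Spec.map (f.appLE V U e' ≫ q)) := by
      rw [HasRingHomProperty.Spec_iff (P := @LocallyOfFinitePresentation)]
      refine RingHom.FinitePresentation.comp ?_ (f.finitePresentation_appLE hV hU e')
      exact RingHom.FinitePresentation.of_surjective _ Ideal.Quotient.mk_surjective
        (by show (RingHom.ker (Ideal.Quotient.mk (Ideal.ofList hs'))).FG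
            rw [Ideal.mk_ker]; exact Submodule.fg_span (List.finite_toSet _))
    infer_instance
  · set i' := pullback.map (Spec.map q ≫ hU.isoSpec.inv ≫ U.ι ≫ f) g (U.ι ≫ f) g j (𝟙 S') (𝟙 S)
      (by simp [j]) (by simp) with hi'
    show Mor2.IsRegularClosedImmersion i'
    have hsq : IsPullback (pullback.fst (Spec.map q ≫ hU.isoSpec.inv ≫ U.ι ≫ f) g) i' j
        (pullback.fst (U.ι ≫ f) g) := by
      refine IsPullback.of_bot ?_ (pullback.lift_fst _ _ _).symm (IsPullback.of_hasPullback (U.ι ≫ f) g)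
      have h1 : i' ≫ pullback.snd (U.ι ≫ f) g =
          pullback.snd (Spec.map q ≫ hU.isoSpec.inv ≫ U.ι ≫ f) g := (pullback.lift_snd _ _ _).trans (Category.comp_id _)
      have h2 : j ≫ U.ι ≫ f = Spec.map q ≫ hU.isoSpec.inv ≫ U.ι ≫ f := Category.assoc _ _ _
      rw [h1, h2]
      exact IsPullback.of_hasPullback _ _
    haveI : IsClosedImmersion i' := MorphismProperty.of_isPullback hsq inferInstance
    refine isRegularClosedImmersion_of_charts i' fun z => ?_
    have hgz : g (pullback.snd (U.ι ≫ f) g (i' z)) ∈ V := by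
      rw [← Scheme.Hom.comp_apply, ← pullback.condition, Scheme.Hom.comp_apply]
      exact eT trivial
    obtain ⟨S'', hS'', hzS, hleS⟩ := exists_isAffineOpen_mem_and_subset
      (show pullback.snd (U.ι ≫ f) g (i' z) ∈ g ⁻¹ᵁ V from hgz)
    let W' := pullback.fst (U.ι ≫ f) g ⁻¹ᵁ ⊤ ⊓ pullback.snd (U.ι ≫ f) g ⁻¹ᵁ S''
    have H := IsPullback.of_hasPullback (U.ι ≫ f) g
    have hW' : IsAffineOpen W' := by
      haveI : IsAffine _ := hS''
      haveI : IsAffine _ := hV
      haveI : IsAffine (⊤ : U.toScheme.Opens).toScheme := isAffineOpen_top _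
      exact .of_isIso (Scheme.Hom.isPullback_resLE H hleS eT (rfl : W' = _)).isoPullback.hom
    have hpo := (isIso_pushoutSection_iff H hleS eT (rfl : W' = _)).1
      (isIso_pushoutSection_of_isAffineOpen H hleS eT rfl hV hS'' (isAffineOpen_top _))
    let eF : W' ≤ pullback.fst (U.ι ≫ f) g ⁻¹ᵁ ⊤ := inf_le_left
    let eS : W' ≤ pullback.snd (U.ι ≫ f) g ⁻¹ᵁ S'' := inf_le_right
    let φ : Γ(U.toScheme, ⊤) ⟶ Γ(pullback (U.ι ≫ f) g, W') := (pullback.fst (U.ι ≫ f) g).appLE ⊤ W' eF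
    let ψ : Γ(S', S'') ⟶ Γ(pullback (U.ι ≫ f) g, W') := (pullback.snd (U.ι ≫ f) g).appLE S'' W' eS
    letI := (g.appLE V S'' hleS).hom.toAlgebra
    letI := φ.hom.toAlgebra
    letI := ψ.hom.toAlgebra
    letI : Algebra Γ(S, V) Γ(pullback (U.ι ≫ f) g, W') := ((g.appLE V S'' hleS) ≫ ψ).hom.toAlgebra
    haveI : IsScalarTower Γ(S, V) Γ(S', S'') Γ(pullback (U.ι ≫ f) g, W') :=
      IsScalarTower.of_algebraMap_eq' rfl
    haveI : IsScalarTower Γ(S, V) Γ(U.toScheme, ⊤) Γ(pullback (U.ι ≫ f) g, W') :=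
      IsScalarTower.of_algebraMap_eq' (congrArg CommRingCat.Hom.hom hpo.w).symm
    haveI : Algebra.IsPushout Γ(S, V) Γ(S', S'') Γ(U.toScheme, ⊤) Γ(pullback (U.ι ≫ f) g, W') :=
      CommRingCat.isPushout_iff_isPushout.1 hpo.flip
    refine ⟨W', hW', ⟨trivial, hzS⟩, lT.map φ.hom, FlatOpen.isWeaklyRegular_baseChange (A := Γ(S', S'')) lT hregT
      (fun k hk => hflT k (by simpa [lT] using hk)), ?_⟩
    rw [RegImm44.ker_app_baseChange hsq (isAffineOpen_top _) hW' eF, hker, Ideal.map_ofList]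

end Groth.Agent.S1459
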