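import Groth.Statements.S8923
import Groth.Agent.LFFrame.Basic
import Mathlib.AlgebraicGeometry.OrderOfVanishing
import Mathlib.Topology.NoetherianSpace
-- import your own Groth.Agent.* helpers here

set_option autoImplicit false
universe u
open CategoryTheory CategoryTheory.Limits AlgebraicGeometry TopologicalSpace
open SDiv

namespace Groth.Agent.S8923

set_option linter.style.haveILetI false

open Groth.Agent.LFFrame Groth.Agent.PullStalk.Sky

/-- Near a point of an affine Noetherian open only finitely many points of codimension one avoid a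
given nonempty open set. -/
theorem finite_codim_one {X : Scheme.{u}} [IsIntegral X] (U : X.Opens) (hU : IsAffineOpen U)
    [IsNoetherianRing Γ(X, U)] (B : X.Opens) (hη : genericPoint X ∈ B) (P : X → Prop)
    (hP1 : ∀ ξ, P ξ → Order.coheight ξ = 1) (hP2 : ∀ ξ, P ξ → ξ ∉ B) :
    {ξ : {ξ : ↥X // P ξ} | (closure ({ξ.1} : Set X) ∩ (U : Set X)).Nonempty}.Finite := by
  classical
  have hN : TopologicalSpace.NoetherianSpace (U : Set X) :=
    AlgebraicGeometry.noetherianSpace_of_isAffineOpen U hU
  let C : Set U := (Subtype.val ⁻¹' (B : Set X))ᶜ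
  obtain ⟨S, hSf, hSc, hSi, hS⟩ :=
    @TopologicalSpace.NoetherianSpace.exists_finite_set_isClosed_irreducible _ _ hN
      C (B.isOpen.preimage continuous_subtype_val).isClosed_compl
  haveI : QuasiSober (U : Set X) := U.isOpen.isOpenEmbedding_subtypeVal.quasiSober
  have key : ∀ ξ : {ξ : ↥X // P ξ},
      (closure ({ξ.1} : Set X) ∩ (U : Set X)).Nonempty →
      ∃ W : {W // W ∈ S}, ∃ h : ξ.1 ∈ U, ∀ h' : IsIrreducible W.1,
        closure W.1 = closure {(⟨ξ.1, h⟩ : U)} := by
    rintro ⟨ξ, hξP⟩ ⟨y, hy, hyU⟩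
    have hξ := hP1 ξ hξP
    have hξU : ξ ∈ U := (specializes_iff_mem_closure.mpr hy).mem_open U.isOpen hyU
    have hξC : (⟨ξ, hξU⟩ : U) ∈ C := hP2 ξ hξP
    rw [hS] at hξC
    obtain ⟨W, hW, hξW⟩ := hξC
    refine ⟨⟨W, hW⟩, hξU, fun hWi => ?_⟩
    obtain ⟨w, hw⟩ : ∃ w, IsGenericPoint w (closure W) :=
      ⟨_, hWi.isGenericPoint_genericPoint_closure⟩
    have hwξ : w ⤳ ⟨ξ, hξU⟩ := hw.specializes (subset_closure hξW)
    have hwC : w ∈ C := by
      rw [hS]
      exact ⟨W, hW, by rw [← (hSc W hW).closure_eq]; exact hw.mem⟩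
    have hweq : w = ⟨ξ, hξU⟩ := by
      by_contra hne
      have hlt : ξ < w.1 := by
        refine lt_of_le_not_ge (Scheme.le_iff_specializes.mpr (hwξ.map continuous_subtype_val)) ?_
        intro hle
        exact hne (Subtype.ext
          ((hwξ.map continuous_subtype_val).antisymm (Scheme.le_iff_specializes.mp hle)).eq)
      have h1 := Order.coheight_add_one_le hlt
      rw [hξ] at h1
      have h0 : Order.coheight w.1 = 0 := by
        by_contra hne0
        have : (1 : ℕ∞) ≤ Order.coheight w.1 := Order.one_le_iff_pos.mpr (pos_iff_ne_zero.mpr hne0)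
        exact absurd ((add_le_add_left this 1).trans h1) (by norm_num)
      have hmax := Order.coheight_eq_zero.mp h0
      have hη' : w.1 = genericPoint X :=
        ((Scheme.le_iff_specializes.mp (hmax (Scheme.le_iff_specializes.mpr
          (genericPoint_specializes w.1)))).antisymm (genericPoint_specializes w.1)).eq
      exact hwC (show w.1 ∈ B by rw [hη']; exact hη)
    rw [← hweq, hw.def]
  choose g hgU hg using key
  haveI := hSf.to_subtype
  refine Set.finite_coe_iff.mp ?_
  refine Finite.of_injective (fun ξ => g ξ.1 ξ.2) fun ξ₁ ξ₂ h => ?_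
  have h1 := hg ξ₁.1 ξ₁.2 (hSi _ (g ξ₁.1 ξ₁.2).2)
  have h2 := hg ξ₂.1 ξ₂.2 (hSi _ (g ξ₂.1 ξ₂.2).2)
  rw [show g ξ₁.1 ξ₁.2 = g ξ₂.1 ξ₂.2 from h] at h1
  rw [h1] at h2
  have h3 := Subtype.ext_iff.mp (inseparable_iff_closure_eq.mpr h2).eq
  exact Subtype.ext (Subtype.ext (by first | exact h3 | exact h3.symm))


/-- The order along a specialization of the image of a unit vanishes. -/
theorem ordAt_of_isUnit {X : Scheme.{u}} {x ξ : X} (h : ξ ⤳ x) {w : X.presheaf.stalk x}
    (hw : IsUnit w) : Cyc.ordAt x ξ h (X.residue ξ ((X.presheaf.stalkSpecializes h) w)) = 0 := by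
  have he : X.residue ξ ((X.presheaf.stalkSpecializes h) w) =
      algebraMap (Cyc.LocQuot x ξ h) (X.residueField ξ) (Ideal.Quotient.mk _ w) := rfl
  unfold Cyc.ordAt CycAlg.ordFrac
  split_ifs with hh
  · haveI := hh.1; haveI := hh.2.1; haveI := hh.2.2.1; haveI := hh.2.2.2
    haveI : IsDomain (Cyc.LocQuot x ξ h) :=
      (IsFractionRing.injective (Cyc.LocQuot x ξ h) (X.residueField ξ)).isDomain
    rw [he, Ring.ordFrac_of_isUnit (hw.map _)]
    rfl
  · rfl


/-- Let X be an integral scheme that is locally Noetherian, L an invertible O_X-module and s a nonzero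
rational (regular meromorphic) section of L, viewed as a nonzero element of the stalk of L at the
generic point. Then the collection of prime divisors Z ⊆ X with ord_{Z,L}(s) ≠ 0, i.e. the closures
of the codimension-1 points x (dim O_{X,x} = 1) along which s has nonzero order, is locally finite
in X. -/
theorem result (X : Scheme.{u}) [IsIntegral X] [IsLocallyNoetherian X] (L : X.Modules)
    (hL : PicF.IsInvertible L) (s : Cyc.secFibre L (genericPoint ↥X)) (hs : s ≠ 0) :
    LocallyFinite (fun x : {x : ↥X // ringKrullDim ↑(X.presheaf.stalk x) = 1 ∧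
        Cyc.secOrdAt L (genericPoint ↥X) x ((genericPoint_spec ↥X).specializes (Set.mem_univ x)) s ≠ 0} => closure ({x.1} : Set ↥X)) := by
  classical
  intro x
  obtain ⟨U₀, hxU₀, ⟨φ⟩⟩ := hL x
  obtain ⟨e, he⟩ := exists_isFrame_of_split (M := L) (fun _ : Fin 1 => φ.inv) (fun _ => φ.hom)
    (fun i j => by simp [Subsingleton.elim i j]) (by simp)
  obtain ⟨_, ⟨U, hU, rfl⟩, hxU, hUU₀⟩ :=
    X.isBasis_affineOpens.exists_subset_of_mem_open (show x ∈ U₀ from hxU₀) U₀.isOpen
  replace hU : IsAffineOpen U := hU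
  haveI : Nonempty U := ⟨⟨x, hxU⟩⟩
  haveI : IsNoetherianRing Γ(X, U) := IsLocallyNoetherian.component_noetherian ⟨U, hU⟩
  haveI := functionField_isFractionRing_of_isAffineOpen X U hU
  have hηU : genericPoint X ∈ U :=
    ((genericPoint_spec X).mem_open_set_iff U.isOpen).mpr ⟨x, trivial, hxU⟩
  obtain ⟨σ, rfl⟩ := Submodule.Quotient.mk_surjective _ s
  letI : Field (X.presheaf.stalk (genericPoint X)) := inferInstanceAs (Field X.functionField)
  have hbot : IsLocalRing.maximalIdeal (X.presheaf.stalk (genericPoint X)) = ⊥ :=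
    IsLocalRing.isField_iff_maximalIdeal_eq.mp (Field.toIsField _)
  obtain ⟨φ₀, hφ₀⟩ := (he.stalkComb_bijective (genericPoint X) (hUU₀ hηU)).2 σ
  simp only [stalkComb, Fintype.linearCombination_apply, Fin.sum_univ_one] at hφ₀
  obtain ⟨a, b, hb, hab⟩ := IsFractionRing.div_surjective (A := Γ(X, U)) (φ₀ 0 : X.functionField)
  have hb0 : b ≠ 0 := nonZeroDivisors.ne_zero hb
  have ha0 : a ≠ 0 := by
    rintro rfl
    rw [map_zero, zero_div] at hab
    refine hs ?_
    rw [← hφ₀, ← hab, zero_smul, Submodule.Quotient.mk_zero]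
  refine ⟨U, U.isOpen.mem_nhds hxU, ?_⟩
  have hne : ∀ c : Γ(X, U), c ≠ 0 → genericPoint X ∈ X.basicOpen c := fun c hc =>
    ((genericPoint_spec X).mem_open_set_iff (X.basicOpen c).isOpen).mpr (by
      rw [Set.univ_inter, Set.nonempty_iff_ne_empty]
      exact fun h => hc ((basicOpen_eq_bot_iff c).mp (TopologicalSpace.Opens.ext h)))
  refine finite_codim_one U hU (X.basicOpen a ⊓ X.basicOpen b) ⟨hne a ha0, hne b hb0⟩ _
    (fun y hy => by
      have h := hy.1
      rw [ringKrullDim_stalk_eq_coheight] at h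
      exact_mod_cast h) fun y hy hB => hy.2 ?_
  have hyU : y ∈ U := X.basicOpen_le a hB.1
  unfold Cyc.secOrdAt
  set hsp := (genericPoint_spec ↥X).specializes (Set.mem_univ y)
  split_ifs with ht hφ
  · obtain ⟨φ', hφ'⟩ : ∃ φ', φ' = Classical.choose hφ := ⟨_, rfl⟩
    have hspec : Submodule.Quotient.mk σ = φ' • (Submodule.Quotient.mk
        ((L.presheaf.stalkSpecializes hsp) (Classical.choose ht)) : Cyc.secFibre L (genericPoint X)) :=
      hφ' ▸ Classical.choose_spec hφ
    obtain ⟨t, htc⟩ : ∃ t, t = Classical.choose ht := ⟨_, rfl⟩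
    have htspan : Submodule.span (X.presheaf.stalk y) {t} = ⊤ := htc ▸ Classical.choose_spec ht
    rw [← htc] at hspec
    rw [← hφ']
    -- compare `t` with the frame
    obtain ⟨c, hc⟩ := (he.stalkComb_bijective y (hUU₀ hyU)).2 t
    simp only [stalkComb, Fintype.linearCombination_apply, Fin.sum_univ_one] at hc
    obtain ⟨d, hd⟩ := Submodule.mem_span_singleton.mp
      (show germM L U₀ y (hUU₀ hyU) (e 0) ∈ Submodule.span (X.presheaf.stalk y) {t} by
        rw [htspan]; trivial)
    have hcu : IsUnit (c 0) := by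
      refine IsUnit.of_mul_eq_one_right d ?_
      have h := (he.stalkComb_bijective y (hUU₀ hyU)).1 (a₁ := fun _ => d * c 0) (a₂ := fun _ => 1)
        (by simp only [stalkComb, Fintype.linearCombination_apply, Fin.sum_univ_one, mul_smul,
              one_smul, hc, hd])
      exact congrFun h 0
    obtain ⟨W, hyW, r, hr⟩ := X.presheaf.exists_germ_eq (c 0)
    have himg : (L.presheaf.stalkSpecializes hsp) t =
        (X.presheaf.stalkSpecializes hsp) (c 0) • germM L U₀ (genericPoint X) (hUU₀ hηU) (e 0) := by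
      have hW' : genericPoint X ∈ W ⊓ U₀ := hsp.mem_open (W ⊓ U₀).isOpen ⟨hyW, hUU₀ hyU⟩
      have h1 : t = germM L (W ⊓ U₀) y ⟨hyW, hUU₀ hyU⟩
          ((X.presheaf.map (homOfLE (inf_le_left : W ⊓ U₀ ≤ W)).op r : Γ(X, W ⊓ U₀)) •
            (L.presheaf.map (homOfLE (inf_le_right : W ⊓ U₀ ≤ U₀)).op (e 0) : Γ(L, W ⊓ U₀))) := by
        rw [← hc, ← hr]
        refine Eq.trans ?_ (germM_smul L _ y _ _ _).symm
        congr 1
        · exact (X.presheaf.germ_res_apply (homOfLE inf_le_left) y _ r).symm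
        · exact (L.presheaf.germ_res_apply (homOfLE inf_le_right) y _ (e 0)).symm
      rw [h1, ← hr, TopCat.Presheaf.germ_stalkSpecializes_apply X.presheaf hyW hsp]
      refine (TopCat.Presheaf.germ_stalkSpecializes_apply L.presheaf _ hsp _).trans ?_
      refine (germM_smul L _ _ hW' _ _).trans ?_
      congr 1
      · exact X.presheaf.germ_res_apply (homOfLE inf_le_left) _ _ r
      · exact L.presheaf.germ_res_apply (homOfLE inf_le_right) _ _ (e 0)
    rw [← Submodule.Quotient.mk_smul, Submodule.Quotient.eq, hbot, Submodule.bot_smul,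
      Submodule.mem_bot, sub_eq_zero, himg, ← hφ₀, ← mul_smul] at hspec
    have heq : φ₀ 0 = φ' * (X.presheaf.stalkSpecializes hsp) (c 0) := by
      have h := (he.stalkComb_bijective (genericPoint X) (hUU₀ hηU)).1
        (a₁ := fun _ => φ₀ 0) (a₂ := fun _ => φ' * (X.presheaf.stalkSpecializes hsp) (c 0))
        (by simp only [stalkComb, Fintype.linearCombination_apply, Fin.sum_univ_one]; exact hspec)
      exact congrFun h 0
    obtain ⟨bu, hbu⟩ := (Scheme.mem_basicOpen X b y hyU).mp hB.2
    obtain ⟨cu, hcu'⟩ := hcu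
    have hau := (Scheme.mem_basicOpen X a y hyU).mp hB.1
    have hgen : ∀ z : Γ(X, U), (X.presheaf.stalkSpecializes hsp).hom (X.presheaf.germ U y hyU z) =
        algebraMap Γ(X, U) X.functionField z := fun z =>
      TopCat.Presheaf.germ_stalkSpecializes_apply X.presheaf hyU hsp z
    have hφeq : φ' = (X.presheaf.stalkSpecializes hsp).hom
        (X.presheaf.germ U y hyU a * ↑bu⁻¹ * ↑cu⁻¹) := by
      refine (mul_left_inj' (IsUnit.ne_zero ((hcu' ▸ cu.isUnit : IsUnit (c 0)).map
        (X.presheaf.stalkSpecializes hsp).hom))).mp ?_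
      rw [← heq, ← map_mul, mul_assoc, ← hcu', Units.inv_mul, mul_one]
      refine (mul_left_inj' (IsUnit.ne_zero ((bu.isUnit).map
        (X.presheaf.stalkSpecializes hsp).hom))).mp ?_
      rw [← map_mul, mul_assoc, Units.inv_mul, mul_one, hbu, hgen, hgen, ← hab]
      exact div_mul_cancel₀ _ (fun h => hb0 (IsFractionRing.injective Γ(X, U) X.functionField
        (h.trans (map_zero _).symm)))
    rw [hφeq]
    exact ordAt_of_isUnit hsp ((hau.mul (bu⁻¹).isUnit).mul (cu⁻¹).isUnit)
  · rfl
  · rfl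

end Groth.Agent.S8923
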