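import Groth.Statements.S8886
import Groth.Agent.FlatMor.GenericDense
import Mathlib.AlgebraicGeometry.Fiber
import Mathlib.AlgebraicGeometry.Properties

set_option autoImplicit false
universe u
open CategoryTheory CategoryTheory.Limits AlgebraicGeometry TopologicalSpace
open SDiv

namespace Groth.Agent.S8886

lemma irreducibleSpace_of_denseRange {α β : Type*} [TopologicalSpace α] [TopologicalSpace β]
    [IrreducibleSpace α] (g : α → β) (hg : Continuous g) (hd : DenseRange g) : IrreducibleSpace β := by
  rw [irreducibleSpace_def, Set.top_eq_univ, ← hd.closure_range, ← Set.image_univ]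
  exact ((IrreducibleSpace.isIrreducible_univ α).image g hg.continuousOn).closure

/-- Let f : X ⟶ Y be a flat morphism of schemes with Y integral. If the scheme-theoretic fibre of f over
the generic point of Y is integral, then X is integral. -/
theorem result {X Y : Scheme.{u}} (f : X ⟶ Y) [Flat f] [IsIntegral Y]
    (h : IsIntegral (f.fiber (genericPoint ↥Y))) : IsIntegral X := by
  let η := genericPoint ↥Y
  let i := Y.fromSpecStalk η
  let j := pullback.fst f i
  have hfield : IsField (Y.presheaf.stalk η) := Field.toIsField Y.functionField
  have : IsIso (Y.residue η) := by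
    refine (ConcreteCategory.isIso_iff_bijective _).mpr ⟨?_, Y.residue_surjective η⟩
    let := hfield.toField
    exact (Y.residue η).hom.injective
  let φ : f.fiber η ⟶ pullback f i :=
    pullback.map f (Y.fromSpecResidueField η) f i (𝟙 X) (Spec.map (Y.residue η)) (𝟙 Y)
      (by simp) (by simp [i, Scheme.fromSpecResidueField])
  have : IsIso φ := pullback.map_isIso _ _ _ _ _ _ _ _ _
  have : IsReduced (pullback f i) := isReduced_of_isOpenImmersion (inv φ)
  have : IrreducibleSpace ↥(pullback f i) :=
    Groth.Agent.S8886.irreducibleSpace_of_denseRange φ φ.continuous φ.homeomorph.surjective.denseRange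
  have hred : IsReduced X := ⟨fun U => isReduced_of_injective _
    (Groth.Agent.FlatMor.GenericDense.app_injective f U)⟩
  have hdense : DenseRange j := by
    rw [DenseRange, dense_iff_inter_open]
    intro V hV hne
    by_contra hempty
    rw [Set.not_nonempty_iff_eq_empty] at hempty
    let V' : X.Opens := ⟨V, hV⟩
    have hV'e : j ⁻¹ᵁ V' = ⊥ := by
      refine Opens.ext (Set.eq_empty_of_forall_notMem fun z hz => ?_)
      exact Set.eq_empty_iff_forall_notMem.mp hempty (j z) ⟨hz, z, rfl⟩
    have : Nonempty V' := ⟨⟨hne.some, hne.some_mem⟩⟩
    have h1 : (1 : Γ(X, V')) = 0 := by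
      refine Groth.Agent.FlatMor.GenericDense.app_injective f V' ?_
      have : Subsingleton Γ(pullback f i, j ⁻¹ᵁ V') := by rw [hV'e]; infer_instance
      exact Subsingleton.elim _ _
    exact one_ne_zero h1
  have : IrreducibleSpace X :=
    Groth.Agent.S8886.irreducibleSpace_of_denseRange j j.continuous hdense
  exact isIntegral_of_irreducibleSpace_of_isReduced X

end Groth.Agent.S8886
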