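import Groth.Statements.S0825
import Groth.Agent.LocCoh.AffineOfCd

set_option autoImplicit false
universe u
open scoped BigOperators
open LocCoh

namespace Groth.Agent.S0825

/-- Let A be a Noetherian ring and I the ideal generated by f_1, …, f_r, with cohomological dimension
exactly 1. Then there are c ≥ 1 and A-linear maps φ_j : I^c → A such that x = Σ_j f_j φ_j(x) for
every x ∈ I^c. -/
theorem result (A : Type u) [CommRing A] [IsNoetherianRing A] (r : ℕ) (f : Fin r → A)
    (h₁ : LocCoh.CdLE A (Ideal.span (Set.range f)) 1) (h₀ : ¬ LocCoh.CdLE A (Ideal.span (Set.range f)) 0) :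
    ∃ (c : ℕ) (φ : Fin r → (↥(Ideal.span (Set.range f) ^ (c + 1)) →ₗ[A] A)),
      ∀ x : ↥(Ideal.span (Set.range f) ^ (c + 1)), (x : A) = ∑ j, f j * φ j x := by
  classical
  let I := Ideal.span (Set.range f)
  have hf : ∀ j, f j ∈ I := fun j => Ideal.subset_span ⟨j, rfl⟩
  let π : (Fin r → A) →ₗ[A] I :=
    (Fintype.linearCombination A f).codRestrict I fun c => by
      rw [Fintype.linearCombination_apply]
      exact Submodule.sum_mem _ fun i _ => Submodule.smul_mem _ _ (hf i)
  have hπ : Function.Surjective π := by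
    rintro ⟨x, hx⟩
    obtain ⟨c, hc⟩ := (Submodule.mem_span_range_iff_exists_fun A).mp hx
    exact ⟨c, Subtype.ext ((Fintype.linearCombination_apply A f c).trans hc)⟩
  obtain ⟨m, hm, v, hv⟩ := Groth.Agent.LocCoh.exists_lift_of_subsingleton_H_two (I := I)
    (LinearMap.shortExact_shortComplexKer hπ) (h₁ _ 2 one_lt_two) 1
    (ModuleCat.ofHom (Submodule.inclusion (le_of_eq (pow_one I))))
  obtain ⟨c, rfl⟩ : ∃ c, m = c + 1 := ⟨m - 1, by omega⟩
  refine ⟨c, fun j => (LinearMap.proj j).comp v.hom, fun x => ?_⟩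
  have hx := congrArg Subtype.val (CategoryTheory.ConcreteCategory.congr_hom hv x)
  refine ((Fintype.linearCombination_apply A f (v.hom x)).symm.trans hx).symm.trans ?_
  exact Finset.sum_congr rfl fun j _ => mul_comm _ _

end Groth.Agent.S0825
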