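import Groth.Statements.S0376
import Groth.Agent.DualCx.ShriekExists
import Groth.Agent.DualCx.Gorenstein
import Groth.Agent.Nagata.CohenMap
import Groth.Agent.PSLoc.Basic
import Groth.Agent.S0342

set_option autoImplicit false
universe u v
open CategoryTheory
attribute [local instance] HasDerivedCategory.standard
open Dual

namespace Groth.Agent.S0376

/-- A complete Noetherian local ring has a dualizing complex. -/
theorem result (A : Type u) [CommRing A] [IsLocalRing A] [IsNoetherianRing A] [IsAdicComplete (IsLocalRing.maximalIdeal A) A] : ∃ ω : Dual.D A, Dual.IsDualizing A ω := by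
  obtain ⟨Λ, _, n, f, hΛ, hf⟩ := Nagata.CohenLift.exists_surjective A (IsNoetherian.noetherian _)
  have hP : IsRegularLocalRing (MvPowerSeries (Fin n) Λ) := by
    rcases hΛ with hF | ⟨_, _, -, p, -, hp⟩
    · let := hF.toField
      exact PSLoc.isRegularLocalRing Λ n
    · refine (Nagata.CohenMap.regular_powerSeries (e := 1) ?_ hp (by omega) n).1
      exact_mod_cast (IsPrincipalIdealRing.ringKrullDim_eq_one Λ (IsDiscreteValuationRing.not_isField Λ)).ge
  have : LocCoh.IsGorensteinLocalRing (MvPowerSeries (Fin n) Λ) := S0342.result _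
  letI : Algebra (MvPowerSeries (Fin n) Λ) A := f.toAlgebra
  have : Module.Finite (MvPowerSeries (Fin n) Λ) A :=
    Module.Finite.of_surjective (Algebra.linearMap (MvPowerSeries (Fin n) Λ) A) hf
  exact DualCx.Shriek.exists_isDualizing (A := MvPowerSeries (Fin n) Λ)
    DualCx.Gorenstein.isDualizing_of_isGorensteinLocalRing

end Groth.Agent.S0376
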