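import Groth.Statements.S14616


set_option autoImplicit false
universe u
open Formal2

namespace Groth.Agent.S14616

open CategoryTheory in
/-- Let … → G_2 → G_1 → G_0 be an inverse system of abelian groups with transition maps t_n : G_{n+1} →
G_n which satisfies the Mittag-Leffler condition: for every i there is j ≥ i such that for all k ≥ j
the images of G_k → G_i and G_j → G_i coincide. Then lim¹ G_n = 0, i.e. the map (x_n) ↦ (x_n −
t_n(x_{n+1})) on ∏ G_n is surjective. -/
theorem result (G : ℕ → Type u) [∀ n, AddCommGroup (G n)]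
    (t : ∀ n, G (n + 1) →+ G n)
    (h : (Functor.ofOpSequence (X := fun n => AddCommGrpCat.of (G n))
      (fun n => AddCommGrpCat.ofHom (t n)) ⋙ forget AddCommGrpCat).IsMittagLeffler) :
    Function.Surjective (Formal2.towerDiff G t) := by
  classical
  let F := Functor.ofOpSequence (X := fun n => AddCommGrpCat.of (G n))
    (fun n => AddCommGrpCat.ofHom (t n))
  let g : ∀ {i j : ℕ}, i ≤ j → G j →+ G i := fun {i j} h => (F.map (homOfLE h).op).hom
  have g_trans : ∀ {i j k : ℕ} (h : i ≤ j) (h' : j ≤ k) (x : G k),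
      g (h.trans h') x = g h (g h' x) := fun {i j k} h h' x => by
    have e : F.map (homOfLE (h.trans h')).op = F.map (homOfLE h').op ≫ F.map (homOfLE h).op := by
      rw [← F.map_comp]; rfl
    exact congrArg (fun φ : F.obj (Opposite.op k) ⟶ F.obj (Opposite.op i) => φ.hom x) e
  have g_succ : ∀ i (x : G (i + 1)), g (Nat.le_add_right i 1) x = t i x := fun i x => by
    have e := Functor.ofOpSequence_map_homOfLE_succ (X := fun n => AddCommGrpCat.of (G n))
      (fun n => AddCommGrpCat.ofHom (t n)) i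
    exact congrArg (fun φ : AddCommGrpCat.of (G (i + 1)) ⟶ AddCommGrpCat.of (G i) => φ.hom x) e
  have g_refl : ∀ i (x : G i), g (le_refl i) x = x := fun i x => by
    have e : F.map (homOfLE (le_refl i)).op = 𝟙 _ := by rw [← F.map_id]; rfl
    exact congrArg (fun φ : F.obj (Opposite.op i) ⟶ F.obj (Opposite.op i) => φ.hom x) e
  have hML : ∀ i, ∃ j : ℕ, ∃ hij : i ≤ j, ∀ k (hik : i ≤ k), ∀ x : G j, ∃ y : G k,
      g hik y = g hij x := by
    intro i
    obtain ⟨⟨j⟩, f, hf⟩ := h (Opposite.op i)
    refine ⟨j, leOfHom f.unop, fun k hik x => ?_⟩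
    obtain ⟨y, hy⟩ := hf (homOfLE hik).op ⟨x, rfl⟩
    exact ⟨y, hy⟩
  choose J hJ hJ' using hML
  -- eventual images
  have hE : ∀ i, ∀ k (hk : J i ≤ k), ∀ x : G k, ∀ l (hl : i ≤ l), ∃ y : G l,
      g hl y = g ((hJ i).trans hk) x := by
    intro i k hk x l hl
    obtain ⟨y, hy⟩ := hJ' i l hl (g hk x)
    exact ⟨y, hy.trans (g_trans (hJ i) hk x).symm⟩
  let IsE : ∀ i, G i → Prop := fun i e => ∀ l (hl : i ≤ l), ∃ y : G l, g hl y = e
  have hlift : ∀ i (e : G i), IsE i e → ∃ e' : G (i + 1), IsE (i + 1) e' ∧ t i e' = e := by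
    intro i e he
    let m := max (J (i + 1)) (i + 1)
    obtain ⟨y, hy⟩ := he m (by omega)
    refine ⟨g (le_max_right _ _ : i + 1 ≤ m) y, fun l hl => ?_, ?_⟩
    · exact hE (i + 1) m (le_max_left _ _) y l hl
    · rw [← g_succ, ← g_trans]
      exact hy
  -- monotone bound
  let K : ℕ → ℕ := fun n => (Finset.range (n + 1)).sup J
  have hK : ∀ n, J n ≤ K n := fun n => Finset.le_sup (Finset.self_mem_range_succ n)
  have hKmono : ∀ n, K n ≤ K (n + 1) := fun n =>
    Finset.sup_mono (Finset.range_subset_range.mpr (by omega))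
  intro x
  let term : ∀ n k : ℕ, G n := fun n k => if hk : n ≤ k then g hk (x k) else 0
  let y : ∀ n, G n := fun n => ∑ k ∈ Finset.Ico n (K n + 1), term n k
  have hterm : ∀ n k, n + 1 ≤ k → t n (term (n + 1) k) = term n k := by
    intro n k hk
    simp only [term, dif_pos hk, dif_pos (Nat.le_of_succ_le hk)]
    rw [← g_succ, ← g_trans]
  let e : ∀ n, G n := fun n => x n - (y n - t n (y (n + 1)))
  have he : ∀ n, IsE n (e n) := by
    intro n
    have hsum : e n = ∑ k ∈ Finset.Ico (K n + 1) (K (n + 1) + 1), term n k := by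
      have hn : n ≤ K n := (hJ n).trans (hK n)
      have hn' : n + 1 ≤ K (n + 1) := (hJ (n + 1)).trans (hK (n + 1))
      have h1 : t n (y (n + 1)) = ∑ k ∈ Finset.Ico (n + 1) (K (n + 1) + 1), term n k := by
        rw [map_sum]
        exact Finset.sum_congr rfl fun k hk => hterm n k (Finset.mem_Ico.1 hk).1
      have h2 := Finset.sum_Ico_consecutive (fun k => term n k) (show n + 1 ≤ K n + 1 by omega)
        (show K n + 1 ≤ K (n + 1) + 1 by have := hKmono n; omega)
      have h3 : y n = term n n + ∑ k ∈ Finset.Ico (n + 1) (K n + 1), term n k :=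
        Finset.sum_eq_sum_Ico_succ_bot (by omega) _
      have h4 : term n n = x n := by simp only [term, dif_pos (le_refl n)]; exact g_refl n _
      simp only [e]
      rw [h1, h3, h4, ← h2]
      abel
    intro l hl
    choose z hz using fun k : {k // k ∈ Finset.Ico (K n + 1) (K (n + 1) + 1)} =>
      hE n k.1 (by have := (Finset.mem_Ico.1 k.2).1; have := hK n; omega) (x k.1) l hl
    refine ⟨∑ k ∈ (Finset.Ico (K n + 1) (K (n + 1) + 1)).attach, z k, ?_⟩
    rw [map_sum, hsum, ← Finset.sum_attach (Finset.Ico (K n + 1) (K (n + 1) + 1))]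
    refine Finset.sum_congr rfl fun k _ => ?_
    have hnk : n ≤ k.1 := by
      have := (Finset.mem_Ico.1 k.2).1; have := hK n; have := hJ n; omega
    simp only [term, dif_pos hnk]
    exact hz k
  choose L hL1 hL2 using hlift
  have hsub : ∀ n (a b : G n), IsE n a → IsE n b → IsE n (a - b) := fun n a b ha hb l hl => by
    obtain ⟨a', rfl⟩ := ha l hl
    obtain ⟨b', rfl⟩ := hb l hl
    exact ⟨a' - b', map_sub _ _ _⟩
  have h0 : IsE 0 0 := fun l hl => ⟨0, map_zero _⟩
  let w : ∀ n, {a : G n // IsE n a} := fun n =>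
    Nat.rec (motive := fun n => {a : G n // IsE n a}) ⟨0, h0⟩
      (fun n a => ⟨L n (a.1 - e n) (hsub n _ _ a.2 (he n)), hL1 n _ _⟩) n
  refine ⟨fun n => y n + (w n).1, funext fun n => ?_⟩
  change y n + (w n).1 - t n (y (n + 1) + (w (n + 1)).1) = x n
  have hw : t n (w (n + 1)).1 = (w n).1 - e n := hL2 n _ _
  rw [map_add, hw]
  simp only [e]
  abel

end Groth.Agent.S14616
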