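import Groth.Statements.S4407
import Groth.Agent.AmpleLib.GlobGen

set_option autoImplicit false
set_option linter.style.haveILetI false
universe u
open CategoryTheory CategoryTheory.Limits AlgebraicGeometry
open EGA2

namespace Groth.Agent.S4407

/-- (a) ⇒ (e): let X be a quasi-affine scheme. Then every quasi-coherent O_X-module is generated by its
global sections (it is a quotient of a free O_X-module on some index set). -/
theorem result (X : Scheme.{u}) [X.IsQuasiAffine] (F : X.Modules)
    (hF : Coh.IsQCoh F) : Curv2.IsGloballyGenerated F := by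
  haveI : F.IsQuasicoherent := hF
  refine AmpleLib.isGloballyGenerated_of_local fun V m x hx => ?_
  obtain ⟨_, ⟨_, ⟨r, hr, rfl⟩, rfl⟩, hxr, hrV⟩ :=
    (Scheme.IsQuasiAffine.isBasis_basicOpen X).exists_subset_of_mem_open hx V.2
  refine ⟨X.basicOpen r, hrV, hxr, ?_⟩
  obtain ⟨n, t, ht⟩ := (QCoh.isLocalizingAt_of_isCompact F (U := ⊤) isCompact_univ r).surj
    (QCoh.res F hrV m)
  obtain ⟨w, hw⟩ : IsUnit (QCoh.rres (X.basicOpen_le r) r ^ n) :=
    (RingedSpace.isUnit_res_basicOpen _ r).pow n
  rw [← hw] at ht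
  have : QCoh.res F hrV m = (↑w⁻¹ : Γ(X, X.basicOpen r)) • QCoh.res F (X.basicOpen_le r) t := by
    rw [ht, smul_smul, Units.inv_mul, one_smul]
  rw [this]
  exact Submodule.smul_mem _ _ (Submodule.subset_span ⟨t, rfl⟩)

end Groth.Agent.S4407
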