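import Groth.Statements.S0797
import Groth.Agent.Adic.Basic

set_option autoImplicit false
universe u
open Formal2

namespace Groth.Agent.S0797

/-- The module-theoretic heart, over a base that is already complete (so that the completion of A is A).
Let A be Noetherian and I-adically complete, and let (M_n, f_n : M_{n+1} → M_n) be an inverse system
of finite A-modules with M_n annihilated by I^(n+1) and f_n surjective with kernel I^(n+1) M_{n+1}
(indices shifted by one). Then the A-module of compatible sequences is finitely generated, each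
projection to M_n is surjective, and its kernel is I^(n+1) times the module of compatible sequences. -/
theorem result (A : Type u) [CommRing A] [IsNoetherianRing A] (I : Ideal A)
    [IsAdicComplete I A] (M : ℕ → Type u) [∀ n, AddCommGroup (M n)] [∀ n, Module A (M n)]
    [∀ n, Module.Finite A (M n)] (f : ∀ n, M (n + 1) →ₗ[A] M n) (hf : ∀ n, Function.Surjective (f n))
    (hk : ∀ n, I ^ (n + 1) • (⊤ : Submodule A (M n)) = ⊥)
    (hker : ∀ n, LinearMap.ker (f n) = I ^ (n + 1) • (⊤ : Submodule A (M (n + 1))))
    (L : Submodule A (∀ n, M n)) (hL : ∀ x : ∀ n, M n, x ∈ L ↔ ∀ n, f n (x (n + 1)) = x n) :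
    Module.Finite A L ∧ ∀ n, Function.Surjective ((LinearMap.proj n).comp L.subtype : L →ₗ[A] M n) ∧
      LinearMap.ker ((LinearMap.proj n).comp L.subtype : L →ₗ[A] M n) = I ^ (n + 1) • (⊤ : Submodule A L) := by
  obtain ⟨k, s, hs⟩ := Module.Finite.exists_fin (R := A) (M := M 0)
  choose lift hlift using hf
  let y : Fin k → ∀ n, M n := fun i n => Nat.rec (motive := M) (s i) (fun j m => lift j m) n
  have hy : ∀ i, y i ∈ L := fun i => (hL _).mpr fun n => hlift n (y i n)
  let φ : (Fin k → A) →ₗ[A] L := Fintype.linearCombination A fun i => (⟨y i, hy i⟩ : L)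
  let p : ∀ n, (Fin k → A) →ₗ[A] M n := fun n => ((LinearMap.proj n).comp L.subtype).comp φ
  have hfp : ∀ n x, f n (p (n + 1) x) = p n x := fun n x => (hL _).mp (φ x).2 n
  have hpI : ∀ n (N : Submodule A (Fin k → A)), Submodule.map (p n) (I ^ (n + 1) • N) = ⊥ := fun n N => by
    rw [Submodule.map_smul'', eq_bot_iff, ← hk n]
    exact Submodule.smul_mono le_rfl le_top
  have hp : ∀ n, LinearMap.range (p n) = ⊤ := by
    intro n
    induction n with
    | zero =>
      rw [eq_top_iff, ← hs, Submodule.span_le]
      rintro _ ⟨i, rfl⟩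
      refine ⟨Pi.single i 1, ?_⟩
      simp [p, φ, y, Fintype.linearCombination_apply_single]
    | succ n ih =>
      have h1 : (⊤ : Submodule A (M (n + 1))) ≤
          LinearMap.range (p (n + 1)) ⊔ I ^ (n + 1) • (⊤ : Submodule A (M (n + 1))) := by
        intro m _
        obtain ⟨x, hx⟩ : f n m ∈ LinearMap.range (p n) := ih ▸ trivial
        rw [← add_sub_cancel (p (n + 1) x) m]
        refine Submodule.add_mem_sup ⟨x, rfl⟩ ?_
        rw [← hker, LinearMap.mem_ker, map_sub, hfp, hx, sub_self]
      have h2 : I ^ (n + 1) • (⊤ : Submodule A (M (n + 1))) ≤ LinearMap.range (p (n + 1)) := by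
        refine (Submodule.smul_mono le_rfl h1).trans ?_
        rw [Submodule.smul_sup, sup_le_iff, ← Submodule.smul_assoc, smul_eq_mul, ← pow_add]
        refine ⟨Submodule.smul_le_right, ?_⟩
        refine (Submodule.smul_mono (Ideal.pow_le_pow_right (show n + 1 + 1 ≤ n + 1 + (n + 1) by omega)) le_rfl).trans ?_
        rw [hk]
        exact bot_le
      exact eq_top_iff.mpr (h1.trans (sup_le le_rfl h2))
  haveI : IsAdicComplete I (Fin k → A) := Groth.Agent.Adic.isAdicComplete_of_finite (I := I)
  -- elements of `L` come from the complete module, with their depth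
  have key : ∀ (y : L) (j : ℕ), (∀ i < j, (y : ∀ n, M n) i = 0) →
      ∃ x ∈ I ^ j • (⊤ : Submodule A (Fin k → A)), φ x = y := by
    intro y j hy0
    have hstep : ∀ n, ∀ x : Fin k → A, p n x = (y : ∀ n, M n) n →
        ∃ x', p (n + 1) x' = (y : ∀ n, M n) (n + 1) ∧ x' - x ∈ I ^ (n + 1) • (⊤ : Submodule A (Fin k → A)) := by
      intro n x hx
      have hd : (y : ∀ n, M n) (n + 1) - p (n + 1) x ∈ LinearMap.ker (f n) := by
        rw [LinearMap.mem_ker, map_sub, hfp, (hL _).mp y.2, hx, sub_self]
      rw [hker, ← hp, ← Submodule.map_top (p (n + 1)), ← Submodule.map_smul''] at hd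
      obtain ⟨d, hd, hde⟩ := hd
      exact ⟨x + d, by rw [map_add, hde, add_sub_cancel], by rwa [add_sub_cancel_left]⟩
    -- start at level `j`
    obtain ⟨x₀, hx₀, hpx₀⟩ : ∃ x₀ ∈ I ^ j • (⊤ : Submodule A (Fin k → A)), p j x₀ = (y : ∀ n, M n) j := by
      rcases j with _ | j
      · obtain ⟨x, hx⟩ : (y : ∀ n, M n) 0 ∈ LinearMap.range (p 0) := hp 0 ▸ trivial
        exact ⟨x, by rw [pow_zero, Ideal.one_eq_top, Submodule.top_smul]; trivial, hx⟩
      · obtain ⟨x, hx, hxd⟩ := hstep j 0 (by rw [map_zero, hy0 j (Nat.lt_succ_self j)])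
        exact ⟨x, by rwa [sub_zero] at hxd, hx⟩
    choose! next hnext hdiff using hstep
    let x : ℕ → (Fin k → A) := fun i => Nat.rec x₀ (fun i xi => next (j + i) xi) i
    have hx : ∀ i, p (j + i) (x i) = (y : ∀ n, M n) (j + i) := by
      intro i
      induction i with
      | zero => exact hpx₀
      | succ i ih => exact hnext (j + i) (x i) ih
    have hd : ∀ i, x (i + 1) - x i ∈ I ^ (j + i + 1) • (⊤ : Submodule A (Fin k → A)) :=
      fun i => hdiff (j + i) (x i) (hx i)
    have hc : ∀ {a b : ℕ}, a ≤ b → x a ≡ x b [SMOD (I ^ a • ⊤ : Submodule A (Fin k → A))] := by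
      intro a b hab
      induction b, hab using Nat.le_induction with
      | base => exact SModEq.refl _
      | succ b hb ih =>
        refine ih.trans (SModEq.symm ?_)
        rw [SModEq.sub_mem]
        exact Submodule.smul_mono (Ideal.pow_le_pow_right (by omega)) le_rfl (hd b)
    obtain ⟨z, hz⟩ := IsPrecomplete.prec' (I := I) x hc
    have hzj : z ∈ I ^ j • (⊤ : Submodule A (Fin k → A)) := by
      have h1 : ∀ i, x i ∈ I ^ j • (⊤ : Submodule A (Fin k → A)) := by
        intro i
        induction i with
        | zero => exact hx₀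
        | succ i ih =>
          rw [← sub_add_cancel (x (i + 1)) (x i)]
          exact Submodule.add_mem _ (Submodule.smul_mono (Ideal.pow_le_pow_right (by omega)) le_rfl (hd i)) ih
      have h2 := hz j
      rw [SModEq.sub_mem] at h2
      simpa using Submodule.sub_mem _ (h1 j) h2
    refine ⟨z, hzj, Subtype.ext (funext fun n => ?_)⟩
    have hn : ∀ m, n ≤ m → p m z = (y : ∀ n, M n) m → p n z = (y : ∀ n, M n) n := by
      intro m hm
      induction m, hm using Nat.le_induction with
      | base => exact id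
      | succ m hm ih =>
        intro h
        refine ih ?_
        rw [← hfp, h, (hL _).mp y.2]
    refine hn (j + (n + 1)) (by omega) ?_
    rw [← hx (n + 1), ← sub_eq_zero, ← map_sub, ← Submodule.mem_bot A, ← hpI (j + (n + 1)) ⊤]
    refine Submodule.mem_map_of_mem ?_
    have h3 : x (j + (n + 1) + 1) - z ∈ I ^ (j + (n + 1) + 1) • (⊤ : Submodule A (Fin k → A)) :=
      SModEq.sub_mem.mp (hz _)
    have h4 : ∀ b, n + 1 ≤ b → x b - x (n + 1) ∈ I ^ (j + (n + 1) + 1) • (⊤ : Submodule A (Fin k → A)) := by
      intro b hb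
      induction b, hb using Nat.le_induction with
      | base => simp
      | succ b hb ih =>
        rw [← sub_add_sub_cancel (x (b + 1)) (x b) (x (n + 1))]
        exact Submodule.add_mem _ (Submodule.smul_mono (Ideal.pow_le_pow_right (by omega)) le_rfl (hd b)) ih
    have h5 := Submodule.sub_mem _ (h4 (j + (n + 1) + 1) (by omega)) h3
    rwa [sub_sub_sub_cancel_left] at h5
  have hφ : Function.Surjective φ := fun y => by
    obtain ⟨x, -, hx⟩ := key y 0 fun i hi => absurd hi (Nat.not_lt_zero i)
    exact ⟨x, hx⟩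
  refine ⟨Module.Finite.of_surjective φ hφ, fun n => ⟨fun m => ?_, le_antisymm ?_ ?_⟩⟩
  · obtain ⟨x, hx⟩ : m ∈ LinearMap.range (p n) := hp n ▸ trivial
    exact ⟨φ x, hx⟩
  · intro y hy
    have hy0 : ∀ i < n + 1, (y : ∀ n, M n) i = 0 := by
      intro i hi
      obtain ⟨d, rfl⟩ : ∃ d, n = i + d := ⟨n - i, by omega⟩
      clear hi
      induction d with
      | zero => exact LinearMap.mem_ker.mp hy
      | succ d ih =>
        refine ih (LinearMap.mem_ker.mpr ?_)
        show (y : ∀ n, M n) (i + d) = 0
        rw [← (hL _).mp y.2 (i + d), show (y : ∀ n, M n) (i + d + 1) = 0 from LinearMap.mem_ker.mp hy, map_zero]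
    obtain ⟨x, hx, rfl⟩ := key y (n + 1) hy0
    have := Submodule.mem_map_of_mem (f := φ) hx
    rw [Submodule.map_smul''] at this
    exact Submodule.smul_mono le_rfl le_top this
  · refine Submodule.smul_le.mpr fun a ha m _ => ?_
    rw [LinearMap.mem_ker, map_smul, ← Submodule.mem_bot A, ← hk n]
    exact Submodule.smul_mem_smul ha trivial

end Groth.Agent.S0797
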