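import Groth.Statements.S2470
import Groth.Agent.RegLoc.Miracle
import Groth.Agent.Dim.LocalHom
import Groth.Agent.Depth.CM
import Groth.Agent.S0565

set_option autoImplicit false
universe u
open EGA41

namespace Groth.Agent.S2470

open IsLocalRing in
/-- Let A → B be a local homomorphism of Noetherian local rings with maximal ideals 𝔪, 𝔫 and residue
fields k, k', and let B₀ = B/𝔪B be the closed fibre. The following are equivalent: (a) B is regular
and the canonical map (𝔪/𝔪²) ⊗_k k' → 𝔫/𝔫² is injective — stated here through dimensions, as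
rank_{k'} 𝔫/𝔫² = rank_k 𝔪/𝔪² + rank_{k'} of the cotangent space of B₀, which is equivalent since the
cokernel of that map is the cotangent space of B₀; (c) B and B₀ are regular and B is flat over A;
(d) A and B₀ are regular and B is flat over A; (e) A and B₀ are regular and dim B = dim A + dim B₀.
(Condition (b) of the source, on regular systems of parameters, is not stated.) -/
theorem result {A B : Type u} [CommRing A] [IsLocalRing A] [IsNoetherianRing A] [CommRing B] [IsLocalRing B] [IsNoetherianRing B]
    [Algebra A B] [IsLocalHom (algebraMap A B)] [IsLocalRing (B ⧸ (maximalIdeal A).map (algebraMap A B))] :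
    [IsRegularLocalRing B ∧
       Module.finrank (ResidueField B) (CotangentSpace B) =
         Module.finrank (ResidueField A) (CotangentSpace A) +
           Module.finrank (ResidueField (B ⧸ (maximalIdeal A).map (algebraMap A B))) (CotangentSpace (B ⧸ (maximalIdeal A).map (algebraMap A B))),
     IsRegularLocalRing B ∧ IsRegularLocalRing (B ⧸ (maximalIdeal A).map (algebraMap A B)) ∧ Module.Flat A B,
     IsRegularLocalRing A ∧ IsRegularLocalRing (B ⧸ (maximalIdeal A).map (algebraMap A B)) ∧ Module.Flat A B,
     IsRegularLocalRing A ∧ IsRegularLocalRing (B ⧸ (maximalIdeal A).map (algebraMap A B)) ∧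
       ringKrullDim B = ringKrullDim A + ringKrullDim (B ⧸ (maximalIdeal A).map (algebraMap A B))].TFAE := by
  set I := (maximalIdeal A).map (algebraMap A B) with hI
  rw [← spanFinrank_maximalIdeal_eq_finrank_cotangentSpace, ← spanFinrank_maximalIdeal_eq_finrank_cotangentSpace,
    ← spanFinrank_maximalIdeal_eq_finrank_cotangentSpace]
  obtain ⟨a, ha, -⟩ := RegLoc.exists_natCast_eq_ringKrullDim A
  obtain ⟨b, hb, -⟩ := RegLoc.exists_natCast_eq_ringKrullDim B
  obtain ⟨c, hc, -⟩ := RegLoc.exists_natCast_eq_ringKrullDim (B ⧸ I)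
  set μA := (maximalIdeal A).spanFinrank with hμA
  set μB := (maximalIdeal B).spanFinrank with hμB
  set μC := (maximalIdeal (B ⧸ I)).spanFinrank with hμC
  have hle : b ≤ a + c := by
    have := Dim.ringKrullDim_le_add_fibre A B
    rw [← hI, ha, hb, hc] at this
    exact_mod_cast this
  have hμ : μB ≤ μC + μA :=
    (RegLoc.spanFinrank_maximalIdeal_le_quotient_add I).trans
      (Nat.add_le_add_left (Ideal.spanFinrank_map_le_of_fg _ (IsNoetherian.noetherian _)) _)
  have hA' : a ≤ μA := by
    have := ringKrullDim_le_spanFinrank_maximalIdeal A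
    rw [ha] at this; exact_mod_cast this
  have hB' : b ≤ μB := by
    have := ringKrullDim_le_spanFinrank_maximalIdeal B
    rw [hb] at this; exact_mod_cast this
  have hC' : c ≤ μC := by
    have := ringKrullDim_le_spanFinrank_maximalIdeal (B ⧸ I)
    rw [hc] at this; exact_mod_cast this
  have rA : IsRegularLocalRing A ↔ μA = a := by
    rw [isRegularLocalRing_iff, ha]; exact_mod_cast Iff.rfl
  have rB : IsRegularLocalRing B ↔ μB = b := by
    rw [isRegularLocalRing_iff, hb]; exact_mod_cast Iff.rfl
  have rC : IsRegularLocalRing (B ⧸ I) ↔ μC = c := by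
    rw [isRegularLocalRing_iff, hc]; exact_mod_cast Iff.rfl
  have hflat : Module.Flat A B → b = a + c := fun h => by
    have := Dim.ringKrullDim_eq_add_fibre A B
    rw [← hI, ha, hb, hc] at this
    exact_mod_cast this
  rw [ha, hb, hc]
  tfae_have 1 → 4 := by
    rintro ⟨hB, h⟩
    have := rB.mp hB
    exact ⟨rA.mpr (by omega), rC.mpr (by omega), by exact_mod_cast (by omega : b = a + c)⟩
  tfae_have 4 → 3 := by
    rintro ⟨hA, hC, h⟩
    have h' : b = a + c := by exact_mod_cast h
    haveI : IsRegularLocalRing B := rB.mpr (by have := rA.mp hA; have := rC.mp hC; omega)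
    haveI : LocCoh.IsCohenMacaulayLocalRing B := Depth.isCohenMacaulayLocalRing_of_isRegularLocalRing
    refine ⟨hA, hC, RegLoc.Miracle.flat_of_ringKrullDim_eq_add ?_⟩
    rw [← hI, ha, hb, hc]; exact h
  tfae_have 3 → 2 := by
    rintro ⟨hA, hC, h⟩
    have := hflat h; have := rA.mp hA; have := rC.mp hC
    exact ⟨rB.mpr (by omega), hC, h⟩
  tfae_have 2 → 1 := by
    rintro ⟨hB, hC, h⟩
    haveI := h
    haveI := hB
    have hA : IsRegularLocalRing A := S0565.result A B
    have := hflat h; have := rA.mp hA; have := rC.mp hC; have := rB.mp hB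
    exact ⟨hB, by omega⟩
  tfae_finish

end Groth.Agent.S2470
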