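import Groth.Statements.S5795
import Groth.Agent.TopDimLib.Basic

set_option autoImplicit false
universe u
open TopDim

namespace Groth.Agent.S5795

open Set Order TopologicalSpace Topology Groth.Agent.TopDimLib

/-- Let X be a Noetherian Kolmogoroff space and x a point of X. Then x is isolated in X if and only if
dim_x(X) = 0. -/
theorem result (X : Type u) [TopologicalSpace X]
    [TopologicalSpace.NoetherianSpace X] [T0Space X] (x : X) :
    IsOpen ({x} : Set X) ↔ FlatMor.localDim X x = 0 := by
  constructor
  · intro h
    refine le_antisymm ((localDim_le h rfl).trans (topologicalKrullDim_zero_of_discreteTopology _)) ?_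
    exact le_iInf fun U => @topDim_nonneg_of_nonempty _ _ ⟨⟨x, U.2⟩⟩
  · intro h
    obtain ⟨U, hU, hxU, e⟩ := exists_localDim_eq x
    obtain ⟨-, hd⟩ := finite_and_discrete_of_topDim_le_zero (X := U) (e.trans h).le
    have := hU.isOpenEmbedding_subtypeVal.isOpenMap _ (isOpen_discrete ({⟨x, hxU⟩} : Set U))
    simpa using this

end Groth.Agent.S5795
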