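import Groth.Statements.S0020
import Groth.Agent.HomShQC.Stalk
-- import your own Groth.Agent.* helpers here

set_option autoImplicit false
universe u
open Coherent

namespace Groth.Agent.S0020

open AlgebraicGeometry in
/-- On a scheme X, the set of points at which the stalk of a finite type 𝒪_X-module M is nonzero (the
support of M) is closed. -/
theorem result (X : Scheme.{u}) (M : X.Modules) (hM : CohB1.IsFT M) :
    IsClosed (CohB1.support M) := by
  refine ⟨isOpen_iff_forall_mem_open.mpr fun x hx => ?_⟩
  obtain ⟨U, hxU, n, s, hs⟩ := Groth.Agent.HomShEval.exists_span_germ M hM x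
  have h0 : Subsingleton (M.presheaf.stalk x) := not_not.mp hx
  choose W hxW iU iV e using fun i => M.presheaf.germ_eq x hxU hxU (s i) 0
    ((@Subsingleton.elim _ h0 _ _).trans (map_zero (M.presheaf.germ U x hxU).hom).symm)
  refine ⟨(U : Set X) ∩ ⋂ i, (W i : Set X), fun y hy hn => hn ?_, U.2.inter (isOpen_iInter_of_finite fun i => (W i).2),
    hxU, Set.mem_iInter.mpr hxW⟩
  have hz : ∀ i, Groth.Agent.PullStalk.Sky.germM M U y hy.1 (s i) = 0 := fun i => by
    have h1 : y ∈ W i := Set.mem_iInter.mp hy.2 i
    refine (M.presheaf.germ_res_apply (iU i) y h1 (s i)).symm.trans ?_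
    rw [e i, map_zero, map_zero]
  refine (Submodule.subsingleton_iff (X.presheaf.stalk y)).mp (subsingleton_of_bot_eq_top ?_)
  rw [← hs y hy.1, eq_comm, Submodule.span_eq_bot]
  rintro _ ⟨i, rfl⟩
  exact hz i

end Groth.Agent.S0020
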