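import Groth.Statements.S2930
import Groth.Agent.DualFinite.Quotient
import Groth.Agent.LocCoh.DepthVanishing

set_option autoImplicit false
universe u
open LocCoh

namespace Groth.Agent.S2930

/-- (ii)⇔(iii): Let A be a Noetherian ring which is a quotient of a regular ring, I an ideal, M a finite
A-module and n ≥ 0. Then H^i_I(M) is a finite A-module for every i ≤ n if and only if depth M_p ≥ n
for every prime p not containing I for which V(p) ∩ V(I) has codimension 1 in V(p), i.e. for which
there is a prime q ⊇ I covering p. -/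
theorem result (R : Type u) [CommRing R] [IsRegularRing R] (A : Type u) [CommRing A] [IsNoetherianRing A] (π : R →+* A) (hπ : Function.Surjective π) (I : Ideal A) (M : Type u) [AddCommGroup M] [Module A M] [Module.Finite A M] (n : ℕ) : (∀ i : ℕ, i ≤ n → Module.Finite A (LocCoh.H I i M)) ↔ ∀ p q : PrimeSpectrum A, ¬ I ≤ p.asIdeal → I ≤ q.asIdeal → p ⋖ q → (n : ℕ∞) ≤ LocCoh.depth (Localization.AtPrime p.asIdeal) (LocalizedModule p.asIdeal.primeCompl M) := by
  constructor
  · intro h p q hp hq hpq
    by_contra hlt
    rw [not_le] at hlt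
    obtain ⟨r, hr⟩ := ENat.ne_top_iff_exists.mp hlt.ne_top
    have hrn : r < n := by rw [← hr] at hlt; exact_mod_cast hlt
    obtain ⟨c, hc, hcp⟩ := SetLike.not_le_iff_exists.mp hp
    have hcov : (q.asIdeal.map (Ideal.Quotient.mk p.asIdeal)).height ≤ 1 := by
      by_contra hgt
      obtain ⟨t, ht, hpt, htq, -⟩ := LocCoh.AdjDepth.exists_between (s := p.asIdeal) (q := q.asIdeal)
        hpq.1 (not_le.mp hgt) (hq hc) hcp
      exact hpq.2 (c := ⟨t, ht⟩) hpt htq
    -- a power of `c` kills every `H^i`, `i ≤ n`
    have hkill : ∀ i, i ≤ n → c ∈ (Module.annihilator A (_root_.LocCoh.H I i M)).radical := by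
      intro i hi
      classical
      obtain ⟨s, hs⟩ := (h i hi).fg_top
      choose k hk using fun x : _root_.LocCoh.H I i M => LocCoh.isPowerTorsion_H (i := i) (I := I) (ModuleCat.of A M) x
      refine ⟨∑ x ∈ s, k x, Module.mem_annihilator.mpr fun y => ?_⟩
      have hy : y ∈ Submodule.span A (s : Set (_root_.LocCoh.H I i M)) := hs ▸ Submodule.mem_top
      induction hy using Submodule.span_induction with
      | mem z hz =>
        obtain ⟨l, hl⟩ := Nat.exists_eq_add_of_le (Finset.single_le_sum (fun j _ => Nat.zero_le (k j)) hz)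
        rw [hl]
        exact hk z _ (by rw [pow_add]; exact Ideal.mul_mem_right _ _ (Ideal.pow_mem_pow hc (k z)))
      | zero => exact smul_zero _
      | add a b _ _ ha hb => rw [smul_add, ha, hb, add_zero]
      | smul a x _ hx => rw [smul_comm, hx, smul_zero]
    have hsing : ∀ i ≤ n, Ideal.span {c} ≤ (Module.annihilator A (_root_.LocCoh.H I i M)).radical :=
      fun i hi => (Ideal.span_singleton_le_iff_mem _).mpr (hkill i hi)
    obtain ⟨k, hk⟩ := LocCoh.AdjDepth.exists_pow_kills (a := I) (Ideal.mem_span_singleton_self c) hsing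
    obtain ⟨i, hi, x, hx⟩ := LocCoh.AdjDepth.exists_not_kills (a := I) p.asIdeal q.asIdeal hq hpq.1 hp hcov
      r M hr.symm (c ^ k) fun hck => hcp (p.2.mem_of_pow_mem k hck)
    exact hx (hk i (by omega) x)
  · intro h i hi
    refine DualFinite.finite_H_quotient π hπ I M i fun p q hp hq hpq j hj => ?_
    rcases subsingleton_or_nontrivial (LocalizedModule p.asIdeal.primeCompl M) with hM | hM
    · exact LocCoh.SupportDimVanish.subsingleton_H_of_supportDim_lt' _ j _ (by
        rw [(Module.supportDim_eq_bot_iff_subsingleton _ _).mpr hM]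
        exact WithBot.bot_lt_coe _)
    · have hd := h p q hp hq hpq
      have hne : _root_.LocCoh.depth (Localization.AtPrime p.asIdeal)
          (LocalizedModule p.asIdeal.primeCompl M) ≠ ⊤ := Depth.depth_lt_top.ne
      obtain ⟨d, hd'⟩ := ENat.ne_top_iff_exists.mp hne
      rw [← hd', Nat.cast_le] at hd
      exact (LocCoh.H_of_idealDepth_eq _ d _ hd'.symm).1 j (by omega)

end Groth.Agent.S2930
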