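import Groth.Statements.S14381
import Groth.Agent.LccRepLib.Global
import Groth.Agent.GalCohAux.EtLocKill
-- import your own Groth.Agent.* helpers here

set_option autoImplicit false
open CategoryTheory CategoryTheory.Limits AlgebraicGeometry Opposite
universe u
open EtCoh

namespace Groth.Agent.S14381

/-- Let Y be a quasi-compact quasi-separated scheme with finitely many connected components, F an
abelian sheaf on the small étale site of Y which is finite locally constant and killed by some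
integer n ≥ 1, and ζ a class in H^1(Y_ét, F). Then there is a finite étale surjective morphism g :
Y' → Y such that the pullback of ζ to H^1(Y'_ét, g⁻¹F) vanishes. (Degree-one classes are always
killed by finite étale covers, so the defining condition of a K(π,1) scheme holds in degree 1 for
every such Y.) (Exactness of pullback of abelian sheaves, which always holds, is carried as an
instance hypothesis.) -/
theorem result (Y : Scheme.{u}) [CompactSpace ↥Y]
    [QuasiSeparatedSpace ↥Y] (hconn : Finite (_root_.ConnectedComponents ↥Y))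
    (F : EtCoh.Ab Y) (hF : EtCoh.IsFiniteLocallyConstant F)
    (htor : ∃ n : ℕ, 0 < n ∧ EtCoh.KilledBy n F) (ζ : EtCoh.H Y F 1) :
    ∃ (Y' : Scheme.{u}) (g : Y' ⟶ Y), IsFinite g ∧ Etale g ∧ Surjective g ∧
      ∀ [PreservesFiniteLimits (EtCoh.pull g)], EtCore.Hpull g F 1 ζ = 0 := by
  classical
  let S : ShortComplex (EtCoh.Ab Y) :=
    ShortComplex.mk (Injective.ι F) (cokernel.π _) (cokernel.condition _)
  haveI : Epi S.g := coequalizer.π_epi
  haveI : Mono S.f := inferInstanceAs (Mono (Injective.ι F))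
  have hS : S.ShortExact := { exact := ShortComplex.exact_cokernel _ }
  haveI : Injective S.X₂ := inferInstanceAs (Injective (Injective.under F))
  obtain ⟨y, hy⟩ := Abelian.Ext.covariant_sequence_exact₁ (EtCoh.const Y ℤ) hS ζ
    (Abelian.Ext.eq_zero_of_injective _) (rfl : 0 + 1 = 0 + 1)
  obtain ⟨q, rfl⟩ := (Abelian.Ext.mk₀_bijective _ _).2 y
  haveI := EtaleSite.isLocallySurjective_of_stalk S.g fun Ω _ _ ξ =>
    ((EtaleSite.epi_iff_stalk S.g).1 ‹_› Ω ξ)
  let tq : ∀ W : Y.Etale, S.X₃.obj.obj (op W) := fun W =>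
    q.hom.app (op W) (GalCohAux.EtLocKill.one W)
  have htq : ∀ {W' W : Y.Etale} (k : W' ⟶ W), S.X₃.obj.map k.op (tq W) = tq W' := fun k => by
    show S.X₃.obj.map k.op (q.hom.app _ _) = q.hom.app _ _
    rw [← NatTrans.naturality_apply, GalCohAux.EtLocKill.one, GalCohAux.EtLocKill.one,
      EtaleSite.ConstSections.map_cst]
  let Q : ∀ W : Y.Etale, S.X₂.obj.obj (op W) → Prop := fun W i => S.g.hom.app (op W) i = tq W
  have hQ : ∀ {W' W : Y.Etale} (k : W' ⟶ W) (s : S.X₂.obj.obj (op W)),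
      Q W s → Q W' (LccRepLib.res S.X₂ k s) := fun k s hs => by
    show S.g.hom.app _ (S.X₂.obj.map k.op s) = _
    rw [NatTrans.naturality_apply, show S.g.hom.app _ s = _ from hs, htq]
  have hQloc : ∀ {W' W : Y.Etale} (k : W' ⟶ W) (s : S.X₂.obj.obj (op W)),
      Function.Surjective k.left.base → Q W' (LccRepLib.res S.X₂ k s) → Q W s := fun k s hk hs => by
    refine LccRepLib.res_injective S.X₃ k hk ?_
    show S.X₃.obj.map k.op (S.g.hom.app _ s) = S.X₃.obj.map k.op _
    rw [← NatTrans.naturality_apply, htq]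
    exact hs
  have hsec : ∀ (W : Y.Etale), Function.Injective (S.f.hom.app (op W)) ∧
      ∀ i : S.X₂.obj.obj (op W), S.g.hom.app (op W) i = 0 → ∃ a, S.f.hom.app (op W) a = i := by
    intro W
    let G := sheafToPresheaf Y.smallEtaleTopology AddCommGrpCat.{u + 1} ⋙
      (evaluation _ _).obj (op W)
    refine ⟨(AddCommGrpCat.mono_iff_injective (G.map S.f)).1 inferInstance, fun i hi => ?_⟩
    have := hS.exact.map_of_mono_of_preservesKernel G inferInstance inferInstance
    rw [ShortComplex.ab_exact_iff] at this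
    exact this i hi
  obtain ⟨ι, V, hV, hP⟩ := EtConsAb.exists_covers_of_forall_geomPoint
    (fun V : Y.Etale => (∃ (M : Type (u + 1)) (_ : AddCommGroup M) (_ : Finite M)
      (m : M →+ F.obj.obj (op V)), EtConsAb.IsTriv F V M m) ∧
      ∃ l : S.X₂.obj.obj (op V), Q V l) (fun Ω _ _ ξ => by
      obtain ⟨V₁, φ₁, M, _, _, m, hm⟩ := EtConsAb.exists_isTriv hF ξ
      obtain ⟨x⟩ : Nonempty ((Scheme.pointSmallEtale ξ).fiber.obj (EtCoh.top Y)) :=
        ⟨Over.homMk ξ (Category.comp_id _)⟩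
      obtain ⟨V₂, g, ⟨l, hl⟩, φ₂, -⟩ := (Scheme.pointSmallEtale ξ).jointly_surjective _
        (Presheaf.imageSieve_mem Y.smallEtaleTopology S.g.hom (tq (EtCoh.top Y))) x
      obtain ⟨z, ⟨p₁, -⟩, ⟨p₂, -⟩, -⟩ := IsCofilteredOrEmpty.cone_objs
        ((Scheme.pointSmallEtale ξ).fiber.elementsMk _ φ₁)
        ((Scheme.pointSmallEtale ξ).fiber.elementsMk _ φ₂)
      exact ⟨z.1, z.2, ⟨M, inferInstance, inferInstance, _, hm.restrict p₁⟩,
        LccRepLib.res S.X₂ p₂ l, hQ p₂ l (hl.trans (htq g))⟩)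
  have hrep : ∀ i, ∃ (κ : Type u) (_ : Finite κ)
      (x : S.X₂.obj.obj (op (LccRepLib.sigma fun _ : κ => V i))),
      LccRepLib.RepOn S.X₂ Q (LccRepLib.sigmaDesc (fun _ : κ => V i) fun _ => 𝟙 (V i)) x := by
    intro i
    obtain ⟨⟨M, _, _, m, hm⟩, l, hl⟩ := hP i
    obtain ⟨n, ⟨e⟩⟩ := Finite.exists_equiv_fin M
    obtain ⟨x, hx⟩ := LccRepLib.exists_rep_triv F
      ((Equiv.ulift : ULift.{u} (Fin n) ≃ Fin n).trans e.symm) hm
    let π := LccRepLib.sigmaDesc (fun _ : ULift.{u} (Fin n) => V i) fun _ => 𝟙 (V i)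
    have hfg : ∀ (W : Y.Etale) (a : F.obj.obj (op W)),
        S.g.hom.app (op W) (S.f.hom.app (op W) a) = 0 := fun W a => by
      have := congrArg (fun (k : S.X₁ ⟶ S.X₃) => k.hom.app (op W) a) S.zero
      exact this
    refine ⟨ULift.{u} (Fin n), inferInstance,
      LccRepLib.res S.X₂ π l + S.f.hom.app (op _) x, hQ, ?_, fun W g s hs => ?_⟩
    · show S.g.hom.app (op _) (_ + _) = _
      rw [map_add, hfg, add_zero]
      exact hQ π l hl
    · obtain ⟨a, ha⟩ := (hsec W).2 (s - LccRepLib.res S.X₂ g l) (by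
        rw [map_sub, show S.g.hom.app (op W) s = _ from hs,
          show S.g.hom.app (op W) (LccRepLib.res S.X₂ g l) = _ from hQ g l hl, sub_self])
      have key : ∀ v : W ⟶ LccRepLib.sigma (fun _ : ULift.{u} (Fin n) => V i), v ≫ π = g →
          LccRepLib.res S.X₂ v (LccRepLib.res S.X₂ π l + S.f.hom.app (op _) x) =
            LccRepLib.res S.X₂ g l + S.f.hom.app (op W) (LccRepLib.res F v x) := fun v hv => by
        show S.X₂.obj.map v.op (_ + _) = _
        rw [map_add]
        congr 1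
        · rw [← hv, LccRepLib.res_comp]
        · exact (NatTrans.naturality_apply S.f.hom v.op x).symm
      obtain ⟨v, ⟨hv₁, hv₂⟩, huniq⟩ := hx.exists_unique W g a trivial
      refine ⟨v, ⟨hv₁, by rw [key v hv₁, hv₂, ha, add_sub_cancel]⟩, fun v' hv' => huniq v'
        ⟨hv'.1, (hsec W).1 ?_⟩⟩
      have h2 := (key v' hv'.1).symm.trans hv'.2
      rw [ha, ← h2, add_sub_cancel_left]
  choose κ hκ x hx using hrep
  obtain ⟨η, hη⟩ :=
    LccRepLib.exists_sigma_sect (fun i => LccRepLib.sigma fun _ : κ i => V i) S.X₂ x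
  have hr := LccRepLib.rep_sigma S.X₂ V _ _ Q hQ x hx η hη (by
    refine EtaleSite.eq_of_pieces S.X₃ (LccRepLib.sigmaOpen _)
      (LccRepLib.exists_mem_sigmaOpen _) _ _ fun i => ?_
    obtain ⟨k, hk⟩ := LccRepLib.exists_lift_piece (fun i => LccRepLib.sigma fun _ : κ i => V i)
      (𝟙 _) (LccRepLib.sigmaOpen _ i) i fun w hw => hw
    rw [Category.comp_id] at hk
    show S.X₃.obj.map _ (S.g.hom.app _ η) = S.X₃.obj.map _ (tq _)
    rw [← NatTrans.naturality_apply, htq, ← hk]
    refine (congrArg (S.g.hom.app _)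
      ((LccRepLib.res_comp S.X₂ k _ η).trans (congrArg _ (hη i)))).trans ?_
    exact hQ k _ (hx i).mem)
  haveI : ∀ i, IsFinite (LccRepLib.sigmaDesc (fun _ : κ i => V i) fun _ => 𝟙 (V i)).left :=
    fun i => LccRepLib.isFinite_fold
  haveI := LccRepLib.isFinite_sigmaDesc V (fun i => LccRepLib.sigma fun _ : κ i => V i)
    fun i => LccRepLib.sigmaDesc (fun _ : κ i => V i) fun _ => 𝟙 (V i)
  haveI : Surjective (LccRepLib.sigma V).hom := ⟨fun y => by
    obtain ⟨i, v, hv⟩ := hV y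
    refine ⟨(LccRepLib.sigmaι V i).left v, ?_⟩
    rw [← hv, ← Scheme.Hom.comp_apply, MorphismProperty.Over.w (LccRepLib.sigmaι V i)]⟩
  obtain ⟨U, hU, j, hj, -, hsurj⟩ := LccRepLib.exists_repr' hr hQloc
  haveI : Etale U.hom := U.prop
  refine ⟨U.left, U.hom, hU, U.prop, ⟨fun y => ?_⟩, ?_⟩
  · obtain ⟨i, v, hv⟩ := hV y
    obtain ⟨-, l, hl⟩ := hP i
    obtain ⟨a, -⟩ := hsurj (V i) l hl
    refine ⟨a.left v, ?_⟩
    rw [← hv, ← Scheme.Hom.comp_apply, MorphismProperty.Over.w a]
  intro hlim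
  obtain ⟨ψ, hψ⟩ := (EtaleSite.Flasque.freeSec_bijective U S.X₂).2 j
  have e : EtMV.cMap U.hom ≫ q = ψ ≫ S.g := (EtaleSite.Flasque.freeSec_bijective U S.X₃).1 (by
    refine (EtaleSite.Flasque.freeSec_comp U _ q).trans ?_
    refine Eq.trans ?_ (EtaleSite.Flasque.freeSec_comp U ψ S.g).symm
    rw [hψ, GalCohAux.EtLocKill.freeSec_cMap]
    exact hj.symm)
  refine (EtMV.toE_bijective U.hom F 1).1 ?_
  rw [EtMV.toE_Hpull, map_zero, ← hy, Abelian.Ext.mk₀_comp_mk₀_assoc]
  refine (congrArg (fun z => (Abelian.Ext.mk₀ z).comp hS.extClass (zero_add 1)) e).trans ?_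
  refine (Abelian.Ext.mk₀_comp_mk₀_assoc ψ S.g hS.extClass).symm.trans ?_
  rw [hS.comp_extClass, Abelian.Ext.comp_zero]
  rfl

end Groth.Agent.S14381
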