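import Groth.Statements.S13355
-- import your own Groth.Agent.* helpers here

set_option autoImplicit false
universe u
open GaDual

namespace Groth.Agent.S13355

open PowerSeries in
lemma mul_iff {A : Type u} [CommRing A] (χ : PowerSeries A) :
    PowerSeries.subst (MvPowerSeries.X 0 + MvPowerSeries.X 1 : MvPowerSeries (Fin 2) A) χ =
        PowerSeries.subst (MvPowerSeries.X 0 : MvPowerSeries (Fin 2) A) χ *
          PowerSeries.subst (MvPowerSeries.X 1 : MvPowerSeries (Fin 2) A) χ ↔
      ∀ i j : ℕ, ((i + j).choose i : A) * coeff (i + j) χ = coeff i χ * coeff j χ := by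
  rw [MvPowerSeries.ext_iff]
  constructor
  · intro h i j
    have := h (Finsupp.single 0 i + Finsupp.single 1 j)
    rw [coeff_subst_X_zero_add_X_one, coeff_subst_X_zero_subst_mul_X_one] at this
    simpa using this
  · intro h e
    rw [coeff_subst_X_zero_add_X_one, coeff_subst_X_zero_subst_mul_X_one]
    exact h (e 0) (e 1)


/-- Over a commutative algebra A over the rationals, the formal characters (power series with constant
term 1 satisfying χ(X+Y) = χ(X)χ(Y) in two variables) are exactly the power series exp(aX) for a in
A. -/
theorem result (A : Type u) [CommRing A] [Algebra ℚ A] (χ : PowerSeries A) :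
    (PowerSeries.constantCoeff χ = 1 ∧
      PowerSeries.subst (MvPowerSeries.X 0 + MvPowerSeries.X 1 : MvPowerSeries (Fin 2) A) χ =
        PowerSeries.subst (MvPowerSeries.X 0 : MvPowerSeries (Fin 2) A) χ *
          PowerSeries.subst (MvPowerSeries.X 1 : MvPowerSeries (Fin 2) A) χ) ↔
      ∃ a : A, χ = PowerSeries.rescale a (PowerSeries.exp A) := by
  rw [mul_iff]
  constructor
  · rintro ⟨h0, h⟩
    refine ⟨PowerSeries.coeff 1 χ, PowerSeries.ext fun n => ?_⟩
    have key : ∀ n : ℕ, (n.factorial : A) * PowerSeries.coeff n χ = PowerSeries.coeff 1 χ ^ n := by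
      intro n
      induction n with
      | zero => simpa using h0
      | succ n ih =>
        have e := h 1 n
        rw [Nat.choose_one_right, add_comm 1 n] at e
        rw [Nat.factorial_succ, pow_succ, ← ih]
        push_cast at e ⊢
        linear_combination (n.factorial : A) * e
    rw [PowerSeries.coeff_rescale, PowerSeries.coeff_exp, ← key n, mul_comm, ← mul_assoc,
      ← map_natCast (algebraMap ℚ A), ← map_mul, one_div, inv_mul_cancel₀ (by exact_mod_cast n.factorial_ne_zero),
      map_one, one_mul]
  · rintro ⟨a, rfl⟩
    refine ⟨by simp [← PowerSeries.coeff_zero_eq_constantCoeff_apply, PowerSeries.coeff_rescale], fun i j => ?_⟩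
    simp only [PowerSeries.coeff_rescale, PowerSeries.coeff_exp, pow_add]
    have e : ((i + j).choose i : ℚ) * (1 / (i + j).factorial) = (1 / i.factorial) * (1 / j.factorial) := by
      have := congrArg (Nat.cast : ℕ → ℚ) (Nat.add_choose_mul_factorial_mul_factorial i j)
      rw [← Nat.choose_symm_add] at this
      push_cast at this
      field_simp
      linear_combination this
    have e' := congrArg (algebraMap ℚ A) e
    rw [map_mul, map_mul, map_natCast] at e'
    linear_combination (a ^ i * a ^ j) * e'

end Groth.Agent.S13355
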