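import Groth.Statements.S13356
import Groth.Agent.S13355

set_option autoImplicit false
universe u
open GaDual

namespace Groth.Agent.S13356

/-- Over a commutative algebra A over the rationals, the polynomials f with f(0) = 1 and f(X+Y) =
f(X)f(Y) (the characters of the additive group into the multiplicative group over A) are exactly the
polynomials exp(aX) with a in A nilpotent. -/
theorem result (A : Type u) [CommRing A] [Algebra ℚ A] (f : Polynomial A) :
    (f.eval 0 = 1 ∧
      Polynomial.aeval (MvPolynomial.X 0 + MvPolynomial.X 1 : MvPolynomial (Fin 2) A) f =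
        Polynomial.aeval (MvPolynomial.X 0 : MvPolynomial (Fin 2) A) f *
          Polynomial.aeval (MvPolynomial.X 1 : MvPolynomial (Fin 2) A) f) ↔
      ∃ a : A, IsNilpotent a ∧ (f : PowerSeries A) = PowerSeries.rescale a (PowerSeries.exp A) := by
  have hs : ∀ p : MvPolynomial (Fin 2) A, MvPowerSeries.constantCoeff (p : MvPowerSeries (Fin 2) A) = 0 →
      PowerSeries.subst (p : MvPowerSeries (Fin 2) A) (f : PowerSeries A) =
        ((Polynomial.aeval p f : MvPolynomial (Fin 2) A) : MvPowerSeries (Fin 2) A) := by
    intro p hp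
    rw [PowerSeries.subst_coe (PowerSeries.HasSubst.of_constantCoeff_zero hp)]
    have := Polynomial.aeval_algHom_apply (MvPolynomial.coeToMvPowerSeries.algHom A) p f
    simpa [MvPolynomial.coeToMvPowerSeries.algHom_apply, Algebra.algebraMap_self] using this
  have h := Groth.Agent.S13355.result A (f : PowerSeries A)
  have h0 : f.eval 0 = PowerSeries.constantCoeff (f : PowerSeries A) := by
    simp [← Polynomial.coeff_zero_eq_eval_zero]
  have e0 := hs (MvPolynomial.X 0) (by simp)
  have e1 := hs (MvPolynomial.X 1) (by simp)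
  have e2 := hs (MvPolynomial.X 0 + MvPolynomial.X 1) (by simp)
  simp only [MvPolynomial.coe_X, MvPolynomial.coe_add] at e0 e1 e2
  rw [h0, ← MvPolynomial.coe_inj, MvPolynomial.coe_mul, ← e0, ← e1, ← e2, h]
  constructor
  · rintro ⟨a, ha⟩
    refine ⟨a, ⟨f.natDegree + 1, ?_⟩, ha⟩
    have e := congrArg (PowerSeries.coeff (f.natDegree + 1)) ha
    rw [Polynomial.coeff_coe, Polynomial.coeff_eq_zero_of_natDegree_lt (by omega),
      PowerSeries.coeff_rescale, PowerSeries.coeff_exp] at e
    exact (IsUnit.mul_left_eq_zero (IsUnit.map (algebraMap ℚ A) (isUnit_iff_ne_zero.2 (by positivity)))).1 e.symm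
  · rintro ⟨a, -, ha⟩
    exact ⟨a, ha⟩

end Groth.Agent.S13356
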