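import Groth.Prelude.Def_W4c5qcohlocdualityLoc
import Mathlib.CategoryTheory.Abelian.GrothendieckCategory.EnoughInjectives
import Mathlib.CategoryTheory.Abelian.Exact

/-!
Localizing closures in Grothendieck abelian categories.
-/

set_option autoImplicit false

universe w v u

open CategoryTheory CategoryTheory.Limits ZeroObject

namespace Groth.Agent.GabLocLib

variable {C : Type u} [Category.{v} C] [Abelian C] [IsGrothendieckAbelian.{w} C]

/-- A small model of a set, as an index preorder. -/
def SJ {α : Type*} (c : Set α) [Small.{w} c] : Type w := Shrink.{w} c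

noncomputable instance {α : Type*} [Preorder α] (c : Set α) [Small.{w} c] : Preorder (SJ.{w} c) :=
  Preorder.lift (fun j : Shrink.{w} c => ((equivShrink c).symm j : α))

section Maximal

variable {Y Q : C} (q : Y ⟶ Q)

/-- A subobject meeting the kernel of `q` trivially. -/
def Avoids (L : Subobject Y) : Prop := Mono (L.arrow ≫ q)

lemma avoids_bot : Avoids q (⊥ : Subobject Y) := by
  constructor
  intro Z a b _
  have hz : IsZero ((⊥ : Subobject Y) : C) :=
    IsZero.of_iso (isZero_zero C) (Subobject.botCoeIsoZero)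
  exact hz.eq_of_tgt a b

lemma exists_maximal (A₀ : Subobject Y) (h₀ : Avoids q A₀) :
    ∃ L : Subobject Y, A₀ ≤ L ∧ Maximal (Avoids q) L := by
  refine zorn_le_nonempty₀ (s := {L | Avoids q L}) (fun c hc hchain y hy => ?_) A₀ h₀
  have : Small.{w} c := inferInstance
  have : Nonempty (SJ.{w} c) := ⟨equivShrink c ⟨y, hy⟩⟩
  have : IsDirectedOrder (SJ.{w} c) := ⟨fun a b => by
    rcases hchain.total ((equivShrink c).symm a).2 ((equivShrink c).symm b).2 with h | h
    · exact ⟨b, h, le_refl _⟩
    · exact ⟨a, le_refl _, h⟩⟩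
  let F : SJ.{w} c ⥤ MonoOver Y :=
    { obj := fun j => MonoOver.mk ((equivShrink c).symm j : Subobject Y).arrow
      map := fun {j j'} h => MonoOver.homMk (Subobject.ofLE _ _ (leOfHom (X := SJ.{w} c) h)) }
  have : IsFiltered (SJ.{w} c) := isFiltered_of_directed_le_nonempty _
  have : HasColimitsOfShape (SJ.{w} c) C :=
    HasFilteredColimitsOfSize.HasColimitsOfShape _
  let K := F ⋙ MonoOver.forget _ ⋙ Over.forget _
  let f : colimit K ⟶ Y := colimit.desc K (Cocone.mk Y
    { app := fun j => (F.obj j).obj.hom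
      naturality := fun {j j'} g => (MonoOver.w (F.map g)).trans (Category.comp_id _).symm })
  have hf : ∀ j, colimit.ι K j ≫ f = (F.obj j).obj.hom := fun j => colimit.ι_desc _ j
  have : Mono f := IsGrothendieckAbelian.mono_of_isColimit_monoOver F (colimit.isColimit K) f hf
  have hmono : Mono (f ≫ q) := by
    let α : K ⟶ (Functor.const _).obj Q :=
      { app := fun j => (F.obj j).obj.hom ≫ q
        naturality := fun {j j'} g => by
          refine (Category.assoc (K.map g) (F.obj j').obj.hom q).symm.trans ?_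
          rw [show K.map g ≫ (F.obj j').obj.hom = (F.obj j).obj.hom from MonoOver.w (F.map g)]
          exact (Category.comp_id _).symm }
    have : ∀ j, Mono (α.app j) := fun j => by
      show Mono ((((equivShrink c).symm j : Subobject Y)).arrow ≫ q)
      exact hc ((equivShrink c).symm j).2
    have := NatTrans.mono_of_mono_app α
    have := IsFiltered.isConnected (SJ.{w} c)
    exact colim.map_mono' α (colimit.isColimit K) (isColimitConstCocone _ Q) (f ≫ q)
      (fun j => (Category.assoc (colimit.ι K j) f q).symm.trans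
        ((congrArg (· ≫ q) (hf j)).trans (Category.comp_id _).symm))
  refine ⟨Subobject.mk f, ?_, fun z hz => ?_⟩
  · show Mono ((Subobject.mk f).arrow ≫ q)
    rw [← Subobject.underlyingIso_hom_comp_eq_mk, Category.assoc]
    exact mono_comp _ _
  · have := hf (equivShrink c ⟨z, hz⟩)
    refine Subobject.le_mk_of_comm (Subobject.ofLE z _ (le_of_eq (congrArg Subtype.val
      (Equiv.symm_apply_apply (equivShrink c) ⟨z, hz⟩).symm)) ≫
        colimit.ι K (equivShrink c ⟨z, hz⟩)) ?_
    exact (Category.assoc _ (colimit.ι K _) f).trans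
      ((congrArg (Subobject.ofLE z _ _ ≫ ·) this).trans (Subobject.ofLE_arrow _))

end Maximal

/-- Every monomorphism becomes essential after a suitable quotient of its target. -/
lemma exists_essential {B Y : C} (i : B ⟶ Y) [Mono i] :
    ∃ (Y' : C) (π : Y ⟶ Y') (_ : Epi π) (_ : Mono (i ≫ π)),
      ∀ ⦃Z : C⦄ (z : Z ⟶ Y'), Mono z → IsZero (pullback (i ≫ π) z) → IsZero Z := by
  obtain ⟨L, -, hL, hmax⟩ := exists_maximal (cokernel.π i) ⊥ (avoids_bot _)
  have hmono : Mono (i ≫ cokernel.π L.arrow) := by
    refine Preadditive.mono_of_cancel_zero _ fun {W} k hk => ?_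
    rw [← Category.assoc] at hk
    obtain ⟨l, hl⟩ : ∃ l : W ⟶ (L : C), l ≫ L.arrow = k ≫ i :=
      ⟨Abelian.monoLift L.arrow (k ≫ i) hk, Abelian.monoLift_comp _ _ _⟩
    have : Mono (L.arrow ≫ cokernel.π i) := hL
    have h0 : l ≫ L.arrow ≫ cokernel.π i = 0 := by
      rw [← Category.assoc, hl, Category.assoc, cokernel.condition, comp_zero]
    rw [zero_of_comp_mono _ h0, zero_comp] at hl
    exact zero_of_comp_mono i hl.symm
  refine ⟨_, cokernel.π L.arrow, inferInstance, hmono, fun Z z _ hzero => ?_⟩
  have hw : L.arrow ≫ cokernel.π L.arrow ≫ cokernel.π z = 0 := by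
    rw [← Category.assoc, cokernel.condition, zero_comp]
  let L' : Subobject Y := kernelSubobject (cokernel.π L.arrow ≫ cokernel.π z)
  have hle : L ≤ L' := Limits.le_kernelSubobject _ _ hw
  have hav : Avoids (cokernel.π i) L' := by
    refine Preadditive.mono_of_cancel_zero _ fun {W} k hk => ?_
    rw [← Category.assoc] at hk
    obtain ⟨b, hb⟩ : ∃ b : W ⟶ B, b ≫ i = k ≫ L'.arrow :=
      ⟨Abelian.monoLift i (k ≫ L'.arrow) hk, Abelian.monoLift_comp _ _ _⟩
    have hz0 : (b ≫ i ≫ cokernel.π L.arrow) ≫ cokernel.π z = 0 := by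
      rw [reassoc_of% hb]
      simp only [Category.assoc]
      rw [kernelSubobject_arrow_comp, comp_zero]
    have hb0 : b ≫ i ≫ cokernel.π L.arrow = 0 := by
      have e : Abelian.monoLift z _ hz0 ≫ z = b ≫ i ≫ cokernel.π L.arrow :=
        Abelian.monoLift_comp _ _ _
      rw [← pullback.lift_fst (f := i ≫ cokernel.π L.arrow) (g := z) b (Abelian.monoLift z _ hz0)
        e.symm, hzero.eq_of_tgt (pullback.lift _ _ _) 0, zero_comp, zero_comp]
    have : b = 0 := zero_of_comp_mono (i ≫ cokernel.π L.arrow) hb0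
    rw [this, zero_comp] at hb
    exact zero_of_comp_mono L'.arrow hb.symm
  have heq : L' = L := le_antisymm (hmax hav hle) hle
  have h0 : L'.arrow ≫ cokernel.π L.arrow = 0 := by rw [heq]; exact cokernel.condition _
  let p := pullback.fst (cokernel.π L.arrow) z
  have hp : L'.Factors p := kernelSubobject_factors _ _ (by
    rw [← Category.assoc, pullback.condition, Category.assoc, cokernel.condition, comp_zero])
  have : pullback.snd (cokernel.π L.arrow) z = 0 := by
    refine zero_of_comp_mono z ?_
    rw [← pullback.condition]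
    show p ≫ _ = 0
    rw [← L'.factorThru_arrow p hp, Category.assoc, h0, comp_zero]
  exact IsZero.of_epi_eq_zero _ this

variable (P : ObjectProperty C)

/-- Every nonzero quotient has a nonzero subobject in `P`. -/
def HasParts : ObjectProperty C := fun Y =>
  ∀ ⦃Z : C⦄ (p : Y ⟶ Z), Epi p → ¬ IsZero Z → ∃ (W : C) (m : W ⟶ Z), Mono m ∧ ¬ IsZero W ∧ P W

variable {P}

lemma HasParts.of_map [P.IsClosedUnderQuotients] {Y Z : C} (hY : HasParts P Y) (f : Y ⟶ Z)
    (hf : f ≠ 0) : ∃ (W : C) (m : W ⟶ Z), Mono m ∧ ¬ IsZero W ∧ P W := by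
  obtain ⟨W, m, hm, hW, hP⟩ := hY (Abelian.factorThruImage f) inferInstance fun h => hf (by
    rw [← Abelian.image.fac f, h.eq_of_tgt (Abelian.factorThruImage f) 0, zero_comp])
  exact ⟨W, m ≫ Abelian.image.ι f, mono_comp _ _, hW, hP⟩

variable [P.IsClosedUnderSubobjects] [P.IsClosedUnderQuotients]

variable (P) in
theorem isLocalizing_hasParts : GabLoc.IsLocalizing.{w} (HasParts P) where
  isSerreClass :=
    { exists_zero := ⟨0, isZero_zero C, fun Z p _ hZ => absurd (IsZero.of_epi p (isZero_zero C)) hZ⟩
      prop_of_mono := by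
        intro B Y i _ hY Z p _ hZ
        obtain ⟨Y', π, _, _, hess⟩ := exists_essential (pushout.inl p i)
        obtain ⟨W, m, _, hW, hP⟩ := hY (pushout.inr p i ≫ π) (epi_comp _ _)
          (fun h => hZ (IsZero.of_mono (pushout.inl p i ≫ π) h))
        exact ⟨_, pullback.fst (pushout.inl p i ≫ π) m, inferInstance, fun h => hW (hess m ‹_› h),
          P.prop_of_mono (pullback.snd (pushout.inl p i ≫ π) m) hP⟩
      prop_of_epi := by
        intro Y Y₁ f _ hY Z p _ hZ
        exact hY (f ≫ p) (epi_comp _ _) hZ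
      prop_X₂_of_shortExact := by
        intro S hS h1 h3 Z p _ hZ
        by_cases h : S.f ≫ p = 0
        · have := hS.epi_g
          obtain ⟨l, hl⟩ : ∃ l : S.X₃ ⟶ Z, S.g ≫ l = p :=
            ⟨hS.gIsCokernel.desc (CokernelCofork.ofπ p h), Cofork.IsColimit.π_desc hS.gIsCokernel⟩
          have : Epi (S.g ≫ l) := by rw [hl]; infer_instance
          exact h3 l (epi_of_epi S.g l) hZ
        · exact h1.of_map _ h }
  isClosedUnderCoproducts J := ⟨fun Y ⟨h⟩ Z p _ hZ => by
    by_cases hall : ∀ j, h.ι.app j ≫ p = 0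
    · exact absurd ((IsZero.iff_id_eq_zero _).2 ((cancel_epi p).1 (h.isColimit.hom_ext fun j => by
        simp [reassoc_of% hall j, hall j]))) hZ
    · simp only [not_forall] at hall
      obtain ⟨j, hj⟩ := hall
      exact (h.prop_diag_obj j).of_map _ hj⟩

omit [IsGrothendieckAbelian.{w} C] in
lemma le_hasParts : P ≤ HasParts P := fun Y hY Z p _ hZ =>
  ⟨Z, 𝟙 Z, inferInstance, hZ, P.prop_of_epi p hY⟩

lemma hasParts_of_locClosure {Y : C} (h : GabLoc.locClosure.{w} P Y) : HasParts P Y :=
  h _ (isLocalizing_hasParts P) le_hasParts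

omit [IsGrothendieckAbelian.{w} C] [P.IsClosedUnderSubobjects] [P.IsClosedUnderQuotients] in
lemma le_locClosure : P ≤ GabLoc.locClosure.{w} P := fun _ hY _ _ hle => hle _ hY

omit [IsGrothendieckAbelian.{w} C] [P.IsClosedUnderSubobjects] [P.IsClosedUnderQuotients] in
lemma isClosedFor_mono {P' : ObjectProperty C} (hle : P' ≤ P) {M : C}
    (h : GabLoc.IsClosedFor P M) : GabLoc.IsClosedFor P' M :=
  ⟨fun Y hY f => h.1 (hle _ hY) f, fun N Y i p hp hY hS => h.2 i p hp (hle _ hY) hS⟩

/-- Closedness for a class closed under subobjects and quotients passes to its localizing closure. -/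
theorem isClosedFor_locClosure {M : C} (h : GabLoc.IsClosedFor P M) :
    GabLoc.IsClosedFor (GabLoc.locClosure.{w} P) M := by
  refine ⟨fun Y hY f => ?_, fun N Y i p hp hY hS => ?_⟩
  · by_contra hf
    obtain ⟨W, m, hm, hW, hP⟩ := (hasParts_of_locClosure hY).of_map f hf
    exact hW ((IsZero.iff_id_eq_zero _).2 ((cancel_mono m).1 (by rw [h.1 hP m]; simp)))
  · have : Mono i := hS.mono_f
    have : Epi p := hS.epi_g
    obtain ⟨N', π, _, hm, hess⟩ := exists_essential i
    have hiso : IsIso (i ≫ π) := by
      have : Epi (i ≫ π) := by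
        refine Abelian.epi_of_cokernel_π_eq_zero _ ?_
        by_contra hne
        obtain ⟨d, hd⟩ : ∃ d : Y ⟶ cokernel (i ≫ π), p ≫ d = π ≫ cokernel.π (i ≫ π) :=
          ⟨hS.gIsCokernel.desc (CokernelCofork.ofπ _ (show i ≫ π ≫ cokernel.π (i ≫ π) = 0 by
            rw [← Category.assoc, cokernel.condition])), Cofork.IsColimit.π_desc hS.gIsCokernel⟩
        have : Epi (p ≫ d) := by rw [hd]; exact epi_comp _ _
        obtain ⟨W, m, _, hW, hP⟩ := hasParts_of_locClosure hY d (epi_of_epi p d)
          (fun hz => hne (hz.eq_of_tgt _ _))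
        let S : ShortComplex C := ShortComplex.mk
          (pullback.lift (i ≫ π) 0 (by rw [cokernel.condition, zero_comp]))
          (pullback.snd (cokernel.π (i ≫ π)) m) (pullback.lift_snd _ _ _)
        have : Mono S.f := mono_of_mono_fac (pullback.lift_fst _ _ _)
        have hSE : S.ShortExact := by
          have : Epi S.g := Abelian.epi_pullback_of_epi_f _ _
          refine ShortComplex.ShortExact.mk' ?_ inferInstance inferInstance
          rw [ShortComplex.exact_iff_exact_up_to_refinements]
          intro A x hx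
          have hxm : (x ≫ pullback.fst (cokernel.π (i ≫ π)) m) ≫ cokernel.π (i ≫ π) = 0 := by
            rw [Category.assoc, pullback.condition, ← Category.assoc]
            erw [hx]
            exact zero_comp
          refine ⟨A, 𝟙 A, inferInstance, Abelian.monoLift (i ≫ π) _ hxm, ?_⟩
          rw [Category.id_comp]
          refine pullback.hom_ext ?_ ?_
          · dsimp [S]
            rw [Category.assoc, pullback.lift_fst, Abelian.monoLift_comp]
          · dsimp [S]
            rw [Category.assoc, pullback.lift_snd, comp_zero]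
            exact hx
        obtain ⟨⟨r, hr⟩⟩ := h.2 S.f S.g S.zero hP hSE
        let sp := ShortComplex.Splitting.ofExactOfRetraction S hSE.exact r hr hSE.epi_g
        have hsg : sp.s ≫ pullback.snd (cokernel.π (i ≫ π)) m = 𝟙 W := sp.s_g
        have hmono : Mono (sp.s ≫ pullback.fst (cokernel.π (i ≫ π)) m) := by
          have : Mono sp.s := mono_of_mono_fac hsg
          exact mono_comp _ _
        refine hW (hess _ hmono ((IsZero.iff_id_eq_zero _).2 ?_))
        have h2 : pullback.snd (i ≫ π) (sp.s ≫ pullback.fst (cokernel.π (i ≫ π)) m) = 0 := by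
          have e := congrArg (· ≫ cokernel.π (i ≫ π))
            (pullback.condition (f := i ≫ π) (g := sp.s ≫ pullback.fst (cokernel.π (i ≫ π)) m))
          simp only [Category.assoc, cokernel.condition, comp_zero] at e
          rw [pullback.condition, ← Category.assoc sp.s, hsg, Category.id_comp] at e
          exact zero_of_comp_mono m e.symm
        have h1 : pullback.fst (i ≫ π) (sp.s ≫ pullback.fst (cokernel.π (i ≫ π)) m) = 0 := by
          refine zero_of_comp_mono (i ≫ π) ?_
          rw [pullback.condition, h2, zero_comp]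
        exact pullback.hom_ext (by simp [h1]) (by simp [h2])
      exact isIso_of_mono_of_epi _
    exact IsSplitMono.mk' ⟨π ≫ inv (i ≫ π), by rw [← Category.assoc, IsIso.hom_inv_id]⟩

omit [IsGrothendieckAbelian.{w} C] in
lemma isZero_of_pullback_zero {A B E : C} {a : A ⟶ E} {b : B ⟶ E}
    (h : IsZero (pullback a b)) {W : C} (x : W ⟶ A) (y : W ⟶ B) (e : x ≫ a = y ≫ b) : x = 0 := by
  rw [← pullback.lift_fst x y e, h.eq_of_tgt (pullback.lift x y e) 0, zero_comp]

/-- An indecomposable injective is uniform. -/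
theorem uniform {E : C} [Injective E]
    (hind : ∀ (A B : C), Nonempty (E ≅ A ⊞ B) → IsZero A ∨ IsZero B)
    {A B : C} (a : A ⟶ E) (b : B ⟶ E) [Mono a] [Mono b] (hA : ¬ IsZero A) (hB : ¬ IsZero B) :
    ¬ IsZero (pullback a b) := by
  intro h0
  have hav0 : Avoids (cokernel.π b) (Subobject.mk a) := by
    refine Preadditive.mono_of_cancel_zero _ fun {W} k hk => ?_
    rw [← Subobject.underlyingIso_hom_comp_eq_mk, Category.assoc, ← Category.assoc,
      ← Category.assoc] at hk
    have := isZero_of_pullback_zero h0 _ (Abelian.monoLift b _ hk)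
      (Abelian.monoLift_comp b _ hk).symm
    exact zero_of_comp_mono _ this
  obtain ⟨L, hAL, hL, hmax⟩ := exists_maximal (cokernel.π b) (Subobject.mk a) hav0
  obtain ⟨E', π, _, _, hess⟩ := exists_essential L.arrow
  obtain ⟨g₀, hg₀⟩ : ∃ g₀ : E' ⟶ E, (L.arrow ≫ π) ≫ g₀ = L.arrow :=
    ⟨Injective.factorThru L.arrow (L.arrow ≫ π), Injective.comp_factorThru _ _⟩
  have hgmono : Mono g₀ := by
    refine Preadditive.mono_of_kernel_zero
      ((hess (kernel.ι g₀) inferInstance ((IsZero.iff_id_eq_zero _).2 ?_)).eq_of_src _ _)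
    have h1 : pullback.fst (L.arrow ≫ π) (kernel.ι g₀) = 0 := by
      refine zero_of_comp_mono L.arrow ?_
      rw [show pullback.fst (L.arrow ≫ π) (kernel.ι g₀) ≫ L.arrow =
        (pullback.fst (L.arrow ≫ π) (kernel.ι g₀) ≫ (L.arrow ≫ π)) ≫ g₀ from by
          rw [Category.assoc, hg₀],
        pullback.condition, Category.assoc, kernel.condition, comp_zero]
    have h2 : pullback.snd (L.arrow ≫ π) (kernel.ι g₀) = 0 := by
      refine zero_of_comp_mono (kernel.ι g₀) ?_
      rw [← pullback.condition, h1, zero_comp]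
    exact pullback.hom_ext (by simp [h1]) (by simp [h2])
  have hH : Avoids (cokernel.π b) (Subobject.mk g₀) := by
    refine Preadditive.mono_of_cancel_zero _ fun {W} k hk => ?_
    rw [← Subobject.underlyingIso_hom_comp_eq_mk, Category.assoc, ← Category.assoc] at hk
    set x := k ≫ (Subobject.underlyingIso g₀).hom with hx
    suffices x = 0 by exact zero_of_comp_mono (Subobject.underlyingIso g₀).hom this
    have hker : kernel.ι (g₀ ≫ cokernel.π b) = 0 := by
      refine (hess (kernel.ι (g₀ ≫ cokernel.π b)) inferInstance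
        ((IsZero.iff_id_eq_zero _).2 ?_)).eq_of_src _ _
      have h1 : pullback.fst (L.arrow ≫ π) (kernel.ι (g₀ ≫ cokernel.π b)) = 0 := by
        have : Mono (L.arrow ≫ cokernel.π b) := hL
        refine zero_of_comp_mono (L.arrow ≫ cokernel.π b) ?_
        rw [show pullback.fst (L.arrow ≫ π) (kernel.ι (g₀ ≫ cokernel.π b)) ≫ L.arrow ≫ cokernel.π b =
          (pullback.fst (L.arrow ≫ π) (kernel.ι (g₀ ≫ cokernel.π b)) ≫ (L.arrow ≫ π)) ≫
            g₀ ≫ cokernel.π b from by rw [Category.assoc, ← Category.assoc (L.arrow ≫ π), hg₀],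
          pullback.condition, Category.assoc, kernel.condition, comp_zero]
      have h2 : pullback.snd (L.arrow ≫ π) (kernel.ι (g₀ ≫ cokernel.π b)) = 0 := by
        refine zero_of_comp_mono (kernel.ι (g₀ ≫ cokernel.π b)) ?_
        rw [← pullback.condition, h1, zero_comp]
      exact pullback.hom_ext (by simp [h1]) (by simp [h2])
    rw [← kernel.lift_ι _ x hk, hker, comp_zero]
  have hle : L ≤ Subobject.mk g₀ := Subobject.le_mk_of_comm (L.arrow ≫ π) hg₀
  have hge := hmax hH hle
  let g : E' ⟶ (L : C) := Subobject.ofMkLE g₀ L hge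
  have hg : g ≫ L.arrow = g₀ := Subobject.ofMkLE_arrow hge
  let r : E ⟶ (L : C) := π ≫ g
  have hr : L.arrow ≫ r = 𝟙 _ := by
    rw [← cancel_mono L.arrow, Category.assoc, Category.assoc, hg, Category.id_comp,
      ← Category.assoc, hg₀]
  let S : ShortComplex C := ShortComplex.mk L.arrow (cokernel.π L.arrow) (cokernel.condition _)
  let sp := ShortComplex.Splitting.ofExactOfRetraction S
    (ShortComplex.exact_of_g_is_cokernel _ (cokernelIsCokernel L.arrow)) r hr
    (inferInstanceAs (Epi (cokernel.π L.arrow)))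
  rcases hind _ _ ⟨sp.isoBinaryBiproduct⟩ with h | h
  · exact hA (IsZero.of_mono (Subobject.ofMkLE a L hAL) h)
  · have hs : (sp.r ≫ L.arrow) ≫ cokernel.π b = cokernel.π b := by
      have := sp.id
      rw [show S.g = 0 from h.eq_of_tgt _ _, zero_comp, add_zero] at this
      rw [show sp.r ≫ L.arrow = 𝟙 _ from this, Category.id_comp]
    have : Mono (L.arrow ≫ cokernel.π b) := hL
    have hb0 : b ≫ sp.r = 0 := by
      refine zero_of_comp_mono (L.arrow ≫ cokernel.π b) ?_
      rw [Category.assoc, ← Category.assoc sp.r, hs, cokernel.condition]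
    have hb1 : b = 0 := by
      have := sp.id
      rw [show S.g = 0 from h.eq_of_tgt _ _, zero_comp, add_zero] at this
      have e := congrArg (b ≫ ·) this
      simp only [← Category.assoc, hb0, zero_comp] at e
      exact (e.trans (Category.comp_id b)).symm
    exact hB (IsZero.of_mono_eq_zero b hb1)

end Groth.Agent.GabLocLib
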