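import Groth.Statements.S3502
import Groth.Agent.GalCohAux.EtDimVanE
import Groth.Agent.EtaleSite.SetSH
import Groth.Agent.GalCohAux.EtCdTrDeg

set_option autoImplicit false
universe u
open CategoryTheory CategoryTheory.Limits AlgebraicGeometry Opposite
open EtCd

namespace Groth.Agent.S3502

theorem one_zsmul_of {C : Type*} [Category C] [Preadditive C] {M : C} (n : ℕ) (hM : n • 𝟙 M = 0)
    {p a b : ℤ} (e : ((1 : ℕ) : ℤ) = p * a + n * b) : (p * a) • 𝟙 M = 𝟙 M := by
  have h : (n * b : ℤ) • 𝟙 M = 0 := by rw [mul_comm, mul_smul, natCast_zsmul, hM, smul_zero]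
  calc (p * a) • 𝟙 M = (p * a) • 𝟙 M + (n * b : ℤ) • 𝟙 M := by rw [h, add_zero]
    _ = (1 : ℤ) • 𝟙 M := by rw [← add_smul, ← e]; rfl
    _ = 𝟙 M := one_smul _ _

open GalCohAux in
/-- Sheaves killed by `n`. -/
def killedClass (n : ℕ) : EtDimVanC.VClass.{u} where
  P F := n • 𝟙 F = 0
  pull f F hF := haveI := EtCdTr.additive_pull f; EtCdTr.nsmul_id_map (EtCoh.pull f) hF
  push f _ _ F hF := haveI := EtCdTr.additive_push f; EtCdTr.nsmul_id_map (EtCoh.push f) hF
  Rpush f _ _ i F hF := EtCdTr.nsmul_id_map (EtCoh.Rpush f i) hF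
  ker a hF _ := by
    rw [← cancel_mono (kernel.ι a), Preadditive.nsmul_comp, Category.id_comp, zero_comp,
      ← Category.comp_id (kernel.ι a), ← Preadditive.comp_nsmul, hF, comp_zero]
  coker a _ hG := by
    rw [← cancel_epi (cokernel.π a), Preadditive.comp_nsmul, Category.comp_id, comp_zero,
      ← Category.id_comp (cokernel.π a), ← Preadditive.nsmul_comp, hG, zero_comp]
  resIn A F hF := by
    rw [← cancel_mono (PunctLib.resInι A F), Preadditive.nsmul_comp, Category.id_comp, zero_comp,
      ← Category.comp_id (PunctLib.resInι A F), ← Preadditive.comp_nsmul, hF, comp_zero]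

open GalCohAux in
/-- Fields of cohomological dimension `≤ d` at the primes dividing `n`. -/
theorem subsingleton_field (L : Type u) [Field L] (n d : ℕ) (hn : 0 < n)
    (h : ∀ p : ℕ, p.Prime → p ∣ n → EtCdTr.Cd L p d) (M : EtCoh.Ab (Spec (CommRingCat.of L)))
    (hM : n • 𝟙 M = 0) (q : ℕ) (hq : d < q) : Subsingleton (EtCoh.H (Spec (CommRingCat.of L)) M q) := by
  refine EtCdOne.subsingleton_of_primary (by omega) fun p hp y hy => ?_
  by_cases hpn : p ∣ n
  · refine h p hp hpn M (fun U s x => ⟨U, 𝟙 U, ⟨x, rfl⟩, ?_⟩) q hq y ⟨1, by rwa [pow_one]⟩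
    exact isOfFinAddOrder_iff_nsmul_eq_zero.2 ⟨n, hn, EtNsmul.nsmul_sect_eq_zero hM U _⟩
  · haveI : IsIso (p • 𝟙 M) := by
      have hc : Int.gcd (p : ℤ) n = 1 := by
        rw [Int.gcd_natCast_natCast]
        exact hp.coprime_iff_not_dvd.2 hpn
      have e := Int.gcd_eq_gcd_ab (p : ℤ) n
      rw [hc] at e
      refine ⟨⟨Int.gcdA (p : ℤ) n • 𝟙 M, ?_, ?_⟩⟩
      · rw [Preadditive.nsmul_comp, Category.id_comp, ← natCast_zsmul, ← mul_smul]
        exact one_zsmul_of n hM e
      · rw [Preadditive.comp_nsmul, Category.comp_id, ← natCast_zsmul, ← mul_smul]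
        exact one_zsmul_of n hM e
    exact EtTower.nsmul_injective M q p (show p • y = p • (0 : EtCoh.H _ M q) by rw [hy, smul_zero])

theorem subsingleton_sepClosed (L : Type u) [Field L] [IsSepClosed L]
    (M : EtCoh.Ab (Spec (CommRingCat.of L))) (q : ℕ) (hq : 1 ≤ q) :
    Subsingleton (EtCoh.H (Spec (CommRingCat.of L)) M q) :=
  EtaleSite.subsingleton_H L M q hq

theorem spec_dim_one (X : Scheme.{u}) (hdim : topologicalKrullDim X ≤ 1) (x y : X) (hxy : x ⤳ y)
    (hne : x ≠ y) :
    IsClosed ({y} : Set X) ∧ ¬ IsClosed ({x} : Set X) ∧ closure {x} ∈ irreducibleComponents (X : Type u) := by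
  have hk : Order.krullDim X ≤ 1 := (Order.krullDim_eq_of_orderIso irreducibleSetEquivPoints).ge.trans hdim
  have hlt : y < x := lt_of_le_not_ge hxy fun h => hne (Specializes.antisymm (h : y ⤳ x) hxy).eq.symm
  have hmin : IsMin y := by
    rw [← Order.height_eq_zero]
    have := Order.height_add_one_le hlt
    have h2 : Order.height x ≤ 1 := WithBot.coe_le_coe.1 ((Order.height_le_krullDim x).trans hk)
    exact nonpos_iff_eq_zero.1 (WithTop.le_of_add_le_add_right WithTop.one_ne_top ((this.trans h2).trans (zero_add 1).ge))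
  have hmax : IsMax x := by
    rw [← Order.coheight_eq_zero]
    have := Order.coheight_add_one_le hlt
    have h2 : Order.coheight y ≤ 1 := WithBot.coe_le_coe.1 ((Order.coheight_le_krullDim y).trans hk)
    exact nonpos_iff_eq_zero.1 (WithTop.le_of_add_le_add_right WithTop.one_ne_top ((this.trans h2).trans (zero_add 1).ge))
  refine ⟨?_, fun hx => hne ?_, ?_⟩
  · rw [← closure_eq_iff_isClosed]
    refine Set.Subset.antisymm (fun z hz => ?_) subset_closure
    have hz' : y ⤳ z := specializes_iff_mem_closure.2 hz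
    exact (Specializes.antisymm hz' (hmin hz' : z ⤳ y)).eq.symm
  · exact (hx.closure_eq.subset (specializes_iff_mem_closure.1 hxy)).symm
  · refine ⟨isIrreducible_singleton.closure, fun t ht hxt => ?_⟩
    obtain ⟨η, hη⟩ := QuasiSober.sober ht.closure isClosed_closure
    have hηx : η ⤳ x := hη.specializes (subset_closure (hxt (subset_closure rfl)))
    have := (Specializes.antisymm (hmax hηx : x ⤳ η) hηx).eq
    intro z hz
    rw [this]
    exact hη.def.symm ▸ (subset_closure hz)

theorem exists_closed_specialization (X : Scheme.{u}) [CompactSpace X] (x : X) :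
    ∃ y : X, IsClosed ({y} : Set X) ∧ x ⤳ y := by
  obtain ⟨y, hy, hyc⟩ := isClosed_closure.exists_closed_singleton (Set.singleton_nonempty x).closure
  exact ⟨y, hyc, specializes_iff_mem_closure.2 hy⟩

/-- Let X be a Noetherian scheme of dimension at most 1 and n ≥ 1 an integer invertible on X; assume
that cd_ℓ(κ(x)) ≤ 1 for every maximal point x of X and every prime ℓ dividing n (so that the ring of
rational functions of X has ℓ-cohomological dimension ≤ 1), and that the residue field of every
closed point of X is separably closed. Then H^q(X, μ_n) = 0 for every q > 2. -/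
theorem result (X : Scheme.{u}) [IsNoetherian X] (hdim : topologicalKrullDim X ≤ 1)
    (n : ℕ) (hn : 0 < n) (hinv : Dix.InvertibleOn X n)
    (hcd : ∀ x : X, closure {x} ∈ irreducibleComponents (X : Type u) →
      ∀ ℓ : ℕ, ℓ.Prime → ℓ ∣ n → Dix.CohDimLEAt (Spec (X.residueField x)) ℓ 1)
    (hcl : ∀ x : X, IsClosed ({x} : Set X) → IsSepClosed (X.residueField x)) (q : ℕ) (hq : 2 < q) :
    Subsingleton (EtCoh.H X (EtCoh.mu X n) q) := by
  classical
  have hmu : n • 𝟙 (EtCoh.mu X n) = 0 := by
    have : Mono (EtCoh.muι X n) := (equalizer.ι_mono : Mono (kernel.ι (EtCoh.powMap X n)))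
    refine (cancel_mono (EtCoh.muι X n)).1 ?_
    have h2 : EtCoh.muι X n ≫ (n • 𝟙 (EtCoh.Gm X)) = 0 := kernel.condition _
    rw [Preadditive.comp_nsmul, Category.comp_id] at h2
    rw [zero_comp, Preadditive.nsmul_comp, Category.id_comp, h2]
  have hstep : ∀ x y : X, x ⤳ y → x ≠ y →
      IsClosed ({y} : Set X) ∧ ¬ IsClosed ({x} : Set X) ∧ closure {x} ∈ irreducibleComponents (X : Type u) :=
    fun x y hxy hne => spec_dim_one X hdim x y hxy hne
  refine GalCohAux.EtDimVanC.vanishing (killedClass n)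
    (fun x : X => if IsClosed ({x} : Set X) then 0 else 2)
    (fun x y hxy hne => ?_) (fun x M hM r hr => ?_)
    (fun x y hxy hne R _ _ _ _ _ P hP M hM r hr => ?_) (EtCoh.mu X n) hmu q fun x _ => ?_
  · obtain ⟨hy, hx, -⟩ := hstep x y hxy hne
    simp [hy, hx]
  · by_cases hx : IsClosed ({x} : Set X)
    · haveI := hcl x hx
      exact subsingleton_sepClosed (X.residueField x) M r (by rw [if_pos hx] at hr; exact hr)
    · rw [if_neg hx] at hr
      have hc : closure {x} ∈ irreducibleComponents (X : Type u) := by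
        obtain ⟨y, hy, hxy⟩ := exists_closed_specialization X x
        exact (hstep x y hxy (fun e => hx (e ▸ hy))).2.2
      exact subsingleton_field _ n 1 hn
        (fun p hp hpn => by haveI := Fact.mk hp; exact GalCohAux.EtCdTrDeg.cd_of_cohDimLEAt (hcd x hc p hp hpn))
        M hM r (by omega)
  · haveI : P.IsPrime := hP.1.1
    obtain ⟨hy, hx, hc⟩ := hstep x y hxy hne
    simp only [hy, hx, if_true, if_false] at hr
    obtain ⟨ψ, hψ⟩ := GalCohAux.EtDimVanE.exists_algebraic x y hxy R P hP
    letI := ψ.toAlgebra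
    haveI := hψ
    refine subsingleton_field _ n 1 hn (fun p hp hpn => ?_) M hM r (by omega)
    haveI := Fact.mk hp
    exact GalCohAux.EtCdTr.cd_algebraic (k := X.residueField x)
      (GalCohAux.EtCdTrDeg.cd_of_cohDimLEAt (hcd x hc p hp hpn))
  · split <;> omega

end Groth.Agent.S3502
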