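import Groth.Statements.S19255
import Groth.Agent.GalCohAux.EtTower
import Groth.Agent.GalCohAux.EtDimVanE

set_option autoImplicit false
universe u
open CategoryTheory CategoryTheory.Limits AlgebraicGeometry Opposite
open EtCd

namespace Groth.Agent.S19255

theorem ud_of_bijective {X : Scheme.{u}} (F : EtCoh.Ab X)
    (hF : ∀ (U : X.Etale) (m : ℕ), 0 < m → Function.Bijective (fun s : EtCoh.sect F U => m • s)) :
    GalCohAux.EtDimVanD.UD F := fun m hm => by
  haveI : ∀ U, IsIso (((sheafToPresheaf _ _).map (m • 𝟙 F)).app U) := fun U => by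
    have e : ((sheafToPresheaf _ _).map (m • 𝟙 F)).app U = m • 𝟙 (F.obj.obj U) := by
      rw [Functor.map_nsmul, CategoryTheory.Functor.map_id, NatTrans.app_nsmul]
      rfl
    rw [e, ConcreteCategory.isIso_iff_bijective]
    exact hF U.unop m hm
  haveI : IsIso ((sheafToPresheaf _ _).map (m • 𝟙 F)) := NatIso.isIso_of_isIso_app _
  exact isIso_of_reflects_iso (m • 𝟙 F) (sheafToPresheaf _ _)

theorem subsingleton_of_field (L : Type u) [Field L] (M : EtCoh.Ab (Spec (CommRingCat.of L)))
    (hM : GalCohAux.EtDimVanD.UD M) (q : ℕ) (hq : 0 < q) :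
    Subsingleton (EtCoh.H (Spec (CommRingCat.of L)) M q) := by
  refine subsingleton_of_forall_eq 0 fun α => ?_
  obtain ⟨n, hn, h⟩ := isOfFinAddOrder_iff_nsmul_eq_zero.1 (GalCohAux.EtTower.isOfFinAddOrder hq M α)
  haveI := hM n hn
  exact GalCohAux.EtTower.nsmul_injective M q n (h.trans (smul_zero n).symm)

theorem krullDim_le (X : Scheme.{u}) (d : ℕ) (hd : topologicalKrullDim ↥X ≤ d) (x : X) :
    Order.height x ≤ d := by
  have h : Order.krullDim X ≤ d := (Order.krullDim_eq_of_orderIso irreducibleSetEquivPoints).ge.trans hd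
  exact WithBot.coe_le_coe.1 ((Order.height_le_krullDim x).trans h)

/-- Let X be a Noetherian scheme of Krull dimension at most d and F an abelian sheaf on the small etale
site of X which is a sheaf of ℚ-vector spaces, i.e. multiplication by every positive integer is
bijective on the sections of F over every etale X-scheme. Then Hⁱ(X_et, F) = 0 for every i > d. -/
theorem result (X : Scheme.{u}) [IsNoetherian X] (d : ℕ)
    (hd : topologicalKrullDim ↥X ≤ d) (F : EtCoh.Ab X)
    (hF : ∀ (U : X.Etale) (m : ℕ), 0 < m → Function.Bijective (fun s : EtCoh.sect F U => m • s))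
    (i : ℕ) (hi : d < i) : Subsingleton (EtCoh.H X F i) := by
  have hfin : ∀ x : X, Order.height x < ⊤ := fun x =>
    (krullDim_le X d hd x).trans_lt (ENat.coe_lt_top d)
  have hlt : ∀ x y : X, x ⤳ y → x ≠ y → (Order.height y).toNat < (Order.height x).toNat :=
    fun x y hxy hne => by
      have hy : y < x := lt_of_le_not_ge hxy fun h => hne (Specializes.antisymm (h : y ⤳ x) hxy).eq.symm
      have h := Order.height_strictMono hy (hfin y)
      rw [← ENat.coe_toNat (hfin x).ne, ← ENat.coe_toNat (hfin y).ne] at h
      exact_mod_cast h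
  refine GalCohAux.EtDimVanC.vanishing GalCohAux.EtDimVanD.rationalClass (fun x : X => (Order.height x).toNat)
    hlt (fun x M hM q hq => subsingleton_of_field _ M hM q (by omega))
    (fun x y hxy hne R _ _ _ _ _ P hP M hM q hq => ?_) F (ud_of_bijective F hF) i fun x _ => ?_
  · haveI : P.IsPrime := hP.1.1
    exact subsingleton_of_field _ M hM q (by have := hlt x y hxy hne; omega)
  · exact lt_of_le_of_lt (ENat.toNat_le_of_le_coe (krullDim_le X d hd x)) hi

end Groth.Agent.S19255
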