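import Groth.Statements.S13956
import Groth.Agent.GalCohAux.EtGmMax
import Groth.Agent.EtConsAb.GenericPush
import Groth.Agent.GalCohAux.EtDimVanD
import Groth.Agent.S19255
import Groth.Agent.S9799
import Groth.Agent.UnramFib.Field

set_option autoImplicit false
set_option backward.isDefEq.respectTransparency false
universe u
open TateLoc

namespace Groth.Agent.S13956

open CategoryTheory CategoryTheory.Limits AlgebraicGeometry Opposite GalCohAux EtaleSite EtDimVanA

attribute [-instance] EtFin.instUniqueCarrierCarrierCommRingCatSpecOf_groth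

theorem ud_const (X : Scheme.{u}) : EtDimVanD.UD (EtCoh.const X ℚ) := fun m hm => by
  let L := constantSheaf X.smallEtaleTopology AddCommGrpCat.{u + 1}
  haveI : PreservesFiniteLimits L := comp_preservesFiniteLimits _ _
  haveI : L.Additive := Functor.additive_of_preserves_binary_products _
  let M := AddCommGrpCat.of (ULift.{u + 1} ℚ)
  have happ : ∀ z : M, (ConcreteCategory.hom (m • 𝟙 M)) z = m • z := fun z => by
    let E : (M ⟶ M) →+ M := AddMonoidHom.mk' (fun a => a.hom z) fun a b => rfl
    show E (m • 𝟙 M) = _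
    rw [map_nsmul]
    rfl
  haveI : IsIso (m • 𝟙 M) := by
    refine (ConcreteCategory.isIso_iff_bijective _).2 ⟨fun x y h => ?_, fun y => ⟨ULift.up (y.down / m), ?_⟩⟩
    · rw [happ, happ] at h
      exact ULift.ext _ _ (nsmul_right_injective hm.ne' (congrArg ULift.down h))
    · rw [happ]
      refine ULift.ext _ _ ?_
      show m • (y.down / (m : ℚ)) = y.down
      rw [nsmul_eq_mul, mul_div_cancel₀]
      exact Nat.cast_ne_zero.2 hm.ne'
  have e : L.map (m • 𝟙 M) = m • 𝟙 (EtCoh.const X ℚ) := by
    rw [Functor.map_nsmul, CategoryTheory.Functor.map_id]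
  rw [← e]
  infer_instance

/-- Direct images from fields of sheaves of rational vector spaces have no higher cohomology. -/
theorem subsingleton_push_field {Y : Scheme.{u}} {K : Type u} [Field K] (g : Spec (CommRingCat.of K) ⟶ Y)
    [QuasiCompact g] [QuasiSeparated g] (F : EtCoh.Ab (Spec (CommRingCat.of K))) (hF : EtDimVanD.UD F)
    (q : ℕ) : Subsingleton (EtCoh.H Y ((EtCoh.push g).obj F) (q + 1)) := by
  classical
  refine (Equiv.ofBijective _ (S14451.result g F (fun r hr => ?_) (q + 1))).subsingleton_congr.2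
    (S19255.subsingleton_of_field K F hF _ q.succ_pos)
  obtain ⟨r, rfl⟩ : ∃ r', r = r' + 1 := ⟨r - 1, by omega⟩
  refine EtRpushVan.isZero_Rpush g r _ fun V hV => ?_
  obtain ⟨_, _⟩ := EtColim.TorsionPush.compact_qs_bc g V
  let W := (EtCoh.bc g).obj V
  let h : W.left ⟶ Spec (CommRingCat.of K) := W.hom
  haveI : Etale h := W.prop
  haveI : CompactSpace W.left := ‹CompactSpace W.left›
  haveI : DiscreteTopology W.left := UnramFib.discreteTopology_of_unramified h
  haveI : Finite W.left := finite_of_compact_of_discrete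
  haveI := Fintype.ofFinite W.left
  refine EtDimVanA.subsingleton_H_of_finite_supp (fun x => isClosed_discrete _) _ _ Finset.univ le_rfl
    (fun x _ => Finset.mem_coe.2 (Finset.mem_univ x)) (r + 1) fun w _ => ?_
  haveI := EtCdTr.additive_pull h
  haveI := EtCdTr.additive_pull (W.left.fromSpecResidueField w)
  exact S19255.subsingleton_of_field _ _ ((hF.map (EtCoh.pull h)).map (EtCoh.pull _)) _ r.succ_pos

/-- The integral case. -/
theorem subsingleton_integral (X : Scheme.{u}) [IsIntegral X] [IsLocallyNoetherian X] [CompactSpace X]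
    (hN : Pi1.IsNormalScheme X) (q : ℕ) : Subsingleton (EtCoh.H X (EtCoh.const X ℚ) (q + 1)) := by
  haveI : IsNoetherian X := {}
  let g : Spec (CommRingCat.of X.functionField) ⟶ X := X.fromSpecStalk (genericPoint X)
  haveI : Subsingleton ↥(Spec (CommRingCat.of X.functionField)) :=
    inferInstanceAs (Subsingleton (PrimeSpectrum X.functionField))
  haveI : Nonempty ↥(Spec (CommRingCat.of X.functionField)) :=
    inferInstanceAs (Nonempty (PrimeSpectrum X.functionField))
  haveI : IsPreimmersion g := inferInstanceAs (IsPreimmersion (X.fromSpecStalk (genericPoint X)))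
  have hg : ∀ p, g p = genericPoint X := fun t => by
    rw [Subsingleton.elim t (IsLocalRing.closedPoint (X.presheaf.stalk (genericPoint X)))]
    exact Scheme.fromSpecStalk_closedPoint
  haveI := EtConsAb.isIso_unit_generic (fun W w => EtConsAb.exists_irreducible_nhd_of_normal hN W w) g hg
    (AddCommGrpCat.of (ULift.{u + 1} ℚ))
  haveI := EtCdTr.additive_pull g
  exact subsingleton_H_of_iso (asIso ((EtCoh.pullPushAdj g).unit.app (EtCoh.const X ℚ))).symm _
    (subsingleton_push_field g _ ((ud_const X).map (EtCoh.pull g)) q)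

open CategoryTheory AlgebraicGeometry in
/-- For a Noetherian normal scheme X (quasi-compact, locally Noetherian, all local rings integrally
closed domains), the cohomology of the constant sheaf ℚ on the small etale site of X vanishes in
every positive degree. -/
theorem result (X : Scheme.{u}) [IsLocallyNoetherian X] [CompactSpace X]
    (hN : ∀ x : X, IsDomain (X.presheaf.stalk x) ∧ IsIntegrallyClosed (X.presheaf.stalk x))
    (i : ℕ) (hi : 0 < i) :
    Subsingleton (EtCoh.H X (EtCoh.const X ℚ) i) := by
  classical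
  obtain ⟨q, rfl⟩ : ∃ r, i = r + 1 := ⟨i - 1, by omega⟩
  haveI : IsNoetherian X := {}
  obtain ⟨hopen, hdisj⟩ := S9799.result X (fun U hU => by
    haveI : CompactSpace (U : Scheme.{u}) := isCompact_iff_compactSpace.1 hU
    haveI : IsNoetherian (U : Scheme.{u}) := {}
    exact TopologicalSpace.NoetherianSpace.finite_irreducibleComponents (α := ↥(U : Scheme.{u}))) hN
  haveI : Fintype (irreducibleComponents (X : Type u)) :=
    (TopologicalSpace.NoetherianSpace.finite_irreducibleComponents (α := X)).fintype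
  let C : irreducibleComponents (X : Type u) → X.Opens := fun Z => ⟨Z.1, hopen Z.1 Z.2⟩
  haveI : ∀ Z, IsClosedImmersion (C Z).ι := fun Z => IsClosedImmersion.of_isPreimmersion _ (by
    rw [Scheme.Opens.range_ι]; exact isClosed_of_mem_irreducibleComponents _ Z.2)
  let P : irreducibleComponents (X : Type u) → EtCoh.Ab X := fun Z =>
    (EtCoh.push (C Z).ι).obj ((EtCoh.pull (C Z).ι).obj (EtCoh.const X ℚ))
  let a : EtCoh.const X ℚ ⟶ ⨁ P := biproduct.lift fun Z => ((EtCoh.pullPushAdj (C Z).ι).unit.app (EtCoh.const X ℚ) : EtCoh.const X ℚ ⟶ P Z)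
  haveI : IsIso a := by
    refine isIso_of_stalk _ fun Ω _ _ ξ => (ConcreteCategory.isIso_iff_bijective _).2 ?_
    obtain ⟨Z₀, hZ₀, hξ⟩ : ∃ Z₀ ∈ irreducibleComponents (X : Type u), ξ default ∈ Z₀ :=
      ⟨_, irreducibleComponent_mem_irreducibleComponents _, mem_irreducibleComponent⟩
    let η₀ : irreducibleComponents (X : Type u) := ⟨Z₀, hZ₀⟩
    have hb : Function.Bijective ((EtCoh.stalk ξ).map ((EtCoh.pullPushAdj (C η₀).ι).unit.app (EtCoh.const X ℚ))) := by
      haveI := isIso_stalk_unit_push (C η₀).ι (EtCoh.const X ℚ) ξ (by rw [Scheme.Opens.range_ι]; exact hξ)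
      exact ConcreteCategory.bijective_of_isIso _
    have hcomp : (EtCoh.stalk ξ).map a ≫ (EtCoh.stalk ξ).map (biproduct.π P η₀) =
        (EtCoh.stalk ξ).map ((EtCoh.pullPushAdj (C η₀).ι).unit.app (EtCoh.const X ℚ)) := by
      rw [← Functor.map_comp, biproduct.lift_π]
    refine ⟨fun x y hxy => hb.1 ?_, fun b => ?_⟩
    · exact (ConcreteCategory.congr_hom hcomp x).symm.trans ((ConcreteCategory.comp_apply _ _ _).trans
        ((congrArg _ hxy).trans ((ConcreteCategory.comp_apply _ _ _).symm.trans (ConcreteCategory.congr_hom hcomp y))))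
    · obtain ⟨x, hx⟩ := hb.2 ((EtCoh.stalk ξ).map (biproduct.π P η₀) b)
      refine ⟨x, ?_⟩
      have hz : ∀ η, (EtCoh.stalk ξ).map (biproduct.π P η) ((EtCoh.stalk ξ).map a x) =
          (EtCoh.stalk ξ).map (biproduct.π P η) b := fun η => by
        by_cases e : η = η₀
        · subst e
          exact (ConcreteCategory.comp_apply _ _ _).symm.trans ((ConcreteCategory.congr_hom hcomp x).trans hx)
        · haveI : Subsingleton ↑((EtCoh.stalk ξ).obj (P η)) :=
            AddCommGrpCat.subsingleton_of_isZero (EtaleSite.isZero_stalk_push (f := (C η).ι) ξ (by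
              rw [Scheme.Opens.range_ι]
              exact fun hmem => Set.disjoint_left.1 (hdisj η.1 η.2 Z₀ hZ₀ fun h => e (Subtype.ext h)) hmem hξ) _)
          exact Subsingleton.elim _ _
      let Q : ((⨁ P) ⟶ (⨁ P)) →+ ↑((EtCoh.stalk ξ).obj (⨁ P)) := AddMonoidHom.mk'
        (fun f => (EtCoh.stalk ξ).map f ((EtCoh.stalk ξ).map a x - b)) fun f g => by
          rw [Functor.map_add]; rfl
      rw [← sub_eq_zero]
      have hQ : Q (𝟙 _) = 0 := by
        rw [GalCohAux.EtGmMax.biproduct_total P, map_sum]
        refine Finset.sum_eq_zero fun η _ => ?_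
        show (EtCoh.stalk ξ).map _ ((EtCoh.stalk ξ).map a x - b) = 0
        rw [Functor.map_comp, ConcreteCategory.comp_apply, map_sub, hz η, sub_self, map_zero]
      refine Eq.trans ?_ hQ
      show _ = (EtCoh.stalk ξ).map (𝟙 _) _
      rw [CategoryTheory.Functor.map_id]
      rfl
  refine subsingleton_H_of_iso (asIso a).symm _ (subsingleton_of_forall_eq 0 fun c => ?_)
  refine GalCohAux.EtGmMax.comp_eq_zero_of_proj P c fun Z => ?_
  haveI : IrreducibleSpace ↥(C Z : Scheme.{u}) :=
    haveI : PreirreducibleSpace ↥(C Z : Scheme.{u}) := Subtype.preirreducibleSpace Z.2.1.2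
    haveI : Nonempty ↥(C Z : Scheme.{u}) := Z.2.1.1.to_subtype
    ⟨inferInstance⟩
  have hNC : Pi1.IsNormalScheme (C Z : Scheme.{u}) := fun x =>
    ⟨haveI := (hN x.1).1; ((C Z).stalkIso x).commRingCatIsoToRingEquiv.toMulEquiv.isDomain _,
      haveI := (hN x.1).2; IsIntegrallyClosed.of_equiv ((C Z).stalkIso x).commRingCatIsoToRingEquiv.symm⟩
  haveI : IsReduced (C Z : Scheme.{u}) :=
    haveI : ∀ x : ↥(C Z : Scheme.{u}), _root_.IsReduced ((C Z : Scheme.{u}).presheaf.stalk x) := fun x =>
      haveI := (hNC x).1; inferInstance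
    isReduced_of_isReduced_stalk _
  haveI : IsIntegral (C Z : Scheme.{u}) := isIntegral_of_irreducibleSpace_of_isReduced _
  haveI : CompactSpace ↥(C Z : Scheme.{u}) :=
    isCompact_iff_compactSpace.1 (isClosed_of_mem_irreducibleComponents _ Z.2).isCompact
  have h1 := subsingleton_H_of_iso (EtCore.pullConst (C Z).ι ℚ).symm _ (subsingleton_integral _ hNC q)
  exact @Subsingleton.elim _ ((Equiv.ofBijective _ (S14451.result (C Z).ι _
    (fun r hr => S3054.result (C Z).ι _ r hr) (q + 1))).subsingleton_congr.2 h1) _ _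

end Groth.Agent.S13956
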