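import Groth.Statements.S13412
import Groth.Agent.GalCohAux.EtDimVanE
import Groth.Agent.GalCohAux.EtCdTrDeg
import Groth.Agent.GalCohAux.EtShDvr
import Groth.Agent.GalCohAux.EtCdOne
import Groth.Agent.EtRamLib.SHDVR
import Groth.Agent.EtConsAb.Gen
import Groth.Agent.VarDim.Algebra
import Groth.Agent.CycLib.SpecPt

set_option autoImplicit false
universe u
open CategoryTheory CategoryTheory.Limits AlgebraicGeometry
open HLoc2

namespace Groth.Agent.S13412

/-- Principal ideal domains transfer along isomorphisms. -/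
theorem isDVR_of_ringEquiv {A B : Type u} [CommRing A] [IsDomain A] [IsDiscreteValuationRing A]
    [CommRing B] [IsDomain B] [IsLocalRing B] (e : A ≃+* B) : IsDiscreteValuationRing B := by
  haveI : IsPrincipalIdealRing B := IsPrincipalIdealRing.of_surjective e.toRingHom e.surjective
  have hA : ¬ IsField A := IsDiscreteValuationRing.not_isField A
  exact { not_a_field' := fun h => hA (e.toMulEquiv.isField (IsLocalRing.isField_iff_maximalIdeal_eq.2 h)) }

/-- The localisation at a prime of height one of a normal domain. -/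
theorem isDVR_localization {S : Type u} [CommRing S] [IsDomain S] [IsNoetherianRing S] [IsIntegrallyClosed S]
    (p : Ideal S) [p.IsPrime] (hp : p ≠ ⊥)
    (h1 : ∀ q : Ideal S, q.IsPrime → q ≠ ⊥ → q ≤ p → q = p) :
    IsDiscreteValuationRing (Localization.AtPrime p) := by
  let A := Localization.AtPrime p
  haveI : IsNoetherianRing A := IsLocalization.isNoetherianRing p.primeCompl A inferInstance
  haveI : IsIntegrallyClosed A :=
    isIntegrallyClosed_of_isLocalization A p.primeCompl p.primeCompl_le_nonZeroDivisors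
  have hinj : Function.Injective (algebraMap S A) :=
    IsLocalization.injective A p.primeCompl_le_nonZeroDivisors
  have hm : IsLocalRing.maximalIdeal A ≠ ⊥ := fun h => hp (by
    rw [← IsLocalization.AtPrime.comap_maximalIdeal A p, h]
    exact Ideal.comap_bot_of_injective (algebraMap S A) hinj)
  have hf : ¬ IsField A := fun h => hm (IsLocalRing.isField_iff_maximalIdeal_eq.1 h)
  have key : IsDiscreteValuationRing A ↔ IsIntegrallyClosed A ∧ ∃! P : Ideal A, P ≠ ⊥ ∧ P.IsPrime :=
    (IsDiscreteValuationRing.TFAE A hf).out 0 3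
  refine key.2 ⟨inferInstance, ⟨_, ⟨hm, inferInstance⟩, ?_⟩⟩
  rintro Q ⟨hQ, hQp⟩
  haveI := hQp
  have hq0 : Q.under S ≠ ⊥ := fun h => hQ (by
    rw [← IsLocalization.map_comap p.primeCompl A Q, h, Ideal.map_bot])
  have hqp : Q.under S = p := h1 _ inferInstance hq0 (by
    conv_rhs => rw [← IsLocalization.AtPrime.comap_maximalIdeal A p]
    exact Ideal.comap_mono (IsLocalRing.le_maximalIdeal hQp.ne_top))
  rw [← IsLocalization.map_comap p.primeCompl A Q, hqp, Localization.AtPrime.map_eq_maximalIdeal]

/-- Branches at a point with discrete valuation ring and residue field over `k` of characteristic zero. -/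
theorem cd_branch_dvr {X : Scheme.{u}} (x y : X) (hxy : x ⤳ y) (hne : x ≠ y) [IsDomain (X.presheaf.stalk y)]
    [IsDiscreteValuationRing (X.presheaf.stalk y)] (k : Type u) [Field k] [CharZero k]
    (g : k →+* X.presheaf.stalk y) (R : Type u) [CommRing R] [IsLocalRing R] [Algebra (X.presheaf.stalk y) R]
    [IsLocalHom (algebraMap (X.presheaf.stalk y) R)] [Hensel.IsStrictHenselization (X.presheaf.stalk y) R]
    (P : Ideal R) [P.IsPrime]
    (hP : P ∈ ((RingHom.ker (Cyc.specMap y x hxy)).map (algebraMap (X.presheaf.stalk y) R)).minimalPrimes)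
    (ℓ : ℕ) [Fact ℓ.Prime] : GalCohAux.EtCdTr.Cd (FractionRing (R ⧸ P)) ℓ 1 := by
  haveI : HenselianLocalRing R :=
    Hensel.IsStrictHenselization.henselian (R := X.presheaf.stalk y) (S := R)
  haveI : IsSepClosed (IsLocalRing.ResidueField R) :=
    (inferInstance : Hensel.IsStrictHenselization (X.presheaf.stalk y) R).isSepClosure.sep_closed
  obtain ⟨_, _⟩ := EtRamLib.SHDVR.isDVR (Hensel.isEtLike_of_isStrictHenselization (X.presheaf.stalk y) R)
  haveI : (RingHom.ker (Cyc.specMap y x hxy)).IsPrime := RingHom.ker_isPrime _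
  have hker : RingHom.ker (Cyc.specMap y x hxy) = ⊥ := by
    by_contra h
    haveI := (Ring.DimensionLEOne.maximalOfPrime h ‹_›)
    have hle : RingHom.ker (Cyc.specMap y y specializes_rfl) ≤ RingHom.ker (Cyc.specMap y x hxy) := by
      rw [IsLocalRing.eq_maximalIdeal ‹(RingHom.ker (Cyc.specMap y x hxy)).IsMaximal›]
      exact IsLocalRing.le_maximalIdeal (RingHom.ker_ne_top _)
    exact hne (Specializes.antisymm hxy ((CycLib.ptPrime_le_iff specializes_rfl hxy).1 hle)).eq
  obtain rfl : P = ⊥ := by
    rw [hker, Ideal.map_bot] at hP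
    exact le_bot_iff.1 (hP.2 ⟨Ideal.isPrime_bot, le_rfl⟩ bot_le)
  have hunit : IsUnit (ℓ : R) := by
    rw [← IsLocalRing.residue_ne_zero_iff_isUnit, map_natCast]
    haveI : CharZero (IsLocalRing.ResidueField R) :=
      charZero_of_injective_ringHom (((IsLocalRing.residue R).comp (algebraMap _ R)).comp g).injective
    exact Nat.cast_ne_zero.2 (Fact.out : ℓ.Prime).pos.ne'
  have h : GalCohAux.EtCdTr.Cd (FractionRing R) ℓ 1 := fun F hF q hq z hz =>
    GalCohAux.EtCdOne.cohDim_one ℓ
      (GalCohAux.EtShDvr.normOK R (FractionRing R) ⟨inferInstance, inferInstance⟩ ℓ hunit) F hF q hq z hz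
  exact GalCohAux.EtCdTr.cd_ringEquiv
    (IsFractionRing.ringEquivOfRingEquiv (RingEquiv.quotientBot R).symm) h

/-- The residue field at the generic point of the spectrum of a domain. -/
noncomputable def genericResidueEquiv {S : Type u} [CommRing S] [IsDomain S] (K : Type u) [Field K]
    [Algebra S K] [IsFractionRing S K] (x : Spec (CommRingCat.of S)) (hx : x.asIdeal = ⊥) :
    K ≃+* (Spec (CommRingCat.of S)).residueField x :=
  haveI : IsFractionRing (S ⧸ x.asIdeal) x.asIdeal.ResidueField := inferInstance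
  (IsFractionRing.ringEquivOfRingEquiv (K := K) (L := x.asIdeal.ResidueField)
    ((RingEquiv.quotientBot S).symm.trans (Ideal.quotEquivOfEq hx.symm))).trans
    (Scheme.Spec.residueFieldIso (CommRingCat.of S) x).symm.commRingCatIsoToRingEquiv

/-- The vanishing for all torsion sheaves. -/
theorem vanishing_torsion
    (k : Type u) [Field k] [IsAlgClosed k] [CharZero k]
    (R₀ : Type u) [CommRing R₀] [IsDomain R₀] [HenselianLocalRing R₀] [Algebra k R₀]
    [IsIntegrallyClosed R₀] (hexc : EGA4.IsExcellent R₀) (hdim : ringKrullDim R₀ = 2)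
    (hres : Function.Surjective (fun a : k => IsLocalRing.residue R₀ (algebraMap k R₀ a)))
    (K : Type u) [Field K] [Algebra R₀ K] [Algebra (FractionRing R₀) K]
    [IsScalarTower R₀ (FractionRing R₀) K] [FiniteDimensional (FractionRing R₀) K]
    (U : (Spec (CommRingCat.of ↥(integralClosure R₀ K))).Opens)
    (hU : ∀ x : ↥(Spec (CommRingCat.of ↥(integralClosure R₀ K))), x ∈ U →
      ¬ IsClosed ({x} : Set ↥(Spec (CommRingCat.of ↥(integralClosure R₀ K)))))
    (hcdK : EtCoh.CohDimLE (Spec (CommRingCat.of K)) 2)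
    (hcdv : ∀ x : ↥(↑U : Scheme.{u}), IsClosed ({x} : Set ↥(↑U : Scheme.{u})) →
      EtCoh.CohDimLE (Spec ((↑U : Scheme.{u}).residueField x)) 1)
    (F : EtCoh.Ab (↑U : Scheme.{u})) (hF : EtCoh.IsTorsion F) (r : ℕ) (hr : 4 ≤ r) :
    Subsingleton (EtCoh.H (↑U : Scheme.{u}) F r) := by
  classical
  haveI : IsNoetherianRing R₀ := hexc.1
  haveI : CharZero R₀ := charZero_of_injective_algebraMap (algebraMap k R₀).injective
  let S := ↥(integralClosure R₀ K)
  haveI : Module.Finite R₀ S := IsIntegralClosure.finite R₀ (FractionRing R₀) K S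
  haveI : IsNoetherianRing S := IsNoetherianRing.of_finite R₀ S
  haveI : IsFractionRing S K :=
    IsIntegralClosure.isFractionRing_of_finite_extension R₀ (FractionRing R₀) K S
  haveI : IsIntegrallyClosed S := integralClosure.isIntegrallyClosedOfFiniteExtension (FractionRing R₀)
  haveI : FaithfulSMul R₀ S := (faithfulSMul_iff_algebraMap_injective _ _).2 fun a b h =>
    (IsFractionRing.injective R₀ (FractionRing R₀)) ((algebraMap (FractionRing R₀) K).injective (by
      rw [← IsScalarTower.algebraMap_apply, ← IsScalarTower.algebraMap_apply]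
      exact congrArg Subtype.val h))
  have hdimS : ringKrullDim S = 2 :=
    (VarDim.ringKrullDim_eq_of_isIntegral (R := R₀) (S := S)).trans hdim
  let X := Spec (CommRingCat.of S)
  haveI : IsNoetherian X := inferInstance
  haveI : IsLocallyNoetherian (↑U : Scheme.{u}) := isLocallyNoetherian_of_isOpenImmersion U.ι
  haveI : CompactSpace (↑U : Scheme.{u}) :=
    isCompact_iff_compactSpace.1 (TopologicalSpace.NoetherianSpace.isCompact (U : Set X))
  haveI : IsNoetherian (↑U : Scheme.{u}) := {}
  let pr : (↑U : Scheme.{u}) → Ideal S := fun x => (U.ι x).asIdeal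
  have hsp : ∀ a b : (↑U : Scheme.{u}), a ⤳ b ↔ pr a ≤ pr b := fun a b =>
    U.ι.isOpenEmbedding.isInducing.specializes_iff.symm.trans
      (PrimeSpectrum.le_iff_specializes (U.ι a) (U.ι b)).symm
  have hmax : ∀ a : (↑U : Scheme.{u}), ¬ (pr a).IsMaximal := fun a h => hU (U.ι a) a.2
    ((PrimeSpectrum.isClosed_singleton_iff_isMaximal _).2 h)
  have hchain : ∀ q p : Ideal S, q.IsPrime → p.IsPrime → q ≠ ⊥ → ¬ p.IsMaximal → q ≤ p → q = p := by
    intro q p hq hp hq0 hpm hle
    by_contra hne
    obtain ⟨m, hm, hpm'⟩ := Ideal.exists_le_maximal p hp.ne_top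
    have hlt : p < m := lt_of_le_of_ne hpm' fun e => hpm (e ▸ hm)
    let l : LTSeries (PrimeSpectrum S) :=
      (((RelSeries.singleton _ (⟨⊥, Ideal.isPrime_bot⟩ : PrimeSpectrum S)).snoc ⟨q, hq⟩
        (show (⊥ : Ideal S) < q from bot_lt_iff_ne_bot.2 hq0)).snoc ⟨p, hp⟩
        (by simp only [RelSeries.last_snoc]; exact lt_of_le_of_ne hle hne)).snoc ⟨m, hm.isPrime⟩
        (by simp only [RelSeries.last_snoc]; exact hlt)
    have hl : ((3 : ℕ) : WithBot ℕ∞) ≤ ringKrullDim S := Order.LTSeries.length_le_krullDim l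
    rw [hdimS] at hl
    have : (3 : ℕ) ≤ 2 := by exact_mod_cast hl
    omega
  have hstep : ∀ a b : (↑U : Scheme.{u}), a ⤳ b → a ≠ b → pr a = ⊥ ∧ pr b ≠ ⊥ := fun a b hab hne => by
    have hle := (hsp a b).1 hab
    have hne' : pr a ≠ pr b := fun e => hne (Specializes.antisymm hab ((hsp b a).2 e.ge)).eq
    have ha : pr a = ⊥ := by
      by_contra h
      exact hne' (hchain (pr a) (pr b) (U.ι a).isPrime (U.ι b).isPrime h (hmax b) hle)
    exact ⟨ha, fun h => hne' (ha.trans h.symm)⟩
  refine GalCohAux.EtDimVanC.vanishing (GalCohAux.EtDimVanD.torsionClass Set.univ)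
    (fun a : (↑U : Scheme.{u}) => if pr a = ⊥ then 3 else 1)
    (fun a b hab hne => ?_) (fun a M hM q hq => ?_)
    (fun a b hab hne R _ _ _ _ _ P hP M hM q hq => ?_) F
    ((GalCohAux.EtDimVanD.isTorsion_iff_lTorsion F).1 hF) r
    fun a _ => ?_
  · obtain ⟨ha, hb⟩ := hstep a b hab hne
    simp [ha, hb]
  · have hM' := (GalCohAux.EtDimVanD.isTorsion_iff_lTorsion M).2 hM
    by_cases ha : pr a = ⊥
    · rw [if_pos ha] at hq
      let e : K ≃+* (↑U : Scheme.{u}).residueField a :=
        (genericResidueEquiv K (U.ι a) ha).trans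
          (asIso (U.ι.residueFieldMap a)).commRingCatIsoToRingEquiv
      exact GalCohAux.EtCdTrDeg.cohDimLE_of_cd
        (fun ℓ hℓ => GalCohAux.EtCdTr.cd_ringEquiv e (GalCohAux.EtCdTrDeg.cd_of_cohDimLE ℓ hcdK))
        M hM' q (by omega)
    · rw [if_neg ha] at hq
      refine hcdv a ?_ M hM' q hq
      rw [← closure_eq_iff_isClosed]
      refine Set.Subset.antisymm (fun z hz => ?_) subset_closure
      by_contra hza
      exact ha (hstep a z (specializes_iff_mem_closure.2 hz) (Ne.symm hza)).1
  · obtain ⟨ha, hb⟩ := hstep a b hab hne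
    simp only [ha, hb, if_true, if_false] at hq
    haveI : P.IsPrime := hP.1.1
    haveI : IsIntegral X := inferInstance
    haveI := (U.ι b).isPrime
    haveI hA : IsDiscreteValuationRing (Localization.AtPrime (pr b)) :=
      isDVR_localization (pr b) hb fun q hq h0 hle => hchain q _ hq (U.ι b).isPrime h0 (hmax b) hle
    let e₀ : Localization.AtPrime (pr b) ≃+* (↑U : Scheme.{u}).presheaf.stalk b :=
      (StructureSheaf.stalkIso S (U.ι b)).toRingEquiv.trans
        (U.stalkIso b).symm.commRingCatIsoToRingEquiv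
    haveI : IsDomain ((↑U : Scheme.{u}).presheaf.stalk b) := MulEquiv.isDomain _ e₀.symm.toMulEquiv
    haveI := isDVR_of_ringEquiv e₀
    let g : k →+* (↑U : Scheme.{u}).presheaf.stalk b :=
      e₀.toRingHom.comp ((algebraMap S (Localization.AtPrime (pr b))).comp
        ((algebraMap R₀ S).comp (algebraMap k R₀)))
    exact GalCohAux.EtCdTrDeg.cohDimLE_of_cd
      (fun ℓ hℓ => haveI := Fact.mk hℓ; cd_branch_dvr a b hab hne k g R P hP ℓ)
      M ((GalCohAux.EtDimVanD.isTorsion_iff_lTorsion M).2 hM) q (by omega)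
  · split <;> omega


/-- Let `k` be an algebraically closed field of characteristic zero, `R₀` an excellent normal henselian
local `k`-domain of Krull dimension two with residue field `k`, `K` a finite extension of its
fraction field, `O_K` the integral closure of `R₀` in `K`, and `X` the open subscheme of `Spec O_K`
of non-closed points; let `U` be a nonempty open subscheme of `X`. Assume, as holds in this
situation, that `K` has etale cohomological dimension at most 2 and that the residue field of every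
closed point of `U` has cohomological dimension at most 1. (The published text asserts both facts
for this situation without proof; this row carries them as hypotheses.) Then for every constructible
abelian etale sheaf `F` on `U` and every `r ≥ 4`, `H^r(U, F) = 0`. -/
theorem result
    (k : Type u) [Field k] [IsAlgClosed k] [CharZero k]
    (R₀ : Type u) [CommRing R₀] [IsDomain R₀] [HenselianLocalRing R₀] [Algebra k R₀]
    [IsIntegrallyClosed R₀] (hexc : EGA4.IsExcellent R₀) (hdim : ringKrullDim R₀ = 2)
    (hres : Function.Surjective (fun a : k => IsLocalRing.residue R₀ (algebraMap k R₀ a)))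
    (K : Type u) [Field K] [Algebra R₀ K] [Algebra (FractionRing R₀) K]
    [IsScalarTower R₀ (FractionRing R₀) K] [FiniteDimensional (FractionRing R₀) K]
    (U : (Spec (CommRingCat.of ↥(integralClosure R₀ K))).Opens)
    (hU : ∀ x : ↥(Spec (CommRingCat.of ↥(integralClosure R₀ K))), x ∈ U →
      ¬ IsClosed ({x} : Set ↥(Spec (CommRingCat.of ↥(integralClosure R₀ K)))))
    (hne : Nonempty ↥(↑U : Scheme.{u}))
    (hcdK : EtCoh.CohDimLE (Spec (CommRingCat.of K)) 2)
    (hcdv : ∀ x : ↥(↑U : Scheme.{u}), IsClosed ({x} : Set ↥(↑U : Scheme.{u})) →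
      EtCoh.CohDimLE (Spec ((↑U : Scheme.{u}).residueField x)) 1)
    (F : EtCoh.Ab (↑U : Scheme.{u})) (hF : EtPBC.IsConstructible F) (r : ℕ) (hr : 4 ≤ r) :
    Subsingleton (EtCoh.H (↑U : Scheme.{u}) F r) := by
  exact vanishing_torsion k R₀ hexc hdim hres K U hU hcdK hcdv F (EtConsAb.isTorsion_of_isConstructible hF) r hr

end Groth.Agent.S13412
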