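import Groth.Prelude.Def_W4c1stackycurvesGalP1
import Mathlib.LinearAlgebra.Matrix.ToLin
import Mathlib.LinearAlgebra.Matrix.NonsingularInverse
import Mathlib.LinearAlgebra.Projectivization.Basic
import Mathlib.LinearAlgebra.Projectivization.Action
import Mathlib.FieldTheory.Galois.Basic
import Mathlib.Data.Set.Card
import Mathlib.Data.Matrix.Basic
import Mathlib.LinearAlgebra.Matrix.Notation
import Mathlib.Tactic.Ring
import Mathlib.Tactic.LinearCombination
import Mathlib.Tactic.FieldSimp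

/-! # Galois-equivariant maps of at most three points of the projective line -/

namespace Groth.Agent.GalP1

open Matrix

variable {K : Type*} [Field K]

local notation "P1" => Projectivization K (Fin 2 → K)

/-- `M` maps the point `x` to `y`. -/
def Maps (M : Matrix (Fin 2) (Fin 2) K) (x y : P1) : Prop :=
  ∃ c : K, M *ᵥ x.rep = c • y.rep

/-- The determinant of two vectors. -/
def d (v w : Fin 2 → K) : K := v 0 * w 1 - v 1 * w 0

theorem d_ne_zero {x y : P1} (h : x ≠ y) : d x.rep y.rep ≠ 0 := by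
  intro hd
  apply h
  rw [← x.mk_rep, ← y.mk_rep, Projectivization.mk_eq_mk_iff']
  unfold d at hd
  have hy := y.rep_nonzero
  by_cases h0 : y.rep 0 = 0
  · have h1 : y.rep 1 ≠ 0 := fun h1 => hy (by ext i; fin_cases i <;> simp [h0, h1])
    refine ⟨x.rep 1 / y.rep 1, ?_⟩
    ext i; fin_cases i
    · have : x.rep 0 * y.rep 1 = 0 := by rw [h0, mul_zero, sub_zero] at hd; exact hd
      simp [h0, (mul_eq_zero.mp this).resolve_right h1]
    · simp [div_mul_cancel₀ _ h1]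
  · refine ⟨x.rep 0 / y.rep 0, ?_⟩
    ext i; fin_cases i
    · simp [div_mul_cancel₀ _ h0]
    · simp only [Fin.mk_one, Pi.smul_apply, smul_eq_mul]
      field_simp
      linear_combination hd

/-- The frame matrix of three vectors. -/
def frame (v₀ v₁ v₂ : Fin 2 → K) : Matrix (Fin 2) (Fin 2) K :=
  Matrix.of ![![d v₂ v₁ * v₀ 0, d v₀ v₂ * v₁ 0], ![d v₂ v₁ * v₀ 1, d v₀ v₂ * v₁ 1]]

theorem frame_e0 (v₀ v₁ v₂ : Fin 2 → K) : frame v₀ v₁ v₂ *ᵥ ![1, 0] = d v₂ v₁ • v₀ := by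
  ext i; fin_cases i <;> simp [frame, Matrix.mulVec, dotProduct, Fin.sum_univ_two]

theorem frame_e1 (v₀ v₁ v₂ : Fin 2 → K) : frame v₀ v₁ v₂ *ᵥ ![0, 1] = d v₀ v₂ • v₁ := by
  ext i; fin_cases i <;> simp [frame, Matrix.mulVec, dotProduct, Fin.sum_univ_two]

theorem frame_e2 (v₀ v₁ v₂ : Fin 2 → K) : frame v₀ v₁ v₂ *ᵥ ![1, 1] = d v₀ v₁ • v₂ := by
  ext i; fin_cases i <;>
    (simp [frame, Matrix.mulVec, dotProduct, Fin.sum_univ_two, d]; ring)

theorem frame_det (v₀ v₁ v₂ : Fin 2 → K) :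
    (frame v₀ v₁ v₂).det = d v₂ v₁ * d v₀ v₂ * d v₀ v₁ := by
  simp [frame, Matrix.det_fin_two, d]; ring

theorem exists_matrix {x₀ x₁ x₂ y₀ y₁ y₂ : P1} (h01 : x₀ ≠ x₁) (h02 : x₀ ≠ x₂) (h12 : x₁ ≠ x₂)
    (k01 : y₀ ≠ y₁) (k02 : y₀ ≠ y₂) (k12 : y₁ ≠ y₂) :
    ∃ M : Matrix (Fin 2) (Fin 2) K, M.det ≠ 0 ∧ Maps M x₀ y₀ ∧ Maps M x₁ y₁ ∧ Maps M x₂ y₂ ∧
      ∀ N, Maps N x₀ y₀ → Maps N x₁ y₁ → Maps N x₂ y₂ → ∃ c : K, N = c • M := by
  set P := frame x₀.rep x₁.rep x₂.rep with hP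
  set Q := frame y₀.rep y₁.rep y₂.rep with hQ
  have hp : d x₂.rep x₁.rep * d x₀.rep x₂.rep * d x₀.rep x₁.rep ≠ 0 :=
    mul_ne_zero (mul_ne_zero (d_ne_zero h12.symm) (d_ne_zero h02)) (d_ne_zero h01)
  have hq : d y₂.rep y₁.rep * d y₀.rep y₂.rep * d y₀.rep y₁.rep ≠ 0 :=
    mul_ne_zero (mul_ne_zero (d_ne_zero k12.symm) (d_ne_zero k02)) (d_ne_zero k01)
  have hPd : P.det ≠ 0 := by rw [hP, frame_det]; exact hp
  have hQd : Q.det ≠ 0 := by rw [hQ, frame_det]; exact hq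
  set M := (P.det)⁻¹ • (Q * P.adjugate) with hM
  have hMP : M * P = Q := by
    rw [hM, smul_mul, Matrix.mul_assoc, Matrix.adjugate_mul, Matrix.mul_smul, Matrix.mul_one,
      smul_smul, inv_mul_cancel₀ hPd, one_smul]
  have hMd : M.det ≠ 0 := by
    intro h
    apply hQd
    rw [← hMP, Matrix.det_mul, h, zero_mul]
  have key : ∀ (a b : K) (v w : Fin 2 → K) (e : Fin 2 → K), a ≠ 0 → P *ᵥ e = a • v →
      Q *ᵥ e = b • w → M *ᵥ v = (a⁻¹ * b) • w := by
    intro a b v w e ha hv hw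
    have : M *ᵥ (a • v) = b • w := by rw [← hv, Matrix.mulVec_mulVec, hMP, hw]
    rw [Matrix.mulVec_smul] at this
    rw [← inv_smul_smul₀ ha (M *ᵥ v), this, smul_smul]
  refine ⟨M, hMd, ⟨_, key _ _ _ _ _ (d_ne_zero h12.symm) (frame_e0 _ _ _) (frame_e0 _ _ _)⟩,
    ⟨_, key _ _ _ _ _ (d_ne_zero h02) (frame_e1 _ _ _) (frame_e1 _ _ _)⟩,
    ⟨_, key _ _ _ _ _ (d_ne_zero h01) (frame_e2 _ _ _) (frame_e2 _ _ _)⟩, ?_⟩
  intro N ⟨a₀, ha₀⟩ ⟨a₁, ha₁⟩ ⟨a₂, ha₂⟩
  have key' : ∀ (a b t : K) (v w : Fin 2 → K) (e : Fin 2 → K), b ≠ 0 → P *ᵥ e = a • v →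
      Q *ᵥ e = b • w → N *ᵥ v = t • w → (N * P) *ᵥ e = (a * t / b) • (Q *ᵥ e) := by
    intro a b t v w e hb hv hw ht
    rw [← Matrix.mulVec_mulVec, hv, Matrix.mulVec_smul, ht, hw, smul_smul, smul_smul,
      div_mul_cancel₀ _ hb]
  have e0 := key' _ _ _ _ _ _ (d_ne_zero k12.symm) (frame_e0 _ _ _) (frame_e0 _ _ _) ha₀
  have e1 := key' _ _ _ _ _ _ (d_ne_zero k02) (frame_e1 _ _ _) (frame_e1 _ _ _) ha₁
  have e2 := key' _ _ _ _ _ _ (d_ne_zero k01) (frame_e2 _ _ _) (frame_e2 _ _ _) ha₂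
  set c₀ := d x₂.rep x₁.rep * a₀ / d y₂.rep y₁.rep
  set c₁ := d x₀.rep x₂.rep * a₁ / d y₀.rep y₂.rep
  set c₂ := d x₀.rep x₁.rep * a₂ / d y₀.rep y₁.rep
  have hsum : (![1, 1] : Fin 2 → K) = ![1, 0] + ![0, 1] := by ext i; fin_cases i <;> simp
  have hzero : Q *ᵥ ![c₀ - c₂, c₁ - c₂] = 0 := by
    have h : (![c₀ - c₂, c₁ - c₂] : Fin 2 → K)
        = c₀ • ![1, 0] + c₁ • ![0, 1] - c₂ • ![1, 1] := by
      ext i; fin_cases i <;> simp
    rw [h, Matrix.mulVec_sub, Matrix.mulVec_add, Matrix.mulVec_smul, Matrix.mulVec_smul,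
      Matrix.mulVec_smul, ← e0, ← e1, ← e2, ← Matrix.mulVec_add, ← hsum, sub_self]
  have hz := Matrix.eq_zero_of_mulVec_eq_zero hQd hzero
  have hc02 : c₀ = c₂ := sub_eq_zero.mp (by simpa using congrFun hz 0)
  have hc12 : c₁ = c₂ := sub_eq_zero.mp (by simpa using congrFun hz 1)
  have hNP : N * P = c₂ • Q := by
    apply Matrix.ext_iff_mulVec.mpr
    intro v
    have hv : v = v 0 • ![1, 0] + v 1 • ![0, 1] := by ext i; fin_cases i <;> simp
    rw [hv, Matrix.mulVec_add, Matrix.mulVec_smul, Matrix.mulVec_smul, e0, e1, hc02, hc12,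
      Matrix.mulVec_add, Matrix.mulVec_smul, Matrix.mulVec_smul, Matrix.smul_mulVec,
      Matrix.smul_mulVec]
  refine ⟨c₂, ?_⟩
  have : N * P * P.adjugate = c₂ • Q * P.adjugate := by rw [hNP]
  rw [Matrix.mul_assoc, Matrix.mul_adjugate, Matrix.mul_smul, Matrix.mul_one, smul_mul] at this
  rw [hM, smul_comm, ← this, smul_smul, inv_mul_cancel₀ hPd, one_smul]

section Galois

variable {k : Type*} [Field k] [Algebra k K]

open W4c1stackycurves

theorem exists_rep_galP (σ : K ≃ₐ[k] K) (x : P1) :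
    ∃ c : K, c ≠ 0 ∧ (galP σ x).rep = c • (fun i => σ (x.rep i)) := by
  have hne : (fun i => σ (x.rep i)) ≠ 0 := fun h => x.rep_nonzero (funext fun i => σ.injective (by
    simpa using congrFun h i))
  have hx : galP σ x = Projectivization.mk K (fun i => σ (x.rep i)) hne := by
    conv_lhs => rw [← x.mk_rep]
    rfl
  obtain ⟨a, ha⟩ := Projectivization.exists_smul_eq_mk_rep K _ hne
  refine ⟨(a : K), a.ne_zero, ?_⟩
  rw [hx, ← ha]
  rfl

theorem maps_galP (σ : K ≃ₐ[k] K) {M : Matrix (Fin 2) (Fin 2) K} {x y : P1} (h : Maps M x y) :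
    Maps (M.map σ) (galP σ x) (galP σ y) := by
  obtain ⟨c, hc⟩ := h
  obtain ⟨a, ha0, ha⟩ := exists_rep_galP σ x
  obtain ⟨b, hb0, hb⟩ := exists_rep_galP σ y
  refine ⟨a * σ c / b, ?_⟩
  rw [ha, hb, Matrix.mulVec_smul, smul_smul, div_mul_cancel₀ _ hb0]
  ext i
  have h' := congrArg σ (congrFun hc i)
  simp only [Matrix.mulVec, dotProduct, Fin.sum_univ_two, map_add, map_mul, Pi.smul_apply,
    smul_eq_mul] at h'
  simp only [Matrix.mulVec, dotProduct, Fin.sum_univ_two, Matrix.map_apply, Pi.smul_apply,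
    smul_eq_mul]
  linear_combination a * h'

theorem galP_comp (σ τ : K ≃ₐ[k] K) (x : P1) : galP σ (galP τ x) = galP (τ.trans σ) x := by
  induction x using Projectivization.ind with
  | h v hv => rfl

theorem galP_refl (x : P1) : galP (AlgEquiv.refl : K ≃ₐ[k] K) x = x := by
  induction x using Projectivization.ind with
  | h v hv => rfl

/-- Three points: the matrix can be chosen with entries in `k`. -/
theorem exists_matrix_base [FiniteDimensional k K] [IsGalois k K] (S : Set P1) (f : P1 → P1)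
    (h3 : S.ncard = 3) (hS : ∀ (σ : K ≃ₐ[k] K) x, x ∈ S → galP σ x ∈ S) (hf : Set.InjOn f S)
    (hequiv : ∀ (σ : K ≃ₐ[k] K) x, x ∈ S → f (galP σ x) = galP σ (f x)) :
    ∃ g : Matrix (Fin 2) (Fin 2) k, g.det ≠ 0 ∧ ∀ x ∈ S, Maps (g.map (algebraMap k K)) x (f x) := by
  obtain ⟨x₀, x₁, x₂, h01, h02, h12, rfl⟩ := Set.ncard_eq_three.mp h3
  have hk : ∀ a b, a ∈ ({x₀, x₁, x₂} : Set P1) → b ∈ ({x₀, x₁, x₂} : Set P1) → a ≠ b → f a ≠ f b :=
    fun a b ha hb hab h => hab (hf ha hb h)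
  obtain ⟨M, hMd, m0, m1, m2, huniq⟩ := exists_matrix h01 h02 h12
    (hk _ _ (by simp) (by simp) h01) (hk _ _ (by simp) (by simp) h02) (hk _ _ (by simp) (by simp) h12)
  have hall : ∀ x ∈ ({x₀, x₁, x₂} : Set P1), Maps M x (f x) := by
    intro x hx
    rcases hx with rfl | rfl | rfl
    · exact m0
    · exact m1
    · exact m2
  -- normalise an entry
  obtain ⟨i, j, hij⟩ : ∃ i j, M i j ≠ 0 := by
    by_contra h
    push Not at h
    exact hMd (by simp [Matrix.det_fin_two, h])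
  set M₁ := (M i j)⁻¹ • M with hM₁
  have hM₁ij : M₁ i j = 1 := by simp [hM₁, inv_mul_cancel₀ hij]
  have hall₁ : ∀ x ∈ ({x₀, x₁, x₂} : Set P1), Maps M₁ x (f x) := by
    intro x hx
    obtain ⟨c, hc⟩ := hall x hx
    exact ⟨(M i j)⁻¹ * c, by rw [hM₁, Matrix.smul_mulVec, hc, smul_smul]⟩
  have hfix : ∀ (σ : K ≃ₐ[k] K) a b, σ (M₁ a b) = M₁ a b := by
    intro σ a b
    have hmap : ∀ x ∈ ({x₀, x₁, x₂} : Set P1), Maps (M₁.map σ) x (f x) := by
      intro x hx
      have hy := hS σ.symm x hx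
      have := maps_galP σ (hall₁ _ hy)
      rwa [← hequiv σ _ hy, galP_comp, AlgEquiv.symm_trans_self, galP_refl] at this
    obtain ⟨c, hc⟩ := huniq _ (hmap x₀ (by simp)) (hmap x₁ (by simp)) (hmap x₂ (by simp))
    have h1 := congrFun (congrFun hc i) j
    simp only [Matrix.map_apply, hM₁ij, map_one, Matrix.smul_apply, smul_eq_mul] at h1
    have h2 := congrFun (congrFun hc a) b
    simp only [Matrix.map_apply, Matrix.smul_apply, smul_eq_mul] at h2
    have hc' : c = (M i j)⁻¹ := eq_inv_of_mul_eq_one_left h1.symm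
    rw [h2, hc', hM₁, Matrix.smul_apply, smul_eq_mul]
  choose g hg using fun a b => (IsGalois.mem_range_algebraMap_iff_fixed (M₁ a b)).mpr
    (fun σ => hfix σ a b)
  have hgM : (Matrix.of g).map (algebraMap k K) = M₁ := by ext a b; exact hg a b
  refine ⟨Matrix.of g, fun h => ?_, by rw [hgM]; exact hall₁⟩
  have : M₁.det = 0 := by
    rw [← hgM, ← RingHom.mapMatrix_apply, ← RingHom.map_det, h, map_zero]
  rw [hM₁, Matrix.det_smul, mul_eq_zero] at this
  exact this.elim (fun h' => pow_ne_zero _ (inv_ne_zero hij) h') hMd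

/-- A rational point avoiding a set of at most two points. -/
theorem exists_rational (T : Set P1) (hT : T.Finite) (h2 : T.ncard ≤ 2) :
    ∃ q : P1, q ∉ T ∧ ∀ σ : K ≃ₐ[k] K, galP σ q = q := by
  let q : Fin 3 → P1 := fun i => Projectivization.mk K (![![1, 0], ![0, 1], ![1, 1]] i)
    (by fin_cases i <;> simp [funext_iff])
  have hq : ∀ (i : Fin 3) (σ : K ≃ₐ[k] K), galP σ (q i) = q i := by
    intro i σ
    show Projectivization.map _ _ (Projectivization.mk K _ _) = _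
    rw [Projectivization.map_mk]
    congr 1
    ext j
    fin_cases i <;> fin_cases j <;> simp [galVec]
  by_contra hno
  push Not at hno
  have hsub : Set.range q ⊆ T := by
    rintro _ ⟨i, rfl⟩
    by_contra hi
    obtain ⟨σ, hσ⟩ := hno (q i) hi
    exact hσ (hq i σ)
  have hinj : Function.Injective q := by
    intro i j h
    obtain ⟨a, ha⟩ := (Projectivization.mk_eq_mk_iff' K _ _ _ _).mp h
    have h0 := congrFun ha 0
    have h1 := congrFun ha 1
    fin_cases i <;> fin_cases j <;> simp_all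
  have := Set.ncard_le_ncard hsub hT
  rw [Set.ncard_range_of_injective hinj, Nat.card_eq_fintype_card, Fintype.card_fin] at this
  omega

theorem exists_base [FiniteDimensional k K] [IsGalois k K] : ∀ (n : ℕ) (S : Set P1) (f : P1 → P1),
    S.Finite → S.ncard + n = 3 → (∀ (σ : K ≃ₐ[k] K) x, x ∈ S → galP σ x ∈ S) → Set.InjOn f S →
    (∀ (σ : K ≃ₐ[k] K) x, x ∈ S → f (galP σ x) = galP σ (f x)) →
    ∃ g : Matrix (Fin 2) (Fin 2) k, g.det ≠ 0 ∧ ∀ x ∈ S, Maps (g.map (algebraMap k K)) x (f x) := by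
  classical
  intro n
  induction n with
  | zero => exact fun S f _ h3 hS hf he => exists_matrix_base S f (by omega) hS hf he
  | succ n ih =>
    intro S f hfin hn hS hf he
    obtain ⟨p, hp, hpσ⟩ := exists_rational (k := k) S hfin (by omega)
    obtain ⟨q, hq, hqσ⟩ := exists_rational (k := k) (f '' S) (hfin.image f)
      ((Set.ncard_image_le hfin).trans (by omega))
    set f' := Function.update f p q
    have hf'S : ∀ x ∈ S, f' x = f x := fun x hx =>
      Function.update_of_ne (fun h : x = p => hp (h ▸ hx)) _ _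
    have hf'p : f' p = q := Function.update_self _ _ _
    obtain ⟨g, hg, hmaps⟩ := ih (insert p S) f' (hfin.insert p)
      (by rw [Set.ncard_insert_of_notMem hp hfin]; omega)
      (by
        intro σ x hx
        rcases hx with rfl | hx
        · rw [hpσ]; exact Set.mem_insert _ _
        · exact Set.mem_insert_of_mem _ (hS σ x hx))
      (by
        rw [Set.injOn_insert hp]
        refine ⟨fun a ha b hb h => hf ha hb (by rwa [hf'S a ha, hf'S b hb] at h), ?_⟩
        rw [hf'p]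
        rintro ⟨a, ha, haq⟩
        exact hq ⟨a, ha, by rw [← hf'S a ha, haq]⟩)
      (by
        intro σ x hx
        rcases hx with rfl | hx
        · rw [hpσ, hf'p, hqσ]
        · rw [hf'S _ (hS σ x hx), hf'S x hx, he σ x hx])
    exact ⟨g, hg, fun x hx => by
      have := hmaps x (Set.mem_insert_of_mem _ hx)
      rwa [hf'S x hx] at this⟩

end Galois

theorem smul_eq_of_maps (g : Matrix.GeneralLinearGroup (Fin 2) K) {x y : P1}
    (h : Maps (g : Matrix (Fin 2) (Fin 2) K) x y) : Matrix.GeneralLinearGroup.toLin g • x = y := by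
  obtain ⟨c, hc⟩ := h
  conv_lhs => rw [← x.mk_rep]
  rw [Projectivization.smul_mk]
  conv_rhs => rw [← y.mk_rep]
  rw [Projectivization.mk_eq_mk_iff']
  exact ⟨c, hc.symm⟩

end Groth.Agent.GalP1
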