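import Groth.Statements.S11115
import Groth.Agent.KFlat.RPush
import Mathlib.Algebra.Homology.DerivedCategory.DerivabilityStructureInjectives


set_option autoImplicit false
universe u
open CategoryTheory CategoryTheory.Limits AlgebraicGeometry
attribute [local instance] HasDerivedCategory.standard
open Perf

namespace Groth.Agent.S11115

/-- Let f : X ⟶ Y be a quasi-compact quasi-separated morphism of schemes and assume the unbounded
derived direct image Rf_* exists. If F in D(O_X) has cohomology sheaves vanishing below degree n,
then so has Rf_* F. (The published statement restricts F to complexes with quasi-coherent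
cohomology; this row allows any F.) -/
theorem result {X Y : Scheme.{u}} (f : X ⟶ Y) [QuasiCompact f] [QuasiSeparated f] [DCoh.HasRpush f]
    (F : DCoh.D X) (n : ℤ) [F.IsGE n] : ((DCoh.Rpush f).obj F).IsGE n := by
  obtain ⟨L, _, ⟨e⟩⟩ := DerivedCategory.exists_iso_Q_obj_of_isGE F n
  have : EnoughInjectives X.Modules := IsGrothendieckAbelian.enoughInjectives
  obtain ⟨M, _, i, hi⟩ := CochainComplex.Plus.exists_quasiIso_injective ⟨L, ⟨n, inferInstance⟩⟩ n
  have : QuasiIso i.hom := by assumption
  let M' := ((InjectiveObject.ι X.Modules).mapCochainComplexPlus.obj M).obj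
  have hS : M'.IsStrictlyGE n :=
    inferInstanceAs (CochainComplex.IsStrictlyGE (((InjectiveObject.ι X.Modules).mapHomologicalComplex (ComplexShape.up ℤ)).obj M.obj) n)
  have hinj : ∀ k, Injective (M'.X k) := fun k => (M.obj.X k).property
  have hK : M'.IsKInjective := CochainComplex.isKInjective_of_injective M' n
  have h := Groth.Agent.KFlat.RPush.isIso_toRpush f M'
  let e' : (DCoh.Rpush f).obj F ≅ DerivedCategory.Q.obj ((Groth.Agent.KFlat.WeakKInj.pushCx f).obj M') :=
    (DCoh.Rpush f).mapIso (e ≪≫ asIso (DerivedCategory.Q.map i.hom)) ≪≫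
      (asIso ((Groth.Agent.KFlat.RPush.toRpush f).app M')).symm
  have : ((Groth.Agent.KFlat.WeakKInj.pushCx f).obj M').IsStrictlyGE n := inferInstance
  exact DerivedCategory.TStructure.t.isGE_of_iso e'.symm n

end Groth.Agent.S11115
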