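import Groth.Statements.S1011
import Groth.Agent.CohDerLib.QC.PerfBound

set_option autoImplicit false
universe u
open CategoryTheory CategoryTheory.Limits AlgebraicGeometry
attribute [local instance] HasDerivedCategory.standard
open Perf

namespace Groth.Agent.S1011

/-- Let the scheme X be quasi-compact and quasi-separated and K a perfect object of D(O_X). (1) There
are integers a ≤ b such that every morphism K ⟶ L vanishes whenever L has quasi-coherent cohomology
sheaves which are zero in all degrees of the interval [a, b]. (2) If L ∈ D_QCoh(O_X) is bounded,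
then the set of n for which there is a nonzero morphism K ⟶ L[n] is finite. -/
theorem result (X : Scheme.{u}) [CompactSpace ↥X] [QuasiSeparatedSpace ↥X]
    (K : DCoh.D X) (hK : DCoh.IsPerfect K) :
    (∃ a b : ℤ, a ≤ b ∧ ∀ L : DCoh.D X, DCoh.IsQCohD L → (∀ i : ℤ, a ≤ i → i ≤ b → IsZero (DCoh.HD L i)) →
      ∀ φ : K ⟶ L, φ = 0) ∧
    ∀ (L : DCoh.D X) (a' b' : ℤ), DCoh.IsQCohD L → L.IsGE a' → L.IsLE b' →
      {n : ℤ | ∃ φ : K ⟶ L⟦n⟧, φ ≠ 0}.Finite := by
  obtain ⟨d, hd⟩ := Groth.Agent.CohDerLib.QC.exists_vanD_perfect hK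
  obtain ⟨c, hc⟩ := Groth.Agent.CohDerLib.QC.exists_isLE_perfect hK
  let t := (DerivedCategory.TStructure.t : CategoryTheory.Triangulated.TStructure (DCoh.D X))
  refine ⟨⟨min (-d) c, max c (-d), by omega, fun L hL hz φ => ?_⟩, fun L a' b' hL hLa hLb => ?_⟩
  · let a := min (-d) c
    let b := max c (-d)
    have h1 : ((t.truncLT a).obj L).IsLE (a - 1) := inferInstance
    have hge : ((t.truncGE a).obj L).IsGE (b + 1) := by
      rw [DerivedCategory.isGE_iff]
      intro i hi
      by_cases hia : i < a
      · exact DerivedCategory.isZero_of_isGE ((t.truncGE a).obj L) a i hia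
      · have := Groth.Agent.CohDerLib.HComp.isIso_homology_truncGEπ L a i (by omega)
        exact (hz i (by omega) (by omega)).of_iso
          (asIso ((DerivedCategory.homologyFunctor X.Modules i).map ((t.truncGEπ a).app L))).symm
    have h2 : Subsingleton (K ⟶ (t.truncGE a).obj L) :=
      Groth.Agent.CohDerLib.QC.subsingleton_of_isLE_isGE (F := (t.truncGE a).obj L) c (b + 1) (by omega)
    have h3 : Subsingleton (K ⟶ (t.truncLT a).obj L) :=
      hd _ (Groth.Agent.CohDerLib.QC.isQCohD_truncLT hL a) (a - 1) h1 (by omega)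
    obtain ⟨x, hx⟩ := Pretriangulated.Triangle.coyoneda_exact₂ _ (t.triangleLTGE_distinguished a L) φ (h2.elim _ _)
    rw [hx, h3.elim x 0]
    exact zero_comp
  · refine Set.Finite.subset (Set.finite_Icc (a' - c) (b' + d)) fun n hn => ?_
    obtain ⟨φ, hφ⟩ := hn
    simp only [Set.mem_Icc]
    by_contra h
    refine hφ ?_
    rcases not_and_or.1 h with h | h
    · exact (Groth.Agent.CohDerLib.QC.subsingleton_hom_shift_of_isGE (P := K) (E := L) c a' n (by omega)).elim φ 0
    · exact (Groth.Agent.CohDerLib.QC.subsingleton_hom_shift_of_isLE (P := K) (E := L) hd hL b' n (by omega)).elim φ 0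

end Groth.Agent.S1011
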