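import Groth.Statements.S1097
import Groth.Agent.PerfExt.Affine
import Groth.Agent.DTrunc.DerivedPushAdj

set_option autoImplicit false
universe u
open CategoryTheory CategoryTheory.Limits AlgebraicGeometry Opposite
attribute [local instance] HasDerivedCategory.standard
open Perf

attribute [-instance] CategoryTheory.ReflQuiver.toQuiver

namespace Groth.Agent.S1097

/-- Let X be an affine scheme, U ⊆ X a quasi-compact open (restriction to U assumed exact), E a perfect
object and E' an object with quasi-coherent cohomology sheaves of D(O_X). For every morphism α :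
E|_U ⟶ E'|_U there are a perfect object E₁ of D(O_X) and morphisms β : E₁ ⟶ E, γ : E₁ ⟶ E' such that
β|_U is an isomorphism and β|_U ≫ α = γ|_U. -/
theorem result (X : Scheme.{u}) [IsAffine X] (U : X.Opens) (hU : IsCompact (U : Set X))
    [PreservesFiniteLimits (Scheme.Modules.restrictFunctor U.ι)] (E E' : DCoh.D X) (hE : DCoh.IsPerfect E) (hE' : DCoh.IsQCohD E')
    (α : (DCoh.restrictD U.ι).obj E ⟶ (DCoh.restrictD U.ι).obj E') :
    ∃ (E₁ : DCoh.D X) (β : E₁ ⟶ E) (γ : E₁ ⟶ E'), DCoh.IsPerfect E₁ ∧ IsIso ((DCoh.restrictD U.ι).map β) ∧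
      (DCoh.restrictD U.ι).map β ≫ α = (DCoh.restrictD U.ι).map γ := by
  open Groth.Agent in
  have : CompactSpace (U : Scheme.{u}) := isCompact_iff_compactSpace.1 hU
  have : QuasiCompact U.ι := AlgebraicGeometry.quasiCompact_of_compactSpace U.ι
  have := KFlat.RPush.hasRpush U.ι
  obtain ⟨adj⟩ : Nonempty (DCoh.restrictD U.ι ⊣ DCoh.Rpush U.ι) :=
    DTrunc.DerivedPushAdj.nonempty_adjunction (DCoh.Rpush U.ι)
      ((DCoh.pushKh U.ι).totalRightDerivedUnit DerivedCategory.Qh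
        (HomotopyCategory.quasiIso (U : Scheme.{u}).Modules (ComplexShape.up ℤ)))
      (Scheme.Modules.restrictAdjunction U.ι)
  let F := PerfExt.T X
  obtain ⟨M, ⟨eM⟩⟩ := PerfExt.exists_iso_T X (PerfExt.isQCohD_of_isPerfect hE)
  obtain ⟨M', ⟨eM'⟩⟩ := PerfExt.exists_iso_T X hE'
  obtain ⟨N, ⟨eN⟩⟩ := PerfExt.exists_iso_T X (CohDerLib.QC.isQCohD_Rpush U.ι _
    (CohDerLib.Kosz.isQCohD_restrictD U hE'))
  obtain ⟨fs, hfs⟩ := PerfExt.exists_isZero_iff X U hU
  obtain ⟨u, hu⟩ : ∃ u : M' ⟶ N, F.map u = eM'.hom ≫ adj.unit.app E' ≫ eN.inv := F.map_surjective _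
  obtain ⟨φ, hφ⟩ : ∃ φ : M ⟶ N, F.map φ = eM.hom ≫ adj.homEquiv _ _ α ≫ eN.inv := F.map_surjective _
  obtain ⟨C, c, d, hT⟩ := Pretriangulated.distinguished_cocone_triangle u
  have hC : ∀ g ∈ fs, CohDerLib.Kosz.HTors g C := by
    refine (hfs C).1 ((Pretriangulated.Triangle.isZero₃_iff_isIso₁ _
      ((DCoh.restrictD U.ι).map_distinguished _ (F.map_distinguished _ hT))).2 ?_)
    have := CohDerLib.Kosz.isIso_restrict_unit U adj E'
    change IsIso ((DCoh.restrictD U.ι).map (F.map u))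
    rw [hu, Functor.map_comp, Functor.map_comp]
    infer_instance
  have hM : DRing.IsPerfect Γ(X, ⊤) M :=
    (PerfExt.isPerfect_T_iff X M).1 (PerfTri.Perfect.isPerfect_of_iso eM.symm hE)
  obtain ⟨M₁, Z, ν, q, b, hT', hM₁, hν, hZ⟩ := PerfExt.exists_kill fs M C hM hC (φ ≫ c)
  obtain ⟨γ, hγ⟩ := Pretriangulated.Triangle.coyoneda_exact₂ _ hT (ν ≫ φ) ((Category.assoc ν φ c).trans hν)
  refine ⟨F.obj M₁, F.map ν ≫ eM.hom, F.map γ ≫ eM'.hom, (PerfExt.isPerfect_T_iff X M₁).2 hM₁, ?_, ?_⟩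
  · have : IsIso ((DCoh.restrictD U.ι).map (F.map ν)) :=
      (Pretriangulated.Triangle.isZero₃_iff_isIso₁ _
        ((DCoh.restrictD U.ι).map_distinguished _ (F.map_distinguished _ hT'))).1 ((hfs Z).2 hZ)
    rw [Functor.map_comp]
    infer_instance
  · apply (adj.homEquiv _ _).injective
    rw [adj.homEquiv_naturality_left]
    have h1 : adj.homEquiv _ _ α = eM.inv ≫ F.map φ ≫ eN.hom := by simp [hφ]
    have h2 : adj.homEquiv _ _ ((DCoh.restrictD U.ι).map (F.map γ ≫ eM'.hom)) =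
        (F.map γ ≫ eM'.hom) ≫ adj.unit.app E' :=
      (adj.homEquiv_unit _ _ _).trans (adj.unit.naturality (F.map γ ≫ eM'.hom)).symm
    have h3 : eM'.hom ≫ adj.unit.app E' = F.map u ≫ eN.hom := by simp [hu]
    rw [h1, h2, Category.assoc, Category.assoc, Iso.hom_inv_id_assoc]
    refine Eq.trans ?_ (congrArg (F.map γ ≫ ·) h3).symm
    exact (Category.assoc _ _ _).symm.trans ((congrArg (· ≫ eN.hom) (((F.map_comp ν φ).symm.trans
      (congrArg (fun ψ => F.map ψ) hγ)).trans (F.map_comp γ u))).trans (Category.assoc _ _ _))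

end Groth.Agent.S1097
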