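import Groth.Statements.S1034
import Groth.Agent.DHA.Telescope
import Groth.Agent.DHA.Brown.Coprod
-- import your own Groth.Agent.* helpers here

set_option autoImplicit false
universe v v' u u'
open CategoryTheory CategoryTheory.Limits
open DerLim

namespace Groth.Agent.S1034

open CategoryTheory.Pretriangulated in
/-- Let D be a pretriangulated category with countable direct sums, A an abelian category with exact
colimits of shape ℕ, and H : D ⥤ A a homological functor that preserves countable direct sums. If L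
(with maps iₙ : Kₙ ⟶ L) is a homotopy colimit of a system (Kₙ, fₙ), then H(L) is the colimit of the
H(Kₙ): there is an isomorphism colimₙ H(Kₙ) ≅ H(L) compatible with the maps H(iₙ). -/
theorem result {D : Type u} [Category.{v} D] [Preadditive D] [Limits.HasZeroObject D] [HasShift D ℤ]
    [∀ n : ℤ, (shiftFunctor D n).Additive] [Pretriangulated D] [IsTriangulated D] [HasColimitsOfShape (Discrete ℕ) D]
    {A : Type u'} [Category.{v'} A] [Abelian A] [HasColimitsOfShape ℕ A] [HasExactColimitsOfShape ℕ A]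
    (H : D ⥤ A) [H.IsHomological] [PreservesColimitsOfShape (Discrete ℕ) H]
    (K : ℕ → D) (f : ∀ n, K n ⟶ K (n + 1)) (L : D) (i : ∀ n, K n ⟶ L) (hL : DerLim.IsHocolim K f L i) :
    ∃ e : colimit (Functor.ofSequence (fun n => H.map (f n))) ≅ H.obj L,
      ∀ n : ℕ, colimit.ι (Functor.ofSequence (fun n => H.map (f n))) n ≫ e.hom = H.map (i n) := by
  obtain ⟨c, hT⟩ := hL
  set s := DerLim.shiftMap K f with hs
  let F := Functor.ofSequence (fun n => H.map (f n))
  have hF : ∀ n, F.map (homOfLE (Nat.le_add_right n 1)) = H.map (f n) := fun n =>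
    Functor.ofSequence_map_homOfLE_succ _ n
  have hι : ∀ n, Sigma.ι K n ≫ (𝟙 (∐ K) - s) = Sigma.ι K n - f n ≫ Sigma.ι K (n + 1) := fun n => by
    rw [Preadditive.comp_sub, Category.comp_id, hs, DerLim.shiftMap, Sigma.ι_desc]
  let cH : Cofan F.obj := Cofan.mk (H.obj (∐ K)) (fun n => H.map (Sigma.ι K n))
  have hcH : IsColimit cH := isColimitCofanMkObjOfIsColimit H _ _ (coproductIsCoproduct K)
  have hφ : ∀ n, cH.inj n ≫ H.map (𝟙 (∐ K) - s) =
      cH.inj n - F.map (homOfLE (Nat.le_add_right n 1)) ≫ cH.inj (n + 1) := fun n => by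
    show H.map (Sigma.ι K n) ≫ H.map (𝟙 (∐ K) - s) = _
    rw [← H.map_comp, hι, H.map_sub, H.map_comp, hF]
    rfl
  have h12 : (𝟙 (∐ K) - s) ≫ Sigma.desc i = 0 := comp_distTriang_mor_zero₁₂ _ hT
  let q : H.obj (∐ K) ⟶ H.obj L := H.map (Sigma.desc i)
  have w : H.map (𝟙 (∐ K) - s) ≫ q = 0 := by
    rw [← H.map_comp, h12, H.map_zero]
  have hex : (ShortComplex.mk (H.map (𝟙 (∐ K) - s)) q w).Exact :=
    H.map_distinguished_exact _ hT
  -- the shifted map is mono
  have hepi : Epi q := by
    let S := shiftFunctor D (1 : ℤ)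
    let cS : Cofan (fun n => H.obj (S.obj (K n))) :=
      Cofan.mk (H.obj (S.obj (∐ K))) (fun n => H.map (S.map (Sigma.ι K n)))
    have hcS : IsColimit cS :=
      isColimitCofanMkObjOfIsColimit H _ _ (Groth.Agent.DHA.Brown.isColimitShift K 1)
    have hmono : Mono (H.map (S.map (𝟙 (∐ K) - s))) :=
      Groth.Agent.DHA.Telescope.mono_oneSub (fun n => H.map (S.map (f n))) hcS _ (fun n => by
        show H.map (S.map (Sigma.ι K n)) ≫ H.map (S.map (𝟙 (∐ K) - s)) = _
        rw [← H.map_comp, ← S.map_comp, hι, S.map_sub, H.map_sub, S.map_comp, H.map_comp]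
        rfl)
    have h31 : c ≫ S.map (𝟙 (∐ K) - s) = 0 := comp_distTriang_mor_zero₃₁ _ hT
    have hc : H.map c = 0 := by
      rw [← cancel_mono (H.map (S.map (𝟙 (∐ K) - s))), ← H.map_comp, h31, H.map_zero, zero_comp]
    have hex' : (ShortComplex.mk q (H.map c) (by rw [hc, comp_zero])).Exact :=
      H.map_distinguished_exact _ (rot_of_distTriang _ hT)
    exact hex'.epi_f hc
  have hmono : Mono (H.map (𝟙 (∐ K) - s)) :=
    Groth.Agent.DHA.Telescope.mono_oneSub _ hcH _ hφ
  let q' : H.obj (∐ K) ⟶ colimit F := Cofan.IsColimit.desc hcH (fun n => colimit.ι F n)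
  have w' : H.map (𝟙 (∐ K) - s) ≫ q' = 0 :=
    Groth.Agent.DHA.Telescope.comp_eq_zero _ hcH _ hφ _ (fun n => colimit.w F _)
  have hS := Groth.Agent.DHA.Telescope.shortExact F hcH (colimit.isColimit F) _ hφ q'
    (fun n => Cofan.IsColimit.fac hcH _ n) w'
  have hE : Epi q' := hS.epi_g
  let e : colimit F ≅ H.obj L :=
    IsColimit.coconePointUniqueUpToIso hS.exact.gIsCokernel hex.gIsCokernel
  have he : q' ≫ e.hom = q :=
    IsColimit.comp_coconePointUniqueUpToIso_hom hS.exact.gIsCokernel hex.gIsCokernel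
      WalkingParallelPair.one
  refine ⟨e, fun n => ?_⟩
  have := cH.inj n ≫= he
  rw [Cofan.IsColimit.fac_assoc] at this
  refine this.trans ?_
  show H.map (Sigma.ι K n) ≫ H.map (Sigma.desc i) = H.map (i n)
  rw [← H.map_comp, Sigma.ι_desc]

end Groth.Agent.S1034
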