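import Groth.Statements.S6519
import Groth.Agent.CohDerLib.Kosz.Geom
import Groth.Agent.CohDev.Loc
import Groth.Agent.PerfTri.Perfect

set_option autoImplicit false
universe u
open CategoryTheory CategoryTheory.Limits
open scoped ZeroObject
attribute [local instance] HasDerivedCategory.standard
open DCoh
attribute [-instance] CategoryTheory.ReflQuiver.toQuiver

namespace Groth.Agent.S6519

open AlgebraicGeometry in
/-- Let j : U → X be the inclusion of an open subscheme, and let T ⊆ U be a closed subset whose image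
j(T) is also closed in X. Suppose E in D(O_U) is perfect and every cohomology sheaf of E has support
contained in T. In that case the derived pushforward Rj_*E is perfect as an object of D(O_X). (The
published statement is for ringed spaces; this row is for schemes.) -/
theorem result {X : Scheme.{u}} (U : X.Opens) [DCoh.HasRpush U.ι]
    (E : DCoh.D (U : Scheme.{u})) (hE : DCoh.IsPerfect E) (T : Set (U : Scheme.{u}))
    (hT : IsClosed T) (hjT : IsClosed ((fun x : (U : Scheme.{u}) => U.ι.base x) '' T))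
    (hsupp : ∀ i : ℤ, CohB1.support (DCoh.HD E i) ⊆ T) :
    DCoh.IsPerfect ((DCoh.Rpush U.ι).obj E) := by
  open Groth.Agent in
  refine (PerfTri.Perfect.near_iff _).mpr fun x => ?_
  by_cases hx : x ∈ (fun x : (U : Scheme.{u}) => U.ι.base x) '' T
  · obtain ⟨u, _, rfl⟩ := hx
    obtain ⟨U', j, hj, hu, hSP⟩ := (PerfTri.Perfect.near_iff E).mp hE u
    obtain ⟨v, rfl⟩ := hu
    exact ⟨U', j ≫ U.ι, inferInstance, ⟨v, rfl⟩, PerfTri.Perfect.isSP_of_iso
      ((DCoh.restrictD j).mapIso ((CohDerLib.Kosz.restrictRpushSelf U).app E).symm ≪≫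
        PerfTri.Perfect.restrComp j U.ι (j ≫ U.ι) rfl _) hSP⟩
  · let W : X.Opens := ⟨((fun x : (U : Scheme.{u}) => U.ι.base x) '' T)ᶜ, hjT.isOpen_compl⟩
    have := KFlat.RPush.hasRpush (U.ι ∣_ W)
    have hz : IsZero ((DCoh.restrictD (U.ι ⁻¹ᵁ W).ι).obj E) := by
      have hh : ∀ i, IsZero ((DerivedCategory.homologyFunctor _ i).obj
          ((DCoh.restrictD (U.ι ⁻¹ᵁ W).ι).obj E)) := fun i => by
        refine (CohDev.isZero_restrict_of_support (U.ι ⁻¹ᵁ W).ι (M := DCoh.HD E i) ?_).of_iso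
          (CohDerLib.Kosz.homologyRestrictIso (U.ι ⁻¹ᵁ W) E i)
        intro z hz
        rw [Scheme.Opens.range_ι]
        exact fun hzV => hzV ⟨z, hsupp i hz, rfl⟩
      have : IsIso (0 : (DCoh.restrictD (U.ι ⁻¹ᵁ W).ι).obj E ⟶ (DCoh.restrictD (U.ι ⁻¹ᵁ W).ι).obj E) := by
        rw [DerivedCategory.isIso_iff]
        exact fun i => isIso_of_isInitial (hh i).isInitial (hh i).isInitial _
      rw [IsZero.iff_id_eq_zero]
      exact (cancel_epi (0 : (DCoh.restrictD (U.ι ⁻¹ᵁ W).ι).obj E ⟶ _)).1 (by simp)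
    exact ⟨W, W.ι, inferInstance, ⟨⟨x, hx⟩, rfl⟩, 0,
      ⟨⟨0, 0, fun i _ => (HomologicalComplex.eval _ _ i).map_isZero (isZero_zero _)⟩,
      fun i y => ⟨⊤, 0, trivial, ⟨((Scheme.Modules.restrictFunctor _).map_isZero
        ((HomologicalComplex.eval _ _ i).map_isZero (isZero_zero _))).iso
        ((IsZero.iff_id_eq_zero _).mpr (Sigma.hom_ext _ _ fun i => Fin.elim0 i))⟩⟩⟩,
      ⟨((Functor.map_isZero (DCoh.Rpush (U.ι ∣_ W)) hz).of_iso ((KFlat.RPushBase.restrictRpushIso U.ι W).app E)).iso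
        (DerivedCategory.Q.map_isZero (isZero_zero _))⟩⟩

end Groth.Agent.S6519
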