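import Groth.Statements.S0346
import Groth.Agent.GrpScheme.Basic

set_option autoImplicit false
universe u v
open CategoryTheory MonoidalCategory CartesianMonoidalCategory MonObj GrpObj AlgebraicGeometry
open GrpSch

namespace Groth.Agent.S0346

/-- A group scheme over any base scheme is separated over the base exactly when its unit section is a
closed immersion, and quasi-separated exactly when the unit section is quasi-compact. -/
theorem result (S : Scheme.{u}) (G : Over S) [GrpObj G] : (IsSeparated G.hom ↔ IsClosedImmersion η[G].left) ∧ (QuasiSeparated G.hom ↔ QuasiCompact η[G].left) := by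
  refine ⟨⟨fun h => ?_, fun h => ⟨?_⟩⟩, ⟨fun h => ?_, fun h => ⟨?_⟩⟩⟩
  · have : IsClosedImmersion (η[G].left ≫ G.hom) := by rw [Over.w]; exact inferInstanceAs (IsClosedImmersion (𝟙 S))
    exact IsClosedImmersion.of_comp η[G].left G.hom
  · exact Groth.Agent.GrpScheme.Basic.diagonal_mem @IsClosedImmersion h
  · have : QuasiCompact (η[G].left ≫ G.hom) := by rw [Over.w]; exact inferInstanceAs (QuasiCompact (𝟙 S))
    exact QuasiCompact.of_comp η[G].left G.hom
  · exact Groth.Agent.GrpScheme.Basic.diagonal_mem @QuasiCompact h

end Groth.Agent.S0346
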