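import Groth.Statements.S14341
import Groth.Agent.JacPts.Basic
import Groth.Agent.FF.Small

set_option autoImplicit false
universe u
open CategoryTheory CategoryTheory.Limits AlgebraicGeometry
open Curves
set_option backward.isDefEq.respectTransparency false
set_option backward.isDefEq.respectTransparency.types false
set_option maxHeartbeats 800000
open FunFld Groth.Agent Groth.Agent.FFCurve Groth.Agent.JacPts

namespace Groth.Agent.S14341

theorem fromSpecResidueField_over (k : Type u) [Field k] (X : Scheme.{u}) [X.Over (Spec (CommRingCat.of k))]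
    (x : X) : X.fromSpecResidueField x ≫ (X ↘ Spec (CommRingCat.of k)) =
      Spec.map (CommRingCat.ofHom (Curv2.resMap k X x)) := by
  set f := X ↘ Spec (CommRingCat.of k)
  have hf : f = X.toSpecΓ ≫ Spec.map ((Scheme.ΓSpecIso (CommRingCat.of k)).inv ≫ f.appTop) := by
    rw [Spec.map_comp, ← Scheme.toSpecΓ_naturality_assoc, ← SpecMap_ΓSpecIso_hom, ← Spec.map_comp,
      Iso.inv_hom_id, Spec.map_id, Category.comp_id]
  rw [hf, Scheme.fromSpecResidueField, Category.assoc, Scheme.fromSpecStalk_toSpecΓ_assoc,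
    ← Spec.map_comp, ← Spec.map_comp]
  rfl

theorem structMap_eq (k : Type u) [Field k] (X : Scheme.{u}) [X.Over (Spec (CommRingCat.of k))] (x : X) :
    Weil.structMap (X ↘ Spec (CommRingCat.of k)) x = Curv2.resMap k X x := rfl

theorem bijective_algebraMap_of_finrank_eq_one {k K : Type u} [Field k] [Field K] [Algebra k K]
    (h : Module.finrank k K = 1) : Function.Bijective (algebraMap k K) := by
  haveI : Module.Finite k K := Module.finite_of_finrank_eq_succ h
  refine ⟨RingHom.injective _, fun y => ?_⟩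
  obtain ⟨c, hc⟩ := (finrank_eq_one_iff_of_nonzero' (1 : K) one_ne_zero).1 h y
  exact ⟨c, by rw [← hc, Algebra.algebraMap_eq_smul_one]⟩

/-- Let k be a field and X a smooth proper geometrically connected curve over k (of dimension one) of
genus dim_k H^1(X, O_X) = 1, with a k-rational point O (a closed point with residue field k); for a
k-rational point P write I_P for the ideal sheaf of the reduced point P, an invertible ideal with
inverse O_X(P). Then for every invertible O_X-module L of degree 0 there is exactly one k-rational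
point P with L ⊗ I_P ≅ I_O, that is L ≅ O_X(P − O): the map P ↦ O_X(P − O) is a bijection from X(k)
onto the isomorphism classes of invertible modules of degree zero. -/
theorem result (k : Type u) [Field k] (X : Scheme.{u}) [X.Over (Spec (CommRingCat.of k))] [IsProper (X ↘ Spec (CommRingCat.of k))] [Smooth (X ↘ Spec (CommRingCat.of k))] [GeometricallyConnected (X ↘ Spec (CommRingCat.of k))] (hX : topologicalKrullDim X = 1) (hg : Curv2.genus k X = 1) (O : X) (hOc : IsClosed ({O} : Set X)) (hO : Function.Bijective (Curv2.resMap k X O)) (L : X.Modules) (hL : PicF.IsInvertible L) (hdeg : Curv2.deg k X L 1 = 0) : ∃! P : {x : X // IsClosed ({x} : Set X) ∧ Function.Bijective (Curv2.resMap k X x)}, Nonempty (CohB1.tensorMod L (ClSub.idealMod (Scheme.IdealSheafData.vanishingIdeal ⟨{P.1}, P.2.1⟩)) ≅ ClSub.idealMod (Scheme.IdealSheafData.vanishingIdeal ⟨{O}, hOc⟩)) := by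
  obtain ⟨_, _⟩ := integral_reg k X hX
  obtain ⟨φ, hφ⟩ : ∃ φ : Spec (CommRingCat.of k) ⟶ X, φ ≫ (X ↘ Spec (CommRingCat.of k)) = 𝟙 _ := by
    haveI : IsIso (CommRingCat.ofHom (Curv2.resMap k X O)) := (ConcreteCategory.isIso_iff_bijective _).2 hO
    refine ⟨inv (Spec.map (CommRingCat.ofHom (Curv2.resMap k X O))) ≫ X.fromSpecResidueField O, ?_⟩
    rw [Category.assoc, fromSpecResidueField_over, IsIso.inv_hom_id]
  have hK := isFunctionField k hX hφ
  have hgK : genus k X.functionField = 1 := by rw [← genus_eq k hX hφ, hg]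
  have hdeg1 : ∀ x : ZetaLib.ClosedPt X, Function.Bijective (Curv2.resMap k X x.1) ↔ (toPlace k hX x).deg = 1 := by
    intro x
    rw [← finrank_residueField k hX x, ZetaLib.residueDegree_eq_finrank, structMap_eq]
    letI := (Curv2.resMap k X x.1).toAlgebra
    exact ⟨fun h => (LinearEquiv.ofBijective (Algebra.linearMap k (X.residueField x.1)) h).finrank_eq.symm.trans
      (Module.finrank_self k), fun h => bijective_algebraMap_of_finrank_eq_one h⟩
  let xO : ZetaLib.ClosedPt X := ⟨O, hOc⟩
  set Q := toPlace k hX xO with hQdef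
  have hQ : Q.deg = 1 := (hdeg1 xO).1 hO
  rw [deg_eq k hX hK hL] at hdeg
  set D := divOf k hX hL + Finsupp.single Q 1 with hD
  have hdD : D.deg = 1 := by rw [hD, FF.deg_add, hdeg, FF.deg_single, hQ]; rfl
  have hlD : ell D = 1 := by
    have := FF.ell_eq_of_deg_ge hK (D := D) (by rw [hgK, hdD]; norm_num)
    rw [hgK, hdD] at this
    omega
  have hiff : ∀ x : ZetaLib.ClosedPt X,
      Nonempty (CohB1.tensorMod L (ClSub.idealMod (pointI x)) ≅ ClSub.idealMod (pointI xO)) ↔
        DivEq k (Finsupp.single (toPlace k hX x) 1) D := by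
    intro x
    have hI := isInvertible_pointI k hX x
    have hIO := isInvertible_pointI k hX xO
    have hT := AmpleLib.isInvertible_tensorMod hL hI
    have h1 : DivEq k (divOf k hX hT) (divOf k hX hL + -Finsupp.single (toPlace k hX x) 1) :=
      DivEq.trans' k hX (divEq_tensor k hX hL hI) (DivEq.add' k hX (divEq_refl k hX _) (divEq_pointI k hX x))
    have h2 : DivEq k (divOf k hX hIO) (-Finsupp.single Q 1) := divEq_pointI k hX xO
    constructor
    · rintro ⟨e⟩
      obtain ⟨z, hz, hze⟩ := DivEq.trans' k hX (DivEq.symm' k hX h2)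
        (DivEq.trans' k hX (divEq_iso k hX hT hIO e) h1)
      refine ⟨z, hz, ?_⟩
      rw [hD, ← sub_eq_zero]
      rw [← sub_eq_zero] at hze
      refine Eq.trans ?_ hze
      abel
    · rintro ⟨z, hz, hze⟩
      have h3 : DivEq k (divOf k hX hL + -Finsupp.single (toPlace k hX x) 1) (-Finsupp.single Q 1) := by
        refine DivEq.symm' k hX ⟨z, hz, ?_⟩
        rw [hze, hD]; abel
      obtain ⟨a, ha, hae⟩ := DivEq.trans' k hX h1 (DivEq.trans' k hX h3 (DivEq.symm' k hX h2))
      exact nonempty_iso_of_div k hX hT hIO ha (by rw [hae]; abel)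
  obtain ⟨z, hz, hnn⟩ := FF.exists_nonneg_equiv hK (show 0 < ell D by omega)
  obtain ⟨P, hP⟩ : ∃ P, 0 < (D + FunFld.div k z) P := by
    by_contra! h
    have h0 : D + FunFld.div k z = 0 := le_antisymm h hnn
    have := congrArg FunFld.Divisor.deg h0
    rw [FF.deg_add, hdD, FF.deg_div hK.1, FF.deg_zero'] at this
    omega
  have hsub : 0 ≤ D + FunFld.div k z - Finsupp.single P 1 := fun R => by
    classical
    rw [Finsupp.sub_apply, Finsupp.single_apply, Finsupp.coe_zero, Pi.zero_apply]
    split_ifs with e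
    · subst e; omega
    · simpa using hnn R
  have hPdeg : P.deg = 1 := by
    have h1 := FF.deg_mono hsub
    rw [FF.deg_zero', FF.deg_sub, FF.deg_add, hdD, FF.deg_div hK.1, FF.deg_single] at h1
    have := FF.deg_pos hK.1 P
    omega
  have hE : D + FunFld.div k z = Finsupp.single P 1 := by
    refine sub_eq_zero.1 (FF.eq_zero_of_nonneg_of_deg hK hsub ?_)
    rw [FF.deg_sub, FF.deg_add, hdD, FF.deg_div hK.1, FF.deg_single, hPdeg]; rfl
  let xP := (placeEquiv k hX).symm P
  have hxP : toPlace k hX xP = P := (placeEquiv k hX).apply_symm_apply P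
  refine ⟨⟨xP.1, xP.2, (hdeg1 xP).2 (by rw [hxP, hPdeg])⟩,
    (hiff xP).2 ⟨z, hz, by rw [hxP, hE]⟩, ?_⟩
  rintro ⟨y, hyc, hyb⟩ hy
  obtain ⟨w, hw, hwe⟩ := (hiff ⟨y, hyc⟩).1 hy
  have h1 : ell (Finsupp.single P (1 : ℤ)) = 1 := by rw [← hE, FF.ell_add_div hK hz, hlD]
  have h2 := FF.eq_of_ell_eq_one hK (Finsupp.single_nonneg.2 zero_le_one) h1 (mul_ne_zero hw (inv_ne_zero hz))
    (Finsupp.single_nonneg.2 zero_le_one) (F := Finsupp.single (toPlace k hX ⟨y, hyc⟩) (1 : ℤ)) (by
      rw [hwe, ← hE, FF.div_mul hK.1 hw (inv_ne_zero hz), FF.div_inv hK.1]; abel)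
  have h3 : toPlace k hX ⟨y, hyc⟩ = toPlace k hX xP :=
    (Finsupp.single_left_injective one_ne_zero h2).trans hxP.symm
  have h4 : y = xP.1 := congrArg (fun a : ZetaLib.ClosedPt X => a.1) (toPlace_injective k hX h3)
  exact Subtype.ext h4

end Groth.Agent.S14341
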