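import Groth.Statements.S1545
import Mathlib
import Groth.Agent.GeomLoc.Reduced
import Groth.Agent.GeomLoc.BC
-- import your own Groth.Agent.* helpers here

set_option autoImplicit false
universe u
open CategoryTheory CategoryTheory.Limits AlgebraicGeometry
open Variety

namespace Groth.Agent.S1545

/-- For a field extension k' of k, a point x of X and a point x' of X_{k'} over x, X is geometrically
reduced at x if and only if X_{k'} is geometrically reduced at x' (over k'). -/
theorem result (k : Type u) [Field k] (X : Scheme.{u}) [X.Over (Spec (CommRingCat.of k))] (k' : Type u) [Field k'] [Algebra k k']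
    (x : X) (x' : Curv2.bc k X k') (hx : Curv2.bcFst k X k' x' = x) :
    Curv2.IsGeomReducedAt k X x ↔
      @Curv2.IsGeomReducedAt k' _ (Curv2.bc k X k') ⟨Curv2.bcSnd k X k'⟩ x' := by
  constructor
  · intro h E _ _ z hz
    letI : Algebra k E := ((algebraMap k' E).comp (algebraMap k k')).toAlgebra
    haveI : IsScalarTower k k' E := IsScalarTower.of_algebraMap_eq fun _ => rfl
    revert z
    exact (GeomLoc.forall_point_tower (E := E) x' (fun R _ => _root_.IsReduced R)
      fun R S _ _ e _ => isReduced_of_injective e.symm e.symm.injective).2 fun z hz =>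
        h E z (by rw [← GeomLoc.towerMap_bcFst (k' := k') z, hz, hx])
  · intro h K _ _ y hy
    obtain ⟨E, _, _, _, _, _, _, z, rfl, hzx, -⟩ :=
      GeomLoc.exists_common_point y x' (hy.trans hx.symm)
    haveI := (GeomLoc.forall_point_tower (E := E) x' (fun R _ => _root_.IsReduced R)
      fun R S _ _ e _ => isReduced_of_injective e.symm e.symm.injective).1 (fun z hz => h E z hz) z hzx
    exact GeomLoc.isReduced_stalk_of_tower z

end Groth.Agent.S1545
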