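import Groth.Statements.S5224
import Groth.Agent.GrpdLib.EffQuot

set_option autoImplicit false
open CategoryTheory CategoryTheory.Limits AlgebraicGeometry
universe u
open GrpQ

namespace Groth.Agent.S5224

/-- For the fppf topology: let `s, t : R ⇉ U` be an equivalence relation of schemes over `S` with `s`
faithfully flat and locally of finite presentation. A morphism `q : U ⟶ Y` over `S` is a faithfully
flat, locally finitely presented quotient with kernel pair `R` if and only if `q` identifies `h_Y`
with the fppf quotient sheaf `U/R`. -/
theorem result {S : Scheme.{u}} {R U Y : Over S} (s t : R ⟶ U)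
    [IsEquivalenceRelation s t]
    [Flat s.left] [Surjective s.left] [LocallyOfFinitePresentation s.left]
    (q : U ⟶ Y) :
    (IsKernelPair q s t ∧ Flat q.left ∧ Surjective q.left ∧ LocallyOfFinitePresentation q.left) ↔
      QuotSh.IsQuotient Scheme.fppfPrecoverage s t q := by
  have heq := GrpdLib.isEqvRel_of_isEquivalenceRelation s t
  constructor
  · rintro ⟨hk, _, _, _⟩
    exact GrpdLib.isQuotient_of_isPullback s t q
      ((show IsPullback s t q q from hk).flip.map (Over.forget S))
  · intro hq
    obtain ⟨hpb, hP⟩ := GrpdLib.repWith_map_of_isQuotient heq hq
    exact ⟨hpb.flip, hP @Flat inferInstance, hP @Surjective inferInstance,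
      hP @LocallyOfFinitePresentation inferInstance⟩

end Groth.Agent.S5224
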