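import Groth.Statements.S5341
import Groth.Agent.GrpScheme.Dimension
import Groth.Agent.GrpdLib.FieldDim
-- import your own Groth.Agent.* helpers here

set_option autoImplicit false
universe u
open CategoryTheory CategoryTheory.Limits MonoidalCategory CartesianMonoidalCategory MonObj GrpObj AlgebraicGeometry
open SGA3

namespace Groth.Agent.S5341

/-- Let G be a group scheme locally of finite type over a field k. Then (i) every irreducible component
of G has the same dimension as G; (ii) for every point g of G the local dimension of G at g (the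
infimum of the dimensions of the open neighbourhoods of g) equals dim G. -/
theorem result (k : Type u) [Field k] (G : Over (Spec (CommRingCat.of k))) [GrpObj G]
    [LocallyOfFiniteType G.hom] :
    (∀ Z ∈ irreducibleComponents ↥G.left, topologicalKrullDim ↥Z = topologicalKrullDim ↥G.left) ∧
    (∀ g : G.left, FlatMor.localDim ↥G.left g = topologicalKrullDim ↥G.left) := by
  have : JacobsonSpace G.left := LocallyOfFiniteType.jacobsonSpace G.hom
  have hloc : IsLocallyNoetherian G.left := LocallyOfFiniteType.isLocallyNoetherian G.hom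
  have hle : ∀ T : Set G.left, topologicalKrullDim T ≤ topologicalKrullDim G.left := fun T =>
    Topology.IsEmbedding.subtypeVal.isInducing.topologicalKrullDim_le
  refine ⟨fun Z hZ => le_antisymm (hle Z) ?_, fun r => le_antisymm ?_ (le_iInf fun U => ?_)⟩
  · obtain ⟨U, hU, hne, hUZ⟩ : ∃ U : Set G.left, IsOpen U ∧ U.Nonempty ∧ U ⊆ Z := by
      obtain ⟨z, hz⟩ := hZ.1.nonempty
      obtain ⟨V, hV, hzV, -⟩ := exists_isAffineOpen_mem_and_subset (x := z) (U := ⊤) trivial
      have : IsAffine (V : Scheme.{u}) := hV
      have : IsLocallyNoetherian (V : Scheme.{u}) := isLocallyNoetherian_of_isOpenImmersion V.ι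
      have : TopologicalSpace.NoetherianSpace (V : Scheme.{u}) :=
        have : CompactSpace (V : Scheme.{u}) := inferInstance
        have : IsNoetherian (V : Scheme.{u}) := ⟨⟩
        inferInstance
      obtain ⟨o, ho, hone, hoZ⟩ :=
        TopologicalSpace.NoetherianSpace.exists_isOpen_nonempty_subset_irreducibleComponent _
          (preimage_mem_irreducibleComponents hZ V.ι.isOpenEmbedding ⟨z, hz, ⟨z, hzV⟩, rfl⟩)
      exact ⟨V.ι '' o, V.ι.isOpenEmbedding.isOpenMap o ho, hone.image _,
        Set.image_subset_iff.2 hoZ⟩
    obtain ⟨w, hw, hwc⟩ := nonempty_inter_closedPoints hne hU.isLocallyClosed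
    rw [← Groth.Agent.GrpScheme.Dimension.coheight_eq_topologicalKrullDim G w hwc]
    exact Groth.Agent.GrpdLib.FieldDim.coheight_le_topologicalKrullDim Z w fun y hy => hUZ (hy.mem_open hU hw)
  · exact (iInf_le _ ⟨⊤, trivial⟩).trans (hle _)
  · obtain ⟨w, hw, hwc⟩ := nonempty_inter_closedPoints (Z := (U.1 : Set G.left)) ⟨r, U.2⟩
      U.1.2.isLocallyClosed
    rw [← Groth.Agent.GrpScheme.Dimension.coheight_eq_topologicalKrullDim G w hwc]
    exact Groth.Agent.GrpdLib.FieldDim.coheight_le_topologicalKrullDim _ w fun y hy => hy.mem_open U.1.2 hw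

end Groth.Agent.S5341
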