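import Groth.Statements.S9683
import Groth.Agent.DimLift.Basic
import Groth.Agent.S9709
import Mathlib.AlgebraicGeometry.Morphisms.Integral
import Mathlib.AlgebraicGeometry.Morphisms.UniversallyClosed
-- import your own Groth.Agent.* helpers here

set_option autoImplicit false
universe u
open CategoryTheory CategoryTheory.Limits AlgebraicGeometry
open Mor

namespace Groth.Agent.S9683

/-- For any integral morphism of schemes f : X ⟶ Y, the dimension of X is at most that of Y, and if f is
surjective then dim X = dim Y (dimensions of the underlying topological spaces). -/
theorem result {X Y : Scheme.{u}} (f : X ⟶ Y) [IsIntegralHom f] :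
    topologicalKrullDim ↥X ≤ topologicalKrullDim ↥Y ∧
      (Surjective f → topologicalKrullDim ↥X = topologicalKrullDim ↥Y) := by
  have hle : topologicalKrullDim ↥X ≤ topologicalKrullDim ↥Y :=
    Groth.Agent.DimLift.topDim_le_of_fibres_antichain f.continuous fun x x' h e => by
      have h' := Groth.Agent.S9709.result f x
      exact (h'.le ⟨specializes_iff_mem_closure.mp h, e.symm⟩ : x' = x).symm
  exact ⟨hle, fun hs => le_antisymm hle (Groth.Agent.DimLift.topDim_le_of_specializingMap hs.surj
    f.isClosedMap.specializingMap)⟩

end Groth.Agent.S9683
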