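import Groth.Statements.S3029
import Mathlib
import Groth.Agent.GrpScheme.Syntomic.Main
import Groth.Agent.Synt44.CM
import Groth.Agent.GeomLoc.CM
-- import your own Groth.Agent.* helpers here

set_option autoImplicit false
universe u
open CategoryTheory MonoidalCategory CartesianMonoidalCategory MonObj GrpObj AlgebraicGeometry TensorProduct
open SGA3

namespace Groth.Agent.S3029

/-- Let G be a group scheme locally of finite type over a field k and x a point of G. Then the local
ring of G at x is Cohen–Macaulay. (This is the case of a base field; the published statement treats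
flat groups over a local Artinian ring.) -/
theorem result (k : Type u) [Field k] (G : Over (Spec (CommRingCat.of k))) [GrpObj G]
    [LocallyOfFiniteType G.hom] (x : G.left) :
    LocCoh.IsCohenMacaulayLocalRing (G.left.presheaf.stalk x) := by
  obtain ⟨V, hV, hxV, -⟩ := exists_isAffineOpen_mem_and_subset (X := G.left) (x := x) (U := ⊤) trivial
  let B := Γ(G.left, V)
  let φB : CommRingCat.of k ⟶ B := (Spec.map_surjective (hV.fromSpec ≫ G.hom)).choose
  have hφB : Spec.map φB = hV.fromSpec ≫ G.hom := (Spec.map_surjective _).choose_spec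
  let iB : Algebra k B := φB.hom.toAlgebra
  have : Algebra.FiniteType k B :=
    (HasRingHomProperty.Spec_iff (P := @LocallyOfFiniteType)).mp
      (show LocallyOfFiniteType (Spec.map φB) by rw [hφB]; infer_instance)
  let v : Groth.Agent.GrpScheme.Syntomic.Group.spec k B ⟶ G := Over.homMk hV.fromSpec (by
    change hV.fromSpec ≫ G.hom = Spec.map (CommRingCat.ofHom (algebraMap k B))
    rw [RingHom.algebraMap_toAlgebra, CommRingCat.ofHom_hom, hφB])
  have : IsOpenImmersion v.left := inferInstanceAs (IsOpenImmersion hV.fromSpec)
  have hB := Groth.Agent.Synt44.isCohenMacaulayRing_of_isLCIOver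
    (Groth.Agent.GrpScheme.Syntomic.Group.isLCIOver G B v)
  let : Algebra B (G.left.presheaf.stalk x) := TopCat.Presheaf.algebra_section_stalk _ (⟨x, hxV⟩ : V)
  have := hV.isLocalization_stalk ⟨x, hxV⟩
  exact Groth.Agent.GeomLoc.isCohenMacaulayLocalRing_congr _ _
    (IsLocalization.algEquiv (hV.primeIdealOf ⟨x, hxV⟩).asIdeal.primeCompl
      (Localization.AtPrime (hV.primeIdealOf ⟨x, hxV⟩).asIdeal) (G.left.presheaf.stalk x)).toRingEquiv
    (hB.isCohenMacaulayLocalRing_localization _)

end Groth.Agent.S3029
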