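import Groth.Statements.S3022
import Mathlib
import Groth.Agent.GrpArtin.Basic
import Groth.Agent.S3029
import Groth.Agent.S9374
import Groth.Agent.GrpScheme.Dimension
import Groth.Agent.GrpScheme.IdComponent
import Groth.Agent.VarDim.Scheme
-- import your own Groth.Agent.* helpers here

set_option autoImplicit false
universe u
open CategoryTheory MonoidalCategory CartesianMonoidalCategory MonObj GrpObj AlgebraicGeometry TensorProduct
open SGA3

namespace Groth.Agent.S3022

lemma fibreDimAt_eq {X Y : Scheme.{u}} (f : X ⟶ Y) (x : X) (s : Y) (h : f x = s) (x₀ : f.fiber s)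
    (h₀ : f.fiberι s x₀ = x) : FlatMor.fibreDimAt f x = FlatMor.localDim (f.fiber s) x₀ := by
  subst h
  have : f.asFiber x = x₀ := (f.fiberι (f x)).isEmbedding.injective (by rw [f.fiberι_asFiber, h₀])
  rw [← this]
  rfl

lemma localDim_eq_of_isClosed {K : Type u} [Field K] (G : Over (Spec (CommRingCat.of K))) [GrpObj G]
    [LocallyOfFiniteType G.hom] (x : G.left) (hx : IsClosed {x}) :
    FlatMor.localDim G.left x = topologicalKrullDim G.left := by
  let _ : G.left.Over (Spec (CommRingCat.of K)) := ⟨G.hom⟩
  have : LocallyOfFiniteType (G.left ↘ Spec (CommRingCat.of K)) := ‹LocallyOfFiniteType G.hom›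
  refine le_antisymm ?_ ?_
  · refine (iInf_le _ (⟨⊤, trivial⟩ : {U : TopologicalSpace.Opens G.left // x ∈ U})).trans ?_
    exact topologicalKrullDim_subspace_le G.left _
  · obtain ⟨n, hn, h⟩ := Groth.Agent.VarDim.localDim_eq_coheight_add K x
    rw [← Groth.Agent.GrpScheme.Dimension.coheight_eq_topologicalKrullDim G x hx, h, hn]
    exact_mod_cast Nat.le_add_right n _

/-- Let S be a scheme and G a group scheme over S which is flat and locally of finite presentation. Then
s ↦ dim G_s (the dimension of the fibre, i.e. of the subspace of G lying over s) is a locally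
constant function on S. -/
theorem result (S : Scheme.{u}) (G : Over S) [GrpObj G] [Flat G.hom]
    [LocallyOfFinitePresentation G.hom] :
    IsLocallyConstant (fun s : S => topologicalKrullDim ↥(G.hom.base ⁻¹' {s})) := by
  have hcm : ∀ x : G.left, MoreMor.IsCMAt G.hom x := fun x => by
    refine ⟨Flat.stalkMap G.hom x, ?_⟩
    let H := Groth.Agent.GrpArtin.bc (S.fromSpecResidueField (G.hom x)) G
    let _ : GrpObj H := Groth.Agent.GrpArtin.grpObjBC _ G
    have : LocallyOfFiniteType H.hom :=
      inferInstanceAs (LocallyOfFiniteType (Limits.pullback.snd G.hom (S.fromSpecResidueField (G.hom x))))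
    exact Groth.Agent.S3029.result (S.residueField (G.hom x)) H (G.hom.asFiber x)
  have hconst := Groth.Agent.S9374.result G.hom hcm
  let e : S ⟶ G.left := (η[G] : 𝟙_ (Over S) ⟶ G).left
  have he : ∀ s : S, G.hom (e s) = s := fun s => by
    rw [← Scheme.Hom.comp_apply]
    exact congrArg (fun m : S ⟶ S => m s) (Over.w (η[G] : 𝟙_ (Over S) ⟶ G))
  have key : ∀ s : S, topologicalKrullDim ↥(G.hom.base ⁻¹' {s}) = FlatMor.fibreDimAt G.hom (e s) := by
    intro s
    let f := S.fromSpecResidueField s
    let H : Over (Spec (CommRingCat.of (S.residueField s))) := Groth.Agent.GrpArtin.bc f G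
    let _ : GrpObj H := Groth.Agent.GrpArtin.grpObjBC f G
    have : LocallyOfFiniteType H.hom :=
      inferInstanceAs (LocallyOfFiniteType (Limits.pullback.snd G.hom f))
    let p : Spec (S.residueField s) := IsLocalRing.closedPoint _
    let one : 𝟙_ (Over (Spec (S.residueField s))) ⟶ H := η[H]
    let x₀ : H.left := one.left p
    have h1 : Groth.Agent.GrpArtin.down f (1 : 𝟙_ (Over (Spec (S.residueField s))) ⟶ H) = 1 := by
      have h2 := Groth.Agent.GrpArtin.down_mul f (1 : 𝟙_ (Over (Spec (S.residueField s))) ⟶ H) 1
      rw [_root_.mul_one] at h2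
      exact left_eq_mul.mp h2
    have hproj : G.hom.fiberι s x₀ = e s := by
      have h3 := congrArg (fun m => m.left p) h1
      simp only [Groth.Agent.GrpArtin.down_left, Hom.one_def, Over.comp_left] at h3
      rw [Scheme.Hom.comp_apply, Scheme.Hom.comp_apply, Scheme.Hom.comp_apply] at h3
      refine (Eq.trans ?_ (h3.trans ?_))
      · exact congrArg (fun q => Limits.pullback.fst G.hom f (one.left q)) (Subsingleton.elim (α := ↥(Spec (S.residueField s))) _ _)
      · exact congrArg e (Scheme.fromSpecResidueField_apply s p)
    have : IsSeparated H.hom := Groth.Agent.GrpScheme.IdComponent.isSeparated H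
    have : IsClosedImmersion one.left := by
      have : IsClosedImmersion (one.left ≫ H.hom) := by
        rw [Over.w one]
        exact inferInstanceAs (IsClosedImmersion (𝟙 _))
      exact IsClosedImmersion.of_comp one.left H.hom
    have hclosed : IsClosed ({x₀} : Set H.left) := by
      have hr : Set.range one.left = {x₀} := by
        refine Set.eq_singleton_iff_unique_mem.mpr ⟨⟨p, rfl⟩, ?_⟩
        rintro _ ⟨q, rfl⟩
        exact congrArg _ (Subsingleton.elim (α := ↥(Spec (S.residueField s))) q p)
      rw [← hr]
      exact one.left.isClosedEmbedding.isClosed_range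
    rw [fibreDimAt_eq G.hom (e s) s (he s) x₀ hproj]
    refine Eq.trans ?_ (localDim_eq_of_isClosed H x₀ hclosed).symm
    exact (G.hom.fiberHomeo s).symm.isHomeomorph.topologicalKrullDim_eq
  rw [funext key]
  exact hconst.comp_continuous e.continuous

end Groth.Agent.S3022
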