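import Groth.Statements.S5417
import Groth.Agent.GrpQuot50.StabQuot
import Groth.Agent.GrpScheme.SubgroupObj
-- import your own Groth.Agent.* helpers here

set_option autoImplicit false
universe u
open CategoryTheory MonoidalCategory CartesianMonoidalCategory MonObj GrpObj AlgebraicGeometry CategoryTheory.Limits
open SGA3x

namespace Groth.Agent.S5417

/-- Let u : G → H be a homomorphism of S-group schemes, G locally of finite presentation over S, and H
locally of finite type over S or S locally Noetherian. Let k : K → G be the kernel of u and suppose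
K flat over S. Then G/K is representable by an S-group scheme Q locally of finite presentation over
S: there is a homomorphism q : G → Q representing the fppf quotient, and u = q followed by a
homomorphism Q → H which is a monomorphism. -/
theorem result (S : Scheme.{u}) (G H : Over S) [GrpObj G] [GrpObj H] [LocallyOfFinitePresentation G.hom]
    (hH : LocallyOfFiniteType H.hom ∨ IsLocallyNoetherian S) (u : G ⟶ H) [IsMonHom u]
    (K : Over S) [GrpObj K] (k : K ⟶ G) [IsMonHom k] (hK : AlgGrp.IsKernel k u) [Flat K.hom] :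
    ∃ (Q : Over S) (_ : GrpObj Q) (q : G ⟶ Q) (_ : IsMonHom q), RedSub.IsQuotient k q ∧
      LocallyOfFinitePresentation Q.hom ∧ ∃ (m : Q ⟶ H) (_ : IsMonHom m), Mono m ∧ q ≫ m = u := by
  let aH : AlgGrp.Action G H :=
    { act := (u ▷ H) ≫ μ[H]
      one_act := by
        rw [← comp_whiskerRight_assoc, IsMonHom.one_hom, MonObj.one_mul]
      mul_act := by
        rw [← comp_whiskerRight_assoc, IsMonHom.mul_hom]
        refine Eq.trans (b := lift ((fst (G ⊗ G) H ≫ fst G G ≫ u) * (fst (G ⊗ G) H ≫ snd G G ≫ u))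
          (snd (G ⊗ G) H) ≫ μ[H]) ?_ ?_
        · refine congrArg (· ≫ μ[H]) (CartesianMonoidalCategory.hom_ext _ _ ?_ (by simp))
          rw [whiskerRight_fst, lift_fst, MonObj.mul_eq_mul]
          simp [MonObj.comp_mul]
        · have hact : (u ▷ H) ≫ μ[H] = (fst G H ≫ u) * snd G H := by
            rw [MonObj.mul_eq_mul, MonObj.comp_mul, whiskerRight_fst, whiskerRight_snd]
          rw [← Hom.mul_def, hact]
          simp [MonObj.comp_mul, _root_.mul_assoc, MonObj.mul_comp] }
  have horb : aH.orbitMap η[H] = u := by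
    show lift (𝟙 G) (toUnit G ≫ η[H]) ≫ (u ▷ H) ≫ μ[H] = u
    rw [← Category.assoc, lift_whiskerRight, ← Hom.mul_def, ← Hom.one_def]
    simp
  obtain ⟨Q, q, hq, hQ, m, hm, hqm⟩ := Groth.Agent.GrpQuot50.StabQuot.exists_quotient_mono aH η[H] k
    (horb.symm ▸ hK) hH
  rw [horb] at hqm
  haveI := hm
  have hc : Groth.Agent.AGFQuot.Basic.IsCover q := ⟨hq.1, hq.2.1, hq.2.2.1⟩
  have : EffectiveEpi q.left := hc.effectiveEpi
  have : EffectiveEpi (q ⊗ₘ q).left := (hc.tensor hc).effectiveEpi
  obtain ⟨mQ, hmQ, -⟩ := Groth.Agent.GrpdLib.GrpOver.existsUnique_desc (q ⊗ₘ q) (μ[G] ≫ q)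
    fun T c d e => by
      rw [← cancel_mono m]
      simp only [Category.assoc, hqm, IsMonHom.mul_hom]
      rw [← hqm, ← MonoidalCategory.tensorHom_comp_tensorHom_assoc, reassoc_of% e]
  obtain ⟨iQ, hiQ, -⟩ := Groth.Agent.GrpdLib.GrpOver.existsUnique_desc q (ι[G] ≫ q)
    fun T c d e => by
      rw [← cancel_mono m]
      simp only [Category.assoc, hqm, GrpObj.inv_hom]
      rw [← hqm, Category.assoc, reassoc_of% e]
  obtain ⟨gQ, hgm⟩ := Groth.Agent.GrpScheme.SubgroupObj.exists_grpObj m
    ⟨mQ, (hc.tensor hc).cancel (by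
      rw [reassoc_of% hmQ, hqm, MonoidalCategory.tensorHom_comp_tensorHom_assoc, hqm, IsMonHom.mul_hom])⟩
    ⟨η[G] ≫ q, by rw [Category.assoc, hqm, IsMonHom.one_hom]⟩
    ⟨iQ, hc.cancel (by rw [reassoc_of% hiQ, hqm, reassoc_of% hqm, GrpObj.inv_hom])⟩
  have hqhom : IsMonHom q :=
    { one_hom := by rw [← cancel_mono m, Category.assoc, hqm, IsMonHom.one_hom, IsMonHom.one_hom]
      mul_hom := by
        rw [← cancel_mono m, Category.assoc, hqm, IsMonHom.mul_hom, Category.assoc, IsMonHom.mul_hom,
          MonoidalCategory.tensorHom_comp_tensorHom_assoc, hqm] }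
  exact ⟨Q, gQ, q, hqhom, hq, hQ, m, hgm, hm, hqm⟩

end Groth.Agent.S5417
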