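import Groth.Statements.S19598
import Groth.Agent.DiagRig.EtaleCharts
import Groth.Agent.DiagRig.BCLoc
import Groth.Agent.DiagRig.SubDescent
import Groth.Agent.MultType.ClosedSub
-- import your own Groth.Agent.* helpers here

set_option autoImplicit false
open CategoryTheory MonoidalCategory CartesianMonoidalCategory MonObj GrpObj AlgebraicGeometry
universe u
open SGA3x

set_option backward.isDefEq.respectTransparency.types false

namespace Groth.Agent.S19598

/-- Let H' be a group scheme of multiplicative type (of finite type) over a scheme S, and H a closed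
subgroup scheme of H' which is flat and locally of finite presentation over S. Then H is of
multiplicative type (of finite type). Multiplicative type is taken in the fpqc-local sense on both
sides. -/
theorem result {S : Scheme.{u}} (H H' : Over S) [GrpObj H] [GrpObj H']
    (hH' : SGA3x.IsMultTypeFT H') (i : H ⟶ H') [IsMonHom i] (hi : IsClosedImmersion i.left)
    (hHfl : Flat H.hom) (hHfp : LocallyOfFinitePresentation H.hom) :
    SGA3x.IsMultTypeFT H := by
  haveI := hHfp
  refine DiagRig.EtaleCharts.isMultTypeFT_of_models fun x => ?_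
  obtain ⟨(W : S.Opens), hW, hxW, -⟩ := exists_isAffineOpen_mem_and_subset (X := S) (x := x) (U := ⊤) trivial
  let R : CommRingCat.{u} := Γ(S, W)
  have := DiagRig.multType_isAffineHom H' hH'
  have := DiagRig.multType_locallyOfFiniteType H' hH'
  let H₁ : Over (Spec (CommRingCat.of R)) := Red.bc hW.fromSpec H'
  let H₀ : Over (Spec (CommRingCat.of R)) := Red.bc hW.fromSpec H
  have : IsAffineHom H₁.hom := MorphismProperty.pullback_snd (P := @IsAffineHom) H'.hom hW.fromSpec inferInstance
  have : IsAffine H₁.left := isAffine_of_isAffineHom H₁.hom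
  have : LocallyOfFiniteType H₁.hom :=
    MorphismProperty.pullback_snd (P := @LocallyOfFiniteType) H'.hom hW.fromSpec inferInstance
  obtain ⟨A, _, _, e₁, he₁, hqi, hft, -⟩ :=
    DiagRig.exists_qi_model H₁ (DiagRig.splitLoc_bc (DiagRig.splitFpqc_of_multTypeFT H' hH') hW.fromSpec)
  let iW : H₀ ⟶ H₁ := (Over.pullback hW.fromSpec).map i
  have := DiagRig.isMonHom_bcMap hW.fromSpec i
  have : IsMonHom iW := this
  have : IsClosedImmersion iW.left :=
    MorphismProperty.of_isPullback (DiagRig.isPullback_bcMap hW.fromSpec i) hi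
  have : IsAffine H₀.left := isAffine_of_isAffineHom iW.left
  obtain ⟨B, instB, e₀, he₀⟩ := AffGrp.Bridge.exists_iso H₀
  refine ⟨R, hW.fromSpec, B, inferInstance, instB, e₀, he₀, inferInstance, by rw [hW.range_fromSpec]; exact hxW, ?_⟩
  have : IsMonHom e₀.hom := he₀
  have : IsMonHom e₁.hom := he₁
  let φ := e₀.hom ≫ iW ≫ e₁.inv
  have : IsMonHom φ := inferInstance
  obtain ⟨π, hπ⟩ := DiagRig.EtaleCharts.exists_bialgHom φ
  haveI : IsIso e₀.hom.left := (inferInstance : IsIso ((Over.forget _).map e₀.hom))
  haveI : IsIso e₁.inv.left := (inferInstance : IsIso ((Over.forget _).map e₁.inv))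
  have hci : IsClosedImmersion (Spec.map (CommRingCat.ofHom (π : A →+* B))) := by
    rw [hπ]
    exact inferInstanceAs (IsClosedImmersion (e₀.hom.left ≫ iW.left ≫ e₁.inv.left))
  have hsurj : Function.Surjective π := by
    have h := (IsClosedImmersion.isAffine_surjective_of_isAffine (f := Spec.map (CommRingCat.ofHom (π : A →+* B)))).2
    intro b
    obtain ⟨a, ha⟩ := h ((Scheme.ΓSpecIso B).inv.hom b)
    refine ⟨(Scheme.ΓSpecIso (CommRingCat.of A)).hom.hom a, ?_⟩
    have h2 := ConcreteCategory.congr_hom (Scheme.ΓSpecIso_naturality (CommRingCat.ofHom (π : A →+* B))) a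
    refine h2.symm.trans ?_
    show (Scheme.ΓSpecIso B).hom.hom ((Spec.map (CommRingCat.ofHom (π : A →+* B))).appTop.hom a) = b
    rw [ha]
    exact (Scheme.ΓSpecIso B).inv_hom_id_apply b
  have hfl : Flat ((Spec B).asOver (Spec (CommRingCat.of R))).hom := by
    have : Flat H₀.hom := MorphismProperty.pullback_snd (P := @Flat) H.hom hW.fromSpec inferInstance
    have h : Flat (e₀.hom.left ≫ H₀.hom) := inferInstance
    exact CategoryTheory.Over.w e₀.hom ▸ h
  have hlfp : LocallyOfFinitePresentation ((Spec B).asOver (Spec (CommRingCat.of R))).hom := by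
    have : LocallyOfFinitePresentation H₀.hom :=
      MorphismProperty.pullback_snd (P := @LocallyOfFinitePresentation) H.hom hW.fromSpec inferInstance
    have h : LocallyOfFinitePresentation (e₀.hom.left ≫ H₀.hom) := inferInstance
    exact CategoryTheory.Over.w e₀.hom ▸ h
  haveI : Module.Flat R B := RingHom.flat_algebraMap_iff.mp (HasRingHomProperty.Spec_iff.mp hfl)
  exact MultType.ClosedSub.isMultType_quot π hsurj (MultType.AdicLevel.isMultType_of_qi hqi) hft
    (RingHom.finitePresentation_algebraMap.mp (HasRingHomProperty.Spec_iff.mp hlfp))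

end Groth.Agent.S19598
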