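import Groth.Statements.S15607
import Groth.Agent.GrpScheme.CharKernel
import Groth.Agent.GrpScheme.Rosenlicht.Group
import Groth.Agent.DiagRig.TorusQuot
import Groth.Agent.Borel50.BaseChange
import Groth.Agent.GrpArtin.Descend
import Groth.Agent.S7782
import Groth.Agent.S19598
-- import your own Groth.Agent.* helpers here

set_option autoImplicit false
set_option maxHeartbeats 800000
universe u
open CategoryTheory MonoidalCategory CartesianMonoidalCategory MonObj GrpObj AlgebraicGeometry
open AlgGrp

namespace Groth.Agent.S15607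

open Groth.Agent.RedPts Limits

attribute [-instance] Groth.Agent.GrpArtin.grpObjBC

variable {k : Type u} [Field k]

lemma fg_int : AddGroup.FG ℤ := Module.Finite.iff_addGroup_fg.mp inferInstance

lemma d_pow {Y : Over (Spec (CommRingCat.of k))} (x : Y ⟶ Red.Gm (Spec (CommRingCat.of k))) (n : ℕ) (m : ℤ) :
    dFn (x ^ n) m = dFn x (n • m) := by
  induction n with
  | zero => rw [pow_zero, zero_smul, d_zero]; exact DiagRig.DSQuot.d_one m
  | succ n ih => rw [pow_succ, succ_nsmul, d_mul, d_add, ih]

lemma surjective_pow_Gm (n : ℕ) (hn : n ≠ 0) :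
    Surjective (((𝟙 (Red.Gm (Spec (CommRingCat.of k)))) ^ n).left) := by
  let φ : ℤ →+ ℤ := nsmulAddMonoidHom n
  have e : (𝟙 (Red.Gm (Spec (CommRingCat.of k)))) ^ n = Red.DSmap _ φ := d_ext fun m => by
    refine (d_pow _ n m).trans ?_
    conv_rhs => rw [← Category.id_comp (Red.DSmap _ φ)]
    exact (DSmap_fn _ φ m).symm
  rw [e]
  exact (DiagRig.DSHom.flat_surjective_DSmap φ fun a b h => by
    simpa [φ, hn] using h).2

lemma isReduced_Gm : IsReduced (Red.Gm (Spec (CommRingCat.of k))).left := by
  let g := Spec.map (CommRingCat.ofHom (algebraMap k (AlgebraicClosure k)))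
  obtain ⟨d, -⟩ := DiagRig.DSQuot.exists_dsBC g ℤ
  let ψ : (Fin 1 → ℤ) →+ ℤ := Pi.evalAddMonoidHom (fun _ => ℤ) 0
  have hψ : Function.Bijective ψ :=
    ⟨fun a b h => funext fun i => by rw [Subsingleton.elim i 0]; exact h, fun z => ⟨fun _ => z, rfl⟩⟩
  obtain ⟨hr, -⟩ := GrpScheme.CharKernel.ds_props (k := AlgebraicClosure k) 1
  have : IsIso (Red.DSmap (Spec (CommRingCat.of (AlgebraicClosure k))) ψ).left := DiagRig.DSHom.isIso_DSmap ψ hψ
  have : IsReduced (Red.Gm (Spec (CommRingCat.of (AlgebraicClosure k)))).left :=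
    isReduced_of_isOpenImmersion (Red.DSmap (Spec (CommRingCat.of (AlgebraicClosure k))) ψ).left
  have : IsIso d.hom.hom.hom.left :=
    ((Over.forget _).mapIso ((Grp.forget _).mapIso d)).isIso_hom
  have : IsReduced (Red.bc g (Red.Gm (Spec (CommRingCat.of k)))).left :=
    isReduced_of_isOpenImmersion d.hom.hom.hom.left
  have := Borel50.BaseChange.flat_g g
  have := Borel50.BaseChange.surjective_g g
  have : IsReduced (pullback (Red.Gm (Spec (CommRingCat.of k))).hom g) :=
    ‹IsReduced (Red.bc g (Red.Gm (Spec (CommRingCat.of k)))).left›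
  exact FlatMor.GeomDescent.isReduced_of_flat_surjective (pullback.fst (Red.Gm (Spec (CommRingCat.of k))).hom g)

section Generic

set_option backward.isDefEq.respectTransparency false

lemma isClosedImmersion_η (G : Over (Spec (CommRingCat.of k))) [GrpObj G] : IsClosedImmersion η[G].left := by
  have : IsSeparated G.hom := GrpScheme.IdComponent.isSeparated G
  have : IsClosedImmersion (η[G].left ≫ G.hom) := by
    rw [Over.w η[G]]; exact inferInstanceAs (IsClosedImmersion (𝟙 _))
  exact IsClosedImmersion.of_comp η[G].left G.hom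

/-- An isogeny onto a commutative group with surjective powers has a reverse homomorphism. -/
theorem exists_reverse {T H : Over (Spec (CommRingCat.of k))} [GrpObj T] [GrpObj H] [Smooth H.hom]
    [ConnectedSpace H.left] [LocallyOfFiniteType T.hom] [IsAffine T.left] [IsReduced T.left]
    (hT : ∀ {X : Over (Spec (CommRingCat.of k))} (a b : X ⟶ T), a * b = b * a)
    (hpow : ∀ n : ℕ, n ≠ 0 → Surjective ((𝟙 T) ^ n).left)
    (f : H ⟶ T) [IsMonHom f] [IsFinite f.left] [Surjective f.left] :
    ∃ g : T ⟶ H, IsMonHom g ∧ Flat g.left ∧ Surjective g.left ∧ LocallyOfFinitePresentation g.left := by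
  have : IsAffine H.left := isAffine_of_isAffineHom f.left
  have : Flat f.left := GrpScheme.HomFlat.flat_of_surjective f
  have : LocallyOfFinitePresentation f.left := GrpdLib.GrpOver.lfp_left f
  obtain ⟨N, gN, i, hi, hker⟩ := GrpScheme.AffineHom.exists_kernel f
  have := isClosedImmersion_η T
  have : IsClosedImmersion i.left := MorphismProperty.of_isPullback (GrpdLib.GrpOver.isPullback_left hker).flip
    ‹IsClosedImmersion η[T].left›
  have : Mono i.left := inferInstance
  have : Mono i := Over.mono_of_mono_left i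
  have hNfin : IsFinite (toUnit N).left := MorphismProperty.of_isPullback (GrpdLib.GrpOver.isPullback_left hker) ‹IsFinite f.left›
  have : IsFinite N.hom := by
    have : IsFinite (𝟙_ (Over (Spec (CommRingCat.of k)))).hom := inferInstanceAs (IsFinite (𝟙 _))
    rw [← Over.w (toUnit N)]; exact MorphismProperty.comp_mem _ _ _ hNfin inferInstance
  have := isClosedImmersion_η N
  have := isClosedImmersion_η H
  let δ : H ⊗ H ⟶ H := fst H H * snd H H * (fst H H)⁻¹ * (snd H H)⁻¹
  obtain ⟨w, hw⟩ := GrpdLib.GrpOver.kernel_factor hker δ (by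
    simp only [δ, MonObj.mul_comp, GrpObj.inv_comp]
    rw [hT (fst H H ≫ f) (snd H H ≫ f), mul_inv_cancel_right, mul_inv_cancel])
  have hw1 : w = 1 := by
    have : Smooth (H ⊗ H).hom := by
      show Smooth (pullback.fst H.hom H.hom ≫ H.hom)
      infer_instance
    have : IsReduced (H ⊗ H).left := GrpScheme.HomFlat.isReduced_of_smooth (H ⊗ H).hom
    have hirr : IrreducibleSpace H.left := AbVarLib.Basics.irreducibleSpace_of_connectedSpace H
    have := GrpScheme.Component.geometricallyIrreducible_of_irreducibleSpace H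
    have : IrreducibleSpace (H ⊗ H).left := by
      exact inferInstanceAs (IrreducibleSpace ↥(pullback H.hom H.hom))
    have : Finite N.left := by
      have := N.hom.finite_preimage Set.finite_univ
      simpa [Set.finite_univ_iff] using this
    have : DiscreteTopology N.left := by
      have := LocallyOfFiniteType.jacobsonSpace N.hom
      exact JacobsonSpace.discreteTopology (Set.toFinite _)
    have hsub := (isPreconnected_range w.left.continuous).subsingleton
    have hmem : w.left ((lift (1 : 𝟙_ _ ⟶ H) 1).left (IsLocalRing.closedPoint k)) =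
        η[N].left (IsLocalRing.closedPoint k) := by
      rw [← Scheme.Hom.comp_apply, ← Over.comp_left]
      rw [show lift (1 : 𝟙_ _ ⟶ H) 1 ≫ w = η[N] by
        rw [← cancel_mono i, Category.assoc, hw, IsMonHom.one_hom]
        simp [δ, MonObj.comp_mul, GrpObj.comp_inv, MonObj.one_eq_one]]
    have hr : Set.range w.left ⊆ Set.range η[N].left := by
      rintro _ ⟨x, rfl⟩
      exact ⟨_, (hsub ⟨_, hmem⟩ ⟨x, rfl⟩)⟩
    obtain ⟨l, hl⟩ := RedSub.exists_lift_closed η[N].left w.left hr
    let l' : H ⊗ H ⟶ 𝟙_ _ := Over.homMk l (by rw [← Over.w η[N], reassoc_of% hl, Over.w])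
    rw [show w = l' ≫ η[N] from Over.OverMorphism.ext hl.symm, toUnit_unique l' (toUnit _), Hom.one_def]
  have hcomm : IsCommMonObj H := by
    have hμ : μ[H] = fst H H * snd H H := MonObj.mul_eq_mul H
    have hd : fst H H * snd H H * (fst H H)⁻¹ * (snd H H)⁻¹ = 1 := by
      rw [show fst H H * snd H H * (fst H H)⁻¹ * (snd H H)⁻¹ = w ≫ i from hw.symm, hw1, MonObj.one_comp]
    rw [mul_inv_eq_one, mul_inv_eq_iff_eq_mul] at hd
    refine ⟨?_⟩
    rw [hμ, MonObj.comp_mul, braiding_hom_fst, braiding_hom_snd, hd]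
  have : IsCommMonObj N := by
    refine ⟨?_⟩
    rw [← cancel_mono i, Category.assoc, IsMonHom.mul_hom, ← Category.assoc,
      ← BraidedCategory.braiding_naturality, Category.assoc, IsCommMonObj.mul_comm]
  have : Subsingleton ↥(Spec (CommRingCat.of k)) := inferInstanceAs (Subsingleton (PrimeSpectrum k))
  let s₀ : ↥(Spec (CommRingCat.of k)) := IsLocalRing.closedPoint k
  let n := Scheme.Hom.finrank N.hom s₀
  have hn : n ≠ 0 := by
    have h1 := Scheme.Hom.one_le_finrank_map N.hom (η[N].left s₀)
    rw [Subsingleton.elim (N.hom (η[N].left s₀)) s₀] at h1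
    omega
  have hkill := S7782.result N n (fun s => by rw [Subsingleton.elim s s₀]) N (𝟙 N)
  have hpm : IsMonHom ((𝟙 H) ^ n) := WittLib.Basic.isMonHom_of_points _ fun X x y => by
    rw [MonObj.comp_pow, MonObj.comp_pow, MonObj.comp_pow, Category.comp_id, Category.comp_id,
      Category.comp_id, mul_pow]
  obtain ⟨g, hg, -⟩ := GrpdLib.GrpOver.existsUnique_desc f ((𝟙 H) ^ n) fun X a b hab => by
    obtain ⟨z, hz⟩ := GrpdLib.GrpOver.kernel_factor hker (a⁻¹ * b) (by
      rw [MonObj.mul_comp, GrpObj.inv_comp, hab, inv_mul_cancel])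
    have h1 : (a⁻¹ * b) ^ n = 1 := by
      rw [← hz, show (z ≫ i) ^ n = (z ≫ (𝟙 N) ^ n) ≫ i from by
        rw [Category.assoc, MonObj.pow_comp, Category.id_comp, MonObj.comp_pow], hkill, MonObj.comp_one,
        MonObj.one_comp]
    rw [MonObj.comp_pow, MonObj.comp_pow, Category.comp_id, Category.comp_id]
    rw [mul_pow, inv_pow, inv_mul_eq_one] at h1
    exact h1
  have hgm : IsMonHom g := by
    have hp : (@Surjective ⊓ @Flat ⊓ @LocallyOfFinitePresentation : MorphismProperty Scheme.{u}) f.left :=
      ⟨⟨inferInstance, inferInstance⟩, inferInstance⟩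
    have h : (@Surjective ⊓ @Flat ⊓ @LocallyOfFinitePresentation : MorphismProperty Scheme.{u}) (f ⊗ₘ f).left := by
      rw [MonoidalCategory.tensorHom_def, Over.comp_left]
      exact MorphismProperty.comp_mem _ _ _ (GrpScheme.Basic.whiskerRight_mem _ f _ hp)
        (GrpScheme.Basic.whiskerLeft_mem _ f _ hp)
    obtain ⟨⟨_, _⟩, _⟩ := h
    have : EffectiveEpi (f ⊗ₘ f).left := inferInstance
    exact
    { one_hom := by rw [← IsMonHom.one_hom (f := f), Category.assoc, hg, IsMonHom.one_hom]
      mul_hom := GrpdLib.GrpOver.cancel_left (f ⊗ₘ f) (by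
        rw [← Category.assoc, ← IsMonHom.mul_hom (f := f), Category.assoc, hg, IsMonHom.mul_hom,
          tensorHom_comp_tensorHom_assoc, hg]) }
  have hgf : g ≫ f = (𝟙 T) ^ n := GrpdLib.GrpOver.cancel_left f (by
    rw [← Category.assoc, hg, MonObj.pow_comp, Category.id_comp, MonObj.comp_pow, Category.comp_id])
  have hgs : Surjective g.left := by
    have : Surjective (g.left ≫ f.left) := by rw [← Over.comp_left, hgf]; exact hpow n hn
    have : QuasiCompact (g.left ≫ H.hom) := by rw [Over.w g]; infer_instance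
    have : IsSeparated H.hom := GrpScheme.IdComponent.isSeparated H
    have : QuasiCompact g.left := QuasiCompact.of_comp g.left H.hom
    have : IsIntegral H.left := by
      have : IrreducibleSpace H.left := AbVarLib.Basics.irreducibleSpace_of_connectedSpace H
      have : IsReduced H.left := GrpScheme.HomFlat.isReduced_of_smooth H.hom
      exact isIntegral_of_irreducibleSpace_of_isReduced _
    obtain ⟨x, hx⟩ := (inferInstance : Surjective (g.left ≫ f.left)).surj (f.left (genericPoint H.left))
    have hspec : genericPoint H.left ⤳ g.left x := genericPoint_specializes _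
    rw [Scheme.Hom.comp_apply] at hx
    have hd : DiscreteTopology ↥(f.left ⁻¹' {f.left (genericPoint H.left)}) :=
      isDiscrete_iff_discreteTopology.1 (f.left.isDiscrete_preimage_singleton _)
    have hs2 : (⟨genericPoint H.left, rfl⟩ : ↥(f.left ⁻¹' {f.left (genericPoint H.left)})) ⤳ ⟨g.left x, hx⟩ :=
      Topology.IsInducing.subtypeVal.specializes_iff.1 hspec
    have heq : g.left x = genericPoint H.left := (congrArg Subtype.val hs2.eq).symm
    have hcl := GrpScheme.ClosedImage.isClosed_range g
    refine ⟨fun y => hcl.closure_subset_iff.2 (Set.singleton_subset_iff.2 ⟨x, heq⟩) ?_⟩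
    rw [genericPoint_closure]
    trivial
  have : IsReduced H.left := GrpScheme.HomFlat.isReduced_of_smooth H.hom
  exact ⟨g, hgm, GrpScheme.HomFlat.flat_of_surjective g, hgs, GrpdLib.GrpOver.lfp_left g⟩

/-- The relation of a faithfully flat homomorphism with its kernel. -/
lemma exists_rel {T H : Over (Spec (CommRingCat.of k))} [GrpObj T] [GrpObj H] [LocallyOfFiniteType T.hom]
    (g : T ⟶ H) [IsMonHom g] [Flat g.left] [Surjective g.left] [LocallyOfFinitePresentation g.left] :
    ∃ (M : Over (Spec (CommRingCat.of k))) (_ : GrpObj M) (iM : M ⟶ T) (_ : IsMonHom iM), IsClosedImmersion iM.left ∧ Mono iM ∧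
      Flat M.hom ∧ LocallyOfFinitePresentation M.hom ∧ DiagRig.DSQuot.Rel iM g := by
  obtain ⟨M, gM, iM, hiM, hkerM⟩ := GrpScheme.AffineHom.exists_kernel g
  have := isClosedImmersion_η H
  have hc : IsClosedImmersion iM.left := MorphismProperty.of_isPullback (GrpdLib.GrpOver.isPullback_left hkerM).flip
    ‹IsClosedImmersion η[H].left›
  have : Mono iM.left := inferInstance
  have : Mono iM := Over.mono_of_mono_left iM
  have : LocallyOfFiniteType M.hom := by rw [← Over.w iM]; infer_instance
  refine ⟨M, gM, iM, hiM, hc, inferInstance, inferInstance, inferInstance,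
    ⟨inferInstance, inferInstance, inferInstance⟩, fun X a b => ⟨fun hab => ?_, ?_⟩⟩
  · obtain ⟨z, hz⟩ := GrpdLib.GrpOver.kernel_factor hkerM (a⁻¹ * b) (by
      rw [MonObj.mul_comp, GrpObj.inv_comp, hab, inv_mul_cancel])
    exact ⟨z, by rw [hz, mul_inv_cancel_left]⟩
  · rintro ⟨z, rfl⟩
    rw [MonObj.mul_comp, GrpdLib.GrpOver.comp_kernel_comp hkerM z, _root_.mul_one]

end Generic

lemma eq_one_of_id {H T : Over (Spec (CommRingCat.of k))} [GrpObj T] (f : H ⟶ T) [EffectiveEpi f.left]
    (h : f = 1) : 𝟙 T = 1 :=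
  GrpdLib.GrpOver.cancel_left f (by rw [Category.comp_id, MonObj.comp_one, h])

/-- A group split by a subgroup of `ℤ` and surjecting to `Gm` is `Gm`. -/
lemma nonempty_iso_of_split {H : Over (Spec (CommRingCat.of k))} [GrpObj H] [LocallyOfFiniteType H.hom]
    (K : AddSubgroup ℤ) (E' : Grp.mk H ≅ Grp.mk (Red.DS (Spec (CommRingCat.of k)) K))
    (f : H ⟶ Red.Gm (Spec (CommRingCat.of k))) [IsMonHom f] [Surjective f.left]
    [LocallyOfFiniteType (Red.Gm (Spec (CommRingCat.of k))).hom] [IsReduced (Red.Gm (Spec (CommRingCat.of k))).left] :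
    Nonempty (Grp.mk H ≅ Grp.mk (Red.Gm (Spec (CommRingCat.of k)))) := by
  obtain ⟨d₀, hd₀⟩ := Int.subgroup_cyclic K
  rw [← AddSubgroup.zmultiples_eq_closure] at hd₀
  have hd0 : d₀ ≠ 0 := by
    rintro rfl
    have : Subsingleton K := by
      rw [hd₀, AddSubgroup.zmultiples_zero_eq_bot]; infer_instance
    have hone : E'.hom.hom.hom = 1 := d_ext fun m => by
      rw [Subsingleton.elim m 0, d_zero, d_zero]
    have hid : 𝟙 H = 1 := by
      rw [← DiagRig.grpIso_hom_inv E', hone]
      exact MonObj.one_comp _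
    have hf1 : f = (1 : H ⟶ H) ≫ f := by rw [← hid, Category.id_comp]
    have : Flat f.left := GrpScheme.HomFlat.flat_of_surjective f
    have : LocallyOfFinitePresentation f.left := GrpdLib.GrpOver.lfp_left f
    have h1 := congrArg (fun z => dFn z (1 : ℤ)) (eq_one_of_id f (hf1.trans (MonObj.one_comp f)))
    exact one_ne_zero (DiagRig.DSHom.dFn_id_eq_one (1 : ℤ) (h1.trans (DiagRig.DSQuot.d_one 1)))
  let c : ℤ →+ K := zmultiplesHom K ⟨d₀, hd₀ ▸ AddSubgroup.mem_zmultiples d₀⟩
  have hc : Function.Bijective c := by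
    refine ⟨(injective_iff_map_eq_zero c).2 fun m hm => ?_, fun x => ?_⟩
    · have := congrArg Subtype.val hm
      simpa [c, hd0] using this
    · have hx : (x : ℤ) ∈ AddSubgroup.zmultiples d₀ := by rw [← hd₀]; exact x.2
      obtain ⟨m, hm⟩ := AddSubgroup.mem_zmultiples_iff.1 hx
      exact ⟨m, Subtype.ext (by simpa [c, zmultiplesHom_apply, smul_eq_mul] using hm)⟩
  let φ := Red.DSmap (Spec (CommRingCat.of k)) c
  have : IsIso φ := by
    have : IsIso ((Over.forget (Spec (CommRingCat.of k))).map φ) := DiagRig.DSHom.isIso_DSmap c hc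
    exact isIso_of_reflects_iso φ (Over.forget _)
  have : IsMonHom φ := DiagRig.DSQuot.isMonHom_DSmap c
  have : IsMonHom (asIso φ).hom := ‹IsMonHom φ›
  exact ⟨E' ≪≫ Grp.mkIso' (asIso φ)⟩

/-- The split form of a quotient over a field. -/
lemma nonempty_split {H : Over (Spec (CommRingCat.of k))} [GrpObj H] {V : (Spec (CommRingCat.of k)).Opens}
    (hV : V = ⊤) {K : AddSubgroup ℤ} (E : Grp.mk (Red.bc V.ι H) ≅ Grp.mk (Red.DS V K)) :
    Nonempty (Grp.mk H ≅ Grp.mk (Red.DS (Spec (CommRingCat.of k)) K)) := by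
  subst hV
  obtain ⟨e₁⟩ := DiagRig.TorusQuot.exists_bcId H
  let a : Spec (CommRingCat.of k) ⟶ ((⊤ : (Spec (CommRingCat.of k)).Opens) : Scheme.{u}) :=
    (Scheme.topIso _).inv
  obtain ⟨d, -⟩ := DiagRig.DSQuot.exists_dsBC a K
  exact ⟨e₁.symm ≪≫ (DiagRig.bcGrpIso (⊤ : (Spec (CommRingCat.of k)).Opens).ι a (𝟙 _) (Scheme.topIso _).inv_hom_id H).symm ≪≫
    DiagRig.bcGrpMap a E ≪≫ d⟩

/-- Multiplicative case. Let k be a field, H a smooth connected k-group scheme, and f a homomorphism
from H to the multiplicative group over k which is finite and surjective (an isogeny). Then H is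
isomorphic, as a k-group scheme, to the multiplicative group: a smooth connected k-group isogenous
to the multiplicative group over k is the split one-dimensional torus. -/
theorem result (k : Type u) [Field k]
    (H : Over (Spec (CommRingCat.of k))) [GrpObj H] [Smooth H.hom] [ConnectedSpace ↥H.left]
    (f : H ⟶ Red.Gm (Spec (CommRingCat.of k))) [IsMonHom f] [IsFinite f.left] [Surjective f.left] :
    Nonempty (Grp.mk H ≅ Grp.mk (Red.Gm (Spec (CommRingCat.of k)))) := by
  have hMT : SGA3x.IsMultTypeFT (Red.Gm (Spec (CommRingCat.of k))) := DiagRig.DSQuot.isMultTypeFT_DS _ ℤ fg_int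
  have := DiagRig.multType_isAffineHom _ hMT
  have : IsAffine (Red.Gm (Spec (CommRingCat.of k))).left :=
    isAffine_of_isAffineHom (Red.Gm (Spec (CommRingCat.of k))).hom
  have := DiagRig.multType_locallyOfFiniteType _ hMT
  have : IsReduced (Red.Gm (Spec (CommRingCat.of k))).left := isReduced_Gm
  obtain ⟨g, hgm, hgf, hgs, hglfp⟩ := exists_reverse
    (fun a b => d_ext fun m => ((d_mul a b m).trans (mul_comm _ _)).trans (d_mul b a m).symm)
    surjective_pow_Gm f
  obtain ⟨M, gM, iM, hiM, hiMc, hiMm, hMf, hMl, hrel⟩ := exists_rel g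
  have hMMT : SGA3x.IsMultTypeFT M := S19598.result M _ hMT iM hiMc hMf hMl
  have : Subsingleton ↥(Spec (CommRingCat.of k)) := inferInstanceAs (Subsingleton (PrimeSpectrum k))
  obtain ⟨V, -, hsV, K, ⟨E⟩⟩ := DiagRig.DSQuot.exists_split_quot hMMT fg_int iM g hrel (IsLocalRing.closedPoint k)
  have hV : V = ⊤ := eq_top_iff.2 fun x _ =>
    Subsingleton.elim (α := PrimeSpectrum k) (IsLocalRing.closedPoint k) x ▸ hsV
  obtain ⟨E'⟩ := nonempty_split hV E
  have : LocallyOfFiniteType H.hom := inferInstance
  exact nonempty_iso_of_split K E' f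

end Groth.Agent.S15607
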