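import Groth.Statements.S18072
import Groth.Agent.Solv19.Word
import Groth.Agent.GrpScheme.TorsionDeg
import Groth.Agent.MaxTorus.Image
import Groth.Agent.S15607
import Groth.Agent.GrpScheme.RedIdComponent
import Groth.Agent.GrpArtin.Descend
import Groth.Agent.Borel50.BaseChange
-- import your own Groth.Agent.* helpers here

set_option autoImplicit false
set_option backward.isDefEq.respectTransparency false
universe u
open CategoryTheory MonoidalCategory CartesianMonoidalCategory MonObj GrpObj AlgebraicGeometry CategoryTheory.Limits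
open AlgGrp

namespace Groth.Agent.S18072

open GrpScheme.CharSplit GrpScheme.CharKernel Groth.Agent.RedPts
open scoped commutatorElement
attribute [local instance] Borel50.Lin.ptTop
attribute [-instance] Groth.Agent.GrpArtin.grpObjBC

section Word

variable {k : Type u} [Field k] (G : Over (Spec (CommRingCat.of k))) [GrpObj G]

/-- The iterated commutator word of the lower central series. -/
noncomputable def lword : ℕ → Σ T : Over (Spec (CommRingCat.of k)), T ⟶ G
  | 0 => ⟨G, 𝟙 G⟩
  | n + 1 => ⟨(lword n).1 ⊗ G, ⁅fst (lword n).1 G ≫ (lword n).2, snd (lword n).1 G⁆⟩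

lemma conj_lword (n : ℕ) {T : Over (Spec (CommRingCat.of k))} :
    ∀ (φ : T ⟶ (lword G n).1) (g : T ⟶ G), ∃ ψ, ψ ≫ (lword G n).2 = g * (φ ≫ (lword G n).2) * g⁻¹ := by
  induction n with
  | zero =>
    intro φ g
    change T ⟶ G at φ
    exact ⟨(g * φ * g⁻¹ : T ⟶ G), by simp [lword]⟩
  | succ n ih =>
    intro φ g
    obtain ⟨ψ₁, h₁⟩ := ih (φ ≫ fst _ _) g
    refine ⟨lift ψ₁ (g * (φ ≫ snd _ _) * g⁻¹), ?_⟩
    simp only [lword, Solv19.comp_commutator, lift_fst_assoc, lift_snd, h₁, Category.assoc]
    rw [← conjugate_commutatorElement]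

lemma lcs_eq_closure (n : ℕ) (T : Over (Spec (CommRingCat.of k))) :
    Subgroup.lowerCentralSeries (G := (T ⟶ G)) ⊤ n = Subgroup.closure (Set.range fun φ : T ⟶ (lword G n).1 => φ ≫ (lword G n).2) := by
  induction n with
  | zero =>
    rw [Subgroup.lowerCentralSeries_zero, eq_comm, eq_top_iff]
    intro x _
    exact Subgroup.subset_closure ⟨x, by simp [lword]⟩
  | succ n ih =>
    have hconj : ∀ a ∈ Set.range (fun φ : T ⟶ (lword G n).1 => φ ≫ (lword G n).2), ∀ g,
        g * a * g⁻¹ ∈ Set.range (fun φ : T ⟶ (lword G n).1 => φ ≫ (lword G n).2) := by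
      rintro _ ⟨φ, rfl⟩ g
      obtain ⟨ψ, hψ⟩ := conj_lword G n φ g
      exact ⟨ψ, hψ⟩
    rw [Subgroup.lowerCentralSeries_succ, ih]
    rw [show (⊤ : Subgroup (T ⟶ G)) = Subgroup.closure Set.univ from Subgroup.closure_univ.symm,
      S5366.commutator_closure _ _ hconj (fun _ _ _ => Set.mem_univ _)]
    congr 1
    ext x
    constructor
    · rintro ⟨_, ⟨φ, rfl⟩, b, -, rfl⟩
      exact ⟨lift φ b, by simp [lword, Solv19.comp_commutator]⟩
    · rintro ⟨φ, rfl⟩
      exact ⟨_, ⟨φ ≫ fst _ _, rfl⟩, φ ≫ snd _ _, trivial, by simp [lword, Solv19.comp_commutator]⟩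

lemma nilpotent_iff : AGF.IsNilpotentGrp G ↔ ∃ n, (lword G n).2 = 1 := by
  constructor
  · rintro ⟨n, hn⟩
    refine ⟨n, ?_⟩
    have h := Subgroup.lowerCentralSeries_eq_bot_iff_upperCentralSeries_eq_top.mpr (hn (lword G n).1)
    rw [lcs_eq_closure, Subgroup.closure_eq_bot_iff] at h
    exact h ⟨𝟙 _, Category.id_comp _⟩
  · rintro ⟨n, hn⟩
    refine ⟨n, fun X => Subgroup.lowerCentralSeries_eq_bot_iff_upperCentralSeries_eq_top.mp ?_⟩
    rw [lcs_eq_closure, Subgroup.closure_eq_bot_iff]
    rintro _ ⟨φ, rfl⟩
    show φ ≫ (lword G n).2 = 1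
    rw [hn, MonObj.comp_one]

lemma solvable_iff : Red.IsSolvableGrp G ↔ ∃ n, (Solv19.word G n).2 = 1 := by
  constructor
  · rintro ⟨n, hn⟩
    exact ⟨n, (Category.id_comp _).symm.trans ((Solv19.derivedSeries_eq_bot_iff G n _).mp (hn _) (𝟙 _))⟩
  · rintro ⟨n, hn⟩
    exact ⟨n, fun X => (Solv19.derivedSeries_eq_bot_iff G n X).mpr fun φ => by rw [hn, MonObj.comp_one]⟩

end Word

section Isogeny

variable {k : Type u} [Field k]

/-- Smooth connected sources, with a point over the unit. -/
structure Good (X : Over (Spec (CommRingCat.of k))) : Prop where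
  smooth : Smooth X.hom
  irred : IrreducibleSpace X.left
  qc : QuasiCompact X.hom

variable {G H : Over (Spec (CommRingCat.of k))} [GrpObj G] [GrpObj H] (f : G ⟶ H) [IsMonHom f]

lemma good_tensor {X Y : Over (Spec (CommRingCat.of k))} (hX : Good X) (hY : Good Y) [GeometricallyIrreducible Y.hom] :
    Good (X ⊗ Y) := by
  obtain ⟨_, _, _⟩ := hX
  obtain ⟨_, _, _⟩ := hY
  exact ⟨inferInstanceAs (Smooth (pullback.fst X.hom Y.hom ≫ X.hom)),
    inferInstanceAs (IrreducibleSpace ↥(pullback X.hom Y.hom)),
    inferInstanceAs (QuasiCompact (pullback.fst X.hom Y.hom ≫ X.hom))⟩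

/-- A map to a group with finite kernel which dies on a connected source with a point over the unit is trivial. -/
lemma eq_one_of_comp_eq_one [IsFinite f.left] {X : Over (Spec (CommRingCat.of k))} (hX : Good X)
    (o : 𝟙_ _ ⟶ X) (w : X ⟶ G) (ho : o ≫ w = 1) (h : w ≫ f = 1) : w = 1 := by
  obtain ⟨_, _, _⟩ := hX
  have : IsReduced X.left := GrpScheme.HomFlat.isReduced_of_smooth X.hom
  obtain ⟨N, gN, i, hi, hker⟩ := GrpScheme.AffineHom.exists_kernel f
  have : Mono i := GrpdLib.GrpOver.kernel_mono hker
  obtain ⟨v, hv⟩ := GrpdLib.GrpOver.kernel_factor hker w h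
  have hNfin : IsFinite (toUnit N).left := MorphismProperty.of_isPullback (GrpdLib.GrpOver.isPullback_left hker) ‹IsFinite f.left›
  have : IsFinite N.hom := by
    have : IsFinite (𝟙_ (Over (Spec (CommRingCat.of k)))).hom := inferInstanceAs (IsFinite (𝟙 _))
    rw [← Over.w (toUnit N)]; exact MorphismProperty.comp_mem _ _ _ hNfin inferInstance
  have := S15607.isClosedImmersion_η N
  have : Subsingleton ↥(Spec (CommRingCat.of k)) := inferInstanceAs (Subsingleton (PrimeSpectrum k))
  have : Finite N.left := by
    have := N.hom.finite_preimage Set.finite_univ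
    simpa [Set.finite_univ_iff] using this
  have : DiscreteTopology N.left := by
    have := LocallyOfFiniteType.jacobsonSpace N.hom
    exact JacobsonSpace.discreteTopology (Set.toFinite _)
  have hsub := (isPreconnected_range v.left.continuous).subsingleton
  have hov : o ≫ v = η[N] := by
    rw [← cancel_mono i, Category.assoc, hv, ho, IsMonHom.one_hom, MonObj.one_eq_one]
  have hmem : v.left (o.left (IsLocalRing.closedPoint k)) = η[N].left (IsLocalRing.closedPoint k) := by
    rw [← Scheme.Hom.comp_apply, ← Over.comp_left, hov]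
  have hr : Set.range v.left ⊆ Set.range η[N].left := by
    rintro _ ⟨x, rfl⟩
    exact ⟨_, (hsub ⟨_, hmem⟩ ⟨x, rfl⟩)⟩
  obtain ⟨l, hl⟩ := RedSub.exists_lift_closed η[N].left v.left hr
  let l' : X ⟶ 𝟙_ _ := Over.homMk l (by rw [← Over.w η[N], reassoc_of% hl, Over.w])
  rw [← hv, show v = l' ≫ η[N] from Over.OverMorphism.ext hl.symm, toUnit_unique l' (toUnit _), Category.assoc,
    IsMonHom.one_hom, ← Hom.one_def]

variable [Smooth G.hom] [QuasiCompact G.hom] [ConnectedSpace G.left]

lemma good_self : Good G ∧ GeometricallyIrreducible G.hom := by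
  have : IrreducibleSpace G.left := AbVarLib.Basics.irreducibleSpace_of_connectedSpace G
  exact ⟨⟨inferInstance, inferInstance, inferInstance⟩, GrpScheme.Component.geometricallyIrreducible_of_irreducibleSpace G⟩

lemma word_facts (n : ℕ) : Good (Solv19.word G n).1 ∧ GeometricallyIrreducible (Solv19.word G n).1.hom ∧
    ∃ o : 𝟙_ _ ⟶ (Solv19.word G n).1, o ≫ (Solv19.word G n).2 = 1 := by
  induction n with
  | zero => exact ⟨good_self (G := G) |>.1, good_self (G := G) |>.2, (1 : 𝟙_ _ ⟶ G), MonObj.one_comp (f := 𝟙 G)⟩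
  | succ n ih =>
    obtain ⟨hg, hgi, o, ho⟩ := ih
    refine ⟨good_tensor hg hg, ?_, lift o o, ?_⟩
    · have := hg.smooth
      exact GeometricallyIrreducible.comp (pullback.fst (Solv19.word G n).1.hom (Solv19.word G n).1.hom) (Solv19.word G n).1.hom
    · simp only [Solv19.word, Solv19.comp_commutator, lift_fst_assoc, lift_snd_assoc, ho, commutatorElement_self]

lemma lword_facts (n : ℕ) : Good (lword G n).1 ∧ GeometricallyIrreducible (lword G n).1.hom ∧
    ∃ o : 𝟙_ _ ⟶ (lword G n).1, o ≫ (lword G n).2 = 1 := by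
  obtain ⟨hG, hGi⟩ := good_self (G := G)
  induction n with
  | zero => exact ⟨hG, hGi, (1 : 𝟙_ _ ⟶ G), MonObj.one_comp (f := 𝟙 G)⟩
  | succ n ih =>
    obtain ⟨hg, hgi, o, ho⟩ := ih
    refine ⟨good_tensor hg hG, ?_, lift o 1, ?_⟩
    · have := hg.smooth
      exact GeometricallyIrreducible.comp (pullback.fst (lword G n).1.hom G.hom) (lword G n).1.hom
    · simp only [lword, Solv19.comp_commutator, lift_fst_assoc, lift_snd, ho, commutatorElement_self]

/-- Words are compatible with homomorphisms. -/
lemma word_map (n : ℕ) : ∃ F : (Solv19.word G n).1 ⟶ (Solv19.word H n).1,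
    F ≫ (Solv19.word H n).2 = (Solv19.word G n).2 ≫ f ∧
    ((@Surjective ⊓ @Flat ⊓ @LocallyOfFinitePresentation : MorphismProperty Scheme.{u}) f.left →
      (@Surjective ⊓ @Flat ⊓ @LocallyOfFinitePresentation : MorphismProperty Scheme.{u}) F.left) := by
  induction n with
  | zero => exact ⟨f, (Category.comp_id f).trans (Category.id_comp f).symm, id⟩
  | succ n ih =>
    obtain ⟨F, hF, hp⟩ := ih
    refine ⟨F ⊗ₘ F, ?_, fun h => ?_⟩
    · simp only [Solv19.word, Solv19.comp_commutator, tensorHom_fst_assoc, tensorHom_snd_assoc, hF]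
      simp only [commutatorElement_def, MonObj.mul_comp, GrpObj.inv_comp, Category.assoc]
    · rw [MonoidalCategory.tensorHom_def, Over.comp_left]
      exact MorphismProperty.comp_mem _ _ _ (GrpScheme.Basic.whiskerRight_mem _ F _ (hp h))
        (GrpScheme.Basic.whiskerLeft_mem _ F _ (hp h))

lemma lword_map (n : ℕ) : ∃ F : (lword G n).1 ⟶ (lword H n).1, F ≫ (lword H n).2 = (lword G n).2 ≫ f ∧
    ((@Surjective ⊓ @Flat ⊓ @LocallyOfFinitePresentation : MorphismProperty Scheme.{u}) f.left →
      (@Surjective ⊓ @Flat ⊓ @LocallyOfFinitePresentation : MorphismProperty Scheme.{u}) F.left) := by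
  induction n with
  | zero => exact ⟨f, (Category.comp_id f).trans (Category.id_comp f).symm, id⟩
  | succ n ih =>
    obtain ⟨F, hF, hp⟩ := ih
    refine ⟨F ⊗ₘ f, ?_, fun h => ?_⟩
    · simp only [lword, Solv19.comp_commutator, tensorHom_fst_assoc, tensorHom_snd, hF]
      simp only [commutatorElement_def, MonObj.mul_comp, GrpObj.inv_comp, Category.assoc]
    · rw [MonoidalCategory.tensorHom_def, Over.comp_left]
      exact MorphismProperty.comp_mem _ _ _ (GrpScheme.Basic.whiskerRight_mem _ F _ (hp h))
        (GrpScheme.Basic.whiskerLeft_mem _ f _ h)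

variable [Smooth H.hom] [ConnectedSpace H.left] [Surjective f.left] [IsFinite f.left]

lemma fppf_f : (@Surjective ⊓ @Flat ⊓ @LocallyOfFinitePresentation : MorphismProperty Scheme.{u}) f.left := by
  have : IsReduced H.left := GrpScheme.HomFlat.isReduced_of_smooth H.hom
  exact ⟨⟨inferInstance, GrpScheme.HomFlat.flat_of_surjective f⟩, GrpdLib.GrpOver.lfp_left f⟩

include f in
lemma word_iff (n : ℕ) : (Solv19.word G n).2 = 1 ↔ (Solv19.word H n).2 = 1 := by
  obtain ⟨F, hF, hp⟩ := word_map f n
  constructor
  · intro h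
    obtain ⟨⟨_, _⟩, _⟩ := hp (fppf_f f)
    have : EffectiveEpi F.left := inferInstance
    exact GrpdLib.GrpOver.cancel_left F (by rw [hF, h, MonObj.one_comp, MonObj.comp_one])
  · intro h
    obtain ⟨hg, -, o, ho⟩ := word_facts (G := G) n
    exact eq_one_of_comp_eq_one f hg o _ ho (by rw [← hF, h, MonObj.comp_one])

include f in
lemma lword_iff (n : ℕ) : (lword G n).2 = 1 ↔ (lword H n).2 = 1 := by
  obtain ⟨F, hF, hp⟩ := lword_map f n
  constructor
  · intro h
    obtain ⟨⟨_, _⟩, _⟩ := hp (fppf_f f)
    have : EffectiveEpi F.left := inferInstance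
    exact GrpdLib.GrpOver.cancel_left F (by rw [hF, h, MonObj.one_comp, MonObj.comp_one])
  · intro h
    obtain ⟨hg, -, o, ho⟩ := lword_facts (G := G) n
    exact eq_one_of_comp_eq_one f hg o _ ho (by rw [← hF, h, MonObj.comp_one])

end Isogeny

lemma comm_iff {k : Type u} [Field k] (G : Over (Spec (CommRingCat.of k))) [GrpObj G] :
    IsCommMonObj G ↔ (Solv19.word G 1).2 = 1 := by
  rw [isCommMonObj_iff_isMulCommutative]
  constructor
  · intro h
    exact commutatorElement_eq_one_iff_mul_comm.mpr ((h _).is_comm.comm _ _)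
  · intro h X
    refine ⟨⟨fun a b => commutatorElement_eq_one_iff_mul_comm.mp ?_⟩⟩
    have e := congrArg (lift a b ≫ ·) h
    simp only [Solv19.word, Solv19.comp_commutator, MonObj.comp_one, lift_fst_assoc, lift_snd_assoc] at e
    rw [Category.comp_id, Category.comp_id] at e
    exact e

section Torus

variable {k : Type u} [Field k] [IsAlgClosed k]

/-- Powers of a torus are surjective, and tori are commutative. -/
lemma torus_pow {T : Over (Spec (CommRingCat.of k))} [GrpObj T] (hT : Red.IsTorus T) :
    IsCommMonObj T ∧ ∀ n : ℕ, n ≠ 0 → Surjective ((𝟙 T) ^ n).left := by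
  obtain ⟨haff, hlft, hint, hsm, hcomm, hd⟩ := Borel50.Lin.TorusSch.torus_facts hT
  have : QuasiCompact T.hom := inferInstance
  have : IsCommMonObj T := by
    have : IsReduced (T ⊗ T).left := by
      have := GrpScheme.Rosenlicht.isIntegral_tensor T T
      infer_instance
    have : LocallyOfFiniteType (T ⊗ T).hom := by
      show LocallyOfFiniteType (pullback.fst T.hom T.hom ≫ T.hom)
      infer_instance
    refine ⟨?_⟩
    refine ext_of_dense (denseSet_univ (G := T ⊗ T)) fun x _ => ?_
    rw [MonObj.mul_eq_mul, MonObj.comp_mul, braiding_hom_fst, braiding_hom_snd, MonObj.comp_mul,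
      MonObj.comp_mul]
    exact hcomm _ _
  have hD : DenseSet (Tor T) := by
    intro U hU
    obtain ⟨x, hx⟩ := exists_pt_mem U.2.isLocallyClosed hU
    have ho : IsOpen {y : Pt T | cpt y ∈ U} := isOpen_induced U.2
    obtain ⟨y, hy, hy'⟩ := mem_closure_iff.1 (hd.ge (Set.mem_univ x)) _ ho hx
    exact ⟨y, hy', hy⟩
  obtain ⟨r, T', gT', C, -, φ, hφ, -, -, -, hT'l, hT'q, -, hiso⟩ := exists_basis_chars (G := T)
  have : IsIso φ := hiso (span_units hD) haff
  have : IsCommMonObj T' := (isCommMonObj_iff_isMulCommutative T').2 fun X => ⟨⟨fun x y =>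
    C.θ_ext fun m => by rw [C.θ_mul, C.θ_mul, _root_.mul_comm]⟩⟩
  refine ⟨‹_›, fun n hn => ?_⟩
  have : NeZero n := ⟨hn⟩
  have := GrpScheme.TorsionDeg.surjective_pow C n
  have e : 𝟙 T ^ n = φ ≫ (𝟙 T' ^ n) ≫ inv φ := by
    rw [← cancel_mono φ, MonObj.pow_comp, Category.id_comp, Category.assoc, Category.assoc, IsIso.inv_hom_id,
      Category.comp_id, MonObj.comp_pow, Category.comp_id]
  rw [e, Over.comp_left, Over.comp_left]
  have : IsIso φ.left := inferInstanceAs (IsIso ((Over.forget _).map φ))
  have : IsIso (inv φ).left := inferInstanceAs (IsIso ((Over.forget _).map (inv φ)))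
  infer_instance

lemma isTrivialGrp_of_subsingleton {T : Over (Spec (CommRingCat.of k))} [GrpObj T] [IsReduced T.left]
    [Subsingleton T.left] : Red.IsTrivialGrp T := by
  have hη := S15607.isClosedImmersion_η T
  have hs : Surjective η[T].left := ⟨fun x => ⟨IsLocalRing.closedPoint k, Subsingleton.elim _ _⟩⟩
  have : IsIso η[T].left := isIso_of_isClosedImmersion_of_surjective η[T].left
  have : IsIso (η[T].left ≫ T.hom) := by rw [Over.w η[T]]; exact inferInstanceAs (IsIso (𝟙 _))
  exact IsIso.of_isIso_comp_left η[T].left T.hom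

lemma subsingleton_of_trivial {T : Over (Spec (CommRingCat.of k))} [GrpObj T] (h : Red.IsTrivialGrp T) :
    Subsingleton T.left := by
  have : IsIso T.hom := h
  exact T.hom.homeomorph.injective.subsingleton (β := PrimeSpectrum k)

variable {G H : Over (Spec (CommRingCat.of k))} [GrpObj G] [GrpObj H] [Smooth G.hom] [QuasiCompact G.hom]
  [Smooth H.hom] (f : G ⟶ H) [IsMonHom f] [Surjective f.left] [IsFinite f.left]

include f in
/-- No subtori is invariant under isogeny. -/
theorem hasNoSubtorus_iff : Red.HasNoSubtorus k G ↔ Red.HasNoSubtorus k H := by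
  constructor
  · intro hG R _ j _ _ hR
    obtain ⟨hcomm, hpow⟩ := torus_pow hR
    obtain ⟨haff, hlft, hint, hsm, -, -⟩ := Borel50.Lin.TorusSch.torus_facts hR
    have : QuasiCompact R.hom := inferInstance
    have : QuasiCompact j.left := GrpdLib.GrpOver.quasiCompact_left j
    have : IsClosedImmersion j.left := GrpArtin.Descend.isClosedImmersion_of_mono j
    let P := pullback j f
    let a : P ⟶ R := pullback.fst j f
    let b : P ⟶ G := pullback.snd j f
    have hP : IsPullback a b j f := IsPullback.of_hasPullback j f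
    have : IsClosedImmersion b.left := MorphismProperty.of_isPullback (GrpdLib.GrpOver.isPullback_left hP) ‹IsClosedImmersion j.left›
    have : Mono b := Over.mono_of_mono_left b
    obtain ⟨gP, hb⟩ := GrpScheme.SubgroupObj.exists_grpObj b
      ⟨hP.lift ((a ⊗ₘ a) ≫ μ[R]) ((b ⊗ₘ b) ≫ μ[G]) (by
        rw [Category.assoc, IsMonHom.mul_hom, Category.assoc, IsMonHom.mul_hom, tensorHom_comp_tensorHom_assoc,
          tensorHom_comp_tensorHom_assoc, hP.w]), hP.lift_snd _ _ _⟩
      ⟨hP.lift η[R] η[G] (by rw [IsMonHom.one_hom, IsMonHom.one_hom]), hP.lift_snd _ _ _⟩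
      ⟨hP.lift (a ≫ ι[R]) (b ≫ ι[G]) (by
        rw [GrpObj.inv_eq_inv, GrpObj.inv_eq_inv, Category.assoc, Category.assoc, GrpObj.inv_comp,
          GrpObj.inv_comp, Category.id_comp, Category.id_comp, GrpObj.comp_inv, GrpObj.comp_inv, hP.w]),
        hP.lift_snd _ _ _⟩
    have := hb
    have hmj : Mono j := inferInstance
    have : IsMonHom a :=
      { one_hom := by rw [← cancel_mono j, Category.assoc, hP.w, ← Category.assoc, IsMonHom.one_hom, IsMonHom.one_hom, IsMonHom.one_hom]
        mul_hom := by rw [← cancel_mono j, Category.assoc, hP.w, ← Category.assoc, IsMonHom.mul_hom, Category.assoc,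
          IsMonHom.mul_hom, Category.assoc, IsMonHom.mul_hom, tensorHom_comp_tensorHom_assoc, tensorHom_comp_tensorHom_assoc, hP.w] }
    have : IsFinite a.left := MorphismProperty.of_isPullback (GrpdLib.GrpOver.isPullback_left hP).flip ‹IsFinite f.left›
    have : Surjective a.left := MorphismProperty.of_isPullback (GrpdLib.GrpOver.isPullback_left hP).flip ‹Surjective f.left›
    have : LocallyOfFiniteType P.hom := by rw [← Over.w b]; infer_instance
    have : QuasiCompact P.hom := by rw [← Over.w b]; infer_instance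
    obtain ⟨P₀, gP₀, r, hrm, hrc, hPs, hPc, hPq, hrr, -⟩ := GrpScheme.RedIdComponent.exists_reduced_idComponent_range P
    let f₀ : P₀ ⟶ R := r ≫ a
    have : IsFinite f₀.left := by rw [Over.comp_left]; infer_instance
    have : IsReduced R.left := inferInstance
    have hsurj : Surjective f₀.left := by
      obtain ⟨z, hz⟩ := (inferInstance : Surjective a.left).surj (genericPoint R.left)
      obtain ⟨p, hp⟩ := exists_pt_mem (G := P) (U := closure {z}) isClosed_closure.isLocallyClosed
        ⟨z, subset_closure rfl⟩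
      let L : P ⟶ P := tr p⁻¹
      let L' : R ⟶ R := tr (p⁻¹ ≫ a)
      have hLa : L ≫ a = a ≫ L' := by
        simp only [L, L', tr, MonObj.mul_comp, MonObj.comp_mul, Category.id_comp, Category.comp_id, Category.assoc,
          ← Category.assoc a (toUnit R), toUnit_unique (a ≫ toUnit R) (toUnit P)]
      have hiso : IsIso L' := ⟨tr (p ≫ a), by
        rw [← tr_mul, ← MonObj.mul_comp, inv_mul_cancel, MonObj.one_comp, tr_one], by
        rw [← tr_mul, ← MonObj.mul_comp, mul_inv_cancel, MonObj.one_comp, tr_one]⟩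
      have : IsIso L'.left := inferInstanceAs (IsIso ((Over.forget _).map L'))
      have hgen : a.left (L.left z) = genericPoint R.left := by
        rw [← Scheme.Hom.comp_apply, ← Over.comp_left, hLa, Over.comp_left, Scheme.Hom.comp_apply, hz]
        exact genericPoint_eq_of_isOpenImmersion L'.left
      have hsp : L.left z ⤳ GrpScheme.IdComponent.e₀ P := by
        have h := (specializes_iff_mem_closure.mpr hp).map L.left.continuous
        have e : L.left (cpt p) = GrpScheme.IdComponent.e₀ P := by
          show L.left (p.left _) = _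
          rw [← Scheme.Hom.comp_apply, ← Over.comp_left]
          show (p ≫ tr p⁻¹).left _ = _
          rw [tr, MonObj.comp_mul, Category.comp_id, ← Category.assoc, toUnit_unique (p ≫ toUnit P) (𝟙 _),
            Category.id_comp, mul_inv_cancel, Hom.one_def, toUnit_unique (toUnit _) (𝟙 _), Category.id_comp]
        rwa [e] at h
      have hmem : L.left z ∈ Set.range r.left := by
        rw [hrr, GrpScheme.IdComponent.connectedComponent_eq]
        exact GrpScheme.IdComponent.range_zι P ▸ GrpScheme.IdComponent.mem_range_of_specializes P hsp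
      obtain ⟨z₀, hz₀⟩ := hmem
      have hg : genericPoint R.left ∈ Set.range f₀.left := ⟨z₀, by
        rw [Over.comp_left, Scheme.Hom.comp_apply, hz₀, hgen]⟩
      refine ⟨Set.range_eq_univ.mp (Set.eq_univ_of_univ_subset ?_)⟩
      rw [← (genericPoint_spec R.left).def]
      exact closure_minimal (Set.singleton_subset_iff.mpr hg) f₀.left.isClosedMap.isClosed_range
    have : LocallyOfFiniteType R.hom := hlft
    obtain ⟨g, hgm, hgf, hgs, -⟩ := S15607.exists_reverse
      (fun {X} x y => ((isCommMonObj_iff_isMulCommutative R).1 hcomm X).is_comm.comm x y) hpow f₀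
    have : LocallyOfFiniteType P₀.hom := inferInstance
    obtain ⟨Q, gQ, q, m, hqm', hm, hmm, hQ, hqm, -, hqs⟩ := MaxTorus.exists_torus_image hR g
    obtain ⟨-, hQl, hQi, hQs, -, -⟩ := Borel50.Lin.TorusSch.torus_facts hQ
    obtain ⟨hQa, -, -, -, -, -⟩ := Borel50.Lin.TorusSch.torus_facts hQ
    have : QuasiCompact m.left := GrpdLib.GrpOver.quasiCompact_left m
    have : IsClosedImmersion m.left := GrpArtin.Descend.isClosedImmersion_of_mono m
    have : Surjective m.left := by
      have : Surjective (q.left ≫ m.left) := by rw [← Over.comp_left, hqm]; exact hgs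
      exact Surjective.of_comp q.left m.left
    have : IsReduced P₀.left := GrpScheme.HomFlat.isReduced_of_smooth P₀.hom
    have : IsIso m.left := isIso_of_isClosedImmersion_of_surjective m.left
    have : IsIso m := GrpdLib.GrpOver.isIso_of_isIso_left m
    have : IsMonHom (asIso m).hom := hm
    have htor : Red.IsTorus P₀ := Borel50.Lin.TorusSch.isTorus_of_iso (asIso m) hQ
    have : Mono r := Over.mono_of_mono_left r
    have := subsingleton_of_trivial (hG P₀ (r ≫ b) htor)
    have : Subsingleton R.left := Function.Surjective.subsingleton hsurj.surj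
    exact isTrivialGrp_of_subsingleton
  · intro hH R _ j _ _ hR
    obtain ⟨haff, hlft, hint, hsm, -, -⟩ := Borel50.Lin.TorusSch.torus_facts hR
    have : QuasiCompact R.hom := inferInstance
    obtain ⟨Q, gQ, q, m, hqm', hm, hmm, hQ, hqm, -, -⟩ := MaxTorus.exists_torus_image hR (j ≫ f)
    have := subsingleton_of_trivial (hH Q m hQ)
    have : QuasiCompact j.left := GrpdLib.GrpOver.quasiCompact_left j
    have : IsClosedImmersion j.left := GrpArtin.Descend.isClosedImmersion_of_mono j
    have hfin : IsFinite (j ≫ f).left := by rw [Over.comp_left]; infer_instance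
    have : IsFinite (q.left ≫ m.left) := by rw [← Over.comp_left, hqm]; exact hfin
    have : IsReduced R.left := inferInstance
    suffices Subsingleton R.left from isTrivialGrp_of_subsingleton
    refine ⟨fun x y => ?_⟩
    have hgen : ∀ x : R.left, genericPoint R.left = x := fun x =>
      GrpScheme.Dimension.eq_of_specializes_of_apply_eq (q.left ≫ m.left) (genericPoint_specializes x) (by
        rw [Scheme.Hom.comp_apply, Scheme.Hom.comp_apply, Subsingleton.elim (q.left (genericPoint R.left)) (q.left x)])
    rw [← hgen x, ← hgen y]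

end Torus

/-- Let F be a field and f : G → H an isogeny between affine smooth connected F-groups (a surjective
homomorphism with finite kernel, i.e. surjective and finite). Then each of the properties unipotent,
solvable, nilpotent and commutative holds for G exactly when it holds for H; here unipotence is
expressed as: the base change to an algebraic closure contains no non-trivial subtorus, solvable and
nilpotent through the derived and upper central series of the groups of points. -/
theorem result (F : Type u) [Field F]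
    (G H : Over (Spec (CommRingCat.of F))) [GrpObj G] [Smooth G.hom] [QuasiCompact G.hom] [IsAffine G.left] [ConnectedSpace ↥G.left]
    [GrpObj H] [Smooth H.hom] [QuasiCompact H.hom] [IsAffine H.left] [ConnectedSpace ↥H.left]
    (f : G ⟶ H) [IsMonHom f] [Surjective f.left] [IsFinite f.left] :
    (Red.HasNoSubtorus (AlgebraicClosure F) (Red.bc (Spec.map (CommRingCat.ofHom (algebraMap F (AlgebraicClosure F)))) G) ↔ Red.HasNoSubtorus (AlgebraicClosure F) (Red.bc (Spec.map (CommRingCat.ofHom (algebraMap F (AlgebraicClosure F)))) H)) ∧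
    (Red.IsSolvableGrp G ↔ Red.IsSolvableGrp H) ∧ (AGF.IsNilpotentGrp G ↔ AGF.IsNilpotentGrp H) ∧
    (IsCommMonObj G ↔ IsCommMonObj H) := by
  have : IsReduced H.left := GrpScheme.HomFlat.isReduced_of_smooth H.hom
  refine ⟨?_, ?_, ?_, ?_⟩
  · let φ := Spec.map (CommRingCat.ofHom (algebraMap F (AlgebraicClosure F)))
    have : Smooth (Red.bc φ G).hom := inferInstanceAs (Smooth (pullback.snd G.hom φ))
    have : QuasiCompact (Red.bc φ G).hom := inferInstanceAs (QuasiCompact (pullback.snd G.hom φ))
    have : Smooth (Red.bc φ H).hom := inferInstanceAs (Smooth (pullback.snd H.hom φ))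
    have : Surjective ((Over.pullback φ).map f).left := LimGrp.property_map @Surjective φ f ‹_›
    have : IsFinite ((Over.pullback φ).map f).left := LimGrp.property_map @IsFinite φ f ‹_›
    exact hasNoSubtorus_iff (G := Red.bc φ G) (H := Red.bc φ H) ((Over.pullback φ).map f)
  · rw [solvable_iff, solvable_iff]
    exact exists_congr (word_iff f)
  · rw [nilpotent_iff, nilpotent_iff]
    exact exists_congr (lword_iff f)
  · rw [comm_iff, comm_iff]
    exact word_iff f 1

end Groth.Agent.S18072
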