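import Groth.Statements.S1936
import Groth.Agent.FlatOpen.GrpdCM
import Groth.Agent.Wt.CMScheme

set_option autoImplicit false
universe u
open CategoryTheory CategoryTheory.Limits AlgebraicGeometry
open Grpd

namespace Groth.Agent.S1936


open Groth.Agent.FlatOpen in
theorem cm_inv {S : Scheme.{u}} (G : Grpd.GroupoidScheme S) [Flat G.s] [LocallyOfFinitePresentation G.s]
    [Flat G.t] [LocallyOfFinitePresentation G.t] (r₁ r₂ : G.R) (h : G.t r₁ = G.t r₂) :
    MoreMor.IsCMAt G.s r₁ → MoreMor.IsCMAt G.s r₂ := by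
  intro h1
  let fst := pullback.fst G.s G.t
  let snd := pullback.snd G.s G.t
  let F : pullback G.t G.t ⟶ pullback G.s G.t :=
    pullback.lift (pullback.fst G.t G.t)
      (GrpdLib.comp G (pullback.fst G.t G.t ≫ G.i) (pullback.snd G.t G.t)
        (by rw [Category.assoc, G.i_s, pullback.condition]))
      (by rw [GrpdLib.comp_t, Category.assoc, G.i_t])
  have hFc : F ≫ G.c = pullback.snd G.t G.t := by
    have hc : G.c = GrpdLib.comp G fst snd pullback.condition := by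
      rw [GrpdLib.comp, show pullback.lift fst snd pullback.condition = 𝟙 _ by ext <;> simp [fst, snd],
        Category.id_comp]
    rw [hc, GrpdLib.naturality]
    exact (GrpdLib.comp_congr G _ (by simp [G.i_t]) (pullback.lift_fst _ _ _) (pullback.lift_snd _ _ _)).trans
      (GrpdLib.comp_i_cancel G (pullback.fst G.t G.t) (pullback.snd G.t G.t) pullback.condition)
  obtain ⟨z, hz₁, hz₂⟩ := Scheme.Pullback.exists_preimage_pullback r₁ r₂ h
  let w := F z
  have hw₁ : fst w = r₁ := by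
    rw [← hz₁]
    exact congrArg (fun φ : pullback G.t G.t ⟶ G.R => φ z) (pullback.lift_fst _ _ _)
  have hw₂ : G.c w = r₂ := by
    rw [← hz₂]
    exact congrArg (fun φ : pullback G.t G.t ⟶ G.R => φ z) hFc
  have hsq : IsPullback G.c snd G.s G.s := FlatOpen.GrpdCM.isPullback_c_snd G
  have hN : ∀ r, IsLocallyNoetherian (G.s.fiber (G.s r)) := fun r =>
    FlatOpen.GrpdCM.isLocallyNoetherian_fibre G.s _
  have h1' : MoreMor.IsCMAt G.s (fst w) := hw₁.symm ▸ h1
  have hsnd : MoreMor.IsCMAt snd w :=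
    (Wt.CMBase.isCMAt_baseChange_iff (IsPullback.of_hasPullback G.s G.t) w (hN _) (.inl inferInstance)).1
      h1' (Flat.stalkMap _ _)
  rw [← hw₂]
  exact (Wt.CMBase.isCMAt_baseChange_iff hsq w (hN _) (.inl inferInstance)).2 hsnd (Flat.stalkMap _ _)

/-- Let (U, R, s, t, c) be a groupoid scheme over S with s, t flat and locally of finite presentation.
There is an open U' ⊆ U such that t⁻¹(U') is exactly the set of points of R at which s is
Cohen–Macaulay, s⁻¹(U') is exactly the set of points at which t is Cohen–Macaulay, and both t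
restricted to s⁻¹(U') and s restricted to t⁻¹(U') are surjective onto U. (Part (5), that the
restriction of R to U' is a groupoid with Cohen–Macaulay s', t', then follows and is not restated.)
Cohen–Macaulay at a point: flat there with Cohen–Macaulay fibre local ring (Grpd.IsCMAt). (A
groupoid scheme carries U, R, s, t, c, e, i over S with the groupoid axioms on T-points; 'finite
locally free' is finite, flat and locally of finite presentation; C ⊂ Γ(U) is the ring of functions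
a with s♯(a) = t♯(a) and M = Spec C.) -/
theorem result (S : Scheme.{u}) (G : Grpd.GroupoidScheme S) [Flat G.s] [LocallyOfFinitePresentation G.s] [Flat G.t] [LocallyOfFinitePresentation G.t] : ∃ U' : G.U.Opens, (G.t ⁻¹ᵁ U' : Set G.R) = {r | Grpd.IsCMAt G.s r} ∧ (G.s ⁻¹ᵁ U' : Set G.R) = {r | Grpd.IsCMAt G.t r} ∧ ⇑G.t '' (G.s ⁻¹ᵁ U' : Set G.R) = Set.univ ∧ ⇑G.s '' (G.t ⁻¹ᵁ U' : Set G.R) = Set.univ := by
  have hiff : ∀ {X Y : Scheme.{u}} (f : X ⟶ Y) (x : X), Grpd.IsCMAt f x ↔ MoreMor.IsCMAt f x :=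
    fun f x => FlatOpen.GrpdCM.grpd_isCMAt_iff f x
  haveI : IsIso G.i := ⟨G.i, GrpdLib.i_i G, GrpdLib.i_i G⟩
  have hti : ∀ r, MoreMor.IsCMAt G.t r ↔ MoreMor.IsCMAt G.s (G.i r) := fun r => by
    have hsq : IsPullback G.i G.t G.s (𝟙 G.U) := IsPullback.of_horiz_isIso ⟨by rw [G.i_s, Category.comp_id]⟩
    have h := Wt.CMBase.isCMAt_baseChange_iff hsq r (FlatOpen.GrpdCM.isLocallyNoetherian_fibre G.s _)
      (.inl inferInstance)
    exact ⟨fun hh => h.2 hh (Flat.stalkMap _ _), fun hh => h.1 hh (Flat.stalkMap _ _)⟩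
  have hW : IsOpen {r | MoreMor.IsCMAt G.s r} := by
    have e : {r | MoreMor.IsCMAt G.s r} =
        ⋃ d : ℕ, {r | MoreMor.IsCMAt G.s r ∧ FlatMor.fibreDimAt G.s r = d} := by
      ext r
      simp only [Set.mem_setOf_eq, Set.mem_iUnion]
      exact ⟨fun hr => (FlatOpen.CMLocus.exists_fibreDimAt_eq G.s r).imp fun d hd => ⟨hr, hd⟩,
        fun ⟨d, hr, _⟩ => hr⟩
    rw [e]
    exact isOpen_iUnion fun d => FlatOpen.CMLocus.isOpen_isCMAt_fibreDim G.s d
  let U' : G.U.Opens := ⟨G.t '' {r | MoreMor.IsCMAt G.s r}, G.t.isOpenMap _ hW⟩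
  have h1 : ∀ r, G.t r ∈ U' ↔ MoreMor.IsCMAt G.s r := fun r =>
    ⟨fun ⟨r₁, hr₁, he⟩ => cm_inv G r₁ r he hr₁, fun hr => ⟨r, hr, rfl⟩⟩
  have h2 : ∀ r, G.s r ∈ U' ↔ MoreMor.IsCMAt G.t r := fun r => by
    rw [hti r, ← h1 (G.i r), ← Scheme.Hom.comp_apply G.i G.t, G.i_t]
  refine ⟨U', Set.ext fun r => (h1 r).trans (hiff _ _).symm, Set.ext fun r => (h2 r).trans (hiff _ _).symm,
    ?_, ?_⟩
  · refine Set.eq_univ_of_forall fun u => ?_
    obtain ⟨ζ, -, hζ, hmax⟩ := FlatOpen.CMDim.exists_fMax G.t (G.e u)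
    exact ⟨ζ, (h2 ζ).2 (FlatOpen.FibreGeneric.isCMAt_of_fibre_maximal G.t ζ hmax),
      hζ.trans (GrpdLib.t_e_apply G u)⟩
  · refine Set.eq_univ_of_forall fun u => ?_
    obtain ⟨ζ, -, hζ, hmax⟩ := FlatOpen.CMDim.exists_fMax G.s (G.e u)
    exact ⟨ζ, (h1 ζ).2 (FlatOpen.FibreGeneric.isCMAt_of_fibre_maximal G.s ζ hmax),
      hζ.trans (by rw [← Scheme.Hom.comp_apply, G.e_s]; rfl)⟩

end Groth.Agent.S1936
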