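import Groth.Statements.S7508
import Groth.Agent.FlatOpen.GrpdMaxSlice
import Groth.Agent.AlgSpD.LqfLocus

set_option autoImplicit false
universe u
open CategoryTheory CategoryTheory.Limits AlgebraicGeometry
open Grpd

namespace Groth.Agent.S7508

/-- Let (U, R, s, t, c, e, i) be a groupoid scheme over S with s and t Cohen-Macaulay and locally of
finite presentation, assume the stabilizer G -> U is locally quasi-finite (locally of finite type
with discrete fibres), and let u be a finite type point of U. Then there exist an affine scheme U',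
an immersion g : U' -> U locally of finite presentation and a point u' with g(u') = u such that h =
s ∘ pr_1 : U' x_(g,U,t) R -> U and the source and target s', t' : R' -> U' of the restriction R' =
(U' x_(g,U,t) R) x_(h,U,g) U' are flat, locally of finite presentation and locally quasi-finite.
Here a morphism is Cohen-Macaulay when it is Cohen-Macaulay at every point of its source (flat there
with Cohen-Macaulay fibre local ring, Grpd.IsCMAt), and a finite type point u is one for which Spec
κ(u) -> U is locally of finite type. (A groupoid scheme carries U, R, s, t, c, e, i over S with the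
groupoid axioms on T-points; c is defined on the fibre product of s and t and sends a pair (a, b)
with s(a) = t(b) to a composed with b.) -/
theorem result (S : Scheme.{u}) (G : Grpd.GroupoidScheme S) [LocallyOfFinitePresentation G.s] [LocallyOfFinitePresentation G.t] (hs : ∀ r : G.R, Grpd.IsCMAt G.s r) (ht : ∀ r : G.R, Grpd.IsCMAt G.t r) [LocallyOfFiniteType G.stabilizerToU] [LocallyQuasiFinite G.stabilizerToU] (u : G.U) (hu : LocallyOfFiniteType (G.U.fromSpecResidueField u)) : ∃ (U' : Scheme.{u}) (_ : IsAffine U') (g : U' ⟶ G.U) (u' : U'), IsImmersion g ∧ LocallyOfFinitePresentation g ∧ g u' = u ∧ (Flat (pullback.snd g G.t ≫ G.s) ∧ LocallyOfFinitePresentation (pullback.snd g G.t ≫ G.s) ∧ LocallyOfFiniteType (pullback.snd g G.t ≫ G.s) ∧ LocallyQuasiFinite (pullback.snd g G.t ≫ G.s)) ∧ (Flat (pullback.snd (pullback.snd g G.t ≫ G.s) g) ∧ LocallyOfFinitePresentation (pullback.snd (pullback.snd g G.t ≫ G.s) g) ∧ LocallyQuasiFinite (pullback.snd (pullback.snd g G.t ≫ G.s) g)) ∧ (Flat (pullback.fst (pullback.snd g G.t ≫ G.s) g ≫ pullback.fst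 g G.t) ∧ LocallyOfFinitePresentation (pullback.fst (pullback.snd g G.t ≫ G.s) g ≫ pullback.fst g G.t) ∧ LocallyQuasiFinite (pullback.fst (pullback.snd g G.t ≫ G.s) g ≫ pullback.fst g G.t)) := by
  have hs' : ∀ r, MoreMor.IsCMAt G.s r := fun r => (Groth.Agent.FlatOpen.GrpdCM.grpd_isCMAt_iff _ _).1 (hs r)
  have ht' : ∀ r, MoreMor.IsCMAt G.t r := fun r => (Groth.Agent.FlatOpen.GrpdCM.grpd_isCMAt_iff _ _).1 (ht r)
  obtain ⟨d, hd, U', hU', g, u', p, h1, h2, h3, h4, h5, hall, h7, h8⟩ :=
    Groth.Agent.FlatOpen.GrpdMaxSlice.exists_max_slice G hs' ht' u hu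
  have hd0 : d = 0 := by
    haveI : DiscreteTopology ↥(G.stabilizerToU.fiber u) := inferInstance
    have h := topologicalKrullDim_zero_of_discreteTopology ↥(G.stabilizerToU.fiber u)
    rw [hd] at h
    exact Nat.le_zero.1 (by exact_mod_cast h)
  subst hd0
  let h := pullback.snd g G.t ≫ G.s
  have hflat : ∀ {X Y : Scheme.{u}} (f : X ⟶ Y), (∀ x, MoreMor.IsCMAt f x) → Flat f := fun f hf =>
    (Flat.iff_flat_stalkMap f).2 fun x => (hf x).1
  haveI : LocallyQuasiFinite h :=
    Groth.Agent.AlgSpD.locallyQuasiFinite_of_forall h fun q => (hall q).2.trans Nat.cast_zero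
  haveI : LocallyQuasiFinite (pullback.snd h g) := inferInstance
  obtain ⟨σ, hσi, hσ⟩ := Groth.Agent.FlatOpen.GrpdCM.exists_swap G g
  haveI : LocallyQuasiFinite (pullback.fst h g ≫ pullback.fst g G.t) := by
    rw [show pullback.fst h g ≫ pullback.fst g G.t = σ ≫ pullback.snd h g from hσ.symm]
    infer_instance
  exact ⟨U', hU', g, u', h1, h2, h3,
    ⟨hflat _ fun q => (hall q).1, inferInstance, inferInstance, inferInstance⟩,
    ⟨hflat _ h7, inferInstance, inferInstance⟩,
    ⟨hflat _ h8, inferInstance, inferInstance⟩⟩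

end Groth.Agent.S7508
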