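import Groth.Statements.S7457
import Groth.Agent.GrpdLib.Basic

set_option autoImplicit false
universe u
open CategoryTheory CategoryTheory.Limits AlgebraicGeometry
open Grpd

namespace Groth.Agent.S7457

open Groth.Agent.GrpdLib

attribute [local simp] pullback.lift_fst pullback.lift_snd pullback.lift_fst_assoc pullback.lift_snd_assoc

/-- Let (U, R, s, t, c) be a groupoid scheme over S. Let φ : R x_(t,U,t) R -> R x_(s,U,t) R be the
morphism sending a pair (a, b) with the same target to (a, a^{-1} composed with b), that is, the
morphism whose first component is the first projection and whose second component is c applied to (i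
composed after the first projection, second projection). Then φ is an isomorphism and composed with
c it gives the second projection. Moreover the square with sides c, the second projection R
x_(s,U,t) R -> R, s and s is cartesian. (A groupoid scheme carries U, R, s, t, c, e, i over S with
the groupoid axioms on T-points; c is defined on the fibre product of s and t and sends a pair (a,
b) with s(a) = t(b) to a composed with b.) -/
theorem result (S : Scheme.{u}) (G : Grpd.GroupoidScheme S) : (∀ φ : pullback G.t G.t ⟶ pullback G.s G.t, φ ≫ pullback.fst G.s G.t = pullback.fst G.t G.t → φ ≫ pullback.snd G.s G.t = pullback.lift (pullback.fst G.t G.t ≫ G.i) (pullback.snd G.t G.t) ((Category.assoc _ _ _).trans ((congrArg (fun x => pullback.fst G.t G.t ≫ x) G.i_s).trans pullback.condition)) ≫ G.c → IsIso φ ∧ φ ≫ G.c = pullback.snd G.t G.t) ∧ IsPullback G.c (pullback.snd G.s G.t) G.s G.s := by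
  refine ⟨fun φ h₁ h₂ ↦ ?_, ?_⟩
  · have hp : pullback.fst G.t G.t ≫ G.t = pullback.snd G.t G.t ≫ G.t := pullback.condition
    rw [lift_c] at h₂
    have hq : pullback.fst G.s G.t ≫ G.s = pullback.snd G.s G.t ≫ G.t := pullback.condition
    have hc : φ ≫ G.c = pullback.snd G.t G.t := by
      have : φ ≫ G.c = comp G (φ ≫ pullback.fst G.s G.t) (φ ≫ pullback.snd G.s G.t)
          (by simp [hq]) := by
        rw [← lift_c]; congr 1; apply pullback.hom_ext <;> simp
      rw [this]
      exact (comp_congr G _ (by simp) h₁ h₂).trans (comp_i_cancel G _ _ hp)
    refine ⟨⟨pullback.lift (pullback.fst G.s G.t) G.c (c_t G).symm, ?_, ?_⟩, hc⟩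
    · apply pullback.hom_ext <;> simp [h₁, hc]
    · apply pullback.hom_ext
      · simp [h₁]
      · rw [Category.assoc, h₂, naturality, Category.id_comp]
        exact (comp_congr G _ (by simp [hq]) (by simp) (by simp [comp])).trans
          (i_comp_cancel G (pullback.fst G.s G.t) (pullback.snd G.s G.t) hq)
  · refine .of_iso_pullback ⟨c_s G⟩ ⟨pullback.lift G.c (pullback.snd G.s G.t) (c_s G),
      pullback.lift (comp G (pullback.fst G.s G.s) (pullback.snd G.s G.s ≫ G.i)
        (by simp [pullback.condition])) (pullback.snd G.s G.s) (by simp), ?_, ?_⟩
      (by simp) (by simp)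
    · apply pullback.hom_ext
      · simp only [Category.assoc, pullback.lift_fst, naturality, Category.id_comp]
        exact (comp_congr G _ (by simp [pullback.condition]) (by simp [comp]) (by simp)).trans
          (comp_cancel_right G (pullback.fst G.s G.t) (pullback.snd G.s G.t) pullback.condition)
      · simp
    · apply pullback.hom_ext
      · simp only [Category.assoc, pullback.lift_fst, Category.id_comp]
        rw [lift_c]
        exact comp_inv_cancel_right G _ _ pullback.condition
      · simp

end Groth.Agent.S7457
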