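import Groth.Statements.S5223
import Groth.Agent.FDesc.BaseChangeStalk

set_option autoImplicit false
open CategoryTheory CategoryTheory.Limits AlgebraicGeometry
universe u
open GrpQ

namespace Groth.Agent.S5223

open scoped TensorProduct

/-- In a cartesian square of schemes `F₂ = F₁ ×_{X₀} X₁` whose bottom map `u : X₁ ⟶ X₀` is flat, the
base-changed map `d' : F₂ ⟶ X₁` is flat at a point `x` if and only if `d : F₁ ⟶ X₀` is flat at the
image of `x` in `F₁`. -/
theorem result {F₂ F₁ X₁ X₀ : Scheme.{u}}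
    {v : F₂ ⟶ F₁} {d' : F₂ ⟶ X₁} {d : F₁ ⟶ X₀} {u : X₁ ⟶ X₀}
    (h : IsPullback v d' d u) [Flat u] (x : F₂) :
    (d'.stalkMap x).hom.Flat ↔ (d.stalkMap (v.base x)).hom.Flat := by
  have := MorphismProperty.of_isPullback (P := @Flat) h.flip ‹Flat u›
  have hvx : (v.stalkMap x).hom.Flat := Flat.stalkMap v x
  have hux : (u.stalkMap (d' x)).hom.Flat := Flat.stalkMap u (d' x)
  change (d'.stalkMap x).hom.Flat ↔ (d.stalkMap (v x)).hom.Flat
  have he : u (d' x) = d (v x) := by rw [← Scheme.Hom.comp_apply, ← Scheme.Hom.comp_apply, h.w]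
  let φ : X₀.presheaf.stalk (d (v x)) ⟶ X₁.presheaf.stalk (d' x) :=
    X₀.presheaf.stalkSpecializes (specializes_of_eq he) ≫ u.stalkMap (d' x)
  let : Algebra (X₀.presheaf.stalk (d (v x))) (F₁.presheaf.stalk (v x)) := (d.stalkMap (v x)).hom.toAlgebra
  let : Algebra (X₀.presheaf.stalk (d (v x))) (X₁.presheaf.stalk (d' x)) := φ.hom.toAlgebra
  let : Algebra (F₁.presheaf.stalk (v x)) (F₂.presheaf.stalk x) := (v.stalkMap x).hom.toAlgebra
  let : Algebra (X₁.presheaf.stalk (d' x)) (F₂.presheaf.stalk x) := (d'.stalkMap x).hom.toAlgebra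
  let : Algebra (X₀.presheaf.stalk (d (v x))) (F₂.presheaf.stalk x) :=
    (d.stalkMap (v x) ≫ v.stalkMap x).hom.toAlgebra
  have : IsScalarTower (X₀.presheaf.stalk (d (v x))) (F₁.presheaf.stalk (v x)) (F₂.presheaf.stalk x) :=
    IsScalarTower.of_algebraMap_eq' rfl
  have : IsScalarTower (X₀.presheaf.stalk (d (v x))) (X₁.presheaf.stalk (d' x)) (F₂.presheaf.stalk x) := by
    refine IsScalarTower.of_algebraMap_eq' (congrArg CommRingCat.Hom.hom
      (?_ : d.stalkMap (v x) ≫ v.stalkMap x = φ ≫ d'.stalkMap x))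
    rw [← Scheme.Hom.stalkMap_comp, Scheme.Hom.stalkMap_congr_hom _ _ h.w x, Category.assoc,
      Scheme.Hom.stalkMap_comp]
    rfl
  constructor
  · intro hd'
    have hA' : Module.Flat (X₀.presheaf.stalk (d (v x))) (X₁.presheaf.stalk (d' x)) :=
      (RingHom.Flat.of_bijective (ConcreteCategory.bijective_of_isIso
        (X₀.presheaf.stalkCongr (Inseparable.of_eq he.symm)).hom)).comp hux
    have : Module.Flat (X₁.presheaf.stalk (d' x)) (F₂.presheaf.stalk x) := hd'
    have hC := Module.Flat.trans (X₀.presheaf.stalk (d (v x))) (X₁.presheaf.stalk (d' x)) (F₂.presheaf.stalk x)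
    have : Module.FaithfullyFlat (F₁.presheaf.stalk (v x)) (F₂.presheaf.stalk x) :=
      FDesc.Stalk.faithfullyFlat_stalkMap v x hvx
    have : Module.Flat (X₀.presheaf.stalk (d (v x)))
        (F₂.presheaf.stalk x ⊗[F₁.presheaf.stalk (v x)] F₁.presheaf.stalk (v x)) :=
      Module.Flat.of_linearEquiv ((TensorProduct.AlgebraTensorModule.rid (F₁.presheaf.stalk (v x))
        (F₂.presheaf.stalk x) (F₂.presheaf.stalk x)).restrictScalars (X₀.presheaf.stalk (d (v x))))
    exact FDesc.Algebra.flat_of_faithfullyFlat_baseChange (B := F₁.presheaf.stalk (v x))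
      (C := F₂.presheaf.stalk x) (F₁.presheaf.stalk (v x))
  · intro hd
    have : Module.Flat (X₀.presheaf.stalk (d (v x))) (F₁.presheaf.stalk (v x)) := hd
    let ψ : (X₁.presheaf.stalk (d' x) ⊗[X₀.presheaf.stalk (d (v x))] F₁.presheaf.stalk (v x))
        →ₐ[X₀.presheaf.stalk (d (v x))] F₂.presheaf.stalk x :=
      Algebra.TensorProduct.productMap (IsScalarTower.toAlgHom _ _ _) (IsScalarTower.toAlgHom _ _ _)
    have hflat : ψ.toRingHom.Flat := FDesc.BaseChangeStalk.flat_stalk_of_isPullback h x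
      (CommRingCat.ofHom ψ.toRingHom)
      (by ext a; exact Algebra.TensorProduct.productMap_left_apply _ _ a)
      (by ext a; exact Algebra.TensorProduct.productMap_right_apply _ _ a) rfl rfl
    have h1 : (algebraMap (X₁.presheaf.stalk (d' x))
        (X₁.presheaf.stalk (d' x) ⊗[X₀.presheaf.stalk (d (v x))] F₁.presheaf.stalk (v x))).Flat :=
      RingHom.flat_algebraMap_iff.mpr inferInstance
    convert h1.comp hflat using 1
    ext a
    exact (Algebra.TensorProduct.productMap_left_apply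
      (IsScalarTower.toAlgHom _ (X₁.presheaf.stalk (d' x)) (F₂.presheaf.stalk x))
      (IsScalarTower.toAlgHom _ (F₁.presheaf.stalk (v x)) (F₂.presheaf.stalk x)) a).symm

end Groth.Agent.S5223
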