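import Groth.Statements.S6005
import Groth.Agent.SGA1Torsor.Basic
-- import your own Groth.Agent.* helpers here

set_option autoImplicit false
universe u
open CategoryTheory AlgebraicGeometry
open SGA1

namespace Groth.Agent.S6005

/-- Every principal homogeneous bundle under the multiplicative group over S (a pseudo-torsor which
acquires sections on the members of some fpqc covering family of S) is locally trivial, i.e. is a
torsor for the Zariski topology: S is covered by open subschemes over which it acquires sections.
(The published statement covers every S-group isomorphic to the general linear group of any rank;
this row is the rank-one case.) -/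
theorem result {S : Scheme.{u}} (X : Over S)
    (a : AlgGrp.Action (Red.Gm S) X) (h : NonAbH1.IsTorsorFor Scheme.fpqcPrecoverage a) :
    NonAbH1.IsTorsorFor Scheme.zariskiPrecoverage a := by
  exact ⟨h.1, Groth.Agent.SGA1Torsor.zariski_of_charts h.2 fun hU B _ _ _ x p =>
    Groth.Agent.SGA1Torsor.exists_section_gm hU.fromSpec h.1 x p⟩

end Groth.Agent.S6005
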