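import Groth.Statements.S6011
-- import your own Groth.Agent.* helpers here

set_option autoImplicit false
universe u
open CategoryTheory AlgebraicGeometry
open SGA1

namespace Groth.Agent.S6011

open MonoidalCategory CartesianMonoidalCategory MonObj in
/-- An S-scheme X with an action of the S-group G is trivial — equivariantly isomorphic over S to G
acting on itself by translation — if and only if it is formally principal homogeneous (a
pseudo-torsor) and admits a section over S. -/
theorem result {S : Scheme.{u}}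
    (G X : Over S) [GrpObj G] (a : AlgGrp.Action G X) :
    Nonempty (NonAbH1.EquivIso (NonAbH1.trivialAction G) a) ↔
      (NonAbH1.IsPseudoTorsorSch a ∧ NonAbH1.HasSectionOver X (𝟙 S)) := by
  constructor
  · rintro ⟨⟨e, he⟩⟩
    refine ⟨?_, ⟨(η[G] ≫ e.hom).left, Over.w _⟩⟩
    have h1 := NonAbH1.isPseudoTorsorSch_trivialAction G
    have key : (G ◁ e.hom) ≫ lift a.act (snd G X) =
        lift (NonAbH1.trivialAction G).act (snd G G) ≫ (e.hom ⊗ₘ e.hom) := by
      rw [comp_lift, lift_map, ← he, whiskerLeft_snd]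
    haveI : IsIso (lift (NonAbH1.trivialAction G).act (snd G G)) := h1
    haveI : IsIso ((G ◁ e.hom) ≫ lift a.act (snd G X)) := by rw [key]; infer_instance
    exact IsIso.of_isIso_comp_left (G ◁ e.hom) _
  · rintro ⟨hps, s, hs⟩
    haveI : IsIso (lift a.act (snd G X)) := hps
    let o : 𝟙_ (Over S) ⟶ X := Over.homMk s hs
    let φ := a.orbitMap o
    let w : X ⟶ G ⊗ X := lift (𝟙 X) (toUnit X ≫ o) ≫ inv (lift a.act (snd G X))
    have hw : w ≫ lift a.act (snd G X) = lift (𝟙 X) (toUnit X ≫ o) := by
      simp only [w, Category.assoc, IsIso.inv_hom_id, Category.comp_id]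
    have hw1 : w ≫ a.act = 𝟙 X := by
      have := hw =≫ fst X X
      simpa [Category.assoc] using this
    have hw2 : w ≫ snd G X = toUnit X ≫ o := by
      have := hw =≫ snd X X
      simpa [Category.assoc] using this
    let ψ : X ⟶ G := w ≫ fst G X
    have hψφ : ψ ≫ φ = 𝟙 X := by
      simp only [φ, AlgGrp.Action.orbitMap]
      rw [comp_lift_assoc, Category.comp_id, ← Category.assoc ψ, Subsingleton.elim (ψ ≫ toUnit G) (toUnit X)]
      calc lift ψ (toUnit X ≫ o) ≫ a.act = w ≫ a.act := by
            rw [← hw2]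
            congr 1
            ext1 <;> simp [ψ]
        _ = 𝟙 X := hw1
    have hφψ : φ ≫ ψ = 𝟙 G := by
      have h2 : φ ≫ lift (𝟙 X) (toUnit X ≫ o) =
          lift (𝟙 G) (toUnit G ≫ o) ≫ lift a.act (snd G X) := by
        rw [comp_lift, comp_lift, Category.comp_id, lift_snd, ← Category.assoc,
          Subsingleton.elim (φ ≫ toUnit X) (toUnit G)]
        rfl
      simp only [ψ, w, Category.assoc]
      rw [reassoc_of% h2, IsIso.hom_inv_id_assoc, lift_fst]
    refine ⟨⟨⟨φ, ψ, hφψ, hψφ⟩, ?_⟩⟩
    change μ[G] ≫ φ = (G ◁ φ) ≫ a.act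
    simp only [φ, AlgGrp.Action.orbitMap]
    have e1 : μ[G] ≫ lift (𝟙 G) (toUnit G ≫ o) =
        lift (𝟙 (G ⊗ G)) (toUnit (G ⊗ G) ≫ o) ≫ (μ[G] ▷ X) := by
      rw [comp_lift, lift_whiskerRight, Category.comp_id, Category.id_comp, ← Category.assoc,
        Subsingleton.elim (μ[G] ≫ toUnit G) (toUnit (G ⊗ G))]
    rw [reassoc_of% e1, a.mul_act, MonoidalCategory.whiskerLeft_comp_assoc]
    rw [← Category.assoc _ (α_ G G X).hom, ← Category.assoc, ← Category.assoc]
    congr 2
    ext1
    · simp
    · ext1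
      · simp
      · simp

end Groth.Agent.S6011
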