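import Groth.Statements.S11099
import Groth.Agent.WeilExt.Neron

set_option autoImplicit false
set_option linter.style.haveILetI false
universe u
open CategoryTheory CategoryTheory.Limits AlgebraicGeometry
open Neron

namespace Groth.Agent.S11099

/-- Let R be a Dedekind domain, X → Spec R smooth, G → Spec R a proper group scheme, U ⊆ X an open
subscheme which is dense in every fibre of X → Spec R, and f : U → G a morphism over Spec R (a
rational map X ⇢ G over R whose domain is dense in all fibres). Then f extends uniquely to a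
morphism X → G over Spec R: a rational map from a smooth R-scheme to a proper R-group scheme,
defined densely on every fibre, is a morphism. -/
theorem result {R : Type u} [CommRing R] [IsDedekindDomain R] {X G : Scheme.{u}}
    (pX : X ⟶ Spec (CommRingCat.of R)) (pG : G ⟶ Spec (CommRingCat.of R)) [Smooth pX]
    [GrpObj (Over.mk pG)] [IsProper pG]
    (U : X.Opens) (hdense : ∀ x : X, x ∈ closure ((U : Set X) ∩ {y | pX.base y = pX.base x}))
    (f : (U : Scheme.{u}) ⟶ G) (hf : f ≫ pG = U.ι ≫ pX) :
    ∃! g : X ⟶ G, g ≫ pG = pX ∧ U.ι ≫ g = f := by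
  haveI : IsNoetherianRing ↑(CommRingCat.of R) := inferInstanceAs (IsNoetherianRing R)
  have hreg := S11107.isRegularLocalRing_stalk pX
  haveI : IsReduced X := WeilExt.isReduced_of_regular hreg
  have hU : Dense (U : Set X) := fun x => closure_mono Set.inter_subset_left (hdense x)
  obtain ⟨V, hUV, g, hg, hres, hV⟩ := S11107.result pX pG U hU f hf
  obtain ⟨F, hF, hFV⟩ := WeilExt.exists_extend pX pG hreg
    (S11107.isRegularLocalRing_stalk (pullback.fst pX pX ≫ pX)) V
    (fun x => closure_mono (Set.inter_subset_inter_left _ hUV) (hdense x))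
    (fun x hx => by
      by_contra h
      exact absurd ((hV x h).trans hx) (by exact_mod_cast (by norm_num : ¬ (2 : ℕ) ≤ 1))) g hg
  have hFU : U.ι ≫ F = f := by rw [← hres, ← hFV, Scheme.homOfLE_ι_assoc]
  refine ⟨F, ⟨hF, hFU⟩, fun F' ⟨hF', hF'U⟩ => ?_⟩
  haveI : IsDominant U.ι := by
    rw [isDominant_iff, DenseRange, Scheme.Opens.range_ι]
    exact hU
  exact ext_of_isDominant_of_isSeparated pG (hF'.trans hF.symm) U.ι (hF'U.trans hFU.symm)

end Groth.Agent.S11099
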