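import Groth.Statements.S4585


set_option autoImplicit false
universe u
open AlgebraicGeometry CategoryTheory
open EGA41

namespace Groth.Agent.S4585

theorem exists_basicOpen_subset_range_comap {A B : Type u} [CommRing A] [CommRing B]
    [Algebra A B] [Algebra.FiniteType A B] (p : PrimeSpectrum A)
    (hp : ∀ q : PrimeSpectrum A, p.asIdeal ≤ q.asIdeal)
    (h : p ∈ Set.range (PrimeSpectrum.comap (algebraMap A B))) :
    ∃ a ∉ p.asIdeal, ∀ q : PrimeSpectrum A, a ∉ q.asIdeal →
      q ∈ Set.range (PrimeSpectrum.comap (algebraMap A B)) := by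
  classical
  let K := p.asIdeal.ResidueField
  have hnt : Nontrivial (TensorProduct A K B) := p.nontrivial_iff_mem_rangeComap.mpr h
  obtain ⟨m, hm⟩ := Ideal.exists_maximal (TensorProduct A K B)
  let L := TensorProduct A K B ⧸ m
  letI : Field L := Ideal.Quotient.field m
  have hft : Algebra.FiniteType K L :=
    Algebra.FiniteType.of_surjective (Ideal.Quotient.mkₐ K m)
      Ideal.Quotient.mk_surjective
  have hfin : Module.Finite K L := finite_of_finite_type_of_isJacobsonRing K L
  let A' := A ⧸ p.asIdeal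
  let ψ : B →ₐ[A] L := (Ideal.Quotient.mkₐ A m).comp Algebra.TensorProduct.includeRight
  haveI : Algebra.IsAlgebraic A' K := IsLocalization.isAlgebraic K (nonZeroDivisors A')
  haveI : Algebra.IsAlgebraic A' L := Algebra.IsAlgebraic.trans A' K L
  obtain ⟨s, hs⟩ := Algebra.FiniteType.out (R := A) (A := B)
  obtain ⟨y, hy0, hy⟩ := Algebra.IsAlgebraic.exists_integral_multiples A' (s.image ψ)
  obtain ⟨a, rfl⟩ := Ideal.Quotient.mk_surjective y
  have ha : a ∉ p.asIdeal := fun hh => hy0 (Ideal.Quotient.eq_zero_iff_mem.mpr hh)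
  refine ⟨a, ha, fun q haq => ?_⟩
  let ā : A' := Ideal.Quotient.mk _ a
  have hinj : Function.Injective (algebraMap A' L) :=
    (algebraMap K L).injective.comp (IsFractionRing.injective A' K)
  have hu : IsUnit (algebraMap A' L ā) :=
    isUnit_iff_ne_zero.mpr ((map_ne_zero_iff _ hinj).mpr hy0)
  let R := Localization.Away ā
  letI : Algebra R L := (IsLocalization.Away.lift ā hu).toAlgebra
  haveI : IsScalarTower A' R L := .of_algebraMap_eq fun x =>
    (IsLocalization.Away.lift_eq ā hu x).symm
  haveI : IsScalarTower A R L := .of_algebraMap_eq fun x => by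
    rw [IsScalarTower.algebraMap_apply A A' R, ← IsScalarTower.algebraMap_apply A' R L,
      ← IsScalarTower.algebraMap_apply A A' L]
  let C := integralClosure R L
  have hrange : ∀ b : B, ψ b ∈ C := by
    intro b
    have hb : b ∈ Algebra.adjoin A (s : Set B) := hs ▸ Algebra.mem_top
    induction hb using Algebra.adjoin_induction with
    | mem x hx =>
      have h1 : IsIntegral R (ā • ψ x) :=
        (hy _ (Finset.mem_image_of_mem ψ hx)).tower_top
      obtain ⟨v, hv⟩ := IsLocalization.Away.algebraMap_isUnit (S := R) ā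
      have h3 : ψ x = (↑v⁻¹ : R) • (ā • ψ x) := by
        rw [← IsScalarTower.algebraMap_smul R ā (ψ x), ← hv, smul_smul, Units.inv_mul, one_smul]
      show IsIntegral R (ψ x)
      rw [h3]
      exact h1.smul _
    | algebraMap r =>
      rw [ψ.commutes, IsScalarTower.algebraMap_apply A R L]
      exact C.algebraMap_mem _
    | add x y _ _ hx hy => rw [map_add]; exact add_mem hx hy
    | mul x y _ _ hx hy => rw [map_mul]; exact mul_mem hx hy
  let χ : B →+* C := ψ.toRingHom.codRestrict C.toSubring hrange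
  let q' : Ideal A' := q.asIdeal.map (Ideal.Quotient.mk _)
  have hker : RingHom.ker (Ideal.Quotient.mk p.asIdeal) ≤ q.asIdeal := by
    rw [Ideal.mk_ker]; exact hp q
  have hq'c : q'.comap (Ideal.Quotient.mk _) = q.asIdeal := by
    rw [Ideal.comap_map_of_surjective' _ Ideal.Quotient.mk_surjective,
      sup_eq_left.mpr hker]
  haveI hq' : q'.IsPrime := Ideal.map_isPrime_of_surjective Ideal.Quotient.mk_surjective hker
  have hdisj : Disjoint (Submonoid.powers ā : Set A') (q' : Set A') := by
    rw [Set.disjoint_left]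
    rintro _ ⟨n, rfl⟩ hn
    have : a ∈ q'.comap (Ideal.Quotient.mk _) := hq'.mem_of_pow_mem n hn
    rw [hq'c] at this
    exact haq this
  let qR : Ideal R := q'.map (algebraMap A' R)
  haveI : qR.IsPrime :=
    IsLocalization.isPrime_of_isPrime_disjoint (Submonoid.powers ā) R q' hq' hdisj
  have hinjR : Function.Injective (algebraMap R L) := by
    show Function.Injective (IsLocalization.Away.lift ā hu)
    rw [IsLocalization.Away.lift, IsLocalization.lift_injective_iff]
    intro x y
    exact ⟨fun e => congrArg _ (IsLocalization.injective R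
        (powers_le_nonZeroDivisors_of_noZeroDivisors hy0) e),
      fun e => congrArg _ (hinj e)⟩
  have hinjC : Function.Injective (algebraMap R C) := fun x y e =>
    hinjR (congrArg Subtype.val e)
  obtain ⟨Q, -, hQ, hQc⟩ := Ideal.exists_ideal_over_prime_of_isIntegral qR (⊥ : Ideal C)
    (by rw [Ideal.comap_bot_of_injective _ hinjC]; exact bot_le)
  refine ⟨⟨Q.comap χ, Ideal.IsPrime.comap χ⟩, PrimeSpectrum.ext ?_⟩
  ext x
  have hx : χ (algebraMap A B x) = algebraMap R C (algebraMap A R x) := by
    apply Subtype.ext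
    show ψ (algebraMap A B x) = algebraMap R L (algebraMap A R x)
    rw [ψ.commutes, ← IsScalarTower.algebraMap_apply]
  show χ (algebraMap A B x) ∈ Q ↔ _
  rw [hx, ← Ideal.mem_comap, hQc, IsScalarTower.algebraMap_apply A A' R, ← Ideal.mem_comap,
    show qR.comap (algebraMap A' R) = q' from
      IsLocalization.under_map_of_isPrime_disjoint (Submonoid.powers ā) R hq' hdisj, ← hq'c]
  rfl


/-- Let Y be an irreducible scheme with generic point η and f : X → Y locally of finite type with
nonempty fibre over η. Then some open neighbourhood of η is contained in f(X). (The second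
assertion, on fibres of a quasi-coherent module of finite type, is not stated.) -/
theorem result {X Y : Scheme.{u}} (f : X ⟶ Y)
    [LocallyOfFiniteType f] [IrreducibleSpace Y] (h : genericPoint Y ∈ Set.range f.base) :
    genericPoint Y ∈ interior (Set.range f.base) := by
  obtain ⟨x, hx⟩ := h
  obtain ⟨_, ⟨V, hV, rfl⟩, hηV, -⟩ :=
    Y.isBasis_affineOpens.exists_subset_of_mem_open (Set.mem_univ (genericPoint Y)) isOpen_univ
  have hxV : x ∈ f ⁻¹ᵁ V := by show f.base x ∈ V; rw [hx]; exact hηV
  obtain ⟨_, ⟨U, hU, rfl⟩, hxU, hUV⟩ :=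
    X.isBasis_affineOpens.exists_subset_of_mem_open hxV (f ⁻¹ᵁ V).2
  have e : U ≤ f ⁻¹ᵁ V := hUV
  let φ := f.appLE V U e
  have hsq : ∀ Q, hV.fromSpec.base ((Spec.map φ).base Q) = f.base (hU.fromSpec.base Q) := fun Q => by
    have := hV.SpecMap_appLE_fromSpec f hU e
    rw [← Scheme.Hom.comp_apply, ← Scheme.Hom.comp_apply, this]
  letI := φ.hom.toAlgebra
  haveI : Algebra.FiniteType Γ(Y, V) Γ(X, U) := f.finiteType_appLE hV hU e
  let p := hV.primeIdealOf ⟨_, hηV⟩
  have hp : ∀ q, p.asIdeal ≤ PrimeSpectrum.asIdeal q := fun q => by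
    show p ≤ q
    refine (PrimeSpectrum.le_iff_specializes p q).mpr
      (hV.fromSpec.isOpenEmbedding.isInducing.specializes_iff.mp ?_)
    rw [hV.fromSpec_primeIdealOf]
    exact genericPoint_specializes _
  have hpr : p ∈ Set.range (PrimeSpectrum.comap (algebraMap Γ(Y, V) Γ(X, U))) := by
    refine ⟨hU.primeIdealOf ⟨x, hxU⟩, hV.fromSpec.isOpenEmbedding.injective ?_⟩
    show hV.fromSpec.base ((Spec.map φ).base _) = _
    rw [hsq, hU.fromSpec_primeIdealOf, hV.fromSpec_primeIdealOf]
    exact hx
  obtain ⟨a, ha, hsub⟩ := exists_basicOpen_subset_range_comap p hp hpr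
  rw [mem_interior]
  refine ⟨hV.fromSpec.base '' (PrimeSpectrum.basicOpen a : Set (PrimeSpectrum Γ(Y, V))), ?_,
    hV.fromSpec.isOpenEmbedding.isOpenMap _ (PrimeSpectrum.basicOpen a).2,
    ⟨p, ha, hV.fromSpec_primeIdealOf _⟩⟩
  rintro _ ⟨q, hq, rfl⟩
  obtain ⟨Q, rfl⟩ := hsub q hq
  exact ⟨hU.fromSpec.base Q, (hsq Q).symm⟩

end Groth.Agent.S4585
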