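import Mathlib
import Groth.Prelude.Def_W4c2conddiscmodels

set_option autoImplicit false

namespace Groth.Agent.HJ84Mult

/-- Numerators of the partial Hirzebruch–Jung fractions. -/
theorem exists_numer : ∀ (l : ℕ) (b : ℕ → ℤ), (∀ i, 1 ≤ i → i ≤ l → 2 ≤ b i) →
    ∃ u : ℕ → ℤ, u (l + 1) = 0 ∧ u l = 1 ∧
      (∀ i, 1 ≤ i → i ≤ l → u (i - 1) = b i * u i - u (i + 1)) ∧
      u 1 < u 0 ∧ 0 ≤ u 1 ∧ IsCoprime (u 0) (u 1) ∧
      (1 ≤ l → 0 < u 1 ∧
        HJFrac.hjVal ((List.range l).map fun i => b (i + 1)) = (u 0 : ℚ) / u 1) := by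
  intro l
  induction l with
  | zero =>
    intro b _
    exact ⟨fun i => if i = 0 then 1 else 0, by simp, by simp, fun i h h' => by omega, by simp, by simp,
      by simp [isCoprime_one_left], fun h => by omega⟩
  | succ l ih =>
    intro b hb
    obtain ⟨v, hv1, hv2, hrec, hlt, hnn, hco, hval⟩ := ih (fun i => b (i + 1))
      (fun i h h' => hb (i + 1) (by omega) (by omega))
    let u : ℕ → ℤ := fun i => Nat.casesOn i (b 1 * v 0 - v 1) v
    have hb1 : 2 ≤ b 1 := hb 1 le_rfl (by omega)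
    refine ⟨u, hv1, hv2, ?_, ?_, ?_, ?_, ?_⟩
    · intro i h h'
      obtain ⟨j, rfl⟩ := Nat.exists_eq_add_of_le' h
      rcases Nat.eq_zero_or_pos j with rfl | hj
      · rfl
      · obtain ⟨k, rfl⟩ := Nat.exists_eq_add_of_le' hj
        exact hrec (k + 1) (by omega) (by omega)
    · show v 0 < b 1 * v 0 - v 1
      nlinarith
    · show 0 ≤ v 0
      omega
    · show IsCoprime (b 1 * v 0 - v 1) (v 0)
      have := (hco.symm.neg_left).add_mul_right_left (b 1)
      rwa [show -v 1 + b 1 * v 0 = b 1 * v 0 - v 1 by ring] at this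
    · intro _
      refine ⟨show 0 < v 0 by omega, ?_⟩
      show _ = ((b 1 * v 0 - v 1 : ℤ) : ℚ) / (v 0 : ℚ)
      rw [List.range_succ_eq_map, List.map_cons, List.map_map, HJFrac.hjVal]
      have h0 : (v 0 : ℚ) ≠ 0 := by exact_mod_cast (show v 0 ≠ 0 by omega)
      rcases Nat.eq_zero_or_pos l with rfl | hl
      · have h1 : v 1 = 0 := hv1
        simp [HJFrac.hjVal, h1]
        field_simp
      · obtain ⟨hpos, hv⟩ := hval hl
        have h1 : (v 1 : ℚ) ≠ 0 := by exact_mod_cast hpos.ne'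
        have e : ((fun i => b (i + 1)) ∘ Nat.succ) = fun i => b (i + 1 + 1) := rfl
        rw [e, hv]
        push_cast
        field_simp

/-- The numerators attached to `n / r`. -/
theorem exists_numer_eq (l : ℕ) (hl : 1 ≤ l) (b : ℕ → ℤ)
    (hb : ∀ i, 1 ≤ i → i ≤ l → 2 ≤ b i)
    (n r : ℕ) (hr : 0 < r) (hcop : Nat.Coprime r n)
    (hhj : (n : ℚ) / r = HJFrac.hjVal ((List.range l).map fun i => b (i + 1)))
    (μ : ℕ → ℤ) (hsys : ∀ i, 1 ≤ i → i ≤ l → b i * μ i = μ (i - 1) + μ (i + 1)) :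
    ∃ u : ℕ → ℤ, u 0 = n ∧ u 1 = r ∧ u (l + 1) = 0 ∧
      ∀ i, i ≤ l → u i * μ (i + 1) - u (i + 1) * μ i = μ (l + 1) := by
  obtain ⟨u, hu1, hu2, hrec, hlt, -, hco, hval⟩ := exists_numer l b hb
  obtain ⟨hpos, hv⟩ := hval hl
  have h1 : ((n : ℤ) : ℚ) / (r : ℤ) = (u 0 : ℚ) / u 1 := by rw [← hv, ← hhj, Int.cast_natCast, Int.cast_natCast]
  rw [div_eq_div_iff (by exact_mod_cast hr.ne') (by exact_mod_cast hpos.ne')] at h1
  have h2 : (n : ℤ) * u 1 = u 0 * r := by exact_mod_cast h1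
  have hd1 : u 1 ∣ (r : ℤ) := hco.symm.dvd_of_dvd_mul_left ⟨n, by linarith⟩
  have hd2 : (r : ℤ) ∣ u 1 :=
    (Nat.isCoprime_iff_coprime.2 hcop).dvd_of_dvd_mul_left ⟨u 0, by linarith⟩
  have hr1 : u 1 = r := Int.dvd_antisymm hpos.le (Int.natCast_nonneg r) hd1 hd2
  have hn0 : u 0 = n := by
    rw [hr1] at h2
    exact (mul_right_cancel₀ (by exact_mod_cast hr.ne') h2).symm
  refine ⟨u, hn0, hr1, hu1, fun i hi => ?_⟩
  induction hd : l - i generalizing i with
  | zero =>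
    obtain rfl : i = l := by omega
    rw [hu1, hu2]; ring
  | succ k ih =>
    have := ih (i + 1) (by omega) (by omega)
    have e1 := hrec (i + 1) (by omega) (by omega)
    have e2 := hsys (i + 1) (by omega) (by omega)
    simp only [Nat.add_sub_cancel] at e1 e2
    linear_combination this + μ (i + 1) * e1 + u (i + 1) * e2

end Groth.Agent.HJ84Mult
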