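import Groth.Statements.S6381
import Mathlib.FieldTheory.IntermediateField.Adjoin.Algebra
import Mathlib.RingTheory.AdjoinRoot
import Mathlib.RingTheory.LocalRing.ResidueField.Ideal
import Mathlib.RingTheory.LocalRing.ResidueField.Instances
import Mathlib

set_option autoImplicit false
universe u
open CAlg
open Polynomial IntermediateField

namespace Groth.Agent.S6381

/-- Let R be a ring, p ⊆ R a prime and L a finite extension of the residue field κ(p). Then one can find
a ring map R → S, with S finite free over R, for which q = pS is a prime of S and the residue field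
κ(q) is isomorphic to L over κ(p) (stated as a ring isomorphism κ(q) ≅ L compatible with the maps
from R, which determines compatibility with κ(p)). -/
theorem result (R : Type u) [CommRing R] (p : Ideal R) [p.IsPrime]
    (L : Type u) [Field L] [Algebra p.ResidueField L] [FiniteDimensional p.ResidueField L]
    [Algebra R L] [IsScalarTower R p.ResidueField L] :
    ∃ (S : Type u) (_ : CommRing S) (_ : Algebra R S) (_ : Module.Finite R S) (_ : Module.Free R S)
      (_ : (p.map (algebraMap R S)).IsPrime)
      (e : (p.map (algebraMap R S)).ResidueField ≃+* L),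
      ∀ r : R, e (algebraMap R (p.map (algebraMap R S)).ResidueField r) = algebraMap R L r := by
  classical
  let κ := p.ResidueField
  have hp0 : ∀ t : R, algebraMap R L t = 0 ↔ t ∈ p := fun t => by
    rw [IsScalarTower.algebraMap_apply R κ L, map_eq_zero, Ideal.algebraMap_residueField_eq_zero]
  let P : IntermediateField κ L → Prop := fun K =>
    ∃ (S : Type u) (_ : CommRing S) (_ : Algebra R S) (_ : Module.Finite R S) (_ : Module.Free R S)
      (φ : S →ₐ[R] L), (∀ a, φ a = 0 → a ∈ p.map (algebraMap R S)) ∧ (∀ a, φ a ∈ K) ∧
      ∀ z ∈ K, ∃ t ∉ p, ∃ a, φ a = algebraMap R L t * z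
  have hP : P ⊤ := by
    refine IntermediateField.induction_on_adjoin P ?_ ?_ ⊤
    · refine ⟨R, inferInstance, inferInstance, inferInstance, inferInstance, Algebra.ofId R L,
        fun a ha => ?_, fun a => ?_, fun z hz => ?_⟩
      · rw [Algebra.algebraMap_self, Ideal.map_id]
        exact (hp0 a).mp ha
      · show algebraMap R L a ∈ (⊥ : IntermediateField κ L)
        rw [IsScalarTower.algebraMap_apply R κ L]
        exact IntermediateField.algebraMap_mem _ _
      · obtain ⟨c, rfl⟩ := IntermediateField.mem_bot.mp hz
        obtain ⟨⟨x, ⟨s, hs⟩⟩, hxs⟩ := IsLocalization.surj (nonZeroDivisors (R ⧸ p)) c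
        obtain ⟨a, rfl⟩ := Ideal.Quotient.mk_surjective x
        obtain ⟨t, rfl⟩ := Ideal.Quotient.mk_surjective s
        have ht : t ∉ p := fun h => nonZeroDivisors.ne_zero hs (Ideal.Quotient.eq_zero_iff_mem.mpr h)
        refine ⟨t, ht, a, ?_⟩
        rw [Ideal.algebraMap_quotient_residueField_mk, Ideal.algebraMap_quotient_residueField_mk] at hxs
        show algebraMap R L a = _
        rw [IsScalarTower.algebraMap_apply R κ L, IsScalarTower.algebraMap_apply R κ L, ← hxs, map_mul, mul_comm]
    · rintro K α ⟨S, _, _, _, _, φ, hker, hmem, hsurj⟩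
      have hint : IsIntegral K α := Algebra.IsIntegral.isIntegral α
      set g := minpoly K α with hg
      set d := g.natDegree with hd
      choose ti hti ai hai using fun i : Fin d => hsurj (g.coeff i : L) (g.coeff i).2
      let r : R := ∏ i, ti i
      have hr : r ∉ p := fun h => by
        obtain ⟨i, -, hi⟩ := (Ideal.IsPrime.prod_mem_iff (p := p)).mp h
        exact hti i hi
      have hb : ∀ i : Fin d, ∃ b : S, φ b = algebraMap R L r ^ (d - (i : ℕ)) * (g.coeff i : L) := fun i => by
        refine ⟨algebraMap R S (r ^ (d - (i : ℕ) - 1) * ∏ j ∈ Finset.univ.erase i, ti j) * ai i, ?_⟩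
        obtain ⟨e, he⟩ : ∃ e, d - (i : ℕ) = e + 1 := ⟨d - (i : ℕ) - 1, by omega⟩
        have hprod : r = (∏ j ∈ Finset.univ.erase i, ti j) * ti i :=
          (Finset.prod_erase_mul _ _ (Finset.mem_univ i)).symm
        rw [map_mul, hai, φ.commutes, he, Nat.add_sub_cancel, pow_succ, ← map_pow, map_mul, map_pow]
        conv_rhs => arg 1; arg 2; rw [hprod, map_mul]
        ring
      choose b hb using hb
      set f : S[X] := X ^ d + ∑ i : Fin d, C (b i) * X ^ (i : ℕ) with hf
      have hfm : f.Monic := monic_X_pow_add ((degree_sum_le _ _).trans_lt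
        ((Finset.sup_lt_iff (WithBot.bot_lt_coe d)).mpr fun j _ => (degree_C_mul_X_pow_le _ _).trans_lt
          (WithBot.coe_lt_coe.mpr j.2)))
      let β : L := algebraMap R L r * α
      have hβ : f.eval₂ φ.toRingHom β = 0 := by
        have h0 : Polynomial.aeval α g = 0 := minpoly.aeval K α
        conv_lhs at h0 => rw [(show g.Monic from minpoly.monic hint).as_sum]
        rw [map_add, map_pow, aeval_X, map_sum] at h0
        rw [hf, eval₂_add, eval₂_X_pow, eval₂_finsetSum]
        have : ∀ i : Fin d, (C (b i) * X ^ (i : ℕ)).eval₂ φ.toRingHom β =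
            algebraMap R L r ^ d * ((g.coeff i : L) * α ^ (i : ℕ)) := fun i => by
          rw [eval₂_mul, eval₂_C, eval₂_X_pow]
          show φ (b i) * β ^ (i : ℕ) = _
          rw [hb, mul_pow, show algebraMap R L r ^ d = algebraMap R L r ^ (d - (i : ℕ)) * algebraMap R L r ^ (i : ℕ) by
            rw [← pow_add, Nat.sub_add_cancel i.2.le]]
          ring
        rw [Finset.sum_congr rfl fun i _ => this i, ← Finset.mul_sum, mul_pow, ← mul_add]
        refine mul_eq_zero_of_right _ ?_
        rw [Fin.sum_univ_eq_sum_range (fun i => (g.coeff i : L) * α ^ i) d]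
        refine Eq.trans ?_ h0
        refine congrArg _ (Finset.sum_congr rfl fun i _ => ?_)
        rw [map_mul, aeval_C, map_pow, aeval_X]
        rfl
      let pb := AdjoinRoot.powerBasis' hfm
      haveI : Module.Free S (AdjoinRoot f) := Module.Free.of_basis pb.basis
      haveI : Module.Finite S (AdjoinRoot f) := Module.Finite.of_basis pb.basis
      haveI : Module.Free R (AdjoinRoot f) := Module.Free.trans (S := S)
      haveI : Module.Finite R (AdjoinRoot f) := Module.Finite.trans S (AdjoinRoot f)
      let ψr := AdjoinRoot.lift φ.toRingHom β hβ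
      have hψc : ∀ x : R, ψr (algebraMap R (AdjoinRoot f) x) = algebraMap R L x := fun x => by
        rw [IsScalarTower.algebraMap_apply R S (AdjoinRoot f), AdjoinRoot.algebraMap_eq, AdjoinRoot.lift_of]
        exact φ.commutes x
      let ψ : AdjoinRoot f →ₐ[R] L := { ψr with commutes' := hψc }
      have hψ : ∀ h : S[X], ψ (AdjoinRoot.mk f h) = h.eval₂ φ.toRingHom β := fun h => AdjoinRoot.lift_mk hβ h
      refine ⟨AdjoinRoot f, inferInstance, inferInstance, inferInstance, inferInstance, ψ, ?_, ?_, ?_⟩
      · intro a ha
        haveI : Nontrivial S := φ.toRingHom.domain_nontrivial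
        obtain ⟨h, rfl⟩ := AdjoinRoot.mk_surjective a
        have hmk : AdjoinRoot.mk f h = AdjoinRoot.mk f (h %ₘ f) := by
          conv_lhs => rw [← modByMonic_add_div h f]
          rw [map_add, map_mul, AdjoinRoot.mk_self, zero_mul, add_zero]
        rw [hmk] at ha ⊢
        set h' := h %ₘ f
        rw [hψ] at ha
        have hh' : ∀ i, h'.coeff i ∈ p.map (algebraMap R S) := by
          intro i
          refine hker _ ?_
          by_contra hne
          have hid : i < d := by
            have hfd : f.natDegree = d := by
              rw [hf, natDegree_eq_of_degree_eq (degree_add_eq_left_of_degree_lt ?_), natDegree_X_pow]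
              rw [degree_X_pow]
              exact (degree_sum_le _ _).trans_lt ((Finset.sup_lt_iff (WithBot.bot_lt_coe d)).mpr fun j _ =>
                (degree_C_mul_X_pow_le _ _).trans_lt (WithBot.coe_lt_coe.mpr j.2))
            by_contra hid
            refine hne ?_
            rw [coeff_eq_zero_of_degree_lt ((degree_modByMonic_lt h hfm).trans_le ?_), map_zero]
            rw [degree_eq_natDegree hfm.ne_zero, hfd]
            exact_mod_cast not_lt.mp hid
          let Q : K[X] := ∑ j : Fin d, C ⟨φ (h'.coeff j) * algebraMap R L r ^ (j : ℕ),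
            K.mul_mem (hmem _) (pow_mem (by rw [← φ.commutes]; exact hmem _) _)⟩ * X ^ (j : ℕ)
          have hQd : Q.degree < d := (degree_sum_le _ _).trans_lt ((Finset.sup_lt_iff (WithBot.bot_lt_coe d)).mpr
            fun j _ => (degree_C_mul_X_pow_le _ _).trans_lt (WithBot.coe_lt_coe.mpr j.2))
          have hQ : Polynomial.aeval α Q = 0 := by
            rw [eval₂_eq_sum_range' φ.toRingHom (n := d) ?_] at ha
            · rw [← ha, map_sum, ← Fin.sum_univ_eq_sum_range (fun j => φ.toRingHom (h'.coeff j) * β ^ j) d]
              refine Finset.sum_congr rfl fun j _ => ?_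
              rw [map_mul, aeval_C, map_pow, aeval_X, mul_pow, ← mul_assoc]
              rfl
            · obtain h0 | h0 := eq_or_ne h' 0
              · rw [h0, natDegree_zero]; omega
              rw [natDegree_lt_iff_degree_lt h0]
              refine (degree_modByMonic_lt h hfm).trans_le ?_
              rw [hf]
              refine (degree_add_le _ _).trans (max_le (degree_X_pow_le d) ?_)
              exact ((degree_sum_le _ _).trans_lt ((Finset.sup_lt_iff (WithBot.bot_lt_coe d)).mpr fun j _ =>
                (degree_C_mul_X_pow_le _ _).trans_lt (WithBot.coe_lt_coe.mpr j.2))).le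
          have hQ0 : Q = 0 := by
            by_contra h0
            have := minpoly.degree_le_of_ne_zero K α h0 hQ
            rw [degree_eq_natDegree (minpoly.ne_zero hint)] at this
            exact absurd (this.trans_lt hQd) (lt_irrefl _)
          have := congrArg (fun q : K[X] => q.coeff i) hQ0
          simp only [Q, finsetSum_coeff, coeff_zero] at this
          rw [Finset.sum_eq_single (⟨i, hid⟩ : Fin d) (fun j _ hj => by
            rw [coeff_C_mul, coeff_X_pow, if_neg (fun e => hj (Fin.ext e.symm)), mul_zero])
            (fun h => absurd (Finset.mem_univ _) h), coeff_C_mul, coeff_X_pow, if_pos rfl, mul_one] at this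
          have h2 := congrArg Subtype.val this
          exact hne ((mul_eq_zero.mp h2).resolve_right (pow_ne_zero _ (mt (hp0 r).mp hr)))
        rw [h'.as_sum_range_C_mul_X_pow, map_sum]
        refine Ideal.sum_mem _ fun i _ => ?_
        rw [map_mul, AdjoinRoot.mk_C]
        refine Ideal.mul_mem_right _ _ ?_
        rw [IsScalarTower.algebraMap_eq R S (AdjoinRoot f), ← Ideal.map_map, AdjoinRoot.algebraMap_eq]
        exact Ideal.mem_map_of_mem _ (hh' i)
      · intro a
        obtain ⟨h, rfl⟩ := AdjoinRoot.mk_surjective a
        rw [hψ, eval₂_eq_sum_range]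
        refine sum_mem fun i _ => mul_mem ?_ (pow_mem (mul_mem ?_ ?_) _)
        · exact IntermediateField.algebraMap_mem K⟮α⟯ (⟨_, hmem _⟩ : K)
        · rw [IsScalarTower.algebraMap_apply R κ L]; exact IntermediateField.algebraMap_mem _ _
        · exact IntermediateField.mem_adjoin_simple_self K α
      · intro z hz
        have hz' : z ∈ Algebra.adjoin K {α} := by
          rw [← IntermediateField.adjoin_simple_toSubalgebra_of_isAlgebraic hint.isAlgebraic]
          exact hz
        induction hz' using Algebra.adjoin_induction with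
        | mem x hx =>
          obtain rfl : x = α := hx
          exact ⟨r, hr, AdjoinRoot.root f, (AdjoinRoot.lift_root hβ)⟩
        | algebraMap c =>
          obtain ⟨t, ht, a, ha⟩ := hsurj c c.2
          exact ⟨t, ht, AdjoinRoot.of f a, (AdjoinRoot.lift_of hβ).trans ha⟩
        | add x y hx hy ihx ihy =>
          obtain ⟨t, ht, a, ha⟩ := ihx ((IntermediateField.adjoin_simple_toSubalgebra_of_isAlgebraic hint.isAlgebraic).symm ▸ hx :)
          obtain ⟨s, hs, c, hc⟩ := ihy ((IntermediateField.adjoin_simple_toSubalgebra_of_isAlgebraic hint.isAlgebraic).symm ▸ hy :)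
          refine ⟨t * s, Ideal.IsPrime.mul_notMem inferInstance ht hs, algebraMap R _ s * a + algebraMap R _ t * c, ?_⟩
          rw [map_add, map_mul ψ, map_mul ψ, ψ.commutes, ψ.commutes, ha, hc, map_mul]
          ring
        | mul x y hx hy ihx ihy =>
          obtain ⟨t, ht, a, ha⟩ := ihx ((IntermediateField.adjoin_simple_toSubalgebra_of_isAlgebraic hint.isAlgebraic).symm ▸ hx :)
          obtain ⟨s, hs, c, hc⟩ := ihy ((IntermediateField.adjoin_simple_toSubalgebra_of_isAlgebraic hint.isAlgebraic).symm ▸ hy :)
          refine ⟨t * s, Ideal.IsPrime.mul_notMem inferInstance ht hs, a * c, ?_⟩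
          rw [map_mul ψ, ha, hc, map_mul]
          ring
  obtain ⟨S, _, _, _, _, φ, hker, -, hsurj⟩ := hP
  have hk : p.map (algebraMap R S) = RingHom.ker φ.toRingHom := by
    refine le_antisymm (Ideal.map_le_iff_le_comap.mpr fun x hx => ?_) (fun a ha => hker a ha)
    show φ (algebraMap R S x) = 0
    rw [φ.commutes]; exact (hp0 x).mpr hx
  haveI hq : (p.map (algebraMap R S)).IsPrime := hk ▸ RingHom.ker_isPrime _
  let e₀ : (p.map (algebraMap R S)).ResidueField →+* L := Ideal.ResidueField.lift _ φ.toRingHom hk.le
    (fun a ha => isUnit_iff_ne_zero.mpr fun h => ha (hker a h))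
  have he : Function.Surjective e₀ := fun z => by
    obtain ⟨t, ht, a, ha⟩ := hsurj z IntermediateField.mem_top
    refine ⟨algebraMap S _ a / algebraMap S _ (algebraMap R S t), ?_⟩
    rw [map_div₀, Ideal.ResidueField.lift_algebraMap, Ideal.ResidueField.lift_algebraMap]
    show φ a / φ (algebraMap R S t) = z
    rw [φ.commutes, ha, mul_div_cancel_left₀ _ (mt (hp0 t).mp ht)]
  refine ⟨S, inferInstance, inferInstance, inferInstance, inferInstance, hq,
    RingEquiv.ofBijective e₀ ⟨e₀.injective, he⟩, fun x => ?_⟩
  show e₀ _ = _
  rw [IsScalarTower.algebraMap_apply R S, Ideal.ResidueField.lift_algebraMap]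
  exact φ.commutes x

end Groth.Agent.S6381
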