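import Groth.Statements.S1266
import Groth.Agent.HP.Torsion
-- import your own Groth.Agent.* helpers here

set_option autoImplicit false
universe u
open FlatMor

namespace Groth.Agent.S1266

attribute [local instance] Algebra.TensorProduct.rightAlgebra

open TensorProduct

theorem exists_mul_pow_mem {A : Type u} [CommRing A] {J p : Ideal A} [p.IsPrime] (hp : p ∈ J.minimalPrimes) {b : A}
    (hb : b ∈ p) : ∃ c ∉ p, ∃ k : ℕ, c * b ^ k ∈ J := by
  by_contra hc
  push Not at hc
  obtain ⟨P, hP, hJP, hd⟩ := Ideal.exists_le_prime_disjoint J (p.primeCompl ⊔ Submonoid.powers b) (by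
    refine Set.disjoint_left.mpr fun v hvJ hv => ?_
    obtain ⟨c, hc', w, ⟨k, rfl⟩, rfl⟩ := Submonoid.mem_sup.mp hv
    exact hc c hc' k hvJ)
  refine Set.disjoint_left.mp hd (hp.2 ⟨hP, hJP⟩ (fun a ha => ?_) hb) (Submonoid.mem_sup_right ⟨1, pow_one b⟩)
  by_contra hap
  exact Set.disjoint_left.mp hd ha (Submonoid.mem_sup_left hap)

theorem result_aux {A B : Type u} [CommRing A] [CommRing B] [Algebra A B] [Algebra.FiniteType A B]
    (T : Submonoid B) (N : Type u) [AddCommGroup N] [Module B N] [Module A N] [IsScalarTower A B N]
    (N0 : Type u) [AddCommGroup N0] [Module B N0] [Module.Finite B N0] (f0 : N0 →ₗ[B] N) [IsLocalizedModule T f0]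
    [Module.Flat A N] (M : Type u) [AddCommGroup M] [Module A M] [Module.Flat A M] (u : N →ₗ[A] M)
    (h : ∀ (p : Ideal A) [p.IsPrime], Function.Injective (u.lTensor p.ResidueField)) :
    FlatCA.UnivInj A u := by
  intro X _ _
  rw [LinearMap.lTensor_inj_iff_rTensor_inj, injective_iff_map_eq_zero]
  intro x hx
  by_contra hne
  let J : Ideal A := LinearMap.ker (LinearMap.toSpanSingleton A (N ⊗[A] X) x)
  have hJ : J ≠ ⊤ := fun htop => hne (by
    have h1 : (1 : A) ∈ J := htop ▸ Submodule.mem_top
    simpa [J] using h1)
  obtain ⟨p, hp⟩ := Ideal.nonempty_minimalPrimes hJ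
  haveI : p.IsPrime := hp.1.1
  let A' := HP.Hp p
  let C := A' ⊗[A] B
  haveI : Algebra.IsPushout A B A' C := Algebra.IsPushout.symm inferInstance
  haveI : IsScalarTower A B C := IsScalarTower.of_algebraMap_eq fun a => by
    show algebraMap A A' a ⊗ₜ[A] (1 : B) = (1 : A') ⊗ₜ[A] algebraMap A B a
    rw [Algebra.algebraMap_eq_smul_one, Algebra.algebraMap_eq_smul_one, TensorProduct.smul_tmul]
  let W := C ⊗[B] N
  let f : C ⊗[B] N0 →ₗ[C] W := f0.baseChange C
  haveI : IsLocalizedModule T (f.restrictScalars B) := by
    haveI h0 : IsLocalizedModule T (AlgebraTensorModule.rTensor B C f0) := inferInstance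
    haveI h1 : IsLocalizedModule T ((AlgebraTensorModule.rTensor B C f0).comp (TensorProduct.comm B C N0).toLinearMap) :=
      IsLocalizedModule.of_linearEquiv_right T _ _
    haveI h2 := IsLocalizedModule.of_linearEquiv T
      ((AlgebraTensorModule.rTensor B C f0).comp (TensorProduct.comm B C N0).toLinearMap)
      (TensorProduct.comm B N C)
    convert h2 using 1
    refine LinearMap.ext fun v => ?_
    induction v with
    | zero => simp
    | tmul a m => simp [f]; rfl
    | add a b ha hb => simp only [map_add, ha, hb]
  haveI : IsLocalizedModule (Algebra.algebraMapSubmonoid C T) f := IsLocalizedModule.of_restrictScalars T f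
  let e : W ≃ₗ[A'] A' ⊗[A] N := Algebra.IsPushout.cancelBaseChange A A' B C N
  haveI : Module.Flat A' W := Module.Flat.of_linearEquiv e
  let u' : W →ₗ[A'] A' ⊗[A] M := (u.baseChange A') ∘ₗ e.toLinearMap
  have hu' : Function.Injective (u'.lTensor (IsLocalRing.ResidueField A')) := by
    let k' := IsLocalRing.ResidueField A'
    have hpk : ∀ a ∈ p, algebraMap A k' a = 0 := fun a ha => by
      rw [IsScalarTower.algebraMap_apply A A' k']
      refine (IsLocalRing.residue_eq_zero_iff _).mpr ?_
      exact ((IsLocalRing.maximalIdeal A').over_def p).le ha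
    let κ := p.ResidueField
    let j : κ →ₐ[A] k' := Ideal.ResidueField.liftₐ p (Algebra.ofId A k') (fun a ha => hpk a ha) fun a ha =>
      IsUnit.mk0 _ fun h0 => ha (((IsLocalRing.maximalIdeal A').over_def p).ge
        ((IsLocalRing.residue_eq_zero_iff _).mp ((IsScalarTower.algebraMap_apply A A' k' a).symm.trans h0)))
    letI : Algebra κ k' := j.toRingHom.toAlgebra
    haveI : IsScalarTower A κ k' := IsScalarTower.of_algebraMap_eq fun a => (j.commutes a).symm
    have h1 : Function.Injective (u.lTensor k') := by
      have h' : Function.Injective ((u.baseChange κ).lTensor k') :=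
        Module.Flat.lTensor_preserves_injective_linearMap (u.baseChange κ) (h p)
      let eN := AlgebraTensorModule.cancelBaseChange A κ κ k' N
      let eM := AlgebraTensorModule.cancelBaseChange A κ κ k' M
      have hcomm : ∀ y, eM ((u.baseChange κ).lTensor k' y) = u.lTensor k' (eN y) := fun y => by
        induction y with
        | zero => simp
        | tmul a b =>
          induction b with
          | zero => simp
          | tmul c n => simp [eN, eM]
          | add c d hc hd => simp only [TensorProduct.tmul_add, map_add, hc, hd]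
        | add c d hc hd => simp only [map_add, hc, hd]
      intro y y' hy
      refine eN.symm.injective (h' (eM.injective ?_))
      rw [hcomm, hcomm, eN.apply_symm_apply, eN.apply_symm_apply, hy]
    let eN := AlgebraTensorModule.cancelBaseChange A A' A' k' N
    let eM := AlgebraTensorModule.cancelBaseChange A A' A' k' M
    have hcomm : ∀ y, eM ((u.baseChange A').lTensor k' y) = u.lTensor k' (eN y) := fun y => by
      induction y with
      | zero => simp
      | tmul a b =>
        induction b with
        | zero => simp
        | tmul c n => simp [eN, eM]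
        | add c d hc hd => simp only [TensorProduct.tmul_add, map_add, hc, hd]
      | add c d hc hd => simp only [map_add, hc, hd]
    rw [LinearMap.lTensor_comp, LinearMap.coe_comp]
    refine Function.Injective.comp ?_ (e.lTensor k').injective
    intro y y' hy
    refine eN.injective (h1 ?_)
    rw [← hcomm, ← hcomm, hy]
  -- the element over the henselization
  let a1 : W ⊗[A'] (A' ⊗[A] X) ≃ₗ[A'] A' ⊗[A] (N ⊗[A] X) :=
    (TensorProduct.congr e (LinearEquiv.refl A' (A' ⊗[A] X))).trans
      ((AlgebraTensorModule.distribBaseChange A A' N X).symm)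
  let x' : W ⊗[A'] (A' ⊗[A] X) := a1.symm ((1 : A') ⊗ₜ[A] x)
  haveI : Module.Flat A A' := inferInstance
  have hx' : x' ≠ 0 := fun h0 => by
    have h1 : (1 : A') ⊗ₜ[A] x = 0 := a1.symm.injective (h0.trans (map_zero _).symm)
    have h2 := RGFlat.map_ann_eq_top x h1
    refine (IsLocalRing.maximalIdeal.isMaximal A').ne_top (top_le_iff.mp (h2.symm.trans_le ?_))
    exact Ideal.map_le_iff_le_comap.mpr (hp.1.2.trans ((IsLocalRing.maximalIdeal A').over_def p).le)
  refine hx' (HP.eq_zero_of_torsion (Algebra.algebraMapSubmonoid C T) f u' hu' x' ?_ fun a ha => ?_)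
  · let a2 : (A' ⊗[A] M) ⊗[A'] (A' ⊗[A] X) ≃ₗ[A'] A' ⊗[A] (M ⊗[A] X) :=
      (AlgebraTensorModule.distribBaseChange A A' M X).symm
    refine a2.injective ?_
    have hcomm : ∀ y, a2 (u'.rTensor (A' ⊗[A] X) y) = (u.rTensor X).lTensor A' (a1 y) := fun y => by
      induction y with
      | zero => simp
      | tmul w y =>
        show (AlgebraTensorModule.distribBaseChange A A' M X).symm ((u.baseChange A') (e w) ⊗ₜ y) =
          (u.rTensor X).lTensor A' ((AlgebraTensorModule.distribBaseChange A A' N X).symm (e w ⊗ₜ y))
        generalize e w = v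
        induction v with
        | zero => simp
        | tmul a n =>
          induction y with
          | zero => simp
          | tmul b z => simp [AlgebraTensorModule.distribBaseChange_symm_tmul]
          | add c d hc hd => simp only [TensorProduct.tmul_add, map_add, hc, hd]
        | add c d hc hd => simp only [TensorProduct.add_tmul, map_add, hc, hd]
      | add c d hc hd => simp only [map_add, hc, hd]
    rw [hcomm, a1.apply_symm_apply, LinearMap.lTensor_tmul, hx, TensorProduct.tmul_zero, map_zero]
  have hrad : ∀ b ∈ p.map (algebraMap A A'), b ∈ Ideal.radical (LinearMap.ker (LinearMap.toSpanSingleton A' (W ⊗[A'] (A' ⊗[A] X)) x')) := by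
    refine Ideal.map_le_iff_le_comap.mpr fun b hb => ?_
    obtain ⟨c, hc, k, hk⟩ := exists_mul_pow_mem hp hb
    obtain ⟨v, hv⟩ := (IsLocalRing.notMem_maximalIdeal.mp
      (fun hmem => hc (((IsLocalRing.maximalIdeal A').over_def p).ge hmem)) : IsUnit (algebraMap A A' c)).exists_left_inv
    refine ⟨k, ?_⟩
    show algebraMap A A' b ^ k • x' = 0
    have h1 : algebraMap A A' (c * b ^ k) • x' = 0 := by
      refine a1.injective ?_
      rw [map_smul, a1.apply_symm_apply, map_zero, algebraMap_smul, TensorProduct.smul_tmul', TensorProduct.smul_tmul,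
        show (c * b ^ k) • x = 0 from hk, TensorProduct.tmul_zero]
    rw [← one_mul (algebraMap A A' b ^ k), ← hv, mul_assoc, ← map_pow, ← map_mul, mul_smul, h1, smul_zero]
  exact hrad a (HP.mem_map_of_mem_max p ha)


open TensorProduct in
/-- Let B be a finitely presented A-algebra, T a multiplicative subset of B, and N a finitely presented
module over the localization T⁻¹B which is flat as an A-module. Let M be a flat A-module and u an
A-linear map from N to M such that u ⊗ κ(p) is injective for every prime p of A. Then u is
universally injective over A. -/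
theorem result {A B : Type u} [CommRing A] [CommRing B] [Algebra A B] [Algebra.FinitePresentation A B]
    (T : Submonoid B) (N : Type u) [AddCommGroup N] [Module (Localization T) N] [Module A N] [IsScalarTower A (Localization T) N]
    [Module.FinitePresentation (Localization T) N] [Module.Flat A N]
    (M : Type u) [AddCommGroup M] [Module A M] [Module.Flat A M] (u : N →ₗ[A] M)
    (h : ∀ (p : Ideal A) [p.IsPrime], Function.Injective (u.lTensor p.ResidueField)) :
    FlatCA.UnivInj A u := by
  letI : Module B N := Module.compHom N (algebraMap B (Localization T))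
  haveI : IsScalarTower B (Localization T) N := IsScalarTower.of_algebraMap_smul fun c x => rfl
  haveI : IsScalarTower A B N := IsScalarTower.of_algebraMap_smul fun a x => by
    show algebraMap B (Localization T) (algebraMap A B a) • x = a • x
    rw [← IsScalarTower.algebraMap_apply, IsScalarTower.algebraMap_smul]
  obtain ⟨r, g, hg⟩ := Module.Finite.exists_fin (R := Localization T) (M := N)
  let N0 := Submodule.span B (Set.range g)
  haveI : Module.Finite B N0 := Module.Finite.span_of_finite B (Set.finite_range g)
  haveI : IsLocalizedModule T N0.subtype := by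
    refine ⟨fun s => ?_, fun y => ?_, fun {a b} hab => ⟨1, by rw [N0.injective_subtype hab]⟩⟩
    · obtain ⟨v, hv⟩ := IsLocalization.map_units (Localization T) s
      refine ⟨⟨algebraMap B (Module.End B N) s,
        (LinearMap.lsmul (Localization T) N (↑v⁻¹ : Localization T)).restrictScalars B, ?_, ?_⟩, rfl⟩
      · ext y
        show (s : B) • ((↑v⁻¹ : Localization T) • y) = y
        rw [← IsScalarTower.algebraMap_smul (Localization T) (s : B), ← mul_smul, ← hv, Units.mul_inv, one_smul]
      · ext y
        show (↑v⁻¹ : Localization T) • ((s : B) • y) = y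
        rw [← IsScalarTower.algebraMap_smul (Localization T) (s : B) y, ← mul_smul, ← hv, Units.inv_mul, one_smul]
    · obtain ⟨c, hc⟩ := (Submodule.mem_span_range_iff_exists_fun (Localization T)).mp (hg.symm ▸ Submodule.mem_top : y ∈ Submodule.span (Localization T) (Set.range g))
      obtain ⟨b, hb⟩ := IsLocalization.exist_integer_multiples T Finset.univ c
      choose a ha using fun i => hb i (Finset.mem_univ i)
      refine ⟨⟨⟨∑ i, a i • g i, Submodule.sum_mem _ fun i _ => Submodule.smul_mem _ _ (Submodule.subset_span ⟨i, rfl⟩)⟩, b⟩, ?_⟩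
      show (b : B) • y = ∑ i, a i • g i
      rw [← hc, Finset.smul_sum]
      refine Finset.sum_congr rfl fun i _ => ?_
      rw [← smul_assoc]
      exact (congrArg (fun z : Localization T => z • g i) (ha i).symm).trans (IsScalarTower.algebraMap_smul _ (a i) (g i))
  exact result_aux T N N0 N0.subtype M u h

end Groth.Agent.S1266
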