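import Groth.Statements.S8983
import Groth.Agent.BlowUp.Basic
-- import your own Groth.Agent.* helpers here

set_option autoImplicit false
universe u
open HTop

namespace Groth.Agent.S8983

open CategoryTheory CategoryTheory.Limits AlgebraicGeometry in
/-- Given an almost blow up square with top right corner X' and a closed immersion W → X' of finite
presentation, the ideal of W lies inside the ideal of sections of the structure sheaf of X'
supported on the exceptional locus E (this single condition expresses both that X' minus E is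
scheme-theoretically contained in W and that the blow up of X in Z is, the two being the same
containment of ideal sheaves here) if and only if replacing X' by W and E by the scheme-theoretic
intersection of E and W gives again an almost blow up square. -/
theorem result {E Z X' X W EW : Scheme.{u}} {e : E ⟶ X'} {π : E ⟶ Z} {b : X' ⟶ X} {i : Z ⟶ X} (h : HTop.IsAlmostBlowUpSquare e π b i) (w : W ⟶ X') [IsClosedImmersion w] [LocallyOfFinitePresentation w] {eW : EW ⟶ W} {gE : EW ⟶ E} (hEW : IsPullback gE eW e w) : w.ker ≤ HTop.supportedOn (i.ker.comap b) ↔ HTop.IsAlmostBlowUpSquare eW (gE ≫ π) (w ≫ b) i := by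
  haveI := h.isClosedImmersion
  haveI := h.finitePresentation
  haveI := h.isProper
  let J := i.ker.comap b
  have hJ : i.ker.comap (w ≫ b) = J.comap w := Scheme.IdealSheafData.comap_comp _ _ _
  have hU : HTop.awayFrom (J.comap w) = w ⁻¹ᵁ HTop.awayFrom J := by
    apply TopologicalSpace.Opens.ext
    simp only [HTop.awayFrom, Scheme.IdealSheafData.support_comap]
    rfl
  have hloc : HTop.IsLocPrincipal (J.comap w) := by
    intro x
    obtain ⟨U, hxU, f, hf⟩ := h.locPrincipal (w.base x)
    refine ⟨⟨w ⁻¹ᵁ U.1, U.2.preimage w⟩, hxU, w.appLE U.1 (w ⁻¹ᵁ U.1) le_rfl f, ?_⟩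
    rw [Groth.Agent.IdealSh.Comap.ideal_comap J w U ⟨w ⁻¹ᵁ U.1, U.2.preimage w⟩ le_rfl, hf,
      Ideal.map_span, Set.image_singleton]
  have hsq : IsPullback eW (gE ≫ π) (w ≫ b) i := (hEW.flip.paste_vert h.isPullback)
  let K := HTop.supportedOn (J.comap w)
  have hKι : (K.subschemeι ≫ w).ker = ((w ∣_ HTop.awayFrom J) ≫ (HTop.awayFrom J).ι).ker := by
    rw [Scheme.Hom.ker_comp, Scheme.IdealSheafData.ker_subschemeι, morphismRestrict_ι]
    show (HTop.awayFrom (J.comap w)).ι.ker.map w = _
    rw [← Scheme.Hom.ker_comp, hU]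
  constructor
  · intro hle
    let l := IsClosedImmersion.lift w (HTop.awayFrom J).ι hle
    have hl : l ≫ w = (HTop.awayFrom J).ι := IsClosedImmersion.lift_fac _ _ _
    haveI : IsIso (w ∣_ HTop.awayFrom J) := by
      let s := (isPullback_morphismRestrict w (HTop.awayFrom J)).lift (𝟙 _) l (by simp [hl])
      have hs : s ≫ w ∣_ HTop.awayFrom J = 𝟙 _ := IsPullback.lift_fst _ _ _ _
      exact ⟨s, by rw [← cancel_mono (w ∣_ HTop.awayFrom J), Category.assoc, hs, Category.id_comp,
        Category.comp_id], hs⟩
    have hker : (K.subschemeι ≫ w).ker = HTop.supportedOn J := by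
      rw [hKι, Scheme.Hom.ker_comp_of_isIso]
      rfl
    let p := IsClosedImmersion.lift (HTop.supportedOn J).subschemeι (K.subschemeι ≫ w)
      (by rw [hker, Scheme.IdealSheafData.ker_subschemeι])
    let q := IsClosedImmersion.lift (K.subschemeι ≫ w) (HTop.supportedOn J).subschemeι
      (by rw [hker, Scheme.IdealSheafData.ker_subschemeι])
    have hp : p ≫ (HTop.supportedOn J).subschemeι = K.subschemeι ≫ w := IsClosedImmersion.lift_fac _ _ _
    have hq : q ≫ K.subschemeι ≫ w = (HTop.supportedOn J).subschemeι := IsClosedImmersion.lift_fac _ _ _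
    let e : K.subscheme ≅ (HTop.supportedOn J).subscheme :=
      ⟨p, q, by rw [← cancel_mono (K.subschemeι ≫ w), Category.assoc, hq, hp, Category.id_comp],
        by rw [← cancel_mono (HTop.supportedOn J).subschemeι, Category.assoc, hp, hq, Category.id_comp]⟩
    refine ⟨h.isClosedImmersion, h.finitePresentation_base, hsq, hJ ▸ hloc, inferInstance, inferInstance, ?_⟩
    rw [hJ, ← Category.assoc, show K.subschemeι ≫ w = e.hom ≫ (HTop.supportedOn J).subschemeι from hp.symm,
      Category.assoc]
    exact Groth.Agent.BlowUp.Basic.isBlowUp_iso_comp h.isBlowUp e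
  · intro h'
    have hb' := h'.isBlowUp
    rw [hJ, ← Category.assoc] at hb'
    let k := IsClosedImmersion.lift (HTop.supportedOn J).subschemeι (K.subschemeι ≫ w) (by
      rw [Scheme.IdealSheafData.ker_subschemeι, hKι]
      exact Scheme.Hom.le_ker_comp _ _)
    have hk : k ≫ (HTop.supportedOn J).subschemeι = K.subschemeι ≫ w := IsClosedImmersion.lift_fac _ _ _
    obtain ⟨e, he⟩ := Groth.Agent.BlowUp.Basic.exists_iso h.isBlowUp hb'
    have hke : k = e.hom := (h.isBlowUp.2 _ _ hb'.1).unique (by rw [← Category.assoc, hk]) he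
    haveI : IsIso k := hke ▸ inferInstance
    calc w.ker ≤ (K.subschemeι ≫ w).ker := Scheme.Hom.le_ker_comp _ _
      _ = (k ≫ (HTop.supportedOn J).subschemeι).ker := by rw [hk]
      _ = HTop.supportedOn J := by rw [Scheme.Hom.ker_comp_of_isIso, Scheme.IdealSheafData.ker_subschemeι]

end Groth.Agent.S8983
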