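import Groth.Statements.S3527
import Groth.Agent.DRing.TorBalance

set_option autoImplicit false
universe u
open HTor

namespace Groth.Agent.S3527

/-- If A is a commutative ring and M is a flat A-module, then Tor_p^A(M, N) = 0 and Tor_p^A(N, M) = 0
for every A-module N and every p ≥ 1. (The published statement is about local hypertor sheaves over
general S, X, Y; in the affine case these are the sheaves attached to Tor_n^A, and only the
resulting statement about A-modules is given here. Tor is Mathlib's, left derived in the second
variable; vanishing is stated as Subsingleton, and both orders are stated.) -/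
theorem result (A : Type u) [CommRing A] (M N : Type u) [AddCommGroup M] [Module A M]
    [AddCommGroup N] [Module A N] [Module.Flat A M] (p : ℕ) (hp : 0 < p) :
    Subsingleton (DRing.Tor A p M N) ∧ Subsingleton (DRing.Tor A p N M) := by
  obtain ⟨k, rfl⟩ : ∃ k, p = k + 1 := ⟨p - 1, by omega⟩
  have h1 := (DRing.TorBalance.hasTorDimLE_zero_iff (A := A) M).2 inferInstance
  refine ⟨h1 N _ hp, ?_⟩
  let R := CategoryTheory.projectiveResolution (ModuleCat.of A M)
  refine (DRing.TorBalance.subsingleton_tor_iff R (ModuleCat.of A N) k).2 ?_
  have hS0 : DRing.KFlat.IsKFlat (DRing.SingleTensor.S0 (ModuleCat.of A M)) := by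
    refine DRing.KFlat.isKFlat_of_boundedAbove_flat _ 0 (fun i hi =>
      HomologicalComplex.isZero_single_obj_X (ComplexShape.up ℤ) 0 _ i (by omega)) fun i => ?_
    rcases eq_or_ne i 0 with rfl | hi
    · exact Module.Flat.of_linearEquiv
        (HomologicalComplex.singleObjXSelf (ComplexShape.up ℤ) 0 (ModuleCat.of A M)).toLinearEquiv
    · have := ModuleCat.subsingleton_of_isZero
        (HomologicalComplex.isZero_single_obj_X (ComplexShape.up ℤ) 0 (ModuleCat.of A M) i hi)
      infer_instance
  rw [DRing.TorAmp.exactAt_tensor_congr (DRing.TorBalance.isKFlat_cochainComplex R) hS0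
    (DRing.TorBalance.resIso R)]
  exact ((DRing.tensorCx _ _).exactAt_iff _).2 (CategoryTheory.ShortComplex.exact_of_isZero_X₂ _
    ((CategoryTheory.MonoidalCategory.tensorRight _).map_isZero
      (HomologicalComplex.isZero_single_obj_X (ComplexShape.up ℤ) 0 _ _ (by omega))))

end Groth.Agent.S3527
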