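import Groth.Statements.S3523
import Groth.Agent.HTor95.Kunneth
import Groth.Agent.S3527


set_option autoImplicit false
universe u
attribute [local instance] HasDerivedCategory.standard
open HTor

namespace Groth.Agent.S3523

open CategoryTheory CategoryTheory.Limits in
/-- (Cochain indexing.) Let A be a ring and L, M complexes of A-modules vanishing in large degrees, with
every term of L flat and every cohomology module H^i(L) flat. Then for every n there is a Künneth
map ⊕_{i+j=n} H^i(L) ⊗_A H^j(M) → H^n(L ⊗_A M), sending [z] ⊗ [z'] to the class of z ⊗ z', and it is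
bijective. -/
theorem result (A : Type u) [CommRing A] (L M : DRing.Cx A)
    (hL : DRing.TermwiseFlat L) (bL : ∃ b : ℤ, DRing.VanishesAbove L b)
    (bM : ∃ b : ℤ, DRing.VanishesAbove M b) (hH : ∀ i : ℤ, Module.Flat A (L.homology i)) (n : ℤ) :
    ∃ Φ : HTor.KunnethSum L M n →ₗ[A] (HTor.tensorCx L M).homology n,
      HTor.IsKunnethMap L M n Φ ∧ Function.Bijective Φ := by
  have key : ∀ (M : DRing.Cx A), (∃ b : ℤ, DRing.VanishesAbove M b) → ∀ n : ℤ,
      Function.Surjective (HTor95.Te.kunneth L M n) := by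
    intro M bM n
    refine HTor95.Filt.kunneth_surjective_of_tor L M n hL bL bM fun p => ?_
    have : ∀ ij : {ij : ℤ × ℤ // ij.1 + ij.2 - ((p + 1 : ℕ) : ℤ) = n},
        Subsingleton (DRing.Tor A (p + 1) (L.homology ij.1.1) (M.homology ij.1.2)) := fun ij => by
      have := hH ij.1.1
      exact (S3527.result A (L.homology ij.1.1) (M.homology ij.1.2) (p + 1) (Nat.succ_pos p)).1
    exact ⟨fun a b => DFinsupp.ext fun i => Subsingleton.elim _ _⟩
  refine ⟨HTor95.Te.kunneth L M n, HTor95.Te.isKunnethMap_kunneth n, ?_, key M bM n⟩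
  obtain ⟨b, hb⟩ := bM
  obtain ⟨m, rfl⟩ : ∃ m, n = m + 1 := ⟨n - 1, by omega⟩
  exact HTor95.Filt.kunneth_injective_of_surjective_next L M m
    (key _ ⟨b, HTor95.Cone.vanishesAbove_next M hb⟩ m)

end Groth.Agent.S3523
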