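import Groth.Statements.S8853
import Groth.Agent.IdealSh.Regular

set_option autoImplicit false
universe u
open CategoryTheory CategoryTheory.Limits AlgebraicGeometry TopologicalSpace
open SDiv

namespace Groth.Agent.S8853

/-- Let Z be a locally principal closed subscheme of a scheme S, with ideal sheaf 𝓘 generated by a
single section on some affine open neighbourhood of each point of its support, and let U be the open
complement of Z. Then the inclusion U ⟶ S is an affine morphism. -/
theorem result {S : Scheme.{u}} (𝓘 : S.IdealSheafData) (h : Curv2.IsLocPrincipal 𝓘) :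
    IsAffineHom (Scheme.Opens.ι 𝓘.support.compl) := by
  refine isAffineHom_of_forall_exists_isAffineOpen _ fun x => ?_
  by_cases hx : x ∈ 𝓘.support
  · obtain ⟨U, hxU, f, hf⟩ := h x hx
    refine ⟨U.1, hxU, U.2, ?_⟩
    rw [← Scheme.Hom.isAffineOpen_iff_of_isOpenImmersion (Scheme.Opens.ι _)]
    convert U.2.basicOpen f using 1
    refine Opens.ext ?_
    rw [IdealSh.Regular.basicOpen_eq_compl_support hf]
    simp [Scheme.Hom.image_preimage_eq_opensRange_inf, Set.diff_eq, Set.inter_comm]
  · obtain ⟨V, hxV, hle⟩ := IdealSh.Comap.exists_affine_le x (𝓘.support.compl : S.Opens) hx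
    refine ⟨V.1, hxV, V.2, ?_⟩
    rw [← Scheme.Hom.isAffineOpen_iff_of_isOpenImmersion (Scheme.Opens.ι _),
      Scheme.Hom.image_preimage_eq_opensRange_inf, Scheme.Opens.opensRange_ι,
      inf_eq_right.mpr hle]
    exact V.2

end Groth.Agent.S8853
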