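import Groth.Statements.S7241
import Groth.Agent.AmpleLib.GenOn
import Groth.Agent.S2297
import Groth.Agent.S9691
import Groth.Agent.ProjTwist.Tensor
import Groth.Agent.Omega.Stalks
import Groth.Agent.HomShEval.QCoh
import Groth.Agent.PinchLib.Modules
import Groth.Agent.PerfTri.Betti
import Groth.Agent.VBLib.Basic
import Groth.Agent.Props.SubExt

set_option linter.style.haveILetI false

set_option autoImplicit false
universe u
open CategoryTheory CategoryTheory.Limits AlgebraicGeometry
attribute [local instance] HasDerivedCategory.standard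
open Perf

namespace Groth.Agent.S7241

open Groth.Agent Groth.Agent.PullStalk.Exact Groth.Agent.PullStalk.Sky Groth.Agent.QCoh CategoryTheory
  CategoryTheory.Limits AlgebraicGeometry

theorem isFinLocFree_of_isInvertible {X : Scheme.{u}} {L : X.Modules} (hL : PicF.IsInvertible L) :
    FlatMod.IsFinLocFree L := fun x =>
  let ⟨U, hx, h⟩ := ProjTwist.isFinLocFreeOfRank_one hL x
  ⟨U, 1, hx, h⟩

/-- A finite type module generated by its sections over preimages of affine opens is a quotient of
the inverse image of a finite locally free module, when the base has the resolution property. -/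
theorem exists_epi_pullback {X Y : Scheme.{u}} (f : X ⟶ Y) [QuasiCompact f] [QuasiSeparated f]
    [CompactSpace Y] [QuasiSeparatedSpace Y] (hY : PerfAux.HasResolutionProperty Y)
    (G : X.Modules) [G.IsQuasicoherent] [SheafOfModules.IsFiniteType.{u} G]
    (hspan : ∀ x : X, ∃ (V : Y.Opens) (hx : f x ∈ V), IsAffineOpen V ∧
      ∀ (W : X.Opens) (hxW : x ∈ W) (m : Γ(G, W)),
        germM G W x hxW m ∈ AmpleLib.spanAt G (O := f ⁻¹ᵁ V) hx) :
    ∃ (E : Y.Modules) (ψ : (Scheme.Modules.pullback f).obj E ⟶ G), FlatMod.IsFinLocFree E ∧ Epi ψ := by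
  classical
  haveI : CompactSpace X := QuasiCompact.compactSpace_of_compactSpace f
  choose V hxV hV hspan using hspan
  -- near each point finitely many sections generate
  have hloc : ∀ x : X, ∃ (U : X.Opens) (T : Finset Γ(G, f ⁻¹ᵁ V x)), x ∈ U ∧ U ≤ f ⁻¹ᵁ V x ∧
      ∀ (y : X) (hy : y ∈ f ⁻¹ᵁ V x), y ∈ U →
        Submodule.span (X.presheaf.stalk y) ((fun σ => germM G (f ⁻¹ᵁ V x) y hy σ) '' (T : Set _)) = ⊤ := by
    intro x
    obtain ⟨W, hW, hxW, hWO⟩ := exists_isAffineOpen_mem_and_subset (X := X) (x := x)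
      (U := f ⁻¹ᵁ V x) (hxV x)
    haveI := QCoh.finite_sections_of_isFiniteType G hW
    obtain ⟨d, m, hm⟩ := Module.Finite.exists_fin (R := Γ(X, W)) (M := Γ(G, W))
    choose U hUW hUO hxU hU using fun i : Fin d =>
      AmpleLib.exists_res_mem_span_on (m i) (hxV x) hxW (hspan x W hxW (m i))
    choose T hT hT' using fun i : Fin d => Submodule.mem_span_finite_of_mem_span (hU i)
    have hTs : ∀ (i : Fin d), ∀ z ∈ T i, ∃ σ, res G (hUO i) σ = z := fun i z hz => hT i hz
    choose σ hσ using hTs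
    let U₀ : X.Opens := W ⊓ (Finset.univ.inf U)
    refine ⟨U₀, Finset.univ.biUnion fun i => (T i).attach.image fun z => σ i z.1 z.2,
      ⟨hxW, ?_⟩, fun z hz => hWO hz.1, fun y hy hyU => ?_⟩
    · have : ∀ s : Finset (Fin d), x ∈ s.inf U := by
        intro s
        induction s using Finset.induction_on with
        | empty => simp
        | insert a s _ ih => rw [Finset.inf_insert]; exact ⟨hxU a, ih⟩
      exact this _
    · rw [eq_top_iff, ← HomShEval.QCoh.span_germ G hW hm hyU.1, Submodule.span_le]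
      rintro _ ⟨i, rfl⟩
      have hyi : y ∈ U i := (Finset.inf_le (Finset.mem_univ i) : Finset.univ.inf U ≤ U i) hyU.2
      have key : ∀ w ∈ Submodule.span Γ(X, U i) (T i : Set Γ(G, U i)),
          germM G (U i) y hyi w ∈ Submodule.span (X.presheaf.stalk y)
            ((fun σ => germM G (f ⁻¹ᵁ V x) y hy σ) ''
              ((Finset.univ.biUnion fun i => (T i).attach.image fun z => σ i z.1 z.2 : Finset _) : Set _)) := by
        intro w hw
        induction hw using Submodule.span_induction with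
        | mem z hz =>
          refine Submodule.subset_span ⟨σ i z hz, ?_, ?_⟩
          · exact Finset.mem_coe.mpr (Finset.mem_biUnion.mpr ⟨i, Finset.mem_univ i,
              Finset.mem_image.mpr ⟨⟨z, hz⟩, Finset.mem_attach _ _, rfl⟩⟩)
          · exact (LimTop.germM_res G (hUO i) (σ i z hz) y hyi).symm.trans
              (congrArg (germM G (U i) y hyi) (hσ i z hz))
        | zero => rw [show germM G (U i) y hyi (0 : Γ(G, U i)) = 0 from map_zero _]; exact zero_mem _
        | add a b _ _ ha hb =>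
          rw [show germM G (U i) y hyi (a + b) = germM G (U i) y hyi a + germM G (U i) y hyi b from map_add _ _ _]
          exact add_mem ha hb
        | smul r a _ ha => rw [germM_smul]; exact Submodule.smul_mem _ _ ha
      have h1 := key _ (hT' i)
      rwa [LimTop.germM_res] at h1
  choose U T hxU hUO hTgen using hloc
  obtain ⟨t, ht⟩ := isCompact_univ.elim_finite_subcover (fun x : X => (U x : Set X))
    (fun x => (U x).2) fun x _ => Set.mem_iUnion.mpr ⟨x, hxU x⟩
  let κ := (x : t) × {g // g ∈ T x.1}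
  let P := (Scheme.Modules.pushforward f).obj G
  haveI : P.IsQuasicoherent := QCoh.isQuasicoherent_pushforward f G
  have hsub : ∀ k : κ, ∃ (E : Y.Modules) (φ : E ⟶ P), FlatMod.IsFinLocFree E ∧
      ∃ t, φ.app (V k.1.1) t = k.2.1 := by
    intro k
    obtain ⟨S, hS, t, ht⟩ := Props.SubExt.exists_sub_through_section P (V k.1.1) (hV k.1.1) k.2.1
    haveI hq : (Props.SubSheaf.sub S).IsQuasicoherent := Props.SubSheaf.isQuasicoherent_sub hS
    obtain ⟨E, π, hE, hπ⟩ := hY _ hq (Props.SubSheaf.isFiniteType_sub hS)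
    haveI := PerfTri.Betti.isQuasicoherent_of_isFinLocFree hE
    obtain ⟨t', ht'⟩ := QCoh.app_surjective_of_epi π (hV k.1.1) t
    refine ⟨E, π ≫ Props.SubSheaf.incl S, hE, t', ?_⟩
    rw [Scheme.Modules.Hom.comp_app, ConcreteCategory.comp_apply, ht', ht]
  choose E φ hE s hs using hsub
  haveI : Fintype κ := inferInstance
  let e := (Fintype.equivFin κ).symm
  haveI : HasFiniteBiproducts Y.Modules := HasFiniteBiproducts.of_hasFiniteProducts
  let E' : Y.Modules := ⨁ fun i : Fin (Fintype.card κ) => E (e i)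
  let Φ : E' ⟶ P := biproduct.desc fun i => φ (e i)
  let adj := Scheme.Modules.pullbackPushforwardAdjunction f
  let ψ : (Scheme.Modules.pullback f).obj E' ⟶ G := (adj.homEquiv E' G).symm Φ
  have hψ : adj.unit.app E' ≫ (Scheme.Modules.pushforward f).map ψ = Φ :=
    (adj.homEquiv_unit E' G ψ).symm.trans ((adj.homEquiv E' G).apply_symm_apply Φ)
  refine ⟨E', ψ, KFlat.LocFree.isFinLocFree_of_iso (biproduct.isoCoproduct _).symm
    (KFlat.TensorLocFree.isFinLocFree_sigma _ Finset.univ
      (fun i hi => absurd (Finset.mem_univ i) hi) fun i => hE (e i)),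
    Omega.Stalks.epi_of_stalk fun y => ?_⟩
  obtain ⟨x, hxt, hyx⟩ := Set.mem_iUnion₂.mp (ht (Set.mem_univ y))
  rw [← LinearMap.range_eq_top, eq_top_iff, ← hTgen x y (hUO x hyx) hyx, Submodule.span_le]
  rintro _ ⟨g, hg, rfl⟩
  have h2 : ∀ k : κ, (k = ⟨⟨x, hxt⟩, ⟨g, hg⟩⟩) → ∃ w, Φ.app (V k.1.1) w = k.2.1 := by
    intro k hk
    obtain ⟨i, hi⟩ := e.surjective k
    subst hi
    refine ⟨(biproduct.ι (fun i : Fin (Fintype.card κ) => E (e i)) i).app _ (s (e i)), ?_⟩
    rw [← ConcreteCategory.comp_apply, ← Scheme.Modules.Hom.comp_app, biproduct.ι_desc]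
    exact hs (e i)
  obtain ⟨w, hw⟩ := h2 _ rfl
  rw [← hψ] at hw
  refine ⟨germM _ (f ⁻¹ᵁ V x) y (hUO x hyx) ((adj.unit.app E').app (V x) w), ?_⟩
  exact (stalkLin_germ ψ (f ⁻¹ᵁ V x) y (hUO x hyx) _).trans (congrArg (germM G (f ⁻¹ᵁ V x) y (hUO x hyx)) hw)

/-- Let f : X ⟶ Y be a morphism of schemes whose target Y is quasi-compact, quasi-separated, and
satisfies the resolution property (every quasi-coherent O_Y-module of finite type is a quotient of a
finite locally free O_Y-module), and suppose there is an f-ample invertible O_X-module L (f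
quasi-compact and L ample on the preimage of every affine open of Y). Then X has the resolution
property. -/
theorem result {X Y : Scheme.{u}} (f : X ⟶ Y) [CompactSpace ↥Y] [QuasiSeparatedSpace ↥Y]
    (hY : PerfAux.HasResolutionProperty Y) (L : X.Modules) (hL : RelAmple.IsRelAmple f L) :
    PerfAux.HasResolutionProperty X := by
  intro F hF hFT
  haveI : QuasiCompact f := hL.1
  haveI : IsSeparated f := S9691.result f L hL
  haveI : CompactSpace X := QuasiCompact.compactSpace_of_compactSpace f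
  obtain ⟨-, hLi, hamp⟩ := AmpleLib.isRelAmple_iff.mp hL
  choose V hVa hxV _ using fun x : X =>
    exists_isAffineOpen_mem_and_subset (X := Y) (x := f x) (U := ⊤) trivial
  obtain ⟨t, ht⟩ := isCompact_univ.elim_finite_subcover
    (fun x : X => ((f ⁻¹ᵁ V x : X.Opens) : Set X)) (fun x => (f ⁻¹ᵁ V x).2)
    fun x _ => Set.mem_iUnion.mpr ⟨x, hxV x⟩
  choose N hN using fun p : t => AmpleLib.eventually_spanAt hLi (hamp ⟨V p.1, hVa p.1⟩)
    (f.isQuasiSeparated_preimage (hVa p.1).isQuasiSeparated) hF hFT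
  obtain ⟨n, hn⟩ : ∃ n, ∀ p, N p ≤ n := Finite.exists_le N
  have hLn := AmpleLib.isInvertible_tensorPow hLi n
  have hcoh := VBLib.isCoh_of_isFinLocFree (isFinLocFree_of_isInvertible hLn)
  haveI : Coh.IsQCoh F := hF
  haveI : Coh.IsQCoh (CohB1.tensorPow L n) := hcoh.1
  haveI : (CohB1.tensorMod F (CohB1.tensorPow L n)).IsQuasicoherent := (S2297.result _ _).1
  haveI : SheafOfModules.IsFiniteType.{u} (CohB1.tensorMod F (CohB1.tensorPow L n)) :=
    (S2297.result _ _).2 hFT hcoh.2
  obtain ⟨E, ψ, hE, hψ⟩ := exists_epi_pullback f hY (CohB1.tensorMod F (CohB1.tensorPow L n)) fun x => by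
    obtain ⟨y, hy, hxy⟩ := Set.mem_iUnion₂.mp (ht (Set.mem_univ x))
    exact ⟨V y, hxy, hVa y, fun W hxW m => hN ⟨y, hy⟩ n (hn _) x hxy W hxW m⟩
  obtain ⟨M, hM, ⟨i⟩⟩ := PicLaw.exists_inverse hLn
  have hS : (ShortComplex.mk (kernel.ι ψ) ψ (kernel.condition ψ)).ShortExact :=
    { exact := ShortComplex.exact_of_f_is_kernel _ (kernelIsKernel ψ) }
  have hS' := ProjTwist.shortExact_tensor hM hS
  haveI : Epi (((DCoh.tensorBi (X := X)).flip.obj M).map ψ) := hS'.epi_g
  let back : CohB1.tensorMod (CohB1.tensorMod F (CohB1.tensorPow L n)) M ≅ F :=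
    ProjTwist.tensAssoc _ _ _ ≪≫ ProjTwist.tensCongr (Iso.refl F) i ≪≫ ProjTwist.tensOne F
  let π : CohB1.tensorMod ((Scheme.Modules.pullback f).obj E) M ⟶ F :=
    ((DCoh.tensorBi (X := X)).flip.obj M).map ψ ≫ back.hom
  refine ⟨_, π, KFlat.TensorLocFree.isFinLocFree_tensM (KFlat.LocFree.isFinLocFree_pull f hE)
    (isFinLocFree_of_isInvertible hM), @epi_comp _ _ _ _ _ _ hS'.epi_g _ (IsIso.epi_of_iso back.hom)⟩

end Groth.Agent.S7241
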