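import Groth.Statements.S9013
import Groth.Agent.S4849
import Groth.Agent.FlatFunSheaf.Basic

set_option autoImplicit false
set_option backward.isDefEq.respectTransparency false
set_option backward.isDefEq.respectTransparency.types false
set_option linter.style.haveILetI false
universe u
open FlatMor

namespace Groth.Agent.S9013

open CategoryTheory CategoryTheory.Limits AlgebraicGeometry Opposite

/-- Flatness of `F_T` read on a flat surjective cover of a stage. -/
theorem key {X S : Scheme.{u}} (f : X ⟶ S) (F : X.Modules) {T₀ : Over S} {W : Scheme.{u}}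
    (w : W ⟶ pullback f T₀.hom) [Flat w] [Surjective w] {T : Over S} (a : T ⟶ T₀) :
    FlatMod.IsFlatOver (PicF.XTproj f T) (FGA.ET f F T) ↔
      FlatMod.IsFlatOver (pullback.snd (w ≫ pullback.snd f T₀.hom) a.left)
        ((Scheme.Modules.pullback (pullback.fst (w ≫ pullback.snd f T₀.hom) a.left)).obj
          ((Scheme.Modules.pullback (w ≫ pullback.fst f T₀.hom)).obj F)) := by
  let W' := pullback (w ≫ pullback.snd f T₀.hom) a.left
  let p : W' ⟶ W := pullback.fst (w ≫ pullback.snd f T₀.hom) a.left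
  let B := Groth.Agent.FlatFunSheaf.isPullback_bcMap f a
  let m : W' ⟶ pullback f T.hom := B.lift (p ≫ w) (pullback.snd _ _)
    (by rw [Category.assoc]; exact pullback.condition)
  have hm1 : m ≫ Groth.Agent.FlatFunSheaf.bcMap f a = p ≫ w := B.lift_fst _ _ _
  have hm2 : m ≫ pullback.snd f T.hom = pullback.snd _ _ := B.lift_snd _ _ _
  have sq : IsPullback p m w (Groth.Agent.FlatFunSheaf.bcMap f a) :=
    IsPullback.of_bot (by rw [hm2]; exact IsPullback.of_hasPullback _ _) hm1.symm B
  haveI : Flat m := MorphismProperty.of_isPullback sq ‹Flat w›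
  haveI : Surjective m := MorphismProperty.of_isPullback sq ‹Surjective w›
  have hq : m ≫ pullback.fst f T.hom = p ≫ w ≫ pullback.fst f T₀.hom := by
    rw [← Groth.Agent.FlatFunSheaf.bcMap_fst f a, reassoc_of% hm1]
  let e : (Scheme.Modules.pullback m).obj (FGA.ET f F T) ≅
      (Scheme.Modules.pullback p).obj ((Scheme.Modules.pullback (w ≫ pullback.fst f T₀.hom)).obj F) :=
    (Groth.Agent.LimTop.compIso m (pullback.fst f T.hom) hq).app F ≪≫
      ((Groth.Agent.LimTop.compIso p (w ≫ pullback.fst f T₀.hom) rfl).app F).symm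
  refine ⟨fun h y => ?_, fun h x => ?_⟩
  · have := (Groth.Agent.FDesc.Stalk.flatOverAt_pullback_iff m (pullback.snd f T.hom) _ y
      (Flat.stalkMap m y)).mpr (h (m y))
    rw [hm2] at this
    exact Groth.Agent.Fibres16.LimCrit.isFlatOverAt_of_iso _ e y this
  · obtain ⟨y, rfl⟩ := m.surjective x
    refine (Groth.Agent.FDesc.Stalk.flatOverAt_pullback_iff m (pullback.snd f T.hom) _ y
      (Flat.stalkMap m y)).mp ?_
    rw [hm2]
    exact Groth.Agent.Fibres16.LimCrit.isFlatOverAt_of_iso _ e.symm y (h y)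

open CategoryTheory CategoryTheory.Limits AlgebraicGeometry Opposite in
/-- For f : X → S quasi-compact and locally of finite presentation and F a quasi-coherent O_X-module of
finite presentation, the functor F_flat on schemes over S (one point on T when F_T is flat over T,
empty otherwise; the subfunctor of the final functor generated by that condition) is limit
preserving: its value on a directed limit of affine schemes over S is the colimit of its values. -/
theorem result {X S : Scheme.{u}} (f : X ⟶ S) [QuasiCompact f] [LocallyOfFinitePresentation f]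
    (F : X.Modules) [Coh.IsQCoh F] (hF : CohB1.IsFP F) :
    AlgSp.IsLimitPreserving
      (FlatFun.genPSp S (fun T => FlatMod.IsFlatOver (PicF.XTproj f T) (FGA.ET f F T))) := by
  intro I _ _ D c hc hD hT
  refine ⟨Types.FilteredColimit.isColimitOf _ _ (fun x => ?_) fun i j xi xj _ => ?_⟩
  · obtain ⟨T₀, (k : c.pt ⟶ T₀), hk⟩ := x.down.down
    have hflat : FlatMod.IsFlatOver (PicF.XTproj f c.pt) (FGA.ET f F c.pt) := fun x =>
      Groth.Agent.Fibres16.LimCrit.isFlatOverAt_of_iso _
        ((Groth.Agent.LimTop.compIso (Groth.Agent.FlatFunSheaf.bcMap f k) (pullback.fst f T₀.hom)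
          (Groth.Agent.FlatFunSheaf.bcMap_fst f k)).app F) x
        (Groth.Agent.FDesc.BaseChangeStalk.flatOverAt_baseChange
          (Groth.Agent.FlatFunSheaf.isPullback_bcMap f k) x _ (hk _))
    let D₀ := D ⋙ Over.forget S
    let c₀ : Cone D₀ := (Over.forget S).mapCone c
    haveI : ∀ i, IsAffine (D₀.obj i) := hD
    haveI : ∀ (i j : I) (φ : i ⟶ j), IsAffineHom (D₀.map φ) := fun _ _ _ => isAffineHom_of_isAffine _
    obtain ⟨i₀⟩ := IsCofiltered.nonempty (C := I)
    let h : pullback f (D.obj i₀).hom ⟶ D₀.obj i₀ := pullback.snd f (D.obj i₀).hom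
    haveI : CompactSpace (pullback f (D.obj i₀).hom : Scheme.{u}) :=
      QuasiCompact.compactSpace_of_compactSpace h
    let 𝒰 := (pullback f (D.obj i₀).hom).affineCover.finiteSubcover
    let W : Scheme.{u} := ∐ fun i => 𝒰.X i
    haveI : ∀ i, IsAffine (𝒰.X i) := fun i => inferInstanceAs (IsAffine (Spec _))
    haveI : IsAffine W := inferInstanceAs (IsAffine (∐ fun i => 𝒰.X i))
    let w : W ⟶ pullback f (D.obj i₀).hom := Sigma.desc 𝒰.f
    haveI : Surjective w := ⟨fun x => by
      obtain ⟨i, y, rfl⟩ := 𝒰.exists_eq x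
      exact ⟨Sigma.ι (fun i => 𝒰.X i) i y, by rw [← Scheme.Hom.comp_apply, Sigma.ι_desc]⟩⟩
    haveI : Flat w := IsZariskiLocalAtSource.sigmaDesc fun i => inferInstance
    haveI : LocallyOfFinitePresentation w := IsZariskiLocalAtSource.sigmaDesc fun i => inferInstance
    let q : W ⟶ X := w ≫ pullback.fst f (D.obj i₀).hom
    obtain ⟨hq₁, hq₂⟩ := Groth.Agent.ConsPairLib.isFP_pullback q F hF
    haveI : Coh.IsQCoh ((Scheme.Modules.pullback q).obj F) := hq₁
    let f₀ : W ⟶ D₀.obj i₀ := w ≫ h
    haveI : IsAffineHom f₀ := isAffineHom_of_isAffine _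
    haveI : LocallyOfFinitePresentation (f₀ ≫ 𝟙 (D₀.obj i₀)) := by rw [Category.comp_id]; infer_instance
    haveI : IsAffineHom (f₀ ≫ 𝟙 (D₀.obj i₀)) := by rw [Category.comp_id]; infer_instance
    obtain ⟨i, φ, Xi, Yi, fi, gi, pY, pX, hYi, hXi, hfl⟩ :=
      (Groth.Agent.S4849.result D₀ c₀ hc i₀ f₀ (𝟙 _) ((Scheme.Modules.pullback q).obj F) hq₂
        (pullback.snd f₀ (c₀.π.app i₀)) (𝟙 c₀.pt) (c₀.π.app i₀) (pullback.fst f₀ (c₀.π.app i₀))
        IsPullback.of_id_snd (IsPullback.of_hasPullback _ _)).1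
        ((key f F w (c.π.app i₀)).1 hflat)
    refine ⟨op i, ⟨⟨D.obj i, 𝟙 _, ?_⟩⟩, @Subsingleton.elim _ (FlatFun.genPSp_subsingleton _ _ _) _ _⟩
    refine (key f F w (D.map φ)).2 fun y => ?_
    let vY : D₀.obj i ⟶ Yi := hYi.lift (D₀.map φ) (𝟙 _) (by simp)
    exact Groth.Agent.S4849.bc hXi (IsPullback.of_hasPullback f₀ (D₀.map φ)) vY (hYi.lift_fst _ _ _)
      (hXi.lift (pullback.fst f₀ (D₀.map φ)) (pullback.snd f₀ (D₀.map φ) ≫ vY)
        (by rw [Category.assoc, hYi.lift_fst]; exact pullback.condition))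
      (hXi.lift_fst _ _ _) (hXi.lift_snd _ _ _) y (hfl _)
  · obtain ⟨k, a, b, -⟩ := IsFilteredOrEmpty.cocone_objs i j
    exact ⟨k, a, b, @Subsingleton.elim _ (FlatFun.genPSp_subsingleton _ _ _) _ _⟩

end Groth.Agent.S9013
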