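import Groth.Statements.S1994
import Groth.Agent.HenGeomInt.PairNoeth
import Groth.Agent.S1958
-- import your own Groth.Agent.* helpers here

set_option autoImplicit false
universe u
open EtAlg

namespace Groth.Agent.S1994

/-- Let (A, I) be a pair with A Noetherian and B a henselization of the pair. Then B is Noetherian and
flat over A, and the induced map of adic completions, from the I-adic completion of A to the IB-adic
completion of B, is bijective. -/
theorem result (A : Type u) [CommRing A] [IsNoetherianRing A] (I : Ideal A)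
    (B : Type u) [CommRing B] [Algebra A B] (hB : Hens2.IsPairHenselization A I B) :
    IsNoetherianRing B ∧ Module.Flat A B ∧
      Function.Bijective (AdicCompletion.map I (Algebra.linearMap A B) :
        AdicCompletion I A → AdicCompletion I B) := by
  haveI : IsNoetherianRing (Groth.Agent.Hens.PairHenselization A I) :=
    Groth.Agent.HenGeomInt.isNoetherianRing_pairHenselization I
  obtain ⟨e⟩ := Groth.Agent.Hens.nonempty_pairHenselization_algEquiv hB
  haveI : IsNoetherianRing B := isNoetherianRing_of_ringEquiv _ e.toRingEquiv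
  obtain ⟨hflat, hbij⟩ := Groth.Agent.S1958.result A I B hB
  refine ⟨inferInstance, hflat, ?_⟩
  have hsm : ∀ n : ℕ, (I ^ n • ⊤ : Submodule A B) = Submodule.restrictScalars A ((I ^ n).map (algebraMap A B)) :=
    fun n => Ideal.smul_top_eq_map (I ^ n)
  have hpt : ∀ n : ℕ, Function.Bijective ((Algebra.linearMap A B).reduceModIdeal (I ^ n)) := fun n => by
    refine ⟨(injective_iff_map_eq_zero _).2 fun x hx => ?_, fun y => ?_⟩
    · obtain ⟨a, rfl⟩ := Submodule.mkQ_surjective _ x
      have h1 : algebraMap A B a ∈ (I ^ n).map (algebraMap A B) := by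
        have h2 : algebraMap A B a ∈ (I ^ n • ⊤ : Submodule A B) := (Submodule.Quotient.mk_eq_zero _).1 hx
        rwa [hsm] at h2
      refine (Submodule.Quotient.mk_eq_zero _).2 ?_
      rw [smul_eq_mul, Ideal.mul_top]
      refine Ideal.Quotient.eq_zero_iff_mem.1 ((hbij n).1 ?_)
      rw [map_zero, Ideal.quotientMap_mk, Ideal.Quotient.eq_zero_iff_mem]
      exact h1
    · obtain ⟨b, rfl⟩ := Submodule.mkQ_surjective _ y
      obtain ⟨x, hx⟩ := (hbij n).2 (Ideal.Quotient.mk _ b)
      obtain ⟨a, rfl⟩ := Ideal.Quotient.mk_surjective x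
      rw [Ideal.quotientMap_mk, Ideal.Quotient.eq] at hx
      refine ⟨Submodule.Quotient.mk a, ?_⟩
      show Submodule.Quotient.mk (algebraMap A B a) = Submodule.Quotient.mk b
      rw [Submodule.Quotient.eq, hsm]
      exact hx
  refine ⟨fun x y h => ?_, fun y => ?_⟩
  · refine AdicCompletion.ext fun n => (hpt n).1 ?_
    rw [← AdicCompletion.map_val_apply, ← AdicCompletion.map_val_apply, h]
  · choose v hv using fun n => (hpt n).2 (y.val n)
    refine ⟨⟨v, fun {m n} hmn => (hpt m).1 ?_⟩, AdicCompletion.ext fun n => ?_⟩
    · rw [hv m, ← y.property hmn, ← hv n]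
      exact (LinearMap.congr_fun (AdicCompletion.transitionMap_comp_reduceModIdeal I (Algebra.linearMap A B) hmn) (v n)).symm
    · rw [AdicCompletion.map_val_apply]
      exact hv n

end Groth.Agent.S1994
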