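import Groth.Statements.S9232
import Groth.Agent.CAlg48.CompletionFS

set_option autoImplicit false
universe u
open CAlg

namespace Groth.Agent.S9232

/-- Suppose A → B is a flat local ring map between Noetherian local rings, the maximal ideal of A
generates that of B, and the residue field map is bijective. Then the induced map between the
completions of A and B (a ring map of the completions compatible with A → B; it is unique since A is
Noetherian) is an isomorphism. -/
theorem result (A B : Type u) [CommRing A]
    [CommRing B] [IsLocalRing A] [IsLocalRing B] [IsNoetherianRing A] [IsNoetherianRing B]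
    [Algebra A B] [IsLocalHom (algebraMap A B)] [Module.Flat A B]
    (hm : Ideal.map (algebraMap A B) (IsLocalRing.maximalIdeal A) = IsLocalRing.maximalIdeal B)
    (hk : Function.Bijective (IsLocalRing.ResidueField.map (algebraMap A B)))
    (ψ : AdicCompletion (IsLocalRing.maximalIdeal A) A →+* AdicCompletion (IsLocalRing.maximalIdeal B) B)
    (hψ : ψ.comp (algebraMap A (AdicCompletion (IsLocalRing.maximalIdeal A) A)) =
      (algebraMap B (AdicCompletion (IsLocalRing.maximalIdeal B) B)).comp (algebraMap A B)) :
    Function.Bijective ψ := by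
  classical
  let m := IsLocalRing.maximalIdeal A
  let n := IsLocalRing.maximalIdeal B
  let φ := algebraMap A B
  have hmn : ∀ k, n ^ k = (m ^ k).map φ := fun k => by rw [Ideal.map_pow, hm]
  haveI := Module.FaithfullyFlat.of_flat_of_isLocalHom (A := A) (B := B)
  have hinj : ∀ k a, φ a ∈ n ^ k → a ∈ m ^ k := fun k a ha => by
    rw [hmn, ← Ideal.mem_comap, Ideal.comap_map_eq_self_of_faithfullyFlat] at ha
    exact ha
  have h1 : ∀ b : B, ∃ a, b - φ a ∈ n := fun b => by
    obtain ⟨r, hr⟩ := hk.2 (IsLocalRing.residue B b)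
    obtain ⟨a, rfl⟩ := IsLocalRing.residue_surjective r
    refine ⟨a, ?_⟩
    rw [← IsLocalRing.residue_eq_zero_iff, map_sub, ← hr, sub_eq_zero]
    exact IsLocalRing.ResidueField.map_residue φ a
  have hsurj : ∀ k b, ∃ a, b - φ a ∈ n ^ k := by
    intro k
    induction k with
    | zero => exact fun b => ⟨0, by simp⟩
    | succ k ih =>
      intro b
      obtain ⟨a, ha⟩ := ih b
      have key : ∀ z ∈ n ^ k, ∀ r : B, ∃ a, r * z - φ a ∈ n ^ (k + 1) := by
        intro z hz
        rw [hmn k] at hz
        induction hz using Submodule.span_induction with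
        | zero => exact fun r => ⟨0, by simp⟩
        | mem x hx =>
          obtain ⟨c, hc, rfl⟩ := hx
          intro r
          obtain ⟨a', ha'⟩ := h1 r
          refine ⟨c * a', ?_⟩
          have : r * φ c - φ (c * a') = φ c * (r - φ a') := by rw [map_mul]; ring
          rw [this, pow_succ]
          exact Ideal.mul_mem_mul (hmn k ▸ Ideal.mem_map_of_mem φ hc) ha'
        | add x y _ _ hx hy =>
          intro r
          obtain ⟨a1, ha1⟩ := hx r
          obtain ⟨a2, ha2⟩ := hy r
          exact ⟨a1 + a2, by simpa [mul_add, add_sub_add_comm] using add_mem ha1 ha2⟩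
        | smul t x _ hx =>
          intro r
          obtain ⟨a1, ha1⟩ := hx (r * t)
          exact ⟨a1, by simpa [mul_assoc] using ha1⟩
      obtain ⟨a', ha'⟩ := key _ ha 1
      refine ⟨a + a', ?_⟩
      rwa [one_mul, sub_sub, ← map_add] at ha'
  have hev : ∀ k (x : AdicCompletion m A), ∃ a, AdicCompletion.evalₐ m k x = Ideal.Quotient.mk _ a ∧
      AdicCompletion.evalₐ n k (ψ x) = Ideal.Quotient.mk _ (φ a) := by
    intro k x
    obtain ⟨a, ha⟩ := CAlg48.CompletionFS.exists_sub_mem m (IsNoetherian.noetherian m) k x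
    have kill : ∀ {S : Type u} [CommRing S] (J : Ideal S) (z : AdicCompletion J S),
        z ∈ (J ^ k).map (algebraMap S (AdicCompletion J S)) → AdicCompletion.evalₐ J k z = 0 := by
      intro S _ J z hz
      refine (show (J ^ k).map (algebraMap S (AdicCompletion J S)) ≤ RingHom.ker (AdicCompletion.evalₐ J k) from ?_) hz
      refine Ideal.map_le_iff_le_comap.2 fun s hs => ?_
      rw [Ideal.mem_comap, RingHom.mem_ker, AlgHom.commutes]
      exact Ideal.Quotient.eq_zero_iff_mem.2 hs
    refine ⟨a, ?_, ?_⟩
    · rw [← sub_eq_zero, ← Ideal.Quotient.algebraMap_eq, ← (AdicCompletion.evalₐ m k).commutes a, ← map_sub]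
      exact kill m _ ha
    · have h2 := Ideal.mem_map_of_mem ψ ha
      rw [Ideal.map_map, hψ, ← Ideal.map_map, ← hmn, map_sub, ← RingHom.comp_apply, hψ, RingHom.comp_apply] at h2
      rw [← sub_eq_zero, ← Ideal.Quotient.algebraMap_eq, ← (AdicCompletion.evalₐ n k).commutes (φ a), ← map_sub]
      exact kill n _ h2
  constructor
  · rw [injective_iff_map_eq_zero]
    intro x hx
    refine AdicCompletion.ext_evalₐ fun k => ?_
    obtain ⟨a, ha, hb⟩ := hev k x
    rw [hx, map_zero, eq_comm, Ideal.Quotient.eq_zero_iff_mem] at hb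
    rw [ha, map_zero]
    exact Ideal.Quotient.eq_zero_iff_mem.2 (hinj k a hb)
  · intro y
    choose b hb using fun k => Ideal.Quotient.mk_surjective (AdicCompletion.evalₐ n k y)
    choose a ha using fun k => hsurj k (b k)
    have hya : ∀ k, AdicCompletion.evalₐ n k y = Ideal.Quotient.mk _ (φ (a k)) := fun k => by
      rw [← hb k]; exact Ideal.Quotient.eq.2 (ha k)
    have hc : ∀ k, a k - a (k + 1) ∈ m ^ k := fun k => by
      refine hinj k _ ?_
      obtain ⟨y', rfl⟩ := AdicCompletion.mk_surjective n B y
      simp only [AdicCompletion.evalₐ_mk, Ideal.Quotient.eq] at hya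
      have h3 := Ideal.Quotient.eq.1 ((AdicCompletion.Ideal.mk_eq_mk n (Nat.le_succ k) y'))
      have h4 := hya k
      have h5 := Ideal.pow_le_pow_right (Nat.le_succ k) (hya (k + 1))
      rw [map_sub]
      have : φ (a k) - φ (a (k + 1)) =
          (y'.val (k + 1) - φ (a (k + 1))) - (y'.val k - φ (a k)) - (y'.val (k + 1) - y'.val k) := by ring
      rw [this]
      exact sub_mem (sub_mem h5 h4) h3
    let x := AdicCompletion.mk m A (AdicCompletion.AdicCauchySequence.mk m A a fun k => by
      rw [SModEq.sub_mem, smul_eq_mul, Ideal.mul_top]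
      exact hc k)
    refine ⟨x, AdicCompletion.ext_evalₐ fun k => ?_⟩
    obtain ⟨a', ha', hb'⟩ := hev k x
    rw [hb', hya k]
    rw [AdicCompletion.evalₐ_mk] at ha'
    refine Ideal.Quotient.eq.2 ?_
    rw [← map_sub, hmn]
    exact Ideal.mem_map_of_mem φ (Ideal.Quotient.eq.1 ha'.symm)

end Groth.Agent.S9232
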