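import Groth.Statements.S16574
import Groth.Agent.Wt.ExtendFinite

set_option autoImplicit false
universe u
open CategoryTheory AlgebraicGeometry
open AffSch

namespace Groth.Agent.S16574

/-- Let A be a commutative ring, U a quasi-compact open subscheme of Spec A and U' → U a finite
morphism. Then there exist a finite A-algebra B and a morphism U' → Spec B such that the square
formed by U' → U, U' → Spec B, Spec B → Spec A and the inclusion of U is cartesian; in particular U'
→ Spec B is the open immersion of the preimage of U. (If U contains the complement of the closed set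
of an ideal I then this preimage contains the complement of the closed set of IB; that clause is
automatic and omitted.) -/
theorem result
    (A : Type u) [CommRing A] (U : (Spec (CommRingCat.of A)).Opens) (hU : IsCompact (U : Set (Spec (CommRingCat.of A))))
    (U' : Scheme.{u}) (g : U' ⟶ (U : Scheme.{u})) [IsFinite g] :
    ∃ (B : Type u) (_ : CommRing B) (_ : Algebra A B) (i : U' ⟶ Spec (CommRingCat.of B)),
      Module.Finite A B ∧ IsPullback i g (Spec.map (CommRingCat.ofHom (algebraMap A B))) U.ι := by
  let S := Spec (CommRingCat.of A)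
  haveI : CompactSpace (U : Scheme.{u}) := isCompact_iff_compactSpace.mp hU
  haveI : QuasiCompact U.ι := quasiCompact_of_compactSpace U.ι
  obtain ⟨Z, j, h, hj, hd, hh, e⟩ := Groth.Agent.Wt.ExtendFinite.exists_openImmersion_finite (g ≫ U.ι)
  haveI := hj
  haveI := hh
  haveI : IsAffine Z := isAffine_of_isAffineHom h
  have hle : Set.range j ⊆ h ⁻¹' (U : Set S) := by
    rintro _ ⟨x, rfl⟩
    show h (j x) ∈ (U : Set S)
    rw [← Scheme.Hom.comp_apply, e]
    exact (g x).2
  -- the image is closed and dense in the preimage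
  let W : Z.Opens := h ⁻¹ᵁ U
  let l : U' ⟶ (W : Scheme.{u}) := IsOpenImmersion.lift W.ι j (by rw [Scheme.Opens.range_ι]; exact hle)
  have hl : l ≫ W.ι = j := IsOpenImmersion.lift_fac _ _ _
  have hl' : l ≫ (h ∣_ U) = g := by
    rw [← cancel_mono U.ι, Category.assoc, morphismRestrict_ι]
    show l ≫ W.ι ≫ h = _
    rw [← Category.assoc, hl, e]
  haveI : IsFinite (l ≫ (h ∣_ U)) := hl'.symm ▸ inferInstance
  haveI : IsFinite l := IsFinite.of_comp l (h ∣_ U)
  have hpre : W.ι ⁻¹' Set.range j = Set.range l := by
    ext w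
    constructor
    · rintro ⟨x, hx⟩
      exact ⟨x, W.ι.isOpenEmbedding.injective (by rw [← Scheme.Hom.comp_apply, hl]; exact hx)⟩
    · rintro ⟨x, rfl⟩
      exact ⟨x, by rw [← Scheme.Hom.comp_apply, hl]⟩
  have hdense : Dense (Set.range l) := hpre ▸ hd.denseRange.preimage W.ι.isOpenEmbedding.isOpenMap
  have hrange : h ⁻¹' (U : Set S) ⊆ Set.range j := fun z hz => by
    have : (⟨z, hz⟩ : W.1) ∈ Set.range l := by
      rw [← l.isClosedMap.isClosed_range.closure_eq]
      exact hdense _
    obtain ⟨x, hx⟩ := this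
    refine ⟨x, ?_⟩
    rw [← hl, Scheme.Hom.comp_apply, hx]
    rfl
  -- the algebra
  obtain ⟨φ, hφ⟩ : ∃ φ, Spec.map φ = Z.isoSpec.inv ≫ h := ⟨_, Spec.map_preimage _⟩
  letI : Algebra A Γ(Z, ⊤) := φ.hom.toAlgebra
  have hfin : IsFinite (Spec.map φ) := by rw [hφ]; infer_instance
  refine ⟨Γ(Z, ⊤), inferInstance, inferInstance, j ≫ Z.isoSpec.hom, (IsFinite.SpecMap_iff (f := φ)).mp hfin, ?_⟩
  show IsPullback (j ≫ Z.isoSpec.hom) g (Spec.map φ) U.ι
  have hP : IsPullback j g h U.ι := by
    refine (IsOpenImmersion.isPullback g j U.ι h e ?_).flip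
    ext z
    constructor
    · intro hz
      have hz' : h z ∈ U := by
        have : h z ∈ U.ι.opensRange := hz
        rwa [Scheme.Opens.opensRange_ι] at this
      exact hrange hz'
    · rintro ⟨x, rfl⟩
      show h (j x) ∈ U.ι.opensRange
      rw [Scheme.Opens.opensRange_ι]
      exact hle ⟨x, rfl⟩
  exact hP.of_iso (Iso.refl _) Z.isoSpec (Iso.refl _) (Iso.refl _) (by simp) (by simp) (by simp [hφ]) (by simp)

end Groth.Agent.S16574
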