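import Groth.Statements.S0262
import Groth.Agent.Hens.PunctGlue
import Groth.Agent.FpqcDesc.Props

set_option linter.style.haveILetI false
set_option backward.isDefEq.respectTransparency false
set_option backward.isDefEq.respectTransparency.types false

set_option autoImplicit false
universe u
open Pi1

namespace Groth.Agent.S0262

open AlgebraicGeometry CategoryTheory CategoryTheory.Limits in
/-- Let A be a Noetherian local ring with completion A^, U the punctured spectrum of A and U' its base
change to Spec A^. A finite etale cover V of U is the restriction of a finite etale cover of Spec A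
if and only if the base change of V to U' is the restriction of a finite etale cover of Spec A^. -/
theorem result (A : Type u) [CommRing A] [IsNoetherianRing A] [IsLocalRing A]
    (V : FEt.Cat (FEt.puncturedSpec A : Scheme.{u})) :
    (∃ Y : FEt.Cat (Spec (CommRingCat.of A)),
      Nonempty ((FEt.restrict (FEt.puncturedSpec A).ι).obj Y ≅ V)) ↔
    (∃ Y' : FEt.Cat (Spec (CommRingCat.of (AdicCompletion (IsLocalRing.maximalIdeal A) A))),
      Nonempty ((FEt.restrict (pullback.snd (FEt.puncturedSpec A).ι
        (Spec.map (CommRingCat.ofHom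
          (algebraMap A (AdicCompletion (IsLocalRing.maximalIdeal A) A)))))).obj Y' ≅
        (FEt.restrict (pullback.fst (FEt.puncturedSpec A).ι
        (Spec.map (CommRingCat.ofHom
          (algebraMap A (AdicCompletion (IsLocalRing.maximalIdeal A) A)))))).obj V)) := by
  let U := FEt.puncturedSpec A
  let π := Spec.map (CommRingCat.ofHom (algebraMap A (AdicCompletion (IsLocalRing.maximalIdeal A) A)))
  let sq : FEt.restrict U.ι ⋙ FEt.restrict (pullback.fst U.ι π) ≅ FEt.restrict π ⋙ FEt.restrict (pullback.snd U.ι π) :=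
    (MorphismProperty.Over.pullbackComp (pullback.fst U.ι π) U.ι _ rfl).symm ≪≫
      MorphismProperty.Over.pullbackCongr pullback.condition ≪≫ MorphismProperty.Over.pullbackComp _ _ _ rfl
  constructor
  · rintro ⟨Y, ⟨φ⟩⟩
    exact ⟨(FEt.restrict π).obj Y, ⟨(sq.app Y).symm ≪≫ (FEt.restrict (pullback.fst U.ι π)).mapIso φ⟩⟩
  · rintro ⟨Y', ⟨φ⟩⟩
    have : IsFinite V.hom := V.prop.1
    have : IsFinite Y'.hom := Y'.prop.1
    let e : (Over.pullback (pullback.fst U.ι π)).obj (Over.mk V.hom) ≅
        (Over.pullback (pullback.snd U.ι π)).obj (Over.mk Y'.hom) :=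
      (MorphismProperty.Over.forget FEt.prop.{u} ⊤ _).mapIso φ.symm
    have : IsFinite (Over.mk V.hom).hom := V.prop.1
    have : IsFinite (Over.mk Y'.hom).hom := Y'.prop.1
    obtain ⟨B, _, _, hfin, ⟨k, hk⟩, c, hc⟩ := Groth.Agent.Hens.PunctGlue.exists_glue (Over.mk V.hom) (Over.mk Y'.hom) e
    let qB := Groth.Agent.Hens.PunctGlue.qB (A := A) B
    have hflat : Module.Flat A (AdicCompletion (IsLocalRing.maximalIdeal A) A) := AdicCompletion.flat_of_isNoetherian _
    have hff : Module.FaithfullyFlat A (AdicCompletion (IsLocalRing.maximalIdeal A) A) :=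
      Module.FaithfullyFlat.of_flat_of_isLocalHom
    have hQ : Groth.Agent.FpqcDesc.FPQC π := by
      refine ⟨⟨⟨?_⟩, (HasRingHomProperty.Spec_iff (P := @Flat)).2 (RingHom.flat_algebraMap_iff.2 hflat)⟩, inferInstance⟩
      exact fun x => PrimeSpectrum.comap_surjective_of_faithfullyFlat (B := AdicCompletion (IsLocalRing.maximalIdeal A) A) x
    have hp : FEt.prop qB := by
      have := Groth.Agent.FpqcDesc.descendsAlong_isFinite.{u}
      exact ⟨MorphismProperty.of_isPullback_of_descendsAlong (Q := Groth.Agent.FpqcDesc.FPQC) hc.flip hQ Y'.prop.1,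
        MorphismProperty.of_isPullback_of_descendsAlong (Q := Groth.Agent.FpqcDesc.FPQC) hc.flip hQ Y'.prop.2⟩
    exact ⟨MorphismProperty.Over.mk _ qB hp,
      ⟨(MorphismProperty.Over.isoMk hk.isoPullback hk.isoPullback_hom_snd).symm⟩⟩

end Groth.Agent.S0262
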