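import Groth.Statements.S2937
import Groth.Agent.FEtCat.PureDescent
import Groth.Agent.FEtCat.UnivHomeo
-- import your own Groth.Agent.* helpers here

set_option backward.isDefEq.respectTransparency.types false

set_option autoImplicit false
universe u
open CategoryTheory AlgebraicGeometry
open Pi1

namespace Groth.Agent.S2937

/-- Restriction along open immersions with the same image are simultaneously equivalences. -/
theorem isEquivalence_congr {A A' B : Scheme.{u}} (j : A ⟶ B) (j' : A' ⟶ B) [IsOpenImmersion j]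
    [IsOpenImmersion j'] (h : Set.range j = Set.range j') (hj : (FEt.restrict j).IsEquivalence) :
    (FEt.restrict j').IsEquivalence := by
  let e := IsOpenImmersion.isoOfRangeEq j' j h.symm
  haveI : (FEt.restrict e.hom).IsEquivalence := FEtCat.UnivHomeo.isEquivalence_restrict e.hom
  have he : j' = e.hom ≫ j := (IsOpenImmersion.isoOfRangeEq_hom_fac j' j h.symm).symm
  haveI := hj
  haveI : (MorphismProperty.Over.pullback FEt.prop.{u} ⊤ j ⋙
      MorphismProperty.Over.pullback FEt.prop.{u} ⊤ e.hom).IsEquivalence :=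
    inferInstanceAs (FEt.restrict j ⋙ FEt.restrict e.hom).IsEquivalence
  exact Functor.isEquivalence_of_iso
    (MorphismProperty.Over.pullbackComp (P := FEt.prop.{u}) (Q := ⊤) e.hom j j' he).symm

theorem range_homOfLE_inf {X : Scheme.{u}} (V U : X.Opens) :
    Set.range (X.homOfLE (inf_le_left : V ⊓ U ≤ V)) = Set.range (V.ι ⁻¹ᵁ U).ι := by
  rw [Scheme.Opens.range_ι]
  ext v
  constructor
  · rintro ⟨w, rfl⟩
    show V.ι (X.homOfLE _ w) ∈ U
    rw [← Scheme.Hom.comp_apply, Scheme.homOfLE_ι]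
    exact w.2.2
  · intro hv
    refine ⟨⟨V.ι v, v.2, hv⟩, V.ι.isOpenEmbedding.injective ?_⟩
    rw [← Scheme.Hom.comp_apply, Scheme.homOfLE_ι]
    rfl

/-- Let X be a locally Noetherian scheme and U an open subscheme such that O_X → i_*O_U is an
isomorphism, equivalently, every local ring of X at a point outside U has depth ≥ 2. Let f : X_1 → X
be faithfully flat and quasi-compact. If the pair (X_1, X_1 − f⁻¹U) is pure (restriction of finite
étale covers from every open V to V ∩ f⁻¹U is an equivalence), then so is (X, X − U). -/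
theorem result (X X₁ : Scheme.{u}) [IsLocallyNoetherian X] (U : X.Opens) (hU : ∀ x : X, x ∉ U → (2 : ℕ∞) ≤ LocCoh.depth (X.presheaf.stalk x) (X.presheaf.stalk x)) (f : X₁ ⟶ X) [Flat f] [Surjective f] [QuasiCompact f] (h : SGA2.IsPurePair X₁ (f ⁻¹ᵁ U)) : SGA2.IsPurePair X U := by
  intro V
  let U' : (V : Scheme.{u}).Opens := V.ι ⁻¹ᵁ U
  refine isEquivalence_congr U'.ι _ (range_homOfLE_inf V U).symm ?_
  have hU' : ∀ y : (V : Scheme.{u}), y ∉ U' →
      (2 : ℕ∞) ≤ LocCoh.depth ((V : Scheme.{u}).presheaf.stalk y) ((V : Scheme.{u}).presheaf.stalk y) := by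
    intro y hy
    refine le_trans (hU (V.ι y) hy) (le_of_eq ?_)
    exact HartogsAffine.depth_congr_ringEquiv (V.stalkIso y).commRingCatIsoToRingEquiv
  obtain ⟨hfull, hfaith⟩ := FEtCat.DepthTwo.full_faithful U' hU'
  haveI : (FEt.restrict U'.ι).EssSurj := by
    refine FEtCat.PureDescent.essSurj U' hU' fun W hW => ?_
    have hW0 : IsAffineOpen (V.ι ''ᵁ W) := hW.image_of_isOpenImmersion _
    have hle0 : V.ι ''ᵁ W ≤ V := V.ι_image_le W
    obtain ⟨I, hI, e⟩ := isCompact_iff_finite_and_eq_biUnion_affineOpens.mp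
      (f.isCompact_preimage hW0.isCompact)
    haveI := hI.to_subtype
    have hTle : ∀ i : I, (i.1.1 : X₁.Opens) ≤ f ⁻¹ᵁ (V.ι ''ᵁ W) := fun i =>
      (le_iSup₂ (f := fun (j : X₁.affineOpens) (_ : j ∈ I) => (j.1 : X₁.Opens)) i.1 i.2).trans e.ge
    have hTV : ∀ i : I, (i.1.1 : X₁.Opens) ≤ f ⁻¹ᵁ V := fun i x hx => hle0 (hTle i hx)
    let g : ∀ i : I, ((i.1.1 : X₁.Opens) : Scheme.{u}) ⟶ (V : Scheme.{u}) := fun i => f.resLE V i.1.1 (hTV i)
    have hg : ∀ (i : I) (t : ((i.1.1 : X₁.Opens) : Scheme.{u})),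
        V.ι (g i t) = f ((i.1.1 : X₁.Opens).ι t) := fun i t => by
      rw [← Scheme.Hom.comp_apply, Scheme.Hom.resLE_comp_ι, Scheme.Hom.comp_apply]
    refine ⟨I, inferInstance, fun i => (i.1.1 : X₁.Opens), g, fun i => i.1.2, fun i => ?_, fun i => ?_, ?_,
      fun i => ?_⟩
    · show Flat (X₁.homOfLE (hTV i) ≫ f ∣_ V)
      infer_instance
    · rintro _ ⟨t, rfl⟩
      obtain ⟨w, hw, hw'⟩ := hTle i t.2
      rwa [← V.ι.isOpenEmbedding.injective (hw'.trans (hg i t).symm)]
    · intro v hv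
      obtain ⟨x, hx⟩ := f.surjective (V.ι v)
      have hxW : x ∈ ((f ⁻¹ᵁ (V.ι ''ᵁ W) : X₁.Opens) : Set X₁) := by
        show f x ∈ V.ι ''ᵁ W
        rw [hx]
        exact ⟨v, hv, rfl⟩
      obtain ⟨i, hi, hxi⟩ : ∃ i ∈ I, x ∈ (i.1 : X₁.Opens) := by
        have := e.le hxW
        simpa only [TopologicalSpace.Opens.mem_iSup, exists_prop] using this
      refine Set.mem_iUnion.mpr ⟨⟨i, hi⟩, ⟨x, hxi⟩, V.ι.isOpenEmbedding.injective ?_⟩
      rw [hg]
      exact hx
    · have hT := h i.1.1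
      have heq : (g i ⁻¹ᵁ U') = (i.1.1 : X₁.Opens).ι ⁻¹ᵁ (f ⁻¹ᵁ U) := by
        rw [← Scheme.Hom.comp_preimage, ← Scheme.Hom.comp_preimage, Scheme.Hom.resLE_comp_ι]
      have := isEquivalence_congr _ (g i ⁻¹ᵁ U').ι ((range_homOfLE_inf _ _).trans (by rw [heq])) hT
      exact this.essSurj
  exact { faithful := hfaith, full := hfull }

end Groth.Agent.S2937
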