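import Groth.Statements.S17949
-- import your own Groth.Agent.* helpers here

set_option autoImplicit false
universe u
open CategoryTheory AlgebraicGeometry Opposite
open HensSch

namespace Groth.Agent.S17949

open CategoryTheory Opposite TopologicalSpace Topology AlgebraicGeometry

/-- The zero ideal gives a Henselian pair. -/
lemma henselianRing_bot (C : Type u) [CommRing C] : HenselianRing C (⊥ : Ideal C) where
  jac := bot_le
  is_henselian f _ a₀ h1 _ := ⟨a₀, by simpa [Polynomial.IsRoot] using h1, by simp⟩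

/-- the congruence, with an arbitrary model of the localization of the quotient -/
lemma exists_congr_aux {A : Type u} [CommRing A] {I : Ideal A} {f : A} {B : Type u} [CommRing B]
    {φ : A →+* B} (h : HensSch.IsHensAway A I f B φ) (C : Type u) [CommRing C] [Algebra (A ⧸ I) C]
    [IsLocalization.Away (Ideal.Quotient.mk I f) C] (b : B) :
    ∃ (n : ℕ) (a : A), b * φ f ^ n - φ a ∈ I.map φ := by
  obtain ⟨hf, -, huniv⟩ := h
  let g₀ : A →+* C := (algebraMap (A ⧸ I) C).comp (Ideal.Quotient.mk I)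
  have hgI : I.map g₀ ≤ ⊥ := Ideal.map_le_iff_le_comap.2 fun i hi => by
    rw [Ideal.mem_comap, Ideal.mem_bot, RingHom.comp_apply, Ideal.Quotient.eq_zero_iff_mem.2 hi, map_zero]
  have hgf : IsUnit (g₀ f) := IsLocalization.Away.algebraMap_isUnit (S := C) (Ideal.Quotient.mk I f)
  obtain ⟨hh, hh', -⟩ := huniv C ⊥ g₀ (henselianRing_bot C) hgI hgf
  let q := Ideal.Quotient.mk (I.map φ)
  let r : (A ⧸ I) →+* B ⧸ I.map φ := Ideal.Quotient.lift I (q.comp φ) fun i hi =>
    Ideal.Quotient.eq_zero_iff_mem.2 (Ideal.mem_map_of_mem φ hi)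
  have hr₀ : ∀ x : A, r (Ideal.Quotient.mk I x) = q (φ x) := fun x => Ideal.Quotient.lift_mk _ _ _
  have hr : IsUnit (r (Ideal.Quotient.mk I f)) := by rw [hr₀]; exact hf.map q
  let k : C →+* B ⧸ I.map φ := IsLocalization.Away.lift (Ideal.Quotient.mk I f) hr
  have hkg : k.comp g₀ = q.comp φ := RingHom.ext fun a => by
    rw [RingHom.comp_apply, RingHom.comp_apply, RingHom.comp_apply, IsLocalization.Away.lift_eq, hr₀]
  obtain ⟨w, -, hu⟩ := huniv (B ⧸ I.map φ) ⊥ (q.comp φ) (henselianRing_bot _)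
    (Ideal.map_le_iff_le_comap.2 fun i hi => by
      rw [Ideal.mem_comap, Ideal.mem_bot]
      exact Ideal.Quotient.eq_zero_iff_mem.2 (Ideal.mem_map_of_mem φ hi)) (hf.map q)
  have hkh : k.comp hh = q := (hu (k.comp hh) ((RingHom.comp_assoc φ hh k).trans ((congrArg k.comp hh').trans hkg))).trans (hu q rfl).symm
  obtain ⟨⟨a₁, t, ⟨n, rfl⟩⟩, ha⟩ := IsLocalization.surj (Submonoid.powers (Ideal.Quotient.mk I f)) (hh b)
  obtain ⟨a, rfl⟩ := Ideal.Quotient.mk_surjective a₁
  refine ⟨n, a, Ideal.Quotient.eq.1 ?_⟩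
  have e1 : ∀ x : A, k (algebraMap (A ⧸ I) C (Ideal.Quotient.mk I x)) = q (φ x) := RingHom.congr_fun hkg
  have e2 : k (hh b) = q b := RingHom.congr_fun hkh b
  have h2 : k (hh b) * k (algebraMap (A ⧸ I) C (Ideal.Quotient.mk I (f ^ n))) =
      k (algebraMap (A ⧸ I) C (Ideal.Quotient.mk I a)) := by
    rw [← map_mul, map_pow]
    exact congrArg k ha
  rw [e1, e1, e2] at h2
  rw [← map_pow, map_mul]
  exact h2

/-- sections of the structure sheaf on a chart are congruent to fractions modulo the ideal -/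
lemma exists_congr_of_isHensAway {A : Type u} [CommRing A] {I : Ideal A} {f : A} {B : Type u} [CommRing B]
    {φ : A →+* B} (h : HensSch.IsHensAway A I f B φ) (b : B) :
    ∃ (n : ℕ) (a : A), b * φ f ^ n - φ a ∈ I.map φ :=
  exists_congr_aux h (Localization.Away (Ideal.Quotient.mk I f)) b

variable {X : LocallyRingedSpace.{u}}

lemma mem_basicOpen_res {U V : Opens X} (i : V ≤ U) (s : X.presheaf.obj (op U)) {x : X} (hx : x ∈ V) :
    x ∈ X.toRingedSpace.basicOpen (X.presheaf.map (homOfLE i).op s) ↔ x ∈ X.toRingedSpace.basicOpen s := by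
  rw [RingedSpace.mem_basicOpen _ _ x hx, RingedSpace.mem_basicOpen _ _ x (i hx)]
  exact Iff.of_eq (congrArg IsUnit (TopCat.Presheaf.germ_res_apply X.presheaf (homOfLE i) x hx s))

/-- the global section attached to an element of the ring -/
noncomputable def globalSec {A : Type u} [CommRing A] (π : X ⟶ HensSch.specLRS A) (a : A) :
    X.presheaf.obj (op ((Opens.map π.base).obj ⊤)) :=
  π.c.app (op ⊤) ((Scheme.ΓSpecIso (CommRingCat.of A)).inv a)

lemma basicOpen_globalSec {A : Type u} [CommRing A] (π : X ⟶ HensSch.specLRS A) (a : A) :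
    X.toRingedSpace.basicOpen (globalSec π a) = HensSch.dOpen π a := by
  refine (LocallyRingedSpace.preimage_basicOpen π _).symm.trans ?_
  exact congrArg (Opens.map π.base).obj (basicOpen_eq_of_affine (R := CommRingCat.of A) a)

lemma isUnit_germ_secMap_iff {A : Type u} [CommRing A] (π : X ⟶ HensSch.specLRS A)
    (U : Opens (PrimeSpectrum A)) (a : A) {x : X} (hx : x ∈ (Opens.map π.base).obj U) :
    IsUnit (X.presheaf.germ _ x hx (HensSch.secMap π U a)) ↔ x ∈ HensSch.dOpen π a := by
  rw [← basicOpen_globalSec π a, ← mem_basicOpen_res (X := X) (V := (Opens.map π.base).obj U)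
    ((Opens.map π.base).monotone le_top) (globalSec π a) hx,
    RingedSpace.mem_basicOpen _ _ x hx]
  rfl

/-- a section over the image of an open immersion -/
lemma exists_section_of_openImmersion {W U : LocallyRingedSpace.{u}} (j : W ⟶ U)
    [LocallyRingedSpace.IsOpenImmersion j] (s : W.presheaf.obj (op ⊤)) (P : Opens U)
    (hP : (P : Set U) = Set.range j.base) :
    ∃ s' : U.presheaf.obj (op P), ∀ w : W, j.base w ∈ U.toRingedSpace.basicOpen s' ↔
      w ∈ W.toRingedSpace.basicOpen s := by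
  have hle : P ≤ (LocallyRingedSpace.IsOpenImmersion.opensFunctor j).obj ⊤ := fun y hy => by
    obtain ⟨w, rfl⟩ : y ∈ Set.range j.base := hP ▸ hy
    exact ⟨w, trivial, rfl⟩
  refine ⟨U.presheaf.map (homOfLE hle).op (LocallyRingedSpace.IsOpenImmersion.invApp j ⊤ s), fun w => ?_⟩
  have hw : j.base w ∈ P := by
    rw [← SetLike.mem_coe, hP]
    exact ⟨w, rfl⟩
  rw [mem_basicOpen_res hle _ hw]
  change w ∈ (Opens.map j.base).obj (U.toRingedSpace.basicOpen (LocallyRingedSpace.IsOpenImmersion.invApp j ⊤ s)) ↔ _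
  rw [LocallyRingedSpace.preimage_basicOpen]
  have h := congr($(LocallyRingedSpace.IsOpenImmersion.invApp_app j ⊤) s)
  simp only [ConcreteCategory.comp_apply] at h
  rw [h]
  exact Iff.of_eq (congrArg (w ∈ ·) (RingedSpace.basicOpen_res_eq W.toRingedSpace _ s))

/-- basic opens of a chart form a basis -/
lemma exists_dOpen_le {A : Type u} [CommRing A] (π : X ⟶ HensSch.specLRS A) (hπ : IsEmbedding π.base)
    {O : Set X} (hO : IsOpen O) {x : X} (hx : x ∈ O) : ∃ f : A, x ∈ HensSch.dOpen π f ∧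
      (HensSch.dOpen π f : Set X) ⊆ O := by
  obtain ⟨O', hO', rfl⟩ := hπ.isInducing.isOpen_iff.1 hO
  obtain ⟨_, ⟨f, rfl⟩, hxf, hf⟩ := PrimeSpectrum.isTopologicalBasis_basic_opens.exists_subset_of_mem_open
    (show π.base x ∈ O' from hx) hO'
  exact ⟨f, hxf, fun y hy => hf hy⟩

/-- Let `X` be a Henselian scheme and let `U = Sph(A, I)`, `V = Sph(B, J)` be affine Henselian opens of
`X` (open immersions `iU`, `iV` of the affine Henselian spectra of Henselian pairs). Then every
point of `U ∩ V` lies in an open subset of `X` which is at the same time the image of a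
distinguished open `D(f) ∩ V(I)` of `U` and the image of a distinguished open `D(g) ∩ V(J)` of `V`. -/
theorem result (X : LocallyRingedSpace.{u}) (hX : HensSch.IsHensScheme X)
    (U V : LocallyRingedSpace.{u}) (iU : U ⟶ X) [LocallyRingedSpace.IsOpenImmersion iU]
    (iV : V ⟶ X) [LocallyRingedSpace.IsOpenImmersion iV]
    (A : Type u) [CommRing A] (I : Ideal A) [HenselianRing A I] (πU : U ⟶ HensSch.specLRS A)
    (hU : HensSch.IsSph A I U πU)
    (B : Type u) [CommRing B] (J : Ideal B) [HenselianRing B J] (πV : V ⟶ HensSch.specLRS B)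
    (hV : HensSch.IsSph B J V πV)
    (x : X) (hxU : x ∈ Set.range iU.base) (hxV : x ∈ Set.range iV.base) :
    ∃ (f : A) (g : B), x ∈ iU.base '' (HensSch.dOpen πU f : Set U) ∧
      iU.base '' (HensSch.dOpen πU f : Set U) = iV.base '' (HensSch.dOpen πV g : Set V) := by
  obtain ⟨hUe, hUr, hUs⟩ := hU
  obtain ⟨hVe, -, -⟩ := hV
  obtain ⟨u, rfl⟩ := hxU
  obtain ⟨v, hv⟩ := hxV
  have hiU : IsOpenEmbedding iU.base := (inferInstance : LocallyRingedSpace.IsOpenImmersion iU).base_open
  have hiV : IsOpenEmbedding iV.base := (inferInstance : LocallyRingedSpace.IsOpenImmersion iV).base_open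
  obtain ⟨f, huf, hf⟩ := exists_dOpen_le πU hUe (hiV.isOpen_range.preimage iU.base.hom.continuous)
    (show iU.base u ∈ Set.range iV.base from ⟨v, hv⟩)
  obtain ⟨g, hvg, hg⟩ := exists_dOpen_le πV hVe
    ((hiU.isOpenMap _ (HensSch.dOpen πU f).isOpen).preimage iV.base.hom.continuous)
    (show iV.base v ∈ iU.base '' (HensSch.dOpen πU f : Set U) from ⟨u, huf, hv.symm⟩)
  let P : Opens U := HensSch.dOpen πU f
  let W := U.restrict P.isOpenEmbedding
  let j : W ⟶ U := U.ofRestrict P.isOpenEmbedding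
  have hj : LocallyRingedSpace.IsOpenImmersion j := inferInstance
  have hjr : (P : Set U) = Set.range j.base := (Subtype.range_coe).symm
  have hWr : Set.range (j ≫ iU).base ⊆ Set.range iV.base := by
    rintro _ ⟨w, rfl⟩
    exact hf w.2
  let l : W ⟶ V := LocallyRingedSpace.IsOpenImmersion.lift iV (j ≫ iU) hWr
  have hl : l ≫ iV = j ≫ iU := LocallyRingedSpace.IsOpenImmersion.lift_fac iV (j ≫ iU) hWr
  have hl' : ∀ w, iV.base (l.base w) = iU.base (j.base w) := fun w =>
    congr($(congrArg (fun φ : W ⟶ X => φ.base) hl) w)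
  obtain ⟨s', hs'⟩ := exists_section_of_openImmersion j (globalSec (l ≫ πV) g) P hjr
  obtain ⟨n, a, ha⟩ := exists_congr_of_isHensAway (hUs f) s'
  refine ⟨f * a, g, ?_⟩
  have key : ∀ y : U, ∀ hy : y ∈ P, y ∈ U.toRingedSpace.basicOpen s' ↔ y ∈ HensSch.dOpen πU a := fun y hy => by
    rw [RingedSpace.mem_basicOpen _ _ y hy, ← isUnit_germ_secMap_iff πU (PrimeSpectrum.basicOpen f) a hy]
    let γ := (U.presheaf.germ _ y hy).hom
    have hfu : IsUnit (γ (HensSch.secMap πU (PrimeSpectrum.basicOpen f) f)) :=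
      (isUnit_germ_secMap_iff πU _ f hy).2 hy
    have hmax : γ (s' * HensSch.secMap πU (PrimeSpectrum.basicOpen f) f ^ n -
        HensSch.secMap πU (PrimeSpectrum.basicOpen f) a) ∈ IsLocalRing.maximalIdeal (U.presheaf.stalk y) := by
      have hle : (I.map (HensSch.secMap πU (PrimeSpectrum.basicOpen f))).map γ ≤
          IsLocalRing.maximalIdeal (U.presheaf.stalk y) := by
        rw [Ideal.map_map, Ideal.map_le_iff_le_comap]
        intro i hi
        rw [Ideal.mem_comap, IsLocalRing.mem_maximalIdeal, mem_nonunits_iff]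
        intro hc
        have h1 : πU.base y ∈ PrimeSpectrum.zeroLocus (I : Set A) := hUr ▸ ⟨y, rfl⟩
        exact (isUnit_germ_secMap_iff πU _ i hy).1 hc (h1 hi)
      exact hle (Ideal.mem_map_of_mem γ ha)
    rw [map_sub, map_mul, map_pow] at hmax
    change IsUnit (γ s') ↔ IsUnit (γ _)
    constructor
    · intro h
      by_contra hc
      have h2 := (IsLocalRing.maximalIdeal _).add_mem hmax ((IsLocalRing.mem_maximalIdeal _).2 hc)
      rw [sub_add_cancel] at h2
      exact h2 (h.mul (hfu.pow n))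
    · intro h
      by_contra hc
      have h2 : γ (HensSch.secMap πU (PrimeSpectrum.basicOpen f) a) ∈
          IsLocalRing.maximalIdeal (U.presheaf.stalk y) := by
        have h3 := (IsLocalRing.maximalIdeal _).sub_mem
          (Ideal.mul_mem_right (γ (HensSch.secMap πU (PrimeSpectrum.basicOpen f) f) ^ n) _
            ((IsLocalRing.mem_maximalIdeal (γ s')).2 hc)) hmax
        rwa [sub_sub_cancel] at h3
      exact h2 h
  have hset : iU.base '' (HensSch.dOpen πU (f * a) : Set U) = iV.base '' (HensSch.dOpen πV g : Set V) := by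
    have hmul : ∀ y : U, y ∈ HensSch.dOpen πU (f * a) ↔ y ∈ P ∧ y ∈ HensSch.dOpen πU a := fun y => by
      change πU.base y ∈ PrimeSpectrum.basicOpen (f * a) ↔ _
      rw [PrimeSpectrum.basicOpen_mul]
      rfl
    have hW : ∀ w : W, j.base w ∈ HensSch.dOpen πU a ↔ l.base w ∈ HensSch.dOpen πV g := fun w => by
      refine (key (j.base w) w.2).symm.trans ((hs' w).trans ?_)
      exact Iff.of_eq (congrArg (w ∈ ·) (basicOpen_globalSec (l ≫ πV) g))
    ext z
    constructor
    · rintro ⟨y, hy, rfl⟩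
      obtain ⟨hyP, hya⟩ := (hmul y).1 hy
      exact ⟨l.base ⟨y, hyP⟩, (hW ⟨y, hyP⟩).1 hya, hl' ⟨y, hyP⟩⟩
    · rintro ⟨t, ht, rfl⟩
      obtain ⟨y, hyP, hyt⟩ := hg ht
      refine ⟨y, (hmul y).2 ⟨hyP, (hW ⟨y, hyP⟩).2 ?_⟩, hyt⟩
      rw [show l.base ⟨y, hyP⟩ = t from hiV.injective ((hl' ⟨y, hyP⟩).trans hyt)]
      exact ht
  refine ⟨?_, hset⟩
  rw [hset]
  exact ⟨v, hvg, hv⟩

end Groth.Agent.S17949
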