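import Groth.Statements.S9125
import Groth.Agent.PtTop.Catenary
import Mathlib.RingTheory.Spectrum.Prime.RingHom

open Groth.Agent.PtTop.Catenary


set_option autoImplicit false
universe u
open CAlg

namespace Groth.Agent.S9125

/-- A quotient of a catenary ring is catenary. -/
theorem result (A : Type u) [CommRing A] (I : Ideal A)
    (hA : CAlg.IsCatenary A) : CAlg.IsCatenary (A ⧸ I) := by
  refine (cat_iff_isCatenary _).mpr (((cat_iff_isCatenary A).mp hA).of_embedding
    ((I.primeSpectrumQuotientOrderIsoZeroLocus.toOrderEmbedding).trans (OrderEmbedding.subtype _)) ?_)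
  have : Set.range ((I.primeSpectrumQuotientOrderIsoZeroLocus.toOrderEmbedding).trans
      (OrderEmbedding.subtype _)) = PrimeSpectrum.zeroLocus (I : Set A) := by
    ext x
    exact ⟨by rintro ⟨y, rfl⟩; exact (I.primeSpectrumQuotientOrderIsoZeroLocus y).2,
      fun hx => ⟨I.primeSpectrumQuotientOrderIsoZeroLocus.symm ⟨x, hx⟩, by simp⟩⟩
  rw [this]
  exact ⟨fun p hp q _ x hx => Set.Subset.trans hp hx.1⟩

end Groth.Agent.S9125
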