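import Groth.Statements.S2474
import Groth.Agent.AdicFS.SemiLocalIC
import Groth.Agent.RegLoc.Completion

set_option autoImplicit false
universe u
open EGA41

namespace Groth.Agent.S2474

open IsLocalRing in
/-- Let A be a Noetherian local domain with fraction field K, K' a finite extension of K and A' the
integral closure of A in K'. Then A' has only finitely many maximal ideals, and for every maximal
ideal 𝔪' of A' the field A'/𝔪' is a finite extension of the residue field of A (equivalently a
finite A-module). -/
theorem result {A K' : Type u} [CommRing A] [IsDomain A] [IsLocalRing A] [IsNoetherianRing A]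
    [Field K'] [Algebra A K'] [Algebra (FractionRing A) K'] [IsScalarTower A (FractionRing A) K'] [FiniteDimensional (FractionRing A) K'] :
    {m : Ideal (integralClosure A K') | m.IsMaximal}.Finite ∧
      ∀ (m : Ideal (integralClosure A K')), m.IsMaximal → Module.Finite A (integralClosure A K' ⧸ m) := by
  classical
  let C := AdicCompletion (maximalIdeal A) A
  haveI : IsNoetherianRing C := RegLoc.Completion.isNoetherianRing_adicCompletion' _
  have hres : Function.Surjective ((residue C).comp (algebraMap A C)) := by
    intro y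
    obtain ⟨z, hz⟩ := (AdicCompletion.residueField_map_bijective_of_fg (maximalIdeal A).fg_of_isNoetherianRing).2 y
    obtain ⟨a, rfl⟩ := residue_surjective z
    exact ⟨a, hz⟩
  obtain ⟨ι, _, D, _, _, hDf, g, hg, hdet⟩ := AdicFS.SemiLocalIC.exists_detect (K' := K') hres
  haveI : ∀ i, Finite {N : Ideal (D i) | N.IsMaximal} := fun i =>
    (AdicFS.SemiLocalIC.finite_setOf_isMaximal C (D i)).to_subtype
  have key : ∀ n : Ideal (integralClosure A K'), n.IsMaximal →
      ∃ j : Σ i, {N : Ideal (D i) | N.IsMaximal}, (j.2 : Ideal (D j.1)).comap (g j.1) = n := by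
    intro n hn
    by_contra hne
    push Not at hne
    have hx : ∀ j : Σ i, {N : Ideal (D i) | N.IsMaximal}, ∃ x, ¬ (g j.1 x ∈ (j.2 : Ideal (D j.1)) ↔ x ∈ n) := by
      intro j
      by_contra h
      push Not at h
      exact hne j (Ideal.ext h)
    choose x hx using hx
    haveI := Fintype.ofFinite (Σ i, {N : Ideal (D i) | N.IsMaximal})
    obtain ⟨i, N, hN, h⟩ := hdet n hn (Finset.univ.image x)
    exact hx ⟨i, N, hN⟩ (h _ (Finset.mem_image_of_mem _ (Finset.mem_univ _)))
  refine ⟨(Set.finite_range fun j : Σ i, {N : Ideal (D i) | N.IsMaximal} =>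
      (j.2 : Ideal (D j.1)).comap (g j.1)).subset fun n hn => key n hn, fun n hn => ?_⟩
  obtain ⟨⟨i, N, hN⟩, rfl⟩ := key n hn
  haveI : (N : Ideal (D i)).IsMaximal := hN
  letI : Algebra A (D i ⧸ N) := ((Ideal.Quotient.mk N).comp ((algebraMap C (D i)).comp (algebraMap A C))).toAlgebra
  let φ : (integralClosure A K') →ₐ[A] D i ⧸ N :=
    { toRingHom := (Ideal.Quotient.mk N).comp (g i)
      commutes' := fun a => congrArg (Ideal.Quotient.mk N) (hg i a) }
  have hm : ∀ c ∈ maximalIdeal C, algebraMap C (D i) c ∈ N := fun c hc => by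
    haveI : Algebra.IsIntegral C (D i) := Algebra.IsIntegral.of_finite C (D i)
    have h := IsLocalRing.eq_maximalIdeal (Ideal.isMaximal_comap_of_isIntegral_of_isMaximal (R := C) N)
    exact Ideal.mem_comap.mp (h.ge hc)
  haveI : Module.Finite A (D i ⧸ N) := by
    obtain ⟨m, t, ht⟩ := Module.Finite.exists_fin (R := C) (M := D i)
    refine Module.Finite.of_surjective (Fintype.linearCombination A fun j => Ideal.Quotient.mk N (t j)) fun y => ?_
    obtain ⟨y, rfl⟩ := Ideal.Quotient.mk_surjective y
    obtain ⟨c, hc⟩ := (Submodule.mem_span_range_iff_exists_fun C).mp (ht.ge (Submodule.mem_top (x := y)))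
    choose a ha using fun j => hres (residue C (c j))
    refine ⟨a, ?_⟩
    rw [Fintype.linearCombination_apply, ← hc, map_sum]
    refine Finset.sum_congr rfl fun j _ => ?_
    rw [Algebra.smul_def, Algebra.smul_def, map_mul]
    congr 1
    show Ideal.Quotient.mk N (algebraMap C (D i) (algebraMap A C (a j))) = _
    rw [Ideal.Quotient.eq, ← map_sub]
    refine hm _ ?_
    rw [← residue_eq_zero_iff, map_sub, sub_eq_zero]
    exact ha j
  haveI : IsNoetherian A (D i ⧸ N) := isNoetherian_of_isNoetherianRing_of_finite A _
  have hle : ∀ x ∈ N.comap (g i), φ x = 0 := fun x hx => Ideal.Quotient.eq_zero_iff_mem.mpr hx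
  refine Module.Finite.of_injective (Ideal.Quotient.liftₐ (N.comap (g i)) φ hle).toLinearMap ?_
  exact RingHom.lift_injective_of_ker_le_ideal (N.comap (g i)) hle
    fun x hx => Ideal.mem_comap.mpr (Ideal.Quotient.eq_zero_iff_mem.mp hx)

end Groth.Agent.S2474
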