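import Groth.Statements.S12907
import Groth.Agent.CAlgMisc.HilbertBurch

set_option autoImplicit false
universe u
open CAlgX Matrix

namespace Groth.Agent.S12907

open CAlgMisc.HB in
/-- No associated prime of `R ⧸ xR` contains the maximal minors. -/
theorem not_le_associatedPrime {R : Type u} [CommRing R] [IsNoetherianRing R] {m n : ℕ}
    (Ψ : Matrix (Fin n) (Fin m) R) (π : (Fin n → R) →ₗ[R] R)
    (hΨ : Function.Injective Ψ.mulVecLin) (hex : LinearMap.ker π = LinearMap.range Ψ.mulVecLin)
    {x : R} (hx : ∀ z, x * z = 0 → z = 0) :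
    ∀ P ∈ associatedPrimes R (QuotSMulTop x R), ¬ CAlgX.minorIdeal Ψ m ≤ P := by
  intro P hP hle
  rw [AssociatedPrimes.mem_iff, isAssociatedPrime_iff] at hP
  obtain ⟨hprime, z, hz⟩ := hP
  obtain ⟨z, rfl⟩ := Submodule.Quotient.mk_surjective _ z
  have hmem : ∀ a, a ∈ P ↔ x ∣ a * z := fun a => by
    rw [hz, Submodule.mem_colon_singleton, Submodule.mem_bot, ← Submodule.Quotient.mk_smul,
      Submodule.Quotient.mk_eq_zero, Submodule.mem_smul_pointwise_iff_exists]
    simp [dvd_iff_exists_eq_mul_right, eq_comm]
  haveI := hprime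
  let q := Ideal.Quotient.mk P
  have hnot : ¬ Function.Injective (Ψ.map q).mulVecLin := by
    rw [CAlgMisc.injective_iff]
    intro h
    have hb : CAlgX.minorIdeal (Ψ.map q) m = ⊥ := by
      rw [CAlgX.minorIdeal, Ideal.span_eq_bot]
      rintro _ ⟨⟨f, g⟩, rfl⟩
      change ((Ψ.map q).submatrix f g).det = 0
      rw [show (Ψ.map q).submatrix f g = q.mapMatrix (Ψ.submatrix f g) from rfl, ← RingHom.map_det]
      exact Ideal.Quotient.eq_zero_iff_mem.2 (hle (Ideal.subset_span ⟨(f, g), rfl⟩))
    rw [hb, Submodule.annihilator_bot] at h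
    exact top_ne_bot h
  rw [injective_iff_map_eq_zero] at hnot
  push Not at hnot
  obtain ⟨ub, hub, hub0⟩ := hnot
  choose u hu using fun j => Ideal.Quotient.mk_surjective (ub j)
  have hΨu : ∀ i, (Ψ *ᵥ u) i ∈ P := fun i => by
    rw [← Ideal.Quotient.eq_zero_iff_mem]
    have h1 := congrFun hub i
    rw [Matrix.mulVecLin_apply, Pi.zero_apply] at h1
    rw [RingHom.map_mulVec, ← h1]
    congr 1
    funext j; exact hu j
  choose w hw using fun i => (hmem _).1 (hΨu i)
  have hxw : x • w = Ψ *ᵥ (z • u) := by
    funext i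
    rw [Matrix.mulVec_smul, Pi.smul_apply, Pi.smul_apply, smul_eq_mul, smul_eq_mul, mul_comm z]
    exact (hw i).symm
  have hw0 : w ∈ LinearMap.ker π := hx _ (by
    rw [← smul_eq_mul, ← map_smul, hxw, ← LinearMap.mem_ker, hex]
    exact ⟨_, rfl⟩)
  rw [hex] at hw0
  obtain ⟨u', rfl⟩ := hw0
  have hzu : x • u' = z • u := hΨ (by rw [map_smul, hxw]; rfl)
  obtain ⟨j, hj⟩ : ∃ j, ub j ≠ 0 := Function.ne_iff.1 hub0
  refine hj ?_
  rw [← hu j, Ideal.Quotient.eq_zero_iff_mem, hmem, mul_comm]
  exact ⟨u' j, (congrFun hzu j).symm⟩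


/-- Let R be a Noetherian ring and I a nonzero ideal admitting a free resolution 0 → R^m → R^n → I → 0:
an injective matrix Ψ with n rows and m columns, and a linear map π : R^n → R with image I whose
kernel is the image of Ψ. Then n = m + 1; there is a non-zero-divisor a with I = a · I_m(Ψ), where
I_m(Ψ) is the ideal generated by the m × m minors of Ψ; and the I_m(Ψ)-depth of R is at least 2.
(The published statement also asserts that this depth is exactly 2; only the lower bound is stated
here. The hypothesis that I is nonzero is implicit in the published statement.) -/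
theorem result {R : Type u} [CommRing R] [IsNoetherianRing R] (m n : ℕ)
    (Ψ : Matrix (Fin n) (Fin m) R) (π : (Fin n → R) →ₗ[R] R)
    (hΨ : LinearMap.ker Ψ.mulVecLin = ⊥) (hex : LinearMap.ker π = LinearMap.range Ψ.mulVecLin)
    (hI : LinearMap.range π ≠ ⊥) :
    n = m + 1 ∧
      (∃ a : R, a ∈ nonZeroDivisors R ∧ LinearMap.range π = Ideal.span {a} * CAlgX.minorIdeal Ψ m) ∧
      2 ≤ LocCoh.idealDepth (CAlgX.minorIdeal Ψ m) R := by
  classical
  have hinj : Function.Injective Ψ.mulVecLin := LinearMap.ker_eq_bot.1 hΨ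
  have hann := (CAlgMisc.injective_iff Ψ).1 hinj
  have hone : ∀ z : R, (∀ x ∈ CAlgX.minorIdeal Ψ m, x * z = 0) → z = 0 := fun z hz => by
    have : z ∈ (CAlgX.minorIdeal Ψ m).annihilator :=
      Submodule.mem_annihilator.2 fun x hx => by rw [smul_eq_mul, mul_comm, hz x hx]
    rwa [hann, Submodule.mem_bot] at this
  have hπ0 : ∀ u, π (Ψ *ᵥ u) = 0 := fun u => by
    rw [← LinearMap.mem_ker, hex]; exact ⟨u, rfl⟩
  have hImg : ∀ v, π v = 0 → ∃ u, Ψ *ᵥ u = v := fun v hv => by
    rw [← LinearMap.mem_ker, hex] at hv; exact hv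
  -- `n = m + 1`
  have hgt : m < n := by
    by_contra hle
    refine hI (LinearMap.range_eq_bot.2 (LinearMap.ext fun v => hone _ fun x hx => ?_))
    change x * π v = 0
    induction hx using Submodule.span_induction with
    | mem x hx =>
      obtain ⟨⟨f, g⟩, rfl⟩ := hx
      change (Ψ.submatrix f g).det * π v = 0
      by_cases hf : Function.Injective f
      · by_cases hg : Function.Injective g
        · have hfb : Function.Surjective f := by
            have hc := Fintype.card_le_of_injective f hf
            simp at hc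
            exact ((Fintype.bijective_iff_injective_and_card f).2 ⟨hf, by simp; omega⟩).2
          -- square case: `det • v` is in the image
          let u' := (Ψ.submatrix f g).adjugate *ᵥ (v ∘ f)
          let eg := Equiv.ofBijective g (Finite.injective_iff_bijective.1 hg)
          have hu : Ψ *ᵥ (u' ∘ eg.symm) = (Ψ.submatrix f g).det • v := by
            funext i
            obtain ⟨k, rfl⟩ := hfb i
            have := congrFun (show (Ψ.submatrix f g) *ᵥ u' = (Ψ.submatrix f g).det • (v ∘ f) by
              rw [Matrix.mulVec_mulVec, Matrix.mul_adjugate, Matrix.smul_mulVec, Matrix.one_mulVec]) k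
            rw [Pi.smul_apply] at this
            rw [Pi.smul_apply, show v (f k) = (v ∘ f) k from rfl, ← this]
            refine (eg.sum_comp (fun j => Ψ (f k) j * (u' ∘ eg.symm) j)).symm.trans ?_
            exact Finset.sum_congr rfl fun j _ => by simp [eg]
          rw [← smul_eq_mul, ← map_smul, ← hu, hπ0]
        · obtain ⟨i, j, hij, hne⟩ : ∃ i j, g i = g j ∧ i ≠ j := by
            simpa [Function.Injective] using hg
          rw [Matrix.det_zero_of_column_eq hne (fun k => by simp [hij]), zero_mul]
      · obtain ⟨i, j, hij, hne⟩ : ∃ i j, f i = f j ∧ i ≠ j := by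
          simpa [Function.Injective] using hf
        rw [Matrix.det_zero_of_row_eq hne (funext fun k => by simp [hij]), zero_mul]
    | zero => simp
    | add x y _ _ hx hy => rw [add_mul, hx, hy, add_zero]
    | smul c x _ hx => rw [smul_eq_mul, mul_assoc, hx, mul_zero]
  let r : Fin n → R := fun j => π (Pi.single j 1)
  have hπs : ∀ (j : Fin n) (c : R), π (Pi.single j c) = c * r j := fun j c => by
    have : (Pi.single j c : Fin n → R) = c • Pi.single j 1 := by
      rw [← Pi.single_smul, smul_eq_mul, mul_one]
    rw [this, map_smul, smul_eq_mul]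
  have hπr : π = Fintype.linearCombination R r := by
    refine LinearMap.pi_ext fun j c => ?_
    rw [hπs, Fintype.linearCombination_apply_single, smul_eq_mul]
  have hn : n = m + 1 := by
    by_contra hne
    refine hI ?_
    rw [hπr, Fintype.range_linearCombination, Submodule.span_eq_bot]
    rintro _ ⟨j, rfl⟩
    refine CAlgMisc.HB.eq_zero_of_forall_sq Ψ hann fun f g => ?_
    by_cases hf : Function.Injective f
    swap
    · obtain ⟨i, i', hij, hne'⟩ : ∃ i j, f i = f j ∧ i ≠ j := by
        simpa [Function.Injective] using hf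
      rw [Matrix.det_zero_of_row_eq hne' (funext fun k => by simp [hij]), zero_pow two_ne_zero,
        zero_mul]
    set d := (Ψ.submatrix f g).det with hd
    have hkey : ∀ p k, p ≠ k → k ∉ Set.range f → p ∉ Set.range f → d * r p = 0 := by
      intro p k hpk hk hp
      let v : Fin n → R := Pi.single k (r p) - Pi.single p (r k)
      obtain ⟨u, hu⟩ := hImg v (by simp only [v, map_sub, hπs]; ring)
      have hdu : d • u = 0 := funext fun c => CAlgMisc.HB.det_mul_eq_zero Ψ f g u (fun i => by
        rw [hu]
        have h1 : f i ≠ k := fun e => hk ⟨i, e⟩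
        have h2 : f i ≠ p := fun e => hp ⟨i, e⟩
        simp [v, h1, h2]) c
      have := congrFun (congrArg (fun w => Ψ *ᵥ w) hdu) k
      simp only [Matrix.mulVec_smul, hu, Matrix.mulVec_zero] at this
      simpa [v, hpk.symm] using this
    have hout : ∀ p, p ∉ Set.range f → d * r p = 0 := by
      intro p hp
      obtain ⟨k, hk⟩ : ∃ k, k ∉ insert p (Set.range f) := by
        by_contra h
        push Not at h
        have hsurj : Function.Surjective (fun o : Option (Fin m) => o.elim p f) := fun y => by
          rcases h y with rfl | ⟨i, rfl⟩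
          exacts [⟨none, rfl⟩, ⟨some i, rfl⟩]
        have := Fintype.card_le_of_surjective _ hsurj
        simp at this
        omega
      exact hkey p k (fun e => hk (Or.inl e.symm)) (fun h => hk (Or.inr h)) hp
    by_cases hj : j ∈ Set.range f
    · obtain ⟨k, hk⟩ : ∃ k, k ∉ Set.range f := by
        by_contra h
        push Not at h
        have := Fintype.card_le_of_surjective f h
        simp at this
        omega
      obtain ⟨u, hu⟩ := hImg (Pi.single k (d * r j)) (by
        rw [hπs, mul_right_comm, hout k hk, zero_mul])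
      have hdu : d • u = 0 := funext fun c => CAlgMisc.HB.det_mul_eq_zero Ψ f g u (fun i => by
        rw [hu]
        have h1 : f i ≠ k := fun e => hk ⟨i, e⟩
        simp [h1]) c
      have := congrFun (congrArg (fun w => Ψ *ᵥ w) hdu) k
      simp only [Matrix.mulVec_smul, hu, Matrix.mulVec_zero] at this
      rw [pow_two, mul_assoc]
      simpa using this
    · rw [pow_two, mul_assoc, hout j hj, mul_zero]
  subst hn
  refine ⟨rfl, ?_⟩
  let c := CAlgMisc.HB.smin Ψ
  have hJ : CAlgX.minorIdeal Ψ m = Ideal.span (Set.range c) := CAlgMisc.HB.minorIdeal_eq_span Ψ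
  -- proportionality
  have hprop : ∀ i j, c i * r j = c j * r i := by
    intro i j
    refine sub_eq_zero.1 (hone _ fun x hx => ?_)
    rw [hJ, Ideal.mem_span_range_iff_exists_fun] at hx
    obtain ⟨lam, rfl⟩ := hx
    rw [Finset.sum_mul]
    refine Finset.sum_eq_zero fun k _ => ?_
    obtain ⟨u, hu⟩ := CAlgMisc.HB.smul_mem_range Ψ
      (v := Pi.single j (c i) - Pi.single i (c j))
      (by simp only [c, Pi.sub_apply, sub_mul, Finset.sum_sub_distrib, Pi.single_apply, ite_mul,
        zero_mul, Finset.sum_ite_eq', Finset.mem_univ, if_true]; ring) k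
    have := hπ0 u
    rw [hu, map_smul, map_sub, hπs, hπs, smul_eq_mul] at this
    rw [mul_assoc, this, mul_zero]
  -- regular element and second element
  obtain ⟨x, hxJ, hxreg⟩ := Depth.exists_isSMulRegular_of_forall_not_le (M := R)
    (I := CAlgX.minorIdeal Ψ m) (by
      intro P hP hle
      rw [AssociatedPrimes.mem_iff, isAssociatedPrime_iff] at hP
      obtain ⟨hprime, z, hz⟩ := hP
      have : z = 0 := hone z fun a ha => by
        have := hle ha
        rwa [hz, Submodule.mem_colon_singleton, Submodule.mem_bot] at this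
      exact hprime.ne_top (by rw [hz, this]; simp))
  have hx0 : ∀ z, x * z = 0 → z = 0 := fun z hz => hxreg (by simpa using hz)
  obtain ⟨y, hyJ, hyreg⟩ := Depth.exists_isSMulRegular_of_forall_not_le
    (M := QuotSMulTop x R) (I := CAlgX.minorIdeal Ψ m) (not_le_associatedPrime Ψ π hinj hex hx0)
  refine ⟨?_, ?_⟩
  · obtain ⟨lam, hlam⟩ := Ideal.mem_span_range_iff_exists_fun.1 (hJ ▸ hxJ)
    obtain ⟨mu, hmu⟩ := Ideal.mem_span_range_iff_exists_fun.1 (hJ ▸ hyJ)
    let a0 := ∑ i, lam i * r i
    have h1 : ∀ j, x * r j = a0 * c j := fun j => by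
      rw [← hlam, Finset.sum_mul, Finset.sum_mul]
      exact Finset.sum_congr rfl fun i _ => by rw [mul_assoc, hprop i j]; ring
    have h2 : (Submodule.Quotient.mk a0 : QuotSMulTop x R) = 0 := by
      refine hyreg ?_
      change y • _ = y • (0 : QuotSMulTop x R)
      rw [smul_zero, ← Submodule.Quotient.mk_smul, Submodule.Quotient.mk_eq_zero,
        Submodule.mem_smul_pointwise_iff_exists]
      refine ⟨∑ j, mu j * r j, trivial, ?_⟩
      rw [smul_eq_mul, smul_eq_mul, ← hmu, Finset.mul_sum, Finset.sum_mul]
      exact Finset.sum_congr rfl fun j _ => by rw [← mul_assoc, mul_comm x, mul_assoc, h1 j]; ring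
    rw [Submodule.Quotient.mk_eq_zero, Submodule.mem_smul_pointwise_iff_exists] at h2
    obtain ⟨a, -, ha⟩ := h2
    have hr : ∀ j, r j = a * c j := fun j => sub_eq_zero.1 (hx0 _ (by
      rw [mul_sub, h1, ← ha, smul_eq_mul]; ring))
    refine ⟨a, mem_nonZeroDivisors_iff_right.2 fun b hb => hone b fun z hz => ?_, ?_⟩
    · rw [hJ, Ideal.mem_span_range_iff_exists_fun] at hz
      obtain ⟨nu, rfl⟩ := hz
      rw [Finset.sum_mul]
      refine Finset.sum_eq_zero fun j _ => ?_
      obtain ⟨u, hu⟩ := hImg (Pi.single j b) (by rw [hπs, hr, ← mul_assoc, hb, zero_mul])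
      have := CAlgMisc.HB.sum_mulVec_mul_smin Ψ u
      rw [hu] at this
      simp only [Pi.single_apply, ite_mul, zero_mul, Finset.sum_ite_eq', Finset.mem_univ, if_true] at this
      rw [mul_assoc, mul_comm (c j), this, mul_zero]
    · rw [hπr, funext hr]
      exact CAlgMisc.HB.range_linearCombination_mul Ψ a
  · have := Depth.le_idealDepth_of_isWeaklyRegular (R := R) (M := R) (rs := [x, y])
      (I := CAlgX.minorIdeal Ψ m)
      (by rw [RingTheory.Sequence.isWeaklyRegular_cons_iff,
            RingTheory.Sequence.isWeaklyRegular_singleton_iff]; exact ⟨hxreg, hyreg⟩)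
      (by simp [hxJ, hyJ])
    simpa using this

end Groth.Agent.S12907
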