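import Groth.Statements.S12908
import Groth.Agent.CAlgMisc.HilbertBurch

set_option autoImplicit false
universe u
open CAlgX Matrix

namespace Groth.Agent.S12908

/-- Let R be a Noetherian ring, t a natural number, Ψ a (t+1) × t matrix over R such that the
I_t(Ψ)-depth of R is at least 2, where I_t(Ψ) is the ideal generated by the t × t minors of Ψ, and a
a non-zero-divisor of R. Put Δ_i = a · (-1)^i det Ψ_i, where Ψ_i is Ψ with row i deleted. Then 0 →
R^t → R^{t+1} → R, with first map Ψ and second map v ↦ Σ_i Δ_i v_i, is exact: Ψ is injective and the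
kernel of the second map equals the image of Ψ; moreover the image of the second map is the ideal a
· I_t(Ψ). (The published statement adds that this ideal has depth 2 exactly when a is a unit; that
clause is not stated here.) -/
theorem result {R : Type u} [CommRing R] [IsNoetherianRing R] (t : ℕ)
    (Ψ : Matrix (Fin (t + 1)) (Fin t) R) (hdepth : 2 ≤ LocCoh.idealDepth (CAlgX.minorIdeal Ψ t) R)
    (a : R) (ha : a ∈ nonZeroDivisors R) :
    LinearMap.ker Ψ.mulVecLin = ⊥ ∧
      LinearMap.ker (Fintype.linearCombination R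
          (fun i : Fin (t + 1) => a * ((-1 : R) ^ (i : ℕ) * (Ψ.submatrix i.succAbove id).det))) =
        LinearMap.range Ψ.mulVecLin ∧
      LinearMap.range (Fintype.linearCombination R
          (fun i : Fin (t + 1) => a * ((-1 : R) ^ (i : ℕ) * (Ψ.submatrix i.succAbove id).det))) =
        Ideal.span {a} * CAlgX.minorIdeal Ψ t := by
  classical
  obtain ⟨x, hx, y, hy, hx0, hxy⟩ := CAlgMisc.HB.exists_pair hdepth
  rw [CAlgMisc.HB.minorIdeal_eq_span, Ideal.mem_span_range_iff_exists_fun] at hx hy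
  obtain ⟨lam, hlam⟩ := hx
  obtain ⟨mu, hmu⟩ := hy
  have ha0 : ∀ z, a * z = 0 → z = 0 := fun z hz => (mul_right_mem_nonZeroDivisors_eq_zero_iff ha).1 (by rw [mul_comm]; exact hz)
  have hsum : ∀ (v : Fin (t + 1) → R) (c : Fin (t + 1) → R),
      (∀ i, ∃ u : Fin t → R, Ψ *ᵥ u = CAlgMisc.HB.smin Ψ i • v) →
      ∃ u : Fin t → R, Ψ *ᵥ u = (∑ i, c i * CAlgMisc.HB.smin Ψ i) • v := by
    intro v c h
    choose u hu using h
    refine ⟨∑ i, c i • u i, ?_⟩
    rw [Matrix.mulVec_sum, Finset.sum_smul]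
    exact Finset.sum_congr rfl fun i _ => by rw [Matrix.mulVec_smul, hu, smul_smul]
  have hker : ∀ u : Fin t → R, Ψ *ᵥ u = 0 → u = 0 := by
    intro u hu
    funext j
    refine hx0 _ ?_
    rw [← hlam, Finset.sum_mul]
    refine Finset.sum_eq_zero fun i _ => ?_
    rw [mul_assoc, CAlgMisc.HB.smin, mul_assoc,
      CAlgMisc.HB.det_mul_eq_zero Ψ i.succAbove id u (fun k => congrFun hu _) j, mul_zero, mul_zero]
  refine ⟨?_, le_antisymm ?_ ?_, CAlgMisc.HB.range_linearCombination_mul Ψ a⟩
  · exact LinearMap.ker_eq_bot'.2 hker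
  · intro v hv
    rw [LinearMap.mem_ker, Fintype.linearCombination_apply] at hv
    have hv' : ∑ i, v i * CAlgMisc.HB.smin Ψ i = 0 := by
      refine ha0 _ ?_
      rw [Finset.mul_sum, ← hv]
      exact Finset.sum_congr rfl fun i _ => by simp [CAlgMisc.HB.smin]; ring
    obtain ⟨u, hu⟩ := hsum v lam (CAlgMisc.HB.smul_mem_range Ψ hv')
    obtain ⟨u', hu'⟩ := hsum v mu (CAlgMisc.HB.smul_mem_range Ψ hv')
    rw [hlam] at hu; rw [hmu] at hu'
    have hd : y • u = x • u' := sub_eq_zero.1 (hker _ (by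
      rw [Matrix.mulVec_sub, Matrix.mulVec_smul, Matrix.mulVec_smul, hu, hu', smul_comm, sub_self]))
    have hdvd : ∀ j, x ∣ u j := fun j => hxy _ ⟨u' j, congrFun hd j⟩
    choose w hw using hdvd
    refine ⟨w, ?_⟩
    funext i
    refine sub_eq_zero.1 (hx0 _ ?_)
    have : Ψ *ᵥ (x • w) = x • v := by rw [← hu]; congr 1; funext j; exact (hw j).symm
    rw [Matrix.mulVec_smul] at this
    have := congrFun this i
    simp only [Pi.smul_apply, smul_eq_mul] at this
    rw [mul_sub, Matrix.mulVecLin_apply, this, sub_self]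
  · rintro _ ⟨u, rfl⟩
    rw [LinearMap.mem_ker, Fintype.linearCombination_apply, Matrix.mulVecLin_apply]
    have := congrArg (fun z => a * z) (CAlgMisc.HB.sum_mulVec_mul_smin Ψ u)
    simp only [Finset.mul_sum, mul_zero] at this
    rw [← this]
    exact Finset.sum_congr rfl fun i _ => by simp [CAlgMisc.HB.smin]; ring

end Groth.Agent.S12908
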