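import Groth.Statements.S0414
import Groth.Agent.FlatMisc.GenericFlat

set_option autoImplicit false
universe u
open FlatMor

namespace Groth.Agent.S0414

open AlgebraicGeometry CategoryTheory Limits in
/-- Generic flatness: a morphism X → S of finite type with S reduced is flat and locally of finite
presentation over some dense open subscheme of S. (Stated for the structure sheaf; the published
statement also treats a quasi-coherent O_X-module of finite type.) -/
theorem result {X S : Scheme.{u}} (f : X ⟶ S) [IsReduced S] [LocallyOfFiniteType f] [QuasiCompact f] :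
    ∃ U : S.Opens, Dense (U : Set ↑S) ∧ Flat (f ∣_ U) ∧ LocallyOfFinitePresentation (f ∣_ U) := by
  let P : MorphismProperty Scheme.{u} := @Flat ⊓ @LocallyOfFinitePresentation
  let T := {V : S.Opens | P (f ∣_ V)}
  let U : S.Opens := ⨆ V : T, (V : S.Opens)
  have hloc : P (f ∣_ U) := by
    have key : ∀ (Q : MorphismProperty Scheme.{u}) [IsZariskiLocalAtTarget Q],
        (∀ V : T, Q (f ∣_ (V : S.Opens))) → Q (f ∣_ U) := by
      intro Q _ hQ
      apply IsZariskiLocalAtTarget.of_iSup_eq_top (fun V : T => U.ι ⁻¹ᵁ (V : S.Opens))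
      · apply U.ι.image_injective
        beta_reduce
        rw [Scheme.Hom.image_iSup]
        simp only [Scheme.Opens.ι_image_top, Scheme.Hom.image_preimage_eq_opensRange_inf,
          Scheme.Opens.opensRange_ι, ← inf_iSup_eq]
        exact inf_idem U
      · intro V
        have h : U.ι ''ᵁ (U.ι ⁻¹ᵁ (V : S.Opens)) = V := by
          rw [Scheme.Hom.image_preimage_eq_opensRange_inf, Scheme.Opens.opensRange_ι]
          exact inf_eq_right.mpr (le_iSup (fun V : T => (V : S.Opens)) V)
        rw [MorphismProperty.arrow_mk_iso_iff Q (morphismRestrictRestrict f U _), h]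
        exact hQ V
    exact ⟨key @Flat fun V => V.2.1, key @LocallyOfFinitePresentation fun V => V.2.2⟩
  refine ⟨U, ?_, hloc.1, hloc.2⟩
  rw [dense_iff_inter_open]
  intro W hW hne
  obtain ⟨W', hW', ⟨y, hy⟩, hf⟩ := Groth.Agent.FlatMisc.GenericFlat.exists_open f ⟨W, hW⟩ hne
  exact ⟨y, hW' hy, le_iSup (fun V : T => (V : S.Opens)) ⟨W', hf⟩ hy⟩

end Groth.Agent.S0414
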