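import Mathlib.RingTheory.Smooth.Basic
import Mathlib.RingTheory.Polynomial.Resultant.Basic
import Mathlib.FieldTheory.IsAlgClosed.AlgebraicClosure
import Mathlib.Algebra.MvPolynomial.PDeriv
import Mathlib.Tactic.Ring
import Mathlib.Tactic.LinearCombination
import Mathlib.Tactic.FieldSimp
import Mathlib.Tactic.Push

/-!
# Smooth plane hypersurfaces `A(t) + B(t) w` and resultants

* `formallySmooth_iff`: `k[X]/(F)` is formally smooth iff `F` and its partials generate the unit ideal.
* `pair_smooth_iff`, `coprime_both_iff`, `resultant_ne_zero_iff`.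
-/

universe u

namespace Groth.Agent.HirzRes

open MvPolynomial

/-- First order Taylor expansion. -/
theorem aeval_add_eq {σ k B : Type*} [Fintype σ] [CommRing k] [CommRing B] [Algebra k B]
    (x δ : σ → B) (hδ : ∀ i j, δ i * δ j = 0) (p : MvPolynomial σ k) :
    aeval (fun i => x i + δ i) p = aeval x p + ∑ i, δ i * aeval x (pderiv i p) := by
  classical
  induction p using MvPolynomial.induction_on with
  | C a => simp
  | add p q hp hq =>
    simp only [map_add, hp, hq, mul_add, Finset.sum_add_distrib]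
    ring
  | mul_X p j hp =>
    have h0 : (∑ i, δ i * aeval x (pderiv i p)) * δ j = 0 := by
      rw [Finset.sum_mul]
      exact Finset.sum_eq_zero fun i _ => by rw [mul_right_comm, hδ, zero_mul]
    have h1 : ∀ i, aeval x (pderiv i (p * X j))
        = aeval x (pderiv i p) * x j + (if i = j then aeval x p else 0) := by
      intro i
      rw [pderiv_mul, map_add, map_mul, map_mul, aeval_X]
      rcases eq_or_ne i j with rfl | hij
      · simp
      · rw [pderiv_X_of_ne (Ne.symm hij)]
        simp [hij]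
    simp only [map_mul, aeval_X, hp, h1, mul_add, Finset.sum_add_distrib, mul_ite, mul_zero,
      Finset.sum_ite_eq', Finset.mem_univ, if_true]
    have h2 : ∑ i, δ i * (aeval x (pderiv i p) * x j)
        = (∑ i, δ i * aeval x (pderiv i p)) * x j := by
      rw [Finset.sum_mul]
      exact Finset.sum_congr rfl fun i _ => by ring
    rw [h2]
    linear_combination h0

/-- A hypersurface in affine space is formally smooth iff `F` and its partials generate the unit
ideal. -/
theorem formallySmooth_iff {σ : Type u} {k : Type u} [Fintype σ] [Field k] (F : MvPolynomial σ k)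
    (hF : F ≠ 0) :
    Algebra.FormallySmooth k (MvPolynomial σ k ⧸ Ideal.span ({F} : Set (MvPolynomial σ k))) ↔
      ∃ (a : MvPolynomial σ k) (b : σ → MvPolynomial σ k), a * F + ∑ i, b i * pderiv i F = 1 := by
  have hsurj : Function.Surjective
      (Ideal.Quotient.mkₐ k (Ideal.span ({F} : Set (MvPolynomial σ k)))) :=
    Ideal.Quotient.mkₐ_surjective _ _
  rw [Algebra.FormallySmooth.iff_split_surjection _ hsurj]
  set f := Ideal.Quotient.mkₐ k (Ideal.span ({F} : Set (MvPolynomial σ k))) with hf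
  have hker : RingHom.ker f.toRingHom = Ideal.span ({F} : Set (MvPolynomial σ k)) := Ideal.mk_ker
  have hmem2 : ∀ p, Ideal.Quotient.mk (RingHom.ker f.toRingHom ^ 2) p = 0 ↔ F ^ 2 ∣ p := by
    intro p
    rw [Ideal.Quotient.eq_zero_iff_mem, hker, Ideal.span_singleton_pow, Ideal.mem_span_singleton]
  have hmem1 : ∀ p, f p = 0 ↔ F ∣ p := by
    intro p
    rw [hf, Ideal.Quotient.mkₐ_eq_mk, Ideal.Quotient.eq_zero_iff_mem, Ideal.mem_span_singleton]
  have hmkaeval : ∀ p, aeval (fun i => Ideal.Quotient.mk (RingHom.ker f.toRingHom ^ 2) (X i)) p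
      = Ideal.Quotient.mk (RingHom.ker f.toRingHom ^ 2) p := by
    intro p
    have h : (aeval fun i => Ideal.Quotient.mk (RingHom.ker f.toRingHom ^ 2) (X i))
        = Ideal.Quotient.mkₐ k (RingHom.ker f.toRingHom ^ 2) := by
      apply MvPolynomial.algHom_ext
      intro i
      rw [aeval_X]
      rfl
    exact congrArg (fun φ => φ p) h
  constructor
  · rintro ⟨g, hg⟩
    have hlift : ∀ i, ∃ a : MvPolynomial σ k,
        g (f (X i)) = Ideal.Quotient.mk _ (X i) + Ideal.Quotient.mk _ (a * F) := by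
      intro i
      obtain ⟨r, hr⟩ := Ideal.Quotient.mk_surjective (g (f (X i)))
      have h1 : f r = f (X i) := by
        have h2 : f.kerSquareLift (g (f (X i))) = f (X i) := congrArg (fun φ => φ (f (X i))) hg
        rw [← hr] at h2
        exact h2
      obtain ⟨a, ha⟩ := (hmem1 (r - X i)).mp (by rw [map_sub, h1, sub_self])
      refine ⟨a, ?_⟩
      rw [← hr, ← map_add]
      congr 1
      linear_combination ha
    choose a ha using hlift
    have hδ : ∀ i j, Ideal.Quotient.mk (RingHom.ker f.toRingHom ^ 2) (a i * F)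
        * Ideal.Quotient.mk (RingHom.ker f.toRingHom ^ 2) (a j * F) = 0 := by
      intro i j
      rw [← map_mul, hmem2]
      exact ⟨a i * a j, by ring⟩
    have hφ : g.comp f = aeval (fun i => Ideal.Quotient.mk (RingHom.ker f.toRingHom ^ 2) (X i)
        + Ideal.Quotient.mk (RingHom.ker f.toRingHom ^ 2) (a i * F)) := by
      apply MvPolynomial.algHom_ext
      intro i
      rw [aeval_X]
      exact ha i
    have h0 : (g.comp f) F = 0 := by
      rw [AlgHom.comp_apply, (hmem1 F).mpr dvd_rfl, map_zero]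
    rw [hφ, aeval_add_eq _ _ hδ] at h0
    simp only [hmkaeval, ← map_mul, ← map_sum, ← map_add] at h0
    obtain ⟨c, hc⟩ := (hmem2 _).mp h0
    refine ⟨c, fun i => - a i, ?_⟩
    have h3 : ∑ i, a i * F * pderiv i F = F * ∑ i, a i * pderiv i F := by
      rw [Finset.mul_sum]
      exact Finset.sum_congr rfl fun i _ => by ring
    rw [h3] at hc
    have h4 : 1 + ∑ i, a i * pderiv i F = F * c := mul_left_cancel₀ hF (by linear_combination hc)
    simp only [neg_mul, Finset.sum_neg_distrib]
    linear_combination -h4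
  · rintro ⟨a, b, hab⟩
    have hδ : ∀ i j, Ideal.Quotient.mk (RingHom.ker f.toRingHom ^ 2) (-(b i * F))
        * Ideal.Quotient.mk (RingHom.ker f.toRingHom ^ 2) (-(b j * F)) = 0 := by
      intro i j
      rw [← map_mul, hmem2]
      exact ⟨b i * b j, by ring⟩
    let φ : MvPolynomial σ k →ₐ[k] MvPolynomial σ k ⧸ RingHom.ker f.toRingHom ^ 2 :=
      aeval (fun i => Ideal.Quotient.mk (RingHom.ker f.toRingHom ^ 2) (X i)
        + Ideal.Quotient.mk (RingHom.ker f.toRingHom ^ 2) (-(b i * F)))
    have hφF : φ F = 0 := by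
      show aeval _ F = 0
      rw [aeval_add_eq _ _ hδ]
      simp only [hmkaeval, ← map_mul, ← map_sum, ← map_add]
      rw [hmem2]
      refine ⟨a, ?_⟩
      have h3 : ∑ i, -(b i * F) * pderiv i F = -F * ∑ i, b i * pderiv i F := by
        rw [Finset.mul_sum]
        exact Finset.sum_congr rfl fun i _ => by ring
      rw [h3]
      linear_combination (-F) * hab
    refine ⟨Ideal.Quotient.liftₐ (Ideal.span ({F} : Set (MvPolynomial σ k))) φ ?_, ?_⟩
    · intro p hp
      obtain ⟨c, rfl⟩ := Ideal.mem_span_singleton.mp hp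
      rw [map_mul, hφF, zero_mul]
    · apply Ideal.Quotient.algHom_ext
      apply MvPolynomial.algHom_ext
      intro i
      show f.kerSquareLift (φ (X i)) = f (X i)
      rw [show φ (X i) = _ from aeval_X _ i, ← map_add]
      show f (X i + -(b i * F)) = f (X i)
      rw [map_add, (hmem1 (-(b i * F))).mpr ⟨-b i, by ring⟩, add_zero]

theorem smooth_iff {k : Type u} [Field k] (F : MvPolynomial (Fin 2) k) (hF : F ≠ 0) :
    Algebra.Smooth k (MvPolynomial (Fin 2) k ⧸ Ideal.span ({F} : Set (MvPolynomial (Fin 2) k))) ↔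
      ∃ a b₀ b₁ : MvPolynomial (Fin 2) k, a * F + b₀ * pderiv 0 F + b₁ * pderiv 1 F = 1 := by
  let e : ULift.{u} (Fin 2) ≃ Fin 2 := Equiv.ulift
  let E : MvPolynomial (Fin 2) k ≃ₐ[k] MvPolynomial (ULift.{u} (Fin 2)) k := renameEquiv k e.symm
  have hE : E F ≠ 0 := by simpa using hF
  have hmap : Ideal.span ({E F} : Set (MvPolynomial (ULift.{u} (Fin 2)) k))
      = (Ideal.span ({F} : Set (MvPolynomial (Fin 2) k))).map
          (E : MvPolynomial (Fin 2) k →+* MvPolynomial (ULift.{u} (Fin 2)) k) := by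
    rw [Ideal.map_span, Set.image_singleton]
    rfl
  let Q : (MvPolynomial (Fin 2) k ⧸ Ideal.span ({F} : Set (MvPolynomial (Fin 2) k))) ≃ₐ[k]
      (MvPolynomial (ULift.{u} (Fin 2)) k ⧸
        Ideal.span ({E F} : Set (MvPolynomial (ULift.{u} (Fin 2)) k))) :=
    Ideal.quotientEquivAlg _ _ E hmap
  have hd : ∀ (i : Fin 2) (p : MvPolynomial (Fin 2) k),
      pderiv (e.symm i) (E p) = E (pderiv i p) := by
    intro i p
    exact pderiv_rename e.symm.injective i p
  have key : Algebra.FormallySmooth k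
        (MvPolynomial (Fin 2) k ⧸ Ideal.span ({F} : Set (MvPolynomial (Fin 2) k)))
      ↔ ∃ a b₀ b₁ : MvPolynomial (Fin 2) k, a * F + b₀ * pderiv 0 F + b₁ * pderiv 1 F = 1 := by
    rw [Algebra.FormallySmooth.iff_of_equiv Q, formallySmooth_iff (E F) hE]
    constructor
    · rintro ⟨a, b, hab⟩
      rw [← e.symm.sum_comp, Fin.sum_univ_two] at hab
      refine ⟨E.symm a, E.symm (b (e.symm 0)), E.symm (b (e.symm 1)), E.injective ?_⟩
      simp only [map_add, map_mul, map_one, AlgEquiv.apply_symm_apply, ← hd]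
      linear_combination hab
    · rintro ⟨a, b₀, b₁, hab⟩
      refine ⟨E a, fun i => ![E b₀, E b₁] (e i), ?_⟩
      rw [← e.symm.sum_comp, Fin.sum_univ_two, hd, hd]
      have := congrArg E hab
      simp only [map_add, map_mul, map_one] at this
      simp only [Equiv.apply_symm_apply, Matrix.cons_val_zero, Matrix.cons_val_one]
      linear_combination this
  rw [← key]
  exact ⟨fun h => h.formallySmooth,
    fun h => { formallySmooth := h,
               finitePresentation := Algebra.FinitePresentation.quotient ⟨{F}, by simp⟩ }⟩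

section Pair

variable {k : Type u} [Field k]

/-- A univariate polynomial in the variable `X 0`. -/
noncomputable def toMv (p : Polynomial k) : MvPolynomial (Fin 2) k :=
  Polynomial.aeval (X 0 : MvPolynomial (Fin 2) k) p

theorem pderiv_zero_toMv (p : Polynomial k) : pderiv 0 (toMv p) = toMv p.derivative := by
  rw [toMv, toMv, Derivation.map_aeval, pderiv_X_self, smul_eq_mul, mul_one]

theorem pderiv_one_toMv (p : Polynomial k) : pderiv 1 (toMv p) = 0 := by
  rw [toMv, Derivation.map_aeval, pderiv_X_of_ne (by decide), smul_zero]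

theorem aeval_toMv {A : Type*} [CommRing A] [Algebra k A] (v : Fin 2 → A) (p : Polynomial k) :
    aeval v (toMv p) = Polynomial.aeval (v 0) p := by
  rw [toMv, ← Polynomial.aeval_algHom_apply, aeval_X]

theorem eq_zero_of_pair (A B : Polynomial k) (h : toMv A + toMv B * X 1 = 0) : A = 0 ∧ B = 0 := by
  have hA : A = 0 := by
    simpa [aeval_toMv] using congrArg (aeval ![(Polynomial.X : Polynomial k), 0]) h
  subst hA
  refine ⟨rfl, ?_⟩
  simpa [aeval_toMv] using congrArg (aeval ![(Polynomial.X : Polynomial k), 1]) h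

theorem exists_common_root (A B : Polynomial k) (h : ¬ IsCoprime A B) :
    ∃ s : AlgebraicClosure k, Polynomial.aeval s A = 0 ∧ Polynomial.aeval s B = 0 := by
  rw [Polynomial.isCoprime_iff_aeval_ne_zero_of_isAlgClosed (k := k) (K := AlgebraicClosure k)] at h
  push Not at h
  exact h

theorem pair_smooth_iff (A B : Polynomial k) (hAB : A ≠ 0 ∨ B ≠ 0) :
    (Algebra.Smooth k (MvPolynomial (Fin 2) k ⧸
        Ideal.span ({toMv A + toMv B * X 1} : Set (MvPolynomial (Fin 2) k))) ∧
     Algebra.Smooth k (MvPolynomial (Fin 2) k ⧸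
        Ideal.span ({toMv A * X 1 + toMv B} : Set (MvPolynomial (Fin 2) k)))) ↔
      IsCoprime A B := by
  have h1 : toMv A + toMv B * X 1 ≠ 0 := fun h => by
    obtain ⟨ha, hb⟩ := eq_zero_of_pair A B h
    exact hAB.elim (fun h' => h' ha) (fun h' => h' hb)
  have h2 : toMv A * X 1 + toMv B ≠ 0 := fun h => by
    obtain ⟨hb, ha⟩ := eq_zero_of_pair B A (by linear_combination h)
    exact hAB.elim (fun h' => h' ha) (fun h' => h' hb)
  rw [smooth_iff _ h1, smooth_iff _ h2]
  simp only [map_add, pderiv_mul, pderiv_zero_toMv, pderiv_one_toMv, pderiv_X_self,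
    pderiv_X_of_ne (show (1 : Fin 2) ≠ 0 by decide), mul_zero, zero_mul, mul_one, add_zero, zero_add]
  constructor
  · rintro ⟨⟨a, b₀, b₁, e₁⟩, ⟨a', b₀', b₁', e₂⟩⟩
    by_contra hc
    obtain ⟨s, hsA, hsB⟩ := exists_common_root A B hc
    have g1 : ∀ w : AlgebraicClosure k,
        Polynomial.aeval s A.derivative + Polynomial.aeval s B.derivative * w = 0 → False := by
      intro w hw
      have := congrArg (aeval ![s, w]) e₁
      simp [aeval_toMv, hsA, hsB, hw] at this
    have g2 : ∀ w : AlgebraicClosure k,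
        Polynomial.aeval s A.derivative * w + Polynomial.aeval s B.derivative = 0 → False := by
      intro w hw
      have := congrArg (aeval ![s, w]) e₂
      simp [aeval_toMv, hsA, hsB, hw] at this
    by_cases hb : Polynomial.aeval s B.derivative = 0
    · exact g2 0 (by rw [hb]; ring)
    · exact g1 (-(Polynomial.aeval s A.derivative) / Polynomial.aeval s B.derivative)
        (by field_simp; ring)
  · rintro ⟨a, b, hab⟩
    have h := congrArg (toMv (k := k)) hab
    simp only [toMv, map_add, map_mul, map_one] at h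
    refine ⟨⟨toMv a, 0, toMv b - toMv a * X 1, ?_⟩, ⟨toMv b, 0, toMv a - toMv b * X 1, ?_⟩⟩
    · simp only [toMv]
      linear_combination h
    · simp only [toMv]
      linear_combination h

end Pair

section Res

variable {k : Type u} [Field k]

/-- `∑ cⱼ Xʲ`. -/
theorem coeff_sum_C_mul_X_pow {m : ℕ} (c : Fin m → k) (i : Fin m) :
    (∑ j : Fin m, Polynomial.C (c j) * Polynomial.X ^ (j : ℕ)).coeff (i : ℕ) = c i := by
  classical
  simp [Polynomial.coeff_sum, Polynomial.coeff_C_mul_X_pow, Fin.val_inj]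

theorem natDegree_sum_le {m : ℕ} (c : Fin (m + 1) → k) :
    (∑ j : Fin (m + 1), Polynomial.C (c j) * Polynomial.X ^ (j : ℕ)).natDegree ≤ m := by
  refine Polynomial.natDegree_sum_le_of_forall_le _ _ fun j _ => ?_
  exact (Polynomial.natDegree_C_mul_X_pow_le _ _).trans (Nat.le_of_lt_succ j.isLt)

theorem sum_ne_zero {m : ℕ} (c : Fin m → k) (hc : c ≠ 0) :
    (∑ j : Fin m, Polynomial.C (c j) * Polynomial.X ^ (j : ℕ)) ≠ 0 := by
  intro h
  apply hc
  ext i
  rw [← coeff_sum_C_mul_X_pow c i, h]
  rfl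

theorem aeval_rev {K : Type*} [Field K] [Algebra k K] {m : ℕ} (c : Fin (m + 1) → k) (s : K)
    (hs : s ≠ 0) :
    Polynomial.aeval s (∑ j : Fin (m + 1), Polynomial.C (c (Fin.rev j)) * Polynomial.X ^ (j : ℕ))
      = s ^ m * Polynomial.aeval s⁻¹
          (∑ j : Fin (m + 1), Polynomial.C (c j) * Polynomial.X ^ (j : ℕ)) := by
  simp only [map_sum, map_mul, Polynomial.aeval_C, map_pow, Polynomial.aeval_X, Finset.mul_sum]
  refine Fintype.sum_equiv Fin.revPerm _ _ fun j => ?_
  simp only [Fin.revPerm_apply, Fin.val_rev]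
  have hle : (j : ℕ) ≤ m := Nat.le_of_lt_succ j.isLt
  have hj : m + 1 - ((j : ℕ) + 1) = m - j := by omega
  have hpow : s ^ m = s ^ (j : ℕ) * s ^ (m - j) := by rw [← pow_add, Nat.add_sub_cancel' hle]
  rw [hj, inv_pow, hpow]
  field_simp

theorem coprime_both_iff {a b : ℕ} (q : Fin (a + 1) → k) (ξ : Fin (b + 1) → k) :
    (IsCoprime (∑ j : Fin (a + 1), Polynomial.C (q j) * Polynomial.X ^ (j : ℕ))
        (∑ j : Fin (b + 1), Polynomial.C (ξ j) * Polynomial.X ^ (j : ℕ)) ∧
      IsCoprime (∑ j : Fin (a + 1), Polynomial.C (q (Fin.rev j)) * Polynomial.X ^ (j : ℕ))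
        (∑ j : Fin (b + 1), Polynomial.C (ξ (Fin.rev j)) * Polynomial.X ^ (j : ℕ))) ↔
    IsCoprime (∑ j : Fin (a + 1), Polynomial.C (q j) * Polynomial.X ^ (j : ℕ))
        (∑ j : Fin (b + 1), Polynomial.C (ξ j) * Polynomial.X ^ (j : ℕ)) ∧
      ¬ (q (Fin.last a) = 0 ∧ ξ (Fin.last b) = 0) := by
  have e0q : (∑ j : Fin (a + 1), Polynomial.C (q (Fin.rev j)) * Polynomial.X ^ (j : ℕ)).coeff 0
      = q (Fin.last a) := by
    simpa using coeff_sum_C_mul_X_pow (fun j => q (Fin.rev j)) 0
  have e0ξ : (∑ j : Fin (b + 1), Polynomial.C (ξ (Fin.rev j)) * Polynomial.X ^ (j : ℕ)).coeff 0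
      = ξ (Fin.last b) := by
    simpa using coeff_sum_C_mul_X_pow (fun j => ξ (Fin.rev j)) 0
  refine and_congr_right fun h => ?_
  constructor
  · rintro ⟨u, v, huv⟩ ⟨hq, hξ⟩
    have := congrArg (fun p => Polynomial.coeff p 0) huv
    simp [Polynomial.mul_coeff_zero, e0q, e0ξ, hq, hξ] at this
  · intro htop
    by_contra hc
    obtain ⟨s, hsA, hsB⟩ := exists_common_root _ _ hc
    by_cases hs : s = 0
    · subst hs
      rw [← Polynomial.coeff_zero_eq_aeval_zero', e0q, map_eq_zero] at hsA
      rw [← Polynomial.coeff_zero_eq_aeval_zero', e0ξ, map_eq_zero] at hsB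
      exact htop ⟨hsA, hsB⟩
    · rw [aeval_rev _ _ hs] at hsA hsB
      have hA := (mul_eq_zero.mp hsA).resolve_left (pow_ne_zero _ hs)
      have hB := (mul_eq_zero.mp hsB).resolve_left (pow_ne_zero _ hs)
      exact ((Polynomial.isCoprime_iff_aeval_ne_zero_of_isAlgClosed
        (k := k) (K := AlgebraicClosure k) _ _).mp h s⁻¹).elim (fun h' => h' hA) (fun h' => h' hB)

theorem resultant_ne_zero_iff {a b : ℕ} (ha : 0 < a) (hb : 0 < b) (f g : Polynomial k)
    (hf : f.natDegree ≤ a) (hg : g.natDegree ≤ b) :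
    Polynomial.resultant f g a b ≠ 0 ↔ IsCoprime f g ∧ ¬ (f.coeff a = 0 ∧ g.coeff b = 0) := by
  have hlt : ∀ (p : Polynomial k) (m : ℕ), 0 < m → p.natDegree ≤ m → p.coeff m = 0 →
      p.natDegree < m := by
    intro p m hm hp hc
    refine lt_of_le_of_ne hp fun h => ?_
    have hp0 : p = 0 := Polynomial.leadingCoeff_eq_zero.mp (by rw [Polynomial.leadingCoeff, h, hc])
    rw [hp0, Polynomial.natDegree_zero] at h
    omega
  have hbase : (f ≠ 0 ∨ g ≠ 0) → (Polynomial.resultant f g ≠ 0 ↔ IsCoprime f g) := by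
    intro h
    rw [ne_eq, Polynomial.resultant_eq_zero_iff]
    tauto
  by_cases hfa : f.coeff a = 0
  · by_cases hgb : g.coeff b = 0
    · simp [Polynomial.resultant_eq_zero_of_lt_lt _ _ _ _ (hlt f a ha hf hfa) (hlt g b hb hg hgb),
        hfa, hgb]
    · have hgd : g.natDegree = b := le_antisymm hg (Polynomial.le_natDegree_of_ne_zero hgb)
      obtain ⟨c, rfl⟩ := Nat.exists_eq_add_of_le hf
      subst hgd
      have hg0 : g ≠ 0 := fun h => hgb (by simp [h])
      rw [Polynomial.resultant_add_left_deg _ _ _ _ _ le_rfl, ← hbase (Or.inr hg0)]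
      simp [hg0]
  · have hfd : f.natDegree = a := le_antisymm hf (Polynomial.le_natDegree_of_ne_zero hfa)
    obtain ⟨c, rfl⟩ := Nat.exists_eq_add_of_le hg
    subst hfd
    have hf0 : f ≠ 0 := fun h => hfa (by simp [h])
    rw [Polynomial.resultant_add_right_deg _ _ _ _ _ le_rfl, ← hbase (Or.inl hf0)]
    simp [hf0]

theorem toMv_sum {m : ℕ} (c : Fin m → k) :
    toMv (∑ j : Fin m, Polynomial.C (c j) * Polynomial.X ^ (j : ℕ))
      = ∑ j : Fin m, MvPolynomial.C (c j) * MvPolynomial.X 0 ^ (j : ℕ) := by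
  simp [toMv, map_sum, MvPolynomial.algebraMap_eq]

theorem toMv_sum_rev {m : ℕ} (c : Fin (m + 1) → k) :
    toMv (∑ j : Fin (m + 1), Polynomial.C (c (Fin.rev j)) * Polynomial.X ^ (j : ℕ))
      = ∑ j : Fin (m + 1), MvPolynomial.C (c j) * MvPolynomial.X 0 ^ (m - (j : ℕ)) := by
  rw [toMv_sum]
  refine Fintype.sum_equiv Fin.revPerm _ _ fun j => ?_
  simp only [Fin.revPerm_apply, Fin.val_rev]
  congr 2
  omega

end Res

end Groth.Agent.HirzRes
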