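import Groth.Statements.S9814
import Groth.Agent.Props.GenLocus
import Groth.Agent.Props.GenTensor

set_option autoImplicit false
universe u
open CategoryTheory CategoryTheory.Limits AlgebraicGeometry TopologicalSpace
open Props

namespace Groth.Agent.S9814

/-- Let L be an invertible module on a scheme X. If the opens X_s (s a global section of a positive
tensor power of L) form a basis for the topology, then so do the affine ones among them. -/
theorem result (X : Scheme.{u}) (L : X.Modules) (hL : PicF.IsInvertible L)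
    (hB : Opens.IsBasis {U : X.Opens | ∃ (n : ℕ) (s : Coh.structureModule X ⟶ CohB1.tensorPow L (n + 1)),
      U = CohB1.genLocus _ s}) :
    Opens.IsBasis {U : X.Opens | IsAffineOpen U ∧ ∃ (n : ℕ) (s : Coh.structureModule X ⟶ CohB1.tensorPow L (n + 1)),
      U = CohB1.genLocus _ s} := by
  rw [Opens.isBasis_iff_nbhd] at hB ⊢
  intro O x hx
  obtain ⟨U, e, hxU, he⟩ := Groth.Agent.Props.GenLocus.exists_isGen hL x
  obtain ⟨W, hW, hxW, hWle⟩ := exists_isAffineOpen_mem_and_subset (U := U ⊓ O) (x := x) ⟨hxU, hx⟩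
  obtain ⟨V, ⟨n, s, rfl⟩, hxV, hVW⟩ := hB hxW
  have heW := Groth.Agent.Props.GenTensor.isGen_pw (he.restrict (hWle.trans inf_le_left)) (n + 1)
  obtain ⟨f, hf, -⟩ := heW.exists_eq le_rfl (Groth.Agent.Props.GenLocus.sec s W)
  rw [Groth.Agent.QCoh.res_self] at hf
  have hD := Groth.Agent.Props.GenLocus.genLocus_inf heW s hf
  rw [inf_eq_left.mpr hVW] at hD
  exact ⟨CohB1.genLocus _ s, ⟨hD ▸ hW.basicOpen f, n, s, rfl⟩, hxV, hVW.trans (hWle.trans inf_le_right)⟩

end Groth.Agent.S9814
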