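import Groth.Statements.S9816
import Groth.Agent.S9814
import Groth.Agent.Props.GenBox

set_option autoImplicit false
universe u
open CategoryTheory CategoryTheory.Limits AlgebraicGeometry TopologicalSpace
open Props

namespace Groth.Agent.S9816

/-- The basic opens of an open `U` carrying an embedding into an affine scheme form a basis of `U`. -/
theorem exists_basicOpen_of_embedding {P Z : Scheme.{u}} [IsAffine Z] {U : P.Opens}
    (φ : U.toScheme ⟶ Z) (hφ : Topology.IsInducing φ) {O : P.Opens} {x : P} (hx : x ∈ U ⊓ O) :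
    ∃ f : Γ(P, U), x ∈ P.basicOpen f ∧ P.basicOpen f ≤ O := by
  obtain ⟨V, hV, hVO⟩ := hφ.isOpen_iff.mp (U.ι ⁻¹ᵁ O).2
  let y : U.toScheme := ⟨x, hx.1⟩
  have hy : φ y ∈ V := by
    rw [← Set.mem_preimage, hVO]
    exact hx.2
  obtain ⟨a, ha, hya⟩ := (isAffineOpen_top Z).exists_basicOpen_le (V := ⟨V, hV⟩) ⟨φ y, hy⟩ trivial
  let z : Γ(U.toScheme, ⊤) := φ.app ⊤ a
  have he : U.ι ''ᵁ U.toScheme.basicOpen z = P.basicOpen (U.topIso.hom z) := by
    rw [← U.ι_image_basicOpen_topIso_inv (U.topIso.hom z), ← CommRingCat.comp_apply, Iso.hom_inv_id]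
    rfl
  have hz : U.toScheme.basicOpen z = φ ⁻¹ᵁ Z.basicOpen a := (Scheme.preimage_basicOpen φ a).symm
  refine ⟨U.topIso.hom z, ?_, ?_⟩
  · rw [← he, hz]
    exact ⟨y, hya, rfl⟩
  · rw [← he, hz]
    rintro _ ⟨w, hw, rfl⟩
    exact (show w ∈ U.ι ⁻¹ᵁ O from hVO.le (ha hw))

/-- Over a quasi-separated base S, if X and Y carry ample invertible modules L and N, then the tensor
product of their pullbacks along the two projections is an ample invertible module on the fibre
product of X and Y over S. -/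
theorem result {X Y S : Scheme.{u}} [QuasiSeparatedSpace S]
    (f : X ⟶ S) (g : Y ⟶ S) (L : X.Modules) (N : Y.Modules) (hL : CohB1.IsAmple L) (hN : CohB1.IsAmple N) :
    CohB1.IsAmple (CohB1.tensorMod ((Scheme.Modules.pullback (pullback.fst f g)).obj L)
      ((Scheme.Modules.pullback (pullback.snd f g)).obj N)) := by
  let p := pullback.fst f g
  let q := pullback.snd f g
  have hXs : X.IsSeparated := Groth.Agent.Props.GenSep.isSeparated hL.1 hL.2.2
  have hYs : Y.IsSeparated := Groth.Agent.Props.GenSep.isSeparated hN.1 hN.2.2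
  have := hL.2.1
  have := hN.2.1
  have : IsSeparated (g ≫ terminal.from S) := by rw [terminal.comp_from]; exact hYs.isSeparated_terminal_from
  have : IsSeparated g := IsSeparated.of_comp g (terminal.from S)
  have : IsSeparated (terminal.from X) := hXs.isSeparated_terminal_from
  have : IsSeparated (p ≫ terminal.from X) := inferInstance
  have hPs : (pullback f g).IsSeparated := ⟨by rwa [terminal.comp_from] at this⟩
  have : QuasiSeparatedSpace (pullback f g : Scheme.{u}) := inferInstance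
  have : CompactSpace (pullback f g : Scheme.{u}) := inferInstance
  have hinv := Groth.Agent.Props.GenBox.isInvertible_box p q hL.1 hN.1
  suffices hB : Opens.IsBasis {U : (pullback f g : Scheme.{u}).Opens | ∃ (n : ℕ) (s : Coh.structureModule _ ⟶
      CohB1.tensorPow (Groth.Agent.Props.GenBox.box p q L N) (n + 1)), U = CohB1.genLocus _ s} by
    refine ⟨hinv, inferInstance, fun x => ?_⟩
    obtain ⟨_, ⟨haff, n, s, rfl⟩, hx, -⟩ := Opens.isBasis_iff_nbhd.mp
      (S9814.result _ _ hinv hB) (U := ⊤) (x := x) trivial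
    exact ⟨n, s, hx, haff⟩
  rw [Opens.isBasis_iff_nbhd]
  intro O z hz
  obtain ⟨m, s, hsx, hsaff⟩ := hL.2.2 (p z)
  obtain ⟨l, t, htx, htaff⟩ := hN.2.2 (q z)
  obtain ⟨s', hs'⟩ := Groth.Agent.Props.GenProd.exists_pow hL.1 s (l + 1) _ rfl
  obtain ⟨t', ht'⟩ := Groth.Agent.Props.GenProd.exists_pow hN.1 t (m + 1) _ (Nat.mul_comm (m + 1) (l + 1))
  have es := Groth.Agent.Props.GenProd.genLocus_pow hL.1 s (Nat.succ_pos l) s' hs'
  have et := Groth.Agent.Props.GenProd.genLocus_pow hN.1 t (Nat.succ_pos m) t' ht'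
  obtain ⟨r, hr⟩ := Groth.Agent.Props.GenBox.exists_box p q hL.1 hN.1 s' t'
  rw [es, et] at hr
  let V := CohB1.genLocus _ s
  let W := CohB1.genLocus _ t
  let U := CohB1.genLocus _ r
  have : IsAffine V.toScheme := hsaff
  have : IsAffine W.toScheme := htaff
  have hUV : U ≤ p ⁻¹ᵁ V := hr.le.trans inf_le_left
  have hUW : U ≤ q ⁻¹ᵁ W := hr.le.trans inf_le_right
  let i : S ⟶ ⊤_ Scheme.{u} := terminal.from S
  let φ : U.toScheme ⟶ pullback (V.ι ≫ f ≫ i) (W.ι ≫ g ≫ i) :=
    pullback.lift (p.resLE V U hUV) (q.resLE W U hUW) (terminal.hom_ext _ _)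
  let ψ : pullback (V.ι ≫ f ≫ i) (W.ι ≫ g ≫ i) ⟶ pullback (f ≫ i) (g ≫ i) :=
    pullback.map _ _ _ _ V.ι W.ι (𝟙 _) (Category.comp_id _) (Category.comp_id _)
  have hcomp : φ ≫ ψ = U.ι ≫ pullback.mapDesc f g i := by
    apply pullback.hom_ext
    · simp only [φ, ψ, p, pullback.mapDesc, pullback.map, Category.assoc, pullback.lift_fst, pullback.lift_fst_assoc]; simp
    · simp only [φ, ψ, q, pullback.mapDesc, pullback.map, Category.assoc, pullback.lift_snd, pullback.lift_snd_assoc]; simp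
  have : IsImmersion (φ ≫ ψ) := by rw [hcomp]; infer_instance
  have : IsImmersion φ := IsImmersion.of_comp φ ψ
  obtain ⟨a, hza, haO⟩ := exists_basicOpen_of_embedding φ φ.isEmbedding.isInducing
    (O := O) (x := z) ⟨hr.ge ⟨hsx, htx⟩, hz⟩
  obtain ⟨N', T, hT⟩ := Groth.Agent.Props.GenExt.exists_basicOpen hinv
    (Nat.mul_pos (Nat.succ_pos m) (Nat.succ_pos l)) r a
  exact ⟨_, ⟨N', T, hT.symm⟩, hza, haO⟩

end Groth.Agent.S9816
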