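import Groth.Statements.S14810
import Groth.Agent.PicAlg.CurveThrough
import Groth.Agent.S4413
import Groth.Agent.Snapper.Basic
import Groth.Agent.S16188
import Groth.Agent.CohDev.Piece
-- import your own Groth.Agent.* helpers here

set_option autoImplicit false
universe u
open CategoryTheory CategoryTheory.Limits AlgebraicGeometry
open Pic13

namespace Groth.Agent.S14810

/-- Let X be an integral scheme, proper over a field k, such that Γ(X, O_X) is a field, and let L be an
invertible O_X-module which is numerically trivial: its restriction to every closed subscheme of X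
which is integral of dimension one has degree 0. If L has a nonzero global section (a nonzero
morphism O_X → L), then L is isomorphic to O_X. -/
theorem result (k : Type u) [Field k] (X : Scheme.{u})
    [X.Over (Spec (CommRingCat.of k))] [IsProper (X ↘ Spec (CommRingCat.of k))] [IsIntegral X]
    (hfield : IsField (Γ(X, ⊤) : Type u)) (L : X.Modules) (hL : PicF.IsInvertible L)
    (hnum : Pic13.IsNumEquivZero k X L) (s : Coh.structureModule X ⟶ L) (hs : s ≠ 0) :
    Nonempty (L ≅ Coh.structureModule X) := by
  have hO := Groth.Agent.LFFrame.isInvertible_structureModule X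
  have hmono : Mono s := Groth.Agent.EulerChar.mono_of_ne_zero hO hL s hs
  by_cases hall : ∀ x : X, x ∈ CohB1.genLocus L s
  · have : Epi s := Preadditive.epi_of_isZero_cokernel s
      (Groth.Agent.CohDev.isZero_of_support_eq_empty (Set.eq_empty_iff_forall_notMem.2 fun x =>
        Groth.Agent.CohDev.not_mem_support_cokernel s
          (Groth.Agent.HilbPolyX.stalk_sec_bijective s (hall x)).2))
    have : IsIso s := isIso_of_mono_of_epi s
    exact ⟨(asIso s).symm⟩
  exfalso
  push Not at hall
  obtain ⟨x₁, hx₁⟩ := hall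
  have := Groth.Agent.EulerChar.isNoetherian k (X := X)
  obtain ⟨x, hxD, hxc⟩ := (CohB1.genLocus L s).2.isClosed_compl.exists_closed_singleton ⟨x₁, hx₁⟩
  obtain ⟨U₀, e₀, hxU₀, he₀⟩ := Groth.Agent.Props.GenLocus.exists_isGen hL x
  obtain ⟨U, hU, hxU, hle⟩ := exists_isAffineOpen_mem_and_subset (X := X) (U := U₀) hxU₀
  have he := he₀.restrict hle
  obtain ⟨f, hf, -⟩ := he.exists_eq le_rfl (Groth.Agent.Props.GenLocus.sec s U)
  rw [Groth.Agent.QCoh.res_self] at hf
  have hloc := Groth.Agent.Props.GenLocus.genLocus_inf he s hf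
  have hη : genericPoint X ∈ CohB1.genLocus L s := by
    by_contra hn
    exact Groth.Agent.CohDev.not_mem_support_cokernel s
      (Groth.Agent.EulerChar.bijective_stalk_generic hO hL s hs).2
      (Groth.Agent.PicAlg.compl_genLocus_subset_support hL s hn)
  obtain ⟨y, hyx, hyO, hy1⟩ := Groth.Agent.PicAlg.exists_dimPt_eq_one k hxc hxD hU hxU f hloc
    (genericPoint_specializes x) hη
  let Z := (IntMult.ptIdeal y).subscheme
  let ι : Z ⟶ X := (IntMult.ptIdeal y).subschemeι
  have hr : Set.range ι = closure ({y} : Set X) := (IntMult.ptIdeal y).range_subschemeι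
  have : IsIntegral Z := Groth.Agent.S16188.isIntegral_subscheme _ isIrreducible_singleton.closure
  have hdim : topologicalKrullDim Z = 1 := by
    have h1 : topologicalKrullDim Z = topologicalKrullDim ↥(closure ({y} : Set X)) := by
      rw [← hr]
      exact IsHomeomorph.topologicalKrullDim_eq _
        (ι.isClosedEmbedding.isEmbedding.toHomeomorph).isHomeomorph
    rw [h1]
    refine le_antisymm ?_ ?_
    · refine Groth.Agent.EGA4Lib.ZeroLocusDim.topDim_le k isClosed_closure (n := 1) fun z hz => ?_
      exact hy1 ▸ (Groth.Agent.VarDim.exists_ltSeries_of_le k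
        (specializes_iff_mem_closure.2 hz : z ≤ y)).1
    · have h2 := Groth.Agent.EGA4Lib.ZeroLocusDim.le_topDim k isClosed_closure (y := y)
        (S := closure ({y} : Set X)) (subset_closure rfl)
      rw [hy1] at h2
      exact_mod_cast h2
  have hdeg := hnum Z ι inferInstance hdim
  let _ : Z.Over (Spec (CommRingCat.of k)) := ⟨ι ≫ (X ↘ Spec (CommRingCat.of k))⟩
  have : IsProper (Z ↘ Spec (CommRingCat.of k)) :=
    inferInstanceAs (IsProper (ι ≫ (X ↘ Spec (CommRingCat.of k))))
  have := Groth.Agent.EulerChar.isNoetherian k (X := Z)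
  have hd1 : topologicalKrullDim Z ≤ ((1 : ℕ) : WithBot ℕ∞) := by rw [hdim]; simp
  let e := (Groth.Agent.QCoh.pullbackUnitIso ι).symm
  let t := e.hom ≫ (Scheme.Modules.pullback ι).map s
  have hloct := Groth.Agent.S4413.result ι L hL s e
  have hLZ := Groth.Agent.PicCl.isInvertible_pullback ι hL
  have hOZ := Groth.Agent.LFFrame.isInvertible_structureModule Z
  obtain ⟨z, hz⟩ : y ∈ Set.range ι := hr ▸ subset_closure rfl
  obtain ⟨x', hx'⟩ : x ∈ Set.range ι := hr ▸ specializes_iff_mem_closure.1 hyx
  have hzg : z ∈ CohB1.genLocus _ t := hloct ▸ (show ι z ∈ CohB1.genLocus L s from hz.symm ▸ hyO)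
  have hxg : x' ∉ CohB1.genLocus _ t := fun h =>
    hxD (hx' ▸ (show x' ∈ ι ⁻¹ᵁ CohB1.genLocus L s from hloct ▸ h))
  have ht : t ≠ 0 := fun h0 => by
    have hbz := (Groth.Agent.HilbPolyX.stalk_sec_bijective t hzg).1
    rw [h0] at hbz
    obtain ⟨eO⟩ := Groth.Agent.EulerChar.stalk_ofRank
      (Groth.Agent.ProjTwist.isFinLocFreeOfRank_one hOZ) z
    have : Subsingleton ((Coh.structureModule Z).presheaf.stalk z) := by
      refine ⟨fun a b => hbz ?_⟩
      rw [Groth.Agent.CohDev.stalkLin_zero_apply, Groth.Agent.CohDev.stalkLin_zero_apply]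
    have : Subsingleton (Fin 1 → Z.presheaf.stalk z) := eO.injective.subsingleton
    exact one_ne_zero (congrFun (Subsingleton.elim (1 : Fin 1 → Z.presheaf.stalk z) 0) 0)
  have hmt : Mono t := Groth.Agent.EulerChar.mono_of_ne_zero hOZ hLZ t ht
  have hOc := Groth.Agent.ProperFin.isCoh_structureModule Z
  have hLc : Coh.IsCoh ((Scheme.Modules.pullback ι).obj L) :=
    Groth.Agent.CohDev.isCoh_of_iso (Groth.Agent.ProjTwist.tensOne _)
      (Groth.Agent.Snapper.isCoh_tensorMod k hLZ hOc)
  have hC : Coh.IsCoh (cokernel t) := Groth.Agent.CohDev.isCoh_cokernel t hOc.1 hLc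
  have hCd : topologicalKrullDim ↥(CohB1.support (cokernel t)) ≤ 0 := by
    refine (Groth.Agent.Snapper.le_of_lt_succ (n := 0) ?_).trans_eq Nat.cast_zero
    refine Groth.Agent.CohDev.dim_lt_of_irreducible (n := 1)
      (Groth.Agent.CohDev.isClosed_support hC) (IrreducibleSpace.isIrreducible_univ Z)
      (Set.subset_univ _) (fun h => Groth.Agent.CohDev.not_mem_support_cokernel t
        (Groth.Agent.EulerChar.bijective_stalk_generic hOZ hLZ t ht).2 (h (Set.mem_univ _))) ?_
    rw [IsHomeomorph.topologicalKrullDim_eq _ (Homeomorph.Set.univ Z).isHomeomorph, hdim]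
    simp
  have hS : (ShortComplex.mk t (cokernel.π t) (cokernel.condition t)).ShortExact :=
    { exact := ShortComplex.exact_of_g_is_cokernel _ (cokernelIsCokernel t)
      mono_f := hmt
      epi_g := inferInstanceAs (Epi (cokernel.π t)) }
  have hadd := Groth.Agent.EulerChar.euler_add k hS hOc hLc hC
  have h0 : Curv2.euler k Z (cokernel t) = 0 := by
    rw [Pic13.curveDeg] at hdeg
    change FGA.eulerCharLE k Z ((Scheme.Modules.pullback ι).obj L) 1 -
      FGA.eulerCharLE k Z (Coh.structureModule Z) 1 = 0 at hdeg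
    rw [Groth.Agent.Snapper.eulerCharLE_eq k hd1, Groth.Agent.Snapper.eulerCharLE_eq k hd1] at hdeg
    change Curv2.euler k Z ((Scheme.Modules.pullback ι).obj L) =
      Curv2.euler k Z (Coh.structureModule Z) + Curv2.euler k Z (cokernel t) at hadd
    omega
  have hz0 := Groth.Agent.EulerChar.isZero_of_euler_eq_zero k hC hCd h0
  exact Groth.Agent.PicAlg.compl_genLocus_subset_support hLZ t hxg
    (AddCommGrpCat.subsingleton_of_isZero ((Scheme.Modules.toPresheaf Z ⋙
      TopCat.Presheaf.stalkFunctor AddCommGrpCat.{u} x').map_isZero hz0))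

end Groth.Agent.S14810
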