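import Groth.Statements.S5151
import Groth.Agent.Depth.Open

set_option autoImplicit false
universe u
open LocCoh

namespace Groth.Agent.S5151

/-- Let A be a Noetherian ring, I an ideal and M a finite A-module with IM ≠ M. Every weakly M-regular
sequence of elements of I can be extended to a maximal one (one after which no element of I is
M-regular on the quotient), and any maximal weakly M-regular sequence of elements of I has length
equal to the I-depth of M. (The published statement does not assume IM ≠ M; without it the first
assertion fails: over ℤ with I = (2) and M = ℤ/3 the element 2 is M-regular with M/2M = 0, after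
which every element of I is regular on the zero module, so no weakly M-regular sequence of elements
of I is maximal, while the I-depth is infinite. With IM ≠ M every weakly M-regular sequence in I is
M-regular and the I-depth is finite.) -/
theorem result (A : Type u) [CommRing A] [IsNoetherianRing A] (I : Ideal A) (M : Type u) [AddCommGroup M] [Module A M] [Module.Finite A M] (hIM : I • (⊤ : Submodule A M) ≠ ⊤) : (∀ rs : List A, RingTheory.Sequence.IsWeaklyRegular M rs → (∀ r ∈ rs, r ∈ I) → ∃ rs' : List A, rs <+: rs' ∧ RingTheory.Sequence.IsWeaklyRegular M rs' ∧ (∀ r ∈ rs', r ∈ I) ∧ ∀ r ∈ I, ¬ RingTheory.Sequence.IsWeaklyRegular M (rs' ++ [r])) ∧ (∀ rs : List A, RingTheory.Sequence.IsWeaklyRegular M rs → (∀ r ∈ rs, r ∈ I) → (∀ r ∈ I, ¬ RingTheory.Sequence.IsWeaklyRegular M (rs ++ [r])) → (rs.length : ℕ∞) = LocCoh.idealDepth I M) := by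
  obtain ⟨d, hd⟩ := ENat.ne_top_iff_exists.mp (Depth.idealDepth_lt_top hIM).ne
  constructor
  · suffices H : ∀ (k : ℕ) (rs : List A), d ≤ rs.length + k → RingTheory.Sequence.IsWeaklyRegular M rs →
        (∀ r ∈ rs, r ∈ I) → ∃ rs' : List A, rs <+: rs' ∧ RingTheory.Sequence.IsWeaklyRegular M rs' ∧
          (∀ r ∈ rs', r ∈ I) ∧ ∀ r ∈ I, ¬ RingTheory.Sequence.IsWeaklyRegular M (rs' ++ [r]) by
      exact fun rs h h' => H d rs (Nat.le_add_left d _) h h'
    intro k
    induction k with
    | zero =>
      intro rs hk h h'
      refine ⟨rs, List.prefix_refl rs, h, h', fun r hr hc => ?_⟩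
      have := Depth.le_idealDepth_of_isWeaklyRegular (I := I) hc
        (by simp only [List.mem_append, List.mem_singleton]; rintro a (ha | rfl); exacts [h' a ha, hr])
      rw [← hd] at this
      norm_cast at this
      simp at this
      omega
    | succ k ih =>
      intro rs hk h h'
      by_cases hmax : ∀ r ∈ I, ¬ RingTheory.Sequence.IsWeaklyRegular M (rs ++ [r])
      · exact ⟨rs, List.prefix_refl rs, h, h', hmax⟩
      · push Not at hmax
        obtain ⟨r, hr, hreg⟩ := hmax
        obtain ⟨rs', hpre, hrest⟩ := ih (rs ++ [r]) (by simp; omega) hreg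
          (by simp only [List.mem_append, List.mem_singleton]; rintro a (ha | rfl); exacts [h' a ha, hr])
        exact ⟨rs', (List.prefix_append rs [r]).trans hpre, hrest⟩
  · intro rs h h' hmax
    have h0 : LocCoh.idealDepth I (M ⧸ (Ideal.ofList rs • ⊤ : Submodule A M)) = 0 := by
      by_contra hne
      obtain ⟨r, hr, hreg⟩ := Depth.exists_isSMulRegular_of_one_le_idealDepth
        (I := I) (M := M ⧸ (Ideal.ofList rs • ⊤ : Submodule A M)) (Order.one_le_iff_pos.mpr (pos_iff_ne_zero.mpr hne))
      refine hmax r hr ((RingTheory.Sequence.isWeaklyRegular_append_iff M rs [r]).mpr ⟨h, ?_⟩)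
      exact (RingTheory.Sequence.isWeaklyRegular_singleton_iff _ r).mpr hreg
    rw [← Depth.idealDepth_quotient_add_length rs M h h', h0, zero_add]

end Groth.Agent.S5151
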