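import Groth.Statements.S10849
import Mathlib

set_option autoImplicit false
universe u
open VbP1

namespace Groth.Agent.S10849

open Polynomial LaurentPolynomial in
theorem laurent_eq_reflect {k : Type u} [Field k] (p : Polynomial k) {r : ℕ} (h : p.natDegree ≤ r) :
    p.toLaurent = LaurentPolynomial.T (r : ℤ) * LaurentPolynomial.invert (Polynomial.toLaurent (p.reflect r)) := by
  have key : ∀ (c : k) (m : ℕ), m ≤ r → (Polynomial.C c * Polynomial.X ^ m).toLaurent =
      LaurentPolynomial.T (r : ℤ) * LaurentPolynomial.invert (Polynomial.toLaurent ((Polynomial.C c * Polynomial.X ^ m).reflect r)) := by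
    intro c m hm
    rw [Polynomial.reflect_C_mul_X_pow, Polynomial.revAt_le hm, Polynomial.toLaurent_C_mul_X_pow,
      Polynomial.toLaurent_C_mul_X_pow, map_mul, invert_C, invert_T, mul_left_comm, ← T_add]
    congr 2
    omega
  have e := p.as_sum_range' (r + 1) (by omega)
  conv_lhs => rw [e]
  conv_rhs => rw [e]
  have hadd : ∀ s : Finset ℕ, (∀ m ∈ s, m ≤ r) →
      (Polynomial.toLaurent (∑ m ∈ s, Polynomial.monomial m (p.coeff m))) =
        LaurentPolynomial.T (r : ℤ) * LaurentPolynomial.invert (Polynomial.toLaurent ((∑ m ∈ s, Polynomial.monomial m (p.coeff m)).reflect r)) := by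
    intro s
    induction s using Finset.induction with
    | empty => intro _; simp
    | insert a s ha ih =>
      intro hs
      rw [Finset.sum_insert ha, Polynomial.reflect_add, map_add, map_add, map_add, mul_add,
        ih fun m hm => hs m (Finset.mem_insert_of_mem hm), ← Polynomial.C_mul_X_pow_eq_monomial,
        key _ _ (hs a (Finset.mem_insert_self a s))]
  exact hadd _ fun m hm => by have := Finset.mem_range.mp hm; omega

open Polynomial in
/-- Row reduction: some left multiple has invertible leading row coefficients. -/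
theorem exists_reduced {k : Type u} [Field k] {n : ℕ} (A : Matrix (Fin n) (Fin n) (Polynomial k)) (hA : A.det ≠ 0) :
    ∃ (U : Matrix (Fin n) (Fin n) (Polynomial k)) (r : Fin n → ℕ), IsUnit U ∧
      (∀ i j, ((U * A) i j).natDegree ≤ r i) ∧
      (Matrix.of fun i j => ((U * A) i j).coeff (r i)).det ≠ 0 := by
  classical
  let μ : Matrix (Fin n) (Fin n) (Polynomial k) → Fin n → ℕ := fun M i => Finset.univ.sup fun j => (M i j).natDegree
  have hex : ∃ t, ∃ U : Matrix (Fin n) (Fin n) (Polynomial k), IsUnit U ∧ ∑ i, μ (U * A) i = t :=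
    ⟨_, 1, isUnit_one, rfl⟩
  obtain ⟨U, hU, ht⟩ := Nat.find_spec hex
  have hmin : ∀ V : Matrix (Fin n) (Fin n) (Polynomial k), IsUnit V → ∑ i, μ (U * A) i ≤ ∑ i, μ (V * A) i :=
    fun V hV => ht ▸ Nat.find_le ⟨V, hV, rfl⟩
  set M := U * A with hM
  set r := μ M with hr
  have hdeg : ∀ i j, (M i j).natDegree ≤ r i := fun i j =>
    Finset.le_sup (f := fun j => (M i j).natDegree) (Finset.mem_univ j)
  refine ⟨U, r, hU, hdeg, fun hdet => ?_⟩
  obtain ⟨c, hc0, hc⟩ := Matrix.exists_vecMul_eq_zero_iff.mpr hdet
  obtain ⟨i₀, hi₀, hmax⟩ : ∃ i₀ ∈ Finset.univ.filter (fun i => c i ≠ 0), ∀ j ∈ Finset.univ.filter (fun i => c i ≠ 0), r j ≤ r i₀ := by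
    refine Finset.exists_max_image _ r ?_
    obtain ⟨i, hi⟩ := Function.ne_iff.mp hc0
    exact ⟨i, by simpa using hi⟩
  rw [Finset.mem_filter] at hi₀
  let v : Fin n → Polynomial k := fun l => if c l = 0 then 0 else Polynomial.C (c l) * Polynomial.X ^ (r i₀ - r l)
  let E : Matrix (Fin n) (Fin n) (Polynomial k) := (1 : Matrix (Fin n) (Fin n) (Polynomial k)).updateRow i₀ v
  have hEdet : E.det = Polynomial.C (c i₀) := by
    have h := Matrix.det_updateRow_sum (1 : Matrix (Fin n) (Fin n) (Polynomial k)) i₀ v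
    have e : (∑ l, v l • (1 : Matrix (Fin n) (Fin n) (Polynomial k)) l) = v := by
      funext j
      simp [Matrix.one_apply, Finset.sum_apply]
    rw [e, Matrix.det_one, smul_eq_mul, mul_one] at h
    rw [h]
    simp [v, hi₀.2]
  have hE : IsUnit E := by
    rw [Matrix.isUnit_iff_isUnit_det, hEdet]
    exact (isUnit_iff_ne_zero.mpr hi₀.2).map Polynomial.C
  have hrow : ∀ j, (E * M) i₀ j = ∑ l, v l * M l j := fun j => by
    simp [E, Matrix.mul_apply, Matrix.updateRow_self]
  have hother : ∀ i, i ≠ i₀ → μ (E * M) i = r i := fun i hi => by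
    simp only [μ, hr]
    congr 1
    funext j
    simp [E, Matrix.mul_apply, Matrix.updateRow_ne hi, Matrix.one_apply]
  have hcoef : ∀ j m, r i₀ ≤ m → ((E * M) i₀ j).coeff m = 0 := by
    intro j m hm
    rw [hrow, Polynomial.finsetSum_coeff]
    rcases eq_or_lt_of_le hm with rfl | hlt
    · refine Eq.trans ?_ (congrFun hc j)
      simp only [Matrix.vecMul, dotProduct, Matrix.of_apply]
      refine Finset.sum_congr rfl fun l _ => ?_
      by_cases hl : c l = 0
      · simp [v, hl]
      · have := hmax l (by simp [hl])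
        simp only [v, if_neg hl]
        rw [mul_assoc, Polynomial.coeff_C_mul, Polynomial.coeff_X_pow_mul', if_pos (by omega)]
        congr 2
        omega
    · refine Finset.sum_eq_zero fun l _ => ?_
      by_cases hl : c l = 0
      · simp [v, hl]
      · have := hmax l (by simp [hl])
        simp only [v, if_neg hl]
        rw [mul_assoc, Polynomial.coeff_C_mul, Polynomial.coeff_X_pow_mul', if_pos (by omega),
          Polynomial.coeff_eq_zero_of_natDegree_lt (lt_of_le_of_lt (hdeg l j) (by omega)), mul_zero]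
  have hEA : (E * M).det ≠ 0 := by
    rw [hM, ← Matrix.mul_assoc, Matrix.det_mul, Matrix.det_mul]
    exact mul_ne_zero (mul_ne_zero ((Matrix.isUnit_iff_isUnit_det E).mp hE).ne_zero
      ((Matrix.isUnit_iff_isUnit_det U).mp hU).ne_zero) hA
  have hpos : 0 < r i₀ := by
    by_contra h0
    refine hEA (Matrix.det_eq_zero_of_row_eq_zero i₀ fun j => ?_)
    exact Polynomial.ext fun m => by rw [hcoef j m (by omega)]; simp
  have hlt : μ (E * M) i₀ < r i₀ := by
    simp only [μ]
    rw [Finset.sup_lt_iff hpos]
    intro j _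
    have := Polynomial.natDegree_le_iff_coeff_eq_zero.mpr (fun m (hm : r i₀ - 1 < m) => hcoef j m (by omega))
    omega
  have h := hmin (E * U) (hE.mul hU)
  rw [Matrix.mul_assoc, ← hM] at h
  have : ∑ i, μ (E * M) i < ∑ i, r i :=
    Finset.sum_lt_sum (fun i _ => by
      rcases eq_or_ne i i₀ with rfl | hi
      · exact hlt.le
      · exact (hother i hi).le) ⟨i₀, Finset.mem_univ _, hlt⟩
  exact absurd h (not_le.mpr this)


/-- Let k be a field and n a natural number. For every invertible n × n matrix A with entries in the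
Laurent polynomial ring k[T, T⁻¹] there are matrices P and Q over k[T], invertible over k[T], and
integers d_1 ≥ d_2 ≥ … ≥ d_n (indexed by Fin n, antitone) such that A = P · diag(T^{d_i}) · Q⁻,
where Q⁻ is obtained from Q by the substitution T ↦ T⁻¹ (so Q⁻ is invertible over k[T⁻¹]). -/
theorem result (k : Type u) [Field k] (n : ℕ)
    (A : Matrix (Fin n) (Fin n) (LaurentPolynomial k)) (hA : IsUnit A) :
    ∃ (P Q : Matrix (Fin n) (Fin n) (Polynomial k)) (d : Fin n → ℤ),
      IsUnit P ∧ IsUnit Q ∧ Antitone d ∧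
        A = P.map Polynomial.toLaurent * Matrix.diagonal (fun i => LaurentPolynomial.T (d i)) *
          (Q.map Polynomial.toLaurent).map LaurentPolynomial.invert := by
  classical
  -- clear denominators
  choose N f hf using fun ij : Fin n × Fin n => LaurentPolynomial.exists_T_pow (A ij.1 ij.2)
  let S : ℕ := Finset.univ.sup N
  let A₀ : Matrix (Fin n) (Fin n) (Polynomial k) := Matrix.of fun i j => f (i, j) * Polynomial.X ^ (S - N (i, j))
  have hA₀ : A₀.map Polynomial.toLaurent = (LaurentPolynomial.T (S : ℤ) : LaurentPolynomial k) • A := by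
    refine Matrix.ext fun i j => ?_
    rw [Matrix.map_apply]
    change Polynomial.toLaurent (f (i, j) * Polynomial.X ^ (S - N (i, j))) = _
    rw [map_mul, Polynomial.toLaurent_X_pow, hf, mul_assoc,
      ← LaurentPolynomial.T_add, Matrix.smul_apply, smul_eq_mul, mul_comm]
    congr 2
    have := Finset.le_sup (f := N) (Finset.mem_univ (i, j))
    simp only [S] at *
    omega
  have hdetA : IsUnit A.det := (Matrix.isUnit_iff_isUnit_det A).mp hA
  have hmap : ∀ B : Matrix (Fin n) (Fin n) (Polynomial k), (B.map Polynomial.toLaurent).det = Polynomial.toLaurent B.det :=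
    fun B => (RingHom.map_det (Polynomial.toLaurent (R := k)) B).symm
  have hTu : ∀ z : ℤ, IsUnit (LaurentPolynomial.T z : LaurentPolynomial k) := fun z => LaurentPolynomial.isUnit_T z
  have hu₀ : IsUnit (Polynomial.toLaurent A₀.det) := by
    rw [← hmap, hA₀, Matrix.det_smul]
    exact ((hTu _).pow _).mul hdetA
  have hdet₀ : A₀.det ≠ 0 := fun h => by
    rw [h, map_zero] at hu₀
    exact not_isUnit_zero hu₀
  obtain ⟨U, r, hU, hdeg, hlead⟩ := exists_reduced A₀ hdet₀
  let Q₀ : Matrix (Fin n) (Fin n) (Polynomial k) := Matrix.of fun i j => ((U * A₀) i j).reflect (r i)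
  have hfac : (U * A₀).map Polynomial.toLaurent =
      Matrix.diagonal (fun i => LaurentPolynomial.T (r i : ℤ)) * (Q₀.map Polynomial.toLaurent).map LaurentPolynomial.invert := by
    refine Matrix.ext fun i j => ?_
    rw [Matrix.diagonal_mul]
    exact laurent_eq_reflect _ (hdeg i j)
  have hQ₀ : IsUnit Q₀ := by
    rw [Matrix.isUnit_iff_isUnit_det]
    have h0 : IsUnit (Polynomial.toLaurent Q₀.det) := by
      have hL : IsUnit ((U * A₀).map Polynomial.toLaurent).det := by
        rw [hmap, Matrix.det_mul, map_mul]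
        exact (((Matrix.isUnit_iff_isUnit_det U).mp hU).map Polynomial.toLaurent).mul hu₀
      rw [hfac, Matrix.det_mul] at hL
      have h1 := isUnit_of_mul_isUnit_right hL
      have e : ((Q₀.map Polynomial.toLaurent).map LaurentPolynomial.invert).det =
          LaurentPolynomial.invert (Q₀.map Polynomial.toLaurent).det :=
        (AlgHom.map_det (LaurentPolynomial.invert (R := k)).toAlgHom _).symm
      rw [e, hmap] at h1
      exact (isUnit_map_iff LaurentPolynomial.invert _).mp h1
    have hc0 : Q₀.det.coeff 0 ≠ 0 := by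
      rw [Polynomial.coeff_zero_eq_eval_zero, ← Polynomial.coe_evalRingHom, RingHom.map_det]
      convert hlead using 2
      refine Matrix.ext fun i j => ?_
      simp [Q₀, ← Polynomial.coeff_zero_eq_eval_zero, Polynomial.coeff_reflect, Polynomial.revAt_le]
    obtain ⟨b, hb⟩ := h0.exists_right_inv
    obtain ⟨m, b', hb'⟩ := LaurentPolynomial.exists_T_pow b
    have heq : Q₀.det * b' = Polynomial.X ^ m := by
      apply Polynomial.toLaurent_injective
      rw [map_mul, hb', ← mul_assoc, hb, one_mul, Polynomial.toLaurent_X_pow]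
    have hdvd : Q₀.det ∣ Polynomial.X ^ m := ⟨b', heq.symm⟩
    obtain ⟨l, -, hl⟩ := (dvd_prime_pow Polynomial.prime_X m).mp hdvd
    obtain ⟨w, hw⟩ := hl.symm
    have : l = 0 := by
      by_contra hl0
      apply hc0
      rw [← hw, Polynomial.mul_coeff_zero, Polynomial.coeff_X_pow, if_neg (Ne.symm hl0), zero_mul]
    rw [← hw, this, pow_zero, one_mul]
    exact w.isUnit
  obtain ⟨U', hU'⟩ := hU.exists_left_inv
  let σ : Equiv.Perm (Fin n) := Tuple.sort fun i => -(r i : ℤ)
  refine ⟨U'.submatrix id σ, Q₀.submatrix σ id, fun i => (r (σ i) : ℤ) - S, ?_, ?_, ?_, ?_⟩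
  · exact (Matrix.isUnit_submatrix_equiv (e₁ := Equiv.refl _) (e₂ := σ)).mpr
      ⟨⟨U', U, hU', mul_eq_one_comm.mp hU'⟩, rfl⟩
  · exact (Matrix.isUnit_submatrix_equiv (e₁ := σ) (e₂ := Equiv.refl _)).mpr hQ₀
  · intro i j hij
    have := Tuple.monotone_sort (fun i => -(r i : ℤ)) hij
    simp only [Function.comp_apply] at this
    simp only [σ] at *
    omega
  · have hA₀' : A₀.map Polynomial.toLaurent = U'.map Polynomial.toLaurent * (U * A₀).map Polynomial.toLaurent := by
      rw [← Matrix.map_mul, ← Matrix.mul_assoc, hU', Matrix.one_mul]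
    have hmain : A = U'.map Polynomial.toLaurent * (Matrix.diagonal (fun i => (LaurentPolynomial.T ((r i : ℤ) - S) : LaurentPolynomial k)) *
        (Q₀.map Polynomial.toLaurent).map LaurentPolynomial.invert) := by
      have h := congrArg ((LaurentPolynomial.T (-(S : ℤ)) : LaurentPolynomial k) • ·) (hA₀.symm.trans hA₀')
      simp only [smul_smul, ← LaurentPolynomial.T_add, neg_add_cancel, LaurentPolynomial.T_zero, one_smul, hfac] at h
      rw [h, ← Matrix.mul_smul, ← Matrix.smul_mul, ← Matrix.diagonal_smul]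
      congr 3
      funext i
      rw [Pi.smul_apply, smul_eq_mul, ← LaurentPolynomial.T_add]
      congr 1
      omega
    rw [hmain, ← Matrix.mul_assoc]
    refine Matrix.ext fun i j => ?_
    rw [Matrix.mul_apply, Matrix.mul_apply]
    simp only [Matrix.mul_diagonal, Matrix.map_apply, Matrix.submatrix_apply, id]
    exact (Equiv.sum_comp σ (fun l => Polynomial.toLaurent (U' i l) * LaurentPolynomial.T ((r l : ℤ) - S) *
      LaurentPolynomial.invert (Polynomial.toLaurent (Q₀ l j)))).symm

end Groth.Agent.S10849
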