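import Groth.Statements.S14340
import Groth.Agent.VBLib.GlobGen
import Groth.Agent.VBLib.SplitOne
import Groth.Agent.VBLib.RRGeom
import Groth.Agent.VBLib.LineCalc
import Groth.Agent.VBLib.PushEuler
import Groth.Agent.CurveCoh.Integral
import Groth.Agent.PicPn.LineSplit
import Groth.Agent.FFCurve.P1Map
import Groth.Agent.S4466
import Groth.Agent.ProjTwist.Zero
import Groth.Agent.FEtCat.Rank
import Groth.Agent.EulerChar.FiniteMap
import Groth.Agent.GRLocus.Basic
import Groth.Agent.PicCl.Basic
import Groth.Agent.RankLocus.Basic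
import Groth.Agent.PruferSerre.Main
import Groth.Agent.ProjTwist.Pn.H0
import Groth.Agent.PlanePts.Forms
import Groth.Agent.AbVarLib.Basics

set_option autoImplicit false
universe u
open CategoryTheory CategoryTheory.Limits AlgebraicGeometry
open Curves

set_option linter.style.haveILetI false
namespace Groth.Agent.S14340

open Groth.Agent.VBLib

variable (k : Type u) [Field k]

lemma euler_twist [IsIntegral (CohB1.ProjSpace 1 k)] (n : ℤ) :
    Curv2.euler k (CohB1.ProjSpace 1 k) (Twist.twistProjSpace 1 k n) = n + 1 := by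
  obtain ⟨hPp, hPs, -, hPd⟩ := FFCurve.p1_facts k
  haveI : IsProper ((CohB1.ProjSpace 1 k) ↘ Spec (CommRingCat.of k)) := hPp
  haveI : Smooth ((CohB1.ProjSpace 1 k) ↘ Spec (CommRingCat.of k)) := hPs
  haveI : (Twist.twistProjSpace 1 k n).IsQuasicoherent :=
    ProjTwist.isQCoh_of_isInvertible (ProjTwist.isInvertible_twistProjSpace 1 k n)
  rw [CurveCoh.euler_eq _ (goodCurve_of_smooth (k := k) (X := CohB1.ProjSpace 1 k) hPd).val hPd]
  have h := S4466.result k 1 one_pos n
  simp only [Finset.sum_range_succ, Finset.sum_range_zero, zero_add, pow_zero, pow_one, one_mul, neg_mul,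
    Ring.choose_one_right, Nat.cast_one] at h
  linarith



/-- Let k be a field and C a smooth proper geometrically connected curve over k (of dimension one) of
genus g = dim_k H^1(C, O_C) ≥ 2 which is hyperelliptic: there is a morphism f : C → P^1_k over k,
finite and flat of constant rank 2; let L = f^*O(1) be its g^1_2. Then for every r with 0 ≤ r ≤ g −
1 the k-vector space H^0(C, L^{⊗r}) has dimension r + 1. (The published statement asserts that the
pullback of sections H^0(P^1_k, O(r)) → H^0(C, L^{⊗r}) is an isomorphism and takes C projective;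
this row states the equivalent dimension count, that map being injective for the dominant f with
source of dimension r + 1, and takes C proper, which for curves over a field is the same.) -/
theorem result (k : Type u) [Field k] (C : Scheme.{u}) [C.Over (Spec (CommRingCat.of k))] [IsProper (C ↘ Spec (CommRingCat.of k))] [Smooth (C ↘ Spec (CommRingCat.of k))] [GeometricallyConnected (C ↘ Spec (CommRingCat.of k))] (hC : topologicalKrullDim C = 1) (g : ℕ) (hg2 : 2 ≤ g) (hg : Curv2.genus k C = g) (f : C ⟶ CohB1.ProjSpace 1 k) (hf : f ≫ CohB1.ProjSpace.toSpec 1 k = C ↘ Spec (CommRingCat.of k)) [IsFinite f] [Flat f] (hrk : ∀ y : ↥(CohB1.ProjSpace 1 k), Scheme.Hom.finrank f y = 2) (r : ℕ) (hr : r + 1 ≤ g) : Module.finrank k (Coh.HH C (CohB1.tensorPow ((Scheme.Modules.pullback f).obj (Twist.twistProjSpace 1 k 1)) r) 0) = r + 1 := by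
  classical
  haveI : IsIntegral C := CurveCoh.isIntegral_of_smooth k C
  obtain ⟨hPp, hPs, hPi, hPd⟩ := FFCurve.p1_facts k
  haveI := hPi
  haveI : IsProper ((CohB1.ProjSpace 1 k) ↘ Spec (CommRingCat.of k)) := hPp
  haveI : Smooth ((CohB1.ProjSpace 1 k) ↘ Spec (CommRingCat.of k)) := hPs
  let π := f
  have w : π ≫ ((CohB1.ProjSpace 1 k) ↘ Spec (CommRingCat.of k)) = C ↘ Spec (CommRingCat.of k) := hf
  have hX := VBLib.goodCurve_of_smooth (k := k) hC
  have hY := VBLib.goodCurve_of_smooth (k := k) (X := CohB1.ProjSpace 1 k) hPd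
  haveI := hX.isLocallyNoetherian
  haveI := hY.isLocallyNoetherian
  haveI := AbVarLib.Basics.geometricallyReduced_of_smooth (C ↘ Spec (CommRingCat.of k))
  have hb := VBLib.bijective_toGlobal_of_geometrically k C
  haveI : LocallyOfFinitePresentation π := GRLocus.locallyOfFinitePresentation_of_lft π
  have hO := FEtCat.Rank.isFinLocFreeOfRank_of_finrank π 2 hrk
  haveI : Surjective π := Scheme.Hom.one_le_finrank_iff_surjective π |>.mp fun y => by show 1 ≤ Scheme.Hom.finrank f y; rw [hrk]; norm_num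
  have hξ : π (genericPoint C) = genericPoint (CohB1.ProjSpace 1 k) := by
    refine IsGenericPoint.eq ?_ (genericPoint_spec _)
    have := (genericPoint_spec C).image π.continuous
    rwa [Set.image_univ, Set.range_eq_univ.mpr π.surjective, closure_univ] at this
  have hres : π.residueDegree (genericPoint C) = 2 := by
    have hgen : ∀ y, y = π (genericPoint C) →
        Module.finrank ((CohB1.ProjSpace 1 k).presheaf.stalk y)
          (((Scheme.Modules.pushforward π).obj (Coh.structureModule C)).presheaf.stalk y) =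
        π.residueDegree (genericPoint C) := by
      rintro y rfl
      exact EulerChar.finrank_stalk_push π (fun x => EulerChar.eq_genericPoint_of_map_eq π w hC hPd hξ) hξ
    rw [← hgen _ hξ.symm]
    exact VBLib.rk_eq hO
  let T : ℤ → (CohB1.ProjSpace 1 k).Modules := fun n => Twist.twistProjSpace 1 k n
  have hT : ∀ n, PicF.IsInvertible (T n) := fun n => ProjTwist.isInvertible_twistProjSpace 1 k n
  have hTr : ∀ n, FlatMod.IsFinLocFreeOfRank 1 (T n) := fun n => VBLib.ofRank_one_of_invertible (hT n)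
  have hχO : Curv2.euler k (CohB1.ProjSpace 1 k) (Coh.structureModule (CohB1.ProjSpace 1 k)) = 1 := by
    have z : Coh.structureModule (CohB1.ProjSpace 1 k) ≅ Twist.twistProjSpace 1 k 0 :=
      ProjTwist.twistZeroIso (CohB1.polyGrading 1 k)
    rw [EulerChar.euler_iso k z]
    exact (euler_twist k 0).trans (by norm_num)
  have hTd : ∀ n, VBLib.dg k (T n) = n := fun n => by
    rw [← VBLib.dg_eq (hTr n), Curv2.deg, euler_twist k n, hχO]
    ring
  let P : ℤ → C.Modules := fun n => (Scheme.Modules.pullback π).obj (T n)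
  have hP : ∀ n, PicF.IsInvertible (P n) := fun n => PicCl.isInvertible_pullback π (hT n)
  have hPr : ∀ n, FlatMod.IsFinLocFreeOfRank 1 (P n) := fun n => VBLib.ofRank_one_of_invertible (hP n)
  have hPd' : ∀ n, VBLib.dg k (P n) = 2 * n := fun n => by
    rw [← VBLib.dg_eq (hPr n), EulerChar.deg_pullback π w hC hPd hξ (hTr n), hres, VBLib.dg_eq (hTr n), hTd]
    norm_num
  haveI : (Coh.structureModule C).IsQuasicoherent := ProjTwist.isQuasicoherent_structureModule _
  have hCO := VBLib.ofRank_one_of_invertible (LFFrame.isInvertible_structureModule C)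
  have hCd : VBLib.dg k (Coh.structureModule C) = 0 := by simp [VBLib.dg, Curv2.deg, VBLib.rk_eq hCO]
  have hχC : Curv2.euler k C (Coh.structureModule C) = 1 - (g : ℤ) := by
    rw [CurveCoh.euler_eq _ hX.val hX.dim, VBLib.finrank_H0_structure_eq_one hb, ← hg]
    rfl
  let F := (Scheme.Modules.pushforward π).obj (Coh.structureModule C)
  obtain ⟨c, hanti, ⟨e⟩⟩ := PicPn.exists_splitting (k := k) (E := F) (r := 2) hO
  have hca : c 1 ≤ c 0 := hanti (Fin.zero_le 1)
  have hFc : Coh.IsCoh F := VBLib.isCoh_of_ofRank hO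
  let r₀ : (∐ fun i => T (c i)) ⟶ T (c 0) := Sigma.desc fun i => if h : i = 0 then eqToHom (by rw [h]) else 0
  let q : (∐ fun i => T (c i)) ⟶ T (c 1) := Sigma.desc fun i => if h : i = 1 then eqToHom (by rw [h]) else 0
  have w0 : (Sigma.ι (fun i => T (c i)) 0 ≫ e.inv) ≫ (e.hom ≫ q) = 0 := by simp [q]
  let S := ShortComplex.mk (Sigma.ι (fun i => T (c i)) 0 ≫ e.inv) (e.hom ≫ q) w0
  let sp : S.Splitting :=
    { r := e.hom ≫ r₀
      s := Sigma.ι (fun i => T (c i)) 1 ≫ e.inv
      f_r := by simp [S, r₀]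
      s_g := by simp [S, q]
      id := by
        have h0 : r₀ ≫ Sigma.ι (fun i => T (c i)) 0 + q ≫ Sigma.ι (fun i => T (c i)) 1 = 𝟙 _ := by
          refine Sigma.hom_ext _ _ fun i => ?_
          fin_cases i <;> simp [r₀, q]
        show (e.hom ≫ r₀) ≫ (Sigma.ι (fun i => T (c i)) 0 ≫ e.inv) +
          (e.hom ≫ q) ≫ (Sigma.ι (fun i => T (c i)) 1 ≫ e.inv) = 𝟙 F
        refine Eq.trans ?_ ((congrArg (fun t => e.hom ≫ t ≫ e.inv) h0).trans ?_)
        · simp [Preadditive.add_comp, Preadditive.comp_add]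
        · erw [Category.id_comp]
          exact e.hom_inv_id }
  have hTc : ∀ n, Coh.IsCoh (T n) := fun n => VBLib.isCoh_of_ofRank (hTr n)
  have hχ : c 0 + c 1 + 2 = 1 - (g : ℤ) := by
    have he := hY.euler_add sp.shortExact (hTc _) hFc (hTc _)
    rw [show Curv2.euler k (CohB1.ProjSpace 1 k) S.X₂ = 1 - (g : ℤ) from
        (VBLib.PushEuler.euler_push π w (Coh.structureModule C)).trans hχC,
      show Curv2.euler k (CohB1.ProjSpace 1 k) S.X₁ = c 0 + 1 from euler_twist k _,
      show Curv2.euler k (CohB1.ProjSpace 1 k) S.X₃ = c 1 + 1 from euler_twist k _] at he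
    omega
  let adj := Scheme.Modules.pullbackPushforwardAdjunction π
  haveI : Mono (Sigma.ι (fun i => T (c i)) 0 ≫ e.inv) := sp.shortExact.mono_f
  have hup : c 0 ≤ 0 := by
    have hne : (adj.homEquiv (T (c 0)) (Coh.structureModule C)).symm (Sigma.ι (fun i => T (c i)) 0 ≫ e.inv) ≠ 0 := by
      intro h0
      have h1 : Sigma.ι (fun i => T (c i)) 0 ≫ e.inv = 0 := by
        rw [← (adj.homEquiv _ _).apply_symm_apply (Sigma.ι (fun i => T (c i)) 0 ≫ e.inv), h0,
          Adjunction.homEquiv_unit, Functor.map_zero, comp_zero]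
      have := VBLib.rk_eq_zero_of_isZero (IsZero.of_mono_eq_zero _ h1)
      rw [VBLib.rk_eq (hTr (c 0))] at this
      omega
    have := (hX.line_hom (VBLib.isFinLocFree_of_ofRank (hPr (c 0))) (VBLib.isFinLocFree_of_ofRank hCO)
      (VBLib.rk_eq (hPr _)) (VBLib.rk_eq hCO) _ hne).2.1
    rw [hPd', hCd] at this
    omega
  have hlow : 0 ≤ c 0 := by
    by_contra hlt
    have z : Coh.structureModule (CohB1.ProjSpace 1 k) ≅ T 0 := ProjTwist.twistZeroIso (CohB1.polyGrading 1 k)
    let u := adj.homEquiv (T 0) (Coh.structureModule C)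
      ((Scheme.Modules.pullback π).map z.inv ≫ (QCoh.pullbackUnitIso π).hom)
    have hz : ∀ i : Fin 2, ∀ φ : T 0 ⟶ T (c i), φ = 0 := fun i =>
      hY.line_hom_eq_zero (VBLib.isFinLocFree_of_ofRank (hTr 0)) (VBLib.isFinLocFree_of_ofRank (hTr _))
        (VBLib.rk_eq (hTr 0)) (VBLib.rk_eq (hTr _))
        (by rw [hTd, hTd]; have := hanti (Fin.zero_le i); omega)
    have hu : u = 0 := by
      rw [← Category.comp_id u, ← sp.id]
      rw [Preadditive.comp_add]
      refine (congrArg₂ (· + ·) ?_ ?_).trans (add_zero 0)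
      · show u ≫ (sp.r ≫ S.f) = 0
        rw [← Category.assoc]
        exact (congrArg (· ≫ S.f) (hz 0 _)).trans zero_comp
      · show u ≫ (S.g ≫ sp.s) = 0
        rw [← Category.assoc]
        exact (congrArg (· ≫ sp.s) (hz 1 _)).trans zero_comp
    have h2 : (Scheme.Modules.pullback π).map z.inv ≫ (QCoh.pullbackUnitIso π).hom = 0 := by
      refine (adj.homEquiv _ _).injective ?_
      show u = _
      rw [hu, Adjunction.homEquiv_unit, Functor.map_zero, comp_zero]
    have := VBLib.rk_eq_zero_of_isZero (IsZero.of_epi_eq_zero _ h2)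
    rw [VBLib.rk_eq hCO] at this
    omega
  obtain ⟨pw⟩ := PruferSerre.nonempty_pow_iso f r
  haveI : (P r).IsQuasicoherent := (VBLib.isCoh_of_ofRank (hPr r)).1
  let θ : CohB1.tensorMod F (T r) ≅ (Scheme.Modules.pushforward π).obj (P r) :=
    (ProjForm.projNatIso π (VBLib.isFinLocFree_of_ofRank (hTr r))).app (Coh.structureModule C) ≪≫
      (Scheme.Modules.pushforward π).mapIso (ProjTwist.oneTens _)
  obtain ⟨ep⟩ := VBLib.PushEuler.nonempty_linearEquiv π w (P r) 0
  let ew : Coh.HH C (CohB1.tensorPow ((Scheme.Modules.pullback f).obj (Twist.twistProjSpace 1 k 1)) r) 0 ≃ₗ[k]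
      Coh.HH C (P r) 0 :=
    LinearEquiv.ofBijective (CohLin.overLin k (CohLin.hMap pw.hom 0)) (CohLin.hIso pw 0).bijective
  let eθ : Coh.HH (CohB1.ProjSpace 1 k) (CohB1.tensorMod F (T r)) 0 ≃ₗ[k]
      Coh.HH (CohB1.ProjSpace 1 k) ((Coh.push π).obj (P r)) 0 :=
    LinearEquiv.ofBijective (CohLin.overLin k (CohLin.hMap θ.hom 0)) (CohLin.hIso θ 0).bijective
  rw [ew.finrank_eq, ep.finrank_eq, ← eθ.finrank_eq]
  have hS' := ProjTwist.Pn.shortExact_tw sp.shortExact (r : ℤ)
  have h3 : Subsingleton (Coh.HH (CohB1.ProjSpace 1 k) (S.map (ProjTwist.Pn.twFun 1 k (r : ℤ))).X₃ 0) := by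
    obtain ⟨h1, h2, h3⟩ := hY.dg_tensor_line (VBLib.isFinLocFree_of_ofRank (hTr (c 1))) (hT r)
    refine hY.subsingleton_h0_neg (VBLib.LineCalc.isInvertible_of_rk_one h1 (h2.trans (VBLib.rk_eq (hTr _)))) ?_
    show VBLib.dg k (CohB1.tensorMod (T (c 1)) (T r)) < 0
    rw [h3, hTd, hTd, VBLib.rk_eq (hTr _)]
    push_cast
    omega
  haveI := hS'.mono_f
  have hbij : Function.Bijective (CohLin.overLin k (CohLin.hMap (S.map (ProjTwist.Pn.twFun 1 k (r : ℤ))).f 0)) :=
    ⟨ProperFin.hMap_zero_injective _, fun x => CohLin.exists_hMap_f_eq hS' x (Subsingleton.elim _ _)⟩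
  let ez : CohB1.tensorMod (T (c 0)) (T r) ≅ T r :=
    ProjTwist.tensCongr (eqToIso (congrArg T (le_antisymm hup hlow)) ≪≫
      (ProjTwist.twistZeroIso (CohB1.polyGrading 1 k)).symm) (Iso.refl _) ≪≫ ProjTwist.oneTens _
  let ezl : Coh.HH (CohB1.ProjSpace 1 k) (CohB1.tensorMod (T (c 0)) (T r)) 0 ≃ₗ[k]
      Coh.HH (CohB1.ProjSpace 1 k) (T r) 0 :=
    LinearEquiv.ofBijective (CohLin.overLin k (CohLin.hMap ez.hom 0)) (CohLin.hIso ez 0).bijective
  refine (LinearEquiv.ofBijective _ hbij).symm.finrank_eq.trans (ezl.finrank_eq.trans ?_)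
  rw [← (ProjTwist.Pn.h0Equiv 1 k r).finrank_eq, PlanePts.finrank_forms, add_comm, Nat.choose_one_right]

end Groth.Agent.S14340
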