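import Groth.Statements.S7635
import Groth.Agent.HTor95.BoxHH
import Groth.Agent.CMReg.FieldBC

set_option autoImplicit false
universe u
open CategoryTheory CategoryTheory.Limits AlgebraicGeometry
open scoped TensorProduct
open Variety

namespace Groth.Agent.S7635

/-- Let X and Y be quasi-compact schemes over a field k whose diagonal morphisms over k are affine (for
instance X and Y separated over k), F a quasi-coherent O_X-module and G a quasi-coherent O_Y-module.
Then for every n ≥ 0 the k-vector space H^n(X ×_k Y, pr_1^*F ⊗ pr_2^*G) is isomorphic to ⊕_{p+q=n}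
H^p(X, F) ⊗_k H^q(Y, G). (The published statement asserts that the canonical map built from
pullbacks and cup products is an isomorphism; this row asserts only that some k-linear isomorphism
exists.) -/
theorem result (k : Type u) [Field k] (X : Scheme.{u}) [X.Over (Spec (CommRingCat.of k))] [CompactSpace ↥X] [IsAffineHom (pullback.diagonal (X ↘ (Spec (CommRingCat.of k))))]
    (Y : Scheme.{u}) [Y.Over (Spec (CommRingCat.of k))] [CompactSpace ↥Y] [IsAffineHom (pullback.diagonal (Y ↘ (Spec (CommRingCat.of k))))]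
    (F : X.Modules) (hF : Coh.IsQCoh F) (G : Y.Modules) (hG : Coh.IsQCoh G) (n : ℕ) :
    letI : (pullback (X ↘ (Spec (CommRingCat.of k))) (Y ↘ (Spec (CommRingCat.of k)))).Over (Spec (CommRingCat.of k)) := ⟨pullback.fst (X ↘ (Spec (CommRingCat.of k))) (Y ↘ (Spec (CommRingCat.of k))) ≫ (X ↘ (Spec (CommRingCat.of k)))⟩
    Nonempty ((Π p : Fin (n + 1), Coh.HH X F (p : ℕ) ⊗[k] Coh.HH Y G (n - (p : ℕ))) ≃ₗ[k]
      Coh.HH (pullback (X ↘ (Spec (CommRingCat.of k))) (Y ↘ (Spec (CommRingCat.of k)))) (CohB1.tensorMod ((Scheme.Modules.pullback (pullback.fst (X ↘ (Spec (CommRingCat.of k))) (Y ↘ (Spec (CommRingCat.of k))))).obj F)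
        ((Scheme.Modules.pullback (pullback.snd (X ↘ (Spec (CommRingCat.of k))) (Y ↘ (Spec (CommRingCat.of k))))).obj G)) n) := by
  let f := X ↘ (Spec (CommRingCat.of k))
  let g := Y ↘ (Spec (CommRingCat.of k))
  letI : (pullback f g).Over (Spec (CommRingCat.of k)) := ⟨pullback.fst f g ≫ f⟩
  haveI : QuasiCompact f := by
    haveI : QuasiCompact (f ≫ terminal.from (Spec (CommRingCat.of k))) := by
      rw [Subsingleton.elim (f ≫ terminal.from _) (terminal.from X)]
      exact (compactSpace_iff_quasiCompact X).1 inferInstance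
    exact QuasiCompact.of_comp f (terminal.from (Spec (CommRingCat.of k)))
  haveI : QuasiCompact g := by
    haveI : QuasiCompact (g ≫ terminal.from (Spec (CommRingCat.of k))) := by
      rw [Subsingleton.elim (g ≫ terminal.from _) (terminal.from Y)]
      exact (compactSpace_iff_quasiCompact Y).1 inferInstance
    exact QuasiCompact.of_comp g (terminal.from (Spec (CommRingCat.of k)))
  haveI := hF
  haveI := hG
  obtain ⟨e⟩ := Groth.Agent.HTor95.BoxHH.nonempty_kunnethHH (A := k) (IsPullback.of_hasPullback f g) rfl F G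
    (Groth.Agent.CMReg.isFlatOver_field f F) (fun i => inferInstance) n
  let σ : Finset.HasAntidiagonal.antidiagonal n ≃ Fin (n + 1) :=
    { toFun := fun pq => ⟨pq.1.1, by have h := Finset.HasAntidiagonal.mem_antidiagonal.1 pq.2; omega⟩
      invFun := fun p => ⟨((p : ℕ), n - (p : ℕ)), Finset.HasAntidiagonal.mem_antidiagonal.2 (by omega)⟩
      left_inv := fun pq => by
        have h := Finset.HasAntidiagonal.mem_antidiagonal.1 pq.2
        exact Subtype.ext (Prod.ext rfl (by change n - pq.1.1 = pq.1.2; omega))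
      right_inv := fun p => rfl }
  exact ⟨(LinearEquiv.piCongrLeft' k
    (fun pq : Finset.HasAntidiagonal.antidiagonal n => Coh.HH X F pq.1.1 ⊗[k] Coh.HH Y G pq.1.2) σ).symm ≪≫ₗ
      (DirectSum.linearEquivFunOnFintype k _ _).symm ≪≫ₗ e.symm⟩

end Groth.Agent.S7635
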