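import Groth.Statements.S6318
import Mathlib
-- import your own Groth.Agent.* helpers here

set_option autoImplicit false
universe u
open CategoryTheory
open CAlg

namespace Groth.Agent.S6318

section
open CategoryTheory CategoryTheory.Limits

variable (R : Type u) [CommRing R] [IsNoetherianRing R]

/-- one step of a finite free resolution: a map of finite free modules -/
structure Step where
  a : ℕ
  b : ℕ
  f : (Fin a → R) →ₗ[R] (Fin b → R)

variable {R}

theorem exists_next (s : Step R) :
    ∃ c : ℕ, ∃ g : (Fin c → R) →ₗ[R] (Fin s.a → R), LinearMap.range g = LinearMap.ker s.f := by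
  obtain ⟨c, π, hπ⟩ := Module.Finite.exists_fin' R (LinearMap.ker s.f)
  exact ⟨c, (LinearMap.ker s.f).subtype ∘ₗ π, by rw [LinearMap.range_comp_of_range_eq_top _ (LinearMap.range_eq_top.mpr hπ), Submodule.range_subtype]⟩

noncomputable def next (s : Step R) : Step R :=
  ⟨(exists_next s).choose, s.a, (exists_next s).choose_spec.choose⟩

theorem next_range (s : Step R) : LinearMap.range (next s).f = LinearMap.ker s.f :=
  (exists_next s).choose_spec.choose_spec

noncomputable def steps (s : Step R) : ℕ → Step R
  | 0 => s
  | n + 1 => next (steps s n)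

abbrev obj (s : Step R) (n : ℕ) : ModuleCat.{u} R := ModuleCat.of R (Fin (steps s n).b → R)

noncomputable def diff (s : Step R) (n : ℕ) : obj s (n + 1) ⟶ obj s n :=
  ModuleCat.ofHom (steps s n).f

theorem diff_range (s : Step R) (n : ℕ) :
    LinearMap.range (diff s (n + 1)).hom = LinearMap.ker (diff s n).hom := next_range _

noncomputable def cplx (s : Step R) : ChainComplex (ModuleCat.{u} R) ℕ :=
  ChainComplex.of (obj s) (diff s) fun n => by
    apply ModuleCat.hom_ext
    exact LinearMap.range_le_ker_iff.mp (diff_range s n).le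

theorem cplx_d (s : Step R) (n : ℕ) : (cplx s).d (n + 1) n = diff s n := ChainComplex.of_d _ _ n

end

/-- Let R be a Noetherian ring and M a finite R-module. Then M has a resolution … → F₂ → F₁ → F₀ → M → 0
with every Fᵢ finite free; stated as the existence of a projective resolution of M in the category
of R-modules all of whose terms are finite free. -/
theorem result (R : Type u) [CommRing R] [IsNoetherianRing R] (M : Type u) [AddCommGroup M] [Module R M] [Module.Finite R M] : ∃ F : ProjectiveResolution (ModuleCat.of R M), ∀ n : ℕ, Module.Finite R (F.complex.X n) ∧ Module.Free R (F.complex.X n) := by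
  obtain ⟨b, ε, hε⟩ := Module.Finite.exists_fin' R M
  obtain ⟨a, π, hπ⟩ := Module.Finite.exists_fin' R (LinearMap.ker ε)
  let s : Step R := ⟨a, b, (LinearMap.ker ε).subtype ∘ₗ π⟩
  have hrange : LinearMap.range s.f = LinearMap.ker ε := by
    show LinearMap.range ((LinearMap.ker ε).subtype ∘ₗ π) = _
    rw [LinearMap.range_comp_of_range_eq_top _ (LinearMap.range_eq_top.mpr hπ), Submodule.range_subtype]
  have hd10 : (cplx s).d 1 0 = ModuleCat.ofHom s.f := cplx_d s 0
  let e : (cplx s).X 0 ⟶ ModuleCat.of R M := ModuleCat.ofHom ε
  have he : (cplx s).d 1 0 ≫ e = 0 := by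
    rw [hd10]
    apply ModuleCat.hom_ext
    exact LinearMap.range_le_ker_iff.mp hrange.le
  refine ⟨{
    complex := cplx s
    projective := fun n => (IsProjective.iff_projective (ModuleCat.of R (Fin (steps s n).b → R))).mp inferInstance
    π := (ChainComplex.toSingle₀Equiv _ _).symm ⟨e, he⟩
    quasiIso := ⟨fun n => ?_⟩ }, fun n => ⟨(inferInstance : Module.Finite R (Fin (steps s n).b → R)),
      (inferInstance : Module.Free R (Fin (steps s n).b → R))⟩⟩
  cases n with
  | zero =>
    rw [ChainComplex.quasiIsoAt₀_iff, ShortComplex.quasiIso_iff_of_zeros']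
    · refine (ShortComplex.exact_and_epi_g_iff_of_iso (S₂ := ShortComplex.mk ((cplx s).d 1 0) e he) ?_).2
        ⟨?_, (ModuleCat.epi_iff_surjective _).mpr hε⟩
      · exact ShortComplex.isoMk (Iso.refl _) (Iso.refl _) (Iso.refl _) ((CategoryTheory.Category.id_comp _).trans (CategoryTheory.Category.comp_id _).symm) (by simp [ChainComplex.toSingle₀Equiv]; exact (CategoryTheory.Category.id_comp _).trans (CategoryTheory.Category.comp_id _).symm)
      · rw [ShortComplex.moduleCat_exact_iff_range_eq_ker]
        show LinearMap.range ((cplx s).d 1 0).hom = LinearMap.ker ε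
        rw [hd10]
        exact hrange
    all_goals rfl
  | succ n =>
    rw [quasiIsoAt_iff_exactAt' _ _ (ChainComplex.exactAt_succ_single_obj _ _)]
    rw [HomologicalComplex.exactAt_iff' _ (n + 1 + 1) (n + 1) n (by simp) (by simp), ShortComplex.moduleCat_exact_iff_range_eq_ker]
    show LinearMap.range ((cplx s).d (n + 1 + 1) (n + 1)).hom = LinearMap.ker ((cplx s).d (n + 1) n).hom
    rw [cplx_d, cplx_d]
    exact diff_range s n

end Groth.Agent.S6318
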