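import Groth.Statements.S6315
import Mathlib
import Groth.Agent.S6318
-- import your own Groth.Agent.* helpers here

set_option autoImplicit false
universe u
open CategoryTheory
open CAlg

namespace Groth.Agent.S6315

/-- Let R be a Noetherian ring and M, N finite R-modules. Then Tor_pᴿ(M, N) is a finite R-module for all
p. -/
theorem result (R : Type u) [CommRing R] [IsNoetherianRing R] (M N : Type u) [AddCommGroup M] [Module R M] [AddCommGroup N] [Module R N] [Module.Finite R M] [Module.Finite R N] (p : ℕ) : Module.Finite R (((CategoryTheory.Tor (ModuleCat.{u} R) p).obj (ModuleCat.of R M)).obj (ModuleCat.of R N)) := by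
  obtain ⟨P, hP⟩ := Groth.Agent.S6318.result R N
  let Fn := (MonoidalCategory.tensoringLeft (ModuleCat.{u} R)).obj (ModuleCat.of R M)
  show Module.Finite R ((Fn.leftDerived p).obj (ModuleCat.of R N))
  let K := (Fn.mapHomologicalComplex _).obj P.complex
  have : Module.Finite R (K.X p) := by
    have := (hP p).1
    exact (inferInstance : Module.Finite R (TensorProduct R M (P.complex.X p)))
  let S := K.sc p
  have : Module.Finite R S.X₂ := ‹Module.Finite R (K.X p)›
  have : IsNoetherian R S.X₂ := isNoetherian_of_isNoetherianRing_of_finite R _
  have : Module.Finite R S.moduleCatLeftHomologyData.K :=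
    (inferInstance : Module.Finite R (LinearMap.ker S.g.hom))
  have : Module.Finite R S.moduleCatLeftHomologyData.H :=
    Module.Finite.of_surjective S.moduleCatLeftHomologyData.π.hom ((ModuleCat.epi_iff_surjective _).mp inferInstance)
  exact Module.Finite.equiv ((P.isoLeftDerivedObj Fn p ≪≫ S.moduleCatHomologyIso).toLinearEquiv).symm

end Groth.Agent.S6315
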