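import Groth.Statements.S6450
import Groth.Agent.IntMult66.Assoc2

set_option autoImplicit false
universe u
open CategoryTheory CategoryTheory.Limits AlgebraicGeometry
attribute [local instance] HasDerivedCategory.standard
open IntMult

namespace Groth.Agent.S6450

open Groth.Agent.IntMult66 Groth.Agent.CycLib IsLocalRing in
open scoped TensorProduct in
theorem length_ne_top {K : Type u} [Field K] [IsAlgClosed K] {X : Scheme.{u}} (f : X ⟶ Spec (CommRingCat.of K))
    [Smooth f] [IsIntegral X] {δ : X → ℤ} (hδ : Cyc.DeltaCompat f δ (fun _ => 0)) (a b c ζ : X)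
    (ha : a ⤳ ζ) (hb : b ⤳ ζ) (hc : c ⤳ ζ) [IsNoetherianRing (X.presheaf.stalk ζ)]
    (h : ∀ η : X, a ⤳ η → b ⤳ η → c ⤳ η → δ η ≤ δ ζ) (q : ℕ) :
    Module.length (X.presheaf.stalk ζ) ((X.presheaf.stalk ζ ⧸ IntMult.stalkIdeal (IntMult.ptIdeal a) ζ) ⊗[X.presheaf.stalk ζ]
      DRing.Tor (X.presheaf.stalk ζ) q (X.presheaf.stalk ζ ⧸ IntMult.stalkIdeal (IntMult.ptIdeal b) ζ)
        (X.presheaf.stalk ζ ⧸ IntMult.stalkIdeal (IntMult.ptIdeal c) ζ)) ≠ ⊤ := by
  haveI : Module.Finite (X.presheaf.stalk ζ) (DRing.Tor (X.presheaf.stalk ζ) q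
      (X.presheaf.stalk ζ ⧸ IntMult.stalkIdeal (IntMult.ptIdeal b) ζ)
      (X.presheaf.stalk ζ ⧸ IntMult.stalkIdeal (IntMult.ptIdeal c) ζ)) := Groth.Agent.S6315.result _ _ _ q
  refine Meet.length_ne_top ?_
  rw [Meet, Ideal.annihilator_quotient, Ideal.radical_eq_sInf]
  refine le_sInf ?_
  rintro J ⟨hJ, hJp⟩
  have hle := annihilator_le_tor (A := X.presheaf.stalk ζ)
    (X.presheaf.stalk ζ ⧸ IntMult.stalkIdeal (IntMult.ptIdeal b) ζ)
    (X.presheaf.stalk ζ ⧸ IntMult.stalkIdeal (IntMult.ptIdeal c) ζ) q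
  rw [Ideal.annihilator_quotient, Ideal.annihilator_quotient] at hle
  rw [stalkIdeal_ptIdeal ha] at hJ
  rw [stalkIdeal_ptIdeal hb, stalkIdeal_ptIdeal hc] at hle
  obtain ⟨η, hη', hη⟩ := exists_ptPrime ζ ⟨J, hJp⟩
  have hJ' : (ptPrime ζ η hη').asIdeal = J := congrArg PrimeSpectrum.asIdeal hη
  have ha' := le_sup_left.trans hJ
  have hbc := (hle.trans (le_trans (by rw [stalkIdeal_ptIdeal hb, stalkIdeal_ptIdeal hc]) (le_sup_right.trans hJ)))
  rw [← hJ'] at ha' hbc ⊢
  obtain rfl := eq_of_le f hδ hη' (h η ((ptPrime_le_iff ha hη').1 ha') ((ptPrime_le_iff hb hη').1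
    (le_sup_left.trans hbc)) ((ptPrime_le_iff hc hη').1 (le_sup_right.trans hbc)))
  have : ptPrime η η hη' = IsLocalRing.closedPoint (X.presheaf.stalk η) :=
    (X.fromSpecStalk η).isEmbedding.injective
      ((fromSpecStalk_ptPrime _ _ _).trans Scheme.fromSpecStalk_closedPoint.symm)
  exact (congrArg PrimeSpectrum.asIdeal this).ge

/-- Let X be a nonsingular variety of dimension n and U, V, W closed subvarieties, with generic points
ξU, ξV, ξW, which intersect properly pairwise and with dim(U ∩ V ∩ W) ≤ dim U + dim V + dim W − 2n.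
Then U · (V · W) = (U · V) · W as cycles on X. The prime cycle [U] is the indicator function of the
generic point ξU. Here X is a nonsingular variety over the algebraically closed field K (smooth,
separated, quasi-compact, integral) with dimension function δ (transcendence degree over K, recorded
by Cyc.DeltaCompat to Spec K with value 0, together with Cyc.IsSetup) and n = dim X = δ of the
generic point; cycles are coefficient functions X → ℤ, proper intersection is
IntMult.IntersectProperly and α · β is the Tor-formula intersection product on coefficient functions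
(IntMult.interProd). -/
theorem result (K : Type u) [Field K] [IsAlgClosed K] (X : Scheme.{u}) (f : X ⟶ Spec (CommRingCat.of K)) [Smooth f] [IsSeparated f] [QuasiCompact f] [IsIntegral X] (δ : X → ℤ) (hX : Cyc.IsSetup X δ) (hδ : Cyc.DeltaCompat f δ (fun _ => 0)) (n : ℤ) (hn : δ (genericPoint X) = n) (ξU ξV ξW : X) (hUV : IntMult.IntersectProperly δ n (Set.indicator {ξU} 1) (Set.indicator {ξV} 1)) (hVW : IntMult.IntersectProperly δ n (Set.indicator {ξV} 1) (Set.indicator {ξW} 1)) (hUW : IntMult.IntersectProperly δ n (Set.indicator {ξU} 1) (Set.indicator {ξW} 1)) (hUVW : ∀ ζ : X, ξU ⤳ ζ → ξV ⤳ ζ → ξW ⤳ ζ → δ ζ ≤ δ ξU + δ ξV + δ ξW - 2 * n) : IntMult.interProd δ n (Set.indicator {ξU} 1) (IntMult.interProd δ n (Set.indicator {ξV} 1) (Set.indicator {ξW} 1)) = IntMult.interProd δ n (IntMult.interProd δ n (Set.indicator {ξU} 1) (Set.indicator {ξV} 1)) (Set.indicator {ξW} 1) := by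
  classical
  funext ζ
  obtain ⟨l0, l1⟩ := Groth.Agent.IntMult66.interProd_side f hδ hn ξU ξV ξW hVW hUVW ζ
  obtain ⟨r0, r1⟩ := Groth.Agent.IntMult66.interProd_side f hδ hn ξW ξU ξV hUV
    (fun η h1 h2 h3 => by have := hUVW η h2 h3 h1; omega) ζ
  rw [Groth.Agent.IntMult66.interProd_swap δ n (IntMult.interProd δ n (Set.indicator {ξU} 1) (Set.indicator {ξV} 1))]
  by_cases h : δ ζ = δ ξU + δ ξV + δ ξW - 2 * n ∧ ξU ⤳ ζ ∧ ξV ⤳ ζ ∧ ξW ⤳ ζ
  · obtain ⟨ht, hU, hV, hW⟩ := h
    rw [l1 ⟨ht, hU, hV, hW⟩, r1 ⟨by omega, hW, hU, hV⟩]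
    obtain ⟨R, _, _, _, p, _, _, _⟩ := Groth.Agent.IntMult66.exists_chart f ζ
    haveI := Groth.Agent.IntMult66.isRegularLocalRing_localization K R p (X.presheaf.stalk ζ)
    obtain ⟨D, hD⟩ := Groth.Agent.IntMult66.tor_top K R p (X.presheaf.stalk ζ)
      (X.presheaf.stalk ζ ⧸ IntMult.stalkIdeal (IntMult.ptIdeal ξV) ζ)
      (X.presheaf.stalk ζ ⧸ IntMult.stalkIdeal (IntMult.ptIdeal ξW) ζ)
    obtain ⟨D', hD'⟩ := Groth.Agent.IntMult66.tor_top K R p (X.presheaf.stalk ζ)
      (X.presheaf.stalk ζ ⧸ IntMult.stalkIdeal (IntMult.ptIdeal ξU) ζ)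
      (X.presheaf.stalk ζ ⧸ IntMult.stalkIdeal (IntMult.ptIdeal ξV) ζ)
    exact Groth.Agent.IntMult66.chi_assoc K R p _ _ _
      (fun q => Groth.Agent.S6315.result _ _ _ q) (fun q => Groth.Agent.S6315.result _ _ _ q)
      (length_ne_top f hδ ξU ξV ξW ζ hU hV hW fun η a b c => ht ▸ hUVW η a b c)
      (length_ne_top f hδ ξW ξU ξV ζ hW hU hV fun η a b c => ht ▸ hUVW η b c a)
      (max D D') (fun q hq => hD q (lt_of_le_of_lt (le_max_left _ _) hq))
      (fun q hq => hD' q (lt_of_le_of_lt (le_max_right _ _) hq))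
  · rw [l0 h, r0 fun h' => h ⟨by omega, h'.2.2.1, h'.2.2.2, h'.2.1⟩]

end Groth.Agent.S6450
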