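import Groth.Statements.S1676
import Groth.Agent.RegImm38.Smooth
-- import your own Groth.Agent.* helpers here

set_option autoImplicit false
universe u
open CategoryTheory CategoryTheory.Limits AlgebraicGeometry TopologicalSpace
open SDiv

namespace Groth.Agent.S1676

/-- For a section that is a closed immersion, e.g. when f is separated: let f : X ⟶ S be a smooth
morphism and σ : S ⟶ X a section of f which is a closed immersion. Then σ is a regular closed
immersion. -/
theorem result {X S : Scheme.{u}} (f : X ⟶ S) [Smooth f] (σ : S ⟶ X)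
    (hσ : σ ≫ f = 𝟙 S) [IsClosedImmersion σ] : Mor2.IsRegularClosedImmersion σ := by
  refine ⟨inferInstance, fun y => ?_⟩
  obtain ⟨U, hU, hyU, -⟩ := exists_isAffineOpen_mem_and_subset (show y ∈ (⊤ : S.Opens) from trivial)
  have hat : RegImm.IsRegularImmersionAt .regular (𝟙 S) y := by
    refine ⟨⟨U, hU⟩, hyU, MorphismProperty.of_isPullback (isPullback_morphismRestrict (𝟙 S) U).flip inferInstance,
      [], ⟨RingTheory.Sequence.IsWeaklyRegular.nil _ _, ?_⟩, ?_⟩
    · simp only [Ideal.ofList_nil, Submodule.bot_smul]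
      intro h
      have : (1 : Γ(S, U)) ∈ (⊥ : Submodule Γ(S, U) Γ(S, U)) := h ▸ Submodule.mem_top
      exact (hU.primeIdealOf ⟨y, hyU⟩).isPrime.ne_top
        ((Ideal.eq_top_iff_one _).2 (by rw [(Submodule.mem_bot _).1 this]; exact zero_mem _))
    · rw [Ideal.ofList_nil]
      exact (RingHom.injective_iff_ker_eq_bot _).1 fun _ _ h => h
  obtain ⟨⟨V, hV⟩, hz', -, rs', hrs', hker'⟩ :=
    Groth.Agent.RegImm38.Smooth.isRegularImmersionAt_of_smooth (𝟙 S) σ f hσ y hat
  exact ⟨V, hV, hz', rs', hrs', (Scheme.Hom.ker_apply _ _).trans hker'⟩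

end Groth.Agent.S1676
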