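import Groth.Statements.S5071
import Groth.Agent.CAlg48.QRBase
import Groth.Agent.SymGr.Regular
import Groth.Agent.FlatMor.FlatAtBC

set_option autoImplicit false
universe u
open CInt

namespace Groth.Agent.S5071

theorem flat_kernel {A X Y Z : Type u} [CommRing A] [AddCommGroup X] [Module A X] [AddCommGroup Y] [Module A Y]
    [AddCommGroup Z] [Module A Z] [Module.Flat A Y] [Module.Flat A Z] (a : X →ₗ[A] Y) (b : Y →ₗ[A] Z)
    (hab : Function.Exact a b) (hb : Function.Surjective b) (ha : Function.Injective a) : Module.Flat A X := by
  rw [Module.Flat.iff_rTensor_preserves_injective_linearMap]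
  intro P Q _ _ _ _ g hg
  have h1 : Function.Injective (a.lTensor P) := LocFlat.lTensor_injective_of_flat_coker a b hab hb ha P
  have h2 : Function.Injective (g.rTensor Y) := Module.Flat.rTensor_preserves_injective_linearMap g hg
  intro v w hvw
  refine h1 (h2 ?_)
  have hc := congrArg (a.lTensor Q) hvw
  rw [← LinearMap.comp_apply, ← LinearMap.comp_apply, LinearMap.lTensor_comp_rTensor,
    ← LinearMap.rTensor_comp_lTensor] at hc
  exact hc

theorem flat_quotient_pow {A B : Type u} [CommRing A] [CommRing B] [Algebra A B] (rs : List B)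
    (hrs : RegImm.IsTransRegularSeq A B rs) (n : ℕ) : Module.Flat A (B ⧸ Ideal.ofList rs ^ n) := by
  have hJ : Ideal.span (Set.range rs.get) = Ideal.ofList rs := by rw [Ideal.ofList, Set.range_list_get]
  haveI : Module.Flat A (B ⧸ Ideal.span (Set.range rs.get)) := by
    rw [hJ]
    have h := hrs.2 rs.length le_rfl
    rwa [List.take_length] at h
  have := CAlg48.QRBase.flat_quotient_pow rs.get A
    (SymGr.Regular.isQuasiRegular_of_isWeaklyRegular (by rw [List.ofFn_get]; exact hrs.1)) n
  rwa [hJ] at this

/-- Let B be an A-algebra and J an ideal of B generated by a sequence which is transversally regular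
relative to A. Then for n < m the module J^n/J^m is flat over A, and for every prime q of B
containing J the localisation (J^n)_q is flat over A (modules regarded as A-modules by restriction
of scalars). -/
theorem result (A B : Type u) [CommRing A] [CommRing B] [Algebra A B]
    (rs : List B) (hrs : RegImm.IsTransRegularSeq A B rs) (n m : ℕ) (hnm : n < m) :
    Module.Flat A (RestrictScalars A B
      (↥(Ideal.ofList rs ^ n) ⧸ (Submodule.comap (Ideal.ofList rs ^ n).subtype (Ideal.ofList rs ^ m)))) ∧
      ∀ (q : Ideal B) [q.IsPrime], Ideal.ofList rs ≤ q →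
        Module.Flat A (RestrictScalars A B (LocalizedModule q.primeCompl ↥(Ideal.ofList rs ^ n))) := by
  haveI := flat_quotient_pow rs hrs n
  haveI := flat_quotient_pow rs hrs m
  haveI : Module.Flat A B := by
    haveI := hrs.2 0 (Nat.zero_le _)
    exact Module.Flat.of_linearEquiv
      ((Submodule.quotEquivOfEqBot (Ideal.ofList (rs.take 0)) (by simp)).symm.restrictScalars A)
  let J := Ideal.ofList rs
  haveI hn : Module.Flat A ↥(J ^ n) :=
    flat_kernel ((J ^ n).subtype.restrictScalars A) ((Submodule.mkQ (J ^ n)).restrictScalars A)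
      (fun x => (LinearMap.exact_subtype_mkQ (J ^ n)) x) (Submodule.mkQ_surjective _) (Submodule.injective_subtype _)
  have hnm' : J ^ m ≤ J ^ n := Ideal.pow_le_pow_right hnm.le
  let W := ↥(J ^ n) ⧸ Submodule.comap (J ^ n).subtype (J ^ m)
  let a : W →ₗ[B] B ⧸ J ^ m := Submodule.mapQ _ _ (J ^ n).subtype le_rfl
  let b : (B ⧸ J ^ m) →ₗ[B] B ⧸ J ^ n := Submodule.factor hnm'
  have hab : Function.Exact a b := by
    intro y
    obtain ⟨y, rfl⟩ := Submodule.Quotient.mk_surjective _ y
    constructor
    · intro hy
      exact ⟨Submodule.Quotient.mk ⟨y, (Submodule.Quotient.mk_eq_zero _).1 hy⟩, rfl⟩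
    · rintro ⟨x, hx⟩
      obtain ⟨x, rfl⟩ := Submodule.Quotient.mk_surjective _ x
      rw [← hx]
      exact (Submodule.Quotient.mk_eq_zero _).2 x.2
  have hainj : Function.Injective a := by
    rw [← LinearMap.ker_eq_bot, Submodule.ker_mapQ, Submodule.mkQ_map_self]
  refine ⟨?_, fun q _ _ => ?_⟩
  · haveI : Module.Flat A W := flat_kernel (a.restrictScalars A) (b.restrictScalars A) (fun y => hab y)
      (Submodule.factor_surjective hnm') hainj
    let e : W ≃ₗ[A] RestrictScalars A B W :=
      { (RestrictScalars.addEquiv A B W).symm with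
        map_smul' := fun r x => by
          apply (RestrictScalars.addEquiv A B W).injective
          simp [RestrictScalars.addEquiv_map_smul] }
    exact Module.Flat.of_linearEquiv e.symm
  · let W' := LocalizedModule q.primeCompl ↥(J ^ n)
    haveI : Module.Flat A W' := FlatMor.FlatAtBC.flat_localizedModule A q.primeCompl ↥(J ^ n)
    let e : W' ≃ₗ[A] RestrictScalars A B W' :=
      { (RestrictScalars.addEquiv A B W').symm with
        map_smul' := fun r x => by
          apply (RestrictScalars.addEquiv A B W').injective
          simp [RestrictScalars.addEquiv_map_smul] }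
    exact Module.Flat.of_linearEquiv e.symm

end Groth.Agent.S5071
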