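import Groth.Statements.S17840
import Groth.Agent.FlatOpen.EquiDim
import Groth.Agent.CycLib.SchemeDim
import Groth.Agent.CycLib.DimFun
import Groth.Agent.TopDimLib.Basic

set_option autoImplicit false
universe u
open CategoryTheory AlgebraicGeometry
open Cyc

namespace Groth.Agent.S17840

/-- Let (Y, δY) be a locally Noetherian scheme with universally catenary local rings and a dimension
function, f : X ⟶ Y a flat morphism locally of finite type between irreducible schemes with generic
points ξ and η, and δX the induced function on X, δX(x) = δY(f x) + trdeg_{κ(f x)} κ(x). Put d =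
δX(ξ) − δY(η). Then d ≥ 0, every irreducible component of every fibre of f has dimension d, and for
every point x of X the fibre of f over f(x) has dimension d. (The published statement is for schemes
separated of finite type over a Noetherian excellent regular separated base S with δ the S-dimension
— transcendence degree of the residue field minus the dimension of the local ring of S at the image
point — and for the fibre over every point of Y; the fibre over a point outside f(X) is empty, so
the dimension statement is made here at points of the image; this row allows any dimension function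
δY on a locally Noetherian Y with universally catenary local rings, with δX induced from it.) -/
theorem result {X Y : Scheme.{u}} (f : X ⟶ Y) [Flat f] [LocallyOfFiniteType f]
    [IrreducibleSpace X] [IrreducibleSpace Y] (δX : X → ℤ) (δY : Y → ℤ) (hY : Cyc.IsSetup Y δY)
    (hδ : Cyc.DeltaCompat f δX δY) :
    0 ≤ δX (genericPoint X) - δY (genericPoint Y) ∧
      Cyc.HasRelDim f (δX (genericPoint X) - δY (genericPoint Y)).toNat ∧
      ∀ x : X, topologicalKrullDim ↥(f.fiber (f x)) =
        ((δX (genericPoint X) - δY (genericPoint Y)).toNat : WithBot ℕ∞) := by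
  haveI := hY.1
  haveI : IsLocallyNoetherian X := LocallyOfFiniteType.isLocallyNoetherian f
  have hdX : Cyc.IsDimFun X δX := Groth.Agent.CycLib.isDimFun_of_deltaCompat f hY.2.1 hY.2.2 hδ
  have hξ : f (genericPoint X) = (genericPoint Y) := by
    have hm : Groth.Agent.FlatOpen.EquiDim.Max (genericPoint X) :=
      fun z hz => (hz.antisymm (genericPoint_specializes z)).eq
    exact (Groth.Agent.FlatOpen.EquiDim.max_image f hm _ (genericPoint_specializes (f (genericPoint X)))).symm
  obtain ⟨n₀, -, hn₀⟩ := hδ (genericPoint X)
  rw [hξ] at hn₀
  have key : ∀ x : X, Groth.Agent.FlatOpen.EquiDim.FMax f x →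
      (letI := (f.residueFieldMap x).hom.toAlgebra
       Algebra.trdeg (Y.residueField (f x)) (X.residueField x)) = n₀ := fun x hx => by
    obtain ⟨m, hm, hmδ⟩ := hδ x
    obtain ⟨a, ha⟩ : ∃ a : ℕ, δX (genericPoint X) = δX x + a :=
      ⟨(δX (genericPoint X) - δX x).toNat, by have := Groth.Agent.CycLib.le_of_specializes hdX (genericPoint_specializes x); omega⟩
    obtain ⟨b, hb⟩ : ∃ b : ℕ, δY (genericPoint Y) = δY (f x) + b :=
      ⟨(δY (genericPoint Y) - δY (f x)).toNat, by
        have := Groth.Agent.CycLib.le_of_specializes hY.2.2 (genericPoint_specializes (f x)); omega⟩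
    have h1 := Groth.Agent.CycLib.coheight_eq hdX a x (genericPoint_specializes x)
      (fun z _ => genericPoint_specializes z) ha
    have h2 := Groth.Agent.CycLib.coheight_eq hY.2.2 b (f x) (genericPoint_specializes (f x))
      (fun z _ => genericPoint_specializes z) hb
    rw [Groth.Agent.FlatOpen.EquiDim.coheight_eq f hx, h2] at h1
    have hab : b = a := by exact_mod_cast h1
    rw [hm, show m = n₀ by omega]
  have hnat : (δX (genericPoint X) - δY (genericPoint Y)).toNat = n₀ := by omega
  rw [hnat]
  have hrel : Cyc.HasRelDim f n₀ := (Groth.Agent.FlatOpen.EquiDim.hasRelDim_iff_trdeg f n₀).2 key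
  refine ⟨by omega, hrel, fun x => ?_⟩
  refine le_antisymm (Groth.Agent.TopDimLib.topDim_le_iff.2 fun l => ?_) ?_
  · obtain ⟨T, hT, hsub⟩ := exists_mem_irreducibleComponents_subset_of_isIrreducible _ l.last.isIrreducible
    exact (Groth.Agent.TopDimLib.length_le_of_subset l hsub).trans (hrel (f x) T hT).le
  · rw [← hrel (f x) _ (irreducibleComponent_mem_irreducibleComponents (f.asFiber x))]
    exact Topology.IsInducing.subtypeVal.topologicalKrullDim_le

end Groth.Agent.S17840
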