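import Groth.Statements.S1897
import Groth.Agent.CycLib.FibreDim
import Groth.Agent.CycLib.PullFun
import Groth.Agent.CycLib.FlatLength
import Groth.Agent.CycLib.DimFun
import Groth.Agent.PullStalk.Basic

set_option autoImplicit false
universe u
open CategoryTheory AlgebraicGeometry
open Cyc

namespace Groth.Agent.S1897

/-- Let f : X → Y be flat, locally of finite type, of relative dimension r, and F a coherent O_Y-module
whose support has δ-dimension ≤ k. Then the support of f^*F has δ-dimension ≤ k + r and f^*[F]_k =
[f^*F]_{k+r} (coefficientwise). A pair (X, δ) with Cyc.IsSetup plays the role of a scheme locally of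
finite type over a fixed base with a dimension function (X locally Noetherian with universally
catenary local rings, δ a dimension function), and Cyc.DeltaCompat records that the dimension
function upstairs is the induced one. -/
theorem result (X Y : Scheme.{u}) (δX : X → ℤ) (δY : Y → ℤ) (hX : Cyc.IsSetup X δX) (hY : Cyc.IsSetup Y δY) (f : X ⟶ Y) [Flat f] [LocallyOfFiniteType f] (r : ℕ) (hr : Cyc.HasRelDim f r) (hδ : Cyc.DeltaCompat f δX δY) (k : ℤ) (F : Y.Modules) (hF : Coh.IsCoh F) (hdim : ∀ y : Y, Nontrivial (F.presheaf.stalk y) → δY y ≤ k) : (∀ x : X, Nontrivial (((Scheme.Modules.pullback f).obj F).presheaf.stalk x) → δX x ≤ k + r) ∧ Cyc.pullFun f δX δY r (Cyc.sheafFun δY k F) = Cyc.sheafFun δX (k + r) ((Scheme.Modules.pullback f).obj F) := by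
  haveI := hX.1
  have hshift : ∀ x : X, δX x ≤ δY (f x) + r ∧
      ((∀ x' : X, f x' = f x → x' ⤳ x → x' = x) → δX x = δY (f x) + r) := by
    have hgen : ∀ x : X, (∀ x' : X, f x' = f x → x' ⤳ x → x' = x) → δX x = δY (f x) + r := by
      intro x hm
      obtain ⟨n, hn, hn'⟩ := hδ x
      have := CycLib.trdeg_eq_of_hasRelDim f hr x hm
      rw [hn] at this
      rw [hn', show n = r by exact_mod_cast this]
    intro x
    obtain ⟨x0, hsp, hf0, hm⟩ := CycLib.exists_generic_fibre f x
    refine ⟨?_, hgen x⟩
    have := hgen x0 hm
    rw [hf0] at this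
    exact (CycLib.le_of_specializes hX.2.2 hsp).trans this.le
  have hloc : ∀ x : X, Module.length (X.presheaf.stalk x) (((Scheme.Modules.pullback f).obj F).presheaf.stalk x) =
      Module.length (Y.presheaf.stalk (f x)) (F.presheaf.stalk (f x)) *
        Module.length (X.presheaf.stalk x) (X.presheaf.stalk x ⧸
          (IsLocalRing.maximalIdeal (Y.presheaf.stalk (f x))).map (f.stalkMap x).hom) := by
    intro x
    letI := (f.stalkMap x).hom.toAlgebra
    letI := PullStalk.Basic.moduleOver f F x
    haveI : IsScalarTower (Y.presheaf.stalk (f x)) (X.presheaf.stalk x)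
        (((Scheme.Modules.pullback f).obj F).presheaf.stalk x) :=
      IsScalarTower.of_algebraMap_smul fun _ _ => rfl
    haveI : IsLocalHom (algebraMap (Y.presheaf.stalk (f x)) (X.presheaf.stalk x)) :=
      inferInstanceAs (IsLocalHom (f.stalkMap x).hom)
    haveI : Module.Flat (Y.presheaf.stalk (f x)) (X.presheaf.stalk x) := Flat.stalkMap f x
    rw [← (PullStalk.Basic.isBaseChange_unitStalk f F x).equiv.length_eq]
    exact CycLib.length_tensor _
  refine ⟨fun x hx => ?_, funext fun x => ?_⟩
  · refine (hshift x).1.trans (add_le_add (hdim (f x) ?_) le_rfl)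
    by_contra h
    haveI := not_nontrivial_iff_subsingleton.mp h
    have h0 := hloc x
    have h00 : Module.length (Y.presheaf.stalk (f x)) (F.presheaf.stalk (f x)) = 0 :=
      Module.length_eq_zero_iff.mpr inferInstance
    rw [h00, zero_mul, Module.length_eq_zero_iff] at h0
    exact not_subsingleton _ h0
  · simp only [Cyc.pullFun, Cyc.sheafFun]
    have hzero : k < δY (f x) → Subsingleton (F.presheaf.stalk (f x)) := fun hlt =>
      not_nontrivial_iff_subsingleton.mp fun h => absurd (hdim _ h) (not_le.mpr hlt)
    by_cases h : δX x = k + r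
    · rw [if_pos h, hloc x]
      rcases lt_trichotomy (δY (f x)) k with hlt | heq | hgt
      · exfalso
        have := (hshift x).1
        omega
      · rw [if_pos (by omega), if_pos heq, ENat.toNat_mul, Nat.cast_mul]
      · haveI := hzero hgt
        have h00 : Module.length (Y.presheaf.stalk (f x)) (F.presheaf.stalk (f x)) = 0 :=
          Module.length_eq_zero_iff.mpr inferInstance
        rw [if_neg (by omega), h00]
        simp
    · rw [if_neg h]
      split_ifs with h1 h2
      · omega
      · exact zero_mul _
      · rfl

end Groth.Agent.S1897
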