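import Groth.Statements.S1954
import Groth.Agent.IntMult66.Scheme
import Groth.Agent.IntMult88.Main
import Groth.Agent.CycLib.P1Chart
import Groth.Agent.IntMult66.Oz

set_option autoImplicit false
universe u
open CategoryTheory CategoryTheory.Limits AlgebraicGeometry
attribute [local instance] HasDerivedCategory.standard
open IntMult

namespace Groth.Agent.S1954

open Groth.Agent.CycLib Groth.Agent.IntMult66 IsLocalRing

/-- Nonzero coefficient of a subscheme cycle. -/
theorem of_subschemeFun_ne_zero {X Y : Scheme.{u}} (δ : X → ℤ) (k : ℤ) (ι : Y ⟶ X) [IsClosedImmersion ι] (ξ : X)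
    (h : Cyc.subschemeFun δ k ι ξ ≠ 0) : δ ξ = k ∧ ∃ y : Y, ι y = ξ := by
  unfold Cyc.subschemeFun at h
  split_ifs at h with hd
  · refine ⟨hd, ?_⟩
    by_contra hne
    refine h ?_
    rw [show {z : Y | ι z = ξ} = ∅ from Set.eq_empty_of_forall_notMem fun z hz => hne ⟨z, hz⟩, finsum_mem_empty]
  · exact absurd rfl h

theorem subschemeFun_eq {X Y : Scheme.{u}} (δ : X → ℤ) (k : ℤ) (ι : Y ⟶ X) [IsClosedImmersion ι] (y : Y)
    (hd : δ (ι y) = k) :
    Cyc.subschemeFun δ k ι (ι y) = ((Module.length (Y.presheaf.stalk y) (Y.presheaf.stalk y)).toNat : ℤ) := by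
  unfold Cyc.subschemeFun
  rw [if_pos hd, show {z : Y | ι z = ι y} = {y} from Set.ext fun z => ι.isClosedEmbedding.injective.eq_iff,
    finsum_mem_singleton]

/-- Primes over the ideal of a closed subscheme are its points. -/
theorem mem_range_of_le {X Y : Scheme.{u}} (ι : Y ⟶ X) [IsClosedImmersion ι] (y : Y) {ξ : X}
    (h : ξ ⤳ ι y) (hle : RingHom.ker (ι.stalkMap y).hom ≤ (ptPrime (ι y) ξ h).asIdeal) :
    ∃ y' : Y, ι y' = ξ ∧ y' ⤳ y := by
  have hs : Function.Surjective (ι.stalkMap y).hom := ι.stalkMap_surjective y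
  haveI := (ptPrime (ι y) ξ h).isPrime
  haveI hp : ((ptPrime (ι y) ξ h).asIdeal.map (ι.stalkMap y).hom).IsPrime :=
    Ideal.map_isPrime_of_surjective hs hle
  obtain ⟨y', h', he⟩ := exists_ptPrime y ⟨_, hp⟩
  refine ⟨y', ?_, h'⟩
  have e : PrimeSpectrum.comap (ι.stalkMap y).hom (ptPrime y y' h') = ptPrime (ι y) ξ h := by
    rw [he]
    refine PrimeSpectrum.ext ?_
    show ((ptPrime (ι y) ξ h).asIdeal.map (ι.stalkMap y).hom).comap (ι.stalkMap y).hom = _
    rw [Ideal.comap_map_of_surjective _ hs]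
    exact sup_eq_left.2 hle
  have e2 := congrArg (fun q => X.fromSpecStalk (ι y) q) e
  simp only [fromSpecStalk_ptPrime] at e2
  have e3 : X.fromSpecStalk (ι y) (PrimeSpectrum.comap (ι.stalkMap y).hom (ptPrime y y' h')) =
      ι (Y.fromSpecStalk y (ptPrime y y' h')) := by
    show (Spec.map (ι.stalkMap y) ≫ X.fromSpecStalk (ι y)) (ptPrime y y' h') = _
    rw [Scheme.SpecMap_stalkMap_fromSpecStalk]
    rfl
  rw [fromSpecStalk_ptPrime] at e3
  exact e3.symm.trans e2

theorem ker_le_ptPrime {X Y : Scheme.{u}} (ι : Y ⟶ X) (y : Y) {y' : Y} (h : y' ⤳ y) :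
    RingHom.ker (ι.stalkMap y).hom ≤ (ptPrime (ι y) (ι y') (h.map ι.continuous)).asIdeal := by
  intro c hc
  show Cyc.specMap (ι y) (ι y') _ c = 0
  refine (map_eq_zero_iff _ (ι.residueFieldMap y').hom.injective).1 ?_
  erw [residueFieldMap_specMap' ι h c]
  rw [RingHom.mem_ker] at hc
  erw [hc]
  exact map_zero _

/-- The part of the statement about one subscheme. -/
theorem one_side {K : Type u} [Field K] {X Y : Scheme.{u}} (f : X ⟶ Spec (CommRingCat.of K))
    [LocallyOfFiniteType f] {δ : X → ℤ} (hδ : Cyc.DeltaCompat f δ (fun _ => 0)) (ι : Y ⟶ X)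
    [IsClosedImmersion ι] {r : ℤ} (hY : ∀ y : Y, δ (ι y) ≤ r) (y : Y) (ξ : X)
    (hξ : Cyc.subschemeFun δ r ι ξ ≠ 0) (h : ξ ⤳ ι y) :
    ∃ a : ℕ, (a : ℤ) = r - δ (ι y) ∧
      ringKrullDim (X.presheaf.stalk (ι y) ⧸ RingHom.ker (ι.stalkMap y).hom) = a ∧
      (IsRegularLocalRing (X.presheaf.stalk (ι y) ⧸ RingHom.ker (ι.stalkMap y).hom) →
        IsRegularLocalRing (Y.presheaf.stalk y) ∧ Cyc.subschemeFun δ r ι ξ = 1 ∧
        (ptPrime (ι y) ξ h).asIdeal = RingHom.ker (ι.stalkMap y).hom ∧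
        ∀ ξ' : X, Cyc.subschemeFun δ r ι ξ' ≠ 0 → ξ' ⤳ ι y → ξ' = ξ) := by
  classical
  set I := RingHom.ker (ι.stalkMap y).hom with hI
  obtain ⟨hd, y₀, rfl⟩ := of_subschemeFun_ne_zero δ r ι ξ hξ
  have hy₀ : y₀ ⤳ y := ι.isEmbedding.isInducing.specializes_iff.1 h
  have hle : I ≤ (ptPrime (ι y) (ι y₀) h).asIdeal := ker_le_ptPrime ι y hy₀
  obtain ⟨a, ha, ha'⟩ := ringKrullDim_ptPrime f hδ h
  rw [hd] at ha'
  have hub : ringKrullDim (X.presheaf.stalk (ι y) ⧸ I) ≤ a := by
    rw [← Module.supportDim_quotient_eq_ringKrullDim]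
    refine supportDim_le a fun q hq => ?_
    obtain ⟨η, hη, rfl⟩ := exists_ptPrime (ι y) q
    have hq' : I ≤ (ptPrime (ι y) η hη).asIdeal := by
      have := Module.mem_support_iff_of_finite.1 hq
      rwa [Ideal.annihilator_quotient] at this
    obtain ⟨y', rfl, -⟩ := mem_range_of_le ι y hη hq'
    obtain ⟨e, he, he'⟩ := ringKrullDim_ptPrime f hδ hη
    have := hY y'
    rw [he]
    exact_mod_cast (by omega : e ≤ a)
  refine ⟨a, ha', le_antisymm hub (ha ▸ ringKrullDim_le_of_surjective (Ideal.Quotient.factor hle)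
    (Ideal.Quotient.factor_surjective hle)), fun hreg => ?_⟩
  have hs : Function.Surjective (ι.stalkMap y).hom := ι.stalkMap_surjective y
  let eI := RingHom.quotientKerEquivOfSurjective hs
  have hregY : IsRegularLocalRing (Y.presheaf.stalk y) := IsRegularLocalRing.of_ringEquiv eI
  haveI := hreg
  haveI : IsDomain (X.presheaf.stalk (ι y) ⧸ I) := RegLoc.isDomain _
  haveI hIp : I.IsPrime := (Ideal.Quotient.isDomain_iff_prime I).1 inferInstance
  have huniq : ∀ η : X, (hη : η ⤳ ι y) → I ≤ (ptPrime (ι y) η hη).asIdeal → δ η = r →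
      (ptPrime (ι y) η hη).asIdeal = I := by
    intro η hη hle' hdη
    obtain ⟨η₀, hη₀, heq⟩ := exists_ptPrime (ι y) ⟨I, hIp⟩
    have heq' : (ptPrime (ι y) η₀ hη₀).asIdeal = I := congrArg PrimeSpectrum.asIdeal heq
    obtain ⟨y', hy', -⟩ := mem_range_of_le ι y hη₀ heq'.ge
    have hsp : η₀ ⤳ η := (ptPrime_le_iff hη₀ hη).1 (heq'.le.trans hle')
    have := eq_of_le f hδ hsp (by rw [hdη, ← hy']; exact hY y')
    subst this
    exact heq'
  have hP := huniq (ι y₀) h hle hd
  refine ⟨hregY, ?_, hP, fun ξ' hξ' h' => ?_⟩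
  · rw [subschemeFun_eq δ r ι y₀ hd]
    haveI := hregY
    haveI : IsDomain (Y.presheaf.stalk y) := RegLoc.isDomain _
    letI := (Y.presheaf.stalkSpecializes hy₀).hom.toAlgebra
    haveI hloc : IsLocalization.AtPrime (Y.presheaf.stalk y₀) (ptPrime y y₀ hy₀).asIdeal :=
      isLocalization_stalkSpecializes hy₀
    have h0 : (ptPrime y y₀ hy₀).asIdeal = ⊥ := by
      rw [eq_bot_iff]
      intro c hc
      obtain ⟨b, rfl⟩ := hs c
      rw [Ideal.mem_bot]
      have : b ∈ (ptPrime (ι y) (ι y₀) h).asIdeal := by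
        show Cyc.specMap (ι y) (ι y₀) _ b = 0
        refine (map_eq_zero_iff _ (ι.residueFieldMap y₀).hom.injective).1 ?_
        erw [residueFieldMap_specMap' ι hy₀ b]
        exact hc
      rwa [hP] at this
    haveI : IsFractionRing (Y.presheaf.stalk y) (Y.presheaf.stalk y₀) := by
      refine IsLocalization.of_le_of_exists_dvd (ptPrime y y₀ hy₀).asIdeal.primeCompl _ ?_ ?_
      · exact fun x hx => mem_nonZeroDivisors_of_ne_zero fun hx0 => hx (hx0 ▸ Ideal.zero_mem _)
      · exact fun x hx => ⟨x, fun hx' => nonZeroDivisors.ne_zero hx (by rw [h0] at hx'; exact hx'), dvd_rfl⟩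
    have hF : IsField (Y.presheaf.stalk y₀) := (IsFractionRing.toField (Y.presheaf.stalk y)).toIsField
    haveI : IsSimpleModule (Y.presheaf.stalk y₀) (Y.presheaf.stalk y₀) := by
      letI := hF.toField
      infer_instance
    rw [Module.length_eq_one]
    rfl
  · obtain ⟨hd', y₁, rfl⟩ := of_subschemeFun_ne_zero δ r ι ξ' hξ'
    have hP' := huniq (ι y₁) h' (ker_le_ptPrime ι y (ι.isEmbedding.isInducing.specializes_iff.1 h')) hd'
    have e := congrArg (fun q => X.fromSpecStalk (ι y) q)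
      (PrimeSpectrum.ext (hP'.trans hP.symm) : ptPrime (ι y) (ι y₁) h' = ptPrime (ι y) (ι y₀) h)
    simpa only [fromSpecStalk_ptPrime] using e

/-- The two subschemes fill the maximal ideal. -/
theorem sup_eq_max {X Y Z : Scheme.{u}} (ιY : Y ⟶ X) (ιZ : Z ⟶ X) [IsClosedImmersion ιY]
    [IsClosedImmersion ιZ] (w : ↥(pullback ιY ιZ))
    (h1 : Module.length ((pullback ιY ιZ).presheaf.stalk w) ((pullback ιY ιZ).presheaf.stalk w) = 1)
    (hsp : ιZ (pullback.snd ιY ιZ w) ⤳ ιY (pullback.fst ιY ιZ w)) :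
    RingHom.ker (ιY.stalkMap (pullback.fst ιY ιZ w)).hom ⊔
      (RingHom.ker (ιZ.stalkMap (pullback.snd ιY ιZ w)).hom).comap (X.presheaf.stalkSpecializes hsp).hom =
    maximalIdeal (X.presheaf.stalk (ιY (pullback.fst ιY ιZ w))) := by
  have hk := Groth.Agent.CycLib.ker_stalkMap_isPullback (IsPullback.of_hasPullback ιY ιZ) w hsp
  have hsY : Function.Surjective (ιY.stalkMap (pullback.fst ιY ιZ w)).hom := ιY.stalkMap_surjective _
  have hsm : Function.Surjective ((pullback.fst ιY ιZ).stalkMap w).hom :=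
    (pullback.fst ιY ιZ).stalkMap_surjective w
  have hcomp : RingHom.ker (((pullback.fst ιY ιZ).stalkMap w).hom.comp (ιY.stalkMap (pullback.fst ιY ιZ w)).hom) =
      RingHom.ker (ιY.stalkMap (pullback.fst ιY ιZ w)).hom ⊔
      (RingHom.ker (ιZ.stalkMap (pullback.snd ιY ιZ w)).hom).comap (X.presheaf.stalkSpecializes hsp).hom := by
    rw [← RingHom.comap_ker, hk, Ideal.comap_map_of_surjective _ hsY, sup_comm]
    rfl
  rw [← hcomp]
  have hmax : (⊥ : Ideal ((pullback ιY ιZ).presheaf.stalk w)).IsMaximal := by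
    haveI := Module.length_eq_one_iff.1 h1
    rw [Ideal.isMaximal_def]
    exact isSimpleModule_iff_isCoatom.1 (IsSimpleModule.congr (Submodule.quotEquivOfEqBot _ rfl))
  have := Ideal.comap_isMaximal_of_surjective (((pullback.fst ιY ιZ).stalkMap w).hom.comp
    (ιY.stalkMap (pullback.fst ιY ιZ w)).hom) (hsm.comp hsY) (K := (⊥ : Ideal ((pullback ιY ιZ).presheaf.stalk w)))
  exact IsLocalRing.eq_maximalIdeal this

/-- Let Y, Z → X be closed immersions into a nonsingular variety with δ ≤ r on Y and δ ≤ s on Z, such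
that [Y]_r and [Z]_s intersect properly, and let τ be a point of δ-dimension r + s − n lying under Y
and Z (the generic point of a component of the intersection of components of dimension r and s) at
which the scheme-theoretic intersection Y ×_X Z has multiplicity 1 (its local ring there has length
1). Then the coefficient of the closure of τ in [Y]_r · [Z]_s is 1, and the local rings of Y and Z
at the points over τ are regular. (The published statement has further parts, not restated here.)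
Here X is a nonsingular variety over the algebraically closed field K (smooth, separated,
quasi-compact, integral) with dimension function δ (transcendence degree) and n = dim X; cycles are
Mathlib AlgebraicCycles with Cyc.Zk membership, proper intersection is IntMult.IntersectProperly and
α · β is the Tor-formula intersection product on coefficient functions (IntMult.interProd), bundled
where needed as 'any cycle with these coefficients'. -/
theorem result (K : Type u) [Field K] [IsAlgClosed K] (X : Scheme.{u}) (f : X ⟶ Spec (CommRingCat.of K)) [Smooth f] [IsSeparated f] [QuasiCompact f] [IsIntegral X] (δ : X → ℤ) (hX : Cyc.IsSetup X δ) (hδ : Cyc.DeltaCompat f δ (fun _ => 0)) (n : ℤ) (hn : δ (genericPoint X) = n) (Y Z : Scheme.{u}) (ιY : Y ⟶ X) (ιZ : Z ⟶ X) [IsClosedImmersion ιY] [IsClosedImmersion ιZ] (r s : ℤ) (hY : ∀ y : Y, δ (ιY y) ≤ r) (hZ : ∀ z : Z, δ (ιZ z) ≤ s) (hprop : IntMult.IntersectProperly δ n (Cyc.subschemeFun δ r ιY) (Cyc.subschemeFun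 δ s ιZ)) (τ : X) (hτ : δ τ = r + s - n) (hξ : ∃ ξ η : X, Cyc.subschemeFun δ r ιY ξ ≠ 0 ∧ Cyc.subschemeFun δ s ιZ η ≠ 0 ∧ ξ ⤳ τ ∧ η ⤳ τ) (hmult : Cyc.subschemeFun δ (r + s - n) (pullback.fst ιY ιZ ≫ ιY) τ = 1) : IntMult.interProd δ n (Cyc.subschemeFun δ r ιY) (Cyc.subschemeFun δ s ιZ) τ = 1 ∧ (∀ y : Y, ιY y = τ → IsRegularLocalRing (Y.presheaf.stalk y)) ∧ (∀ z : Z, ιZ z = τ → IsRegularLocalRing (Z.presheaf.stalk z)) := by
  classical
  haveI := hX.1
  obtain ⟨w, hw, h1⟩ : ∃ w : ↥(pullback ιY ιZ), (pullback.fst ιY ιZ ≫ ιY) w = τ ∧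
      Module.length ((pullback ιY ιZ).presheaf.stalk w) ((pullback ιY ιZ).presheaf.stalk w) = 1 := by
    obtain ⟨-, w, hw⟩ := of_subschemeFun_ne_zero δ (r + s - n) (pullback.fst ιY ιZ ≫ ιY) τ (by rw [hmult]; exact one_ne_zero)
    refine ⟨w, hw, ?_⟩
    subst hw
    rw [subschemeFun_eq δ (r + s - n) (pullback.fst ιY ιZ ≫ ιY) w hτ] at hmult
    generalize Module.length ((pullback ιY ιZ).presheaf.stalk w) ((pullback ιY ιZ).presheaf.stalk w) = L at hmult ⊢
    cases L with
    | top => simp at hmult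
    | coe L => simp at hmult; exact_mod_cast hmult
  rw [Scheme.Hom.comp_apply] at hw
  subst hw
  set y₀ := pullback.fst ιY ιZ w with hy₀
  set z₀ := pullback.snd ιY ιZ w with hz₀
  have heq : ιY y₀ = ιZ z₀ := by
    rw [hy₀, hz₀, ← Scheme.Hom.comp_apply, pullback.condition, Scheme.Hom.comp_apply]
  have hsp : ιZ z₀ ⤳ ιY y₀ := specializes_of_eq heq.symm
  obtain ⟨ξ, η, hξ, hη, hξτ, hητ⟩ := hξ
  have hητ' : η ⤳ ιZ z₀ := hητ.trans (specializes_of_eq heq)
  obtain ⟨a, ha', ha, hA⟩ := one_side f hδ ιY hY y₀ ξ hξ hξτ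
  obtain ⟨b, hb', hb, hB⟩ := one_side f hδ ιZ hZ z₀ η hη hητ'
  have hmax := sup_eq_max ιY ιZ w h1 hsp
  set J := (RingHom.ker (ιZ.stalkMap z₀).hom).comap (X.presheaf.stalkSpecializes hsp).hom with hJdef
  let e : X.presheaf.stalk (ιY y₀) ≃+* X.presheaf.stalk (ιZ z₀) :=
    (X.presheaf.stalkCongr (.of_eq heq)).commRingCatIsoToRingEquiv
  have hee : (e : X.presheaf.stalk (ιY y₀) →+* X.presheaf.stalk (ιZ z₀)) = (X.presheaf.stalkSpecializes hsp).hom := rfl
  let eJ : (X.presheaf.stalk (ιY y₀) ⧸ J) ≃+* (X.presheaf.stalk (ιZ z₀) ⧸ RingHom.ker (ιZ.stalkMap z₀).hom) :=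
    Ideal.quotientEquiv J _ e (by
      rw [hJdef, ← hee, Ideal.map_comap_of_surjective (e : X.presheaf.stalk (ιY y₀) →+* X.presheaf.stalk (ιZ z₀)) e.surjective])
  have hb2 : ringKrullDim (X.presheaf.stalk (ιY y₀) ⧸ J) = b := by
    rw [ringKrullDim_eq_of_ringEquiv eJ, hb]
  obtain ⟨R, _, _, _, p, _, _, _⟩ := exists_chart f (ιY y₀)
  haveI := isRegularLocalRing_localization K R p (X.presheaf.stalk (ιY y₀))
  obtain ⟨d, hd, hd'⟩ := ringKrullDim_stalk f hδ (ιY y₀)
  rw [hn] at hd'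
  rw [← heq] at hb'
  have hab : d ≤ a + b := by omega
  obtain ⟨hP, hQ⟩ := Groth.Agent.IntMult88.regular_of_sup_eq_maximalIdeal hd _ J ha hb2 hab hmax
  obtain ⟨hrY, hcY, hIY, huY⟩ := hA hP
  obtain ⟨hrZ, hcZ, hIZ, huZ⟩ := hB (IsRegularLocalRing.of_ringEquiv eJ)
  refine ⟨?_, fun y hy => ?_, fun z hz => ?_⟩
  · have hdξ := (of_subschemeFun_ne_zero δ r ιY ξ hξ).1
    have hdη := (of_subschemeFun_ne_zero δ s ιZ η hη).1
    unfold IntMult.interProd
    rw [finsum_eq_single _ ⟨(ξ, η), hξτ, hητ, by show δ ξ + δ η - n = δ (ιY y₀); omega⟩ fun q hq => ?_]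
    · show Cyc.subschemeFun δ r ιY ξ * Cyc.subschemeFun δ s ιZ η * IntMult.mult (IntMult.ptIdeal ξ) (IntMult.ptIdeal η) (ιY y₀) = 1
      rw [hcY, hcZ, one_mul, one_mul, mult_ptIdeal hξτ hητ]
      have hQ' : (ptPrime (ιY y₀) η hητ).asIdeal = J := by
        rw [hJdef, ← hIZ]
        ext c
        show Cyc.specMap (ιY y₀) η hητ c = 0 ↔ Cyc.specMap (ιZ z₀) η hητ' (X.presheaf.stalkSpecializes hsp c) = 0
        have : Cyc.specMap (ιZ z₀) η hητ' (X.presheaf.stalkSpecializes hsp c) = Cyc.specMap (ιY y₀) η hητ c := by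
          unfold Cyc.specMap
          simp only [CommRingCat.hom_comp, RingHom.comp_apply]
          congr 1
          exact ConcreteCategory.congr_hom (TopCat.Presheaf.stalkSpecializes_comp X.presheaf hητ' hsp) c
        rw [this]
      rw [hIY, hQ']
      haveI := hP
      haveI := hQ
      rw [Groth.Agent.IntMult88.chi_eq_length_of_CM hd _ J ha hb2 hab (by rw [hmax]; exact Ideal.le_radical)
        (Groth.Agent.Depth.isCohenMacaulayLocalRing_of_isRegularLocalRing)
        (Groth.Agent.Depth.isCohenMacaulayLocalRing_of_isRegularLocalRing), hmax]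
      haveI : IsSimpleModule (X.presheaf.stalk (ιY y₀))
          (X.presheaf.stalk (ιY y₀) ⧸ maximalIdeal (X.presheaf.stalk (ιY y₀))) :=
        isSimpleModule_iff_isCoatom.2 (Ideal.isMaximal_def.1 (maximalIdeal.isMaximal _))
      rw [Module.length_eq_one]
      rfl
    · by_cases hα : Cyc.subschemeFun δ r ιY q.1.1 = 0
      · rw [hα, zero_mul, zero_mul]
      by_cases hβ : Cyc.subschemeFun δ s ιZ q.1.2 = 0
      · rw [hβ, mul_zero, zero_mul]
      exact absurd (Subtype.ext (Prod.ext (huY _ hα q.2.1) (huZ _ hβ (q.2.2.1.trans (specializes_of_eq heq))))) hq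
  · obtain rfl := ιY.isClosedEmbedding.injective hy
    exact hrY
  · obtain rfl := ιZ.isClosedEmbedding.injective (hz.trans heq)
    exact hrZ

end Groth.Agent.S1954
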