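import Groth.Statements.S10544
import Groth.Agent.AlgSpCov.FpqcTop

set_option autoImplicit false
set_option backward.isDefEq.respectTransparency false
universe u
open CategoryTheory CategoryTheory.Limits AlgebraicGeometry
open AlgSp Groth.Agent

namespace Groth.Agent.S10544

/-- The property of morphisms of algebraic spaces over S given by f is etale (composition with every
representable etale map from a scheme is representable etale) is fpqc local on the base: for an fpqc
covering of an algebraic space Y by algebraic spaces Y_i, a morphism f : X ⟶ Y of algebraic spaces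
and cartesian squares X_i = Y_i ×_Y X, f has the property if and only if every X_i ⟶ Y_i has it. -/
theorem result (S : Scheme.{u}) :
    AlgSp.IsLocalOnBase (AlgSp.IsFpqcCover (S := S)) AlgSp.IsEtaleMor := by
  exact fun _ _ _ _ hY hYi hg _ _ hX _ _ _ hXi sq =>
    ⟨fun hf i => (AlgSpCov.isEtaleMor_iff_locP_etale (hXi i) (hYi i)).2
      (AlgSpCov.locP_baseChange AlgSpCov.etaleLocal_etale hX hY (sq i)
        (AlgSpCov.locP_etale_of_isEtaleMor hf)),
    fun h => (AlgSpCov.isEtaleMor_iff_locP_etale hX hY).2
      (AlgSpCov.locP_of_fpqc AlgSpCov.etaleLocal_etale hYi hg hXi sq fun i =>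
        AlgSpCov.locP_etale_of_isEtaleMor (h i))⟩

end Groth.Agent.S10544
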