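import Groth.Statements.S10629
import Groth.Agent.AlgSp.SmoothCharts
import Groth.Agent.S1488

set_option autoImplicit false
universe u
open CategoryTheory CategoryTheory.Limits AlgebraicGeometry
open AlgSp

namespace Groth.Agent.S10629

/-- A morphism f : X ⟶ Y of algebraic spaces over S is smooth if and only if it is locally of finite
presentation and formally smooth (lifting sense). -/
theorem result {S : Scheme.{u}} {X Y : AlgSp.Space S} (f : X ⟶ Y) :
    AlgSp.LocP @Smooth f.hom ↔ AlgSp.LocP @LocallyOfFinitePresentation f.hom ∧ AlgSp.IsFormallySmoothMor f.hom := by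
  rw [Groth.Agent.AlgSp.SmoothCharts.formallySmooth_iff_locP X.property Y.property f.hom]
  constructor
  · intro h
    exact ⟨fun U V a b g ha hb w => ((Groth.Agent.S1488.result g.left).1 (h a b g ha hb w)).1,
      fun U V a b g ha hb w => ((Groth.Agent.S1488.result g.left).1 (h a b g ha hb w)).2⟩
  · intro h U V a b g ha hb w
    exact (Groth.Agent.S1488.result g.left).2 ⟨h.1 a b g ha hb w, h.2 a b g ha hb w⟩

end Groth.Agent.S10629
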