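import Groth.Statements.S2463
import Groth.Agent.JacCrit.Quotient

set_option autoImplicit false
universe u
open EGA41

namespace Groth.Agent.S2463

open TensorProduct KaehlerDifferential in
/-- Let B be a formally smooth A-algebra (discrete topologies), B → C a surjection with kernel J such
that J/J² is a finitely generated module (over B, equivalently over C), and p a prime of C. The
following are equivalent: the local ring C_p is formally smooth over A; the map κ(p) ⊗ J/J² → κ(p) ⊗
(C ⊗_B Ω_{B/A}) induced by d is injective (tensor products over B, which agree with those over C =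
B/J); there is f ∈ C outside p with C_f formally smooth over A. -/
theorem result {A B C : Type u} [CommRing A] [CommRing B] [CommRing C] [Algebra A B] [Algebra B C] [Algebra A C]
    [IsScalarTower A B C] [Algebra.FormallySmooth A B] (hsurj : Function.Surjective (algebraMap B C))
    [Module.Finite B (RingHom.ker (algebraMap B C)).Cotangent] (p : Ideal C) [p.IsPrime] :
    [Algebra.FormallySmooth A (Localization.AtPrime p),
     Function.Injective ((kerCotangentToTensor A B C).lTensor p.ResidueField),
     ∃ f : C, f ∉ p ∧ Algebra.FormallySmooth A (Localization.Away f)].TFAE := by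
  have h1 := Groth.Agent.JacCrit.Quotient.formallySmooth_atPrime_iff (A := A) hsurj p
  have h2 := Groth.Agent.JacCrit.Quotient.injective_iff_kerCotangentToTensor (A := A) hsurj p.ResidueField
  tfae_have 1 ↔ 2 := h1.trans h2.symm
  tfae_have 1 → 3 := fun h => Groth.Agent.JacCrit.Quotient.exists_away hsurj p
  tfae_have 3 → 1 := fun ⟨f, hf, h⟩ => Groth.Agent.JacCrit.Basic.formallySmooth_atPrime_of_away p hf
  tfae_finish

end Groth.Agent.S2463
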