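import Groth.Statements.S1118
import Groth.Agent.DEq.ProjQCoh
import Groth.Agent.DEq.KernelDiag
-- import your own Groth.Agent.* helpers here

set_option autoImplicit false
universe u
open CategoryTheory CategoryTheory.Limits AlgebraicGeometry Opposite
attribute [local instance] HasDerivedCategory.standard
open Perf

namespace Groth.Agent.S1118

/-- Let f : X ⟶ Y be quasi-compact and quasi-separated, E ∈ D(O_X) with quasi-coherent cohomology
sheaves, K a cochain complex of O_Y-modules whose image in D(O_Y) has quasi-coherent cohomology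
sheaves, and M a cochain complex of O_X-modules representing Lf^*K. Assuming the derived functors
involved exist, Rf_*(E) ⊗^L K and Rf_*(E ⊗^L M) are isomorphic in D(O_Y). (The source proves that
the canonical projection-formula map is an isomorphism; only the existence of an isomorphism is
asserted here.) -/
theorem result {X Y : Scheme.{u}} (f : X ⟶ Y) [QuasiCompact f] [QuasiSeparated f] [DCoh.HasRpush f] [DCoh.HasLpull f]
    (E : DCoh.D X) (hE : DCoh.IsQCohD E) (K : CochainComplex Y.Modules ℤ) (hK : DCoh.IsQCohD (DCoh.toD Y K)) [DCoh.HasLTensorCx K]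
    (M : CochainComplex X.Modules ℤ) (hM : Nonempty (DCoh.toD X M ≅ (DCoh.Lpull f).obj (DCoh.toD Y K))) [DCoh.HasLTensorCx M] :
    Nonempty ((DCoh.LTensorCx K).obj ((DCoh.Rpush f).obj E) ≅ (DCoh.Rpush f).obj ((DCoh.LTensorCx M).obj E)) := by
  let P := (Groth.Agent.KFlat.Pull.resY Y).obj K
  have hP : DCoh.IsKFlat P := Groth.Agent.KFlat.Pull.isKFlat_resY K
  let eP : DerivedCategory.Q.obj P ≅ DerivedCategory.Q.obj K := (Groth.Agent.KFlat.Pull.resQIso (Y := Y)).app K
  have hq : DCoh.IsQCohD (DerivedCategory.Q.obj P) := Groth.Agent.KFlat.QCohModel.isQCohD_of_iso eP.symm hK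
  have := Groth.Agent.KFlat.LTensor.hasLTensorCx P
  have := Groth.Agent.KFlat.LTensor.hasLTensorCx ((Groth.Agent.KFlat.Pull.pullCx f).obj P)
  let eM : DerivedCategory.Q.obj M ≅ DerivedCategory.Q.obj ((Groth.Agent.KFlat.Pull.pullCx f).obj P) :=
    hM.some ≪≫ (DCoh.Lpull f).mapIso eP.symm ≪≫
      @asIso _ _ _ _ ((Groth.Agent.KFlat.Pull.toPull f).app P) (Groth.Agent.KFlat.Pull.isIso_toPull f hP)
  obtain ⟨a⟩ := Groth.Agent.DEq.nonempty_ltensorCongr eP.symm
  obtain ⟨b⟩ := Groth.Agent.DEq.nonempty_ltensorCongr eM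
  obtain ⟨e⟩ := Groth.Agent.DEq.ProjQCoh.nonempty_iso f P hP hq E hE
  exact ⟨a.app _ ≪≫ e ≪≫ (DCoh.Rpush f).mapIso (b.app E).symm⟩

end Groth.Agent.S1118
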