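import Groth.Statements.S11160
import Groth.Agent.DTrunc.FullFaithful
import Mathlib.Algebra.Homology.DerivedCategory.RightDerivedFunctorPlus
import Mathlib.Algebra.Homology.DerivedCategory.KInjective
-- import your own Groth.Agent.* helpers here

set_option autoImplicit false
universe w w' v v' u u'
open CategoryTheory CategoryTheory.Limits
open CohDer

namespace Groth.Agent.S11160

open Groth.Agent.DTrunc in
lemma homBij_inj {A' : Type u'} [Category.{v'} A'] [Abelian A'] [HasDerivedCategory.{w'} A']
    {A : Type u} [Category.{v} A] [Abelian A] [HasDerivedCategory.{w} A]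
    (ι : A' ⥤ A) [ι.Additive] [PreservesFiniteLimits ι] [PreservesFiniteColimits ι] [ι.Full] [ι.Faithful]
    (X I : CochainComplex A' ℤ) (b : ℤ) [I.IsStrictlyGE b] (hI : ∀ n, Injective (I.X n))
    (hιI : ∀ n, Injective (ι.obj (I.X n))) :
    Function.Bijective (fun f : DerivedCategory.Q.obj X ⟶ DerivedCategory.Q.obj I =>
      ι.mapDerivedCategory.map f) := by
  let q' := HomotopyCategory.quotient A' (ComplexShape.up ℤ)
  let q := HomotopyCategory.quotient A (ComplexShape.up ℤ)
  have : I.IsKInjective := CochainComplex.isKInjective_of_injective I b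
  have : CochainComplex.IsStrictlyGE ((ι.mapHomologicalComplex (ComplexShape.up ℤ)).obj I) b := inferInstance
  have : ∀ n, Injective (((ι.mapHomologicalComplex (ComplexShape.up ℤ)).obj I).X n) := hιI
  have : CochainComplex.IsKInjective ((ι.mapHomologicalComplex (ComplexShape.up ℤ)).obj I) :=
    CochainComplex.isKInjective_of_injective _ b
  have h1 := CochainComplex.IsKInjective.Qh_map_bijective (q'.obj X) I
  have h2 := CochainComplex.IsKInjective.Qh_map_bijective
    (q.obj ((ι.mapHomologicalComplex (ComplexShape.up ℤ)).obj X))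
    ((ι.mapHomologicalComplex (ComplexShape.up ℤ)).obj I)
  have h3 : Function.Bijective (fun g : q'.obj X ⟶ q'.obj I => (ι.mapHomotopyCategory _).map g) :=
    ⟨(ι.mapHomotopyCategory (ComplexShape.up ℤ)).map_injective,
      (ι.mapHomotopyCategory (ComplexShape.up ℤ)).map_surjective⟩
  let e := ι.mapDerivedCategoryFactorsh
  refine (Function.Bijective.of_comp_iff _ h1).1 ?_
  have : (fun f : DerivedCategory.Q.obj X ⟶ DerivedCategory.Q.obj I => ι.mapDerivedCategory.map f) ∘
      (fun g : q'.obj X ⟶ q'.obj I => DerivedCategory.Qh.map g) =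
      (Iso.homCongr (e.app (q'.obj X)).symm (e.app (q'.obj I)).symm) ∘
        (fun g => DerivedCategory.Qh.map g) ∘
        (fun g : q'.obj X ⟶ q'.obj I => (ι.mapHomotopyCategory _).map g) := by
    funext g
    exact ((NatIso.naturality_2 e g)).symm
  exact this ▸ (Equiv.bijective _).comp (h2.comp h3)


/-- Let ι : A' ⥤ A be an exact fully faithful functor of abelian categories whose essential image is
closed under extensions (a thick abelian subcategory), and suppose every object of A' admits a
monomorphism into an object of A' whose image in A is injective (A' has enough A-injectives). Then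
the induced triangulated functor D(A') ⥤ D(A) is fully faithful on cohomologically bounded below
objects. -/
theorem result {A' : Type u'} [Category.{v'} A'] [Abelian A'] [HasDerivedCategory.{w'} A']
    {A : Type u} [Category.{v} A] [Abelian A] [HasDerivedCategory.{w} A]
    (ι : A' ⥤ A) [ι.Additive] [PreservesFiniteLimits ι] [PreservesFiniteColimits ι] [ι.Full] [ι.Faithful]
    (hext : ∀ S : ShortComplex A, S.ShortExact → ι.essImage S.X₁ → ι.essImage S.X₃ → ι.essImage S.X₂)
    (hinj : ∀ X' : A', ∃ (Y' : A') (i : X' ⟶ Y'), Mono i ∧ Injective (ι.obj Y'))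
    (X Y : DerivedCategory A') (a b : ℤ) [X.IsGE a] [Y.IsGE b] :
    Function.Bijective (fun f : X ⟶ Y => ι.mapDerivedCategory.map f) := by
  have hmap : ∀ I : A', Injective I → Injective (ι.obj I) := fun I _ => by
    obtain ⟨Y', i, hi, hY'⟩ := hinj I
    exact Retract.injective
      ({ i := ι.map i
         r := ι.map (Injective.factorThru (𝟙 I) i)
         retract := by rw [← ι.map_comp, Injective.comp_factorThru, ι.map_id] } :
        Retract (ι.obj I) (ι.obj Y'))
  have : EnoughInjectives A' := ⟨fun X' => by
    obtain ⟨Y', i, hi, hY'⟩ := hinj X'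
    have : Injective Y' := ⟨fun {M N} g f _ => by
      obtain ⟨h, hh⟩ := hY'.factors (ι.map g) (ι.map f)
      obtain ⟨h', rfl⟩ := ι.map_surjective h
      exact ⟨h', ι.map_injective (by rw [ι.map_comp, hh])⟩⟩
    exact ⟨{ J := Y', injective := this, f := i, mono := hi }⟩⟩
  obtain ⟨K, hK, ⟨eK⟩⟩ := DerivedCategory.exists_iso_Q_obj_of_isGE Y b
  obtain ⟨L, hL, j, hj⟩ := CochainComplex.Plus.exists_quasiIso_injective ⟨K, ⟨b, hK⟩⟩ b
  have : QuasiIso j.hom := hj
  let eY : DerivedCategory.Q.obj ((InjectiveObject.ι A').mapCochainComplexPlus.obj L).obj ≅ Y :=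
    (@asIso _ _ _ _ (DerivedCategory.Q.map j.hom)
      ((DerivedCategory.isIso_Q_map_iff_quasiIso _ _).2 this)).symm ≪≫ eK.symm
  let eX := (DerivedCategory.Q (C := A')).objObjPreimageIso X
  have hL' : CochainComplex.IsStrictlyGE ((InjectiveObject.ι A').mapCochainComplexPlus.obj L).obj b :=
    (CochainComplex.isStrictlyGE_mapHomologicalComplex_obj_iff L.obj (InjectiveObject.ι A') b).2 hL
  exact Groth.Agent.DTrunc.HomBij.of_iso eX eY (homBij_inj ι _ _ b (fun n => (L.obj.X n).property)
    (fun n => hmap _ (L.obj.X n).property))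

end Groth.Agent.S11160
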