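import Groth.Statements.S0965
import Groth.Agent.KFlat.PerfectDual
open AlgebraicGeometry Groth.Agent.KFlat


set_option autoImplicit false
universe u
open CategoryTheory
attribute [local instance] HasDerivedCategory.standard
open DCoh

namespace Groth.Agent.S0965

open AlgebraicGeometry in
/-- Schemes; K given by a K-flat complex representing a perfect object, and the dual K^∨ represented by
a K-flat complex D: with K^∨ := RHom(K, O_X), (1) K^∨ is perfect, and (2) for every complex D which
is K-flat and represents K^∨, and every M in D(O_X), M ⊗^L D ≅ RHom(K, M). The derived tensor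
functors and RHom(K, -) are taken under their existence binders. (The biduality (K^∨)^∨ ≅ K and the
global-sections formula of the source are not asserted.) -/
theorem result {X : Scheme.{u}} (K : CochainComplex X.Modules ℤ) (hK : DCoh.IsKFlat K)
    (hKp : DCoh.IsPerfect (DerivedCategory.Q.obj K)) [DCoh.HasLTensorCx K] [DCoh.HasRSheafHom K] :
    DCoh.IsPerfect ((DCoh.RSheafHom K).obj ((DerivedCategory.singleFunctor X.Modules 0).obj (Coh.structureModule X))) ∧
    ∀ (D : CochainComplex X.Modules ℤ), DCoh.IsKFlat D →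
      Nonempty (DerivedCategory.Q.obj D ≅
        (DCoh.RSheafHom K).obj ((DerivedCategory.singleFunctor X.Modules 0).obj (Coh.structureModule X))) →
      ∀ [DCoh.HasLTensorCx D] (M : DCoh.D X),
        Nonempty ((DCoh.LTensorCx D).obj M ≅ (DCoh.RSheafHom K).obj M) := by
  have hKp' : DCoh.IsPerfect (DCoh.toD X K) := hKp
  refine ⟨?_, fun D hD ⟨eD⟩ _ M => ?_⟩
  · let F₀ := DerivedCategory.Q.objPreimage (PerfectDual.dual K)
    let D := (Groth.Agent.KFlat.Pull.resY X).obj F₀
    have := Groth.Agent.KFlat.Pull.quasiIso_resYπ F₀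
    let eD : DerivedCategory.Q.obj D ≅ PerfectDual.dual K :=
      asIso (DerivedCategory.Q.map ((Groth.Agent.KFlat.Pull.resYπ X).app F₀)) ≪≫
        DerivedCategory.Q.objObjPreimageIso _
    refine LocalD.isPerfect_of_local fun x => ?_
    obtain ⟨V, hxV, -, E, E', P, hLT, -, -, ⟨w⟩⟩ := RHomLocal.exists_local K hKp' x ⊤ trivial
    let O' := UnitCx.oneCx (V : Scheme.{u})
    have hu : Nonempty ((DCoh.LTensorCx E').obj (DerivedCategory.Q.obj O') ≅ DerivedCategory.Q.obj E') := by
      have := LTensor.isIso_toTensor_of_kflat E' (StrictDual.isKFlat_right P) O'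
      let t : (DCoh.LTensorCx E').obj (DerivedCategory.Q.obj O') ⟶
          DerivedCategory.Q.obj ((DCoh.tensorCx.obj O').obj E') := (LTensor.toTensor E').app O'
      have : IsIso t := LTensor.isIso_toTensor_of_kflat E' (StrictDual.isKFlat_right P) O'
      exact ⟨asIso t ≪≫ DerivedCategory.Q.mapIso (PerfectTensor.flipIso O' E' ≪≫ UnitCx.unitIsoApp E')⟩
    let eO : (DCoh.restrictD V.ι).obj ((DerivedCategory.singleFunctor X.Modules 0).obj (Coh.structureModule X)) ≅
        DerivedCategory.Q.obj (UnitCx.oneCx (V : Scheme.{u})) :=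
      (Scheme.Modules.restrictFunctor V.ι).mapDerivedCategoryFactors.app _ ≪≫
        DerivedCategory.Q.mapIso (((HomologicalComplex.singleMapHomologicalComplex
          (Scheme.Modules.restrictFunctor V.ι) (ComplexShape.up ℤ) 0).app (Coh.structureModule X)) ≪≫
          (HomologicalComplex.single _ _ 0).mapIso ((Scheme.Modules.restrictFunctorIsoPullback V.ι).app _ ≪≫
            Groth.Agent.QCoh.pullbackUnitIso V.ι))
    exact ⟨V, D, E', hxV, ⟨eD⟩, StrictDual.isStrictlyPerfect_right P,
      ⟨((Scheme.Modules.restrictFunctor V.ι).mapDerivedCategoryFactors.app D).symm ≪≫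
        (DCoh.restrictD V.ι).mapIso eD ≪≫ w.app _ ≪≫ (DCoh.LTensorCx E').mapIso eO ≪≫ hu.some⟩⟩
  · obtain ⟨π, hu⟩ := PerfectDual.exists_pairing K D hK hD eD
    have := PerfectDual.isIso_θ π hKp' hu
    exact ⟨(asIso (DualMap.θ π)).app M⟩

end Groth.Agent.S0965
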