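import Groth.Statements.S3745
import Groth.Agent.ResK0.Syz
import Groth.Agent.ResK0.VbKernel
import Groth.Agent.KFlat.LocFree

set_option autoImplicit false
universe v u
open CategoryTheory CategoryTheory.Limits AlgebraicGeometry
attribute [local instance] HasDerivedCategory.standard
open KRR

namespace Groth.Agent.S3745

open AlgebraicGeometry CategoryTheory CategoryTheory.Limits Groth.Agent.ResK0 in
theorem hyp (X : Scheme.{u}) [IsNoetherian X] (hX : KRR.HasEnoughLocFree X) :
    Basic.Hyp (KRR.vbP X) (fun M : X.Modules => Coh.IsCoh M) where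
  iso₀ := ⟨fun e h => KFlat.LocFree.isFinLocFree_of_iso e h⟩
  iso₁ := ⟨fun e h => CohDev.isCoh_of_iso e h⟩
  le M h := PerfTri.Bounded.isCoh_of_isFinLocFree h
  ext₀ S hS h₁ h₃ := ExtFilt.Stalkwise.isFinLocFree_X₂ hS h₁ h₃
  ker₀ S hS h₂ h₃ := VbKernel.isFinLocFree_X₁ hS h₂ h₃
  ker₁ S hS h₂ h₃ := by
    have := hS.mono_f
    exact CohDev.isCoh_of_iso (hS.fIsKernel.conePointUniqueUpToIso (limit.isLimit _)).symm
      (CohDev.isCoh_kernel S.g h₂ h₃.1)
  cover A B D u v hu hA hB hD := by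
    let R := kernel (biprod.desc u (-v))
    have hR : Coh.IsCoh R := CohDev.isCoh_kernel _ (CohDev.isCoh_biprod hA hD) hB.1
    obtain ⟨L, r, hL, hr⟩ := hX R hR
    have hsnd : Epi (kernel.ι (biprod.desc u (-v)) ≫ biprod.snd) := by
      rw [epi_iff_surjective_up_to_refinements]
      intro Z z
      obtain ⟨Z', π, hπ, x, hx⟩ := surjective_up_to_refinements_of_epi u (z ≫ v)
      exact ⟨Z', π, hπ, kernel.lift _ (biprod.lift x (π ≫ z)) (by simp [hx]), by simp⟩
    refine ⟨L, r ≫ kernel.ι _ ≫ biprod.snd, r ≫ kernel.ι _ ≫ biprod.fst, hL, epi_comp _ _, ?_⟩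
    have h0 := kernel.condition (biprod.desc u (-v))
    simp only [biprod.desc_eq, Preadditive.comp_add, Preadditive.comp_neg, add_neg_eq_zero] at h0
    simp only [Category.assoc, h0]

open AlgebraicGeometry CategoryTheory CategoryTheory.Limits Groth.Agent.ResK0 in
/-- The kernel of the augmentation of a resolution has the shifted resolution. -/
theorem res_kernel {X : Scheme.{u}} {M : X.Modules} {n : ℕ} {L : ChainComplex X.Modules ℕ}
    {π : L ⟶ (ChainComplex.single₀ X.Modules).obj M} (hL : KRR.IsLFRes M (n + 1) L π) :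
    ∃ p : L.X 0 ⟶ M, Epi p ∧ ∃ π', KRR.IsLFRes (kernel p) n (Syz.shift1 L) π' := by
  haveI := hL.quasiIso
  obtain ⟨hepi, ⟨w, hex⟩, hexS⟩ := Syz.exact_of_quasiIso π
  let p : L.X 0 ⟶ M := π.f 0
  let ε : (Syz.shift1 L).X 0 ⟶ kernel p := kernel.lift p (L.d 1 0) w
  haveI : Epi ε := hex.epi_kernelLift
  have hd : (Syz.shift1 L).d 1 0 = L.d 2 1 := by simp [Syz.shift1, ChainComplex.of.d]
  have hε : (Syz.shift1 L).d 1 0 ≫ ε = 0 := by
    rw [← cancel_mono (kernel.ι p), Category.assoc, kernel.lift_ι, hd, zero_comp]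
    exact L.d_comp_d _ _ _
  have h0 : (ShortComplex.mk _ _ hε).Exact := by
    let φ : ShortComplex.mk _ _ hε ⟶ ShortComplex.mk (L.d 2 1) (L.d 1 0) (L.d_comp_d _ _ _) :=
      { τ₁ := 𝟙 _
        τ₂ := 𝟙 _
        τ₃ := kernel.ι p
        comm₁₂ := (Category.id_comp (L.d 2 1)).trans (hd.symm.trans (Category.comp_id _).symm)
        comm₂₃ := by simp [ε]; exact (Category.id_comp _) }
    haveI : Epi φ.τ₁ := inferInstanceAs (Epi (𝟙 _))
    haveI : IsIso φ.τ₂ := inferInstanceAs (IsIso (𝟙 _))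
    haveI : Mono φ.τ₃ := inferInstanceAs (Mono (kernel.ι p))
    rw [ShortComplex.exact_iff_of_epi_of_isIso_of_mono φ]
    exact (HomologicalComplex.exactAt_iff' L 2 1 0 (by simp) (by simp)).1 (hexS 0)
  exact ⟨p, hepi, (ChainComplex.toSingle₀Equiv (Syz.shift1 L) (kernel p)).symm ⟨ε, hε⟩,
    fun i => hL.finLocFree (i + 1), fun i hi => hL.isZero (i + 1) (by omega),
    Syz.quasiIso_of_exact _ ε hε h0 (Syz.exactAt_shift1 L hexS)⟩

open AlgebraicGeometry CategoryTheory CategoryTheory.Limits Groth.Agent.ResK0 in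
theorem syzP_of_res {X : Scheme.{u}} [IsNoetherian X] (hX : KRR.HasEnoughLocFree X) :
    ∀ (n : ℕ) (M : X.Modules), Coh.IsCoh M →
      (∃ L π, KRR.IsLFRes M n L π) → Basic.SyzP (KRR.vbP X) n M
  | 0, M, _, ⟨L, π, hL⟩ => by
    haveI := hL.quasiIso
    obtain ⟨hepi, ⟨w, hex⟩, -⟩ := Syz.exact_of_quasiIso π
    haveI : Mono (π.f 0) := hex.mono_g ((hL.isZero 1 one_pos).eq_of_src _ _)
    haveI hiso : IsIso (π.f 0) := isIso_of_mono_of_epi _
    exact KFlat.LocFree.isFinLocFree_of_iso (@asIso _ _ _ _ (π.f 0) hiso) (hL.finLocFree 0)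
  | n + 1, M, hM, ⟨L, π, hL⟩ => by
    obtain ⟨p, hp, π', hL'⟩ := res_kernel hL
    have H := hyp X hX
    exact Syz.syzP_succ_of_cover H n hM p (hL.finLocFree 0)
      (syzP_of_res hX n _ (H.kernel₁ p (H.le _ (hL.finLocFree 0)) hM) ⟨_, π', hL'⟩)

open AlgebraicGeometry CategoryTheory CategoryTheory.Limits Groth.Agent.ResK0 in
theorem map_val {X : Scheme.{u}} [IsNoetherian X] (hX : KRR.HasEnoughLocFree X)
    (h : ∀ M : X.Modules, FlatMod.IsFinLocFree M → Coh.IsCoh M ∧ KRR.HasLFRes M) :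
    ∀ (n : ℕ) (M : X.Modules), Coh.IsCoh M → (∃ L π, KRR.IsLFRes M n L π) →
      SGA6.mapSub (𝟭 X.Modules) (KRR.vbP X) (fun M : X.Modules => Coh.IsCoh M ∧ KRR.HasLFRes M) h
        (Basic.val (KRR.vbP X) n M) =
      KZero.clSub (fun M : X.Modules => Coh.IsCoh M ∧ KRR.HasLFRes M) M := by
  intro n
  have hmap : ∀ E, KRR.vbP X E → SGA6.mapSub (𝟭 X.Modules) (KRR.vbP X)
      (fun M : X.Modules => Coh.IsCoh M ∧ KRR.HasLFRes M) h (KZero.clSub (KRR.vbP X) E) =
      KZero.clSub (fun M : X.Modules => Coh.IsCoh M ∧ KRR.HasLFRes M) E := fun E hE => by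
    simp only [KZero.clSub, dif_pos hE, dif_pos (h E hE), SGA6.mapSub, QuotientAddGroup.map_mk,
      FreeAbelianGroup.map_of_apply, SGA6.objMap]
    rfl
  induction n with
  | zero =>
    intro M hM hres
    exact hmap M (syzP_of_res hX 0 M hM hres)
  | succ n ih =>
    intro M hM hres
    obtain ⟨L, π, hL⟩ := hres
    obtain ⟨p, hp, π', hL'⟩ := res_kernel hL
    have H := hyp X hX
    have hK := H.kernel₁ p (H.le _ (hL.finLocFree 0)) hM
    rw [H.val_succ (H.inv n) hM (syzP_of_res hX (n + 1) M hM ⟨L, π, hL⟩) p (hL.finLocFree 0), map_sub,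
      hmap _ (hL.finLocFree 0), ih _ hK ⟨_, π', hL'⟩, sub_eq_iff_eq_add']
    exact Basic.clSub_add (fun M : X.Modules => Coh.IsCoh M ∧ KRR.HasLFRes M) (Basic.shortExact_kernel p)
      ⟨hK, n, _, π', hL'⟩ (h _ (hL.finLocFree 0)) ⟨hM, n + 1, L, π, hL⟩


/-- Let X be a Noetherian scheme on which every coherent module is a quotient of a finite locally free
module. Then the homomorphism from K₀ of finite locally free O_X-modules to K₀ of the coherent
O_X-modules admitting a finite resolution by finite locally free modules, induced by the inclusion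
of categories (the argument h records that inclusion), is bijective. (Its inverse sends the class of
such a module to the alternating sum of the classes of the terms of any finite locally free
resolution. The source's standing connectedness assumption plays no role here and is omitted.) -/
theorem result (X : Scheme.{u}) [IsNoetherian X] (hX : KRR.HasEnoughLocFree X)
    (h : ∀ M : X.Modules, FlatMod.IsFinLocFree M → Coh.IsCoh M ∧ KRR.HasLFRes M) :
    Function.Bijective (SGA6.mapSub (𝟭 X.Modules) (KRR.vbP X) (fun M : X.Modules => Coh.IsCoh M ∧ KRR.HasLFRes M) h) := by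
  classical
  have H := hyp X hX
  let Q : ObjectProperty X.Modules := fun M : X.Modules => Coh.IsCoh M ∧ KRR.HasLFRes M
  have hres : ∀ M : Subtype Q, ∃ n, ∃ L π, KRR.IsLFRes M.1 n L π := fun M => M.2.2
  choose N hN using hres
  let g₀ : FreeAbelianGroup (Subtype Q) →+ KZero.K0sub (KRR.vbP X) :=
    FreeAbelianGroup.lift fun M => Groth.Agent.ResK0.Basic.val (KRR.vbP X) (N M) M.1
  have hs : ∀ M : Subtype Q, Groth.Agent.ResK0.Basic.SyzP (KRR.vbP X) (N M) M.1 := fun M =>
    syzP_of_res hX _ _ M.2.1 (hN M)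
  have hg : KZero.relSub Q ≤ g₀.ker := by
    rw [KZero.relSub, AddSubgroup.closure_le]
    rintro _ ⟨S, h₁, h₂, h₃, hS, rfl⟩
    simp only [SetLike.mem_coe, AddMonoidHom.mem_ker, map_sub, g₀, FreeAbelianGroup.lift_apply_of]
    let m := N ⟨S.X₁, h₁⟩ + N ⟨S.X₂, h₂⟩ + N ⟨S.X₃, h₃⟩
    rw [← H.val_stable (m := m) (by omega) h₂.1 (hs ⟨_, h₂⟩), ← H.val_stable (m := m) (by omega) h₁.1 (hs ⟨_, h₁⟩),
      ← H.val_stable (m := m) (by omega) h₃.1 (hs ⟨_, h₃⟩),
      H.inv m S hS h₁.1 h₂.1 h₃.1 (H.syzP_mono (by omega) (hs ⟨_, h₁⟩)) (H.syzP_mono (by omega) (hs ⟨_, h₂⟩))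
        (H.syzP_mono (by omega) (hs ⟨_, h₃⟩))]
    abel
  let G : KZero.K0sub Q →+ KZero.K0sub (KRR.vbP X) := QuotientAddGroup.lift _ g₀ hg
  have h1 : ∀ x, G (SGA6.mapSub (CategoryTheory.Functor.id X.Modules) (KRR.vbP X) Q h x) = x := fun x => by
    induction x using QuotientAddGroup.induction_on with
    | H z =>
      induction z using FreeAbelianGroup.induction_on with
      | zero => simp
      | of M =>
        show g₀ (FreeAbelianGroup.map _ (FreeAbelianGroup.of M)) = _
        simp only [FreeAbelianGroup.map_of_apply, g₀, FreeAbelianGroup.lift_apply_of, SGA6.objMap]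
        refine (H.val_of_prop₀ _ M.2).trans ?_
        simp only [KZero.clSub, dif_pos M.2]
      | neg M hM => simp only [QuotientAddGroup.mk_neg, map_neg] at hM ⊢; rw [hM]
      | add M M' hM hM' => simp only [QuotientAddGroup.mk_add, map_add, hM, hM']
  have h2 : ∀ y, SGA6.mapSub (CategoryTheory.Functor.id X.Modules) (KRR.vbP X) Q h (G y) = y := fun y => by
    induction y using QuotientAddGroup.induction_on with
    | H z =>
      induction z using FreeAbelianGroup.induction_on with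
      | zero => simp
      | of M =>
        refine Eq.trans (congrArg _ (show g₀ (FreeAbelianGroup.of M) =
          Groth.Agent.ResK0.Basic.val (KRR.vbP X) (N M) M.1 from FreeAbelianGroup.lift_apply_of _ _)) ?_
        refine (map_val hX h _ _ M.2.1 (hN M)).trans ?_
        simp only [KZero.clSub]
        rw [dif_pos M.2]
      | neg M hM => simp only [QuotientAddGroup.mk_neg, map_neg] at hM ⊢; rw [hM]
      | add M M' hM hM' => simp only [QuotientAddGroup.mk_add, map_add, hM, hM']
  exact ⟨Function.LeftInverse.injective h1, Function.RightInverse.surjective h2⟩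

end Groth.Agent.S3745
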