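import Groth.Statements.S3747
import Groth.Agent.ResK0.Functorial
import Groth.Agent.KFlat.StalkFlat
import Groth.Agent.KFlat.TensorLocFree
import Groth.Agent.KFlat.LocalD
import Groth.Agent.LimTop.TensorQC
import Groth.Agent.ProjForm.Theta

set_option autoImplicit false
universe v u
open CategoryTheory CategoryTheory.Limits AlgebraicGeometry
attribute [local instance] HasDerivedCategory.standard
open KRR

namespace Groth.Agent.S3747
open AlgebraicGeometry CategoryTheory CategoryTheory.Limits Groth.Agent.ResK0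

/-- Let f : X ⟶ Y be a regular closed imbedding of connected Noetherian schemes, where on Y every
coherent module is a quotient of a finite locally free one. Let (KX, PX, φX), (KY, PY, φY) be models
of the λ-rings K(X), K(Y); let g : K(Y) ⟶ K(X) be the pull-back f^K ([E] ↦ [f^*E]) and h : K(X) ⟶
K(Y) the push-forward f_K ([F] ↦ alternating sum of the terms of a finite locally free resolution of
f_*F). Then h (x · g y) = h x · y for all x, y. -/
theorem result {X Y : Scheme.{u}} (f : X ⟶ Y) (hf : Mor2.IsRegularClosedImmersion f)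
    [IsNoetherian X] [ConnectedSpace ↥X] [IsNoetherian Y] [ConnectedSpace ↥Y] (hYe : KRR.HasEnoughLocFree Y)
    (KX : Type v) [CommRing KX] [LambdaRing.LambdaOps KX] (PX : LambdaRing.PosStructure KX) (φX : SGA6.Kvb X →+ KX) (hKX : KRR.IsModel X KX PX φX)
    (KY : Type v) [CommRing KY] [LambdaRing.LambdaOps KY] (PY : LambdaRing.PosStructure KY) (φY : SGA6.Kvb Y →+ KY) (hKY : KRR.IsModel Y KY PY φY)
    (g : KY →+ KX) (hg : KRR.IsPull f φY φX g) (h : KX →+ KY) (hh : KRR.IsPushCl f φX φY h)
    (x : KX) (y : KY) : h (x * g y) = h x * y := by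
  haveI := hf.1
  classical
  let ψ : SGA6.Kvb Y →+ SGA6.Kvb X →+ KY :=
    AddMonoidHom.flip <| AddMonoidHom.mk' (fun c => (AddMonoidHom.mk'
      (fun d => h (φX c * g (φY d)) - h (φX c) * φY d) (fun d d' => by
        simp only [map_add, mul_add]; abel))) (fun c c' => by
      refine AddMonoidHom.ext fun d => ?_
      simp only [AddMonoidHom.mk'_apply, AddMonoidHom.add_apply, map_add, add_mul]
      abel)
  have key : ∀ (E : Y.Modules), FlatMod.IsFinLocFree E → ∀ (F : X.Modules), FlatMod.IsFinLocFree F →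
      h (φX (KRR.cl X F) * g (φY (KRR.cl Y E))) = h (φX (KRR.cl X F)) * φY (KRR.cl Y E) := by
    intro E hE F hF
    let P := Scheme.Modules.pushforward f
    have hpE := KFlat.LocFree.isFinLocFree_pull f hE
    rw [hg E hE, hKX.map_mul F _ hF hpE]
    have hFE : FlatMod.IsFinLocFree (((DCoh.tensorBi (X := X)).obj F).obj ((Scheme.Modules.pullback f).obj E)) :=
      KFlat.TensorLocFree.isFinLocFree_tensM hF hpE
    obtain ⟨hc, n, hn⟩ := RegPush.exists_syzP f hYe hf hF
    obtain ⟨hc', n', hn'⟩ := RegPush.exists_syzP f hYe hf hFE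
    have hmono : KFlat.TensorMono (O := Y.sheaf) E :=
      KFlat.StalkTensor.tensorMono_of_flat (KFlat.LocalD.flat_of_isFinLocFree hE)
    let T : Y.Modules ⥤ Y.Modules := (DCoh.tensorBi (X := Y)).flip.obj E
    have hadd : ∀ (A B : Y.Modules) (φ ψ : A ⟶ B), T.map (φ + ψ) = T.map φ + T.map ψ := fun A B φ ψ => by
      show ((DCoh.tensorBi (X := Y)).map (φ + ψ)).app E = _
      rw [Functor.map_add]
      rfl
    haveI : T.Additive := ⟨hadd _ _ _ _⟩
    haveI hTl : PreservesFiniteLimits T := (KFlat.isFlat_of_tensorMono hmono).1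
    haveI hTr : PreservesFiniteColimits T := (KFlat.isFlat_of_tensorMono hmono).2
    have hvb : ∀ M, KRR.vbP Y M → KRR.vbP Y (T.obj M) := fun M hM => KFlat.TensorLocFree.isFinLocFree_tensM hM hE
    have hcoh : ∀ M : Y.Modules, Coh.IsCoh M → Coh.IsCoh (T.obj M) := fun M hM => by
      have hEc := PerfTri.Bounded.isCoh_of_isFinLocFree hE
      haveI := hM.1
      haveI := hM.2
      haveI := hEc.1
      haveI := hEc.2
      exact ⟨LimTop.TensorQC.isQuasicoherent_tensM M E, LimTop.TensorQC.isFT_tensM M E⟩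
    obtain ⟨hsT, heT⟩ := Functorial.map_val hYe hYe T hvb hcoh n _ hc hn
    have H := PdSyz.hyp hYe
    let eθ : T.obj (P.obj F) ≅ P.obj (((DCoh.tensorBi (X := X)).obj F).obj ((Scheme.Modules.pullback f).obj E)) :=
      @asIso _ _ _ _ ((KFlat.ProjFormula.θ f F).app E) (ProjForm.isIso_θ_of_isFinLocFree f F hE)
    have hsT' := H.syzP_iso n eθ hsT
    rw [Functorial.isPushCl_eq_val hYe hh hFE hc' hsT', Functorial.isPushCl_eq_val hYe hh hF hc hn,
      ← H.val_iso (H.inv n) eθ (hcoh _ hc) hsT, ← heT]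
    have hmul : (φY.comp (SGA6.mapSub T (KRR.vbP Y) (KRR.vbP Y) hvb)) =
        (AddMonoidHom.mulRight (φY (KRR.cl Y E))).comp φY := Functorial.hom_ext fun M hM => by
      simp only [AddMonoidHom.comp_apply, AddMonoidHom.coe_mulRight]
      rw [hKY.map_mul M E hM hE]
      congr 1
      simp only [KRR.cl, KZero.clSub, dif_pos hM, SGA6.mapSub, QuotientAddGroup.map_mk,
        FreeAbelianGroup.map_of_apply, SGA6.objMap]
      rw [dif_pos (show FlatMod.IsFinLocFree (((DCoh.tensorBi (X := Y)).obj M).obj E) from hvb M hM)]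
      rfl
    exact DFunLike.congr_fun hmul _
  obtain ⟨c, rfl⟩ := hKX.bijective.2 x
  obtain ⟨d, rfl⟩ := hKY.bijective.2 y
  have h1 : ψ = 0 := Functorial.hom_ext fun E hE => Functorial.hom_ext fun F hF => by
    show h (φX (KRR.cl X F) * g (φY (KRR.cl Y E))) - h (φX (KRR.cl X F)) * φY (KRR.cl Y E) = _
    rw [key E hE F hF, sub_self]
    rfl
  exact sub_eq_zero.1 (DFunLike.congr_fun (DFunLike.congr_fun h1 d) c)

end Groth.Agent.S3747
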