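import Groth.Statements.S15827
import Groth.Agent.TensorExt.Stalk

set_option autoImplicit false
universe u
open CategoryTheory AlgebraicGeometry
open ExtPow
open Groth.Agent.PullStalk.Sky Groth.Agent.ExtPowSt Groth.Agent.TensorExt
  Groth.Agent.ExtFilt.Sheaf Groth.Agent.ExtFilt.Stalkwise Groth.Agent.Omega.Stalks
  Groth.Agent.PullStalk.Exact

namespace Groth.Agent.S15827

/-- Let X be a scheme, E a finite locally free O_X-module and L a finite locally free O_X-module of rank
1 (an invertible module), and k a natural number. If M is a k-th exterior power of E ⊗ L and N is a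
k-th exterior power of E (affine-local characterisation of exterior powers), then M is isomorphic to
N ⊗ L^{⊗k} as an O_X-module (existence of an isomorphism; the published isomorphism is induced by
(e_1 ⊗ l_1) ∧ ⋯ ∧ (e_k ⊗ l_k) ↦ (e_1 ∧ ⋯ ∧ e_k) ⊗ l_1 ⋯ l_k). -/
theorem result {X : Scheme.{u}} (E L : X.Modules)
    (hE : FlatMod.IsFinLocFree E) (hL : FlatMod.IsFinLocFreeOfRank 1 L) (k : ℕ) (M N : X.Modules)
    (hM : ExtPow.IsExtPow k (CohB1.tensorMod E L) M) (hN : ExtPow.IsExtPow k E N) :
    Nonempty (M ≅ CohB1.tensorMod N (CohB1.tensorPow L k)) := by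
  classical
  haveI := PerfTri.Betti.isQuasicoherent_of_isFinLocFree hE
  haveI : (CohB1.tensorMod E L).IsQuasicoherent := PerfTri.Betti.isQuasicoherent_of_isFinLocFree
    (KFlat.TensorLocFree.isFinLocFree_tensM hE (TensorExt.isFinLocFree_of_rank hL))
  obtain ⟨φM, hφM⟩ := hM
  obtain ⟨φN, hφN⟩ := hN
  let ΦM : Sys k (CohB1.tensorMod E L) M := ⟨φM, hφM⟩
  let ΦN : Sys k E N := ⟨φN, hφN⟩
  have hgen : ∀ x, ∃ l : L.presheaf.stalk x, IsGen (R := X.presheaf.stalk x) l := fun x => by
    obtain ⟨b⟩ := exists_stalk_basis hL x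
    refine ⟨b 0, ?_⟩
    have h := b.equivFun.symm.bijective.comp (Equiv.funUnique (Fin 1) (X.presheaf.stalk x)).symm.bijective
    unfold IsGen
    convert h using 1
    funext r
    simp [Module.Basis.equivFun_symm_apply]
  choose ℓ hℓ using hgen
  choose α hα using fun x => exists_equiv_pr E (hℓ x)
  choose γ hγ using fun x => exists_equiv_pr N (isGen_pw (hℓ x) k)
  let φ : ∀ x : X, M.presheaf.stalk x →ₗ[X.presheaf.stalk x]
      (CohB1.tensorMod N (CohB1.tensorPow L k)).presheaf.stalk x := fun x =>
    (γ x).toLinearMap ∘ₗ (stalkEquiv ΦN x).symm.toLinearMap ∘ₗ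
      exteriorPower.map k (α x).symm.toLinearMap ∘ₗ (stalkEquiv ΦM x).toLinearMap
  have hbij : ∀ x, Function.Bijective (φ x) := fun x =>
    (γ x).bijective.comp ((stalkEquiv ΦN x).symm.bijective.comp
      ((bijective_map k (α x).symm).comp (stalkEquiv ΦM x).bijective))
  have hform : ∀ x (e : Fin k → E.presheaf.stalk x) (l : Fin k → L.presheaf.stalk x),
      φ x ((stalkEquiv ΦM x).symm (exteriorPower.ιMulti _ k fun i => pr E L x (e i) (l i))) =
        pr N (CohB1.tensorPow L k) x ((stalkEquiv ΦN x).symm (exteriorPower.ιMulti _ k e)) (pw L x k l) := by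
    intro x e l
    choose a ha using fun i => (hℓ x).2 (l i)
    have ha' : l = fun i => a i • ℓ x := funext fun i => (ha i).symm
    have h1 : ∀ i, (α x).symm (pr E L x (e i) (l i)) = a i • e i := fun i => by
      rw [LinearEquiv.symm_apply_eq, hα, ← ha, pr_smul_right, pr_smul_left]
    simp only [φ, LinearMap.comp_apply, LinearEquiv.coe_coe, LinearEquiv.apply_symm_apply,
      exteriorPower.map_apply_ιMulti]
    rw [show (⇑(α x).symm ∘ fun i => pr E L x (e i) (l i)) = fun i => a i • e i from funext h1,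
      ← AlternatingMap.coe_multilinearMap, MultilinearMap.map_smul_univ, AlternatingMap.coe_multilinearMap,
      LinearEquiv.map_smul, hγ, ha', pw_smul, pr_smul_left, pr_smul_right]
  have hloc0 : ∀ x (e : Fin k → E.presheaf.stalk x),
      Loc φ x ((stalkEquiv ΦM x).symm (exteriorPower.ιMulti _ k fun i => pr E L x (e i) (ℓ x))) := by
    intro x e
    obtain ⟨U₀, hx₀, -, l', hl'⟩ := exists_lifts L x (fun _ : Fin 1 => ℓ x) ⊤ trivial
    obtain ⟨U, hx, hle, s, hs⟩ := exists_lifts E x e U₀.1 hx₀
    let t : Γ(L, U.1) := QCoh.res L hle (l' 0)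
    have ht : germM L U.1 x hx t = ℓ x := (germM_res' L hle x hx (l' 0)).trans (hl' 0)
    let v : Fin k → Γ(CohB1.tensorMod E L, U.1) := fun i => SecTwist.tmul E L U.1 (s i) t
    have hm : ∀ y (hy : y ∈ U.1), germM M U.1 y hy (wsec ΦM U v) = (stalkEquiv ΦM y).symm
        (exteriorPower.ιMulti _ k fun i => pr E L y (germM E U.1 y hy (s i)) (germM L U.1 y hy t)) := by
      intro y hy
      rw [LinearEquiv.eq_symm_apply, equiv_wedge]
      exact congrArg _ (funext fun i => pr_germ U.1 y hy (s i) t)
    refine ⟨U.1, hx, wsec ΦM U v,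
      SecTwist.tmul N (CohB1.tensorPow L k) U.1 (wsec ΦN U s) (KoszTw.tprod L k U.1 fun _ => t), ?_, fun y hy => ?_⟩
    · rw [hm x hx]
      simp only [hs, ht]
    · rw [hm y hy, hform, pr_germ, pw_germ]
      congr 1
      rw [LinearEquiv.symm_apply_eq, equiv_wedge]
  have hloc : ∀ x t, Loc φ x t := by
    intro x t
    rw [← (stalkEquiv ΦM x).symm_apply_apply t]
    generalize stalkEquiv ΦM x t = z
    have hz : z ∈ Submodule.span (X.presheaf.stalk x) (Set.range (exteriorPower.ιMulti (X.presheaf.stalk x) k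
        (M := (CohB1.tensorMod E L).presheaf.stalk x))) := by
      rw [exteriorPower.ιMulti_span]; trivial
    induction hz using Submodule.span_induction with
    | mem z hz =>
      obtain ⟨v, rfl⟩ := hz
      rw [show v = fun i => pr E L x ((α x).symm (v i)) (ℓ x) from
        funext fun i => by rw [← hα, LinearEquiv.apply_symm_apply]]
      exact hloc0 x _
    | zero => rw [map_zero]; exact loc_zero x
    | add p q _ _ hp hq => rw [map_add]; exact loc_add hp hq
    | smul c p _ hp => rw [LinearEquiv.map_smul]; exact loc_smul c hp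
  obtain ⟨h, hh⟩ := exists_hom hloc
  haveI : IsIso h := isIso_of_stalk fun y => by
    rw [show (stalkLin h y : _ → _) = φ y from funext (hh y)]
    exact hbij y
  exact ⟨asIso h⟩

end Groth.Agent.S15827
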