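import Groth.Statements.S19429
import Groth.Agent.KRRReg49.Vanish
import Groth.Agent.KRRReg49.Surj

set_option autoImplicit false
universe u
open KRR

namespace Groth.Agent.S19429

open CategoryTheory CategoryTheory.Limits AlgebraicGeometry in
/-- Let T be any scheme, p : P^n_T ⟶ T the projection, and F a quasi-coherent O-module on P^n_T which is
regular relative to p (R^i p_*(F(-i)) = 0 for every i ≥ 1, higher direct images of the underlying
abelian sheaves). Then the canonical homomorphism p^* p_* F ⟶ F, the counit of the adjunction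
between pullback and pushforward of O-modules, is an epimorphism. Stated for the trivial bundle,
i.e. for P^n_T; no Noetherian, separatedness or finiteness hypothesis on T or F. -/
theorem result (n : ℕ) (T : Scheme.{u}) (F : (KRR.PY n T).Modules)
    (hF : Coh.IsQCoh F) (hreg : KRR.IsRegSheaf n T F) :
    Epi ((Scheme.Modules.pullbackPushforwardAdjunction (KRR.pr n T)).counit.app F) := by
  haveI : F.IsQuasicoherent := hF
  haveI := TwistFlat.isProper_toBase n T
  refine Preadditive.epi_of_cancel_zero _ fun {H} ψ hψ => ?_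
  have hz : (Scheme.Modules.pushforward (KRR.pr n T)).map ψ = 0 := by
    have h0 := (Scheme.Modules.pullbackPushforwardAdjunction (KRR.pr n T)).homEquiv_naturality_right
      ((Scheme.Modules.pullbackPushforwardAdjunction (KRR.pr n T)).counit.app F) ψ
    rw [hψ, Adjunction.homEquiv_unit, Adjunction.homEquiv_unit] at h0
    simpa using h0.symm
  refine Scheme.Modules.hom_ext _ _ fun W => ?_
  ext m
  show ψ.app W m = 0
  have hloc : ∀ x : W, ∃ (P : (KRR.PY n T).Opens) (hP : P ≤ W), x.1 ∈ P ∧
      ψ.app P (QCoh.res F hP m) = 0 := by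
    intro x
    obtain ⟨V, hV, hxV, -⟩ := exists_isAffineOpen_mem_and_subset (X := T)
      (x := (KRR.pr n T) x.1) (U := ⊤) trivial
    letI := TwistFlat.isOpenImmersion_chart n hV
    let c := TwistFlat.chart n hV
    have hc : ∀ s, ((Scheme.Modules.restrictFunctor c).map ψ).app ⊤ s = 0 := by
      intro s
      show ψ.app (c ''ᵁ ⊤) s = 0
      have e : c ''ᵁ ⊤ = KRR.pr n T ⁻¹ᵁ V :=
        (Scheme.Hom.image_top_eq_opensRange _).trans (GrModLib.opensRange_chart n hV)
      have key : ∀ O : (KRR.PY n T).Opens, O = KRR.pr n T ⁻¹ᵁ V → ∀ s : Γ(F, O), ψ.app O s = 0 := by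
        rintro O rfl s
        exact congr(Scheme.Modules.Hom.app $hz V s)
      exact key _ e s
    have h1 : (Scheme.Modules.restrictFunctor c).map ψ = 0 :=
      KRRReg49.hom_eq_zero (Scheme.Modules.isQuasicoherent_restrictFunctor c F)
        (fun i hi => KRRReg49.subsingleton_of_isZero_twF hF _ i hi (hreg i hi) hV) _ hc
    have hx : x.1 ∈ c.opensRange := by rw [GrModLib.opensRange_chart n hV]; exact hxV
    refine ⟨c ''ᵁ (c ⁻¹ᵁ W), ?_, ?_, ?_⟩
    · rw [Scheme.Hom.image_preimage_eq_opensRange_inf]; exact inf_le_right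
    · rw [Scheme.Hom.image_preimage_eq_opensRange_inf]; exact ⟨hx, x.2⟩
    · exact congr(Scheme.Modules.Hom.app $h1 (c ⁻¹ᵁ W) _)
  choose P hP hxP hPe using hloc
  refine QCoh.eq_of_locally_eq H (U := P) hP
    (fun x hx => TopologicalSpace.Opens.mem_iSup.mpr ⟨⟨x, hx⟩, hxP _⟩) _ _ fun x => ?_
  rw [map_zero, ← QCoh.app_res]
  exact hPe x

end Groth.Agent.S19429
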