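import Groth.Statements.S3757
import Groth.Agent.TwistFlat.Main
import Groth.Agent.KFlat.LocalD
import Groth.Agent.CohOps.PnSmooth
import Groth.Agent.ProjTwist.Pn.Twist
import Groth.Agent.VBLib.Basic
import Groth.Agent.KFlat.LocFree

set_option autoImplicit false
universe u
open CategoryTheory CategoryTheory.Limits AlgebraicGeometry KRR

noncomputable section

namespace Groth.Agent.S3757

theorem isFlatOver_of_isFlat {X S : Scheme.{u}} (f : X ⟶ S) [Flat f] (M : X.Modules)
    (hM : FlatMod.IsFlat M) : FlatMod.IsFlatOver f M := fun x => by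
  letI := FlatMod.moduleStalkOver f M x
  letI : Algebra (S.presheaf.stalk (f.base x)) (X.presheaf.stalk x) := (f.stalkMap x).hom.toAlgebra
  haveI : IsScalarTower (S.presheaf.stalk (f.base x)) (X.presheaf.stalk x) (M.presheaf.stalk x) :=
    IsScalarTower.of_algebraMap_smul fun r m => rfl
  haveI : Module.Flat (S.presheaf.stalk (f.base x)) (X.presheaf.stalk x) := Flat.stalkMap f x
  haveI : Module.Flat (X.presheaf.stalk x) (M.presheaf.stalk x) := hM x
  exact Module.Flat.trans (S.presheaf.stalk (f.base x)) (X.presheaf.stalk x) (M.presheaf.stalk x)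

theorem flat_pr (n : ℕ) (Y : Scheme.{u}) : Flat (KRR.pr n Y) :=
  haveI := CohOps.PnSmooth.smooth_toSpec n (ULift.{u} ℤ)
  MorphismProperty.pullback_snd (P := @Flat) _ _ inferInstance

theorem result (n : ℕ) (Y : Scheme.{u}) [IsNoetherian Y]
    (F : (KRR.PY n Y).Modules) (hF : FlatMod.IsFinLocFree F) :
    ∃ m₀ : ℕ, ∀ m : ℕ, m₀ ≤ m →
      FlatMod.IsFinLocFree ((Scheme.Modules.pushforward (KRR.pr n Y)).obj (KRR.twF n Y (m : ℤ) F)) := by
  haveI := flat_pr n Y
  haveI := TwistFlat.isProper_toBase n Y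
  haveI : IsLocallyNoetherian (KRR.PY n Y) := LocallyOfFiniteType.isLocallyNoetherian (KRR.pr n Y)
  obtain ⟨N, hN⟩ := TwistFlat.exists_forall_isFinLocFree (VBLib.isCoh_of_isFinLocFree hF)
    (isFlatOver_of_isFlat _ F (KFlat.LocalD.flat_of_isFinLocFree hF))
  exact ⟨N, fun m hm => KFlat.LocFree.isFinLocFree_of_iso
    ((Scheme.Modules.pushforward (KRR.pr n Y)).mapIso (ProjTwist.tensComm _ _)) (hN m hm)⟩

end Groth.Agent.S3757
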