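import Groth.Statements.S3756
import Groth.Agent.KRRReg49.Vanish
import Groth.Agent.KRRReg49.FlatFin
import Groth.Agent.TwistFlat.Main
import Groth.Agent.KFlat.LocalD
import Groth.Agent.KFlat.LocFree
import Groth.Agent.VBLib.Basic
import Groth.Agent.S3757

set_option autoImplicit false
universe v u
open CategoryTheory CategoryTheory.Limits AlgebraicGeometry
attribute [local instance] HasDerivedCategory.standard
open KRR

namespace Groth.Agent.S3756

/-- Let Y be a Noetherian scheme, p : P = P^n_Y ⟶ Y, and F a finite locally free O_P-module which is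
regular relative to p. Then p_* F is a finite locally free O_Y-module. -/
theorem result (n : ℕ) (Y : Scheme.{u}) [IsNoetherian Y]
    (F : (KRR.PY n Y).Modules) (hF : FlatMod.IsFinLocFree F) (hreg : KRR.IsRegSheaf n Y F) :
    FlatMod.IsFinLocFree ((Scheme.Modules.pushforward (KRR.pr n Y)).obj F) := by
  haveI := TwistFlat.isProper_toBase n Y
  haveI : IsLocallyNoetherian (KRR.PY n Y) := LocallyOfFiniteType.isLocallyNoetherian (KRR.pr n Y)
  have hG : Coh.IsCoh F := VBLib.isCoh_of_isFinLocFree hF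
  haveI : F.IsQuasicoherent := hG.1
  haveI := S3757.flat_pr n Y
  have hfl := S3757.isFlatOver_of_isFlat (KRR.pr n Y) F (KFlat.LocalD.flat_of_isFinLocFree hF)
  refine KFlat.LocFree.isFinLocFree_of_iso ((Scheme.Modules.pushforward (KRR.pr n Y)).mapIso
    (ProjTwist.tensComm F (Twist.twistOver n Y ((0 : ℕ) : ℤ)) ≪≫
      (KRRLib.twFunZero (n := n) (T := Y)).app F)) ?_
  haveI := TwistFlat.isQCoh_twistOver n Y ((0 : ℕ) : ℤ)
  haveI : (CohB1.tensorMod F (Twist.twistOver n Y ((0 : ℕ) : ℤ))).IsQuasicoherent :=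
    LimTop.TensorQC.isQuasicoherent_tensM F (Twist.twistOver n Y ((0 : ℕ) : ℤ))
  haveI : ((Coh.push (CohB1.ProjSpaceOver.toBase n Y)).obj
      (CohB1.tensorMod F (Twist.twistOver n Y ((0 : ℕ) : ℤ)))).IsQuasicoherent :=
    QCoh.isQuasicoherent_pushforward _ _
  refine PinchLib.isFinLocFree_of_sections fun x => ?_
  obtain ⟨V, hV, hxV, -⟩ := exists_isAffineOpen_mem_and_subset (U := (⊤ : Y.Opens)) (x := x) trivial
  haveI : IsNoetherianRing Γ(Y, V) := IsLocallyNoetherian.component_noetherian ⟨V, hV⟩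
  haveI := TwistFlat.isOpenImmersion_chart n hV
  haveI := TwistFlat.isQCoh_restrict n hV F
  have H := TwistFlat.isPullback_chart n hV
  obtain ⟨h1, h2⟩ := KRRReg49.flat_finite_of_vanishing (TwistFlat.isCoh_restrict n hV F hG)
    ((TwistFlat.isFlatOver_restrict_iff H F).2 fun x => hfl _) 0 (fun p hp =>
      KRRReg49.subsingleton_of_isZero_twF hG.1 _ p hp
        (KRRReg49.isZero_twF_of_isRegSheaf hG.1 hreg p hp _ (by omega)) hV)
  obtain ⟨e⟩ := TwistFlat.nonempty_restrict_twist n hV F 0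
  haveI := h1
  haveI := h2
  let l := TwistFlat.isoSec (CohB1.ProjSpace.toSpec n Γ(Y, V)) (V := ⊤) e.symm
  obtain ⟨a, b⟩ := TwistFlat.flat_finite_push_restrict H
    (CohB1.tensorMod F (Twist.twistOver n Y ((0 : ℕ) : ℤ)))
  have h3 := And.intro (a.1 (Module.Flat.of_linearEquiv l.symm)) (b.1 (Module.Finite.equiv l))
  rw [TwistFlat.fromSpec_image_top hV] at h3
  obtain ⟨hfl', hfin⟩ := h3
  exact ⟨V, hV, hxV, Module.finitePresentation_of_finite _ _, hfl'⟩

end Groth.Agent.S3756
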