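import Groth.Statements.S16599
-- import your own Groth.Agent.* helpers here

set_option autoImplicit false
set_option linter.style.haveILetI false
open AlgebraicGeometry
universe u
open LGRing

namespace Groth.Agent.S16599

/-- Let R be an LG-ring, n ≥ 0, and U an open quasi-compact subscheme of affine n-space Spec R[X₁, …,
Xₙ]. If U has an (R ⧸ m)-valued point over R for every maximal ideal m of R, then U has an R-valued
point: some n-tuple x over R defines a section Spec R ⟶ Spec R[X₁, …, Xₙ] with image inside U. -/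
theorem result {R : Type u} [CommRing R] (hR : LGRing.IsLGRing R)
    (n : ℕ) (U : (Spec (CommRingCat.of (MvPolynomial (Fin n) R))).Opens)
    (hU : IsCompact (U : Set ↥(Spec (CommRingCat.of (MvPolynomial (Fin n) R)))))
    (h : ∀ (m : Ideal R) [m.IsMaximal], ∃ x : Fin n → R ⧸ m,
      Set.range (Spec.map (CommRingCat.ofHom (MvPolynomial.eval₂Hom (Ideal.Quotient.mk m) x))).base ⊆
        (U : Set ↥(Spec (CommRingCat.of (MvPolynomial (Fin n) R))))) :
    ∃ x : Fin n → R, Set.range (Spec.map (CommRingCat.ofHom (MvPolynomial.eval x))).base ⊆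
      (U : Set ↥(Spec (CommRingCat.of (MvPolynomial (Fin n) R)))) := by
  classical
  obtain ⟨s, hUs⟩ := (PrimeSpectrum.isCompact_isOpen_iff (R := MvPolynomial (Fin n) R)
    (s := (U.carrier : Set (PrimeSpectrum (MvPolynomial (Fin n) R))))).mp ⟨hU, U.2⟩
  obtain ⟨k, e, he⟩ : ∃ (k : ℕ) (e : Fin k → MvPolynomial (Fin n) R),
      (U.carrier : Set (PrimeSpectrum (MvPolynomial (Fin n) R))) =
        ⋃ j, (↑(PrimeSpectrum.basicOpen (e j)) : Set (PrimeSpectrum (MvPolynomial (Fin n) R))) := by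
    refine ⟨s.card, fun j => (s.equivFin.symm j).1, ?_⟩
    ext P
    constructor
    · intro hP
      by_contra hc
      have : P ∈ PrimeSpectrum.zeroLocus (↑s : Set (MvPolynomial (Fin n) R)) := fun g hg => by
        by_contra hgP
        exact hc (Set.mem_iUnion.mpr ⟨s.equivFin ⟨g, hg⟩, show ((s.equivFin.symm (s.equivFin ⟨g, hg⟩)).1 ∉ P.asIdeal) from (Equiv.symm_apply_apply s.equivFin ⟨g, hg⟩).symm ▸ hgP⟩)
      rw [← hUs] at hP
      exact hP this
    · intro hP
      obtain ⟨j, hj⟩ := Set.mem_iUnion.mp hP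
      rw [← hUs]
      intro h0
      exact hj (h0 (s.equivFin.symm j).2)
  let g : MvPolynomial (Fin (n + k)) R := ∑ j, MvPolynomial.rename (Fin.castAdd k) (e j) *
    MvPolynomial.X (Fin.natAdd n j)
  have hg : ∀ (S : Type u) [CommRing S] [Algebra R S] (z : Fin (n + k) → S),
      MvPolynomial.aeval z g = ∑ j, MvPolynomial.aeval (fun i => z (Fin.castAdd k i)) (e j) *
        z (Fin.natAdd n j) := fun S _ _ z => by
    simp only [g, map_sum, map_mul, MvPolynomial.aeval_rename, MvPolynomial.aeval_X]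
    rfl
  obtain ⟨z, hz⟩ := hR (n + k) g fun m hm => by
    obtain ⟨x, hx⟩ := h m
    letI := Ideal.Quotient.field m
    obtain ⟨j, hj⟩ : ∃ j, MvPolynomial.eval₂Hom (Ideal.Quotient.mk m) x (e j) ≠ 0 := by
      have hP : PrimeSpectrum.comap (MvPolynomial.eval₂Hom (Ideal.Quotient.mk m) x)
          ⟨⊥, Ideal.isPrime_bot⟩ ∈ U.carrier :=
        hx ⟨(⟨⊥, Ideal.isPrime_bot⟩ : PrimeSpectrum (R ⧸ m)), rfl⟩
      obtain ⟨j, hj⟩ := Set.mem_iUnion.mp (he.le hP)
      exact ⟨j, fun h0 => hj (show MvPolynomial.eval₂Hom (Ideal.Quotient.mk m) x (e j) ∈ (⊥ : Ideal _) from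
        h0 ▸ Submodule.zero_mem _)⟩
    refine ⟨Fin.append x (Pi.single j (MvPolynomial.eval₂Hom (Ideal.Quotient.mk m) x (e j))⁻¹), ?_⟩
    rw [hg, Finset.sum_eq_single j]
    · simp only [Fin.append_left, Fin.append_right, Pi.single_eq_same]
      exact isUnit_iff_ne_zero.mpr (mul_ne_zero hj (inv_ne_zero hj))
    · intro b _ hb
      simp [Pi.single_eq_of_ne hb]
    · simp
  refine ⟨fun i => z (Fin.castAdd k i), ?_⟩
  rintro _ ⟨P, rfl⟩
  refine he.ge ?_
  refine Set.mem_iUnion.mpr ?_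
  by_contra hc
  push Not at hc
  refine P.isPrime.ne_top (Ideal.eq_top_of_isUnit_mem _ ?_ hz)
  rw [hg]
  refine Submodule.sum_mem _ fun j _ => Ideal.mul_mem_right _ _ ?_
  by_contra hj
  exact hc j hj

end Groth.Agent.S16599
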