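import Groth.Statements.S15747
import Groth.Agent.UnitsThick.Core
import Groth.Agent.IdealSh.IdealMod

set_option autoImplicit false
universe u
open CategoryTheory CategoryTheory.Limits AlgebraicGeometry Opposite
open UnitsSh

namespace Groth.Agent.S15747

section
open CategoryTheory CategoryTheory.Limits AlgebraicGeometry Opposite TopologicalSpace
open Groth.Agent.UnitsThick Groth.Agent.IdealSh.IdealMod Groth.Agent.Omega.Stalks
open Groth.Agent.CohTop.SubStalk Groth.Agent.CohTop.Vanishing OmegaSh

variable {X : Scheme.{u}} (J : X.IdealSheafData)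

theorem mul_ideal_eq_zero (hJ : J * J = ⊥) {U : X.Opens} (a b : Γ(X, U))
    (ha : J.subschemeι.app U a = 0) (hb : J.subschemeι.app U b = 0) : a * b = 0 := by
  refine Groth.Agent.DefSchLib.eq_of_affine fun V => ?_
  rw [map_zero, map_mul]
  have h1 := (mem_ideal_iff J V.1 _).2 (Step.app_eq_zero_res J.subschemeι V.2 ha)
  have h2 := (mem_ideal_iff J V.1 _).2 (Step.app_eq_zero_res J.subschemeι V.2 hb)
  have h3 := Ideal.mul_mem_mul h1 h2
  have h4 : J.ideal V.1 * J.ideal V.1 = ⊥ := by
    simpa using congrArg (fun I : X.IdealSheafData => I.ideal V.1) hJ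
  rwa [h4, Ideal.mem_bot] at h3

variable {J}

/-- The unit `1 + f`. -/
noncomputable def unitOne (hJ : J * J = ⊥) (U : X.Opens) (f : Γ(ClSub.idealMod J, U)) : (Γ(X, U))ˣ where
  val := 1 + idealSect J U f
  inv := 1 - idealSect J U f
  val_inv := by linear_combination -(mul_ideal_eq_zero J hJ _ _ (app_sect J U f) (app_sect J U f))
  inv_val := by linear_combination -(mul_ideal_eq_zero J hJ _ _ (app_sect J U f) (app_sect J U f))

/-- `f ↦ 1 + f` on sections. -/
noncomputable def unitHom (hJ : J * J = ⊥) (U : X.Opens) :
    Γ(ClSub.idealMod J, U) →+ (UnitsSh.unitsAb X).obj.obj (op U) :=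
  AddMonoidHom.mk' (fun f => UnitsSh.sectOfUnit (unitOne hJ U f)) fun f g => by
    apply val_injective
    change 1 + idealSect J U (f + g) = (1 + idealSect J U f) * (1 + idealSect J U g)
    rw [map_add]
    linear_combination -(mul_ideal_eq_zero J hJ _ _ (app_sect J U f) (app_sect J U g))

/-- `f ↦ 1 + f`. -/
noncomputable def φ (hJ : J * J = ⊥) : Coh.toAb (ClSub.idealMod J) ⟶ UnitsSh.unitsAb X :=
  ⟨{ app := fun U => AddCommGrpCat.ofHom (unitHom hJ U.unop)
     naturality := fun {U V} h => by
       refine AddCommGrpCat.ext fun f => ?_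
       apply val_injective
       let f' : Γ(ClSub.idealMod J, U.unop) := f
       change 1 + idealSect J V.unop ((ClSub.idealMod J).presheaf.map h.unop.op f') =
         X.presheaf.map h (1 + idealSect J U.unop f')
       rw [idealSect_map, map_add (X.presheaf.map h).hom, map_one (X.presheaf.map h).hom]
       rfl }⟩

theorem val_φ (hJ : J * J = ⊥) {U : X.Opens} (f : Γ(ClSub.idealMod J, U)) :
    val (((φ hJ).hom.app (op U)).hom f) = 1 + idealSect J U f := rfl

theorem φ_comp (hJ : J * J = ⊥) : φ hJ ≫ UnitsSh.comap J.subschemeι = 0 := by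
  apply Sheaf.hom_ext
  ext U f
  refine (comap_eq_zero_iff J.subschemeι (U := U.unop) _).2 ?_
  change J.subschemeι.app U.unop (1 + idealSect J U.unop f - 1) = 0
  rw [add_sub_cancel_left, app_sect]

theorem shortExact (hJ : J * J = ⊥) :
    (ShortComplex.mk (φ hJ) (UnitsSh.comap J.subschemeι) (φ_comp hJ)).ShortExact := by
  refine ShortComplex.ShortExact.mk' ?_ ?_ ?_
  · refine exact_of_sections fun U s hs x hx => ⟨U, le_rfl, hx, ?_⟩
    obtain ⟨f, hf⟩ := exists_sect J U _ ((comap_eq_zero_iff J.subschemeι s).1 hs)
    refine ⟨f, Eq.trans ?_ (rs_refl (UnitsSh.unitsAb X) s).symm⟩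
    apply val_injective
    refine (val_φ hJ (U := U) f).trans ?_
    rw [hf]
    exact add_sub_cancel _ _
  · refine mono_of_injective _ fun U => fun f g h => idealSect_injective J U ?_
    have h1 := congrArg val h
    change 1 + idealSect J U f = 1 + idealSect J U g at h1
    exact add_left_cancel h1
  · refine epi_comap _ (fun W hW => J.subschemeι.app_surjective W hW) fun W hW a ha =>
      ⟨2, by rw [pow_two]; exact mul_ideal_eq_zero J hJ a a ha ha⟩

end


/-- Let `X` be a scheme, `J` a quasi-coherent ideal of `O_X` with `J² = 0`, `X₀` the closed subscheme it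
cuts out and `i : X₀ ⟶ X` the inclusion. Then there is a morphism of abelian sheaves `J ⟶ O_X^×` on
the underlying space of `X` sending every local section `f` of `J` to the unit `1 + f` (which
determines it), and the sequence `0 ⟶ J ⟶ O_X^× ⟶ i_* O_{X₀}^× ⟶ 0`, whose second map is the units
map of `i`, is a short exact sequence of abelian sheaves. (The published lemma assumes moreover that
`X` is quasi-compact and separated and that the restriction of global functions `O_X(X) →
O_{X₀}(X₀)` is surjective, and concludes about Picard groups; the exactness of this sequence of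
sheaves, proved there stalk by stalk, uses none of these assumptions.) -/
theorem result (X : Scheme.{u}) (J : X.IdealSheafData)
    (hJ : J * J = ⊥) :
    ∃ φ : Coh.toAb (ClSub.idealMod J) ⟶ UnitsSh.unitsAb X,
      (∀ (U : X.Opens) (f : (ClSub.idealMod J).val.obj (op U)),
        (UnitsSh.unitOfSect (φ.hom.app (op U) f)).val =
          1 + (show X.sheaf.obj.obj (op U) from (ClSub.idealModι J).val.app (op U) f)) ∧
      ∃ w : φ ≫ UnitsSh.comap J.subschemeι = 0,
        (ShortComplex.mk φ (UnitsSh.comap J.subschemeι) w).ShortExact := by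
  exact ⟨φ hJ, fun U f => rfl, φ_comp hJ, shortExact hJ⟩

end Groth.Agent.S15747
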