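import Groth.Statements.S15400
import Groth.Agent.UnitsThick.PicIso
import Groth.Agent.UnitsThick.LES
import Groth.Agent.S15747

set_option autoImplicit false
universe u
open CategoryTheory CategoryTheory.Limits AlgebraicGeometry
open PicGrp

namespace Groth.Agent.S15400

set_option backward.isDefEq.respectTransparency false

section
open CategoryTheory CategoryTheory.Limits AlgebraicGeometry Opposite TopologicalSpace
open Groth.Agent.UnitsThick

variable {X : Scheme.{u}}

/-- Global sections of the units sheaf as units. -/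
noncomputable def unitsEquiv (X : Scheme.{u}) :
    Sheaf.H (UnitsSh.unitsAb X) 0 ≃+ Additive (Γ(X, ⊤))ˣ :=
  (Sheaf.H.equiv₀ (UnitsSh.unitsAb X) isTerminalTop).trans (UnitsSh.sectEquiv X.sheaf ⊤)

/-- Global sections of the pushed units sheaf as units. -/
noncomputable def unitsEquivP {Z : Scheme.{u}} (i : Z ⟶ X) : Sheaf.H (P i) 0 ≃+ Additive (Γ(Z, ⊤))ˣ :=
  (Sheaf.H.equiv₀ (P i) isTerminalTop).trans (AddEquiv.refl _)

lemma unitsEquivP_comap {Z : Scheme.{u}} (i : Z ⟶ X) (x : Sheaf.H (UnitsSh.unitsAb X) 0) :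
    (unitsEquivP i (Sheaf.H.map (UnitsSh.comap i) 0 x)).toMul =
      Units.map i.appTop.hom.toMonoidHom (unitsEquiv X x).toMul :=
  congrArg (fun s : (P i).obj.obj (op (⊤ : X.Opens)) => ((AddEquiv.refl (Additive (Γ(Z, ⊤))ˣ)) s).toMul)
    (Sheaf.H.equiv₀_naturality isTerminalTop (UnitsSh.comap i) x).symm

theorem exact_six (I : X.IdealSheafData) (hI : I * I = ⊥)
    [PicGrp.Law X] [PicGrp.Law I.subscheme] (hi : PicGrp.PullMul I.subschemeι) :
    ∃ (ε : Multiplicative (Coh.HH X (ClSub.idealMod I) 0) →* (Γ(X, ⊤))ˣ)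
      (δ₀ : (Γ(I.subscheme, ⊤))ˣ →* Multiplicative (Coh.HH X (ClSub.idealMod I) 1))
      (α : Multiplicative (Coh.HH X (ClSub.idealMod I) 1) →* PicLoc.PicSet X)
      (δ₁ : PicLoc.PicSet I.subscheme →* Multiplicative (Coh.HH X (ClSub.idealMod I) 2)),
      Function.Injective ε ∧
      (Units.map I.subschemeι.appTop.hom.toMonoidHom).ker = ε.range ∧
      δ₀.ker = (Units.map I.subschemeι.appTop.hom.toMonoidHom).range ∧
      α.ker = δ₀.range ∧
      (PicGrp.pullHom I.subschemeι hi).ker = α.range ∧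
      δ₁.ker = (PicGrp.pullHom I.subschemeι hi).range := by
  obtain ⟨φ, -, w, hS⟩ := Groth.Agent.S15747.result X I hI
  let S := ShortComplex.mk φ (UnitsSh.comap I.subschemeι) w
  let u := unitsEquiv X
  let v := unitsEquivP I.subschemeι
  let pX : Sheaf.H (UnitsSh.unitsAb X) 1 ≃+ Additive (PicLoc.PicSet X) :=
    AddEquiv.ofBijective (PicUnits.psiX X) (PicUnits.psiX_bijective X)
  let pZ : Sheaf.H (P I.subschemeι) 1 ≃+ Additive (PicLoc.PicSet I.subscheme) :=
    AddEquiv.ofBijective (PicUnits.psi I.subschemeι) (PicUnits.psi_bijective I.subschemeι)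
  let ε : Multiplicative (Coh.HH X (ClSub.idealMod I) 0) →* (Γ(X, ⊤))ˣ :=
    AddMonoidHom.toMultiplicativeLeft (u.toAddMonoidHom.comp (Sheaf.H.map φ 0))
  let δ₀ : (Γ(I.subscheme, ⊤))ˣ →* Multiplicative (Coh.HH X (ClSub.idealMod I) 1) :=
    AddMonoidHom.toMultiplicativeRight ((LES.δ hS 0).comp v.symm.toAddMonoidHom)
  let α : Multiplicative (Coh.HH X (ClSub.idealMod I) 1) →* PicLoc.PicSet X :=
    AddMonoidHom.toMultiplicativeLeft (pX.toAddMonoidHom.comp (Sheaf.H.map φ 1))
  let δ₁ : PicLoc.PicSet I.subscheme →* Multiplicative (Coh.HH X (ClSub.idealMod I) 2) :=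
    AddMonoidHom.toMultiplicativeRight ((LES.δ hS 1).comp pZ.symm.toAddMonoidHom)
  have hres : ∀ x, Units.map I.subschemeι.appTop.hom.toMonoidHom (u x).toMul =
      (v (Sheaf.H.map S.g 0 x)).toMul := fun x => (unitsEquivP_comap I.subschemeι x).symm
  have hpull : ∀ x, PicGrp.pullHom I.subschemeι hi (pX x).toMul = (pZ (Sheaf.H.map S.g 1 x)).toMul :=
    fun x => (PicUnits.psi_comap I.subschemeι hi x).symm
  refine ⟨ε, δ₀, α, δ₁, ?_, ?_, ?_, ?_, ?_, ?_⟩
  · exact fun a b h => Multiplicative.toAdd.injective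
      (LES.map_f_zero_injective hS (u.injective (Additive.toMul.injective h)))
  · ext y
    obtain ⟨x, rfl⟩ : ∃ x, (u x).toMul = y := ⟨u.symm (Additive.ofMul y), by simp⟩
    rw [MonoidHom.mem_ker, hres, MonoidHom.mem_range]
    constructor
    · intro h
      have h0 : Sheaf.H.map S.g 0 x = 0 := v.injective (by rw [map_zero]; exact Additive.toMul.injective h)
      obtain ⟨z, hz⟩ := LES.exact₂ hS 0 x h0
      exact ⟨Multiplicative.ofAdd z, congrArg (fun t => (u t).toMul) hz⟩
    · rintro ⟨z, hz⟩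
      have : Sheaf.H.map S.f 0 z.toAdd = x := u.injective (Additive.toMul.injective hz)
      rw [← this, LES.map_g_map_f, map_zero]
      rfl
  · ext y
    obtain ⟨x, rfl⟩ : ∃ x, (v x).toMul = y := ⟨v.symm (Additive.ofMul y), by simp⟩
    rw [MonoidHom.mem_ker, MonoidHom.mem_range]
    have hδ : δ₀ (v x).toMul = Multiplicative.ofAdd (LES.δ hS 0 x) :=
      congrArg (fun t => Multiplicative.ofAdd (LES.δ hS 0 t)) (v.symm_apply_apply x)
    rw [hδ]
    constructor
    · intro h
      obtain ⟨z, hz⟩ := LES.exact₃ hS 0 x (Multiplicative.ofAdd.injective h)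
      exact ⟨(u z).toMul, (hres z).trans (congrArg (fun t => (v t).toMul) hz)⟩
    · rintro ⟨y, hy⟩
      obtain ⟨z, rfl⟩ : ∃ z, (u z).toMul = y := ⟨u.symm (Additive.ofMul y), by simp⟩
      rw [hres] at hy
      rw [← v.injective (Additive.toMul.injective hy), LES.δ_map_g]
      rfl
  · ext y
    obtain ⟨x, rfl⟩ : ∃ x, Multiplicative.ofAdd x = y := ⟨y.toAdd, rfl⟩
    rw [MonoidHom.mem_ker, MonoidHom.mem_range]
    constructor
    · intro h
      obtain ⟨z, hz⟩ := LES.exact₁ hS 0 x (pX.injective (by rw [map_zero]; exact Additive.toMul.injective h))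
      exact ⟨(v z).toMul, congrArg Multiplicative.ofAdd
        ((congrArg (LES.δ hS 0) (v.symm_apply_apply z)).trans hz)⟩
    · rintro ⟨y, hy⟩
      change Multiplicative.ofAdd _ = Multiplicative.ofAdd x at hy
      rw [← Multiplicative.ofAdd.injective hy]
      change (pX (Sheaf.H.map S.f 1 (LES.δ hS 0 _))).toMul = 1
      rw [LES.map_f_δ, map_zero]
      rfl
  · ext y
    obtain ⟨x, rfl⟩ : ∃ x, (pX x).toMul = y := ⟨pX.symm (Additive.ofMul y), by simp⟩
    rw [MonoidHom.mem_ker, hpull, MonoidHom.mem_range]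
    constructor
    · intro h
      obtain ⟨z, hz⟩ := LES.exact₂ hS 1 x (pZ.injective (by rw [map_zero]; exact Additive.toMul.injective h))
      exact ⟨Multiplicative.ofAdd z, congrArg (fun t => (pX t).toMul) hz⟩
    · rintro ⟨z, hz⟩
      have : Sheaf.H.map S.f 1 z.toAdd = x := pX.injective (Additive.toMul.injective hz)
      rw [← this, LES.map_g_map_f, map_zero]
      rfl
  · ext y
    obtain ⟨x, rfl⟩ : ∃ x, (pZ x).toMul = y := ⟨pZ.symm (Additive.ofMul y), by simp⟩
    rw [MonoidHom.mem_ker, MonoidHom.mem_range]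
    have hδ : δ₁ (pZ x).toMul = Multiplicative.ofAdd (LES.δ hS 1 x) :=
      congrArg (fun t => Multiplicative.ofAdd (LES.δ hS 1 t)) (pZ.symm_apply_apply x)
    rw [hδ]
    constructor
    · intro h
      obtain ⟨z, hz⟩ := LES.exact₃ hS 1 x (Multiplicative.ofAdd.injective h)
      exact ⟨(pX z).toMul, (hpull z).trans (congrArg (fun t => (pZ t).toMul) hz)⟩
    · rintro ⟨y, hy⟩
      obtain ⟨z, rfl⟩ : ∃ z, (pX z).toMul = y := ⟨pX.symm (Additive.ofMul y), by simp⟩
      rw [hpull] at hy
      rw [← pZ.injective (Additive.toMul.injective hy), LES.δ_map_g]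
      rfl

end


/-- Let X' be a scheme and I a quasi-coherent ideal of O_{X'} with I² = 0, cutting out the closed
subscheme X with inclusion i (so X ⊆ X' is a first-order thickening). Assume the Picard group laws
on X' and X and that pullback of invertible classes along i is multiplicative. Then there exist
group homomorphisms ε : H⁰(X', I) → Γ(X', O_{X'})ˣ, δ₀ : Γ(X, O_X)ˣ → H¹(X', I), α : H¹(X', I) →
Pic(X') and δ₁ : Pic(X) → H²(X', I) (the cohomology groups of the O_{X'}-module I, computed on X',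
which has the same underlying space as X, and written multiplicatively) such that the sequence 0 →
H⁰(X', I) → Γ(X', O_{X'})ˣ → Γ(X, O_X)ˣ → H¹(X', I) → Pic(X') → Pic(X) → H²(X', I), whose second map
is restriction of units and whose fifth map is pullback along i, is exact. (Only the existence of
the four connecting homomorphisms is asserted; they are not identified with the maps f ↦ 1 + f and
the boundary maps of the units sequence.) -/
theorem result (X' : Scheme.{u}) (I : X'.IdealSheafData) (hI : I * I = ⊥)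
    [PicGrp.Law X'] [PicGrp.Law I.subscheme] (hi : PicGrp.PullMul I.subschemeι) :
    ∃ (ε : Multiplicative (Coh.HH X' (ClSub.idealMod I) 0) →* (Γ(X', ⊤))ˣ)
      (δ₀ : (Γ(I.subscheme, ⊤))ˣ →* Multiplicative (Coh.HH X' (ClSub.idealMod I) 1))
      (α : Multiplicative (Coh.HH X' (ClSub.idealMod I) 1) →* PicLoc.PicSet X')
      (δ₁ : PicLoc.PicSet I.subscheme →* Multiplicative (Coh.HH X' (ClSub.idealMod I) 2)),
      Function.Injective ε ∧
      (Units.map I.subschemeι.appTop.hom.toMonoidHom).ker = ε.range ∧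
      δ₀.ker = (Units.map I.subschemeι.appTop.hom.toMonoidHom).range ∧
      α.ker = δ₀.range ∧
      (PicGrp.pullHom I.subschemeι hi).ker = α.range ∧
      δ₁.ker = (PicGrp.pullHom I.subschemeι hi).range := by
  exact exact_six I hI hi

end Groth.Agent.S15400
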