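import Groth.Statements.S14629
import Groth.Agent.S15400
import Groth.Agent.PicLaw.Calc

set_option autoImplicit false
open CategoryTheory CategoryTheory.Limits AlgebraicGeometry
universe u
open PicF

namespace Groth.Agent.S14629

/-- Let X be a scheme and I a quasi-coherent ideal sheaf of square zero defining the closed subscheme i
: X₀ → X, and suppose H¹(X, I) = 0 for the ideal regarded as an O_X-module (Zariski cohomology).
Then two invertible O_X-modules with isomorphic pullbacks to X₀ are isomorphic: restriction of
Picard groups along i is injective. (The published statement allows a nilpotent ideal with the same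
hypothesis on I alone; its proof treats the square-zero case, which is what is stated.) -/
theorem result (X : Scheme.{u}) (I : X.IdealSheafData)
    (hI : I * I = ⊥) (h1 : Subsingleton (Coh.HH X (ClSub.idealMod I) 1))
    (c d : PicF.Cl X) (hc : PicF.IsInvertibleCl c) (hd : PicF.IsInvertibleCl d)
    (h : PicF.pullCl I.subschemeι c = PicF.pullCl I.subschemeι d) : c = d := by
  open scoped Groth.Agent.PicLaw in
  obtain ⟨ε, δ₀, α, δ₁, -, -, -, -, hker, -⟩ :=
    Groth.Agent.S15400.exact_six I hI (Groth.Agent.PicLaw.pullMul I.subschemeι)
  open scoped Groth.Agent.PicLaw in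
  haveI : Subsingleton (Multiplicative (Coh.HH X (ClSub.idealMod I) 1)) := h1
  open scoped Groth.Agent.PicLaw in
  have hinj : Function.Injective (PicGrp.pullHom I.subschemeι (Groth.Agent.PicLaw.pullMul I.subschemeι)) := by
    rw [← MonoidHom.ker_eq_bot_iff, hker, eq_bot_iff]
    rintro _ ⟨y, rfl⟩
    rw [Subsingleton.elim y 1, map_one]
    exact Subgroup.one_mem _
  have e := @hinj ⟨c, hc⟩ ⟨d, hd⟩ (Subtype.ext h)
  exact congrArg Subtype.val e

end Groth.Agent.S14629
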