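import Groth.Statements.S18866
import Groth.Agent.Gor.Basic
import Groth.Agent.Depth.CM
import Mathlib.RingTheory.Ideal.AssociatedPrime.Localization

set_option autoImplicit false
universe u
open Liaison

namespace Groth.Agent.S18866

open IsLocalRing

/-- A Gorenstein ring has no embedded associated primes. -/
lemma minimal_of_associated {A : Type*} [CommRing A] [hA : LocCoh.IsGorensteinRing A] {P : Ideal A}
    (hP : P ∈ associatedPrimes A A) : P ∈ minimalPrimes A := by
  have hp : P.IsPrime := hP.isPrime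
  have := hA.isGorensteinLocalRing_localization P
  have hcm := Groth.Agent.Gor.Basic.isCohenMacaulay_of_gorenstein (A := Localization.AtPrime P)
  have hmax : maximalIdeal (Localization.AtPrime P) ∈ associatedPrimes (Localization.AtPrime P) (LocalizedModule P.primeCompl A) :=
    Module.associatedPrimes.mem_associatedPrimes_atPrime_of_mem_associatedPrimes hP
  have hmax' : maximalIdeal (Localization.AtPrime P) ∈ associatedPrimes (Localization.AtPrime P) (Localization.AtPrime P) := hmax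
  have hd := Groth.Agent.Depth.ringKrullDim_quotient_associatedPrime
    (Groth.Agent.Depth.isCohenMacaulayModule_self (Localization.AtPrime P)) hmax'
  rw [Module.supportDim_self_eq_ringKrullDim] at hd
  let _ := Ideal.Quotient.field (maximalIdeal (Localization.AtPrime P))
  rw [ringKrullDim_eq_zero_of_field, IsLocalization.AtPrime.ringKrullDim_eq_height P (Localization.AtPrime P)] at hd
  exact Ideal.height_eq_zero_iff.1 (by exact_mod_cast hd.symm)


/-- Let K be a field, R = K[x_0, …, x_n] graded by degree, c ≥ 2, 𝔠 ⊂ R a homogeneous ideal of height c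
such that R/𝔠 is a Gorenstein ring, and I, J ⊂ R homogeneous ideals that are directly linked by 𝔠,
that is 𝔠 : I = J and 𝔠 : J = I. If R/I and R/J have no associated prime in common, then I ∩ J = 𝔠,
so I and J are geometrically linked by 𝔠. -/
theorem result (K : Type u) [Field K] (n c : ℕ) (hc : 2 ≤ c)
    (𝔠 I J : Ideal (MvPolynomial (Fin (n + 1)) K))
    (h𝔠 : 𝔠.IsHomogeneous (GrSyz.stdGr K (Fin (n + 1)))) (hI : I.IsHomogeneous (GrSyz.stdGr K (Fin (n + 1)))) (hJ : J.IsHomogeneous (GrSyz.stdGr K (Fin (n + 1))))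
    [LocCoh.IsGorensteinRing (MvPolynomial (Fin (n + 1)) K ⧸ 𝔠)] (h𝔠c : 𝔠.height = c)
    (hIJ : 𝔠.colon (I : Set (MvPolynomial (Fin (n + 1)) K)) = J) (hJI : 𝔠.colon (J : Set (MvPolynomial (Fin (n + 1)) K)) = I)
    (hdisj : Disjoint (associatedPrimes (MvPolynomial (Fin (n + 1)) K) (MvPolynomial (Fin (n + 1)) K ⧸ I)) (associatedPrimes (MvPolynomial (Fin (n + 1)) K) (MvPolynomial (Fin (n + 1)) K ⧸ J))) :
    I ⊓ J = 𝔠 := by
  classical
  refine le_antisymm (fun x hx => ?_) ?_
  · by_contra hxc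
    have hxc' : Ideal.Quotient.mk 𝔠 x ≠ 0 := fun h => hxc (Ideal.Quotient.eq_zero_iff_mem.1 h)
    obtain ⟨P, hP, hle⟩ := exists_le_isAssociatedPrime_of_isNoetherianRing
      (MvPolynomial (Fin (n + 1)) K ⧸ 𝔠) _ hxc'
    have hPp : P.IsPrime := hP.isPrime
    have hmin : P.comap (Ideal.Quotient.mk 𝔠) ∈ 𝔠.minimalPrimes := by
      rw [Ideal.minimalPrimes_eq_comap]
      exact ⟨P, minimal_of_associated hP, rfl⟩
    have hann : ∀ y : MvPolynomial (Fin (n + 1)) K, y * x ∈ 𝔠 → y ∈ P.comap (Ideal.Quotient.mk 𝔠) := fun y hy => by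
      apply hle
      rw [Submodule.mem_colon_singleton, Submodule.mem_bot, smul_eq_mul, ← map_mul]
      exact Ideal.Quotient.eq_zero_iff_mem.2 hy
    have key : ∀ L : Ideal (MvPolynomial (Fin (n + 1)) K), 𝔠 ≤ L → L ≤ P.comap (Ideal.Quotient.mk 𝔠) →
        P.comap (Ideal.Quotient.mk 𝔠) ∈ associatedPrimes (MvPolynomial (Fin (n + 1)) K) (MvPolynomial (Fin (n + 1)) K ⧸ L) := by
      intro L hL hLP
      refine Module.associatedPrimes.minimalPrimes_annihilator_subset_associatedPrimes _ _ ?_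
      rw [Ideal.annihilator_quotient]
      exact ⟨⟨hmin.1.1, hLP⟩, fun Q hQ hQP => hmin.2 ⟨hQ.1, hL.trans hQ.2⟩ hQP⟩
    have hcI : 𝔠 ≤ I := hJI ▸ fun c hc => Submodule.mem_colon.2 fun y _ => 𝔠.mul_mem_right y hc
    have hcJ : 𝔠 ≤ J := hIJ ▸ fun c hc => Submodule.mem_colon.2 fun y _ => 𝔠.mul_mem_right y hc
    have hI' : I ≤ P.comap (Ideal.Quotient.mk 𝔠) := fun y hy => hann y (by
      have h2 : x ∈ 𝔠.colon (I : Set (MvPolynomial (Fin (n + 1)) K)) := by rw [hIJ]; exact hx.2
      rw [mul_comm]; exact Submodule.mem_colon.1 h2 y hy)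
    have hJ' : J ≤ P.comap (Ideal.Quotient.mk 𝔠) := fun y hy => hann y (by
      have h2 : x ∈ 𝔠.colon (J : Set (MvPolynomial (Fin (n + 1)) K)) := by rw [hJI]; exact hx.1
      rw [mul_comm]; exact Submodule.mem_colon.1 h2 y hy)
    exact Set.disjoint_left.1 hdisj (key I hcI hI') (key J hcJ hJ')
  · exact le_inf (hJI ▸ fun c hc => Submodule.mem_colon.2 fun y _ => 𝔠.mul_mem_right y hc)
      (hIJ ▸ fun c hc => Submodule.mem_colon.2 fun y _ => 𝔠.mul_mem_right y hc)

end Groth.Agent.S18866
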