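import Groth.Statements.S18865
import Groth.Agent.S18866
import Groth.Agent.VarDim.Algebra
import Mathlib.RingTheory.GradedAlgebra.Radical
import Mathlib
-- import your own Groth.Agent.* helpers here

set_option autoImplicit false
universe u
open Liaison

namespace Groth.Agent.S18865

open IsLocalRing

/-- Minimal primes of a homogeneous ideal have no constant term. -/
lemma minimal_le_ker {K : Type u} [Field K] {σ : Type} {I P : Ideal (MvPolynomial σ K)}
    (hI : I.IsHomogeneous (GrSyz.stdGr K σ)) (hP : P ∈ I.minimalPrimes) :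
    P ≤ RingHom.ker (MvPolynomial.constantCoeff (σ := σ) (R := K)) := by
  classical
  have hp := hP.1.1
  have hle : I ≤ (P.homogeneousCore (GrSyz.stdGr K σ)).toIdeal :=
    hI.toIdeal_homogeneousCore_eq_self.symm.trans_le (Ideal.homogeneousCore_mono _ hP.1.2)
  have heq : P = (P.homogeneousCore (GrSyz.stdGr K σ)).toIdeal :=
    le_antisymm (hP.2 ⟨Ideal.IsPrime.homogeneousCore hP.1.1, hle⟩ (P.toIdeal_homogeneousCore_le _))
      (P.toIdeal_homogeneousCore_le _)
  have hhom : P.IsHomogeneous (GrSyz.stdGr K σ) := heq ▸ HomogeneousIdeal.isHomogeneous _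
  intro f hf
  rw [RingHom.mem_ker, ← DirectSum.sum_support_decompose (GrSyz.stdGr K σ) f, map_sum]
  refine Finset.sum_eq_zero fun i _ => ?_
  have ha : ((DirectSum.decompose (GrSyz.stdGr K σ) f i : GrSyz.stdGr K σ i) : MvPolynomial σ K) ∈ P := hhom i hf
  have hw := (GrSyz.mem_stdGr_iff K σ i _).1 (DirectSum.decompose (GrSyz.stdGr K σ) f i).2
  generalize ((DirectSum.decompose (GrSyz.stdGr K σ) f i : GrSyz.stdGr K σ i) : MvPolynomial σ K) = a at ha hw
  by_contra hc
  have hi0 : i = 0 := by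
    have := hw (d := 0) (by simpa [MvPolynomial.constantCoeff_eq] using hc)
    simpa using this.symm
  subst hi0
  have hC : a = MvPolynomial.C (MvPolynomial.constantCoeff a) := by
    ext d
    rw [MvPolynomial.coeff_C]
    split_ifs with hd
    · subst hd; rfl
    · by_contra hd'
      have h0 := hw (d := d) hd'
      refine hd (Finsupp.ext fun j => ?_)
      rw [Finsupp.weight_apply, Finsupp.sum] at h0
      by_contra hj
      have hjs : j ∈ d.support := Finsupp.mem_support_iff.2 (fun e => hj (by simp [e]))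
      have hpos : (0 : ℤ) < ∑ l ∈ d.support, d l • (1 : ℤ) :=
        Finset.sum_pos (fun l hl => by simpa [Nat.pos_iff_ne_zero] using Finsupp.mem_support_iff.1 hl) ⟨j, hjs⟩
      exact absurd h0 (ne_of_gt hpos)
  exact hp.ne_top (Ideal.eq_top_of_isUnit_mem _ (hC ▸ ha) ((Ne.isUnit hc).map _))

/-- In a Gorenstein affine algebra all minimal primes contained in a fixed maximal ideal have the same dimension. -/
lemma dim_eq {K : Type u} [Field K] {B : Type u} [CommRing B] [Algebra K B] [Algebra.FiniteType K B]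
    [hB : LocCoh.IsGorensteinRing B] (M : Ideal B) [M.IsMaximal] {p : Ideal B} (hp : p ∈ minimalPrimes B) (hpM : p ≤ M) :
    ringKrullDim (B ⧸ p) = ringKrullDim (Localization.AtPrime M) := by
  have := hp.1.1
  have := hB.isGorensteinLocalRing_localization M
  have hcm := Groth.Agent.Gor.Basic.isCohenMacaulay_of_gorenstein (A := Localization.AtPrime M)
  have hdisj : Disjoint (M.primeCompl : Set B) (p : Set B) := Set.disjoint_left.2 fun x hx hxp => hx (hpM hxp)
  set q := p.map (algebraMap B (Localization.AtPrime M)) with hq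
  have hqp : q.IsPrime := IsLocalization.isPrime_of_isPrime_disjoint M.primeCompl _ p hp.1.1 hdisj
  have hcomap : q.comap (algebraMap B (Localization.AtPrime M)) = p :=
    IsLocalization.comap_map_of_isPrime_disjoint M.primeCompl _ hp.1.1 hdisj
  have hqmin : q ∈ minimalPrimes (Localization.AtPrime M) := by
    refine ⟨⟨hqp, bot_le⟩, fun Q hQ hQq => ?_⟩
    have := hQ.1
    have h1 : Q.comap (algebraMap B (Localization.AtPrime M)) ≤ p := hcomap ▸ Ideal.comap_mono hQq
    have h2 := hp.2 ⟨Ideal.comap_isPrime _ _, bot_le⟩ h1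
    rw [hq, ← IsLocalization.map_comap M.primeCompl (Localization.AtPrime M) Q]
    exact Ideal.map_mono h2
  have hassL : q ∈ associatedPrimes (Localization.AtPrime M) (Localization.AtPrime M) := by
    refine Module.associatedPrimes.minimalPrimes_annihilator_subset_associatedPrimes _ _ ?_
    rw [Module.annihilator_eq_bot.2 inferInstance]
    exact hqmin
  have hd := Groth.Agent.Depth.ringKrullDim_quotient_associatedPrime
    (Groth.Agent.Depth.isCohenMacaulayModule_self (Localization.AtPrime M)) hassL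
  rw [Module.supportDim_self_eq_ringKrullDim] at hd
  rw [← hd]
  have : (M.map (Ideal.Quotient.mk p)).IsMaximal :=
    Ideal.IsMaximal.map_of_surjective_of_ker_le Ideal.Quotient.mk_surjective (by rwa [Ideal.mk_ker])
  have hcompl : Algebra.algebraMapSubmonoid (B ⧸ p) M.primeCompl = (M.map (Ideal.Quotient.mk p)).primeCompl := by
    ext x
    obtain ⟨b, rfl⟩ := Ideal.Quotient.mk_surjective x
    show Ideal.Quotient.mk p b ∈ Submonoid.map (Ideal.Quotient.mk p) M.primeCompl ↔ Ideal.Quotient.mk p b ∉ M.map (Ideal.Quotient.mk p)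
    rw [Ideal.mem_quotient_iff_mem_sup, sup_eq_left.2 hpM]
    refine ⟨?_, fun h => ⟨b, h, rfl⟩⟩
    rintro ⟨c, hc, hcb⟩ hb
    exact hc (by simpa using M.add_mem (hpM (Ideal.Quotient.eq.1 hcb)) hb)
  have : IsLocalization.AtPrime (Localization.AtPrime M ⧸ q) (M.map (Ideal.Quotient.mk p)) := by
    have := (inferInstance : IsLocalization (Algebra.algebraMapSubmonoid (B ⧸ p) M.primeCompl) (Localization.AtPrime M ⧸ q))
    rwa [hcompl] at this
  rw [IsLocalization.AtPrime.ringKrullDim_eq_height (M.map (Ideal.Quotient.mk p)) (Localization.AtPrime M ⧸ q),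
    ← Groth.Agent.VarDim.ringKrullDim_quotient_add_height (k := K) (A := B ⧸ p) (M.map (Ideal.Quotient.mk p))]
  let _ := Ideal.Quotient.field (M.map (Ideal.Quotient.mk p))
  rw [ringKrullDim_eq_zero_of_field, zero_add]

/-- Let K be a field, R = K[x_0, …, x_n] graded by degree, c ≥ 2 an integer, 𝔠 ⊂ R a homogeneous ideal
of height c such that R/𝔠 is a Gorenstein ring, and I ⊂ R a homogeneous ideal with I ⊄ 𝔠. Then the
ideal quotient 𝔠 : I is unmixed of codimension c: it has height c and every associated prime of R/(𝔠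
: I) has height c. (A Gorenstein ideal of the notes, one whose quotient is Cohen–Macaulay with last
graded Betti number 1, is rendered as: the quotient ring is Gorenstein.) -/
theorem result (K : Type u) [Field K] (n c : ℕ) (hc : 2 ≤ c)
    (𝔠 I : Ideal (MvPolynomial (Fin (n + 1)) K))
    (h𝔠 : 𝔠.IsHomogeneous (GrSyz.stdGr K (Fin (n + 1)))) (hI : I.IsHomogeneous (GrSyz.stdGr K (Fin (n + 1))))
    [LocCoh.IsGorensteinRing (MvPolynomial (Fin (n + 1)) K ⧸ 𝔠)] (h𝔠c : 𝔠.height = c) (hI𝔠 : ¬ I ≤ 𝔠) :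
    (𝔠.colon (I : Set (MvPolynomial (Fin (n + 1)) K))).height = c ∧
      ∀ p ∈ associatedPrimes (MvPolynomial (Fin (n + 1)) K) (MvPolynomial (Fin (n + 1)) K ⧸ 𝔠.colon (I : Set (MvPolynomial (Fin (n + 1)) K))), p.height = c := by
  classical
  let R := MvPolynomial (Fin (n + 1)) K
  let m : Ideal R := RingHom.ker (MvPolynomial.constantCoeff (σ := Fin (n + 1)) (R := K))
  have hm : m.IsMaximal := RingHom.ker_isMaximal_of_surjective _ fun r => ⟨MvPolynomial.C r, MvPolynomial.constantCoeff_C _ r⟩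
  have hht : ∀ P ∈ 𝔠.minimalPrimes, P.height = c := by
    obtain ⟨P₀, hP₀, hP₀c⟩ : ∃ P ∈ 𝔠.minimalPrimes, P.height = c := by
      have hne : 𝔠.minimalPrimes.Nonempty := by
        rw [Set.nonempty_iff_ne_empty, ne_eq, Ideal.minimalPrimes_eq_empty_iff]
        rintro rfl
        exact hI𝔠 le_top
      have := (Ideal.finite_minimalPrimes_of_isNoetherianRing R 𝔠)
      obtain ⟨P, hP, hmin⟩ := Set.exists_min_image _ (fun P => P.height) this hne
      have : ∀ Q ∈ 𝔠.minimalPrimes, Q.IsPrime := fun Q hQ => hQ.1.1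
      refine ⟨P, hP, le_antisymm ?_ (h𝔠c ▸ Ideal.height_mono hP.1.2)⟩
      rw [← h𝔠c, Ideal.height_eq_inf_minimalPrimes (I := 𝔠)]
      exact le_iInf₂ hmin
    intro P hP
    have := hP.1.1
    have := hP₀.1.1
    have hle : ∀ Q ∈ 𝔠.minimalPrimes, Q ≤ m := fun Q hQ => minimal_le_ker h𝔠 hQ
    have h1 : ∀ Q ∈ 𝔠.minimalPrimes, ringKrullDim (R ⧸ Q) =
        @ringKrullDim (Localization.AtPrime (m.map (Ideal.Quotient.mk 𝔠)) (hp := by
          exact (Ideal.IsMaximal.map_of_surjective_of_ker_le (m := m) Ideal.Quotient.mk_surjective (by rw [Ideal.mk_ker]; exact hP.1.2.trans (hle P hP))).isPrime)) _ := by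
      intro Q hQ
      have := hQ.1.1
      have hker : RingHom.ker (Ideal.Quotient.mk 𝔠) ≤ Q := by rw [Ideal.mk_ker]; exact hQ.1.2
      have : (m.map (Ideal.Quotient.mk 𝔠)).IsMaximal :=
        Ideal.IsMaximal.map_of_surjective_of_ker_le Ideal.Quotient.mk_surjective (hker.trans (hle Q hQ))
      have hq : Q.map (Ideal.Quotient.mk 𝔠) ∈ minimalPrimes (R ⧸ 𝔠) := by
        have hc : (Q.map (Ideal.Quotient.mk 𝔠)).comap (Ideal.Quotient.mk 𝔠) = Q := by
          rw [Ideal.comap_map_of_surjective _ Ideal.Quotient.mk_surjective, ← RingHom.ker_eq_comap_bot]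
          exact sup_eq_left.2 hker
        have h := hQ
        rw [Ideal.minimalPrimes_eq_comap] at h
        obtain ⟨q, hq, rfl⟩ := h
        rwa [Ideal.map_comap_of_surjective _ Ideal.Quotient.mk_surjective]
      rw [← dim_eq (K := K) (m.map (Ideal.Quotient.mk 𝔠)) hq (Ideal.map_mono (hle Q hQ))]
      exact (ringKrullDim_eq_of_ringEquiv ((DoubleQuot.quotQuotEquivQuotOfLE hQ.1.2))).symm
    have e1 := Groth.Agent.VarDim.ringKrullDim_quotient_add_height (k := K) (A := R) P
    have e2 := Groth.Agent.VarDim.ringKrullDim_quotient_add_height (k := K) (A := R) P₀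
    rw [h1 P hP, ← h1 P₀ hP₀] at e1
    obtain ⟨d, hd, -⟩ := Groth.Agent.VarDim.exists_ringKrullDim_eq_trdeg K (R ⧸ P₀)
    rw [← e2, hd, hP₀c] at e1
    have hPfin : P.height ≠ ⊤ := Ideal.height_ne_top hP.1.1.ne_top
    obtain ⟨a, ha⟩ := ENat.ne_top_iff_exists.1 hPfin
    rw [← ha] at e1 ⊢
    have e' : d + a = d + c := by exact_mod_cast e1
    exact_mod_cast (by omega : a = c)
  have hass : ∀ p ∈ associatedPrimes R (R ⧸ 𝔠.colon (I : Set R)), p ∈ 𝔠.minimalPrimes := by
    intro p hp
    obtain ⟨G, hG⟩ := IsNoetherian.noetherian I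
    let f : R →ₗ[R] (G → R ⧸ 𝔠) := LinearMap.pi fun g => (Submodule.mkQ 𝔠) ∘ₗ LinearMap.mulRight R (g : R)
    have hker : LinearMap.ker f = (𝔠.colon (I : Set R)) := by
      ext x
      simp only [LinearMap.mem_ker, f, funext_iff, LinearMap.pi_apply, LinearMap.comp_apply, LinearMap.mulRight_apply,
        Pi.zero_apply, Submodule.mkQ_apply, Submodule.Quotient.mk_eq_zero, Submodule.mem_colon, SetLike.mem_coe, smul_eq_mul]
      refine ⟨fun h y hy => ?_, fun h g => h g.1 (hG ▸ Submodule.subset_span g.2)⟩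
      rw [← hG] at hy
      induction hy using Submodule.span_induction with
      | mem y hy => exact h ⟨y, hy⟩
      | zero => simp
      | add a b _ _ ha hb => rw [mul_add]; exact 𝔠.add_mem ha hb
      | smul r a _ ha => rw [smul_eq_mul, mul_left_comm]; exact 𝔠.mul_mem_left r ha
    have hp' : p ∈ associatedPrimes R (G → R ⧸ 𝔠) := by
      refine associatedPrimes.subset_of_injective (f := (LinearMap.ker f).liftQ f le_rfl) ?_ ?_
      · rw [← LinearMap.ker_eq_bot]; exact Submodule.ker_liftQ_eq_bot _ _ _ le_rfl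
      · exact (LinearEquiv.AssociatedPrimes.eq (Submodule.quotEquivOfEq _ _ hker)).symm ▸ hp
    obtain ⟨g, hg⟩ : ∃ g : G, p ∈ associatedPrimes R (R ⧸ 𝔠) := by
      obtain ⟨hpp, x, hx⟩ := hp'
      have hinf : (Finset.univ.inf fun g : G => (⊥ : Submodule R (R ⧸ 𝔠)).colon {x g}) =
          (⊥ : Submodule R (G → R ⧸ 𝔠)).colon {x} := by
        ext r; simp [Submodule.mem_colon_singleton, funext_iff, Submodule.mem_finsetInf]
      obtain ⟨g, -, hg⟩ := hpp.inf_le'.1 (show (Finset.univ.inf fun g : G => (⊥ : Submodule R (R ⧸ 𝔠)).colon {x g}) ≤ p from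
        hinf.le.trans (hx ▸ Ideal.le_radical))
      refine ⟨g, hpp, x g, le_antisymm ?_ (hpp.radical_le_iff.2 hg)⟩
      rw [hx, ← hinf]
      exact Ideal.radical_mono (Finset.inf_le (Finset.mem_univ g))
    have hp1 := hg
    have hpc : 𝔠 ≤ p := by
      have := hp1.annihilator_le
      rwa [Submodule.annihilator_top, Ideal.annihilator_quotient] at this
    have hPq : (p.map (Ideal.Quotient.mk 𝔠)) ∈ associatedPrimes (R ⧸ 𝔠) (R ⧸ 𝔠) := by
      obtain ⟨hpp, x, hx⟩ := hp1
      refine ⟨Ideal.map_isPrime_of_surjective Ideal.Quotient.mk_surjective (by rwa [Ideal.mk_ker]), x, ?_⟩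
      apply Ideal.comap_injective_of_surjective (Ideal.Quotient.mk 𝔠) Ideal.Quotient.mk_surjective
      rw [Ideal.comap_map_of_surjective _ Ideal.Quotient.mk_surjective, ← RingHom.ker_eq_comap_bot,
        Ideal.comap_radical]
      rw [Ideal.mk_ker, sup_eq_left.2 hpc, hx]
      congr 1
    rw [Ideal.minimalPrimes_eq_comap]
    refine ⟨_, Groth.Agent.S18866.minimal_of_associated hPq, ?_⟩
    rw [Ideal.comap_map_of_surjective _ Ideal.Quotient.mk_surjective, ← RingHom.ker_eq_comap_bot, Ideal.mk_ker]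
    exact sup_eq_left.2 hpc
  refine ⟨?_, fun p hp => hht p (hass p hp)⟩
  have : Nontrivial (R ⧸ 𝔠.colon (I : Set R)) := Ideal.Quotient.nontrivial_iff.2 fun e => hI𝔠 fun y hy => by
    have h1 : (1 : R) ∈ 𝔠.colon (I : Set R) := e ▸ Submodule.mem_top
    simpa using Submodule.mem_colon.1 h1 y hy
  obtain ⟨p, hp⟩ := associatedPrimes.nonempty R (R ⧸ 𝔠.colon (I : Set R))
  refine le_antisymm ?_ (h𝔠c ▸ Ideal.height_mono fun x hx => Submodule.mem_colon.2 fun y _ => 𝔠.mul_mem_right y hx)
  rw [← hht p (hass p hp)]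
  have := hp.annihilator_le
  rw [Submodule.annihilator_top, Ideal.annihilator_quotient] at this
  exact Ideal.height_mono this

end Groth.Agent.S18865
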