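import Groth.Statements.S5422
import Groth.Agent.Comod.Image2
import Groth.Agent.Comod.UnipFil
import Groth.Agent.Comod.TrigUnip

set_option autoImplicit false
universe u
open TensorProduct
open SGA3t2b

namespace Groth.Agent.S5422

open HopfRep Groth.Agent.Comod

/-- a vector all of whose coefficients come from a unipotent quotient group yields a fixed vector -/
theorem exists_fixed_of_coef {k : Type u} [Field k] {A C : Type u} [CommRing A] [HopfAlgebra k A]
    [CommRing C] [HopfAlgebra k C] (ψ : C →ₐc[k] A)
    {V : Type u} [AddCommGroup V] [Module k V] [HopfRep.Comod k A V] :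
    ∀ (n : ℕ) (v : V), v ≠ 0 → (∀ f : V →ₗ[k] k, ∃ c ∈ fil k C C n, ψ c = mc A f v) →
      ∃ w : V, w ≠ 0 ∧ w ∈ fixedPts k A V := by
  intro n
  induction n with
  | zero =>
    intro v hv hc
    exfalso
    apply hv
    rw [← contract_counit (k := k) (A := A) v, contract_apply]
    have h0 : HopfRep.Comod.coact (k := k) (A := A) v = 0 := by
      obtain ⟨y, hy⟩ := (mem_range_lTensor_iff_sliceL (⊥ : Submodule k A) _).2 (fun f => by
        obtain ⟨c, hc0, hcv⟩ := hc f
        have : c = 0 := hc0
        rw [Submodule.mem_bot]
        change mc A f v = 0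
        rw [← hcv, this, map_zero])
      rw [← hy, Subsingleton.elim ((⊥ : Submodule k A).subtype) 0, LinearMap.lTensor_zero,
        LinearMap.zero_apply]
    rw [h0, map_zero]
  | succ n ih =>
    intro v hv hc
    by_cases hfix : ∀ χ : A →ₗ[k] k, contract χ v = χ 1 • v
    · exact ⟨v, hv, (eq_tmul_iff_contract (k := k) (A := A) v 1).2 hfix⟩
    · push Not at hfix
      obtain ⟨χ, hχ⟩ := hfix
      refine ih (contract χ v - χ 1 • v) (sub_ne_zero.mpr hχ) fun f => ?_
      obtain ⟨c, hcn, hcv⟩ := hc f
      refine ⟨_, mem_fil_succ_iff.1 hcn (χ ∘ₗ (ψ : C →ₗ[k] A)), ?_⟩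
      rw [map_sub, map_smul, map_sub, map_smul, map_contract (isComodHom_mc f), ← hcv,
        TrigUnip.contract_comul_map]
      simp

/-- Parts (ii), (iii) and (iv) (Hopf-algebra form; 'unipotent' in the fixed-vector form: every non-zero
finite-dimensional representation has a non-zero fixed vector, which is equivalent to the published
definition for affine algebraic groups): let k be a field and A the coordinate Hopf algebra of an
affine algebraic k-group E. (ii) If E is unipotent, so is every closed subgroup Spec B (B a Hopf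
quotient of A, φ : A → B a surjective bialgebra map). (iii) If E is unipotent, so is every quotient
group Spec C (ψ : C → A an injective bialgebra map). (iv) If ψ : C → A is an injective bialgebra map
(quotient U = Spec C), J the Hopf ideal of A generated by the image of the augmentation ideal of C
(kernel N = Spec (A/J)), and both U and N are unipotent, then E is unipotent. -/
theorem result (k : Type u) [Field k] (A : Type u) [CommRing A] [HopfAlgebra k A] [Algebra.FiniteType k A] :
    (∀ (B : Type u) [CommRing B] [HopfAlgebra k B] [Algebra.FiniteType k B] (φ : A →ₐc[k] B),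
      Function.Surjective φ → HopfRep.IsUnipotent k A → HopfRep.IsUnipotent k B) ∧
    (∀ (C : Type u) [CommRing C] [HopfAlgebra k C] [Algebra.FiniteType k C] (ψ : C →ₐc[k] A),
      Function.Injective ψ → HopfRep.IsUnipotent k A → HopfRep.IsUnipotent k C) ∧
    (∀ (C : Type u) [CommRing C] [HopfAlgebra k C] [Algebra.FiniteType k C] (ψ : C →ₐc[k] A)
      (J : Ideal A) [J.IsHopfIdeal k],
      Function.Injective ψ → J = Ideal.map (ψ : C →+* A) (RingHom.ker (Bialgebra.counitAlgHom k C)) →
      HopfRep.IsUnipotent k C → HopfRep.IsUnipotent k (A ⧸ J) → HopfRep.IsUnipotent k A) := by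
  refine ⟨fun B _ _ _ φ hφ hU => ?_, fun C _ _ _ ψ hψ hU => ?_, fun C _ _ _ ψ J _ hψ hJ hC hN => ?_⟩
  · refine Image2.isUnipotent_image (φ : A →ₗ[k] B) (fun χ a => ?_) ?_ (Image.flags_unip hU) ?_
    · change contract χ (φ a) = _
      rw [TrigUnip.contract_comul_map, contract_apply]
      change φ (slice _ (Coalgebra.comul (R := k) a)) = _
      induction Coalgebra.comul (R := k) a using TensorProduct.induction_on with
      | zero => simp
      | tmul x y => simp
      | add x y hx hy => simp only [map_add, hx, hy]
    · rw [Set.range_eq_univ.mpr (show Function.Surjective (φ : A →ₗ[k] B) from hφ), Submodule.span_univ]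
    · rintro a rfl
      exact map_one φ
  · intro V _ _ c hfin hnt hbot
    obtain ⟨v, hv, hv0⟩ := (Submodule.ne_bot_iff _).1 (@hU V _ _ (GLin.comodAlong ψ c) hfin hnt)
    refine hv0 ((Submodule.mem_bot k).1 (hbot ▸ ?_))
    show HopfRep.Comod.coact (k := k) (A := C) v = v ⊗ₜ[k] 1
    apply Module.Flat.lTensor_preserves_injective_linearMap (M := V) (ψ : C →ₗ[k] A) hψ
    simp only [LinearMap.lTensor_tmul]
    rw [show (ψ : C →ₗ[k] A) 1 = 1 from map_one ψ]
    exact hv
  · classical
    subst hJ
    letI : Algebra C A := (ψ : C →ₐ[k] A).toRingHom.toAlgebra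
    haveI : IsScalarTower k C A := IsScalarTower.of_algebraMap_eq fun x => ((ψ : C →ₐ[k] A).commutes x).symm
    haveI : Module.FaithfullyFlat C A := Groth.Agent.HopfSub.faithfullyFlat ψ (fun _ => rfl) hψ
    let J := Ideal.map (ψ : C →+* A) (RingHom.ker (Bialgebra.counitAlgHom k C))
    let π : A →ₐc[k] A ⧸ J := Bialgebra.Quotient.mkBialgHom _
    have hπ : Function.Surjective π := Ideal.Quotient.mk_surjective
    have hker : RingHom.ker (π : A →ₐ[k] A ⧸ J) =
        Ideal.map (ψ : C →ₐ[k] A) (RingHom.ker (Bialgebra.counitAlgHom k C)) := by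
      ext x
      exact Ideal.Quotient.eq_zero_iff_mem
    intro V _ _ c hfin hnt
    obtain ⟨v, hv, hv0⟩ := (Submodule.ne_bot_iff _).1 (@hN V _ _ (GLin.comodAlong π c) hfin hnt)
    have hcoef : ∀ f : V →ₗ[k] k, ∃ q, ψ q = mc A f v := fun f => by
      refine ExactSeq.mem_range_of_rho ψ (fun _ => rfl) π hker hπ _ ?_
      rw [ExactSeq.rho, AlgHom.comp_apply, Bialgebra.comulAlgHom_apply, comul_mc]
      have h1 : TensorProduct.map LinearMap.id (π : A →ₗ[k] A ⧸ J)
          (HopfRep.Comod.coact (k := k) (A := A) v) = v ⊗ₜ[k] 1 := hv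
      have h2 : ∀ z : V ⊗[k] A, Algebra.TensorProduct.map (AlgHom.id k A) (π : A →ₐ[k] A ⧸ J)
          ((mc A f).rTensor A z) =
            (mc A f).rTensor _ (TensorProduct.map LinearMap.id (π : A →ₗ[k] A ⧸ J) z) := by
        intro z
        induction z using TensorProduct.induction_on with
        | zero => simp
        | tmul a b => simp
        | add a b ha hb => simp only [map_add, ha, hb]
      rw [h2, h1, LinearMap.rTensor_tmul]
    choose q hq using hcoef
    let b := Module.Free.chooseBasis k (V →ₗ[k] k)
    choose N hN' using fun i => exists_mem_fil hC (q (b i))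
    obtain ⟨w, hw0, hw⟩ := exists_fixed_of_coef ψ (Finset.univ.sup N) v hv0 fun f => by
      refine ⟨∑ i, b.repr f i • q (b i), Submodule.sum_mem _ fun i _ => Submodule.smul_mem _ _
        (fil_mono (Finset.le_sup (Finset.mem_univ i)) (hN' i)), ?_⟩
      rw [map_sum]
      simp only [map_smul, hq]
      simp only [mc, sliceL, LinearMap.comp_apply]
      generalize HopfRep.Comod.coact (k := k) (A := A) v = z
      induction z using TensorProduct.induction_on with
      | zero => simp
      | tmul x a =>
        simp [smul_smul]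
        rw [← Finset.sum_smul]
        congr 1
        have h := LinearMap.congr_fun (b.sum_repr f) x
        rw [LinearMap.sum_apply] at h
        exact h
      | add x y hx hy =>
        simp only [map_add, smul_add, Finset.sum_add_distrib] at hx hy ⊢
        rw [hx, hy]
    exact (Submodule.ne_bot_iff _).2 ⟨w, hw, hw0⟩

end Groth.Agent.S5422
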