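import Groth.Statements.S5776
import Mathlib

set_option autoImplicit false
universe u
open EGA41

namespace Groth.Agent.S5776

open RingTheory.Sequence Function
open scoped Pointwise

theorem isWeaklyRegular_of_exact {A : Type u} [CommRing A] :
    ∀ (rs : List A) (M M' M'' : Type u) [AddCommGroup M] [Module A M] [AddCommGroup M'] [Module A M']
      [AddCommGroup M''] [Module A M''] (f : M →ₗ[A] M') (g : M' →ₗ[A] M''),
      Injective f → Exact f g → Surjective g → IsWeaklyRegular M rs → IsWeaklyRegular M'' rs →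
      IsWeaklyRegular M' rs := by
  intro rs
  induction rs with
  | nil => intros; exact IsWeaklyRegular.nil _ _
  | cons r rs ih =>
    intro M M' M'' _ _ _ _ _ _ f g hf hfg hg hM hM''
    obtain ⟨h1, h1'⟩ := (isWeaklyRegular_cons_iff M r rs).mp hM
    obtain ⟨h2, h2'⟩ := (isWeaklyRegular_cons_iff M'' r rs).mp hM''
    refine (isWeaklyRegular_cons_iff M' r rs).mpr ⟨?_, ?_⟩
    · rw [isSMulRegular_iff_right_eq_zero_of_smul]
      intro x hx
      have hgx : g x = 0 := h2.right_eq_zero_of_smul (by rw [← map_smul, hx, map_zero])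
      obtain ⟨y, rfl⟩ := (hfg x).mp hgx
      have hy0 : y = 0 := h1.right_eq_zero_of_smul (hf (by rw [map_smul, hx, map_zero]))
      rw [hy0, map_zero]
    · refine ih _ _ _ (QuotSMulTop.map r f) (QuotSMulTop.map r g) ?_ (QuotSMulTop.map_exact r hfg hg)
        (QuotSMulTop.map_surjective r hg) h1' h2'
      rw [injective_iff_map_eq_zero]
      intro x hx
      obtain ⟨x, rfl⟩ := Submodule.Quotient.mk_surjective _ x
      rw [QuotSMulTop.map_apply_mk, Submodule.Quotient.mk_eq_zero,
        Submodule.mem_smul_pointwise_iff_exists] at hx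
      obtain ⟨y, -, hy⟩ := hx
      have hgy : g y = 0 := h2.right_eq_zero_of_smul (by rw [← map_smul, hy]; exact hfg.apply_apply_eq_zero _)
      obtain ⟨z, rfl⟩ := (hfg y).mp hgy
      rw [← map_smul] at hy
      rw [← hf hy, Submodule.Quotient.mk_eq_zero]
      exact Submodule.smul_mem_pointwise_smul _ _ _ Submodule.mem_top

theorem pow_cons {A : Type u} [CommRing A] (M : Type u) [AddCommGroup M] [Module A M] (x : A) (rs : List A)
    (hx : IsSMulRegular M x) (hrs : IsWeaklyRegular (QuotSMulTop x M) rs) :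
    ∀ k, 1 ≤ k → IsWeaklyRegular M (x ^ k :: rs) := by
  intro k hk
  induction k, hk using Nat.le_induction with
  | base => rw [pow_one]; exact (isWeaklyRegular_cons_iff M x rs).mpr ⟨hx, hrs⟩
  | succ k hk ih =>
    obtain ⟨hk1, hk2⟩ := (isWeaklyRegular_cons_iff M (x ^ k) rs).mp ih
    refine (isWeaklyRegular_cons_iff M _ rs).mpr ⟨hx.pow (k + 1), ?_⟩
    let f : QuotSMulTop x M →ₗ[A] QuotSMulTop (x ^ (k + 1)) M :=
      Submodule.mapQ _ _ (LinearMap.lsmul A M (x ^ k)) (fun m hm => by
        obtain ⟨y, -, rfl⟩ := (Submodule.mem_smul_pointwise_iff_exists _ _ _).mp hm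
        rw [Submodule.mem_comap, LinearMap.lsmul_apply, smul_smul, ← pow_succ]
        exact Submodule.smul_mem_pointwise_smul _ _ _ Submodule.mem_top)
    let g : QuotSMulTop (x ^ (k + 1)) M →ₗ[A] QuotSMulTop (x ^ k) M :=
      Submodule.mapQ _ _ LinearMap.id (fun m hm => by
        obtain ⟨y, -, rfl⟩ := (Submodule.mem_smul_pointwise_iff_exists _ _ _).mp hm
        rw [Submodule.mem_comap, LinearMap.id_apply, pow_succ, mul_smul]
        exact Submodule.smul_mem_pointwise_smul _ _ _ Submodule.mem_top)
    refine isWeaklyRegular_of_exact rs _ _ _ f g ?_ ?_ ?_ hrs hk2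
    · rw [injective_iff_map_eq_zero]
      intro m hm
      obtain ⟨m, rfl⟩ := Submodule.Quotient.mk_surjective _ m
      rw [Submodule.mapQ_apply, Submodule.Quotient.mk_eq_zero,
        Submodule.mem_smul_pointwise_iff_exists] at hm
      obtain ⟨y, -, hy⟩ := hm
      rw [LinearMap.lsmul_apply, pow_succ, mul_smul] at hy
      rw [← hk1 hy, Submodule.Quotient.mk_eq_zero]
      exact Submodule.smul_mem_pointwise_smul _ _ _ Submodule.mem_top
    · intro m
      obtain ⟨m, rfl⟩ := Submodule.Quotient.mk_surjective _ m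
      constructor
      · intro hm
        rw [Submodule.mapQ_apply, Submodule.Quotient.mk_eq_zero,
          Submodule.mem_smul_pointwise_iff_exists] at hm
        obtain ⟨y, -, hy⟩ := hm
        exact ⟨Submodule.Quotient.mk y, by rw [Submodule.mapQ_apply, LinearMap.lsmul_apply, hy]; rfl⟩
      · rintro ⟨y, hy⟩
        obtain ⟨y, rfl⟩ := Submodule.Quotient.mk_surjective _ y
        rw [← hy, Submodule.mapQ_apply, Submodule.mapQ_apply, Submodule.Quotient.mk_eq_zero]
        exact Submodule.smul_mem_pointwise_smul _ _ _ Submodule.mem_top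
    · intro m
      obtain ⟨m, rfl⟩ := Submodule.Quotient.mk_surjective _ m
      exact ⟨Submodule.Quotient.mk m, rfl⟩

theorem pow_list (A : Type u) [CommRing A] :
    ∀ (l : List (A × ℕ)) (M : Type u) [AddCommGroup M] [Module A M], (∀ x ∈ l, 1 ≤ x.2) →
      IsWeaklyRegular M (l.map Prod.fst) → IsWeaklyRegular M (l.map fun x => x.1 ^ x.2) := by
  intro l
  induction l with
  | nil => intros; exact IsWeaklyRegular.nil _ _
  | cons p l ih =>
    intro M _ _ hl h
    rw [List.map_cons, isWeaklyRegular_cons_iff] at h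
    rw [List.map_cons]
    exact pow_cons M p.1 _ h.1 (ih _ (fun x hx => hl x (List.mem_cons_of_mem _ hx)) h.2) p.2
      (hl p List.mem_cons_self)


/-- Let A be a ring, M an A-module and (f_i)_{1 ≤ i ≤ n} an M-regular sequence of elements of A. Then
for any exponents v_i ≥ 1 the sequence (f_i ^ v_i) is again M-regular. -/
theorem result (A : Type u) [CommRing A] (M : Type u) [AddCommGroup M]
    [Module A M] (n : ℕ) (f : Fin n → A) (v : Fin n → ℕ) (hv : ∀ i, 1 ≤ v i)
    (hf : RingTheory.Sequence.IsWeaklyRegular M (List.ofFn f)) :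
    RingTheory.Sequence.IsWeaklyRegular M (List.ofFn fun i => f i ^ v i) := by
  have h := pow_list A (List.ofFn fun i => (f i, v i)) M (fun x hx => ?_) ?_
  · rw [List.map_ofFn] at h; exact h
  · obtain ⟨i, rfl⟩ := List.mem_ofFn.mp hx; exact hv i
  · rw [List.map_ofFn]; exact hf

end Groth.Agent.S5776
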