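import Groth.Statements.S17890
import Groth.Agent.LocHom.Glue
import Groth.Agent.GrpScheme.Ext
import Mathlib.AlgebraicGeometry.Morphisms.SchemeTheoreticallyDominant

set_option maxHeartbeats 800000
set_option backward.isDefEq.respectTransparency false
set_option backward.defeqAttrib.useBackward true

set_option autoImplicit false
universe u
open CategoryTheory AlgebraicGeometry TopologicalSpace
open FlatMor

namespace Groth.Agent.S17890

open Limits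

/-- A schematically dominant quasi-compact morphism stays so when its target is shrunk. -/
lemma schDom_lift {U X : Scheme.{u}} (W : X.Opens) (j : U ⟶ X) [IsSchemeTheoreticallyDominant j]
    [QuasiCompact j] (k : U ⟶ W.toScheme) (hk : k ≫ W.ι = j) :
    IsSchemeTheoreticallyDominant k ∧ QuasiCompact k := by
  have H : IsPullback (𝟙 U) k j W.ι := by
    refine ⟨⟨by simp [hk]⟩, ⟨PullbackCone.IsLimit.mk (by simp [hk]) (fun s => s.fst)
      (fun s => by simp) (fun s => ?_) (fun s m h _ => by simpa using h)⟩⟩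
    rw [← cancel_mono W.ι, Category.assoc, hk]
    exact s.condition
  exact ⟨IsSchemeTheoreticallyDominant.of_isPullback H,
    MorphismProperty.of_isPullback H inferInstance⟩

/-- Schematic dominance may be checked on an open cover by two pieces containing the source. -/
lemma schDom_of_two {U A B Y : Scheme.{u}} (a : A ⟶ Y) (b : B ⟶ Y) [IsOpenImmersion a]
    [IsOpenImmersion b] (hcov : a.opensRange ⊔ b.opensRange = ⊤) (jA : U ⟶ A) (jB : U ⟶ B)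
    [IsSchemeTheoreticallyDominant jA] [QuasiCompact jA] [IsSchemeTheoreticallyDominant jB]
    [QuasiCompact jB] (i : U ⟶ Y) [QuasiCompact i] (hA : jA ≫ a = i) (hB : jB ≫ b = i) :
    IsSchemeTheoreticallyDominant i := by
  have key : ∀ {C : Scheme.{u}} (c : C ⟶ Y) [IsOpenImmersion c] (jC : U ⟶ C)
      [IsSchemeTheoreticallyDominant jC] [QuasiCompact jC], jC ≫ c = i →
      ∀ W : Y.affineOpens, W.1 ≤ c.opensRange → i.ker.ideal W = ⊥ := by
    intro C c _ jC _ _ hC W hW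
    rw [Scheme.Hom.ker_apply, ← RingHom.injective_iff_ker_eq_bot]
    subst hC
    rw [Scheme.Hom.comp_app, CommRingCat.hom_comp, RingHom.coe_comp]
    have : IsIso (c.app W.1) := c.isIso_app W.1 hW
    exact (jC.app_injective _).comp
      ((ConcreteCategory.bijective_of_isIso (C := CommRingCat) (c.app W.1)).1)
  rw [isSchemeTheoreticallyDominant_iff]
  refine Scheme.IdealSheafData.ext_of_iSup_eq_top
    (fun W : {W : Y.affineOpens // W.1 ≤ a.opensRange ∨ W.1 ≤ b.opensRange} => W.1) ?_ fun W => ?_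
  · refine top_le_iff.mp fun y _ => ?_
    rcases Opens.mem_sup.mp (hcov.ge (Set.mem_univ y)) with hy | hy
    · obtain ⟨_, ⟨W, hW, rfl⟩, hyW, hWle⟩ :=
        Y.isBasis_affineOpens.exists_subset_of_mem_open hy a.opensRange.isOpen
      exact Opens.mem_iSup.mpr ⟨⟨⟨W, hW⟩, Or.inl hWle⟩, hyW⟩
    · obtain ⟨_, ⟨W, hW, rfl⟩, hyW, hWle⟩ :=
        Y.isBasis_affineOpens.exists_subset_of_mem_open hy b.opensRange.isOpen
      exact Opens.mem_iSup.mpr ⟨⟨⟨W, hW⟩, Or.inr hWle⟩, hyW⟩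
  · simp only [Scheme.IdealSheafData.ideal_bot, Pi.bot_apply]
    rcases W.2 with h | h
    exacts [key a jA hA W.1 h, key b jB hB W.1 h]

open TopologicalSpace


/-- Let S be a Noetherian scheme, X₁ and X₂ separated S-schemes of finite type, and j₁ : U → X₁, j₂ : U
→ X₂ open immersions over S with schematically dense images. Suppose X₁ quasi-dominates X₂ and X₂
quasi-dominates X₁ compatibly with U: there are schematically dense opens W₁ ⊆ X₁ and W₂ ⊆ X₂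
through which j₁, j₂ factor, and S-morphisms φ : W₁ → X₂, ψ : W₂ → X₁ restricting to j₂ and j₁ on U,
whose graphs are closed subsets of X₁ ×_S X₂ and X₂ ×_S X₁. Then there exist a separated S-scheme Y
of finite type and open immersions i₁ : X₁ → Y, i₂ : X₂ → Y over S with j₁ ≫ i₁ = j₂ ≫ i₂, such that
U → Y has schematically dense image. -/
theorem result {S X₁ X₂ U : Scheme.{u}} [IsNoetherian S]
    (p₁ : X₁ ⟶ S) (p₂ : X₂ ⟶ S) [IsSeparated p₁] [QuasiCompact p₁] [LocallyOfFiniteType p₁]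
    [IsSeparated p₂] [QuasiCompact p₂] [LocallyOfFiniteType p₂]
    (j₁ : U ⟶ X₁) (j₂ : U ⟶ X₂) [IsOpenImmersion j₁] [IsOpenImmersion j₂]
    [IsSchemeTheoreticallyDominant j₁] [IsSchemeTheoreticallyDominant j₂] (hj : j₁ ≫ p₁ = j₂ ≫ p₂)
    (W₁ : X₁.Opens) [IsSchemeTheoreticallyDominant W₁.ι] (φ : (↑W₁ : Scheme.{u}) ⟶ X₂)
    (hφ : W₁.ι ≫ p₁ = φ ≫ p₂)
    (hφc : IsClosed (Set.range (fun w => (Limits.pullback.lift W₁.ι φ hφ) w)))
    (k₁ : U ⟶ ↑W₁) (hk₁ : k₁ ≫ W₁.ι = j₁) (hk₁' : k₁ ≫ φ = j₂)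
    (W₂ : X₂.Opens) [IsSchemeTheoreticallyDominant W₂.ι] (ψ : (↑W₂ : Scheme.{u}) ⟶ X₁)
    (hψ : W₂.ι ≫ p₂ = ψ ≫ p₁)
    (hψc : IsClosed (Set.range (fun w => (Limits.pullback.lift W₂.ι ψ hψ) w)))
    (k₂ : U ⟶ ↑W₂) (hk₂ : k₂ ≫ W₂.ι = j₂) (hk₂' : k₂ ≫ ψ = j₁) :
    ∃ (Y : Scheme.{u}) (q : Y ⟶ S) (i₁ : X₁ ⟶ Y) (i₂ : X₂ ⟶ Y), IsSeparated q ∧ QuasiCompact q ∧
      LocallyOfFiniteType q ∧ IsOpenImmersion i₁ ∧ IsOpenImmersion i₂ ∧ i₁ ≫ q = p₁ ∧ i₂ ≫ q = p₂ ∧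
      j₁ ≫ i₁ = j₂ ≫ i₂ ∧ QuasiCompact (j₁ ≫ i₁) ∧ IsSchemeTheoreticallyDominant (j₁ ≫ i₁) := by
  have : IsLocallyNoetherian X₁ := LocallyOfFiniteType.isLocallyNoetherian p₁
  have : IsLocallyNoetherian X₂ := LocallyOfFiniteType.isLocallyNoetherian p₂
  have : CompactSpace X₁ := QuasiCompact.compactSpace_of_compactSpace p₁
  have : CompactSpace X₂ := QuasiCompact.compactSpace_of_compactSpace p₂
  let V₁ : (W₁ : Scheme.{u}).Opens := φ ⁻¹ᵁ W₂
  let V₂ : (W₂ : Scheme.{u}).Opens := ψ ⁻¹ᵁ W₁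
  have hkV₁ : Set.range k₁ ⊆ Set.range V₁.ι := by
    rw [Scheme.Opens.range_ι]
    rintro _ ⟨u, rfl⟩
    show φ (k₁ u) ∈ W₂
    rw [← Scheme.Hom.comp_apply, hk₁', ← hk₂, Scheme.Hom.comp_apply]
    exact (k₂ u).2
  have hkV₂ : Set.range k₂ ⊆ Set.range V₂.ι := by
    rw [Scheme.Opens.range_ι]
    rintro _ ⟨u, rfl⟩
    show ψ (k₂ u) ∈ W₁
    rw [← Scheme.Hom.comp_apply, hk₂', ← hk₁, Scheme.Hom.comp_apply]
    exact (k₁ u).2
  let l₁ := IsOpenImmersion.lift V₁.ι k₁ hkV₁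
  let l₂ := IsOpenImmersion.lift V₂.ι k₂ hkV₂
  have hl₁ : l₁ ≫ V₁.ι = k₁ := IsOpenImmersion.lift_fac _ _ _
  have hl₂ : l₂ ≫ V₂.ι = k₂ := IsOpenImmersion.lift_fac _ _ _
  have : QuasiCompact j₁ := by
    have : IsLocallyNoetherian U := isLocallyNoetherian_of_isOpenImmersion j₁
    infer_instance
  have : QuasiCompact j₂ := by
    have : IsLocallyNoetherian U := isLocallyNoetherian_of_isOpenImmersion j₁
    infer_instance
  have mr₁ : (φ ∣_ W₂) ≫ W₂.ι = V₁.ι ≫ φ := morphismRestrict_ι _ _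
  have mr₂ : (ψ ∣_ W₁) ≫ W₁.ι = V₂.ι ≫ ψ := morphismRestrict_ι _ _
  obtain ⟨h1a, h1b⟩ := schDom_lift W₁ j₁ k₁ hk₁
  obtain ⟨h1c, h1d⟩ := schDom_lift V₁ k₁ l₁ hl₁
  obtain ⟨h2a, h2b⟩ := schDom_lift W₂ j₂ k₂ hk₂
  obtain ⟨h2c, h2d⟩ := schDom_lift V₂ k₂ l₂ hl₂
  have e₁ : (φ ∣_ W₂) ≫ ψ = V₁.ι ≫ W₁.ι := by
    refine GrpScheme.Ext.ext_of_schematicallyDominant l₁ p₁ ?_ ?_
    · rw [Category.assoc, Category.assoc, ← hψ, reassoc_of% mr₁, hφ]
    · rw [reassoc_of% hl₁, hk₁]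
      have : l₁ ≫ (φ ∣_ W₂) = k₂ := by
        rw [← cancel_mono W₂.ι, Category.assoc, morphismRestrict_ι, reassoc_of% hl₁, hk₁', hk₂]
      rw [reassoc_of% this, hk₂']
  have e₂ : (ψ ∣_ W₁) ≫ φ = V₂.ι ≫ W₂.ι := by
    refine GrpScheme.Ext.ext_of_schematicallyDominant l₂ p₂ ?_ ?_
    · rw [Category.assoc, Category.assoc, ← hφ, reassoc_of% mr₂, hψ]
    · rw [reassoc_of% hl₂, hk₂]
      have : l₂ ≫ (ψ ∣_ W₁) = k₁ := by
        rw [← cancel_mono W₁.ι, Category.assoc, morphismRestrict_ι, reassoc_of% hl₂, hk₂', hk₁]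
      rw [reassoc_of% this, hk₁']
  have hα : Set.range (φ ∣_ W₂) ⊆ Set.range V₂.ι := by
    rw [Scheme.Opens.range_ι]
    rintro _ ⟨v, rfl⟩
    show ψ ((φ ∣_ W₂) v) ∈ W₁
    rw [← Scheme.Hom.comp_apply, e₁, Scheme.Hom.comp_apply]
    exact (V₁.ι v).2
  have hβ : Set.range (ψ ∣_ W₁) ⊆ Set.range V₁.ι := by
    rw [Scheme.Opens.range_ι]
    rintro _ ⟨v, rfl⟩
    show φ ((ψ ∣_ W₁) v) ∈ W₂
    rw [← Scheme.Hom.comp_apply, e₂, Scheme.Hom.comp_apply]
    exact (V₂.ι v).2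
  let α := IsOpenImmersion.lift V₂.ι _ hα
  let β := IsOpenImmersion.lift V₁.ι _ hβ
  have hα' : α ≫ V₂.ι = φ ∣_ W₂ := IsOpenImmersion.lift_fac _ _ _
  have hβ' : β ≫ V₁.ι = ψ ∣_ W₁ := IsOpenImmersion.lift_fac _ _ _
  have hαβ : α ≫ β = 𝟙 _ := by
    rw [← cancel_mono V₁.ι, ← cancel_mono W₁.ι]
    simp only [Category.assoc, Category.id_comp, reassoc_of% hβ', mr₂,
      reassoc_of% hα', e₁]
  have hβα : β ≫ α = 𝟙 _ := by
    rw [← cancel_mono V₂.ι, ← cancel_mono W₂.ι]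
    simp only [Category.assoc, Category.id_comp, reassoc_of% hα', mr₁,
      reassoc_of% hβ', e₂]
  have : IsIso α := ⟨β, hαβ, hβα⟩
  let h₁ : (V₁ : Scheme.{u}) ⟶ X₁ := V₁.ι ≫ W₁.ι
  let h₂ : (V₁ : Scheme.{u}) ⟶ X₂ := α ≫ V₂.ι ≫ W₂.ι
  have h₂φ : h₂ = V₁.ι ≫ φ := by
    simp only [h₂, reassoc_of% hα', mr₁]
  have w : h₁ ≫ p₁ = h₂ ≫ p₂ := by simp [h₁, h₂φ, hφ]
  have hcl : IsClosed (Set.range (pullback.lift h₁ h₂ w)) := by
    set Γ₁ := pullback.lift W₁.ι φ hφ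
    set Γ₂ := pullback.lift W₂.ι ψ hψ ≫ (pullbackSymmetry p₂ p₁).hom
    have hc₂ : IsClosed (Set.range Γ₂) := by
      rw [Scheme.Hom.comp_base, TopCat.coe_comp, Set.range_comp]
      exact (pullbackSymmetry p₂ p₁).hom.homeomorph.isClosedMap _ hψc
    have hf₂ : Γ₂ ≫ pullback.fst p₁ p₂ = ψ := by simp [Γ₂]
    have hs₂ : Γ₂ ≫ pullback.snd p₁ p₂ = W₂.ι := by simp [Γ₂]
    have hg₁ : pullback.lift h₁ h₂ w = V₁.ι ≫ Γ₁ := by
      apply pullback.hom_ext <;> simp [Γ₁, h₁, h₂φ]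
    have hg₂ : pullback.lift h₁ h₂ w = (φ ∣_ W₂) ≫ Γ₂ := by
      apply pullback.hom_ext
      · simp [hf₂, h₁, e₁]
      · simp [hs₂, h₂φ, mr₁]
    have : Set.range (pullback.lift h₁ h₂ w) = Set.range Γ₁ ∩ Set.range Γ₂ := by
      refine Set.Subset.antisymm ?_ ?_
      · rintro _ ⟨v, rfl⟩
        exact ⟨⟨V₁.ι v, by rw [← Scheme.Hom.comp_apply, ← hg₁]⟩,
          ⟨(φ ∣_ W₂) v, by rw [← Scheme.Hom.comp_apply, ← hg₂]⟩⟩
      · rintro z ⟨⟨x, hx⟩, ⟨y, hy⟩⟩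
        have : φ x ∈ W₂ := by
          rw [show φ x = pullback.snd p₁ p₂ z by
              rw [← hx, ← Scheme.Hom.comp_apply]; simp [Γ₁],
            ← hy, ← Scheme.Hom.comp_apply, hs₂]
          exact y.2
        refine ⟨⟨x, this⟩, ?_⟩
        rw [hg₁, Scheme.Hom.comp_apply]
        exact hx
    rw [this]
    exact hφc.inter hc₂
  have hsep := LocHom.isSeparated_glued h₁ h₂ p₁ p₂ w hcl
  let q := pushout.desc p₁ p₂ w
  have hql : pushout.inl h₁ h₂ ≫ q = p₁ := pushout.inl_desc _ _ _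
  have hqr : pushout.inr h₁ h₂ ≫ q = p₂ := pushout.inr_desc _ _ _
  have hlft : LocallyOfFiniteType q := by
    let 𝒰 := (pushout h₁ h₂).openCoverOfIsOpenCover
      (fun i : Bool => if i then (pushout.inl h₁ h₂).opensRange else (pushout.inr h₁ h₂).opensRange)
      (by
        refine top_le_iff.mp ?_
        rw [← LimLib.pushout_opensRange_sup h₁ h₂]
        exact sup_le (le_iSup_of_le true (by simp)) (le_iSup_of_le false (by simp)))
    rw [IsZariskiLocalAtSource.iff_of_openCover (P := @LocallyOfFiniteType) 𝒰]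
    intro i
    cases i
    · show LocallyOfFiniteType ((pushout.inr h₁ h₂).opensRange.ι ≫ q)
      rw [← Scheme.Hom.isoOpensRange_inv_comp, Category.assoc, hqr]
      infer_instance
    · show LocallyOfFiniteType ((pushout.inl h₁ h₂).opensRange.ι ≫ q)
      rw [← Scheme.Hom.isoOpensRange_inv_comp, Category.assoc, hql]
      infer_instance
  have : IsLocallyNoetherian (pushout h₁ h₂ : Scheme.{u}) :=
    LocallyOfFiniteType.isLocallyNoetherian q
  have : CompactSpace (pushout h₁ h₂ : Scheme.{u}) := LimLib.compactSpace_pushout h₁ h₂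
  have hj' : j₁ ≫ pushout.inl h₁ h₂ = j₂ ≫ pushout.inr h₁ h₂ := by
    have a : l₁ ≫ h₁ = j₁ := by simp [h₁, reassoc_of% hl₁, hk₁]
    have b : l₁ ≫ h₂ = j₂ := by simp [h₂φ, reassoc_of% hl₁, hk₁']
    rw [← a, Category.assoc, pushout.condition, ← Category.assoc, b]
  have hqc : QuasiCompact (j₁ ≫ pushout.inl h₁ h₂) := inferInstance
  refine ⟨pushout h₁ h₂, q, pushout.inl h₁ h₂, pushout.inr h₁ h₂, hsep, inferInstance, hlft,
    inferInstance, inferInstance, hql, hqr, hj', hqc, ?_⟩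
  exact schDom_of_two _ _ (LimLib.pushout_opensRange_sup h₁ h₂) j₁ j₂ _ rfl hj'.symm

end Groth.Agent.S17890
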