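import Groth.Statements.S1761
import Groth.Agent.DualCx.LocalDualityGen
import Groth.Agent.DualCx.Bidual

set_option autoImplicit false
universe u
open CategoryTheory
attribute [local instance] HasDerivedCategory.standard
open Dual

namespace Groth.Agent.S1761

open IsLocalRing in
/-- `L_m(M[q]) = Hom(Hom(M, ω[-q]), E)` -/
lemma nonempty_duality {A : Type u} [CommRing A] [IsLocalRing A] [IsNoetherianRing A] {ω : Dual.D A}
    (hω : Dual.IsDualizing A ω) (hn : Dual.IsNormalized A ω) {E : Type u} [AddCommGroup E]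
    [Module A E] {f : ResidueField A →ₗ[A] E} (hf : _root_.InjHull.IsInjectiveHull f) (M : Dual.D A)
    (hM : ∀ i, Module.Finite A (Dual.HD A M i)) (q : ℤ) :
    Nonempty (DualCx.TorsColim.L (maximalIdeal A) (M⟦q⟧) ≃ₗ[A] ((M ⟶ ω⟦-q⟧) →ₗ[A] E)) := by
  obtain ⟨θ, hθ⟩ := DualCx.Trace.exists_trace hω hn hf
  exact ⟨(LinearEquiv.ofBijective _ (DualCx.LocalDualityGen.bijective hω hn hf hθ M hM q)).trans
    (LinearEquiv.congrLeft E A (DualCx.Hom.shiftHom A q (-q) 0 (by omega) M ω).symm)⟩

lemma finite_hom {A : Type u} [CommRing A] [IsNoetherianRing A] {ω : Dual.D A}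
    (hω : Dual.IsDualizing A ω) (M : Dual.D A) (hM : ∀ i, Module.Finite A (Dual.HD A M i)) (i : ℤ) :
    Module.Finite A (M ⟶ ω⟦i⟧) := by
  obtain ⟨a, b, hab⟩ := hω.finite_injective_dimension
  exact DualCx.LocalGlobal.finite_hom_of_injRep hM hω.finite_cohomology
    (DRing.InjAmp.hasInjAmplitudeIn_of_vanishing (a := a) (b := b) fun J j hj => hab (A ⧸ J) j hj) i


/-- For a complete local ring (where the completion on the left-hand side is the identity). Let A be a
complete Noetherian local ring with maximal ideal m, normalized dualizing complex ω and injective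
hull κ → E of the residue field. For every K in D(A) all of whose cohomology modules are finite and
every integer i, the A-module of maps K → ω[−i] in D(A) is isomorphic to Hom_A(H^i_m(K), E), where
H^i_m(K) is the direct limit of Hom(A/m^n, K[i]). -/
theorem result (A : Type u) [CommRing A] [IsLocalRing A] [IsNoetherianRing A] [IsAdicComplete (IsLocalRing.maximalIdeal A) A] (ω : Dual.D A) (hω : Dual.IsDualizing A ω) (hn : Dual.IsNormalized A ω) (E : Type u) [AddCommGroup E] [Module A E] (f : IsLocalRing.ResidueField A →ₗ[A] E) (hf : InjHull.IsInjectiveHull f) (K : Dual.D A) (hK : ∀ i : ℤ, Module.Finite A (Dual.HD A K i)) (i : ℤ) : Nonempty ((K ⟶ ω⟦(-i)⟧) ≃ₗ[A] (Dual2.HDI A (IsLocalRing.maximalIdeal A) K i →ₗ[A] E)) := by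
  obtain ⟨e⟩ := nonempty_duality hω hn hf K hK i
  have := finite_hom hω K hK (-i)
  obtain ⟨e'⟩ := DualCx.Bidual.nonempty_self_bidual hf (K ⟶ ω⟦(-i)⟧)
  exact ⟨e'.trans (LinearEquiv.congrLeft E A e.symm)⟩

end Groth.Agent.S1761
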