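import Groth.Statements.S8796
import Groth.Agent.LocCoh.FlatFibre.Completion

set_option autoImplicit false
universe u
open CategoryTheory
open Dual2

namespace Groth.Agent.S8796

/-- Let A be a Noetherian ring with a dualizing complex, I an ideal with cd(A, I) ≤ d, M a finite
A-module, T ⊆ V(I) a subset stable under specialization and s a natural, satisfying: (4) for primes
p ⊆ r ⊆ q with p ∉ V(I), r ∈ V(I) ∖ T and q ∈ T, either depth(M_p) ≥ s or depth(M_p) + dim((A/p)_q)
> d + s; (6) for q ∈ T, writing A', I', M' for the I-adic completions of A_q, IA_q, M_q, one has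
depth(M'_{p'}) > s for every prime p' of A' not containing I' such that the only primes containing
both p' and I' are maximal. Let p ⊆ q be primes with p ∉ V(I) and q ∈ T such that no prime r with p
⊆ r ⊆ q lies in V(I) ∖ T. Then depth(M_p) > s. -/
theorem result (A : Type u) [CommRing A] [IsNoetherianRing A] (hdc : ∃ ω : Dual.D A, Dual.IsDualizing A ω) (I : Ideal A) (d : ℕ) (hcd : LocCoh.CdLE A I d) (M : Type u) [AddCommGroup M] [Module A M] [Module.Finite A M] (T : Set (PrimeSpectrum A)) (hTI : T ⊆ PrimeSpectrum.zeroLocus (I : Set A)) (hT : StableUnderSpecialization T) (s : ℕ) (h4 : ∀ p r q : PrimeSpectrum A, p ≤ r → r ≤ q → ¬ I ≤ p.asIdeal → I ≤ r.asIdeal → r ∉ T → q ∈ T → (s : ℕ∞) ≤ LocCoh.depth (Localization.AtPrime p.asIdeal) (LocalizedModule p.asIdeal.primeCompl M) ∨ ((d + s : ℕ) : WithBot ℕ∞) < (LocCoh.depth (Localization.AtPrime p.asIdeal) (LocalizedModule p.asIdeal.primeCompl M) : WithBot ℕ∞) + Formal2.dimBetween A p.asIdeal q.asIdeal) (h6 : ∀ q : PrimeSpectrum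 A, q ∈ T → ∀ p' : PrimeSpectrum (AdicCompletion (I.map (algebraMap A (Localization.AtPrime q.asIdeal))) (Localization.AtPrime q.asIdeal)), ¬ (I.map (algebraMap A (AdicCompletion (I.map (algebraMap A (Localization.AtPrime q.asIdeal))) (Localization.AtPrime q.asIdeal)))) ≤ p'.asIdeal → (∀ q' : PrimeSpectrum (AdicCompletion (I.map (algebraMap A (Localization.AtPrime q.asIdeal))) (Localization.AtPrime q.asIdeal)), p' ≤ q' → (I.map (algebraMap A (AdicCompletion (I.map (algebraMap A (Localization.AtPrime q.asIdeal))) (Localization.AtPrime q.asIdeal)))) ≤ q'.asIdeal → q'.asIdeal.IsMaximal) → (s : ℕ∞) < LocCoh.depth (Localization.AtPrime p'.asIdeal) (LocalizedModule p'.asIdeal.primeCompl (AdicCompletion (I.map (algebraMap A (Localization.AtPrime q.asIdeal))) (LocalizedModule q.asIdeal.primeCompl M)))) (p q : PrimeSpectrum A) (hpq : p ≤ q) (hp : ¬ I ≤ p.asIdeal) (hq : q ∈ T) (hr : ∀ r : PrimeSpectrum A, p ≤ r → r ≤ q → I ≤ r.asIdeal → r ∈ T) : (s : ℕ∞) < LocCoh.depth (Localization.AtPrime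 p.asIdeal) (LocalizedModule p.asIdeal.primeCompl M) := by
  have hpI : p.asIdeal ⊔ I ≤ q.asIdeal := sup_le hpq (hTI hq)
  obtain ⟨q₀, hq₀, hq₀q⟩ := Ideal.exists_minimalPrimes_le hpI
  obtain ⟨q0, rfl⟩ : ∃ q0 : PrimeSpectrum A, q0.asIdeal = q₀ := ⟨⟨q₀, hq₀.1.1⟩, rfl⟩
  have hpq0 : p ≤ q0 := le_sup_left.trans hq₀.1.2
  have hIq0 : I ≤ q0.asIdeal := le_sup_right.trans hq₀.1.2
  have hq0T : q0 ∈ T := hr q0 hpq0 hq₀q hIq0
  let R0 := Localization.AtPrime q0.asIdeal
  have hne : I.map (algebraMap A R0) ≠ ⊤ := fun h => by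
    have := (Ideal.map_mono (f := algebraMap A R0) hIq0).trans (Localization.AtPrime.map_eq_maximalIdeal (I := q0.asIdeal)).le
    rw [h, top_le_iff] at this
    exact (IsLocalRing.maximalIdeal.isMaximal R0).ne_top this
  have hdisj : Disjoint (q0.asIdeal.primeCompl : Set A) p.asIdeal :=
    Set.disjoint_left.2 fun x hx hxp => hx (hpq0 hxp)
  have := IsLocalization.isPrime_of_isPrime_disjoint q0.asIdeal.primeCompl R0 p.asIdeal p.isPrime hdisj
  have hcomap := IsLocalization.under_map_of_isPrime_disjoint q0.asIdeal.primeCompl R0 p.isPrime hdisj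
  obtain ⟨x, hx, hdepth⟩ := Groth.Agent.LocCoh.FlatFibre.exists_prime_depth_eq (I.map (algebraMap A R0)) hne
    (LocalizedModule q0.asIdeal.primeCompl M) (p.asIdeal.map (algebraMap A R0))
  rw [(Groth.Agent.EGA4Lib.depth_supportDim_localization_localization M q0.asIdeal
    (p.asIdeal.map (algebraMap A R0)) p.asIdeal hcomap).1] at hdepth
  rw [← hdepth]
  let f := algebraMap A (AdicCompletion (I.map (algebraMap A R0)) R0)
  have hf : f = (algebraMap R0 (AdicCompletion (I.map (algebraMap A R0)) R0)).comp (algebraMap A R0) :=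
    IsScalarTower.algebraMap_eq A R0 _
  refine h6 q0 hq0T x (fun hle => hp ?_) fun q' hxq' hIq' => ?_
  · have h1 := Ideal.map_le_iff_le_comap.1 hle
    change I ≤ x.asIdeal.comap f at h1
    rw [hf, ← Ideal.comap_comap, hx] at h1
    exact h1.trans hcomap.le
  · change I.map f ≤ q'.asIdeal at hIq'
    rw [hf, ← Ideal.map_map] at hIq'
    refine Groth.Agent.LocCoh.FlatFibre.isMaximal_of_forall _ q'.asIdeal hIq' ?_
    let r0 : Ideal R0 := q'.asIdeal.comap (algebraMap R0 (AdicCompletion (I.map (algebraMap A R0)) R0))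
    have hr0 : r0.IsPrime := Ideal.IsPrime.comap _
    have hle0 : r0 ≤ IsLocalRing.maximalIdeal R0 := IsLocalRing.le_maximalIdeal hr0.ne_top
    have h1 : r0.comap (algebraMap A R0) ≤ q0.asIdeal := by
      refine (Ideal.comap_mono hle0).trans ?_
      exact le_of_eq (IsLocalization.AtPrime.under_maximalIdeal R0 q0.asIdeal)
    have h2 : p.asIdeal ⊔ I ≤ r0.comap (algebraMap A R0) := by
      refine sup_le ?_ (Ideal.map_le_iff_le_comap.1 (Ideal.map_le_iff_le_comap.1 hIq'))
      rw [← hcomap]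
      exact Ideal.comap_mono (hx ▸ Ideal.comap_mono hxq')
    have h3 : r0.comap (algebraMap A R0) = q0.asIdeal := le_antisymm h1 (hq₀.2 ⟨hr0.comap _, h2⟩ h1)
    change r0 = _
    exact ((IsLocalization.map_under q0.asIdeal.primeCompl R0 r0).symm.trans
      (congrArg (Ideal.map (algebraMap A R0)) h3)).trans Localization.AtPrime.map_eq_maximalIdeal

end Groth.Agent.S8796
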