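import Groth.Statements.S1740
import Groth.Agent.LocCoh.TorLES
import Mathlib.LinearAlgebra.TensorProduct.Pi
import Mathlib.LinearAlgebra.Finsupp.LinearCombination
import Mathlib.RingTheory.Finiteness.Basic

set_option autoImplicit false
universe u
open CategoryTheory
attribute [local instance] HasDerivedCategory.standard
open LocCoh

namespace Groth.Agent.S1740

open CategoryTheory MonoidalCategory TensorProduct Groth.Agent.LocCoh.Tor in
theorem main {R : Type u} [CommRing R] {M M' : Type u} [AddCommGroup M] [Module R M] [AddCommGroup M']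
    [Module R M'] (α : M →ₗ[R] M') {a b : ℕ} (π : (Fin a → R) →ₗ[R] M) (hπ : Function.Surjective π)
    (d : (Fin b → R) →ₗ[R] (Fin a → R)) (hd : LinearMap.range d = LinearMap.ker π)
    (h : ∀ (N : Type u) [AddCommGroup N] [Module R N],
      ((CategoryTheory.Tor (ModuleCat.{u} R) 1).map (ModuleCat.ofHom α)).app (ModuleCat.of R N) = 0) :
    ∃ g : M →ₗ[R] (M' →₀ R), α = Finsupp.linearCombination R (id : M' → M') ∘ₗ g := by
  classical
  let π' : (M' →₀ R) →ₗ[R] M' := Finsupp.linearCombination R (id : M' → M')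
  have hπ' : Function.Surjective π' := fun x => ⟨Finsupp.single x 1, by simp [π']⟩
  obtain ⟨l, hl⟩ := Module.projective_lifting_property π' (α ∘ₗ π) hπ'
  have hdk : ∀ z, d z ∈ LinearMap.ker π := fun z => hd ▸ LinearMap.mem_range_self d z
  have hlk : ∀ z ∈ LinearMap.ker π, l z ∈ LinearMap.ker π' := fun z hz => by
    rw [LinearMap.mem_ker, ← LinearMap.comp_apply, hl, LinearMap.comp_apply, LinearMap.mem_ker.mp hz, map_zero]
  let lK : LinearMap.ker π →ₗ[R] LinearMap.ker π' := l.restrict hlk
  let k : Fin b → LinearMap.ker π := fun i => ⟨d (Pi.single i 1), hdk _⟩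
  -- the transpose
  let D : (Fin a → R) →ₗ[R] (Fin b → R) := LinearMap.pi fun i => Fintype.linearCombination R (d (Pi.single i 1))
  have hD : ∀ j i, D (Pi.single j 1) i = d (Pi.single i 1) j := fun j i => by
    show Fintype.linearCombination R (d (Pi.single i 1)) (Pi.single j 1) = _
    rw [Fintype.linearCombination_apply_single, one_smul]
  let N := (Fin b → R) ⧸ LinearMap.range D
  let ε : Fin b → N := fun i => Submodule.Quotient.mk (Pi.single i 1)
  let u : LinearMap.ker π ⊗[R] N := ∑ i, k i ⊗ₜ[R] ε i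
  have hu : (LinearMap.ker π).subtype.rTensor N u = 0 := by
    rw [map_sum]
    have e : ∀ i, ((k i : Fin a → R) ⊗ₜ[R] ε i) = ∑ j, (Pi.single j 1 : Fin a → R) ⊗ₜ[R] (d (Pi.single i 1) j • ε i) := by
      intro i
      conv_lhs => rw [show (k i : Fin a → R) = d (Pi.single i 1) from rfl, pi_eq_sum_univ' (d (Pi.single i 1))]
      rw [TensorProduct.sum_tmul]
      exact Finset.sum_congr rfl fun j _ => TensorProduct.smul_tmul _ _ _
    simp only [LinearMap.rTensor_tmul, Submodule.subtype_apply, e]
    rw [Finset.sum_comm]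
    refine Finset.sum_eq_zero fun j _ => ?_
    rw [← TensorProduct.tmul_sum]
    convert! TensorProduct.tmul_zero N (Pi.single j 1 : Fin a → R) using 2
    rw [show ∑ i, d (Pi.single i 1) j • ε i = Submodule.Quotient.mk (D (Pi.single j 1)) from ?_]
    · exact (Submodule.Quotient.mk_eq_zero _).mpr (LinearMap.mem_range_self D _)
    · rw [pi_eq_sum_univ' (D (Pi.single j 1))]
      simp only [ε, hD, ← Submodule.mkQ_apply, map_sum, map_smul]
  -- `u` comes from `Tor₁(M, N)`
  have hu0 : lK.rTensor N u = 0 := by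
    let NN := ModuleCat.of R N
    have hS := LinearMap.shortExact_shortComplexKer hπ
    have hS' := LinearMap.shortExact_shortComplexKer hπ'
    let ψ : π.shortComplexKer ⟶ π'.shortComplexKer :=
      { τ₁ := ModuleCat.ofHom lK
        τ₂ := ModuleCat.ofHom l
        τ₃ := ModuleCat.ofHom α
        comm₁₂ := ModuleCat.hom_ext (LinearMap.ext fun z => rfl)
        comm₂₃ := ModuleCat.hom_ext hl }
    obtain ⟨y, hy⟩ := (t0 π.shortComplexKer.X₁ NN).toLinearEquiv.surjective u
    have hy0 : (tf π.shortComplexKer.f 0 NN).hom y = 0 := by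
      apply (t0 π.shortComplexKer.X₂ NN).toLinearEquiv.injective
      refine (congrArg (fun w => w.hom y) (t0_naturality_left π.shortComplexKer.f NN)).trans ?_
      refine (congrArg (fun w => (π.shortComplexKer.f ▷ NN).hom w) hy).trans ?_
      exact hu.trans (map_zero _).symm
    obtain ⟨x, hx⟩ := (tor_exact₁ hS 0 NN y).mp hy0
    have hαx : (tf ψ.τ₃ 1 NN).hom x = 0 := congrArg (fun w => w.hom x) (h N)
    have hy' : (tf ψ.τ₁ 0 NN).hom y = 0 := by
      rw [← hx]
      refine (congrArg (fun w => w.hom x) (torδ_naturality_left hS hS' ψ 0 NN)).trans ?_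
      exact (congrArg (fun w => (torδ hS' 0 NN).hom w) hαx).trans (map_zero _)
    refine (congrArg (fun w => (ψ.τ₁ ▷ NN).hom w) hy).symm.trans ?_
    refine (congrArg (fun w => w.hom y) (t0_naturality_left ψ.τ₁ NN)).symm.trans ?_
    exact (congrArg (fun w => (t0 π'.shortComplexKer.X₁ NN).hom.hom w) hy').trans (map_zero _)
  have hex := lTensor_exact (LinearMap.ker π') (LinearMap.exact_map_mkQ_range D) (Submodule.mkQ_surjective _)
  obtain ⟨z, hz⟩ := (hex (∑ i, lK (k i) ⊗ₜ[R] (Pi.single i 1 : Fin b → R))).mp (by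
    rw [← hu0, map_sum, map_sum]
    rfl)
  let s : Fin a → LinearMap.ker π' := TensorProduct.piScalarRight R R _ (Fin a) z
  have hzs : z = ∑ j, s j ⊗ₜ[R] (Pi.single j 1 : Fin a → R) := by
    apply (TensorProduct.piScalarRight R R _ (Fin a)).injective
    rw [map_sum]
    refine funext fun j => ?_
    rw [Finset.sum_apply, Finset.sum_eq_single j (fun i _ hij => ?_) (by simp)]
    · simp [s]
    · simp [Pi.single_eq_of_ne hij.symm]
  have hcoord : ∀ i, lK (k i) = ∑ j, d (Pi.single i 1) j • s j := fun i => by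
    have e := congrArg (fun w => TensorProduct.piScalarRight R R _ (Fin b) w i) hz
    rw [hzs] at e
    simp only [map_sum, LinearMap.lTensor_tmul, TensorProduct.piScalarRight_apply,
      TensorProduct.piScalarRightHom_tmul, Finset.sum_apply, hD] at e
    rw [e, Finset.sum_eq_single i (fun c _ hc => by rw [Pi.single_eq_of_ne hc.symm, zero_smul]) (by simp),
      Pi.single_eq_same, one_smul]
  let ls : (Fin a → R) →ₗ[R] (M' →₀ R) := l - (LinearMap.ker π').subtype ∘ₗ Fintype.linearCombination R s
  have hls : LinearMap.ker π ≤ LinearMap.ker ls := by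
    rw [← hd, LinearMap.range_le_ker_iff]
    refine LinearMap.pi_ext' fun i => LinearMap.ext_ring ?_
    show l (d (Pi.single i 1)) - ((Fintype.linearCombination R s (d (Pi.single i 1)) : LinearMap.ker π') : M' →₀ R) = 0
    rw [Fintype.linearCombination_apply, ← hcoord i]
    exact sub_self _
  refine ⟨(Submodule.liftQ _ ls hls) ∘ₗ (π.quotKerEquivOfSurjective hπ).symm.toLinearMap, ?_⟩
  refine LinearMap.ext fun m => ?_
  obtain ⟨w, rfl⟩ := hπ m
  have e : (π.quotKerEquivOfSurjective hπ).symm (π w) = Submodule.Quotient.mk w := by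
    rw [LinearEquiv.symm_apply_eq]; rfl
  show α (π w) = π' (Submodule.liftQ _ ls hls ((π.quotKerEquivOfSurjective hπ).symm (π w)))
  rw [e]
  show α (π w) = π' (l w - ((Fintype.linearCombination R s w : LinearMap.ker π') : M' →₀ R))
  rw [map_sub, LinearMap.mem_ker.mp (Fintype.linearCombination R s w).2, sub_zero, ← LinearMap.comp_apply π', hl]
  rfl

/-- Let α : M → M' be a map of R-modules with M finitely presented such that the induced map Tor_1(M, N)
→ Tor_1(M', N) is zero for every R-module N. Then α is the composite of a map from M into a free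
R-module and a map from that free module to M'. -/
theorem result (R : Type u) [CommRing R] (M M' : Type u) [AddCommGroup M] [Module R M] [Module.FinitePresentation R M] [AddCommGroup M'] [Module R M'] (α : M →ₗ[R] M') (h : ∀ (N : Type u) [AddCommGroup N] [Module R N], ((CategoryTheory.Tor (ModuleCat.{u} R) 1).map (ModuleCat.ofHom α)).app (ModuleCat.of R N) = 0) : ∃ (ι : Type u) (g : M →ₗ[R] (ι →₀ R)) (h : (ι →₀ R) →ₗ[R] M'), α = h ∘ₗ g := by
  obtain ⟨a, K, e, hK⟩ := Module.FinitePresentation.exists_fin R M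
  obtain ⟨b, k, hk⟩ := Submodule.fg_iff_exists_fin_generating_family.mp hK
  have hd : LinearMap.range (Fintype.linearCombination R k) = LinearMap.ker (e.symm.toLinearMap ∘ₗ K.mkQ) := by
    rw [Fintype.range_linearCombination, hk, LinearMap.ker_comp_of_ker_eq_bot _ e.symm.ker, Submodule.ker_mkQ]
  obtain ⟨g, hg⟩ := main α (e.symm.toLinearMap ∘ₗ K.mkQ) (e.symm.surjective.comp K.mkQ_surjective)
    (Fintype.linearCombination R k) hd h
  exact ⟨M', g, _, hg⟩

end Groth.Agent.S1740
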