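import Groth.Statements.S6060
import Groth.Agent.DiagRig.LeNhd
import Groth.Agent.DiagRig.SubTransporter
-- import your own Groth.Agent.* helpers here

set_option autoImplicit false
open CategoryTheory MonoidalCategory CartesianMonoidalCategory MonObj GrpObj AlgebraicGeometry
universe u
open SGA3x

namespace Groth.Agent.S6060

/-- Let G be an S-group, suppose S locally Noetherian or G of finite presentation over S, and let i₁ :
H₁ ⟶ G, i₂ : H₂ ⟶ G be two sub-group-schemes (homomorphisms which are immersions) of multiplicative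
type and of finite type. Let s ∈ S be a point such that the fibre (H₁)_s is central in G_s (every
point of G_s commutes with every point of (H₁)_s) and (H₁)_s = (H₂)_s as subgroups of G_s (an
isomorphism of the fibres compatible with the inclusions). Then there is an open neighbourhood U of
s such that H₁|_U = H₂|_U as subgroups of G|_U. -/
theorem result {S : Scheme.{u}} (G H₁ H₂ : Over S) [GrpObj G] [GrpObj H₁] [GrpObj H₂]
    (hG : IsLocallyNoetherian S ∨ (LocallyOfFinitePresentation G.hom ∧ QuasiCompact G.hom ∧ QuasiSeparated G.hom))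
    (h₁ : SGA3x.IsMultTypeFT H₁) (h₂ : SGA3x.IsMultTypeFT H₂)
    (i₁ : H₁ ⟶ G) [IsMonHom i₁] [IsImmersion i₁.left] (i₂ : H₂ ⟶ G) [IsMonHom i₂] [IsImmersion i₂.left] (s : S)
    (hc : ∀ (X : Over (Spec (S.residueField s))) (g : X ⟶ Red.bc (S.fromSpecResidueField s) G)
      (h : X ⟶ Red.bc (S.fromSpecResidueField s) H₁),
      g * (h ≫ (Over.pullback (S.fromSpecResidueField s)).map i₁) = (h ≫ (Over.pullback (S.fromSpecResidueField s)).map i₁) * g)
    (hs : ∃ ψ : Red.bc (S.fromSpecResidueField s) H₁ ≅ Red.bc (S.fromSpecResidueField s) H₂,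
      ψ.hom ≫ (Over.pullback (S.fromSpecResidueField s)).map i₂ = (Over.pullback (S.fromSpecResidueField s)).map i₁) :
    ∃ U : S.Opens, s ∈ U ∧ ∃ ψ : Red.bc U.ι H₁ ≅ Red.bc U.ι H₂,
      ψ.hom ≫ (Over.pullback U.ι).map i₂ = (Over.pullback U.ι).map i₁ := by
  haveI : Mono i₁ := Over.mono_of_mono_left i₁
  haveI : Mono i₂ := Over.mono_of_mono_left i₂
  have hl : ∀ (A B : Over S) [GrpObj A] [GrpObj B] (a : A ⟶ G) (b : B ⟶ G) [IsImmersion b.left],
      SGA3x.IsMultTypeFT A → SGA3x.IsMultTypeFT B →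
      LocallyOfFinitePresentation (CategoryTheory.Limits.pullback.fst a.left b.left) := by
    intro A B _ _ a b _ hA hB
    rcases hG with hN | ⟨hlfp, -, -⟩
    · have := hN
      have := Groth.Agent.DiagRig.multType_locallyOfFiniteType A hA
      have : IsLocallyNoetherian A.left := LocallyOfFiniteType.isLocallyNoetherian A.hom
      have : IsImmersion (CategoryTheory.Limits.pullback.fst a.left b.left) :=
        MorphismProperty.pullback_fst _ _ inferInstance
      have : LocallyOfFiniteType (CategoryTheory.Limits.pullback.fst a.left b.left) := inferInstance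
      exact LocallyOfFinitePresentation.iff_locallyOfFiniteType.mpr this
    · have := hlfp
      have := Groth.Agent.DiagRig.lfp_left_of_multType b hB
      exact MorphismProperty.pullback_fst _ _ this
  obtain ⟨ψ, hψ⟩ := hs
  have hcen₁ : ∀ (X : Over S), (∃ z : X.left ⟶ Spec (S.residueField s), z ≫ (S.fromSpecResidueField s) = X.hom) →
      ∀ (g : X ⟶ G) (h : X ⟶ H₁), g * (h ≫ i₁) = (h ≫ i₁) * g := by
    rintro X ⟨z, hz⟩ g h
    let e : (Over.map (S.fromSpecResidueField s)).obj (Over.mk z) ≅ X := Over.isoMk (Iso.refl _) ((Category.id_comp _).trans hz.symm)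
    have h1 := congrArg (Groth.Agent.DiagRig.bcTr (S.fromSpecResidueField s)) (hc (Over.mk z) (Groth.Agent.DiagRig.bcUn (S.fromSpecResidueField s) (e.hom ≫ g))
      (Groth.Agent.DiagRig.bcUn (S.fromSpecResidueField s) (e.hom ≫ h)))
    simp only [Groth.Agent.DiagRig.bcTr_mul, Groth.Agent.DiagRig.bcTr_map, Groth.Agent.DiagRig.bcTr_bcUn,
      Category.assoc, ← MonObj.comp_mul] at h1
    exact (cancel_epi e.hom).mp h1
  have hle₁ : Groth.Agent.DiagRig.Le i₁ i₂ (S.fromSpecResidueField s) := Groth.Agent.DiagRig.le_of_iso i₁ i₂ ψ.hom hψ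
  have hle₂ : Groth.Agent.DiagRig.Le i₂ i₁ (S.fromSpecResidueField s) :=
    Groth.Agent.DiagRig.le_of_iso i₂ i₁ ψ.inv (by rw [Iso.inv_comp_eq]; exact hψ.symm)
  have hcen₂ : ∀ (X : Over S), (∃ z : X.left ⟶ Spec (S.residueField s), z ≫ (S.fromSpecResidueField s) = X.hom) →
      ∀ (g : X ⟶ G) (h : X ⟶ H₂), g * (h ≫ i₂) = (h ≫ i₂) * g := by
    intro X hX g h
    obtain ⟨y, hy⟩ := hle₂ X h hX
    rw [← hy]
    exact hcen₁ X hX g y
  obtain ⟨O₁, hO₁, hL₁⟩ := Groth.Agent.DiagRig.exists_nhd_le_of_fibre i₁ i₂ h₁ h₂ (hl H₁ H₂ i₁ i₂ h₁ h₂) s hcen₁ hle₁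
  obtain ⟨O₂, hO₂, hL₂⟩ := Groth.Agent.DiagRig.exists_nhd_le_of_fibre i₂ i₁ h₂ h₁ (hl H₂ H₁ i₂ i₁ h₂ h₁) s hcen₂ hle₂
  refine ⟨O₁ ⊓ O₂, ⟨hO₁, hO₂⟩, Groth.Agent.DiagRig.exists_iso_of_le i₁ i₂ ?_ ?_⟩
  · exact (hL₁.comp i₁ i₂ (S.homOfLE inf_le_left)).of_eq i₁ i₂ (Scheme.homOfLE_ι _ _)
  · exact (hL₂.comp i₂ i₁ (S.homOfLE inf_le_right)).of_eq i₂ i₁ (Scheme.homOfLE_ι _ _)

end Groth.Agent.S6060
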