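import Groth.Statements.S0023
import Groth.Agent.ProjTwist.Pn.Coh
import Groth.Agent.ProjTwist.Zero

set_option autoImplicit false
universe u
open Coherent

namespace Groth.Agent.S0023

open AlgebraicGeometry in
/-- Special case of the twist d = 0 in positive degree: H^q(P^n_R, O) = 0 for all q > 0 and any ring R.
(The full statement computes all H^q(P^n_R, O(d)); only the untwisted part is stated here.) -/
theorem result (n : ℕ) (R : Type u) [CommRing R]
    (q : ℕ) (hq : 0 < q) :
    Subsingleton (Coh.HH (CohB1.ProjSpace n R) (Coh.structureModule (CohB1.ProjSpace n R)) q) := by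
  obtain ⟨q, rfl⟩ := Nat.exists_eq_add_of_le' hq
  have := Groth.Agent.ProjTwist.Pn.subsingleton_twist (n := n) (R := R) 0 q (Or.inr (by omega))
  let e := (SheafOfModules.toSheaf (CohB1.ProjSpace n R).ringCatSheaf).mapIso
    (Groth.Agent.ProjTwist.twistZeroIso (CohB1.polyGrading n R))
  exact @Equiv.subsingleton _ _
    ((CategoryTheory.Sheaf.functorH _ (q + 1)).mapIso e).addCommGroupIsoToAddEquiv.toEquiv this

end Groth.Agent.S0023
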