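import Groth.Statements.S18738
import Groth.Agent.ModPairLib.Image
-- import your own Groth.Agent.* helpers here

set_option autoImplicit false
universe u
open CategoryTheory CategoryTheory.Limits AlgebraicGeometry TopologicalSpace
open ModPair

namespace Groth.Agent.S18738

open Groth.Agent.ModPairLib
/-- In the category of modulus pairs and ambient morphisms, the class Σ of abstract admissible blow-ups
(minimal, proper, an isomorphism over the interior of the target) admits a calculus of right
fractions: it contains the identities and is stable under composition; every pair X' ⟶ X ⟵ Y with X'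
⟶ X in Σ can be completed to a commutative square with a morphism Y' ⟶ Y in Σ; and two ambient
morphisms f, g : X ⟶ Y equalized by some Y ⟶ Z in Σ are equalized by some X' ⟶ X in Σ. -/
theorem result :
    (ModPair.Pair.admBlowup.{u}).HasRightCalculusOfFractions := by
  exact
    { id_mem := fun X => ⟨(Scheme.IdealSheafData.comap_id X.mod).symm,
        inferInstanceAs (IsProper (𝟙 X.total)),
        inferInstanceAs (IsIso ((𝟙 X.total) ∣_ ModPair.interior X.mod))⟩
      comp_mem := by
        rintro X Y Z f g ⟨hf₁, hf₂, hf₃⟩ ⟨hg₁, hg₂, hg₃⟩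
        refine ⟨?_, inferInstanceAs (IsProper (f.hom ≫ g.hom)), ?_⟩
        · show X.mod = Z.mod.comap (f.hom ≫ g.hom)
          rw [Scheme.IdealSheafData.comap_comp, ← hg₁, ← hf₁]
        · show IsIso ((f.hom ≫ g.hom) ∣_ ModPair.interior Z.mod)
          have e : g.hom ⁻¹ᵁ ModPair.interior Z.mod = ModPair.interior Y.mod := by
            rw [← Dense.interior_comap, ← hg₁]
          have h₁ : IsIso (f.hom ∣_ g.hom ⁻¹ᵁ ModPair.interior Z.mod) := by rw [e]; exact hf₃
          rw [morphismRestrict_comp]
          exact IsIso.comp_isIso' h₁ hg₃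
      exists_rightFraction := by
        intro X Y φ
        obtain ⟨f, s, hs⟩ := φ
        rename_i Z
        obtain ⟨hs₁, hs₂, hs₃⟩ := hs
        let P : Scheme.{u} := pullback f.hom s.hom
        let p : P ⟶ X.total := pullback.fst f.hom s.hom
        let U : P.Opens := p ⁻¹ᵁ ModPair.interior X.mod
        have hU : IsAffineHom U.ι := Dense.isAffineHom_preimage X.isEffCartier p
        let X' : ModPair.Pair.{u} := ⟨U.ι.image, X.mod.comap (U.ι.imageι ≫ p),
          Image.isEffCartierIdeal_comap_image X.isEffCartier p U.ι fun v => v.2⟩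
        let t : X' ⟶ X := ⟨U.ι.imageι ≫ p, le_refl _⟩
        have hw : (U.ι.imageι ≫ p) ≫ f.hom = (U.ι.imageι ≫ pullback.snd f.hom s.hom) ≫ s.hom := by
          simp only [Category.assoc, p, pullback.condition]
        let k : X' ⟶ Y := ⟨U.ι.imageι ≫ pullback.snd f.hom s.hom, by
          show X'.mod ≤ Y.mod.comap _
          rw [show Y.mod = Z.mod.comap s.hom from hs₁, ← Scheme.IdealSheafData.comap_comp,
            ← hw, Scheme.IdealSheafData.comap_comp _ _ f.hom]
          exact Scheme.IdealSheafData.comap_mono _ f.cond⟩
        refine ⟨MorphismProperty.RightFraction.mk t ⟨rfl, ?_, ?_⟩ k, ModPair.Pair.Hom.ext hw⟩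
        · show IsProper (U.ι.imageι ≫ p)
          have : IsProper s.hom := hs₂
          have : IsProper p := inferInstanceAs (IsProper (pullback.fst f.hom s.hom))
          infer_instance
        · show IsIso ((U.ι.imageι ≫ p) ∣_ ModPair.interior X.mod)
          have : IsIso (U.ι.imageι ∣_ p ⁻¹ᵁ ModPair.interior X.mod) :=
            Image.isIso_imageι_restrict U
          let b := X.total.homOfLE (Dense.interior_le f.cond) ≫ (f.hom ∣_ ModPair.interior Z.mod)
          have hj : (ModPair.interior X.mod).ι ≫ f.hom = b ≫ (ModPair.interior Z.mod).ι := by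
            simp only [b, Category.assoc, morphismRestrict_ι, Scheme.homOfLE_ι_assoc]
          have h₂ : IsIso (p ∣_ ModPair.interior X.mod) := by
            have H := (isPullback_morphismRestrict p (ModPair.interior X.mod)).flip.paste_horiz
              (IsPullback.of_hasPullback f.hom s.hom).flip
            rw [hj] at H
            have H' := IsPullback.of_right' H
              (isPullback_morphismRestrict s.hom (ModPair.interior Z.mod)).flip
            exact MorphismProperty.of_isPullback (P := MorphismProperty.isomorphisms Scheme.{u}) H' hs₃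
          rw [morphismRestrict_comp]
          exact IsIso.comp_isIso' (Image.isIso_imageι_restrict U) h₂
      ext := by
        rintro X Y Z f₁ f₂ s ⟨hs₁, hs₂, hs₃⟩ h
        refine ⟨X, 𝟙 X, ⟨(Scheme.IdealSheafData.comap_id X.mod).symm,
          inferInstanceAs (IsProper (𝟙 X.total)),
          inferInstanceAs (IsIso ((𝟙 X.total) ∣_ ModPair.interior X.mod))⟩, ?_⟩
        rw [Category.id_comp, Category.id_comp]
        have hh : f₁.hom ≫ s.hom = f₂.hom ≫ s.hom := congrArg ModPair.Pair.Hom.hom h
        have := Dense.isSchemeTheoreticallyDominant_interior X.isEffCartier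
        refine ModPair.Pair.Hom.ext (Dense.hom_ext hh (ModPair.interior X.mod).ι ?_)
        have hle : ∀ f : X ⟶ Y, ModPair.interior X.mod ≤
            f.hom ⁻¹ᵁ (s.hom ⁻¹ᵁ ModPair.interior Z.mod) := fun f => by
          rw [← Dense.interior_comap s.hom, ← show Y.mod = Z.mod.comap s.hom from hs₁]
          exact Dense.interior_le f.cond
        rw [← Scheme.Hom.resLE_comp_ι f₁.hom (hle f₁), ← Scheme.Hom.resLE_comp_ι f₂.hom (hle f₂)]
        congr 1
        rw [← cancel_mono (s.hom ∣_ ModPair.interior Z.mod), ← cancel_mono (ModPair.interior Z.mod).ι]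
        simp only [Category.assoc, morphismRestrict_ι, Scheme.Hom.resLE_comp_ι_assoc, hh] }

end Groth.Agent.S18738
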