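import Groth.Statements.S18745
import Groth.Agent.ModPairLib.LimitHom
import Groth.Agent.ModPairLib.LimitIdealLe
import Groth.Agent.ModPairLib.Divide
-- import your own Groth.Agent.* helpers here

set_option autoImplicit false
universe u
open CategoryTheory CategoryTheory.Limits AlgebraicGeometry TopologicalSpace
open ModPair

namespace Groth.Agent.S18745

/-- Let S be a quasi-compact quasi-separated scheme, (X_i, I_i) a cofiltered system of S-schemes, all
quasi-compact and quasi-separated, carrying quasi-coherent ideal sheaves of effective Cartier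
divisors, with affine and minimal transition morphisms, and let X be its limit (as an S-scheme) with
projections π_i and modulus I = I_i.comap π_i for every i. Let Y ⟶ S be locally of finite type with
Y quasi-compact and quasi-separated, carrying the ideal sheaf I_Y of an effective Cartier divisor.
Assume that either every transition morphism is scheme-theoretically dominant, or Y ⟶ S is locally
of finite presentation. Then every S-morphism φ : X ⟶ Y satisfying the modulus condition I ≤
I_Y.comap φ descends: for some i there is an S-morphism φ_i : X_i ⟶ Y satisfying the modulus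
condition I_i ≤ I_Y.comap φ_i with π_i ≫ φ_i = φ. (The base is taken to be a scheme, that is the
base modulus pair with empty modulus; morphisms over an arbitrary base modulus pair are among
these.) -/
theorem result {S : Scheme.{u}}
    [CompactSpace S] [QuasiSeparatedSpace S] {I : Type u} [SmallCategory I] [IsCofiltered I]
    (D : I ⥤ Over S) (c : Cone D) (hc : IsLimit c)
    [∀ (i j : I) (t : i ⟶ j), IsAffineHom (D.map t).left]
    [∀ i, CompactSpace (D.obj i).left] [∀ i, QuasiSeparatedSpace (D.obj i).left]
    (J : ∀ i, (D.obj i).left.IdealSheafData) (hJ : ∀ i, BlowUp.IsEffCartierIdeal (J i))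
    (hmin : ∀ (i j : I) (t : i ⟶ j), ModPair.IsMinimal (J i) (J j) (D.map t).left)
    (IX : c.pt.left.IdealSheafData) (hIX : ∀ i, IX = (J i).comap (c.π.app i).left)
    (Y : Over S) [CompactSpace Y.left] [QuasiSeparatedSpace Y.left] [LocallyOfFiniteType Y.hom]
    (IY : Y.left.IdealSheafData) (hY : BlowUp.IsEffCartierIdeal IY)
    (h : (∀ (i j : I) (t : i ⟶ j), IsSchemeTheoreticallyDominant (D.map t).left) ∨
      LocallyOfFinitePresentation Y.hom)
    (φ : c.pt ⟶ Y) (hφ : ModPair.IsAmbient IX IY φ.left) :
    ∃ (i : I) (φi : D.obj i ⟶ Y), ModPair.IsAmbient (J i) IY φi.left ∧ c.π.app i ≫ φi = φ := by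
  obtain ⟨hl⟩ := Groth.Agent.LimLib.isLimitForget hc
  let G := D ⋙ Over.forget S
  have : ∀ (i j : I) (t : i ⟶ j), IsAffineHom (G.map t) := fun i j t =>
    inferInstanceAs (IsAffineHom (D.map t).left)
  have : ∀ i, CompactSpace (G.obj i) := fun i => inferInstanceAs (CompactSpace (D.obj i).left)
  have : ∀ i, QuasiSeparatedSpace (G.obj i) := fun i =>
    inferInstanceAs (QuasiSeparatedSpace (D.obj i).left)
  obtain ⟨i, φi, hφi⟩ : ∃ (i : I) (φi : D.obj i ⟶ Y), c.π.app i ≫ φi = φ := by
    obtain hd | hfp := h
    · exact Groth.Agent.ModPairLib.LimitHom.exists_factor D c hc Y φ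
    · let t : G ⟶ (Functor.const I).obj S := { app := fun i => (D.obj i).hom }
      obtain ⟨i, g, hg, hgf⟩ := Scheme.exists_π_app_comp_eq_of_locallyOfFinitePresentation G t Y.hom
        ((Over.forget S).mapCone c) hl φ.left (by
          ext i
          exact (Over.w (c.π.app i)).trans (Over.w φ).symm)
      exact ⟨i, Over.homMk g hgf, Over.OverMorphism.ext hg⟩
  obtain ⟨j, t, ht⟩ := Groth.Agent.ModPairLib.LimitIdealLe.exists_comap_le G
    ((Over.forget S).mapCone c) hl i (J i) (IY.comap φi.left)
    (Groth.Agent.ModPairLib.Divide.isFiniteTypeIdeal_of_effCartier (hJ i)) (by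
      show (J i).comap (c.π.app i).left ≤ (IY.comap φi.left).comap (c.π.app i).left
      rw [← hIX i, ← Scheme.IdealSheafData.comap_comp, ← Over.comp_left, hφi]
      exact hφ)
  refine ⟨j, D.map t ≫ φi, ?_, ?_⟩
  · show J j ≤ IY.comap _
    rw [Over.comp_left, Scheme.IdealSheafData.comap_comp, hmin j i t]
    exact ht
  · rw [← Category.assoc, c.w, hφi]

end Groth.Agent.S18745
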