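import Groth.Statements.S18731
import Groth.Agent.IdealSh.EffCartier
-- import your own Groth.Agent.* helpers here

set_option autoImplicit false
universe u
open CategoryTheory CategoryTheory.Limits AlgebraicGeometry TopologicalSpace
open ModPair

namespace Groth.Agent.S18731

open Groth.Agent.IdealSh
/-- Let I on X and J on Y be quasi-coherent ideal sheaves of effective Cartier divisors and f : X ⟶ Y a
morphism satisfying the modulus condition I ≤ J.comap f (the closed subscheme J ×_Y X of X lies
inside the closed subscheme cut out by I). Then the pull-back of the divisor of J along f is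
defined: J.comap f is the ideal sheaf of an effective Cartier divisor on X. -/
theorem result {X Y : Scheme.{u}} (I : X.IdealSheafData)
    (J : Y.IdealSheafData) (hI : BlowUp.IsEffCartierIdeal I) (hJ : BlowUp.IsEffCartierIdeal J)
    (f : X ⟶ Y) (hf : ModPair.IsAmbient I J f) : BlowUp.IsEffCartierIdeal (J.comap f) := by
  intro x
  obtain ⟨U, hxU, b, -, hb⟩ := hJ (f x)
  obtain ⟨V, hxV, hle, a, ha, ha'⟩ := EffCartier.exists_equation hI x (f ⁻¹ᵁ U.1) hxU
  have e := Comap.ideal_comap_span_singleton J f U V hle hb
  refine ⟨V, hxV, _, ?_, e⟩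
  have h1 : a ∈ Ideal.span {(f.appLE U.1 V.1 hle).hom b} := by
    rw [← e]
    exact hf V (ha'.ge (Ideal.mem_span_singleton_self a))
  obtain ⟨c, rfl⟩ := Ideal.mem_span_singleton'.1 h1
  exact (mul_mem_nonZeroDivisors.mp ha).2

end Groth.Agent.S18731
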