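import Groth.Statements.S3089
import Groth.Agent.SiteCoh.Free
import Mathlib.CategoryTheory.Limits.Shapes.Pullback.IsPullback.Basic

set_option autoImplicit false
universe u
open CategoryTheory
open CohSite

namespace Groth.Agent.S3089

open Opposite in
/-- For abelian sheaves on the topos of sheaves of sets on a small site: let F be an abelian sheaf which
is totally acyclic, i.e. H^q(X, F) = 0 for every sheaf of sets X and every q > 0, and let Y -> X be
a monomorphism of sheaves of sets. Then the restriction map H^0(X, F) -> H^0(Y, F) is surjective. -/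
theorem result {C : Type u} [SmallCategory C] {J : GrothendieckTopology C}
    (F : Sheaf J AddCommGrpCat.{u}) (hF : CohCx.IsTotallyAcyclic F) {Y X : Sheaf J (Type u)} (ι : Y ⟶ X) [Mono ι] :
    Function.Surjective ((CohCx.HK0Functor J F).map ι.op) := by
  let Fr := SiteCoh.Free.freePre J
  have : Mono ι.hom := inferInstanceAs (Mono ((sheafToPresheaf J (Type u)).map ι))
  have : Fr.IsLeftAdjoint := (SiteCoh.Free.adj J).isLeftAdjoint
  let m := Fr.map ι.hom
  have : Mono m := by
    have : Mono (Functor.whiskerRight ι.hom AddCommGrpCat.free.{u}) := by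
      rw [NatTrans.mono_iff_mono_app]
      intro V
      exact inferInstanceAs (Mono (AddCommGrpCat.free.{u}.map (ι.hom.app V)))
    exact inferInstanceAs (Mono ((presheafToSheaf J AddCommGrpCat.{u}).map
      (Functor.whiskerRight ι.hom AddCommGrpCat.free.{u})))
  let T : ShortComplex (Sheaf J AddCommGrpCat.{u}) :=
    ShortComplex.mk m (Limits.cokernel.π m) (Limits.cokernel.condition m)
  have hT : T.ShortExact :=
    { exact := ShortComplex.exact_of_g_is_cokernel T (Limits.cokernelIsCokernel m)
      mono_f := inferInstanceAs (Mono m)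
      epi_g := Limits.coequalizer.π_epi }
  have sq : IsPushout m m (Fr.map (Limits.pushout.inl ι.hom ι.hom))
      (Fr.map (Limits.pushout.inr ι.hom ι.hom)) :=
    (IsPushout.of_hasPushout ι.hom ι.hom).map Fr
  let Q := Limits.pushout ι.hom ι.hom
  have := SiteCoh.Free.isIso_freePre_map_of_W J (toSheafify J Q) (J.W_toSheafify _)
  have eQ := (((Abelian.extFunctor (C := Sheaf J AddCommGrpCat.{u}) 1).flip.obj F).mapIso
    (asIso (Fr.map (toSheafify J Q))).op).addCommGroupIsoToAddEquiv
  have h1 : Subsingleton (Abelian.Ext (Fr.obj Q) F 1) :=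
    @Equiv.subsingleton _ _ eQ.symm.toEquiv (hF ((presheafToSheaf J (Type u)).obj Q) 0)
  let r := sq.desc 0 (Limits.cokernel.π m)
    (by rw [Limits.comp_zero, Limits.cokernel.condition])
  let s := Limits.cokernel.desc m
    (Fr.map (Limits.pushout.inr ι.hom ι.hom) - Fr.map (Limits.pushout.inl ι.hom ι.hom))
    (by rw [Preadditive.comp_sub, sq.w, sub_self])
  have hsr : s ≫ r = 𝟙 _ := by
    rw [← cancel_epi (Limits.cokernel.π m), ← Category.assoc, Limits.cokernel.π_desc,
      Preadditive.sub_comp, sq.inl_desc, sq.inr_desc, sub_zero, Category.comp_id]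
  have h2 : ∀ x : Abelian.Ext T.X₃ F 1, x = 0 := fun x => by
    have : (Abelian.Ext.mk₀ s).comp ((Abelian.Ext.mk₀ r).comp x (zero_add 1)) (zero_add 1) = x := by
      rw [← Abelian.Ext.comp_assoc (a₁₂ := 0) _ _ _ (by lia) (by lia) (by lia),
        Abelian.Ext.mk₀_comp_mk₀, hsr, Abelian.Ext.mk₀_id_comp]
    rw [← this]
    erw [h1.elim ((Abelian.Ext.mk₀ r).comp x (zero_add 1)) 0]
    exact Abelian.Ext.comp_zero ..
  intro a
  obtain ⟨x, hx⟩ := Abelian.Ext.contravariant_sequence_exact₁ hT F
    (Abelian.Ext.mk₀ (a : T.X₁ ⟶ F)) (rfl : 1 + 0 = 1) (h2 _)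
  obtain ⟨b, rfl⟩ := (Abelian.Ext.mk₀_bijective T.X₂ F).2 x
  rw [Abelian.Ext.mk₀_comp_mk₀] at hx
  exact ⟨b, (Abelian.Ext.mk₀_bijective T.X₁ F).1 hx⟩

end Groth.Agent.S3089
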