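import Groth.Statements.S17018
-- import your own Groth.Agent.* helpers here

set_option autoImplicit false
universe u
open CategoryTheory CategoryTheory.Limits AlgebraicGeometry
open scoped TensorProduct
open Models

namespace Groth.Agent.S17018

lemma isField_stalk_of_closure_mem_irreducibleComponents {Y : Scheme.{u}} [IsReduced Y] (ξ : Y)
    (hξ : closure ({ξ} : Set Y) ∈ irreducibleComponents Y) : IsField (Y.presheaf.stalk ξ) := by
  have hy : ∀ y : Y, y ⤳ ξ → y = ξ := by
    intro y hy
    have hle : closure ({ξ} : Set Y) ⊆ closure {y} :=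
      closure_minimal (Set.singleton_subset_iff.mpr hy.mem_closure) isClosed_closure
    have heq := hξ.2 isIrreducible_singleton.closure hle
    exact (Specializes.antisymm hy (specializes_iff_mem_closure.mpr
      (heq (subset_closure rfl)))).eq
  have hsub : Subsingleton (Spec (Y.presheaf.stalk ξ)) := by
    refine ⟨fun p q => (Y.fromSpecStalk ξ).isEmbedding.injective ?_⟩
    have hp : ∀ p, (Y.fromSpecStalk ξ) p = ξ := fun p => hy _ (by
      have h1 : (Y.fromSpecStalk ξ) p ∈ Set.range (Y.fromSpecStalk ξ) := ⟨p, rfl⟩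
      rw [Scheme.range_fromSpecStalk] at h1
      exact h1)
    rw [hp p, hp q]
  rw [IsLocalRing.isField_iff_maximalIdeal_eq, eq_bot_iff]
  intro x hx
  have hnil : IsNilpotent x := by
    rw [nilpotent_iff_mem_prime]
    intro J hJ
    have : (⟨J, hJ⟩ : PrimeSpectrum (Y.presheaf.stalk ξ)) = IsLocalRing.closedPoint _ :=
      @Subsingleton.elim _ hsub _ _
    exact (congrArg PrimeSpectrum.asIdeal this).ge hx
  exact hnil.eq_zero

/-- The ring map `R → O_{X,x}` of a morphism to `Spec R`. -/
noncomputable def pointHom {R : Type u} [CommRing R] {X : Scheme.{u}}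
    (f : X ⟶ Spec (CommRingCat.of R)) (x : X) : R →+* X.presheaf.stalk x :=
  (X.presheaf.germ ⊤ x trivial).hom.comp (Coh.toGlobal f)

lemma fromSpecStalk_comp {R : Type u} [CommRing R] {X : Scheme.{u}}
    (f : X ⟶ Spec (CommRingCat.of R)) (x : X) :
    X.fromSpecStalk x ≫ f = Spec.map (CommRingCat.ofHom (pointHom f x)) := by
  have h1 : f = X.toSpecΓ ≫ Spec.map ((Scheme.ΓSpecIso (CommRingCat.of R)).inv ≫ f.appTop) := by
    rw [Spec.map_comp, ← Scheme.toSpecΓ_naturality_assoc, toSpecΓ_SpecMap_ΓSpecIso_inv,
      Category.comp_id]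
  conv_lhs => rw [h1, Scheme.fromSpecStalk_toSpecΓ_assoc, ← Spec.map_comp, Category.assoc]
  rfl

lemma factor_through_stalk {Y : Scheme.{u}} {Q : CommRingCat.{u}} [IsLocalRing Q] (l : Spec Q ⟶ Y)
    (ξ : Y) (h : l (IsLocalRing.closedPoint Q) = ξ) :
    ∃ t : Y.presheaf.stalk ξ ⟶ Q, l = Spec.map t ≫ Y.fromSpecStalk ξ := by
  subst h
  exact ⟨_, (Scheme.Spec_stalkClosedPointTo_fromSpecStalk l).symm⟩

lemma maximalIdeal_stalk_eq (R : Type u) [CommRing R] [IsLocalRing R]
    {X Xs : Scheme.{u}} (f : X ⟶ Spec (CommRingCat.of R))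
    (gs : Xs ⟶ X) (fs : Xs ⟶ Spec (CommRingCat.of (IsLocalRing.ResidueField R)))
    (hs : IsPullback gs fs f (Spec.map (CommRingCat.ofHom (IsLocalRing.residue R))))
    (ξ : Xs) (hfield : IsField (Xs.presheaf.stalk ξ)) :
    IsLocalRing.maximalIdeal (X.presheaf.stalk (gs.base ξ)) =
      Ideal.map (pointHom f (gs.base ξ)) (IsLocalRing.maximalIdeal R) := by
  have hinj : Function.Injective gs := by
    have : IsClosedImmersion gs := MorphismProperty.of_isPullback hs.flip
      (IsClosedImmersion.spec_of_surjective _ IsLocalRing.residue_surjective)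
    exact gs.isClosedEmbedding.injective
  set ψ := pointHom f (gs.base ξ) with hψ
  set σ := gs.stalkMap ξ with hσ
  have hker : IsLocalRing.maximalIdeal (X.presheaf.stalk (gs.base ξ)) = RingHom.ker σ.hom := by
    ext x
    simp only [IsLocalRing.mem_maximalIdeal, mem_nonunits_iff, RingHom.mem_ker]
    constructor
    · intro hx
      by_contra h0
      obtain ⟨b, hb⟩ := hfield.mul_inv_cancel h0
      exact hx (IsUnit.of_map σ.hom x (IsUnit.of_mul_eq_one b hb))
    · intro h0 hx
      have h1 := hx.map σ.hom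
      rw [h0] at h1
      exact not_isUnit_zero h1
  have hs' : gs.stalkMap ξ = σ := rfl
  -- `σ` kills the maximal ideal of `R`
  have hle : Ideal.map ψ (IsLocalRing.maximalIdeal R) ≤ RingHom.ker σ.hom := by
    have h1 : Spec.map σ ≫ Spec.map (CommRingCat.ofHom ψ) =
        Spec.map (CommRingCat.ofHom (pointHom fs ξ)) ≫
          Spec.map (CommRingCat.ofHom (IsLocalRing.residue R)) := by
      have a := fromSpecStalk_comp f (gs.base ξ)
      have b := fromSpecStalk_comp fs ξ
      have c : Spec.map σ ≫ X.fromSpecStalk (gs.base ξ) = Xs.fromSpecStalk ξ ≫ gs :=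
        Scheme.SpecMap_stalkMap_fromSpecStalk gs
      calc _ = Spec.map σ ≫ X.fromSpecStalk (gs.base ξ) ≫ f :=
            congrArg (Spec.map σ ≫ ·) a.symm
        _ = (Spec.map σ ≫ X.fromSpecStalk (gs.base ξ)) ≫ f := (Category.assoc _ _ _).symm
        _ = (Xs.fromSpecStalk ξ ≫ gs) ≫ f := congrArg (· ≫ f) c
        _ = Xs.fromSpecStalk ξ ≫ fs ≫ Spec.map (CommRingCat.ofHom (IsLocalRing.residue R)) :=
            (Category.assoc _ _ _).trans (congrArg (Xs.fromSpecStalk ξ ≫ ·) hs.w)
        _ = (Xs.fromSpecStalk ξ ≫ fs) ≫ Spec.map (CommRingCat.ofHom (IsLocalRing.residue R)) :=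
            (Category.assoc _ _ _).symm
        _ = _ := congrArg (· ≫ Spec.map (CommRingCat.ofHom (IsLocalRing.residue R))) b
    rw [← Spec.map_comp, ← Spec.map_comp] at h1
    have h2 := Spec.map_injective h1
    rw [Ideal.map_le_iff_le_comap]
    intro r hr
    have h3 : σ.hom (ψ r) = (CommRingCat.ofHom (pointHom fs ξ)).hom (IsLocalRing.residue R r) :=
      congrArg (fun m => (ConcreteCategory.hom m) r) h2
    rw [Ideal.mem_comap, RingHom.mem_ker, h3, (IsLocalRing.residue_eq_zero_iff r).mpr hr, map_zero]
  refine le_antisymm ?_ (hle.trans hker.ge)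
  rw [hker]
  set I := Ideal.map ψ (IsLocalRing.maximalIdeal R) with hI
  have hI1 : I ≤ IsLocalRing.maximalIdeal _ := hle.trans hker.ge
  have : Nontrivial (X.presheaf.stalk (gs.base ξ) ⧸ I) :=
    Ideal.Quotient.nontrivial_iff.mpr (ne_top_of_le_ne_top Ideal.IsPrime.ne_top' hI1)
  let Q : CommRingCat.{u} := CommRingCat.of (X.presheaf.stalk (gs.base ξ) ⧸ I)
  have : IsLocalRing Q :=
    IsLocalRing.of_surjective' (Ideal.Quotient.mk I) Ideal.Quotient.mk_surjective
  let q : X.presheaf.stalk (gs.base ξ) ⟶ Q := CommRingCat.ofHom (Ideal.Quotient.mk I)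
  let ψb : IsLocalRing.ResidueField R →+* Q :=
    Ideal.Quotient.lift _ (q.hom.comp ψ) fun r hr =>
      Ideal.Quotient.eq_zero_iff_mem.mpr (Ideal.mem_map_of_mem ψ hr)
  have hfac : CommRingCat.ofHom ψ ≫ q =
      CommRingCat.ofHom (IsLocalRing.residue R) ≫ CommRingCat.ofHom ψb := by
    ext r
    rfl
  have hw : (Spec.map q ≫ X.fromSpecStalk (gs.base ξ)) ≫ f =
      Spec.map (CommRingCat.ofHom ψb) ≫ Spec.map (CommRingCat.ofHom (IsLocalRing.residue R)) := by
    rw [Category.assoc, fromSpecStalk_comp, ← Spec.map_comp, ← Spec.map_comp, hfac]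
  obtain ⟨l, hl, -⟩ := hs.exists_lift _ _ hw
  have hql : IsLocalHom q.hom :=
    IsLocalHom.of_surjective (Ideal.Quotient.mk I) Ideal.Quotient.mk_surjective
  have hlc : l (IsLocalRing.closedPoint Q) = ξ := by
    apply hinj
    rw [← Scheme.Hom.comp_apply, hl, Scheme.Hom.comp_apply]
    exact (congrArg _ (IsLocalRing.comap_closedPoint q.hom)).trans
      Scheme.fromSpecStalk_closedPoint
  obtain ⟨t, rfl⟩ := factor_through_stalk l ξ hlc
  rw [Category.assoc, ← Scheme.SpecMap_stalkMap_fromSpecStalk, ← Spec.map_comp_assoc,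
    cancel_mono] at hl
  have h4 := Spec.map_injective hl
  intro x hx
  have h5 : Ideal.Quotient.mk I x = t.hom (σ.hom x) :=
    (congrArg (fun m => (ConcreteCategory.hom m) x) h4).symm
  rw [RingHom.mem_ker.mp hx, map_zero] at h5
  exact Ideal.Quotient.eq_zero_iff_mem.mp h5

/-- Let R be a discrete valuation ring with algebraically closed residue field and f : X → Spec R a
proper flat morphism whose generic fibre (base change to the fraction field of R) is smooth of
relative dimension 1 and connected and whose special fibre (base change to the residue field) is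
connected and reduced; let ξ be the generic point of an irreducible component of the special fibre
and B a discrete valuation ring given with an isomorphism from the local ring of X at ξ under which
R → B is the map induced by f. Then the maximal ideal of B is the extension of the maximal ideal of
R: a uniformizer of R maps to a uniformizer of B. (The published setting takes everything
essentially of finite type over a field of characteristic zero; the printed argument does not use
this and it is not imposed here.) -/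
theorem result
    (R : Type u) [CommRing R] [IsDomain R] [IsDiscreteValuationRing R]
    [IsAlgClosed (IsLocalRing.ResidueField R)]
    (X : Scheme.{u}) (f : X ⟶ Spec (CommRingCat.of R)) [IsProper f] [Flat f]
    (XK : Scheme.{u}) (gK : XK ⟶ X) (fK : XK ⟶ Spec (CommRingCat.of (FractionRing R)))
    (hK : IsPullback gK fK f (Spec.map (CommRingCat.ofHom (algebraMap R (FractionRing R)))))
    [SmoothOfRelativeDimension 1 fK] [ConnectedSpace XK]
    (Xs : Scheme.{u}) (gs : Xs ⟶ X) (fs : Xs ⟶ Spec (CommRingCat.of (IsLocalRing.ResidueField R)))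
    (hs : IsPullback gs fs f (Spec.map (CommRingCat.ofHom (IsLocalRing.residue R))))
    [ConnectedSpace Xs] [IsReduced Xs]
    (ξ : Xs) (hξ : closure ({ξ} : Set Xs) ∈ irreducibleComponents Xs)
    (B : Type u) [CommRing B] [IsDomain B] [IsDiscreteValuationRing B] [Algebra R B]
    (e : X.presheaf.stalk (gs.base ξ) ≅ CommRingCat.of B)
    (he : e.hom.hom.comp ((X.presheaf.germ ⊤ (gs.base ξ) trivial).hom.comp (Coh.toGlobal f)) =
      algebraMap R B) :
    IsLocalRing.maximalIdeal B = Ideal.map (algebraMap R B) (IsLocalRing.maximalIdeal R) := by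
  change e.hom.hom.comp (pointHom f (gs.base ξ)) = algebraMap R B at he
  rw [← he, ← Ideal.map_map, ← maximalIdeal_stalk_eq R f gs fs hs ξ
    (isField_stalk_of_closure_mem_irreducibleComponents ξ hξ)]
  let e' : X.presheaf.stalk (gs.base ξ) ≃+* B := e.commRingCatIsoToRingEquiv
  ext b
  refine Iff.trans ?_ (Ideal.mem_map_iff_of_surjective e'.toRingHom e'.surjective).symm
  simp only [IsLocalRing.mem_maximalIdeal, mem_nonunits_iff]
  constructor
  · intro hb
    exact ⟨e'.symm b, fun h => hb (by simpa using h.map e'.toRingHom), e'.apply_symm_apply b⟩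
  · rintro ⟨a, ha, rfl⟩ h
    exact ha (by simpa using h.map e'.symm.toRingHom)

end Groth.Agent.S17018
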