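import Groth.Statements.S7603
import Groth.Agent.CurveCoh.Integral
import Groth.Agent.VarBC.Basic
-- import your own Groth.Agent.* helpers here

set_option autoImplicit false
universe u
open CategoryTheory CategoryTheory.Limits AlgebraicGeometry
open Variety

namespace Groth.Agent.S7603

/-- (2) ⇔ (3): let X be a proper scheme over a field k which is geometrically normal (X_K is a normal
scheme for every extension field K of k). Then X is geometrically connected over k exactly when it
is geometrically irreducible over k. (The published statement lists geometric integrality as a
further equivalent condition; given geometric normality it is equivalent to geometric irreducibility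
by a direct argument, so this row omits it.) -/
theorem result (k : Type u) [Field k] (X : Scheme.{u}) [X.Over (Spec (CommRingCat.of k))] [IsProper (X ↘ (Spec (CommRingCat.of k)))]
    (hX : ∀ (K : Type u) [Field K] [Algebra k K], Pi1.IsNormalScheme (Curv2.bc k X K)) :
    GeometricallyConnected (X ↘ (Spec (CommRingCat.of k))) ↔ GeometricallyIrreducible (X ↘ (Spec (CommRingCat.of k))) := by
  refine ⟨fun h ↦ ?_, fun h ↦ Groth.Agent.FBase.BC.geometricallyConnected_of_geometricallyIrreducible _⟩
  refine ⟨geometrically_iff_of_commRing_of_isClosedUnderIsomorphisms.mpr fun K _ _ ↦ ?_⟩
  have : ConnectedSpace ↥(Curv2.bc k X K) :=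
    pullback_of_geometrically h.geometrically_connectedSpace K _
  have : IsLocallyNoetherian (Curv2.bc k X K) :=
    LocallyOfFiniteType.isLocallyNoetherian (Curv2.bcSnd k X K)
  have : CompactSpace (Curv2.bc k X K) :=
    QuasiCompact.compactSpace_of_compactSpace (Curv2.bcSnd k X K)
  have : IsNoetherian (Curv2.bc k X K) := { }
  exact Groth.Agent.CurveCoh.irreducibleSpace_of_domain_stalks _ fun x ↦ (hX K x).1

end Groth.Agent.S7603
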