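import Groth.Statements.S7193
import Groth.Agent.HomSch.Glue
import Mathlib.RingTheory.Finiteness.ModuleFinitePresentation
-- import your own Groth.Agent.* helpers here

set_option autoImplicit false
set_option backward.isDefEq.respectTransparency.types false
universe u
open CategoryTheory AlgebraicGeometry
open FlatMor

namespace Groth.Agent.S7193

open Limits MonoidalCategory CartesianMonoidalCategory

/-- `T ×_S Z` as a product over `S` -/
noncomputable def swapIso {Z S : Scheme.{u}} (g : Z ⟶ S) (T : Over S) :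
    (Over.map g).obj ((Over.pullback g).obj T) ≅ Over.mk g ⊗ T :=
  Over.isoMk (pullbackSymmetry _ _) (by
    show (pullbackSymmetry _ _).hom ≫ pullback.fst g T.hom ≫ g = pullback.snd T.hom g ≫ g
    simp)

theorem swapIso_natural {Z S : Scheme.{u}} (g : Z ⟶ S) {T T' : Over S} (φ : T' ⟶ T) :
    (Over.map g).map ((Over.pullback g).map φ) ≫ (swapIso g T).hom =
      (swapIso g T').hom ≫ (Over.mk g ◁ φ) := by
  refine Over.OverMorphism.ext ?_
  show pullback.lift _ _ _ ≫ (pullbackSymmetry _ _).hom = (pullbackSymmetry _ _).hom ≫ _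
  apply pullback.hom_ext <;> simp [Over.whiskerLeft_left, pullback.map]
  · erw [pullback.lift_snd, pullback.lift_fst]
    exact (pullbackSymmetry_hom_comp_fst _ _).symm
  · erw [pullback.lift_fst, pullback.lift_snd, pullbackSymmetry_hom_comp_snd_assoc]


/-- Let Z, X and S be affine schemes with morphisms Z → S and X → S, and suppose Γ(Z, O_Z) is a finite
free Γ(S, O_S)-module; then the functor Mor_S(Z, X) on schemes over S is represented by some scheme
W over S with W affine. -/
theorem result {Z X S : Scheme.{u}} [IsAffine Z] [IsAffine X] [IsAffine S] (g : Z ⟶ S) (f : X ⟶ S)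
    (hfree : letI := (g.appTop).hom.toAlgebra
      Module.Finite Γ(S, ⊤) Γ(Z, ⊤) ∧ Module.Free Γ(S, ⊤) Γ(Z, ⊤)) :
    ∃ W : Over S, IsAffine W.left ∧ Nonempty ((Flatn.morS g f).RepresentableBy W) := by
  algebraize [g.appTop.hom]
  haveI : Module.Finite Γ(S, ⊤) Γ(Z, ⊤) := hfree.1
  haveI : Module.Free Γ(S, ⊤) Γ(Z, ⊤) := hfree.2
  haveI : Module.FinitePresentation Γ(S, ⊤) Γ(Z, ⊤) := Module.finitePresentation_of_projective _ _
  haveI : IsFinite (Over.mk g).hom :=
    (MorphismProperty.arrow_mk_iso_iff @IsFinite (arrowIsoSpecΓOfIsAffine g)).2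
      ((IsFinite.SpecMap_iff _).2 (RingHom.finite_algebraMap.2 inferInstance))
  haveI : Flat (Over.mk g).hom :=
    (HasRingHomProperty.iff_of_isAffine (P := @Flat) (f := g)).2
      (RingHom.flat_algebraMap_iff.2 inferInstance)
  haveI : LocallyOfFinitePresentation (Over.mk g).hom :=
    (HasRingHomProperty.iff_of_isAffine (P := @LocallyOfFinitePresentation) (f := g)).2
      (RingHom.finitePresentation_algebraMap.2 inferInstance)
  haveI : IsAffineHom (Over.mk f).hom := isAffineHom_of_isAffine f
  obtain ⟨M, ev, hM, -, -, hu⟩ := HomSch.exists_homScheme (Over.mk g) (Over.mk f)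
  choose v hv hv' using hu
  haveI : IsAffineHom M.hom := hM
  refine ⟨M, isAffine_of_isAffineHom M.hom, ⟨{
    homEquiv := fun {T} =>
      { toFun := fun w => (swapIso g T).hom ≫ (Over.mk g ◁ w) ≫ ev
        invFun := fun b => v T ((swapIso g T).inv ≫ b)
        left_inv := fun w => (hv' T _ w (by simp)).symm
        right_inv := fun b => (congrArg ((swapIso g T).hom ≫ ·) (hv T _)).trans (Iso.hom_inv_id_assoc _ b) }
    homEquiv_comp := fun {T T'} φ w => ?_ }⟩⟩
  show (swapIso g T).hom ≫ (Over.mk g ◁ (φ ≫ w)) ≫ ev =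
    (Over.map g).map ((Over.pullback g).map φ) ≫ (swapIso g T').hom ≫ (Over.mk g ◁ w) ≫ ev
  rw [reassoc_of% (swapIso_natural g φ), MonoidalCategory.whiskerLeft_comp, Category.assoc]

end Groth.Agent.S7193
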