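import Groth.Statements.S7194
import Groth.Agent.S7193

set_option autoImplicit false
universe u
open CategoryTheory AlgebraicGeometry
open FlatMor

namespace Groth.Agent.S7194

/-- For a finite locally free morphism Z → S and an affine morphism X → S, the functor on S-schemes
sending T to the set of S-morphisms T ×_S Z → X is represented by an S-scheme W whose structure
morphism W → S is affine. -/
theorem result {Z X S : Scheme.{u}} (g : Z ⟶ S) (f : X ⟶ S) (hg : Mor2.IsFinLocFree g) [IsAffineHom f] :
    ∃ W : Over S, IsAffineHom W.hom ∧ Nonempty ((Flatn.morS g f).RepresentableBy W) := by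
  haveI : IsFinite (Over.mk g).hom := hg.1
  haveI : Flat (Over.mk g).hom := hg.2.1
  haveI : LocallyOfFinitePresentation (Over.mk g).hom := hg.2.2
  haveI : IsAffineHom (Over.mk f).hom := ‹IsAffineHom f›
  obtain ⟨M, ev, hM, -, -, hu⟩ := HomSch.exists_homScheme (Over.mk g) (Over.mk f)
  choose v hv hv' using hu
  refine ⟨M, hM, ⟨{
    homEquiv := fun {T} =>
      { toFun := fun w => (S7193.swapIso g T).hom ≫ MonoidalCategory.whiskerLeft (Over.mk g) w ≫ ev
        invFun := fun b => v T ((S7193.swapIso g T).inv ≫ b)
        left_inv := fun w => (hv' T _ w (by simp)).symm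
        right_inv := fun b =>
          (congrArg ((S7193.swapIso g T).hom ≫ ·) (hv T _)).trans (Iso.hom_inv_id_assoc _ b) }
    homEquiv_comp := fun {T T'} φ w => ?_ }⟩⟩
  show (S7193.swapIso g T).hom ≫ MonoidalCategory.whiskerLeft (Over.mk g) (φ ≫ w) ≫ ev =
    (Over.map g).map ((Over.pullback g).map φ) ≫ (S7193.swapIso g T').hom ≫
      MonoidalCategory.whiskerLeft (Over.mk g) w ≫ ev
  rw [reassoc_of% (S7193.swapIso_natural g φ), MonoidalCategory.whiskerLeft_comp, Category.assoc]

end Groth.Agent.S7194
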