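import Groth.Statements.S7614
import Groth.Agent.Wt.IndQADescent
import Groth.Agent.FpqcDesc.Props
import Groth.Agent.VarBC.Basic
-- import your own Groth.Agent.* helpers here

set_option autoImplicit false
universe u
open CategoryTheory CategoryTheory.Limits AlgebraicGeometry
open Variety

namespace Groth.Agent.S7614

/-- Let X be a scheme over a field k and K an extension field of k. If X_K is quasi-affine, then X is
quasi-affine. -/
theorem result (k : Type u) [Field k] (X : Scheme.{u}) [X.Over (Spec (CommRingCat.of k))] (K : Type u) [Field K] [Algebra k K]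
    [(Curv2.bc k X K).IsQuasiAffine] : X.IsQuasiAffine := by
  let f := X ↘ Spec (CommRingCat.of k)
  let q := Spec.map (CommRingCat.ofHom (algebraMap k K))
  have hflat : Flat q := by
    rw [HasRingHomProperty.Spec_iff (P := @Flat)]
    exact RingHom.flat_algebraMap_iff.mpr inferInstance
  have hsurj : Surjective q := Groth.Agent.FBase.BC.surjective_specMap
  have hs : Surjective (pullback.fst f q) := inferInstance
  have : CompactSpace (Curv2.bc k X K) := inferInstance
  have : CompactSpace X := (pullback.fst f q).surjective.compactSpace (pullback.fst f q).continuous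
  have hq : Groth.Agent.FpqcDesc.FPQC q := ⟨⟨hsurj, hflat⟩, inferInstance⟩
  have hd := Groth.Agent.FpqcDesc.descendsAlong_quasiSeparated.{u}
  have : QuasiSeparated (Curv2.bcSnd k X K) :=
    (quasiSeparated_iff_quasiSeparatedSpace _).mpr inferInstance
  have : QuasiSeparated f := MorphismProperty.of_pullback_snd_of_descendsAlong
    (P := @QuasiSeparated) (Q := Groth.Agent.FpqcDesc.FPQC) (f := f) hq ‹_›
  have : QuasiSeparatedSpace X := (quasiSeparated_iff_quasiSeparatedSpace f).mp inferInstance
  have : (pullback f q).IsQuasiAffine := ‹(Curv2.bc k X K).IsQuasiAffine›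
  exact Groth.Agent.Wt.IndQADescent.isQuasiAffine_of_fpqc f q (IsPullback.of_hasPullback f q)

end Groth.Agent.S7614
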