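import Groth.Statements.S8392
import Groth.Agent.DiagRig.Cover
-- import your own Groth.Agent.* helpers here

set_option autoImplicit false
universe u
open CategoryTheory MonoidalCategory CartesianMonoidalCategory MonObj GrpObj AlgebraicGeometry
open SGA3x

namespace Groth.Agent.S8392

open Groth.Agent.DiagRig Groth.Agent.RedPts

/-- A natural additive function of a character map vanishes. -/
lemma natural_additive_eq_zero {R : Type u} [CommRing R] {N : Type} [CommMonoid N]
    (F : ∀ (T : Type u) [CommRing T] [Algebra R T], (N →* T) → T)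
    (hnat : ∀ (T T' : Type u) [CommRing T] [Algebra R T] [CommRing T'] [Algebra R T'] (k : T →ₐ[R] T') (t : N →* T),
      k (F T t) = F T' (k.toRingHom.toMonoidHom.comp t))
    (hadd : ∀ (T : Type u) [CommRing T] [Algebra R T] (s t : N →* T), F T (s * t) = F T s + F T t)
    (T : Type u) [CommRing T] [Algebra R T] (t : N →* T) : F T t = 0 := by
  classical
  let a := F (MonoidAlgebra R N) (MonoidAlgebra.of R N)
  have key : ∀ (T : Type u) [CommRing T] [Algebra R T] (t : N →* T),
      F T t = MonoidAlgebra.lift R T N t a := fun T _ _ t => by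
    refine Eq.trans ?_ (hnat _ T (MonoidAlgebra.lift R T N t) (MonoidAlgebra.of R N)).symm
    congr 1
    ext n
    simp
  suffices ha : a = 0 by rw [key, ha, map_zero]
  let I := (MonoidAlgebra.of R (N × N)).comp (MonoidHom.inl N N)
  let J := (MonoidAlgebra.of R (N × N)).comp (MonoidHom.inr N N)
  let D : N →* N × N := (MonoidHom.id N).prod (MonoidHom.id N)
  have hIJ : I * J = (MonoidAlgebra.of R (N × N)).comp D := by
    ext n
    simp [I, J, D, MonoidAlgebra.single_mul_single]
  have h := hadd _ I J
  rw [hIJ, key _ ((MonoidAlgebra.of R (N × N)).comp D), key _ I, key _ J] at h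
  have hl : ∀ (ψ : N →* N × N), MonoidAlgebra.lift R (MonoidAlgebra R (N × N)) N
      ((MonoidAlgebra.of R (N × N)).comp ψ) = MonoidAlgebra.mapDomainAlgHom R R ψ := fun ψ => by
    apply MonoidAlgebra.algHom_ext
    · intro n; simp
    · exact Subsingleton.elim _ _
  simp only [I, J, hl] at h
  ext n
  have h2 := congrArg (fun z : MonoidAlgebra R (N × N) => z.coeff (n, n)) h
  simp at h2
  rw [show (⇑D : N → N × N) = fun m => (m, m) from rfl,
    show (⇑(MonoidHom.inl N N) : N → N × N) = fun m => (m, (1 : N)) from rfl,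
    show (⇑(MonoidHom.inr N N) : N → N × N) = fun m => ((1 : N), m) from rfl] at h2
  have e1 : Function.Injective (fun m : N => (m, m)) := fun a b e => congrArg Prod.fst e
  have e2 : Function.Injective (fun m : N => (m, (1 : N))) := fun a b e => congrArg Prod.fst e
  have e3 : Function.Injective (fun m : N => ((1 : N), m)) := fun a b e => congrArg Prod.snd e
  by_cases hn : n = 1
  · subst hn
    rw [Finsupp.mapDomain_apply e1 _ 1, Finsupp.mapDomain_apply e2 _ 1, Finsupp.mapDomain_apply e3 _ 1] at h2
    simpa using h2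
  · rw [Finsupp.mapDomain_apply e1 _ n,
      Finsupp.mapDomain_of_notMem_range _ _ (fun ⟨m, hm⟩ => hn (congrArg Prod.snd hm).symm),
      Finsupp.mapDomain_of_notMem_range _ _ (fun ⟨m, hm⟩ => hn (congrArg Prod.fst hm).symm), add_zero] at h2
    simpa using h2

lemma gaFn_one {S : Scheme.{u}} {X : Over S} : Red.gaFn (1 : X ⟶ Red.Ga S) = 0 := by
  have h := ga_mul (1 : X ⟶ Red.Ga S) 1
  rwa [show (1 : X ⟶ Red.Ga S) * 1 = 1 from _root_.one_mul (1 : X ⟶ Red.Ga S), left_eq_add] at h

/-- Let H be an S-group scheme of multiplicative type. Then every homomorphism of S-groups H → 𝔾_a is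
trivial. (Stated for H of multiplicative type and of finite type, the class of multiplicative groups
available here; the published statement allows any group of multiplicative type.) -/
theorem result (S : Scheme.{u}) (H : Over S) [GrpObj H] (hH : SGA3x.IsMultTypeFT H)
    (u : H ⟶ Red.Ga S) [IsMonHom u] : u = 1 := by
  obtain ⟨S', f, _, _, -, hs⟩ := hH
  refine eq_of_split_cover f (fun s' => ?_) u 1 ?_
  · obtain ⟨V, hV, M, _, -, ⟨e⟩⟩ := hs s'
    exact ⟨V, hV, M, inferInstance, SplitPts.ofIso _ e, SplitPts.ofIso_inj e⟩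
  intro R p M _ P _ T _ _ t
  let F : ∀ (T : Type u) [CommRing T] [Algebra R T], (Multiplicative M →* T) → T := fun T _ _ t =>
    (Scheme.ΓSpecIso (CommRingCat.of T)).hom (Red.gaFn (gPt p P t ≫ u))
  have hnat : ∀ (T T' : Type u) [CommRing T] [Algebra R T] [CommRing T'] [Algebra R T'] (k : T →ₐ[R] T')
      (t : Multiplicative M →* T), k (F T t) = F T' (k.toRingHom.toMonoidHom.comp t) := by
    intro T T' _ _ _ _ k t
    simp only [F]
    rw [← testMap_gPt p P k t, Category.assoc, ga_comp]
    exact congr($((Scheme.ΓSpecIso_naturality (CommRingCat.ofHom k.toRingHom)).symm)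
      (Red.gaFn (gPt p P t ≫ u)))
  have hadd : ∀ (T : Type u) [CommRing T] [Algebra R T] (s t : Multiplicative M →* T),
      F T (s * t) = F T s + F T t := by
    intro T _ _ s t
    simp only [F]
    rw [show gPt p P (s * t) = gPt p P s * gPt p P t from ?_, MonObj.mul_comp _ _ u, ga_mul, map_add]
    rw [gPt, gPt, gPt, ← P.σ_mul]
    congr 1
    ext z
    exact map_mul toΓ (s z) (t z)
  have h0 := natural_additive_eq_zero F hnat hadd T t
  apply ga_injective
  rw [MonObj.comp_one]
  apply (ConcreteCategory.bijective_of_isIso (Scheme.ΓSpecIso (CommRingCat.of T)).hom).1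
  refine h0.trans ?_
  rw [gaFn_one]
  exact (map_zero _).symm

end Groth.Agent.S8392
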