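import Groth.Statements.S8913
import Groth.Agent.FittLib.StrictFitt
import Groth.Agent.Props.QFP
import Mathlib.RingTheory.Finiteness.Basic
-- import your own Groth.Agent.* helpers here

set_option autoImplicit false
set_option linter.style.haveILetI false
set_option backward.isDefEq.respectTransparency.types false
universe u
open CategoryTheory CategoryTheory.Limits AlgebraicGeometry TopologicalSpace
open SDiv

namespace Groth.Agent.S8913

open Groth.Agent.QCoh Groth.Agent.FittLib

theorem finitePresentation_of_equiv_prod {A N Q K : Type u} [CommRing A] [AddCommGroup N] [Module A N]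
    [AddCommGroup Q] [Module A Q] [AddCommGroup K] [Module A K] [Module.FinitePresentation A N]
    (e : N ≃ₗ[A] Q × K) : Module.FinitePresentation A K := by
  refine Module.finitePresentation_of_surjective ((LinearMap.snd A Q K).comp e.toLinearMap)
    (Prod.snd_surjective.comp e.surjective) ?_
  haveI : Module.Finite A Q := Module.Finite.of_surjective ((LinearMap.fst A Q K).comp e.toLinearMap)
    (Prod.fst_surjective.comp e.surjective)
  have h : LinearMap.ker ((LinearMap.snd A Q K).comp e.toLinearMap) =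
      LinearMap.range (e.symm.toLinearMap.comp (LinearMap.inl A Q K)) := by
    ext v
    simp only [LinearMap.mem_ker, LinearMap.mem_range, LinearMap.comp_apply, LinearEquiv.coe_coe,
      LinearMap.snd_apply, LinearMap.inl_apply]
    exact ⟨fun hv => ⟨(e v).1, e.injective (by rw [e.apply_symm_apply]; exact Prod.ext rfl hv.symm)⟩,
      fun ⟨q, hq⟩ => by rw [← hq, e.apply_symm_apply]⟩
  rw [h, ← Submodule.map_top]
  exact (Module.Finite.fg_top).map _

/-- Let X be a scheme, F a finitely presented O_X-module and U ⊆ X an open subscheme which is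
scheme-theoretically dense and over which F is locally free of constant finite rank r. Then: (1)
Fit_r(F) is of finite type with support disjoint from U, so a blowing up b : X' ⟶ X of X in Fit_r(F)
is U-admissible; (2) the strict transform G of F along such b is locally free of rank r; (3) the
kernel of the surjection b^*F ⟶ G is finitely presented and restricts to zero over b⁻¹U. This row
does not assert that b^*F and the kernel are perfect of tor dimension at most one. -/
theorem result (X : Scheme.{u}) (F : X.Modules) (hF : CohB1.IsFP F)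
    (U : X.Opens) (hU : CInt.IsSchematicallyDense U) (r : ℕ) (hfree : FlatMod.IsFinLocFreeOfRank r (F.restrict U.ι)) :
    BlowUp.IsAdmissibleFor U (Fitt.sheafIdeal F r) ∧
      ∀ (X' : Scheme.{u}) (b : X' ⟶ X), BlowUp.IsBlowUp b (Fitt.sheafIdeal F r) →
        ∀ (G : X'.Modules) (π : (Scheme.Modules.pullback b).obj F ⟶ G), BlowUp.IsStrictTransform b (Fitt.sheafIdeal F r) F G π →
          FlatMod.IsFinLocFreeOfRank r G ∧ CohB1.IsFP (kernel π) ∧ IsZero ((kernel π).restrict (b ⁻¹ᵁ U).ι) := by
  haveI : F.IsFinitePresentation := hF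
  haveI : F.IsQuasicoherent := inferInstance
  haveI : F.IsFiniteType := inferInstance
  haveI := isQuasicoherent_pullback U.ι F
  haveI := isFiniteType_pullback F U.ι
  have hfree' : FlatMod.IsFinLocFreeOfRank r ((Scheme.Modules.pullback U.ι).obj F) :=
    StrictFitt.isFinLocFreeOfRank_congr ((Scheme.Modules.restrictFunctorIsoPullback U.ι).app F) hfree
  have hdisj : ∀ y ∈ U, y ∉ (Fitt.sheafIdeal F r).support := fun y hy hys => by
    have h1 : (⟨y, hy⟩ : U.toScheme) ∈ ((Fitt.sheafIdeal F r).comap U.ι).support := by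
      erw [← SetLike.mem_coe, Scheme.IdealSheafData.support_comap]; exact hys
    rw [comap_sheafIdeal, ((isFinLocFreeOfRank_iff _ r).1 hfree').2 r le_rfl, Scheme.IdealSheafData.support_top] at h1
    exact h1
  have hvan : ∀ j < r, ∀ W : X.affineOpens, W.1 ≤ (⊤ : X.Opens) → (Fitt.sheafIdeal F j).ideal W = ⊥ := by
    intro j hj W _
    refine eq_bot_iff.2 fun d hd => hU W.1 ?_
    rw [map_zero]
    let ι := { W' : X.Opens // IsAffineOpen W' ∧ W' ≤ W.1 ⊓ U }
    refine TopCat.Sheaf.eq_of_locally_eq' X.sheaf (fun W' : ι => W'.1) (W.1 ⊓ U)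
      (fun W' => homOfLE W'.2.2) (fun y hy => ?_) _ _ fun W' => ?_
    · obtain ⟨W', hW', hyW, hWU⟩ := exists_isAffineOpen_mem_and_subset hy
      exact TopologicalSpace.Opens.mem_iSup.2 ⟨⟨W', hW', hWU⟩, hyW⟩
    · change X.presheaf.map _ (X.presheaf.map _ d) = X.presheaf.map _ 0
      rw [map_zero, ← CommRingCat.comp_apply, ← Functor.map_comp, ← op_comp, ← Ideal.mem_bot,
        ← StrictFitt.ideal_eq_bot_of_restrict U hfree hj ⟨W'.1, W'.2.1⟩ (W'.2.2.trans inf_le_right),
        ← Scheme.IdealSheafData.map_ideal _ (U := ⟨W'.1, W'.2.1⟩) (V := W) (W'.2.2.trans inf_le_left)]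
      exact Ideal.mem_map_of_mem _ hd
  refine ⟨⟨fun W => ?_, Set.disjoint_left.2 fun y hys hy => hdisj y hy hys⟩, fun X' b hb G π hG => ?_⟩
  · haveI := Groth.Agent.Props.QFP.finitePresentation_sections_of_isFP F W.2
    haveI : Module.Finite Γ(X, W.1) Γ(F, W.1) := inferInstance
    rw [sheafIdeal_ideal]
    exact ideal_eq_G_rel r
  haveI := isQuasicoherent_pullback b F
  haveI := isFiniteType_pullback F b
  haveI := hG.1
  have hk := StrictFitt.kills hG
  haveI := StrictSheaf.isQuasicoherent_of_kills hb.1 hk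
  haveI := StrictSheaf.isFiniteType_of_kills hb.1 hk
  haveI := StrictSheaf.isQuasicoherent_kernel_of_kills hb.1 hk
  let S := ShortComplex.mk (kernel.ι π) π (kernel.condition π)
  have hS : S.Exact := ShortComplex.exact_of_f_is_kernel _ (kernelIsKernel π)
  haveI : Mono S.f := inferInstanceAs (Mono (kernel.ι π))
  refine ⟨StrictFitt.sheafIdeal_strict_eq_bot hb.1 hk ⊤ (fun y _ => trivial) hvan, ?_, ?_⟩
  · refine Groth.Agent.Props.QFP.isFP_of_forall_exists _ fun x => ?_
    obtain ⟨W, V, hxV, e, c, hc, hce, hfit⟩ := StrictFitt.exists_chart hb.1 x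
    refine ⟨V.1, V.2, hxV, ?_⟩
    haveI : Module.Finite Γ(X', V.1) Γ((Scheme.Modules.pullback b).obj F, V.1) :=
      finite_sections_of_isFiniteType _ V.2
    haveI : Module.FinitePresentation Γ(X', V.1) Γ((Scheme.Modules.pullback b).obj F, V.1) := by
      haveI := Groth.Agent.Props.QFP.finitePresentation_sections_of_isFP F W.2
      letI := (b.appLE W.1 V.1 e).hom.toAlgebra
      letI := Groth.Agent.LimTop.secModule b F e
      haveI : IsScalarTower Γ(X, W.1) Γ(X', V.1) Γ((Scheme.Modules.pullback b).obj F, V.1) :=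
        IsScalarTower.of_algebraMap_smul fun _ _ => rfl
      exact Module.FinitePresentation.of_equiv (Groth.Agent.LimTop.isBaseChange_unitSec b F e W.2 V.2).equiv
    have hk' : r = 0 ∨ Fitt.ideal Γ(X', V.1) Γ((Scheme.Modules.pullback b).obj F, V.1) (r - 1) = ⊥ := by
      rcases Nat.eq_zero_or_pos r with h0 | h0
      · exact Or.inl h0
      · refine Or.inr ?_
        rw [← sheafIdeal_ideal, StrictFitt.sheafIdeal_eq_bot hb.1 ⊤ (fun y _ => trivial) (hvan (r - 1) (by omega)),
          Scheme.IdealSheafData.ideal_bot]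
        rfl
    obtain ⟨e₀⟩ := nonempty_equiv_prod r c hc hfit hk'
    haveI := finitePresentation_of_equiv_prod e₀
    have hker : FlatCA.powTorsion Γ(X', V.1) c Γ((Scheme.Modules.pullback b).obj F, V.1) =
        LinearMap.ker (c • LinearMap.id) := by
      ext m
      rw [Strict.mem_powTorsion, torsion_eq_ker r c hc hfit hk', LinearMap.mem_ker]
      rfl
    let ψ : Γ(kernel π, V.1) →ₗ[Γ(X', V.1)] LinearMap.ker (StrictSheaf.appLin (π := π) V.1) :=
      LinearMap.codRestrict _ (StrictSheaf.appLin (π := kernel.ι π) V.1) fun m => app_app_eq_zero S V.1 m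
    have hψ : Function.Bijective ψ := ⟨fun a a' h => app_injective_of_mono (kernel.ι π) V.1 (congrArg Subtype.val h),
      fun z => by
        obtain ⟨y, hy⟩ := exists_app_eq_of_app_eq_zero S hS V.1 z.1 z.2
        exact ⟨y, Subtype.ext hy⟩⟩
    exact Module.FinitePresentation.of_equiv ((LinearEquiv.ofBijective ψ hψ).trans
      (LinearEquiv.ofEq _ _ ((StrictSheaf.ker_appLin hce hk).trans hker))).symm
  · rw [Limits.IsZero.iff_id_eq_zero]
    refine Scheme.Modules.hom_ext _ _ fun O => ConcreteCategory.hom_ext _ _ fun (z : Γ((kernel π).restrict (b ⁻¹ᵁ U).ι, O)) => ?_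
    change z = 0
    let W₀ := (b ⁻¹ᵁ U).ι ''ᵁ O
    let z' : Γ(kernel π, W₀) := z
    suffices h : z' = 0 from h
    refine app_injective_of_mono (kernel.ι π) W₀ ?_
    rw [map_zero]
    let ι := { V : X'.Opens // IsAffineOpen V ∧ V ≤ W₀ }
    refine eq_zero_of_locally_eq_zero _ (fun V : ι => V.2.2) (fun y hy => ?_) _ fun V => ?_
    · obtain ⟨V, hV, hyV, hVW⟩ := exists_isAffineOpen_mem_and_subset hy
      exact TopologicalSpace.Opens.mem_iSup.2 ⟨⟨V, hV, hVW⟩, hyV⟩
    · rw [← app_res]
      obtain ⟨n, hn⟩ := (hk ⟨V.1, V.2.1⟩ ((kernel.ι π).app V.1 (res (kernel π) V.2.2 z'))).1 (app_app_eq_zero S V.1 _)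
      have htop : ((Fitt.sheafIdeal F r).comap b).ideal ⟨V.1, V.2.1⟩ = ⊤ := by
        by_contra hne
        obtain ⟨P, hP, hle⟩ := Ideal.exists_le_maximal _ hne
        let q : PrimeSpectrum Γ(X', V.1) := ⟨P, hP.isPrime⟩
        have hy : V.2.1.fromSpec q ∈ V.1 := V.2.1.range_fromSpec.le ⟨q, rfl⟩
        have hyU : b (V.2.1.fromSpec q) ∈ U := by
          obtain ⟨w, -, hw⟩ := V.2.2 hy
          rw [← hw]
          exact w.2
        refine hdisj _ hyU ?_
        have h1 : V.2.1.fromSpec q ∈ ((Fitt.sheafIdeal F r).comap b).support := by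
          rw [Scheme.IdealSheafData.mem_support_iff_of_mem (U := ⟨V.1, V.2.1⟩) hy]
          show V.2.1.fromSpec q ∈ X'.zeroLocus _
          have : q ∈ PrimeSpectrum.zeroLocus (((Fitt.sheafIdeal F r).comap b).ideal ⟨V.1, V.2.1⟩ : Set Γ(X', V.1)) := hle
          rwa [← V.2.1.fromSpec_preimage_zeroLocus] at this
        rw [← SetLike.mem_coe, Scheme.IdealSheafData.support_comap] at h1
        exact h1
      have h := hn 1 (by
        rw [Scheme.IdealSheafData.ideal_pow, Pi.pow_apply]
        simp only [BlowUp.exceptional, htop, Ideal.top_pow]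
        exact Submodule.mem_top)
      rwa [one_smul] at h

end Groth.Agent.S8913
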