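import Groth.Statements.S2017
import Mathlib

set_option autoImplicit false
universe u
open EtAlg

namespace Groth.Agent.S2017

/-- fibre products along a surjection and a finite map are of finite type -/
lemma fibreProduct (R A B C : Type*) [CommRing R] [IsNoetherianRing R] [CommRing A] [CommRing B]
    [CommRing C] [Algebra R A] [Algebra R B] [Algebra R C] [Algebra.FiniteType R A]
    [Algebra.FiniteType R C] (f : A →ₐ[R] B) (hf : Function.Surjective f) (g : C →ₐ[R] B)
    (hg : (g.toRingHom).Finite) :
    Algebra.FiniteType R ↥(AlgHom.equalizer (f.comp (AlgHom.fst R A C)) (g.comp (AlgHom.snd R A C))) := by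
  classical
  set E := AlgHom.equalizer (f.comp (AlgHom.fst R A C)) (g.comp (AlgHom.snd R A C)) with hE
  have hmem : ∀ x : A × C, x ∈ E ↔ f x.1 = g x.2 := fun x ↦ Iff.rfl
  letI : Algebra C B := g.toRingHom.toAlgebra
  haveI : Module.Finite C B := hg
  obtain ⟨n, b, hb⟩ := Module.Finite.exists_fin (R := C) (M := B)
  choose a ha using fun k ↦ hf (b k)
  choose lift hlift using fun c : C ↦ hf (g c)
  let gens : Option (Fin n) → A × C := fun o ↦ o.elim ((0 : A), (1 : C)) fun k ↦ (a k, (0 : C))
  have hsmul : ∀ (e : E) (x : A × C), e • x = (e : A × C) * x := fun e x ↦ rfl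
  have hfin : Submodule.span E ({((1 : A), (1 : C))} ∪ Set.range gens) = ⊤ := by
    set M := Submodule.span E ({((1 : A), (1 : C))} ∪ Set.range gens)
    have h0c : ∀ c : C, ((0 : A), c) ∈ M := fun c ↦ by
      have h := M.smul_mem ⟨(lift c, c), (hmem _).2 (hlift c)⟩ (Submodule.subset_span (Or.inr ⟨none, rfl⟩))
      rw [hsmul] at h
      simpa [gens] using h
    have hker : ∀ x : A, f x = 0 → (x, (0 : C)) ∈ M := fun x hx ↦ by
      have h := M.smul_mem ⟨(x, (0 : C)), (hmem _).2 (by simpa using hx)⟩ (Submodule.subset_span (Or.inl rfl))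
      rw [hsmul] at h
      simpa using h
    have ha0 : ∀ x : A, (x, (0 : C)) ∈ M := fun x ↦ by
      have hx : f x ∈ Submodule.span C (Set.range b) := hb ▸ Submodule.mem_top
      obtain ⟨c, hc⟩ := (Submodule.mem_span_range_iff_exists_fun C).1 hx
      let y := ∑ k, lift (c k) * a k
      have hy : (y, (0 : C)) ∈ M := by
        have : (y, (0 : C)) = ∑ k, (⟨(lift (c k), c k), (hmem _).2 (hlift _)⟩ : E) • gens (some k) := by
          simp only [hsmul]
          ext
          · simp [y, gens, Prod.fst_sum]
          · simp [gens, Prod.snd_sum]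
        rw [this]
        exact M.sum_mem fun k _ ↦ M.smul_mem _ (Submodule.subset_span (Or.inr ⟨some k, rfl⟩))
      have hd : f (x - y) = 0 := by
        rw [map_sub, sub_eq_zero, map_sum, ← hc]
        refine Finset.sum_congr rfl fun k _ ↦ ?_
        rw [map_mul, hlift, ha]
        rfl
      simpa using M.add_mem (hker _ hd) hy
    refine Submodule.eq_top_iff'.2 fun x ↦ ?_
    simpa using M.add_mem (ha0 x.1) (h0c x.2)
  haveI : Algebra.FiniteType R (A × C) := inferInstance
  exact ⟨fg_of_fg_of_fg R E (A × C) Algebra.FiniteType.out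
    (hfin ▸ Submodule.fg_span ((Set.finite_singleton _).union (Set.finite_range gens))) Subtype.val_injective⟩

/-- Let R be a Noetherian ring, A, B, C R-algebras of finite type, f : A -> B a surjective R-algebra map
and g : C -> B an R-algebra map making B a finite C-module. Then the fibre product A ×_B C (the
equalizer of f ∘ pr₁ and g ∘ pr₂ in A × C) is an R-algebra of finite type. -/
theorem result (R A B C : Type u) [CommRing R] [IsNoetherianRing R] [CommRing A] [CommRing B]
    [CommRing C] [Algebra R A] [Algebra R B] [Algebra R C] [Algebra.FiniteType R A] [Algebra.FiniteType R B]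
    [Algebra.FiniteType R C] (f : A →ₐ[R] B) (hf : Function.Surjective f) (g : C →ₐ[R] B)
    (hg : (g.toRingHom).Finite) :
    Algebra.FiniteType R ↥(AlgHom.equalizer (f.comp (AlgHom.fst R A C)) (g.comp (AlgHom.snd R A C))) := by
  exact fibreProduct R A B C f hf g hg

end Groth.Agent.S2017
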