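import Groth.Statements.S6929
import Mathlib
import Groth.Agent.S2017

set_option autoImplicit false
universe u
open EtAlg

namespace Groth.Agent.S6929

/-- a finite product of finite type algebras is of finite type -/
lemma finiteType_pi (R : Type*) [CommRing R] {ι : Type*} [Fintype ι] (A : ι → Type*) [∀ i, CommRing (A i)]
    [∀ i, Algebra R (A i)] [hA : ∀ i, Algebra.FiniteType R (A i)] : Algebra.FiniteType R (∀ i, A i) := by
  classical
  choose s hs using fun i ↦ (hA i).out
  let T : Finset (∀ i, A i) := Finset.univ.biUnion fun i ↦ (insert 1 (s i)).image (Pi.single i)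
  refine ⟨⟨T, eq_top_iff.2 fun x _ ↦ ?_⟩⟩
  have hT : ∀ i, ∀ y ∈ insert 1 (s i), Pi.single i y ∈ Algebra.adjoin R (T : Set (∀ i, A i)) := fun i y hy ↦
    Algebra.subset_adjoin (Finset.mem_biUnion.2 ⟨i, Finset.mem_univ _, Finset.mem_image_of_mem _ hy⟩)
  have h1 : ∀ i (y : A i), Pi.single i y ∈ Algebra.adjoin R (T : Set (∀ i, A i)) := fun i y ↦ by
    have hy : y ∈ Algebra.adjoin R (s i : Set (A i)) := by rw [hs i]; trivial
    induction hy using Algebra.adjoin_induction with
    | mem y hy => exact hT i y (Finset.mem_insert_of_mem hy)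
    | algebraMap r =>
      rw [show Pi.single i (algebraMap R (A i) r) = r • Pi.single (M := A) i (1 : A i) from by
        rw [← Pi.single_smul, Algebra.algebraMap_eq_smul_one]]
      exact Subalgebra.smul_mem _ (hT i 1 (Finset.mem_insert_self _ _)) r
    | add a b _ _ ha hb => rw [Pi.single_add]; exact add_mem ha hb
    | mul a b _ _ ha hb => rw [Pi.single_mul]; exact mul_mem ha hb
  rw [← Finset.univ_sum_single x]
  exact sum_mem fun i _ ↦ h1 i (x i)

/-- Let `R` be a Noetherian ring, `ι` a finite index type, and `φ_i : A_i → B_i`, `ψ_i : Q → B_i`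
surjective `R`-algebra maps, where `Q` and all `A_i`, `B_i` are `R`-algebras of finite type. Then
the fibre product ring `P = Q ×_{∏ B_i} ∏ A_i` (pairs `(q, a)` with `ψ_i(q) = φ_i(a_i)` for all `i`)
is an `R`-algebra of finite type. -/
theorem result (R : Type u) [CommRing R] [IsNoetherianRing R] {ι : Type u} [Fintype ι]
    (Q : Type u) [CommRing Q] [Algebra R Q] [Algebra.FiniteType R Q] (A B : ι → Type u) [∀ i, CommRing (A i)]
    [∀ i, CommRing (B i)] [∀ i, Algebra R (A i)] [∀ i, Algebra R (B i)] (hA : ∀ i, Algebra.FiniteType R (A i))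
    (hB : ∀ i, Algebra.FiniteType R (B i)) (φ : ∀ i, A i →ₐ[R] B i) (ψ : ∀ i, Q →ₐ[R] B i)
    (hφ : ∀ i, Function.Surjective (φ i)) (hψ : ∀ i, Function.Surjective (ψ i)) :
    Algebra.FiniteType R ↥(AlgHom.equalizer ((AlgHom.pi ψ).comp (AlgHom.fst R Q (∀ i, A i)))
      ((AlgHom.pi fun i => (φ i).comp (Pi.evalAlgHom R A i)).comp (AlgHom.snd R Q (∀ i, A i)))) := by
  classical
  haveI := hA
  haveI := finiteType_pi R A
  haveI := hB
  let f : (∀ i, A i) →ₐ[R] (∀ i, B i) := AlgHom.pi fun i => (φ i).comp (Pi.evalAlgHom R A i)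
  let g : Q →ₐ[R] (∀ i, B i) := AlgHom.pi ψ
  have hf : Function.Surjective f := fun b ↦ ⟨fun i ↦ Function.surjInv (hφ i) (b i),
    funext fun i ↦ Function.surjInv_eq (hφ i) (b i)⟩
  have hg : (g.toRingHom).Finite := by
    letI : ∀ i, Algebra Q (B i) := fun i ↦ (ψ i).toRingHom.toAlgebra
    haveI : ∀ i, Module.Finite Q (B i) := fun i ↦
      Module.Finite.of_surjective (Algebra.linearMap Q (B i)) (hψ i)
    have h : (algebraMap Q (∀ i, B i)).Finite := RingHom.finite_algebraMap.2 inferInstance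
    exact h
  haveI := Groth.Agent.S2017.fibreProduct R (∀ i, A i) (∀ i, B i) Q f hf g hg
  let E := AlgHom.equalizer (f.comp (AlgHom.fst R (∀ i, A i) Q)) (g.comp (AlgHom.snd R (∀ i, A i) Q))
  let E' := AlgHom.equalizer (g.comp (AlgHom.fst R Q (∀ i, A i))) (f.comp (AlgHom.snd R Q (∀ i, A i)))
  let e : E →ₐ[R] E' :=
    AlgHom.codRestrict (((AlgHom.snd R (∀ i, A i) Q).prod (AlgHom.fst R (∀ i, A i) Q)).comp E.val) E'
      fun x ↦ Eq.symm x.2
  exact Algebra.FiniteType.of_surjective e fun y ↦ ⟨⟨(y.1.2, y.1.1), Eq.symm y.2⟩, rfl⟩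

end Groth.Agent.S6929
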