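import Groth.Statements.S1629
import Groth.Agent.S2514
import Groth.Agent.S6929
import Groth.Agent.GeomLoc.Reduced
import Groth.Agent.FBase.LenBC
import Groth.Agent.FBase.PointScheme
import Groth.Agent.FBase.Dim
import Groth.Agent.VarBC.Irred

set_option autoImplicit false
universe u
open CategoryTheory CategoryTheory.Limits AlgebraicGeometry
open Variety

namespace Groth.Agent.S1629

open TensorProduct Groth.Agent.FBase.BC Groth.Agent.FBase.PointScheme

/-- A factor of an algebra is geometrically reduced with it. -/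
lemma isGeometricallyReduced_of_factor {k R S : Type u} [Field k] [CommRing R] [CommRing S] [Algebra k R]
    [Algebra k S] (π : R →ₐ[k] S) (hπ : Function.Surjective π) (e : R) (he : π e = 1)
    (hk : ∀ x, π x = 0 → e * x = 0) [h : Algebra.IsGeometricallyReduced k R] :
    Algebra.IsGeometricallyReduced k S := by
  have h' := (Algebra.isGeometricallyReduced_field_iff k R).mp h
  rw [Algebra.isGeometricallyReduced_field_iff k S]
  let Φ := Algebra.TensorProduct.map (AlgHom.id k (AlgebraicClosure k)) π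
  have hs : Function.Surjective Φ := LinearMap.lTensor_surjective _ hπ
  refine ⟨fun x ⟨n, hn⟩ ↦ ?_⟩
  obtain ⟨y, rfl⟩ := hs x
  have h0 : ∀ z ∈ RingHom.ker Φ, (1 ⊗ₜ e) * z = 0 := by
    rw [Algebra.TensorProduct.lTensor_ker π hπ, Ideal.map]
    intro z hz
    induction hz using Submodule.span_induction with
    | mem z hz =>
      obtain ⟨w, hw, rfl⟩ := hz
      show (1 ⊗ₜ e) * ((1 : AlgebraicClosure k) ⊗ₜ[k] w) = 0
      rw [Algebra.TensorProduct.tmul_mul_tmul, hk w (RingHom.mem_ker.mp hw), tmul_zero]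
    | zero => rw [mul_zero]
    | add a b _ _ ha hb => rw [mul_add, ha, hb, add_zero]
    | smul a b _ hb => rw [smul_eq_mul, mul_left_comm, hb, mul_zero]
  have hy : (1 ⊗ₜ e) * y = 0 := by
    refine IsReduced.eq_zero _ ⟨n + 1, ?_⟩
    rw [mul_pow, pow_succ _ n, mul_assoc, h0 _ (RingHom.mem_ker.mpr (by
      rw [map_pow, pow_succ, hn, zero_mul])), mul_zero]
  have := congrArg Φ hy
  rwa [map_mul, Algebra.TensorProduct.map_tmul, map_one, he, ← Algebra.TensorProduct.one_def, one_mul,
    map_zero] at this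

/-- The map of tensor products of products to a factor, and its idempotent. -/
lemma factor_of_pi {k k' : Type u} [Field k] [Field k'] [Algebra k k'] {ι : Type u} [DecidableEq ι]
    (A : ι → Type u) [∀ i, CommRing (A i)] [∀ i, Algebra k (A i)] (i : ι)
    [h : Algebra.IsGeometricallyReduced k' ((k' ⊗[k] (∀ j, A j)) ⧸ nilradical (k' ⊗[k] (∀ j, A j)))] :
    Algebra.IsGeometricallyReduced k' ((k' ⊗[k] A i) ⧸ nilradical (k' ⊗[k] A i)) := by
  let ev : k' ⊗[k] (∀ j, A j) →ₐ[k'] k' ⊗[k] A i :=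
    Algebra.TensorProduct.map (AlgHom.id k' k') (Pi.evalAlgHom k A i)
  let sec : k' ⊗[k] A i →ₗ[k] k' ⊗[k] (∀ j, A j) := LinearMap.lTensor k' (LinearMap.single k A i)
  let e : k' ⊗[k] (∀ j, A j) := 1 ⊗ₜ Pi.single i 1
  have hev : Function.Surjective ev :=
    LinearMap.lTensor_surjective k' (g := (Pi.evalAlgHom k A i).toLinearMap)
      fun a ↦ ⟨Pi.single i a, Pi.single_eq_same i a⟩
  have hse : ∀ y, sec (ev y) = e * y := by
    intro y
    induction y with
    | zero => simp
    | tmul c a =>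
      show c ⊗ₜ Pi.single i (a i) = _
      rw [Algebra.TensorProduct.tmul_mul_tmul, one_mul]
      congr 1
      funext j
      by_cases hj : j = i
      · subst hj; simp
      · simp [Pi.single_eq_of_ne hj]
    | add a b ha hb => rw [map_add, map_add, ha, hb, mul_add]
  let π : (k' ⊗[k] (∀ j, A j)) ⧸ nilradical (k' ⊗[k] (∀ j, A j)) →ₐ[k']
      (k' ⊗[k] A i) ⧸ nilradical (k' ⊗[k] A i) :=
    Ideal.Quotient.liftₐ _ ((Ideal.Quotient.mkₐ k' _).comp ev) fun x hx ↦
      Ideal.Quotient.eq_zero_iff_mem.mpr (mem_nilradical.mpr ((mem_nilradical.mp hx).map ev))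
  refine isGeometricallyReduced_of_factor (R := (k' ⊗[k] (∀ j, A j)) ⧸ nilradical (k' ⊗[k] (∀ j, A j)))
    (S := (k' ⊗[k] A i) ⧸ nilradical (k' ⊗[k] A i)) π ?_ (Ideal.Quotient.mk _ e) ?_ ?_
  · intro x
    obtain ⟨x, rfl⟩ := Ideal.Quotient.mk_surjective x
    obtain ⟨y, rfl⟩ := hev x
    exact ⟨Ideal.Quotient.mk _ y, rfl⟩
  · show Ideal.Quotient.mk _ (ev e) = 1
    rw [show ev e = 1 by
      show (1 : k') ⊗ₜ[k] (Pi.single i (1 : A i) i) = 1
      rw [Pi.single_eq_same, Algebra.TensorProduct.one_def], map_one]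
  · intro x hx
    obtain ⟨x, rfl⟩ := Ideal.Quotient.mk_surjective x
    obtain ⟨n, hn⟩ := mem_nilradical.mp (Ideal.Quotient.eq_zero_iff_mem.mp
      (show Ideal.Quotient.mk (nilradical (k' ⊗[k] A i)) (ev x) = 0 from hx))
    rw [← map_mul, Ideal.Quotient.eq_zero_iff_mem, mem_nilradical]
    refine ⟨n + 1, ?_⟩
    have h1 : e * x ^ (n + 1) = 0 := by
      rw [← hse, map_pow, pow_succ, hn, zero_mul, map_zero]
    rw [mul_pow, pow_succ e, mul_assoc, h1, mul_zero]

/-- The reduction of an affine open is the spectrum of the reduced ring. -/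
lemma exists_red_chart {k : Type u} [Field k] {X : Scheme.{u}} (f : X ⟶ Spec (CommRingCat.of k))
    {B : Type u} [CommRing B] [Algebra k B] (c : Spec (CommRingCat.of B) ⟶ X) [IsOpenImmersion c]
    (hc : c ≫ f = Spec.map (CommRingCat.ofHom (algebraMap k B))) :
    ∃ (j : Spec (CommRingCat.of (B ⧸ nilradical B)) ⟶ X.nilradical.subscheme),
      IsOpenImmersion j ∧
      j ≫ X.nilradical.subschemeι ≫ f = Spec.map (CommRingCat.ofHom (algebraMap k (B ⧸ nilradical B))) ∧
      X.nilradical.subschemeι ⁻¹' Set.range c ⊆ Set.range j := by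
  let P := pullback c X.nilradical.subschemeι
  have hP : IsReduced P := isReduced_of_isOpenImmersion (pullback.snd c X.nilradical.subschemeι)
  obtain ⟨I, e, he⟩ := IsClosedImmersion.Spec_iff.mp
    (inferInstance : IsClosedImmersion (pullback.fst c X.nilradical.subschemeι))
  have : IsReduced (Spec (CommRingCat.of (B ⧸ I))) := isReduced_of_isOpenImmersion e.inv
  have hrad : I.IsRadical := (Ideal.isRadical_iff_quotient_reduced I).mpr
    ((affine_isReduced_iff (CommRingCat.of (B ⧸ I))).mp this)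
  have hsurj : Function.Surjective (pullback.fst c X.nilradical.subschemeι) := fun z ↦ by
    obtain ⟨w, hw⟩ := Groth.Agent.FBase.LenBC.surjective_nilradical_subschemeι (c z)
    obtain ⟨t, ht, -⟩ := Scheme.Pullback.exists_preimage_pullback z w hw.symm
    exact ⟨t, ht⟩
  have hI : I = nilradical B := by
    refine le_antisymm ?_ ?_
    · rw [nilradical_eq_sInf]
      refine le_sInf fun q (hq : q.IsPrime) ↦ ?_
      obtain ⟨t, ht⟩ := hsurj (⟨q, hq⟩ : PrimeSpectrum B)
      rw [he, Scheme.Hom.comp_apply] at ht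
      intro a ha
      have : a ∈ (PrimeSpectrum.comap (Ideal.Quotient.mk I) (e.hom t)).asIdeal := by
        show Ideal.Quotient.mk I a ∈ (e.hom t).asIdeal
        rw [Ideal.Quotient.eq_zero_iff_mem.mpr ha]; exact zero_mem _
      exact (congrArg PrimeSpectrum.asIdeal ht).le this
    · exact fun a ha ↦ hrad (Ideal.radical_mono bot_le ha)
  subst hI
  refine ⟨e.inv ≫ pullback.snd c X.nilradical.subschemeι, inferInstance, ?_, ?_⟩
  · rw [Category.assoc, ← pullback.condition_assoc, hc, he, Category.assoc, ← Spec.map_comp,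
      Iso.inv_hom_id_assoc, ← CommRingCat.ofHom_comp]
  · rintro w ⟨z, hz⟩
    obtain ⟨t, -, ht⟩ := Scheme.Pullback.exists_preimage_pullback z w hz
    exact ⟨e.hom t, by
      rw [← Scheme.Hom.comp_apply, Iso.hom_inv_id_assoc]; exact ht⟩

/-- Let X be a k-scheme locally of finite type, having only finitely many irreducible components. There
is then a finite purely inseparable extension k' of k for which the reduction of X_{k'} (the closed
subscheme defined by the nilradical) is geometrically reduced over k'. -/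
theorem result (k : Type u) [Field k] (X : Scheme.{u}) [X.Over (Spec (CommRingCat.of k))] [LocallyOfFiniteType (X ↘ (Spec (CommRingCat.of k)))]
    (hirr : (irreducibleComponents (X : Type u)).Finite) :
    ∃ (k' : Type u) (_ : Field k') (_ : Algebra k k'), FiniteDimensional k k' ∧ IsPurelyInseparable k k' ∧
      GeometricallyReduced ((Curv2.bc k X k').nilradical.subschemeι ≫ Curv2.bcSnd k X k') := by
  classical
  let S := {Z : Set X // Z ∈ irreducibleComponents (X : Type u)}
  haveI : Finite S := hirr.to_subtype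
  cases nonempty_fintype S
  choose η hη using fun Z : S ↦ QuasiSober.sober Z.2.1 (isClosed_of_mem_irreducibleComponents Z.1 Z.2)
  choose A _ _ j p _ hp hj using fun Z : S ↦ exists_chart (X ↘ Spec (CommRingCat.of k)) (η Z)
  haveI := fun Z : S ↦ Groth.Agent.FBase.Dim.finiteType_of_chart (X ↘ Spec (CommRingCat.of k)) (j Z) (hj Z)
  haveI := Groth.Agent.S6929.finiteType_pi k A
  obtain ⟨k', _, _, hfin, hpi, hgr⟩ := Groth.Agent.S2514.result (k := k) (∀ Z, A Z)
  refine ⟨k', inferInstance, inferInstance, hfin, hpi, ?_⟩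
  let X' := Curv2.bc k X k'
  let f' : X'.nilradical.subscheme ⟶ Spec (CommRingCat.of k') :=
    X'.nilradical.subschemeι ≫ Curv2.bcSnd k X k'
  letI : X'.nilradical.subscheme.Over (Spec (CommRingCat.of k')) := ⟨f'⟩
  refine Groth.Agent.GeomLoc.geometricallyReduced_of_generic (k := k') (X := X'.nilradical.subscheme) ?_
  intro Z hZ w hw
  let ι := X'.nilradical.subschemeι
  have hιh : IsHomeomorph ι := (isHomeomorph_iff_isEmbedding_surjective).mpr
    ⟨ι.isClosedEmbedding.isEmbedding, Groth.Agent.FBase.LenBC.surjective_nilradical_subschemeι⟩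
  have hZ' : ι '' Z ∈ irreducibleComponents ↥X' :=
    image_mem_irreducibleComponents_of_isPreirreducible_fiber ι hιh.continuous hιh.isOpenMap
      (fun z ↦ (Set.subsingleton_singleton.preimage hιh.injective).isPreirreducible) hιh.surjective hZ
  have hw' : IsGenericPoint (ι w) (ι '' Z) := by
    have := hw.image ι.continuous
    rwa [(hιh.isClosedMap _ (isClosed_of_mem_irreducibleComponents Z hZ)).closure_eq] at this
  obtain ⟨-, hc⟩ := Groth.Agent.VarBC.image_component (X ↘ Spec (CommRingCat.of k)) (K := k') hZ' hw'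
  let Z₀ : S := ⟨_, hc⟩
  have hη₀ : pullback.fst (X ↘ Spec (CommRingCat.of k)) (specMap k k') (ι w) = η Z₀ :=
    IsGenericPoint.eq (S := Z₀.1) (show IsGenericPoint _ Z₀.1 from rfl) (hη Z₀)
  let f := X ↘ Spec (CommRingCat.of k)
  let e₀ : A Z₀ ⊗[k] k' ≃ₐ[k] k' ⊗[k] A Z₀ := Algebra.TensorProduct.comm k (A Z₀) k'
  let c : Spec (CommRingCat.of (k' ⊗[k] A Z₀)) ⟶ X' :=
    Spec.map (CommRingCat.ofHom e₀.toRingEquiv.toRingHom) ≫ bcChart f (j Z₀) k' (hj Z₀)
  haveI : IsIso (Spec.map (CommRingCat.ofHom e₀.toRingEquiv.toRingHom)) :=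
    inferInstanceAs (IsIso (Scheme.Spec.map e₀.toRingEquiv.toCommRingCatIso.hom.op))
  have hsc : Function.Surjective (Spec.map (CommRingCat.ofHom e₀.toRingEquiv.toRingHom)) :=
    (Scheme.Hom.homeomorph (Spec.map (CommRingCat.ofHom e₀.toRingEquiv.toRingHom))).surjective
  have hcf : c ≫ Curv2.bcSnd k X k' =
      Spec.map (CommRingCat.ofHom (algebraMap k' (k' ⊗[k] A Z₀))) := by
    show (_ ≫ bcChart f (j Z₀) k' (hj Z₀)) ≫ pullback.snd f (specMap k k') = _
    rw [Category.assoc, bcChart, pullback.map]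
    erw [Category.assoc, pullback.lift_snd, Category.comp_id, pullbackSpecIso_inv_snd]
    rw [← Spec.map_comp, ← CommRingCat.ofHom_comp]
    rfl
  obtain ⟨jr, hjr, hjrf, hjrange⟩ := exists_red_chart (Curv2.bcSnd k X k') c hcf
  obtain ⟨q, hq⟩ : w ∈ Set.range jr := by
    refine hjrange ?_
    show ι w ∈ Set.range c
    obtain ⟨z, hz⟩ : ι w ∈ Set.range (bcChart f (j Z₀) k' (hj Z₀)) := by
      rw [range_bcChart]
      exact ⟨p Z₀, (hp Z₀).trans hη₀.symm⟩
    obtain ⟨z, rfl⟩ := hsc z
    exact ⟨z, (Scheme.Hom.comp_apply _ _ _).trans hz⟩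
  rw [← hq, Groth.Agent.GeomLoc.isGeomReducedAt_iff_chart jr hjrf q]
  haveI := hgr
  haveI : Algebra.IsGeometricallyReduced k' ((k' ⊗[k] A Z₀) ⧸ nilradical (k' ⊗[k] A Z₀)) :=
    factor_of_pi A Z₀
  exact Groth.Agent.FBase.Point.isGeometricallyReduced_of_isLocalization
    (A := (k' ⊗[k] A Z₀) ⧸ nilradical (k' ⊗[k] A Z₀)) q.asIdeal.primeCompl _

end Groth.Agent.S1629
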