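import Groth.Statements.S1358
import Groth.Agent.FlatMor.UnivHomeoOrder
import Groth.Agent.FlatMisc.GenericFlat
import Groth.Agent.FlatMor.GenericQS
import Groth.Agent.FDesc.GenericClosure
import Groth.Agent.PerfSch.Perfect
import Groth.Agent.RedSub.Basic
import Groth.Agent.S1629
import Groth.Agent.S4368
import Mathlib.Topology.NoetherianSpace

set_option autoImplicit false
set_option linter.style.haveILetI false
universe u
open FlatMor

namespace Groth.Agent.S1358

open AlgebraicGeometry CategoryTheory Limits in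
/-- The generic fibre of a reduced scheme over an integral base is reduced. -/
theorem isReduced_fiber_genericPoint {X Y : Scheme.{u}} [IsIntegral Y] [IsReduced X] (f : X ⟶ Y) :
    IsReduced (f.fiber (genericPoint Y)) := by
  haveI := FDesc.GenericClosure.flat_fromSpecResidueField_genericPoint (Y := Y)
  let q := f.fiberι (genericPoint Y)
  haveI : Flat q := MorphismProperty.pullback_fst _ _ inferInstance
  haveI : ∀ w, _root_.IsReduced ((f.fiber (genericPoint Y)).presheaf.stalk w) := fun w => by
    have hflat : (q.stalkMap w).hom.Flat := Flat.stalkMap q w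
    haveI : IsLocalHom (q.stalkMap w).hom := q.toLRSHom.prop w
    algebraize [(q.stalkMap w).hom]
    haveI := Module.FaithfullyFlat.of_flat_of_isLocalHom
      (A := X.presheaf.stalk (q w)) (B := (f.fiber (genericPoint Y)).presheaf.stalk w)
    have hb : Function.Bijective (q.stalkMap w).hom :=
      ⟨RingHom.injective_iff_ker_eq_bot _ |>.mpr (by
        rw [← RingHom.injective_iff_ker_eq_bot]
        exact FaithfulSMul.algebraMap_injective _ _), q.stalkMap_surjective w⟩
    let e := RingEquiv.ofBijective _ hb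
    exact isReduced_of_injective e.symm e.symm.injective
  exact isReduced_of_isReduced_stalk _

open AlgebraicGeometry CategoryTheory Limits in
set_option maxHeartbeats 1600000 in
set_option backward.isDefEq.respectTransparency.types false in
set_option backward.isDefEq.respectTransparency false in
/-- Let f be of finite type with irreducible target Y. Then there are a nonempty open V of Y, a finite
universal homeomorphism g from an integral affine scheme Y' to V, and a reduced scheme X' with a
surjective closed immersion into the base change of X to Y' (so X' is the reduction of that base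
change), such that X' → Y' is flat and of finite presentation and its generic fibre is geometrically
reduced. -/
theorem result {X Y : Scheme.{u}} (f : X ⟶ Y) [IrreducibleSpace ↑Y] [LocallyOfFiniteType f] [QuasiCompact f] :
    ∃ (V : Y.Opens) (Y' : Scheme.{u}) (g : Y' ⟶ (V : Scheme.{u})) (X' : Scheme.{u}) (r : X' ⟶ pullback f (g ≫ V.ι)) (hY' : IsIntegral Y'),
      (V : Set ↑Y).Nonempty ∧ IsAffine Y' ∧ IsFinite g ∧ FlatMor.IsUnivHomeo g ∧ IsClosedImmersion r ∧ Surjective r ∧ IsReduced X' ∧
      Flat (r ≫ pullback.snd f (g ≫ V.ι)) ∧ LocallyOfFinitePresentation (r ≫ pullback.snd f (g ≫ V.ι)) ∧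
      QuasiCompact (r ≫ pullback.snd f (g ≫ V.ι)) ∧ QuasiSeparated (r ≫ pullback.snd f (g ≫ V.ι)) ∧
      GeometricallyReduced ((r ≫ pullback.snd f (g ≫ V.ι)).fiberToSpecResidueField (genericPoint ↑Y')) := by
  classical
  obtain ⟨η, hη⟩ : ∃ η, genericPoint ↑Y = η := ⟨_, rfl⟩
  have hηgen : ∀ y : Y, η ⤳ y := fun y => hη ▸ genericPoint_specializes y
  obtain ⟨V₀, hV, hηV, -⟩ := exists_isAffineOpen_mem_and_subset (U := (⊤ : Y.Opens)) (x := η) trivial
  obtain ⟨p, hp⟩ : η ∈ Set.range hV.fromSpec := by rw [hV.range_fromSpec]; exact hηV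
  subst hp
  let k := Y.residueField (hV.fromSpec p)
  let R := Γ(Y, V₀)
  let fib := f.fiberToSpecResidueField (hV.fromSpec p)
  haveI : LocallyOfFiniteType fib := MorphismProperty.pullback_snd _ _ inferInstance
  haveI : QuasiCompact fib := MorphismProperty.pullback_snd _ _ inferInstance
  haveI : IsLocallyNoetherian (f.fiber (hV.fromSpec p)) := LocallyOfFiniteType.isLocallyNoetherian fib
  haveI : CompactSpace ↥(f.fiber (hV.fromSpec p)) := QuasiCompact.compactSpace_of_compactSpace fib
  haveI : IsNoetherian (f.fiber (hV.fromSpec p)) := ⟨⟩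
  letI : (f.fiber (hV.fromSpec p)).Over (Spec (CommRingCat.of k)) := ⟨fib⟩
  haveI : LocallyOfFiniteType (f.fiber (hV.fromSpec p) ↘ Spec (CommRingCat.of k)) :=
    inferInstanceAs (LocallyOfFiniteType fib)
  obtain ⟨L, _, _, _, _, hL⟩ := Groth.Agent.S1629.result k (f.fiber (hV.fromSpec p))
    (TopologicalSpace.NoetherianSpace.finite_irreducibleComponents)
  -- the residue field at the generic point
  let c : k ⟶ CommRingCat.of p.asIdeal.ResidueField :=
    hV.fromSpec.residueFieldMap p ≫ (Scheme.Spec.residueFieldIso R p).hom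
  let ρc : R ⟶ k := CommRingCat.ofHom (algebraMap R p.asIdeal.ResidueField) ≫ inv c
  have hρc : Spec.map ρc ≫ hV.fromSpec = Y.fromSpecResidueField (hV.fromSpec p) := by
    simp only [ρc, c, IsIso.inv_comp, IsIso.Iso.inv_hom, Spec.map_comp, Category.assoc]
    rw [← cancel_epi (Spec.map (hV.fromSpec.residueFieldMap p)),
      Scheme.Hom.SpecMap_residueFieldMap_fromSpecResidueField, ← Spec.map_comp_assoc,
      IsIso.inv_hom_id, Spec.map_id, Category.id_comp, ← Category.assoc,
      Scheme.Spec.map_residueFieldIso_inv_eq_fromSpecResidueField]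
  have hker : RingHom.ker ρc.hom = p.asIdeal := by
    ext r
    show inv c (algebraMap R p.asIdeal.ResidueField r) = 0 ↔ _
    rw [map_eq_zero_iff _ (ConcreteCategory.bijective_of_isIso (inv c)).1,
      Ideal.algebraMap_residueField_eq_zero]
  have hp₀ : ∀ q : Ideal R, q.IsPrime → p.asIdeal ≤ q := fun q hq =>
    (PrimeSpectrum.le_iff_specializes p ⟨q, hq⟩).mpr
      (hV.fromSpec.isOpenEmbedding.isInducing.specializes_iff.mp (hηgen _))
  have hfrac : ∀ x : k, ∃ a s : R, ρc.hom s ≠ 0 ∧ x = ρc.hom a / ρc.hom s := by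
    intro x
    obtain ⟨a, s, hs, he⟩ := IsFractionRing.div_surjective (A := R ⧸ p.asIdeal) (c x)
    obtain ⟨a, rfl⟩ := Ideal.Quotient.mk_surjective a
    obtain ⟨s, rfl⟩ := Ideal.Quotient.mk_surjective s
    refine ⟨a, s, fun h => nonZeroDivisors.ne_zero hs ?_, ?_⟩
    · exact Ideal.Quotient.eq_zero_iff_mem.mpr (hker.le (RingHom.mem_ker.mpr h))
    · apply (ConcreteCategory.bijective_of_isIso c).1
      rw [map_div₀]
      simp only [ρc, CommRingCat.comp_apply, IsIso.inv_hom_id_apply]
      exact he.symm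
  obtain ⟨E, _, _, φ, ψ, hψ, hfin, hrad, hcomp, hclos⟩ :=
    FlatMor.UnivHomeoOrder.exists_univHomeo_order (L := L) ρc.hom hfrac (fun q hq => hker.le.trans (hp₀ q hq))
  let S := Spec (CommRingCat.of E)
  let π : S ⟶ Spec R := Spec.map (CommRingCat.ofHom φ)
  haveI : IsFinite π := (IsFinite.SpecMap_iff _).mpr hfin
  obtain ⟨-, hπui, hπs⟩ := (WN.isUnivHomeo_iff π).mp ((WN.isUnivHomeo_specMap_iff φ).mpr hrad)
  let gg0 : S ⟶ Y := π ≫ hV.fromSpec
  -- generic flatness of the reduction over the integral base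
  let ι0 := (pullback f gg0).nilradical.subschemeι
  haveI : Surjective ι0 := ⟨Set.range_eq_univ.mp (by
    rw [Scheme.IdealSheafData.range_subschemeι, Scheme.support_nilradical]; rfl)⟩
  let s0 := ι0 ≫ pullback.snd f gg0
  obtain ⟨W', -, hW'ne, hfl, hfp⟩ := FlatMisc.GenericFlat.exists_open s0 ⊤ ⟨genericPoint S, trivial⟩
  obtain ⟨W, hWW', hWne, hqs⟩ := FlatMor.GenericQS.exists_open_quasiSeparated s0 W' hW'ne
  obtain ⟨a, haW, hane⟩ : ∃ a : R, π ⁻¹ᵁ PrimeSpectrum.basicOpen a ≤ W ∧
      (π ⁻¹ᵁ PrimeSpectrum.basicOpen a : Set S).Nonempty := by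
    have hh := PerfSch.Perfect.isHomeomorph_of_isUnivHomeo π ((WN.isUnivHomeo_specMap_iff φ).mpr hrad)
    obtain ⟨w, hw⟩ := hWne
    obtain ⟨_, ⟨_, ⟨a, rfl⟩, rfl⟩, hwa, hsub⟩ :=
      PrimeSpectrum.isBasis_basic_opens.exists_subset_of_mem_open
        (Set.mem_image_of_mem π hw) (hh.isOpenMap _ W.2)
    refine ⟨a, fun x hx => ?_, ⟨w, hwa⟩⟩
    obtain ⟨x', hx', he⟩ := hsub hx
    exact hh.injective he ▸ hx'
  let D : (Spec R).Opens := PrimeSpectrum.basicOpen a
  let U : S.Opens := π ⁻¹ᵁ D
  haveI : IsAffine (U : Scheme.{u}) := by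
    have h : IsAffineOpen D := IsAffineOpen.Spec_basicOpen a
    exact h.preimage π
  haveI : Nonempty (U : Scheme.{u}) := hane.to_subtype
  haveI hY' : IsIntegral (U : Scheme.{u}) := isIntegral_of_isOpenImmersion U.ι
  let j : (D : Scheme.{u}) ⟶ Y := D.ι ≫ hV.fromSpec
  let V : Y.Opens := j.opensRange
  let g : (U : Scheme.{u}) ⟶ (V : Scheme.{u}) := (π ∣_ D) ≫ j.isoOpensRange.hom
  haveI : IsFinite (π ∣_ D) := IsZariskiLocalAtTarget.restrict ‹_› D
  haveI : UniversallyInjective (π ∣_ D) := IsZariskiLocalAtTarget.restrict hπui D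
  haveI : Surjective (π ∣_ D) := IsZariskiLocalAtTarget.restrict hπs D
  have hgg : g ≫ V.ι = U.ι ≫ gg0 := by
    simp only [g, j, V, gg0, U, Category.assoc, Scheme.Hom.isoOpensRange_hom_ι,
      morphismRestrict_ι_assoc]
  let gg := g ≫ V.ι
  let m : pullback f gg ⟶ pullback f gg0 := pullback.map f gg f gg0 (𝟙 X) U.ι (𝟙 Y) (by simp)
    (by rw [Category.comp_id]; exact hgg)
  have hm : IsPullback m (pullback.snd f gg) (pullback.snd f gg0) U.ι := by
    refine IsPullback.of_right (h₁₂ := pullback.fst f gg0) (v₁₃ := f) (h₂₂ := gg0) ?_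
      (pullback.lift_snd _ _ _) (IsPullback.of_hasPullback f gg0)
    rw [pullback.lift_fst, Category.comp_id, ← hgg]
    exact IsPullback.of_hasPullback f gg
  haveI : IsOpenImmersion m := MorphismProperty.of_isPullback hm.flip inferInstance
  let X' := pullback ι0 m
  let r : X' ⟶ pullback f gg := pullback.snd ι0 m
  haveI : IsReduced X' := isReduced_of_isOpenImmersion (pullback.fst ι0 m)
  haveI : IsClosedImmersion r := MorphismProperty.pullback_snd _ _ inferInstance
  haveI : Surjective r := MorphismProperty.pullback_snd _ _ inferInstance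
  have hX' : IsPullback (pullback.fst ι0 m) (r ≫ pullback.snd f gg) s0 U.ι :=
    (IsPullback.of_hasPullback ι0 m).paste_vert hm
  have hbc : ∀ (P : MorphismProperty Scheme.{u}) [P.IsStableUnderBaseChange] (W₁ : S.Opens),
      U ≤ W₁ → P (s0 ∣_ W₁) → P (r ≫ pullback.snd f gg) := by
    intro P _ W₁ hle hP
    have hres := isPullback_morphismRestrict s0 W₁
    have hlift : pullback.fst ι0 m ≫ s0 = ((r ≫ pullback.snd f gg) ≫ S.homOfLE hle) ≫ W₁.ι := by
      rw [Category.assoc, Scheme.homOfLE_ι]; exact hX'.w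
    refine MorphismProperty.of_isPullback
      (f' := hres.flip.lift (pullback.fst ι0 m) ((r ≫ pullback.snd f gg) ≫ S.homOfLE hle) hlift)
      (f := S.homOfLE hle) ?_ hP
    refine IsPullback.of_right ?_ (hres.flip.lift_snd _ _ _) hres.flip
    rw [hres.flip.lift_fst, Scheme.homOfLE_ι]
    exact hX'
  haveI : Flat (r ≫ pullback.snd f gg) := hbc @Flat W' (haW.trans hWW') hfl
  haveI : LocallyOfFinitePresentation (r ≫ pullback.snd f gg) :=
    hbc @LocallyOfFinitePresentation W' (haW.trans hWW') hfp
  haveI : QuasiCompact (pullback.snd f gg) := MorphismProperty.pullback_snd _ _ inferInstance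
  haveI : QuasiSeparated (r ≫ pullback.snd f gg) := hbc @QuasiSeparated W haW hqs
  refine ⟨V, U, g, X', r, hY', ⟨(g ≫ V.ι) (genericPoint ↥(U : Scheme.{u})), (g (genericPoint _)).2⟩,
    inferInstance, inferInstance, ?_, inferInstance, inferInstance, inferInstance, inferInstance,
    inferInstance, inferInstance, inferInstance, ?_⟩
  · rw [WN.isUnivHomeo_iff]
    exact ⟨inferInstance, MorphismProperty.comp_mem @UniversallyInjective _ _ inferInstance inferInstance,
      inferInstance⟩
  -- the generic fibre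
  obtain ⟨ζ, hζ⟩ : ∃ ζ, genericPoint ↥(U : Scheme.{u}) = ζ := ⟨_, rfl⟩
  show GeometricallyReduced ((r ≫ pullback.snd f gg).fiberToSpecResidueField (genericPoint ↥(U : Scheme.{u})))
  haveI : IsReduced ((r ≫ pullback.snd f gg).fiber ζ) := hζ ▸ isReduced_fiber_genericPoint _
  rw [hζ]
  obtain ⟨ω, hω⟩ := Spec.map_surjective ((U : Scheme.{u}).fromSpecResidueField ζ ≫ U.ι)
  obtain ⟨t, ht⟩ : ∃ t : Spec (CommRingCat.of L) ⟶ (U : Scheme.{u}),
      t ≫ U.ι = Spec.map (CommRingCat.ofHom ψ) := by
    refine ⟨IsOpenImmersion.lift U.ι _ ?_, IsOpenImmersion.lift_fac _ _ _⟩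
    rintro _ ⟨x, rfl⟩
    rw [Scheme.Opens.range_ι]
    have h2 : Spec.map (CommRingCat.ofHom ψ) x = genericPoint S := by
      rw [genericPoint_eq_bot_of_affine]
      refine PrimeSpectrum.ext ?_
      have hb : x.asIdeal = ⊥ := (Ideal.eq_bot_or_top x.asIdeal).resolve_right x.isPrime.ne_top
      show x.asIdeal.comap ψ = ⊥
      rw [hb, ← RingHom.ker_eq_comap_bot, (RingHom.injective_iff_ker_eq_bot ψ).mp hψ]
    rw [h2]
    obtain ⟨w, hw⟩ := hane
    exact (genericPoint_specializes w).mem_open U.2 hw
  have htζ : t (IsLocalRing.closedPoint L) = ζ := by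
    apply U.ι.isOpenEmbedding.injective
    rw [← Scheme.Hom.comp_apply, ht, ← hζ, genericPoint_eq_of_isOpenImmersion U.ι,
      genericPoint_eq_bot_of_affine]
    refine PrimeSpectrum.ext ?_
    show (IsLocalRing.maximalIdeal L).comap ψ = ⊥
    rw [IsLocalRing.maximalIdeal_eq_bot, ← RingHom.ker_eq_comap_bot,
      (RingHom.injective_iff_ker_eq_bot ψ).mp hψ]
  subst htζ
  let χ := (U : Scheme.{u}).descResidueField (Scheme.stalkClosedPointTo t)
  have hχt : Spec.map χ ≫ (U : Scheme.{u}).fromSpecResidueField _ = t :=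
    Scheme.descResidueField_stalkClosedPointTo_fromSpecResidueField L _ t
  have hωχ : ω ≫ χ = CommRingCat.ofHom ψ := by
    apply Spec.map_injective
    rw [Spec.map_comp, hω, reassoc_of% hχt, ht]
  haveI : IsIso χ := by
    refine (ConcreteCategory.isIso_iff_bijective _).mpr ⟨χ.hom.injective, ?_⟩
    refine RingHom.fieldRange_eq_top_iff.mp (eq_top_iff.mpr ?_)
    rw [← hclos, Subfield.closure_le]
    rintro _ ⟨e, rfl⟩
    exact ⟨ω e, congrArg (fun h => h.hom e) hωχ⟩
  let i := inv (Spec.map χ)
  let iL := Spec.map (CommRingCat.ofHom (algebraMap k L))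
  have hb : (U : Scheme.{u}).fromSpecResidueField (t (IsLocalRing.closedPoint L)) ≫ gg =
      (i ≫ iL) ≫ Y.fromSpecResidueField (hV.fromSpec p) := by
    rw [← cancel_epi (Spec.map χ), reassoc_of% hχt]
    simp only [i, gg, Category.assoc, IsIso.hom_inv_id_assoc]
    rw [hgg, reassoc_of% ht, ← hρc]
    simp only [gg0, π, iL, ← Spec.map_comp_assoc]
    congr 2
    exact CommRingCat.hom_ext hcomp
  let z := t (IsLocalRing.closedPoint L)
  let e' : (pullback.snd f gg).fiber z ≅ pullback fib iL :=
    pullbackLeftPullbackSndIso f gg _ ≪≫ pullback.congrHom rfl hb ≪≫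
      (pullbackLeftPullbackSndIso f _ _).symm ≪≫ (pullbackLeftPullbackSndIso fib iL i).symm ≪≫
        asIso (pullback.fst (pullback.snd fib iL) i)
  have he : (pullback.snd f gg).fiberToSpecResidueField z ≫ i = e'.hom ≫ pullback.snd fib iL := by
    simp only [e', fib, Iso.trans_hom, Category.assoc, asIso_hom, Iso.symm_hom]
    rw [pullback.condition]
    simp [Scheme.Hom.fiberToSpecResidueField, pullback.map]
    exact (pullbackLeftPullbackSndIso_hom_snd_assoc f gg ((U : Scheme.{u}).fromSpecResidueField z) i).symm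
  let ρ : (r ≫ pullback.snd f gg).fiber z ⟶ (pullback.snd f gg).fiber z :=
    pullback.lift (pullback.fst _ _ ≫ r) (pullback.snd _ _) (by rw [Category.assoc, pullback.condition])
  have hρ : IsPullback ρ (pullback.fst (r ≫ pullback.snd f gg) _) (pullback.fst (pullback.snd f gg) _) r :=
    (IsPullback.of_right (h₁₂ := pullback.snd (pullback.snd f gg) _) (v₁₃ := (U : Scheme.{u}).fromSpecResidueField z)
      (h₂₂ := pullback.snd f gg) (by rw [pullback.lift_snd]; exact (IsPullback.of_hasPullback _ _).flip)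
      (pullback.lift_fst _ _ _) (IsPullback.of_hasPullback _ _).flip)
  haveI : IsClosedImmersion ρ := MorphismProperty.of_isPullback hρ.flip inferInstance
  haveI : Surjective ρ := MorphismProperty.of_isPullback hρ.flip inferInstance
  let N := (pullback fib iL).nilradical
  haveI : IsReduced N.subscheme := (Groth.Agent.S4368.result _ _ (by rw [Scheme.support_nilradical])).mpr rfl
  haveI : Surjective (ρ ≫ e'.hom) := inferInstance
  obtain ⟨e, he₂⟩ := RedSub.exists_iso (ρ ≫ e'.hom) N.subschemeι (by
    rw [Scheme.IdealSheafData.range_subschemeι, Scheme.support_nilradical,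
      Set.range_eq_univ.mpr (ρ ≫ e'.hom).surjective]
    rfl)
  have hGR : GeometricallyReduced (N.subschemeι ≫ pullback.snd fib iL) := hL
  have key : (r ≫ pullback.snd f gg).fiberToSpecResidueField z =
      e.hom ≫ (N.subschemeι ≫ pullback.snd fib iL) ≫ inv i := by
    rw [← Category.assoc, ← Category.assoc e.hom, he₂, Category.assoc ρ, ← he, Category.assoc,
      Category.assoc, IsIso.hom_inv_id, Category.comp_id]
    exact (pullback.lift_snd _ _ _).symm
  rw [key]
  exact (MorphismProperty.cancel_left_of_respectsIso @GeometricallyReduced e.hom _).mpr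
    ((MorphismProperty.cancel_right_of_respectsIso @GeometricallyReduced _ (inv i)).mpr hGR)

end Groth.Agent.S1358
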