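import Groth.Statements.S4702
import Groth.Agent.EquidimPt.DimSum
import Groth.Agent.GUOpen.Fibre
-- import your own Groth.Agent.* helpers here

set_option autoImplicit false
universe u
open EGA4

namespace Groth.Agent.S4702

open AlgebraicGeometry CategoryTheory in
/-- Let Y be an irreducible locally Noetherian scheme of dimension 1, X an irreducible scheme and f : X
→ Y a dominant morphism of finite type. Then for every point y in the image of f, every irreducible
component of the fibre of f at y has dimension equal to the dimension of the generic fibre. -/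
theorem result {X Y : Scheme.{u}} (f : X ⟶ Y) [IsLocallyNoetherian Y]
    [IrreducibleSpace Y] [IrreducibleSpace X] (hY : topologicalKrullDim Y = 1) [LocallyOfFiniteType f]
    [QuasiCompact f] (hf : DenseRange f.base) (y : Y) (hy : y ∈ Set.range f.base)
    (Z : Set ↥(f.fiber y)) (hZ : Z ∈ irreducibleComponents ↥(f.fiber y)) :
    topologicalKrullDim Z = topologicalKrullDim ↥(f.fiber (genericPoint Y)) := by
  obtain ⟨ζ, hζ⟩ := QuasiSober.sober hZ.1 (isClosed_of_mem_irreducibleComponents Z hZ)
  have hη := Groth.Agent.EquidimPt.apply_genericPoint f hf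
  obtain ⟨e, -, hξfd, hfib⟩ := Groth.Agent.EquidimPt.fibreDimAt_genericPoint_facts f
  rw [hη] at hfib
  rw [hfib]
  let z : X := f.fiberι y ζ
  have hfz : f z = y := (f.range_fiberι y).le (Set.mem_range_self ζ)
  have hzmax : ∀ w, f w = f z → w ⤳ z → w = z := fun w hw hwz => by
    obtain ⟨v, rfl⟩ : w ∈ Set.range (f.fiberι y) := by rw [f.range_fiberι]; exact hw.trans hfz
    exact congrArg _ (Groth.Agent.QSect.max_of_component hZ hζ v ((f.fiberι y).isEmbedding.specializes_iff.1 hwz))
  have hZimg : f.fiberι y '' Z = closure {z} ∩ f.base ⁻¹' {y} := by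
    refine Set.Subset.antisymm ?_ ?_
    · rintro _ ⟨v, hv, rfl⟩
      exact ⟨specializes_iff_mem_closure.1 ((hζ.specializes hv).map (f.fiberι y).continuous),
        (f.range_fiberι y).le (Set.mem_range_self v)⟩
    · rintro w ⟨hwz, hw⟩
      obtain ⟨v, rfl⟩ : w ∈ Set.range (f.fiberι y) := by rw [f.range_fiberι]; exact hw
      exact ⟨v, ((f.fiberι y).isEmbedding.specializes_iff.1 (specializes_iff_mem_closure.2 hwz)).mem_closed
        (isClosed_of_mem_irreducibleComponents Z hZ) hζ.mem, rfl⟩
  have hZdim : topologicalKrullDim ↥Z = Order.krullDim {w : X | f w = y ∧ z ⤳ w} := by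
    rw [← Groth.Agent.FibSemi.topDim_closure_inter_fibre_eq, ← show _ = closure {z} ∩ f.base ⁻¹' {y} from hZimg]
    exact (((f.fiberι y).isEmbedding.homeomorphImage Z).isHomeomorph.topologicalKrullDim_eq)
  rw [hZdim]
  rcases eq_or_ne y (genericPoint Y) with rfl | hne
  · rw [show z = genericPoint X from (hzmax _ (by rw [hη, hfz]) (genericPoint_specializes z)).symm]
    obtain ⟨e', he', -, hfib'⟩ := Groth.Agent.EquidimPt.fibreDimAt_genericPoint_facts f
    rw [hη] at hfib' he'
    exact he'.trans (hfib'.symm.trans hfib)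
  obtain ⟨b, t, a, e', hb, ht, ha, he', hle, -⟩ :=
    Groth.Agent.EquidimPt.dim_equality f (genericPoint_specializes z)
  obtain ⟨k, t', -, hk, ht', -, hfd⟩ := Groth.Agent.EquidimPt.fibre_facts f z
  rw [Groth.Agent.EquidimPt.dim_zero_of_fMax f (fun w hw hfw => hzmax w hfw hw)] at hk
  rw [show k = 0 from Nat.cast_eq_zero.mp hk.symm, zero_add] at hfd
  have htt : t' = t := by rw [ht] at ht'; exact_mod_cast ht'.symm
  have hmono := Groth.Agent.EquidimPt.fibreDimAt_mono f (genericPoint_specializes z)
  rw [hξfd, hfd] at hmono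
  have hee : e' = e := by
    obtain ⟨e₂, he₂, hfd₂, -⟩ := Groth.Agent.EquidimPt.fibreDimAt_genericPoint_facts f
    rw [he₂] at he'
    rw [hfd₂] at hξfd
    exact_mod_cast he'.symm.trans hξfd
  have het : e ≤ t' := by exact_mod_cast hmono
  have ha1 : a ≤ 1 := by
    have hsub : topologicalKrullDim Y = Order.krullDim Y :=
      Order.krullDim_eq_of_orderIso irreducibleSetEquivPoints
    have := Order.krullDim_le_of_strictMono (Subtype.val : {w : Y | f (genericPoint X) ⤳ w ∧ w ⤳ f z} → Y)
      (fun _ _ hab => hab)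
    rw [ha, ← hsub, hY] at this
    exact_mod_cast this
  have hb1 : 1 ≤ b := by
    have hne' : genericPoint X ≠ z := fun h => hne (by rw [← hfz, ← h, hη])
    let u₀ : {w : X | genericPoint X ⤳ w ∧ w ⤳ z} := ⟨z, genericPoint_specializes z, specializes_rfl⟩
    let u₁ : {w : X | genericPoint X ⤳ w ∧ w ⤳ z} := ⟨genericPoint X, specializes_rfl, genericPoint_specializes z⟩
    have h01 : u₀ < u₁ := ⟨genericPoint_specializes z,
      fun hh => hne' ((genericPoint_specializes z).antisymm (show z ⤳ genericPoint X from hh)).eq⟩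
    let l : LTSeries {w : X | genericPoint X ⤳ w ∧ w ⤳ z} := (RelSeries.singleton _ u₀).snoc u₁ h01
    have h3 := (Order.le_krullDim_iff.mpr ⟨l, rfl⟩).trans_eq hb
    exact_mod_cast h3
  rw [← hfz, ht]
  exact_mod_cast (show t = e by omega)

end Groth.Agent.S4702
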