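import Groth.Statements.S0354
import Groth.Agent.GrpScheme.Dimension

set_option autoImplicit false
universe u v
open CategoryTheory MonoidalCategory CartesianMonoidalCategory MonObj GrpObj AlgebraicGeometry
open GrpSch

namespace Groth.Agent.S0354

/-- In a group scheme locally of finite type over a field, the local ring at every closed point has
Krull dimension equal to the dimension of the whole scheme. -/
theorem result (K : Type u) [Field K] (G : Over (Spec (CommRingCat.of K))) [GrpObj G] [LocallyOfFiniteType G.hom] (g : G.left) (hg : IsClosed ({g} : Set G.left)) : ringKrullDim (G.left.presheaf.stalk g) = topologicalKrullDim G.left := by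
  rw [ringKrullDim_stalk_eq_coheight]
  exact Groth.Agent.GrpScheme.Dimension.coheight_eq_topologicalKrullDim G g hg

end Groth.Agent.S0354
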