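import Groth.Statements.S13432
import Groth.Agent.NeronHD.SmoothLocus
import Groth.Agent.NeronLib.MapBij
import Groth.Agent.AlgSp.DenseFlat

set_option autoImplicit false
universe u
open CategoryTheory AlgebraicGeometry
open NeronHD

namespace Groth.Agent.S13432

/-- Let S be a normal Noetherian scheme over a field of characteristic 0 and S₀ ⊆ S a
scheme-theoretically dense open. Let π : T → S be finite with T normal, and let N ⊆ T be the open
subscheme where π is smooth (equivalently étale, π being finite). Then N → S has the Néron mapping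
property for S₀ ⊆ S: for every smooth S-scheme Z, restriction to S₀ is a bijection from S-morphisms
Z → N onto S₀-morphisms Z|S₀ → N|S₀. (In the published statement T is the normal finite S-scheme
compactifying a given quasi-projective étale S-scheme and N is the maximal quasi-projective étale
scheme containing it; that origin of T plays no role in this part of the proof, so any finite T → S
with T normal is allowed here. Case of schemes, with smooth test schemes, of a statement about
algebraic spaces.) -/
theorem result {k : Type u} [Field k] [CharZero k] {S : Scheme.{u}} (σ : S ⟶ Spec (CommRingCat.of k)) [IsNoetherian S] (hS : Pi1.IsNormalScheme S) (S₀ : S.Opens) (hS₀ : CInt.IsSchematicallyDense S₀)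
    {T : Scheme.{u}} (π : T ⟶ S) [IsFinite π] [LocallyOfFinitePresentation π] (hT : Pi1.IsNormalScheme T) :
    ∀ Z : Over S, Smooth Z.hom → Function.Bijective (fun g : Z ⟶ Over.mk (π.smoothLocus.ι ≫ π) => (Over.pullback S₀.ι).map g) := by
  intro Z hZsm
  haveI := hZsm
  haveI : IsLocallyNoetherian Z.left := LocallyOfFiniteType.isLocallyNoetherian Z.hom
  have hU := Groth.Agent.AlgSp.DenseFlat.preimage Z.hom S₀ hS₀
  rw [NeronLib.MapBij.bijective_iff S₀.ι _ _ (isPullback_morphismRestrict Z.hom S₀).flip]
  intro h hh
  obtain ⟨g, hg, hgU⟩ := NeronHD.exists_extension_integralHom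
    (SmoothNormal.isNormalScheme_of_smooth Z.hom hS) Z.hom π (Z.hom ⁻¹ᵁ S₀)
    (SchDense.dense_of_schDense hU) (h ≫ π.smoothLocus.ι) ((Category.assoc _ _ _).trans hh)
  have hmem : ∀ z : Z.left, g z ∈ π.smoothLocus := fun z => by
    obtain ⟨U', p', v, h', hp', hh', hzv, -⟩ := EtPoint.exists_etale_hit σ Z.hom z
    haveI := hp'
    exact (hzv.map g.continuous).mem_open π.smoothLocus.2
      (NeronHD.mem_smoothLocus_of_etale_section π hT p' (h' ≫ g) (by rw [Category.assoc, hg, hh']) v)
  let g' : Z.left ⟶ π.smoothLocus := IsOpenImmersion.lift π.smoothLocus.ι g (by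
    rintro _ ⟨z, rfl⟩
    rw [Scheme.Opens.range_ι]
    exact hmem z)
  have hg' : g' ≫ π.smoothLocus.ι = g := IsOpenImmersion.lift_fac _ _ _
  refine ⟨Over.homMk g' (by
    show g' ≫ π.smoothLocus.ι ≫ π = Z.hom
    rw [reassoc_of% hg', hg]), ?_, fun b hb => ?_⟩
  · show _ ≫ g' = h
    rw [← cancel_mono π.smoothLocus.ι, Category.assoc, hg', hgU]
  · haveI : IsSeparated (Over.mk (π.smoothLocus.ι ≫ π)).hom :=
      inferInstanceAs (IsSeparated (π.smoothLocus.ι ≫ π))
    refine SchDense.eq_of_isSeparated _ hU b _ ?_
    show _ ≫ b.left = _ ≫ g'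
    rw [← cancel_mono π.smoothLocus.ι, Category.assoc, Category.assoc, hg', hgU, ← hb]
    simp

end Groth.Agent.S13432
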