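import Groth.Statements.S3830
import Mathlib.RingTheory.Smooth.StandardSmoothOfFree
import Mathlib.RingTheory.RingHom.StandardSmooth
import Mathlib.RingTheory.Ideal.GoingDown
import Mathlib.RingTheory.Smooth.Flat
import Mathlib.RingTheory.Algebraic.MvPolynomial
import Mathlib.RingTheory.RingHom.Etale

set_option autoImplicit false
universe u
open Unram17

namespace Groth.Agent.S3830

/-- A quasi-finite point of an étale algebra over `A[X₁,…,Xₙ]` forces `n = 0`. -/
theorem eq_zero_of_etale_mvPolynomial (A C : Type u) [CommRing A] [CommRing C] [Algebra A C]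
    (n : ℕ) (g : MvPolynomial (Fin n) A →ₐ[A] C) (hg : g.Etale) (Q : Ideal C) [Q.IsPrime]
    [Algebra.QuasiFiniteAt A Q] : n = 0 := by
  by_contra hn
  let : Algebra (MvPolynomial (Fin n) A) C := g.toRingHom.toAlgebra
  have : IsScalarTower A (MvPolynomial (Fin n) A) C :=
    IsScalarTower.of_algebraMap_eq fun a => (g.commutes a).symm
  have : Algebra.Etale (MvPolynomial (Fin n) A) C := hg
  have : Module.Flat (MvPolynomial (Fin n) A) C := inferInstance
  let p := Q.under A
  let P := Q.under (MvPolynomial (Fin n) A)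
  let P0 : Ideal (MvPolynomial (Fin n) A) :=
    RingHom.ker (MvPolynomial.map (Ideal.Quotient.mk p))
  have hP0p : P0.IsPrime := RingHom.ker_isPrime _
  have hP0 : P0 = p.map MvPolynomial.C := by
    simp [P0, MvPolynomial.ker_map, Ideal.mk_ker]
  have hle : P0 ≤ P := by
    rw [hP0, Ideal.map_le_iff_le_comap]
    intro a ha
    change algebraMap (MvPolynomial (Fin n) A) C (algebraMap A (MvPolynomial (Fin n) A) a) ∈ Q
    rw [← IsScalarTower.algebraMap_apply]
    exact ha
  have : Q.LiesOver P := ⟨rfl⟩
  obtain ⟨Q0, hQ0le, hQ0p, hQ0⟩ := Ideal.exists_ideal_le_liesOver_of_le Q hle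
  have hQeq : Q0 = Q := by
    refine Algebra.QuasiFiniteAt.eq_of_le_of_under_eq (R := A) hQ0le ?_
    refine le_antisymm (fun a ha => hQ0le ha) fun a ha => ?_
    have h0 : algebraMap A (MvPolynomial (Fin n) A) a ∈ Q0.under (MvPolynomial (Fin n) A) := by
      rw [← hQ0.over, hP0]
      exact Ideal.mem_map_of_mem _ ha
    change algebraMap A C a ∈ Q0
    rw [IsScalarTower.algebraMap_apply A (MvPolynomial (Fin n) A) C]
    exact h0
  have hP : P = P0 := by rw [hQ0.over, hQeq]
  -- the first variable is algebraic over `A ⧸ p` in the residue field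
  let i : Fin n := ⟨0, Nat.pos_of_ne_zero hn⟩
  have : Q.LiesOver p := ⟨rfl⟩
  let := Localization.AtPrime.algebraOfLiesOver p Q
  have : Module.Finite p.ResidueField Q.ResidueField := inferInstance
  let : Algebra (A ⧸ p) Q.ResidueField :=
    ((algebraMap p.ResidueField Q.ResidueField).comp (algebraMap (A ⧸ p) p.ResidueField)).toAlgebra
  have : IsScalarTower (A ⧸ p) p.ResidueField Q.ResidueField := IsScalarTower.of_algebraMap_eq' rfl
  have : IsScalarTower A (A ⧸ p) Q.ResidueField := IsScalarTower.of_algebraMap_eq fun a => by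
    change _ = algebraMap p.ResidueField _ (algebraMap (A ⧸ p) p.ResidueField (algebraMap A _ a))
    rw [← IsScalarTower.algebraMap_apply A (A ⧸ p), ← IsScalarTower.algebraMap_apply A p.ResidueField]
  let x : Q.ResidueField := algebraMap C Q.ResidueField (g (MvPolynomial.X i))
  have hx : IsAlgebraic (A ⧸ p) x :=
    (IsFractionRing.isAlgebraic_iff (A ⧸ p) p.ResidueField Q.ResidueField).mpr
      (Algebra.IsAlgebraic.isAlgebraic x)
  obtain ⟨h', h'0, h'x⟩ := hx
  obtain ⟨h, rfl⟩ := Polynomial.map_surjective _ Ideal.Quotient.mk_surjective h'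
  rw [← Ideal.Quotient.algebraMap_eq, Polynomial.aeval_map_algebraMap] at h'x
  have hmem : Polynomial.aeval (MvPolynomial.X i : MvPolynomial (Fin n) A) h ∈ P := by
    change algebraMap (MvPolynomial (Fin n) A) C _ ∈ Q
    rw [← Ideal.algebraMap_residueField_eq_zero, ← Polynomial.aeval_algebraMap_apply,
      ← Polynomial.aeval_algebraMap_apply]
    exact h'x
  rw [hP, RingHom.mem_ker] at hmem
  apply h'0
  refine (transcendental_iff.mp (MvPolynomial.transcendental_X (A ⧸ p) i)) _ ?_
  rw [← Ideal.Quotient.algebraMap_eq, Polynomial.aeval_map_algebraMap]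
  rw [← hmem, Polynomial.aeval_def, Polynomial.aeval_def, Polynomial.hom_eval₂, MvPolynomial.map_X]
  congr 1
  ext a
  simp


/-- b) implies a) (affine pointwise form): let B be an A-algebra of finite presentation and q a prime of
B. If B is smooth over A at q and quasi-finite over A at q, then B is étale over A at q. -/
theorem result (A B : Type u) [CommRing A] [CommRing B] [Algebra A B]
    [Algebra.FinitePresentation A B] (q : Ideal B) [q.IsPrime] [Algebra.QuasiFiniteAt A q]
    (h : Algebra.IsSmoothAt A q) : Algebra.IsEtaleAt A q := by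
  obtain ⟨f, hf, hC⟩ := Algebra.IsSmoothAt.exists_notMem_isStandardSmooth A q
  obtain ⟨ι, σ, _, _, ⟨P⟩⟩ := hC.out
  have hn := P.isStandardSmoothOfRelativeDimension rfl
  obtain ⟨g, hg⟩ := Algebra.IsStandardSmoothOfRelativeDimension.exists_etale_mvPolynomial
    P.dimension A (Localization.Away f)
  let Q := q.map (algebraMap B (Localization.Away f))
  have hdisj : Disjoint (Submonoid.powers f : Set B) (q : Set B) := by
    rwa [Ideal.disjoint_powers_iff_notMem_of_isPrime]
  have hQp : Q.IsPrime := IsLocalization.isPrime_of_isPrime_disjoint (.powers f) _ _ ‹_› hdisj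
  have : Q.LiesOver q :=
    ⟨(IsLocalization.under_map_of_isPrime_disjoint (.powers f) _ ‹_› hdisj).symm⟩
  have : Algebra.QuasiFiniteAt A Q := .of_surjectiveOnStalks_of_liesOver q
    (RingHom.surjectiveOnStalks_of_isLocalization (.powers f) _) Q
  have h0 : P.dimension = 0 := eq_zero_of_etale_mvPolynomial A _ _ g hg Q
  have : Algebra.Etale A (Localization.Away f) :=
    Algebra.Etale.iff_isStandardSmoothOfRelativeDimension_zero.mpr (h0 ▸ hn)
  exact (Algebra.basicOpen_subset_etaleLocus_iff_etale.mpr this)
    (show (⟨q, inferInstance⟩ : PrimeSpectrum B) ∈ PrimeSpectrum.basicOpen f from hf)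

end Groth.Agent.S3830
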