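import Groth.Statements.S4997
import Mathlib.AlgebraicGeometry.Morphisms.Etale
import Mathlib.AlgebraicGeometry.Morphisms.QuasiFinite
import Mathlib.RingTheory.Unramified.LocalStructure
import Groth.Agent.S3830

set_option autoImplicit false
universe u
open CategoryTheory CategoryTheory.Limits AlgebraicGeometry TopologicalSpace
open Unram17

namespace Groth.Agent.S4997

/-- A morphism of schemes is etale if and only if it is smooth and locally quasi-finite. -/
theorem result {X Y : Scheme.{u}} (f : X ⟶ Y) :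
    Etale f ↔ Smooth f ∧ LocallyQuasiFinite f := by
  refine ⟨fun _ => ⟨inferInstance, ?_⟩, fun ⟨_, _⟩ => ?_⟩
  · refine (HasRingHomProperty.iff_appLE (P := @LocallyQuasiFinite)).mpr fun U V e => ?_
    have h := f.etale_appLE U.2 V.2 e
    algebraize [(f.appLE U.1 V.1 e).hom]
    have : Algebra.Etale Γ(Y, U.1) Γ(X, V.1) := h
    exact (inferInstance : Algebra.QuasiFinite Γ(Y, U.1) Γ(X, V.1))
  · refine (HasRingHomProperty.iff_appLE (P := @Etale)).mpr fun U V e => ?_
    have h₁ := (HasRingHomProperty.iff_appLE (P := @Smooth)).mp ‹_› U V e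
    have h₂ := (HasRingHomProperty.iff_appLE (P := @LocallyQuasiFinite)).mp ‹_› U V e
    algebraize [(f.appLE U.1 V.1 e).hom]
    have : Algebra.Smooth Γ(Y, U.1) Γ(X, V.1) := h₁
    have : Algebra.QuasiFinite Γ(Y, U.1) Γ(X, V.1) := h₂
    change Algebra.Etale Γ(Y, U.1) Γ(X, V.1)
    refine Algebra.etaleLocus_eq_univ_iff_etale.mp (Set.eq_univ_iff_forall.mpr fun q => ?_)
    exact S3830.result _ _ q.asIdeal ((Algebra.smoothLocus_eq_univ (R := Γ(Y, U.1))).ge (Set.mem_univ q))

end Groth.Agent.S4997
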