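import Groth.Statements.S5322
import Groth.Agent.GrpSGA.Fibre
-- import your own Groth.Agent.* helpers here

set_option autoImplicit false
universe u
open CategoryTheory CategoryTheory.Limits MonoidalCategory CartesianMonoidalCategory MonObj GrpObj AlgebraicGeometry
open SGA3

namespace Groth.Agent.S5322

/-- Let G be an S-group scheme and f : S' → S a morphism. Then the subset of G ×_S S' formed by the
neutral components of its fibres over S' is the inverse image, under the first projection G ×_S S' →
G, of the subset of G formed by the neutral components of the fibres G_s: the formation of the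
neutral component commutes with base change. -/
theorem result (S S' : Scheme.{u}) (f : S' ⟶ S) (G : Over S) [GrpObj G] :
    SGA3x.neutralSet (Red.bc f G) = (pullback.fst G.hom f).base ⁻¹' SGA3x.neutralSet G := by
  open Groth.Agent.GrpSGA Groth.Agent.GrpScheme in
  ext z
  let G' := Red.bc f G
  obtain ⟨y, hy⟩ := Groth.Agent.GrpSGA.Fibre.exists_mem_fib G' (x := z) (s := G'.hom z) rfl
  generalize hs' : G'.hom z = s' at y hy
  subst hy
  let s := f s'
  let φ := f.residueFieldMap s'
  have hφ : Spec.map φ ≫ S.fromSpecResidueField s = S'.fromSpecResidueField s' ≫ f :=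
    Scheme.Hom.SpecMap_residueFieldMap_fromSpecResidueField f s'
  open Groth.Agent.GrpSGA in
  let q : (Fibre.fib G' s').left ⟶ (Fibre.fib G s).left :=
    pullback.lift (Fibre.fibι G' s' ≫ pullback.fst G.hom f)
      (pullback.snd G'.hom (S'.fromSpecResidueField s') ≫ Spec.map φ) (by
      have h1 : pullback.fst G'.hom (S'.fromSpecResidueField s') ≫ pullback.snd G.hom f =
          pullback.snd G'.hom (S'.fromSpecResidueField s') ≫ S'.fromSpecResidueField s' :=
        pullback.condition
      rw [Category.assoc, pullback.condition, reassoc_of% h1, Category.assoc, hφ])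
  open Groth.Agent.GrpSGA in
  have hc : IsPullback q (Fibre.fib G' s').hom (Fibre.fib G s).hom (Spec.map φ) := by
    refine IsPullback.of_right ?_ (pullback.lift_snd _ _ _) (IsPullback.of_hasPullback G.hom (S.fromSpecResidueField s))
    rw [hφ]
    have : q ≫ pullback.fst G.hom (S.fromSpecResidueField s) = Fibre.fibι G' s' ≫ pullback.fst G.hom f :=
      pullback.lift_fst _ _ _
    rw [this]
    exact (IsPullback.of_hasPullback G'.hom _).paste_horiz (IsPullback.of_hasPullback G.hom f)
  have hq : ∀ w, (pullback.fst G.hom f) (Groth.Agent.GrpSGA.Fibre.fibι G' s' w) =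
      Groth.Agent.GrpSGA.Fibre.fibι G s (q w) := fun w => by
    rw [← Scheme.Hom.comp_apply, ← Scheme.Hom.comp_apply]
    have hfst : q ≫ pullback.fst G.hom (S.fromSpecResidueField s) = pullback.fst G'.hom (S'.fromSpecResidueField s') ≫ pullback.fst G.hom f :=
      pullback.lift_fst _ _ _
    exact congr($(hfst.symm) w)
  letI : Algebra (S.residueField s) (S'.residueField s') := φ.hom.toAlgebra
  have he : η[Groth.Agent.GrpSGA.Fibre.fib G s].left ≫ (Groth.Agent.GrpSGA.Fibre.fib G s).hom = 𝟙 _ :=
    Over.w _
  have hcon := Groth.Agent.GrpSGA.Fibre.isConnected_preimage_component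
    η[Groth.Agent.GrpSGA.Fibre.fib G s].left he (K := S'.residueField s') hc (IsLocalRing.closedPoint _)
  open Groth.Agent.GrpSGA Groth.Agent.GrpScheme in
  have hq0 : q (IdComponent.e₀ (Fibre.fib G' s')) = IdComponent.e₀ (Fibre.fib G s) := by
    refine (Fibre.isEmbedding_fibι G s).injective ?_
    rw [← hq, Fibre.fibι_unit, Fibre.fibι_unit]
    have h : η[G'].left ≫ pullback.fst G.hom f =
        (Functor.LaxMonoidal.ε (Over.pullback f)).left ≫ pullback.fst (𝟙_ (Over S)).hom f ≫ η[G].left := by
      rw [show η[G'] = η[Red.bc f G] from rfl, Functor.obj.η_def, Over.comp_left, Category.assoc]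
      exact congrArg _ (pullback.lift_fst _ _ _)
    obtain ⟨p, hp⟩ : ∃ p, pullback.fst G.hom f (η[G'].left s') = η[G].left p :=
      ⟨_, (Scheme.Hom.comp_apply _ _ _).symm.trans ((congr(($h) s')).trans
        ((Scheme.Hom.comp_apply _ _ _).trans (Scheme.Hom.comp_apply _ _ _)))⟩
    rw [hp]
    congr 1
    have h2 := congr(G.hom $hp)
    have h3 : G.hom (η[G].left p) = p := by
      rw [← Scheme.Hom.comp_apply, Over.w]; rfl
    rw [h3, ← Scheme.Hom.comp_apply, pullback.condition, Scheme.Hom.comp_apply] at h2
    have h4 : G'.hom (η[G'].left s') = s' := by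
      rw [← Scheme.Hom.comp_apply, Over.w]; rfl
    rw [← h2]
    exact congrArg f h4
  open Groth.Agent.GrpSGA Groth.Agent.GrpScheme in
  rw [Set.mem_preimage, Fibre.mem_neutralSet_iff, hq, Fibre.mem_neutralSet_iff]
  constructor
  · intro hy
    rw [← hq0]
    exact (isPreconnected_connectedComponent.image q q.continuous.continuousOn).subset_connectedComponent
      ⟨_, mem_connectedComponent, rfl⟩ ⟨y, hy, rfl⟩
  · intro hy
    refine hcon.2.subset_connectedComponent ?_ hy
    show q _ ∈ connectedComponent (IdComponent.e₀ (Fibre.fib G s))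
    rw [hq0]
    exact mem_connectedComponent

end Groth.Agent.S5322
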