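import Groth.Statements.S5325
import Groth.Agent.GrpSGA.NeutralCons

set_option autoImplicit false
universe u
open CategoryTheory CategoryTheory.Limits MonoidalCategory CartesianMonoidalCategory MonObj GrpObj AlgebraicGeometry
open SGA3

namespace Groth.Agent.S5325

/-- Let G be an S-group scheme locally of finite presentation over S, and let G⁰ denote the union of the
neutral components of the fibres G_s. Then (i) G⁰ is ind-constructible in G; (ii) if G is
quasi-separated over S and S is quasi-compact and quasi-separated, G⁰ is constructible in G; (iii)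
if G is quasi-separated over S, G⁰ is locally constructible in G. -/
theorem result (S : Scheme.{u}) (G : Over S) [GrpObj G] [LocallyOfFinitePresentation G.hom] :
    ProCons.IsIndConstructible (SGA3x.neutralSet G) ∧
    (QuasiSeparated G.hom → CompactSpace S → QuasiSeparatedSpace S → Topology.IsConstructible (SGA3x.neutralSet G)) ∧
    (QuasiSeparated G.hom → Topology.IsLocallyConstructible (SGA3x.neutralSet G)) := by
  refine ⟨fun x => ?_, fun hq hc hqs => ?_, fun hq => ?_⟩
  · obtain ⟨A, hA, hxA, -⟩ := exists_isAffineOpen_mem_and_subset (x := x) (U := ⊤) trivial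
    refine ⟨A, A.2, hxA, {C : Set (A : Scheme.{u}) | Topology.IsLocallyConstructible C ∧
      C ⊆ A.ι ⁻¹' SGA3x.neutralSet G}, fun C hC => hC.1, Set.Subset.antisymm (fun y hy => ?_) ?_⟩
    · obtain ⟨C, hC, hyC, hCN⟩ := Groth.Agent.GrpSGA.NeutralCons.exists_piece G hA y.2 hy
      exact ⟨C, ⟨hC, hCN⟩, hyC⟩
    · exact Set.sUnion_subset fun C hC => hC.2
  · have : CompactSpace (⊤ : S.Opens).toScheme := isCompact_iff_compactSpace.mp isCompact_univ
    have : QuasiSeparatedSpace (⊤ : S.Opens).toScheme :=
      (⊤ : S.Opens).ι.isOpenEmbedding.quasiSeparatedSpace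
    have h := Groth.Agent.GrpSGA.NeutralCons.isConstructible_over G (⊤ : S.Opens)
    have hsurj : Function.Surjective (G.hom ⁻¹ᵁ ⊤).ι := fun x => ⟨⟨x, trivial⟩, rfl⟩
    have hr : IsRetrocompact (Set.range (G.hom ⁻¹ᵁ ⊤).ι) := by
      rw [hsurj.range_eq]
      exact IsRetrocompact.univ
    have h2 := h.image_of_isOpenEmbedding (G.hom ⁻¹ᵁ ⊤).ι.isOpenEmbedding hr
    rwa [Set.image_preimage_eq _ hsurj] at h2
  · refine Topology.IsLocallyConstructible.of_isOpenCover
      (U := fun V : S.affineOpens => G.hom ⁻¹ᵁ (V : S.Opens))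
      (TopologicalSpace.IsOpenCover.comap (iSup_affineOpens_eq_top S) _) fun V => ?_
    have : IsAffine (V : S.Opens).toScheme := V.2
    exact (Groth.Agent.GrpSGA.NeutralCons.isConstructible_over G (V : S.Opens)).isLocallyConstructible

end Groth.Agent.S5325
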