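import Groth.Statements.S1536
import Groth.Agent.VarBC.H0
-- import your own Groth.Agent.* helpers here

set_option autoImplicit false
universe u
open CategoryTheory CategoryTheory.Limits AlgebraicGeometry
open Variety

namespace Groth.Agent.S1536

open Groth.Agent.VarBC Groth.Agent.FBase.BC

/-- For a proper scheme X over a field k which is geometrically reduced and geometrically connected,
H^0(X, O_X) is one-dimensional over k, i.e. the global functions are the constants. -/
theorem result (k : Type u) [Field k] (X : Scheme.{u}) [X.Over (Spec (CommRingCat.of k))] [IsProper (X ↘ (Spec (CommRingCat.of k)))]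
    [GeometricallyReduced (X ↘ (Spec (CommRingCat.of k)))] [GeometricallyConnected (X ↘ (Spec (CommRingCat.of k)))] :
    Module.finrank k (Coh.HH X (Coh.structureModule X) 0) = 1 := by
  have : ConnectedSpace ↥X :=
    GeometricallyConnected.connectedSpace_of_subsingleton (X ↘ Spec (CommRingCat.of k))
  letI := H0.topAlgebra k X
  have hb := H0.bijective_algebraMap k X
  let e : Coh.HH X (Coh.structureModule X) 0 ≃ₗ[k] Γ(X, ⊤) :=
    { Groth.Agent.AbVarLib.H0Field.h0Equiv X with
      map_smul' := fun c x ↦ Groth.Agent.AbVarLib.H0Field.h0Equiv_smul c x }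
  rw [e.finrank_eq, ← (LinearEquiv.ofBijective (Algebra.linearMap k Γ(X, ⊤)) hb).finrank_eq,
    Module.finrank_self]

end Groth.Agent.S1536
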