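import Groth.Statements.S15924
import Groth.Agent.NodalLib.NodeSplit
import Groth.Agent.CycLib.DevK0Class
import Groth.Agent.Omega.ProdDiff

set_option autoImplicit false
universe u
open CategoryTheory CategoryTheory.Limits AlgebraicGeometry
open Curves

namespace Groth.Agent.S15924

open Groth.Agent.PullStalk.Sky Groth.Agent.PullStalk.Exact Groth.Agent.Omega.Stalks OmegaSh
open Groth.Agent.StrictSSLib Groth.Agent.NodalLib IsLocalRing TopologicalSpace

/-- Over an algebraically closed field a node has a flat map to the formal node. -/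
theorem exists_formalNode (k : Type u) [Field k] [IsAlgClosed k] (X : Scheme.{u}) [X.Over (Spec (CommRingCat.of k))]
    [LocallyOfFiniteType (X ↘ (Spec (CommRingCat.of k)))]
    (P : X) (h : Curv2.IsNode k X P) :
    ∃ (a : Algebra (X.presheaf.stalk P) (FormalNode (AlgebraicClosure k))),
      letI := a
      IsLocalHom (algebraMap (X.presheaf.stalk P) (FormalNode (AlgebraicClosure k))) ∧
      Module.Flat (X.presheaf.stalk P) (FormalNode (AlgebraicClosure k)) ∧
      (maximalIdeal (X.presheaf.stalk P)).map (algebraMap _ _) = maximalIdeal (FormalNode (AlgebraicClosure k)) := by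
  obtain ⟨-, xb, rfl, hord⟩ := h
  let K := AlgebraicClosure k
  let p := Curv2.bcFst k X K
  haveI : IsIso (CommRingCat.ofHom (algebraMap k K)) := (ConcreteCategory.isIso_iff_bijective _).mpr
    IsAlgClosed.algebraMap_bijective_of_isIntegral
  have h1 : IsPullback p (Curv2.bcSnd k X K) (X ↘ Spec (CommRingCat.of k))
      (Spec.map (CommRingCat.ofHom (algebraMap k K))) := IsPullback.of_hasPullback _ _
  haveI : IsIso p := MorphismProperty.of_isPullback (P := MorphismProperty.isomorphisms Scheme.{u}) h1.flip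
    (show IsIso (Spec.map (CommRingCat.ofHom (algebraMap k K))) from inferInstance)
  haveI : LocallyOfFiniteType (Curv2.bcSnd k X K) := MorphismProperty.of_isPullback h1 inferInstance
  haveI : IsLocallyNoetherian (Curv2.bc k X K) := LocallyOfFiniteType.isLocallyNoetherian (Curv2.bcSnd k X K)
  let B := X.presheaf.stalk (p xb)
  let B' := (Curv2.bc k X K).presheaf.stalk xb
  let σ : B ≃+* B' := (asIso (p.stalkMap xb)).commRingCatIsoToRingEquiv
  have hord' : IsOdpAt (Curv2.bcSnd k X K) xb := hord
  obtain ⟨e, -⟩ := id hord'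
  letI a' : Algebra B' (FormalNode K) := (e.toRingHom.comp (algebraMap B' (AdicCompletion (maximalIdeal B') B'))).toAlgebra
  haveI : IsLocalHom e.toRingHom := ⟨fun a ha => (isLocalHom_equiv e).map_nonunit a ha⟩
  haveI : IsLocalHom (algebraMap B' (FormalNode K)) := RingHom.isLocalHom_comp _ _
  haveI : Module.Flat B' (FormalNode K) := RingHom.flat_algebraMap_iff.mp
    ((RingHom.flat_algebraMap_iff.mpr inferInstance).comp (RingHom.Flat.of_bijective e.bijective))
  have hm : (maximalIdeal B').map (algebraMap B' (FormalNode K)) = maximalIdeal (FormalNode K) := by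
    show (maximalIdeal B').map (e.toRingHom.comp (algebraMap B' (AdicCompletion (maximalIdeal B') B'))) = _
    rw [← Ideal.map_map, ← AdicCompletion.maximalIdeal_eq_map (R := B')]
    exact eq_maximalIdeal (Ideal.map_isMaximal_of_equiv e)
  refine ⟨((algebraMap B' (FormalNode K)).comp σ.toRingHom).toAlgebra, ?_⟩
  letI : Algebra B (FormalNode K) := ((algebraMap B' (FormalNode K)).comp σ.toRingHom).toAlgebra
  haveI : IsLocalHom σ.toRingHom := ⟨fun a ha => (isLocalHom_equiv σ).map_nonunit a ha⟩
  refine ⟨RingHom.isLocalHom_comp _ _, RingHom.flat_algebraMap_iff.mp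
    ((RingHom.Flat.of_bijective σ.bijective).comp (RingHom.flat_algebraMap_iff.mpr inferInstance)), ?_⟩
  show (maximalIdeal B).map ((algebraMap B' (FormalNode K)).comp σ.toRingHom) = _
  rw [← Ideal.map_map, show (maximalIdeal B).map σ.toRingHom = maximalIdeal B' from
    eq_maximalIdeal (Ideal.map_isMaximal_of_equiv σ), hm]


/-- Let k be an algebraically closed field, X a curve over k (proper over k, reduced, connected, every
irreducible component of dimension one) and P a separating node of X, i.e. a closed point which is a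
node and whose complement X ∖ {P} is not connected. Then the ideal sheaf m_P of the reduced point P,
as an O_X-module, is not simple: it admits an idempotent endomorphism other than 0 and the identity.
(The converse, simplicity of m_P when P is not a separating node, also holds but is not part of this
statement.) -/
theorem result (k : Type u) [Field k] [IsAlgClosed k] (X : Scheme.{u}) [X.Over (Spec (CommRingCat.of k))] [IsProper (X ↘ (Spec (CommRingCat.of k)))] [IsReduced X] [ConnectedSpace X]
    (hequi : ∀ Z ∈ irreducibleComponents (X : Type u), topologicalKrullDim Z = 1)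
    (P : X) (hP : IsClosed ({P} : Set X)) (hnode : Curv2.IsNode k X P) (hsep : ¬ IsPreconnected (({P} : Set X)ᶜ)) :
    ∃ e : ClSub.idealMod (Scheme.IdealSheafData.vanishingIdeal ⟨{P}, hP⟩) ⟶ ClSub.idealMod (Scheme.IdealSheafData.vanishingIdeal ⟨{P}, hP⟩),
      e ≫ e = e ∧ e ≠ 0 ∧ e ≠ 𝟙 _ := by
  haveI : IsLocallyNoetherian X := LocallyOfFiniteType.isLocallyNoetherian (X ↘ Spec (CommRingCat.of k))
  -- the two sides
  obtain ⟨a, b, ha, hb, hab, hane, hbne, hdisj⟩ : ∃ a b : Set X, IsOpen a ∧ IsOpen b ∧ ({P} : Set X)ᶜ ⊆ a ∪ b ∧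
      (({P} : Set X)ᶜ ∩ a).Nonempty ∧ (({P} : Set X)ᶜ ∩ b).Nonempty ∧ ¬ (({P} : Set X)ᶜ ∩ (a ∩ b)).Nonempty := by
    simpa only [_root_.IsPreconnected, not_forall, exists_prop] using hsep
  let A : X.Opens := ⟨({P} : Set X)ᶜ ∩ a, hP.isOpen_compl.inter ha⟩
  let B : X.Opens := ⟨({P} : Set X)ᶜ ∩ b, hP.isOpen_compl.inter hb⟩
  have hAB : Disjoint (A : Set X) (B : Set X) := Set.disjoint_left.mpr fun z hza hzb =>
    hdisj ⟨z, hza.1, hza.2, hzb.2⟩
  have hcov : ∀ z : X, z ≠ P → z ∈ A ∨ z ∈ B := fun z hz => (hab hz).imp (fun h => ⟨hz, h⟩) (fun h => ⟨hz, h⟩)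
  let ZA : Closeds X := ⟨closure (A : Set X), isClosed_closure⟩
  let ZB : Closeds X := ⟨closure (B : Set X), isClosed_closure⟩
  have hAZB : Disjoint (A : Set X) (ZB : Set X) := hAB.closure_right A.2
  have hBZA : Disjoint (B : Set X) (ZA : Set X) := hAB.symm.closure_right B.2
  have hmem : ∀ (A : X.Opens), (A : Set X).Nonempty → P ∉ A → (∀ z, z ≠ P → z ∈ closure (A : Set X) → z ∈ A) →
      P ∈ closure (A : Set X) := by
    intro A hA hPA h
    by_contra hPc
    have hc : IsClopen (A : Set X) := ⟨by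
      rw [← closure_subset_iff_isClosed]
      exact fun z hz => h z (fun e => hPc (e ▸ hz)) hz, A.2⟩
    exact hPA ((Set.ext_iff.mp (hc.eq_univ hA) P).mpr trivial)
  have hPA : P ∈ closure (A : Set X) := hmem A hane (fun h => h.1 rfl)
    fun z hz hzA => (hcov z hz).resolve_right fun hzB => Set.disjoint_left.mp hBZA hzB hzA
  have hPB : P ∈ closure (B : Set X) := hmem B hbne (fun h => h.1 rfl)
    fun z hz hzB => (hcov z hz).resolve_left fun hzA => Set.disjoint_left.mp hAZB hzA hzB
  let IA := Scheme.IdealSheafData.vanishingIdeal ZA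
  let IB := Scheme.IdealSheafData.vanishingIdeal ZB
  let M := Scheme.IdealSheafData.vanishingIdeal (⟨{P}, hP⟩ : Closeds X)
  have hA' : IA ≤ M := Scheme.IdealSheafData.vanishingIdeal_antimono (by
    intro z hz; rw [show z = P from hz]; exact hPA)
  have hB' : IB ≤ M := Scheme.IdealSheafData.vanishingIdeal_antimono (by
    intro z hz; rw [show z = P from hz]; exact hPB)
  have h0 : IA ⊓ IB = ⊥ := by
    show Scheme.IdealSheafData.vanishingIdeal ZA ⊓ Scheme.IdealSheafData.vanishingIdeal ZB = ⊥
    rw [← Scheme.IdealSheafData.vanishingIdeal_sup,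
      show ZA ⊔ ZB = ⊤ from top_le_iff.mp fun z _ => by
        by_cases hz : z = P
        · exact hz ▸ Or.inl hPA
        · exact (hcov z hz).imp (fun h => subset_closure h) (fun h => subset_closure h),
      Scheme.IdealSheafData.vanishingIdeal_top, Scheme.nilradical_eq_bot]
  have hmul := stalkId_mul h0 P
  have hI : stalkId IA P ≤ maximalIdeal _ := stalkId_le_maximalIdeal (Z := ZA) hPA
  have hJ : stalkId IB P ≤ maximalIdeal _ := stalkId_le_maximalIdeal (Z := ZB) hPB
  have hIsat : ∀ c, (∀ d ∈ stalkId IB P, c * d = 0) → c ∈ stalkId IA P := fun c hc =>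
    mem_stalkId_of_mul hAZB c hc
  have hJsat : ∀ c, (∀ d ∈ stalkId IA P, c * d = 0) → c ∈ stalkId IB P := fun c hc =>
    mem_stalkId_of_mul hBZA c hc
  have hI0 : stalkId IA P ≠ ⊥ := fun h => (maximalIdeal.isMaximal _).ne_top
    (top_le_iff.mp (le_trans (fun c _ => hJsat c fun d hd => by rw [h] at hd; rw [(Submodule.mem_bot _).mp hd, mul_zero]) hJ))
  have hJ0 : stalkId IB P ≠ ⊥ := fun h => (maximalIdeal.isMaximal _).ne_top
    (top_le_iff.mp (le_trans (fun c _ => hIsat c fun d hd => by rw [h] at hd; rw [(Submodule.mem_bot _).mp hd, mul_zero]) hI))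
  obtain ⟨s, hs, hsreg⟩ := exists_isRegular_mem hequi hP
  have hann : ∀ {I J : Ideal (X.presheaf.stalk P)}, I * J = ⊥ → (∀ c, (∀ d ∈ J, c * d = 0) → c ∈ I) →
      ∀ x, s * x ∈ I → x ∈ I := fun hIJ hsat x hx => hsat x fun d hd => by
    refine hsreg.left ?_
    show s * (x * d) = s * 0
    rw [mul_zero, ← mul_assoc]
    exact (Submodule.mem_bot _).mp (hIJ ▸ Ideal.mul_mem_mul hx hd)
  have hsum : maximalIdeal (X.presheaf.stalk P) ≤ stalkId IA P ⊔ stalkId IB P := by
    obtain ⟨alg, hloc, hflat, hm⟩ := exists_formalNode k X P hnode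
    letI := alg
    haveI := hloc
    haveI := hflat
    exact maximalIdeal_le_sup hm hmul hI hJ hI0 hJ0 hs (hann hmul hIsat) (hann (by rw [mul_comm]; exact hmul) hJsat)
  -- the splitting
  let Φ : ClSub.idealMod IA ⊞ ClSub.idealMod IB ⟶ ClSub.idealMod M := biprod.desc (leHom hA') (leHom hB')
  have hdec : ∀ (x : X) (t : (ClSub.idealMod IA ⊞ ClSub.idealMod IB).presheaf.stalk x),
      t = stalkLin biprod.inl x (stalkLin biprod.fst x t) + stalkLin biprod.inr x (stalkLin biprod.snd x t) := fun x t => by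
    conv_lhs => rw [show t = stalkLin (𝟙 (ClSub.idealMod IA ⊞ ClSub.idealMod IB)) x t from
      (Groth.Agent.Omega.ProdDiff.stalkLin_id x t).symm, ← biprod.total]
    rw [Groth.Agent.Omega.ProdDiff.stalkLin_add, Groth.Agent.Omega.Stalks.stalkLin_comp,
      Groth.Agent.Omega.Stalks.stalkLin_comp]
  have hΦ : ∀ (x : X) (u : (ClSub.idealMod IA).presheaf.stalk x) (v : (ClSub.idealMod IB).presheaf.stalk x),
      idealStalk M x (stalkLin Φ x (stalkLin biprod.inl x u + stalkLin biprod.inr x v)) =
        idealStalk IA x u + idealStalk IB x v := fun x u v => by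
    rw [map_add, map_add, ← Groth.Agent.Omega.Stalks.stalkLin_comp, ← Groth.Agent.Omega.Stalks.stalkLin_comp,
      biprod.inl_desc, biprod.inr_desc, idealStalk_leHom, idealStalk_leHom]
  haveI : IsIso Φ := (Groth.Agent.HomShQC.isIso_iff_bijective_stalk Φ).mpr fun x => by
    refine ⟨(injective_iff_map_eq_zero _).mpr fun t ht => ?_, fun w => ?_⟩
    · have h1 : idealStalk IA x (stalkLin biprod.fst x t) + idealStalk IB x (stalkLin biprod.snd x t) = 0 := by
        rw [← hΦ, ← hdec, show stalkLin Φ x t = 0 from ht, map_zero]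
      have hz : idealStalk IA x (stalkLin biprod.fst x t) = 0 := by
        set u := idealStalk IA x (stalkLin biprod.fst x t) with hu
        have h2 : u * u = 0 := by
          have h3 : u * (- idealStalk IB x (stalkLin biprod.snd x t)) ∈ stalkId IA x * stalkId IB x :=
            Ideal.mul_mem_mul ⟨_, rfl⟩ ((stalkId IB x).neg_mem ⟨_, rfl⟩)
          rw [stalkId_mul h0 x, ← eq_neg_of_add_eq_zero_left h1] at h3
          exact (Submodule.mem_bot _).mp h3
        exact IsReduced.eq_zero u ⟨2, by rw [pow_two]; exact h2⟩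
      rw [hz, zero_add] at h1
      rw [hdec x t, idealStalk_injective IA x (hz.trans (map_zero _).symm),
        idealStalk_injective IB x (h1.trans (map_zero _).symm), map_zero, map_zero, add_zero]
    · have hw : idealStalk M x w ∈ stalkId IA x ⊔ stalkId IB x := by
        by_cases hx : x = P
        · subst hx
          exact hsum (stalkId_le_maximalIdeal (Z := ⟨{x}, hP⟩) rfl ⟨w, rfl⟩)
        · rcases hcov x hx with h | h
          · rw [show stalkId IB x = ⊤ from stalkId_eq_top (Z := ZB) (Set.disjoint_left.mp hAZB h), sup_top_eq]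
            trivial
          · rw [show stalkId IA x = ⊤ from stalkId_eq_top (Z := ZA) (Set.disjoint_left.mp hBZA h), top_sup_eq]
            trivial
      obtain ⟨_, ⟨u, rfl⟩, _, ⟨v, rfl⟩, huv⟩ := Submodule.mem_sup.mp hw
      exact ⟨stalkLin biprod.inl x u + stalkLin biprod.inr x v, idealStalk_injective M x ((hΦ x u v).trans huv)⟩
  have hne : ∀ {I : X.IdealSheafData}, stalkId I P ≠ ⊥ → 𝟙 (ClSub.idealMod I) ≠ 0 := fun h hid => h (by
    rw [eq_bot_iff]
    rintro _ ⟨t, rfl⟩
    rw [show t = stalkLin (𝟙 (ClSub.idealMod _)) P t from (Groth.Agent.Omega.ProdDiff.stalkLin_id P t).symm, hid,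
      Groth.Agent.Omega.Stalks.stalkLin_zero]
    simp)
  refine ⟨inv Φ ≫ biprod.fst ≫ biprod.inl ≫ Φ, by simp, fun h => hne hI0 ?_, fun h => hne hJ0 ?_⟩
  · have h2 := congrArg (fun φ => biprod.inl ≫ Φ ≫ φ ≫ inv Φ ≫ biprod.fst) h
    simpa using h2
  · have h1 : inv Φ ≫ (biprod.fst ≫ biprod.inl) ≫ Φ = inv Φ ≫ 𝟙 _ ≫ Φ := by
      rw [Category.id_comp, IsIso.inv_hom_id, Category.assoc]
      exact h
    rw [cancel_epi, cancel_mono] at h1
    have h2 := congrArg (fun φ => biprod.inr ≫ φ ≫ biprod.snd) h1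
    simpa using h2.symm

end Groth.Agent.S15924
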