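import Groth.Statements.S15926
import Groth.Agent.NodalLib.RankOneDeg
import Groth.Agent.StrictSSLib.NodalBaseChange
import Groth.Agent.StrictSSLib.Component
import Groth.Agent.S15924
import Groth.Agent.DimOneAmple.Ample
import Groth.Agent.AmpleLib.GlobGen
import Groth.Agent.EquidimPt.DimSum
import Groth.Agent.DefAmple27.Basic
import Groth.Agent.CycLib.ModStalk
import Groth.Agent.FlatMor.GenericPts

set_option autoImplicit false
universe u
open CategoryTheory CategoryTheory.Limits AlgebraicGeometry
open Curves

namespace Groth.Agent.S15926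

open Groth.Agent.PullStalk.Sky Groth.Agent.PullStalk.Exact
open Groth.Agent.NodalLib Groth.Agent.StrictSSLib IsLocalRing TopologicalSpace
open Groth.Agent.KFlat.StalkTensor
open scoped TensorProduct

/-- A nodal curve is reduced. -/
theorem isReduced_of_atWorstNodal (k : Type u) [Field k] [IsAlgClosed k] (X : Scheme.{u}) [X.Over (Spec (CommRingCat.of k))]
    [LocallyOfFiniteType (X ↘ (Spec (CommRingCat.of k)))]
    (hdim : ∀ Z ∈ irreducibleComponents (X : Type u), topologicalKrullDim Z ≤ 1) (hX : Curv2.AtWorstNodal k X) :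
    IsReduced X := by
  refine @isReduced_of_isReduced_stalk X fun x => ?_
  by_cases hx : Curv2.IsNode k X x
  · obtain ⟨a, h1, h2, -⟩ := Groth.Agent.S15924.exists_formalNode k X x hx
    letI := a
    haveI := h1
    haveI := h2
    haveI : _root_.IsReduced (FormalNode (AlgebraicClosure k)) := by
      refine ⟨fun z ⟨n, hn⟩ => node_ext fun i => ?_⟩
      exact IsReduced.eq_zero _ ⟨n, by rw [← map_pow, hn, map_zero]⟩
    haveI : Module.FaithfullyFlat (X.presheaf.stalk x) (FormalNode (AlgebraicClosure k)) :=
      Module.FaithfullyFlat.of_flat_of_isLocalHom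
    exact isReduced_of_injective (algebraMap _ _) (FaithfulSMul.algebraMap_injective (X.presheaf.stalk x) (FormalNode (AlgebraicClosure k)))
  · let U := (X ↘ Spec (CommRingCat.of k)).smoothLocus
    have hxU : x ∈ U := mem_smoothLocus_of_atWorstNodal X hdim hX hx
    haveI := smooth_smoothLocus (X ↘ Spec (CommRingCat.of k))
    haveI := isDomain_stalk_of_smooth (U.ι ≫ X ↘ Spec (CommRingCat.of k)) ⟨x, hxU⟩
    exact isReduced_of_injective (U.stalkIso ⟨x, hxU⟩).commRingCatIsoToRingEquiv.symm.toRingHom
      (U.stalkIso ⟨x, hxU⟩).commRingCatIsoToRingEquiv.symm.injective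

/-- A trivialised module has frames. -/
theorem exists_frame {X : Scheme.{u}} {F : X.Modules} {U : X.Opens} {n : ℕ}
    (φ : F.restrict U.ι ≅ FlatMod.freeMod (U : Scheme.{u}) n) :
    ∃ e : Fin n → Γ(F, U), LFFrame.IsFrame F U e := by
  classical
  let p : Fin n → (FlatMod.freeMod (U : Scheme.{u}) n ⟶ Coh.structureModule (U : Scheme.{u})) :=
    fun j => Sigma.desc fun i => if i = j then 𝟙 _ else 0
  exact LFFrame.exists_isFrame_of_split (M := F)
    (fun i => Sigma.ι (fun _ : Fin n => Coh.structureModule (U : Scheme.{u})) i ≫ φ.inv)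
    (fun j => φ.hom ≫ p j) (fun i j => by simp [p]) (by
      rw [← cancel_epi φ.inv, ← cancel_mono φ.hom]
      apply Sigma.hom_ext
      intro j
      simp [p, Preadditive.comp_sum, Preadditive.sum_comp, Finset.sum_ite_eq', ite_comp])

theorem free1_of_frame {X : Scheme.{u}} {F : X.Modules} {U : X.Opens} {e : Fin 1 → Γ(F, U)}
    (he : LFFrame.IsFrame F U e) {y : X} (hy : y ∈ U) : Free1 F y :=
  ⟨(LinearEquiv.funUnique (Fin 1) (X.presheaf.stalk y) (X.presheaf.stalk y)).symm.trans
    (LinearEquiv.ofBijective _ (he.stalkComb_bijective y hy))⟩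

theorem free1_of_restrict {X : Scheme.{u}} {F : X.Modules} {P : X}
    (h : ∃ U : X.Opens, P ∈ U ∧ Nonempty (F.restrict U.ι ≅ Coh.structureModule (↑U : Scheme.{u}))) : Free1 F P := by
  obtain ⟨U, hP, ⟨φ⟩⟩ := h
  obtain ⟨e, he⟩ := LFFrame.exists_isFrame_of_split (M := F) (fun _ : Fin 1 => φ.inv) (fun _ => φ.hom)
    (fun i j => by simp [Subsingleton.elim i j]) (by simp)
  exact free1_of_frame he hP

theorem free1_tens {X : Scheme.{u}} {A B : X.Modules} {x : X} (hA : Free1 A x) (hB : Free1 B x) :
    Free1 (CohB1.tensorMod A B) x := by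
  obtain ⟨a⟩ := hA
  obtain ⟨b⟩ := hB
  exact ⟨((stalkTensorEquiv A B x).trans ((TensorProduct.congr a.symm b.symm).trans (TensorProduct.lid _ _))).symm⟩

/-- Near a maximal point a rank-one module is free. -/
theorem free1_nhd {X : Scheme.{u}} [IsLocallyNoetherian X] [IsReduced X] {F : X.Modules} (hF : Coh.IsCoh F) {η : X}
    (hη : η ∈ genericPoints (X : Type u))
    (hr : Module.finrank (X.presheaf.stalk η) (F.presheaf.stalk η) = 1) :
    ∃ V : X.Opens, η ∈ V ∧ ∀ y ∈ V, Free1 F y := by
  haveI : F.IsQuasicoherent := hF.1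
  haveI : SheafOfModules.IsFiniteType.{u} F := hF.2
  haveI : Ring.KrullDimLE 0 (X.presheaf.stalk η) := krullDimLE_of_coheight_le (z := η) (n := 0)
    (le_of_eq (Order.coheight_eq_zero.2 fun w hw =>
      (show η ⤳ w from (FlatMor.GenericPts.closure_mem_irreducibleComponents_iff η).mp hη w hw)))
  letI : Field (X.presheaf.stalk η) := (Ring.KrullDimLE.isField_of_isReduced).toField
  obtain ⟨U, hU, hηU, -⟩ := exists_isAffineOpen_mem_and_subset (X := X) (Opens.mem_top η)
  haveI : IsNoetherianRing Γ(X, U) := IsLocallyNoetherian.component_noetherian ⟨U, hU⟩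
  haveI := QCoh.finite_sections_of_isFiniteType F hU
  obtain ⟨V, n, hηV, ⟨φ⟩⟩ := Props.QProj.exists_free_nhd F hU hηU
    (Module.finitePresentation_of_finite _ _) (Module.Free.of_divisionRing _ _)
  obtain ⟨e, he⟩ := exists_frame φ
  have hn : n = 1 := by
    have h1 := (LinearEquiv.ofBijective _ (he.stalkComb_bijective η hηV)).finrank_eq
    rw [hr, Module.finrank_fin_fun] at h1
    exact h1
  subst hn
  exact ⟨V, hηV, fun y hy => free1_of_frame he hy⟩

/-- Sets containing neighbourhoods of the maximal points have finite complement, of closed points. -/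
theorem finite_of_nhd {X : Scheme.{u}} [IsNoetherian X] (hdim : topologicalKrullDim X ≤ 1) {G : Set X}
    (hG : ∀ η ∈ genericPoints (X : Type u), ∃ V : X.Opens, η ∈ V ∧ ∀ y ∈ V, y ∈ G) :
    Gᶜ.Finite ∧ ∀ x ∉ G, IsClosed ({x} : Set X) := by
  let U : X.Opens := ⟨interior G, isOpen_interior⟩
  have hU : genericPoints (X : Type u) ⊆ (U : Set X) := fun η hη => by
    obtain ⟨V, hV, hVG⟩ := hG η hη
    exact mem_interior.2 ⟨V, hVG, V.2, hV⟩
  refine ⟨(DimOneAmple.finite_compl_and_dim hdim hU).1.subset (Set.compl_subset_compl.2 interior_subset), fun x hx => ?_⟩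
  refine (isClosed_or_coheight_eq_zero (fun Z _ => (topologicalKrullDim_subspace_le X Z).trans hdim) x).resolve_right fun h0 => ?_
  refine hx (interior_subset (hU ?_))
  exact (FlatMor.GenericPts.closure_mem_irreducibleComponents_iff x).mpr fun z hz =>
    Order.coheight_eq_zero.mp h0 (show x ≤ z from hz)

variable (k : Type u) [Field k] [IsAlgClosed k] {X : Scheme.{u}} [X.Over (Spec (CommRingCat.of k))]
  [IsProper (X ↘ (Spec (CommRingCat.of k)))]

/-- Adding Euler characteristics along a section generating at a finite set. -/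
theorem euler_twist [IsReduced X] (hdim : topologicalKrullDim X ≤ 1) {J N : X.Modules} (hJ : Coh.IsCoh J) (hN : Coh.IsCoh N)
    (hgg : Curv2.IsGloballyGenerated N) {T : Set X} (hT : T.Finite) (hgen : genericPoints (X : Type u) ⊆ T)
    (hNT : ∀ x ∈ T, Free1 N x) (hJT : ∀ x ∉ T, Free1 J x) :
    Curv2.euler k X (CohB1.tensorMod J N) =
      Curv2.euler k X J + Curv2.euler k X N - Curv2.euler k X (Coh.structureModule X) := by
  classical
  haveI := EulerChar.isNoetherian k (X := X)
  obtain ⟨s, hs⟩ := exists_section_bijective k hgg hT.toFinset fun x hx => hNT x (hT.mem_toFinset.mp hx)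
  have hinj : ∀ x, Function.Injective (stalkLin s x) := injective_of_generic s fun η hη =>
    hs η (hT.mem_toFinset.mpr (hgen ((FlatMor.GenericPts.closure_mem_irreducibleComponents_iff η).mpr hη)))
  haveI : Mono s := Omega.Stalks.mono_of_stalk hinj
  have hC : Coh.IsCoh (cokernel s) := CohDev.isCoh_cokernel _
    (VBLib.isCoh_of_ofRank (ProjTwist.isFinLocFreeOfRank_one (PicLoc.isInvertible_structureModule X))).1 hN
  have hsupp : ∀ x, x ∉ CohB1.support (cokernel s) ↔ Function.Bijective (stalkLin s x) := by
    intro x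
    obtain ⟨-, hex, hπ⟩ := stalk_exact (ShortComplex.ShortExact.mk'
      (ShortComplex.exact_of_g_is_cokernel (ShortComplex.mk s (cokernel.π s) (cokernel.condition s))
        (cokernelIsCokernel s)) inferInstance inferInstance) x
    constructor
    · intro hx
      haveI : Subsingleton ((cokernel s).presheaf.stalk x) := not_not.mp hx
      exact ⟨hinj x, fun t => (hex t).1 (Subsingleton.elim _ _)⟩
    · intro hb hne
      refine hne (subsingleton_of_forall_eq 0 fun t => ?_)
      obtain ⟨t, rfl⟩ := hπ t
      exact (hex t).2 (hb.2 t)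
  have hclosed : IsClosed (CohB1.support (cokernel s)) := by
    haveI : (cokernel s).IsQuasicoherent := hC.1
    have h := CycLib.isClosed_support (M := cokernel s) hC
    convert h using 1
    exact Set.ext fun x => not_subsingleton_iff_nontrivial
  obtain ⟨hfin, hcl⟩ := finite_of_nhd hdim (G := (CohB1.support (cokernel s))ᶜ) fun η hη =>
    ⟨⟨_, hclosed.isOpen_compl⟩, (hsupp η).2 (hs η (hT.mem_toFinset.mpr (hgen hη))), fun y hy => hy⟩
  rw [compl_compl] at hfin
  refine euler_tens_of_good k hJ hN s hinj (fun x => ?_) hfin.toFinset (fun x hx => hcl x (not_not_intro (hfin.mem_toFinset.mp hx)))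
    fun x hx => (hsupp x).1 fun h => hx (hfin.mem_toFinset.mpr h)
  by_cases hx : x ∈ T
  · exact Or.inl (hs x (hT.mem_toFinset.mpr hx))
  · exact Or.inr (hJT x hx)

/-- Let k be an algebraically closed field, X a nodal curve over k (proper over k, connected, every
irreducible component of dimension one, at-worst-nodal singularities), and L, M coherent
torsion-free O_X-modules of rank one (regular elements of each local ring act injectively on the
stalk; the stalk at each generic point of an irreducible component has dimension one) such that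
every point of X has an open neighbourhood on which L or M is isomorphic to the structure sheaf (M
is invertible wherever L is not). Then deg(L ⊗ M) = deg(L) + deg(M), degrees of rank-one sheaves
being χ(X, −) − χ(X, O_X). (L ⊗ M is again torsion-free of rank one; that clause is not part of this
statement.) -/
theorem result (k : Type u) [Field k] [IsAlgClosed k] (X : Scheme.{u}) [X.Over (Spec (CommRingCat.of k))] [IsProper (X ↘ (Spec (CommRingCat.of k)))] [ConnectedSpace X]
    (hequi : ∀ Z ∈ irreducibleComponents (X : Type u), topologicalKrullDim Z = 1) (hX : Curv2.AtWorstNodal k X)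
    (L M : X.Modules) (hLc : Coh.IsCoh L) (hMc : Coh.IsCoh M) (hLt : TorSh.IsTorsionFree L) (hMt : TorSh.IsTorsionFree M)
    (hLr : ∀ η : X, closure ({η} : Set X) ∈ irreducibleComponents (X : Type u) → Module.finrank (X.presheaf.stalk η) (L.presheaf.stalk η) = 1)
    (hMr : ∀ η : X, closure ({η} : Set X) ∈ irreducibleComponents (X : Type u) → Module.finrank (X.presheaf.stalk η) (M.presheaf.stalk η) = 1)
    (hLM : ∀ P : X, (∃ U : X.Opens, P ∈ U ∧ Nonempty (L.restrict U.ι ≅ Coh.structureModule (↑U : Scheme.{u}))) ∨ (∃ U : X.Opens, P ∈ U ∧ Nonempty (M.restrict U.ι ≅ Coh.structureModule (↑U : Scheme.{u})))) :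
    Curv2.deg k X (CohB1.tensorMod L M) 1 = Curv2.deg k X L 1 + Curv2.deg k X M 1 := by
  have hdimZ : ∀ Z ∈ irreducibleComponents (X : Type u), topologicalKrullDim Z ≤ 1 := fun Z hZ => (hequi Z hZ).le
  have hdim : topologicalKrullDim X ≤ 1 := EquidimPt.topDim_le_of_components hdimZ
  haveI := isReduced_of_atWorstNodal k X hdimZ hX
  haveI := EulerChar.isNoetherian k (X := X)
  haveI : X.IsSeparated := ⟨by rw [← Limits.terminal.comp_from (X ↘ Spec (CommRingCat.of k))]; infer_instance⟩
  obtain ⟨hSL, -⟩ := finite_of_nhd hdim (G := {x | Free1 L x}) fun η hη => free1_nhd hLc hη (hLr η hη)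
  obtain ⟨hSM, -⟩ := finite_of_nhd hdim (G := {x | Free1 M x}) fun η hη => free1_nhd hMc hη (hMr η hη)
  have hgfin : (genericPoints (X : Type u)).Finite := genericPoints.finite NoetherianSpace.finite_irreducibleComponents
  have hLgen : ∀ η ∈ genericPoints (X : Type u), Free1 M η := fun η hη => by
    obtain ⟨V, hV, h⟩ := free1_nhd hMc hη (hMr η hη)
    exact h η hV
  obtain ⟨A, hA⟩ := DimOneAmple.exists_ample_of_dim_le_one X hdim
  have hO : Coh.IsCoh (Coh.structureModule X) :=
    VBLib.isCoh_of_ofRank (ProjTwist.isFinLocFreeOfRank_one (PicLoc.isInvertible_structureModule X))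
  obtain ⟨n₁, hn₁⟩ := AmpleLib.eventually_globallyGenerated hA hMc.1 hMc.2
  obtain ⟨n₂, hn₂⟩ := AmpleLib.eventually_globallyGenerated hA hO.1 hO.2
  let B := CohB1.tensorPow A (max n₁ n₂)
  have hB : PicF.IsInvertible B := AmpleLib.isInvertible_tensorPow hA.1 _
  have hBc : Coh.IsCoh B := VBLib.isCoh_of_ofRank (ProjTwist.isFinLocFreeOfRank_one hB)
  have hMBgg : Curv2.IsGloballyGenerated (CohB1.tensorMod M B) := hn₁ _ (le_max_left _ _)
  have hBgg : Curv2.IsGloballyGenerated B :=
    DefAmple27.gg_of_epi (ProjTwist.oneTens B).hom inferInstance (hn₂ _ (le_max_right _ _))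
  have hBf : ∀ x, Free1 B x := fun x => free1_of_restrict (hB x)
  have hMBc : Coh.IsCoh (CohB1.tensorMod M B) := CartInt.isCoh_tens_coh hMc hBc
  have hLMc : Coh.IsCoh (CohB1.tensorMod L M) := CartInt.isCoh_tens_coh hLc hMc
  -- `L` against `M ⊗ B`
  have e1 := euler_twist k hdim hLc hMBc hMBgg (hSL.union hgfin) Set.subset_union_right
    (fun x hx => free1_tens (hx.elim (fun h => free1_of_restrict
      ((hLM x).resolve_left fun h' => h (free1_of_restrict h'))) (hLgen x)) (hBf x))
    (fun x hx => by_contra fun h => hx (Or.inl h))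
  -- `M` against `B`
  have e2 := euler_twist k hdim hMc hBc hBgg (hSM.union hgfin) Set.subset_union_right (fun x _ => hBf x)
    (fun x hx => by_contra fun h => hx (Or.inl h))
  -- `L ⊗ M` against `B`
  have e3 := euler_twist k hdim hLMc hBc hBgg ((hSL.union hSM).union hgfin) Set.subset_union_right (fun x _ => hBf x)
    (fun x hx => free1_tens (by_contra fun h => hx (Or.inl (Or.inl h))) (by_contra fun h => hx (Or.inl (Or.inr h))))
  have e4 := EulerChar.euler_iso k (ProjTwist.tensAssoc L M B)
  simp only [Curv2.deg, Nat.cast_one, one_mul]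
  linarith

end Groth.Agent.S15926
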