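import Groth.Statements.S1677
import Groth.Agent.SDivFib.QuasiReg
import Groth.Agent.CIntCI.Basic
import Groth.Agent.CurveDVR.Stalk
import Groth.Agent.RegImm38.Spread
import Groth.Agent.S2166

set_option autoImplicit false
universe u
open CategoryTheory CategoryTheory.Limits AlgebraicGeometry TopologicalSpace
open SDiv

namespace Groth.Agent.S1677

theorem isCI_fiber_stalk {Y S : Scheme.{u}} (q : Y ⟶ S) (h : ∀ y : Y, Pi1.IsCompleteIntersection (CInt.fiberStalk q y))
    (s : S) (z : q.fiber s) : Pi1.IsCompleteIntersection ((q.fiber s).presheaf.stalk z) := by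
  have hw : q (q.fiberι s z) = s := (q.range_fiberι s).le ⟨z, rfl⟩
  have gen : ∀ (w : Y) (s : S) (z : q.fiber s), q w = s → q.fiberι s z = w →
      Pi1.IsCompleteIntersection ((q.fiber s).presheaf.stalk z) := by
    intro w s z hs hz
    subst hs
    rw [show z = q.asFiber w from (q.fiberι (q w)).isEmbedding.injective (hz.trans (Scheme.Hom.fiberι_asFiber q w).symm)]
    exact h w
  exact gen _ _ z hw rfl

theorem fibre_isRegularImmersion {X Y S : Scheme.{u}} (p : X ⟶ S) [Smooth p] (i : Y ⟶ X)
    [IsClosedImmersion i] (hY : CInt.IsCIMorphism (i ≫ p)) (s : S) :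
    RegImm.IsRegularImmersion RegImm.Kind.quasi (Limits.pullback.snd i.ker.subschemeι (p.fiberι s)) := by
  let j := Limits.pullback.snd i.ker.subschemeι (p.fiberι s)
  haveI hj : IsClosedImmersion j := inferInstanceAs (IsClosedImmersion (Limits.pullback.snd i.ker.subschemeι (p.fiberι s)))
  haveI : Smooth (p.fiberToSpecResidueField s) := inferInstanceAs (Smooth (Limits.pullback.snd p (S.fromSpecResidueField s)))
  haveI : IsLocallyNoetherian (p.fiber s) :=
    LocallyOfFiniteType.isLocallyNoetherian (p.fiberToSpecResidueField s)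
  haveI : IsIso i.toImage := inferInstance
  have hsq : IsPullback (Limits.pullback.fst i.ker.subschemeι (p.fiberι s) ≫ inv i.toImage)
      (j ≫ p.fiberToSpecResidueField s) (i ≫ p) (S.fromSpecResidueField s) := by
    refine ((IsPullback.of_hasPullback i.ker.subschemeι (p.fiberι s)).paste_vert
      (IsPullback.of_hasPullback p (S.fromSpecResidueField s))).of_iso (Iso.refl _) (asIso i.toImage).symm
      (Iso.refl _) (Iso.refl _) ?_ ?_ ?_ ?_
    · simp [asIso]
    · simp [j]
      rfl
    · rw [Iso.symm_hom, asIso_inv]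
      simp only [Iso.refl_hom, Category.comp_id, IsIso.eq_inv_comp, ← Category.assoc]
      congr 1
      rw [IsIso.eq_inv_comp]
      exact i.toImage_imageι
    · simp
  refine ⟨inferInstance, fun z => ?_⟩
  let e : Limits.pullback i.ker.subschemeι (p.fiberι s) ≅ (i ≫ p).fiber s := hsq.isoPullback
  haveI hR : IsRegularLocalRing ((p.fiber s).presheaf.stalk (j z)) :=
    @CurveDVR.isRegularLocalRing_stalk (S.residueField s) _ (p.fiber s) (p.fiberToSpecResidueField s)
      inferInstance (j z)
  have hCI := isCI_fiber_stalk (i ≫ p) hY.2.2 s (e.hom z)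
  let φ := (j.stalkMap z).hom
  have hne : RingHom.ker φ ≠ ⊤ := RingHom.ker_ne_top _
  let eq1 : ((p.fiber s).presheaf.stalk (j z) ⧸ RingHom.ker φ) ≃+* ((i ≫ p).fiber s).presheaf.stalk (e.hom z) :=
    (RingHom.quotientKerEquivOfSurjective (j.stalkMap_surjective z)).trans
      (asIso (e.hom.stalkMap z)).symm.commRingCatIsoToRingEquiv
  haveI : IsLocalRing ((p.fiber s).presheaf.stalk (j z) ⧸ RingHom.ker φ) := eq1.symm.isLocalRing
  have hq := (Groth.Agent.CIntCI.isCI_iff_of_ringEquiv eq1).2 hCI
  rw [Groth.Agent.S2166.result (RingHom.ker φ) hne] at hq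
  obtain ⟨rs, hrs, hreg⟩ := hq
  obtain ⟨U, hzU, hci, ts, hts, hker⟩ :=
    Groth.Agent.RegImm38.isRegularImmersionAt_of_stalk j z hreg.toIsWeaklyRegular hrs.symm
  exact ⟨U, hzU, hci, ts,
    Groth.Agent.SymGr.Regular.isQuasiRegular_of_isWeaklyRegular (by rw [List.ofFn_get]; exact hts.toIsWeaklyRegular),
    hker⟩

/-- Let X ⟶ S be smooth, Y ⟶ S flat, locally of finite presentation with complete-intersection fibre
local rings (syntomic), and i : Y ⟶ X a closed immersion over S. Then i is a regular closed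
immersion. -/
theorem result {X Y S : Scheme.{u}} (p : X ⟶ S) [Smooth p] (i : Y ⟶ X)
    [IsClosedImmersion i] (hY : CInt.IsCIMorphism (i ≫ p)) : Mor2.IsRegularClosedImmersion i := by
  haveI : Flat (i ≫ p) := hY.1
  haveI : LocallyOfFinitePresentation (i ≫ p) := hY.2.1
  have he : i.ker.subschemeι ≫ p = inv i.toImage ≫ i ≫ p := by
    rw [IsIso.eq_inv_comp, ← Category.assoc]
    congr 1
    exact i.toImage_imageι
  haveI : Flat (i.ker.subschemeι ≫ p) := by rw [he]; infer_instance
  haveI : LocallyOfFinitePresentation (i.ker.subschemeι ≫ p) := by rw [he]; infer_instance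
  refine ⟨inferInstance, fun z => ?_⟩
  have hz : i z ∈ i.ker.support := by
    rw [← SetLike.mem_coe, Scheme.Hom.support_ker]
    exact subset_closure ⟨z, rfl⟩
  obtain ⟨W, hzW, rs, hreg, hI⟩ := Groth.Agent.SDivFib.QuasiReg.exists_chart p i.ker
    (fibre_isRegularImmersion p i hY) (i z) hz
  refine ⟨W.1, W.2, hzW, rs, ⟨hreg, fun htop => ?_⟩, hI⟩
  rw [Scheme.IdealSheafData.mem_support_iff_of_mem hzW, hI, Scheme.mem_zeroLocus_iff] at hz
  have h1 : (1 : Γ(X, W.1)) ∈ Ideal.ofList rs := by
    rw [smul_eq_mul, Ideal.mul_top] at htop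
    exact htop ▸ Submodule.mem_top
  exact hz 1 h1 (by rw [Scheme.basicOpen_of_isUnit _ isUnit_one]; exact hzW)

end Groth.Agent.S1677
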