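import Groth.Statements.S18944
import Groth.Agent.RegImm44.BaseChange
import Mathlib.RingTheory.Regular.Flat

set_option autoImplicit false
universe u
open CategoryTheory AlgebraicGeometry
open RegImm

namespace Groth.Agent.S18944

/-- Let i : Z → X be a regular immersion of schemes (kind: successive non-zero-divisors). Then for every
point z of Z the kernel of the induced map of local rings O_{X, i(z)} → O_{Z, z} is generated by a
regular sequence of O_{X, i(z)}. (No Noetherian hypothesis; over a locally Noetherian X the converse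
also holds.) -/
theorem result {Z X : Scheme.{u}} (i : Z ⟶ X)
    (h : RegImm.IsRegularImmersion RegImm.Kind.regular i) (z : Z) :
    ∃ rs : List (X.presheaf.stalk (i z)),
      RingTheory.Sequence.IsRegular (X.presheaf.stalk (i z)) rs ∧
        RingHom.ker (i.stalkMap z).hom = Ideal.ofList rs := by
  obtain ⟨⟨U, hU⟩, hz, hci, rs, hrs, hker⟩ := h.2 z
  haveI := hci
  have hV : IsAffineOpen (i ⁻¹ᵁ U) := RegImm44.isAffineOpen_preimage i hU
  letI : Algebra Γ(X, U) (X.presheaf.stalk (i z)) := (X.presheaf.germ U (i z) hz).hom.toAlgebra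
  letI : Algebra Γ(Z, i ⁻¹ᵁ U) (Z.presheaf.stalk z) := (Z.presheaf.germ (i ⁻¹ᵁ U) z hz).hom.toAlgebra
  haveI := hU.isLocalization_stalk ⟨i z, hz⟩
  haveI := hV.isLocalization_stalk ⟨z, hz⟩
  have hcomap : (hV.primeIdealOf ⟨z, hz⟩).asIdeal.comap (i.app U).hom = (hU.primeIdealOf ⟨i z, hz⟩).asIdeal := by
    have h1 := IsAffineOpen.comap_primeIdealOf_appLE U hU (i ⁻¹ᵁ U) hV (le_refl _) (f := i) (x := z) hz
    rw [← Scheme.Hom.app_eq_appLE] at h1
    exact congrArg PrimeSpectrum.asIdeal h1
  let P := (hU.primeIdealOf ⟨i z, hz⟩).asIdeal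
  let Q := (hV.primeIdealOf ⟨z, hz⟩).asIdeal
  let S := X.presheaf.stalk (i z)
  let T := Z.presheaf.stalk z
  have hker' : RingHom.ker (i.stalkMap z).hom =
      (RingHom.ker (i.app U).hom).map (algebraMap Γ(X, U) S) := by
    have hg : ∀ a : Γ(X, U), (i.stalkMap z).hom (algebraMap Γ(X, U) S a) =
        algebraMap Γ(Z, i ⁻¹ᵁ U) T ((i.app U).hom a) := fun a =>
      Scheme.Hom.germ_stalkMap_apply i U z hz a
    refine le_antisymm (fun x hx => ?_) (Ideal.map_le_iff_le_comap.2 fun a ha => ?_)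
    · obtain ⟨⟨a, s⟩, rfl⟩ := IsLocalization.mk'_surjective P.primeCompl x
      have h1 : algebraMap Γ(Z, i ⁻¹ᵁ U) T ((i.app U).hom a) = 0 := by
        rw [← hg, ← IsLocalization.mk'_spec S a s, map_mul, show (i.stalkMap z).hom _ = 0 from hx,
          zero_mul]
      obtain ⟨t, ht⟩ := (IsLocalization.map_eq_zero_iff Q.primeCompl T _).1 h1
      obtain ⟨t', ht'⟩ := RegImm44.app_surjective i hU (t : Γ(Z, i ⁻¹ᵁ U))
      have ht'P : t' ∈ P.primeCompl := fun htp => t.2 (by
        have h2 : t' ∈ Q.comap (i.app U).hom := hcomap.symm ▸ htp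
        rwa [Ideal.mem_comap, ht'] at h2)
      exact (IsLocalization.mk'_mem_map_algebraMap_iff P.primeCompl _ _ _ _).2
        ⟨t', ht'P, by rw [RingHom.mem_ker, map_mul, ht', ht]⟩
    · rw [Ideal.mem_comap, RingHom.mem_ker, hg, show (i.app U).hom a = 0 from ha, map_zero]
  haveI : Module.Flat Γ(X, U) S := IsLocalization.flat S P.primeCompl
  refine ⟨rs.map (algebraMap Γ(X, U) S), ⟨hrs.toIsWeaklyRegular.of_flat, fun htop => ?_⟩, ?_⟩
  · have h1 : RingHom.ker (i.stalkMap z).hom = ⊤ := by
      rw [hker', hker, Ideal.map_ofList]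
      simpa using htop.symm
    exact RingHom.ker_ne_top _ h1
  · rw [hker', hker, Ideal.map_ofList]

end Groth.Agent.S18944
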