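import Groth.Statements.S3700
import Groth.Agent.S1677
import Groth.Agent.S18944
import Groth.Agent.Omega.QuasiSmoothScheme
import Groth.Agent.Omega.QuasiRegular
import Groth.Agent.RegImm38.Spread
import Groth.Agent.RegLoc.Completion
import Groth.Agent.Synt44.CILocal
-- import your own Groth.Agent.* helpers here

set_option autoImplicit false
universe u
open SGA1

namespace Groth.Agent.S3700

section
open CategoryTheory CategoryTheory.Limits AlgebraicGeometry

/-- a regular local ring is a complete intersection -/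
theorem isCI_of_regular (A : Type u) [CommRing A] [IsRegularLocalRing A] : Pi1.IsCompleteIntersection A := by
  haveI := (RegLoc.Completion.isRegularLocalRing_completion_iff A).1 (inferInstanceAs (IsRegularLocalRing A))
  refine ⟨AdicCompletion (IsLocalRing.maximalIdeal A) A, inferInstance, inferInstance, [], by simp,
    RingTheory.Sequence.IsRegular.nil _ _, ⟨(RingEquiv.quotientBot _).symm.trans (Ideal.quotEquivOfEq ?_)⟩⟩
  simp

/-- the fibres of a smooth morphism are complete intersections -/
theorem isCI_fiberStalk_of_smooth {Y S : Scheme.{u}} (q : Y ⟶ S) [Smooth q] (z : Y) :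
    Pi1.IsCompleteIntersection (CInt.fiberStalk q z) := by
  haveI : Smooth (q.fiberToSpecResidueField (q z)) := inferInstanceAs (Smooth (pullback.snd q (S.fromSpecResidueField (q z))))
  haveI := @CurveDVR.isRegularLocalRing_stalk (S.residueField (q z)) _ (q.fiber (q z)) (q.fiberToSpecResidueField (q z))
    inferInstance (q.asFiber z)
  exact isCI_of_regular _

/-- regularity of the kernel on local rings does not change on restriction -/
theorem regularIdeal_of_restrict {Z X : Scheme.{u}} (j : Z ⟶ X) (V : X.Opens) (z : Z) (hz : z ∈ j ⁻¹ᵁ V)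
    (h : CInt.IsRegularIdeal (RingHom.ker ((j ∣_ V).stalkMap ⟨z, hz⟩).hom)) :
    CInt.IsRegularIdeal (RingHom.ker (j.stalkMap z).hom) := by
  let e := morphismRestrictStalkMap j V ⟨z, hz⟩
  obtain ⟨rs, hrs, hk⟩ := h
  let a : (↑V : Scheme.{u}).presheaf.stalk ((j ∣_ V) ⟨z, hz⟩) ≃+* X.presheaf.stalk (j z) :=
    (asIso e.hom.left).commRingCatIsoToRingEquiv
  have hsq : ∀ t, (j.stalkMap z).hom (a t) = e.hom.right.hom (((j ∣_ V).stalkMap ⟨z, hz⟩).hom t) := fun t =>
    congrArg (fun φ => φ.hom t) e.hom.w
  haveI : IsIso e.hom.right := Arrow.isIso_right e.hom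
  have hK : (RingHom.ker ((j ∣_ V).stalkMap ⟨z, hz⟩).hom).map a.toRingHom = RingHom.ker (j.stalkMap z).hom := by
    ext t
    obtain ⟨t, rfl⟩ := a.surjective t
    rw [RingHom.mem_ker, hsq, map_eq_zero_iff e.hom.right.hom (ConcreteCategory.bijective_of_isIso e.hom.right).1]
    exact (Ideal.mem_map_of_equiv a _).trans ⟨fun ⟨s, hs, hst⟩ => a.injective hst ▸ hs, fun hs => ⟨t, hs, rfl⟩⟩
  rw [← hK]
  exact Synt44.isRegularIdeal_map_ringEquiv a ⟨rs, hrs, hk⟩

end

open AlgebraicGeometry CategoryTheory CategoryTheory.Limits in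
/-- Let S be locally Noetherian, f : X -> S locally of finite type, Y the closed subscheme of X defined
by a quasi-coherent ideal, and x a point of Y at which Y is smooth over S. Then X is smooth over S
at x if and only if the closed immersion of Y in X is regular at x, that is, the kernel of O_{X,x}
-> O_{Y,x} is generated by a regular sequence. (Smoothness at a point is membership in Mathlib's
smooth locus, the set of points where the map of local rings is formally smooth.) -/
theorem result {X S : Scheme.{u}} [IsLocallyNoetherian S] (f : X ⟶ S)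
    [LocallyOfFiniteType f] [LocallyOfFinitePresentation f] (I : X.IdealSheafData)
    [LocallyOfFinitePresentation (I.subschemeι ≫ f)] (x : ↥I.subscheme) (hY : x ∈ (I.subschemeι ≫ f).smoothLocus) :
    I.subschemeι.base x ∈ f.smoothLocus ↔ CInt.IsRegularIdeal (RingHom.ker (I.subschemeι.stalkMap x).hom) := by
  haveI : IsLocallyNoetherian X := LocallyOfFiniteType.isLocallyNoetherian f
  constructor
  · intro hX
    obtain ⟨O, hO, hOY⟩ := I.subschemeι.isClosedEmbedding.isInducing.isOpen_iff.1 (I.subschemeι ≫ f).smoothLocus.2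
    let X₁ : X.Opens := f.smoothLocus ⊓ ⟨O, hO⟩
    let i := I.subschemeι ∣_ X₁
    let p := X₁.ι ≫ f
    haveI : Smooth p := by
      rw [← Scheme.Hom.smoothLocus_eq_top_iff, ← Scheme.Hom.preimage_smoothLocus_eq, eq_top_iff]
      exact fun z _ => z.2.1
    haveI : Smooth (i ≫ p) := by
      rw [morphismRestrict_ι_assoc, ← Scheme.Hom.smoothLocus_eq_top_iff, ← Scheme.Hom.preimage_smoothLocus_eq, eq_top_iff]
      exact fun z _ => hOY.le z.2.2
    obtain ⟨_, hreg⟩ := S1677.result p i ⟨inferInstance, inferInstance, fun z => isCI_fiberStalk_of_smooth (i ≫ p) z⟩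
    have hx : x ∈ I.subschemeι ⁻¹ᵁ X₁ := ⟨hX, hOY.ge hY⟩
    have hR : RegImm.IsRegularImmersion RegImm.Kind.regular i := ⟨inferInstance, fun z => by
      obtain ⟨U, hU, hz, rs, hrs, hker⟩ := hreg z
      exact ⟨⟨U, hU⟩, hz, inferInstance, rs, hrs, by rw [← hker, Scheme.Hom.ker_apply]⟩⟩
    obtain ⟨rs, hrs, hker⟩ := S18944.result i hR ⟨x, hx⟩
    exact regularIdeal_of_restrict I.subschemeι X₁ x hx ⟨rs, hrs, hker.symm⟩
  · rintro ⟨ts, hts, hker⟩
    refine Omega.QuasiSmooth.mem_smoothLocus_of_quasi f I.subschemeι (I.subschemeι ≫ f) rfl x hY ?_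
    obtain ⟨U, hxU, hci, rs, hrs, hk⟩ := RegImm38.isRegularImmersionAt_of_stalk (i := I.subschemeι) x hts.toIsWeaklyRegular hker.symm
    exact ⟨U, hxU, hci, rs, Omega.quasi_of_isRegular hrs, hk⟩

end Groth.Agent.S3700
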