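import Groth.Statements.S2063
import Groth.Agent.Omega.SmoothFibreDim
import Groth.Agent.Omega.RankDimGen

set_option autoImplicit false
universe u
open CAlg

namespace Groth.Agent.S2063

open TensorProduct in
/-- Let `S` be of finite type over a field `k` and `𝔮` a prime of `S`. Smoothness of `S` over `k` at `𝔮`
holds exactly when the `κ(𝔮)`-dimension of `Ω_{S/k} ⊗ κ(𝔮)` is at most the local dimension of `Spec
S` at `𝔮`. -/
theorem result {k S : Type u} [Field k] [CommRing S] [Algebra k S]
    [Algebra.FiniteType k S] (q : Ideal S) [q.IsPrime] :
    Algebra.IsSmoothAt k q ↔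
      ((Module.finrank q.ResidueField (q.ResidueField ⊗[S] Ω[S⁄k]) : ℕ∞) : WithBot ℕ∞) ≤
        FlatMor.localDim (PrimeSpectrum S) ⟨q, inferInstance⟩ := by
  open Groth.Agent.Omega in
  constructor
  · intro h
    haveI := h
    haveI : IsNoetherianRing S := Algebra.FiniteType.isNoetherianRing k S
    obtain ⟨p, hp, hpq⟩ := Ideal.exists_minimalPrimes_le (bot_le : (⊥ : Ideal S) ≤ q)
    haveI := Ideal.minimalPrimes_isPrime hp
    let T := Localization.AtPrime q
    haveI : Algebra.FormallyEtale S T := Algebra.FormallyEtale.of_isLocalization q.primeCompl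
    haveI : Algebra.EssFiniteType k T := Algebra.EssFiniteType.comp k S T
    haveI : Module.Free T Ω[T⁄k] := Module.free_of_flat_of_isLocalRing
    letI : Algebra T p.ResidueField := (IsLocalization.lift (M := q.primeCompl) (g := algebraMap S p.ResidueField)
      fun s => IsUnit.mk0 _ fun h0 => s.2 (hpq (Ideal.algebraMap_residueField_eq_zero.mp h0))).toAlgebra
    haveI : IsScalarTower S T p.ResidueField := IsScalarTower.of_algebraMap_eq fun x =>
      ((IsLocalization.lift_eq (M := q.primeCompl) _ x)).symm
    have h1 := RankDim.finrank_localized k T p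
    have h2 := RankDim.finrank_localized k T q
    haveI : Algebra.FormallySmooth k (Localization.AtPrime p) := by
      haveI : IsLocalization.AtPrime (Localization.AtPrime p) p := inferInstance
      have hle : q.primeCompl ≤ p.primeCompl := fun a ha hap => ha (hpq hap)
      letI : Algebra T (Localization.AtPrime p) :=
        (IsLocalization.lift (M := q.primeCompl) (g := algebraMap S (Localization.AtPrime p))
          fun s => IsLocalization.map_units (Localization.AtPrime p) (⟨s.1, hle s.2⟩ : p.primeCompl)).toAlgebra
      haveI : IsScalarTower S T (Localization.AtPrime p) := IsScalarTower.of_algebraMap_eq fun x =>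
        ((IsLocalization.lift_eq (M := q.primeCompl) _ x)).symm
      haveI : IsScalarTower k T (Localization.AtPrime p) := IsScalarTower.of_algebraMap_eq fun x => by
        rw [IsScalarTower.algebraMap_apply k S T, ← IsScalarTower.algebraMap_apply S T,
          ← IsScalarTower.algebraMap_apply]
      haveI : IsLocalization (p.primeCompl.map (algebraMap S T)) (Localization.AtPrime p) :=
        IsLocalization.isLocalization_of_submonoid_le T (Localization.AtPrime p) q.primeCompl p.primeCompl hle
      haveI : Algebra.FormallySmooth T (Localization.AtPrime p) :=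
        Algebra.FormallySmooth.of_isLocalization (p.primeCompl.map (algebraMap S T))
      exact Algebra.FormallySmooth.comp k T _
    haveI := RankDim.isRegularLocalRing_of_isSmoothAt k S p ‹_›
    haveI := RegLoc.isDomain (Localization.AtPrime p)
    obtain ⟨t, ht⟩ := RankDim.exists_trdeg_eq k p
    have h3 := RankDim.rank_eq_trdeg k p (RankDim.isField_of_minimal p hp) t ht
    unfold RankDim.rank at h3
    rw [← h2, h1, h3, CAlgLib.LocalDimSpec.localDim_eq k q]
    refine le_trans ?_ (le_iSup_of_le (⟨p, hp, hpq⟩ : CAlgLib.LocalDimSpec.Mins q) le_rfl)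
    rw [TrdegDim.ringKrullDim_quotient_eq p t ht]
    exact le_refl _
  · intro h
    refine RankDim.formallySmooth_of_rank_le k q (le_trans ?_ h)
    exact le_refl _

end Groth.Agent.S2063
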