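import Groth.Statements.S9387
import Groth.Agent.Omega.LocalStructure

set_option autoImplicit false
universe u
open OmegaSh

namespace Groth.Agent.S9387

open AlgebraicGeometry CategoryTheory in
/-- If f : X → S is locally of finite type then Ω_{X/S} is an O_X-module of finite type (for any
receptacle Ω of a universal S-derivation). -/
theorem result {X S : Scheme.{u}} (f : X ⟶ S) [LocallyOfFiniteType f]
    (Ω : X.Modules) (d : OmegaSh.Der f Ω) (hd : OmegaSh.IsUniversal d) : CohB1.IsFT Ω := by
  refine Groth.Agent.Omega.Charts.isFT_of_charts Ω fun x => ?_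
  obtain ⟨U, hU, V, hV, hxV, -, e⟩ := Groth.Agent.Omega.Chart.exists_affine_pair f x (W := ⊤) (Set.mem_univ _)
  let := (f.appLE U V e).hom.toAlgebra
  have : Algebra.FiniteType Γ(S, U) Γ(X, V) :=
    HasRingHomProperty.appLE @LocallyOfFiniteType f inferInstance ⟨U, hU⟩ ⟨V, hV⟩ e
  exact ⟨V, hV, Groth.Agent.Omega.SpecDer.omegaMod Γ(S, U) Γ(X, V), hxV,
    inferInstanceAs (Module.Finite Γ(X, V) (KaehlerDifferential Γ(S, U) Γ(X, V))),
    Groth.Agent.Omega.LocalStructure.exists_tilde_iso hd hU hV e⟩

end Groth.Agent.S9387
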