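import Groth.Statements.S8917
import Groth.Agent.FittLib.Sheaf
import Groth.Agent.Omega.LocalStructure
import Groth.Agent.Omega.DiagUniv
import Groth.Agent.S9387
import Mathlib.RingTheory.Kaehler.TensorProduct

set_option autoImplicit false
universe u
open CategoryTheory CategoryTheory.Limits AlgebraicGeometry TopologicalSpace
open SDiv

namespace Groth.Agent.S8917
set_option backward.isDefEq.respectTransparency.types false
open Groth.Agent.QCoh Groth.Agent.Omega

theorem isQCoh_omega {X S : Scheme.{u}} (f : X ⟶ S) [QuasiSeparated f] :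
    (Omega.sheaf f).IsQuasicoherent := by
  refine isQuasicoherent_of_forall_exists _ fun x => ?_
  obtain ⟨U, hU, V, hV, hxV, -, e⟩ := Chart.exists_affine_pair f x (W := ⊤) (Set.mem_univ _)
  let := (f.appLE U V e).hom.toAlgebra
  obtain ⟨i⟩ := LocalStructure.exists_tilde_iso (DiagUniv.isUniversal_dOmega f) hU hV e
  refine ⟨V, hV, hxV, ?_⟩
  exact QCoh.isQuasicoherent_of_iso i

theorem isFT_omega {X S : Scheme.{u}} (f : X ⟶ S) [LocallyOfFiniteType f] [QuasiSeparated f] :
    (Omega.sheaf f).IsFiniteType :=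
  S9387.result f (Omega.sheaf f) _ (DiagUniv.isUniversal_dOmega f)

theorem ideal_omega_sections {X S : Scheme.{u}} (f : X ⟶ S) [QuasiSeparated f] {U : S.Opens}
    (hU : IsAffineOpen U) {V : X.Opens} (hV : IsAffineOpen V) (e : V ≤ f ⁻¹ᵁ U) (i : ℕ) :
    letI := (f.appLE U V e).hom.toAlgebra
    Fitt.ideal Γ(X, V) Γ(Omega.sheaf f, V) i = Fitt.ideal Γ(X, V) Ω[Γ(X, V)⁄Γ(S, U)] i := by
  letI := (f.appLE U V e).hom.toAlgebra
  obtain ⟨t⟩ := LocalStructure.exists_tilde_iso (DiagUniv.isUniversal_dOmega f) hU hV e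
  exact (FittLib.ideal_congr ((tilde.isoTop (SpecDer.omegaMod Γ(S, U) Γ(X, V))).toLinearEquiv ≪≫ₗ
    Props.QFP.topEquivOfIso t ≪≫ₗ toSpecTopLinearEquiv hV (Omega.sheaf f)) i).symm

/-- Let f : X ⟶ S be locally of finite type and quasi-separated and let g : S' ⟶ S be a morphism, X' = X
×_S S' with projections g' : X' ⟶ X and f' : X' ⟶ S'. Then for every i the inverse image ideal sheaf
under g' of the i-th Fitting ideal of Ω_{X/S} is the i-th Fitting ideal of Ω_{X'/S'}: the Fitting
subschemes of Ω are compatible with base change. The published statement does not assume f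
quasi-separated; this row does, because the module Ω_{X/S} used here is defined for quasi-separated
f. -/
theorem result {X S S' : Scheme.{u}} (f : X ⟶ S) [LocallyOfFiniteType f] [QuasiSeparated f] (g : S' ⟶ S)
    (i : ℕ) :
    (Fitt.sheafIdeal (Omega.sheaf f) i).comap (pullback.fst f g) = Fitt.sheafIdeal (Omega.sheaf (pullback.snd f g)) i := by
  haveI := isQCoh_omega f
  haveI := isFT_omega f
  haveI : QuasiSeparated (pullback.snd f g) := MorphismProperty.pullback_snd f g inferInstance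
  haveI : LocallyOfFiniteType (pullback.snd f g) := MorphismProperty.pullback_snd f g inferInstance
  haveI := isQCoh_omega (pullback.snd f g)
  haveI := isFT_omega (pullback.snd f g)
  refine IdealSh.Comap.ext_of_forall_exists _ _ fun x => ?_
  obtain ⟨V, hV, U, hU, hxU, -, h⟩ :=
    Chart.exists_affine_pair f ((pullback.fst f g).base x) (W := ⊤) (Set.mem_univ _)
  have hx2 : g ((pullback.snd f g) x) ∈ V := by
    rw [← Scheme.Hom.comp_apply, ← pullback.condition, Scheme.Hom.comp_apply]
    exact h hxU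
  obtain ⟨V', hV', hxV', e⟩ := exists_isAffineOpen_mem_and_subset
    (show (pullback.snd f g) x ∈ g ⁻¹ᵁ V from hx2)
  obtain ⟨W, hW'⟩ : ∃ W, W = (pullback.fst f g) ⁻¹ᵁ U ⊓ (pullback.snd f g) ⁻¹ᵁ V' := ⟨_, rfl⟩
  have hWU : W ≤ (pullback.fst f g) ⁻¹ᵁ U := hW'.le.trans inf_le_left
  have hWV : W ≤ (pullback.snd f g) ⁻¹ᵁ V' := hW'.le.trans inf_le_right
  have hc := IsPullback.of_hasPullback f g
  have hW : IsAffineOpen W := by
    have : IsAffine V.toScheme := hV
    have : IsAffine V'.toScheme := hV'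
    have : IsAffine U.toScheme := hU
    exact .of_isIso (Scheme.Hom.isPullback_resLE hc e h hW').isoPullback.hom
  have hpush : IsPushout (f.appLE V U h) (g.appLE V V' e) ((pullback.fst f g).appLE U W hWU)
      ((pullback.snd f g).appLE V' W hWV) :=
    (isIso_pushoutSection_iff hc e h hW').mp
      (isIso_pushoutSection_of_isAffineOpen hc e h hW' hV hV' hU)
  refine ⟨⟨W, hW⟩, show x ∈ W by rw [hW']; exact ⟨hxU, hxV'⟩, ?_⟩
  rw [IdealSh.Comap.ideal_comap _ (pullback.fst f g) ⟨U, hU⟩ ⟨W, hW⟩ hWU, FittLib.sheafIdeal_ideal,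
    FittLib.sheafIdeal_ideal, ideal_omega_sections f hV hU h, ideal_omega_sections _ hV' hW hWV]
  letI := (f.appLE V U h).hom.toAlgebra
  letI := (g.appLE V V' e).hom.toAlgebra
  letI := ((pullback.fst f g).appLE U W hWU).hom.toAlgebra
  letI := ((pullback.snd f g).appLE V' W hWV).hom.toAlgebra
  letI : Algebra Γ(S, V) Γ(pullback f g, W) :=
    (((pullback.snd f g).appLE V' W hWV).hom.comp (g.appLE V V' e).hom).toAlgebra
  haveI : IsScalarTower Γ(S, V) Γ(S', V') Γ(pullback f g, W) := .of_algebraMap_eq' rfl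
  haveI : IsScalarTower Γ(S, V) Γ(X, U) Γ(pullback f g, W) :=
    .of_algebraMap_eq' congr($(hpush.w).hom).symm
  haveI : Algebra.IsPushout Γ(S, V) Γ(S', V') Γ(X, U) Γ(pullback f g, W) :=
    CommRingCat.isPushout_iff_isPushout.mp hpush.flip
  haveI : Algebra.FiniteType Γ(S, V) Γ(X, U) :=
    HasRingHomProperty.appLE @LocallyOfFiniteType f inferInstance ⟨V, hV⟩ ⟨U, hU⟩ h
  haveI : Module.Finite Γ(X, U) Ω[Γ(X, U)⁄Γ(S, V)] := inferInstance
  exact ((FittLib.ideal_congr (KaehlerDifferential.tensorKaehlerEquiv Γ(S, V) Γ(S', V') Γ(X, U)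
    Γ(pullback f g, W)) i).symm.trans (FittLib.ideal_baseChange i)).symm

end Groth.Agent.S8917
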