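import Groth.Statements.S8916
import Groth.Agent.S8917
import Groth.Agent.S2063
import Groth.Agent.S1240
import Groth.Agent.FlatOpen.EquiDim
import Groth.Agent.FlatOpen.SmoothAt
import Groth.Agent.EtStruct.BaseChangeDescentScheme

set_option autoImplicit false
universe u
open CategoryTheory CategoryTheory.Limits AlgebraicGeometry TopologicalSpace
open SDiv

namespace Groth.Agent.S8916

/-- Affine algebra: at a prime of local dimension `d`, `Fit_d(Ω)` vanishes iff not smooth. -/
theorem fitt_le_iff {k B : Type u} [CommRing k] (hk : IsField k) [CommRing B] [Algebra k B]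
    [Algebra.FiniteType k B] (q : Ideal B) [q.IsPrime] (d : ℕ)
    (hd : FlatMor.localDim (PrimeSpectrum B) ⟨q, inferInstance⟩ = (d : WithBot ℕ∞)) :
    Fitt.ideal B Ω[B⁄k] d ≤ q ↔ ¬ Algebra.IsSmoothAt k q := by
  letI := hk.toField
  rw [Groth.Agent.S2063.result q, hd]
  have h := Groth.Agent.FittLib.not_le_iff_finrank_le (R := B) (M := Ω[B⁄k]) q d
  norm_cast
  rw [← h, not_not]

/-- Over a field: at a point of a scheme all whose components have dimension `d`, the `d`-th
Fitting ideal of `Ω` vanishes iff the structure map is not formally smooth. -/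
theorem mem_support_iff_field {Z : Scheme.{u}} {K : Type u} [Field K]
    (g : Z ⟶ Spec (CommRingCat.of K)) [LocallyOfFiniteType g] [QuasiSeparated g] (d : ℕ)
    (hdim : ∀ T ∈ irreducibleComponents ↥Z, topologicalKrullDim ↥T = d) (y : Z) :
    y ∈ (Fitt.sheafIdeal (Omega.sheaf g) d).support ↔ ¬ (g.stalkMap y).hom.FormallySmooth := by
  letI : Z.Over (Spec (CommRingCat.of K)) := ⟨g⟩
  haveI : LocallyOfFiniteType (Z ↘ Spec (CommRingCat.of K)) := ‹LocallyOfFiniteType g›
  obtain ⟨-, -, -, hld⟩ := Groth.Agent.FlatOpen.EquiDim.coheight_add_dimPt K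
    ((Groth.Agent.FlatOpen.EquiDim.irreducibleComponents_dimPt_iff K d).1 hdim) y
  obtain ⟨_, ⟨V, hV, rfl⟩, hyV, -⟩ :=
    Z.isBasis_affineOpens.exists_subset_of_mem_open (Set.mem_univ y) isOpen_univ
  have hU : IsAffineOpen (⊤ : (Spec (CommRingCat.of K)).Opens) := isAffineOpen_top _
  have e : V ≤ g ⁻¹ᵁ ⊤ := le_top
  haveI := Groth.Agent.S8917.isQCoh_omega g
  haveI := Groth.Agent.S8917.isFT_omega g
  letI := (g.appLE ⊤ V e).hom.toAlgebra
  haveI : Algebra.FiniteType Γ(Spec (CommRingCat.of K), ⊤) Γ(Z, V) := g.finiteType_appLE hU hV e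
  have hfld : IsField Γ(Spec (CommRingCat.of K), ⊤) :=
    (Scheme.ΓSpecIso (CommRingCat.of K)).commRingCatIsoToRingEquiv.toMulEquiv.isField
      (Field.toIsField K)
  rw [Groth.Agent.FittLib.mem_support_iff (Omega.sheaf g) d ⟨V, hV⟩ y hyV,
    Groth.Agent.S8917.ideal_omega_sections g hU hV e d,
    formallySmooth_stalkMap_iff ⊤ hU V hV e hyV]
  refine fitt_le_iff hfld _ d ?_
  refine (Groth.Agent.S1240.localDim_openEmbedding
    (hV.fromSpec.isOpenEmbedding) (hV.primeIdealOf ⟨y, hyV⟩)).trans ?_
  rw [hV.fromSpec_primeIdealOf ⟨y, hyV⟩]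
  exact hld

/-- Let f : X ⟶ S be flat, locally of finite presentation and quasi-separated, and d ≥ 0 such that all
irreducible components of each nonempty fibre of f have dimension d. Then the closed subset of X
defined by the Fitting ideal Fit_d(Ω_{X/S}) is exactly the set of points at which f is not smooth,
i.e. which have no open neighbourhood on which f is smooth. The published statement does not assume
f quasi-separated; this row does, because the module Ω_{X/S} used here is defined for
quasi-separated f. -/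
theorem result {X S : Scheme.{u}} (f : X ⟶ S) [Flat f] [LocallyOfFinitePresentation f] [QuasiSeparated f]
    (d : ℕ) (hdim : ∀ s : ↥S, ∀ T ∈ irreducibleComponents ↥(f.fiber s), topologicalKrullDim ↥T = d) (x : ↥X) :
    x ∈ (Fitt.sheafIdeal (Omega.sheaf f) d).support ↔ ¬ ∃ U : X.Opens, x ∈ U ∧ Smooth (U.ι ≫ f) := by
  rw [Groth.Agent.EtStruct.smooth_nhd_iff f x]
  suffices h : ∀ (s : S) (y : f.fiber s), f.fiberι s y ∈ (Fitt.sheafIdeal (Omega.sheaf f) d).support ↔
      ¬ (f.stalkMap (f.fiberι s y)).hom.FormallySmooth by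
    have h1 := h (f x) (f.asFiber x)
    rwa [f.fiberι_asFiber x] at h1
  intro s y
  haveI hqs : QuasiSeparated (f.fiberToSpecResidueField s) :=
    MorphismProperty.pullback_snd f (S.fromSpecResidueField s) inferInstance
  haveI hlft : LocallyOfFiniteType (f.fiberToSpecResidueField s) :=
    MorphismProperty.pullback_snd f (S.fromSpecResidueField s) inferInstance
  have hfit : (Fitt.sheafIdeal (Omega.sheaf f) d).comap (f.fiberι s) =
      Fitt.sheafIdeal (Omega.sheaf (f.fiberToSpecResidueField s)) d :=
    Groth.Agent.S8917.result f (S.fromSpecResidueField s) d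
  have hmem : f.fiberι s y ∈ (Fitt.sheafIdeal (Omega.sheaf f) d).support ↔
      y ∈ (Fitt.sheafIdeal (Omega.sheaf (f.fiberToSpecResidueField s)) d).support := by
    rw [← hfit, Scheme.IdealSheafData.support_comap]
    rfl
  rw [hmem, @mem_support_iff_field _ (S.residueField s) _ (f.fiberToSpecResidueField s) hlft hqs d (hdim s) y,
    Groth.Agent.FlatOpen.SmoothAt.formallySmooth_stalkMap_iff_fibre f s y]
  exact not_congr (iff_and_self.mpr fun _ => Flat.stalkMap f _)

end Groth.Agent.S8916
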