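import Groth.Statements.S5051
import Groth.Agent.Wt12.Count
-- import your own Groth.Agent.* helpers here

set_option autoImplicit false
open CategoryTheory AlgebraicGeometry
universe u
open Unram

namespace Groth.Agent.S5051

/-- Let f : X ⟶ Y be étale, separated and of finite type. Then y ↦ (number of points of the geometric
fibre of f at y) is lower semicontinuous on Y. -/
theorem result {X Y : Scheme.{u}} (f : X ⟶ Y) [Etale f] [IsSeparated f]
    [LocallyOfFiniteType f] [QuasiCompact f] :
    LowerSemicontinuous (fun y : Y => ENat.card ↥(MoreMor.geomFiber f y)) := by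
  have hopen : ∀ y : Y, ∀ (V : Scheme.{u}) (g : V ⟶ Y), Etale g → ∀ z : ↥(Limits.pullback f g),
      f (Limits.pullback.fst f g z) = y → EGA43.IsOpenAt (Limits.pullback.snd f g).base z :=
    fun _ V g _ z _ U hU => by
      have : IsOpenMap (Limits.pullback.snd f g).base := (Limits.pullback.snd f g).isOpenMap
      exact this.image_mem_nhds hU
  haveI : LocallyQuasiFinite f := Groth.Agent.Wt.Master.locallyQuasiFinite_of_etale f
  intro y c hc
  simp only [← Groth.Agent.Wt12.nGeomConnComp_eq_card] at hc ⊢
  exact (Groth.Agent.Wt12.eventually_le f y (hopen y)).mono fun v hv => hc.trans_le hv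

end Groth.Agent.S5051
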