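import Groth.Statements.S5052
import Groth.Agent.Wt12.Count
import Groth.Agent.Unram.FiniteEtaleCard
-- import your own Groth.Agent.* helpers here

set_option autoImplicit false
open CategoryTheory AlgebraicGeometry
universe u
open Unram

namespace Groth.Agent.S5052

/-- Let f : X ⟶ Y be étale, separated and of finite type, and y a point of Y. The number of points of
the geometric fibre is constant on a neighbourhood of y if and only if the restriction of f over
some open neighbourhood of y is a finite morphism. -/
theorem result {X Y : Scheme.{u}} (f : X ⟶ Y) [Etale f] [IsSeparated f]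
    [LocallyOfFiniteType f] [QuasiCompact f] (y : Y) :
    (∃ U : Y.Opens, y ∈ U ∧ ∀ y' : Y, y' ∈ U → ENat.card ↥(MoreMor.geomFiber f y') = ENat.card ↥(MoreMor.geomFiber f y)) ↔
      ∃ U : Y.Opens, y ∈ U ∧ IsFinite (f ∣_ U) := by
  haveI : LocallyQuasiFinite f := Groth.Agent.Wt.Master.locallyQuasiFinite_of_etale f
  constructor
  · rintro ⟨U, hyU, hU⟩
    refine Groth.Agent.Wt12.exists_isFinite_restrict f y (fun V g _ z _ N hN => ?_)
      ⟨U, U.2.mem_nhds hyU, fun v hv => ?_⟩
    · have : IsOpenMap (Limits.pullback.snd f g).base := (Limits.pullback.snd f g).isOpenMap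
      exact this.image_mem_nhds hN
    · rw [Groth.Agent.Wt12.nGeomConnComp_eq_card, Groth.Agent.Wt12.nGeomConnComp_eq_card]
      exact hU v hv
  · rintro ⟨U, hyU, hU⟩
    obtain ⟨V, hyV, hV⟩ := Groth.Agent.Unram.FiniteEtaleCard.eventually_card_eq f U ⟨y, hyU⟩
    exact ⟨V, hyV, hV⟩

end Groth.Agent.S5052
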