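import Groth.Statements.S7671
import Groth.Agent.SemiLocPic.Basic
-- import your own Groth.Agent.* helpers here

set_option autoImplicit false
set_option linter.style.haveILetI false
universe u
open CategoryTheory CategoryTheory.Limits AlgebraicGeometry
open Variety

namespace Groth.Agent.S7671

/-- Let A → B be faithfully flat and X a quasi-compact and quasi-separated scheme over A such that
H^0(X, O_X) is a semi-local ring. Then Pic(X) → Pic(X_B) is injective: an invertible module on X
which becomes trivial on X_B is trivial. -/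
theorem result (A B : Type u) [CommRing A]
    [CommRing B] [Algebra A B] [Module.FaithfullyFlat A B]
    (X : Scheme.{u}) (f : X ⟶ Spec (CommRingCat.of A)) [CompactSpace X] [QuasiSeparatedSpace X]
    (hsl : Finite (MaximalSpectrum Γ(X, ⊤))) (L : X.Modules) (hL : PicF.IsInvertible L)
    (htriv : Nonempty ((Scheme.Modules.pullback
        (pullback.fst f (Spec.map (CommRingCat.ofHom (algebraMap A B))))).obj L ≅
      Coh.structureModule (pullback f (Spec.map (CommRingCat.ofHom (algebraMap A B)))))) :
    Nonempty (L ≅ Coh.structureModule X) := by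
  let φ : CommRingCat.of A ⟶ Γ(X, ⊤) := (Scheme.ΓSpecIso (CommRingCat.of A)).inv ≫ f.appTop
  have hf : f = X.toSpecΓ ≫ Spec.map φ := by
    rw [Spec.map_comp, ← Category.assoc, ← Scheme.toSpecΓ_naturality, Category.assoc,
      toSpecΓ_SpecMap_ΓSpecIso_inv, Category.comp_id]
  clear_value φ
  subst hf
  let g₀ := Spec.map (CommRingCat.ofHom (algebraMap A B))
  haveI : Flat g₀ := (HasRingHomProperty.Spec_iff (P := @Flat)).mpr
    (RingHom.flat_algebraMap_iff.mpr inferInstance)
  haveI : Surjective g₀ := ⟨PrimeSpectrum.comap_surjective_of_faithfullyFlat⟩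
  let g := pullback.fst (Spec.map φ) g₀
  haveI : Flat g := inferInstanceAs (Flat (pullback.fst (Spec.map φ) g₀))
  haveI : Surjective g := inferInstanceAs (Surjective (pullback.fst (Spec.map φ) g₀))
  haveI : QuasiCompact g := inferInstanceAs (QuasiCompact (pullback.fst (Spec.map φ) g₀))
  let e := pullbackRightPullbackFstIso (Spec.map φ) g₀ X.toSpecΓ
  obtain ⟨t⟩ := htriv
  have t' : (Scheme.Modules.pullback (pullback.fst X.toSpecΓ g)).obj L ≅
      (Scheme.Modules.pullback (pullback.snd X.toSpecΓ g)).obj (Coh.structureModule _) :=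
    (Scheme.Modules.pullbackCongr (pullbackRightPullbackFstIso_hom_fst _ _ _).symm).app L ≪≫
      ((Scheme.Modules.pullbackComp e.hom _).app L).symm ≪≫
      (Scheme.Modules.pullback e.hom).mapIso t ≪≫ Groth.Agent.QCoh.pullbackUnitIso _ ≪≫
      (Groth.Agent.QCoh.pullbackUnitIso _).symm
  obtain ⟨hN, hiso⟩ := Groth.Agent.ParaFLib.QSepBC.isIso_counit_of_isPullback (f := X.toSpecΓ) (g := g)
    (IsPullback.of_hasPullback X.toSpecΓ g) (Groth.Agent.SemiLocPic.bijective_toSpecΓ_app X) L hL
    (Groth.Agent.LFFrame.isInvertible_structureModule _) t'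
  have hfin : (closedPoints (Spec Γ(X, ⊤) : Type u)).Finite := by
    haveI : Finite (MaximalSpectrum Γ(X, ⊤)) := hsl
    refine (Set.finite_range (MaximalSpectrum.toPrimeSpectrum (R := Γ(X, ⊤)))).subset ?_
    intro x hx
    exact ⟨⟨x.asIdeal, (PrimeSpectrum.isClosed_singleton_iff_isMaximal _).mp hx⟩, rfl⟩
  obtain ⟨i⟩ := Groth.Agent.SemiLocPic.nonempty_iso_of_finite_closedPoints hfin hN
  exact ⟨(@asIso _ _ _ _ _ hiso).symm ≪≫ (Scheme.Modules.pullback X.toSpecΓ).mapIso i.symm ≪≫
    Groth.Agent.QCoh.pullbackUnitIso _⟩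

end Groth.Agent.S7671
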