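import Groth.Statements.S5632
import Groth.Agent.PicAlg.SectionDim
import Groth.Agent.NumTriv.Twist
import Groth.Agent.EulerFam.IntBound
import Groth.Agent.IntProd70.Positive
import Groth.Agent.ProperFin.Projective
-- import your own Groth.Agent.* helpers here

set_option autoImplicit false
universe u
open CategoryTheory CategoryTheory.Limits AlgebraicGeometry
open Pic13

namespace Groth.Agent.S5632

/-- Let k be an algebraically closed field, X ⊆ P^n_k an integral closed subscheme of dimension r = s +
1 ≥ 1, with O_X(1) and O_X(-1) the restrictions of O(1) and O(-1). Let L be an invertible O_X-module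
with inverse L' (L ⊗ L' ≅ O_X) whose degree (c₁(L)·c₁(O_X(1))^{r-1}) is ≤ 0 and with H^0(X, L) ≠ 0.
Then L ≅ O_X (so that its degree is 0 and h^0(L) = 1). Intersection numbers are those of FGA.intNum,
which takes the inverse modules L', O_X(-1) as arguments. -/
theorem result (k : Type u) [Field k] [IsAlgClosed k] (n : ℕ) (X : Scheme.{u}) [X.Over (Spec (CommRingCat.of k))]
    (i : X ⟶ CohB1.ProjSpace n k) [IsClosedImmersion i] (hi : i ≫ CohB1.ProjSpace.toSpec n k = X ↘ Spec (CommRingCat.of k))
    [IsIntegral X] (s : ℕ) (hdim : topologicalKrullDim X = (s + 1 : ℕ))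
    (L L' : X.Modules) (hL : PicF.IsInvertible L) (hLL' : Nonempty (CohB1.tensorMod L L' ≅ Coh.structureModule X))
    (hdeg : FGA.intNum k X (s + 1)
      (Matrix.vecCons L' (fun _ : Fin s => (Scheme.Modules.pullback i).obj (Twist.twistProjSpace n k (-1))))
      (Coh.structureModule X) ≤ 0)
    (hsec : Nontrivial (Coh.HH X L 0)) :
    Nonempty (L ≅ Coh.structureModule X) := by
  obtain ⟨eL⟩ := hLL'
  have := Groth.Agent.ProjProper.Basic.isProper_toSpec n k
  have : IsProper (X ↘ Spec (CommRingCat.of k)) := by rw [← hi]; infer_instance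
  have := Groth.Agent.EulerChar.isNoetherian k (X := X)
  have hO := Groth.Agent.LFFrame.isInvertible_structureModule X
  have hOc := Groth.Agent.ProperFin.isCoh_structureModule X
  have hLc : Coh.IsCoh L := Groth.Agent.CohDev.isCoh_of_iso (Groth.Agent.ProjTwist.tensOne L)
    (Groth.Agent.Snapper.isCoh_tensorMod k hL hOc)
  obtain ⟨σ, hσ⟩ := exists_ne (0 : Coh.HH X L 0)
  let φ := Groth.Agent.Props.GenLocus.homOfSec (Groth.Agent.ProperFin.h0Sec L σ)
  have hφ : φ ≠ 0 := fun h0 => hσ ((Groth.Agent.ProperFin.h0Sec L).injective (by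
    rw [map_zero]
    refine ((Groth.Agent.Props.GenLocus.sec_homOfSec (Groth.Agent.ProperFin.h0Sec L σ) ⊤).trans
      (Groth.Agent.QCoh.res_self ..)).symm.trans ?_
    show Groth.Agent.Props.GenLocus.sec φ ⊤ = 0
    rw [h0]
    rfl))
  have hmono : Mono φ := Groth.Agent.EulerChar.mono_of_ne_zero hO hL φ hφ
  have hbij := (Groth.Agent.EulerChar.bijective_stalk_generic hO hL φ hφ).2
  let C := cokernel φ
  have hCc : Coh.IsCoh C := Groth.Agent.CohDev.isCoh_cokernel φ hOc.1 hLc
  have hS : (ShortComplex.mk φ (cokernel.π φ) (cokernel.condition φ)).ShortExact :=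
    { exact := ShortComplex.exact_of_g_is_cokernel _ (cokernelIsCokernel φ)
      mono_f := hmono
      epi_g := inferInstanceAs (Epi (cokernel.π φ)) }
  by_cases hall : ∀ x : X, x ∈ CohB1.genLocus L φ
  · have : IsIso φ := by
      have : Epi φ := Preadditive.epi_of_isZero_cokernel φ
        (Groth.Agent.CohDev.isZero_of_support_eq_empty (Set.eq_empty_iff_forall_notMem.2 fun x =>
          Groth.Agent.CohDev.not_mem_support_cokernel φ
            (Groth.Agent.HilbPolyX.stalk_sec_bijective φ (hall x)).2))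
      exact isIso_of_mono_of_epi φ
    exact ⟨(asIso φ).symm⟩
  exfalso
  push Not at hall
  obtain ⟨x, hx⟩ := hall
  have hsupp : ((CohB1.genLocus L φ : Set X)ᶜ) ⊆ CohB1.support C := fun y hy hsub => by
    obtain ⟨eM⟩ := Groth.Agent.EulerChar.stalk_ofRank
      (Groth.Agent.ProjTwist.isFinLocFreeOfRank_one hL) y
    have : Module.Finite (X.presheaf.stalk y) (L.presheaf.stalk y) := Module.Finite.equiv eM
    have htop : IsLocalRing.maximalIdeal (X.presheaf.stalk y) •
        (⊤ : Submodule (X.presheaf.stalk y) (L.presheaf.stalk y)) = ⊤ :=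
      eq_top_iff.2 fun m _ => by
        obtain ⟨t, rfl⟩ := (((Groth.Agent.PullStalk.Exact.stalk_exact hS y).2.1) m).mp
          (@Subsingleton.elim _ hsub _ _)
        exact Groth.Agent.HilbPolyX.stalk_sec_mem φ hL hy t
    have hbot := Submodule.eq_bot_of_le_smul_of_le_jacobson_bot _ _ Module.Finite.fg_top htop.ge
      (IsLocalRing.maximalIdeal_le_jacobson _)
    have : Subsingleton (L.presheaf.stalk y) :=
      (Submodule.subsingleton_iff _).1 (subsingleton_of_bot_eq_top hbot.symm)
    have : Subsingleton (Fin 1 → X.presheaf.stalk y) := eM.injective.subsingleton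
    exact one_ne_zero (congrFun (Subsingleton.elim (1 : Fin 1 → X.presheaf.stalk y) 0) 0)
  have hCd : topologicalKrullDim ↥(CohB1.support C) = (s : WithBot ℕ∞) := by
    refine le_antisymm (Groth.Agent.Snapper.le_of_lt_succ ?_) ?_
    · refine lt_of_lt_of_le (Groth.Agent.CohDev.dim_lt_of_irreducible
        (Groth.Agent.CohDev.isClosed_support hCc) (IrreducibleSpace.isIrreducible_univ X)
        (Set.subset_univ _) (fun h => Groth.Agent.CohDev.not_mem_support_cokernel φ hbij
          (h (Set.mem_univ _))) (n := s + 1) ?_) le_rfl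
      rw [IsHomeomorph.topologicalKrullDim_eq _ (Homeomorph.Set.univ X).isHomeomorph, hdim]
    · have h1 := (Groth.Agent.PicAlg.dim_compl_genLocus k hL φ hφ hx).trans
        (add_le_add_left (Groth.Agent.CohDev.dim_mono hsupp) 1)
      rw [hdim] at h1
      push_cast at h1
      revert h1
      generalize topologicalKrullDim ↥(CohB1.support C) = a
      intro h1
      induction a with
      | bot => simp at h1
      | coe a =>
        rw [← WithBot.coe_one, ← WithBot.coe_add] at h1
        have h2 : (s : ℕ∞) + 1 ≤ a + 1 := WithBot.coe_le_coe.1 h1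
        exact WithBot.coe_le_coe.2 ((ENat.add_le_add_iff_right ENat.one_ne_top).1 h2)
  let P := fun d : ℤ => Groth.Agent.NumTriv.oX i d
  have hP : ∀ _j : Fin s, PicF.IsInvertible (P (-1)) := fun _ =>
    Groth.Agent.NumTriv.isInvertible_oX i (-1)
  have hL' : PicF.IsInvertible L' := Groth.Agent.PicLaw.isInvertible_of_tensor_left hL
    (Groth.Agent.PicCl.isInvertible_of_iso eL.symm hO)
  obtain ⟨eP⟩ := Groth.Agent.NumTriv.nonempty_oX_add i 1 (-1) 0 (by norm_num)
  obtain ⟨eP₀⟩ := Groth.Agent.NumTriv.nonempty_oX_zero i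
  have hM : ∀ j, PicF.IsInvertible ((Fin.cons L' (fun _ : Fin s => P (-1)) :
      Fin (s + 1) → X.Modules) j) := Fin.cases hL' hP
  have hpos : 0 < Groth.Agent.Snapper.intE k (fun _ : Fin s => P (-1)) C :=
    Groth.Agent.IntProd70.intE_pos k (L := fun _ : Fin s => P 1)
      (fun _ => Groth.Agent.NumTriv.isAmple_oX_one i) (fun _ => ⟨eP ≪≫ eP₀⟩) hCc hCd
  have hdO := Groth.Agent.EulerChar.dim_support_le hdim.le (G := Coh.structureModule X)
  have hadd : Groth.Agent.Snapper.intE k (fun _ : Fin s => P (-1)) L =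
      Groth.Agent.Snapper.intE k (fun _ : Fin s => P (-1)) (Coh.structureModule X) +
        Groth.Agent.Snapper.intE k (fun _ : Fin s => P (-1)) C := by
    rw [← Groth.Agent.Snapper.intK_kcl k hP hLc, ← Groth.Agent.Snapper.intK_kcl k hP hOc,
      ← Groth.Agent.Snapper.intK_kcl k hP hCc, ← map_add]
    exact congrArg _ (Groth.Agent.CohDev.kcl_add hS hOc hLc hCc)
  have hshift := Groth.Agent.EulerFam.intE_cons_shift (k := k) hP hL hL' eL hOc
  rw [Groth.Agent.EulerFam.intE_twist_top (k := k) hM hL hOc hdO,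
    Groth.Agent.EulerFam.intE_congr (k := k) _ (Groth.Agent.ProjTwist.tensOne L), hadd] at hshift
  rw [Groth.Agent.Snapper.intNum_eq k hdim.le] at hdeg
  change Groth.Agent.Snapper.intE k (Fin.cons L' (fun _ : Fin s => P (-1))) (Coh.structureModule X) ≤ 0
    at hdeg
  omega

end Groth.Agent.S5632
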