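import Groth.Statements.S5644
import Groth.Agent.EulerFam.IntBound
import Groth.Agent.Snapper.Binom
import Groth.Agent.Snapper.BinomUnique
import Groth.Agent.ProjTwist.Pn.TopCohom
import Groth.Agent.ProjTwist.Pn.Twist
import Groth.Agent.PicLaw.Swap
import Groth.Agent.EulerFam.Tau

set_option autoImplicit false
universe u
open CategoryTheory CategoryTheory.Limits AlgebraicGeometry
open Pic13

namespace Groth.Agent.S5644

/-- Let k be an algebraically closed field, X ⊆ P^n_k an integral closed subscheme of dimension r = s +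
1, O_X(1) and O_X(-1) the restrictions of O(1) and O(-1), and L an invertible O_X-module with
inverse L'. Write the Hilbert polynomials in the binomial basis, χ(L(m)) = Σ_{j ≤ r} a_j C(m+j, j)
and χ(O_X(m)) = Σ_{j ≤ r} e_j C(m+j, j) for m ≥ 0 (Euler characteristics in degrees ≤ r). Then (i)
a_r = e_r = (c₁(O_X(1))^r), the degree of X, and (ii) a_{r-1} - e_{r-1} = (c₁(L)·c₁(O_X(1))^{r-1}),
the degree of L. Intersection numbers are those of FGA.intNum, which takes the inverse modules L',
O_X(-1) as arguments. -/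
theorem result (k : Type u) [Field k] [IsAlgClosed k] (n : ℕ) (X : Scheme.{u}) [X.Over (Spec (CommRingCat.of k))]
    (i : X ⟶ CohB1.ProjSpace n k) [IsClosedImmersion i] (hi : i ≫ CohB1.ProjSpace.toSpec n k = X ↘ Spec (CommRingCat.of k))
    [IsIntegral X] (s : ℕ) (hdim : topologicalKrullDim X = (s + 1 : ℕ))
    (L L' : X.Modules) (hL : PicF.IsInvertible L) (hLL' : Nonempty (CohB1.tensorMod L L' ≅ Coh.structureModule X))
    (a e : Fin (s + 2) → ℤ)
    (ha : ∀ m : ℕ, FGA.eulerCharLE k X (Pic13.twistOn k i L m) (s + 1) = ∑ j : Fin (s + 2), a j * ((m + j).choose j : ℤ))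
    (he : ∀ m : ℕ, FGA.eulerCharLE k X (Pic13.twistOn k i (Coh.structureModule X) m) (s + 1) =
      ∑ j : Fin (s + 2), e j * ((m + j).choose j : ℤ)) :
    a (Fin.last (s + 1)) = e (Fin.last (s + 1)) ∧
      a (Fin.last (s + 1)) = FGA.intNum k X (s + 1)
        (fun _ : Fin (s + 1) => (Scheme.Modules.pullback i).obj (Twist.twistProjSpace n k (-1))) (Coh.structureModule X) ∧
      a (Fin.castSucc (Fin.last s)) - e (Fin.castSucc (Fin.last s)) = FGA.intNum k X (s + 1)
        (Matrix.vecCons L' (fun _ : Fin s => (Scheme.Modules.pullback i).obj (Twist.twistProjSpace n k (-1))))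
        (Coh.structureModule X) := by
  obtain ⟨eL⟩ := hLL'
  let P := fun d : ℤ => (Scheme.Modules.pullback i).obj (Twist.twistProjSpace n k d)
  have hP : ∀ d, PicF.IsInvertible (P d) := fun d =>
    Groth.Agent.PicCl.isInvertible_pullback i (Groth.Agent.ProjTwist.isInvertible_twistProjSpace n k d)
  have hO := Groth.Agent.LFFrame.isInvertible_structureModule X
  have hOc := Groth.Agent.ProperFin.isCoh_structureModule X
  haveI := Groth.Agent.ProjProper.Basic.isProper_toSpec n k
  haveI : IsProper (X ↘ Spec (CommRingCat.of k)) := by rw [← hi]; infer_instance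
  haveI := Groth.Agent.EulerChar.isNoetherian k (X := X)
  have hd : topologicalKrullDim X ≤ (s + 1 : ℕ) := hdim.le
  obtain ⟨e01⟩ := Groth.Agent.ProjTwist.nonempty_twistProjSpace_tensor n k 1 (-1)
  have eP : CohB1.tensorMod (P 1) (P (-1)) ≅ Coh.structureModule X :=
    (Groth.Agent.KFlat.PullTensor.pullTensorIso i _ _).symm ≪≫
      (Scheme.Modules.pullback i).mapIso (e01 ≪≫ eqToIso (congrArg (Twist.twistProjSpace n k) (show (1 : ℤ) + -1 = 0 by norm_num)) ≪≫
        (Groth.Agent.ProjTwist.twistZeroIso (CohB1.polyGrading n k)).symm) ≪≫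
      Groth.Agent.QCoh.pullbackUnitIso i
  let I : X.Modules → ℕ → ℤ := fun G j => Groth.Agent.Snapper.intE k (fun _ : Fin j => P (-1)) G
  have expand : ∀ G : X.Modules, Coh.IsCoh G → ∀ m : ℕ,
      FGA.eulerCharLE k X (Pic13.twistOn k i G m) (s + 1) =
        ∑ j : Fin (s + 2), (if (j : ℕ) = s + 1 then I G j else I G j - I G (j + 1)) *
          ((m + j).choose j : ℤ) := by
    intro G hG m
    obtain ⟨e2⟩ := Groth.Agent.EulerFam.pullback_tensorPow i (Twist.twistProjSpace n k 1) m
    obtain ⟨e1⟩ := Groth.Agent.ProjTwist.Pn.tensorPow_one_iso (n := n) (k := k) m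
    have e : Pic13.twistOn k i G m ≅ CohB1.tensorMod (CohB1.tensorPow (P 1) m) G :=
      Groth.Agent.ProjTwist.tensCongr (Iso.refl G)
        (((Scheme.Modules.pullback i).mapIso e1).symm ≪≫ e2) ≪≫
        Groth.Agent.ProjTwist.tensComm _ _
    rw [Groth.Agent.Snapper.eulerCharLE_eq k hd, Groth.Agent.EulerChar.euler_iso k e,
      Groth.Agent.Snapper.euler_tensorPow_eq k (hP 1) (hP (-1)) eP (s + 1) m hG
        (Groth.Agent.EulerChar.dim_support_le hd)]
    rw [Finset.sum_range_succ, Groth.Agent.Snapper.sum_choose_pred (I G) m (s + 1),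
      Fin.sum_univ_castSucc (n := s + 1),
      Finset.sum_range (fun j => (I G j - I G (j + 1)) * ((m + j).choose j : ℤ))]
    simp only [Fin.val_castSucc, Fin.val_last, if_true]
    refine congrArg₂ (· + ·) (Finset.sum_congr rfl fun j _ => ?_) (mul_comm _ _)
    rw [if_neg (by omega)]
  have hLc : Coh.IsCoh L := Groth.Agent.CohDev.isCoh_of_iso (Groth.Agent.ProjTwist.tensOne L)
    (Groth.Agent.Snapper.isCoh_tensorMod k hL hOc)
  have ha' := fun j => Groth.Agent.Snapper.binom_coeff_unique
    (fun m => (ha m).symm.trans (expand L hLc m)) j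
  have he' := fun j => Groth.Agent.Snapper.binom_coeff_unique
    (fun m => (he m).symm.trans (expand _ hOc m)) j
  have hC : ∀ j : ℕ, ∀ _i : Fin j, PicF.IsInvertible (P (-1)) := fun _ _ => hP (-1)
  have hdO := Groth.Agent.EulerChar.dim_support_le hd (G := Coh.structureModule X)
  have htop : I L (s + 1) = I (Coh.structureModule X) (s + 1) := by
    refine (Groth.Agent.EulerFam.intE_congr _ (Groth.Agent.ProjTwist.tensOne L).symm).trans ?_
    exact Groth.Agent.EulerFam.intE_twist_top (hC (s + 1)) hL hOc hdO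
  have hL' : PicF.IsInvertible L' := Groth.Agent.PicLaw.isInvertible_of_tensor_left hL
    (Groth.Agent.PicCl.isInvertible_of_iso eL.symm hO)
  have hM : ∀ j, PicF.IsInvertible ((Fin.cons L' (fun _ : Fin s => P (-1)) :
      Fin (s + 1) → X.Modules) j) := Fin.cases hL' (hC s)
  simp only [ha', he', Fin.val_last, Fin.val_castSucc, if_true, Nat.ne_of_lt (Nat.lt_succ_self s), if_false]
  refine ⟨htop, htop.trans (Groth.Agent.Snapper.intNum_eq k hd _ _).symm, ?_⟩
  rw [htop, Groth.Agent.Snapper.intNum_eq k hd]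
  refine Eq.trans ?_ ((Groth.Agent.EulerFam.intE_cons_shift (hC s) hL hL' eL hOc).symm.trans
    (Groth.Agent.EulerFam.intE_twist_top hM hL hOc hdO))
  rw [Groth.Agent.EulerFam.intE_congr _ (Groth.Agent.ProjTwist.tensOne L)]
  ring

end Groth.Agent.S5644
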