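import Groth.Statements.S19202
import Mathlib.AlgebraicGeometry.IdealSheaf.Subscheme
import Mathlib.AlgebraicGeometry.Morphisms.Flat
import Mathlib.RingTheory.Flat.TorsionFree
-- import your own Groth.Agent.* helpers here

set_option autoImplicit false
set_option linter.style.haveILetI false
universe u
open CategoryTheory AlgebraicGeometry
open FlatMor

namespace Groth.Agent.S19202

/-- The colon of an ideal sheaf by a global function. -/
noncomputable def colon {Y : Scheme.{u}} (I : Y.IdealSheafData) (g : Γ(Y, ⊤)) : Y.IdealSheafData where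
  ideal V := Submodule.comap (LinearMap.mulLeft Γ(Y, V.1) (Y.presheaf.map (homOfLE le_top).op g)) (I.ideal V)
  map_ideal_basicOpen V f := by
    let a : Γ(Y, V.1) := Y.presheaf.map (homOfLE le_top).op g
    have hres : (Y.presheaf.map (homOfLE (Y.basicOpen_le f)).op).hom = algebraMap _ _ := rfl
    have inst := V.2.isLocalization_basicOpen f
    have hg : (Y.presheaf.map (homOfLE (le_top : (Y.affineBasicOpen f).1 ≤ ⊤)).op g) =
        algebraMap Γ(Y, V.1) Γ(Y, Y.basicOpen f) a := by
      rw [← hres]
      change _ = (Y.presheaf.map (homOfLE le_top).op ≫ Y.presheaf.map (homOfLE (Y.basicOpen_le f)).op) g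
      rw [← Functor.map_comp]
      rfl
    rw [← I.map_ideal_basicOpen V f, hres, hg]
    ext x
    obtain ⟨x, s, rfl⟩ := IsLocalization.exists_mk'_eq (.powers f) x
    change _ ↔ algebraMap Γ(Y, V.1) Γ(Y, Y.basicOpen f) a * IsLocalization.mk' _ x s ∈
      Ideal.map (algebraMap Γ(Y, V.1) Γ(Y, Y.basicOpen f)) (I.ideal V)
    rw [IsLocalization.mul_mk'_eq_mk'_of_mul]
    simp only [IsLocalization.mk'_mem_map_algebraMap_iff, Submodule.mem_comap, LinearMap.mulLeft_apply]
    constructor
    · rintro ⟨t, ht, h⟩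
      exact ⟨t, ht, by rwa [mul_left_comm] at h⟩
    · rintro ⟨t, ht, h⟩
      exact ⟨t, ht, by rwa [mul_left_comm]⟩

/-- Let R be a Dedekind domain, X and Y schemes over Spec R with X flat over Spec R, and f : X → Y a
morphism over Spec R. Then the scheme-theoretic image of f, i.e. the closed subscheme of Y cut out
by the kernel ideal sheaf of f, is flat over Spec R. (The published statement takes the base to be a
non-singular curve and f proper; this row takes the spectrum of any Dedekind domain and any morphism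
f over it.) -/
theorem result (R : Type u) [CommRing R] [IsDedekindDomain R]
    {X Y : Scheme.{u}} (p : X ⟶ Spec (CommRingCat.of R)) (q : Y ⟶ Spec (CommRingCat.of R))
    (f : X ⟶ Y) (w : f ≫ q = p) [Flat p] : Flat (f.imageι ≫ q) := by
  -- nonzero constants act injectively on functions on opens of `X`
  have hX : ∀ (r : R), r ≠ 0 → ∀ (W : X.Opens) (b : Γ(X, W)),
      X.presheaf.map (homOfLE le_top).op (p.appTop ((Scheme.ΓSpecIso (CommRingCat.of R)).inv r)) * b = 0 →
        b = 0 := by
    intro r hr W b hb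
    refine X.sheaf.eq_of_locally_eq' (fun A : {A : X.affineOpens // A.1 ≤ W} => A.1.1) W
      (fun A => homOfLE A.2) (fun x hx => ?_) b 0 fun A => ?_
    · obtain ⟨_, ⟨A, hA, rfl⟩, hxA, hAW⟩ :=
        X.isBasis_affineOpens.exists_subset_of_mem_open hx W.2
      exact TopologicalSpace.Opens.mem_iSup.mpr ⟨⟨⟨A, hA⟩, hAW⟩, hxA⟩
    · rw [map_zero]
      have hflat : (p.appLE ⊤ A.1.1 le_top).hom.Flat :=
        HasRingHomProperty.appLE @Flat p ‹_› ⟨⊤, isAffineOpen_top _⟩ A.1 le_top
      let φ : R →+* Γ(X, A.1.1) :=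
        (p.appLE ⊤ A.1.1 le_top).hom.comp (Scheme.ΓSpecIso (CommRingCat.of R)).inv.hom
      have hφ : φ.Flat := (RingHom.Flat.of_bijective
        (ConcreteCategory.bijective_of_isIso (Scheme.ΓSpecIso (CommRingCat.of R)).inv)).comp hflat
      letI := φ.toAlgebra
      haveI : Module.Flat R Γ(X, A.1.1) := RingHom.flat_algebraMap_iff.mp hφ
      have h1 := congrArg (X.presheaf.map (homOfLE A.2).op) hb
      rw [map_mul, map_zero] at h1
      have h2 : X.presheaf.map (homOfLE A.2).op
          (X.presheaf.map (homOfLE le_top).op (p.appTop ((Scheme.ΓSpecIso (CommRingCat.of R)).inv r))) =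
          φ r := by
        change ((p.appTop ≫ X.presheaf.map (homOfLE le_top).op ≫ X.presheaf.map (homOfLE A.2).op) _) = _
        rw [← Functor.map_comp]
        rfl
      rw [h2] at h1
      replace h1 : r • X.presheaf.map (homOfLE A.2).op b = 0 := (Algebra.smul_def r _).trans h1
      exact (smul_eq_zero.mp h1).resolve_left hr
  -- hence the quotients by the kernel are torsion-free
  have hI : ∀ (r : R), r ≠ 0 →
      colon f.ker (q.appTop ((Scheme.ΓSpecIso (CommRingCat.of R)).inv r)) ≤ f.ker := by
    intro r hr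
    refine Scheme.IdealSheafData.le_ofIdeals_iff.mpr fun V x hx => ?_
    have hx' := Scheme.IdealSheafData.ideal_ofIdeals_le (fun U ↦ RingHom.ker (f.app U).hom) V (show _ ∈ f.ker.ideal V from hx)
    simp only [LinearMap.mulLeft_apply, RingHom.mem_ker, map_mul] at hx' ⊢
    refine hX r hr _ _ (Eq.trans ?_ hx')
    congr 1
    subst w
    rw [Scheme.Hom.comp_appTop]
    exact (congrArg (fun φ => φ.hom (q.appTop ((Scheme.ΓSpecIso (CommRingCat.of R)).inv r)))
      (f.naturality (homOfLE (le_top : V.1 ≤ ⊤)).op)).symm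
  have key : ∀ V : Y.affineOpens,
      Flat (Spec.map (CommRingCat.ofHom (Ideal.Quotient.mk (f.ker.ideal V))) ≫ V.2.fromSpec ≫ q) := by
    intro V
    rw [← IsAffineOpen.SpecMap_appLE_fromSpec q (isAffineOpen_top _) V.2 le_top, IsAffineOpen.fromSpec_top,
      Scheme.isoSpec_Spec_inv, ← Spec.map_comp, ← Spec.map_comp, Flat.SpecMap_iff]
    let ψ : R →+* Γ(Y, V.1) ⧸ f.ker.ideal V := (Ideal.Quotient.mk _).comp
      ((q.appLE ⊤ V.1 le_top).hom.comp (Scheme.ΓSpecIso (CommRingCat.of R)).inv.hom)
    change ψ.Flat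
    letI := ψ.toAlgebra
    haveI : Module.IsTorsionFree R (Γ(Y, V.1) ⧸ f.ker.ideal V) := by
      refine Module.isTorsionFree_iff_smul_eq_zero.mpr fun r m hrm => ?_
      by_contra hc
      rw [not_or] at hc
      obtain ⟨b, rfl⟩ := Ideal.Quotient.mk_surjective m
      refine hc.2 (Ideal.Quotient.eq_zero_iff_mem.mpr (hI r hc.1 V ?_))
      rw [Algebra.smul_def] at hrm
      have h3 := Ideal.Quotient.eq_zero_iff_mem.mp ((map_mul (Ideal.Quotient.mk _) _ b).trans hrm)
      exact h3
    exact RingHom.flat_algebraMap_iff.mpr inferInstance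
  haveI : IsZariskiLocalAtSource (@Flat : MorphismProperty Scheme.{u}) :=
    HasRingHomProperty.instIsZariskiLocalAtSource
  refine IsZariskiLocalAtSource.of_openCover (P := (@Flat : MorphismProperty Scheme.{u})) f.ker.subschemeCover.openCover fun V => ?_
  change Flat (f.ker.subschemeCover.f V ≫ f.ker.subschemeι ≫ q)
  rw [← Category.assoc]
  refine (congrArg (fun g => Flat (g ≫ q))
    ((Scheme.IdealSheafData.subschemeCover_map_subschemeι f.ker V).trans
      (Scheme.IdealSheafData.glueDataObjι_ι f.ker V))).mpr ?_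
  exact (congrArg (fun g => Flat g) (Category.assoc _ _ _)).mpr (key V)

end Groth.Agent.S19202
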