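import Groth.Statements.S4278
import Groth.Agent.EulerFam.Tau
import Groth.Agent.Snapper.Basic
import Groth.Agent.ProperFin.Supp

set_option autoImplicit false
universe u
open CategoryTheory CategoryTheory.Limits AlgebraicGeometry
open Pic13

namespace Groth.Agent.S4278

/-- Let k be an algebraically closed field, X a proper k-scheme and L an invertible O_X-module which is
τ-equivalent to zero. Then L is numerically equivalent to zero: its restriction to every integral
closed curve Y ⊆ X has degree χ(L|_Y) - χ(O_Y) = 0. -/
theorem result (k : Type u) [Field k] [IsAlgClosed k] (X : Scheme.{u}) [X.Over (Spec (CommRingCat.of k))]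
    [IsProper (X ↘ Spec (CommRingCat.of k))]
    (L : X.Modules) (hL : PicF.IsInvertible L) (hτ : Pic13.IsTauEquivZero k X L) : Pic13.IsNumEquivZero k X L := by
  intro Y i _ _ hdim
  letI : Y.Over (Spec (CommRingCat.of k)) := ⟨i ≫ (X ↘ Spec (CommRingCat.of k))⟩
  haveI : IsProper (Y ↘ Spec (CommRingCat.of k)) :=
    inferInstanceAs (IsProper (i ≫ (X ↘ Spec (CommRingCat.of k))))
  have hd : topologicalKrullDim Y ≤ (1 : ℕ) := by rw [hdim]; rfl
  have h := Groth.Agent.EulerFam.euler_tensor_of_isTauEquivZero (k := k)
    (Groth.Agent.PicCl.isInvertible_pullback i hL)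
    (Groth.Agent.EulerFam.isTauEquivZero_pullback i rfl hτ)
    (Groth.Agent.ProperFin.isCoh_structureModule Y)
  rw [Groth.Agent.EulerChar.euler_iso k (Groth.Agent.ProjTwist.oneTens _)] at h
  exact sub_eq_zero.2 ((Groth.Agent.Snapper.eulerCharLE_eq k hd _).trans
    (h.trans (Groth.Agent.Snapper.eulerCharLE_eq k hd _).symm))

end Groth.Agent.S4278
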