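import Groth.Statements.S4294
import Groth.Agent.NumTriv.PullPreimage
-- import your own Groth.Agent.* helpers here

set_option autoImplicit false
universe u
open CategoryTheory CategoryTheory.Limits AlgebraicGeometry
open Pic13

namespace Groth.Agent.S4294

/-- Let k be an algebraically closed field, f : X' ⟶ X a surjective k-morphism of proper k-schemes and L
an invertible O_X-module. If f^*L is τ-equivalent to zero on X', then L is τ-equivalent to zero on
X. -/
theorem result (k : Type u) [Field k] [IsAlgClosed k] (X' X : Scheme.{u})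
    [X'.Over (Spec (CommRingCat.of k))] [X.Over (Spec (CommRingCat.of k))]
    [IsProper (X' ↘ Spec (CommRingCat.of k))] [IsProper (X ↘ Spec (CommRingCat.of k))]
    (f : X' ⟶ X) (hf : f ≫ (X ↘ Spec (CommRingCat.of k)) = X' ↘ Spec (CommRingCat.of k)) [Surjective f]
    (L : X.Modules) (hL : PicF.IsInvertible L) (hτ : Pic13.IsTauEquivZero k X' ((Scheme.Modules.pullback f).obj L)) :
    Pic13.IsTauEquivZero k X L := by
  have h : Groth.Agent.NumTriv.Num1 k L := Groth.Agent.NumTriv.Descend.num1_of_surjective f hf hL
    (Groth.Agent.NumTriv.num1_of_isTauEquivZero k (PicCl.isInvertible_pullback f hL) hτ)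
  exact Groth.Agent.NumTriv.isTauEquivZero_of_isBounded_pow
    (Groth.Agent.NumTriv.Bounded.isBounded_num1_proper (k := k) (X := X)) (fun L hL => hL.1)
    fun j => Groth.Agent.NumTriv.num1_pow k h j

end Groth.Agent.S4294
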