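import Groth.Statements.S4301
import Groth.Agent.NumTriv.ChiCrit
import Groth.Agent.S4277
import Groth.Agent.S4278
import Groth.Agent.IntProd70.Family
import Groth.Agent.ProjProper.Basic
-- import your own Groth.Agent.* helpers here

set_option autoImplicit false
universe u
open CategoryTheory CategoryTheory.Limits AlgebraicGeometry
open Pic13

namespace Groth.Agent.S4301

/-- Let S be a Noetherian scheme, i : X ⟶ P^n_S a closed immersion with f : X ⟶ S the composite with the
projection, f flat with integral geometric fibres, and L an invertible O_X-module. Then the set of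
points s of S such that L is τ-equivalent to zero on the geometric fibre at s is closed (it is also
open, but only closedness is asserted here). (The published statement is that Pic^τ_{X/S} ⟶
Pic_{X/S} is representable by an open and closed immersion; this is the form reached in its proof.) -/
theorem result {X S : Scheme.{u}} [IsNoetherian S] (n : ℕ)
    (i : X ⟶ CohB1.ProjSpaceOver n S) [IsClosedImmersion i] [Flat (i ≫ CohB1.ProjSpaceOver.toBase n S)]
    (hint : ∀ (Ω : Type u) [Field Ω] [IsAlgClosed Ω] (σ : Spec (CommRingCat.of Ω) ⟶ S), IsIntegral (pullback (i ≫ CohB1.ProjSpaceOver.toBase n S) σ))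
    (L : X.Modules) (hL : PicF.IsInvertible L) :
    IsClosed {s : S | Pic13.IsTauTrivialAt (i ≫ CohB1.ProjSpaceOver.toBase n S) L s} := by
  classical
  haveI hP := Groth.Agent.ProjProper.Basic.isProper_toBase n S
  let f : X ⟶ S := i ≫ CohB1.ProjSpaceOver.toBase n S
  haveI : Flat f := ‹Flat (i ≫ CohB1.ProjSpaceOver.toBase n S)›
  haveI : IsProper f := inferInstanceAs (IsProper (i ≫ CohB1.ProjSpaceOver.toBase n S))
  haveI : IsLocallyNoetherian X := LocallyOfFiniteType.isLocallyNoetherian f
  haveI : LocallyOfFinitePresentation f := inferInstance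
  let Z := ULift.{u} ℤ
  let T := Twist.twistProjSpace n Z 1
  have hT : CohB1.IsAmple T := by
    haveI := Groth.Agent.Props.AmpleTwist.compactSpace n Z
    exact Groth.Agent.Props.AmpleTwist.isAmple_twist (𝒜 := CohB1.polyGrading n Z) (D := 1) Nat.one_pos
      (fun j : ULift.{u} (Fin (n + 1)) => Groth.Agent.Props.AmpleTwist.X_pow_mem n Z 1 j.down)
      (Groth.Agent.Props.AmpleTwist.iSup_basicOpen_X_pow n Z Nat.one_pos)
  let c : X ⟶ CohB1.ProjSpace n Z := i ≫ pullback.fst _ _
  let A := (Scheme.Modules.pullback c).obj T
  have hA : PicF.IsInvertible A := Groth.Agent.PicCl.isInvertible_pullback c hT.1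
  let M : ℕ → ℕ → X.Modules := fun a b => CohB1.tensorMod (CohB1.tensorPow L a) (CohB1.tensorPow A b)
  have hM : ∀ a b, PicF.IsInvertible (M a b) := fun a b =>
    Groth.Agent.AmpleLib.isInvertible_tensorMod (Groth.Agent.AmpleLib.isInvertible_tensorPow hL a)
      (Groth.Agent.AmpleLib.isInvertible_tensorPow hA b)
  let F : ℕ → ℕ → X.Modules := fun a b => CohB1.tensorMod (Coh.structureModule X) (M a b)
  haveI hqO := Groth.Agent.ProjTwist.isQuasicoherent_structureModule X
  have hF := fun a b => Groth.Agent.IntProd70.isFP_tensor (Groth.Agent.IntProd70.isFP_unit X) (hM a b)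
  let φ : ℕ → ℕ → S → ℤ := fun a b s => @Curv2.euler (S.residueField s) _ (f.fiber s)
    ⟨f.fiberToSpecResidueField s⟩ ((Scheme.Modules.pullback (f.fiberι s)).obj (F a b))
  have hlc : ∀ a b, IsLocallyConstant (φ a b) := fun a b =>
    haveI := (hF a b).1
    Groth.Agent.IntProd70.isLocallyConstant_euler (f := f) (hF a b).2
      (Groth.Agent.TwistFlat.isFlatOver_tensor f (Coh.structureModule X) (hM a b)
        (Groth.Agent.IntProd70.isFlatOver_unit f))
  -- the criterion at one geometric point
  have main : ∀ (Ω : Type u) [Field Ω] [IsAlgClosed Ω] (σ : Spec (CommRingCat.of Ω) ⟶ S) (s : S),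
      Set.range σ.base = {s} →
      (@Pic13.IsTauEquivZero Ω _ (pullback f σ) ⟨pullback.snd f σ⟩
          ((Scheme.Modules.pullback (pullback.fst f σ)).obj L) ↔ ∀ a b, φ a b s = φ 0 b s) := by
    intro Ω _ _ σ s hs
    let X' := pullback f σ
    let p : X' ⟶ X := pullback.fst f σ
    letI : X'.Over (Spec (CommRingCat.of Ω)) := ⟨pullback.snd f σ⟩
    haveI : IsProper (X' ↘ Spec (CommRingCat.of Ω)) := inferInstanceAs (IsProper (pullback.snd f σ))
    haveI : IsIntegral X' := hint Ω σ
    -- the pullback of the ample module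
    let u : X' ⟶ pullback (CohB1.ProjSpaceOver.toBase n S) σ :=
      pullback.map f σ (CohB1.ProjSpaceOver.toBase n S) σ i (𝟙 _) (𝟙 _) (by simp [f]) (by simp)
    haveI : IsClosedImmersion u :=
      MorphismProperty.of_isPullback (P := @IsClosedImmersion)
        (IsPullback.of_bot (t := IsPullback.of_hasPullback (CohB1.ProjSpaceOver.toBase n S) σ)
          (by
            rw [show u ≫ pullback.snd _ _ = pullback.snd f σ from
              (pullback.lift_snd _ _ _).trans (Category.comp_id _)]
            exact IsPullback.of_hasPullback f σ)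
          ((pullback.lift_fst _ _ _).symm) :
          IsPullback p u i (pullback.fst (CohB1.ProjSpaceOver.toBase n S) σ)) ‹IsClosedImmersion i›
    let v : pullback (CohB1.ProjSpaceOver.toBase n S) σ ⟶ CohB1.ProjSpace n Z := pullback.fst _ _ ≫ pullback.fst _ _
    haveI : IsAffineHom v := by
      have e : (pullbackLeftPullbackSndIso (CohB1.ProjSpace.toSpec n Z) (specULiftZIsTerminal.from S) σ).hom ≫
          pullback.fst _ _ = v := pullbackLeftPullbackSndIso_hom_fst _ _ _
      haveI : IsAffineHom (σ ≫ specULiftZIsTerminal.from S) := isAffineHom_of_isAffine _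
      rw [← e]
      exact MorphismProperty.comp_mem _ _ _ inferInstance
        (MorphismProperty.pullback_fst (P := @IsAffineHom) _ _ ‹_›)
    haveI : IsAffineHom (p ≫ c) := by
      have e : u ≫ v = p ≫ c := by
        simp only [u, v, p, c, ← Category.assoc]
        rw [pullback.lift_fst]
      rw [← e]
      infer_instance
    let A' := (Scheme.Modules.pullback p).obj A
    let L' := (Scheme.Modules.pullback p).obj L
    have hA' : CohB1.IsAmple A' :=
      Groth.Agent.Props.AmpleFrames.isAmple_of_iso (((Scheme.Modules.pullbackComp p c).app T).symm)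
        (Groth.Agent.AmpleLib.isAmple_pullback_of_qaMor (p ≫ c)
          (Groth.Agent.AmpleFam.Pullback.qaMor_of_isAffineHom (p ≫ c)) hT)
    have hL' : PicF.IsInvertible L' := Groth.Agent.PicCl.isInvertible_pullback p hL
    -- transport of the Euler characteristics
    obtain ⟨z⟩ : Nonempty (Spec (CommRingCat.of Ω)) := inferInstance
    have hz : σ z = s := by
      have : σ.base z ∈ Set.range σ.base := ⟨z, rfl⟩
      rw [hs] at this
      exact this
    have hφ : ∀ a b, φ a b s = Curv2.euler Ω X'
        (CohB1.tensorMod (CohB1.tensorPow L' a) (CohB1.tensorPow A' b)) := by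
      intro a b
      haveI : (F a b).IsQuasicoherent := (hF a b).1
      haveI : Coh.IsQCoh (F a b) := (hF a b).1
      have hc : Coh.IsCoh (F a b) := Groth.Agent.ConsPairLib.isCoh_of_isFP _ (hF a b).2
      have h := Groth.Agent.BigVol.FieldPoint.euler_fieldPoint (f := f) hc σ p (pullback.snd f σ)
        (IsPullback.of_hasPullback f σ) z
      rw [hz] at h
      refine h.symm.trans (Groth.Agent.EulerChar.euler_iso Ω ?_)
      exact (Scheme.Modules.pullback p).mapIso (Groth.Agent.ProjTwist.oneTens (M a b)) ≪≫
        Groth.Agent.KFlat.PullTensor.pullTensorIso p _ _ ≪≫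
        Groth.Agent.ProjTwist.tensCongr (Groth.Agent.EulerFam.pullback_tensorPow p L a).some
          (Groth.Agent.EulerFam.pullback_tensorPow p A b).some
    haveI : Infinite Ω := IsAlgClosed.instInfinite
    have h0 : ∀ b, Curv2.euler Ω X' (CohB1.tensorMod (CohB1.tensorPow L' 0) (CohB1.tensorPow A' b)) =
        Curv2.euler Ω X' (CohB1.tensorPow A' b) := fun b =>
      Groth.Agent.EulerChar.euler_iso Ω (Groth.Agent.ProjTwist.oneTens _)
    constructor
    · intro hτ a b
      have hn := Groth.Agent.S4278.result Ω X' L' hL' hτ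
      rw [hφ, hφ, h0]
      exact (Groth.Agent.NumTriv.ChiCrit.num1_iff Ω hA' hL').1
        (Groth.Agent.NumTriv.num1_of_isNumEquivZero (k := Ω) hL' hn) a b
    · intro h
      refine Groth.Agent.S4277.result Ω X' L' hL' (Groth.Agent.NumTriv.Section.isNumEquivZero_of_num1
        ((Groth.Agent.NumTriv.ChiCrit.num1_iff Ω hA' hL').2 fun a b => ?_))
      have := h a b
      rwa [hφ, hφ, h0] at this
  -- closedness
  have hset : {s : S | Pic13.IsTauTrivialAt f L s} = ⋂ a : ℕ, ⋂ b : ℕ, {s : S | φ a b s = φ 0 b s} := by
    ext s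
    simp only [Set.mem_iInter, Set.mem_setOf_eq]
    constructor
    · intro h a b
      let Ω := AlgebraicClosure (S.residueField s)
      let σ : Spec (CommRingCat.of Ω) ⟶ S :=
        Spec.map (CommRingCat.ofHom (algebraMap (S.residueField s) Ω)) ≫ S.fromSpecResidueField s
      have hs : Set.range σ.base = {s} := by
        refine (Set.range_eq_singleton_iff).2 fun z => ?_
        exact S.fromSpecResidueField_apply s _
      exact (main Ω σ s hs).1 (h Ω σ hs) a b
    · intro h Ω _ _ σ hs
      exact (main Ω σ s hs).2 h
  rw [show {s : S | Pic13.IsTauTrivialAt (i ≫ CohB1.ProjSpaceOver.toBase n S) L s} = _ from hset]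
  refine isClosed_iInter fun a => isClosed_iInter fun b => ?_
  have h := ((hlc a b).comp₂ (hlc 0 b) fun x y : ℤ => x = y).isClosed_fiber True
  simpa using h

end Groth.Agent.S4301
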