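import Groth.Statements.S5641
import Groth.Agent.FlatMor.GeomIntComp.Cover
import Groth.Agent.FlatMor.GeomIntComp.Spread

set_option autoImplicit false
universe u
open CategoryTheory CategoryTheory.Limits AlgebraicGeometry
open FlatMor

namespace Groth.Agent.S5641

/-- Let S be an integral Noetherian scheme and f : X ⟶ S a morphism of finite type. Then there are a
nonempty open subscheme V of S, an integral scheme S' and a finite flat surjective morphism h : S' ⟶
V such that every irreducible component of X' = X ×_S S', given its reduced closed-subscheme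
structure, is flat over S' with geometrically integral fibres. (Fibres over all points of S' are
nonempty here, which the published statement does not require; it is obtained by shrinking V once
more.) -/
theorem result {X S : Scheme.{u}} [IsNoetherian S] [IsIntegral S]
    (f : X ⟶ S) [LocallyOfFiniteType f] [QuasiCompact f] :
    ∃ (V : S.Opens) (S' : Scheme.{u}) (h : S' ⟶ (V : Scheme.{u})), (V : Set S).Nonempty ∧ IsIntegral S' ∧
      IsFinite h ∧ Flat h ∧ Surjective h ∧
      ∀ (Z : Scheme.{u}) (i : Z ⟶ pullback f (h ≫ V.ι)) [IsClosedImmersion i] [IsReduced Z],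
        Set.range i.base ∈ irreducibleComponents ↥(pullback f (h ≫ V.ι)) →
          Flat (i ≫ pullback.snd f (h ≫ V.ι)) ∧ GeometricallyIntegral (i ≫ pullback.snd f (h ≫ V.ι)) := by
  obtain ⟨V₀, hV₀, hη₀, -⟩ := exists_isAffineOpen_mem_and_subset (X := S) (x := genericPoint S)
    (U := ⊤) trivial
  haveI : Nonempty V₀ := ⟨⟨_, hη₀⟩⟩
  let k := FractionRing Γ(S, V₀)
  let b₀ := Spec.map (CommRingCat.ofHom (algebraMap Γ(S, V₀) k)) ≫ hV₀.fromSpec
  let fk : pullback f b₀ ⟶ Spec (CommRingCat.of k) := pullback.snd f b₀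
  haveI : LocallyOfFiniteType fk := MorphismProperty.pullback_snd _ _ ‹_›
  haveI : QuasiCompact fk := MorphismProperty.pullback_snd _ _ ‹_›
  obtain ⟨L, _, _, _, hL⟩ := Groth.Agent.FlatMor.GeomIntComp.exists_finite_extension fk
  letI : Algebra Γ(S, V₀) L := ((algebraMap k L).comp (algebraMap Γ(S, V₀) k)).toAlgebra
  haveI : IsScalarTower Γ(S, V₀) k L := IsScalarTower.of_algebraMap_eq fun _ => rfl
  obtain ⟨V, S', h, t, _, hηV, hfin, hflat, hsurj, htp, htf, ht, hgen, hth⟩ :=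
    Groth.Agent.FlatMor.GeomIntComp.exists_cover hV₀ k L
  haveI : IsLocallyNoetherian S' := LocallyOfFiniteType.isLocallyNoetherian (h ≫ V.ι)
  haveI : CompactSpace S' := QuasiCompact.compactSpace_of_compactSpace (h ≫ V.ι)
  haveI : IsNoetherian S' := {}
  let g := pullback.snd f (h ≫ V.ι)
  haveI : LocallyOfFiniteType g := MorphismProperty.pullback_snd _ _ ‹_›
  haveI : QuasiCompact g := MorphismProperty.pullback_snd _ _ ‹_›
  let b := Spec.map (CommRingCat.ofHom (algebraMap k L))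
  have hb : b ≫ b₀ = t ≫ h ≫ V.ι := by
    rw [hth, ← Spec.map_comp_assoc, ← CommRingCat.ofHom_comp]
  have hP₁ : IsPullback (pullback.fst g t ≫ pullback.fst f (h ≫ V.ι)) (pullback.snd g t) f
      (t ≫ h ≫ V.ι) :=
    (IsPullback.of_hasPullback g t).paste_horiz (IsPullback.of_hasPullback f (h ≫ V.ι))
  have hP₂ : IsPullback (pullback.fst fk b ≫ pullback.fst f b₀) (pullback.snd fk b) f
      (t ≫ h ≫ V.ι) :=
    hb ▸ (IsPullback.of_hasPullback fk b).paste_horiz (IsPullback.of_hasPullback f b₀)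
  obtain ⟨U, hU, hgood⟩ := Groth.Agent.FlatMor.GeomIntComp.exists_open_good g t ht (by
    intro T j _ _ hj
    let e := hP₁.isoIsPullback _ _ hP₂
    have hr : Set.range (j ≫ e.hom) ∈ irreducibleComponents ↥(pullback fk b) := by
      convert Groth.Agent.FlatMor.GeomIntComp.preimage_component e.inv.isClosedEmbedding
        e.inv.surjective hj using 1
      ext y
      constructor
      · rintro ⟨z, rfl⟩
        exact ⟨z, by rw [← Scheme.Hom.comp_apply]; simp⟩
      · rintro ⟨z, hz⟩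
        exact ⟨z, by rw [Scheme.Hom.comp_apply, hz]; simp [← Scheme.Hom.comp_apply]⟩
    have := hL T (j ≫ e.hom) hr
    rwa [Category.assoc, show e.hom ≫ pullback.snd fk b = pullback.snd g t from
      hP₁.isoIsPullback_hom_snd _ _ hP₂] at this)
  let V₁ : (V : Scheme.{u}).Opens :=
    ⟨(h '' (U : Set S')ᶜ)ᶜ, (h.isClosedMap _ U.2.isClosed_compl).isOpen_compl⟩
  have hV₁ : (⟨genericPoint S, hηV⟩ : V) ∈ V₁ := by
    rintro ⟨y, hy, hy'⟩
    exact hy (hgen y (by rw [Scheme.Hom.comp_apply, hy']; rfl) ▸ hU)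
  let u := (h ⁻¹ᵁ V₁).ι
  have hu : Set.range u ⊆ U := by
    rw [Scheme.Opens.range_ι]
    intro y hy
    by_contra hy'
    exact hy ⟨y, hy', rfl⟩
  haveI : Surjective (h ∣_ V₁) := MorphismProperty.of_isPullback
    (isPullback_morphismRestrict h V₁).flip hsurj
  refine ⟨V.ι ''ᵁ V₁, (h ⁻¹ᵁ V₁ : S'.Opens), (h ∣_ V₁) ≫ (V.ι.isoImage V₁).hom,
    ⟨genericPoint S, ⟨genericPoint S, hηV⟩, hV₁, rfl⟩, ?_, inferInstance, inferInstance, inferInstance, ?_⟩
  · haveI : Nonempty (h ⁻¹ᵁ V₁ : S'.Opens) := by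
      obtain ⟨y, hy⟩ := h.surjective ⟨genericPoint S, hηV⟩
      exact ⟨⟨y, show h y ∈ V₁ from hy ▸ hV₁⟩⟩
    infer_instance
  intro Z i _ _ hi
  have hcomp : ((h ∣_ V₁) ≫ (V.ι.isoImage V₁).hom) ≫ (V.ι ''ᵁ V₁).ι = u ≫ h ≫ V.ι := by
    rw [Category.assoc, Scheme.Hom.isoImage_hom_ι, morphismRestrict_ι_assoc]
  let q := pullback.snd f (((h ∣_ V₁) ≫ (V.ι.isoImage V₁).hom) ≫ (V.ι ''ᵁ V₁).ι)
  have hw : pullback.fst f (((h ∣_ V₁) ≫ (V.ι.isoImage V₁).hom) ≫ (V.ι ''ᵁ V₁).ι) ≫ f =
      (q ≫ u) ≫ h ≫ V.ι :=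
    (pullback.condition.trans (congrArg (q ≫ ·) hcomp)).trans (Category.assoc _ _ _).symm
  let v := pullback.lift (pullback.fst f (((h ∣_ V₁) ≫ (V.ι.isoImage V₁).hom) ≫ (V.ι ''ᵁ V₁).ι))
    (q ≫ u) hw
  have sq : IsPullback v q g u := by
    refine IsPullback.of_right (h₁₂ := pullback.fst f (h ≫ V.ι)) (v₁₃ := f) (h₂₂ := h ≫ V.ι) ?_
      (pullback.lift_snd _ _ _) (IsPullback.of_hasPullback f (h ≫ V.ι))
    rw [show v ≫ pullback.fst f (h ≫ V.ι) = _ from pullback.lift_fst _ _ _, ← hcomp]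
    exact IsPullback.of_hasPullback f _
  exact hgood _ _ u v q hu sq Z i hi

end Groth.Agent.S5641
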