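import Groth.Statements.S2182
import Groth.Agent.NumType.Basic

set_option autoImplicit false
open Finset
open Models Models.NumericalType

namespace Groth.Agent.S2182

/-- In a numerical type, whenever a i j > 0 one has m i * a i j at most m j * |a j j| and m i * w i at
most m j * |a j j|. -/
theorem result {n : ℕ} (T : Models.NumericalType n) (i j : Fin n) (hij : 0 < T.a i j) :
    T.m i * T.a i j ≤ T.m j * |T.a j j| ∧ T.m i * T.w i ≤ T.m j * |T.a j j| := by
  rcases eq_or_ne i j with rfl | hne
  · have := T.m_pos i
    have := NumType.w_le_a T hij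
    rw [abs_of_pos hij]
    exact ⟨le_rfl, by nlinarith⟩
  have hn : 1 < n := by
    have := Fintype.one_lt_card_iff.2 ⟨i, j, hne⟩
    simpa using this
  have hd := NumType.diag_neg T hn j
  have h := NumType.row_ge T T.m (fun k => (T.m_pos k).le) j {i} (by simp [hne.symm])
  rw [NumType.row_sum, sum_singleton, NumType.a_symm T j i] at h
  rw [abs_of_neg hd]
  have := NumType.w_le_a T hij
  have := T.m_pos i
  constructor <;> nlinarith

end Groth.Agent.S2182
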