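import Groth.Statements.S2173
import Groth.Agent.NumType.Basic
import Mathlib.Tactic
import Mathlib.Data.ZMod.Basic

set_option autoImplicit false
open Finset
open Models Models.NumericalType

namespace Groth.Agent.S2173

/-- For a numerical type the sum over i of m i * a i i is even; equivalently the rational number 1 + sum
m_i (w_i (g_i - 1) - a_ii / 2) defining the genus is an integer. -/
theorem result {n : ℕ} (T : Models.NumericalType n) : (2 : ℤ) ∣ ∑ i, T.m i * T.a i i := by
  classical
  have key : ∀ (k : ℤ), ((k : ℤ) : ZMod 2) * (k : ZMod 2) = (k : ZMod 2) := fun k => by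
    generalize (k : ZMod 2) = z
    revert z; decide
  rw [← Nat.cast_two, ← ZMod.intCast_zmod_eq_zero_iff_dvd, Int.cast_sum]
  have h : (∑ q : Fin n × Fin n, ((T.a q.1 q.2 * T.m q.1 * T.m q.2 : ℤ) : ZMod 2)) = 0 := by
    rw [Fintype.sum_prod_type, ← Int.cast_zero]
    simp only [← Int.cast_sum]
    congr 1
    refine sum_eq_zero fun i _ => ?_
    have : ∀ j, T.a i j * T.m i * T.m j = T.m i * (T.a i j * T.m j) := fun j => by ring
    simp only [this, ← mul_sum, NumType.row_sum, mul_zero]
  rw [← sum_filter_add_sum_filter_not univ (fun q : Fin n × Fin n => q.1 = q.2)] at h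
  have h2 : (∑ q ∈ univ.filter (fun q : Fin n × Fin n => ¬ q.1 = q.2),
      ((T.a q.1 q.2 * T.m q.1 * T.m q.2 : ℤ) : ZMod 2)) = 0 := by
    refine sum_involution (fun q _ => (q.2, q.1)) (fun q _ => ?_) (fun q hq _ he => ?_)
      (fun q hq => by simpa [eq_comm] using hq) (fun q _ => rfl)
    · rw [NumType.a_symm T q.2 q.1]
      push_cast
      generalize ((T.a q.1 q.2 : ℤ) : ZMod 2) = a, ((T.m q.1 : ℤ) : ZMod 2) = b,
        ((T.m q.2 : ℤ) : ZMod 2) = c
      revert a b c; decide
    · exact (mem_filter.1 hq).2 (congrArg Prod.fst he).symm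
  rw [h2, add_zero] at h
  rw [← h]
  refine sum_bij (fun i _ => (i, i)) (fun i _ => by simp) (fun i _ j _ he => congrArg Prod.fst he)
    (fun q hq => ⟨q.1, mem_univ _, by ext <;> simp [(mem_filter.1 hq).2]⟩) (fun i _ => ?_)
  push_cast
  rw [mul_assoc, key]
  ring

end Groth.Agent.S2173
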