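import Groth.Statements.S1483
import Groth.Agent.FlatOpen.FibreScheme
import Groth.Agent.LocFlat.Fibre
import Groth.Agent.HomShQC.Stalk
import Groth.Agent.HomShEval.Reflexive
import Mathlib.RingTheory.Flat.Stability
import Mathlib.LinearAlgebra.TensorProduct.Quotient

set_option autoImplicit false
universe u
open FlatMor

namespace Groth.Agent.S1483

open AlgebraicGeometry CategoryTheory Limits in
/-- Fibrewise flatness criterion (critère de platitude par fibres), pointwise equivalence for a module:
let f : X → Y and g : Y → S be morphisms of schemes with X locally of finite presentation over S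
(via g ∘ f) and Y locally of finite type over S, F a finitely presented quasi-coherent O_X-module,
and x a point of X with images y = f(x) and s = g(y) at which the stalk F_x is nonzero. The
following are equivalent: (a) F is flat over S at x and F_x / 𝔪_s F_x is flat over O_{Y,y} / 𝔪_s
O_{Y,y}; (b) the morphism g is flat at the point y and F is Y-flat at x. The published statement
also asserts that the locus of such x is open in the support of F; that is not restated here (the
companion statement for F = O_X carries it). -/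
theorem result {X Y S : Scheme.{u}} (f : X ⟶ Y) (g : Y ⟶ S) [LocallyOfFinitePresentation (f ≫ g)] [LocallyOfFiniteType g]
    (F : X.Modules) (hq : Coh.IsQCoh F) (hfp : CohB1.IsFP F) (x : X) (hx : Nontrivial ↑(F.presheaf.stalk x)) :
    letI := FlatMod.moduleStalkOver f F x
    (FlatMod.IsFlatOverAt (f ≫ g) F x ∧
      Module.Flat (↑(Y.presheaf.stalk (f x)) ⧸ Ideal.map (g.stalkMap (f x)).hom (IsLocalRing.maximalIdeal ↑(S.presheaf.stalk (g (f x)))))
        (↑(F.presheaf.stalk x) ⧸ (Ideal.map (g.stalkMap (f x)).hom (IsLocalRing.maximalIdeal ↑(S.presheaf.stalk (g (f x)))) •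
          (⊤ : Submodule ↑(Y.presheaf.stalk (f x)) ↑(F.presheaf.stalk x))))) ↔
    ((g.stalkMap (f x)).hom.Flat ∧ FlatMod.IsFlatOverAt f F x) := by
  haveI : F.IsQuasicoherent := hq
  letI := FlatMod.moduleStalkOver f F x
  letI : Algebra (S.presheaf.stalk (g (f x))) (Y.presheaf.stalk (f x)) := (g.stalkMap (f x)).hom.toAlgebra
  letI : Algebra (Y.presheaf.stalk (f x)) (X.presheaf.stalk x) := (f.stalkMap x).hom.toAlgebra
  letI mRS : Module (S.presheaf.stalk (g (f x))) (F.presheaf.stalk x) :=
    FlatMod.moduleStalkOver (f ≫ g) F x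
  haveI : IsScalarTower (S.presheaf.stalk (g (f x))) (Y.presheaf.stalk (f x)) (F.presheaf.stalk x) :=
    IsScalarTower.of_algebraMap_smul fun a m => by
      show (f.stalkMap x).hom ((g.stalkMap (f x)).hom a) • m = ((f ≫ g).stalkMap x).hom a • m
      rw [Scheme.Hom.stalkMap_comp]
      rfl
  haveI : IsScalarTower (Y.presheaf.stalk (f x)) (X.presheaf.stalk x) (F.presheaf.stalk x) :=
    IsScalarTower.of_algebraMap_smul fun _ _ => rfl
  constructor
  · rintro ⟨h1, h2⟩
    have h3 := Groth.Agent.FlatOpen.Scheme.isFlatOverAt_of_fibre f g F hfp x h1 h2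
    refine ⟨?_, h3⟩
    haveI : Module.Flat (Y.presheaf.stalk (f x)) (F.presheaf.stalk x) := h3
    haveI : Module.Flat (S.presheaf.stalk (g (f x))) (F.presheaf.stalk x) := h1
    haveI : Module.Finite (X.presheaf.stalk x) (F.presheaf.stalk x) :=
      Groth.Agent.HomShQC.finite_stalk F (Groth.Agent.HomShEval.Reflexive.isFT_of_isFP F hfp) x
    haveI : IsLocalHom (algebraMap (Y.presheaf.stalk (f x)) (X.presheaf.stalk x)) :=
      inferInstanceAs (IsLocalHom (f.stalkMap x).hom)
    haveI := Groth.Agent.LocFlat.faithfullyFlat_of_local (S := Y.presheaf.stalk (f x))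
      (S' := X.presheaf.stalk x) (F.presheaf.stalk x)
    exact Groth.Agent.LocFlat.flat_of_faithfullyFlat_tower (R := S.presheaf.stalk (g (f x)))
      (S := Y.presheaf.stalk (f x)) (F.presheaf.stalk x)
  · rintro ⟨hg, h3⟩
    haveI : Module.Flat (S.presheaf.stalk (g (f x))) (Y.presheaf.stalk (f x)) := hg
    haveI : Module.Flat (Y.presheaf.stalk (f x)) (F.presheaf.stalk x) := h3
    refine ⟨Module.Flat.trans (S.presheaf.stalk (g (f x))) (Y.presheaf.stalk (f x)) (F.presheaf.stalk x), ?_⟩
    exact Module.Flat.of_linearEquiv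
      (LinearEquiv.extendScalarsOfSurjective Ideal.Quotient.mk_surjective
        (TensorProduct.quotTensorEquivQuotSMul (F.presheaf.stalk x)
          (Ideal.map (g.stalkMap (f x)).hom (IsLocalRing.maximalIdeal ↑(S.presheaf.stalk (g (f x))))))).symm

end Groth.Agent.S1483
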