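import Groth.Statements.S19995
import Mathlib.AlgebraicGeometry.Morphisms.Finite
import Mathlib.AlgebraicGeometry.Morphisms.Flat
import Mathlib.AlgebraicGeometry.AffineScheme
import Groth.Agent.HartogsAffine.Basic
import Groth.Agent.Depth.Local

set_option autoImplicit false
universe u
open CategoryTheory AlgebraicGeometry
open WildQuot

namespace Groth.Agent.S19995

theorem depth_le_of_flat (R A : Type u) [CommRing R] [CommRing A] [IsLocalRing R] [IsLocalRing A] [Algebra R A]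
    [Module.Flat R A] [IsLocalHom (algebraMap R A)] : LocCoh.depth R R ≤ LocCoh.depth A A := by
  refine le_trans (Depth.idealDepth_le_idealDepth_of_isBaseChange (IsBaseChange.linearMap R A))
    (Depth.idealDepth_mono ?_)
  exact ((IsLocalRing.local_hom_TFAE (algebraMap R A)).out 0 2).mp ‹IsLocalHom (algebraMap R A)›

theorem depth_stalk_le {X S : Scheme.{u}} (g : X ⟶ S) [Flat g] (x : X) :
    LocCoh.depth (S.presheaf.stalk (g x)) (S.presheaf.stalk (g x)) ≤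
      LocCoh.depth (X.presheaf.stalk x) (X.presheaf.stalk x) := by
  letI := (g.stalkMap x).hom.toAlgebra
  haveI : Module.Flat (S.presheaf.stalk (g x)) (X.presheaf.stalk x) := Flat.stalkMap g x
  haveI : IsLocalHom (algebraMap (S.presheaf.stalk (g x)) (X.presheaf.stalk x)) :=
    inferInstanceAs (IsLocalHom (g.stalkMap x).hom)
  exact depth_le_of_flat _ _

theorem isIso_res {X S : Scheme.{u}} [IsAffine X] [IsLocallyNoetherian X] (g : X ⟶ S) [Flat g] (U : S.Opens)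
    (hU : ∀ s : S, s ∉ U → (2 : ℕ∞) ≤ LocCoh.depth (S.presheaf.stalk s) (S.presheaf.stalk s)) :
    IsIso ((g ⁻¹ᵁ U).ι.appTop) := by
  have h := HartogsAffine.bijective_res (g ⁻¹ᵁ U) fun x hx => (hU (g x) hx).trans (depth_stalk_le g x)
  haveI : IsIso (X.presheaf.map (homOfLE (le_top : g ⁻¹ᵁ U ≤ ⊤)).op) :=
    (ConcreteCategory.isIso_iff_bijective _).mpr h
  rw [Scheme.Opens.ι_appTop, show (homOfLE (le_top : (g ⁻¹ᵁ U).ι ''ᵁ ⊤ ≤ ⊤)).op =
    (homOfLE (le_top : g ⁻¹ᵁ U ≤ ⊤)).op ≫ (eqToHom (g ⁻¹ᵁ U).ι_image_top).op from Subsingleton.elim _ _,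
    Functor.map_comp]
  exact IsIso.comp_isIso' (by assumption) (Functor.map_isIso _ _)

theorem existsUnique_affine {X Y : Scheme.{u}} [IsAffine X] [IsAffine Y] (O : X.Opens) [IsIso O.ι.appTop]
    (ψ : (O : Scheme.{u}) ⟶ Y) : ∃! φ : X ⟶ Y, O.ι ≫ φ = ψ := by
  refine ⟨X.toSpecΓ ≫ Spec.map (ψ.appTop ≫ inv O.ι.appTop) ≫ Y.isoSpec.inv, ?_, fun φ hφ => ?_⟩
  · dsimp only
    have e : (O : Scheme.{u}).toSpecΓ ≫ Spec.map O.ι.appTop = O.ι ≫ X.toSpecΓ :=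
      (Scheme.toSpecΓ_naturality O.ι).symm
    rw [← Category.assoc, ← e, Category.assoc, ← Category.assoc (Spec.map O.ι.appTop), ← Spec.map_comp,
      Category.assoc, IsIso.inv_hom_id, Category.comp_id, ← Category.assoc, ← Scheme.toSpecΓ_naturality,
      Category.assoc, ← Scheme.isoSpec_hom Y, Iso.hom_inv_id, Category.comp_id]
  · refine ext_of_isAffine ?_
    rw [← cancel_mono O.ι.appTop, ← Scheme.Hom.comp_appTop, ← Scheme.Hom.comp_appTop, hφ]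
    congr 1
    symm
    have e : (O : Scheme.{u}).toSpecΓ ≫ Spec.map O.ι.appTop = O.ι ≫ X.toSpecΓ :=
      (Scheme.toSpecΓ_naturality O.ι).symm
    rw [← Category.assoc, ← e, Category.assoc, ← Category.assoc (Spec.map O.ι.appTop), ← Spec.map_comp,
      Category.assoc, IsIso.inv_hom_id, Category.comp_id, ← Category.assoc, ← Scheme.toSpecΓ_naturality,
      Category.assoc, ← Scheme.isoSpec_hom Y, Iso.hom_inv_id, Category.comp_id]

theorem existsUnique_over {X S G₂ : Scheme.{u}} [IsAffine X] [IsLocallyNoetherian X] (g : X ⟶ S) [Flat g]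
    (f₂ : G₂ ⟶ S) [IsAffineHom f₂] (V : S.Opens) (hV : IsAffineOpen V) (hgV : g ⁻¹ᵁ V = ⊤) (U : S.Opens)
    (hU : ∀ s : S, s ∉ U → (2 : ℕ∞) ≤ LocCoh.depth (S.presheaf.stalk s) (S.presheaf.stalk s))
    (ψ : ((g ⁻¹ᵁ U : X.Opens) : Scheme.{u}) ⟶ G₂) (hψ : ψ ≫ f₂ = (g ⁻¹ᵁ U).ι ≫ g) :
    ∃! φ : X ⟶ G₂, φ ≫ f₂ = g ∧ (g ⁻¹ᵁ U).ι ≫ φ = ψ := by
  haveI := isIso_res g U hU
  haveI : IsAffine ((f₂ ⁻¹ᵁ V : G₂.Opens) : Scheme.{u}) := hV.preimage f₂
  haveI : IsAffine ((V : S.Opens) : Scheme.{u}) := hV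
  have hlift : ∀ {Z : Scheme.{u}} (a : Z ⟶ G₂) (b : Z ⟶ X), a ≫ f₂ = b ≫ g →
      Set.range a ⊆ Set.range (f₂ ⁻¹ᵁ V).ι := by
    rintro Z a b hab _ ⟨z, rfl⟩
    rw [Scheme.Opens.range_ι]
    change f₂ (a z) ∈ V
    rw [← Scheme.Hom.comp_apply, hab, Scheme.Hom.comp_apply]
    exact (SetLike.ext_iff.mp hgV (b z)).mpr trivial
  obtain ⟨φ₀, hφ₀, huniq⟩ := existsUnique_affine (g ⁻¹ᵁ U)
    (IsOpenImmersion.lift (f₂ ⁻¹ᵁ V).ι ψ (hlift ψ _ hψ))
  refine ⟨φ₀ ≫ (f₂ ⁻¹ᵁ V).ι, ⟨?_, ?_⟩, ?_⟩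
  · have hr : Set.range g ⊆ Set.range V.ι := by
      rw [Scheme.Opens.range_ι]
      rintro _ ⟨z, rfl⟩
      exact (SetLike.ext_iff.mp hgV z).mpr trivial
    obtain ⟨a, -, ha⟩ := existsUnique_affine (Y := (V : Scheme.{u})) (g ⁻¹ᵁ U)
      ((g ⁻¹ᵁ U).ι ≫ IsOpenImmersion.lift V.ι g hr)
    have h1 := ha (φ₀ ≫ (f₂ ∣_ V)) (by
      dsimp only
      rw [← cancel_mono V.ι]
      simp only [Category.assoc, morphismRestrict_ι, IsOpenImmersion.lift_fac]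
      rw [reassoc_of% hφ₀, IsOpenImmersion.lift_fac_assoc, hψ])
    have h2 := ha (IsOpenImmersion.lift V.ι g hr) rfl
    have := congrArg (· ≫ V.ι) (h1.trans h2.symm)
    simpa [morphismRestrict_ι] using this
  · rw [← Category.assoc, hφ₀, IsOpenImmersion.lift_fac]
  · rintro φ ⟨h1, h2⟩
    have hl := hlift φ (𝟙 X) (by simpa using h1)
    have := huniq (IsOpenImmersion.lift (f₂ ⁻¹ᵁ V).ι φ hl) (by
      dsimp only
      rw [← cancel_mono (f₂ ⁻¹ᵁ V).ι, Category.assoc, IsOpenImmersion.lift_fac, IsOpenImmersion.lift_fac, h2])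
    rw [← this, IsOpenImmersion.lift_fac]

theorem main {S G₁ G₂ : Scheme.{u}} [IsLocallyNoetherian G₁] (f₁ : G₁ ⟶ S) (f₂ : G₂ ⟶ S)
    [IsAffineHom f₁] [Flat f₁] [IsAffineHom f₂] (U : S.Opens)
    (hU : ∀ s : S, s ∉ U → (2 : ℕ∞) ≤ LocCoh.depth (S.presheaf.stalk s) (S.presheaf.stalk s))
    (ψ : ((f₁ ⁻¹ᵁ U : G₁.Opens) : Scheme.{u}) ⟶ G₂) (hψ : ψ ≫ f₂ = (f₁ ⁻¹ᵁ U).ι ≫ f₁) :
    ∃! φ : G₁ ⟶ G₂, φ ≫ f₂ = f₁ ∧ (f₁ ⁻¹ᵁ U).ι ≫ φ = ψ := by
  classical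
  let W : S.affineOpens → G₁.Opens := fun V => f₁ ⁻¹ᵁ V.1
  let O : ∀ V, (W V : Scheme.{u}).Opens := fun V => ((W V).ι ≫ f₁) ⁻¹ᵁ U
  let r : ∀ V, (O V : Scheme.{u}) ⟶ (f₁ ⁻¹ᵁ U : G₁.Opens) := fun V =>
    (W V).ι.resLE (f₁ ⁻¹ᵁ U) (O V) le_rfl
  have hr : ∀ V, r V ≫ (f₁ ⁻¹ᵁ U).ι = (O V).ι ≫ (W V).ι := fun V => Scheme.Hom.resLE_comp_ι _ _
  have hWV : ∀ V : S.affineOpens, ((W V).ι ≫ f₁) ⁻¹ᵁ V.1 = ⊤ := fun V => by
    ext x
    simp only [SetLike.mem_coe, TopologicalSpace.Opens.mem_top, iff_true]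
    exact x.2
  have key : ∀ V, ∃! φ : (W V : Scheme.{u}) ⟶ G₂, φ ≫ f₂ = (W V).ι ≫ f₁ ∧ (O V).ι ≫ φ = r V ≫ ψ :=
    fun V => by
      haveI : IsAffine ((W V : G₁.Opens) : Scheme.{u}) := V.2.preimage f₁
      exact existsUnique_over ((W V).ι ≫ f₁) f₂ V.1 V.2 (hWV V) U hU (r V ≫ ψ) (by
        rw [Category.assoc, hψ, ← Category.assoc, hr, Category.assoc])
  choose φ hφ huniq using key
  have hres : ∀ (V V' : S.affineOpens) (h : W V' ≤ W V), G₁.homOfLE h ≫ φ V = φ V' := by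
    intro V V' h
    refine huniq V' _ ⟨?_, ?_⟩
    · simp [(hφ V).1]
    · have hle : O V' ≤ (G₁.homOfLE h) ⁻¹ᵁ O V := by
        intro x hx
        change ((W V).ι ≫ f₁) (G₁.homOfLE h x) ∈ U
        rw [← Scheme.Hom.comp_apply, ← Category.assoc, Scheme.homOfLE_ι]
        exact hx
      have e : (G₁.homOfLE h).resLE (O V) (O V') hle ≫ r V = r V' := by
        rw [← cancel_mono (f₁ ⁻¹ᵁ U).ι, Category.assoc, hr, hr, Scheme.Hom.resLE_comp_ι_assoc, Scheme.homOfLE_ι]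
      rw [← Category.assoc, ← Scheme.Hom.resLE_comp_ι (G₁.homOfLE h) hle, Category.assoc, (hφ V).2,
        ← Category.assoc, e]
  have hcov : TopologicalSpace.IsOpenCover W := TopologicalSpace.IsOpenCover.mk (by
    refine top_le_iff.mp ?_
    rw [← Scheme.Hom.preimage_top (f := f₁), ← iSup_affineOpens_eq_top S, Scheme.Hom.preimage_iSup])
  let 𝒰 := G₁.openCoverOfIsOpenCover W hcov
  have hcompat : ∀ V V' : S.affineOpens,
      Limits.pullback.fst (W V).ι (W V').ι ≫ φ V = Limits.pullback.snd (W V).ι (W V').ι ≫ φ V' := by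
    intro V V'
    let q := Limits.pullback.fst (W V).ι (W V').ι ≫ (W V).ι
    have hq : q = Limits.pullback.snd (W V).ι (W V').ι ≫ (W V').ι := Limits.pullback.condition
    let T : {V'' : S.affineOpens // W V'' ≤ W V ∧ W V'' ≤ W V'} → (Limits.pullback (W V).ι (W V').ι).Opens :=
      fun V'' => q ⁻¹ᵁ W V''.1
    have hT : TopologicalSpace.IsOpenCover T := TopologicalSpace.IsOpenCover.mk (by
      refine top_le_iff.mp fun z _ => ?_
      have h1 : q z ∈ W V := by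
        rw [Scheme.Hom.comp_apply]; exact (Limits.pullback.fst (W V).ι (W V').ι z).2
      have h2 : q z ∈ W V' := by
        rw [hq, Scheme.Hom.comp_apply]; exact (Limits.pullback.snd (W V).ι (W V').ι z).2
      obtain ⟨_, ⟨V'', hV'', rfl⟩, hzV, hle⟩ := S.isBasis_affineOpens.exists_subset_of_mem_open
        (show f₁ (q z) ∈ (V.1 ⊓ V'.1 : S.Opens) from ⟨h1, h2⟩) (V.1 ⊓ V'.1).2
      rw [TopologicalSpace.Opens.mem_iSup]
      exact ⟨⟨⟨V'', hV''⟩, fun y hy => (hle hy).1, fun y hy => (hle hy).2⟩, hzV⟩)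
    refine Scheme.Cover.hom_ext ((Limits.pullback (W V).ι (W V').ι).openCoverOfIsOpenCover T hT) _ _
      fun (V'' : {V'' : S.affineOpens // W V'' ≤ W V ∧ W V'' ≤ W V'}) => ?_
    change (T V'').ι ≫ _ ≫ φ V = (T V'').ι ≫ _ ≫ φ V'
    have e1 : (T V'').ι ≫ Limits.pullback.fst (W V).ι (W V').ι = (q ∣_ W V''.1) ≫ G₁.homOfLE V''.2.1 := by
      rw [← cancel_mono (W V).ι, Category.assoc, Category.assoc, Scheme.homOfLE_ι, morphismRestrict_ι]
    have e2 : (T V'').ι ≫ Limits.pullback.snd (W V).ι (W V').ι = (q ∣_ W V''.1) ≫ G₁.homOfLE V''.2.2 := by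
      rw [← cancel_mono (W V').ι, Category.assoc, Category.assoc, Scheme.homOfLE_ι, morphismRestrict_ι]
      exact congrArg ((T V'').ι ≫ ·) hq.symm
    rw [← Category.assoc, e1, ← Category.assoc _ _ (φ V'), e2, Category.assoc, Category.assoc,
      hres V V''.1 V''.2.1, hres V' V''.1 V''.2.2]
  let Φ := Scheme.Cover.glueMorphisms 𝒰 φ hcompat
  have hΦ : ∀ V, (W V).ι ≫ Φ = φ V := fun V => Scheme.Cover.ι_glueMorphisms 𝒰 φ hcompat V
  refine ⟨Φ, ⟨?_, ?_⟩, fun Φ' hΦ' => ?_⟩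
  · refine Scheme.Cover.hom_ext 𝒰 _ _ fun (V : S.affineOpens) => ?_
    change (W V).ι ≫ Φ ≫ f₂ = (W V).ι ≫ f₁
    rw [← Category.assoc, hΦ, (hφ V).1]
  · let T : S.affineOpens → (f₁ ⁻¹ᵁ U : G₁.Opens).toScheme.Opens := fun V => (f₁ ⁻¹ᵁ U).ι ⁻¹ᵁ W V
    have hT : TopologicalSpace.IsOpenCover T := TopologicalSpace.IsOpenCover.mk (by
      refine top_le_iff.mp fun z _ => ?_
      obtain ⟨V, hV⟩ := hcov.exists_mem ((f₁ ⁻¹ᵁ U).ι z)
      rw [TopologicalSpace.Opens.mem_iSup]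
      exact ⟨V, hV⟩)
    refine Scheme.Cover.hom_ext (((f₁ ⁻¹ᵁ U : G₁.Opens) : Scheme.{u}).openCoverOfIsOpenCover T hT) _ _
      fun (V : S.affineOpens) => ?_
    change (T V).ι ≫ (f₁ ⁻¹ᵁ U).ι ≫ Φ = (T V).ι ≫ ψ
    let s : (T V : Scheme.{u}) ⟶ W V := (f₁ ⁻¹ᵁ U).ι ∣_ W V
    have hs : Set.range s ⊆ Set.range (O V).ι := by
      rw [Scheme.Opens.range_ι]
      rintro _ ⟨z, rfl⟩
      change ((W V).ι ≫ f₁) (s z) ∈ U
      rw [← Scheme.Hom.comp_apply, ← Category.assoc, morphismRestrict_ι]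
      exact ((T V).ι z).2
    have e : IsOpenImmersion.lift (O V).ι s hs ≫ r V = (T V).ι := by
      rw [← cancel_mono (f₁ ⁻¹ᵁ U).ι, Category.assoc, hr, IsOpenImmersion.lift_fac_assoc, morphismRestrict_ι]
    rw [← Category.assoc, ← morphismRestrict_ι, Category.assoc, hΦ]
    change s ≫ φ V = _
    rw [← IsOpenImmersion.lift_fac (O V).ι s hs, Category.assoc, (hφ V).2, ← Category.assoc, e]
  · refine Scheme.Cover.hom_ext 𝒰 _ _ fun (V : S.affineOpens) => ?_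
    change (W V).ι ≫ Φ' = (W V).ι ≫ Φ
    rw [hΦ]
    refine huniq V _ ⟨?_, ?_⟩
    · rw [Category.assoc, hΦ'.1]
    · rw [← Category.assoc, ← hr, Category.assoc, hΦ'.2]

/-- Let `S` be a Noetherian scheme, `f_1 : G_1 → S` and `f_2 : G_2 → S` finite flat morphisms, and `U ⊆
S` an open subset such that at every point of `S` outside `U` the local ring of `S` has depth at
least `2` (equivalently, for Noetherian `S`: `U` contains every point of codimension at most `1` and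
every point at which `S` fails Serre's condition `S_2`). Then every morphism `f_1⁻¹(U) → f_2⁻¹(U)`
over `U` is the restriction of exactly one `S`-morphism `G_1 → G_2`. (The published statements draw
this conclusion for homomorphisms of finite flat group schemes and for group-scheme actions on
finite flat schemes; this row states the underlying extension property of morphisms of finite flat
`S`-schemes, from which those follow by uniqueness.) -/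
theorem result
    (S G₁ G₂ : Scheme.{u}) [AlgebraicGeometry.IsNoetherian S] (f₁ : G₁ ⟶ S) (f₂ : G₂ ⟶ S)
    [AlgebraicGeometry.IsFinite f₁] [AlgebraicGeometry.Flat f₁]
    [AlgebraicGeometry.IsFinite f₂] [AlgebraicGeometry.Flat f₂]
    (U : S.Opens)
    (hU : ∀ s : S, s ∉ U → (2 : ℕ∞) ≤ LocCoh.depth (S.presheaf.stalk s) (S.presheaf.stalk s))
    (φU : ((f₁ ⁻¹ᵁ U : G₁.Opens) : Scheme.{u}) ⟶ ((f₂ ⁻¹ᵁ U : G₂.Opens) : Scheme.{u}))
    (hφU : φU ≫ (f₂ ⁻¹ᵁ U).ι ≫ f₂ = (f₁ ⁻¹ᵁ U).ι ≫ f₁) :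
    ∃! φ : G₁ ⟶ G₂, φ ≫ f₂ = f₁ ∧ (f₁ ⁻¹ᵁ U).ι ≫ φ = φU ≫ (f₂ ⁻¹ᵁ U).ι := by
  haveI : IsLocallyNoetherian G₁ := LocallyOfFiniteType.isLocallyNoetherian f₁
  exact main f₁ f₂ U hU (φU ≫ (f₂ ⁻¹ᵁ U).ι) (by rw [Category.assoc]; exact hφU)

end Groth.Agent.S19995
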