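import Groth.Statements.S4534
import Groth.Agent.AdicFS.Basic

set_option autoImplicit false
universe u
open EGA41

namespace Groth.Agent.S4534

/-- Let A → B → C be continuous homomorphisms of adic rings (A with the 𝔞-adic, B the 𝔟-adic, C the
𝔠-adic topology; continuity: a power of 𝔞 maps into 𝔟 and a power of 𝔟 into 𝔠). If B is formally
smooth over A and C formally smooth over B, then C is formally smooth over A. -/
theorem result {A B C : Type u} [CommRing A] [CommRing B] [CommRing C] [Algebra A B] [Algebra B C]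
    [Algebra A C] [IsScalarTower A B C] (𝔞 : Ideal A) (𝔟 : Ideal B) (𝔠 : Ideal C)
    (hAB : ∃ k : ℕ, (𝔞 ^ k).map (algebraMap A B) ≤ 𝔟) (hBC : ∃ k : ℕ, (𝔟 ^ k).map (algebraMap B C) ≤ 𝔠)
    (hB : EGA41.IsFormallySmoothAdic A 𝔞 B 𝔟) (hC : EGA41.IsFormallySmoothAdic B 𝔟 C 𝔠) :
    EGA41.IsFormallySmoothAdic A 𝔞 C 𝔠 := by
  obtain ⟨i, hi⟩ := hAB
  obtain ⟨j, hj⟩ := hBC
  intro E _ _ J hJ hA u hu
  obtain ⟨k, hk⟩ := hu
  have hj' : ∀ b ∈ 𝔟 ^ (j * k), u (algebraMap B C b) = 0 := fun b hb => hk _ (by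
    refine Ideal.pow_right_mono hj k ?_
    rw [← Ideal.map_pow, ← pow_mul]
    exact Ideal.mem_map_of_mem _ hb)
  obtain ⟨v₀, hv₀⟩ := hB E J hJ hA (u.comp (IsScalarTower.toAlgHom A B C)) ⟨j * k, hj'⟩
  letI : Algebra B E := v₀.toRingHom.toAlgebra
  haveI : IsScalarTower A B E := IsScalarTower.of_algebraMap_eq fun a => (v₀.commutes a).symm
  obtain ⟨m, hm⟩ := AdicFS.Basic.continuous_of_mk J hJ (algebraMap B E) (I := 𝔟) (k := j * k) fun b hb =>
    Ideal.Quotient.eq_zero_iff_mem.mp ((DFunLike.congr_fun hv₀ b).trans (hj' b hb))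
  let uB : C →ₐ[B] E ⧸ J :=
    { u.toRingHom with commutes' := fun b => (DFunLike.congr_fun hv₀ b).symm }
  obtain ⟨w, hw⟩ := hC E J hJ ⟨m, (Ideal.map_eq_bot_iff_le_ker _).mpr hm⟩ uB ⟨k, hk⟩
  exact ⟨w.restrictScalars A, AlgHom.ext fun c => DFunLike.congr_fun hw c⟩

end Groth.Agent.S4534
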