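import Groth.Statements.S4677
import Groth.Agent.FBase.PerfectReduced
import Mathlib.RingTheory.EssentialFiniteness
import Mathlib.RingTheory.FiniteType
-- import your own Groth.Agent.* helpers here

set_option autoImplicit false
open scoped TensorProduct
universe u
open FBase

namespace Groth.Agent.S4677

open TensorProduct Groth.Agent.FBase.PerfectReduced

/-- Let K be a finitely generated extension field of a field k. Then there exists a finite purely
inseparable extension k' of k such that, for every maximal ideal m of the ring k' ⊗_k K, the residue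
field (k' ⊗_k K)/m is geometrically reduced over k' (a separable, not necessarily algebraic,
extension of k'). -/
theorem result {k K : Type u} [Field k] [Field K] [Algebra k K]
    [Algebra.EssFiniteType k K] :
    ∃ (k' : Type u) (_ : Field k') (_ : Algebra k k'), FiniteDimensional k k' ∧ IsPurelyInseparable k k' ∧
      ∀ (m : Ideal (k' ⊗[k] K)), m.IsMaximal → Algebra.IsGeometricallyReduced k' ((k' ⊗[k] K) ⧸ m) := by
  obtain ⟨k', _, _, hfd, hpi, hgr⟩ := exists_purelyInseparable_geomReduced (k := k) K
    (isNoetherianRing_of_essFiniteType K _)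
  refine ⟨k', ‹_›, ‹_›, hfd, hpi, fun m hm ↦ ?_⟩
  obtain ⟨p, hp⟩ := ExpChar.exists k
  have : ExpChar K p := expChar_of_injective_algebraMap (algebraMap k K).injective p
  let R := k' ⊗[k] K
  have : Nontrivial R := (Ideal.Quotient.mk m).domain_nontrivial
  have : ExpChar R p :=
    expChar_of_injective_ringHom (Algebra.TensorProduct.includeRight (A := k') (B := K)).toRingHom.injective p
  have hpow : ∀ z : R, ∃ n : ℕ, ∃ c : K, z ^ p ^ n = (1 : k') ⊗ₜ[k] c := by
    intro z
    induction z using TensorProduct.induction_on with
    | zero => exact ⟨0, 0, by rw [pow_zero, pow_one, TensorProduct.tmul_zero]⟩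
    | tmul a c =>
      obtain ⟨n, y, hy⟩ := IsPurelyInseparable.pow_mem k p a
      refine ⟨n, y • c ^ p ^ n, ?_⟩
      rw [Algebra.TensorProduct.tmul_pow, ← hy, Algebra.algebraMap_eq_smul_one, smul_tmul]
    | add a b ha hb =>
      obtain ⟨n, c, hn⟩ := ha
      obtain ⟨l, d, hl⟩ := hb
      refine ⟨n + l, c ^ p ^ l + d ^ p ^ n, ?_⟩
      rw [add_pow_expChar_pow, pow_add, pow_mul, hn, mul_comm, pow_mul, hl,
        Algebra.TensorProduct.tmul_pow, Algebra.TensorProduct.tmul_pow, one_pow, one_pow,
        TensorProduct.tmul_add]
  have hm' : m = nilradical R := by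
    refine le_antisymm (fun z hz ↦ ?_) (nilradical_le_prime m)
    obtain ⟨n, c, hc⟩ := hpow z
    by_cases hc0 : c = 0
    · exact ⟨p ^ n, by rw [hc, hc0, TensorProduct.tmul_zero]; exact zero_mem _⟩
    · exfalso
      refine hm.ne_top (Ideal.eq_top_of_isUnit_mem m hz ?_)
      refine (isUnit_pow_iff (pow_pos (expChar_pos K p) n).ne').mp ?_
      rw [hc]
      exact (Ne.isUnit hc0).map (Algebra.TensorProduct.includeRight (R := k) (A := k') (B := K))
  subst hm'
  exact hgr

end Groth.Agent.S4677
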