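import Groth.Statements.S4536
import Groth.Agent.AdicFS.Basic

set_option autoImplicit false
universe u
open EGA41

namespace Groth.Agent.S4536

/-- Let A carry the 𝔞-adic and B the 𝔟-adic topology, A → B being continuous (a power of 𝔞 maps into 𝔟).
Then B is formally smooth over A if and only if for every n the (A/𝔞ⁿ)-algebra B/𝔞ⁿB, with the adic
topology of the image of 𝔟, is formally smooth over the discrete ring A/𝔞ⁿ. -/
theorem result {A B : Type u} [CommRing A] [CommRing B] [Algebra A B]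
    (𝔞 : Ideal A) (𝔟 : Ideal B) (hAB : ∃ k : ℕ, (𝔞 ^ k).map (algebraMap A B) ≤ 𝔟) :
    EGA41.IsFormallySmoothAdic A 𝔞 B 𝔟 ↔
      ∀ n : ℕ, EGA41.IsFormallySmoothAdic (A ⧸ 𝔞 ^ n) ⊥ (B ⧸ (𝔞 ^ n).map (algebraMap A B))
        (𝔟.map (Ideal.Quotient.mk ((𝔞 ^ n).map (algebraMap A B)))) := by
  constructor
  · intro h n E _ _ J hJ _ u hu
    obtain ⟨k, hk⟩ := hu
    letI : Algebra A E := ((algebraMap (A ⧸ 𝔞 ^ n) E).comp (algebraMap A (A ⧸ 𝔞 ^ n))).toAlgebra
    haveI : IsScalarTower A (A ⧸ 𝔞 ^ n) E := IsScalarTower.of_algebraMap_eq fun a => rfl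
    have h0 : (𝔞 ^ n).map (algebraMap A E) = ⊥ := (Ideal.map_eq_bot_iff_le_ker _).mpr fun a ha => by
      rw [RingHom.mem_ker, IsScalarTower.algebraMap_apply A (A ⧸ 𝔞 ^ n) E, Ideal.Quotient.algebraMap_eq,
        Ideal.Quotient.eq_zero_iff_mem.mpr ha, map_zero]
    let π := Ideal.Quotient.mk ((𝔞 ^ n).map (algebraMap A B))
    let u' : B →ₐ[A] E ⧸ J :=
      { u.toRingHom.comp π with commutes' := fun a => u.commutes (Ideal.Quotient.mk _ a) }
    obtain ⟨v, hv⟩ := h E J hJ ⟨n, h0⟩ u' ⟨k, fun b hb => hk _ (by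
      rw [← Ideal.map_pow]; exact Ideal.mem_map_of_mem _ hb)⟩
    have hker : ∀ x ∈ (𝔞 ^ n).map (algebraMap A B), v.toRingHom x = 0 := fun x hx => by
      have := Ideal.mem_map_of_mem v.toRingHom hx
      rw [Ideal.map_map, show v.toRingHom.comp (algebraMap A B) = algebraMap A E from v.comp_algebraMap,
        h0] at this
      simpa using this
    refine ⟨{ Ideal.Quotient.lift _ v.toRingHom hker with
        commutes' := fun a => by
          obtain ⟨a, rfl⟩ := Ideal.Quotient.mk_surjective a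
          exact (v.commutes a) }, AlgHom.ext fun x => ?_⟩
    obtain ⟨x, rfl⟩ := Ideal.Quotient.mk_surjective x
    exact DFunLike.congr_fun hv x
  · intro h E _ _ J hJ hA u hu
    obtain ⟨n, hn⟩ := hA
    obtain ⟨k, hk⟩ := hu
    letI : Algebra (A ⧸ 𝔞 ^ n) E :=
      (Ideal.Quotient.lift _ (algebraMap A E) ((Ideal.map_eq_bot_iff_le_ker _).mp hn)).toAlgebra
    haveI : IsScalarTower A (A ⧸ 𝔞 ^ n) E := IsScalarTower.of_algebraMap_eq fun a => rfl
    have hker : ∀ x ∈ (𝔞 ^ n).map (algebraMap A B), u.toRingHom x = 0 := fun x hx => by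
      have := Ideal.mem_map_of_mem u.toRingHom hx
      rw [Ideal.map_map, show u.toRingHom.comp (algebraMap A B) = algebraMap A (E ⧸ J) from u.comp_algebraMap,
        IsScalarTower.algebraMap_eq A E (E ⧸ J), ← Ideal.map_map, hn, Ideal.map_bot] at this
      simpa using this
    let u' : (B ⧸ (𝔞 ^ n).map (algebraMap A B)) →ₐ[A ⧸ 𝔞 ^ n] E ⧸ J :=
      { Ideal.Quotient.lift _ u.toRingHom hker with
        commutes' := fun a => by
          obtain ⟨a, rfl⟩ := Ideal.Quotient.mk_surjective a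
          exact u.commutes a }
    obtain ⟨v, hv⟩ := h n E J hJ ⟨1, by simp⟩ u' ⟨k, fun x hx => by
      rw [← Ideal.map_pow] at hx
      obtain ⟨b, hb, rfl⟩ := (Ideal.mem_map_iff_of_surjective _ Ideal.Quotient.mk_surjective).mp hx
      exact hk b hb⟩
    refine ⟨(v.restrictScalars A).comp (Ideal.Quotient.mkₐ A _), AlgHom.ext fun b => ?_⟩
    exact DFunLike.congr_fun hv (Ideal.Quotient.mk _ b)

end Groth.Agent.S4536
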