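import Groth.Statements.S2454
import Groth.Agent.S4536
import Groth.Agent.AdicFS.Basic
import Groth.Agent.CAlg48.FlatFS
import Groth.Agent.FieldSep.MacLane
import Mathlib

set_option autoImplicit false
universe u
open EGA41

namespace Groth.Agent.S2454

open IsLocalRing in
/-- Let A → B be a local homomorphism of Noetherian local rings making B a Cohen A-algebra. Then B, with
its adic topology, is formally smooth over A with its adic topology. -/
theorem result {A B : Type u} [CommRing A] [IsLocalRing A] [CommRing B] [IsLocalRing B]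
    [Algebra A B] [IsLocalHom (algebraMap A B)] (h : EGA41.IsCohenAlgebra A B) :
    EGA41.IsFormallySmoothAdic A (maximalIdeal A) B (maximalIdeal B) := by
  obtain ⟨-, -, -, hflat, hmax, hsep⟩ := h
  refine (Groth.Agent.S4536.result _ _ ⟨1, by rw [pow_one]; exact hmax.le⟩).mpr fun n => ?_
  rw [AdicFS.Basic.isFormallySmoothAdic_bot_iff]
  let R := A ⧸ maximalIdeal A ^ n
  let B' := B ⧸ (maximalIdeal A ^ n).map (algebraMap A B)
  haveI : Module.Flat R B' :=
    Module.Flat.of_linearEquiv ((((Submodule.Quotient.restrictScalarsEquiv A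
        ((maximalIdeal A ^ n).map (algebraMap A B))).symm ≪≫ₗ
      Submodule.quotEquivOfEq _ _ (Ideal.smul_top_eq_map (maximalIdeal A ^ n)).symm) ≪≫ₗ
      (TensorProduct.quotTensorEquivQuotSMul B (maximalIdeal A ^ n)).symm).extendScalarsOfSurjective
      Ideal.Quotient.mk_surjective)
  rcases Nat.eq_zero_or_pos n with rfl | hn
  · haveI : Subsingleton R := Submodule.Quotient.subsingleton_iff.mpr (by rw [pow_zero, Ideal.one_eq_top])
    intro C _ _ J hJ u _
    haveI : Subsingleton C := (algebraMap R C).codomain_trivial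
    exact ⟨{ (0 : B' →+ C) with
      toFun := fun _ => 0
      map_one' := Subsingleton.elim _ _
      map_mul' := fun _ _ => Subsingleton.elim _ _
      commutes' := fun _ => Subsingleton.elim _ _ }, AlgHom.ext fun _ => Subsingleton.elim _ _⟩
  let I : Ideal R := (maximalIdeal A).map (Ideal.Quotient.mk (maximalIdeal A ^ n))
  have hI : IsNilpotent I := ⟨n, by rw [← Ideal.map_pow, Ideal.map_quotient_self]; rfl⟩
  let T := B' ⧸ I.map (algebraMap R B')
  let q : B →ₐ[A] T := (Ideal.Quotient.mkₐ A (I.map (algebraMap R B'))).comp (Ideal.Quotient.mkₐ A _)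
  have hq : Function.Surjective q := Ideal.Quotient.mk_surjective.comp Ideal.Quotient.mk_surjective
  have hIB : I.map (algebraMap R B') = (maximalIdeal B).map (Ideal.Quotient.mk _) := by
    rw [← hmax, Ideal.map_map, Ideal.map_map]; rfl
  have hker : RingHom.ker q.toRingHom = maximalIdeal B := by
    ext b
    show Ideal.Quotient.mk _ (Ideal.Quotient.mk _ b) = 0 ↔ _
    rw [Ideal.Quotient.eq_zero_iff_mem, hIB, ← Ideal.mem_comap, Ideal.comap_map_of_surjective _ Ideal.Quotient.mk_surjective,
      ← RingHom.ker_eq_comap_bot, Ideal.mk_ker, sup_eq_left.mpr]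
    rw [← hmax]
    exact Ideal.map_mono (Ideal.pow_le_self hn.ne')
  haveI : Algebra.FormallySmooth (ResidueField A) (ResidueField B) :=
    FieldSep.MacLane.formallySmooth_of_isGeometricallyReduced (k := ResidueField A) (K := ResidueField B)
  let ψ : ResidueField A →+* R ⧸ I :=
    Ideal.Quotient.lift (maximalIdeal A) ((Ideal.Quotient.mk I).comp (Ideal.Quotient.mk _)) fun a ha =>
      Ideal.Quotient.eq_zero_iff_mem.mpr (Ideal.mem_map_of_mem _ ha)
  letI : Algebra (ResidueField A) (R ⧸ I) := ψ.toAlgebra
  letI : Algebra (ResidueField A) T := ((algebraMap (R ⧸ I) T).comp ψ).toAlgebra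
  haveI : IsScalarTower (ResidueField A) (R ⧸ I) T := IsScalarTower.of_algebraMap_eq fun _ => rfl
  have hψ : Function.Surjective ψ := fun x => by
    obtain ⟨x, rfl⟩ := Ideal.Quotient.mk_surjective x
    obtain ⟨a, rfl⟩ := Ideal.Quotient.mk_surjective x
    exact ⟨residue A a, rfl⟩
  haveI : Algebra.FormallyUnramified (ResidueField A) (R ⧸ I) :=
    Algebra.FormallyUnramified.of_surjective (Algebra.ofId (ResidueField A) (R ⧸ I)) hψ
  let e₀ : ResidueField B ≃+* T :=
    (Ideal.quotEquivOfEq hker.symm).trans (RingHom.quotientKerEquivOfSurjective (f := q.toRingHom) hq)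
  let e : ResidueField B ≃ₐ[ResidueField A] T := AlgEquiv.ofRingEquiv (f := e₀) fun x => by
    obtain ⟨a, rfl⟩ := residue_surjective x
    rfl
  haveI : Algebra.FormallySmooth (ResidueField A) T := Algebra.FormallySmooth.of_equiv e
  haveI : Algebra.FormallySmooth (R ⧸ I) T := Algebra.FormallySmooth.of_restrictScalars (ResidueField A) (R ⧸ I) T
  haveI := CAlg48.FlatFS.formallySmooth (R := R) (A := B') I hI
  exact AdicFS.Basic.of_formallySmooth _

end Groth.Agent.S2454
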