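import Groth.Statements.S4543
import Groth.Agent.AdicFS.LiftComplete
import Groth.Agent.AdicFS.FlatComplete

set_option autoImplicit false
universe u
open EGA41

namespace Groth.Agent.S4543

open IsLocalRing in
/-- Let A be a Noetherian ring, J an ideal of A, B and B' two A-algebras which are Noetherian local
rings, the structure maps being continuous for the J-adic topology on A (JB and JB' lie in the
maximal ideals); suppose B and B' are complete for the J-adic topologies, B is a formally smooth
A-algebra for the J-adic topology on A and the JB-adic topology on B (nilpotent test ideals, test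
algebras killed by a power of J, test maps killing a power of JB), and B' is a flat A-module. Then
every (A/J)-algebra isomorphism u₀ : B/JB ≅ B'/JB' comes from an A-algebra isomorphism u : B ≅ B' by
passing to quotients. (B is taken formally smooth for the JB-adic topology, the topology along which
the argument lifts B → B'/JB' to B'; read with the convention that a local ring carries the adic
topology of its maximal ideal, the published hypothesis would be formal smoothness for the
maximal-ideal topology on B, a weaker condition when JB is strictly smaller than the maximal ideal,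
and that reading is not what the argument establishes.) -/
theorem result {A B B' : Type u} [CommRing A] [IsNoetherianRing A] (J : Ideal A)
    [CommRing B] [IsLocalRing B] [IsNoetherianRing B] [Algebra A B]
    [CommRing B'] [IsLocalRing B'] [IsNoetherianRing B'] [Algebra A B']
    (hB : J.map (algebraMap A B) ≤ maximalIdeal B) (hB' : J.map (algebraMap A B') ≤ maximalIdeal B')
    [IsAdicComplete (J.map (algebraMap A B)) B] [IsAdicComplete (J.map (algebraMap A B')) B']
    (hfs : EGA41.IsFormallySmoothAdic A J B (J.map (algebraMap A B))) [Module.Flat A B']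
    (u₀ : (B ⧸ J.map (algebraMap A B)) ≃ₐ[A ⧸ J] (B' ⧸ J.map (algebraMap A B'))) :
    ∃ u : B ≃ₐ[A] B', ∀ b : B,
      Ideal.Quotient.mk (J.map (algebraMap A B')) (u b) = u₀ (Ideal.Quotient.mk (J.map (algebraMap A B)) b) := by
  haveI : IsHausdorff ((J.map (algebraMap A B')).map (Ideal.Quotient.mk (J.map (algebraMap A B'))))
      (B' ⧸ J.map (algebraMap A B')) := by
    rw [Ideal.map_quotient_self]; exact inferInstance
  let u : B →ₐ[A] B' ⧸ J.map (algebraMap A B') :=
    ((u₀.toAlgHom).restrictScalars A).comp (Ideal.Quotient.mkₐ A (J.map (algebraMap A B)))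
  obtain ⟨v, -, hv⟩ := AdicFS.LiftComplete.exists_lift hfs (J.map (algebraMap A B')) ⟨1, by rw [pow_one]⟩
    (J.map (algebraMap A B')) ⟨1, by rw [pow_one]⟩ u ⟨1, by
      rw [pow_one, Ideal.map_map, show u.toRingHom.comp (algebraMap A B) = algebraMap A _ from u.comp_algebraMap,
        IsScalarTower.algebraMap_eq A B' (B' ⧸ J.map (algebraMap A B')), ← Ideal.map_map]
      exact le_rfl⟩
  have hv' : ∀ b, Ideal.Quotient.mk (J.map (algebraMap A B')) (v b) =
      u₀ (Ideal.Quotient.mk (J.map (algebraMap A B)) b) := fun b => DFunLike.congr_fun hv b
  haveI : IsHausdorff J B' := (IsHausdorff.map_algebraMap_iff (S := B')).mp inferInstance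
  haveI : IsAdicComplete J B := (IsAdicComplete.map_algebraMap_iff (S := B) J B).mp inferInstance
  have hbij : Function.Bijective v.toLinearMap := by
    refine AdicFS.FlatComplete.bijective (J := J) v.toLinearMap (fun m => ?_) (fun b hb => ?_)
    · obtain ⟨x, hx⟩ := u₀.surjective (Ideal.Quotient.mk _ m)
      obtain ⟨b, rfl⟩ := Ideal.Quotient.mk_surjective x
      refine ⟨b, ?_⟩
      rw [Ideal.smul_top_eq_map, Submodule.restrictScalars_mem, ← Ideal.Quotient.eq, ← hx, ← hv']
      rfl
    · rw [Ideal.smul_top_eq_map, Submodule.restrictScalars_mem, ← Ideal.Quotient.eq_zero_iff_mem] at hb ⊢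
      exact u₀.injective (by rw [map_zero, ← hv']; exact hb)
  exact ⟨AlgEquiv.ofBijective v hbij, hv'⟩

end Groth.Agent.S4543
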