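import Groth.Statements.S2455
import Groth.Agent.FlatLift16.Main
import Groth.Agent.S2454
import Groth.Agent.S4543

set_option autoImplicit false
universe u
open EGA41

namespace Groth.Agent.S2455

open scoped TensorProduct in
open IsLocalRing in
/-- Let A be a Noetherian local ring with residue field k and K a separable extension field of k. Then
there is a Cohen A-algebra B whose residue field is k-isomorphic to K; and two Cohen A-algebras
whose residue fields are k-isomorphic to K are isomorphic as A-algebras. -/
theorem result {A : Type u} [CommRing A] [IsLocalRing A] [IsNoetherianRing A]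
    (K : Type u) [Field K] [Algebra (ResidueField A) K] [Algebra.IsGeometricallyReduced (ResidueField A) K] :
    (∃ (B : Type u) (_ : CommRing B) (_ : IsLocalRing B) (_ : Algebra A B) (_ : IsLocalHom (algebraMap A B)),
      EGA41.IsCohenAlgebra A B ∧ Nonempty (ResidueField B ≃ₐ[ResidueField A] K)) ∧
    ∀ (B B' : Type u) [CommRing B] [IsLocalRing B] [Algebra A B] [IsLocalHom (algebraMap A B)]
      [CommRing B'] [IsLocalRing B'] [Algebra A B'] [IsLocalHom (algebraMap A B')],
      EGA41.IsCohenAlgebra A B → EGA41.IsCohenAlgebra A B' →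
      Nonempty (ResidueField B ≃ₐ[ResidueField A] K) → Nonempty (ResidueField B' ≃ₐ[ResidueField A] K) →
      Nonempty (B ≃ₐ[A] B') := by
  refine ⟨?_, ?_⟩
  · haveI : IsRegularLocalRing K := inferInstance
    haveI : IsAdicComplete (maximalIdeal K) K := by
      rw [IsLocalRing.isField_iff_maximalIdeal_eq.mp (Field.toIsField K)]
      infer_instance
    obtain ⟨B, _, _, _, _, _, hBc, hflat, ⟨φ⟩⟩ := FlatLift16.exists_flat_lift (A := A) K
    refine ⟨B, inferInstance, inferInstance, inferInstance, inferInstance, ?_⟩
    let ρ : B →+* K := φ.toRingHom.comp Algebra.TensorProduct.includeRight.toRingHom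
    have hρs : Function.Surjective ρ := by
      refine φ.surjective.comp fun z => ?_
      induction z with
      | zero => exact ⟨0, map_zero _⟩
      | add z z' hz hz' =>
        obtain ⟨b, rfl⟩ := hz
        obtain ⟨b', rfl⟩ := hz'
        exact ⟨b + b', map_add _ _ _⟩
      | tmul x b =>
        obtain ⟨a, rfl⟩ := residue_surjective x
        refine ⟨a • b, ?_⟩
        show (1 : ResidueField A) ⊗ₜ[A] (a • b) = residue A a ⊗ₜ[A] b
        rw [← TensorProduct.smul_tmul, Algebra.smul_def, mul_one]
        rfl
    haveI : IsLocalHom ρ := IsLocalHom.of_surjective ρ hρs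
    have hρa : ∀ a, ρ (algebraMap A B a) = algebraMap (ResidueField A) K (residue A a) := fun a => by
      show φ ((1 : ResidueField A) ⊗ₜ[A] algebraMap A B a) = _
      rw [← φ.commutes, Algebra.TensorProduct.algebraMap_apply]
      congr 1
      rw [Algebra.algebraMap_eq_smul_one, ← TensorProduct.smul_tmul, Algebra.smul_def, mul_one]
      rfl
    let e₀ : ResidueField B →+* K :=
      IsLocalRing.ResidueField.lift ρ
    let e : ResidueField B →ₐ[ResidueField A] K :=
      { e₀ with
        commutes' := fun x => by
          obtain ⟨a, rfl⟩ := residue_surjective x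
          exact hρa a }
    have hes : Function.Surjective e := fun y => by
      obtain ⟨b, rfl⟩ := hρs y
      exact ⟨residue B b, rfl⟩
    let E : ResidueField B ≃ₐ[ResidueField A] K :=
      AlgEquiv.ofBijective e ⟨e.toRingHom.injective, hes⟩
    refine ⟨⟨inferInstance, inferInstance, hBc, hflat, ?_, ?_⟩, ⟨E⟩⟩
    · refine le_antisymm (((IsLocalRing.local_hom_TFAE _).out 0 2).mp (inferInstance : IsLocalHom (algebraMap A B))) fun b hb => ?_
      have h1 : φ ((1 : ResidueField A) ⊗ₜ[A] b) = 0 := by
        by_contra hne
        exact hb (isUnit_of_map_unit ρ b (isUnit_iff_ne_zero.mpr hne))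
      rw [← map_zero φ] at h1
      have h2 := φ.injective h1
      have h3 : ∀ z : ResidueField A ⊗[A] B, ∀ (q : ResidueField A ⊗[A] B →ₗ[A]
          B ⧸ ((maximalIdeal A).map (algebraMap A B)).restrictScalars A), z = 0 → q z = 0 :=
        fun z q hz => by rw [hz, map_zero]
      let M' := ((maximalIdeal A).map (algebraMap A B)).restrictScalars A
      let r : ResidueField A ⊗[A] B →ₗ[A] B ⧸ M' := TensorProduct.lift
        (Submodule.liftQ (maximalIdeal A)
          ((LinearMap.lsmul A (B →ₗ[A] B ⧸ M')).flip M'.mkQ) (fun a ha => by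
            rw [LinearMap.mem_ker]
            refine LinearMap.ext fun x => ?_
            show a • M'.mkQ x = 0
            rw [← map_smul, Submodule.mkQ_apply, Submodule.Quotient.mk_eq_zero, Algebra.smul_def]
            exact Ideal.mul_mem_right _ _ (Ideal.mem_map_of_mem _ ha)))
      have h4 := h3 _ r h2
      have h5 : r ((1 : ResidueField A) ⊗ₜ[A] b) = M'.mkQ b := by
        show (1 : A) • M'.mkQ b = M'.mkQ b
        rw [one_smul]
      rw [h5, Submodule.mkQ_apply, Submodule.Quotient.mk_eq_zero] at h4
      exact h4
    · exact Algebra.IsGeometricallyReduced.of_injective E.toAlgHom E.injective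
  · intro B B' _ _ _ _ _ _ _ _ hB hB' ⟨e⟩ ⟨e'⟩
    haveI := hB.2.1
    haveI := hB'.2.1
    haveI := hB'.2.2.2.1
    have hm := hB.2.2.2.2.1
    have hm' := hB'.2.2.2.2.1
    haveI : IsAdicComplete ((maximalIdeal A).map (algebraMap A B)) B := by rw [hm]; exact hB.2.2.1
    haveI : IsAdicComplete ((maximalIdeal A).map (algebraMap A B')) B' := by rw [hm']; exact hB'.2.2.1
    have hfs := S2454.result hB
    rw [← hm] at hfs
    let u₀ : (B ⧸ (maximalIdeal A).map (algebraMap A B)) ≃ₐ[A ⧸ maximalIdeal A]
        (B' ⧸ (maximalIdeal A).map (algebraMap A B')) :=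
      AlgEquiv.ofRingEquiv (f := (Ideal.quotEquivOfEq hm).trans
          ((e.trans e'.symm).toRingEquiv.trans (Ideal.quotEquivOfEq hm').symm)) (fun x => by
        obtain ⟨a, rfl⟩ := Ideal.Quotient.mk_surjective x
        show (Ideal.quotEquivOfEq hm').symm
          ((e.trans e'.symm) (algebraMap (ResidueField A) (ResidueField B) (residue A a))) = _
        rw [AlgEquiv.commutes]
        rfl)
    obtain ⟨u, -⟩ := S4543.result (maximalIdeal A) hm.le hm'.le hfs u₀
    exact ⟨u⟩

end Groth.Agent.S2455
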