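import Groth.Statements.S2461
import Groth.Agent.AdicFS.Basic
import Mathlib

set_option autoImplicit false
universe u
open EGA41

namespace Groth.Agent.S2461

/-- Let A carry the 𝔞-adic topology and let B be a Noetherian A-algebra with the 𝔟-adic topology. Then B
is formally smooth over A if and only if the 𝔟-adic completion of B, with the adic topology of the
extended ideal, is formally smooth over A. -/
theorem result {A B : Type u} [CommRing A] (𝔞 : Ideal A) [CommRing B] [IsNoetherianRing B] [Algebra A B] (𝔟 : Ideal B) :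
    EGA41.IsFormallySmoothAdic A 𝔞 B 𝔟 ↔
      EGA41.IsFormallySmoothAdic A 𝔞 (AdicCompletion 𝔟 B) (𝔟.map (algebraMap B (AdicCompletion 𝔟 B))) := by
  have hfg : 𝔟.FG := IsNoetherian.noetherian _
  set I' := 𝔟.map (algebraMap B (AdicCompletion 𝔟 B))
  let π : ∀ m, AdicCompletion 𝔟 B →ₐ[A] B ⧸ 𝔟 ^ m := fun m => (AdicCompletion.evalₐ 𝔟 m).restrictScalars A
  have hker : ∀ m x, π m x = 0 ↔ x ∈ I' ^ m := fun m x => by
    have e : (𝔟 ^ m • ⊤ : Ideal B) = 𝔟 ^ m := by simp
    show AdicCompletion.evalₐ 𝔟 m x = 0 ↔ _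
    rw [← Ideal.map_pow, ← Submodule.restrictScalars_mem B, ← Ideal.smul_top_eq_map,
      AdicCompletion.pow_smul_top_eq_ker_eval hfg, LinearMap.mem_ker]
    exact map_eq_zero_iff (Ideal.quotientEquivAlgOfEq B e) (EquivLike.injective _)
  have hof : ∀ m b, π m (algebraMap B (AdicCompletion 𝔟 B) b) = Ideal.Quotient.mk (𝔟 ^ m) b := fun m b =>
    (AdicCompletion.evalₐ 𝔟 m).commutes b
  constructor
  · intro h E _ _ J hJ hA u ⟨k, hk⟩
    obtain ⟨v, hv⟩ := h E J hJ hA (u.comp (IsScalarTower.toAlgHom A B _)) ⟨k, fun b hb => hk _ (by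
      rw [← Ideal.map_pow]; exact Ideal.mem_map_of_mem _ hb)⟩
    have hv' : ∀ b, Ideal.Quotient.mk J (v b) = u (algebraMap B _ b) := fun b => DFunLike.congr_fun hv b
    obtain ⟨m, hm⟩ := AdicFS.Basic.continuous_of_mk J hJ v.toRingHom (I := 𝔟) (k := k) fun b hb =>
      Ideal.Quotient.eq_zero_iff_mem.mp ((hv' b).trans (hk _ (by
        rw [← Ideal.map_pow]; exact Ideal.mem_map_of_mem _ hb)))
    refine ⟨(Ideal.Quotient.liftₐ (𝔟 ^ (k + m)) v fun b hb =>
      hm b (Ideal.pow_le_pow_right (Nat.le_add_left m k) hb)).comp (π (k + m)), AlgHom.ext fun x => ?_⟩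
    obtain ⟨b, hb⟩ := Ideal.Quotient.mk_surjective (π (k + m) x)
    have hx : x - algebraMap B _ b ∈ I' ^ (k + m) := (hker _ _).mp (by rw [map_sub, hof, hb, sub_self])
    have h2 := hk _ (Ideal.pow_le_pow_right (Nat.le_add_right k m) hx)
    rw [map_sub, sub_eq_zero] at h2
    rw [AlgHom.comp_apply, AlgHom.comp_apply, ← hb, h2, ← hv']
    rfl
  · intro h E _ _ J hJ hA u ⟨k, hk⟩
    obtain ⟨v, hv⟩ := h E J hJ hA ((Ideal.Quotient.liftₐ (𝔟 ^ k) u hk).comp (π k)) ⟨k, fun x hx => by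
      rw [AlgHom.comp_apply, (hker k x).mpr hx, map_zero]⟩
    refine ⟨v.comp (IsScalarTower.toAlgHom A B _), AlgHom.ext fun b => ?_⟩
    refine (DFunLike.congr_fun hv (algebraMap B _ b)).trans ?_
    rw [AlgHom.comp_apply, hof]
    rfl

end Groth.Agent.S2461
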