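import Groth.Statements.S4535
import Groth.Agent.AdicFS.Basic

set_option autoImplicit false
universe u
open EGA41

namespace Groth.Agent.S4535

open TensorProduct in
/-- Let B (𝔟-adic) be formally smooth over A (𝔞-adic) and let A' (𝔞'-adic) be a topological A-algebra (a
power of 𝔞 maps into 𝔞'). Then the A'-algebra A' ⊗_A B, with the tensor product topology, i.e. the
adic topology of the ideal generated by the images of 𝔞' and 𝔟, is formally smooth over A'. -/
theorem result {A B A' : Type u} [CommRing A] [CommRing B] [CommRing A'] [Algebra A B] [Algebra A A']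
    (𝔞 : Ideal A) (𝔟 : Ideal B) (𝔞' : Ideal A') (hAA' : ∃ k : ℕ, (𝔞 ^ k).map (algebraMap A A') ≤ 𝔞')
    (hB : EGA41.IsFormallySmoothAdic A 𝔞 B 𝔟) :
    EGA41.IsFormallySmoothAdic A' 𝔞' (A' ⊗[A] B)
      (𝔞'.map (algebraMap A' (A' ⊗[A] B)) ⊔
        𝔟.map (Algebra.TensorProduct.includeRight : B →ₐ[A] A' ⊗[A] B).toRingHom) := by
  obtain ⟨i, hi⟩ := hAA'
  intro E _ _ J hJ hA u hu
  obtain ⟨m, hm⟩ := hA
  obtain ⟨k, hk⟩ := hu
  letI : Algebra A E := ((algebraMap A' E).comp (algebraMap A A')).toAlgebra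
  haveI : IsScalarTower A A' E := IsScalarTower.of_algebraMap_eq fun a => rfl
  have hA0 : (𝔞 ^ (i * m)).map (algebraMap A E) = ⊥ := by
    rw [IsScalarTower.algebraMap_eq A A' E, ← Ideal.map_map, eq_bot_iff, ← hm]
    refine Ideal.map_mono ?_
    rw [pow_mul, Ideal.map_pow]
    exact Ideal.pow_right_mono hi m
  obtain ⟨v₀, hv₀⟩ := hB E J hJ ⟨i * m, hA0⟩
    ((u.restrictScalars A).comp Algebra.TensorProduct.includeRight) ⟨k, fun b hb => hk _ (by
      refine Ideal.pow_right_mono le_sup_right k ?_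
      rw [← Ideal.map_pow]
      exact Ideal.mem_map_of_mem _ hb)⟩
  refine ⟨Algebra.TensorProduct.lift (Algebra.ofId A' E) v₀ fun _ _ => Commute.all _ _,
    Algebra.TensorProduct.ext (Subsingleton.elim _ _) (AlgHom.ext fun b => ?_)⟩
  simpa using DFunLike.congr_fun hv₀ b

end Groth.Agent.S4535
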