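import Groth.Statements.S1110
import Groth.Agent.Props.SubExt
import Groth.Agent.Props.QApproxMain
import Groth.Agent.KFlat.TensorLocFree
import Groth.Agent.PerfTri.Betti
import Groth.Agent.PinchLib.Modules

set_option linter.style.haveILetI false

set_option autoImplicit false
universe u
open CategoryTheory AlgebraicGeometry
open Perf

namespace Groth.Agent.S1110

open CategoryTheory CategoryTheory.Limits AlgebraicGeometry

/-- For an affine morphism f : X ⟶ Y over a quasi-compact, quasi-separated Y, the resolution property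
passes from Y up to X. (The source also treats quasi-affine f.) -/
theorem result {X Y : Scheme.{u}} (f : X ⟶ Y) [IsAffineHom f] [CompactSpace ↥Y] [QuasiSeparatedSpace ↥Y]
    (hY : PerfAux.HasResolutionProperty Y) : PerfAux.HasResolutionProperty X := by
  classical
  intro F hF hFT
  haveI : F.IsQuasicoherent := hF
  haveI : SheafOfModules.IsFiniteType.{u} F := hFT
  haveI : CompactSpace X := QuasiCompact.compactSpace_of_compactSpace f
  let P := (Scheme.Modules.pushforward f).obj F
  haveI : P.IsQuasicoherent := Groth.Agent.QCoh.isQuasicoherent_pushforward f F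
  obtain ⟨σ, hσ⟩ := Groth.Agent.Props.QApproxMain.exists_affine_finite_cover Y
  choose gen hgen using fun V : σ =>
    (Groth.Agent.QCoh.finite_sections_of_isFiniteType F (V.1.2.preimage f)).fg_top
  let κ := (V : σ) × {g // g ∈ gen V}
  have hsub : ∀ k : κ, ∃ (E : Y.Modules) (φ : E ⟶ P), FlatMod.IsFinLocFree E ∧
      ∃ t, φ.app k.1.1.1 t = k.2.1 := by
    intro k
    obtain ⟨S, hS, t, ht⟩ :=
      Groth.Agent.Props.SubExt.exists_sub_through_section P k.1.1.1 k.1.1.2 k.2.1
    haveI hq : (Groth.Agent.Props.SubSheaf.sub S).IsQuasicoherent :=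
      Groth.Agent.Props.SubSheaf.isQuasicoherent_sub hS
    obtain ⟨E, π, hE, hπ⟩ := hY _ hq (Groth.Agent.Props.SubSheaf.isFiniteType_sub hS)
    haveI := Groth.Agent.PerfTri.Betti.isQuasicoherent_of_isFinLocFree hE
    obtain ⟨t', ht'⟩ := Groth.Agent.QCoh.app_surjective_of_epi π k.1.1.2 t
    refine ⟨E, π ≫ Groth.Agent.Props.SubSheaf.incl S, hE, t', ?_⟩
    rw [Scheme.Modules.Hom.comp_app, ConcreteCategory.comp_apply, ht', ht]
  choose E φ hE t ht using hsub
  haveI : Fintype κ := inferInstance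
  let n := Fintype.card κ
  let eq := (Fintype.equivFin κ).symm
  haveI : HasFiniteBiproducts Y.Modules := HasFiniteBiproducts.of_hasFiniteProducts
  let E' : Y.Modules := ⨁ fun i : Fin n => E (eq i)
  let Φ : E' ⟶ P := biproduct.desc fun i => φ (eq i)
  have hE' : FlatMod.IsFinLocFree E' :=
    Groth.Agent.KFlat.LocFree.isFinLocFree_of_iso
      (biproduct.isoCoproduct fun i : Fin n => E (eq i)).symm
      (Groth.Agent.KFlat.TensorLocFree.isFinLocFree_sigma _ Finset.univ
        (fun i hi => absurd (Finset.mem_univ i) hi) fun i => hE (eq i))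
  let adj := Scheme.Modules.pullbackPushforwardAdjunction f
  let ψ : (Scheme.Modules.pullback f).obj E' ⟶ F := (adj.homEquiv E' F).symm Φ
  have hψ : adj.unit.app E' ≫ (Scheme.Modules.pushforward f).map ψ = Φ := by
    exact (adj.homEquiv_unit E' F ψ).symm.trans ((adj.homEquiv E' F).apply_symm_apply Φ)
  haveI := Groth.Agent.PerfTri.Betti.isQuasicoherent_of_isFinLocFree hE'
  haveI := Groth.Agent.QCoh.isQuasicoherent_pullback f E'
  refine ⟨_, ψ, Groth.Agent.PinchLib.isFinLocFree_pullback f E' hE', ?_⟩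
  refine Groth.Agent.Props.QApproxMain.epi_of_cover ψ fun x => ?_
  obtain ⟨V, hV, hxV⟩ := hσ (f x)
  refine ⟨f ⁻¹ᵁ V.1, V.2.preimage f, hxV, fun z => ?_⟩
  have hmem : ∀ z ∈ Submodule.span Γ(X, f ⁻¹ᵁ V.1) (gen ⟨V, hV⟩ : Set Γ(F, f ⁻¹ᵁ V.1)),
      ∃ w, ψ.app (f ⁻¹ᵁ V.1) w = z := by
    intro z hz
    induction hz using Submodule.span_induction with
    | mem g hg =>
      let k : κ := ⟨⟨V, hV⟩, ⟨g, hg⟩⟩
      obtain ⟨i, hi⟩ := eq.surjective k
      have h1 : ∃ w, Φ.app V.1 w = g := by
        have h2 : ∀ k' : κ, eq i = k' → ∃ w, Φ.app k'.1.1.1 w = k'.2.1 := by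
          rintro _ rfl
          refine ⟨(biproduct.ι (fun i : Fin n => E (eq i)) i).app _ (t (eq i)), ?_⟩
          rw [← ConcreteCategory.comp_apply, ← Scheme.Modules.Hom.comp_app, biproduct.ι_desc]
          exact ht (eq i)
        exact h2 k hi
      obtain ⟨w, hw⟩ := h1
      rw [← hψ] at hw
      exact ⟨(adj.unit.app E').app V.1 w, hw⟩
    | zero => exact ⟨0, map_zero _⟩
    | add a b _ _ ha hb =>
      obtain ⟨wa, rfl⟩ := ha
      obtain ⟨wb, rfl⟩ := hb
      exact ⟨wa + wb, map_add _ _ _⟩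
    | smul r a _ ha =>
      obtain ⟨wa, rfl⟩ := ha
      exact ⟨r • wa, Scheme.Modules.Hom.app_smul _ r wa⟩
  exact hmem z ((hgen ⟨V, hV⟩).symm ▸ Submodule.mem_top)

end Groth.Agent.S1110
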