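import Groth.Statements.S1009
import Groth.Agent.Props.SubExt
import Groth.Agent.Props.QProj
import Groth.Agent.Props.GenLocus
import Groth.Agent.PerfTri.Betti
import Groth.Agent.AssSch.Quot

set_option autoImplicit false
universe u
open CategoryTheory CategoryTheory.Limits AlgebraicGeometry
open Perf

namespace Groth.Agent.S1009

open Groth.Agent Groth.Agent.QCoh Groth.Agent.Props.QStalk Groth.Agent.Props.GenLocus TopologicalSpace Opposite

variable {X : Scheme.{u}}

/-- An affine open is cut out by a map from a finite locally free module having a section over it. -/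
theorem exists_hom [CompactSpace X] [QuasiSeparatedSpace X] (hX : PerfAux.HasResolutionProperty X)
    {U : X.Opens} (hU : IsAffineOpen U) :
    ∃ (E : X.Modules) (φ : E ⟶ Coh.structureModule X), FlatMod.IsFinLocFree E ∧
      (∀ (W : X.Opens) (e : Γ(E, W)), X.basicOpen (show Γ(X, W) from φ.app W e) ≤ U) ∧
      ∃ σ : Γ(E, U), (show Γ(X, U) from φ.app U σ) = 1 := by
  let J := Scheme.IdealSheafData.vanishingIdeal (X := X) ⟨(U : Set X)ᶜ, U.2.isClosed_compl⟩
  let ι := J.subschemeι
  have hι : Set.range ι = (U : Set X)ᶜ := by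
    rw [Scheme.IdealSheafData.range_subschemeι, Scheme.IdealSheafData.coe_support_vanishingIdeal]
    rfl
  let P := (Scheme.Modules.pushforward ι).obj (Coh.structureModule J.subscheme)
  have : (Coh.structureModule J.subscheme).IsQuasicoherent := WeakAssSch.isQuasicoherent_unit _
  have : P.IsQuasicoherent := QCoh.isQuasicoherent_pushforward ι _
  have : (Coh.structureModule X).IsQuasicoherent := WeakAssSch.isQuasicoherent_unit _
  let ρ : Coh.structureModule X ⟶ P := homOfSec (show Γ(P, ⊤) from (1 : Γ(J.subscheme, ι ⁻¹ᵁ ⊤)))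
  have hρ : ∀ (W : X.Opens) (a : Γ(X, W)), ρ.app W a = (show Γ(P, W) from ι.app W a) := fun W a => by
    rw [app_eq, sec_homOfSec]
    show (ι.app W a : Γ(J.subscheme, ι ⁻¹ᵁ W)) *
      (rres (ι.preimage_mono le_top : ι ⁻¹ᵁ W ≤ ι ⁻¹ᵁ ⊤) (1 : Γ(J.subscheme, ι ⁻¹ᵁ ⊤)) : Γ(J.subscheme, ι ⁻¹ᵁ W)) = _
    exact (congrArg (_ * ·) (map_one _)).trans (mul_one _)
  let K := ShortComplex.mk (kernel.ι ρ) ρ (kernel.condition _)
  have hK : K.Exact := K.exact_of_f_is_kernel (kernelIsKernel _)
  have : Mono K.f := inferInstanceAs (Mono (kernel.ι ρ))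
  have : (kernel ρ).IsQuasicoherent := QCoh.isQuasicoherent_X₁ K hK
  have hbot : ι ⁻¹ᵁ U = ⊥ := by
    refine Opens.ext (Set.eq_empty_iff_forall_notMem.2 fun z hz => ?_)
    exact (hι.le ⟨z, rfl⟩) hz
  obtain ⟨σ₀, hσ₀⟩ : ∃ w : Γ(kernel ρ, U), (kernel.ι ρ).app U w = (show Γ(Coh.structureModule X, U) from (1 : Γ(X, U))) := by
    refine exists_app_eq_of_app_eq_zero K hK U _ ?_
    show ρ.app U _ = 0
    rw [hρ]
    have : Subsingleton Γ(J.subscheme, ι ⁻¹ᵁ U) := by
      rw [hbot]
      infer_instance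
    exact Subsingleton.elim (α := Γ(J.subscheme, ι ⁻¹ᵁ U)) _ _
  obtain ⟨S, hS, t, ht⟩ := Props.SubExt.exists_sub_through_section (kernel ρ) U hU σ₀
  have hq : (Props.SubSheaf.sub S).IsQuasicoherent := Props.SubSheaf.isQuasicoherent_sub hS
  obtain ⟨E, π, hE, hπ⟩ := hX _ hq (Props.SubSheaf.isFiniteType_sub hS)
  have := PerfTri.Betti.isQuasicoherent_of_isFinLocFree hE
  obtain ⟨σ, hσ⟩ := QCoh.app_surjective_of_epi π hU t
  refine ⟨E, π ≫ Props.SubSheaf.incl S ≫ kernel.ι ρ, hE, fun W e => ?_, σ, ?_⟩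
  · let s : Γ(X, W) := (π ≫ Props.SubSheaf.incl S ≫ kernel.ι ρ).app W e
    have hs : ι.app W s = 0 := by
      refine (hρ W s).symm.trans ?_
      show ((π ≫ Props.SubSheaf.incl S ≫ kernel.ι ρ) ≫ ρ).app W e = 0
      rw [Category.assoc, Category.assoc, kernel.condition, comp_zero, comp_zero]
      rfl
    have hp : ι ⁻¹ᵁ X.basicOpen s = ⊥ := by
      rw [Scheme.preimage_basicOpen, hs, Scheme.basicOpen_zero]
    intro x hx
    by_contra hxU
    obtain ⟨z, rfl⟩ := hι.ge hxU
    have : z ∈ ι ⁻¹ᵁ X.basicOpen s := hx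
    rw [hp] at this
    exact this
  · rw [Scheme.Modules.Hom.comp_app, ConcreteCategory.comp_apply, hσ, Scheme.Modules.Hom.comp_app,
      ConcreteCategory.comp_apply, ht, hσ₀]

variable {E : X.Modules} [E.IsQuasicoherent] {V : X.Opens}

theorem bijective_smul_basicOpen (h k : Γ(X, V)) (hkh : X.basicOpen k ≤ X.basicOpen h)
    (x : Submonoid.powers h) :
    IsUnit (algebraMap Γ(X, V) (Module.End Γ(X, V) Γ(X, X.basicOpen k)) x) := by
  obtain ⟨n, hn⟩ := x.2
  rw [← hn, map_pow]
  refine IsUnit.pow n ?_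
  rw [Module.End.isUnit_iff]
  have hu : IsUnit (algebraMap Γ(X, V) Γ(X, X.basicOpen k) h) := by
    have h1 := (RingedSpace.isUnit_res_basicOpen X.toLocallyRingedSpace.toRingedSpace h).map
      (X.presheaf.map (homOfLE hkh).op).hom
    have e : algebraMap Γ(X, V) Γ(X, X.basicOpen k) h = rres hkh (rres (X.basicOpen_le h) h) := by
      rw [← ConcreteCategory.comp_apply, ← Functor.map_comp]
      rfl
    rw [e]
    exact h1
  have : (algebraMap Γ(X, V) (Module.End Γ(X, V) Γ(X, X.basicOpen k)) h : Γ(X, X.basicOpen k) → Γ(X, X.basicOpen k)) =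
      fun a => algebraMap Γ(X, V) Γ(X, X.basicOpen k) h * a := funext fun a => Algebra.smul_def h a
  rw [this]
  exact hu.smul_bijective

/-- A functional on the sections over an affine open, on a principal open. -/
noncomputable def extF (hV : IsAffineOpen V) (l : Γ(E, V) →ₗ[Γ(X, V)] Γ(X, V)) (h : Γ(X, V)) :
    Γ(E, X.basicOpen h) →ₗ[Γ(X, V)] Γ(X, X.basicOpen h) :=
  haveI : Fact (IsAffineOpen V) := ⟨hV⟩
  IsLocalizedModule.lift (Submonoid.powers h) (resLin E h)
    ((Algebra.linearMap Γ(X, V) Γ(X, X.basicOpen h)).comp l) (bijective_smul_basicOpen h h le_rfl)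

theorem extF_res (hV : IsAffineOpen V) (l : Γ(E, V) →ₗ[Γ(X, V)] Γ(X, V)) (h : Γ(X, V)) (x : Γ(E, V)) :
    extF hV l h (res E (X.basicOpen_le h) x) = rres (X.basicOpen_le h) (l x) :=
  haveI : Fact (IsAffineOpen V) := ⟨hV⟩
  IsLocalizedModule.lift_apply (Submonoid.powers h) (resLin E h) _ (bijective_smul_basicOpen h h le_rfl) x

theorem extF_compat (hV : IsAffineOpen V) (l : Γ(E, V) →ₗ[Γ(X, V)] Γ(X, V)) (h k : Γ(X, V))
    (hkh : X.basicOpen k ≤ X.basicOpen h) (s : Γ(E, X.basicOpen h)) :
    rres hkh (extF hV l h s) = extF hV l k (res E hkh s) := by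
  haveI : Fact (IsAffineOpen V) := ⟨hV⟩
  have hr : ∀ a : Γ(X, V), rres hkh (rres (X.basicOpen_le h) a) = rres (X.basicOpen_le k) a := fun a => by
    rw [← ConcreteCategory.comp_apply, ← Functor.map_comp]
    rfl
  let A : Γ(E, X.basicOpen h) →ₗ[Γ(X, V)] Γ(X, X.basicOpen k) :=
    { toFun := fun t => rres hkh (extF hV l h t)
      map_add' := fun a b => by simp only [map_add]
      map_smul' := fun r t => by
        rw [map_smul, Algebra.smul_def, Algebra.smul_def, map_mul]
        exact congrArg (· * _) (hr r) }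
  let B : Γ(E, X.basicOpen h) →ₗ[Γ(X, V)] Γ(X, X.basicOpen k) :=
    { toFun := fun t => extF hV l k (res E hkh t)
      map_add' := fun a b => by simp only [map_add]
      map_smul' := fun r t => by
        refine Eq.trans ?_ (map_smul (extF hV l k) r (res E hkh t))
        refine congrArg (extF hV l k) ?_
        show res E hkh (rres (X.basicOpen_le h) r • t) = rres (X.basicOpen_le k) r • res E hkh t
        rw [res_smul, hr] }
  have : A = B := IsLocalizedModule.ext (Submonoid.powers h) (resLin E h) (bijective_smul_basicOpen h k hkh)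
    (LinearMap.ext fun x => by
      show rres hkh (extF hV l h (res E (X.basicOpen_le h) x)) = extF hV l k (res E hkh (res E (X.basicOpen_le h) x))
      rw [extF_res, hr, res_res, extF_res])
  exact LinearMap.congr_fun this s

theorem extF_sum (hV : IsAffineOpen V) {n : ℕ} (e : Fin n → Γ(E, V))
    (l : Fin n → (Γ(E, V) →ₗ[Γ(X, V)] Γ(X, V))) (hl : ∀ x, ∑ i, l i x • e i = x) (h : Γ(X, V))
    (s : Γ(E, X.basicOpen h)) :
    ∑ i, extF hV (l i) h s • res E (X.basicOpen_le h) (e i) = s := by
  haveI : Fact (IsAffineOpen V) := ⟨hV⟩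
  let A : Γ(E, X.basicOpen h) →ₗ[Γ(X, V)] Γ(E, X.basicOpen h) :=
    ∑ i, (extF hV (l i) h).smulRight (res E (X.basicOpen_le h) (e i))
  have : A = LinearMap.id := IsLocalizedModule.ext (Submonoid.powers h) (resLin E h)
    (IsLocalizedModule.map_units (resLin E h)) (LinearMap.ext fun x => by
      show A (res E (X.basicOpen_le h) x) = res E (X.basicOpen_le h) x
      simp only [A, LinearMap.sum_apply, LinearMap.smulRight_apply, extF_res]
      conv_rhs => rw [← hl x]
      rw [map_sum]
      exact Finset.sum_congr rfl fun i _ => (res_smul E _ _ _).symm)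
  have h' := LinearMap.congr_fun this s
  simpa [A] using h'

omit [E.IsQuasicoherent] in
/-- Let the scheme X be quasi-compact and quasi-separated with the resolution property (every
finite-type quasi-coherent O_X-module is a quotient of a finite locally free one). Then X has affine
diagonal: the intersection of any two affine opens of X is affine. -/
theorem result (X : Scheme.{u}) [CompactSpace ↥X] [QuasiSeparatedSpace ↥X] (hX : PerfAux.HasResolutionProperty X)
    (U V : X.Opens) (hU : IsAffineOpen U) (hV : IsAffineOpen V) : IsAffineOpen (U ⊓ V) := by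
  classical
  obtain ⟨E, φ, hE, hφ, σ, hσ⟩ := exists_hom hX hU
  have := PerfTri.Betti.isQuasicoherent_of_isFinLocFree hE
  have := Props.QProj.projective_sections E hE hV
  have := Props.QProj.finitePresentation_sections E hE hV
  obtain ⟨n, f, g, -, -, hfg⟩ := Module.Finite.exists_comp_eq_id_of_projective Γ(X, V) Γ(E, V)
  let e : Fin n → Γ(E, V) := fun i => f (fun j => if j = i then 1 else 0)
  let l : Fin n → (Γ(E, V) →ₗ[Γ(X, V)] Γ(X, V)) := fun i => (LinearMap.proj i).comp g
  have hl : ∀ x, ∑ i, l i x • e i = x := fun x => by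
    refine Eq.trans ?_ (LinearMap.congr_fun hfg x)
    show _ = f (g x)
    rw [pi_eq_sum_univ (g x), map_sum]
    exact Finset.sum_congr rfl fun i _ => by
      rw [map_smul]
      simp [e, l, eq_comm]
  let W := U ⊓ V
  have hc : ∀ y : W, ∃ h : Γ(X, V), X.basicOpen h ≤ W ∧ y.1 ∈ X.basicOpen h := fun y =>
    hV.exists_basicOpen_le y y.2.2
  choose h hhW hyh using hc
  let a : ∀ (i : Fin n) (y : W), Γ(X, X.basicOpen (h y)) := fun i y =>
    extF hV (l i) (h y) (res E ((hhW y).trans inf_le_left) σ)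
  have hcover : W ≤ iSup fun y : W => X.basicOpen (h y) := fun x hx =>
    Opens.mem_iSup.2 ⟨⟨x, hx⟩, hyh ⟨x, hx⟩⟩
  have hcompat : ∀ i, TopCat.Presheaf.IsCompatible X.presheaf (fun y : W => X.basicOpen (h y)) (a i) := by
    intro i y z
    have hk : X.basicOpen (h y) ⊓ X.basicOpen (h z) = X.basicOpen (h y * h z) := (Scheme.basicOpen_mul _ _ _).symm
    have hy : X.basicOpen (h y * h z) ≤ X.basicOpen (h y) := hk.ge.trans inf_le_left
    have hz : X.basicOpen (h y * h z) ≤ X.basicOpen (h z) := hk.ge.trans inf_le_right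
    have e1 : rres hy (a i y) = rres hz (a i z) := by
      rw [show a i y = extF hV (l i) (h y) (res E ((hhW y).trans inf_le_left) σ) from rfl,
        show a i z = extF hV (l i) (h z) (res E ((hhW z).trans inf_le_left) σ) from rfl,
        extF_compat hV (l i) (h y) _ hy, extF_compat hV (l i) (h z) _ hz, res_res, res_res]
    have e2 := congrArg (rres hk.le) e1
    rw [← ConcreteCategory.comp_apply, ← ConcreteCategory.comp_apply, ← Functor.map_comp,
      ← Functor.map_comp] at e2
    exact e2
  choose (A : Fin n → Γ(X, W)) hA using fun i => (TopCat.Sheaf.existsUnique_gluing' X.sheaf (fun y : W => X.basicOpen (h y)) W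
    (fun y => homOfLE (hhW y)) hcover (a i) (hcompat i)).exists
  let gs : Fin n → Γ(X, V) := fun i => φ.app V (e i)
  have h1 : ∑ i, A i * rres (inf_le_right : W ≤ V) (gs i) = 1 := by
    refine TopCat.Sheaf.eq_of_locally_eq' X.sheaf (fun y : W => X.basicOpen (h y)) W
      (fun y => homOfLE (hhW y)) hcover _ _ fun y => ?_
    show rres (hhW y) (∑ i, A i * rres (inf_le_right : W ≤ V) (gs i)) = rres (hhW y) (1 : Γ(X, W))
    have h2 := congrArg (φ.app (X.basicOpen (h y))) (extF_sum hV e l hl (h y) (res E ((hhW y).trans inf_le_left) σ))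
    rw [map_sum, app_res] at h2
    rw [map_sum, map_one]
    refine Eq.trans (Finset.sum_congr rfl fun i _ => ?_) (h2.trans ?_)
    · have hA' : rres (hhW y) (A i) = a i y := hA i y
      rw [map_mul, hA', Scheme.Modules.Hom.app_smul, app_res]
      refine congrArg (a i y * ·) ?_
      rw [← ConcreteCategory.comp_apply, ← Functor.map_comp]
      rfl
    · show rres _ (show Γ(X, U) from φ.app U σ) = 1
      rw [hσ, map_one]
  refine isAffineOpen_of_isAffineOpen_basicOpen W (Set.range fun i => rres (inf_le_right : W ≤ V) (gs i)) ?_ ?_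
  · refine (Ideal.eq_top_iff_one _).2 ?_
    have := Ideal.sum_mem (Ideal.span (Set.range fun i => rres (inf_le_right : W ≤ V) (gs i)))
      (t := Finset.univ) (f := fun i => A i * rres (inf_le_right : W ≤ V) (gs i))
      fun i _ => Ideal.mul_mem_left _ _ (Ideal.subset_span ⟨i, rfl⟩)
    rw [h1] at this
    exact this
  · rintro _ ⟨i, rfl⟩
    have : X.basicOpen (rres (inf_le_right : W ≤ V) (gs i)) = X.basicOpen (gs i) := by
      rw [Scheme.basicOpen_res, inf_eq_right]
      exact le_inf (hφ V (e i)) (X.basicOpen_le _)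
    rw [this]
    exact hV.basicOpen _

end Groth.Agent.S1009
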