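import Groth.Statements.S1071
import Groth.Agent.ProjTwist.Pn.MulX
import Mathlib.Algebra.Homology.Embedding.ExtendHomology
import Mathlib.Data.Nat.Choose.Basic

set_option autoImplicit false
universe u
open CategoryTheory CategoryTheory.Limits AlgebraicGeometry
open Perf

namespace Groth.Agent.S1071

open Groth.Agent.ProjTwist Groth.Agent.QCoh
open Groth.Agent.PullStalk.Exact (stalkLin)

noncomputable section

/-- A biproduct of two coproducts. -/
def biprodSigmaIso {C : Type*} [Category C] [Preadditive C] [HasBinaryBiproducts C] {α β : Type}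
    (f : C) [HasCoproduct fun _ : α => f] [HasCoproduct fun _ : β => f] [HasCoproduct fun _ : α ⊕ β => f] :
    ((∐ fun _ : α => f) ⊞ ∐ fun _ : β => f) ≅ ∐ fun _ : α ⊕ β => f where
  hom := biprod.desc (Sigma.desc fun a => Sigma.ι (fun _ : α ⊕ β => f) (Sum.inl a))
    (Sigma.desc fun b => Sigma.ι (fun _ : α ⊕ β => f) (Sum.inr b))
  inv := Sigma.desc fun x => Sum.rec (motive := fun _ => f ⟶ (∐ fun _ : α => f) ⊞ ∐ fun _ : β => f)
    (fun a => Sigma.ι (fun _ : α => f) a ≫ biprod.inl) (fun b => Sigma.ι (fun _ : β => f) b ≫ biprod.inr) x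
  hom_inv_id := biprod.hom_ext' _ _ (Sigma.hom_ext _ _ fun a => by simp) (Sigma.hom_ext _ _ fun a => by simp)
  inv_hom_id := Sigma.hom_ext _ _ fun x => by cases x <;> simp

variable {n : ℕ} {R : Type u} [CommRing R]

/-- `O(d)` -/
abbrev O (d : ℤ) : (CohB1.ProjSpace n R).Modules := Twist.twistProjSpace n R d

theorem term_iso (b : ℤ) : ∀ (l : List (Pn.twFun n R (-1) ⟶ 𝟭 (CohB1.ProjSpace n R).Modules)) (p : ℕ),
    Nonempty (Kosz.term (O b) (Kosz.kosz (O b) l).Y p ≅ ∐ fun _ : Fin (Nat.choose l.length p) => O (n := n) (R := R) (b - p))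
  | l, 0 => by
    have e : b - ((0 : ℕ) : ℤ) = b := by simp
    have h : Nat.choose l.length 0 = 1 := Nat.choose_zero_right _
    rw [e, h]
    refine ⟨⟨Sigma.ι (fun _ : Fin 1 => O (n := n) (R := R) b) 0, Sigma.desc fun _ => 𝟙 _, ?_, ?_⟩⟩
    · exact Sigma.ι_desc _ _
    · refine Sigma.hom_ext _ _ fun i => ?_
      obtain rfl : i = 0 := Subsingleton.elim _ _
      rw [← Category.assoc, Sigma.ι_desc, Category.id_comp, Category.comp_id]
  | [], p + 1 => by
    refine ⟨(IsZero.of_iso (isZero_zero _) (HasZeroObject.zeroIsoTerminal).symm).iso ?_⟩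
    rw [List.length_nil, Nat.choose_zero_succ]
    exact (IsZero.iff_id_eq_zero _).mpr (Sigma.hom_ext _ _ fun i => Fin.elim0 i)
  | τ :: l, p + 1 => by
    obtain ⟨e₁⟩ := term_iso b l (p + 1)
    obtain ⟨e₂⟩ := term_iso b l p
    have : PreservesColimitsOfSize.{u, u} (Pn.twFun n R (-1)) := ProjTwist.Pn.preservesColimits_tensorFlip _ (O (-1))
    have : PreservesColimitsOfSize.{0, 0} (Pn.twFun n R (-1)) := preservesColimitsOfSize_shrink _
    let e₃ : (Pn.twFun n R (-1)).obj (O (b - p)) ≅ O (b - (p + 1 : ℕ)) :=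
      (nonempty_twistProjSpace_tensor n R (b - p) (-1)).some ≪≫ eqToIso (by congr 1; push_cast; ring)
    let e₄ : (Pn.twFun n R (-1)).obj (Kosz.term (O b) (Kosz.kosz (O b) l).Y p) ≅
        ∐ fun _ : Fin (Nat.choose l.length p) => O (n := n) (R := R) (b - (p + 1 : ℕ)) :=
      (Pn.twFun n R (-1)).mapIso e₂ ≪≫ PreservesCoproduct.iso _ _ ≪≫ Sigma.mapIso fun _ => e₃
    have hc : Nat.choose (τ :: l).length (p + 1) = Nat.choose l.length (p + 1) + Nat.choose l.length p := by
      rw [List.length_cons, Nat.choose_succ_succ', add_comm]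
    rw [hc]
    exact ⟨biprod.mapIso e₁ e₄ ≪≫ biprodSigmaIso _ ≪≫
      Sigma.whiskerEquiv (f := fun _ : Fin (Nat.choose l.length (p + 1)) ⊕ Fin (Nat.choose l.length p) =>
          O (n := n) (R := R) (b - (p + 1 : ℕ)))
        (g := fun _ : Fin (Nat.choose l.length (p + 1) + Nat.choose l.length p) => O (n := n) (R := R) (b - (p + 1 : ℕ)))
        finSumFinEquiv fun _ => Iso.refl _⟩

/-- Let A be a ring, X = P^n_A and a ∈ ℤ. There is a cochain complex of O_X-modules, exact in every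
degree, whose term in degree i is isomorphic to the direct sum of (n+1 choose i) copies of O_X(a +
i) for 0 ≤ i ≤ n + 1 and is zero in all other degrees. -/
theorem result (n : ℕ) (A : Type u) [CommRing A] (a : ℤ) :
    ∃ C : CochainComplex (CohB1.ProjSpace n A).Modules ℤ, (∀ i : ℤ, C.ExactAt i) ∧
      (∀ i : ℕ, i ≤ n + 1 → Nonempty (C.X (i : ℤ) ≅ ∐ fun _ : Fin (Nat.choose (n + 1) i) => Twist.twistProjSpace n A (a + i))) ∧
      (∀ i : ℤ, i < 0 ∨ (n : ℤ) + 1 < i → IsZero (C.X i)) := by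
  let b : ℤ := a + (n : ℤ) + 1
  let l := List.ofFn (Pn.mulX (n := n) (R := A))
  have hl : l.length = n + 1 := List.length_ofFn
  let K := Kosz.kosz (O (n := n) (R := A) b) l
  have hex : ∀ y, K.ExactAt y := fun y => Kosz.exactAt_kosz _ l y (Pn.exists_mulX_bijAt y)
  let D : ChainComplex (CohB1.ProjSpace n A).Modules ℕ :=
    ChainComplex.of (Kosz.term (O b) K.Y) K.d fun p => K.dd p
  have hD : ∀ p, D.ExactAt p := by
    intro p
    cases p with
    | zero =>
      rw [HomologicalComplex.exactAt_iff' D 1 0 0 (by simp) (by simp)]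
      refine Omega.Stalks.exact_of_stalk _ fun y t _ => ?_
      obtain ⟨u, hu⟩ := (hex y).1 t
      refine ⟨u, ?_⟩
      show stalkLin (D.d 1 0) y u = t
      rw [show D.d 1 0 = K.d 0 from ChainComplex.of_d _ _ 0]
      exact hu
    | succ p =>
      rw [HomologicalComplex.exactAt_iff' D (p + 2) (p + 1) p (by simp) (by simp)]
      refine Omega.Stalks.exact_of_stalk _ fun y t ht => ?_
      have ht' : stalkLin (D.d (p + 1) p) y t = 0 := ht
      rw [show D.d (p + 1) p = K.d p from ChainComplex.of_d _ _ p] at ht'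
      obtain ⟨u, hu⟩ := (hex y).2 p t ht'
      refine ⟨u, ?_⟩
      show stalkLin (D.d (p + 2) (p + 1)) y u = t
      rw [show D.d (p + 2) (p + 1) = K.d (p + 1) from ChainComplex.of_d _ _ (p + 1)]
      exact hu
  let e := ComplexShape.embeddingUpIntLE ((n : ℤ) + 1)
  have hX : ∀ p, n + 1 < p → IsZero (D.X p) := fun p hp => by
    obtain ⟨p, rfl⟩ : ∃ q, p = q + 1 := ⟨p - 1, by omega⟩
    exact Kosz.isZero_kosz l p (by omega)
  refine ⟨D.extend e, fun i => ?_, fun i hi => ?_, fun i hi => ?_⟩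
  · by_cases h : ∃ p, e.f p = i
    · obtain ⟨p, hp⟩ := h
      exact (D.extend_exactAt_iff e hp).2 (hD p)
    · exact D.extend_exactAt e i fun p hp => h ⟨p, hp⟩
  · have hp : e.f (n + 1 - i) = (i : ℤ) := by
      show ((n : ℤ) + 1) - ((n + 1 - i : ℕ) : ℤ) = i
      omega
    obtain ⟨e₁⟩ := term_iso b l (n + 1 - i)
    refine ⟨D.extendXIso e hp ≪≫ e₁ ≪≫ Sigma.whiskerEquiv (finCongr ?_) fun _ => eqToIso ?_⟩
    · rw [hl, Nat.choose_symm hi]
    · show O (a + i) = O (b - ((n + 1 - i : ℕ) : ℤ))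
      congr 1
      omega
  · by_cases h : ∃ p, e.f p = i
    · obtain ⟨p, hp⟩ := h
      refine (hX p ?_).of_iso (D.extendXIso e hp)
      have : ((n : ℤ) + 1) - (p : ℤ) = i := hp
      omega
    · exact D.isZero_extend_X e i fun p hp => h ⟨p, hp⟩

end

end Groth.Agent.S1071
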