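import Mathlib
import Groth.Prelude.Def_W4c3degenlocivbPfaff

/-! Pfaffians: base change, degree, tridiagonal matrices. -/

set_option autoImplicit false

open W4c3degenlocivb

namespace Groth.Agent.Pf84

theorem map_pf {R S : Type*} [CommRing R] [CommRing S] (φ : R →+* S) :
    ∀ (n : ℕ) (T : Matrix (Fin n) (Fin n) R), φ (pf n T) = pf n (T.map φ)
  | 0, _ => by simp [pf]
  | 1, _ => by simp [pf]
  | n + 2, T => by
    simp only [pf, map_sum, map_mul, map_pow, map_neg, map_one, Matrix.map_apply]
    refine Finset.sum_congr rfl fun j _ => ?_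
    rw [map_pf φ n, Matrix.submatrix_map]

theorem isHomogeneous_pf {R σ : Type*} [CommRing R] :
    ∀ (m : ℕ) (T : Matrix (Fin (2 * m)) (Fin (2 * m)) (MvPolynomial σ R)),
      (∀ a b, (T a b).IsHomogeneous 1) → (pf (2 * m) T).IsHomogeneous m
  | 0, _, _ => MvPolynomial.isHomogeneous_one σ R
  | m + 1, T, hT => by
    show (pf (2 * m + 2) T).IsHomogeneous (m + 1)
    rw [pf]
    refine MvPolynomial.IsHomogeneous.sum _ _ _ fun j _ => ?_
    rw [show m + 1 = 0 + 1 + m by omega]
    refine ((MvPolynomial.IsHomogeneous.mul ?_ (hT _ _)).mul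
      (isHomogeneous_pf m _ fun a b => hT _ _))
    rw [show ((-1 : MvPolynomial σ R)) = MvPolynomial.C (-1) by simp, ← map_pow]
    exact MvPolynomial.isHomogeneous_C σ _

/-- The Pfaffian of a tridiagonal alternating matrix. -/
theorem pf_tridiagonal {R : Type*} [CommRing R] :
    ∀ (m : ℕ) (T : Matrix (Fin (2 * m)) (Fin (2 * m)) R),
      (∀ a b, a.val + 1 ≠ b.val → b.val + 1 ≠ a.val → T a b = 0) → (∀ a b, T b a = -T a b) →
      pf (2 * m) T = ∏ i : Fin m, T ⟨2 * i.val, by omega⟩ ⟨2 * i.val + 1, by omega⟩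
  | 0, _, _, _ => by simp [pf]
  | m + 1, T, h0, halt => by
    show pf (2 * m + 2) T = _
    rw [pf, Finset.sum_eq_single (Fin.last (2 * m))]
    · rw [pf_tridiagonal m (T.submatrix (Fin.castSucc ∘ (Fin.last (2 * m)).succAbove)
          (Fin.castSucc ∘ (Fin.last (2 * m)).succAbove)) (fun a b ha hb => h0 _ _ ?_ ?_) (fun a b => halt _ _), Fin.prod_univ_castSucc,
        mul_comm]
      · congr 1
        · refine Finset.prod_congr rfl fun i _ => ?_
          simp only [Matrix.submatrix_apply, Function.comp_apply, Fin.succAbove_last]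
          rfl
        · simp only [Fin.val_last]
          rw [halt, show ((-1 : R)) ^ (2 * m + 1) = -1 by
            rw [pow_succ, pow_mul]; simp]
          simp only [neg_mul, one_mul, neg_neg]
          rfl
      · simpa [Fin.succAbove_last] using ha
      · simpa [Fin.succAbove_last] using hb
    · intro j _ hj
      have hjv : j.val ≠ 2 * m := fun h => hj (Fin.ext h)
      rw [h0 (Fin.last (2 * m + 1)) (Fin.castSucc j) (by simp; omega) (by simp; omega), mul_zero, zero_mul]
    · intro h
      exact absurd (Finset.mem_univ _) h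

end Groth.Agent.Pf84
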