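import Groth.Statements.S1340
import Mathlib.AlgebraicGeometry.Normalization
import Mathlib.AlgebraicGeometry.Morphisms.Proper

set_option autoImplicit false
universe u
open FlatMor

namespace Groth.Agent.S1340

section
open AlgebraicGeometry CategoryTheory Limits TopologicalSpace Opposite

set_option backward.isDefEq.respectTransparency false

theorem integralClosure_top {X S : Scheme.{u}} (f : X ⟶ S) [UniversallyClosed f]
    {V : S.Opens} (hV : IsAffineOpen V) : (f.app V).hom.IsIntegral := by
  haveI : IsAffine (V : Scheme.{u}) := hV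
  haveI : UniversallyClosed (f ∣_ V) :=
    MorphismProperty.of_isPullback (isPullback_morphismRestrict f V).flip inferInstance
  have h := isIntegral_appTop_of_universallyClosed (f ∣_ V)
  have hiso : Arrow.mk (f ∣_ V).appTop ≅ Arrow.mk (f.app V) := by
    refine Arrow.isoMk V.topIso (f ⁻¹ᵁ V).topIso ?_
    simp [Scheme.Hom.appTop, Scheme.Opens.topIso, Scheme.Hom.app_eq_appLE,
      Scheme.Hom.resLE, morphismRestrict_app, Scheme.Hom.map_appLE, Scheme.Hom.appLE_map]
  haveI : (RingHom.toMorphismProperty fun f => f.IsIntegral).RespectsIso :=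
    RingHom.toMorphismProperty_respectsIso_iff.mp RingHom.isIntegral_respectsIso
  exact ((RingHom.toMorphismProperty fun f => f.IsIntegral).arrow_mk_iso_iff hiso).1 h

theorem isIso_app_preimage {X S : Scheme.{u}} (f : X ⟶ S) [UniversallyClosed f] [QuasiSeparated f]
    (V : S.affineOpens) : IsIso (f.toNormalization.app (f.fromNormalization ⁻¹ᵁ V.1)) := by
  letI := (f.app V.1).hom.toAlgebra
  have h : IsIso (CommRingCat.ofHom
      (integralClosure Γ(S, V.1) Γ(X, f ⁻¹ᵁ V.1)).val.toRingHom) := by
    rw [ConcreteCategory.isIso_iff_bijective]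
    refine ⟨Subtype.val_injective, fun x => ⟨⟨x, ?_⟩, rfl⟩⟩
    exact integralClosure_top f V.2 x
  rw [f.toNormalization_app_preimage V]
  exact @IsIso.comp_isIso _ _ _ _ _ _ _ inferInstance (@IsIso.comp_isIso _ _ _ _ _ _ _ h inferInstance)

theorem isIso_app_basicOpen {X Y : Scheme.{u}} (π : X ⟶ Y) [QuasiCompact π] [QuasiSeparated π]
    {A : Y.Opens} (hA : IsAffineOpen A) (h : IsIso (π.app A)) (r : Γ(Y, A)) :
    IsIso (π.app (Y.basicOpen r)) := by
  haveI := hA.isLocalization_basicOpen r
  let e : Γ(Y, A) ≅ Γ(X, π ⁻¹ᵁ A) := @asIso _ _ _ _ (π.app A) h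
  have hqs : IsQuasiSeparated ((π ⁻¹ᵁ A : X.Opens) : Set X) :=
    π.isQuasiSeparated_preimage hA.isQuasiSeparated
  haveI := isLocalization_basicOpen_of_qcqs (π.isCompact_preimage hA.isCompact) hqs (π.app A r)
  let σ := (IsLocalization.ringEquivOfRingEquiv (M := Submonoid.powers r)
    (T := Submonoid.powers (π.app A r)) Γ(Y, Y.basicOpen r) Γ(X, X.basicOpen (π.app A r))
    e.commRingCatIsoToRingEquiv (by rw [Submonoid.map_powers]; rfl))
  let res := X.presheaf.map (eqToHom (π.preimage_basicOpen r).symm).op
  have : π.app (Y.basicOpen r) ≫ res = CommRingCat.ofHom σ.toRingHom := by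
    refine CommRingCat.hom_ext (IsLocalization.ringHom_ext (Submonoid.powers r) (RingHom.ext fun a => ?_))
    show res (π.app (Y.basicOpen r) (algebraMap Γ(Y, A) _ a)) = σ (algebraMap Γ(Y, A) _ a)
    rw [IsLocalization.ringEquivOfRingEquiv_eq]
    show ((Y.presheaf.map (homOfLE (Y.basicOpen_le r)).op ≫ π.app (Y.basicOpen r)) ≫ res) a =
      (π.app A ≫ X.presheaf.map (homOfLE (X.basicOpen_le _)).op) a
    rw [Scheme.Hom.naturality, Category.assoc]
    simp only [res, ← Functor.map_comp]
    rfl
  have hb : IsIso (π.app (Y.basicOpen r) ≫ res) := by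
    rw [this]; exact σ.toCommRingCatIso.isIso_hom
  exact IsIso.of_isIso_comp_right (π.app (Y.basicOpen r)) res

end

open AlgebraicGeometry CategoryTheory Limits in
/-- Stein factorization, universally closed case: let f : X ⟶ S be universally closed and
quasi-separated, and let X ⟶ X' ⟶ S be its factorization through the normalization X' of S in X.
Then the canonical morphism X ⟶ X' identifies the structure sheaf of X' with the pushforward of the
structure sheaf of X: for every open U of X' the induced map from O_{X'}(U) to the sections of O_X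
over the inverse image of U is an isomorphism. (That X ⟶ X' is surjective and universally closed and
that X' ⟶ S is integral are separate facts not restated here.) -/
theorem result {X S : Scheme.{u}} (f : X ⟶ S) [UniversallyClosed f] [QuasiSeparated f]
    (U : f.normalization.Opens) : IsIso (f.toNormalization.app U) := by
  let π := f.toNormalization
  let φ : f.normalization.sheaf ⟶ (TopCat.Sheaf.pushforward _ π.base).obj X.sheaf := ⟨π.c⟩
  let B : { p : S.affineOpens × f.normalization.Opens //
      ∃ r : Γ(f.normalization, f.fromNormalization ⁻¹ᵁ p.1.1), p.2 = f.normalization.basicOpen r } →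
      f.normalization.Opens := fun p => p.1.2
  have hB : TopologicalSpace.Opens.IsBasis (Set.range B) := by
    rw [TopologicalSpace.Opens.isBasis_iff_nbhd]
    intro O x hx
    obtain ⟨_, ⟨V, hV, rfl⟩, hxV, -⟩ :=
      S.isBasis_affineOpens.exists_subset_of_mem_open (Set.mem_univ (f.fromNormalization x)) isOpen_univ
    obtain ⟨r, hr, hxr⟩ := (hV.preimage f.fromNormalization).exists_basicOpen_le ⟨x, hx⟩ hxV
    exact ⟨_, ⟨⟨(⟨V, hV⟩, _), r, rfl⟩, rfl⟩, hxr, hr⟩
  have hφ : IsIso φ := by
    refine TopCat.Sheaf.isIso_iff_isIso_basis hB ?_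
    rintro ⟨⟨V, O⟩, r, hO⟩
    show IsIso (π.app O)
    rw [show O = f.normalization.basicOpen r from hO]
    exact isIso_app_basicOpen π (V.2.preimage f.fromNormalization) (isIso_app_preimage f V) r
  exact (NatTrans.isIso_iff_isIso_app _).1 ((TopCat.Sheaf.forget _ _).map_isIso φ) (Opposite.op U)

end Groth.Agent.S1340
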