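import Groth.Statements.S3701
import Groth.Agent.FEtCat.SteinFlat
import Groth.Agent.FlatMor.GeomDescent
-- import your own Groth.Agent.* helpers here

set_option backward.isDefEq.respectTransparency.types false

set_option autoImplicit false
universe u
open Pi1

namespace Groth.Agent.S3701

open AlgebraicGeometry CategoryTheory CategoryTheory.Limits

theorem appTop_morphismRestrict {P : ∀ {A B : Type u} [CommRing A] [CommRing B], (A →+* B) → Prop}
    (hP : RingHom.RespectsIso P) {Y X : Scheme.{u}} (π : Y ⟶ X) (U : X.Opens) (h : P (π.app U).hom) :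
    P (π ∣_ U).appTop.hom := by
  have key : ∀ V : X.Opens, V = U → P (π.app V).hom := by rintro V rfl; exact h
  rw [morphismRestrict_appTop]
  exact (hP.cancel_right_isIso (π.app _) (Y.presheaf.map _)).mpr (key _ U.ι_image_top)

theorem geometricallyReduced_of_algClosed {X S : Scheme.{u}} (f : X ⟶ S)
    (hred : ∀ (Ω : Type u) [Field Ω] [IsAlgClosed Ω] (σ : Spec (CommRingCat.of Ω) ⟶ S),
      IsReduced (pullback f σ)) : GeometricallyReduced f := by
  refine ⟨fun K _ σ Y fst snd h => ?_⟩
  let ι : Spec (CommRingCat.of (AlgebraicClosure K)) ⟶ Spec (CommRingCat.of K) :=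
    Spec.map (CommRingCat.ofHom (algebraMap K (AlgebraicClosure K)))
  have : Flat ι := Flat.SpecMap_iff.mpr (RingHom.flat_algebraMap_iff.mpr inferInstance)
  have : Surjective ι := ⟨fun x => ⟨default, Subsingleton.elim _ _⟩⟩
  have := hred (AlgebraicClosure K) (ι ≫ σ)
  have hc := (IsPullback.of_hasPullback snd ι).paste_horiz h
  have : IsReduced (pullback snd ι) :=
    isReduced_of_isOpenImmersion (hc.flip.isoPullback.hom ≫ (pullbackSymmetry _ _).hom)
  exact FlatMor.GeomDescent.isReduced_of_flat_surjective (pullback.fst snd ι)

attribute [local instance] VarBC.H0.topAlgebra in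
theorem formallyUnramified_fromNormalization_of_field {k : Type u} [Field k] {Z : Scheme.{u}}
    (h : Z ⟶ Spec (CommRingCat.of k)) [IsProper h] [GeometricallyReduced h] :
    FormallyUnramified h.fromNormalization := by
  letI : Z.Over (Spec (CommRingCat.of k)) := ⟨h⟩
  haveI : IsProper (Z ↘ Spec (CommRingCat.of k)) := ‹IsProper h›
  haveI : GeometricallyReduced (Z ↘ Spec (CommRingCat.of k)) := ‹GeometricallyReduced h›
  have het := CBC.GeomRedEtale.etale_top k Z
  have hunr : h.appTop.hom.FormallyUnramified := by
    have h1 : (algebraMap k Γ(Z, ⊤)).Etale := RingHom.etale_algebraMap.mpr het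
    have h2 := h1.formallyUnramified
    exact (RingHom.FormallyUnramified.respectsIso.cancel_left_isIso
      (Scheme.ΓSpecIso (CommRingCat.of k)).inv h.appTop).mp h2
  haveI : IsAffine h.normalization := isAffine_of_isAffineHom h.fromNormalization
  rw [HasRingHomProperty.iff_of_isAffine (P := @FormallyUnramified)]
  have e : h ⁻¹ᵁ ⊤ ≤ h.toNormalization ⁻¹ᵁ (h.fromNormalization ⁻¹ᵁ ⊤) := le_top
  haveI := S7857.bijective_toNormalization_appLE h (isAffineOpen_top _) e
  have eU : h.appTop = h.fromNormalization.appTop ≫ h.toNormalization.appTop := by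
    rw [← Scheme.Hom.comp_appTop, h.toNormalization_fromNormalization]
  haveI : IsIso h.toNormalization.appTop := by
    rw [Scheme.Hom.appTop, Scheme.Hom.app_eq_appLE]; assumption
  rw [eU, CommRingCat.hom_comp] at hunr
  replace hunr := (RingHom.FormallyUnramified.respectsIso.cancel_right_isIso _ _).mp hunr
  exact hunr

end Groth.Agent.S3701

namespace Groth.Agent.S3701

open AlgebraicGeometry CategoryTheory CategoryTheory.Limits in
/-- Let f : X -> S be proper, flat and of finite presentation with geometrically reduced fibres. Then in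
the Stein factorization X -> S' -> S, where S' is the normalization of S in X, the morphism S' -> S
is finite etale. -/
theorem result {X S : Scheme.{u}} (f : X ⟶ S) [IsProper f] [Flat f]
    [LocallyOfFinitePresentation f]
    (hred : ∀ (Ω : Type u) [Field Ω] [IsAlgClosed Ω] (σ : Spec (CommRingCat.of Ω) ⟶ S), IsReduced (pullback f σ)) :
    IsFinite f.fromNormalization ∧ Etale f.fromNormalization := by
  haveI := geometricallyReduced_of_algClosed f hred
  haveI : IsAffineHom f.fromNormalization := inferInstance
  have hloc : ∀ s : S, ∃ U : S.Opens, s ∈ U ∧ IsFinite (f.fromNormalization ∣_ U) ∧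
      Flat (f.fromNormalization ∣_ U) ∧ LocallyOfFinitePresentation (f.fromNormalization ∣_ U) := by
    intro s
    obtain ⟨U, hU, hsU, hP⟩ := Groth.Agent.FEtCat.SteinFlat.exists_finite_flat f s
    haveI : IsAffine U.toScheme := hU
    haveI : IsAffine (f.fromNormalization ⁻¹ᵁ U).toScheme := hU.preimage _
    have eτ : f ⁻¹ᵁ U ≤ f.toNormalization ⁻¹ᵁ (f.fromNormalization ⁻¹ᵁ U) := by
      simp [← Scheme.Hom.comp_preimage]
    haveI := S7857.bijective_toNormalization_appLE f hU eτ
    have eU : f.app U = f.fromNormalization.app U ≫ f.toNormalization.appLE _ _ eτ := by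
      rw [f.app_eq_appLE, f.fromNormalization.app_eq_appLE, Scheme.Hom.appLE_comp_appLE]
      simp only [Scheme.Hom.toNormalization_fromNormalization]
    rw [eU, CommRingCat.hom_comp, RingHom.finite_respectsIso.cancel_right_isIso,
      RingHom.Flat.respectsIso.cancel_right_isIso,
      RingHom.finitePresentation_respectsIso.cancel_right_isIso] at hP
    refine ⟨U, hsU, ?_, ?_, ?_⟩
    · rw [HasAffineProperty.iff_of_isAffine (P := @IsFinite)]
      refine ⟨inferInstance, ?_⟩
      exact appTop_morphismRestrict RingHom.finite_respectsIso _ U hP.1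
    · rw [HasRingHomProperty.iff_of_isAffine (P := @Flat)]
      exact appTop_morphismRestrict RingHom.Flat.respectsIso _ U hP.2.1
    · rw [HasRingHomProperty.iff_of_isAffine (P := @LocallyOfFinitePresentation)]
      exact appTop_morphismRestrict RingHom.finitePresentation_respectsIso _ U hP.2.2
  have hfin : IsFinite f.fromNormalization :=
    IsZariskiLocalAtTarget.of_forall_exists_morphismRestrict (P := @IsFinite) fun s =>
      let ⟨U, hs, h, _⟩ := hloc s; ⟨U, hs, h⟩
  have hflat : Flat f.fromNormalization :=
    IsZariskiLocalAtTarget.of_forall_exists_morphismRestrict (P := @Flat) fun s =>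
      let ⟨U, hs, _, h, _⟩ := hloc s; ⟨U, hs, h⟩
  have hlfp : LocallyOfFinitePresentation f.fromNormalization :=
    IsZariskiLocalAtTarget.of_forall_exists_morphismRestrict (P := @LocallyOfFinitePresentation) fun s =>
      let ⟨U, hs, _, _, h⟩ := hloc s; ⟨U, hs, h⟩
  have hunr : FormallyUnramified f.fromNormalization := by
    refine Groth.Agent.UnramFib.formallyUnramified_of_fibers f.fromNormalization fun y => ?_
    have hp : IsProper (pullback.snd f (S.fromSpecResidueField y)) :=
      MorphismProperty.pullback_snd _ _ ‹IsProper f›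
    have hr : GeometricallyReduced (pullback.snd f (S.fromSpecResidueField y)) := inferInstance
    have h := @formallyUnramified_fromNormalization_of_field (S.residueField y) _ _
      (pullback.snd f (S.fromSpecResidueField y)) hp hr
    have hn := S7857.result f (S.fromSpecResidueField y)
    have h2 : FormallyUnramified
        (f.normalizationPullback (S.fromSpecResidueField y) ≫
          pullback.snd f.fromNormalization (S.fromSpecResidueField y)) := by
      rw [Scheme.Hom.normalizationPullback_snd]
      exact h
    exact (@MorphismProperty.cancel_left_of_respectsIso _ _ @FormallyUnramified _ _ _ _ _ _ hn).mp h2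
  exact ⟨hfin, Etale.of_formallyUnramified_of_flat f.fromNormalization⟩

end Groth.Agent.S3701
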