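import Groth.Statements.S17901
import Mathlib.RingTheory.Flat.Equalizer
import Mathlib.LinearAlgebra.TensorProduct.Prod
import Groth.Agent.FlatMor.FlatLemmas

set_option autoImplicit false
universe u
open TensorProduct
open Pinch

namespace Groth.Agent.S17901

/-- Let R be a commutative ring and let B' → B → A, B' → A' → A be a fibre square of R-algebras (B' = B
×_A A') with A' → A surjective, where B, A' and A are flat over R. Then for every commutative
R-algebra R' the square obtained by applying R' ⊗_R − is again a fibre square: R' ⊗_R A' → R' ⊗_R A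
is surjective and every pair of elements of R' ⊗_R B and R' ⊗_R A' with the same image in R' ⊗_R A
is the image of a unique element of R' ⊗_R B'. (The published lemma concludes that the base-changed
square of spectra is co-cartesian in ringed spaces; this row states the ring form, surjective edge
and fibre product, which its proof establishes before translating it to ringed spaces.) -/
theorem result (R B' B A' A : Type u) [CommRing R] [CommRing B'] [CommRing B] [CommRing A'] [CommRing A]
    [Algebra B' B] [Algebra B' A'] [Algebra B A] [Algebra A' A] [Algebra B' A]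
    [IsScalarTower B' B A] [IsScalarTower B' A' A]
    [Algebra R B'] [Algebra R B] [Algebra R A'] [Algebra R A]
    [IsScalarTower R B' B] [IsScalarTower R B' A'] [IsScalarTower R B' A] [IsScalarTower R B A] [IsScalarTower R A' A]
    (hsq : EtMil.IsFibreSquare B' B A' A)
    [Module.Flat R B] [Module.Flat R A'] [Module.Flat R A]
    (R' : Type u) [CommRing R'] [Algebra R R'] :
    Function.Surjective (Algebra.TensorProduct.map (AlgHom.id R R') (IsScalarTower.toAlgHom R A' A)) ∧
    ∀ (x : R' ⊗[R] B) (y : R' ⊗[R] A'),
      Algebra.TensorProduct.map (AlgHom.id R R') (IsScalarTower.toAlgHom R B A) x =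
        Algebra.TensorProduct.map (AlgHom.id R R') (IsScalarTower.toAlgHom R A' A) y →
      ∃! z : R' ⊗[R] B',
        Algebra.TensorProduct.map (AlgHom.id R R') (IsScalarTower.toAlgHom R B' B) z = x ∧
        Algebra.TensorProduct.map (AlgHom.id R R') (IsScalarTower.toAlgHom R B' A') z = y := by
  let f : (B × A') →ₗ[R] A := (IsScalarTower.toAlgHom R B A).toLinearMap.comp (LinearMap.fst R B A') -
    (IsScalarTower.toAlgHom R A' A).toLinearMap.comp (LinearMap.snd R B A')
  let g : B' →ₗ[R] B × A' :=
    (IsScalarTower.toAlgHom R B' B).toLinearMap.prod (IsScalarTower.toAlgHom R B' A').toLinearMap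
  have hf : Function.Surjective f := fun a => by
    obtain ⟨a', ha'⟩ := hsq.1 (-a)
    exact ⟨(0, a'), by simp [f, ha']⟩
  have hcomm : ∀ z, algebraMap B A (algebraMap B' B z) = algebraMap A' A (algebraMap B' A' z) :=
    fun z => by rw [← IsScalarTower.algebraMap_apply, ← IsScalarTower.algebraMap_apply]
  have hg : Function.Injective g := fun z w h => by
    obtain ⟨h₁, h₂⟩ := Prod.ext_iff.mp h
    exact (hsq.2 _ _ (hcomm z)).unique ⟨rfl, rfl⟩ ⟨h₁.symm, h₂.symm⟩
  have H : Function.Exact g f := fun x => by
    constructor
    · intro h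
      obtain ⟨z, ⟨hz₁, hz₂⟩, -⟩ := hsq.2 x.1 x.2 (sub_eq_zero.mp h)
      exact ⟨z, Prod.ext hz₁ hz₂⟩
    · rintro ⟨z, rfl⟩
      exact sub_eq_zero.mpr (hcomm z)
  refine ⟨fun a => ?_, fun x y hxy => ?_⟩
  · exact LinearMap.lTensor_surjective R' (g := (IsScalarTower.toAlgHom R A' A).toLinearMap) hsq.1 a
  have hinj := LinearMap.lTensor_injective_of_exact_of_flat f hf g hg H R'
  have hex := lTensor_exact R' H hf
  let e := TensorProduct.prodRight R R R' B A'
  have hsnd : ∀ w, (e w).2 = (LinearMap.snd R B A').lTensor R' w := by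
    intro w
    induction w with
    | zero => simp
    | tmul r p => simp [e]
    | add w w' h h' => simp [h, h']
  have hfst : ∀ w, (e w).1 = (LinearMap.fst R B A').lTensor R' w := by
    intro w
    induction w with
    | zero => simp
    | tmul r p => simp [e]
    | add w w' h h' => simp [h, h']
  have h₁ : ∀ z, Algebra.TensorProduct.map (AlgHom.id R R') (IsScalarTower.toAlgHom R B' B) z =
      (e (g.lTensor R' z)).1 := by
    intro z
    rw [hfst, ← LinearMap.lTensor_comp_apply]; rfl
  have h₂ : ∀ z, Algebra.TensorProduct.map (AlgHom.id R R') (IsScalarTower.toAlgHom R B' A') z =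
      (e (g.lTensor R' z)).2 := by
    intro z
    rw [hsnd, ← LinearMap.lTensor_comp_apply]; rfl
  obtain ⟨w, hw⟩ := e.surjective (x, y)
  have h0 : f.lTensor R' w = 0 := by
    simp only [f, LinearMap.lTensor_sub, LinearMap.sub_apply, LinearMap.lTensor_comp_apply, ← hfst,
      ← hsnd, hw]
    exact sub_eq_zero.mpr hxy
  obtain ⟨z, rfl⟩ := (hex w).mp h0
  refine ⟨z, ⟨by rw [h₁, hw], by rw [h₂, hw]⟩, fun z' hz' => ?_⟩
  refine hinj (e.injective ?_)
  rw [hw, ← hz'.1, ← hz'.2, h₁, h₂]

end Groth.Agent.S17901
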