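import Mathlib

set_option autoImplicit false

open Topology

namespace Groth.Agent.ProC84

universe u v

/-- An abelian group killed by `n ≠ 0` with an element in every nonzero subgroup is finite. -/
theorem finite_ker_of_cocyclic {A : Type u} [AddCommGroup A] {a : A} (ha : a ≠ 0)
    (h : ∀ B : AddSubgroup A, B ≠ ⊥ → a ∈ B) :
    ∀ n : ℕ, n ≠ 0 → {x : A | n • x = 0}.Finite := by
  intro n
  induction n using Nat.recOnMul with
  | zero => intro h0; exact absurd rfl h0
  | one => intro _; simp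
  | prime q hq =>
    intro _
    by_cases hqa : q • a = 0
    · have hfin : ((AddSubgroup.zmultiples a : AddSubgroup A) : Set A).Finite :=
        finite_zmultiples.2 (isOfFinAddOrder_iff_nsmul_eq_zero.2 ⟨q, hq.pos, hqa⟩)
      refine hfin.subset fun x (hx : q • x = 0) => ?_
      by_cases hx0 : x = 0
      · subst hx0; exact zero_mem _
      obtain ⟨k, hk⟩ := AddSubgroup.mem_zmultiples_iff.1
        (h (AddSubgroup.zmultiples x) (AddSubgroup.zmultiples_ne_bot.2 hx0))
      have hxq : (q : ℤ) • x = 0 := by rw [natCast_zsmul]; exact hx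
      have hcop : IsCoprime k (q : ℤ) := by
        refine ((Nat.prime_iff_prime_int.1 hq).coprime_iff_not_dvd.2 ?_).symm
        rintro ⟨m, rfl⟩
        apply ha
        rw [← hk, mul_comm, mul_smul, hxq, smul_zero]
      obtain ⟨u, v, huv⟩ := hcop
      refine AddSubgroup.mem_zmultiples_iff.2 ⟨u, ?_⟩
      calc u • a = (u * k) • x + (v * (q : ℤ)) • x := by
            rw [mul_smul v, hxq, smul_zero, add_zero, mul_smul, hk]
        _ = x := by rw [← add_smul, huv, one_smul]
    · refine (Set.finite_singleton (0 : A)).subset fun x (hx : q • x = 0) => ?_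
      by_contra hx0
      obtain ⟨k, hk⟩ := AddSubgroup.mem_zmultiples_iff.1
        (h (AddSubgroup.zmultiples x) (AddSubgroup.zmultiples_ne_bot.2 hx0))
      exact hqa (by rw [← hk, smul_comm, hx, smul_zero])
  | mul b c hb hc =>
    intro hbc
    rw [mul_ne_zero_iff] at hbc
    have hb' := hb hbc.1
    have hc' := hc hbc.2
    refine (hc'.biUnion (t := fun y => {x : A | b • x = y}) fun y _ => ?_).subset ?_
    · rcases Set.eq_empty_or_nonempty {x : A | b • x = y} with he | ⟨x₀, hx₀⟩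
      · rw [he]; exact Set.finite_empty
      · refine (hb'.image (x₀ + ·)).subset fun x (hx : b • x = y) => ⟨x - x₀, ?_, by simp⟩
        show b • (x - x₀) = 0
        rw [smul_sub, hx, (hx₀ : b • x₀ = y), sub_self]
    · intro x (hx : (b * c) • x = 0)
      refine Set.mem_biUnion (x := b • x) ?_ rfl
      show c • b • x = 0
      rw [← mul_smul, mul_comm, hx]

theorem finite_of_cocyclic {A : Type u} [AddCommGroup A] {n : ℕ} (hn : n ≠ 0)
    (hA : ∀ x : A, n • x = 0) {a : A} (ha : a ≠ 0)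
    (h : ∀ B : AddSubgroup A, B ≠ ⊥ → a ∈ B) : Finite A := by
  refine Set.finite_univ_iff.1 ((finite_ker_of_cocyclic ha h n hn).subset fun x _ => hA x)

/-- A maximal subgroup containing `U` and avoiding `a`. -/
theorem exists_maximal_avoid {A : Type u} [AddCommGroup A] (U : AddSubgroup A) {a : A}
    (ha : a ∉ U) :
    ∃ H : AddSubgroup A, U ≤ H ∧ a ∉ H ∧
      ∀ B : AddSubgroup (A ⧸ H), B ≠ ⊥ → (a : A ⧸ H) ∈ B := by
  obtain ⟨H, hUH, hH⟩ := zorn_le_nonempty₀ {H : AddSubgroup A | U ≤ H ∧ a ∉ H}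
    (fun c hc hchain y hy => ⟨sSup c, ⟨(hc hy).1.trans (le_sSup hy), by
      rw [AddSubgroup.mem_sSup_of_directedOn ⟨y, hy⟩ hchain.directedOn]
      rintro ⟨s, hs, has⟩
      exact (hc hs).2 has⟩, fun z hz => le_sSup hz⟩) U ⟨le_rfl, ha⟩
  refine ⟨H, hUH, hH.prop.2, fun B hB => ?_⟩
  by_contra haB
  apply hB
  have hle : H ≤ B.comap (QuotientAddGroup.mk' H) := fun x hx => by
    show ((x : A ⧸ H)) ∈ B
    rw [(QuotientAddGroup.eq_zero_iff x).2 hx]; exact zero_mem _
  have heq := le_antisymm (hH.le_of_ge (y := B.comap (QuotientAddGroup.mk' H))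
    ⟨hUH.trans hle, haB⟩ hle) hle
  rw [eq_bot_iff]
  intro y hy
  obtain ⟨x, rfl⟩ := QuotientAddGroup.mk'_surjective H y
  rw [AddSubgroup.mem_bot, QuotientAddGroup.mk'_apply, QuotientAddGroup.eq_zero_iff, ← heq]
  exact hy

/-- A subgroup containing all multiples by `n` extends to a finite index one avoiding `a`. -/
theorem exists_finiteIndex_avoid {A : Type u} [AddCommGroup A] (U : AddSubgroup A) {n : ℕ}
    (hn : n ≠ 0) (hU : ∀ x : A, n • x ∈ U) {a : A} (ha : a ∉ U) :
    ∃ H : AddSubgroup A, U ≤ H ∧ a ∉ H ∧ H.FiniteIndex := by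
  obtain ⟨H, hUH, haH, hH⟩ := exists_maximal_avoid U ha
  have : Finite (A ⧸ H) := by
    refine finite_of_cocyclic hn ?_ (fun h0 => haH ((QuotientAddGroup.eq_zero_iff a).1 h0)) hH
    intro y
    obtain ⟨x, rfl⟩ := QuotientAddGroup.mk_surjective y
    rw [← QuotientAddGroup.mk_nsmul, QuotientAddGroup.eq_zero_iff]
    exact hUH (hU x)
  exact ⟨H, hUH, haH, AddSubgroup.finiteIndex_of_finite_quotient⟩

/-- Finitely generated abelian groups are residually finite. -/
theorem exists_finiteIndex_avoid_fg {A : Type u} [AddCommGroup A] [AddGroup.FG A]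
    {a : A} (ha : a ≠ 0) : ∃ H : AddSubgroup A, H.FiniteIndex ∧ a ∉ H := by
  obtain ⟨H, -, haH, hH⟩ := exists_maximal_avoid (⊥ : AddSubgroup A) (by simpa using ha)
  have ha' : (a : A ⧸ H) ≠ 0 := fun h0 => haH ((QuotientAddGroup.eq_zero_iff a).1 h0)
  have hza : IsOfFinAddOrder (a : A ⧸ H) := by
    by_contra hnot
    have h2 : AddSubgroup.zmultiples ((2 : ℤ) • (a : A ⧸ H)) ≠ ⊥ :=
      AddSubgroup.zmultiples_ne_bot.2 fun h0 => hnot (isOfFinAddOrder_iff_zsmul_eq_zero.2
        ⟨2, two_ne_zero, h0⟩)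
    obtain ⟨m, hm⟩ := AddSubgroup.mem_zmultiples_iff.1 (hH _ h2)
    refine hnot (isOfFinAddOrder_iff_zsmul_eq_zero.2 ⟨m * 2 - 1, by omega, ?_⟩)
    rw [sub_smul, mul_smul, hm, one_smul, sub_self]
  have htors : AddMonoid.IsTorsion (A ⧸ H) := by
    intro y
    by_contra hnot
    have hy : AddSubgroup.zmultiples y ≠ ⊥ :=
      AddSubgroup.zmultiples_ne_bot.2 fun h0 => hnot (h0 ▸ IsOfFinAddOrder.zero)
    obtain ⟨k, hk⟩ := AddSubgroup.mem_zmultiples_iff.1 (hH _ hy)
    obtain ⟨m, hm0, hm⟩ := isOfFinAddOrder_iff_zsmul_eq_zero.1 hza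
    have hk0 : k ≠ 0 := by
      rintro rfl
      exact ha' (by rw [← hk, zero_smul])
    refine hnot (isOfFinAddOrder_iff_zsmul_eq_zero.2 ⟨m * k, mul_ne_zero hm0 hk0, ?_⟩)
    rw [mul_smul, hk, hm]
  have : Finite (A ⧸ H) := AddCommGroup.finite_of_fg_torsion _ htors
  exact ⟨H, AddSubgroup.finiteIndex_of_finite_quotient, haH⟩

/-- In a finitely generated abelian group finitely many nonzero elements are avoided by one finite
index subgroup. -/
theorem exists_finiteIndex_avoid_finset {A : Type u} [AddCommGroup A] [AddGroup.FG A]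
    (F : Finset A) : ∃ H : AddSubgroup A, H.FiniteIndex ∧ ∀ x ∈ F, x ∈ H → x = 0 := by
  classical
  induction F using Finset.induction with
  | empty => exact ⟨⊤, inferInstance, by simp⟩
  | @insert a F _ ih =>
    obtain ⟨H, hH, hF⟩ := ih
    by_cases ha : a = 0
    · refine ⟨H, hH, fun x hx hxH => ?_⟩
      rcases Finset.mem_insert.1 hx with rfl | hx
      exacts [ha, hF x hx hxH]
    obtain ⟨H', hH', haH'⟩ := exists_finiteIndex_avoid_fg ha
    refine ⟨H ⊓ H', inferInstance, fun x hx hxH => ?_⟩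
    rcases Finset.mem_insert.1 hx with rfl | hx
    exacts [absurd hxH.2 haH', hF x hx hxH.1]

/-- Extension of characters. -/
theorem exists_char_ext {A : Type u} {G : Type v} [AddCommGroup A] [AddCommGroup G]
    (f : A →+ G) (χ : A →+ ℚ ⧸ AddSubgroup.zmultiples (1 : ℚ)) (h : f.ker ≤ χ.ker) :
    ∃ ψ : G →+ ℚ ⧸ AddSubgroup.zmultiples (1 : ℚ), ψ.comp f = χ := by
  let : DivisibleBy (ℚ ⧸ AddSubgroup.zmultiples (1 : ℚ)) ℤ :=
    inferInstanceAs (DivisibleBy (AddCircle (1 : ℚ)) ℤ)
  obtain ⟨ψ, hψ⟩ := (Module.Baer.of_divisible _).extension_property_addMonoidHom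
    (QuotientAddGroup.kerLift f) (QuotientAddGroup.kerLift_injective f)
    (QuotientAddGroup.lift f.ker χ h)
  exact ⟨ψ, AddMonoidHom.ext fun x => DFunLike.congr_fun hψ (x : A ⧸ f.ker)⟩

/-- A subgroup of `ℚ/ℤ` is torsion. -/
theorem isOfFinAddOrder_rat_quot (x : ℚ ⧸ AddSubgroup.zmultiples (1 : ℚ)) :
    IsOfFinAddOrder x := by
  obtain ⟨q, rfl⟩ := QuotientAddGroup.mk_surjective x
  refine isOfFinAddOrder_iff_nsmul_eq_zero.2 ⟨q.den, q.pos, ?_⟩
  rw [← QuotientAddGroup.mk_nsmul, QuotientAddGroup.eq_zero_iff,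
    AddSubgroup.mem_zmultiples_iff]
  exact ⟨q.num, by rw [zsmul_one, nsmul_eq_mul, mul_comm, Rat.mul_den_eq_num]⟩

/-! Topology -/

section Top

variable {B : Type u} [AddCommGroup B] [TopologicalSpace B] [IsTopologicalAddGroup B]

/-- The quotient of a compactly generated group by an open subgroup is finitely generated. -/
theorem fg_quotient_of_isOpen {K : Set B} (hK : IsCompact K)
    (hgen : AddSubgroup.closure K = ⊤) {U : AddSubgroup B} (hU : IsOpen (U : Set B)) :
    AddGroup.FG (B ⧸ U) := by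
  have := QuotientAddGroup.discreteTopology hU
  refine AddGroup.fg_iff.2 ⟨QuotientAddGroup.mk' U '' K, ?_,
    (hK.image QuotientAddGroup.continuous_mk).finite_of_discrete⟩
  rw [← AddMonoidHom.map_closure, hgen,
    AddSubgroup.map_top_of_surjective _ (QuotientAddGroup.mk'_surjective U)]

/-- van Dantzig: small compact open subgroups. -/
theorem exists_isOpen_subgroup_subset [T2Space B] [LocallyCompactSpace B]
    [TotallyDisconnectedSpace B] {O : Set B} (hO : IsOpen O) (h0 : (0 : B) ∈ O) :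
    ∃ U : AddSubgroup B, IsOpen (U : Set B) ∧ IsCompact (U : Set B) ∧ (U : Set B) ⊆ O := by
  obtain ⟨C, hC, hC0⟩ := exists_compact_mem_nhds (0 : B)
  obtain ⟨W, hW, h0W, hWs⟩ := (loc_compact_Haus_tot_disc_of_zero_dim (H := B)).exists_subset_of_mem_open
    (show (0 : B) ∈ interior C ∩ O from ⟨mem_interior_iff_mem_nhds.2 hC0, h0⟩)
    (isOpen_interior.inter hO)
  have hWc : IsCompact W :=
    hC.of_isClosed_subset hW.isClosed (hWs.trans (Set.inter_subset_left.trans interior_subset))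
  obtain ⟨V, hV, hWV⟩ := compact_open_separated_add_right hWc hW.isOpen le_rfl
  let S : AddSubgroup B :=
    { carrier := {x | ∀ w ∈ W, w + x ∈ W ∧ w - x ∈ W}
      zero_mem' := fun w hw => by simpa using hw
      add_mem' := fun {x y} hx hy w hw => ⟨by
        rw [← add_assoc]; exact (hy _ (hx w hw).1).1, by
        rw [sub_add_eq_sub_sub]; exact (hy _ (hx w hw).2).2⟩
      neg_mem' := fun {x} hx w hw => ⟨by rw [← sub_eq_add_neg]; exact (hx w hw).2,
        by rw [sub_neg_eq_add]; exact (hx w hw).1⟩ }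
  have hS : IsOpen (S : Set B) := by
    refine AddSubgroup.isOpen_of_mem_nhds S (g := 0) (Filter.mem_of_superset
      (Filter.inter_mem hV (neg_mem_nhds_zero B hV)) ?_)
    intro x hx w hw
    exact ⟨hWV (Set.add_mem_add hw hx.1), by
      rw [sub_eq_add_neg]; exact hWV (Set.add_mem_add hw hx.2)⟩
  have hSW : (S : Set B) ⊆ W := fun x hx => by simpa using (hx 0 h0W).1
  exact ⟨S, hS, hWc.of_isClosed_subset (AddSubgroup.isClosed_of_isOpen S hS) hSW,
    hSW.trans (hWs.trans Set.inter_subset_right)⟩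

end Top

end Groth.Agent.ProC84
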