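import Mathlib
import Groth.Prelude.Def_W4c61motalbdualityCompl
import Groth.Agent.ProC84

set_option autoImplicit false

open Topology W4c61motalbduality

namespace Groth.Agent.ProC84

universe u v

variable {A : Type u} [AddCommGroup A] [TopologicalSpace A]

def topFI : OpenFI A := ⟨⊤, isOpen_univ, inferInstance⟩

def infFI (U V : OpenFI A) : OpenFI A :=
  ⟨U.toAddSubgroup ⊓ V.toAddSubgroup, U.isOpen'.inter V.isOpen',
    have := U.finiteIndex'; have := V.finiteIndex'; inferInstance⟩

/-- Compactness: compatible families meeting a directed system of constraints. -/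
theorem exists_compl_mem {ι : Type v} [Nonempty ι] (W : ι → OpenFI A)
    (T : ∀ i, Set (A ⧸ (W i).toAddSubgroup))
    (hne : ∀ i, ∃ a : A, (a : A ⧸ (W i).toAddSubgroup) ∈ T i)
    (hdir : ∀ i j, ∃ k, (W k).toAddSubgroup ≤ (W i).toAddSubgroup ∧
      (W k).toAddSubgroup ≤ (W j).toAddSubgroup ∧
      ∀ a : A, (a : A ⧸ (W k).toAddSubgroup) ∈ T k →
        (a : A ⧸ (W i).toAddSubgroup) ∈ T i ∧ (a : A ⧸ (W j).toAddSubgroup) ∈ T j) :
    ∃ x : FICompl A, ∀ i, x.1 (W i) ∈ T i := by
  let : ∀ U : OpenFI A, TopologicalSpace (A ⧸ U.toAddSubgroup) := fun _ => ⊥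
  have : ∀ U : OpenFI A, DiscreteTopology (A ⧸ U.toAddSubgroup) := fun _ => ⟨rfl⟩
  have : ∀ U : OpenFI A, Finite (A ⧸ U.toAddSubgroup) := fun U =>
    have := U.finiteIndex'; AddSubgroup.finite_quotient_of_finiteIndex
  let P := (U : OpenFI A) → A ⧸ U.toAddSubgroup
  have hcl : IsClosed (FICompl A : Set P) := by
    have : (FICompl A : Set P) = ⋂ U : OpenFI A, ⋂ V : OpenFI A,
        ⋂ h : U.toAddSubgroup ≤ V.toAddSubgroup, {x : P |
          QuotientAddGroup.map U.toAddSubgroup V.toAddSubgroup (AddMonoidHom.id A) h (x U) = x V} := by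
      ext x
      simp only [Set.mem_iInter]
      rfl
    rw [this]
    exact isClosed_iInter fun U => isClosed_iInter fun V => isClosed_iInter fun h =>
      isClosed_eq (continuous_of_discreteTopology.comp (continuous_apply U)) (continuous_apply V)
  let S : ι → Set P := fun i => {x | x ∈ (FICompl A : Set P) ∧ x (W i) ∈ T i}
  have hScl : ∀ i, IsClosed (S i) := fun i =>
    hcl.inter ((isClosed_discrete (T i)).preimage (continuous_apply (W i)))
  obtain ⟨x, hx⟩ := IsCompact.nonempty_iInter_of_directed_nonempty_isCompact_isClosed S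
    (fun i j => by
      obtain ⟨k, h1, h2, hk⟩ := hdir i j
      refine ⟨k, fun x hx => ?_, fun x hx => ?_⟩
      · obtain ⟨a, ha⟩ := QuotientAddGroup.mk_surjective (x (W k))
        refine ⟨hx.1, ?_⟩
        rw [← hx.1 (W k) (W i) h1, ← ha]
        exact (hk a (by rw [ha]; exact hx.2)).1
      · obtain ⟨a, ha⟩ := QuotientAddGroup.mk_surjective (x (W k))
        refine ⟨hx.1, ?_⟩
        rw [← hx.1 (W k) (W j) h2, ← ha]
        exact (hk a (by rw [ha]; exact hx.2)).2)
    (fun i => by
      obtain ⟨a, ha⟩ := hne i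
      exact ⟨(toFICompl A a).1, (toFICompl A a).2, ha⟩)
    (fun i => (hScl i).isCompact) hScl
  rw [Set.mem_iInter] at hx
  exact ⟨⟨x, (hx (Classical.arbitrary ι)).1⟩, fun i => (hx i).2⟩

variable {B : Type v} [AddCommGroup B] [TopologicalSpace B]

/-- The image of an open finite index subgroup under an open surjection. -/
def imageFI (p : A →+ B) (hpo : IsOpenMap p) (hps : Function.Surjective p) (U : OpenFI A) :
    OpenFI B :=
  ⟨U.toAddSubgroup.map p, hpo _ U.isOpen', ⟨fun h => U.finiteIndex'.index_ne_zero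
    (Nat.eq_zero_of_zero_dvd (h ▸ U.toAddSubgroup.index_map_dvd hps))⟩⟩

theorem map_apply_coe (f : A →+ B) (hf : Continuous f) (x : FICompl A) (V : OpenFI B) {a : A}
    (ha : x.1 (V.comap f hf) = (a : A ⧸ (V.comap f hf).toAddSubgroup)) :
    (FICompl.map f hf x).1 V = (f a : B ⧸ V.toAddSubgroup) := by
  show QuotientAddGroup.map _ _ f _ (x.1 _) = _
  rw [ha]
  rfl

end Groth.Agent.ProC84
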