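import Mathlib

set_option autoImplicit false

open CategoryTheory Topology

namespace Groth.Agent.ProC84

universe u

open ProfiniteGrp ProfiniteCompletion

variable {G H : Type u} [Group G] [Group H] (f : G →* H)

theorem map_etaFn (g : G) :
    (profiniteCompletion.map (GrpCat.ofHom f)).hom (etaFn (GrpCat.of G) g) =
      etaFn (GrpCat.of H) (f g) :=
  ConcreteCategory.congr_hom (lift_eta (GrpCat.ofHom f ≫ eta (GrpCat.of H))) g

theorem continuous_component (K : FiniteIndexNormalSubgroup (GrpCat.of G)) :
    Continuous fun x : completion (GrpCat.of G) => x.1 K :=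
  (continuous_apply K).comp continuous_subtype_val

/-- The components of the map induced on completions. -/
theorem map_component (x : completion (GrpCat.of G)) (K : FiniteIndexNormalSubgroup H) {g : G}
    (hg : x.1 (K.comap f) = (g : G ⧸ (K.comap f).toSubgroup)) :
    ((profiniteCompletion.map (GrpCat.ofHom f)).hom x).1 K = (f g : H ⧸ K.toSubgroup) := by
  have key : ∀ y : completion (GrpCat.of G),
      ((profiniteCompletion.map (GrpCat.ofHom f)).hom y).1 K =
        QuotientGroup.map (K.comap f).toSubgroup K.toSubgroup f le_rfl (y.1 (K.comap f)) := by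
    intro y
    let φ : completion (GrpCat.of G) → ↥((diagram (GrpCat.of H)).obj K) := fun y =>
      ((profiniteCompletion.map (GrpCat.ofHom f)).hom y).1 K
    let ψ : completion (GrpCat.of G) → ↥((diagram (GrpCat.of H)).obj K) := fun y =>
      QuotientGroup.map (K.comap f).toSubgroup K.toSubgroup f le_rfl (y.1 (K.comap f))
    have hφ : Continuous φ := (continuous_component (G := H) K).comp
      (profiniteCompletion.map (GrpCat.ofHom f)).hom.continuous_toFun
    have hψ : Continuous ψ := by
      let ρ : ↥((diagram (GrpCat.of G)).obj (K.comap f)) → ↥((diagram (GrpCat.of H)).obj K) :=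
        fun t => QuotientGroup.map (K.comap f).toSubgroup K.toSubgroup f le_rfl t
      have : DiscreteTopology ↥((diagram (GrpCat.of G)).obj (K.comap f)) := ⟨rfl⟩
      have hρ : Continuous ρ := continuous_of_discreteTopology
      exact hρ.comp (continuous_component (G := G) (K.comap f))
    have h : φ ∘ etaFn (GrpCat.of G) = ψ ∘ etaFn (GrpCat.of G) := by
      funext g
      show ((profiniteCompletion.map (GrpCat.ofHom f)).hom (etaFn (GrpCat.of G) g)).1 K = _
      rw [map_etaFn]
      rfl
    exact congrFun ((denseRange (GrpCat.of G)).equalizer hφ hψ h) y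
  rw [key, hg]
  rfl

end Groth.Agent.ProC84
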