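import Groth.Statements.S0755
import Groth.Agent.IndAlg.EtCover
import Groth.Agent.IndAlg.EtaleLift
import Groth.Agent.IndAlg.Localization
import Groth.Agent.WEtale.Local

set_option autoImplicit false
open CategoryTheory CategoryTheory.Limits AlgebraicGeometry Opposite Topology
universe u
open ProEtW

namespace Groth.Agent.S0755
open Groth.Agent.IndAlg
open scoped TensorProduct

theorem fac_localization_etale {T L : Type u} [CommRing T] [CommRing L] [Algebra T L] (S : Submonoid T)
    [IsLocalization S L] : Fac (Etale.Et T) L :=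
  fac_mono (fun E _ _ (hE : Localization.SOI T E) => fac_self (show Algebra.Etale T E from
    have : Algebra.IsStandardOpenImmersion T E := hE
    have : Algebra.IsLocalIso T E := inferInstance
    Groth.Agent.WEtale.Local.etale_of_isLocalIso)) (Localization.fac_localization S)

/-- Let I be an ideal of a ring A. For every ind-etale (A/I)-algebra Cbar there is an ind-etale
A-algebra C with C/IC isomorphic to Cbar as (A/I)-algebras. -/
theorem result (A : Type u) [CommRing A] (I : Ideal A) (Cb : Type u)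
    [CommRing Cb] [Algebra (A ⧸ I) Cb] (h : EtPBC.IsIndEtale (A ⧸ I) Cb) :
    ∃ (C : Type u) (_ : CommRing C) (_ : Algebra A C),
      EtPBC.IsIndEtale A C ∧ Nonempty ((C ⧸ I.map (algebraMap A C)) ≃ₐ[A ⧸ I] Cb) := by
  let : Algebra A Cb := ((algebraMap (A ⧸ I) Cb).comp (Ideal.Quotient.mk I)).toAlgebra
  have : IsScalarTower A (A ⧸ I) Cb := .of_algebraMap_eq fun _ => rfl
  have hCb : Fac (Etale.Et (A ⧸ I)) Cb := fac_of_isInd h
  let κ := Σ i : EtCover.Idx A, (i.1.Ring →ₐ[A] Cb)
  let f : κ → EtCover.Idx A := Sigma.fst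
  let T := EtCover.Ten f
  obtain ⟨χ, hχ⟩ := EtCover.exists_desc f fun k => k.2
  have hT : Fac (Etale.Et A) (EtCover.Ten f) := EtCover.fac_ten f
  have hχs : Function.Surjective χ := by
    intro b
    obtain ⟨E', _, _, hE', v, w, hvw⟩ :=
      hCb (MvPolynomial Unit (A ⧸ I)) inferInstance (MvPolynomial.aeval fun _ => b)
    have : Algebra.Etale (A ⧸ I) E' := hE'
    let : Algebra A E' := ((algebraMap (A ⧸ I) E').comp (Ideal.Quotient.mk I)).toAlgebra
    have : IsScalarTower A (A ⧸ I) E' := .of_algebraMap_eq fun _ => rfl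
    obtain ⟨E, _, _, hE, ⟨e⟩⟩ := EtaleLift.exists_lift A I E'
    have hE2 : Algebra.Etale A (E × A) := EtaleLift.etale_prod A E A
    have : Module.Flat A (E × A) := inferInstance
    have hff : Module.FaithfullyFlat A (E × A) :=
      Module.FaithfullyFlat.of_comap_surjective fun p => ⟨PrimeSpectrum.comap (RingHom.snd E A) p,
        PrimeSpectrum.ext (Ideal.ext fun a => Iff.rfl)⟩
    obtain ⟨i, ⟨ei⟩⟩ := EtCover.exists_pres hff
    let φ : i.1.Ring →ₐ[A] Cb := (w.restrictScalars A).comp (e.toAlgHom.comp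
      ((Ideal.Quotient.mkₐ A (I.map (algebraMap A E))).comp ((AlgHom.fst A E A).comp ei.toAlgHom)))
    obtain ⟨z, hz⟩ := Ideal.Quotient.mk_surjective (e.symm (v (MvPolynomial.X ())))
    refine ⟨EtCover.inc f ⟨i, φ⟩ (ei.symm (z, 0)), ?_⟩
    rw [show χ (EtCover.inc f ⟨i, φ⟩ (ei.symm (z, 0))) = φ (ei.symm (z, 0)) from congr($(hχ ⟨i, φ⟩) _)]
    simp [φ, hz, show w (v (MvPolynomial.X ())) = b from
      congr($hvw (MvPolynomial.X ())).trans (MvPolynomial.aeval_X _ _)]
  let Q := (A ⧸ I) ⊗[A] EtCover.Ten f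
  let : CommRing ((A ⧸ I) ⊗[A] EtCover.Ten f) := inferInstance
  let ψ : (A ⧸ I) ⊗[A] EtCover.Ten f →ₐ[A ⧸ I] Cb :=
    Algebra.TensorProduct.lift (Algebra.ofId (A ⧸ I) Cb) χ fun _ _ => Commute.all _ _
  have hψi : ∀ t, ψ (1 ⊗ₜ t) = χ t := fun t =>
    (Algebra.TensorProduct.lift_tmul _ _ _ _ _).trans (by rw [map_one, one_mul])
  let : Algebra ((A ⧸ I) ⊗[A] EtCover.Ten f) Cb := ψ.toRingHom.toAlgebra
  have : IsScalarTower (A ⧸ I) ((A ⧸ I) ⊗[A] EtCover.Ten f) Cb := ⟨fun a q c => by
    show ψ (a • q) * c = a • (ψ q * c)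
    rw [map_smul, smul_mul_assoc]⟩
  have hψs : Function.Surjective ψ := fun b => ⟨1 ⊗ₜ (hχs b).choose, (hψi _).trans (hχs b).choose_spec⟩
  have : Algebra.WeaklyEtale A (EtCover.Ten f) := Etale.weaklyEtale hT
  have : Algebra.WeaklyEtale (A ⧸ I) Cb := Etale.weaklyEtale hCb
  have : Algebra.WeaklyEtale ((A ⧸ I) ⊗[A] EtCover.Ten f) Cb :=
    Groth.Agent.WEtale.Local.of_tower (A ⧸ I) _ Cb
  have : Module.Flat ((A ⧸ I) ⊗[A] EtCover.Ten f)
      (((A ⧸ I) ⊗[A] EtCover.Ten f) ⧸ RingHom.ker (Algebra.ofId ((A ⧸ I) ⊗[A] EtCover.Ten f) Cb)) :=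
    Module.Flat.of_linearEquiv
      (Ideal.quotientKerAlgEquivOfSurjective (f := Algebra.ofId ((A ⧸ I) ⊗[A] EtCover.Ten f) Cb)
        hψs).toLinearEquiv
  have hinc : ∀ t : EtCover.Ten f, (1 : A ⧸ I) ⊗ₜ[A] t = 0 →
      t ∈ I.map (algebraMap A (EtCover.Ten f)) := by
    intro t ht
    have hex : Function.Exact (Submodule.subtype I) (Algebra.linearMap A (A ⧸ I)) := by
      intro x
      refine ⟨fun hx => ⟨⟨x, Ideal.Quotient.eq_zero_iff_mem.1 hx⟩, rfl⟩, ?_⟩
      rintro ⟨y, rfl⟩
      exact Ideal.Quotient.eq_zero_iff_mem.2 y.2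
    obtain ⟨w, hw⟩ := (Module.Flat.rTensor_exact (EtCover.Ten f) hex ((1 : A) ⊗ₜ t)).1
      (by rw [LinearMap.rTensor_tmul, Algebra.linearMap_apply, map_one]; exact ht)
    have h2 : ∀ w, TensorProduct.lid A (EtCover.Ten f)
        ((Submodule.subtype I).rTensor (EtCover.Ten f) w) ∈ I.map (algebraMap A (EtCover.Ten f)) := by
      intro w
      induction w using TensorProduct.induction_on with
      | zero => simp
      | tmul x y =>
        rw [LinearMap.rTensor_tmul, TensorProduct.lid_tmul]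
        have hy : ((Submodule.subtype I) x : A) • y = algebraMap A (EtCover.Ten f) x * y :=
          Algebra.smul_def (x : A) y
        rw [hy]
        exact Ideal.mul_mem_right _ _ (Ideal.mem_map_of_mem _ x.2)
      | add x y hx hy => rw [map_add, map_add]; exact add_mem hx hy
    have := h2 w
    rwa [hw, TensorProduct.lid_tmul, one_smul] at this
  have hsurjQ : ∀ q : (A ⧸ I) ⊗[A] EtCover.Ten f, ∃ t, (1 : A ⧸ I) ⊗ₜ[A] t = q := by
    intro z
    induction z using TensorProduct.induction_on with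
    | zero => exact ⟨0, TensorProduct.tmul_zero _ _⟩
    | tmul c y =>
      obtain ⟨a, rfl⟩ := Ideal.Quotient.mk_surjective c
      exact ⟨a • y, by rw [← TensorProduct.smul_tmul, Algebra.smul_def, mul_one]; rfl⟩
    | add x y hx hy =>
      obtain ⟨a, rfl⟩ := hx
      obtain ⟨b, rfl⟩ := hy
      exact ⟨a + b, TensorProduct.tmul_add _ _ _⟩
  let S : Submonoid (EtCover.Ten f) :=
    { carrier := {t | χ t = 1}
      one_mem' := map_one χ
      mul_mem' := fun {a b} ha hb => by
        show χ (a * b) = 1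
        rw [map_mul, show χ a = 1 from ha, show χ b = 1 from hb, mul_one] }
  let C := _root_.Localization S
  let : CommRing C := inferInstanceAs (CommRing (_root_.Localization S))
  have hu : ∀ s : S, IsUnit (χ.toRingHom s) := fun s => by
    rw [show χ.toRingHom s = 1 from s.2]
    exact isUnit_one
  let χC : C →ₐ[A] Cb :=
    { IsLocalization.lift (M := S) (S := C) hu with
      commutes' := fun a => by
        show IsLocalization.lift (M := S) (S := C) hu (algebraMap A C a) = _
        rw [IsScalarTower.algebraMap_apply A (EtCover.Ten f) C, IsLocalization.lift_eq]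
        exact χ.commutes a }
  have hχC : ∀ t, χC (algebraMap (EtCover.Ten f) C t) = χ t := fun t => IsLocalization.lift_eq hu t
  have hsurj : Function.Surjective χC := fun b => by
    obtain ⟨t, ht⟩ := hχs b
    exact ⟨algebraMap (EtCover.Ten f) C t, (hχC t).trans ht⟩
  have hker : RingHom.ker χC = I.map (algebraMap A C) := by
    refine le_antisymm (fun x hx => ?_) ?_
    · obtain ⟨t, s, rfl⟩ := IsLocalization.exists_mk'_eq S x
      have ht : χ t = 0 := by
        have h1 := congrArg χC (IsLocalization.mk'_spec C t s)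
        rw [map_mul, RingHom.mem_ker.1 hx, zero_mul, hχC] at h1
        exact h1.symm
      obtain ⟨n, hn, htn⟩ := Groth.Agent.WEtale.exists_mem_mul_eq
        (N := RingHom.ker (Algebra.ofId ((A ⧸ I) ⊗[A] EtCover.Ten f) Cb))
        (x := (1 : A ⧸ I) ⊗ₜ[A] t) ((hψi t).trans ht)
      obtain ⟨n', rfl⟩ := hsurjQ n
      have hn' : χ n' = 0 := (hψi n').symm.trans hn
      have h3 : t * (1 - n') ∈ I.map (algebraMap A (EtCover.Ten f)) := hinc _ (by
        rw [mul_sub, mul_one, TensorProduct.tmul_sub, sub_eq_zero]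
        conv_lhs => rw [← htn]
        rw [Algebra.TensorProduct.tmul_mul_tmul, one_mul])
      have h4 : algebraMap (EtCover.Ten f) C (t * (1 - n')) ∈ I.map (algebraMap A C) := by
        rw [IsScalarTower.algebraMap_eq A (EtCover.Ten f) C, ← Ideal.map_map]
        exact Ideal.mem_map_of_mem _ h3
      have hun : IsUnit (algebraMap (EtCover.Ten f) C (1 - n')) :=
        IsLocalization.map_units C (⟨1 - n', by show χ (1 - n') = 1; rw [map_sub, map_one, hn', sub_zero]⟩ : S)
      rw [map_mul] at h4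
      obtain ⟨v, hv⟩ := hun.exists_right_inv
      have h5 := Ideal.mul_mem_right v _ h4
      rw [mul_assoc, hv, mul_one] at h5
      obtain ⟨v', hv'⟩ := (IsLocalization.map_units C s).exists_right_inv
      have h6 := Ideal.mul_mem_right v' _ h5
      rwa [← IsLocalization.mk'_spec C t s, mul_assoc, hv', mul_one] at h6
    · rw [Ideal.map_le_iff_le_comap]
      intro a ha
      rw [Ideal.mem_comap, RingHom.mem_ker, AlgHom.commutes, IsScalarTower.algebraMap_apply A (A ⧸ I) Cb,
        Ideal.Quotient.algebraMap_eq, Ideal.Quotient.eq_zero_iff_mem.2 ha, map_zero]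
  let e0 : (C ⧸ I.map (algebraMap A C)) ≃ₐ[A] Cb :=
    (Ideal.quotientEquivAlgOfEq A hker.symm).trans (Ideal.quotientKerAlgEquivOfSurjective hsurj)
  refine ⟨C, inferInstance, inferInstance, Etale.isInd_of_fac (Etale.fac_trans hT
    (fac_localization_etale S)), ⟨AlgEquiv.ofRingEquiv (f := e0.toRingEquiv) fun a => ?_⟩⟩
  obtain ⟨a, rfl⟩ := Ideal.Quotient.mk_surjective a
  exact e0.commutes a

end Groth.Agent.S0755
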