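import Groth.Statements.S0717
import Groth.Agent.ProEtS.EpsUnit

set_option autoImplicit false
open CategoryTheory CategoryTheory.Limits AlgebraicGeometry Opposite
universe u
open ProEtS

namespace Groth.Agent.S0717

/-- Pulling an abelian sheaf F on X_et back to X_proet and restricting it again to X_et gives back F:
the unit of the adjunction between eps^{-1} and eps_* is an isomorphism at F (continuity of X_et ->
X_proet assumed as a binder). -/
theorem result (X : Scheme.{u}) [ProEtS.EpsCont X] (F : EtCoh.Ab X) :
    IsIso ((ProEtS.epsAdj X).unit.app F) := by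
  let adj := Functor.sheafPullbackConstruction.sheafAdjunctionContinuous (ProEtS.eps X)
    AddCommGrpCat.{u + 1} X.smallEtaleTopology (Scheme.ProEt.topology X)
  have h : IsIso (adj.unit.app F) := by
    have : ∀ U, IsIso ((adj.unit.app F).hom.app U) := by
      intro U
      rw [ConcreteCategory.isIso_iff_bijective]
      have e : (⇑((adj.unit.app F).hom.app U).hom) =
          fun s => Groth.Agent.ProEtS.EpsElem.scls F (𝟙 ((ProEtS.eps X).obj U.unop)) s := by
        ext s
        simp [adj, Functor.sheafPullbackConstruction.sheafAdjunctionContinuous,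
          Groth.Agent.ProEtS.EpsElem.scls, Groth.Agent.ProEtS.EpsElem.cls, Functor.lanAdjunction_unit,
          Adjunction.restrictFullyFaithful, Adjunction.comp]
        rfl
      show Function.Bijective ⇑((adj.unit.app F).hom.app U).hom
      rw [e]
      exact Groth.Agent.ProEtS.EpsUnit.bijective_scls_id F U.unop
    have : IsIso ((sheafToPresheaf X.smallEtaleTopology AddCommGrpCat.{u + 1}).map (adj.unit.app F)) :=
      @NatIso.isIso_of_isIso_app _ _ _ _ _ _ (adj.unit.app F).hom this
    exact isIso_of_fully_faithful (f := adj.unit.app F)
      (sheafToPresheaf X.smallEtaleTopology AddCommGrpCat.{u + 1})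
  rw [← Adjunction.unit_leftAdjointUniq_hom_app adj (ProEtS.epsAdj X)]
  infer_instance

end Groth.Agent.S0717
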