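import Groth.Statements.S4265
import Groth.Agent.CohDerLib.QC.PushVanish
import Groth.Agent.CohDerLib.QC.VanBound
import Groth.Agent.PerfTri.Betti
import Groth.Agent.KFlat.QCohModel
import Groth.Agent.QCohGen.Closed
import Groth.Agent.Props.AmpleTwist

set_option autoImplicit false
set_option linter.style.haveILetI false
universe u
open CategoryTheory CategoryTheory.Limits AlgebraicGeometry
attribute [local instance] HasDerivedCategory.standard
open KSix

namespace Groth.Agent.S4265

open Groth.Agent Groth.Agent.CohDerLib.QC Groth.Agent.KFlat.QCohAcy in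
/-- A union of `k + 1` affine opens of a separated scheme has dimension at most `k`. -/
theorem van_iSup {X : Scheme.{u}} [X.IsSeparated] : ∀ (k : ℕ) (U : Fin (k + 1) → X.Opens),
    (∀ i, IsAffineOpen (U i)) → Van k (free (⨆ i, U i))
  | 0, U, hU => by
    have e : (⨆ i, U i) = U 0 := le_antisymm (iSup_le fun i => by rw [Fin.fin_one_eq_zero i]) (le_iSup U 0)
    rw [e]
    exact van_free_of_isAffineOpen (hU 0)
  | k + 1, U, hU => by
    let A := ⨆ i : Fin (k + 1), U i.castSucc
    have e : (⨆ i, U i) = A ⊔ U (Fin.last (k + 1)) :=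
      le_antisymm (iSup_le (Fin.lastCases le_sup_right fun i =>
        le_sup_of_le_left (le_iSup (fun i : Fin (k + 1) => U i.castSucc) i)))
        (sup_le (iSup_le fun i => le_iSup U _) (le_iSup U _))
    rw [e]
    refine van_X₃ (shortExact_mv A (U (Fin.last (k + 1))))
      (((van_iSup k _ fun i => hU _).mono (Nat.le_succ k)).biprod
        ((van_free_of_isAffineOpen (hU _)).mono (Nat.zero_le _))) ?_
    change Van k (free (A ⊓ U (Fin.last (k + 1))))
    rw [iSup_inf_eq]
    exact van_iSup k _ fun i => (hU _).inf (hU _)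

open Groth.Agent in
theorem isQCohD_of_pc {X : Scheme.{u}} (E : DCoh.D X) (hE : ∀ m : ℤ, DCoh.IsPseudoCoherentD m E) :
    DCoh.IsQCohD E := fun i => by
  choose V hxV hV using hE (i - 1)
  let F := DerivedCategory.Q.objPreimage E
  let eF : DCoh.toD X F ≅ E := DerivedCategory.Q.objObjPreimageIso E
  choose S α hS hiso hepi using fun x => hV x F ⟨eF⟩
  haveI : ∀ x, ((DCoh.HD E i).restrict (V x).ι).IsQuasicoherent := fun x => by
    haveI := hiso x i (by omega)
    have h := KFlat.QCohModel.isQCohD_Q_of_terms (S x) (fun j =>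
      PerfTri.Betti.isQuasicoherent_of_isFinLocFree ((hS x).2 j)) i
    exact @QCoh.isQuasicoherent_of_iso _ _ _
      (asIso ((DerivedCategory.homologyFunctor _ i).map (α x)) ≪≫
        (DerivedCategory.homologyFunctorFactors _ i).app _ ≪≫
        (KFlat.MapHomology.cxIso (Scheme.Modules.restrictFunctor (V x).ι) i).app F ≪≫
        (Scheme.Modules.restrictFunctor (V x).ι).mapIso
          (((DerivedCategory.homologyFunctorFactors _ i).app F).symm ≪≫
            (DerivedCategory.homologyFunctor X.Modules i).mapIso eF)) h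
  exact QCoh.isQuasicoherent_of_isOpenCover _ V (TopologicalSpace.IsOpenCover.mk
    (top_le_iff.mp fun x _ => TopologicalSpace.Opens.mem_iSup.mpr ⟨x, hxV x⟩))

/-- Let Y be an affine scheme, X = P^r_Y with projection f : X ⟶ Y, and E an object of D(O_X) which is
pseudo-coherent with bounded cohomology, acyclic in degrees > a. Assuming the total derived functor
Rf_* exists, Rf_*E is acyclic in degrees > a + r. -/
theorem result (Y : Scheme.{u}) [IsAffine Y] (r : ℕ)
    [DCoh.HasRpush (CohB1.ProjSpaceOver.toBase r Y)]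
    (E : DCoh.D (CohB1.ProjSpaceOver r Y)) (hE : ∀ m : ℤ, DCoh.IsPseudoCoherentD m E)
    (a b : ℤ) [E.IsGE b] [E.IsLE a] :
    ((DCoh.Rpush (CohB1.ProjSpaceOver.toBase r Y)).obj E).IsLE (a + r) := by
  let f := CohB1.ProjSpaceOver.toBase r Y
  let q : CohB1.ProjSpaceOver r Y ⟶ CohB1.ProjSpace r (ULift.{u} ℤ) := pullback.fst _ _
  have hT : IsSeparated (CohB1.ProjSpace.toSpec r (ULift.{u} ℤ)) := by
    unfold CohB1.ProjSpace.toSpec
    have h1 : IsSeparated (Proj.toSpecZero (CohB1.polyGrading r (ULift.{u} ℤ))) := inferInstance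
    exact MorphismProperty.comp_mem _ _ _ h1 inferInstance
  have hA : IsAffineHom (specULiftZIsTerminal.from Y) := isAffineHom_of_isAffine _
  have hq : IsAffineHom q := MorphismProperty.of_isPullback (IsPullback.of_hasPullback _ _).flip hA
  have : IsSeparated f := MorphismProperty.of_isPullback (IsPullback.of_hasPullback _ _) hT
  have : (CohB1.ProjSpaceOver r Y).IsSeparated := by
    constructor
    rw [← terminal.comp_from f]
    infer_instance
  let D : Fin (r + 1) → (CohB1.ProjSpace r (ULift.{u} ℤ)).Opens := fun i =>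
    Proj.basicOpen (CohB1.polyGrading r (ULift.{u} ℤ)) (MvPolynomial.X i)
  have hD : ⨆ i, D i = ⊤ := by
    refine top_le_iff.mp ((Agent.Props.AmpleTwist.iSup_basicOpen_X_pow r (ULift.{u} ℤ) (D := 1) one_pos).ge.trans
      (iSup_le fun i => ?_))
    rw [pow_one]
    exact le_iSup D i.down
  have hB : ∀ A : Y.affineOpens, Agent.CohDerLib.QC.Van r (Agent.KFlat.QCohAcy.free (f ⁻¹ᵁ A.1)) := fun A => by
    have e : f ⁻¹ᵁ A.1 = ⨆ i, q ⁻¹ᵁ D i ⊓ f ⁻¹ᵁ A.1 := by
      rw [← iSup_inf_eq, ← Scheme.Hom.preimage_iSup, hD]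
      exact (top_inf_eq _).symm
    rw [e]
    refine van_iSup r _ fun i => ?_
    have hDi : IsAffineOpen (q ⁻¹ᵁ D i) :=
      hq.isAffine_preimage _
        (Proj.isAffineOpen_basicOpen _ _ (MvPolynomial.isHomogeneous_X (ULift.{u} ℤ) i) one_pos)
    let W := q ⁻¹ᵁ D i
    have : IsAffine (W : Scheme.{u}) := hDi
    have haff : IsAffineHom (W.ι ≫ f) := isAffineHom_of_isAffine _
    have h3 := (haff.isAffine_preimage _ A.2).image_of_isOpenImmersion W.ι
    rwa [Scheme.Hom.comp_preimage, Scheme.Hom.image_preimage_eq_opensRange_inf,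
      Scheme.Opens.opensRange_ι] at h3
  rw [DerivedCategory.isLE_iff]
  intro m hm
  refine Agent.CohDerLib.QC.isZero_HD_Rpush f (fun A : Y.affineOpens => A.1) (fun U x hx => ?_) E m fun A =>
    Agent.CohDerLib.QC.hom_zero (hB A) E (isQCohD_of_pc E hE) a m (by omega)
  obtain ⟨A, hA, hxA, hAU⟩ := exists_isAffineOpen_mem_and_subset hx
  exact ⟨⟨A, hA⟩, hxA, hAU⟩

end Groth.Agent.S4265
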