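import Groth.Statements.S8262
import Groth.Agent.RelProjLib.Basic
import Groth.Agent.RelProjLib.ProjMap

set_option autoImplicit false
universe u
open CategoryTheory CategoryTheory.Limits AlgebraicGeometry Opposite TopologicalSpace
open scoped HomogeneousIdeal
open EGA2

namespace Groth.Agent.S8262

/-- The morphism of relative homogeneous spectra induced by a graded homomorphism, in the case where it
is everywhere defined: let φ : 𝒜 → ℬ be a graded homomorphism of quasi-coherent positively graded
O_Y-algebras such that over every affine open U the irrelevant ideal of ℬ(U) lies in the ideal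
generated by the image of that of 𝒜(U) (a condition stronger than the published one, which only asks
that the induced rational map be everywhere defined). Then there is a unique morphism h : Proj(ℬ) →
Proj(𝒜) that over each affine open U of Y is, under the charts, the morphism Proj ℬ(U) → Proj 𝒜(U)
induced by φ(U); and such an h is a Y-morphism. -/
theorem result {Y PA PB : Scheme.{u}} {𝒜 ℬ : RelProj.QCGrAlg Y}
    (φ : 𝒜.toQCAlg ⟶ ℬ.toQCAlg) (hφ : RelProj.IsGradedHom φ)
    (hirr : ∀ (U : Y.Opens) (hU : IsAffineOpen U),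
      (ℬ.deg U hU)₊ ≤ ((𝒜.deg U hU)₊).map (RelProj.gradedHomAt φ hφ U hU))
    (pA : PA ⟶ Y) (pB : PB ⟶ Y)
    (chartA : ∀ (U : Y.Opens) (hU : IsAffineOpen U), (((pA ⁻¹ᵁ U : PA.Opens) : Scheme.{u}) ≅ Proj (𝒜.deg U hU)))
    (chartB : ∀ (U : Y.Opens) (hU : IsAffineOpen U), (((pB ⁻¹ᵁ U : PB.Opens) : Scheme.{u}) ≅ Proj (ℬ.deg U hU)))
    (hA : RelProj.IsRelProj 𝒜 pA chartA) (hB : RelProj.IsRelProj ℬ pB chartB) :
    (∃! h : PB ⟶ PA, RelProj.IsRelProjMap φ hφ hirr chartA chartB h) ∧
      ∀ h : PB ⟶ PA, RelProj.IsRelProjMap φ hφ hirr chartA chartB h → h ≫ pA = pB := by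
  have key : ∀ (h : PB ⟶ PA) (U : Y.Opens) (hU : IsAffineOpen U),
      ((pB ⁻¹ᵁ U).ι ≫ h = (chartB U hU).hom ≫ Proj.map (RelProj.gradedHomAt φ hφ U hU) (hirr U hU) ≫
          (chartA U hU).inv ≫ (pA ⁻¹ᵁ U).ι ↔
        RelProj.emb pB chartB U hU ≫ h =
          Proj.map (RelProj.gradedHomAt φ hφ U hU) (hirr U hU) ≫ RelProj.emb pA chartA U hU) := by
    intro h U hU
    rw [RelProj.emb, RelProj.emb, Category.assoc, Iso.inv_comp_eq]
  obtain ⟨h, hh, hu⟩ := Groth.Agent.RelProjLib.existsUnique_glue hB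
    (fun U hU => Proj.map (RelProj.gradedHomAt φ hφ U hU) (hirr U hU) ≫ RelProj.emb pA chartA U hU)
    (fun U hU r => by
      rw [← RelProj.map_res_emb hA U hU r, ← Category.assoc, ← Category.assoc, ← Proj.map_comp, ← Proj.map_comp]
      congr 2
      apply GradedRingHom.ext
      intro x
      exact congr($(φ.hom.naturality (homOfLE (Y.basicOpen_le r)).op).hom x).symm)
  refine ⟨⟨h, fun U hU => (key h U hU).2 (hh U hU), fun g hg => hu g fun U hU => (key g U hU).1 (hg U hU)⟩,
    fun g hg => ?_⟩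
  refine Groth.Agent.RelProjLib.hom_ext (chart := chartB) fun U hU => ?_
  rw [reassoc_of% ((key g U hU).1 (hg U hU)), Groth.Agent.RelProjLib.emb_comp hA, Groth.Agent.RelProjLib.emb_comp hB]
  rw [← Category.assoc (Proj.map _ _), Groth.Agent.RelProjLib.map_toSpecZero]
  simp only [Category.assoc, ← Spec.map_comp_assoc]
  congr 3
  refine CommRingCat.hom_ext (RingHom.ext fun r => ?_)
  exact Subtype.ext congr($(NatTrans.congr_app φ.comm (op U)).hom r)

end Groth.Agent.S8262
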