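import Groth.Statements.S12485
import Groth.Agent.ProjBundleLib.Projective
import Groth.Agent.RelTildeLib.TwistPull
import Groth.Agent.S8262
-- import your own Groth.Agent.* helpers here

set_option autoImplicit false
universe u
open CategoryTheory CategoryTheory.Limits AlgebraicGeometry TopologicalSpace Opposite
open scoped HomogeneousIdeal
open EGA2

namespace Groth.Agent.S12485

/-- Let q : X → Y be a morphism of schemes and L an invertible O_X-module. Suppose there are a
quasi-coherent graded O_Y-algebra 𝒮 generated by its degree-one part, its relative homogeneous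
spectrum p : P = Proj(𝒮) → Y (given with its charts over affine opens) with twisting sheaf O_P(1)
(given with its chart identifications), and an immersion i : X → P with i ≫ p = q such that L is
isomorphic to i^*O_P(1). Then L is very ample relative to q: there are a quasi-coherent O_Y-module E
and a Y-immersion of X into the projective bundle P(E) along which O_{P(E)}(1) pulls back to a
module isomorphic to L. -/
theorem result {X Y P : Scheme.{u}} (q : X ⟶ Y) (L : X.Modules)
    (hL : PicF.IsInvertible L) (𝒮 : RelProj.QCGrAlg Y) (h𝒮 : 𝒮.IsGenDegOne) (p : P ⟶ Y)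
    (chart : ∀ (U : Y.Opens) (hU : IsAffineOpen U), ((p ⁻¹ᵁ U : P.Opens) : Scheme.{u}) ≅ Proj (𝒮.deg U hU))
    (hP : RelProj.IsRelProj 𝒮 p chart) (O1 : P.Modules)
    (lam : ∀ (U : Y.Opens) (hU : IsAffineOpen U),
      O1 ⟶ (Scheme.Modules.pushforward (RelProj.emb p chart U hU)).obj (GrTwist.twist (𝒮.deg U hU) 1))
    (hO1 : RelProj.IsRelTwist 𝒮 p chart 1 O1 lam) (i : X ⟶ P) [IsImmersion i] (hi : i ≫ p = q)
    (e : L ≅ (Scheme.Modules.pullback i).obj O1) : RelProj.IsRelVeryAmple q L := by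
  let M := ProjBundleLib.one 𝒮
  obtain ⟨B⟩ := ProjBundleLib.exists_bundle M
  obtain ⟨ubar, hju, -⟩ := B.hj.1 𝒮.toQCAlg (ProjBundleLib.oneι 𝒮)
  have hu : ∀ (U : Y.Opens) (hU : IsAffineOpen U) (x : Γ(M, U)),
      (ProjBundleLib.oneι 𝒮).app U x ∈ 𝒮.deg U hU 1 := fun U hU x => ProjBundleLib.oneι_mem 𝒮 U hU x
  have hs := ProjBundleLib.exists_ubar h𝒮 B.hj hju hu fun U hU s hs => ProjBundleLib.exists_oneι 𝒮 U hU s hs
  have hφ := ProjBundleLib.isGradedHom_ubar B.hj hju hu
  have hirr : ∀ (U : Y.Opens) (hU : IsAffineOpen U),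
      (𝒮.deg U hU)₊ ≤ ((B.alg.deg U hU)₊).map (RelProj.gradedHomAt ubar hφ U hU) := fun U hU => by
    rw [HomogeneousIdeal.irrelevant_le]
    intro k hk y hy
    obtain ⟨x, hx, rfl⟩ := hs U hU k hk y hy
    exact Ideal.mem_map_of_mem (RelProj.gradedHomAt ubar hφ U hU) (HomogeneousIdeal.mem_irrelevant_of_mem _ hk hx)
  obtain ⟨⟨h, hh, -⟩, hcomp⟩ := S8262.result ubar hφ hirr B.p p B.chart chart B.hP hP
  have : IsClosedImmersion h := ProjBundleLib.isClosedImmersion_of_relProjMap B.hP hP hh hs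
  obtain ⟨iso⟩ := RelTildeLib.nonempty_pullback_iso B.hP hP (SymLib.isGenDegOne B.hj) hh B.hO1 hO1
  exact ⟨M, inferInstance, B.alg, B.j, B.hj, B.P, B.p, B.chart, B.hP, B.O1, B.lam, B.hO1, i ≫ h, inferInstance,
    by rw [Category.assoc, hcomp h hh, hi],
    ⟨e ≪≫ (Scheme.Modules.pullback i).mapIso iso.symm ≪≫ (Scheme.Modules.pullbackComp i h).app B.O1⟩⟩

end Groth.Agent.S12485
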