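import Mathlib
import Groth.Prelude.Def_CohB1
import Groth.Agent.PlanePts.Forms

/-! A subset of projective space disjoint from a coordinate hyperplane has no specialisations. -/

set_option autoImplicit false
universe u

open MvPolynomial

namespace Groth.Agent.ProjCut84

variable {k : Type u} [Field k] {n : ℕ}

local notation "S" => MvPolynomial (Fin (n + 1)) k

theorem eq_of_le_of_hyperplane (p q : ProjectiveSpectrum (CohB1.polyGrading n k)) (hpq : p ≤ q)
    (j : Fin (n + 1)) (hj : (X j : S) ∉ q.asHomogeneousIdeal)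
    (hempty : ∀ x : ProjectiveSpectrum (CohB1.polyGrading n k),
      p ≤ x → (X j : S) ∈ x.asHomogeneousIdeal → False) : q = p := by
  classical
  refine le_antisymm ((ProjectiveSpectrum.as_ideal_le_as_ideal _ q p).1 ?_) hpq
  have hpI : p.asHomogeneousIdeal ≤ q.asHomogeneousIdeal :=
    (ProjectiveSpectrum.as_ideal_le_as_ideal _ p q).2 hpq
  set P : Ideal S := p.asHomogeneousIdeal.toIdeal
  set Q : Ideal S := q.asHomogeneousIdeal.toIdeal
  set 𝒜 := CohB1.polyGrading n k
  have hX : ∀ l, (X l : S) ∈ 𝒜 1 := fun l => (mem_homogeneousSubmodule 1 _).2 (isHomogeneous_X k l)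
  have hPP : P.IsPrime := p.isPrime
  -- all coordinates are nilpotent modulo `P + (X j)`
  have hrad : ∀ l, (X l : S) ∈ (P ⊔ Ideal.span {(X j : S)}).radical := by
    intro l
    rw [Ideal.radical_eq_sInf, Submodule.mem_sInf]
    rintro J ⟨hJ, hJp⟩
    have hc := Ideal.IsPrime.homogeneousCore (𝒜 := 𝒜) hJp
    have h1 : p.asHomogeneousIdeal ≤ Ideal.homogeneousCore 𝒜 J :=
      (HomogeneousIdeal.toIdeal_homogeneousCore_eq_self p.asHomogeneousIdeal).symm.le.trans
        (Ideal.homogeneousCore_mono 𝒜 (le_sup_left.trans hJ))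
    have h2 : (X j : S) ∈ Ideal.homogeneousCore 𝒜 J :=
      Ideal.mem_homogeneousCore_of_homogeneous_of_mem ⟨1, hX j⟩
        (hJ (Ideal.mem_sup_right (Ideal.mem_span_singleton_self _)))
    have hle : HomogeneousIdeal.irrelevant 𝒜 ≤ Ideal.homogeneousCore 𝒜 J := by
      by_contra hcon
      exact hempty ⟨Ideal.homogeneousCore 𝒜 J, hc, hcon⟩
        ((ProjectiveSpectrum.as_ideal_le_as_ideal _ _ _).1 h1) h2
    exact Ideal.toIdeal_homogeneousCore_le 𝒜 J
      (hle (HomogeneousIdeal.mem_irrelevant_of_mem 𝒜 zero_lt_one (hX l)))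
  choose N hN using hrad
  set M : ℕ := ∑ l, N l
  have hmon : ∀ d : Fin (n + 1) →₀ ℕ, M < d.degree →
      monomial d (1 : k) ∈ P ⊔ Ideal.span {(X j : S)} := by
    intro d hd
    obtain ⟨l, hl⟩ : ∃ l, N l ≤ d l := by
      by_contra hcon
      push Not at hcon
      have : d.degree ≤ M := by
        rw [Finsupp.degree_apply]
        exact (Finset.sum_le_sum_of_subset (Finset.subset_univ _)).trans
          (Finset.sum_le_sum fun l _ => (hcon l).le)
      omega
    refine Ideal.mem_of_dvd _ ?_ (hN l)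
    rw [X_pow_eq_monomial]
    exact monomial_dvd_monomial.2 ⟨Or.inr (Finsupp.single_le_iff.2 hl), dvd_refl _⟩
  have hstep : ∀ D, M < D + 1 → ∀ F ∈ 𝒜 (D + 1), ∃ G ∈ 𝒜 D, F - X j * G ∈ P := by
    intro D hD F hF
    have hmem : F ∈ P ⊔ Ideal.span {(X j : S)} := by
      rw [F.as_sum]
      refine Ideal.sum_mem _ fun d hd => ?_
      have hdeg : d.degree = D + 1 :=
        (((mem_homogeneousSubmodule _ _).1 hF).degree_eq_sum_deg_support hd).symm
      rw [show monomial d (coeff d F) = C (coeff d F) * monomial d 1 by rw [C_mul_monomial, mul_one]]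
      exact Ideal.mul_mem_left _ _ (hmon d (by omega))
    obtain ⟨s, hs, w, hw, rfl⟩ := Submodule.mem_sup.1 hmem
    obtain ⟨t, rfl⟩ := Ideal.mem_span_singleton'.1 hw
    refine ⟨(DirectSum.decompose 𝒜 t D : S), SetLike.coe_mem _, ?_⟩
    have h1 : (DirectSum.decompose 𝒜 (s + t * X j) (D + 1) : S) = s + t * X j :=
      DirectSum.decompose_of_mem_same 𝒜 hF
    rw [DirectSum.decompose_add, DirectSum.add_apply, Submodule.coe_add, mul_comm t (X j),
      DirectSum.coe_decompose_mul_of_left_mem_of_le 𝒜 (hX j) (by omega), Nat.add_sub_cancel] at h1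
    rw [mul_comm t (X j), ← h1, add_sub_cancel_right]
    exact p.asHomogeneousIdeal.isHomogeneous _ hs
  -- the pieces of `S / P`
  let π : S →ₗ[k] S ⧸ P := (Ideal.Quotient.mkₐ k P).toLinearMap
  let W : ℕ → Submodule k (S ⧸ P) := fun D => (𝒜 D).map π
  have hfin : ∀ D, Module.Finite k (W D) := fun D =>
    Module.Finite.of_surjective (π.submoduleMap (𝒜 D)) (LinearMap.submoduleMap_surjective π _)
  have hW : ∀ D, M < D + 1 → Module.finrank k (W (D + 1)) ≤ Module.finrank k (W D) := by
    intro D hD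
    have hsub : W (D + 1) ≤ (W D).map (LinearMap.mulLeft k (π (X j))) := by
      rintro _ ⟨F, hF, rfl⟩
      obtain ⟨G, hG, hFG⟩ := hstep D hD F hF
      refine ⟨π G, ⟨G, hG, rfl⟩, ?_⟩
      show π (X j) * π G = π F
      exact (map_mul (Ideal.Quotient.mk P) _ _).symm.trans (Ideal.Quotient.eq.2 hFG).symm
    exact (Submodule.finrank_mono hsub).trans (Submodule.finrank_map_le _ _)
  by_contra hne
  obtain ⟨f, hfq, hfp⟩ := SetLike.not_le_iff_exists.1 hne
  obtain ⟨d, hd⟩ : ∃ d, (DirectSum.decompose 𝒜 f d : S) ∉ P := by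
    by_contra hcon
    push Not at hcon
    apply hfp
    show f ∈ P
    rw [← DirectSum.sum_support_decompose 𝒜 f]
    exact Ideal.sum_mem _ fun d _ => hcon d
  set g : S := (DirectSum.decompose 𝒜 f d : S)
  have hgA : g ∈ 𝒜 d := SetLike.coe_mem _
  have hgQ : g ∈ Q := q.asHomogeneousIdeal.isHomogeneous _ hfq
  have : IsDomain (S ⧸ P) := Ideal.Quotient.isDomain P
  have hg0 : π g ≠ 0 := fun h => hd (Ideal.Quotient.eq_zero_iff_mem.1 h)
  set D := M with hD
  have hchain : ∀ i, Module.finrank k (W (D + i)) ≤ Module.finrank k (W D) := by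
    intro i
    induction i with
    | zero => rfl
    | succ i ih => exact (hW (D + i) (by omega)).trans ih
  have hmap : (W D).map (LinearMap.mulLeft k (π g)) = W (D + d) := by
    refine Submodule.eq_of_le_of_finrank_le ?_ ?_
    · rintro _ ⟨_, ⟨G, hG, rfl⟩, rfl⟩
      refine ⟨g * G, ?_, map_mul (Ideal.Quotient.mk P) _ _⟩
      rw [add_comm D d]
      exact SetLike.mul_mem_graded hgA hG
    · rw [← LinearEquiv.finrank_eq (Submodule.equivMapOfInjective _
        (mul_right_injective₀ hg0) (W D))]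
      exact hchain d
  have hmem : π (X j ^ (D + d)) ∈ W (D + d) :=
    ⟨_, (mem_homogeneousSubmodule _ _).2 (isHomogeneous_X_pow j (D + d)), rfl⟩
  rw [← hmap] at hmem
  obtain ⟨_, ⟨G, hG, rfl⟩, hG2⟩ := hmem
  have h1 : g * G - X j ^ (D + d) ∈ P :=
    Ideal.Quotient.eq.1 ((map_mul (Ideal.Quotient.mk P) g G).trans hG2)
  have h2 : (X j : S) ^ (D + d) ∈ Q := by
    have := Q.sub_mem (Q.mul_mem_right G hgQ) (hpI h1)
    rwa [sub_sub_cancel] at this
  exact hj (q.isPrime.mem_of_pow_mem _ h2)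

end Groth.Agent.ProjCut84
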