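import Groth.Statements.S10915
import Mathlib.RingTheory.GradedAlgebra.Radical
import Mathlib.RingTheory.Ideal.MinimalPrime.Noetherian
import Mathlib.RingTheory.MvPolynomial.Homogeneous
import Mathlib.RingTheory.MvPolynomial.Ideal
import Mathlib.GroupTheory.CosetCover
-- import your own Groth.Agent.* helpers here

set_option autoImplicit false
universe u
open ProjDeg

namespace Groth.Agent.S10915

open MvPolynomial

variable {k : Type u} [Field k] {n : ℕ}

local notation "S" => MvPolynomial (Fin (n + 1)) k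
local notation "𝔐" => (Ideal.span (Set.range (X : Fin (n + 1) → MvPolynomial (Fin (n + 1)) k)))

theorem irr_eq_ker :
    (𝔐 : Ideal S) = RingHom.ker (constantCoeff : S →+* k) := by
  refine le_antisymm (Ideal.span_le.mpr ?_) fun p hp => ?_
  · rintro _ ⟨i, rfl⟩; simp [RingHom.mem_ker]
  · rw [← Set.image_univ, MvPolynomial.mem_ideal_span_X_image]
    intro m hm
    by_contra! h
    have : m = 0 := Finsupp.ext fun i => by simpa using h i (Set.mem_univ i)
    subst this
    exact (MvPolynomial.mem_support_iff.mp hm) hp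

theorem irr_isMaximal : (𝔐 : Ideal S).IsMaximal := by
  rw [irr_eq_ker]
  exact RingHom.ker_isMaximal_of_surjective _ fun c => ⟨C c, constantCoeff_C _ c⟩

theorem le_irr_of_isHomogeneous {P : Ideal S} (hP : P.IsHomogeneous (CohB1.polyGrading n k))
    (hne : P ≠ ⊤) : P ≤ 𝔐 := by
  intro p hp
  rw [irr_eq_ker, RingHom.mem_ker]
  by_contra hc
  refine hne (Ideal.eq_top_of_isUnit_mem P ?_
    ((isUnit_iff_ne_zero.mpr hc).map (C : k →+* S)))
  have h := hP 0 hp
  have e : ((DirectSum.decompose (CohB1.polyGrading n k) p 0 : _) : S) = C (constantCoeff p) := by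
    rw [constantCoeff_eq, ← MvPolynomial.homogeneousComponent_zero]
    exact MvPolynomial.decomposition.decompose'_apply p 0
  exact e ▸ h

theorem isHomogeneous_of_mem_minimalPrimes {J P : Ideal S}
    (hJ : J.IsHomogeneous (CohB1.polyGrading n k))
    (hP : P ∈ J.minimalPrimes) : P.IsHomogeneous (CohB1.polyGrading n k) := by
  have hp : P.IsPrime := hP.1.1
  have hcore : (P.homogeneousCore (CohB1.polyGrading n k)).toIdeal.IsPrime := hp.homogeneousCore
  have hle : J ≤ (P.homogeneousCore (CohB1.polyGrading n k)).toIdeal := by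
    rw [← hJ.toIdeal_homogeneousCore_eq_self]
    exact Ideal.homogeneousCore_mono _ hP.1.2
  have hle' := P.toIdeal_homogeneousCore_le (CohB1.polyGrading n k)
  rw [le_antisymm (hP.2 ⟨hcore, hle⟩ hle') hle']
  exact (P.homogeneousCore (CohB1.polyGrading n k)).isHomogeneous

/-- `dim R/J ≤ e` phrased with primes containing `J`. -/
def DimLE {R : Type*} [CommRing R] (J : Ideal R) (e : ℕ) : Prop :=
  ∀ l : LTSeries (PrimeSpectrum R), J ≤ l.head.asIdeal → l.length ≤ e

theorem exists_form [Infinite k] (T : Finset (Ideal S)) (hT : ∀ P ∈ T, ¬ 𝔐 ≤ P) :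
    ∃ h : S, h.IsHomogeneous 1 ∧ ∀ P ∈ T, h ∉ P := by
  classical
  let V : Submodule k S := Submodule.span k (Set.range X)
  let s : Finset (Subspace k V) := T.image fun P => (P.restrictScalars k).comap V.subtype
  have hs : ⊤ ∉ s := by
    simp only [s, Finset.mem_image, not_exists, not_and]
    intro P hP htop
    refine hT P hP (Ideal.span_le.mpr ?_)
    rintro _ ⟨i, rfl⟩
    have : (⟨X i, Submodule.subset_span ⟨i, rfl⟩⟩ : V) ∈
        (P.restrictScalars k).comap V.subtype := htop ▸ Submodule.mem_top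
    exact this
  obtain ⟨v, hv⟩ := (Set.ne_univ_iff_exists_notMem _).mp (Subspace.biUnion_ne_univ_of_top_notMem hs)
  refine ⟨v.1, ?_, fun P hP hvP => hv ?_⟩
  · rw [← mem_homogeneousSubmodule, homogeneousSubmodule_one_eq_span_X]
    exact v.2
  · exact Set.mem_iUnion₂.mpr ⟨_, Finset.mem_image_of_mem _ hP, hvP⟩

theorem step [Infinite k] {J : Ideal S} (hJ : J.IsHomogeneous (CohB1.polyGrading n k)) (hne : J ≤ 𝔐)
    {e : ℕ} (he : DimLE J (e + 1)) :
    ∃ h : S, h.IsHomogeneous 1 ∧ ((𝔐 : Ideal S) ≤ J.radical ∨ DimLE (J ⊔ Ideal.span {h}) e) := by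
  classical
  haveI := irr_isMaximal (k := k) (n := n)
  have hfin := Ideal.finite_minimalPrimes_of_isNoetherianRing S J
  by_cases hM : (𝔐 : Ideal S) ∈ J.minimalPrimes
  · refine ⟨0, isHomogeneous_zero _ _ _, Or.inl ?_⟩
    rw [← Ideal.sInf_minimalPrimes]
    refine le_sInf fun P hP => ?_
    have hPM := le_irr_of_isHomogeneous (isHomogeneous_of_mem_minimalPrimes hJ hP) hP.1.1.ne_top
    exact hM.2 ⟨hP.1.1, hP.1.2⟩ hPM
  obtain ⟨h, hh, hhP⟩ := exists_form hfin.toFinset fun P hP hle => by
    rw [Set.Finite.mem_toFinset] at hP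
    exact hM ((irr_isMaximal (k := k) (n := n)).eq_of_le hP.1.1.ne_top hle ▸ hP)
  refine ⟨h, hh, Or.inr fun l hl => ?_⟩
  haveI := l.head.2
  obtain ⟨P, hP, hPl⟩ := Ideal.exists_minimalPrimes_le (le_sup_left.trans hl)
  have hlt : (⟨P, hP.1.1⟩ : PrimeSpectrum S) < l.head :=
    lt_of_le_of_ne hPl fun heq => hhP P (hfin.mem_toFinset.mpr hP)
      (congrArg PrimeSpectrum.asIdeal heq ▸ hl (Ideal.mem_sup_right (Ideal.mem_span_singleton_self h)) : h ∈ (⟨P, hP.1.1⟩ : PrimeSpectrum S).asIdeal)
  have := he (l.cons ⟨P, hP.1.1⟩ hlt) (by simpa using hP.1.2)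
  simpa using this

/-- Let k be an algebraically closed field, R = k[X_0, …, X_n] graded by degree, and I a homogeneous
prime ideal with dim R/I = r + 1, so that X = V_+(I) ⊆ P^n_k is a projective variety of dimension r.
Then there are r + 1 linear forms h_1, …, h_{r+1} (homogeneous of degree 1) whose common zero set in
P^n_k does not meet X, i.e. the ideal I + (h_1, …, h_{r+1}) contains some power of the irrelevant
ideal (X_0, …, X_n). (The published statement says that a generic linear subspace of dimension n − r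
− 1 misses X; this row asserts only that one such subspace, cut out by r + 1 linear forms, exists.) -/
theorem result (k : Type u) [Field k] [IsAlgClosed k]
    (n r : ℕ) (I : Ideal (MvPolynomial (Fin (n + 1)) k)) (hIh : I.IsHomogeneous (CohB1.polyGrading n k)) [I.IsPrime]
    (hdim : ringKrullDim (MvPolynomial (Fin (n + 1)) k ⧸ I) = (r : WithBot ℕ∞) + 1) :
    ∃ h : Fin (r + 1) → MvPolynomial (Fin (n + 1)) k, (∀ i, (h i).IsHomogeneous 1) ∧
      ∃ N : ℕ, (Ideal.span (Set.range (MvPolynomial.X : Fin (n + 1) → MvPolynomial (Fin (n + 1)) k))) ^ N ≤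
        I ⊔ Ideal.span (Set.range h) := by
  classical
  set S' := MvPolynomial (Fin (n + 1)) k
  set M' : Ideal S' := Ideal.span (Set.range (MvPolynomial.X : Fin (n + 1) → S'))
  haveI := irr_isMaximal (k := k) (n := n)
  suffices main : ∀ e : ℕ, ∀ J : Ideal S', J.IsHomogeneous (CohB1.polyGrading n k) → J ≤ M' →
      DimLE J e → ∃ h : Fin e → S', (∀ i, (h i).IsHomogeneous 1) ∧
        M' ≤ (J ⊔ Ideal.span (Set.range h)).radical by
    have hI : DimLE I (r + 1) := by
      intro l hl
      have hcomap : ∀ i, I ≤ (l i).asIdeal := fun i => hl.trans (l.monotone (Fin.zero_le i))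
      let g : Fin (l.length + 1) → PrimeSpectrum (S' ⧸ I) := fun i =>
        ⟨(l i).asIdeal.map (Ideal.Quotient.mk I),
          Ideal.map_isPrime_of_surjective Ideal.Quotient.mk_surjective (by rw [Ideal.mk_ker]; exact hcomap i)⟩
      have hg : StrictMono g := fun i j hij => by
        refine lt_of_le_of_ne (Ideal.map_mono (l.monotone hij.le)) fun heq => (l.strictMono hij).ne ?_
        apply PrimeSpectrum.ext
        have := congrArg (fun q : PrimeSpectrum (S' ⧸ I) => q.asIdeal.comap (Ideal.Quotient.mk I)) heq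
        simp only [g] at this
        rw [Ideal.comap_map_of_surjective _ Ideal.Quotient.mk_surjective,
          Ideal.comap_map_of_surjective _ Ideal.Quotient.mk_surjective] at this
        simpa [← RingHom.ker_eq_comap_bot, Ideal.mk_ker, sup_of_le_left, hcomap] using this
      have := Order.LTSeries.length_le_krullDim (LTSeries.mk _ g hg)
      change (l.length : WithBot ℕ∞) ≤ ringKrullDim (S' ⧸ I) at this
      rw [hdim] at this
      exact_mod_cast this
    have hIM : I ≤ M' := le_irr_of_isHomogeneous hIh ‹I.IsPrime›.ne_top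
    obtain ⟨h, hh, hrad⟩ := main (r + 1) I hIh hIM hI
    exact ⟨h, hh, Ideal.exists_pow_le_of_le_radical_of_fg hrad (IsNoetherian.noetherian _)⟩
  intro e
  induction e with
  | zero =>
    intro J hJ hJM hd
    refine ⟨Fin.elim0, fun i => i.elim0, ?_⟩
    refine le_trans ?_ (Ideal.radical_mono le_sup_left)
    rw [← Ideal.sInf_minimalPrimes]
    refine le_sInf fun P hP => ?_
    have hPM := le_irr_of_isHomogeneous (isHomogeneous_of_mem_minimalPrimes hJ hP) hP.1.1.ne_top
    by_contra hne
    have hlt : (⟨P, hP.1.1⟩ : PrimeSpectrum S') < ⟨M', (irr_isMaximal (k := k) (n := n)).isPrime⟩ :=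
      lt_of_le_not_ge hPM hne
    have := hd ((RelSeries.singleton _ (⟨M', (irr_isMaximal (k := k) (n := n)).isPrime⟩ :
      PrimeSpectrum S')).cons ⟨P, hP.1.1⟩ hlt) (hP.1.2.trans_eq rfl)
    change 0 + 1 ≤ 0 at this
    omega
  | succ e ih =>
    intro J hJ hJM hd
    obtain ⟨h, hh, hcase⟩ := step hJ hJM hd
    have hspan : (Ideal.span {h}).IsHomogeneous (CohB1.polyGrading n k) :=
      Ideal.homogeneous_span _ _ (by rintro x rfl; exact ⟨1, hh⟩)
    have hhM : h ∈ M' := by
      have h' : h ∈ Submodule.span k (Set.range (X : Fin (n + 1) → S')) := by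
        rw [← homogeneousSubmodule_one_eq_span_X]; exact hh
      exact (Submodule.span_le (p := M'.restrictScalars k)).mpr Ideal.subset_span h'
    rcases hcase with hrad | hd'
    · exact ⟨fun _ => h, fun _ => hh, hrad.trans (Ideal.radical_mono le_sup_left)⟩
    obtain ⟨hs, hhs, hrad⟩ := ih (J ⊔ Ideal.span {h}) (hJ.sup hspan)
      (sup_le hJM ((Ideal.span_singleton_le_iff_mem _).mpr hhM)) hd'
    refine ⟨Fin.cons h hs, fun i => ?_, hrad.trans_eq ?_⟩
    · refine Fin.cases ?_ ?_ i <;> simp [hh, hhs]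
    · rw [Fin.range_cons, Ideal.span_insert, sup_assoc]

end Groth.Agent.S10915
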