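import Groth.Statements.S10907
import Groth.Agent.GrInt.Euler
import Groth.Agent.GrCI.Weighted
import Groth.Agent.S10915
import Mathlib.RingTheory.KrullDimension.Polynomial

/-!
The degree of the Hilbert polynomial is the projective dimension.
-/

set_option autoImplicit false
universe u
open ProjDeg Polynomial

namespace Groth.Agent.S10907

theorem length_eq_of_augmented {k : Type u} [Field k] {A : Type u} [CommRing A] [Algebra k A]
    (ε : A →ₐ[k] k) :
    ∀ (t : ℕ) (N : Type u) [AddCommGroup N] [Module A N] [Module k N] [IsScalarTower k A N],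
      RingHom.ker ε ^ t • (⊤ : Submodule A N) = ⊥ → Module.length A N = Module.length k N := by
  intro t
  induction t with
  | zero =>
    intro N _ _ _ _ h
    rw [pow_zero, Ideal.one_eq_top, Submodule.top_smul] at h
    haveI : Subsingleton N := (Submodule.subsingleton_iff A).mp (subsingleton_of_bot_eq_top h.symm)
    rw [Module.length_eq_zero_iff.mpr ‹_›, Module.length_eq_zero_iff.mpr ‹_›]
  | succ t ih =>
    intro N _ _ _ _ h
    set N' : Submodule A N := RingHom.ker ε • ⊤
    have h1 : Module.length A N' = Module.length k N' := by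
      refine ih N' ?_
      apply Submodule.map_injective_of_injective N'.injective_subtype
      rw [Submodule.map_smul'', Submodule.map_top, Submodule.range_subtype, Submodule.map_bot,
        ← Submodule.mul_smul, ← pow_succ, h]
    have h2 : Module.length A (N ⧸ N') = Module.length k (N ⧸ N') := by
      have hs : ∀ (a : A) (z : N ⧸ N'), a • z = ε a • z := by
        intro a z
        obtain ⟨w, rfl⟩ := Submodule.mkQ_surjective _ z
        rw [← algebraMap_smul A (ε a) (N'.mkQ w), ← map_smul, ← map_smul]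
        exact (Submodule.Quotient.eq _).mpr (by
          rw [← sub_smul]
          exact Submodule.smul_mem_smul (by simp [RingHom.mem_ker]) Submodule.mem_top)
      letI : Algebra A k := ε.toRingHom.toAlgebra
      haveI : IsScalarTower A k (N ⧸ N') := ⟨fun a c z => by
        rw [show (a • c : k) = ε a * c from rfl, mul_smul, hs a (c • z)]⟩
      exact Module.length_eq_of_surjective (R := k) (S := A) (M := N ⧸ N')
        fun c => ⟨algebraMap k A c, by simp [RingHom.algebraMap_toAlgebra]⟩
    have e1 := Module.length_eq_add_of_exact N'.subtype N'.mkQ N'.injective_subtype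
      N'.mkQ_surjective (LinearMap.exact_subtype_mkQ N')
    have e2 := Module.length_eq_add_of_exact (N'.subtype.restrictScalars k) (N'.mkQ.restrictScalars k)
      N'.injective_subtype N'.mkQ_surjective (LinearMap.exact_subtype_mkQ N')
    rw [e1, e2, h1, h2]

/-- For any field k and any homogeneous ideal I of R = k[X_0, …, X_n] whose Hilbert polynomial P (the
rational polynomial with value dim R_m − dim (I ∩ R_m) at every large m) is nonzero, the Krull
dimension of R/I, i.e. of the affine cone over V(I), is deg P + 1. -/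
theorem result (k : Type u) [Field k]
    (n : ℕ) (I : Ideal (MvPolynomial (Fin (n + 1)) k)) (hIh : I.IsHomogeneous (CohB1.polyGrading n k))
    (P : ℚ[X]) (hP0 : P ≠ 0)
    (hP : ∃ m₀ : ℕ, ∀ m : ℕ, m₀ ≤ m → P.eval (m : ℚ) =
      (Module.finrank k ↥(CohB1.polyGrading n k m) : ℚ) -
        Module.finrank k ↥(Submodule.restrictScalars k I ⊓ CohB1.polyGrading n k m)) :
    ringKrullDim (MvPolynomial (Fin (n + 1)) k ⧸ I) = (P.natDegree : WithBot ℕ∞) + 1 := by
  classical
  obtain ⟨m₀, hm₀⟩ := hP
  let δ : Fin (n + 1) → ℕ := fun _ => 1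
  have hδ : ∀ i, 0 < δ i := fun _ => one_pos
  let A := MvPolynomial (Fin (n + 1)) k
  let M := MvPolynomial (Fin (n + 1)) k ⧸ I
  let 𝒜 : ℕ → Submodule k A := CohB1.polyGrading n k
  let ℳ : ℕ → Submodule k M := GrCI.V δ I
  have hHom : GrCI.Hom δ I := by
    intro x hx u
    have h := hIh u hx
    rw [show ((DirectSum.decompose (CohB1.polyGrading n k) x u : _) : A) =
      MvPolynomial.homogeneousComponent u x from MvPolynomial.decomposition.decompose'_apply x u] at h
    exact h
  letI : DirectSum.Decomposition ℳ := (GrCI.isInternal hHom).chooseDecomposition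
  haveI : SetLike.GradedSMul 𝒜 ℳ := ⟨fun {i j a m} ha hm => by
    obtain ⟨p, hp, rfl⟩ := GrCI.mem_V.mp hm
    exact GrCI.mem_V.mpr ⟨a * p, ha.mul hp, by rw [map_mul]; rfl⟩⟩
  -- degree zero is the field
  let ε : A →ₐ[k] k := MvPolynomial.aeval (0 : Fin (n + 1) → k)
  have h𝒜0 : ∀ a : A, a ∈ 𝒜 0 → a = MvPolynomial.C (MvPolynomial.coeff 0 a) := by
    intro a ha
    rw [← MvPolynomial.homogeneousComponent_zero]
    exact (MvPolynomial.homogeneousComponent_of_mem ha).trans (if_pos rfl) |>.symm
  let e0 : k ≃+* (𝒜 0) :=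
    { toFun := fun c => ⟨MvPolynomial.C c, MvPolynomial.isHomogeneous_C _ c⟩
      invFun := fun a => MvPolynomial.coeff 0 (a : A)
      left_inv := fun c => by simp
      right_inv := fun a => Subtype.ext (h𝒜0 a.1 a.2).symm
      map_mul' := fun a b => Subtype.ext (map_mul MvPolynomial.C a b)
      map_add' := fun a b => Subtype.ext (map_add MvPolynomial.C a b) }
  haveI : IsLocalRing (𝒜 0) := e0.isLocalRing
  haveI : IsArtinianRing (𝒜 0) :=
    Function.Surjective.isArtinianRing (f := e0.toRingHom) e0.surjective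
  have hgen : GrInt.Dim.GenOne 𝒜 := by
    refine le_antisymm ?_ (Ideal.span_le.mpr fun x hx => HomogeneousIdeal.mem_irrelevant_of_mem 𝒜 one_pos hx)
    intro x hx
    have h0 : MvPolynomial.constantCoeff x = 0 := by
      have h := (HomogeneousIdeal.mem_irrelevant_iff 𝒜 x).mp hx
      rw [GradedRing.proj_apply, show ((DirectSum.decompose 𝒜 x 0 : _) : A) =
        MvPolynomial.homogeneousComponent 0 x from MvPolynomial.decomposition.decompose'_apply x 0,
        MvPolynomial.homogeneousComponent_zero, MvPolynomial.C_eq_zero] at h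
      exact h
    have hx' : x ∈ Ideal.span (Set.range (MvPolynomial.X : Fin (n + 1) → A)) := by
      rw [S10915.irr_eq_ker]; exact h0
    refine Ideal.span_le.mpr ?_ hx'
    rintro _ ⟨i, rfl⟩
    exact Ideal.subset_span (MvPolynomial.isHomogeneous_X k i)
  have hne : I ≠ ⊤ := by
    rintro rfl
    refine hP0 (Polynomial.eq_zero_of_infinite_isRoot P (Set.Infinite.mono (s := (fun m : ℕ => ((m + m₀ : ℕ) : ℚ)) '' Set.univ) ?_ ?_))
    · rintro _ ⟨m, -, rfl⟩
      show P.eval _ = 0
      rw [hm₀ _ (Nat.le_add_left _ _), sub_eq_zero]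
      congr 1
      rw [Submodule.restrictScalars_top, top_inf_eq]
    · exact Set.infinite_univ.image fun a _ b _ h => by simpa using h
  haveI : Nontrivial M := Ideal.Quotient.nontrivial_iff.mpr hne
  obtain ⟨s, hs⟩ : ∃ s : ℕ, Module.supportDim A M = (s : WithBot ℕ∞) := by
    rw [Module.supportDim_quotient_eq_ringKrullDim]
    have hle : ringKrullDim (A ⧸ I) ≤ ((n + 1 : ℕ) : WithBot ℕ∞) := by
      refine (ringKrullDim_quotient_le I).trans ?_
      rw [MvPolynomial.ringKrullDim_of_isNoetherianRing, ringKrullDim_eq_zero_of_field, zero_add,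
        Nat.card_eq_fintype_card, Fintype.card_fin]
    have h0 : 0 ≤ ringKrullDim (A ⧸ I) := ringKrullDim_nonneg_of_nontrivial
    generalize ringKrullDim (A ⧸ I) = x at hle h0
    induction x using WithBot.recBotCoe with
    | bot => exact absurd h0 (by decide)
    | coe a =>
      obtain ⟨b, rfl⟩ : ∃ b : ℕ, a = b := by
        refine ENat.ne_top_iff_exists.mp ?_ |>.imp fun _ => Eq.symm
        rintro rfl
        exact absurd (WithBot.coe_le_coe.mp hle) (by simp)
      exact ⟨b, rfl⟩
  obtain ⟨Q, hQ0, hQd, T, hT⟩ := GrInt.Euler.exists_poly (𝒜 := 𝒜) ℳ hgen hs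
  haveI : ∀ m, Module.Finite k (ℳ m) := fun m => Module.Finite.iff_fg.mpr (GrCI.fg_V hδ I m)
  have hlen : ∀ t, (LenLib.lenZ A (M ⧸ KosEuler.Graded.P (A := A) ℳ t) : ℤ) =
      ∑ m ∈ Finset.range t, (Module.finrank k (ℳ m) : ℤ) := by
    intro t
    let f : M →ₗ[k] ∀ j : Fin t, ℳ j :=
      LinearMap.pi fun j => (DirectSum.component k ℕ (fun i => ℳ i) (j : ℕ)).comp
        (DirectSum.decomposeLinearEquiv ℳ).toLinearMap
    have hf : Function.Surjective f := fun y => by
      refine ⟨∑ j, (y j : M), funext fun j => Subtype.ext ?_⟩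
      show ((DirectSum.decompose ℳ (∑ i, (y i : M)) (j : ℕ) : ℳ j) : M) = _
      rw [DirectSum.decompose_sum, DFinsupp.finsetSum_apply, AddSubmonoidClass.coe_finsetSum,
        Finset.sum_eq_single j (fun i _ hi => DirectSum.decompose_of_mem_ne ℳ (y i).2
          (fun h => hi (Fin.ext h))) (by simp), DirectSum.decompose_of_mem_same ℳ (y j).2]
    have hk : LinearMap.ker f = (KosEuler.Graded.P (A := A) ℳ t).restrictScalars k := by
      ext z
      rw [LinearMap.mem_ker, Submodule.restrictScalars_mem, GrInt.Euler.mem_P_iff (𝒜 := 𝒜) ℳ, funext_iff]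
      exact ⟨fun h j hj => congrArg Subtype.val (h ⟨j, hj⟩), fun h j => Subtype.ext (h j j.2)⟩
    let e : (M ⧸ KosEuler.Graded.P (A := A) ℳ t) ≃ₗ[k] ∀ j : Fin t, ℳ j :=
      (Submodule.Quotient.restrictScalarsEquiv k _).symm.trans
        ((Submodule.quotEquivOfEq _ _ hk.symm).trans (f.quotKerEquivOfSurjective hf))
    have hkill : RingHom.ker ε ^ t • (⊤ : Submodule A (M ⧸ KosEuler.Graded.P (A := A) ℳ t)) = ⊥ := by
      have h1 : RingHom.ker ε ≤ GrInt.Dim.irr 𝒜 := by
        intro x hx
        rw [GrInt.Dim.irr_eq]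
        refine (HomogeneousIdeal.mem_irrelevant_iff 𝒜 x).mpr ?_
        rw [GradedRing.proj_apply, show ((DirectSum.decompose 𝒜 x 0 : _) : A) =
          MvPolynomial.homogeneousComponent 0 x from MvPolynomial.decomposition.decompose'_apply x 0,
          MvPolynomial.homogeneousComponent_zero, MvPolynomial.C_eq_zero]
        exact (MvPolynomial.aeval_zero (R := k) (S₁ := k) x).symm.trans (RingHom.mem_ker.mp hx)
      rw [eq_bot_iff, ← Submodule.map_top (KosEuler.Graded.P (A := A) ℳ t).mkQ |>.trans (Submodule.range_mkQ _),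
        ← Submodule.map_smul'']
      refine Submodule.map_le_iff_le_comap.mpr ?_
      rw [Submodule.comap_bot, Submodule.ker_mkQ]
      exact (Submodule.smul_mono (Ideal.pow_right_mono h1 t) le_rfl).trans
        (GrInt.Euler.irr_pow_le ℳ hgen t)
    rw [LenLib.lenZ, length_eq_of_augmented ε t _ hkill, e.length_eq, Module.length_eq_finrank,
      ENat.toNat_natCast, Module.finrank_pi_fintype, Nat.cast_sum,
      Fin.sum_univ_eq_sum_range (fun m => (Module.finrank k (ℳ m) : ℤ))]
  have hV : ∀ m, m₀ ≤ m → (Module.finrank k (ℳ m) : ℚ) = P.eval (m : ℚ) := by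
    intro m hm
    rw [hm₀ m hm]
    set W := CohB1.polyGrading n k m
    haveI : Module.Finite k W := Module.Finite.iff_fg.mpr
      (MvPolynomial.weightedHomogeneousSubmodule_fg k δ (fun i => (hδ i).ne') m)
    let π : W →ₗ[k] M := (Ideal.Quotient.mkₐ k I).toLinearMap.comp W.subtype
    have hrk := π.finrank_range_add_finrank_ker
    have hr : LinearMap.range π = ℳ m := by
      rw [LinearMap.range_comp, Submodule.range_subtype]
      rfl
    have hk : LinearMap.ker π = ((I.restrictScalars k) ⊓ W).comap W.subtype := by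
      ext w
      rw [LinearMap.mem_ker, Submodule.mem_comap, Submodule.mem_inf, Submodule.restrictScalars_mem]
      exact Ideal.Quotient.eq_zero_iff_mem.trans ⟨fun h => ⟨h, w.2⟩, fun h => h.1⟩
    rw [hr, hk, (Submodule.comapSubtypeEquivOfLe (inf_le_right : (I.restrictScalars k) ⊓ W ≤ W)).finrank_eq] at hrk
    rw [← hrk]
    push_cast
    ring
  -- backward difference
  let sgn : ULift.{u} (Fin 2) → ℚ := fun i => if i.down = 0 then 1 else -1
  let sh : ULift.{u} (Fin 2) → ℕ := fun i => if i.down = 0 then 0 else 1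
  have hμ : ∀ c, GrInt.Poly.μ sgn sh c = (0 : ℚ) ^ c - (-1 : ℚ) ^ c := by
    intro c
    rw [GrInt.Poly.μ, ← Equiv.ulift.symm.sum_comp, Fin.sum_univ_two]
    simp [sgn, sh]
    ring
  have hTQ : GrInt.Poly.T sgn sh Q = P.comp (Polynomial.X + Polynomial.C (-1)) := by
    refine Polynomial.eq_of_infinite_eval_eq _ _ (Set.Infinite.mono
      (s := (fun m : ℕ => ((m + (T + m₀ + 1) : ℕ) : ℚ)) '' Set.univ) ?_
      (Set.infinite_univ.image fun a _ b _ h => by simpa using h))
    rintro _ ⟨m, -, rfl⟩
    obtain ⟨a, ha⟩ : ∃ a, m + (T + m₀ + 1) = a + 1 := ⟨m + T + m₀, by omega⟩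
    show (GrInt.Poly.T sgn sh Q).eval _ = _
    rw [GrInt.Poly.eval_T, ← Equiv.ulift.symm.sum_comp, Fin.sum_univ_two, Polynomial.eval_comp]
    simp only [ha]
    have h1 := hT (a + 1) (by omega)
    have h2 := hT a (by omega)
    rw [hlen, Finset.sum_range_succ] at h1
    rw [hlen] at h2
    push_cast at h1 h2
    rw [hV a (by omega)] at h1
    simp [sgn, sh]
    linarith
  have hcdeg : (P.comp (Polynomial.X + Polynomial.C (-1 : ℚ))).natDegree = P.natDegree := by
    rw [Polynomial.natDegree_comp, Polynomial.natDegree_X_add_C, mul_one]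
  have hQpos : 1 ≤ Q.natDegree := by
    by_contra h
    have h0 := GrInt.Poly.T_eq_zero sgn sh (P := Q) fun c hc => by
      rw [show c = 0 by omega, hμ]; simp
    rw [hTQ] at h0
    rcases Polynomial.comp_eq_zero_iff.mp h0 with h | h
    · exact hP0 h
    · have := congrArg Polynomial.natDegree h.2
      rw [Polynomial.natDegree_X_add_C, Polynomial.natDegree_C] at this
      exact one_ne_zero this
  obtain ⟨-, hdeg⟩ := GrInt.Poly.natDegree_T sgn sh hQ0 (c₀ := 1) (by rw [hμ]; norm_num)
    (fun c hc => by rw [show c = 0 by omega, hμ]; simp) hQpos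
  rw [hTQ, hcdeg, hQd] at hdeg
  rw [← Module.supportDim_quotient_eq_ringKrullDim]
  refine hs.trans ?_
  rw [← hdeg]
  push_cast
  rfl

end Groth.Agent.S10907
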