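import Groth.Statements.S3591
import Groth.Agent.ProjMorph.Base


set_option autoImplicit false
universe u
open CategoryTheory CategoryTheory.Limits AlgebraicGeometry
open EGA2

namespace Groth.Agent.S3591

/-- Universal property of the projective bundle of a quasi-coherent module over an affine base,
existence part. Let A be a ring, M an A-module and S a graded A-algebra with an A-linear map ι : M →
S_1 making S a symmetric algebra of M (so Proj S = P(M~)). Let q : X → Spec A be a scheme over A, L
an invertible O_X-module and v : M → Γ(X, L) an A-linear map whose image generates L (these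
correspond to the surjections q^*(M~) → L). Then there are an A-morphism r : X → Proj S and an
isomorphism r^*O(1) ≅ L carrying, for every m ∈ M, the pullback of the global section ι(m) of O(1)
to v(m). -/
theorem result {A : Type u} [CommRing A] {S : Type u} [CommRing S] [Algebra A S] (𝒮 : ℕ → Submodule A S) [GradedAlgebra 𝒮]
    {M : Type u} [AddCommGroup M] [Module A M] (ι : M →ₗ[A] S) (hι : ∀ m : M, ι m ∈ 𝒮 1)
    (hsym : IsSymmetricAlgebra ι)
    {X : Scheme.{u}} (q : X ⟶ Spec (CommRingCat.of A)) (L : X.Modules) (hL : PicF.IsInvertible L)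
    (v : M →+ ProjUP.Γm L) (hv : ∀ (a : A) (m : M), v (a • m) = ProjUP.toGlobal q a • v m)
    (hgen : ProjUP.GeneratedBy L v) :
    ∃ (r : X ⟶ Proj 𝒮) (_ : r ≫ Proj.toSpecZero 𝒮 ≫ Spec.map (CommRingCat.ofHom (algebraMap A (𝒮 0))) = q)
      (τ : (Scheme.Modules.pullback r).obj (Twist.twist 𝒮 1) ≅ L),
      ∀ m : M, τ.hom.app ⊤ (ProjUP.pullSec r (Twist.twist 𝒮 1) (Twist.globalOf 𝒮 ⟨ι m, hι m⟩)) = v m := by
  have hgen' : Algebra.adjoin A (Set.range ι) = ⊤ := by
    refine top_le_iff.mp fun a _ => ?_
    refine hsym.induction (motive := fun a => a ∈ Algebra.adjoin A (Set.range ι))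
      (fun r => Subalgebra.algebraMap_mem _ r) (fun m => Algebra.subset_adjoin ⟨m, rfl⟩)
      (fun _ _ => mul_mem) (fun _ _ => add_mem) a
  have hext : ∀ m₀ (c : M → Γ(X, Groth.Agent.AmpleLib.locus (O := ⊤) (v m₀))),
      (∀ m, Groth.Agent.QCoh.res L (le_top : Groth.Agent.AmpleLib.locus (O := ⊤) (v m₀) ≤ ⊤) (v m) =
        c m • Groth.Agent.QCoh.res L le_top (v m₀)) →
      ∃ f : S →+* Γ(X, Groth.Agent.AmpleLib.locus (O := ⊤) (v m₀)),
        f.comp (algebraMap A S) = (Groth.Agent.QCoh.rres le_top).hom.comp (ProjUP.toGlobal q) ∧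
          ∀ m, f (ι m) = c m := by
    intro m₀ c hc
    have hg := Groth.Agent.AmpleLib.isGen_locus (O := ⊤) (v m₀)
    letI : Algebra A Γ(X, Groth.Agent.AmpleLib.locus (O := ⊤) (v m₀)) :=
      ((Groth.Agent.QCoh.rres le_top).hom.comp (ProjUP.toGlobal q)).toAlgebra
    have key : ∀ (m : M) (a b : Γ(X, Groth.Agent.AmpleLib.locus (O := ⊤) (v m₀))),
        a • Groth.Agent.QCoh.res L le_top (v m₀) = b • Groth.Agent.QCoh.res L le_top (v m₀) →
          a = b := fun m a b h => hg.injective le_rfl (by simpa [Groth.Agent.QCoh.res_self] using h)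
    let lin : M →ₗ[A] Γ(X, Groth.Agent.AmpleLib.locus (O := ⊤) (v m₀)) :=
      { toFun := c
        map_add' := fun m m' => key m _ _ ((hc _).symm.trans (by
          rw [map_add, map_add, add_smul]
          exact congrArg₂ (· + ·) (hc m) (hc m')))
        map_smul' := fun a m => key m _ _ ((hc _).symm.trans (by
          rw [hv, Groth.Agent.QCoh.res_smul, RingHom.id_apply, Algebra.smul_def, mul_smul]
          exact congrArg _ (hc m))) }
    exact ⟨(hsym.lift lin).toRingHom, RingHom.ext fun a => (hsym.lift lin).commutes a,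
      fun m => hsym.lift_eq lin m⟩
  obtain ⟨r, τ, hr, -, -, hτ⟩ := Groth.Agent.ProjMorph.exists_to_proj (𝒜 := 𝒮) ι hι hgen'
    (ProjUP.toGlobal q) hL v hgen hext
  exact ⟨r, hr.trans (Groth.Agent.ProjMorph.toSpecΓ_toGlobal q), τ, hτ⟩

end Groth.Agent.S3591
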