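import Groth.Statements.S4630
import Groth.Agent.FBase.PointScheme
-- import your own Groth.Agent.* helpers here

set_option autoImplicit false
open CategoryTheory AlgebraicGeometry
universe u
open FBase

namespace Groth.Agent.S4630

open CategoryTheory.Limits TensorProduct

lemma isDomain_of_flat_stalkMap {X Y : Scheme.{u}} (g : X ⟶ Y) [Flat g] (x : X)
    (h : IsDomain (X.presheaf.stalk x)) : IsDomain (Y.presheaf.stalk (g x)) := by
  algebraize [(g.stalkMap x).hom]
  have : Module.FaithfullyFlat (Y.presheaf.stalk (g x)) (X.presheaf.stalk x) :=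
    @Module.FaithfullyFlat.of_flat_of_isLocalHom _ _ _ _ _ _ _
      (Flat.stalkMap g x) (g.toLRSHom.prop x)
  exact (FaithfulSMul.algebraMap_injective (Y.presheaf.stalk (g x))
    (X.presheaf.stalk x)).isDomain (algebraMap _ (X.presheaf.stalk x))

/-- Two points over the same point, in two extensions, come from a point in a common extension. -/
lemma exists_point {k K L : Type u} [Field k] [Field K] [Field L] [Algebra k K] [Algebra k L]
    {X : Scheme.{u}} (f : X ⟶ Spec (CommRingCat.of k))
    (a : ↥(pullback f (Groth.Agent.FBase.BC.specMap k K)))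
    (b : ↥(pullback f (Groth.Agent.FBase.BC.specMap k L)))
    (h : pullback.fst f (Groth.Agent.FBase.BC.specMap k K) a =
      pullback.fst f (Groth.Agent.FBase.BC.specMap k L) b) :
    ∃ (M : Type u) (_ : Field M) (φ : K →+* M) (ψ : L →+* M)
      (hφψ : φ.comp (algebraMap k K) = ψ.comp (algebraMap k L)),
      letI := φ.toAlgebra; letI := ψ.toAlgebra
      letI : Algebra k M := (φ.comp (algebraMap k K)).toAlgebra
      haveI : IsScalarTower k K M := IsScalarTower.of_algebraMap_eq fun _ ↦ rfl
      haveI : IsScalarTower k L M :=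
        IsScalarTower.of_algebraMap_eq fun r ↦ RingHom.congr_fun hφψ r
      ∃ w : ↥(pullback f (Groth.Agent.FBase.BC.specMap k M)),
        Groth.Agent.FBase.BC2.bcMap f (K := K) (L := M) w = a ∧
        Groth.Agent.FBase.BC2.bcMap f (K := L) (L := M) w = b := by
  obtain ⟨z, hz₁, hz₂⟩ := Scheme.Pullback.exists_preimage_pullback a b h
  let Z := pullback (pullback.fst f (Groth.Agent.FBase.BC.specMap k K))
    (pullback.fst f (Groth.Agent.FBase.BC.specMap k L))
  obtain ⟨φ, hφ⟩ := Spec.map_surjective
    (Z.fromSpecResidueField z ≫ pullback.fst _ _ ≫ pullback.snd f (Groth.Agent.FBase.BC.specMap k K))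
  obtain ⟨ψ, hψ⟩ := Spec.map_surjective
    (Z.fromSpecResidueField z ≫ pullback.snd _ _ ≫ pullback.snd f (Groth.Agent.FBase.BC.specMap k L))
  have hcomp : φ.hom.comp (algebraMap k K) = ψ.hom.comp (algebraMap k L) := by
    have h' : Spec.map φ ≫ Groth.Agent.FBase.BC.specMap k K =
        Spec.map ψ ≫ Groth.Agent.FBase.BC.specMap k L := by
      rw [hφ, hψ]
      simp only [Category.assoc]
      rw [← pullback.condition (f := f), ← pullback.condition (f := f), pullback.condition_assoc]
    simp only [Groth.Agent.FBase.BC.specMap, ← Spec.map_comp] at h'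
    exact congrArg CommRingCat.Hom.hom (Spec.map_injective h')
  refine ⟨Z.residueField z, inferInstance, φ.hom, ψ.hom, hcomp, ?_⟩
  let := φ.hom.toAlgebra
  let := ψ.hom.toAlgebra
  let : Algebra k (Z.residueField z) := (φ.hom.comp (algebraMap k K)).toAlgebra
  have : IsScalarTower k K (Z.residueField z) := IsScalarTower.of_algebraMap_eq fun _ ↦ rfl
  have : IsScalarTower k L (Z.residueField z) :=
    IsScalarTower.of_algebraMap_eq fun r ↦ RingHom.congr_fun hcomp r
  let π := Z.fromSpecResidueField z ≫ pullback.fst _ _ ≫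
    pullback.fst f (Groth.Agent.FBase.BC.specMap k K)
  have hπ : π ≫ f = 𝟙 _ ≫ Groth.Agent.FBase.BC.specMap k (Z.residueField z) := by
    simp only [π, Category.assoc, Category.id_comp]
    rw [pullback.condition (f := f) (g := Groth.Agent.FBase.BC.specMap k K),
      ← Category.assoc (pullback.fst _ _), ← Category.assoc, ← hφ, ← Spec.map_comp]
    rfl
  let l := pullback.lift π (𝟙 _) hπ
  have e₁ : l ≫ Groth.Agent.FBase.BC2.bcMap f (K := K) (L := Z.residueField z) =
      Z.fromSpecResidueField z ≫ pullback.fst _ _ := by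
    apply pullback.hom_ext
    · rw [Category.assoc, Groth.Agent.FBase.BC2.bcMap_fst, pullback.lift_fst, Category.assoc]
    · rw [Category.assoc, Groth.Agent.FBase.BC2.bcMap_snd, ← Category.assoc, pullback.lift_snd,
        Category.id_comp, Category.assoc, ← hφ]
      rfl
  have e₂ : l ≫ Groth.Agent.FBase.BC2.bcMap f (K := L) (L := Z.residueField z) =
      Z.fromSpecResidueField z ≫ pullback.snd _ _ := by
    apply pullback.hom_ext
    · rw [Category.assoc, Groth.Agent.FBase.BC2.bcMap_fst, pullback.lift_fst, Category.assoc]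
      simp only [π]
      rw [pullback.condition]
    · rw [Category.assoc, Groth.Agent.FBase.BC2.bcMap_snd, ← Category.assoc, pullback.lift_snd,
        Category.id_comp, Category.assoc, ← hψ]
      rfl
  refine ⟨l default, ?_, ?_⟩
  · rw [← Scheme.Hom.comp_apply, e₁, Scheme.Hom.comp_apply, Scheme.fromSpecResidueField_apply, hz₁]
  · rw [← Scheme.Hom.comp_apply, e₂, Scheme.Hom.comp_apply, Scheme.fromSpecResidueField_apply, hz₂]


/-- Let X be a scheme over a field k, k' an extension field of k, and x' a point of X' = X ⊗_k k' lying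
over the point x of X. Then X is geometrically pointwise integral at x over k if and only if X' is
geometrically pointwise integral at x' over k'. -/
theorem result {k K : Type u} [Field k] [Field K] [Algebra k K]
    {X : Scheme.{u}} (f : X ⟶ Spec (CommRingCat.of k)) (x' : ↥(FBase.bc f K)) :
    FBase.IsGeomPtIntegralAt f ((FBase.bcπ f K) x') ↔ FBase.IsGeomPtIntegralAt (FBase.bcStr f K) x' := by
  constructor
  · intro h L _ _ x'' hx''
    let : Algebra k L := ((algebraMap K L).comp (algebraMap k K)).toAlgebra
    have : IsScalarTower k K L := IsScalarTower.of_algebraMap_eq fun _ ↦ rfl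
    let e : FBase.bc f L ≅ FBase.bc (FBase.bcStr f K) L :=
      (Groth.Agent.FBase.BC2.isPullback_bcMap f (K := K) (L := L)).isoPullback
    obtain ⟨y, rfl⟩ := e.hom.surjective x''
    have hy : (FBase.bcπ f L) y = (FBase.bcπ f K) x' := by
      rw [← hx'']
      change (pullback.fst f (Groth.Agent.FBase.BC.specMap k L)) y = _
      rw [← Groth.Agent.FBase.BC2.bcMap_fst f (K := K) (L := L),
        ← (Groth.Agent.FBase.BC2.isPullback_bcMap f (K := K) (L := L)).isoPullback_hom_fst]
      rfl
    have := h L y hy
    exact (Groth.Agent.FBase.PointScheme.openStalkEquiv e.hom y).toMulEquiv.isDomain _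
  · intro h L _ _ y hy
    obtain ⟨M, _, φ, ψ, hφψ, w, hw₁, hw₂⟩ := exists_point f x' y hy.symm
    let := φ.toAlgebra
    let := ψ.toAlgebra
    let : Algebra k M := (φ.comp (algebraMap k K)).toAlgebra
    have : IsScalarTower k K M := IsScalarTower.of_algebraMap_eq fun _ ↦ rfl
    have : IsScalarTower k L M := IsScalarTower.of_algebraMap_eq fun r ↦ RingHom.congr_fun hφψ r
    subst hw₁ hw₂
    let e : FBase.bc f M ≅ FBase.bc (FBase.bcStr f K) M :=
      (Groth.Agent.FBase.BC2.isPullback_bcMap f (K := K) (L := M)).isoPullback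
    have hx : (FBase.bcπ (FBase.bcStr f K) M) (e.hom w) =
        Groth.Agent.FBase.BC2.bcMap f (K := K) (L := M) w := by
      refine (Scheme.Hom.comp_apply _ _ _).symm.trans ?_
      exact congrArg (fun g ↦ (ConcreteCategory.hom g.base) w)
        (Groth.Agent.FBase.BC2.isPullback_bcMap f (K := K) (L := M)).isoPullback_hom_fst
    have hd := h M (e.hom w) hx
    have hd' : IsDomain ((FBase.bc f M).presheaf.stalk w) :=
      (Groth.Agent.FBase.PointScheme.openStalkEquiv e.hom w).symm.toMulEquiv.isDomain _
    have : Flat (Groth.Agent.FBase.BC2.bcMap f (K := L) (L := M)) :=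
      MorphismProperty.of_isPullback (P := @Flat)
        (Groth.Agent.FBase.BC2.isPullback_bcMap f (K := L) (L := M)).flip inferInstance
    exact isDomain_of_flat_stalkMap (Groth.Agent.FBase.BC2.bcMap f (K := L) (L := M)) w hd' 

end Groth.Agent.S4630
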