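import Groth.Statements.S4631
import Groth.Agent.FBase.PointScheme
-- import your own Groth.Agent.* helpers here

set_option autoImplicit false
open CategoryTheory AlgebraicGeometry
universe u
open FBase

namespace Groth.Agent.S4631

open CategoryTheory.Limits TensorProduct

lemma isDomain_of_flat_stalkMap {X Y : Scheme.{u}} (g : X ⟶ Y) [Flat g] (x : X)
    (h : IsDomain (X.presheaf.stalk x)) : IsDomain (Y.presheaf.stalk (g x)) := by
  algebraize [(g.stalkMap x).hom]
  have : Module.FaithfullyFlat (Y.presheaf.stalk (g x)) (X.presheaf.stalk x) :=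
    @Module.FaithfullyFlat.of_flat_of_isLocalHom _ _ _ _ _ _ _
      (Flat.stalkMap g x) (g.toLRSHom.prop x)
  exact (FaithfulSMul.algebraMap_injective (Y.presheaf.stalk (g x))
    (X.presheaf.stalk x)).isDomain (algebraMap _ (X.presheaf.stalk x))

lemma isDomain_localization {k : Type u} [Field k] {A : Type u} [CommRing A] [Algebra k A]
    {K : Type u} [Field K] [Algebra k K] (p : Ideal A) [p.IsPrime]
    [IsDomain (Localization.AtPrime p ⊗[k] K)] (P : Ideal (A ⊗[k] K)) [P.IsPrime]
    (hP : P.comap (algebraMap A (A ⊗[k] K)) = p) : IsDomain (Localization.AtPrime P) := by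
  suffices NoZeroDivisors (Localization.AtPrime P) from NoZeroDivisors.to_isDomain _
  refine ⟨fun {z₁ z₂} h ↦ ?_⟩
  obtain ⟨w₁, s₁, rfl⟩ := IsLocalization.exists_mk'_eq P.primeCompl z₁
  obtain ⟨w₂, s₂, rfl⟩ := IsLocalization.exists_mk'_eq P.primeCompl z₂
  rw [← IsLocalization.mk'_mul, IsLocalization.mk'_eq_zero_iff] at h
  obtain ⟨t, ht⟩ := h
  have aux : ∀ w : A ⊗[k] K,
      Groth.Agent.FBase.Point.mapK (Localization.AtPrime p) K ((t : A ⊗[k] K) * w) = 0 →
      ∀ s : P.primeCompl, IsLocalization.mk' (Localization.AtPrime P) w s = 0 := by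
    intro w hw s
    obtain ⟨a, ha, h'⟩ := Groth.Agent.FBase.Point.exists_mul_eq_zero p.primeCompl
      (Localization.AtPrime p) hw
    rw [IsLocalization.mk'_eq_zero_iff]
    refine ⟨⟨algebraMap A (A ⊗[k] K) a * t, P.primeCompl.mul_mem (fun hh ↦ ha ?_) t.2⟩, ?_⟩
    · rwa [← hP]
    · rw [mul_assoc]; exact h'
  have h0 : Groth.Agent.FBase.Point.mapK (Localization.AtPrime p) K ((t : A ⊗[k] K) * w₁) *
      Groth.Agent.FBase.Point.mapK (Localization.AtPrime p) K ((t : A ⊗[k] K) * w₂) = 0 := by
    rw [← map_mul, mul_mul_mul_comm, mul_assoc, ht, mul_zero, map_zero]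
  exact (mul_eq_zero.mp h0).imp (fun h ↦ aux w₁ h s₁) (fun h ↦ aux w₂ h s₂)


/-- Let X be a scheme over an algebraically closed field k and x a point of X. Then X is geometrically
pointwise integral at x over k if and only if the local ring of X at x is a domain. -/
theorem result {k : Type u} [Field k] [IsAlgClosed k] {X : Scheme.{u}}
    (f : X ⟶ Spec (CommRingCat.of k)) (x : X) :
    FBase.IsGeomPtIntegralAt f x ↔ IsDomain ↑(X.presheaf.stalk x) := by
  constructor
  · intro h
    have := Groth.Agent.FBase.BC.surjective_pullback_fst (K := k) f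
    obtain ⟨x', hx'⟩ := (pullback.fst f (Groth.Agent.FBase.BC.specMap k k)).surjective x
    have := h k x' hx'
    subst hx'
    exact isDomain_of_flat_stalkMap (pullback.fst f (Groth.Agent.FBase.BC.specMap k k)) x'
      (h k x' rfl)
  · intro h
    obtain ⟨A, _, _, j, p, _, rfl, hj⟩ := Groth.Agent.FBase.PointScheme.exists_chart f x
    refine (Groth.Agent.FBase.PointScheme.forall_point_iff f j hj p (fun R _ ↦ IsDomain R)
      (fun R S _ _ e _ ↦ e.symm.toMulEquiv.isDomain R)).mpr fun K _ _ P _ hP ↦ ?_
    have : IsDomain (Localization.AtPrime p.asIdeal) :=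
      (Groth.Agent.FBase.PointScheme.chartStalkEquiv j p).symm.toMulEquiv.isDomain _
    have := Groth.Agent.FBase.TensorAlgClosed.isDomain_tensor_field (k := k)
      (A := Localization.AtPrime p.asIdeal) (K := K)
    exact isDomain_localization p.asIdeal P hP

end Groth.Agent.S4631
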