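import Groth.Statements.S3408
import Groth.Agent.S2561
import Groth.Agent.S4963
import Groth.Agent.S2511
import Groth.Agent.GRLocus.Basic
import Groth.Agent.LimTop.ReducedLocus

set_option autoImplicit false
open CategoryTheory AlgebraicGeometry
universe u
open EGA43

namespace Groth.Agent.S3408

/-- Let Y be locally Noetherian, f : X ⟶ Y locally of finite type, x a point of X and y = f x. Suppose f
is universally open at the generic point of every irreducible component of X_y passing through x,
X_y is geometrically reduced at x, and the local ring O_{Y,y} is reduced. Then there is an open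
neighbourhood U of x such that the restriction of f to U is flat and U is a reduced scheme. -/
theorem result {X Y : Scheme.{u}} [IsLocallyNoetherian Y] (f : X ⟶ Y)
    [LocallyOfFiniteType f] (x : X)
    (hopen : ∀ z : ↥(f.fiber (f.base x)), f.asFiber x ∈ closure {z} →
      (∀ z' : ↥(f.fiber (f.base x)), z ∈ closure {z'} → z' = z) →
      EGA43.IsUnivOpenAt f ((f.fiberι (f.base x)).base z))
    (hred : FBase.IsGeomReducedAt (f.fiberToSpecResidueField (f.base x)) (f.asFiber x))
    (hy : _root_.IsReduced (Y.presheaf.stalk (f.base x))) :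
    ∃ U : X.Opens, x ∈ U ∧ Flat (U.ι ≫ f) ∧ IsReduced (U : Scheme.{u}) := by
  haveI : LocallyOfFinitePresentation f :=
    LocallyOfFinitePresentation.iff_locallyOfFiniteType.mpr inferInstance
  haveI : IsLocallyNoetherian X := LocallyOfFiniteType.isLocallyNoetherian f
  let O : Set X := {x : X | (f.stalkMap x).hom.Flat ∧
    FBase.IsGeomReducedAt (f.fiberToSpecResidueField (f.base x)) (f.asFiber x)} ∩
    f.base ⁻¹' {y : Y | _root_.IsReduced (Y.presheaf.stalk y)}
  have hR : IsOpen {y : Y | _root_.IsReduced (Y.presheaf.stalk y)} :=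
    LimTop.isOpen_setOf_isReduced_stalk fun V => by
      haveI : IsNoetherianRing Γ(Y, V) := IsLocallyNoetherian.component_noetherian V
      exact IsNoetherian.noetherian _
  let U : X.Opens := ⟨O, (Groth.Agent.S4963.result f).inter (hR.preimage f.continuous)⟩
  haveI hflat : Flat (U.ι ≫ f) := by
    rw [Flat.iff_flat_stalkMap]
    intro z
    rw [Scheme.Hom.stalkMap_comp]
    exact RingHom.Flat.respectsIso.1 _ (asIso (U.ι.stalkMap z)).commRingCatIsoToRingEquiv z.2.1.1
  refine ⟨U, ⟨⟨Groth.Agent.S2561.result f x hopen hred hy, hred⟩, hy⟩, hflat, ?_⟩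
  refine Groth.Agent.S2511.result (U.ι ≫ f) (fun z => z.2.2) fun y => ?_
  haveI : GeometricallyReduced ((U.ι ≫ f).fiberToSpecResidueField y) :=
    GRLocus.geometricallyReduced_of_forall _ fun v => by
      let z : U.toScheme := (U.ι ≫ f).fiberι y v
      refine GRLocus.isGeomReducedAt_fiber_of (U.ι ≫ f) z ((U.ι ≫ f).range_fiberι y |>.le (Set.mem_range_self v))
        ?_ v rfl
      rw [GRLocus.mem_locus_restrict_iff (f := f) (j := U.ι) (i := 𝟙 Y) (by simp) z]
      exact z.2.1.2
  exact GeometricallyReduced.geometrically_isReduced (f := (U.ι ≫ f).fiberToSpecResidueField y)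
    (K := Y.residueField y) (𝟙 _) (𝟙 _) ((U.ι ≫ f).fiberToSpecResidueField y)
    (IsPullback.of_horiz_isIso ⟨by simp⟩)

end Groth.Agent.S3408
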