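import Groth.Statements.S3409
import Groth.Agent.S2561
import Groth.Agent.GRLocus.Open
import Groth.Agent.RedSub.Basic
import Groth.Agent.Thick.Topo
import Groth.Agent.OpenAt.Basic
import Groth.Agent.EquidimPt.FibreFun
import Groth.Agent.FibCodepth.SchemeAss
import Groth.Agent.FibCodepth.FlatLoci
import Groth.Agent.AssSch.ExtTensor
import Groth.Agent.QCoh.Pullback
import Groth.Agent.HomShEval.Reflexive
import Groth.Agent.FDesc.BaseChangeStalk

set_option autoImplicit false
open CategoryTheory AlgebraicGeometry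
universe u
open EGA43

namespace Groth.Agent.S3409

open Limits Groth.Agent

/-- A generization of a reduced point is reduced. -/
lemma isReduced_gen {P : Scheme.{u}} {w y : P} (h : w ⤳ y) (hy : _root_.IsReduced (P.presheaf.stalk y)) :
    _root_.IsReduced (P.presheaf.stalk w) := by
  obtain ⟨q, rfl⟩ : w ∈ Set.range (P.fromSpecStalk y) := by rw [Scheme.range_fromSpecStalk]; exact h
  haveI := hy
  haveI := FDesc.BaseChangeStalk.flat_fromSpecStalk (X := P) y
  exact isReduced_of_injective ((P.fromSpecStalk y).stalkMap q).hom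
    (GRLocus.stalkMap_bijective_of_flat (P.fromSpecStalk y) q).1

lemma isReduced_stalk_of_isGeomReducedAt {k : Type u} [Field k] {P : Scheme.{u}}
    (π : P ⟶ Spec (CommRingCat.of k)) (x : P) (h : FBase.IsGeomReducedAt π x) :
    _root_.IsReduced (P.presheaf.stalk x) := by
  haveI : IsIso (Spec.map (CommRingCat.ofHom (algebraMap k k))) := by
    rw [Algebra.algebraMap_self, CommRingCat.ofHom_id, Spec.map_id]
    infer_instance
  haveI : IsIso (FBase.bcπ π k) := inferInstanceAs (IsIso (pullback.fst π (Spec.map (CommRingCat.ofHom (algebraMap k k)))))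
  obtain ⟨w, rfl⟩ := (FBase.bcπ π k).surjective x
  haveI : _root_.IsReduced ((FBase.bc π k).presheaf.stalk w) := h k w rfl
  exact isReduced_of_injective ((FBase.bcπ π k).stalkMap w).hom
    (asIso ((FBase.bcπ π k).stalkMap w)).commRingCatIsoToRingEquiv.injective

/-- At a reduced point, being associated is being maximal. -/
lemma max_iff_mem_ass {P : Scheme.{u}} [IsLocallyNoetherian P] (w : P) (hw : _root_.IsReduced (P.presheaf.stalk w)) :
    w ∈ _root_.AssSch.Ass (Coh.structureModule P) ↔ FlatOpen.EquiDim.Max w := by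
  rw [AssSch.FlatAss.mem_ass_structure_iff]
  let R := P.presheaf.stalk w
  haveI : _root_.IsReduced R := hw
  constructor
  · intro hass
    obtain ⟨hp, c, hc⟩ := isAssociatedPrime_iff.mp hass
    have hfield : IsField R := by
      rw [IsLocalRing.isField_iff_maximalIdeal_eq]
      refine bot_unique fun a ha ↦ ?_
      rw [Ideal.mem_bot]
      by_contra ha0
      rw [hc, Submodule.mem_colon_singleton, Submodule.mem_bot, smul_eq_mul] at ha
      by_cases hcu : IsUnit c
      · exact ha0 (hcu.mul_left_eq_zero.mp ha)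
      · have : c * c = 0 := by
          have := hc.le (show c ∈ IsLocalRing.maximalIdeal R from hcu)
          rwa [Submodule.mem_colon_singleton, Submodule.mem_bot, smul_eq_mul] at this
        have hnil : IsNilpotent c := ⟨2, by rw [pow_two, this]⟩
        refine hp.ne_top ?_
        rw [hc, hnil.eq_zero, Ideal.eq_top_iff_one, Submodule.mem_colon_singleton, smul_zero]
        exact zero_mem _
    intro z hz
    obtain ⟨q, rfl⟩ : z ∈ Set.range (P.fromSpecStalk w) := by rw [Scheme.range_fromSpecStalk]; exact hz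
    rw [show q = IsLocalRing.closedPoint R from PrimeSpectrum.ext
      ((IsLocalRing.le_maximalIdeal q.isPrime.ne_top).antisymm
        ((IsLocalRing.isField_iff_maximalIdeal_eq.mp hfield).le.trans bot_le))]
    exact P.fromSpecStalk_closedPoint
  · intro hmax
    have h1 := (EquidimPt.max_iff_minimal w (IsLocalRing.closedPoint R)).1
      (P.fromSpecStalk_closedPoint.symm ▸ hmax)
    have h2 := Module.associatedPrimes.minimalPrimes_annihilator_subset_associatedPrimes R R
    rw [Module.annihilator_eq_bot.mpr inferInstance] at h2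
    exact h2 h1

/-- On the fibre, at reduced points. -/
lemma fibre_ass_iff {X Y : Scheme.{u}} (f : X ⟶ Y) [LocallyOfFiniteType f] (s : Y) (w : f.fiber s)
    (hw : _root_.IsReduced ((f.fiber s).presheaf.stalk w)) :
    w ∈ _root_.AssSch.Ass ((Scheme.Modules.pullback (f.fiberι s)).obj (Coh.structureModule X)) ↔
      FlatOpen.EquiDim.Max w := by
  haveI : LocallyOfFiniteType (f.fiberToSpecResidueField s) :=
    MorphismProperty.of_isPullback (P := @LocallyOfFiniteType)
      (IsPullback.of_hasPullback f (Y.fromSpecResidueField s)) inferInstance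
  haveI : IsLocallyNoetherian (f.fiber s) :=
    LocallyOfFiniteType.isLocallyNoetherian (f.fiberToSpecResidueField s)
  exact (AssSch.ExtTensor.mem_ass_of_iso (QCoh.pullbackUnitIso (f.fiberι s)) w).trans (max_iff_mem_ass w hw)

lemma dim_closure_of_max {X Y : Scheme.{u}} (f : X ⟶ Y) {y : Y} (w : f.fiber y) (hw : FlatOpen.EquiDim.Max w) :
    topologicalKrullDim ↥(closure ({w} : Set ↥(f.fiber y))) =
      Order.krullDim {z : X | f z = y ∧ f.fiberι y w ⤳ z} := by
  obtain ⟨ζ, hζ, -, -, hd⟩ :=
    EquidimPt.exists_generic_of_component f (FlatOpen.EquiDim.closure_mem_irreducibleComponents hw)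
  obtain rfl : ζ = w := hζ.eq isGenericPoint_closure
  exact hd

/-- The flat case: the dimensions of the fibre components spread. -/
lemma exists_nhd_dim {X Y : Scheme.{u}} [IsLocallyNoetherian Y] (f : X ⟶ Y) [LocallyOfFinitePresentation f]
    (x : X) (hflat : (f.stalkMap x).hom.Flat) (hred : x ∈ GRLocus.locus f) (e : ℕ)
    (hdim : ∀ w, f w = f x → (∀ z, f z = f x → z ⤳ w → z = w) → w ⤳ x →
      Order.krullDim {z : X | f z = f w ∧ w ⤳ z} = e) :
    ∃ W : X.Opens, x ∈ W ∧ (∀ v ∈ W, (f.stalkMap v).hom.Flat) ∧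
      ∀ ξ ∈ W, (∀ z, f z = f ξ → z ⤳ ξ → z = ξ) → Order.krullDim {z : X | f z = f ξ ∧ ξ ⤳ z} = e := by
  let W₀ : X.Opens := ⟨_, GRLocus.isOpen_flat_locus f⟩
  obtain ⟨V, U, hV, hU, eUV, hxU, hUW, hfl⟩ :=
    FibCodepth.exists_flat_chart f W₀ (fun v hv => hv.1) x ⟨hflat, hred⟩
  haveI : IsLocallyNoetherian X := LocallyOfFiniteType.isLocallyNoetherian f
  haveI : (Coh.structureModule X).IsQuasicoherent := (HomShEval.Reflexive.isCoh_structureModule X).1
  letI := (f.appLE V U eUV).hom.toAlgebra
  haveI : Algebra.FinitePresentation Γ(Y, V) Γ(X, U) := f.finitePresentation_appLE hV hU eUV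
  haveI := hfl
  have hopen := (FibCodepth.isOpen_assLoci (A := Γ(Y, V)) (B := Γ(X, U)) Γ(X, U) {e} 0).1
  obtain ⟨T, hT, hTm⟩ := FibCodepth.exists_open_of_primeIdealOf hU hopen
  have hiff : ∀ v (hv : v ∈ U),
      (∀ w ∈ _root_.AssSch.Ass ((Scheme.Modules.pullback (f.fiberι (f v))).obj (Coh.structureModule X)),
        f.asFiber v ∈ closure {w} →
        ∃ n ∈ ({e} : Finset ℕ), topologicalKrullDim ↥(closure ({w} : Set ↥(f.fiber (f v)))) = (n : WithBot ℕ∞)) ↔
      FibCodepth.AssDimsIn Γ(Y, V) Γ(X, U) Γ(X, U) {e} (hU.primeIdealOf ⟨v, hv⟩) := fun v hv =>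
    FibCodepth.assDims_iff_chart f hV hU eUV (Coh.structureModule X) (Module.Finite.self Γ(X, U)) {e} (f v)
      (f.asFiber v) v (f.fiberι_asFiber v) hv
  refine ⟨⟨T ∩ U, hT.inter U.2⟩, ⟨(hTm x hxU).2 ((hiff x hxU).1 fun w hass hwx => ⟨e, Finset.mem_singleton_self e, ?_⟩), hxU⟩,
    fun v hv => (hUW hv.2).1, fun ξ hξ hmax => ?_⟩
  · have hwx' : w ⤳ f.asFiber x := specializes_iff_mem_closure.2 hwx
    have hr := isReduced_gen hwx' (isReduced_stalk_of_isGeomReducedAt _ _ hred)
    have hwm := (fibre_ass_iff f (f x) w hr).1 hass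
    rw [dim_closure_of_max f w hwm]
    have hfw : f (f.fiberι (f x) w) = f x := (f.range_fiberι (f x)).le (Set.mem_range_self w)
    have h1 := hdim (f.fiberι (f x) w) hfw (fun z hz hzw => by
      obtain ⟨v, rfl⟩ : z ∈ Set.range (f.fiberι (f x)) := by rw [f.range_fiberι]; exact hz
      exact congrArg _ (hwm v ((f.fiberι _).isEmbedding.specializes_iff.1 hzw)))
      (by simpa [f.fiberι_asFiber] using hwx'.map (f.fiberι (f x)).continuous)
    rwa [hfw] at h1
  · have hm : FlatOpen.EquiDim.Max (f.asFiber ξ) := fun v hv => (f.fiberι _).isEmbedding.injective (by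
      have h1 := hv.map (f.fiberι (f ξ)).continuous
      rw [f.fiberι_asFiber] at h1 ⊢
      exact hmax _ ((f.range_fiberι _).le (Set.mem_range_self v)) h1)
    have hr := isReduced_stalk_of_isGeomReducedAt _ _ (hUW hξ.2).2
    obtain ⟨n, hn, hd⟩ := (hiff ξ hξ.2).2 ((hTm ξ hξ.2).1 hξ.1) (f.asFiber ξ)
      ((fibre_ass_iff f (f ξ) _ hr).2 hm) (subset_closure rfl)
    obtain rfl := Finset.mem_singleton.1 hn
    rw [dim_closure_of_max f _ hm, f.fiberι_asFiber] at hd
    exact hd


/-- Let Y be locally Noetherian, f : X ⟶ Y locally of finite type, x a point of X and y = f x. Suppose f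
is universally open at the generic point of every irreducible component of X_y through x, X_y is
geometrically reduced at x, and all irreducible components of X_y passing through x have the same
dimension. Then f is equidimensional at x. -/
theorem result {X Y : Scheme.{u}} [IsLocallyNoetherian Y] (f : X ⟶ Y)
    [LocallyOfFiniteType f] (x : X)
    (hopen : ∀ z : ↥(f.fiber (f.base x)), f.asFiber x ∈ closure {z} →
      (∀ z' : ↥(f.fiber (f.base x)), z ∈ closure {z'} → z' = z) →
      EGA43.IsUnivOpenAt f ((f.fiberι (f.base x)).base z))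
    (hred : FBase.IsGeomReducedAt (f.fiberToSpecResidueField (f.base x)) (f.asFiber x))
    (heq : ∃ e : ℕ, ∀ Z ∈ irreducibleComponents (↥(f.fiber (f.base x)) : Type u), f.asFiber x ∈ Z →
      topologicalKrullDim (↥Z : Type u) = e) :
    EGA43.IsEquidimAt f x := by
  let R := Scheme.IdealSheafData.vanishingIdeal (⊤ : TopologicalSpace.Closeds Y)
  let i := R.subschemeι
  haveI : Surjective i := ⟨fun y => by
    have h1 : y ∈ (R.support : Set Y) := by
      rw [Scheme.IdealSheafData.coe_support_vanishingIdeal]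
      trivial
    rw [← Scheme.IdealSheafData.range_subschemeι] at h1
    exact h1⟩
  haveI : IsLocallyNoetherian R.subscheme := LocallyOfFiniteType.isLocallyNoetherian i
  let f' := Limits.pullback.snd f i
  let g' := Limits.pullback.fst f i
  haveI : IsClosedImmersion g' := MorphismProperty.pullback_fst f i inferInstance
  haveI : Surjective g' := MorphismProperty.pullback_fst f i inferInstance
  have sq : IsPullback g' f' f i := IsPullback.of_hasPullback f i
  have hg : IsHomeomorph g' := Thick.Topo.isHomeomorph g'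
  haveI : LocallyOfFinitePresentation f' :=
    LocallyOfFinitePresentation.iff_locallyOfFiniteType.mpr inferInstance
  obtain ⟨x', rfl⟩ := g'.surjective x
  have hbase : ∀ v, f (g' v) = i (f' v) := fun v => by
    rw [← Scheme.Hom.comp_apply, sq.w, Scheme.Hom.comp_apply]
  have hopen' : ∀ z : ↥(f'.fiber (f' x')), f'.asFiber x' ∈ closure {z} →
      (∀ z' : ↥(f'.fiber (f' x')), z ∈ closure {z'} → z' = z) →
      EGA43.IsUnivOpenAt f' (f'.fiberι (f' x') z) := by
    intro z hz hzmax
    let w := f'.fiberι (f' x') z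
    have hw : f' w = f' x' := (f'.range_fiberι (f' x')).le (Set.mem_range_self z)
    have hwy : g' w ∈ Set.range (f.fiberι (f (g' x'))) := by
      rw [f.range_fiberι]
      show f (g' w) = f (g' x')
      rw [hbase, hw, hbase]
    obtain ⟨z₀, hz₀⟩ := hwy
    have hwx : w ⤳ x' := by
      have h1 := (specializes_iff_mem_closure.2 hz).map (f'.fiberι (f' x')).continuous
      rwa [f'.fiberι_asFiber] at h1
    refine OpenAt.isUnivOpenAt_of_isPullback (hopen z₀ ?_ fun z₁ hz₁ => ?_) sq w hz₀.symm
    · rw [← specializes_iff_mem_closure, ← (f.fiberι _).isEmbedding.isInducing.specializes_iff, hz₀,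
        f.fiberι_asFiber]
      exact hwx.map g'.continuous
    · apply (f.fiberι _).isEmbedding.injective
      obtain ⟨v, hv⟩ := g'.surjective (f.fiberι _ z₁)
      have hvy : f' v ∈ ({f' x'} : Set _) := by
        refine i.isClosedEmbedding.injective ?_
        rw [← hbase, hv, ← hbase]
        exact (f.range_fiberι _).le (Set.mem_range_self z₁)
      obtain ⟨v₁, rfl⟩ : v ∈ Set.range (f'.fiberι (f' x')) := by rw [f'.range_fiberι]; exact hvy
      have h2 : f'.fiberι (f' x') v₁ ⤳ w := by
        rw [← hg.isInducing.specializes_iff, hv, ← hz₀]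
        exact (specializes_iff_mem_closure.2 hz₁).map (f.fiberι _).continuous
      rw [hzmax v₁ (specializes_iff_mem_closure.1
        ((f'.fiberι _).isEmbedding.isInducing.specializes_iff.1 h2))] at hv
      rw [← hv, hz₀]
  have hred' := SecDim.isGeomReducedAt_baseChange sq x' hred
  have hflat := Groth.Agent.S2561.result f' x' hopen' hred' inferInstance
  obtain ⟨e, he⟩ := heq
  haveI : IsLocallyNoetherian X := LocallyOfFiniteType.isLocallyNoetherian f
  have hK : ∀ w, Order.krullDim {z | f' z = f' w ∧ w ⤳ z} =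
      Order.krullDim {z : X | f z = f (g' w) ∧ g' w ⤳ z} := fun w => by
    refine FibSemi.krullDim_eq_of_embedding g' (fun a b => hg.isInducing.specializes_iff) hg.injective _ _ fun z => ?_
    obtain ⟨z, rfl⟩ := g'.surjective z
    simp only [Set.mem_setOf_eq, hbase]
    constructor
    · exact fun h => ⟨z, ⟨i.isClosedEmbedding.injective h.1, hg.isInducing.specializes_iff.1 h.2⟩, rfl⟩
    · rintro ⟨z', hz', h'⟩
      obtain rfl := hg.injective h'
      exact ⟨congrArg _ hz'.1, hz'.2.map g'.continuous⟩
  have hdim : ∀ w, f' w = f' x' → (∀ z, f' z = f' x' → z ⤳ w → z = w) → w ⤳ x' →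
      Order.krullDim {z | f' z = f' w ∧ w ⤳ z} = e := fun w hw hwmax hwx => by
    have hwy : f (g' w) = f (g' x') := by rw [hbase, hbase, hw]
    obtain ⟨ζ, hζ⟩ : g' w ∈ Set.range (f.fiberι (f (g' x'))) := by rw [f.range_fiberι]; exact hwy
    have hm : FlatOpen.EquiDim.Max ζ := fun v hv => (f.fiberι _).isEmbedding.injective (by
      obtain ⟨v', hv'⟩ := g'.surjective (f.fiberι _ v)
      have h1 : f' v' = f' x' := i.isClosedEmbedding.injective (by
        rw [← hbase, hv', ← hbase]
        exact (f.range_fiberι _).le (Set.mem_range_self v))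
      have h2 := hv.map (f.fiberι (f (g' x'))).continuous
      rw [hζ, ← hv'] at h2
      rw [hζ, ← hv', hwmax v' h1 (hg.isInducing.specializes_iff.1 h2)])
    have h3 := he _ (FlatOpen.EquiDim.closure_mem_irreducibleComponents hm) (by
      rw [← specializes_iff_mem_closure, ← (f.fiberι _).isEmbedding.isInducing.specializes_iff, hζ,
        f.fiberι_asFiber]
      exact hwx.map g'.continuous)
    rw [dim_closure_of_max f ζ hm, hζ] at h3
    rw [hK, hwy, h3]
  obtain ⟨W, hxW, hWflat, hWdim⟩ := exists_nhd_dim f' x' hflat hred' e hdim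
  rw [EquidimPt.isEquidimAt_iff]
  intro ξ hξ hmax
  obtain ⟨ξ', rfl⟩ := g'.surjective ξ
  have hξ' : ξ' ⤳ x' := hg.isInducing.specializes_iff.1 hξ
  have hmax' : FlatOpen.EquiDim.Max ξ' := fun z hz => hg.injective (hmax _ (hz.map g'.continuous))
  have hξW : ξ' ∈ W := hξ'.mem_open W.2 hxW
  haveI : Flat (W.ι ≫ f') := by
    rw [Flat.iff_flat_stalkMap]
    intro z
    rw [Scheme.Hom.stalkMap_comp]
    exact RingHom.Flat.respectsIso.1 _ (asIso (W.ι.stalkMap z)).commRingCatIsoToRingEquiv (hWflat _ z.2)
  haveI : IsLocallyNoetherian (pullback f i) := LocallyOfFiniteType.isLocallyNoetherian f'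
  have hfmax : FlatOpen.EquiDim.Max (f' ξ') := by
    have h1 := FlatOpen.EquiDim.max_image (W.ι ≫ f') (η := ⟨ξ', hξW⟩)
      fun z hz => W.ι.injective (hmax' _ (hz.map W.ι.continuous))
    exact h1
  refine ⟨fun y hy => ?_, ?_⟩
  · obtain ⟨y', rfl⟩ := i.surjective y
    rw [hbase] at hy ⊢
    rw [hfmax y' (i.isClosedEmbedding.isInducing.specializes_iff.1 hy)]
  · have h1 := hWdim ξ' hξW fun z _ hz => hmax' z hz
    rw [hK] at h1
    rw [GUOpen.fibreDimAt_of_max f (fun z _ hz => hmax z hz), h1]
    obtain ⟨c, hcx, hfc, hcmax, -, -, e', -, -, hfd, hc, -⟩ := FibSemi.exists_max_fibre f (g' x')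
    obtain ⟨c', rfl⟩ := g'.surjective c
    have hc' : f' c' = f' x' := i.isClosedEmbedding.injective (by rw [← hbase, hfc, hbase])
    have h2 := hdim c' hc' (fun z hz hzc => hg.injective (hcmax _ (by rw [hbase, hz, hbase]) (hzc.map g'.continuous)))
      (hg.isInducing.specializes_iff.1 hcx)
    rw [hK, hc] at h2
    rw [hfd, h2]

end Groth.Agent.S3409
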