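import Groth.Statements.S4939
import Groth.Agent.GUOpen.Crit
import Groth.Agent.GUOpen.DimEq
import Groth.Agent.GUOpen.Equidim

set_option autoImplicit false
set_option linter.style.haveILetI false
open CategoryTheory AlgebraicGeometry
universe u v w
open EGA43

namespace Groth.Agent.S4939

open Groth.Agent.FibSemi in
/-- What equidimensionality at a point gives, read on points, over any base. -/
theorem facts_of_equidim {X Y : Scheme.{u}} (f : X ⟶ Y) [LocallyOfFiniteType f] {x : X} (hf : EGA43.IsEquidimAt f x) :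
    ∃ (e : ℕ) (U : X.Opens), x ∈ U ∧ (∀ z ∈ U, (∀ z', z' ⤳ z → z' = z) →
        closure {f z} ∈ irreducibleComponents (Y : Type u) ∧ f x ∈ closure {f z}) ∧
      ∀ c ∈ U, (∀ z, f z = f c → z ⤳ c → z = c) →
        Order.krullDim {z : X | f z = f c ∧ c ⤳ z} = e := by
  obtain ⟨e, U, hxU, hcomp, hdim⟩ := hf
  refine ⟨e, U, hxU, fun z hz hzmax => ?_, fun c hc hcmax => ?_⟩
  · let z' : U.toScheme := ⟨z, hz⟩
    let Z : Set U.toScheme := closure {z'}
    have hZ : Z ∈ irreducibleComponents U.toScheme := by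
      refine ⟨isIrreducible_singleton.closure, fun T hT hle => ?_⟩
      obtain ⟨t, ht⟩ := QuasiSober.sober (α := U.toScheme) hT.closure isClosed_closure
      have h1 : t ⤳ z' := ht.specializes (subset_closure (hle (subset_closure rfl)))
      have h2 : t = z' := U.ι.injective (hzmax _ (h1.map U.ι.continuous))
      subst h2
      exact subset_closure.trans ht.symm.subset
    obtain ⟨W, hW, hxW, hcl⟩ := hcomp Z hZ
    rw [closure_image_closure (U.ι ≫ f).continuous, Set.image_singleton] at hcl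
    change closure {f z} = W at hcl
    subst hcl
    exact ⟨hW, hxW⟩
  · let g : U.toScheme ⟶ Y := U.ι ≫ f
    let c' : U.toScheme := ⟨c, hc⟩
    let w := g.asFiber c'
    have hwmax : ∀ v, v ⤳ w → v = w := fun v hv => by
      have h1 : g.fiberι (g c') v ⤳ c' := by
        have h0 := hv.map (g.fiberι (g c')).continuous
        rw [g.fiberι_asFiber] at h0
        exact h0
      have h2 : f (U.ι (g.fiberι (g c') v)) = f c := by
        have : g.fiberι (g c') v ∈ Set.range (g.fiberι (g c')) := ⟨v, rfl⟩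
        rw [g.range_fiberι] at this
        exact this
      exact (g.fiberι (g c')).isEmbedding.injective
        ((U.ι.injective (hcmax _ h2 (h1.map U.ι.continuous))).trans (g.fiberι_asFiber c').symm)
    let Z : Set (g.fiber (g c')) := closure {w}
    have hZ : Z ∈ irreducibleComponents (g.fiber (g c')) := by
      refine ⟨isIrreducible_singleton.closure, fun T hT hle => ?_⟩
      obtain ⟨t, ht⟩ := QuasiSober.sober hT.closure isClosed_closure
      have h1 : t ⤳ w := ht.specializes (subset_closure (hle (subset_closure rfl)))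
      rw [hwmax t h1] at ht
      exact subset_closure.trans ht.symm.subset
    have h := hdim c' Z hZ
    rw [QSect.topDim_closure_singleton] at h
    show Order.krullDim {z : X | f z = f (U.ι c') ∧ U.ι c' ⤳ z} = e
    rw [← krullDim_specs_opens f U c', ← height_asFiber g c']
    exact h

/-- All generizations of a unibranch point have the same generic point. -/
theorem eq_of_max {Y : Scheme.{u}} {y : Y} (h : CAlg2.IsUnibranch (Y.presheaf.stalk y)) {a b : Y}
    (ha : ∀ z, z ⤳ a → z = a) (hb : ∀ z, z ⤳ b → z = b) (hay : a ⤳ y) (hby : b ⤳ y) : a = b := by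
  obtain ⟨p, rfl⟩ : a ∈ Set.range (Y.fromSpecStalk y) := by rw [Scheme.range_fromSpecStalk]; exact hay
  obtain ⟨q, rfl⟩ : b ∈ Set.range (Y.fromSpecStalk y) := by rw [Scheme.range_fromSpecStalk]; exact hby
  haveI : (nilradical (Y.presheaf.stalk y)).IsPrime := (Ideal.Quotient.isDomain_iff_prime _).mp h.1
  let n : PrimeSpectrum (Y.presheaf.stalk y) := ⟨nilradical _, inferInstance⟩
  have hn : ∀ r : PrimeSpectrum (Y.presheaf.stalk y), n ⤳ r := fun r =>
    (PrimeSpectrum.le_iff_specializes _ _).mp (nilradical_le_prime r.asIdeal)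
  rw [← ha _ ((hn p).map (Y.fromSpecStalk y).continuous), hb _ ((hn q).map (Y.fromSpecStalk y).continuous)]


/-- Suppose Y is a locally Noetherian scheme and f : X ⟶ Y is locally of finite type; take a point x of
X whose image y = f x is geometrically unibranch on Y. Then these three conditions are equivalent:
a) f is equidimensional at x; b) O_{X,x} is an equidimensional local ring, and f is open at every
generic point of an irreducible component of the fibre X_y that contains x; c) O_{X,x} is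
equidimensional, and f is universally open at every such generic point of an irreducible component
of X_y passing through x. (Not formalized here is the additional claim that, when these hold,
restricting f to any reduced irreducible component of X through x gives a morphism equidimensional
at x and universally open at the points of the components of its fibre through x.) -/
theorem result {X Y : Scheme.{u}} [IsLocallyNoetherian Y] (f : X ⟶ Y)
    [LocallyOfFiniteType f] (x : X) (hy : CAlg2.IsGeomUnibranch (Y.presheaf.stalk (f.base x))) :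
    List.TFAE [EGA43.IsEquidimAt f x,
      EGA4.IsEquidim (X.presheaf.stalk x) ∧ (∀ z : ↥(f.fiber (f.base x)), f.asFiber x ∈ closure {z} →
        (∀ z' : ↥(f.fiber (f.base x)), z ∈ closure {z'} → z' = z) → EGA43.IsOpenAt f.base ((f.fiberι (f.base x)).base z)),
      EGA4.IsEquidim (X.presheaf.stalk x) ∧ (∀ z : ↥(f.fiber (f.base x)), f.asFiber x ∈ closure {z} →
        (∀ z' : ↥(f.fiber (f.base x)), z ∈ closure {z'} → z' = z) → EGA43.IsUnivOpenAt f ((f.fiberι (f.base x)).base z))] := by
  classical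
  let y := f x
  obtain ⟨η, hηy, hηmax⟩ := FibSemi.exists_max_specializes y
  have hbelow : ∀ y' : Y, y' ⤳ y → η ⤳ y' := fun y' h => by
    obtain ⟨m, hm, hmmax⟩ := FibSemi.exists_max_specializes y'
    rwa [eq_of_max hy.1 hmmax hηmax (hm.trans h) hηy] at hm
  have hηcomp : closure ({η} : Set Y) ∈ irreducibleComponents (Y : Type u) := by
    refine ⟨isIrreducible_singleton.closure, fun T hT hle => ?_⟩
    obtain ⟨t, ht⟩ := QuasiSober.sober hT.closure isClosed_closure
    rw [hηmax t (ht.specializes (subset_closure (hle (subset_closure rfl))))] at ht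
    exact subset_closure.trans ht.symm.subset
  -- fibre points
  let F := f.fiber (f.base x)
  let ιF : F → X := fun z => (f.fiberι (f.base x)).base z
  have hιF : ∀ z : F, f (ιF z) = f x := fun z => by
    have : f.fiberι (f x) z ∈ Set.range (f.fiberι (f x)) := ⟨z, rfl⟩
    rwa [f.range_fiberι] at this
  have hιx : ιF (f.asFiber x) = x := f.fiberι_asFiber x
  have hιsp : ∀ z z' : F, ιF z ⤳ ιF z' ↔ z ⤳ z' := fun z z' => (f.fiberι (f x)).isEmbedding.specializes_iff
  have hιsurj : ∀ w : X, f w = f x → ∃ z : F, ιF z = w := fun w hw => by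
    have : w ∈ Set.range (f.fiberι (f x)) := by rw [f.range_fiberι]; exact hw
    exact this
  tfae_have 1 → 3 := fun hf => by
    obtain ⟨e, U, hxU, hgen, hM⟩ := facts_of_equidim f hf
    have hgen' : ∀ ξ ∈ U, (∀ z, z ⤳ ξ → z = ξ) → f ξ = η := fun ξ hξ hξmax => by
      obtain ⟨h1, h2⟩ := hgen ξ hξ hξmax
      exact eq_of_max hy.1 (GUOpen.max_of_mem_components h1 rfl) hηmax (specializes_iff_mem_closure.mpr h2) hηy
    have hsmall : ∀ (ξ w : X), f w = f x → Order.krullDim {z : X | f z = f w ∧ ξ ⤳ z ∧ z ∈ U} ≤ e := by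
      intro ξ w hw
      refine iSup_le fun l => ?_
      obtain ⟨c, hcl, hfc, hcm, -⟩ := FibSemi.exists_max_fibre f (l.last).1
      refine le_trans ?_ (hM c (hcl.mem_open U.isOpen (l.last).2.2.2) fun z hz => hcm z (hz.trans hfc)).le
      exact Order.le_krullDim_iff.mpr ⟨LTSeries.mk l.length (fun i => ⟨(l i).1,
        (l i).2.1.trans ((l.last).2.1.symm.trans hfc.symm),
        hcl.trans (show (l.last).1 ⤳ (l i).1 from l.monotone (Fin.le_last i))⟩) (fun i j hij => l.strictMono hij), rfl⟩
    have hgdim : ∀ ξ ∈ U, (∀ z, z ⤳ ξ → z = ξ) → Order.krullDim {z : X | f z = f ξ ∧ ξ ⤳ z} = e :=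
      fun ξ hξ hξmax => hM ξ hξ fun z _ hz => hξmax z hz
    refine ⟨(GUOpen.isEquidim_stalk_iff x).mpr fun ξ hξx hξmax => ?_, fun z hzx hzmax => ?_⟩
    · have key : ∀ ξ : X, ξ ⤳ x → (∀ z, z ⤳ ξ → z = ξ) → ∃ b t a : ℕ, Order.krullDim {z : X | ξ ⤳ z ∧ z ⤳ x} = b ∧
          Order.krullDim {z : X | f z = f x ∧ x ⤳ z} = t ∧
          Order.krullDim {z : Y | f ξ ⤳ z ∧ z ⤳ f x} = a ∧ b + t = a + e := fun ξ hξx hξmax => by
        have hξU := hξx.mem_open U.isOpen hxU
        exact GUOpen.dim_eq_of_dim f hξx (by rw [hgen' ξ hξU hξmax]; exact hηmax) hy (hgdim ξ hξU hξmax) U hxU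
          (hsmall ξ x rfl)
      obtain ⟨b, t, a, hb, ht, ha, heq⟩ := key ξ hξx hξmax
      refine le_antisymm (FibSemi.krullDim_mono fun z hz => hz.2) (iSup_le fun l => ?_)
      obtain ⟨ξ', hξ', hξ'max⟩ := FibSemi.exists_max_specializes (l.last).1
      have hξ'x : ξ' ⤳ x := hξ'.trans (l.last).2
      obtain ⟨b', t', a', hb', ht', ha', heq'⟩ := key ξ' hξ'x hξ'max
      rw [hgen' ξ (hξx.mem_open U.isOpen hxU) hξmax] at ha
      rw [hgen' ξ' (hξ'x.mem_open U.isOpen hxU) hξ'max, ha] at ha'
      rw [ht] at ht'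
      have h1 : a = a' := by exact_mod_cast ha'
      have h2 : t = t' := by exact_mod_cast ht'
      rw [hb, show b = b' by omega, ← hb']
      exact Order.le_krullDim_iff.mpr ⟨LTSeries.mk l.length (fun i => ⟨(l i).1,
        hξ'.trans (show (l.last).1 ⤳ (l i).1 from l.monotone (Fin.le_last i)), (l i).2⟩)
        (fun i j hij => l.strictMono hij), rfl⟩
    · have hcx : ιF z ⤳ x := hιx ▸ (hιsp _ _).mpr (specializes_iff_mem_closure.mpr hzx)
      have hcU : ιF z ∈ U := hcx.mem_open U.isOpen hxU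
      obtain ⟨ξ, hξc, hξmax⟩ := FibSemi.exists_max_specializes (ιF z)
      have hξU := hξc.mem_open U.isOpen hcU
      exact GUOpen.isUnivOpenAt_of_dim f hξc (by rw [hgen' ξ hξU hξmax]; exact hηmax) ((hιF z).symm ▸ hy)
        (hgdim ξ hξU hξmax) U hcU (hsmall ξ (ιF z) (hιF z))
  tfae_have 3 → 2 := fun h => ⟨h.1, fun z h1 h2 => GUOpen.isOpenAt_of_univ f (h.2 z h1 h2)⟩
  tfae_have 2 → 1 := fun ⟨heq, hopen⟩ => by
    rw [GUOpen.isEquidim_stalk_iff] at heq
    obtain ⟨c, hcx, hfc, hcm, -, -, e, -, -, hfdx, hc, -⟩ := FibSemi.exists_max_fibre f x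
    obtain ⟨c', hc'⟩ := hιsurj c hfc
    have hcopen : EGA43.IsOpenAt f.base c := by
      rw [← hc']
      refine hopen c' (specializes_iff_mem_closure.mp ((hιsp _ _).mp (by rw [hc', hιx]; exact hcx))) fun z' hz' => ?_
      exact (f.fiberι (f x)).isEmbedding.injective ((hcm _ (hιF z') (hc' ▸ (hιsp _ _).mpr
        (specializes_iff_mem_closure.mpr hz'))).trans hc'.symm)
    have hcmax : ∀ z, f z = f c → z ⤳ c → z = c := fun z hz => hcm z (hz.trans hfc)
    obtain ⟨ξ, hξc, hfξ, hξm, hξd⟩ := GUOpen.exists_gen_dim_of_isOpenAt f hcopen hcmax (y' := η) (hfc.symm ▸ hηy)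
    rw [GUOpen.fibreDimAt_of_max f hcmax, hc] at hξd
    have hξx : ξ ⤳ x := hξc.trans hcx
    have hup : ∀ ξ' : X, ξ' ⤳ x → Order.krullDim {z : X | f z = f ξ' ∧ ξ' ⤳ z} ≤ e := fun ξ' h => by
      have h1 := FibSemi.topDim_closure_le_fibreDimAt f h
      rwa [FibSemi.topDim_closure_inter_fibre_eq, hfdx] at h1
    have hξe : Order.krullDim {z : X | f z = f ξ ∧ ξ ⤳ z} = e := le_antisymm (hup ξ hξx) hξd
    have hξmax : ∀ z, z ⤳ ξ → z = ξ := fun z hz => hξm z (hηmax _ (hfξ ▸ hz.map f.continuous)) hz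
    obtain ⟨U₀, hxU₀, hU₀⟩ := (GUOpen.fibreDimAt_le_iff f x _).mp hfdx.le
    obtain ⟨b, t, a, hb, ht, ha, hsum⟩ := GUOpen.dim_eq_of_dim f hξx (hfξ.symm ▸ hηmax) hy hξe U₀ hxU₀
      ((FibSemi.krullDim_mono (T := {z : X | f z = f x ∧ z ∈ U₀}) fun z hz => ⟨hz.1, hz.2.2⟩).trans hU₀)
    have hB : Order.krullDim {z : X | z ⤳ x} = b := (heq ξ hξx hξmax).symm.trans hb
    have hall : ∀ ξ' : X, ξ' ⤳ x → (∀ z, z ⤳ ξ' → z = ξ') →
        closure ({f ξ'} : Set Y) = closure {η} ∧ Order.krullDim {z : X | f z = f ξ' ∧ ξ' ⤳ z} = e := by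
      intro ξ' h hmax'
      obtain ⟨b', t', a', e', hb', ht', ha', he', hle'⟩ := FibSemi.dim_inequality f h
      rw [heq ξ' h hmax', hB] at hb'
      rw [ht] at ht'
      have hbb : b = b' := by exact_mod_cast hb'
      have htt : t = t' := by exact_mod_cast ht'
      have hee : e' ≤ e := by
        have h1 := hup ξ' h
        rw [he'] at h1
        exact_mod_cast h1
      have hηξ : η ⤳ f ξ' := hbelow _ (h.map f.continuous)
      by_cases hne : f ξ' = η
      · rw [hne] at ha'
        rw [hfξ, ha'] at ha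
        have haa : a' = a := by exact_mod_cast ha
        exact ⟨by rw [hne], by rw [he', show e' = e by omega]⟩
      exfalso
      obtain ⟨l, hl⟩ := Order.le_krullDim_iff.mp (le_of_eq ha'.symm : ((a' : ℕ∞) : WithBot ℕ∞) ≤ _)
      let top : {z : Y | η ⤳ z ∧ z ⤳ f x} := ⟨η, specializes_rfl, hηy⟩
      let l₀ : LTSeries {z : Y | η ⤳ z ∧ z ⤳ f x} := LTSeries.mk l.length
        (fun i => ⟨(l i).1, hηξ.trans (l i).2.1, (l i).2.2⟩) fun i j hij => l.strictMono hij
      let l₁ : LTSeries {z : Y | η ⤳ z ∧ z ⤳ f x} := l₀.snoc top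
        ⟨hηξ.trans (l _).2.1, fun h' => hne
          ((((l _).2.1.trans (show (l (Fin.last _)).1 ⤳ η from h')).antisymm hηξ).eq)⟩
      rw [hfξ] at ha
      have h3 := (Order.le_krullDim_iff.mpr ⟨l₁, rfl⟩).trans_eq ha
      have h4 : l₁.length ≤ a := ENat.natCast_le_natCast.mp (WithBot.coe_le_coe.mp h3)
      have h5 : l₁.length = a' + 1 := by rw [← hl]; rfl
      omega
    -- a neighbourhood meeting only the components through `x`
    obtain ⟨V, hV, hxV, -⟩ := exists_isAffineOpen_mem_and_subset (U := ⊤) (x := x) trivial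
    haveI : IsLocallyNoetherian X := LocallyOfFiniteType.isLocallyNoetherian f
    haveI : IsLocallyNoetherian V.toScheme := isLocallyNoetherian_of_isOpenImmersion V.ι
    haveI : CompactSpace V.toScheme := isCompact_iff_compactSpace.mp hV.isCompact
    haveI : IsNoetherian V.toScheme := {}
    have hfin : {ξ' : X | ξ' ∈ V ∧ (∀ z, z ⤳ ξ' → z = ξ') ∧ ¬ ξ' ⤳ x}.Finite := by
      refine (((TopologicalSpace.NoetherianSpace.finite_irreducibleComponents (α := V.toScheme)).image
        (fun C => closure (V.ι '' C))).preimage (f := fun ξ' : X => closure ({ξ'} : Set X)) ?_).subset ?_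
      · exact fun p _ q _ hpq => IsGenericPoint.eq (show IsGenericPoint p _ from rfl) hpq.symm
      · rintro ξ' ⟨hV', hmax', -⟩
        let v : V.toScheme := ⟨ξ', hV'⟩
        refine ⟨closure {v}, ⟨isIrreducible_singleton.closure, fun T hT hle => ?_⟩, ?_⟩
        · obtain ⟨g, hg⟩ := QuasiSober.sober (α := V.toScheme) hT.closure isClosed_closure
          have h2 : g = v := V.ι.injective
            (hmax' _ ((hg.specializes (subset_closure (hle (subset_closure rfl)))).map V.ι.continuous))
          subst h2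
          exact subset_closure.trans hg.symm.subset
        · exact (closure_image_closure (s := ({v} : Set V.toScheme)) V.ι.continuous).trans
            (congrArg closure Set.image_singleton)
    let C : Set X := ⋃ ξ' ∈ {ξ' : X | ξ' ∈ V ∧ (∀ z, z ⤳ ξ' → z = ξ') ∧ ¬ ξ' ⤳ x}, closure {ξ'}
    have hC : IsClosed C := hfin.isClosed_biUnion fun _ _ => isClosed_closure
    let D : X.Opens := ⟨{z | FlatMor.fibreDimAt f z ≤ e}, FlatMisc.FibreDimScheme.isOpen_fibreDimAt_le (f := f) e⟩
    refine GUOpen.isEquidimAt_of_component f x (V ⊓ D ⊓ ⟨Cᶜ, hC.isOpen_compl⟩) ⟨⟨hxV, hfdx.le⟩, ?_⟩ e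
      (closure {η}) hηcomp (specializes_iff_mem_closure.mp hηy) (fun ξ' hξ' hmax' => hall ξ' ?_ hmax')
      fun z hz => hz.1.2
    · intro hx
      obtain ⟨ξ', hξ', hx'⟩ := Set.mem_iUnion₂.mp hx
      exact hξ'.2.2 (specializes_iff_mem_closure.mpr hx')
    · by_contra hn
      exact hξ'.2 (Set.mem_iUnion₂.mpr ⟨ξ', ⟨hξ'.1.1, hmax', hn⟩, subset_closure rfl⟩)
  tfae_finish

end Groth.Agent.S4939
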