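import Groth.Statements.S3410
import Groth.Agent.S2561
import Groth.Agent.S3408
import Groth.Agent.S3409
import Groth.Agent.S4939
import Groth.Agent.GUOpen.Main
import Groth.Agent.UnivOpenDVR.Basic
import Groth.Agent.RatMapExt.Valuative
import Groth.Agent.EquidimPt.FibreFun
import Groth.Agent.FlatMor.FibreStalk
import Groth.Agent.OpenAt.Basic
import Groth.Agent.AffThick.Components
import Groth.Agent.SecDim.RedBC

set_option autoImplicit false
open CategoryTheory AlgebraicGeometry
universe u
open EGA43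

namespace Groth.Agent.S3410

open Limits Groth.Agent

/-- At most one maximal generization of a point whose local ring is a domain. -/
lemma unique_max_of_domain {P : Scheme.{u}} {x : P} (hx : IsDomain (P.presheaf.stalk x)) {a b : P}
    (ha : a ⤳ x) (hb : b ⤳ x) (ham : FlatOpen.EquiDim.Max a) (hbm : FlatOpen.EquiDim.Max b) : a = b := by
  obtain ⟨p, rfl⟩ : a ∈ Set.range (P.fromSpecStalk x) := by rw [Scheme.range_fromSpecStalk]; exact ha
  obtain ⟨q, rfl⟩ : b ∈ Set.range (P.fromSpecStalk x) := by rw [Scheme.range_fromSpecStalk]; exact hb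
  have h1 := (EquidimPt.max_iff_minimal x p).1 ham
  have h2 := (EquidimPt.max_iff_minimal x q).1 hbm
  rw [IsDomain.minimalPrimes_eq_singleton_bot, Set.mem_singleton_iff] at h1 h2
  rw [PrimeSpectrum.ext (h1.trans h2.symm)]

/-- A point of a base change lifts the generizations in the fibre. -/
lemma gen_lift {X Y X' Y' : Scheme.{u}} {f : X ⟶ Y} {f' : X' ⟶ Y'} {g' : X' ⟶ X} {g : Y' ⟶ Y}
    (hc : IsPullback g' f' f g) (p : X') {a : X} (ha : a ⤳ g' p) (hfa : f a = f (g' p)) :
    ∃ p', p' ⤳ p ∧ g' p' = a ∧ f' p' = f' p := by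
  have hy : g (f' p) = f (g' p) := by rw [← Scheme.Hom.comp_apply, ← hc.w, Scheme.Hom.comp_apply]
  let φ := (Y.residueFieldCongr hy.symm).hom ≫ g.residueFieldMap (f' p)
  let ψ := Spec.map φ
  let pt := Y'.fromSpecResidueField (f' p) ≫ g
  have hψ : ψ ≫ Y.fromSpecResidueField (f (g' p)) = pt := by
    simp only [ψ, φ, pt, Spec.map_comp, Category.assoc]
    rw [Scheme.residueFieldCongr_fromSpecResidueField, g.SpecMap_residueFieldMap_fromSpecResidueField]
  let fk := f.fiberToSpecResidueField (f (g' p))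
  let fk' := f'.fiberToSpecResidueField (f' p)
  have h1 : IsPullback (pullback.fst fk ψ ≫ f.fiberι (f (g' p))) (pullback.snd fk ψ) f pt :=
    hψ ▸ (IsPullback.of_hasPullback fk ψ).paste_horiz
      (IsPullback.of_hasPullback f (Y.fromSpecResidueField (f (g' p))))
  have h2 : IsPullback (f'.fiberι (f' p) ≫ g') fk' f pt :=
    (IsPullback.of_hasPullback f' (Y'.fromSpecResidueField (f' p))).paste_horiz hc
  let e := h2.isoIsPullback _ _ h1
  have he : e.hom ≫ pullback.fst fk ψ ≫ f.fiberι (f (g' p)) = f'.fiberι (f' p) ≫ g' :=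
    h2.isoIsPullback_hom_fst _ _ h1
  have he' : ∀ t, f.fiberι (f (g' p)) (pullback.fst fk ψ (e.hom t)) = g' (f'.fiberι (f' p) t) := fun t =>
    congrArg (fun m => (m : _ ⟶ X) t) he
  haveI : Flat ψ := by
    rw [HasRingHomProperty.Spec_iff (P := @Flat)]
    letI := φ.hom.toAlgebra
    exact RingHom.flat_algebraMap_iff.mpr (inferInstanceAs (Module.Flat (Y.residueField (f (g' p))) (Y'.residueField (f' p))))
  haveI : Flat (e.hom ≫ pullback.fst fk ψ) := inferInstance
  obtain ⟨a₀, rfl⟩ : a ∈ Set.range (f.fiberι (f (g' p))) := by rw [f.range_fiberι]; exact hfa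
  have h3 : a₀ ⤳ (e.hom ≫ pullback.fst fk ψ) (f'.asFiber p) := by
    rw [← (f.fiberι _).isEmbedding.isInducing.specializes_iff, Scheme.Hom.comp_apply, he', f'.fiberι_asFiber]
    exact ha
  obtain ⟨t, ht, hta⟩ := Flat.generalizingMap (e.hom ≫ pullback.fst fk ψ) h3
  refine ⟨f'.fiberι (f' p) t, ?_, ?_, (f'.range_fiberι _).le (Set.mem_range_self t)⟩
  · have := ht.map (f'.fiberι (f' p)).continuous
    rwa [f'.fiberι_asFiber] at this
  · rw [← he', ← Scheme.Hom.comp_apply e.hom, hta]

/-- Geometric pointwise integrality of the fibre gives domains after base change. -/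
lemma isDomain_fibre_bc {X Y X' Y' : Scheme.{u}} {f : X ⟶ Y} {f' : X' ⟶ Y'} {g' : X' ⟶ X} {g : Y' ⟶ Y}
    (hc : IsPullback g' f' f g) (x' : X')
    (hx : FBase.IsGeomPtIntegralAt (f.fiberToSpecResidueField (f (g' x'))) (f.asFiber (g' x'))) :
    IsDomain ((f'.fiber (f' x')).presheaf.stalk (f'.asFiber x')) := by
  have hy : g (f' x') = f (g' x') := by rw [← Scheme.Hom.comp_apply, ← hc.w, Scheme.Hom.comp_apply]
  let φ := (Y.residueFieldCongr hy.symm).hom ≫ g.residueFieldMap (f' x')
  let ψ := Spec.map φ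
  let pt := Y'.fromSpecResidueField (f' x') ≫ g
  have hψ : ψ ≫ Y.fromSpecResidueField (f (g' x')) = pt := by
    simp only [ψ, φ, pt, Spec.map_comp, Category.assoc]
    rw [Scheme.residueFieldCongr_fromSpecResidueField, g.SpecMap_residueFieldMap_fromSpecResidueField]
  let fk := f.fiberToSpecResidueField (f (g' x'))
  let fk' := f'.fiberToSpecResidueField (f' x')
  have h1 : IsPullback (pullback.fst fk ψ ≫ f.fiberι (f (g' x'))) (pullback.snd fk ψ) f pt :=
    hψ ▸ (IsPullback.of_hasPullback fk ψ).paste_horiz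
      (IsPullback.of_hasPullback f (Y.fromSpecResidueField (f (g' x'))))
  have h2 : IsPullback (f'.fiberι (f' x') ≫ g') fk' f pt :=
    (IsPullback.of_hasPullback f' (Y'.fromSpecResidueField (f' x'))).paste_horiz hc
  let e := h2.isoIsPullback _ _ h1
  have he : e.hom ≫ pullback.fst fk ψ ≫ f.fiberι (f (g' x')) = f'.fiberι (f' x') ≫ g' :=
    h2.isoIsPullback_hom_fst _ _ h1
  haveI : IsDomain ((pullback fk ψ).presheaf.stalk (e.hom (f'.asFiber x'))) := by
    refine @hx (Y'.residueField (f' x')) _ φ.hom.toAlgebra (e.hom (f'.asFiber x'))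
      ((f.fiberι (f (g' x'))).isEmbedding.injective ?_)
    rw [f.fiberι_asFiber]
    refine (congrArg (fun m => (m : _ ⟶ X) (f'.asFiber x')) he).trans ?_
    rw [Scheme.Hom.comp_apply, f'.fiberι_asFiber]
  exact (asIso (e.hom.stalkMap (f'.asFiber x'))).commRingCatIsoToRingEquiv.toMulEquiv.isDomain_iff.mp inferInstance

/-- Over a discrete valuation ring, flat with integral closed fibre at a point gives a domain there. -/
lemma isDomain_stalk_dvr {P : Scheme.{u}} [IsLocallyNoetherian P] {R : Type u} [CommRing R] [IsDomain R]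
    [IsDiscreteValuationRing R] (q : P ⟶ Spec (CommRingCat.of R)) (p : P)
    (hp : q p = IsLocalRing.closedPoint R) (hflat : (q.stalkMap p).hom.Flat)
    (hdom : IsDomain ((q.fiber (q p)).presheaf.stalk (q.asFiber p))) : IsDomain (P.presheaf.stalk p) := by
  let A := (Spec (CommRingCat.of R)).presheaf.stalk (q p)
  let B := P.presheaf.stalk p
  obtain ⟨ε⟩ := FlatMor.FibreStalk.exists_fibre_stalk_equiv q p
  letI := (q.stalkMap p).hom.toAlgebra
  haveI : Module.Flat A B := hflat
  letI : Algebra R A := StructureSheaf.stalkAlgebra R (q p)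
  haveI : IsLocalization.AtPrime A (q p).asIdeal := StructureSheaf.IsLocalization.to_stalk R (q p)
  obtain ⟨π, hπ⟩ := IsDiscreteValuationRing.exists_irreducible R
  have hm : IsLocalRing.maximalIdeal R = Ideal.span {π} :=
    (IsDiscreteValuationRing.irreducible_iff_uniformizer π).mp hπ
  let ϖ : A := algebraMap R A π
  have hmA : IsLocalRing.maximalIdeal A = Ideal.span {ϖ} := by
    rw [← IsLocalization.AtPrime.map_eq_maximalIdeal (q p).asIdeal A,
      show (q p).asIdeal = IsLocalRing.maximalIdeal R from congrArg PrimeSpectrum.asIdeal hp, hm, Ideal.map_span,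
      Set.image_singleton]
  let c : B := (q.stalkMap p).hom ϖ
  have hI : (IsLocalRing.maximalIdeal A).map (q.stalkMap p).hom = Ideal.span {c} := by
    rw [hmA, Ideal.map_span, Set.image_singleton]
  haveI : (Ideal.span {c}).IsPrime := by
    rw [← hI, ← Ideal.Quotient.isDomain_iff_prime]
    exact ε.toMulEquiv.isDomain_iff.mpr hdom
  have hϖ : IsSMulRegular A ϖ := by
    have hinj : Function.Injective (algebraMap R A) :=
      IsLocalization.injective A (q p).asIdeal.primeCompl_le_nonZeroDivisors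
    haveI : IsDomain A := IsLocalization.isDomain_of_atPrime A (q p).asIdeal
    exact IsSMulRegular.of_ne_zero fun h => hπ.ne_zero (hinj (h.trans (map_zero _).symm))
  have hc : IsSMulRegular B c := hϖ.of_flat
  have hne : Ideal.span {c} ≠ ⊤ := Ideal.IsPrime.ne_top inferInstance
  have hdec : ∀ a : B, a ≠ 0 → ∃ (n : ℕ) (u : B), u ∉ Ideal.span {c} ∧ a = c ^ n * u := by
    intro a ha
    obtain ⟨n, hn⟩ : ∃ n, a ∉ Ideal.span {c ^ n} := by
      by_contra hall
      push Not at hall
      refine ha ?_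
      have : a ∈ ⨅ n : ℕ, Ideal.span {c} ^ n :=
        Ideal.mem_iInf.mpr fun n => by rw [Ideal.span_singleton_pow]; exact hall n
      rwa [Ideal.iInf_pow_eq_bot_of_isLocalRing _ hne, Ideal.mem_bot] at this
    induction n with
    | zero => exact absurd (by simp) hn
    | succ n ih =>
      by_cases h : a ∈ Ideal.span {c ^ n}
      · obtain ⟨u, rfl⟩ := Ideal.mem_span_singleton'.mp h
        refine ⟨n, u, fun hu => hn ?_, mul_comm _ _⟩
        obtain ⟨v, rfl⟩ := Ideal.mem_span_singleton'.mp hu
        exact Ideal.mem_span_singleton'.mpr ⟨v, by ring⟩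
      · exact ih h
  haveI : NoZeroDivisors B := ⟨fun {a b} hab => by
    by_contra hcon
    push Not at hcon
    obtain ⟨n, u, hu, rfl⟩ := hdec a hcon.1
    obtain ⟨m, v, hv, rfl⟩ := hdec b hcon.2
    have h0 : c ^ (n + m) • (u * v) = c ^ (n + m) • (0 : B) := by
      rw [smul_eq_mul, smul_zero, ← hab]
      ring
    have huv := (hc.pow (n + m)) h0
    rcases (Ideal.IsPrime.mem_or_mem (inferInstance : (Ideal.span {c}).IsPrime)
      (show u * v ∈ Ideal.span {c} by rw [huv]; exact zero_mem _)) with h | h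
    exacts [hu h, hv h]⟩
  exact NoZeroDivisors.to_isDomain B


/-- Let Y be locally Noetherian, f : X ⟶ Y locally of finite type, x a point of X and y = f x. Suppose f
is universally open at the generic point of every irreducible component of X_y through x, X_y is
geometrically pointwise integral at x, and O_{Y,y} is geometrically unibranch. Then x lies on
exactly one irreducible component of X. If moreover O_{Y,y} is a domain, then O_{X,x} is a domain
and O_{Y,y} ⟶ O_{X,x} is flat. -/
theorem result {X Y : Scheme.{u}} [IsLocallyNoetherian Y]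
    (f : X ⟶ Y) [LocallyOfFiniteType f] (x : X)
    (hopen : ∀ z : ↥(f.fiber (f.base x)), f.asFiber x ∈ closure {z} →
      (∀ z' : ↥(f.fiber (f.base x)), z ∈ closure {z'} → z' = z) →
      EGA43.IsUnivOpenAt f ((f.fiberι (f.base x)).base z))
    (hint : FBase.IsGeomPtIntegralAt (f.fiberToSpecResidueField (f.base x)) (f.asFiber x))
    (hY : CAlg2.IsGeomUnibranch (Y.presheaf.stalk (f.base x))) :
    (∃! Z : Set X, Z ∈ irreducibleComponents (X : Type u) ∧ x ∈ Z) ∧
      (IsDomain (Y.presheaf.stalk (f.base x)) → IsDomain (X.presheaf.stalk x) ∧ (f.stalkMap x).hom.Flat) := by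
  haveI : IsLocallyNoetherian X := LocallyOfFiniteType.isLocallyNoetherian f
  have hred : FBase.IsGeomReducedAt (f.fiberToSpecResidueField (f.base x)) (f.asFiber x) := fun K _ _ u hu => by
    haveI := hint K u hu
    infer_instance
  have hdomy : IsDomain ((f.fiber (f x)).presheaf.stalk (f.asFiber x)) :=
    isDomain_fibre_bc (f := f) (f' := f) (g' := 𝟙 X) (g := 𝟙 Y) (IsPullback.of_horiz_isIso ⟨by simp⟩) x hint
  have hζ₀ : ∀ ζ : ↥(f.fiber (f x)), f.asFiber x ∈ closure {ζ} → FlatOpen.EquiDim.Max ζ →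
      ∀ w, f w = f x → w ⤳ x → (∀ z, f z = f x → z ⤳ w → z = w) → w = f.fiberι (f x) ζ := by
    intro ζ hζ hζm w hw hwx hwm
    obtain ⟨w', rfl⟩ : w ∈ Set.range (f.fiberι (f x)) := by rw [f.range_fiberι]; exact hw
    refine congrArg _ (unique_max_of_domain hdomy ?_ (specializes_iff_mem_closure.2 hζ) (fun v hv => ?_) hζm)
    · rw [← (f.fiberι _).isEmbedding.isInducing.specializes_iff, f.fiberι_asFiber]; exact hwx
    · exact (f.fiberι _).isEmbedding.injective
        (hwm _ ((f.range_fiberι _).le (Set.mem_range_self v)) (hv.map (f.fiberι _).continuous))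
  obtain ⟨c, hcx, hfc, hcmax, -, -, e, -, -, hfd, hce, -⟩ := FibSemi.exists_max_fibre f x
  have heq : ∃ e : ℕ, ∀ Z ∈ irreducibleComponents (↥(f.fiber (f.base x)) : Type u), f.asFiber x ∈ Z →
      topologicalKrullDim (↥Z : Type u) = e := by
    refine ⟨e, fun Z hZ hxZ => ?_⟩
    obtain ⟨ζ, hζ, hfz, -, hdim⟩ := EquidimPt.exists_generic_of_component f hZ
    have hcζ := hζ₀ ζ (by rw [hζ.def]; exact hxZ) (fun v hv => QSect.max_of_component hZ hζ v hv)
      c hfc hcx hcmax
    rw [hdim, ← hcζ, ← hce, hfc]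
  have hE := Groth.Agent.S3409.result f x hopen hred heq
  have huniq : ∀ a b : X, a ⤳ x → b ⤳ x → FlatOpen.EquiDim.Max a → FlatOpen.EquiDim.Max b → a = b := by
    intro ξ₁ ξ₂ h₁ h₂ m₁ m₂
    have hh := (EquidimPt.isEquidimAt_iff f x).1 hE
    obtain ⟨k₁, e₁⟩ := hh ξ₁ h₁ m₁
    obtain ⟨k₂, e₂⟩ := hh ξ₂ h₂ m₂
    have hη : f ξ₁ = f ξ₂ :=
      Groth.Agent.S4939.eq_of_max hY.1 k₁ k₂ (h₁.map f.continuous) (h₂.map f.continuous)
    by_cases hne : f ξ₁ = f x
    · obtain ⟨a₁, ha₁⟩ : ξ₁ ∈ Set.range (f.fiberι (f x)) := by rw [f.range_fiberι]; exact hne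
      obtain ⟨a₂, ha₂⟩ : ξ₂ ∈ Set.range (f.fiberι (f x)) := by rw [f.range_fiberι]; exact hη.symm.trans hne
      rw [← ha₁, ← ha₂]
      refine congrArg _ (unique_max_of_domain hdomy ?_ ?_ ?_ ?_)
      · rw [← (f.fiberι _).isEmbedding.isInducing.specializes_iff, f.fiberι_asFiber, ha₁]; exact h₁
      · rw [← (f.fiberι _).isEmbedding.isInducing.specializes_iff, f.fiberι_asFiber, ha₂]; exact h₂
      · exact fun v hv => (f.fiberι _).isEmbedding.injective
          (by rw [ha₁]; exact m₁ _ (ha₁ ▸ hv.map (f.fiberι _).continuous))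
      · exact fun v hv => (f.fiberι _).isEmbedding.injective
          (by rw [ha₂]; exact m₂ _ (ha₂ ▸ hv.map (f.fiberι _).continuous))
    -- a discrete valuation ring through the generic point
    obtain ⟨R, _, _, _, g, hg0, hg1⟩ := RatMapExt.exists_dvr_of_specializes (h₁.map f.continuous) hne
    obtain ⟨xR, hxR, hxR0⟩ := Scheme.exists_preimage_of_isPullback (IsPullback.of_hasPullback f g) x
      (IsLocalRing.closedPoint R) hg0.symm
    haveI : IsLocallyNoetherian (pullback f g) := LocallyOfFiniteType.isLocallyNoetherian (pullback.snd f g)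
    have hflat : ((pullback.snd f g).stalkMap xR).hom.Flat := by
      refine Groth.Agent.S2561.result (pullback.snd f g) xR (fun z hz hzmax => ?_) ?_ inferInstance
      · let q := pullback.snd f g
        let w := q.fiberι (q xR) z
        have hw : q w = q xR := (q.range_fiberι _).le (Set.mem_range_self z)
        have hwx : w ⤳ xR := by
          have h := (specializes_iff_mem_closure.2 hz).map (q.fiberι (q xR)).continuous
          rwa [q.fiberι_asFiber] at h
        have hfw : f (pullback.fst f g w) = f x := by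
          rw [← Scheme.Hom.comp_apply (pullback.fst f g), pullback.condition, Scheme.Hom.comp_apply, hw, hxR0, hg0]
        obtain ⟨z₀, hz₀⟩ : pullback.fst f g w ∈ Set.range (f.fiberι (f x)) := by rw [f.range_fiberι]; exact hfw
        refine OpenAt.isUnivOpenAt_of_isPullback (hopen z₀ ?_ fun z₁ hz₁ => ?_)
          (IsPullback.of_hasPullback f g) w hz₀.symm
        · rw [← specializes_iff_mem_closure, ← (f.fiberι _).isEmbedding.isInducing.specializes_iff, hz₀,
            f.fiberι_asFiber, ← hxR]
          exact hwx.map (pullback.fst f g).continuous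
        · have hz₁' : f.fiberι (f x) z₁ ⤳ pullback.fst f g w :=
            hz₀ ▸ (specializes_iff_mem_closure.2 hz₁).map (f.fiberι _).continuous
          obtain ⟨p', hp'w, hp'1, hp'2⟩ := gen_lift (IsPullback.of_hasPullback f g) w hz₁'
            (((f.range_fiberι _).le (Set.mem_range_self z₁) : f (f.fiberι _ z₁) = f x).trans hfw.symm)
          obtain ⟨v, rfl⟩ : p' ∈ Set.range (q.fiberι (q xR)) := by rw [q.range_fiberι]; exact hp'2.trans hw
          rw [hzmax v (specializes_iff_mem_closure.1 ((q.fiberι _).isEmbedding.specializes_iff.1 hp'w))] at hp'1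
          exact (f.fiberι _).isEmbedding.injective (hp'1.symm.trans hz₀.symm)
      · exact SecDim.isGeomReducedAt_baseChange (IsPullback.of_hasPullback f g) xR (by rw [hxR]; exact hred)
    have hdom : IsDomain ((pullback f g).presheaf.stalk xR) := isDomain_stalk_dvr (pullback.snd f g) xR hxR0 hflat
      (isDomain_fibre_bc (IsPullback.of_hasPullback f g) xR (by rw [hxR]; exact hint))
    obtain ⟨ν, hν, hνm⟩ := FlatOpen.EquiDim.exists_max xR
    -- every component reaches the unique maximal point
    have key : ∀ ξ : X, ξ ⤳ x → FlatOpen.EquiDim.Max ξ → f ξ = f ξ₁ → FlatMor.fibreDimAt f ξ = FlatMor.fibreDimAt f x →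
        pullback.fst f g ν = ξ := by
      intro ξ hξ mξ hfξ he'
      let W := Scheme.IdealSheafData.vanishingIdeal (⟨closure {ξ}, isClosed_closure⟩ : TopologicalSpace.Closeds X)
      let i := W.subschemeι
      have hrange : Set.range i = closure {ξ} := AffThick.range_subschemeι_vanishingIdeal _
      obtain ⟨wξ, hwξ⟩ : ξ ∈ Set.range i := by rw [hrange]; exact subset_closure rfl
      obtain ⟨w, hwx⟩ : x ∈ Set.range i := by rw [hrange]; exact specializes_iff_mem_closure.1 hξ
      have hwspec : ∀ v, wξ ⤳ v := fun v => i.isClosedEmbedding.isInducing.specializes_iff.1 (by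
        rw [hwξ]; exact specializes_iff_mem_closure.2 (hrange.le (Set.mem_range_self v)))
      rw [GUOpen.fibreDimAt_of_max f (fun z _ hz => mξ z hz), hfd] at he'
      have heW : Order.krullDim {z | (i ≫ f) z = (i ≫ f) wξ ∧ wξ ⤳ z} = e := by
        rw [← he']
        refine FibSemi.krullDim_eq_of_embedding i (fun a b => i.isClosedEmbedding.isInducing.specializes_iff)
          i.isClosedEmbedding.injective _ _ fun z => ⟨fun hz => ?_, ?_⟩
        · obtain ⟨v, rfl⟩ : z ∈ Set.range i := by rw [hrange]; exact specializes_iff_mem_closure.1 hz.2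
          exact ⟨v, ⟨(by simpa [Scheme.Hom.comp_apply, hwξ] using hz.1), hwspec v⟩, rfl⟩
        · rintro ⟨v, hv, rfl⟩
          exact ⟨by simpa [Scheme.Hom.comp_apply, hwξ] using hv.1, hwξ ▸ hv.2.map i.continuous⟩
      let U : W.subscheme.Opens := ⟨i ⁻¹' {z : X | FlatMor.fibreDimAt f z ≤ (e : WithBot ℕ∞)},
        (FlatMisc.FibreDimScheme.isOpen_fibreDimAt_le (f := f) e).preimage i.continuous⟩
      have hU : Order.krullDim {z | (i ≫ f) z = (i ≫ f) w ∧ wξ ⤳ z ∧ z ∈ U} ≤ e := by
        refine iSup_le fun l => ?_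
        obtain ⟨n, t, -, -, ht, -, hfdt⟩ := EquidimPt.fibre_facts f (i (l.last).1)
        have htop : ∀ j, i (l.last).1 ⤳ i (l j).1 := fun j =>
          (show (l.last).1 ⤳ (l j).1 from l.monotone (Fin.le_last j)).map i.continuous
        have h1 : ((l.length : ℕ) : WithBot ℕ∞) ≤ Order.krullDim {z : X | f z = f (i (l.last).1) ∧ i (l.last).1 ⤳ z} :=
          Order.le_krullDim_iff.mpr ⟨LTSeries.mk l.length
            (fun j => (⟨i (l j).1, ((l j).2.1.trans (l.last).2.1.symm : _), htop j⟩ :
              {z : X | f z = f (i (l.last).1) ∧ i (l.last).1 ⤳ z}))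
            (fun a b hab => ⟨(l.strictMono hab).1.map i.continuous, fun h' =>
              (l.strictMono hab).2 (i.isClosedEmbedding.isInducing.specializes_iff.1 h')⟩), rfl⟩
        rw [ht] at h1
        have h2 : FlatMor.fibreDimAt f (i (l.last).1) ≤ (e : WithBot ℕ∞) := (l.last).2.2.2
        rw [hfdt] at h2
        exact h1.trans (le_trans (by exact_mod_cast Nat.le_add_left t n) h2)
      have hopenW : EGA43.IsUnivOpenAt (i ≫ f) w := by
        refine GUOpen.isUnivOpenAt_of_dim (i ≫ f) (hwspec w) (fun y' hy' => ?_) ?_ heW U ?_ hU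
        · rw [Scheme.Hom.comp_apply, hwξ] at hy' ⊢
          rw [hfξ] at hy' ⊢
          exact k₁ y' hy'
        · rw [Scheme.Hom.comp_apply, hwx]; exact hY
        · show FlatMor.fibreDimAt f (i w) ≤ (e : WithBot ℕ∞)
          rw [hwx, hfd]
      have sqW : IsPullback (pullback.lift (pullback.fst (i ≫ f) g ≫ i) (pullback.snd (i ≫ f) g)
          (by rw [Category.assoc, pullback.condition]) : pullback (i ≫ f) g ⟶ pullback f g)
          (pullback.fst (i ≫ f) g) (pullback.fst f g) i := by
        refine IsPullback.of_right ?_ (pullback.lift_fst _ _ _) (IsPullback.of_hasPullback f g).flip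
        rw [pullback.lift_snd]
        exact (IsPullback.of_hasPullback (i ≫ f) g).flip
      obtain ⟨w', hw'R, hw'w⟩ := Scheme.exists_preimage_of_isPullback sqW xR w (hxR.trans hwx.symm)
      have hw's : pullback.snd (i ≫ f) g w' = IsLocalRing.closedPoint R := by
        rw [← hxR0, ← hw'R, ← Scheme.Hom.comp_apply, pullback.lift_snd]
      obtain ⟨z', hz', hz's⟩ := (UnivOpenDVR.isUnivOpenAt_iff_dvr (i ≫ f) w).1 hopenW R g
        (by rw [Scheme.Hom.comp_apply, hwx]; exact hg0) w' hw'w hw's
      -- push the generization to the generic point of the component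
      have hgen : g (pullback.snd (i ≫ f) g z') = f ξ₁ := by
        obtain ⟨t₀, ht₀⟩ : pullback.snd (i ≫ f) g z' ∈
            Set.range (Spec.map (CommRingCat.ofHom (algebraMap R (FractionRing R)))) := by
          refine ⟨IsLocalRing.closedPoint (FractionRing R), PrimeSpectrum.ext ?_⟩
          rcases (show (pullback.snd (i ≫ f) g z').asIdeal = ⊥ ∨ (pullback.snd (i ≫ f) g z').asIdeal = IsLocalRing.maximalIdeal R from
            (em _).imp_right fun hb => IsLocalRing.eq_maximalIdeal (IsPrime.to_maximal_ideal hb)) with h | h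
          · rw [h]
            show Ideal.comap (algebraMap R (FractionRing R)) (IsLocalRing.maximalIdeal _) = ⊥
            rw [IsLocalRing.maximalIdeal_eq_bot, ← RingHom.ker_eq_comap_bot]
            exact (RingHom.injective_iff_ker_eq_bot _).mp (IsFractionRing.injective R (FractionRing R))
          · exact absurd (PrimeSpectrum.ext h) hz's
        rw [← ht₀, ← Scheme.Hom.comp_apply, hg1]
      have hv : (i ≫ f) (pullback.fst (i ≫ f) g z') = (i ≫ f) wξ := by
        rw [← Scheme.Hom.comp_apply, pullback.condition, Scheme.Hom.comp_apply, hgen, Scheme.Hom.comp_apply, hwξ,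
          hfξ]
      obtain ⟨p', hp'z, hp'ξ, -⟩ :=
        gen_lift (IsPullback.of_hasPullback (i ≫ f) g) z' (hwspec _) hv.symm
      let m : pullback (i ≫ f) g ⟶ pullback f g := pullback.lift (pullback.fst (i ≫ f) g ≫ i)
        (pullback.snd (i ≫ f) g) (by rw [Category.assoc, pullback.condition])
      have hm1 : m p' ⤳ xR := hw'R ▸ (hp'z.trans hz').map m.continuous
      obtain ⟨ν', hν', hν'm⟩ := FlatOpen.EquiDim.exists_max (m p')
      rw [unique_max_of_domain hdom hν (hν'.trans hm1) hνm hν'm]
      refine mξ _ ?_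
      have h := hν'.map (pullback.fst f g).continuous
      rwa [← Scheme.Hom.comp_apply m, pullback.lift_fst, Scheme.Hom.comp_apply, hp'ξ, hwξ] at h
    rw [← key ξ₁ h₁ m₁ rfl e₁, ← key ξ₂ h₂ m₂ hη.symm e₂]
  obtain ⟨ξ, hξ, mξ⟩ := FlatOpen.EquiDim.exists_max x
  refine ⟨⟨closure {ξ}, ⟨FlatOpen.EquiDim.closure_mem_irreducibleComponents mξ, specializes_iff_mem_closure.1 hξ⟩,
    fun Z hZ => ?_⟩, fun hdY => ?_⟩
  · obtain ⟨ξ', mξ', rfl⟩ := FlatOpen.EquiDim.exists_max_closure_eq hZ.1
    rw [huniq ξ' ξ (specializes_iff_mem_closure.2 hZ.2) hξ mξ' mξ]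
  · haveI := hdY
    refine ⟨?_, Groth.Agent.S2561.result f x hopen hred inferInstance⟩
    obtain ⟨U, hxU, -, hUred⟩ := Groth.Agent.S3408.result f x hopen hred inferInstance
    haveI := hUred
    haveI : _root_.IsReduced (X.presheaf.stalk x) :=
      isReduced_of_injective (asIso (U.ι.stalkMap ⟨x, hxU⟩)).commRingCatIsoToRingEquiv.toRingHom
        (asIso (U.ι.stalkMap ⟨x, hxU⟩)).commRingCatIsoToRingEquiv.injective
    have hsub : ∀ p ∈ minimalPrimes (X.presheaf.stalk x), ∀ q ∈ minimalPrimes (X.presheaf.stalk x), p = q :=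
      fun p hp q hq => by
        haveI := hp.1.1
        haveI := hq.1.1
        have h := huniq (X.fromSpecStalk x ⟨p, hp.1.1⟩) (X.fromSpecStalk x ⟨q, hq.1.1⟩)
          (FlatMor.DimOne.fromSpecStalk_specializes x _) (FlatMor.DimOne.fromSpecStalk_specializes x _)
          ((EquidimPt.max_iff_minimal x _).2 hp) ((EquidimPt.max_iff_minimal x _).2 hq)
        exact congrArg PrimeSpectrum.asIdeal ((X.fromSpecStalk x).isEmbedding.injective h)
    obtain ⟨p, hp⟩ := Ideal.nonempty_minimalPrimes (I := (⊥ : Ideal (X.presheaf.stalk x))) bot_ne_top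
    have hbot : p = ⊥ := by
      have h := Ideal.sInf_minimalPrimes (I := (⊥ : Ideal (X.presheaf.stalk x)))
      rw [show (⊥ : Ideal (X.presheaf.stalk x)).minimalPrimes = {p} from Set.eq_singleton_iff_unique_mem.mpr
        ⟨hp, fun q hq => hsub q hq p hp⟩, sInf_singleton] at h
      rw [h]
      exact nilradical_eq_zero _
    haveI : (⊥ : Ideal (X.presheaf.stalk x)).IsPrime := hbot ▸ hp.1.1
    exact IsDomain.of_bot_isPrime _

end Groth.Agent.S3410
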