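import Groth.Statements.S4649
import Groth.Agent.S4630
import Groth.Agent.S4631
import Groth.Agent.S2535
import Groth.Agent.SchPoints.Basic
import Groth.Agent.Props.Components
-- import your own Groth.Agent.* helpers here

set_option autoImplicit false
open CategoryTheory AlgebraicGeometry
universe u
open FBase

namespace Groth.Agent.S4649

open CategoryTheory.Limits TopologicalSpace

/-- On a Noetherian scheme all local rings are domains iff it is reduced and the components
are the connected components, as counted. -/
lemma forall_isDomain_stalk_iff (Y : Scheme.{u}) [AlgebraicGeometry.IsNoetherian Y] :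
    (∀ y : Y, IsDomain (Y.presheaf.stalk y)) ↔ AlgebraicGeometry.IsReduced Y ∧
      Nat.card ↥(irreducibleComponents ↥Y) = Nat.card (_root_.ConnectedComponents ↥Y) := by
  let ψ : ↥(irreducibleComponents ↥Y) → _root_.ConnectedComponents ↥Y :=
    fun Z ↦ ConnectedComponents.mk Z.2.1.nonempty.some
  have hψ : ∀ (Z : ↥(irreducibleComponents ↥Y)) {z : Y}, z ∈ Z.1 →
      ψ Z = ConnectedComponents.mk z := fun Z z hz ↦
    ConnectedComponents.coe_eq_coe'.mpr
      (Z.2.1.isConnected.isPreconnected.subset_connectedComponent hz Z.2.1.nonempty.some_mem)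
  have hsurj : Function.Surjective ψ := fun c ↦ by
    obtain ⟨y, rfl⟩ := ConnectedComponents.surjective_coe c
    exact ⟨⟨irreducibleComponent y, irreducibleComponent_mem_irreducibleComponents y⟩,
      hψ _ mem_irreducibleComponent⟩
  have : Finite ↥(irreducibleComponents ↥Y) :=
    NoetherianSpace.finite_irreducibleComponents.to_subtype
  constructor
  · intro h
    have : ∀ y : Y, _root_.IsReduced (Y.presheaf.stalk y) := fun y ↦ by
      have := h y
      infer_instance
    refine ⟨isReduced_of_isReduced_stalk Y, Nat.card_eq_of_bijective ψ ⟨fun Z W hZW ↦ ?_, hsurj⟩⟩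
    have hopen : IsOpen Z.1 := Props.Components.isOpen_of_locally_finite h
      (fun x ↦ ⟨⊤, trivial, NoetherianSpace.finite_irreducibleComponents.subset fun T hT ↦ hT.1⟩)
      Z.1 Z.2
    obtain ⟨z, hz⟩ := Z.2.1.nonempty
    obtain ⟨w, hw⟩ := W.2.1.nonempty
    rw [hψ Z hz, hψ W hw, ConnectedComponents.coe_eq_coe'] at hZW
    have hzW : z ∈ connectedComponent w := hZW
    have hwZ : w ∈ Z.1 :=
      (IsClopen.connectedComponent_subset ⟨isClosed_of_mem_irreducibleComponents _ Z.2, hopen⟩ hz)
        (connectedComponent_eq hzW ▸ mem_connectedComponent)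
    exact Subtype.ext ((Props.Components.existsUnique_component h w).unique ⟨Z.2, hwZ⟩ ⟨W.2, hw⟩)
  · rintro ⟨hred, hcard⟩ y
    have hinj : Function.Injective ψ :=
      ((Nat.bijective_iff_surjective_and_card ψ).mpr ⟨hsurj, hcard⟩).1
    have hprime := (SchPoints.isPrime_nilradical_stalk_iff y).mpr fun Z hZ W hW hyZ hyW ↦
      congrArg Subtype.val
        (hinj ((hψ ⟨Z, hZ⟩ hyZ).trans (hψ ⟨W, hW⟩ hyW).symm))
    rw [nilradical_eq_zero] at hprime
    exact @IsDomain.of_bot_isPrime _ _ hprime

/-- Let X be a scheme of finite type over a field k and Ω an algebraically closed extension field of k.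
Then X is geometrically pointwise integral over k (every local ring of every X ⊗_k K is a domain) if
and only if X is geometrically reduced over k and the number of irreducible components of X ⊗_k Ω
equals the number of connected components of X ⊗_k Ω (the geometric numbers of irreducible and of
connected components agree). -/
theorem result {k Ω : Type u} [Field k] [Field Ω] [Algebra k Ω] [IsAlgClosed Ω]
    {X : Scheme.{u}} (f : X ⟶ Spec (CommRingCat.of k)) [LocallyOfFiniteType f] [QuasiCompact f] :
    (∀ x : X, FBase.IsGeomPtIntegralAt f x) ↔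
      (GeometricallyReduced f ∧
        Nat.card ↥(irreducibleComponents ↥(FBase.bc f Ω)) = Nat.card (_root_.ConnectedComponents ↥(FBase.bc f Ω))) := by
  let π : FBase.bc f Ω ⟶ X := FBase.bcπ f Ω
  have hs : Function.Surjective π :=
    (Groth.Agent.FBase.BC.surjective_pullback_fst (K := Ω) f).1
  have hlft : LocallyOfFiniteType (FBase.bcStr f Ω) :=
    inferInstanceAs (LocallyOfFiniteType (pullback.snd f (Groth.Agent.FBase.BC.specMap k Ω)))
  have hqc : QuasiCompact (FBase.bcStr f Ω) :=
    inferInstanceAs (QuasiCompact (pullback.snd f (Groth.Agent.FBase.BC.specMap k Ω)))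
  have : IsLocallyNoetherian (FBase.bc f Ω) :=
    LocallyOfFiniteType.isLocallyNoetherian (FBase.bcStr f Ω)
  have : CompactSpace ↥(FBase.bc f Ω) := QuasiCompact.compactSpace_of_compactSpace (FBase.bcStr f Ω)
  have : AlgebraicGeometry.IsNoetherian (FBase.bc f Ω) := {}
  have h1 : (∀ x : X, FBase.IsGeomPtIntegralAt f x) ↔
      ∀ y : ↥(FBase.bc f Ω), IsDomain ((FBase.bc f Ω).presheaf.stalk y) := by
    refine ⟨fun h y ↦ (S4631.result _ y).mp ((S4630.result f y).mp (h (π y))), fun h x ↦ ?_⟩
    obtain ⟨y, rfl⟩ := hs x
    exact (S4630.result f y).mpr ((S4631.result _ y).mpr (h y))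
  rw [h1, forall_isDomain_stalk_iff]
  refine and_congr_left fun _ ↦ ⟨fun h ↦ @S2535.result k Ω _ _ _ _ _ f h, fun h ↦ ?_⟩
  exact inferInstanceAs (AlgebraicGeometry.IsReduced
    (pullback f (Groth.Agent.FBase.BC.specMap k Ω)))

end Groth.Agent.S4649
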