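import Groth.Statements.S4645
import Groth.Agent.FBase.ConnComp
-- import your own Groth.Agent.* helpers here

set_option autoImplicit false
open CategoryTheory AlgebraicGeometry
universe u
open FBase

namespace Groth.Agent.S4645

open CategoryTheory.Limits TensorProduct
open Groth.Agent.FBase.BC Groth.Agent.FBase.BC2 Groth.Agent.FBase.Topo
open Groth.Agent.FBase.Components Groth.Agent.FBase.ConnComp

/-- Let X be a scheme over a field k with finitely many connected components, each of which contains a
point x such that the separable algebraic closure of k in κ(x) has finite degree over k. Then there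
is a finite separable extension k'' of k such that all connected components of X ⊗_k k'' are
geometrically connected over k'': for every extension field K of k'' and every point x' of X ⊗_k
k'', the inverse image in (X ⊗_k k'') ⊗_{k''} K of the connected component of x' is connected. -/
theorem result {k : Type u} [Field k] {X : Scheme.{u}}
    (f : X ⟶ Spec (CommRingCat.of k)) [Finite (_root_.ConnectedComponents ↥X)]
    (hx : ∀ c : _root_.ConnectedComponents ↥X, ∃ x : X, _root_.ConnectedComponents.mk x = c ∧
      FBase.ResidueFieldProp f x (fun K _ _ => FiniteDimensional k (separableClosure k K))) :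
    ∃ (k'' : Type u) (_ : Field k'') (_ : Algebra k k''), FiniteDimensional k k'' ∧ Algebra.IsSeparable k k'' ∧
      ∀ (K : Type u) [Field K] [Algebra k'' K] (x' : ↥(FBase.bc f k'')),
        _root_.IsConnected (⇑(FBase.bcπ (FBase.bcStr f k'') K) ⁻¹' connectedComponent x') := by
  choose s hs hprop using hx
  choose κ i1 i2 ι h1 hι hr hfin using fun c ↦ exists_point_of_residueFieldProp f (hprop c)
  obtain ⟨k'', _, _, hfd, hgal, hK⟩ :=
    exists_galois (k := k) (fun c ↦ (separableClosure k (κ c) : Type u))
  refine ⟨k'', ‹_›, ‹_›, hfd, inferInstance, fun K _ _ x' ↦ ?_⟩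
  let f' := pullback.snd f (specMap k k'')
  let p := pullback.fst f (specMap k k'')
  have hsplit := fun c ↦ splits_of_algHom (hK c).some
  have hFfin : (p ⁻¹' ⋃ c, Set.range (ι c)).Finite := by
    rw [Set.preimage_iUnion]
    exact Set.finite_iUnion fun c ↦ (finite_fibre f (ι c) (hι c) k'' (hsplit c)).1
  have hS : ∀ z : X, ∃ t ∈ ⋃ c, Set.range (ι c), t ∈ connectedComponent z := fun z ↦
    ⟨s (.mk z), Set.mem_iUnion.mpr ⟨_, (hr (.mk z)).ge rfl⟩,
      ConnectedComponents.coe_eq_coe'.mp (hs (.mk z))⟩
  have hU := clopen_meets_of_isOpenMap_of_isClosedMap p.isOpenMap p.isClosedMap hS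
  obtain ⟨z, hz, hzC⟩ := exists_mem_connectedComponent_of_clopen_meets hFfin hU x'
  obtain ⟨c, hc⟩ := Set.mem_iUnion.mp hz
  let L := AlgebraicClosure k''
  have : Algebra.IsAlgebraic k L := Algebra.IsAlgebraic.trans k k'' L
  exact isConnected_preimage_fst_of_set f' isConnected_connectedComponent
    (Set.singleton_subset_iff.mpr hzC) (Set.singleton_nonempty z)
    (subsingleton_iter_fibre f (ι c) (hι c) (hsplit c) L hc).isPreconnected (K := K)

end Groth.Agent.S4645
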