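import Groth.Statements.S7612
import Groth.Agent.VarBC.Basic
-- import your own Groth.Agent.* helpers here

set_option autoImplicit false
universe u
open CategoryTheory CategoryTheory.Limits AlgebraicGeometry
open Variety

namespace Groth.Agent.S7612

lemma universallyOpen_of_field {k : Type u} [Field k] {Z : Scheme.{u}}
    (f : Z ⟶ Spec (CommRingCat.of k)) : UniversallyOpen f := inferInstance

/-- Points projecting into `closure A` and `B` are limits of points over `A` and `B`. -/
lemma subset_closure_fst {k : Type u} [Field k] {X Y : Scheme.{u}}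
    (f : X ⟶ Spec (CommRingCat.of k)) (g : Y ⟶ Spec (CommRingCat.of k)) (A : Set X) (B : Set Y) :
    pullback.fst f g ⁻¹' closure A ∩ pullback.snd f g ⁻¹' B ⊆
      closure (pullback.fst f g ⁻¹' A ∩ pullback.snd f g ⁻¹' B) := by
  rintro z ⟨hzA, hzB⟩
  rw [mem_closure_iff]
  intro W hW hzW
  let b := pullback.snd f g z
  let φ : pullback f (Y.fromSpecResidueField b ≫ g) ⟶ pullback f g :=
    pullback.map _ _ _ _ (𝟙 X) (Y.fromSpecResidueField b) (𝟙 _) (by simp) (by simp)
  have hr : Set.range φ = pullback.snd f g ⁻¹' {b} := by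
    rw [Scheme.Pullback.range_map, Scheme.range_fromSpecResidueField]
    simp
  obtain ⟨w, hw⟩ := hr.ge (Set.mem_singleton b)
  have := universallyOpen_of_field (Y.fromSpecResidueField b ≫ g)
  let p := pullback.fst f (Y.fromSpecResidueField b ≫ g)
  have hp : ∀ u, pullback.fst f g (φ u) = p u := fun u ↦ by
    rw [← Scheme.Hom.comp_apply, pullback.lift_fst, Category.comp_id]
  obtain ⟨a, ⟨u, hu, rfl⟩, haA⟩ := mem_closure_iff.mp hzA _
    (p.isOpenMap _ (hW.preimage φ.continuous))
    ⟨w, show φ w ∈ W from hw.symm ▸ hzW, by rw [← hp, hw]⟩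
  refine ⟨φ u, hu, show pullback.fst f g (φ u) ∈ A from (hp u).symm ▸ haA, ?_⟩
  show pullback.snd f g (φ u) ∈ B
  rw [show pullback.snd f g (φ u) = b from hr.le ⟨u, rfl⟩]
  exact hzB

/-- Let X and Y be schemes over a field k and A ⊆ X, B ⊆ Y subsets. Inside X ×_k Y, the closure of the
set of points projecting into A and into B equals the set of points projecting into the closure of A
and into the closure of B. -/
theorem result (k : Type u) [Field k] (X : Scheme.{u}) [X.Over (Spec (CommRingCat.of k))] (Y : Scheme.{u}) [Y.Over (Spec (CommRingCat.of k))] (A : Set ↥X) (B : Set ↥Y) :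
    closure ((pullback.fst (X ↘ (Spec (CommRingCat.of k))) (Y ↘ (Spec (CommRingCat.of k)))).base ⁻¹' A ∩ (pullback.snd (X ↘ (Spec (CommRingCat.of k))) (Y ↘ (Spec (CommRingCat.of k)))).base ⁻¹' B) =
      (pullback.fst (X ↘ (Spec (CommRingCat.of k))) (Y ↘ (Spec (CommRingCat.of k)))).base ⁻¹' closure A ∩ (pullback.snd (X ↘ (Spec (CommRingCat.of k))) (Y ↘ (Spec (CommRingCat.of k)))).base ⁻¹' closure B := by
  let f := X ↘ Spec (CommRingCat.of k)
  let g := Y ↘ Spec (CommRingCat.of k)
  refine subset_antisymm (closure_minimal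
    (Set.inter_subset_inter (Set.preimage_mono subset_closure) (Set.preimage_mono subset_closure))
    ((isClosed_closure.preimage (pullback.fst f g).continuous).inter
      (isClosed_closure.preimage (pullback.snd f g).continuous))) ?_
  have h1 : pullback.fst f g ⁻¹' closure A ∩ pullback.snd f g ⁻¹' closure B ⊆
      closure (pullback.fst f g ⁻¹' closure A ∩ pullback.snd f g ⁻¹' B) := by
    intro z hz
    let e := pullbackSymmetry f g
    have hfst : ∀ u, pullback.fst g f (e.hom u) = pullback.snd f g u := fun u ↦ by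
      rw [← Scheme.Hom.comp_apply, pullbackSymmetry_hom_comp_fst]
    have hsnd : ∀ u, pullback.snd g f (e.hom u) = pullback.fst f g u := fun u ↦ by
      rw [← Scheme.Hom.comp_apply, pullbackSymmetry_hom_comp_snd]
    have h := subset_closure_fst g f B (closure A) (show e.hom z ∈ _ from
      ⟨show pullback.fst g f (e.hom z) ∈ closure B from (hfst z).symm ▸ hz.2,
        show pullback.snd g f (e.hom z) ∈ closure A from (hsnd z).symm ▸ hz.1⟩)
    have h' : z ∈ e.hom ⁻¹' closure (pullback.fst g f ⁻¹' B ∩ pullback.snd g f ⁻¹' closure A) := h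
    have ho : IsOpenMap e.hom := e.hom.homeomorph.isOpenMap
    rw [ho.preimage_closure_eq_closure_preimage e.hom.continuous] at h'
    refine closure_mono ?_ h'
    intro u hu
    exact ⟨show pullback.fst f g u ∈ closure A from (hsnd u) ▸ hu.2,
      show pullback.snd f g u ∈ B from (hfst u) ▸ hu.1⟩
  exact h1.trans (closure_minimal (subset_closure_fst f g A B) isClosed_closure)

end Groth.Agent.S7612
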