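import Groth.Statements.S16999
import Groth.Agent.QSplit86.OddStructure

set_option autoImplicit false
universe u v
open QuadGrp

namespace Groth.Agent.S16999

open CliffordAlgebra in
theorem odd_part_center {R : Type u} [CommRing R] {M : Type v} [AddCommGroup M] [Module R M] {Q : QuadraticForm R M}
    {x0 x1 : CliffordAlgebra Q} (h0 : x0 ∈ evenOdd Q 0) (h1 : x1 ∈ evenOdd Q 1)
    (hx : x0 + x1 ∈ Subalgebra.center R (CliffordAlgebra Q)) :
    x0 ∈ Subalgebra.center R (CliffordAlgebra Q) ∧ x1 ∈ Subalgebra.center R (CliffordAlgebra Q) := by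
  have hι : ∀ v, x1 * ι Q v = ι Q v * x1 := by
    intro v
    have hv := ι_mem_evenOdd_one Q v
    have a0 : x0 * ι Q v - ι Q v * x0 ∈ evenOdd Q 1 :=
      Submodule.sub_mem _ (zero_add (1 : ZMod 2) ▸ SetLike.mul_mem_graded h0 hv)
        (add_zero (1 : ZMod 2) ▸ SetLike.mul_mem_graded hv h0)
    have a1 : x1 * ι Q v - ι Q v * x1 ∈ evenOdd Q 0 := by
      have e1 := SetLike.mul_mem_graded h1 hv
      have e2 := SetLike.mul_mem_graded hv h1
      rw [show (1 : ZMod 2) + 1 = 0 from rfl] at e1 e2
      exact Submodule.sub_mem _ e1 e2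
    have e : x0 * ι Q v - ι Q v * x0 = -(x1 * ι Q v - ι Q v * x1) := by
      have := Subalgebra.mem_center_iff.1 hx (ι Q v)
      rw [mul_add, add_mul] at this
      rw [eq_neg_iff_add_eq_zero, sub_add_sub_comm, this, sub_self]
    have : x1 * ι Q v - ι Q v * x1 = 0 := Submodule.disjoint_def.1 (evenOdd_isCompl Q).disjoint _ a1 (by
      rw [show x1 * ι Q v - ι Q v * x1 = -(x0 * ι Q v - ι Q v * x0) by rw [e, neg_neg]]
      exact Submodule.neg_mem _ a0)
    exact sub_eq_zero.1 this
  have h1c : x1 ∈ Subalgebra.center R (CliffordAlgebra Q) := by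
    rw [Subalgebra.mem_center_iff]
    intro y
    induction y using CliffordAlgebra.induction with
    | algebraMap r => exact Algebra.commutes r x1
    | ι v => exact (hι v).symm
    | mul a b ha hb => rw [mul_assoc, hb, ← mul_assoc, ha, mul_assoc]
    | add a b ha hb => rw [add_mul, mul_add, ha, hb]
  exact ⟨by simpa using sub_mem hx h1c, h1c⟩

open CliffordAlgebra TensorProduct in
theorem aux {R : Type u} [CommRing R] [IsLocalRing R] {M : Type v} [AddCommGroup M] [Module R M]
    {Q : QuadraticForm R M} {m : ℕ} (S : QSplit86.OddSplitting Q m) :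
    ∃ z : CliffordAlgebra Q, z ∈ Subalgebra.center R (CliffordAlgebra Q) ∧ z ∈ CliffordAlgebra.evenOdd Q 1 ∧ IsUnit z ∧
      z * z ∈ (algebraMap R (CliffordAlgebra Q)).range ∧ LinearIndependent R ![(1 : CliffordAlgebra Q), z] ∧
      Subalgebra.toSubmodule (Subalgebra.center R (CliffordAlgebra Q)) = Submodule.span R {1, z} := by
  classical
  haveI := S.ffl
  have hsq : ∀ z ∈ Subalgebra.center R (CliffordAlgebra Q), z ∈ evenOdd Q 1 →
      ∀ z' ∈ Subalgebra.center R (CliffordAlgebra Q), z' ∈ evenOdd Q 1 →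
      ∃ c : R, algebraMap R (CliffordAlgebra Q) c = z * z' := fun z hz h z' hz' h' => by
    refine S.even_center_mem_range (Subalgebra.mul_mem _ hz hz') ?_
    have := SetLike.mul_mem_graded h h'
    rwa [show (1 : ZMod 2) + 1 = 0 from rfl] at this
  have hEalg : ∀ c : R, S.E (1 ⊗ₜ algebraMap R (CliffordAlgebra Q) c) = algebraMap S.B _ (algebraMap R S.B c) := fun c => by
    rw [show (1 : S.B) ⊗ₜ[R] algebraMap R (CliffordAlgebra Q) c = algebraMap S.B _ (algebraMap R S.B c) by
      rw [Algebra.TensorProduct.algebraMap_apply, Algebra.algebraMap_eq_smul_one (A := CliffordAlgebra Q),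
        TensorProduct.tmul_smul, TensorProduct.smul_tmul', Algebra.smul_def, mul_one,
        Algebra.algebraMap_self, RingHom.id_apply], AlgEquiv.commutes]
  have hinj : Function.Injective (algebraMap S.B (CliffordAlgebra (QSplit86.oddQ S.B m))) := fun a b h => by
    have h2 := congrArg (fun w => QSplit86.reM (QSplit86.Psi w)) h
    simp only [AlgHom.commutes, QSplit86.reM_algebraMap] at h2
    simpa [Matrix.algebraMap_matrix_apply] using congrFun (congrFun h2 (fun _ => false)) (fun _ => false)
  obtain ⟨z, hz, hz1, c, hc, hcu⟩ : ∃ z ∈ Subalgebra.center R (CliffordAlgebra Q), z ∈ evenOdd Q 1 ∧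
      ∃ c : R, algebraMap R (CliffordAlgebra Q) c = z * z ∧ IsUnit c := by
    by_contra hno
    push Not at hno
    let I := (IsLocalRing.maximalIdeal R).map (algebraMap R S.B)
    have hkey : ∀ (z : CliffordAlgebra Q), z ∈ Subalgebra.center R (CliffordAlgebra Q) → ∀ (r : S.B),
        ∃ e ∈ evenOdd (QSplit86.oddQ S.B m) 0, ∃ q ∈ I.radical, S.E (r ⊗ₜ z) = e + q • QSplit86.z₀ := by
      intro z hz r
      obtain ⟨x0, h0, x1, h1, rfl⟩ := QSplit86.Splitting.exists_even_add_odd z
      obtain ⟨hc0, hc1⟩ := odd_part_center h0 h1 hz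
      obtain ⟨q, hq⟩ := S.eq_smul_z₀_of_odd (S.commute_image hc1) (S.mem_evenOdd h1)
      obtain ⟨c, hc⟩ := hsq x1 hc1 h1 x1 hc1 h1
      have hqc : q ^ 2 = algebraMap R S.B c := by
        apply hinj
        rw [← hEalg, hc, show (1 : S.B) ⊗ₜ[R] (x1 * x1) = (1 ⊗ₜ x1) * (1 ⊗ₜ x1) by simp, map_mul, hq,
          smul_mul_smul_comm, S.z₀_sq, ← sq, Algebra.algebraMap_eq_smul_one]
      refine ⟨S.E (r ⊗ₜ x0), ?_, r * q, Ideal.mul_mem_left _ _ ⟨2, ?_⟩, ?_⟩
      · rw [show r ⊗ₜ[R] x0 = r • ((1 : S.B) ⊗ₜ[R] x0) by simp [TensorProduct.smul_tmul'], map_smul]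
        exact Submodule.smul_mem _ _ (S.mem_evenOdd h0)
      · rw [hqc]
        exact Ideal.mem_map_of_mem _ ((IsLocalRing.mem_maximalIdeal c).2 (hno x1 hc1 h1 c hc))
      · rw [TensorProduct.tmul_add, map_add, mul_smul, ← hq, ← map_smul, TensorProduct.smul_tmul', smul_eq_mul, mul_one]
    obtain ⟨u, hu⟩ := S.exists_center_preimage S.z₀_comm
    have hall : ∀ w : S.B ⊗[R] Subalgebra.center R (CliffordAlgebra Q),
        ∃ e ∈ evenOdd (QSplit86.oddQ S.B m) 0, ∃ q ∈ I.radical,
          S.E (Algebra.TensorProduct.map (AlgHom.id S.B S.B) (Subalgebra.center R (CliffordAlgebra Q)).val w) =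
            e + q • QSplit86.z₀ := by
      intro w
      induction w with
      | zero => exact ⟨0, Submodule.zero_mem _, 0, Submodule.zero_mem _, by simp⟩
      | tmul r z => exact hkey z z.2 r
      | add a b ha hb =>
        obtain ⟨e, he, q, hq, ha⟩ := ha
        obtain ⟨e', he', q', hq', hb⟩ := hb
        exact ⟨e + e', Submodule.add_mem _ he he', q + q', Ideal.add_mem _ hq hq',
          by rw [map_add, map_add, ha, hb, add_smul]; abel⟩
    obtain ⟨e, he, q, hq, heq⟩ := hall u
    rw [hu] at heq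
    have he0 : (1 - q) • (QSplit86.z₀ : CliffordAlgebra (QSplit86.oddQ S.B m)) = e := by
      rw [sub_smul, one_smul, sub_eq_iff_eq_add]; exact heq
    have h10 : (1 - q) • (QSplit86.z₀ : CliffordAlgebra (QSplit86.oddQ S.B m)) = 0 :=
      S.eq_zero_of_even_odd (he0 ▸ he) (Submodule.smul_mem _ _ S.z₀_odd)
    have h1q : 1 - q = 0 := by
      apply hinj
      have := congrArg (fun w => w * QSplit86.z₀) h10
      rw [map_zero]
      simpa [smul_mul_assoc, S.z₀_sq, Algebra.algebraMap_eq_smul_one] using this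
    have : (1 : S.B) ∈ I.radical := (sub_eq_zero.1 h1q).symm ▸ hq
    have hItop : I = ⊤ := Ideal.radical_eq_top.1 ((Ideal.eq_top_iff_one _).2 this)
    have := Ideal.comap_map_eq_self_of_faithfullyFlat (B := S.B) (IsLocalRing.maximalIdeal R)
    rw [show (IsLocalRing.maximalIdeal R).map (algebraMap R S.B) = ⊤ from hItop, Ideal.comap_top] at this
    exact (IsLocalRing.maximalIdeal.isMaximal R).ne_top this.symm
  obtain ⟨d, hd⟩ := hcu
  have hunit : IsUnit z := by
    refine ⟨⟨z, algebraMap R _ ↑d⁻¹ * z, ?_, ?_⟩, rfl⟩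
    · rw [← mul_assoc, ← Algebra.commutes, mul_assoc, ← hc, ← map_mul, ← hd, Units.inv_mul, map_one]
    · rw [mul_assoc, ← hc, ← map_mul, ← hd, Units.inv_mul, map_one]
  refine ⟨z, hz, hz1, hunit, ⟨c, hc⟩, ?_, ?_⟩
  · rw [LinearIndependent.pair_iff]
    intro s t hst
    have ha : s • (1 : CliffordAlgebra Q) = 0 := by
      refine Submodule.disjoint_def.1 (evenOdd_isCompl Q).disjoint _ (Submodule.smul_mem _ _ (SetLike.one_mem_graded _)) ?_
      rw [eq_neg_of_add_eq_zero_left hst]
      exact Submodule.neg_mem _ (Submodule.smul_mem _ _ hz1)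
    have hb : t • z = 0 := by rwa [ha, zero_add] at hst
    have hz' : ∀ r : R, r • (1 : CliffordAlgebra Q) = 0 → r = 0 := fun r hr => by
      refine FaithfulSMul.algebraMap_injective R S.B (hinj ?_)
      rw [map_zero, map_zero, ← hEalg, Algebra.algebraMap_eq_smul_one, hr, TensorProduct.tmul_zero, map_zero]
    refine ⟨hz' s ha, hz' t ?_⟩
    exact hunit.mul_left_injective (by simpa using hb)
  · refine le_antisymm (fun x hx => ?_) (Submodule.span_le.2 ?_)
    · obtain ⟨x0, h0, x1, h1, rfl⟩ := QSplit86.Splitting.exists_even_add_odd x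
      obtain ⟨hc0, hc1⟩ := odd_part_center h0 h1 hx
      obtain ⟨a, rfl⟩ := S.even_center_mem_range hc0 h0
      obtain ⟨e, he⟩ := hsq x1 hc1 h1 z hz hz1
      have : x1 = (e * ↑d⁻¹) • z := by
        apply hunit.mul_left_injective
        show x1 * z = (e * ↑d⁻¹) • z * z
        rw [smul_mul_assoc, ← hc, ← he, Algebra.smul_def, ← map_mul, mul_assoc, ← hd, Units.inv_mul, mul_one]
      rw [this, Algebra.algebraMap_eq_smul_one]
      exact Submodule.mem_span_pair.2 ⟨a, e * ↑d⁻¹, rfl⟩
    · rintro _ (rfl | rfl)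
      · exact Subalgebra.one_mem _
      · exact hz


/-- Centre over a local base: over a local ring R, let Q be a quadratic form on a free module M with a
basis indexed by Fin (2m+1) whose half-discriminant in that basis is a unit. Then the centre of the
Clifford algebra C(Q) is generated by the square root of a unit: there is a central unit z, odd for
the ℤ/2-grading, with z² a scalar, such that 1, z are linearly independent and span the centre. (The
published statement: the centre is a ℤ/2-graded locally free module of rank 2 with degree-0 part the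
structure sheaf and degree-1 part an invertible sheaf squaring to it; over a local base this is the
form stated.) -/
theorem result {R : Type u} [CommRing R] [IsLocalRing R]
    {M : Type v} [AddCommGroup M] [Module R M]
    (m : ℕ) (b : Module.Basis (Fin (2 * m + 1)) R M) (Q : QuadraticForm R M)
    (hQ : QuadGrp.IsSemiregular b (LinearEquiv.refl R R) Q) :
    ∃ z : CliffordAlgebra Q, z ∈ Subalgebra.center R (CliffordAlgebra Q) ∧ z ∈ CliffordAlgebra.evenOdd Q 1 ∧ IsUnit z ∧
      z * z ∈ (algebraMap R (CliffordAlgebra Q)).range ∧ LinearIndependent R ![(1 : CliffordAlgebra Q), z] ∧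
      Subalgebra.toSubmodule (Subalgebra.center R (CliffordAlgebra Q)) = Submodule.span R {1, z} := by
  obtain ⟨S⟩ := QSplit86.exists_oddSplitting Q b hQ
  exact aux S

end Groth.Agent.S16999
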