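import Groth.Statements.S3215
import Groth.Agent.QSplit86.Basic

set_option autoImplicit false
universe u
open SGA7II

namespace Groth.Agent.S3215

open Matrix in
/-- Finitely many splitting étale algebras. -/
theorem cover {A : Type u} [CommRing A] {m : ℕ} (a : Matrix (QSplit86.I m) (QSplit86.I m) A)
    (ha : IsUnit (a + aᵀ).det) :
    ∃ (n : ℕ) (B : Fin n → Type u) (_ : ∀ t, CommRing (B t)) (_ : ∀ t, Algebra A (B t)),
      (∀ t, Algebra.Etale A (B t)) ∧
      (∀ p : PrimeSpectrum A, ∃ (t : Fin n) (q : PrimeSpectrum (B t)),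
        q.asIdeal.comap (algebraMap A (B t)) = p.asIdeal) ∧
      ∀ t, ∃ g : Matrix (QSplit86.I m) (QSplit86.I m) (B t), IsUnit g.det ∧
        ∀ x, QSplit86.qf (a.map (algebraMap A (B t))) (g *ᵥ x) = QSplit86.hyp x := by
  classical
  choose B iR iA ψ g het hψ hg hform using fun p : PrimeSpectrum A =>
    QSplit86.split m a ha ((algebraMap p.asIdeal.ResidueField
      (AlgebraicClosure p.asIdeal.ResidueField)).comp (algebraMap A p.asIdeal.ResidueField))
  let U : PrimeSpectrum A → Set (PrimeSpectrum A) := fun p =>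
    Set.range (PrimeSpectrum.comap (algebraMap A (B p)))
  have hopen : ∀ p, IsOpen (U p) := fun p => by
    letI := het p
    exact PrimeSpectrum.isOpenMap_comap_of_hasGoingDown_of_finitePresentation.isOpen_range
  have hmem : ∀ p, p ∈ U p := fun p => by
    refine ⟨⟨RingHom.ker (ψ p), RingHom.ker_isPrime _⟩, PrimeSpectrum.ext ?_⟩
    show Ideal.comap _ (RingHom.ker (ψ p)) = p.asIdeal
    rw [RingHom.comap_ker, hψ p, ← RingHom.comap_ker,
      (RingHom.injective_iff_ker_eq_bot _).1 (algebraMap p.asIdeal.ResidueField _).injective,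
      ← RingHom.ker, Ideal.ker_algebraMap_residueField]
  obtain ⟨T, hT⟩ := isCompact_univ.elim_finite_subcover U hopen
    (fun p _ => Set.mem_iUnion.2 ⟨p, hmem p⟩)
  let e := T.equivFin
  refine ⟨T.card, fun t => B (e.symm t), fun t => iR _, fun t => iA _, fun t => het _, ?_,
    fun t => ⟨g _, hg _, hform _⟩⟩
  intro p
  obtain ⟨r, hr, q, hq⟩ := Set.mem_iUnion₂.1 (hT (Set.mem_univ p))
  refine ⟨e ⟨r, hr⟩, ?_⟩
  suffices h : ∀ s : T, s = ⟨r, hr⟩ → ∃ q : PrimeSpectrum (B s),
      Ideal.comap (algebraMap A (B s)) q.asIdeal = p.asIdeal from h _ (e.symm_apply_apply _)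
  rintro _ rfl
  exact ⟨q, congrArg PrimeSpectrum.asIdeal hq⟩


/-- Let A be a commutative ring and Q(x) = sum over pairs i <= j of a_{ij} x_i x_j a quadratic form in
2m variables on the free module A^{2m} (the source allows a locally free module, which is free
Zariski-locally; the variables indexed by two copies of Fin m, ordered first copy then second),
whose polar bilinear form (matrix entries 2a_{ii} on the diagonal, a_{ij} for i < j) has invertible
determinant (Q is ordinary). Then there are finitely many etale A-algebras B_t whose spectra jointly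
cover Spec A and, over each B_t, an invertible matrix g with Q(g x) = sum_j x_j x_{m+j}, the split
form. -/
theorem result (A : Type u) [CommRing A] (m : ℕ)
    (a : (Fin m ⊕ Fin m) → (Fin m ⊕ Fin m) → A) :
    let rk : Fin m ⊕ Fin m → ℕ := Sum.elim Fin.val (fun k => m + k.val)
    let QB : ∀ (B : Type u) [CommRing B] [Algebra A B], ((Fin m ⊕ Fin m) → B) → B :=
      fun B _ _ x => ∑ i, ∑ j, if rk i ≤ rk j then algebraMap A B (a i j) * x i * x j else 0
    IsUnit (Matrix.det (Matrix.of fun i j : Fin m ⊕ Fin m =>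
      if i = j then a i i + a i i else if rk i ≤ rk j then a i j else a j i)) →
    ∃ (n : ℕ) (B : Fin n → Type u) (_ : ∀ t, CommRing (B t)) (_ : ∀ t, Algebra A (B t)),
      (∀ t, Algebra.Etale A (B t)) ∧
      (∀ p : PrimeSpectrum A, ∃ (t : Fin n) (q : PrimeSpectrum (B t)),
        q.asIdeal.comap (algebraMap A (B t)) = p.asIdeal) ∧
      ∀ t, ∃ g : Matrix (Fin m ⊕ Fin m) (Fin m ⊕ Fin m) (B t), IsUnit g.det ∧
        ∀ x : Fin m ⊕ Fin m → B t, QB (B t) (g.mulVec x) = ∑ j : Fin m, x (Sum.inl j) * x (Sum.inr j) := by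
  intro rk QB h
  classical
  let b : Matrix (Fin m ⊕ Fin m) (Fin m ⊕ Fin m) A :=
    Matrix.of fun i j => if rk i ≤ rk j then a i j else 0
  have hinj : Function.Injective rk := by
    rintro (i | i) (j | j) hij <;> simp only [rk, Sum.elim_inl, Sum.elim_inr] at hij
    · rw [Fin.ext hij]
    · omega
    · omega
    · rw [Fin.ext (show i.val = j.val by omega)]
  have hb : b + b.transpose = Matrix.of fun i j : Fin m ⊕ Fin m =>
      if i = j then a i i + a i i else if rk i ≤ rk j then a i j else a j i := by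
    ext i j
    simp only [b, Matrix.add_apply, Matrix.transpose_apply, Matrix.of_apply]
    rcases eq_or_ne i j with rfl | hij
    · simp
    · have := hinj.ne hij
      rcases lt_or_gt_of_ne this with hlt | hlt
      · simp [hij, hlt.le, not_le.2 hlt]
      · simp [hij, hlt.le, not_le.2 hlt]
  obtain ⟨n, B, iR, iA, h1, h2, h3⟩ := cover b (hb ▸ h)
  refine ⟨n, B, iR, iA, h1, h2, fun t => ?_⟩
  obtain ⟨g, hg, hx⟩ := h3 t
  refine ⟨g, hg, fun x => ?_⟩
  rw [show (∑ j : Fin m, x (Sum.inl j) * x (Sum.inr j)) = QSplit86.hyp x from rfl, ← hx x]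
  generalize g.mulVec x = y
  simp only [QB, QSplit86.qf, dotProduct, Matrix.mulVec, Finset.mul_sum, Matrix.map_apply, b,
    Matrix.of_apply]
  refine Finset.sum_congr rfl fun i _ => Finset.sum_congr rfl fun j _ => ?_
  split_ifs
  · ring
  · simp

end Groth.Agent.S3215
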