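import Groth.Statements.S16651
import Groth.Agent.QSplit86.Structure

set_option autoImplicit false
universe u v
open scoped TensorProduct
open QuadZ

namespace Groth.Agent.S16651

open CliffordAlgebra in
theorem center_bot {A : Type u} [CommRing A] {V : Type v} [AddCommGroup V] [Module A V]
    {Q : QuadraticForm A V} {m : ℕ} (S : QSplit86.Splitting Q m) :
    Subalgebra.center A (CliffordAlgebra Q) = ⊥ := by
  classical
  haveI := S.ffl
  refine eq_bot_iff.2 fun x hx => ?_
  rw [Algebra.mem_bot]
  have hc : ∀ y, Commute ((1 : S.B) ⊗ₜ[A] x) y := fun y => by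
    induction y with
    | zero => exact Commute.zero_right _
    | add a b ha hb => exact ha.add_right hb
    | tmul r w =>
      rw [Commute, SemiconjBy, Algebra.TensorProduct.tmul_mul_tmul, Algebra.TensorProduct.tmul_mul_tmul,
        mul_comm (1 : S.B), Subalgebra.mem_center_iff.1 hx w]
  obtain ⟨r, hr⟩ : S.T ((1 : S.B) ⊗ₜ x) ∈ Set.range (Matrix.scalar (Fin m → Bool)) :=
    Matrix.mem_range_scalar_of_commute_single fun i j _ => by
      have h := ((hc (S.T.symm (Matrix.single i j 1))).map S.T).symm
      rwa [AlgEquiv.apply_symm_apply] at h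
  have hr' : (1 : S.B) ⊗ₜ[A] x = r ⊗ₜ[A] (1 : CliffordAlgebra Q) := by
    apply S.T.injective
    rw [← hr, show r ⊗ₜ[A] (1 : CliffordAlgebra Q) = algebraMap S.B (S.B ⊗[A] CliffordAlgebra Q) r by
      rw [Algebra.TensorProduct.algebraMap_apply]; simp, AlgEquiv.commutes]
    rfl
  let N : Submodule A (CliffordAlgebra Q) := LinearMap.range (Algebra.linearMap A (CliffordAlgebra Q))
  have h := congrArg (N.mkQ.lTensor S.B) hr'
  rw [LinearMap.lTensor_tmul, LinearMap.lTensor_tmul,
    show N.mkQ 1 = 0 from (Submodule.Quotient.mk_eq_zero N).2 ⟨1, map_one (algebraMap A _)⟩,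
    TensorProduct.tmul_zero] at h
  obtain ⟨c, hc⟩ : x ∈ N := (Submodule.Quotient.mk_eq_zero N).1
    (Module.FaithfullyFlat.tensorProduct_mk_injective (A := A) (B := S.B) _
      (by simpa using h : (TensorProduct.mk A S.B _ 1) (N.mkQ x) = (TensorProduct.mk A S.B _ 1) 0))
  exact ⟨c, hc⟩

open CliffordAlgebra in
theorem ι_split {A : Type u} [CommRing A] {V : Type v} [AddCommGroup V] [Module A V] [Module.Free A V]
    [Module.Finite A V] (Q : QuadraticForm A V) :
    Function.Injective (CliffordAlgebra.ι Q) ∧
      ∃ W : Submodule A (CliffordAlgebra Q), IsCompl (LinearMap.range (CliffordAlgebra.ι Q)) W := by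
  classical
  let b := Module.Free.chooseBasis A V
  haveI : LinearOrder (Module.Free.ChooseBasisIndex A V) :=
    LinearOrder.lift' _ (Fintype.equivFin _).injective
  let β := Q.toBilin b
  have h : (-β).toQuadraticMap = (0 : QuadraticForm A V) - Q := by
    rw [LinearMap.BilinMap.toQuadraticMap_neg, zero_sub, QuadraticMap.toQuadraticMap_toBilin]
  let r : CliffordAlgebra Q →ₗ[A] V :=
    ExteriorAlgebra.ιInv.comp (CliffordAlgebra.changeForm h)
  have hr : ∀ v, r (CliffordAlgebra.ι Q v) = v := fun v => by
    show ExteriorAlgebra.ιInv (CliffordAlgebra.changeForm h (CliffordAlgebra.ι Q v)) = v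
    rw [CliffordAlgebra.changeForm_ι]
    exact ExteriorAlgebra.ι_leftInverse v
  refine ⟨Function.LeftInverse.injective hr, LinearMap.ker r, IsCompl.of_eq ?_ ?_⟩
  · rw [eq_bot_iff]
    rintro _ ⟨⟨v, rfl⟩, hv⟩
    rw [SetLike.mem_coe, LinearMap.mem_ker, hr] at hv
    simp [hv]
  · rw [eq_top_iff]
    intro x _
    refine Submodule.mem_sup.2 ⟨CliffordAlgebra.ι Q (r x), ⟨r x, rfl⟩, x - CliffordAlgebra.ι Q (r x), ?_, by simp⟩
    rw [LinearMap.mem_ker, map_sub, hr, sub_self]

open CliffordAlgebra in
theorem centralizer_eq {A : Type u} [CommRing A] {V : Type v} [AddCommGroup V] [Module A V]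
    {Q : QuadraticForm A V} {m : ℕ} (hm : 1 ≤ m) (S : QSplit86.Splitting Q m) :
    Subalgebra.centralizer A
        ((CliffordAlgebra.even Q).val '' (Subalgebra.center A ↥(CliffordAlgebra.even Q) : Set ↥(CliffordAlgebra.even Q))) =
      CliffordAlgebra.even Q := by
  classical
  haveI := S.ffl
  refine le_antisymm (fun x hx => ?_) (fun x hx => ?_)
  · obtain ⟨x0, h0, x1, h1, rfl⟩ := QSplit86.Splitting.exists_even_add_odd x
    suffices hx1 : x1 = 0 by rw [hx1, add_zero]; exact h0
    have hcomm : ∀ z ∈ Subalgebra.center A (CliffordAlgebra.even Q),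
        Commute x1 (z : CliffordAlgebra Q) := fun z hz => by
      have h : Commute (x0 + x1) (z : CliffordAlgebra Q) :=
        (Subalgebra.mem_centralizer_iff A).1 hx _ ⟨z, hz, rfl⟩ |>.symm
      have h' : Commute x0 (z : CliffordAlgebra Q) :=
        congrArg Subtype.val (Subalgebra.mem_center_iff.1 hz ⟨x0, h0⟩)
      simpa using h.sub_left h'
    let z := (S.cen hm).symm (1, 0)
    let y := Algebra.TensorProduct.map (AlgHom.id S.B S.B) (Subalgebra.center A (CliffordAlgebra.even Q)).val z
    have hMN : Commute (S.T ((1 : S.B) ⊗ₜ x1)) (S.T (S.incl y)) := by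
      refine Commute.map ?_ S.T
      show Commute _ (S.incl (Algebra.TensorProduct.map (AlgHom.id S.B S.B)
        (Subalgebra.center A (CliffordAlgebra.even Q)).val z))
      induction z with
      | zero => simp
      | add a b ha hb => rw [map_add, map_add]; exact ha.add_right hb
      | tmul r w =>
        show Commute ((1 : S.B) ⊗ₜ[A] x1) (r ⊗ₜ[A] ((w : CliffordAlgebra.even Q) : CliffordAlgebra Q))
        rw [Commute, SemiconjBy, Algebra.TensorProduct.tmul_mul_tmul, Algebra.TensorProduct.tmul_mul_tmul,
          mul_comm (1 : S.B), (hcomm w w.2).eq]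
    have hblk : S.evHom y = S.sc (1, 0) := by
      show S.cenHom z = _
      rw [← S.sc_cen hm, AlgEquiv.apply_symm_apply]
    set M := S.T (S.incl y) with hM
    set N := S.T ((1 : S.B) ⊗ₜ x1) with hN
    have hMe : ∀ s t, M s t = if s = t ∧ QSplit86.par s = false then 1 else 0 := by
      intro s t
      by_cases hst : QSplit86.par s = QSplit86.par t
      · cases hs : QSplit86.par s
        · have := congrFun (congrFun (congrArg Prod.fst hblk) ⟨s, hs⟩) ⟨t, hst ▸ hs⟩
          simpa [QSplit86.Splitting.sc, QSplit86.Splitting.evHom, Matrix.one_apply, Matrix.diagonal_apply, hs, hM] using this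
        · have := congrFun (congrFun (congrArg Prod.snd hblk) ⟨s, hs⟩) ⟨t, hst ▸ hs⟩
          simpa [QSplit86.Splitting.sc, QSplit86.Splitting.evHom, hs] using this
      · rw [hM, S.pres_incl y s t hst, if_neg (fun h => hst (congrArg _ h.1))]
    have hN0 : N = 0 := by
      ext s t
      by_cases hst : QSplit86.par s = QSplit86.par t
      · exact S.flip_odd h1 s t hst
      · have h := congrFun (congrFun hMN.eq s) t
        simp only [Matrix.mul_apply, hMe, mul_ite, mul_one, mul_zero, ite_mul, one_mul, zero_mul] at h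
        cases hs : QSplit86.par s <;> cases ht : QSplit86.par t
        · exact absurd (hs.trans ht.symm) hst
        · simpa [hs, ht, Finset.sum_ite_eq', Finset.sum_ite_eq, ite_and] using h.symm
        · simpa [hs, ht, Finset.sum_ite_eq', Finset.sum_ite_eq, ite_and] using h
        · exact absurd (hs.trans ht.symm) hst
    have h10 : (1 : S.B) ⊗ₜ[A] x1 = 0 := S.T.injective (by rw [map_zero]; exact hN0)
    exact Module.FaithfullyFlat.tensorProduct_mk_injective (A := A) (B := S.B) _
      (show (TensorProduct.mk A S.B _ 1) x1 = (TensorProduct.mk A S.B _ 1) 0 by simpa using h10)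
  · rw [Subalgebra.mem_centralizer_iff]
    rintro _ ⟨z, hz, rfl⟩
    exact (congrArg Subtype.val (Subalgebra.mem_center_iff.1 hz ⟨x, hx⟩)).symm


/-- For a free module over an affine base, let Q be a non-degenerate quadratic form (polar form a
perfect pairing) on a free module V of even rank 2m ≥ 2 over a commutative ring A. Then fppf-locally
on A the Clifford algebra C(V,Q) is a matrix algebra of size 2^m and its even part a product of two
matrix algebras of size 2^(m-1) (there is a faithfully flat finitely presented A-algebra A'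
realising both), the centre of C(V,Q) is A, the map V → C(V,Q) is injective onto a direct summand,
and the even part is the centralizer in C(V,Q) of its own centre. -/
theorem result (A : Type u) [CommRing A] (V : Type u)
    [AddCommGroup V] [Module A V] [Module.Free A V] [Module.Finite A V] (m : ℕ) (hm : 1 ≤ m)
    (hV : Module.finrank A V = 2 * m) (Q : QuadraticForm A V) (hQ : Function.Bijective (QuadraticMap.polarBilin Q)) :
    (∃ (A' : Type u) (_ : CommRing A') (_ : Algebra A A'), Module.FaithfullyFlat A A' ∧ Algebra.FinitePresentation A A' ∧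
        Nonempty ((A' ⊗[A] CliffordAlgebra Q) ≃ₐ[A'] Matrix (Fin (2 ^ m)) (Fin (2 ^ m)) A') ∧
        Nonempty ((A' ⊗[A] ↥(CliffordAlgebra.even Q)) ≃ₐ[A']
          (Matrix (Fin (2 ^ (m - 1))) (Fin (2 ^ (m - 1))) A' × Matrix (Fin (2 ^ (m - 1))) (Fin (2 ^ (m - 1))) A'))) ∧
    Subalgebra.center A (CliffordAlgebra Q) = ⊥ ∧
    (Function.Injective (CliffordAlgebra.ι Q) ∧
      ∃ W : Submodule A (CliffordAlgebra Q), IsCompl (LinearMap.range (CliffordAlgebra.ι Q)) W) ∧
    Subalgebra.centralizer A
        ((CliffordAlgebra.even Q).val '' (Subalgebra.center A ↥(CliffordAlgebra.even Q) : Set ↥(CliffordAlgebra.even Q))) =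
      CliffordAlgebra.even Q := by
  classical
  rcases subsingleton_or_nontrivial A with hA | hA
  · exfalso
    have h1 : Module.finrank A V = 1 := by
      exact Module.finrank_subsingleton
    omega
  obtain ⟨S⟩ := QSplit86.exists_splitting Q hV hQ
  refine ⟨⟨S.B, inferInstance, inferInstance, S.ffl, (haveI := S.etale; inferInstance), ?_, ?_⟩,
    center_bot S, ι_split Q, centralizer_eq hm S⟩
  · exact ⟨S.T.trans (Matrix.reindexAlgEquiv S.B S.B (Fintype.equivFinOfCardEq (by simp)))⟩
  · obtain ⟨k, rfl⟩ := Nat.exists_eq_add_of_le' hm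
    exact ⟨S.ev.trans (AlgEquiv.prodCongr
      (Matrix.reindexAlgEquiv S.B S.B (Fintype.equivFinOfCardEq (by simpa using QSplit86.Splitting.card_P false)))
      (Matrix.reindexAlgEquiv S.B S.B (Fintype.equivFinOfCardEq (by simpa using QSplit86.Splitting.card_P true))))⟩

end Groth.Agent.S16651
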