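import Groth.Statements.S5705
import Mathlib.RingTheory.LocalRing.Module
import Mathlib.RingTheory.Nakayama
import Mathlib.Algebra.Azumaya.Basic
import Mathlib.LinearAlgebra.FreeModule.Finite.Basic
-- import your own Groth.Agent.* helpers here

set_option autoImplicit false
universe u v
open TensorProduct
open Dix

namespace Groth.Agent.S5705

/-- Over a local base, where the Zariski-local conclusion becomes global. Let R be a local ring and A an
Azumaya algebra over R. Then every R-algebra automorphism u of A is inner, u(x) = a x a⁻¹ for some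
unit a of A, and the unit a is determined up to multiplication by a unit of R. -/
theorem result (R : Type u) [CommRing R] [IsLocalRing R] (A : Type v) [Ring A] [Algebra R A] [IsAzumaya R A] (u : A ≃ₐ[R] A) : (∃ a : Aˣ, ∀ x : A, u x = (a : A) * x * (a⁻¹ : Aˣ)) ∧ (∀ a a' : Aˣ, (∀ x : A, u x = (a : A) * x * (a⁻¹ : Aˣ)) → (∀ x : A, u x = (a' : A) * x * (a'⁻¹ : Aˣ)) → ∃ c : Rˣ, (a' : A) = algebraMap R A (c : R) * (a : A)) := by
  classical
  haveI : Module.Finite R A := IsAzumaya.toFinite
  haveI : Module.Projective R A := IsAzumaya.toProjective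
  haveI : Module.Free R A := Module.free_of_flat_of_isLocalRing
  haveI : Nontrivial A := by
    refine not_subsingleton_iff_nontrivial.1 fun h => ?_
    haveI := IsAzumaya.toFaithfulSMul (R := R) (A := A)
    exact zero_ne_one (α := R) (FaithfulSMul.eq_of_smul_eq_smul (α := A) fun a => Subsingleton.elim _ _)
  let m := IsLocalRing.maximalIdeal R
  let b := Module.Free.chooseBasis R A
  have one_notMem : (1 : A) ∉ m • (⊤ : Submodule R A) := by
    intro h
    have htop : (⊤ : Submodule R A) ≤ m • ⊤ := fun x _ => by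
      have h2 := Submodule.mem_map_of_mem (f := LinearMap.mulLeft R x) h
      rw [Submodule.map_smul''] at h2
      simpa using Submodule.smul_mono le_rfl le_top h2
    exact top_ne_bot (Submodule.eq_bot_of_le_smul_of_le_jacobson_bot m ⊤ Module.Finite.fg_top htop
      (IsLocalRing.maximalIdeal_le_jacobson ⊥))
  have unit_coord : ∀ a : A, a ∉ m • (⊤ : Submodule R A) → ∃ j, IsUnit (b.coord j a) := by
    intro a ha
    by_contra hc
    simp only [not_exists] at hc
    refine ha ?_
    rw [← b.sum_repr a]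
    exact Submodule.sum_mem _ fun j _ => Submodule.smul_mem_smul (hc j) Submodule.mem_top
  obtain ⟨i₀, hi₀⟩ := unit_coord 1 one_notMem
  let φ : A →ₗ[R] R := (↑hi₀.unit⁻¹ : R) • b.coord i₀
  have hφ : φ 1 = 1 := hi₀.val_inv_mul
  let E := AlgEquiv.ofBijective (AlgHom.mulLeftRight R A) IsAzumaya.bij
  let e := E.symm (φ.smulRight (1 : A))
  have he : AlgHom.mulLeftRight R A e = φ.smulRight (1 : A) := E.apply_symm_apply _
  let T := fun k => E.symm ((b.coord k).smulRight (1 : A))
  have hT : ∀ k, AlgHom.mulLeftRight R A (T k) = (b.coord k).smulRight (1 : A) :=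
    fun k => E.apply_symm_apply _
  let ρ := (AlgHom.mulLeftRight R A).comp
    (Algebra.TensorProduct.map u.toAlgHom (AlgHom.id R Aᵐᵒᵖ))
  have hρl : ∀ y c, ρ (y ⊗ₜ (1 : Aᵐᵒᵖ)) c = u y * c := fun y c => by simp [ρ]
  have hρr : ∀ y c, ρ ((1 : A) ⊗ₜ MulOpposite.op y) c = c * y := fun y c => by simp [ρ]
  have hcomm : ∀ y c, u y * ρ e c = ρ e c * y := by
    intro y c
    have h1 : (y ⊗ₜ[R] (1 : Aᵐᵒᵖ)) * e = ((1 : A) ⊗ₜ[R] MulOpposite.op y) * e := by
      refine IsAzumaya.bij.1 (LinearMap.ext fun x => ?_)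
      simp [map_mul, he]
    have h2 := LinearMap.congr_fun (congrArg ρ h1) c
    rwa [map_mul, map_mul, Module.End.mul_apply, Module.End.mul_apply, hρl, hρr] at h2
  have hone : (1 : A ⊗[R] Aᵐᵒᵖ) = ∑ k, (b k ⊗ₜ[R] (1 : Aᵐᵒᵖ)) * (e * T k) := by
    refine IsAzumaya.bij.1 (LinearMap.ext fun x => ?_)
    simp only [map_one, map_sum, map_mul, Module.End.one_apply, LinearMap.sum_apply,
      Module.End.mul_apply, he, hT, LinearMap.smulRight_apply, AlgHom.mulLeftRight_apply,
      map_smul, hφ, smul_eq_mul, mul_one, MulOpposite.unop_one]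
    simp [b.sum_repr]
  obtain ⟨a, ha, ham⟩ : ∃ a : A, (∀ y, u y * a = a * y) ∧ a ∉ m • (⊤ : Submodule R A) := by
    by_contra hc
    simp only [not_exists, not_and, not_not] at hc
    apply one_notMem
    have h1 := LinearMap.congr_fun (congrArg ρ hone) (1 : A)
    rw [map_one ρ, Module.End.one_apply, map_sum ρ, LinearMap.sum_apply] at h1
    rw [h1]
    refine Submodule.sum_mem _ fun k _ => ?_
    rw [map_mul, Module.End.mul_apply, hρl]
    have h2 := Submodule.mem_map_of_mem (f := LinearMap.mulLeft R (u (b k)))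
      (hc (ρ (e * T k) 1) fun y => by rw [map_mul, Module.End.mul_apply]; exact hcomm y _)
    rw [Submodule.map_smul''] at h2
    exact Submodule.smul_mono le_rfl le_top h2
  obtain ⟨j, hj⟩ := unit_coord a ham
  have hstab : ∀ J : Submodule R A, (∀ x ∈ J, ∀ y, y * x ∈ J ∧ x * y ∈ J) → a ∈ J → (1 : A) ∈ J := by
    intro J hJ haJ
    have h1 : ∀ t, ∀ x ∈ J, AlgHom.mulLeftRight R A t x ∈ J := by
      intro t
      induction t using TensorProduct.induction_on with
      | zero => intro x hx; simp
      | tmul p q =>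
        intro x hx
        rw [AlgHom.mulLeftRight_apply]
        exact (hJ _ (hJ x hx p).1 _).2
      | add t t' h h' =>
        intro x hx
        rw [map_add, LinearMap.add_apply]
        exact J.add_mem (h x hx) (h' x hx)
    have h2 := h1 (T j) a haJ
    rw [hT, LinearMap.smulRight_apply] at h2
    simpa [smul_smul] using J.smul_mem (↑hj.unit⁻¹ : R) h2
  obtain ⟨l, hl⟩ : (1 : A) ∈ LinearMap.range (LinearMap.mulRight R a) := hstab _ (by
    rintro _ ⟨w, rfl⟩ y
    exact ⟨⟨y * w, by simp [mul_assoc]⟩, ⟨w * u y, by simp [mul_assoc, ha]⟩⟩) ⟨1, by simp⟩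
  obtain ⟨r, hr⟩ : (1 : A) ∈ LinearMap.range (LinearMap.mulLeft R a) := hstab _ (by
    rintro _ ⟨w, rfl⟩ y
    refine ⟨⟨u.symm y * w, ?_⟩, ⟨w * y, by simp [mul_assoc]⟩⟩
    simp only [LinearMap.mulLeft_apply]
    rw [← mul_assoc, ← ha, AlgEquiv.apply_symm_apply, mul_assoc]) ⟨1, by simp⟩
  simp only [LinearMap.mulRight_apply, LinearMap.mulLeft_apply] at hl hr
  let au : Aˣ := ⟨a, r, hr, by rwa [← left_inv_eq_right_inv hl hr]⟩
  refine ⟨⟨au, fun x => ?_⟩, fun c c' h h' => ?_⟩
  · show u x = a * x * r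
    rw [← ha, mul_assoc, hr, mul_one]
  · let z : Aˣ := c⁻¹ * c'
    have hz : ∀ x, x * (z : A) = z * x := by
      intro x
      have h1 := (h x).symm.trans (h' x)
      calc x * (z : A) = (c⁻¹ : Aˣ) * ((c : A) * x * (c⁻¹ : Aˣ)) * c' := by simp [z, mul_assoc]
        _ = (c⁻¹ : Aˣ) * ((c' : A) * x * (c'⁻¹ : Aˣ)) * c' := by rw [h1]
        _ = z * x := by simp [z, mul_assoc]
    have hlin : ∀ t w, AlgHom.mulLeftRight R A t ((z : A) * w) = z * AlgHom.mulLeftRight R A t w := by
      intro t w
      induction t using TensorProduct.induction_on with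
      | zero => simp
      | tmul p q => simp only [AlgHom.mulLeftRight_apply, ← mul_assoc, hz]
      | add t t' h h' => simp only [map_add, LinearMap.add_apply, mul_add, h, h']
    have h2 := hlin e 1
    rw [mul_one, he, LinearMap.smulRight_apply, LinearMap.smulRight_apply, hφ, one_smul,
      mul_one] at h2
    have hu : IsUnit (φ (z : A)) := by
      by_contra hc
      refine one_notMem ?_
      have hzm : (z : A) ∈ m • (⊤ : Submodule R A) := h2 ▸ Submodule.smul_mem_smul hc Submodule.mem_top
      have h3 := Submodule.mem_map_of_mem (f := LinearMap.mulLeft R ((z⁻¹ : Aˣ) : A)) hzm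
      rw [Submodule.map_smul''] at h3
      simpa using Submodule.smul_mono le_rfl le_top h3
    refine ⟨hu.unit, ?_⟩
    have h4 : (c' : A) = c * z := by simp [z]
    rw [IsUnit.unit_spec, h4]
    conv_lhs => rw [← h2]
    rw [mul_smul_comm, mul_one, Algebra.smul_def]

end Groth.Agent.S5705
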