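import Groth.Statements.S17014
import Groth.Agent.QuadCentre.HalfDisc
import Mathlib.LinearAlgebra.QuadraticForm.Basis

set_option autoImplicit false
universe u v
open QuadGrp

namespace Groth.Agent.S17014

open Groth.Agent.QuadCentre MvPolynomial

variable {S T : Type*} [CommRing S] [CommRing T] {n : ℕ}

/-- The upper triangular matrix of a family of coefficients. -/
def upper (a : Sym2 (Fin n) → S) : Matrix (Fin n) (Fin n) S :=
  Matrix.of fun k l => if k = l then a (Sym2.mk k l) else if k < l then a (Sym2.mk k l) else 0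

/-- The coefficients after a linear substitution. -/
def subst (a : Sym2 (Fin n) → S) (G : Matrix (Fin n) (Fin n) S) : Sym2 (Fin n) → S :=
  Sym2.lift ⟨fun i j => if i = j then ∑ k, ∑ l, upper a k l * (G k i * G l i)
      else ∑ k, ∑ l, upper a k l * (G k i * G l j + G k j * G l i), fun i j => by
    by_cases h : i = j
    · subst h; rfl
    · dsimp only
      rw [if_neg h, if_neg (Ne.symm h)]
      exact Finset.sum_congr rfl fun k _ => Finset.sum_congr rfl fun l _ => by rw [add_comm]⟩

lemma subst_mk (a : Sym2 (Fin n) → S) (G : Matrix (Fin n) (Fin n) S) (i j : Fin n) :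
    subst a G (Sym2.mk i j) = if i = j then ∑ k, ∑ l, upper a k l * (G k i * G l i)
      else ∑ k, ∑ l, upper a k l * (G k i * G l j + G k j * G l i) := rfl

lemma map_subst (φ : S →+* T) (a : Sym2 (Fin n) → S) (G : Matrix (Fin n) (Fin n) S) :
    φ ∘ subst a G = subst (φ ∘ a) (G.map φ) := by
  funext s
  induction s using Sym2.ind with
  | _ i j =>
    simp only [Function.comp_apply, subst_mk]
    split_ifs <;> simp [upper, apply_ite φ]

lemma polarMatAt_eq_upper (a : Sym2 (Fin n) → S) : polarMatAt a = upper a + (upper a).transpose := by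
  ext i j
  simp only [polarMatAt, upper, Matrix.add_apply, Matrix.transpose_apply, Matrix.of_apply]
  rcases lt_trichotomy i j with h | h | h
  · simp [h.ne, h.ne', h, h.not_gt]
  · subst h; simp [two_mul]
  · simp [h.ne, h.ne', h, h.not_gt, Sym2.eq_swap]

lemma polarMatAt_subst (a : Sym2 (Fin n) → S) (G : Matrix (Fin n) (Fin n) S) :
    polarMatAt (subst a G) = G.transpose * polarMatAt a * G := by
  ext i j
  have h1 : (G.transpose * polarMatAt a * G) i j = ∑ k, ∑ l, upper a k l * (G k i * G l j + G k j * G l i) := by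
    rw [polarMatAt_eq_upper, Matrix.mul_add, Matrix.add_mul, Matrix.add_apply]
    simp only [Matrix.mul_apply, Matrix.transpose_apply, Finset.sum_mul, mul_add, Finset.sum_add_distrib]
    congr 1
    · rw [Finset.sum_comm]
      exact Finset.sum_congr rfl fun k _ => Finset.sum_congr rfl fun l _ => by ring
    · exact Finset.sum_congr rfl fun k _ => Finset.sum_congr rfl fun l _ => by ring
  rw [h1]
  by_cases h : i = j
  · subst h
    simp only [polarMatAt, Matrix.of_apply, if_true, subst_mk, Finset.mul_sum]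
    exact Finset.sum_congr rfl fun k _ => Finset.sum_congr rfl fun l _ => by ring
  · simp only [polarMatAt, Matrix.of_apply, if_neg h, subst_mk]

/-- The half-discriminant at a point. -/
noncomputable def hd (a : Sym2 (Fin n) → S) : S :=
  eval₂ (Int.castRingHom S) a (QuadGrp.halfDiscUniv n)

lemma map_hd (φ : S →+* T) (a : Sym2 (Fin n) → S) : φ (hd a) = hd (φ ∘ a) := by
  rw [hd, hd, eval₂_comp_left φ, RingHom.ext_int (φ.comp (Int.castRingHom S)) (Int.castRingHom T)]

lemma hd_subst {m : ℕ} (a : Sym2 (Fin (2 * m + 1)) → S) (G : Matrix (Fin (2 * m + 1)) (Fin (2 * m + 1)) S) :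
    hd (subst a G) = G.det ^ 2 * hd a := by
  let a₀ : Sym2 (Fin (2 * m + 1)) → (MvPolynomial (Sym2 (Fin (2 * m + 1)) ⊕ Fin (2 * m + 1) × Fin (2 * m + 1)) ℤ) := fun s => X (Sum.inl s)
  let G₀ : Matrix (Fin (2 * m + 1)) (Fin (2 * m + 1)) (MvPolynomial (Sym2 (Fin (2 * m + 1)) ⊕ Fin (2 * m + 1) × Fin (2 * m + 1)) ℤ) := fun i j => X (Sum.inr (i, j))
  have key : hd (subst a₀ G₀) = G₀.det ^ 2 * hd a₀ := by
    have h2 : ∀ b : Sym2 (Fin (2 * m + 1)) → (MvPolynomial (Sym2 (Fin (2 * m + 1)) ⊕ Fin (2 * m + 1) × Fin (2 * m + 1)) ℤ), 2 * hd b = (polarMatAt b).det := fun b => by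
      rw [← eval₂_discUniv _ (Int.castRingHom (MvPolynomial (Sym2 (Fin (2 * m + 1)) ⊕ Fin (2 * m + 1) × Fin (2 * m + 1)) ℤ)) b, ← two_mul_halfDiscUniv ⟨m, rfl⟩, eval₂_mul, ← coe_eval₂Hom, map_ofNat]
      rfl
    refine mul_left_cancel₀ (show (2 : (MvPolynomial (Sym2 (Fin (2 * m + 1)) ⊕ Fin (2 * m + 1) × Fin (2 * m + 1)) ℤ)) ≠ 0 from fun h => by simpa [map_ofNat] using congrArg (MvPolynomial.eval (fun _ => (0 : ℤ))) h) ?_
    rw [mul_left_comm, h2, h2, polarMatAt_subst, Matrix.det_mul, Matrix.det_mul, Matrix.det_transpose]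
    ring
  let φ : (MvPolynomial (Sym2 (Fin (2 * m + 1)) ⊕ Fin (2 * m + 1) × Fin (2 * m + 1)) ℤ) →+* S := eval₂Hom (Int.castRingHom S) (Sum.elim a fun p => G p.1 p.2)
  have ha : φ ∘ a₀ = a := funext fun s => by simp [φ, a₀]
  have hG : G₀.map φ = G := Matrix.ext fun i j => by simp [φ, G₀]
  have h := congrArg φ key
  rw [map_hd, map_subst, map_mul, map_pow, map_hd, RingHom.map_det, ha, RingHom.mapMatrix_apply, hG] at h
  exact h


/-- For a quadratic form Q on a free module with a basis b indexed by Fin (2m+1) over a commutative ring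
and any linear endomorphism g of the module, the half-discriminant of Q ∘ g relative to b is (det
g)² times that of Q. -/
theorem result {R : Type u} [CommRing R] {M : Type v} [AddCommGroup M] [Module R M]
    (m : ℕ) (b : Module.Basis (Fin (2 * m + 1)) R M) (Q : QuadraticForm R M) (g : M →ₗ[R] M) :
    QuadGrp.halfDisc b (LinearEquiv.refl R R) (Q.comp g) =
      LinearMap.det g ^ 2 * QuadGrp.halfDisc b (LinearEquiv.refl R R) Q := by
  classical
  show hd (coeffs b (LinearEquiv.refl R R) (Q.comp g)) = _ * hd (coeffs b (LinearEquiv.refl R R) Q)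
  rw [← LinearMap.det_toMatrix b, ← hd_subst]
  congr 1
  funext s
  set a := coeffs b (LinearEquiv.refl R R) Q with ha
  have hB : ∀ x y : M, Q.toBilin b x y = ∑ k, ∑ l, upper a k l * (b.repr x k * b.repr y l) := fun x y => by
    conv_lhs => rw [← b.sum_repr x, ← b.sum_repr y]
    simp only [map_sum, map_smul, LinearMap.sum_apply, LinearMap.smul_apply, smul_eq_mul, Finset.mul_sum]
    rw [Finset.sum_comm]
    refine Finset.sum_congr rfl fun k _ => Finset.sum_congr rfl fun l _ => ?_
    have hu : upper a k l = Q.toBilin b (b k) (b l) := by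
      simp only [upper, Matrix.of_apply, ha, coeffs_mk, QuadraticMap.toBilin, Module.Basis.constr_basis, LinearEquiv.refl_apply]
      split_ifs <;> rfl
    rw [hu]; ring
  have hQ : ∀ x, Q x = Q.toBilin b x x := fun x =>
    (congrArg (fun q : QuadraticForm R M => q x) (QuadraticMap.toQuadraticMap_toBilin Q b)).symm
  induction s using Sym2.ind with
  | _ i j =>
    rw [coeffs_mk, subst_mk]
    by_cases h : i = j
    · subst h
      rw [if_pos rfl, if_pos rfl, LinearEquiv.refl_apply, QuadraticMap.comp_apply, hQ, hB]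
      simp [LinearMap.toMatrix_apply]
    · rw [if_neg h, if_neg h, LinearEquiv.refl_apply, QuadraticMap.polar, QuadraticMap.comp_apply, QuadraticMap.comp_apply,
        QuadraticMap.comp_apply, map_add, hQ, hQ, hQ]
      simp only [map_add, LinearMap.add_apply, hB, ← Finset.sum_add_distrib, LinearMap.toMatrix_apply]
      rw [← Finset.sum_sub_distrib, ← Finset.sum_sub_distrib]
      refine Finset.sum_congr rfl fun k _ => ?_
      rw [← Finset.sum_sub_distrib, ← Finset.sum_sub_distrib]
      exact Finset.sum_congr rfl fun l _ => by ring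

end Groth.Agent.S17014
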