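import Groth.Statements.S4495
import Mathlib.Geometry.RingedSpace.LocallyRingedSpace
import Mathlib.Topology.Sheaves.SheafCondition.UniqueGluing
import Mathlib.Topology.Connected.Clopen

set_option autoImplicit false
universe u
open FlatCx

namespace Groth.Agent.S4495

open CategoryTheory AlgebraicGeometry Opposite in
theorem germ_idem (Z : LocallyRingedSpace.{u}) (x : Z.toTopCat) (e : Z.presheaf.obj (op ⊤))
    (he : IsIdempotentElem e) :
    Z.presheaf.germ ⊤ x trivial e = 0 ∨ Z.presheaf.germ ⊤ x trivial e = 1 := by
  set g := Z.presheaf.germ ⊤ x trivial e with hg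
  have hgg : g * g = g := by rw [hg, ← map_mul, he.eq]
  rcases IsLocalRing.isUnit_or_isUnit_of_add_one (a := g) (b := 1 - g) (by ring) with h | h
  · exact Or.inr (h.mul_eq_left.mp hgg)
  · left
    have : (1 - g) * g = 0 := by rw [sub_mul, one_mul, hgg, sub_self]
    exact h.mul_right_eq_zero.mp this

open CategoryTheory AlgebraicGeometry Opposite in
/-- A locally ringed space Z is connected, in the sense that it is not the disjoint union of two
nonempty open subsets (the empty space being allowed), if and only if every idempotent of the ring
of global sections Γ(Z, O_Z) is 0 or 1 (equivalently, Γ(Z, O_Z) is not isomorphic to a product of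
two nonzero rings). -/
theorem result (Z : LocallyRingedSpace.{u}) :
    PreconnectedSpace Z ↔
      ∀ e : Z.presheaf.obj (op ⊤), IsIdempotentElem e → e = 0 ∨ e = 1 := by
  let X := Z.toRingedSpace
  constructor
  · intro hc e he
    have hcl : IsClopen (SetLike.coe (X.basicOpen e)) := by
      refine ⟨⟨?_⟩, (X.basicOpen e).2⟩
      have : (SetLike.coe (X.basicOpen e))ᶜ =
          (SetLike.coe (X.basicOpen (1 - e))) := by
        ext x
        simp only [Set.mem_compl_iff, SetLike.mem_coe, RingedSpace.mem_top_basicOpen]
        rcases germ_idem Z x e he with h | h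
        · have h' : Z.toRingedSpace.presheaf.Γgerm x e = 0 := h
          simp only [X, map_sub, map_one]
          erw [h']
          simp
        · have h' : Z.toRingedSpace.presheaf.Γgerm x e = 1 := h
          simp only [X, map_sub, map_one]
          erw [h']
          simp
      rw [this]
      exact (X.basicOpen (1 - e)).2
    rcases preconnectedSpace_iff_clopen.mp hc _ hcl with h | h
    · left
      refine TopCat.Presheaf.section_ext Z.sheaf ⊤ e 0 fun x hx => ?_
      rcases germ_idem Z x e he with h0 | h1
      · exact h0.trans (map_zero _).symm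
      · exfalso
        have : x ∈ (SetLike.coe (X.basicOpen e)) := by
          rw [SetLike.mem_coe, RingedSpace.mem_top_basicOpen]
          exact (congrArg IsUnit h1).mpr isUnit_one
        rw [h] at this
        exact this
    · right
      refine TopCat.Presheaf.section_ext Z.sheaf ⊤ e 1 fun x hx => ?_
      have : x ∈ (SetLike.coe (X.basicOpen e)) := h ▸ Set.mem_univ x
      rw [SetLike.mem_coe, RingedSpace.mem_top_basicOpen] at this
      rcases germ_idem Z x e he with h0 | h1
      · exact absurd ((congrArg IsUnit h0).mp this) not_isUnit_zero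
      · exact h1.trans (map_one _).symm
  · intro h
    rw [preconnectedSpace_iff_clopen]
    intro s hs
    let U : Bool → TopologicalSpace.Opens Z.toTopCat := fun b =>
      if b then ⟨s, hs.isOpen⟩ else ⟨sᶜ, hs.compl.isOpen⟩
    let sf : ∀ b, Z.presheaf.obj (op (U b)) := fun b => if b then 1 else 0
    have hcov : ∀ x : Z.toTopCat, ∃ b, x ∈ U b := fun x => by
      by_cases hx : x ∈ s
      · exact ⟨true, hx⟩
      · exact ⟨false, hx⟩
    have hcompat : TopCat.Presheaf.IsCompatible Z.presheaf U sf := by
      intro a b
      refine TopCat.Presheaf.section_ext Z.sheaf (U a ⊓ U b) _ _ fun x hx => ?_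
      cases a <;> cases b <;> first | rfl | exact absurd hx.1 hx.2 | exact absurd hx.2 hx.1
    obtain ⟨e, he, -⟩ := Z.sheaf.existsUnique_gluing' U ⊤ (fun b => homOfLE le_top)
      (fun x _ => TopologicalSpace.Opens.mem_iSup.mpr (hcov x)) sf hcompat
    have hgerm : ∀ (x : Z.toTopCat) (b : Bool), x ∈ U b →
        Z.presheaf.germ ⊤ x trivial e = if b then 1 else 0 := by
      intro x b hx
      rw [← TopCat.Presheaf.germ_res_apply Z.presheaf (homOfLE (le_top : U b ≤ ⊤)) x hx e]
      erw [he b]
      cases b
      · exact map_zero _
      · exact map_one _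
    have hidem : IsIdempotentElem e := by
      refine TopCat.Presheaf.section_ext Z.sheaf ⊤ _ _ fun x hx => ?_
      obtain ⟨b, hb⟩ := hcov x
      show Z.presheaf.germ ⊤ x trivial (e * e) = Z.presheaf.germ ⊤ x trivial e
      refine (map_mul (Z.presheaf.germ ⊤ x trivial).hom e e).trans ?_
      erw [hgerm x b hb]
      cases b <;> simp
    rcases h e hidem with h0 | h1
    · left
      refine Set.eq_empty_iff_forall_notMem.mpr fun x hx => ?_
      have hg := hgerm x true hx
      rw [h0, map_zero, if_pos rfl] at hg
      exact zero_ne_one hg
    · right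
      refine Set.eq_univ_iff_forall.mpr fun x => ?_
      by_contra hx
      have hg := hgerm x false hx
      rw [h1, map_one] at hg
      exact one_ne_zero hg

end Groth.Agent.S4495
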