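import Groth.Statements.S0585
import Groth.Agent.ProjDesc.Basic

set_option autoImplicit false
universe u
open CAlg

namespace Groth.Agent.S0585

/-- Let `R → S` be faithfully flat and `M` an `R`-module. If `S ⊗ M` is a projective `S`-module then `M`
is a projective `R`-module. -/
theorem result (R : Type u) [CommRing R] (S : Type u) [CommRing S]
    [Algebra R S] [Module.FaithfullyFlat R S] (M : Type u) [AddCommGroup M] [Module R M]
    [Module.Projective S (TensorProduct R S M)] : Module.Projective R M := by
  exact Groth.Agent.ProjDesc.projective_of_baseChange R S M

end Groth.Agent.S0585
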