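import Groth.Statements.S1201
import Groth.Agent.HP.SepMain
import Groth.Agent.RGFlat.FibreReg

set_option autoImplicit false
universe u
open FlatMor

namespace Groth.Agent.S1201

open TensorProduct

attribute [local instance] Algebra.TensorProduct.rightAlgebra

variable {R S : Type u} [CommRing R] [CommRing S] [Algebra R S]
  {N : Type u} [AddCommGroup N] [Module S N] [Module R N] [IsScalarTower R S N]

theorem flatAt_mono (q q' : Ideal S) [q.IsPrime] [q'.IsPrime] (hle : q' ≤ q) (h : FlatCA.FlatAt R q N) :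
    FlatCA.FlatAt R q' N := by
  haveI : Module.Flat R (LocalizedModule q.primeCompl N) := h
  let η := LocalizedModule.mkLinearMap q.primeCompl N
  let η' := LocalizedModule.mkLinearMap q'.primeCompl N
  have hle' : q.primeCompl ≤ q'.primeCompl := fun x hx h' => hx (hle h')
  let ψ := IsLocalizedModule.lift q.primeCompl η η' fun s => IsLocalizedModule.map_units η' (⟨s, hle' s.2⟩ : q'.primeCompl)
  haveI : IsLocalizedModule q'.primeCompl ψ := by
    refine ⟨fun s => IsLocalizedModule.map_units η' s, fun y => ?_, fun {a b} hab => ?_⟩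
    · obtain ⟨⟨n, s⟩, hn⟩ := IsLocalizedModule.surj q'.primeCompl η' y
      exact ⟨⟨η n, s⟩, hn.trans (IsLocalizedModule.lift_apply _ _ _ _ n).symm⟩
    · obtain ⟨⟨n, s⟩, hn⟩ := IsLocalizedModule.surj q.primeCompl η (a - b)
      have h0 : η' n = 0 := by
        rw [← IsLocalizedModule.lift_apply q.primeCompl η η' _ n, ← hn]
        show ψ ((s : S) • (a - b)) = 0
        rw [map_smul, map_sub, hab, sub_self, smul_zero]
      obtain ⟨c, hc⟩ := (IsLocalizedModule.eq_zero_iff q'.primeCompl η').mp h0
      refine ⟨c * ⟨s, hle' s.2⟩, sub_eq_zero.mp ?_⟩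
      rw [← smul_sub, Submonoid.smul_def, Submonoid.coe_mul, mul_smul]
      show (c : S) • (s • (a - b)) = 0
      rw [hn, ← map_smul]
      exact (congrArg η hc).trans (map_zero η)
  haveI : Module.Flat S (Localization.AtPrime q') := IsLocalization.flat _ q'.primeCompl
  haveI := RGFlat.flat_tensor R S (Localization.AtPrime q') (LocalizedModule q.primeCompl N)
  let hb : IsBaseChange (Localization.AtPrime q') ψ :=
    (isLocalizedModule_iff_isBaseChange q'.primeCompl (Localization.AtPrime q') ψ).mp inferInstance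
  exact Module.Flat.of_linearEquiv (hb.equiv.restrictScalars R).symm

theorem exists_smul_mem_pN [Algebra.FiniteType R S] [Module.Finite S N] (p : Ideal R) [p.IsPrime]
    (q : Ideal S) [q.IsPrime] [q.LiesOver p] (w : N)
    (hw : ∀ (q' : Ideal S) [q'.IsPrime], q' ≤ q → q'.LiesOver p →
      FlatCA.fiberIdeal p q' ∈ associatedPrimes (p.Fiber S) (FlatCA.fiberMod p S N) →
      ∃ c ∉ q', FlatCA.toFiberMod p S N (c • w) = 0) :
    ∃ s ∉ q, s • w ∈ CAlgA.FibreMod.pN (S := S) N p := by
  haveI := RGFlat.isNoetherianRing_fiber (S := S) p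
  haveI := RGFlat.finite_fiberMod (S := S) (N := N) p
  let B := p.Fiber S
  let F := FlatCA.fiberMod p S N
  let ι : S →+* B := (Algebra.TensorProduct.includeRight (R := R) (A := p.ResidueField) (B := S)).toRingHom
  let qB := FlatCA.fiberIdeal p q
  have hq : qB.comap ι = q := FlatMisc.Fiber.comap_fiberIdeal p q
  have key : ∀ b : B, ∃ (r : R) (s : S), r ∉ p ∧ IsUnit (algebraMap R B r) ∧ algebraMap R B r * b = ι s := fun b => by
    obtain ⟨r, hr, s, hrs⟩ := Ideal.Fiber.exists_smul_eq_one_tmul p b
    refine ⟨r, s, hr, ?_, by rw [← Algebra.smul_def]; exact hrs⟩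
    rw [IsScalarTower.algebraMap_apply R p.ResidueField B]
    refine IsUnit.map _ ?_
    rw [isUnit_iff_ne_zero, Ne, Ideal.algebraMap_residueField_eq_zero]
    exact hr
  let x := FlatCA.toFiberMod p S N w
  have hnle : ¬ (⊥ : Submodule B F).colon {x} ≤ qB := fun hle => by
    haveI : qB.IsPrime := RGFlat.fiberIdeal_isPrime p q
    obtain ⟨P, hP, hPq⟩ := Ideal.exists_minimalPrimes_le hle
    obtain ⟨x', hx'⟩ := Submodule.exists_eq_colon_of_mem_minimalPrimes hP
    haveI : P.IsPrime := hP.1.1
    let q' := P.comap ι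
    haveI : q'.IsPrime := Ideal.comap_isPrime _ _
    have hq' : q'.LiesOver p := ⟨by
      ext r
      have hι : ι (algebraMap R S r) = algebraMap R B r :=
        (Algebra.TensorProduct.includeRight (R := R) (A := p.ResidueField) (B := S)).commutes r
      show r ∈ p ↔ ι (algebraMap R S r) ∈ P
      rw [hι, IsScalarTower.algebraMap_apply R p.ResidueField B]
      refine ⟨fun h => by rw [Ideal.algebraMap_residueField_eq_zero.mpr h, map_zero]; exact zero_mem _, fun h => ?_⟩
      by_contra hr
      exact hP.1.1.ne_top (P.eq_top_of_isUnit_mem h (IsUnit.map _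
        (IsUnit.mk0 _ fun h0 => hr (Ideal.algebraMap_residueField_eq_zero.mp h0))))⟩
    have hPeq : FlatCA.fiberIdeal p q' = P := le_antisymm Ideal.map_comap_le fun b hb => by
      obtain ⟨r, s, -, hu, hs⟩ := key b
      refine (Ideal.unit_mul_mem_iff_mem _ hu).mp (hs ▸ Ideal.mem_map_of_mem _ ?_)
      show ι s ∈ P
      rw [← hs]
      exact P.mul_mem_left _ hb
    obtain ⟨c, hc, hcw⟩ := hw q' (le_trans (Ideal.comap_mono hPq) hq.le) hq'
      (hPeq.symm ▸ isAssociatedPrime_iff.mpr ⟨hP.1.1, x', hx'⟩)
    refine hc (hP.1.2 (Submodule.mem_colon_singleton.mpr ((Submodule.mem_bot B).mpr ?_)))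
    rw [show ι c • x = c • x from CAlgA.FibreMod.includeRight_smul N p c x, ← map_smul]
    exact hcw
  obtain ⟨b, hb, hbq⟩ := SetLike.not_le_iff_exists.mp hnle
  rw [Submodule.mem_colon_singleton, Submodule.mem_bot] at hb
  obtain ⟨r, s, hr, hu, hrs⟩ := key b
  have hs : s ∉ q := fun hsq =>
    hbq ((Ideal.unit_mul_mem_iff_mem _ hu).mp (hrs ▸ Ideal.mem_map_of_mem _ hsq))
  have hsx : FlatCA.toFiberMod p S N (s • w) = 0 := by
    rw [map_smul, ← CAlgA.FibreMod.includeRight_smul N p s]
    show ι s • x = 0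
    rw [← hrs, mul_smul, hb, smul_zero]
  obtain ⟨r', hr', hmem⟩ := CAlgA.FibreMod.exists_smul_mem N p hsx
  refine ⟨algebraMap R S r' * s, q.primeCompl.mul_mem (fun hm => hr' ((q.over_def p).ge hm)) hs, ?_⟩
  rw [mul_smul]
  exact hmem

theorem toFiberMod_eq_zero_of_tmul (p : Ideal R) [p.IsPrime] (n : N) (h : (1 : p.ResidueField) ⊗ₜ[R] n = 0) :
    FlatCA.toFiberMod p S N n = 0 := by
  let g : p.ResidueField →ₗ[R] N →ₗ[R] (p.Fiber S) ⊗[S] N := LinearMap.mk₂ R
    (fun a n => (a ⊗ₜ[R] (1 : S) : p.Fiber S) ⊗ₜ[S] n)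
    (fun a b n => by rw [TensorProduct.add_tmul, TensorProduct.add_tmul])
    (fun c a n => by rw [← TensorProduct.smul_tmul', ← TensorProduct.smul_tmul'])
    (fun a m n => TensorProduct.tmul_add _ _ _)
    (fun c a n => by rw [TensorProduct.tmul_smul])
  have h1 := (TensorProduct.lift.tmul (f' := g) (1 : p.ResidueField) n).symm
  rw [h, map_zero] at h1
  exact h1

/-- Ring form: X = Spec S, S = Spec R: for a finite type R-algebra S, a finite S-module N and a prime q
of S lying over p, the localization N_q is flat over R if and only if N_{q'} is flat over R for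
every prime q' ⊆ q lying over p whose extension to the fibre ring over p is an associated prime of
the fibre module of N (the associated points of the fibre which specialize to q). -/
theorem result {R S : Type u} [CommRing R] [CommRing S] [Algebra R S] [Algebra.FiniteType R S]
    (N : Type u) [AddCommGroup N] [Module S N] [Module R N] [IsScalarTower R S N] [Module.Finite S N]
    (p : Ideal R) [p.IsPrime] (q : Ideal S) [q.IsPrime] [q.LiesOver p] :
    FlatCA.FlatAt R q N ↔ ∀ (q' : Ideal S) [q'.IsPrime], q' ≤ q → q'.LiesOver p →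
      FlatCA.fiberIdeal p q' ∈ associatedPrimes (p.Fiber S) (FlatCA.fiberMod p S N) → FlatCA.FlatAt R q' N := by
  constructor
  · intro h q' _ hle _ _
    exact flatAt_mono q q' hle h
  intro h
  classical
  haveI := RGFlat.isNoetherianRing_fiber (S := S) p
  haveI := RGFlat.finite_fiberMod (S := S) (N := N) p
  haveI : Finite (associatedPrimes (p.Fiber S) (FlatCA.fiberMod p S N)) :=
    (associatedPrimes.finite (p.Fiber S) (FlatCA.fiberMod p S N)).to_subtype
  let T := {q' : PrimeSpectrum S // q'.asIdeal ≤ q ∧ q'.asIdeal.LiesOver p ∧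
    FlatCA.fiberIdeal p q'.asIdeal ∈ associatedPrimes (p.Fiber S) (FlatCA.fiberMod p S N)}
  haveI : Finite T := by
    refine Finite.of_injective (β := associatedPrimes (p.Fiber S) (FlatCA.fiberMod p S N))
      (fun t => ⟨FlatCA.fiberIdeal p t.1.asIdeal, t.2.2.2⟩) fun t t' he => Subtype.ext (PrimeSpectrum.ext ?_)
    haveI := t.2.2.1
    haveI := t'.2.2.1
    rw [← FlatMisc.Fiber.comap_fiberIdeal p t.1.asIdeal, ← FlatMisc.Fiber.comap_fiberIdeal p t'.1.asIdeal]
    exact congrArg (fun I : Ideal (p.Fiber S) => I.comap _) (Subtype.ext_iff.mp he)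
  haveI := Fintype.ofFinite T
  let A := Localization.AtPrime p
  let B := Localization.AtPrime q
  obtain ⟨g, hg, hloc⟩ := RGFlat.exists_comap_localRingHom p q (algebraMap R S) (q.over_def p).symm A B
  letI : Algebra A B := g.toAlgebra
  haveI : IsScalarTower R A B := IsScalarTower.of_algebraMap_eq' (by
    rw [RingHom.algebraMap_toAlgebra, hg, ← IsScalarTower.algebraMap_eq])
  haveI : IsLocalHom (algebraMap A B) := hloc
  haveI : Algebra.EssFiniteType R S := inferInstance
  haveI : Algebra.EssFiniteType S B := Algebra.EssFiniteType.of_isLocalization B q.primeCompl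
  haveI : Algebra.EssFiniteType R B := Algebra.EssFiniteType.comp R S B
  haveI : Algebra.EssFiniteType A B := Algebra.EssFiniteType.of_comp R A B
  let Nq := LocalizedModule q.primeCompl N
  letI : Module A Nq := Module.compHom Nq (algebraMap A B)
  haveI : IsScalarTower A B Nq := IsScalarTower.of_algebraMap_smul fun a x => rfl
  haveI : IsScalarTower R A Nq := IsScalarTower.of_algebraMap_smul fun a x => by
    show algebraMap A B (algebraMap R A a) • x = a • x
    rw [← IsScalarTower.algebraMap_apply, IsScalarTower.algebraMap_apply R S B, IsScalarTower.algebraMap_smul,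
      IsScalarTower.algebraMap_smul]
  haveI : Module.Finite B Nq := Module.Finite.of_isLocalizedModule q.primeCompl (LocalizedModule.mkLinearMap q.primeCompl N)
  let M := ∀ t : T, LocalizedModule t.1.asIdeal.primeCompl N
  haveI : ∀ t : T, Module.Flat R (LocalizedModule t.1.asIdeal.primeCompl N) := fun t => h _ t.2.1 t.2.2.1 t.2.2.2
  haveI : Module.Flat R M := Module.Flat.of_linearEquiv
    (DirectSum.linearEquivFunOnFintype R T fun t => LocalizedModule t.1.asIdeal.primeCompl N).symm
  let φS : Nq →ₗ[S] M := LinearMap.pi fun t => IsLocalizedModule.lift q.primeCompl (LocalizedModule.mkLinearMap q.primeCompl N)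
    (LocalizedModule.mkLinearMap t.1.asIdeal.primeCompl N) fun s =>
      IsLocalizedModule.map_units (LocalizedModule.mkLinearMap t.1.asIdeal.primeCompl N)
        (⟨s, fun h' => s.2 (t.2.1 h')⟩ : t.1.asIdeal.primeCompl)
  let u : Nq →ₗ[A] A ⊗[R] M :=
    ((TensorProduct.mk R A M 1).comp (φS.restrictScalars R)).extendScalarsOfIsLocalization p.primeCompl A
  suffices hinj : Function.Injective (u.lTensor (IsLocalRing.ResidueField A)) by
    haveI : Module.Flat A Nq := HP.Sep.flat_of_map (B := B) u hinj
    exact Module.Flat.trans R A Nq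
  rw [injective_iff_map_eq_zero]
  intro y hy
  obtain ⟨x, rfl⟩ := TensorProduct.mk_surjective A Nq (IsLocalRing.ResidueField A) IsLocalRing.residue_surjective y
  obtain ⟨⟨w, s⟩, hws⟩ := IsLocalizedModule.surj q.primeCompl (LocalizedModule.mkLinearMap q.primeCompl N) x
  let k := IsLocalRing.ResidueField A
  let e := AlgebraTensorModule.cancelBaseChange R A A k M
  have h1 : (1 : k) ⊗ₜ[R] φS x = 0 := by
    have := congrArg e (show (1 : k) ⊗ₜ[A] ((1 : A) ⊗ₜ[R] φS x) = 0 from hy)
    rwa [map_zero, show e ((1 : k) ⊗ₜ[A] ((1 : A) ⊗ₜ[R] φS x)) = ((1 : A) • (1 : k)) ⊗ₜ[R] φS x from rfl, one_smul] at this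
  obtain ⟨s', hs', hmem⟩ := exists_smul_mem_pN p q w fun q' hq' hle hlies hass => by
    let t : T := ⟨⟨q', hq'⟩, hle, hlies, hass⟩
    let ηt := LocalizedModule.mkLinearMap q'.primeCompl N
    have h2 : (1 : k) ⊗ₜ[R] (φS x t) = 0 := by
      have := congrArg ((LinearMap.proj (R := R) (φ := fun t : T => LocalizedModule t.1.asIdeal.primeCompl N) t).lTensor k) h1
      simpa using this
    have h3 : φS ((s : S) • x) t = ηt w := by
      rw [show (s : S) • x = LocalizedModule.mkLinearMap q.primeCompl N w from hws]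
      exact IsLocalizedModule.lift_apply q.primeCompl (LocalizedModule.mkLinearMap q.primeCompl N) ηt
        (fun c => IsLocalizedModule.map_units ηt (⟨c, fun h' => c.2 (hle h')⟩ : q'.primeCompl)) w
    let ρ := AlgebraTensorModule.rTensor R p.ResidueField ηt
    haveI : IsLocalizedModule q'.primeCompl ρ := inferInstance
    have h4 : ρ (w ⊗ₜ[R] (1 : p.ResidueField)) = 0 := by
      show ηt w ⊗ₜ[R] (1 : k) = 0
      rw [← h3, map_smul, Pi.smul_apply, ← TensorProduct.smul_tmul',
        show φS x t ⊗ₜ[R] (1 : k) = TensorProduct.comm R k _ ((1 : k) ⊗ₜ[R] φS x t) from rfl, h2, map_zero, smul_zero]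
    obtain ⟨c, hc⟩ := (IsLocalizedModule.eq_zero_iff q'.primeCompl ρ).mp h4
    refine ⟨c, c.2, toFiberMod_eq_zero_of_tmul p _ ?_⟩
    have h5 := congrArg (TensorProduct.comm R N p.ResidueField) hc
    rwa [Submonoid.smul_def, TensorProduct.smul_tmul', map_zero, TensorProduct.comm_tmul] at h5
  have hker : ∀ v ∈ CAlgA.FibreMod.pN (S := S) N p,
      (1 : k) ⊗ₜ[A] (LocalizedModule.mkLinearMap q.primeCompl N v : Nq) = 0 := by
    intro v hv
    rw [CAlgA.FibreMod.pN, ← Submodule.restrictScalars_mem R, Submodule.restrictScalars_map_smul_eq,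
      Submodule.restrictScalars_top] at hv
    refine Submodule.smul_induction_on hv (fun a ha v _ => ?_) fun v v' h' h'' => by
      rw [map_add, TensorProduct.tmul_add, h', h'', add_zero]
    rw [LinearMap.map_smul_of_tower, ← IsScalarTower.algebraMap_smul A a, ← TensorProduct.smul_tmul,
      show (algebraMap R A a) • (1 : k) = 0 by
        rw [Algebra.smul_def, mul_one]
        exact (IsLocalRing.residue_eq_zero_iff _).mpr ((IsLocalization.AtPrime.to_map_mem_maximal_iff A p a).mpr ha),
      TensorProduct.zero_tmul]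
  have h6 : (s' * (s : S)) • x ∈ LinearMap.ker (TensorProduct.mk A k Nq 1) := by
    rw [LinearMap.mem_ker, mul_smul, show (s : S) • x = LocalizedModule.mkLinearMap q.primeCompl N w from hws, ← map_smul]
    exact hker _ hmem
  obtain ⟨v, hv⟩ := (IsLocalization.map_units B (⟨s' * (s : S), q.primeCompl.mul_mem hs' s.2⟩ : q.primeCompl)).exists_left_inv
  show (1 : k) ⊗ₜ[A] x = 0
  let L := (LinearMap.lsmul B Nq v).restrictScalars A
  have h7 := congrArg (L.lTensor k) (LinearMap.mem_ker.mp h6)
  rw [map_zero] at h7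
  refine Eq.trans ?_ h7
  show _ = (1 : k) ⊗ₜ[A] (v • (s' * (s : S)) • x)
  congr 1
  rw [← IsScalarTower.algebraMap_smul B (s' * (s : S)) x, ← mul_smul, hv, one_smul]


end Groth.Agent.S1201
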