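import Groth.Statements.S3731
import Mathlib.Algebra.Homology.DerivedCategory.TStructure
import Mathlib.CategoryTheory.Triangulated.TStructure.TruncLEGT

set_option autoImplicit false
universe u v
open CategoryTheory CategoryTheory.Limits
attribute [local instance] HasDerivedCategory.standard
open EtDl

namespace Groth.Agent.S3731

open DerivedCategory in
theorem hom_eq_zero_of_homology {A : Type u} [Category.{v} A] [Abelian A] [HasDerivedCategory A]
    {X Z : DerivedCategory A} (p : ℤ) [X.IsLE p] [Z.IsGE p] (h : X ⟶ Z)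
    (hh : (homologyFunctor A p).map h = 0) : h = 0 := by
  let t : Triangulated.TStructure (DerivedCategory A) := TStructure.t
  have : t.IsLE X p := ‹X.IsLE p›
  have : t.IsGE Z p := ‹Z.IsGE p›
  let πX := (t.truncGTπ (p - 1)).app X
  let h1 := t.descTruncGT h (p - 1) p (by omega)
  have f1 : πX ≫ h1 = h := t.π_descTruncGT h (p - 1) p (by omega)
  have : t.IsLE ((t.truncGT (p - 1)).obj X) p := inferInstance
  let ιZ := (t.truncLEι p).app Z
  let h2 := t.liftTruncLE h1 p
  have f2 : h2 ≫ ιZ = h1 := t.liftTruncLE_ι h1 p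
  have hX := t.triangleLEGT_distinguished (p - 1) X
  have : Epi ((homologyFunctor A p).map πX) :=
    (HomologySequence.epi_homologyMap_mor₂_iff _ hX p (p + 1)).mpr
      (IsZero.eq_of_tgt (isZero_of_isLE ((t.truncLE (p - 1)).obj X) (p - 1) (p + 1) (by omega)) _ _)
  have hZ := t.triangleLEGT_distinguished p Z
  have : Mono ((homologyFunctor A p).map ιZ) :=
    (HomologySequence.mono_homologyMap_mor₁_iff _ hZ (p - 1) p).mpr
      (IsZero.eq_of_src (isZero_of_isGE ((t.truncGT p).obj Z) (p + 1) (p - 1) (by omega)) _ _)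
  have e2 : (homologyFunctor A p).map h2 = 0 := by
    rw [← cancel_mono ((homologyFunctor A p).map ιZ),
      ← cancel_epi ((homologyFunctor A p).map πX), ← Functor.map_comp, f2, ← Functor.map_comp, f1,
      hh, zero_comp, comp_zero]
  have : ((t.truncGT (p - 1)).obj X).IsGE p := (inferInstance : t.IsGE _ p)
  have : ((t.truncGT (p - 1)).obj X).IsLE p := ‹t.IsLE ((t.truncGT (p - 1)).obj X) p›
  have : ((t.truncLE p).obj Z).IsGE p := (inferInstance : t.IsGE _ p)
  have : ((t.truncLE p).obj Z).IsLE p := (inferInstance : t.IsLE _ p)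
  obtain ⟨S, ⟨eS⟩⟩ := exists_iso_singleFunctor_obj_of_isGE_of_isLE ((t.truncGT (p - 1)).obj X) p
  obtain ⟨T, ⟨eT⟩⟩ := exists_iso_singleFunctor_obj_of_isGE_of_isLE ((t.truncLE p).obj Z) p
  obtain ⟨a, ha⟩ := (singleFunctor A p).map_surjective (eS.inv ≫ h2 ≫ eT.hom)
  have ha0 : a = 0 := by
    have hn := (singleFunctorCompHomologyFunctorIso A p).hom.naturality a
    rw [Functor.comp_map, ha, Functor.map_comp, Functor.map_comp, e2, zero_comp, comp_zero, zero_comp,
      Functor.id_map] at hn
    exact (cancel_epi _).mp (hn.symm.trans comp_zero.symm)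
  have h20 : h2 = 0 := by
    rw [ha0, Functor.map_zero] at ha
    rw [← cancel_epi eS.inv, ← cancel_mono eT.hom, Category.assoc, ← ha, comp_zero, zero_comp]
  rw [← f1, ← f2, h20, zero_comp, comp_zero]

/-- Let A be an abelian category, k ≥ 0, and K_0 -> K_1 -> ... -> K_{2k} a chain of 2k morphisms in the
derived category of A such that every K_i has H^p(K_i) = 0 for p outside [0, k] and every morphism
K_i -> K_{i+1} induces the zero map on H^p for all p < k. Let π : K_0 -> H^k(K_0)[-k] be the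
morphism to the top cohomology object placed in degree k that induces the identity on H^k. Then the
composite K_0 -> K_{2k} factors through π. -/
theorem result {A : Type u} [Category.{v} A] [Abelian A] (k : ℕ)
    (K : ComposableArrows (DerivedCategory A) (2 * k))
    (hK : ∀ (i : ℕ) (hi : i ≤ 2 * k) (p : ℤ), p < 0 ∨ (k : ℤ) < p →
      IsZero ((DerivedCategory.homologyFunctor A p).obj (K.obj' i)))
    (hf : ∀ (i : ℕ) (hi : i < 2 * k) (p : ℤ), p < (k : ℤ) →
      (DerivedCategory.homologyFunctor A p).map (K.map' i (i + 1)) = 0)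
    (π : K.obj' 0 ⟶ (DerivedCategory.singleFunctor A (k : ℤ)).obj
      ((DerivedCategory.homologyFunctor A (k : ℤ)).obj (K.obj' 0)))
    (hπ : (DerivedCategory.homologyFunctor A (k : ℤ)).map π ≫
      (DerivedCategory.singleFunctorCompHomologyFunctorIso A (k : ℤ)).hom.app
        ((DerivedCategory.homologyFunctor A (k : ℤ)).obj (K.obj' 0)) = 𝟙 _) :
    ∃ φ : (DerivedCategory.singleFunctor A (k : ℤ)).obj
        ((DerivedCategory.homologyFunctor A (k : ℤ)).obj (K.obj' 0)) ⟶ K.obj' (2 * k),
      K.map' 0 (2 * k) = π ≫ φ := by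
  let t : Triangulated.TStructure (DerivedCategory A) := DerivedCategory.TStructure.t
  have hLE : (K.obj' 0).IsLE (k : ℤ) :=
    (DerivedCategory.isLE_iff _ _).mpr fun p hp => hK 0 (by omega) p (Or.inr hp)
  have : t.IsLE (K.obj' 0) (k : ℤ) := hLE
  let ι := (t.truncLEι ((k : ℤ) - 1)).app (K.obj' 0)
  have key : ∀ (j : ℕ) (hj : j ≤ k), ∃ (X : DerivedCategory A) (_ : X.IsLE ((k : ℤ) - 1 - j))
      (a : (t.truncLE ((k : ℤ) - 1)).obj (K.obj' 0) ⟶ X) (g : X ⟶ K.obj' j),
      a ≫ g = ι ≫ K.map' 0 j := by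
    intro j hj
    induction j with
    | zero =>
      refine ⟨(t.truncLE ((k : ℤ) - 1)).obj (K.obj' 0), ?_, 𝟙 _, ι, ?_⟩
      · simp only [Nat.cast_zero, sub_zero]
        exact (inferInstance : t.IsLE ((t.truncLE ((k : ℤ) - 1)).obj (K.obj' 0)) ((k : ℤ) - 1))
      · rw [Category.id_comp, K.map'_self 0 (by omega)]; exact (Category.comp_id _).symm
    | succ j ih =>
      obtain ⟨X, hX, a, g, hg⟩ := ih (by omega)
      let p : ℤ := (k : ℤ) - 1 - j
      have : X.IsLE p := hX
      let K' := K.obj' (j + 1)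
      have : ((t.truncGT (p - 1)).obj K').IsGE p := (inferInstance : t.IsGE _ p)
      have hz : g ≫ K.map' j (j + 1) ≫ (t.truncGTπ (p - 1)).app K' = 0 := by
        refine hom_eq_zero_of_homology p _ ?_
        rw [Functor.map_comp, Functor.map_comp, hf j (by omega) p (by omega), zero_comp, comp_zero]
      obtain ⟨g', hg'⟩ := Pretriangulated.Triangle.coyoneda_exact₂ _ (t.triangleLEGT_distinguished (p - 1) K')
        (g ≫ K.map' j (j + 1)) (by rw [Category.assoc]; exact hz)
      refine ⟨(t.truncLE (p - 1)).obj K', ?_, a ≫ g', (t.truncLEι (p - 1)).app K', ?_⟩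
      · have e : (k : ℤ) - 1 - (j + 1 : ℕ) = p - 1 := by simp only [p]; omega
        rw [e]; exact (inferInstance : t.IsLE ((t.truncLE (p - 1)).obj K') (p - 1))
      · rw [Category.assoc]
        erw [← hg']
        show a ≫ g ≫ K.map' j (j + 1) = _
        rw [← Category.assoc, hg, Category.assoc, ← K.map'_comp 0 j (j + 1)]
  obtain ⟨X, hX, a, g, hg⟩ := key k le_rfl
  have hg0 : g = 0 := by
    have : t.IsLE X ((k : ℤ) - 1 - k) := hX
    have : t.IsGE (K.obj' k) 0 :=
      (DerivedCategory.isGE_iff _ _).mpr fun p hp => hK k (by omega) p (Or.inl hp)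
    exact t.zero g ((k : ℤ) - 1 - k) 0 (by omega)
  have hvan : ι ≫ K.map' 0 (2 * k) = 0 := by
    rw [K.map'_comp 0 k (2 * k), ← Category.assoc, ← hg, hg0, comp_zero, zero_comp]
  obtain ⟨χ, hχ⟩ := Pretriangulated.Triangle.yoneda_exact₂ _ (t.triangleLEGT_distinguished ((k : ℤ) - 1) (K.obj' 0))
    (K.map' 0 (2 * k)) hvan
  let H := (DerivedCategory.homologyFunctor A (k : ℤ)).obj (K.obj' 0)
  let S := (DerivedCategory.singleFunctor A (k : ℤ)).obj H
  have : t.IsGE S (k : ℤ) := (inferInstance : S.IsGE (k : ℤ))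
  let d := t.descTruncGT π ((k : ℤ) - 1) (k : ℤ) (by omega)
  have hd : (t.truncGTπ ((k : ℤ) - 1)).app (K.obj' 0) ≫ d = π := t.π_descTruncGT π ((k : ℤ) - 1) (k : ℤ) (by omega)
  let Q := (t.truncGT ((k : ℤ) - 1)).obj (K.obj' 0)
  have : Q.IsGE (k : ℤ) := (inferInstance : t.IsGE _ (k : ℤ))
  have : Q.IsLE (k : ℤ) := (inferInstance : t.IsLE _ (k : ℤ))
  have : IsIso d := by
    rw [DerivedCategory.isIso_iff]
    intro n
    rcases lt_trichotomy n (k : ℤ) with hn | rfl | hn
    · exact (DerivedCategory.isZero_of_isGE Q (k : ℤ) n hn).isIso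
        (DerivedCategory.isZero_of_isGE S (k : ℤ) n hn) _
    · have h1 : IsIso ((DerivedCategory.homologyFunctor A (k : ℤ)).map π) :=
        haveI := (inferInstance : IsIso (𝟙 H))
        haveI : IsIso ((DerivedCategory.homologyFunctor A (k : ℤ)).map π ≫ (DerivedCategory.singleFunctorCompHomologyFunctorIso A (k : ℤ)).hom.app H) := hπ ▸ this
        IsIso.of_isIso_comp_right _ ((DerivedCategory.singleFunctorCompHomologyFunctorIso A (k : ℤ)).hom.app H)
      rw [← hd, Functor.map_comp] at h1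
      have hT := t.triangleLEGT_distinguished ((k : ℤ) - 1) (K.obj' 0)
      let φ := (t.truncGTπ ((k : ℤ) - 1)).app (K.obj' 0)
      have : Epi ((DerivedCategory.homologyFunctor A (k : ℤ)).map φ) :=
        (DerivedCategory.HomologySequence.epi_homologyMap_mor₂_iff _ hT (k : ℤ) ((k : ℤ) + 1)).mpr
          (IsZero.eq_of_tgt (DerivedCategory.isZero_of_isLE
            ((t.truncLE ((k : ℤ) - 1)).obj (K.obj' 0)) ((k : ℤ) - 1) ((k : ℤ) + 1) (by omega)) _ _)
      have : Mono ((DerivedCategory.homologyFunctor A (k : ℤ)).map φ) :=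
        mono_of_mono _ ((DerivedCategory.homologyFunctor A (k : ℤ)).map d)
      have := isIso_of_mono_of_epi ((DerivedCategory.homologyFunctor A (k : ℤ)).map φ)
      exact IsIso.of_isIso_comp_left ((DerivedCategory.homologyFunctor A (k : ℤ)).map φ) _
    · exact (DerivedCategory.isZero_of_isLE Q (k : ℤ) n hn).isIso
        (DerivedCategory.isZero_of_isLE S (k : ℤ) n hn) _
  refine ⟨inv d ≫ χ, ?_⟩
  rw [hχ, ← hd, Category.assoc, IsIso.hom_inv_id_assoc]
  rfl

end Groth.Agent.S3731
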