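import Groth.Statements.S9159
import Groth.Agent.RelDim.CMFibre
import Groth.Agent.RegLoc.Miracle
import Groth.Agent.S2604
import Mathlib.RingTheory.RegularLocalRing.Polynomial

set_option autoImplicit false
set_option linter.style.haveILetI false
universe u
open CAlg

namespace Groth.Agent.S9159

section Aux

open TensorProduct

/-- For a flat local homomorphism: dimensions add. -/
lemma ringKrullDim_eq_add {A B : Type u} [CommRing A] [CommRing B] [IsLocalRing A] [IsLocalRing B]
    [IsNoetherianRing A] [IsNoetherianRing B] [Algebra A B] [IsLocalHom (algebraMap A B)] [Module.Flat A B] :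
    ringKrullDim B = ringKrullDim A +
      ringKrullDim (B ⧸ (IsLocalRing.maximalIdeal A).map (algebraMap A B)) := by
  haveI : (IsLocalRing.maximalIdeal B).LiesOver (IsLocalRing.maximalIdeal A) :=
    ⟨(((IsLocalRing.local_hom_TFAE (algebraMap A B)).out 0 4 rfl rfl).1 inferInstance).symm⟩
  have hle : (IsLocalRing.maximalIdeal A).map (algebraMap A B) ≤ IsLocalRing.maximalIdeal B :=
    Ideal.map_le_iff_le_comap.2 ((IsLocalRing.maximalIdeal B).over_def (IsLocalRing.maximalIdeal A)).le
  haveI : Nontrivial (B ⧸ (IsLocalRing.maximalIdeal A).map (algebraMap A B)) :=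
    Ideal.Quotient.nontrivial_iff.2 fun h =>
      (IsLocalRing.maximalIdeal.isMaximal B).ne_top (top_le_iff.1 (h ▸ hle))
  haveI : IsLocalRing (B ⧸ (IsLocalRing.maximalIdeal A).map (algebraMap A B)) :=
    IsLocalRing.of_surjective' (Ideal.Quotient.mk _) Ideal.Quotient.mk_surjective
  have h := Ideal.height_eq_height_add_of_liesOver_of_hasGoingDown (IsLocalRing.maximalIdeal A)
    (IsLocalRing.maximalIdeal B)
  rw [IsLocalRing.map_maximalIdeal_of_surjective _ Ideal.Quotient.mk_surjective] at h
  rw [← IsLocalRing.maximalIdeal_height_eq_ringKrullDim, ← IsLocalRing.maximalIdeal_height_eq_ringKrullDim,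
    ← IsLocalRing.maximalIdeal_height_eq_ringKrullDim, h]
  rfl

/-- A Noetherian local ring of dimension zero is Cohen–Macaulay. -/
lemma isCohenMacaulayModule_of_dim_zero {L : Type u} [CommRing L] [IsLocalRing L] [IsNoetherianRing L]
    (h : ringKrullDim L = 0) : LocCoh.IsCohenMacaulayModule L L := by
  have h1 : Module.supportDim L L = 0 := (Module.supportDim_self_eq_ringKrullDim (R := L)).trans h
  show Module.supportDim L L = _
  refine le_antisymm (h1.le.trans ?_) Depth.depth_le_supportDim
  exact WithBot.coe_le_coe.2 bot_le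

/-- A flat local algebra with zero-dimensional closed fibre over a Cohen–Macaulay ring is
Cohen–Macaulay. -/
lemma isCohenMacaulayLocalRing_of_flat {A B : Type u} [CommRing A] [CommRing B]
    [LocCoh.IsCohenMacaulayLocalRing A] [IsLocalRing B] [IsNoetherianRing B] [Algebra A B]
    [IsLocalHom (algebraMap A B)] [Module.Flat A B]
    (h0 : ringKrullDim (B ⧸ (IsLocalRing.maximalIdeal A).map (algebraMap A B)) = 0) :
    LocCoh.IsCohenMacaulayLocalRing B := by
  have hcm := (S2604.result A B A B).2 ⟨Depth.isCohenMacaulayModule_self A, ?_⟩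
  · exact Depth.isCohenMacaulayLocalRing_iff.2
      ((Depth.isCohenMacaulayModule_congr (AlgebraTensorModule.rid A B B)).1 hcm)
  · let e0 : EGA4.FibRing A B ≃ₗ[B] EGA4.FibMod A B B :=
      Submodule.quotEquivOfEq _ _ (by rw [Ideal.smul_eq_mul, Ideal.mul_top])
    let e : EGA4.FibRing A B ≃ₗ[EGA4.FibRing A B] EGA4.FibMod A B B :=
      { e0 with
        map_smul' := fun c x => by
          obtain ⟨b, rfl⟩ := Ideal.Quotient.mk_surjective c
          exact e0.map_smul b x }
    exact (Depth.isCohenMacaulayModule_congr e).1 (isCohenMacaulayModule_of_dim_zero h0)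

lemma cancel_nat (a b : WithBot ℕ∞) (r : ℕ) (h : a + r = b + r) : a = b := by
  induction r with
  | zero => simpa using h
  | succ r ih =>
    apply ih
    apply Depth.withBot_add_one_right_cancel
    rw [add_assoc, add_assoc]
    simpa using h

end Aux

/-- Fix a field k, a k-algebra S of finite type, and a quasi-finite map of k-algebras k[y_1, …, y_d] →
S. A prime q of S has S_q flat over k[y_1, …, y_d] exactly when S_q is Cohen–Macaulay and Spec S has
local dimension d at q. -/
theorem result (k S : Type u) [Field k] [CommRing S]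
    [Algebra k S] [Algebra.FiniteType k S] (d : ℕ) [Algebra (MvPolynomial (Fin d) k) S]
    [IsScalarTower k (MvPolynomial (Fin d) k) S] [Algebra.QuasiFinite (MvPolynomial (Fin d) k) S]
    (q : Ideal S) [q.IsPrime] :
    Module.Flat (MvPolynomial (Fin d) k) (Localization.AtPrime q) ↔
      (LocCoh.IsCohenMacaulayLocalRing (Localization.AtPrime q) ∧
        FlatMor.localDim (PrimeSpectrum S) ⟨q, inferInstance⟩ = (d : WithBot ℕ∞)) := by
  let A := MvPolynomial (Fin d) k
  let P : Ideal A := q.under A
  let B := Localization.AtPrime q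
  haveI : IsNoetherianRing S := Algebra.FiniteType.isNoetherianRing k S
  haveI : IsRegularLocalRing (Localization.AtPrime P) :=
    IsRegularRing.isRegularLocalRing_localization P
  haveI : LocCoh.IsCohenMacaulayLocalRing (Localization.AtPrime P) :=
    Depth.isCohenMacaulayLocalRing_of_isRegularLocalRing
  letI := Localization.AtPrime.algebraOfLiesOver P q
  haveI : IsLocalHom (algebraMap (Localization.AtPrime P) B) := inferInstance
  -- the closed fibre has dimension zero
  have h0 : ringKrullDim (B ⧸ (IsLocalRing.maximalIdeal (Localization.AtPrime P)).map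
      (algebraMap (Localization.AtPrime P) B)) = 0 := by
    have hle : (IsLocalRing.maximalIdeal (Localization.AtPrime P)).map
        (algebraMap (Localization.AtPrime P) B) ≤ IsLocalRing.maximalIdeal B :=
      IsLocalRing.map_maximalIdeal_le _
    haveI : Nontrivial (B ⧸ (IsLocalRing.maximalIdeal (Localization.AtPrime P)).map
        (algebraMap (Localization.AtPrime P) B)) :=
      Ideal.Quotient.nontrivial_iff.2 fun h =>
        (IsLocalRing.maximalIdeal.isMaximal B).ne_top (top_le_iff.1 (h ▸ hle))
    refine (ringKrullDimZero_iff_ringKrullDim_eq_zero).1 (Ring.krullDimLE_zero_iff.2 fun I hI => ?_)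
    have h1 : I.comap (Ideal.Quotient.mk _) = IsLocalRing.maximalIdeal B := by
      haveI : Algebra.QuasiFinite A B := inferInstance
      haveI := hI.comap (Ideal.Quotient.mk ((IsLocalRing.maximalIdeal (Localization.AtPrime P)).map
        (algebraMap (Localization.AtPrime P) B)))
      refine Algebra.QuasiFinite.eq_of_le_of_under_eq (R := A) _ _
        (IsLocalRing.le_maximalIdeal Ideal.IsPrime.ne_top') ?_
      refine le_antisymm (Ideal.comap_mono (IsLocalRing.le_maximalIdeal Ideal.IsPrime.ne_top'))
        fun a ha => ?_
      have haP : algebraMap A (Localization.AtPrime P) a ∈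
          IsLocalRing.maximalIdeal (Localization.AtPrime P) := by
        rw [IsLocalization.AtPrime.to_map_mem_maximal_iff _ P]
        show algebraMap A S a ∈ q
        rw [← IsLocalization.AtPrime.to_map_mem_maximal_iff B q,
          ← IsScalarTower.algebraMap_apply A S B]
        exact ha
      show algebraMap A B a ∈ I.comap _
      rw [IsScalarTower.algebraMap_apply A (Localization.AtPrime P) B, Ideal.mem_comap,
        Ideal.Quotient.eq_zero_iff_mem.2 (Ideal.mem_map_of_mem _ haP)]
      exact I.zero_mem
    rw [← Ideal.map_comap_of_surjective _ Ideal.Quotient.mk_surjective I, h1]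
    refine (Ideal.map_eq_top_or_isMaximal_of_surjective _ Ideal.Quotient.mk_surjective
      (IsLocalRing.maximalIdeal.isMaximal B)).resolve_left fun h => hI.ne_top ?_
    rw [← Ideal.map_comap_of_surjective _ Ideal.Quotient.mk_surjective I, h1, h]
  -- the local dimension
  obtain ⟨r, -, hr, -⟩ := VarDim.exists_ringKrullDim_eq_trdeg k (A ⧸ P)
  have hrP : ringKrullDim (A ⧸ P) = (r : WithBot ℕ∞) := VarDim.ringKrullDim_eq_of_trdeg_eq k (A ⧸ P) hr
  haveI : Algebra.IsAlgebraic (A ⧸ P) P.ResidueField :=
    IsLocalization.isAlgebraic P.ResidueField (nonZeroDivisors (A ⧸ P))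
  haveI : Module.Finite P.ResidueField q.ResidueField := inferInstance
  have hq : Algebra.trdeg k q.ResidueField = r := by
    rw [← trdeg_add_eq k P.ResidueField (A := q.ResidueField),
      trdeg_eq_zero (R := P.ResidueField) (A := q.ResidueField), add_zero,
      ← trdeg_add_eq k (A ⧸ P) (A := P.ResidueField),
      trdeg_eq_zero (R := A ⧸ P) (A := P.ResidueField), add_zero, hr]
  have hd : ringKrullDim (Localization.AtPrime P) + (r : WithBot ℕ∞) = (d : WithBot ℕ∞) := by
    rw [IsLocalization.AtPrime.ringKrullDim_eq_height P (Localization.AtPrime P), add_comm,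
      ← hrP, VarDim.ringKrullDim_quotient_add_height k A P]
    show ringKrullDim (MvPolynomial (Fin d) k) = _
    rw [MvPolynomial.ringKrullDim_of_isNoetherianRing, ringKrullDim_eq_zero_of_field]
    simp
  have hloc := CAlgLib.LocalDimSpec.localDim_eq_add_trdeg k q r hq
  constructor
  · intro hflat
    haveI : Module.Flat (Localization.AtPrime P) B :=
      (Module.flat_iff_of_isLocalization (Localization.AtPrime P) P.primeCompl B).2 hflat
    refine ⟨isCohenMacaulayLocalRing_of_flat h0, ?_⟩
    rw [hloc, ringKrullDim_eq_add (A := Localization.AtPrime P) (B := B), h0, add_zero, hd]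
  · rintro ⟨hcm, hdim⟩
    haveI := hcm
    have hB : ringKrullDim B = ringKrullDim (Localization.AtPrime P) :=
      cancel_nat _ _ r ((hloc.symm.trans hdim).trans hd.symm)
    haveI : Module.Flat (Localization.AtPrime P) B :=
      RegLoc.Miracle.flat_of_ringKrullDim_eq_add (by rw [h0, add_zero, hB])
    exact (Module.flat_iff_of_isLocalization (Localization.AtPrime P) P.primeCompl B).1
      inferInstance

end Groth.Agent.S9159
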