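import Groth.Statements.S1173
import Groth.Agent.RelDiv.Split


set_option autoImplicit false
open CategoryTheory CategoryTheory.Limits AlgebraicGeometry
universe u
open HilbD

namespace Groth.Agent.S1173

open Groth.Agent.RelDiv

/-- With X ⟶ S assumed separated, so that graphs of sections are closed subschemes: Let f : X ⟶ S be
smooth of relative dimension 1 and separated, and let (H, Z) and (H', Z') represent the Hilbert
functors of points of X over S in degrees d and d + 1. Let T = H ×_S X with its point x : T ⟶ X.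
Then the S-morphism T ⟶ H' classifying the closed subscheme Z_T + (graph of x) of X ×_S T is finite
locally free of degree d + 1. -/
theorem result {X S : Scheme.{u}} (f : X ⟶ S) [SmoothOfRelativeDimension 1 f] [IsSeparated f]
    (d : ℕ) (H : Over S) (Z : HilbD.Obj f d H) (hZ : HilbD.IsUniversal f d H Z)
    (H' : Over S) (Z' : HilbD.Obj f (d + 1) H') (hZ' : HilbD.IsUniversal f (d + 1) H' Z')
    (m : Over.mk (pullback.fst H.hom f ≫ H.hom) ⟶ H')
    (hm : HilbD.pull f m Z'.1 =
      HilbD.pull f (Over.homMk (pullback.fst H.hom f) rfl : Over.mk (pullback.fst H.hom f ≫ H.hom) ⟶ H) Z.1 *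
        HilbD.secGraph f (Over.mk (pullback.fst H.hom f ≫ H.hom)) (pullback.snd H.hom f) pullback.condition.symm) :
    Mor2.IsFinLocFreeOfDeg (d + 1) m.left := by
  let T : Over S := Over.mk (pullback.fst H.hom f ≫ H.hom)
  let pr : T ⟶ H := Over.homMk (pullback.fst H.hom f) rfl
  let xT : T.left ⟶ X := pullback.snd H.hom f
  have hxT : xT ≫ f = T.hom := pullback.condition.symm
  haveI := Groth.Agent.HilbD.isClosedImmersion_graph f T xT hxT
  have hin : Z'.1.comap (Groth.Agent.HilbD.graph f T xT hxT ≫ PicF.XTmap f m) = ⊥ := by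
    rw [Scheme.IdealSheafData.comap_comp, ← Groth.Agent.HilbD.pull_eq_comap, ← le_bot_iff,
      ← Scheme.IdealSheafData.le_map_iff_comap_le, Scheme.IdealSheafData.map_bot, hm]
    exact mul_le_snd _ _
  have hker : Z'.1.subschemeι.ker ≤ (Groth.Agent.HilbD.graph f T xT hxT ≫ PicF.XTmap f m).ker := by
    rw [Scheme.IdealSheafData.ker_subschemeι, ← Scheme.IdealSheafData.map_bot,
      Scheme.IdealSheafData.le_map_iff_comap_le, hin]
  let φ₀ : T.left ⟶ Z'.1.subscheme :=
    IsClosedImmersion.lift Z'.1.subschemeι (Groth.Agent.HilbD.graph f T xT hxT ≫ PicF.XTmap f m) hker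
  have hφ : φ₀ ≫ Z'.1.subschemeι = Groth.Agent.HilbD.graph f T xT hxT ≫ PicF.XTmap f m :=
    IsClosedImmersion.lift_fac _ _ _
  have hφ1 : φ₀ ≫ (Z'.1.subschemeι ≫ PicF.XTproj f H') = m.left := by
    rw [← Category.assoc, hφ, Category.assoc, Groth.Agent.HilbD.XTmap_proj, ← Category.assoc,
      Groth.Agent.HilbD.graph_proj, Category.id_comp]
  have hφ2 : φ₀ ≫ tautPt f Z' = xT := by
    show φ₀ ≫ Z'.1.subschemeι ≫ pullback.fst f H'.hom = xT
    rw [← Category.assoc, hφ, Category.assoc, Groth.Agent.HilbD.XTmap_fst, pullback.lift_fst]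
  let φ : T ⟶ taut f Z' := Over.homMk φ₀ (by
    show φ₀ ≫ (Z'.1.subschemeι ≫ PicF.XTproj f H') ≫ H'.hom = T.hom
    rw [← Category.assoc, hφ1, Over.w m])
  have hφm : φ ≫ tautHom f Z' = m := by ext1; exact hφ1
  obtain ⟨K, hK⟩ := exists_peel f Z'
  obtain ⟨g, hg, -⟩ := hZ (taut f Z') K
  let ψ : taut f Z' ⟶ T := Over.homMk (pullback.lift g.left (tautPt f Z')
      (show g.left ≫ H.hom = tautPt f Z' ≫ f by rw [tautPt_comp, Over.w g]))
    (show _ ≫ pullback.fst H.hom f ≫ H.hom = _ by rw [pullback.lift_fst_assoc, Over.w g])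
  have hψ1 : ψ ≫ pr = g := by ext1; exact pullback.lift_fst _ _ _
  have hψ2 : ψ.left ≫ xT = tautPt f Z' := pullback.lift_snd _ _ _
  have hψm : ψ ≫ m = tautHom f Z' := by
    obtain ⟨g', -, hu⟩ := hZ' (taut f Z')
      ⟨_, Groth.Agent.HilbD.isFinLocFreeOfDeg_pull f (d + 1) (tautHom f Z') Z'.2⟩
    refine (hu _ ?_).trans (hu _ rfl).symm
    show pull f (ψ ≫ m) Z'.1 = pull f (tautHom f Z') Z'.1
    rw [Groth.Agent.HilbD.pull_comp, hm, Groth.Agent.HilbD.pull_eq_comap f ψ, Groth.Agent.IdealSh.Comap.comap_mul,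
      ← Groth.Agent.HilbD.pull_eq_comap, ← Groth.Agent.HilbD.pull_eq_comap, Groth.Agent.HilbD.pull_secGraph,
      ← Groth.Agent.HilbD.pull_comp, hK, mul_comm]
    congr 1
    · congr 1
    · exact (congrArg (fun h => pull f h Z.1) hψ1).trans hg
  have h1 : φ₀ ≫ ψ.left = 𝟙 _ := by
    have hgc : pull f (φ ≫ g) Z.1 = pull f pr Z.1 := by
      have e : pull f φ (pull f (tautHom f Z') Z'.1) =
          pull f φ (secGraph f (taut f Z') (tautPt f Z') (tautPt_comp f Z') * K.1) := congrArg _ hK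
      rw [← Groth.Agent.HilbD.pull_comp, hφm, hm, Groth.Agent.HilbD.pull_eq_comap f φ (_ * K.1),
        Groth.Agent.IdealSh.Comap.comap_mul, ← Groth.Agent.HilbD.pull_eq_comap,
        ← Groth.Agent.HilbD.pull_eq_comap, Groth.Agent.HilbD.pull_secGraph, mul_comm] at e
      rw [Groth.Agent.HilbD.pull_comp, hg]
      refine mul_left_cancel (cartier_of_div (Groth.Agent.HilbD.isFinLocFreeOfDeg_secGraph f T xT hxT).1)
        (Eq.trans ?_ e.symm)
      congr 1
      congr 1
      exact hφ2.symm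
    obtain ⟨g', -, hu⟩ := hZ T ⟨_, Groth.Agent.HilbD.isFinLocFreeOfDeg_pull f d pr Z.2⟩
    have e : φ ≫ g = pr := (hu _ hgc).trans (hu _ rfl).symm
    apply pullback.hom_ext
    · rw [Category.assoc, Category.id_comp, show ψ.left ≫ pullback.fst H.hom f = g.left from pullback.lift_fst _ _ _]
      exact congrArg CommaMorphism.left e
    · rw [Category.assoc, Category.id_comp]
      exact (congrArg (φ₀ ≫ ·) hψ2).trans hφ2
  have h2 : ψ.left ≫ φ₀ = 𝟙 _ := by
    rw [← cancel_mono Z'.1.subschemeι, Category.assoc, hφ, Category.id_comp, ← graph_tautPt f Z', ← hψm]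
    apply pullback.hom_ext
    · simp only [Category.assoc, Groth.Agent.HilbD.XTmap_fst, pullback.lift_fst]
      exact hψ2
    · show (ψ.left ≫ Groth.Agent.HilbD.graph f T xT hxT ≫ PicF.XTmap f m) ≫ PicF.XTproj f H' =
        (Groth.Agent.HilbD.graph f (taut f Z') (tautPt f Z') _ ≫ PicF.XTmap f (ψ ≫ m)) ≫ PicF.XTproj f H'
      simp only [Category.assoc, Groth.Agent.HilbD.XTmap_proj]
      rw [← Category.assoc (Groth.Agent.HilbD.graph f T xT hxT), Groth.Agent.HilbD.graph_proj,
        ← Category.assoc (Groth.Agent.HilbD.graph f (taut f Z') _ _), Groth.Agent.HilbD.graph_proj]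
      simp
  haveI : IsIso φ₀ := ⟨ψ.left, h1, h2⟩
  obtain ⟨⟨e1, e2, e3⟩, e4⟩ := Z'.2
  haveI := e1; haveI := e2; haveI := e3
  rw [← hφ1]
  exact ⟨⟨inferInstance, inferInstance, inferInstance⟩, fun y => by
    rw [Scheme.Hom.finrank_comp_left_of_isIso, e4]⟩

end Groth.Agent.S1173
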