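import Groth.Statements.S1169
import Groth.Agent.S1173
import Groth.Agent.RelDiv.SmoothDesc


set_option autoImplicit false
open CategoryTheory CategoryTheory.Limits AlgebraicGeometry
universe u
open HilbD

namespace Groth.Agent.S1169

/-- Let f : X ⟶ S be smooth of relative dimension 1 and separated, and assume the Hilbert functor of
points of X over S is representable in every degree. Then for every d, any scheme H over S carrying
a universal family for the degree-d Hilbert functor of points is smooth over S. (The published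
statement also asserts that H has relative dimension d over S; only smoothness is asserted here.) -/
theorem result {X S : Scheme.{u}} (f : X ⟶ S) [SmoothOfRelativeDimension 1 f] [IsSeparated f]
    (hrep : ∀ e : ℕ, HilbD.Representable f e) (d : ℕ) (H : Over S) (Z : HilbD.Obj f d H)
    (hZ : HilbD.IsUniversal f d H Z) : Smooth H.hom := by
  induction d generalizing H with
  | zero =>
    have huniq : ∀ (T : Over S) (I J : HilbD.Obj f 0 T), I = J := fun T I J => Subtype.ext
      ((Groth.Agent.RelDiv.eq_top_of_finrank_zero I.2.1 I.2.2).trans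
        (Groth.Agent.RelDiv.eq_top_of_finrank_zero J.2.1 J.2.2).symm)
    let T₀ : Over S := Over.mk (𝟙 S)
    have htop : Mor2.IsFinLocFreeOfDeg 0 ((⊤ : (PicF.XT f T₀).IdealSheafData).subschemeι ≫ PicF.XTproj f T₀) := by
      haveI : IsEmpty (⊤ : (PicF.XT f T₀).IdealSheafData).subscheme := by
        rw [← (⊤ : (PicF.XT f T₀).IdealSheafData).subschemeι.ker_eq_top_iff_isEmpty,
          Scheme.IdealSheafData.ker_subschemeι]
      haveI : IsFinite ((⊤ : (PicF.XT f T₀).IdealSheafData).subschemeι ≫ PicF.XTproj f T₀) := inferInstance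
      refine ⟨⟨inferInstance, inferInstance, inferInstance⟩, fun y => ?_⟩
      obtain ⟨U, hyU, -⟩ := Groth.Agent.IdealSh.Comap.exists_affine_le y ⊤ trivial
      obtain ⟨p, rfl⟩ : ∃ p, U.2.fromSpec p = y := ⟨U.2.primeIdealOf ⟨y, hyU⟩, U.2.fromSpec_primeIdealOf _⟩
      rw [Groth.Agent.RelDiv.finrank_fromSpec_eq _ U.2 p]
      have : Subsingleton Γ((⊤ : (PicF.XT f T₀).IdealSheafData).subscheme,
          ((⊤ : (PicF.XT f T₀).IdealSheafData).subschemeι ≫ PicF.XTproj f T₀) ⁻¹ᵁ U.1) := by
        rw [show ((⊤ : (PicF.XT f T₀).IdealSheafData).subschemeι ≫ PicF.XTproj f T₀) ⁻¹ᵁ U.1 = ⊥ from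
          TopologicalSpace.Opens.ext (Set.eq_empty_of_isEmpty _)]
        exact CommRingCat.subsingleton_of_isTerminal
          (TopCat.Sheaf.isTerminalOfEmpty (⊤ : (PicF.XT f T₀).IdealSheafData).subscheme.sheaf)
      simp [Module.rankAtStalk_eq_zero_of_subsingleton]; rfl
    obtain ⟨σ, hσ, -⟩ := hZ T₀ ⟨⊤, htop⟩
    let h : H ⟶ T₀ := Over.homMk H.hom (Category.comp_id _)
    obtain ⟨_, -, hu⟩ := hZ H Z
    have h1 : h ≫ σ = 𝟙 H := (hu _ (congrArg Subtype.val
      (huniq H ⟨_, Groth.Agent.HilbD.isFinLocFreeOfDeg_pull f 0 (h ≫ σ) Z.2⟩ Z))).trans (hu _ (congrArg Subtype.val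
      (huniq H ⟨_, Groth.Agent.HilbD.isFinLocFreeOfDeg_pull f 0 (𝟙 H) Z.2⟩ Z))).symm
    haveI : IsIso H.hom := ⟨σ.left, congrArg CommaMorphism.left h1, Over.w σ⟩
    infer_instance
  | succ d ih =>
    obtain ⟨H₀, Z₀, hZ₀⟩ := hrep d
    haveI := ih H₀ Z₀ hZ₀
    let T : Over S := Over.mk (pullback.fst H₀.hom f ≫ H₀.hom)
    let pr : T ⟶ H₀ := Over.homMk (pullback.fst H₀.hom f) rfl
    let x : T.left ⟶ X := pullback.snd H₀.hom f
    have hx : x ≫ f = T.hom := pullback.condition.symm
    obtain ⟨m, hm, -⟩ := hZ T ⟨_, Groth.Agent.RelDiv.isFinLocFreeOfDeg_mul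
      (Groth.Agent.HilbD.isFinLocFreeOfDeg_pull f d pr Z₀.2)
      (Groth.Agent.HilbD.isFinLocFreeOfDeg_secGraph f T x hx)⟩
    obtain ⟨⟨h1, h2, h3⟩, h4⟩ := Groth.Agent.S1173.result f d H₀ Z₀ hZ₀ H Z hZ m hm
    haveI := h1; haveI := h2; haveI := h3
    haveI : Surjective m.left := (Scheme.Hom.one_le_finrank_iff_surjective m.left).mp fun y => by
      rw [h4]; exact Nat.le_add_left 1 d
    haveI : Smooth f := SmoothOfRelativeDimension.smooth (n := 1) f
    haveI : Smooth (pullback.fst H₀.hom f) := inferInstance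
    haveI : Smooth (m.left ≫ H.hom) := by rw [Over.w m]; exact inferInstanceAs (Smooth (_ ≫ _))
    exact Groth.Agent.RelDiv.smooth_of_fppf_comp m.left H.hom

end Groth.Agent.S1169
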