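import Groth.Statements.S1661
import Groth.Agent.RegImm38.Smooth
-- import your own Groth.Agent.* helpers here

set_option autoImplicit false
set_option linter.style.haveILetI false
universe u
open CategoryTheory CategoryTheory.Limits AlgebraicGeometry
open Divisors

namespace Groth.Agent.S1661

/-- If i : Z → Y and j : Y → X are regular closed immersions then so is their composite Z → X. This is
the closed-immersion case of the published statement. -/
theorem result {Z Y X : Scheme.{u}} (i : Z ⟶ Y) (j : Y ⟶ X)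
    (hi : Mor2.IsRegularClosedImmersion i) (hj : Mor2.IsRegularClosedImmersion j) : Mor2.IsRegularClosedImmersion (i ≫ j) := by
  have hres : ∀ {W Y : Scheme.{u}} (k : W ⟶ Y) [IsClosedImmersion k] (O : Y.Opens), IsClosedImmersion (k ∣_ O) :=
    fun k _ O => MorphismProperty.of_isPullback (isPullback_morphismRestrict k O).flip inferInstance
  obtain ⟨hci, hi⟩ := hi
  obtain ⟨hcj, hj⟩ := hj
  haveI := hci
  haveI := hcj
  refine ⟨inferInstance, fun z => ?_⟩
  obtain ⟨U, hU, hzU, ls, hls, hkj⟩ := hj (i z)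
  obtain ⟨W, hW, hzW, gs, hgs, hki⟩ := hi z
  rw [Scheme.Hom.ker_apply] at hkj hki
  haveI := hres j U
  haveI := hres i W
  obtain ⟨t, ht, htW⟩ := j.isClosedEmbedding.isInducing.isOpen_iff.1 W.2
  have hmem : j (i z) ∈ t := by
    have h : i z ∈ j ⁻¹' t := by rw [htW]; exact hzW
    exact h
  obtain ⟨s, hs, hzs⟩ := hU.exists_basicOpen_le (V := ⟨t, ht⟩) ⟨_, hmem⟩ hzU
  set U' := X.basicOpen s
  have hU' : IsAffineOpen U' := hU.basicOpen s
  haveI := hres j U'
  set V := j ⁻¹ᵁ U'
  have hVW : V ≤ W := fun y hy => by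
    change y ∈ W.carrier
    rw [← htW]
    exact hs hy
  have hV : IsAffineOpen V := Groth.Agent.RegImm44.isAffineOpen_preimage j hU'
  haveI := hres i V
  let ρ := (X.presheaf.map (homOfLE (X.basicOpen_le s)).op).hom
  let τ := (Y.presheaf.map (homOfLE hVW).op).hom
  have flat : ∀ {T : Scheme.{u}} {A B : T.Opens} (hA : IsAffineOpen A) (hB : IsAffineOpen B) (h : B ≤ A),
      (T.presheaf.map (homOfLE h).op).hom.Flat := by
    intro T A B hA hB h
    have := (𝟙 T : T ⟶ T).flat_appLE hA hB (show B ≤ (𝟙 T : T ⟶ T) ⁻¹ᵁ A from h)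
    rwa [show (𝟙 T : T ⟶ T).appLE A B h = T.presheaf.map (homOfLE h).op from by
      simp [Scheme.Hom.appLE]; exact Category.id_comp _] at this
  have hkj' : RingHom.ker (j.app U').hom = Ideal.ofList (ls.map ρ) := by
    rw [Groth.Agent.RegImm44.ker_app_restrict j hU hU' (X.basicOpen_le s), hkj, Ideal.map_ofList]
  have hki' : RingHom.ker (i.app V).hom = Ideal.ofList (gs.map τ) := by
    rw [Groth.Agent.RegImm44.ker_app_restrict i hW hV hVW, hki, Ideal.map_ofList]
  have hsurj : Function.Surjective (j.app U').hom := Groth.Agent.RegImm44.app_surjective j hU'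
  choose lift hlift using hsurj
  letI : Algebra Γ(X, U) Γ(X, U') := ρ.toAlgebra
  letI : Algebra Γ(Y, W) Γ(Y, V) := τ.toAlgebra
  haveI : Module.Flat Γ(X, U) Γ(X, U') := flat hU hU' _
  haveI : Module.Flat Γ(Y, W) Γ(Y, V) := flat hW hV hVW
  have hmap : ((gs.map τ).map lift).map (j.app U').hom = gs.map τ := by
    rw [List.map_map]
    conv_rhs => rw [← List.map_id (gs.map τ)]
    exact List.map_congr_left fun r _ => hlift r
  have hreg := Groth.Agent.RegImm38.Smooth.isWeaklyRegular_append (j.app U').hom (fun r => ⟨_, hlift r⟩) hkj'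
    hls.toIsWeaklyRegular.of_flat (g := (gs.map τ).map lift) (by rw [hmap]; exact hgs.toIsWeaklyRegular.of_flat)
  have hk : RingHom.ker ((i ≫ j).app U').hom = Ideal.ofList (ls.map ρ ++ (gs.map τ).map lift) := by
    rw [show RingHom.ker ((i ≫ j).app U').hom = (RingHom.ker (i.app V).hom).comap (j.app U').hom from rfl, hki', ← hmap, ← Ideal.map_ofList,
      Ideal.comap_map_of_surjective _ (fun r => ⟨_, hlift r⟩), ← RingHom.ker_eq_comap_bot, hkj',
      Ideal.ofList_append]
    rw [hmap]
    exact sup_comm _ _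
  refine ⟨U', hU', hzs, _, ⟨hreg, fun htop => ?_⟩, (Scheme.Hom.ker_apply _ _).trans hk⟩
  have h1 := Groth.Agent.RegImm44.ker_le_primeIdealOf (i ≫ j) hU' z hzs
  rw [hk] at h1
  exact (hU'.primeIdealOf ⟨(i ≫ j) z, hzs⟩).isPrime.ne_top
    (top_le_iff.mp ((by simpa using htop.le : (⊤ : Ideal Γ(X, U')) ≤ Ideal.ofList _).trans h1))

end Groth.Agent.S1661
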