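import Groth.Statements.S3748
import Groth.Agent.ResK0.Functorial

set_option autoImplicit false
universe v u
open CategoryTheory CategoryTheory.Limits AlgebraicGeometry
attribute [local instance] HasDerivedCategory.standard
open KRR

namespace Groth.Agent.S3748
open AlgebraicGeometry CategoryTheory CategoryTheory.Limits Groth.Agent.ResK0

theorem push_val {Y Z : Scheme.{u}} [AlgebraicGeometry.IsNoetherian Y] [AlgebraicGeometry.IsNoetherian Z]
    (g : Y ⟶ Z) (hg : Mor2.IsRegularClosedImmersion g) (hY : KRR.HasEnoughLocFree Y) (hZ : KRR.HasEnoughLocFree Z)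
    {KY KZ : Type v} [CommRing KY] [CommRing KZ] {φY : SGA6.Kvb Y →+ KY} {φZ : SGA6.Kvb Z →+ KZ} {b : KY →+ KZ}
    (hb : KRR.IsPushCl g φY φZ b) :
    ∀ (n : ℕ) (M : Y.Modules), Coh.IsCoh M → Basic.SyzP (KRR.vbP Y) n M →
      Coh.IsCoh ((Scheme.Modules.pushforward g).obj M) ∧ ∃ m,
        Basic.SyzP (KRR.vbP Z) m ((Scheme.Modules.pushforward g).obj M) ∧
        b (φY (Basic.val (KRR.vbP Y) n M)) = φZ (Basic.val (KRR.vbP Z) m ((Scheme.Modules.pushforward g).obj M)) := by
  haveI := hg.1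
  intro n
  induction n with
  | zero =>
    intro M hM hn
    obtain ⟨hc, m, hm⟩ := RegPush.exists_syzP g hZ hg hn
    exact ⟨hc, m, hm, Functorial.isPushCl_eq_val hZ hb hn hc hm⟩
  | succ n ih =>
    intro M hM hn
    have H := PdSyz.hyp hY
    have H' := PdSyz.hyp hZ
    obtain ⟨L, p, hp, hL⟩ := H.exists_cover M hM
    obtain ⟨hcK, mK, hmK, heK⟩ := ih _ (H.kernel₁ p (H.le _ hL) hM) (hn L p hp hL)
    obtain ⟨hcL, mL, hmL⟩ := RegPush.exists_syzP g hZ hg hL
    have hc : Coh.IsCoh ((Scheme.Modules.pushforward g).obj M) := ProperFin.isCoh_push_of_isFinite g M hM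
    haveI : PreservesFiniteLimits (Scheme.Modules.pushforward g) :=
      have := (Scheme.Modules.pullbackPushforwardAdjunction g).isRightAdjoint
      inferInstance
    haveI := ChgRings.pushPreservesFiniteColimits g
    have hS := (Basic.shortExact_kernel p).map_of_exact (Scheme.Modules.pushforward g)
    have hm := Functorial.exists_syzP_X₃ hZ hS hcK hcL hc hmK hmL
    refine ⟨hc, mK + mL + 1, hm, ?_⟩
    have hadd : Basic.val (KRR.vbP Z) (mK + mL + 1) ((Scheme.Modules.pushforward g).obj L) =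
        Basic.val (KRR.vbP Z) (mK + mL + 1) ((Scheme.Modules.pushforward g).obj (kernel p)) +
          Basic.val (KRR.vbP Z) (mK + mL + 1) ((Scheme.Modules.pushforward g).obj M) :=
      H'.inv (mK + mL + 1) _ hS hcK hcL hc (H'.syzP_mono (by omega) hmK) (H'.syzP_mono (by omega) hmL) hm
    rw [H.val_succ (H.inv n) hM hn p hL, map_sub, map_sub, heK, ← H'.val_stable (m := mK + mL + 1) (by omega) hcK hmK,
      show KZero.clSub (KRR.vbP Y) L = KRR.cl Y L from rfl, Functorial.isPushCl_eq_val hZ hb hL hcL hmL,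
      ← H'.val_stable (m := mK + mL + 1) (by omega) hcL hmL, hadd, map_add]
    abel


/-- Let f : X ⟶ Y and g : Y ⟶ Z be regular closed imbeddings of connected Noetherian schemes, where on Y
and on Z every coherent module is a quotient of a finite locally free one. With models of K(X),
K(Y), K(Z) and push-forwards a = f_K, b = g_K, c = (f ≫ g)_K (each defined through finite locally
free resolutions of direct images of bundles), one has c = b ∘ a. -/
theorem result {X Y Z : Scheme.{u}} (f : X ⟶ Y) (g : Y ⟶ Z)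
    (hf : Mor2.IsRegularClosedImmersion f) (hg : Mor2.IsRegularClosedImmersion g)
    [IsNoetherian X] [ConnectedSpace ↥X] [IsNoetherian Y] [ConnectedSpace ↥Y] (hYe : KRR.HasEnoughLocFree Y) [IsNoetherian Z] [ConnectedSpace ↥Z] (hZe : KRR.HasEnoughLocFree Z)
    (KX : Type v) [CommRing KX] [LambdaRing.LambdaOps KX] (PX : LambdaRing.PosStructure KX) (φX : SGA6.Kvb X →+ KX) (hKX : KRR.IsModel X KX PX φX)
    (KY : Type v) [CommRing KY] [LambdaRing.LambdaOps KY] (PY : LambdaRing.PosStructure KY) (φY : SGA6.Kvb Y →+ KY) (hKY : KRR.IsModel Y KY PY φY)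
    (KZ : Type v) [CommRing KZ] [LambdaRing.LambdaOps KZ] (PZ : LambdaRing.PosStructure KZ) (φZ : SGA6.Kvb Z →+ KZ) (hKZ : KRR.IsModel Z KZ PZ φZ)
    (a : KX →+ KY) (ha : KRR.IsPushCl f φX φY a) (b : KY →+ KZ) (hb : KRR.IsPushCl g φY φZ b)
    (c : KX →+ KZ) (hc : KRR.IsPushCl (f ≫ g) φX φZ c) : c = b.comp a := by
  haveI := hf.1
  haveI := hg.1
  have key : c.comp φX = (b.comp a).comp φX := Functorial.hom_ext fun F hF => by
    obtain ⟨hc1, n, hn⟩ := RegPush.exists_syzP f hYe hf hF
    obtain ⟨hc2, m, hm, he⟩ := push_val g hg hYe hZe hb n _ hc1 hn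
    have H := PdSyz.hyp hZe
    let e := (Scheme.Modules.pushforwardComp f g).app F
    show c (φX (KRR.cl X F)) = b (a (φX (KRR.cl X F)))
    rw [Functorial.isPushCl_eq_val hYe ha hF hc1 hn, he,
      Functorial.isPushCl_eq_val hZe hc hF (CohDev.isCoh_of_iso e hc2) (H.syzP_iso m e hm)]
    exact (congrArg φZ (H.val_iso (H.inv m) e hc2 hm)).symm
  refine AddMonoidHom.ext fun x => ?_
  obtain ⟨z, rfl⟩ := hKX.bijective.2 x
  exact DFunLike.congr_fun key z

end Groth.Agent.S3748
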