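import Groth.Statements.S0250
import Groth.Agent.FEtCat.Extend

set_option autoImplicit false
universe u
open Pi1

namespace Groth.Agent.S0250

set_option backward.isDefEq.respectTransparency.types false
set_option linter.style.haveILetI false
set_option maxHeartbeats 800000

theorem exists_maximal_point {X : Type*} [TopologicalSpace X] [QuasiSober X] [T0Space X] {C : Set X}
    (hC : IsClosed C) (hne : C.Nonempty) : ∃ η ∈ C, ∀ z ∈ C, z ⤳ η → z = η := by
  haveI : QuasiSober C := hC.isClosedEmbedding_subtypeVal.quasiSober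
  obtain ⟨x, hx⟩ := hne
  obtain ⟨η, hη⟩ := QuasiSober.sober (S := irreducibleComponent (⟨x, hx⟩ : C)) isIrreducible_irreducibleComponent
    isClosed_irreducibleComponent
  refine ⟨η.1, η.2, fun z hzC hz => ?_⟩
  have hz' : (⟨z, hzC⟩ : C) ⤳ η := subtype_specializes_iff _ _ |>.mpr hz
  have hsub : irreducibleComponent (⟨x, hx⟩ : C) ⊆ closure {(⟨z, hzC⟩ : C)} := by
    rw [← hη.def]
    exact closure_minimal (Set.singleton_subset_iff.mpr hz'.mem_closure) isClosed_closure
  have he := eq_irreducibleComponent (isPreirreducible_singleton.closure) hsub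
  have h1 : η ⤳ (⟨z, hzC⟩ : C) := specializes_iff_mem_closure.mpr
    (by rw [hη.def]; exact he ▸ subset_closure rfl)
  exact congrArg Subtype.val (hz'.antisymm h1).eq

open AlgebraicGeometry CategoryTheory CategoryTheory.Limits in
/-- Let X be a Noetherian scheme and U ⊆ X an open subscheme such that purity holds for the local ring
𝒪_{X,x} at every point x outside U. Then restriction of finite étale covers from X to U is
essentially surjective. -/
theorem result {X : Scheme.{u}} [IsNoetherian X] (U : X.Opens)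
    (h : ∀ x : X, x ∉ U → FEt.PurityHolds (X.presheaf.stalk x)) : (FEt.restrict U.ι).EssSurj := by
  constructor
  intro V
  let P : X.Opens → Prop := fun W => ∃ h : U ≤ W, ∃ Y : FEt.Cat (W : Scheme.{u}),
    Nonempty ((FEt.restrict (X.homOfLE h)).obj Y ≅ V)
  have hP0 : P U := ⟨le_rfl, V, ⟨by
    haveI : IsIso (X.homOfLE (le_rfl : U ≤ U)) := by rw [Scheme.homOfLE_rfl]; infer_instance
    have hf : IsIso (pullback.fst V.hom (X.homOfLE (le_rfl : U ≤ U))) :=
      (MorphismProperty.isomorphisms Scheme.{u}).pullback_fst _ _ ‹IsIso (X.homOfLE (le_rfl : U ≤ U))›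
    exact MorphismProperty.Over.isoMk (@asIso _ _ _ _ (pullback.fst V.hom (X.homOfLE (le_rfl : U ≤ U))) hf) (by
      refine (pullback.condition (f := V.hom)).trans ?_
      rw [Scheme.homOfLE_rfl]
      exact Category.comp_id _)⟩⟩
  obtain ⟨W, ⟨hUW, Y, ⟨eY⟩⟩, hmax⟩ := (wellFounded_gt (α := X.Opens)).has_min {W | P W} ⟨U, hP0⟩
  have hW : W = ⊤ := by
    by_contra hW
    obtain ⟨x, hxW, hxmax⟩ := exists_maximal_point (C := (W : Set X)ᶜ) W.2.isClosed_compl
      (Set.nonempty_compl.mpr fun e => hW (TopologicalSpace.Opens.ext e))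
    haveI : (FEt.restrict (FEt.puncturedSpec (X.presheaf.stalk x)).ι).EssSurj := h x fun hxU => hxW (hUW hxU)
    let j := X.fromSpecStalk x
    have hP : j ⁻¹ᵁ W = FEt.puncturedSpec (X.presheaf.stalk x) := by
      ext y
      show j y ∈ W ↔ y ≠ IsLocalRing.closedPoint (X.presheaf.stalk x)
      refine ⟨fun hy e => hxW ?_, fun hy => ?_⟩
      · rw [e, Scheme.fromSpecStalk_closedPoint] at hy
        exact hy
      · by_contra hyW
        have hs : j y ⤳ x := (Scheme.range_fromSpecStalk (x := x)).le ⟨y, rfl⟩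
        exact hy (j.isEmbedding.injective ((hxmax _ hyW hs).trans Scheme.fromSpecStalk_closedPoint.symm))
    let q : (FEt.puncturedSpec (X.presheaf.stalk x) : Scheme.{u}) ⟶ W :=
      IsOpenImmersion.lift W.ι ((FEt.puncturedSpec (X.presheaf.stalk x)).ι ≫ j) (by
        rw [Scheme.Opens.range_ι]
        rintro _ ⟨y, rfl⟩
        rw [Scheme.Hom.comp_apply]
        exact hP.ge y.2)
    obtain ⟨E, ⟨eE⟩⟩ := Functor.EssSurj.mem_essImage (F := FEt.restrict (FEt.puncturedSpec (X.presheaf.stalk x)).ι)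
      ((FEt.restrict q).obj Y)
    obtain ⟨W', hWW', hxW', Y', ⟨eY'⟩⟩ := FEtCat.Extend.exists_extend W Y x _ hP q
      (IsOpenImmersion.lift_fac _ _ _) E eE
    refine hmax W' ⟨hUW.trans hWW', Y', ⟨?_⟩⟩ (lt_of_le_not_ge hWW' fun h' => hxW (h' hxW'))
    exact (MorphismProperty.Over.pullbackComp (X.homOfLE hUW) (X.homOfLE hWW') (X.homOfLE (hUW.trans hWW'))
      (X.homOfLE_homOfLE hUW hWW').symm).app Y' ≪≫ (FEt.restrict (X.homOfLE hUW)).mapIso eY' ≪≫ eY
  subst hW
  refine ⟨(FEt.restrict X.topIso.inv).obj Y, ⟨?_⟩⟩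
  exact ((MorphismProperty.Over.pullbackComp U.ι X.topIso.inv (X.homOfLE hUW) (by
    rw [← cancel_mono X.topIso.hom, Category.assoc, Iso.inv_hom_id, Category.comp_id]
    exact X.homOfLE_ι hUW)).app Y).symm ≪≫ eY

end Groth.Agent.S0250
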