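import Groth.Statements.S0008
import Groth.Agent.CohAff.AffineCech

set_option autoImplicit false
universe u
open Coherent

namespace Groth.Agent.S0008

open AlgebraicGeometry in
/-- For a ring A, an A-module M and elements f_1, …, f_n generating the unit ideal, the Čech cohomology
of the associated module on Spec A with respect to the covering by the basic opens D(f_i) vanishes
in every positive degree. -/
theorem result (A : Type u) [CommRing A] (M : ModuleCat.{u} A)
    (n : ℕ) (f : ULift.{u} (Fin n) → A) (hf : Ideal.span (Set.range f) = ⊤) (p : ℕ) (hp : 0 < p) :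
    CategoryTheory.Limits.IsZero (CohB1.cechH (fun i => PrimeSpectrum.basicOpen (f i)) (tilde (R := CommRingCat.of A) M) p) := by
  obtain ⟨m, rfl⟩ := Nat.exists_eq_add_of_le' hp
  let Y := AlgebraicGeometry.Spec (CommRingCat.of A)
  let f' : ULift.{u} (Fin n) → Γ(Y, ⊤) := fun i =>
    (AlgebraicGeometry.Scheme.ΓSpecIso (CommRingCat.of A)).inv (f i)
  have hU : (fun i => PrimeSpectrum.basicOpen (f i)) = fun i => Y.basicOpen (f' i) :=
    funext fun i => AlgebraicGeometry.basicOpen_eq_of_affine (R := CommRingCat.of A) (f i) |>.symm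
  refine (Groth.Agent.CohAff.isZero_homology_iff_cechExact (X := Y.toPresheafedSpace.carrier)
    (tilde (R := CommRingCat.of A) M).presheaf _ m).2 ?_
  refine Groth.Agent.CohAff.good_affCov (tilde (R := CommRingCat.of A) M) ⊤ _ _
    ⟨AlgebraicGeometry.isAffineOpen_top Y, inferInstance, f', hU, ?_⟩ m
  exact PrimeSpectrum.iSup_basicOpen_eq_top_iff.2 hf

end Groth.Agent.S0008
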