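import Groth.Statements.S0011
import Groth.Agent.CohAff.Classes
import Groth.Agent.CohAff.ResOps

set_option autoImplicit false
universe u
open Coherent

namespace Groth.Agent.S0011

open AlgebraicGeometry CategoryTheory in
/-- On a quasi-compact scheme in which affine opens have affine intersections, every quasi-coherent
module admits a monomorphism into a quasi-coherent module whose cohomology vanishes in all positive
degrees. (Part (2), universality of the delta-functor, is not stated.) -/
theorem result (X : Scheme.{u}) [CompactSpace X]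
    (hd : ∀ V W : X.Opens, IsAffineOpen V → IsAffineOpen W → IsAffineOpen (V ⊓ W))
    (M : X.Modules) [Coh.IsQCoh M] :
    ∃ (M' : X.Modules) (i : M ⟶ M'), Mono i ∧ Coh.IsQCoh M' ∧
      ∀ p : ℕ, 0 < p → Subsingleton (Coh.HH X M' p) := by
  obtain ⟨s, hs, hcov⟩ := (isCompact_iff_finite_and_eq_biUnion_affineOpens (U := (⊤ : X.Opens))).1
    (by rw [TopologicalSpace.Opens.coe_top]; exact CompactSpace.isCompact_univ)
  have : Finite s := hs.to_subtype
  obtain ⟨m, ⟨e⟩⟩ := Finite.exists_equiv_fin s
  have : Limits.HasFiniteBiproducts X.Modules := CategoryTheory.Abelian.hasFiniteBiproducts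
  have hai : ∀ U : s, IsAffineHom U.1.1.ι := fun U => ⟨fun V hV => by
    rw [← Scheme.Hom.isAffineOpen_iff_of_isOpenImmersion U.1.1.ι, U.1.1.ι.image_preimage_eq_opensRange_inf,
      Scheme.Opens.opensRange_ι]
    exact hd _ _ U.1.2 hV⟩
  let P : Fin m → X.Modules := fun i =>
    (Scheme.Modules.pushforward (e.symm i).1.1.ι).obj (M.restrict (e.symm i).1.1.ι)
  have : ∀ U, (P U).IsQuasicoherent := fun U =>
    Groth.Agent.QCoh.isQuasicoherent_pushforward (e.symm U).1.1.ι (M.restrict (e.symm U).1.1.ι)
  let φ : M ⟶ Limits.biproduct P := Limits.biproduct.lift fun U =>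
    (Scheme.Modules.restrictAdjunction (e.symm U).1.1.ι).unit.app M
  refine ⟨Limits.biproduct P, φ, ?_, ?_, fun p hp => ?_⟩
  · refine Groth.Agent.CohAff.mono_of_app_injective φ fun V => (injective_iff_map_eq_zero _).2
      fun x hx => ?_
    refine Groth.Agent.QCoh.eq_zero_of_locally_eq_zero M
      (U := fun U : Fin m => (e.symm U).1.1.ι ''ᵁ (e.symm U).1.1.ι ⁻¹ᵁ V)
      (fun U => (e.symm U).1.1.ι.image_preimage_le V) ?_ x
      fun U => ?_
    · intro y hy
      have hy' : y ∈ (Set.univ : Set X) := trivial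
      have hy'' : y ∈ (⊤ : X.Opens) := trivial
      rw [hcov] at hy''
      simp only [TopologicalSpace.Opens.mem_iSup] at hy''
      obtain ⟨U, hU, hyU⟩ := hy''
      refine TopologicalSpace.Opens.mem_iSup.2 ⟨e ⟨U, hU⟩, ?_⟩
      rw [Equiv.symm_apply_apply]
      exact ⟨⟨y, hyU⟩, hy, rfl⟩
    · have h1 := congrArg ((Limits.biproduct.π P U).app V) hx
      rw [map_zero, ← CategoryTheory.ConcreteCategory.comp_apply, ← Scheme.Modules.Hom.comp_app,
        Limits.biproduct.lift_π] at h1
      exact h1
  · exact Groth.Agent.CohAff.isQuasicoherent_biproduct P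
  · obtain ⟨n, rfl⟩ : ∃ n, p = n + 1 := ⟨p - 1, by omega⟩
    have hvan : ∀ U : Fin m, Subsingleton (Coh.HH X (P U) (n + 1)) := by
      intro i
      have := hai (e.symm i)
      let U := e.symm i
      let R := Groth.Agent.CohAff.FRes.ofMod (M.restrict U.1.1.ι)
      refine subsingleton_of_forall_eq 0 fun x => ?_
      obtain ⟨z, rfl⟩ := (R.pushAff U.1.1.ι).clsTop_surjective (n + 1) x
      refine ((R.pushAff U.1.1.ι).clsTop_eq_zero_iff _ _).2 ((R.ex_pushAff_iff _ _ _ _).2 ?_)
      have : IsAffine U.1.1.toScheme := U.1.2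
      exact Groth.Agent.CohAff.FRes.van_succ_of_isAffineOpen
        (R := R) (isAffineOpen_top U.1.1.toScheme) n z
    refine subsingleton_of_forall_eq 0 fun x => ?_
    let G := Groth.Agent.ModShf.toAbFunctor X ⋙ CategoryTheory.Sheaf.functorH _ (n + 1)
    have h1 : G.map (𝟙 (Limits.biproduct P)) = 0 := by
      rw [← Limits.biproduct.total, Functor.map_sum]
      refine Finset.sum_eq_zero fun U _ => ?_
      rw [Functor.map_comp]
      have : Limits.IsZero (G.obj (P U)) := by
        have : Subsingleton (G.obj (P U) : AddCommGrpCat.{u}) := hvan U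
        exact AddCommGrpCat.isZero_of_subsingleton _
      rw [this.eq_of_tgt (G.map (Limits.biproduct.π P U)) 0, Limits.zero_comp]
    rw [G.map_id] at h1
    exact congr($(h1) x)

end Groth.Agent.S0011
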