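import Groth.Statements.S0013
import Groth.Agent.CohAff.CechIso
import Groth.Agent.CohAff.AffineCech

set_option autoImplicit false
universe u
open Coherent

namespace Groth.Agent.S0013

open AlgebraicGeometry in
/-- Let X be a scheme with an open covering all of whose nonempty finite intersections are affine. For a
quasi-coherent module M and every degree p, Čech cohomology with respect to this covering is
isomorphic to sheaf cohomology; only the existence of an isomorphism of additive groups is asserted
(the published statement gives an isomorphism of modules over the global sections). -/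
theorem result (X : Scheme.{u}) {ι : Type u}
    (U : ι → X.Opens) (hcov : ⨆ i, U i = ⊤)
    (hU : ∀ s : Finset ι, s.Nonempty → IsAffineOpen (⨅ i ∈ s, U i))
    (M : X.Modules) [Coh.IsQCoh M] (p : ℕ) :
    Nonempty (↑(CohB1.cechH U M p) ≃+ Coh.HH X M p) := by
  classical
  refine Groth.Agent.CohAff.nonempty_cechEquiv (X := X.toPresheafedSpace.carrier) hcov
    (Groth.Agent.CohAff.good_affCov M) (fun {n} x => ?_) p
  change IsAffineOpen (X := X) (Groth.Agent.CohAff.inter U x)
  have e : Groth.Agent.CohAff.inter U x = ⨅ i ∈ Finset.univ.image x, U i := by
    refine le_antisymm (le_iInf₂ fun i hi => ?_)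
      (Groth.Agent.CohAff.le_inter fun a => iInf₂_le _ (Finset.mem_image_of_mem _ (Finset.mem_univ a)))
    obtain ⟨a, -, rfl⟩ := Finset.mem_image.1 hi
    exact Groth.Agent.CohAff.inter_le U x a
  rw [e]
  exact hU _ (Finset.univ_nonempty.image x)

end Groth.Agent.S0013
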