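import Groth.Statements.S0026
import Groth.Agent.CohDev.Gen
-- import your own Groth.Agent.* helpers here

set_option autoImplicit false
universe u
open Coherent

namespace Groth.Agent.S0026

open Groth.Agent.CohDev CategoryTheory CategoryTheory.Limits AlgebraicGeometry
open scoped ZeroObject

variable {X : Scheme.{u}}

/-- Direct image of a nonzero ideal of an integral closed subscheme. -/
def IsIdealPiece (J : X.Modules) : Prop :=
  ∃ (Z : Scheme.{u}) (i : Z ⟶ X), IsClosedImmersion i ∧ IsIntegral Z ∧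
    ∃ (I : Z.Modules) (ι : I ⟶ Coh.structureModule Z), Mono ι ∧ Coh.IsQCoh I ∧ ¬ IsZero I ∧
      Nonempty (J ≅ (Coh.push i).obj I)

lemma IsIdealPiece.of_iso {J J' : X.Modules} (e : J' ≅ J) (h : IsIdealPiece J) : IsIdealPiece J' := by
  obtain ⟨Z, i, hi, hZ, I, ι, hι, hI, h0, ⟨e'⟩⟩ := h
  exact ⟨Z, i, hi, hZ, I, ι, hι, hI, h0, ⟨e ≪≫ e'⟩⟩

/-- Iterated extensions of pieces. -/
inductive Filt : X.Modules → Prop
  | zero {M : X.Modules} : IsZero M → Filt M
  | step {A M : X.Modules} (φ : A ⟶ M) : Mono φ → Coh.IsCoh M → Filt A → IsIdealPiece (cokernel φ) → Filt M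

lemma Filt.isCoh {M : X.Modules} : Filt M → Coh.IsCoh M
  | .zero h => isCoh_of_isZero h
  | .step _ _ h _ _ => h

lemma Filt.of_iso {M N : X.Modules} (e : M ≅ N) : Filt M → Filt N
  | .zero h => .zero (h.of_iso e.symm)
  | .step φ h hc hA hp =>
      .step (φ ≫ e.hom) (mono_comp _ _) (isCoh_of_iso e hc) hA (hp.of_iso (cokernelCompIsIso φ e.hom))

lemma Filt.ext [IsNoetherian X] {C : X.Modules} (hC : Filt C) :
    ∀ {A B : X.Modules} (f : A ⟶ B) (g : B ⟶ C) (w : f ≫ g = 0),
      (ShortComplex.mk f g w).ShortExact → Coh.IsCoh B → Filt A → Filt B := by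
  induction hC with
  | @zero C h =>
    intro A B f g w hS hB hA
    haveI : Mono f := hS.mono_f
    haveI : Epi f := (ShortComplex.mk f g w).exact_iff_epi (h.eq_of_tgt _ _) |>.mp hS.exact
    haveI := isIso_of_mono_of_epi f
    exact hA.of_iso (asIso f)
  | @step C' C φ hφ hC hC' hp IH =>
    intro A B f g w hS hB hA
    haveI := hφ
    haveI : Mono f := hS.mono_f
    haveI : Epi g := hS.epi_g
    let h : B ⟶ cokernel φ := g ≫ cokernel.π φ
    let f' : A ⟶ kernel h := kernel.lift h f (by rw [← Category.assoc, w, zero_comp])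
    let g' : kernel h ⟶ C' := Abelian.monoLift φ (kernel.ι h ≫ g)
      ((Category.assoc _ _ _).trans (kernel.condition h))
    have hg' : g' ≫ φ = kernel.ι h ≫ g := Abelian.monoLift_comp _ _ _
    have hf' : f' ≫ kernel.ι h = f := kernel.lift_ι _ _ _
    have w' : f' ≫ g' = 0 := by
      rw [← cancel_mono φ, Category.assoc, hg', ← Category.assoc, hf', w, zero_comp]
    haveI : Mono f' := mono_of_mono_fac hf'
    haveI : Epi g' := by
      rw [epi_iff_surjective_up_to_refinements]
      intro T z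
      obtain ⟨T', e, he, b, hb⟩ := surjective_up_to_refinements_of_epi g (z ≫ φ)
      refine ⟨T', e, he, kernel.lift h b (by
        rw [← Category.assoc, ← hb, Category.assoc, Category.assoc, cokernel.condition, comp_zero,
          comp_zero]), ?_⟩
      rw [← cancel_mono φ, Category.assoc, Category.assoc, hg', kernel.lift_ι_assoc, hb]
    have hS' : (ShortComplex.mk f' g' w').ShortExact := by
      refine { exact := ?_, mono_f := ‹_›, epi_g := ‹_› }
      rw [ShortComplex.exact_iff_exact_up_to_refinements]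
      intro T z hz
      obtain ⟨T', e, he, a, ha⟩ := hS.exact.exact_up_to_refinements (z ≫ kernel.ι h)
        (by rw [Category.assoc, ← hg', reassoc_of% hz, zero_comp])
      refine ⟨T', e, he, a, ?_⟩
      rw [← cancel_mono (kernel.ι h), Category.assoc, Category.assoc, hf']
      exact ha
    haveI : Epi h := epi_comp _ _
    have hK : Coh.IsCoh (kernel h) := isCoh_kernel h hB (isCoh_cokernel φ hC'.isCoh.1 hC).1
    refine .step (kernel.ι h) inferInstance hB (IH f' g' w' hS' hK hA) (hp.of_iso ?_)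
    exact ((Abelian.epiIsCokernelOfKernel (limit.cone (parallelPair h 0))
      (limit.isLimit _)).coconePointUniqueUpToIso (cokernelIsCokernel (kernel.ι h))).symm

lemma Filt.chain {M : X.Modules} (hM : Filt M) :
    ∃ (m : ℕ) (F : ℕ → X.Modules) (φ : (j : ℕ) → (F j ⟶ F (j + 1))),
      IsZero (F 0) ∧ Nonempty (F m ≅ M) ∧ (∀ j ≤ m, Coh.IsCoh (F j)) ∧ ∀ j < m, Mono (φ j) ∧
        IsIdealPiece (cokernel (φ j)) := by
  induction hM with
  | @zero M h =>
    exact ⟨0, fun _ => M, fun _ => 𝟙 _, h, ⟨Iso.refl _⟩, fun _ _ => isCoh_of_isZero h,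
      fun j hj => absurd hj (Nat.not_lt_zero j)⟩
  | @step A M χ hχ hc _ hp IH =>
    obtain ⟨m, F, φ, h0, ⟨e⟩, hF, hφ⟩ := IH
    let G : ℕ → X.Modules := fun j => if j ≤ m then F j else M
    let ψ : (j : ℕ) → (G j ⟶ G (j + 1)) := fun j =>
      if h : j < m then eqToHom (if_pos h.le) ≫ φ j ≫ eqToHom (if_pos (show j + 1 ≤ m from h)).symm
      else if h' : j = m then
        eqToHom ((if_pos h'.le).trans (congrArg F h')) ≫ e.hom ≫ χ ≫
          eqToHom (if_neg (show ¬ j + 1 ≤ m by omega)).symm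
      else eqToHom ((if_neg (show ¬ j ≤ m by omega)).trans (if_neg (show ¬ j + 1 ≤ m by omega)).symm)
    refine ⟨m + 1, G, ψ, by simp only [G, zero_le, if_true]; exact h0,
      ⟨eqToIso (if_neg (by omega))⟩, fun j hj => ?_, fun j hj => ?_⟩
    · by_cases h : j ≤ m
      · rw [show G j = F j from if_pos h]; exact hF j h
      · rw [show G j = M from if_neg h]; exact hc
    · by_cases h : j < m
      · obtain ⟨hm, hp'⟩ := hφ j h
        haveI := hm
        simp only [ψ, dif_pos h]
        refine ⟨inferInstance, hp'.of_iso ?_⟩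
        exact (cokernelEpiComp (eqToHom _) _).trans (cokernelCompIsIso _ _)
      · obtain rfl : j = m := by omega
        haveI := hχ
        simp only [ψ, dif_neg (lt_irrefl j), dite_true]
        refine ⟨inferInstance, hp.of_iso ?_⟩
        exact (cokernelEpiComp (eqToHom _) _).trans ((cokernelEpiComp e.hom _).trans (cokernelCompIsIso _ _))

open AlgebraicGeometry CategoryTheory CategoryTheory.Limits in
/-- On a Noetherian scheme X, every coherent module M admits a finite chain 0 = F_0 → F_1 → … → F_m ≅ M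
of monomorphisms between coherent modules such that each quotient F_{j+1}/F_j is isomorphic to the
direct image of a nonzero quasi-coherent ideal sheaf of some integral closed subscheme Z_j → X.
(Filtration written as a chain of monomorphisms up to isomorphism.) -/
theorem result (X : Scheme.{u}) [IsNoetherian X]
    (M : X.Modules) (hM : Coh.IsCoh M) :
    ∃ (m : ℕ) (F : ℕ → X.Modules) (φ : (j : ℕ) → (F j ⟶ F (j + 1))),
      IsZero (F 0) ∧ Nonempty (F m ≅ M) ∧ (∀ j ≤ m, Coh.IsCoh (F j)) ∧ ∀ j < m, Mono (φ j) ∧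
        ∃ (Z : Scheme.{u}) (i : Z ⟶ X), IsClosedImmersion i ∧ IsIntegral Z ∧
          ∃ (I : Z.Modules) (ι : I ⟶ Coh.structureModule Z), Mono ι ∧ Coh.IsQCoh I ∧ ¬ IsZero I ∧
            Nonempty (cokernel (φ j) ≅ (Coh.push i).obj I) := by
  suffices h : Filt M from (h.chain)
  refine devissage_on Set.univ Filt (fun M h => .zero h)
    (fun S hS _ hc _ _ p q => q.ext S.f S.g S.zero hS hc p) (fun x _ J hJ _ => ?_) hM (Set.subset_univ _)
  obtain ⟨hZ, I, ι, hι, hI, ⟨e⟩⟩ := hJ.exists_ideal
  obtain ⟨-, -, hJc, hx⟩ := hJ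
  refine .step (0 : (0 : X.Modules) ⟶ J) ⟨fun _ _ _ => (isZero_zero _).eq_of_tgt _ _⟩ hJc
    (.zero (isZero_zero _)) ⟨_, _, inferInstance, hZ, I, ι, hι, hI, fun h0 => hx ?_,
      ⟨cokernelZeroIsoTarget ≪≫ e⟩⟩
  exact AddCommGrpCat.subsingleton_of_isZero
    ((Scheme.Modules.toPresheaf X ⋙ TopCat.Presheaf.stalkFunctor AddCommGrpCat.{u} x).map_isZero
      (((Coh.push _).map_isZero h0).of_iso e))

end Groth.Agent.S0026
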