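import Groth.Statements.S0028
import Groth.Agent.CohAff.PushCoh

set_option autoImplicit false
universe u
open Coherent

namespace Groth.Agent.S0028

open AlgebraicGeometry CategoryTheory in
/-- If f : X → S is an affine morphism and F is a quasi-coherent O_X-module, then R^i f_* F = 0 for all
i > 0 (higher direct images of the underlying abelian sheaf). -/
theorem result {X S : Scheme.{u}} (f : X ⟶ S) [IsAffineHom f]
    (M : X.Modules) [Coh.IsQCoh M] (i : ℕ) (hi : 0 < i) :
    Limits.IsZero ((Coh.RpushAb f i).obj (Coh.toAb M)) := by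
  obtain ⟨n, rfl⟩ := Nat.exists_eq_add_of_le' hi
  let I := injectiveResolution M
  let R := Groth.Agent.CohAff.fresOf I
  have hq : (R.Z 0).IsQuasicoherent := Groth.Agent.CohAff.fresOf_isQuasicoherent I
  have : QuasiSeparated f := inferInstanceAs (QuasiSeparated f)
  have hz : Limits.IsZero (R.Rc f n) := R.isZero_Rc_of_van f fun V hV =>
    Groth.Agent.CohAff.FRes.van_succ_of_isAffineOpen (R := R) (hV.preimage f) n
  exact ((Groth.Agent.ModShf.toAbFunctor S).map_isZero
    (hz.of_iso (Groth.Agent.CohAff.rpushSuccIso f I n))).of_iso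
    ((Groth.Agent.ModShf.rpushCompToAb f (n + 1)).app M).symm

end Groth.Agent.S0028
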