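import Groth.Statements.S0031
import Groth.Agent.CohAff.PushCoh

set_option autoImplicit false
universe u
open Coherent

namespace Groth.Agent.S0031

open AlgebraicGeometry CategoryTheory in
/-- If f : X → S is quasi-compact and quasi-separated and S is quasi-compact, there is an integer n with
R^p f_* F = 0 for all p ≥ n and all quasi-coherent F (higher direct images of the underlying abelian
sheaves). -/
theorem result {X S : Scheme.{u}} (f : X ⟶ S) [QuasiCompact f]
    [QuasiSeparated f] [CompactSpace S] :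
    ∃ n : ℕ, ∀ (M : X.Modules), Coh.IsQCoh M → ∀ p : ℕ, n ≤ p →
      Limits.IsZero ((Coh.RpushAb f p).obj (Coh.toAb M)) := by
  obtain ⟨s, hs, e⟩ := (isCompact_iff_finite_and_eq_biUnion_affineOpens (X := S) (U := ⊤)).mp
    (by simpa using isCompact_univ (X := S))
  classical
  have hb : ∀ V : S.affineOpens, ∃ d : ℕ, ∀ (R : Groth.Agent.CohAff.FRes X),
      (R.Z 0).IsQuasicoherent → ∀ n, d ≤ n → R.Van (n + 1) (f ⁻¹ᵁ V.1) := fun V =>
    Groth.Agent.CohAff.exists_van_bound (f.isQuasiSeparated_preimage V.2.isQuasiSeparated)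
      (QuasiCompact.isCompact_preimage _ V.1.2 V.2.isCompact)
  choose d hd using hb
  refine ⟨hs.toFinset.sup d + 1, fun M hM p hp => ?_⟩
  obtain ⟨n, rfl⟩ := Nat.exists_eq_add_of_le' (le_trans (Nat.le_add_left 1 _) hp)
  let I := injectiveResolution M
  let R := Groth.Agent.CohAff.fresOf I
  have hq : (R.Z 0).IsQuasicoherent := Groth.Agent.CohAff.fresOf_isQuasicoherent (hM := hM) I
  -- cohomology vanishes on the chosen affine opens, hence on their smaller affine opens
  have hz : Limits.IsZero (R.Rc f n) := by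
    refine (Limits.IsZero.iff_id_eq_zero _).2 (Scheme.Modules.hom_ext _ _ fun W => ?_)
    ext r
    change r = 0
    refine Groth.Agent.QCoh.eq_zero_of_locally_eq_zero (R.Rc f n)
      (U := fun V : hs.toFinset => W ⊓ V.1.1) (fun V => inf_le_left) ?_ r fun V => ?_
    · intro x hx
      have : x ∈ ⨆ i ∈ s, (i : S.Opens) := e ▸ (trivial : x ∈ (⊤ : S.Opens))
      obtain ⟨i, hxi⟩ := TopologicalSpace.Opens.mem_iSup.1 this
      obtain ⟨hi, hxi⟩ := TopologicalSpace.Opens.mem_iSup.1 hxi
      exact TopologicalSpace.Opens.mem_iSup.2 ⟨⟨i, hs.mem_toFinset.2 hi⟩, hx, hxi⟩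
    · obtain ⟨V, hV⟩ := V
      have hvan : ∀ y : Γ(R.Rc f n, V.1), y = 0 := fun y => by
        obtain ⟨x, rfl⟩ := R.π'_surjective f V.2 n y
        exact R.π'_eq_zero_of_ex f n (hd V R hq n (by
          have := Finset.le_sup (f := d) hV
          omega) x)
      have hR := R.isQuasicoherent_Rc f n
      choose g hg hgmem using fun x : (W ⊓ V.1 : S.Opens) =>
        V.2.exists_basicOpen_le (V := W ⊓ V.1) ⟨x.1, x.2⟩ x.2.2
      refine Groth.Agent.QCoh.eq_zero_of_locally_eq_zero (R.Rc f n)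
        (U := fun x : (W ⊓ V.1 : S.Opens) => S.basicOpen (g x)) (fun x => hg x) ?_ _ fun x => ?_
      · intro x hx
        exact TopologicalSpace.Opens.mem_iSup.2 ⟨⟨x, hx⟩, hgmem ⟨x, hx⟩⟩
      obtain ⟨N, t, ht⟩ := Groth.Agent.CohAff.exists_extend (R.Rc f n) V.2 (g x)
        (Groth.Agent.QCoh.res (R.Rc f n) (hg x) (Groth.Agent.QCoh.res (R.Rc f n) inf_le_left r))
      rw [hvan t, map_zero] at ht
      refine (IsUnit.smul_eq_zero (IsUnit.pow N ?_)).1 ht.symm
      exact (S.toRingedSpace.isUnit_res_basicOpen (g x))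
  exact ((Groth.Agent.ModShf.toAbFunctor S).map_isZero
    (hz.of_iso (Groth.Agent.CohAff.rpushSuccIso f I n))).of_iso
    ((Groth.Agent.ModShf.rpushCompToAb f (n + 1)).app M).symm

end Groth.Agent.S0031
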