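import Groth.Statements.S0032
import Groth.Agent.CohAff.Classes

set_option autoImplicit false
universe u
open Coherent

namespace Groth.Agent.S0032

open AlgebraicGeometry CategoryTheory Opposite in
/-- Let f : X → S be quasi-compact and quasi-separated with S affine, and F quasi-coherent on X. Then
H^q(X, F) is isomorphic to the global sections of R^q f_* F (higher direct image of the underlying
abelian sheaf), for every q. -/
theorem result {X S : Scheme.{u}} (f : X ⟶ S)
    [QuasiCompact f] [QuasiSeparated f] [IsAffine S] (M : X.Modules) [Coh.IsQCoh M] (q : ℕ) :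
    Nonempty (Coh.HH X M q ≃+ ↑(((Coh.RpushAb f q).obj (Coh.toAb M)).obj.obj (op ⊤))) := by
  let R := Groth.Agent.CohAff.FRes.ofMod M
  let e := ((Groth.Agent.ModShf.rpushCompToAb f q).app M).symm
  refine ⟨AddEquiv.trans ?_ ((CategoryTheory.sheafToPresheaf _ _ ⋙
    (CategoryTheory.evaluation _ _).obj (Opposite.op (⊤ : S.Opens))).mapIso
      e).addCommGroupIsoToAddEquiv.symm⟩
  rcases q with _ | n
  · exact (Groth.Agent.CohAff.addEquivOfKer (R.clsTop 0) (AddMonoidHom.id _) (R.clsTop_surjective 0)
      Function.surjective_id fun a ↦ R.clsTop_eq_zero_iff 0 a).trans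
      ((Scheme.Modules.toPresheaf S ⋙ (CategoryTheory.evaluation _ _).obj
        (Opposite.op (⊤ : S.Opens))).mapIso
        ((Scheme.Modules.pushforward f).rightDerivedZeroIsoSelf.app M)).symm.addCommGroupIsoToAddEquiv
  · let I := CategoryTheory.injectiveResolution M
    let R' := Groth.Agent.CohAff.fresOf I
    have := Groth.Agent.CohAff.fresOf_isQuasicoherent I
    exact (Groth.Agent.CohAff.addEquivOfKer (R.clsTop (n + 1)) (R'.π' f n ⊤)
      (R.clsTop_surjective _) (R'.π'_surjective f (isAffineOpen_top S) n) fun a ↦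
        (R.clsTop_eq_zero_iff (n + 1) a).trans ⟨fun h ↦ R'.π'_eq_zero_of_ex f n (by
          obtain ⟨b, hb⟩ := h; exact ⟨b, hb⟩), fun h ↦ by
          obtain ⟨b, hb⟩ := R'.ex_of_π'_eq_zero f (isAffineOpen_top S) n a h
          exact ⟨b, hb⟩⟩).trans
      ((Scheme.Modules.toPresheaf S ⋙ (CategoryTheory.evaluation _ _).obj
        (Opposite.op (⊤ : S.Opens))).mapIso
        (Groth.Agent.CohAff.rpushSuccIso f I n)).symm.addCommGroupIsoToAddEquiv

end Groth.Agent.S0032
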