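import Groth.Statements.S0035
import Groth.Agent.CohBase.FlatBC.FinProj
-- import your own Groth.Agent.* helpers here

set_option autoImplicit false
universe u
open Coherent

namespace Groth.Agent.S0035

open AlgebraicGeometry CategoryTheory TensorProduct in
/-- Let B be a finite projective (= finite locally free) A-algebra, X any scheme over Spec A, X' = X ×_A
Spec B with projection g', and F quasi-coherent on X. Then H^i(X, F) ⊗_A B ≅ H^i(X', g'^* F). No
quasi-compactness or separation hypothesis on X is needed. -/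
theorem result (A B : Type u) [CommRing A] [CommRing B] [Algebra A B]
    [Module.Finite A B] [Module.Projective A B] (X X' : Scheme.{u})
    [X.Over (Spec (CommRingCat.of A))] [X'.Over (Spec (CommRingCat.of B))] (g' : X' ⟶ X)
    (h : IsPullback g' (X' ↘ Spec (CommRingCat.of B)) (X ↘ Spec (CommRingCat.of A))
      (Spec.map (CommRingCat.ofHom (algebraMap A B))))
    (M : X.Modules) [Coh.IsQCoh M] (i : ℕ) :
    Nonempty (TensorProduct A B (Coh.HH X M i) ≃ₗ[B] Coh.HH X' ((Scheme.Modules.pullback g').obj M) i) := by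
  have : M.IsQuasicoherent := (inferInstance : Coh.IsQCoh M)
  obtain ⟨e⟩ := Groth.Agent.CohBase.FlatBC.nonempty_classEquiv_finProj
    (eA := (Scheme.ΓSpecIso (CommRingCat.of A)).symm) (eB := (Scheme.ΓSpecIso (CommRingCat.of B)).symm)
    M h (Scheme.ΓSpecIso_inv_naturality (CommRingCat.ofHom (algebraMap A B))) i
  obtain ⟨e₁⟩ := Groth.Agent.CohBase.FlatBC.exists_hhEquiv (Groth.Agent.CohBase.FlatBC.ρX
      (X ↘ Spec (CommRingCat.of A)) (Scheme.ΓSpecIso (CommRingCat.of A)).symm)
    (Coh.toGlobal (X ↘ Spec (CommRingCat.of A))) (fun _ => rfl) M i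
  obtain ⟨e₂⟩ := Groth.Agent.CohBase.FlatBC.exists_hhEquiv
    ((Scheme.ΓSpecIso (CommRingCat.of B)).symm.hom ≫ (X' ↘ Spec (CommRingCat.of B)).appTop).hom
    (Coh.toGlobal (X' ↘ Spec (CommRingCat.of B))) (fun _ => rfl) ((Scheme.Modules.pullback g').obj M) i
  exact ⟨TensorProduct.AlgebraTensorModule.congr (LinearEquiv.refl B B) e₁.symm ≪≫ₗ e ≪≫ₗ e₂⟩

end Groth.Agent.S0035
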