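import Groth.Statements.S0045
import Groth.Agent.CohDev.Gen
-- import your own Groth.Agent.* helpers here

set_option autoImplicit false
universe u
open Coherent

namespace Groth.Agent.S0045

open Groth.Agent.CohDev CategoryTheory CategoryTheory.Limits AlgebraicGeometry

open AlgebraicGeometry CategoryTheory in
/-- On a Noetherian scheme, any increasing sequence of quasi-coherent submodules of a coherent module is
eventually constant. -/
theorem result (X : Scheme.{u}) [IsNoetherian X] (M : X.Modules)
    (hM : Coh.IsCoh M) (F : ℕ →o Subobject M) (hF : ∀ n, Coh.IsQCoh ((F n : Subobject M) : X.Modules)) :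
    ∃ n : ℕ, ∀ m : ℕ, n ≤ m → F m = F n := by
  classical
  haveI : M.IsQuasicoherent := hM.1
  obtain ⟨T, hT⟩ := isCompact_univ.elim_finite_subcover (fun U : X.affineOpens => (U.1 : Set X))
    (fun U => U.1.isOpen) (fun x _ => by
      obtain ⟨U, hU, hx, -⟩ := exists_isAffineOpen_mem_and_subset (X := X) (TopologicalSpace.Opens.mem_top x)
      exact Set.mem_iUnion.mpr ⟨⟨U, hU⟩, hx⟩)
  let R : (U : X.affineOpens) → ℕ →o Submodule Γ(X, U.1) Γ(M, U.1) := fun U =>
    { toFun := fun n => LinearMap.range (appLin (F n).arrow U.1)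
      monotone' := fun a b hab => by
        rintro - ⟨s, rfl⟩
        exact ⟨(Subobject.ofLE _ _ (F.mono hab)).app U.1 s, congrArg (fun f => f.app U.1 s) (Subobject.ofLE_arrow (F.mono hab))⟩ }
  have hst : ∀ U : X.affineOpens, ∃ n, ∀ m, n ≤ m → R U n = R U m := fun U => by
    haveI := IsLocallyNoetherian.component_noetherian U
    haveI := finite_sections hM U.2
    exact monotone_stabilizes_iff_noetherian.mpr inferInstance (R U)
  choose N hN using hst
  refine ⟨T.sup N, fun m hm => (le_antisymm ?_ (F.mono hm))⟩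
  set n := T.sup N
  let j := Subobject.ofLE _ _ (F.mono hm)
  haveI : Mono j := inferInstanceAs (Mono (Subobject.ofLE _ _ _))
  have hC : Coh.IsQCoh (cokernel j) := @QCoh.isQuasicoherent_cokernel X _ _ j (hF n) (hF m)
  have hz : IsZero (cokernel j) := isZero_of_support_eq_empty (Set.eq_empty_iff_forall_notMem.mpr
    fun x hx => hx (subsingleton_of_forall_eq 0 fun t => ?_))
  · haveI : Epi j := Abelian.epi_of_cokernel_π_eq_zero j (hz.eq_of_tgt _ _)
    haveI := isIso_of_mono_of_epi j
    exact Subobject.le_of_comm (inv j) (by rw [IsIso.inv_comp_eq]; exact (Subobject.ofLE_arrow (F.mono hm)).symm)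
  haveI : (cokernel j).IsQuasicoherent := hC
  obtain ⟨U, hUT, hxU⟩ := Set.mem_iUnion₂.mp (hT (Set.mem_univ x))
  obtain ⟨c, s, hs, hst⟩ := CycLib.exists_smul_germ_eq (cokernel j) U.2 hxU t
  obtain ⟨b, rfl⟩ := @QCoh.app_surjective_of_epi X _ _ (cokernel.π j) inferInstance (hF m) hC U.1 U.2 c
  have hle : N U ≤ n := Finset.le_sup hUT
  have hb : appLin (F m).arrow U.1 b ∈ R U n := by
    rw [← hN U n hle, hN U m (hle.trans hm)]
    exact ⟨b, rfl⟩
  obtain ⟨a, ha⟩ := hb
  obtain rfl : j.app U.1 a = b := QCoh.app_injective_of_mono (F m).arrow U.1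
    ((congrArg (fun f => f.app U.1 a) (Subobject.ofLE_arrow (F.mono hm))).trans ha)
  refine hs.smul_eq_zero.mp (hst.trans ?_)
  exact (congrArg _ (congrArg (fun f => f.app U.1 a) (cokernel.condition j))).trans
    (map_zero ((cokernel j).presheaf.germ U.1 x hxU).hom)

end Groth.Agent.S0045
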