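import Groth.Statements.S0047
import Groth.Agent.CohDev.Gen
import Groth.Agent.CohTop.Flasque
-- import your own Groth.Agent.* helpers here

set_option autoImplicit false
universe u
open Coherent

namespace Groth.Agent.S0047

open Groth.Agent.CohDev CategoryTheory CategoryTheory.Limits AlgebraicGeometry Opposite TopologicalSpace

/-- Subsets of a closed set of closed points are closed on a locally Noetherian scheme. -/
theorem isClosed_of_subset {X : Scheme.{u}} [IsLocallyNoetherian X] {S T : Set X} (hS : IsClosed S)
    (h0 : ∀ x ∈ S, IsClosed ({x} : Set X)) (hT : T ⊆ S) : IsClosed T := by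
  let W : X.affineOpens → X.Opens := fun V => V.1
  have hW : TopologicalSpace.IsOpenCover W := iSup_affineOpens_eq_top X
  rw [hW.isClosed_iff_coe_preimage]
  intro V
  haveI := IsLocallyNoetherian.component_noetherian V
  haveI : QuasiSober ↥V.1 := V.1.isOpen.isOpenEmbedding_subtypeVal.quasiSober
  haveI : NoetherianSpace ↥V.1 := noetherianSpace_of_isAffineOpen V.1 V.2
  have hfin : (((↑) : V.1 → X) ⁻¹' S).Finite := by
    obtain ⟨C, hCf, hCc, hCi, hC⟩ :=
      NoetherianSpace.exists_finite_set_isClosed_irreducible (α := ↥V.1) (hS.preimage continuous_subtype_val)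
    refine Set.Finite.subset (hCf.biUnion (t := fun c => c) fun c hc => ?_)
      (fun a ha => by
        obtain ⟨c, hc, hac⟩ := Set.mem_sUnion.mp (hC.subset ha)
        exact Set.mem_biUnion hc hac)
    obtain ⟨z, hz⟩ := QuasiSober.sober (hCi c hc) (hCc c hc)
    have hzS : z ∈ ((↑) : V.1 → X) ⁻¹' S := hC ▸ Set.mem_sUnion.mpr ⟨c, hc, hz.mem⟩
    have hzc : IsClosed ({z} : Set ↥V.1) := by
      have := (h0 _ hzS).preimage (continuous_subtype_val (p := fun x => x ∈ V.1))
      convert this using 1
      ext a
      exact Subtype.ext_iff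
    have hce : c = {z} := hz.def.symm.trans hzc.closure_eq
    rw [hce]
    exact Set.finite_singleton z
  have hfT := hfin.subset (Set.preimage_mono hT)
  have hu : (((↑) : V.1 → X) ⁻¹' T) = ⋃ a ∈ ((↑) : V.1 → X) ⁻¹' T, {a} := by
    ext a; simp
  change IsClosed (((↑) : V.1 → X) ⁻¹' T)
  rw [hu]
  refine hfT.isClosed_biUnion fun a ha => ?_
  have := (h0 _ (hT ha)).preimage (continuous_subtype_val (p := fun x => x ∈ V.1))
  convert this using 1
  ext b
  exact Subtype.ext_iff

/-- A module supported on a closed discrete set is flasque. -/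
theorem isFlasque_of_discrete_support {X : Scheme.{u}} [IsLocallyNoetherian X] (M : X.Modules)
    (hS : IsClosed (CohB1.support M)) (h0 : ∀ x ∈ CohB1.support M, IsClosed ({x} : Set X)) :
    TopCat.Sheaf.IsFlasque ((SheafOfModules.toSheaf X.ringCatSheaf).obj M : TopCat.Sheaf AddCommGrpCat.{u} X.toTopCat) where
  epi {A B} i := by
    rw [AddCommGrpCat.epi_iff_surjective]
    intro s
    let F : TopCat.Sheaf AddCommGrpCat.{u} X.toTopCat := (SheafOfModules.toSheaf X.ringCatSheaf).obj M
    let U : X.Opens := B.unop
    let Z : Set X := {x | ∃ h : x ∈ U, (TopCat.Presheaf.germ F.1 U x h) s ≠ 0}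
    have hZS : Z ⊆ CohB1.support M := by
      rintro x ⟨hx, hne⟩ hsub
      exact hne (@Subsingleton.elim (M.presheaf.stalk x) hsub _ _)
    let W : Bool → X.Opens := fun b => bif b then U else
      A.unop ⊓ ⟨Zᶜ, (isClosed_of_subset hS h0 hZS).isOpen_compl⟩
    let sf : (b : Bool) → ToType (F.1.obj (op (W b))) := fun b => match b with
      | true => s
      | false => 0
    have hz : ∀ {O : X.Opens} (hO : O ≤ U) (hd : ∀ x ∈ O, x ∉ Z), F.1.map (homOfLE hO).op s = 0 := by
      intro O hO hd
      refine TopCat.Presheaf.section_ext F O _ _ fun x hx => ?_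
      rw [TopCat.Presheaf.germ_res_apply, map_zero]
      by_contra hne
      exact hd x hx ⟨hO hx, hne⟩
    have hcomp : TopCat.Presheaf.IsCompatible F.1 W sf := by
      intro b c
      cases b <;> cases c
      · rfl
      · exact (map_zero _).trans (hz (inf_le_right : W false ⊓ W true ≤ U) fun x hx => hx.1.2).symm
      · exact (hz (inf_le_left : W true ⊓ W false ≤ U) fun x hx => hx.2.2).trans (map_zero _).symm
      · rfl
    obtain ⟨t, ht, -⟩ := F.existsUnique_gluing' W A.unop
      (fun b => match b with
        | true => homOfLE i.unop.le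
        | false => homOfLE inf_le_left)
      (fun x hx => by
        by_cases hxZ : x ∈ Z
        · exact Opens.mem_iSup.mpr ⟨true, hxZ.1⟩
        · exact Opens.mem_iSup.mpr ⟨false, hx, hxZ⟩)
      sf hcomp
    exact ⟨t, ht true⟩

open AlgebraicGeometry in
/-- On a locally Noetherian scheme, a coherent module whose support consists of closed points (i.e. has
dimension ≤ 0) satisfies H^i(X, F) = 0 for all i > 0. (Global generation is not stated.) -/
theorem result (X : Scheme.{u}) [IsLocallyNoetherian X]
    (M : X.Modules) (hM : Coh.IsCoh M) (h0 : ∀ x ∈ CohB1.support M, IsClosed ({x} : Set X))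
    (i : ℕ) (hi : 0 < i) : Subsingleton (Coh.HH X M i) := by
  obtain ⟨n, rfl⟩ := Nat.exists_eq_succ_of_ne_zero hi.ne'
  haveI := hM.1
  haveI := isFlasque_of_discrete_support M (CohDev.isClosed_support hM) h0
  exact Groth.Agent.CohTop.Flasque.H_subsingleton _ n

end Groth.Agent.S0047
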