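import Groth.Statements.S0048
import Groth.Agent.CohDev.Loc
import Groth.Agent.PerfTri.Bounded
-- import your own Groth.Agent.* helpers here

set_option autoImplicit false
universe u
open Coherent

namespace Groth.Agent.S0048

open Groth.Agent.CohDev CategoryTheory CategoryTheory.Limits AlgebraicGeometry

open AlgebraicGeometry in
/-- Let U ⊆ X be open and T ⊆ U a subset closed in X. If F is a coherent (quasi-coherent of finite type,
i.e. `Coh.IsCoh`) module on U with support contained in T, then its direct image along U ↪ X is
again coherent in the same sense. (The published statement is for coherent modules in the usual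
sense; here both hypothesis and conclusion use the notion `Coh.IsCoh`.) -/
theorem result (X : Scheme.{u}) (U : X.Opens) (T : Set X)
    (hT : IsClosed T) (hTU : T ⊆ (U : Set X)) (F : (↑U : Scheme.{u}).Modules) (hF : Coh.IsCoh F)
    (hs : ∀ x : ↥U, x ∈ CohB1.support F → (x : X) ∈ T) : Coh.IsCoh ((Coh.push U.ι).obj F) := by
  let P := (Coh.push U.ι).obj F
  let V : X.Opens := ⟨Tᶜ, hT.isOpen_compl⟩
  let W : Bool → X.Opens := fun b => bif b then U else V
  have hW : TopologicalSpace.IsOpenCover W := TopologicalSpace.Opens.ext (Set.eq_univ_of_forall fun x => by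
    rw [SetLike.mem_coe, TopologicalSpace.Opens.mem_iSup]
    by_cases hx : x ∈ T
    · exact ⟨true, hTU hx⟩
    · exact ⟨false, hx⟩)
  have hsupp : CohB1.support P ⊆ T := fun x hx => by
    by_contra hxT
    refine hx (subsingleton_of_forall_eq 0 fun t => ?_)
    obtain ⟨O, hxO, m, rfl⟩ := PullStalk.Sky.exists_germM_eq P x t
    let O' : X.Opens := V ⊓ O
    have h0 : (QCoh.res P (inf_le_right : O' ≤ O) m) = 0 := by
      refine TopCat.Presheaf.section_ext (⟨F.presheaf, F.isSheaf⟩ : TopCat.Sheaf AddCommGrpCat _)
        (U.ι ⁻¹ᵁ O') _ _ fun y hy => ?_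
      have : Subsingleton (F.presheaf.stalk y) := by
        by_contra hn
        exact hy.1 (hs y hn)
      exact Subsingleton.elim _ _
    exact (P.presheaf.germ_res_apply (homOfLE (inf_le_right : O' ≤ O)) x ⟨hxT, hxO⟩ m).symm.trans
      ((congrArg (P.presheaf.germ O' x ⟨hxT, hxO⟩) h0).trans (map_zero _))
  refine PerfTri.Bounded.isCoh_of_cover W hW P fun b => ?_
  cases b
  · refine isCoh_of_isZero (isZero_restrict_of_support V.ι (hsupp.trans ?_))
    rw [Scheme.Opens.range_ι]
    exact fun x hx h => h hx
  · exact isCoh_of_iso (asIso ((Scheme.Modules.restrictAdjunction U.ι).counit.app F)).symm hF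

end Groth.Agent.S0048
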