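import Groth.Statements.S0056
import Groth.Agent.LiftLib.TowerEmbed
import Groth.Agent.LiftLib.AmpleFormal
import Groth.Agent.LiftLib.AlgebraizeSub
import Groth.Agent.TwistFlat.Main
import Groth.Agent.S0799

set_option autoImplicit false
set_option linter.style.haveILetI false
set_option backward.isDefEq.respectTransparency.types false
universe u
open Coherent

namespace Groth.Agent.S0056

open AlgebraicGeometry CategoryTheory CategoryTheory.Limits Groth.Agent in
open scoped Groth.Agent.PicLaw in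
/-- Grothendieck's algebraization Theorem, with a slightly weaker conclusion. Let A be a Noetherian ring
complete for an ideal I, and S_n = Spec(A/I^(n+1)). Given schemes X_n over S_n with transition maps
X_n → X_(n+1) making each X_n the base change of X_(n+1) to S_n, with X_0 → S_0 proper, and
invertible modules L_n on X_n with L_n ≅ (pullback of L_(n+1)) and L_0 ample, there exist a proper Y
→ Spec A, an ample invertible module M on Y and maps X_n → Y, compatible with the transition maps,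
identifying X_n with Y ×_A S_n, under which L_n is isomorphic to the pullback of M. (The published
statement also makes these isomorphisms compatible with the given ones L_n ≅ (pullback of L_(n+1));
that compatibility is not asserted here.) -/
theorem result (A : Type u) [CommRing A]
    [IsNoetherianRing A] (I : Ideal A) [IsAdicComplete I A]
    (Xs : ℕ → Scheme.{u}) (p : (n : ℕ) → (Xs n ⟶ Spec (CommRingCat.of (A ⧸ I ^ (n + 1)))))
    (i : (n : ℕ) → (Xs n ⟶ Xs (n + 1)))
    (hcart : ∀ n, IsPullback (i n) (p n) (p (n + 1)) (CohB1.specQuotTrans I n)) (hp : IsProper (p 0))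
    (L : (n : ℕ) → (Xs n).Modules) (hL : ∀ n, PicF.IsInvertible (L n))
    (φ : ∀ n, Nonempty ((Scheme.Modules.pullback (i n)).obj (L (n + 1)) ≅ L n)) (ha : CohB1.IsAmple (L 0)) :
    ∃ (Y : Scheme.{u}) (g : Y ⟶ Spec (CommRingCat.of A)) (M : Y.Modules) (e : (n : ℕ) → (Xs n ⟶ Y)),
      IsProper g ∧ PicF.IsInvertible M ∧ CohB1.IsAmple M ∧
      (∀ n, IsPullback (e n) (p n) g (CohB1.specQuot I n)) ∧ (∀ n, e n = i n ≫ e (n + 1)) ∧
      ∀ n, Nonempty ((Scheme.Modules.pullback (e n)).obj M ≅ L n) := by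
  let W : FormalFun.Tower A I := ⟨Xs, p, i, hcart⟩
  obtain ⟨d₀, hd₀⟩ := LiftLib.TowerEmbed.exists_embeddings W L hp hL φ ha
  obtain ⟨N₁, e₁, hci₁, hc₁, hq₁, hiso₁⟩ := hd₀ d₀ le_rfl
  obtain ⟨N₂, e₂, hci₂, hc₂, hq₂, hiso₂⟩ := hd₀ (d₀ + 1) d₀.le_succ
  let S : Scheme.{u} := Spec (CommRingCat.of A)
  haveI h1 := ProjProper.Basic.isProper_toBase N₁ S
  haveI h2 := ProjProper.Basic.isProper_toBase N₂ S
  let b₁ := CohB1.ProjSpaceOver.toBase N₁ S
  let b₂ := CohB1.ProjSpaceOver.toBase N₂ S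
  let P : Scheme.{u} := pullback b₁ b₂
  let f : P ⟶ S := pullback.fst b₁ b₂ ≫ b₁
  haveI hfst : IsProper (pullback.fst b₁ b₂) := MorphismProperty.pullback_fst _ _ h2
  haveI hf : IsProper f := inferInstanceAs (IsProper (pullback.fst b₁ b₂ ≫ b₁))
  let E : (k : ℕ) → (W.X k ⟶ P) := fun k => pullback.lift (e₁ k) (e₂ k) ((hq₁ k).trans (hq₂ k).symm)
  have hE₁ : ∀ k, E k ≫ pullback.fst b₁ b₂ = e₁ k := fun k => pullback.lift_fst _ _ _
  have hE₂ : ∀ k, E k ≫ pullback.snd b₁ b₂ = e₂ k := fun k => pullback.lift_snd _ _ _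
  have hcE : ∀ k, W.i k ≫ E (k + 1) = E k := fun k => by
    refine pullback.hom_ext ?_ ?_
    · rw [Category.assoc, hE₁, hE₁, hc₁]
    · rw [Category.assoc, hE₂, hE₂, hc₂]
  have hqE : ∀ k, E k ≫ f = W.q k := fun k => by
    show E k ≫ pullback.fst b₁ b₂ ≫ b₁ = _
    rw [← Category.assoc, hE₁]
    exact hq₁ k
  have hciE : ∀ k, IsClosedImmersion (E k) := fun k => by
    haveI := hci₁ k
    haveI : IsClosedImmersion (E k ≫ pullback.fst b₁ b₂) := by rw [hE₁]; infer_instance
    exact IsClosedImmersion.of_comp (E k) (pullback.fst b₁ b₂)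
  obtain ⟨z, hzι, hzb, hzc⟩ := LiftLib.TowerEmbed.exists_toThick W f E hcE hqE
  haveI : ∀ k, IsClosedImmersion (CohB1.specQuot I k) := fun k =>
    FormalFun.isClosedImmersion_specQuot I k
  haveI : ∀ k, IsClosedImmersion (CohB1.thickι f I k) := fun k =>
    MorphismProperty.pullback_fst f (CohB1.specQuot I k) inferInstance
  have hz : ∀ k, IsClosedImmersion (z k) := fun k => by
    haveI := hciE k
    haveI : IsClosedImmersion (z k ≫ CohB1.thickι f I k) := by rw [hzι]; infer_instance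
    exact IsClosedImmersion.of_comp_isClosedImmersion (z k) (CohB1.thickι f I k)
  letI : P.Over (Spec (CommRingCat.of A)) := ⟨f⟩
  haveI : IsSeparated (P ↘ Spec (CommRingCat.of A)) := inferInstanceAs (IsSeparated f)
  haveI : LocallyOfFiniteType (P ↘ Spec (CommRingCat.of A)) := inferInstanceAs (LocallyOfFiniteType f)
  haveI : QuasiCompact (P ↘ Spec (CommRingCat.of A)) := inferInstanceAs (QuasiCompact f)
  have hp0 : IsProper (z 0 ≫ CohB1.thickToBase f I 0) := by rw [hzb]; exact hp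
  obtain ⟨Y, j, e, hj, hjf, he, hpb⟩ := LiftLib.AlgebraizeSub.algebraize_formal_closed I f
    (fun G hG hGs => S0799.result A I P G hG hGs) Xs z i hz hzc hp0
  have hbase : ∀ n, IsPullback (e n) (p n) (j ≫ f) (CohB1.specQuot I n) := fun n => by
    have h := (hpb n).paste_vert
      (IsPullback.of_hasPullback f (CohB1.specQuot I n) : IsPullback (CohB1.thickι f I n)
        (CohB1.thickToBase f I n) f (CohB1.specQuot I n))
    rwa [hzb] at h
  have hej : ∀ n, e n ≫ j = E n := fun n => (hpb n).w.trans (hzι n)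
  let j₁ := j ≫ pullback.fst b₁ b₂
  let j₂ := j ≫ pullback.snd b₁ b₂
  have hej₁ : ∀ n, e n ≫ j₁ = e₁ n := fun n => by
    show e n ≫ j ≫ _ = _
    rw [← Category.assoc, hej, hE₁]
  have hej₂ : ∀ n, e n ≫ j₂ = e₂ n := fun n => by
    show e n ≫ j ≫ _ = _
    rw [← Category.assoc, hej, hE₂]
  have hO₁ := TwistFlat.isInvertible_twistOver N₁ S 1
  have hO₂ := TwistFlat.isInvertible_twistOver N₂ S 1
  obtain ⟨M, hM, hMc⟩ := PicLaw.exists_cls_eq
    (PicLaw.pl j₂ (PicGrp.cls _ hO₂) * (PicLaw.pl j₁ (PicGrp.cls _ hO₁))⁻¹)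
  have hiso : ∀ n, Nonempty ((Scheme.Modules.pullback (e n)).obj M ≅ L n) := fun n => by
    have hI := AmpleLib.isInvertible_tensorPow (hL n) d₀
    have key : ∀ {N : ℕ} (hO : PicF.IsInvertible (Twist.twistOver N S 1)) (eN : W.X n ⟶ CohB1.ProjSpaceOver N S)
        (jN : Y ⟶ CohB1.ProjSpaceOver N S) (d : ℕ), e n ≫ jN = eN →
        Nonempty (CohB1.tensorPow (L n) d ≅ (Scheme.Modules.pullback eN).obj (Twist.twistOver N S 1)) →
        PicLaw.pl (e n) (PicLaw.pl jN (PicGrp.cls _ hO)) =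
          PicGrp.cls _ (AmpleLib.isInvertible_tensorPow (hL n) d) := by
      intro N hO eN jN d hje hh
      subst hje
      refine (PicLaw.pl_comp _ _ _).symm.trans ?_
      refine ((PicLaw.cls_pullback _ hO).symm.trans ?_)
      exact ((PicLaw.iso_iff _ _).mp hh).symm
    refine (PicLaw.iso_iff (PicLoc.isInvertible_pullback _ hM) (hL n)).mpr ?_
    rw [PicLaw.cls_pullback (e n) hM, ← hMc, map_mul, map_inv, key hO₂ _ _ (d₀ + 1) (hej₂ n) (hiso₂ n),
      key hO₁ _ _ d₀ (hej₁ n) (hiso₁ n), mul_inv_eq_iff_eq_mul]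
    refine (PicLaw.cls_tensor hI (hL n)).trans ?_
    exact mul_comm _ _
  refine ⟨Y, j ≫ f, M, e, hjf, hM, ?_, hbase, he, hiso⟩
  haveI := hjf
  obtain ⟨φ₀⟩ := hiso 0
  exact LiftLib.AmpleFormal.isAmple_of_special I (IsAdicComplete.le_jacobson_bot I) (j ≫ f) (e 0) (p 0)
    (hbase 0) hM (AmpleLib.isAmple_of_iso φ₀.symm ha)

end Groth.Agent.S0056
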