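import Groth.Statements.S0062
import Groth.Agent.FormalFun.AmpleFibre
-- import your own Groth.Agent.* helpers here

set_option autoImplicit false
universe u
open Coherent

namespace Groth.Agent.S0062

open AlgebraicGeometry CategoryTheory in
/-- Let f : X → Y be proper with Y Noetherian, L invertible on X, F coherent on X, and y a point such
that the pullback of L to the fibre X_y is ample. Then there is d₀ such that for all d ≥ d₀ and p >
0 the stalk at y of R^p f_*(F ⊗ L^{⊗d}) vanishes. (The surjectivity assertion on global sections of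
the fibre is not stated.) -/
theorem result {X Y : Scheme.{u}} (f : X ⟶ Y) [IsProper f]
    [IsNoetherian Y] (L : X.Modules) (hL : PicF.IsInvertible L) (M : X.Modules) (hM : Coh.IsCoh M) (y : Y)
    (hy : CohB1.IsAmple ((Scheme.Modules.pullback (f.fiberι y)).obj L)) :
    ∃ d₀ : ℕ, ∀ d : ℕ, d₀ ≤ d → ∀ p : ℕ, 0 < p →
      Limits.IsZero (TopCat.Presheaf.stalk
        ((Coh.RpushAb f p).obj (Coh.toAb (CohB1.tensorMod M (CohB1.tensorPow L d)))).obj y) := by
  let R := Y.presheaf.stalk y
  let X₁ := Limits.pullback f (Y.fromSpecStalk y)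
  let g : X₁ ⟶ X := Limits.pullback.fst _ _
  let : X₁.Over (Spec (CommRingCat.of R)) := ⟨Limits.pullback.snd _ _⟩
  have hsq : IsPullback g (X₁ ↘ Spec (CommRingCat.of R)) f (Y.fromSpecStalk y) :=
    IsPullback.of_hasPullback _ _
  haveI : IsProper (X₁ ↘ Spec (CommRingCat.of R)) := MorphismProperty.of_isPullback hsq ‹IsProper f›
  haveI := FormalFun.isLocallyNoetherian_of_proper R X₁
  haveI := FormalFun.compactSpace_of_proper R X₁
  haveI : IsLocallyNoetherian X := LocallyOfFiniteType.isLocallyNoetherian f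
  haveI : CompactSpace X := QuasiCompact.compactSpace_of_compactSpace f
  haveI : IsNoetherian X := {}
  obtain ⟨e, he⟩ := FormalFun.exists_fiber_iso_fst hsq (IsLocalRing.closedPoint R) y
    Scheme.fromSpecStalk_closedPoint
  haveI := FormalFun.isClosedImmersion_cι R X₁
  haveI : CompactSpace ↥(FormalFun.cfib R X₁) := (FormalFun.cι R X₁).isClosedEmbedding.compactSpace
  have hg : PicF.IsInvertible ((Scheme.Modules.pullback g).obj L) := PicCl.isInvertible_pullback g hL
  have ha : CohB1.IsAmple ((Scheme.Modules.pullback (FormalFun.cι R X₁)).obj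
      ((Scheme.Modules.pullback g).obj L)) :=
    AmpleLib.isAmple_of_iso ((LimTop.compIso e.hom (f.fiberι y) he).app L ≪≫
        ((LimTop.compIso (FormalFun.cι R X₁) g rfl).app L).symm)
      (AmpleLib.isAmple_pullback_of_isInducing e.hom e.hom.homeomorph.isInducing hy)
  obtain ⟨d₀, hd₀⟩ := FormalFun.exists_bound_of_ample_cfib R X₁ hg ha
    (ZClosLib.CohDescent.isCoh_pullback g M hM)
  refine ⟨d₀, fun d hd p hp => ?_⟩
  let N : X.Modules := CohB1.tensorMod M (CohB1.tensorPow L d)
  haveI : N.IsQuasicoherent := (ProjTwist.isCoh_tensor (AmpleLib.isInvertible_tensorPow hL d) hM).1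
  obtain ⟨t⟩ := FormalFun.nonempty_pullback_tensorPow g hL d
  let c : (Scheme.Modules.pullback g).obj N ≅
      (FormalFun.twist ((Scheme.Modules.pullback g).obj L) d).obj ((Scheme.Modules.pullback g).obj M) :=
    KFlat.PullTensor.pullTensorIso g M (CohB1.tensorPow L d) ≪≫ ProjTwist.tensCongr (Iso.refl _) t
  have hH : Subsingleton (Coh.HH X₁ ((Scheme.Modules.pullback g).obj N) p) :=
    FormalFun.subsingleton_HH_iso' c.symm p (hd₀ d hd p hp)
  obtain ⟨e'⟩ := FormalFun.nonempty_stalkEquiv f N y p X₁ g hsq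
  have : Subsingleton (((Coh.Rpush f p).obj N).presheaf.stalk y) := e'.injective.subsingleton
  refine Limits.IsZero.of_iso ?_
    ((TopCat.Presheaf.stalkFunctor AddCommGrpCat.{u} y).mapIso
      ((sheafToPresheaf _ _).mapIso ((ModShf.rpushCompToAb f p).app N).symm))
  exact @AddCommGrpCat.isZero_of_subsingleton _ ‹Subsingleton (((Coh.Rpush f p).obj N).presheaf.stalk y)›

end Groth.Agent.S0062
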