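import Groth.Statements.S0063
import Mathlib.AlgebraicGeometry.Morphisms.FormallyUnramified
import Mathlib.AlgebraicGeometry.Morphisms.Separated
import Mathlib.AlgebraicGeometry.ResidueField

set_option autoImplicit false
open CategoryTheory CategoryTheory.Limits AlgebraicGeometry Opposite
universe u
open EtBase

namespace Groth.Agent.S0063

/-- Rigidity of maps into an unramified separated scheme — two maps from a connected scheme over the
base that agree at one point, including on residue fields, coincide. -/
theorem result {X S Y : Scheme.{u}} (π : X ⟶ S)
    [FormallyUnramified π] [LocallyOfFiniteType π] [IsSeparated π]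
    (h : Y ⟶ S) [ConnectedSpace Y] (f g : Y ⟶ X) (hf : f ≫ π = h) (hg : g ≫ π = h)
    (y : Y) (hy : Y.fromSpecResidueField y ≫ f = Y.fromSpecResidueField y ≫ g) : f = g := by
  let E := pullback (pullback.diagonal π) (pullback.lift f g (hf.trans hg.symm))
  let e : E ⟶ Y := pullback.snd _ _
  have : IsOpenImmersion e := MorphismProperty.pullback_snd _ _ inferInstance
  have : IsClosedImmersion e := inferInstance
  have hfst : e ≫ f = pullback.fst _ _ := by
    have := congrArg (· ≫ pullback.fst π π)
      (pullback.condition (f := pullback.diagonal π) (g := pullback.lift f g (hf.trans hg.symm)))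
    simpa [pullback.lift_fst, e] using this.symm
  have hsnd : e ≫ g = pullback.fst _ _ := by
    have := congrArg (· ≫ pullback.snd π π)
      (pullback.condition (f := pullback.diagonal π) (g := pullback.lift f g (hf.trans hg.symm)))
    simpa [pullback.lift_snd, e] using this.symm
  have hy' : y ∈ Set.range e := by
    let l : Spec (Y.residueField y) ⟶ E := pullback.lift (Y.fromSpecResidueField y ≫ f)
      (Y.fromSpecResidueField y) (by
        apply pullback.hom_ext
        · simp only [Category.assoc, pullback.diagonal_fst, Category.comp_id]
          exact congrArg (Y.fromSpecResidueField y ≫ ·) (pullback.lift_fst f g _).symm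
        · simp only [Category.assoc, pullback.diagonal_snd, Category.comp_id]
          exact hy.trans (congrArg (Y.fromSpecResidueField y ≫ ·) (pullback.lift_snd f g _).symm))
    refine ⟨l (IsLocalRing.closedPoint _), ?_⟩
    exact (congrArg (fun k : Spec (Y.residueField y) ⟶ Y => k (IsLocalRing.closedPoint _))
      (pullback.lift_snd _ _ _)).trans (Y.fromSpecResidueField_apply y _)
  have hr : Set.range e = Set.univ :=
    IsClopen.eq_univ ⟨e.isClosedEmbedding.isClosed_range, e.isOpenEmbedding.isOpen_range⟩ ⟨y, hy'⟩
  have : Surjective e := ⟨fun z => hr.ge (Set.mem_univ z)⟩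
  have : IsIso e := (isIso_iff_isOpenImmersion_and_surjective e).2 ⟨inferInstance, inferInstance⟩
  rw [← cancel_epi e, hfst, hsnd]

end Groth.Agent.S0063
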