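import Groth.Statements.S0064
import Mathlib.AlgebraicGeometry.Morphisms.FormallyUnramified
import Mathlib.AlgebraicGeometry.Noetherian
import Mathlib.Topology.NoetherianSpace

set_option autoImplicit false
open CategoryTheory CategoryTheory.Limits AlgebraicGeometry Opposite
universe u
open EtBase

namespace Groth.Agent.S0064

/-- A Noetherian space has finitely many clopen subsets. -/
theorem finite_isClopen (T : Type u) [TopologicalSpace T] [TopologicalSpace.NoetherianSpace T] :
    {U : Set T | IsClopen U}.Finite := by
  have hfin : (irreducibleComponents T).Finite := TopologicalSpace.NoetherianSpace.finite_irreducibleComponents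
  refine Set.Finite.of_finite_image (f := fun U => {C ∈ irreducibleComponents T | C ⊆ U}) ?_ ?_
  · refine hfin.finite_subsets.subset ?_
    rintro _ ⟨U, -, rfl⟩
    exact fun C hC => hC.1
  · intro U hU V hV e
    have key : ∀ {U : Set T}, IsClopen U → ∀ x, x ∈ U ↔ irreducibleComponent x ⊆ U := fun {U} hU x =>
      ⟨fun hx => isIrreducible_irreducibleComponent.isConnected.isPreconnected.subset_isClopen hU
        ⟨x, mem_irreducibleComponent, hx⟩, fun h => h mem_irreducibleComponent⟩
    ext x
    have hx : ∀ W : Set T, irreducibleComponent x ⊆ W ↔
        irreducibleComponent x ∈ {C ∈ irreducibleComponents T | C ⊆ W} := fun W =>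
      ⟨fun h => ⟨irreducibleComponent_mem_irreducibleComponents x, h⟩, fun h => h.2⟩
    rw [key hU, key hV, hx U, hx V]
    exact Set.ext_iff.1 e _

/-- Let S be a Noetherian scheme, X → S a quasi-compact, separated, unramified morphism (formally
unramified and locally of finite type), and Y a Noetherian scheme with a morphism Y → S. Then there
are only finitely many S-morphisms Y → X. The published statement does not assume X → S separated;
it is stated here in the separated case. -/
theorem result {X S Y : Scheme.{u}} [IsNoetherian S] [IsNoetherian Y]
    (π : X ⟶ S) [FormallyUnramified π] [LocallyOfFiniteType π] [QuasiCompact π] [IsSeparated π]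
    (h : Y ⟶ S) : Set.Finite {f : Y ⟶ X | f ≫ π = h} := by
  classical
  let P := pullback h π
  let q : P ⟶ Y := pullback.fst h π
  have : LocallyOfFiniteType q := inferInstance
  have : QuasiCompact q := inferInstance
  have : IsLocallyNoetherian P := LocallyOfFiniteType.isLocallyNoetherian q
  have : CompactSpace P := QuasiCompact.compactSpace_of_compactSpace q
  have : IsNoetherian P := {}
  let sec : {f : Y ⟶ X | f ≫ π = h} → (Y ⟶ P) := fun f => pullback.lift (𝟙 Y) f.1 (by rw [Category.id_comp]; exact f.2.symm)
  have hq : ∀ f, sec f ≫ q = 𝟙 Y := fun f => pullback.lift_fst _ _ _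
  have hc : ∀ f, IsClosedImmersion (sec f) := fun f => by
    have : IsClosedImmersion (sec f ≫ q) := by rw [hq f]; infer_instance
    exact IsClosedImmersion.of_comp (sec f) q
  have hle : (@FormallyUnramified ⊓ @LocallyOfFiniteType : MorphismProperty Scheme.{u}) ≤
      MorphismProperty.diagonal @IsOpenImmersion := fun A B g hg => by
    have := hg.1
    have := hg.2
    exact inferInstanceAs (IsOpenImmersion (pullback.diagonal g))
  have hfu : MorphismProperty.IsStableUnderBaseChange (@FormallyUnramified.{u}) :=
    HasRingHomProperty.isStableUnderBaseChange RingHom.FormallyUnramified.isStableUnderBaseChange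
  have : (@FormallyUnramified ⊓ @LocallyOfFiniteType : MorphismProperty Scheme.{u}).IsStableUnderBaseChange :=
    MorphismProperty.IsStableUnderBaseChange.inf
  have : FormallyUnramified q := hfu.of_isPullback (IsPullback.of_hasPullback h π).flip ‹FormallyUnramified π›
  have : MorphismProperty.HasOfPostcompProperty (@IsOpenImmersion : MorphismProperty Scheme.{u})
      (@FormallyUnramified ⊓ @LocallyOfFiniteType) := MorphismProperty.hasOfPostcompProperty_iff_le_diagonal.2 hle
  have ho : ∀ f, IsOpenImmersion (sec f) := fun f =>
    MorphismProperty.of_postcomp (@IsOpenImmersion : MorphismProperty Scheme.{u}) (sec f) q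
      (W' := @FormallyUnramified ⊓ @LocallyOfFiniteType) ⟨inferInstance, inferInstance⟩
      (by rw [hq f]; infer_instance)
  have hinj : Function.Injective (fun f => Set.range (sec f)) := fun f g e => by
    have := ho f
    have := ho g
    have e2 : (IsOpenImmersion.isoOfRangeEq (sec f) (sec g) e).hom ≫ sec g = sec f :=
      IsOpenImmersion.isoOfRangeEq_hom_fac _ _ _
    have e3 := congrArg (· ≫ q) e2
    simp only [Category.assoc, hq, Category.comp_id] at e3
    rw [e3, Category.id_comp] at e2
    apply Subtype.ext
    have := congrArg (· ≫ pullback.snd h π) e2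
    simp only [sec, pullback.lift_snd] at this
    exact this.symm
  have : Finite {U : Set P // IsClopen U} := (finite_isClopen P).to_subtype
  refine (Set.finite_coe_iff).1 (Finite.of_injective
    (fun f => (⟨Set.range (sec f), (sec f).isClosedEmbedding.isClosed_range,
      (have := ho f; (sec f).isOpenEmbedding.isOpen_range)⟩ : {U : Set P // IsClopen U})) ?_)
  · exact fun f g e => hinj (congrArg Subtype.val e)

end Groth.Agent.S0064
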