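import Groth.Statements.S0068
import Groth.Agent.EtaleSite.PushImage

set_option autoImplicit false
open CategoryTheory CategoryTheory.Limits AlgebraicGeometry Opposite
universe u
open EtBase

namespace Groth.Agent.S0068

/-- Part (2), second half — an abelian étale sheaf is a pushforward from a closed subscheme exactly when
its sections vanish over every étale scheme mapping into the open complement. -/
theorem result {Z X : Scheme.{u}} (i : Z ⟶ X) [IsClosedImmersion i] [EtCoh.BCCont i]
    (F : EtCoh.Ab X) :
    (EtCoh.push i).essImage F ↔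
      ∀ U : X.Etale, Disjoint (Set.range U.hom.base) (Set.range i.base) → IsZero (F.obj.obj (op U)) := by
  constructor
  · rintro ⟨G, ⟨e⟩⟩ U hU
    have : IsEmpty ↥((EtCoh.bc i).obj U).left := ⟨fun x => by
      have hx : U.hom (pullback.fst U.hom i x) = i (pullback.snd U.hom i x) :=
        congrArg (fun k : pullback U.hom i ⟶ X => k x) pullback.condition
      exact Set.disjoint_left.1 hU ⟨_, rfl⟩ ⟨_, hx.symm⟩⟩
    have := Groth.Agent.EtaleSite.sect_subsingleton_of_isEmpty G ((EtCoh.bc i).obj U)
    have h0 : IsZero (((EtCoh.push i).obj G).obj.obj (op U)) :=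
      @AddCommGrpCat.isZero_of_subsingleton _ this
    exact h0.of_iso (((sheafToPresheaf _ _).mapIso e).app (op U)).symm
  · intro h
    refine (Groth.Agent.EtaleSite.essImage_push_iff i F).2 ?_
    rintro y ⟨Ω, _, _, η, hη, hne⟩
    by_contra hy
    refine hne ?_
    suffices ∀ p : (EtCoh.stalk η).obj F, p = 0 from
      @AddCommGrpCat.isZero_of_subsingleton _ ⟨fun a b => (this a).trans (this b).symm⟩
    intro p
    obtain ⟨V, φ, s, rfl⟩ := Groth.Agent.EtaleSite.exists_germ_eq η F p
    let W : V.left.Opens := ⟨V.hom ⁻¹' (Set.range i.base)ᶜ,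
      i.isClosedEmbedding.isClosed_range.isOpen_compl.preimage V.hom.continuous⟩
    let φl : Spec (CommRingCat.of Ω) ⟶ V.left := Over.Hom.left φ
    let j : (W : Scheme.{u}) ⟶ V.left := W.ι
    have hW : Set.range φl ⊆ Set.range j := by
      refine subset_of_subset_of_eq ?_ (Scheme.Opens.range_ι W).symm
      rintro _ ⟨o, rfl⟩
      have ho : V.hom (φl o) = η o :=
        congrArg (fun k : Spec (CommRingCat.of Ω) ⟶ X => k o) (Over.w φ)
      show V.hom _ ∈ (Set.range i.base)ᶜ
      rw [ho, show η o = y from hη.le ⟨_, rfl⟩]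
      exact hy
    let l : Spec (CommRingCat.of Ω) ⟶ (W : Scheme.{u}) := IsOpenImmersion.lift j φl hW
    have hl : l ≫ j = φl := IsOpenImmersion.lift_fac _ _ _
    let φ' : (Scheme.pointSmallEtale η).fiber.obj (Groth.Agent.EtaleSite.piece V W) :=
      (Over.homMk l ((Category.assoc _ _ _).symm.trans
          ((congrArg (· ≫ V.hom) hl).trans (Over.w φ))) :
        Over.mk η ⟶ (Scheme.Etale.forget X).obj (Groth.Agent.EtaleSite.piece V W))
    have hz := h (Groth.Agent.EtaleSite.piece V W) (Set.disjoint_left.2 (by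
      rintro _ ⟨w, rfl⟩ hw
      exact w.2 hw))
    have := AddCommGrpCat.subsingleton_of_isZero hz
    rw [← show (Scheme.pointSmallEtale η).fiber.map (Groth.Agent.EtaleSite.pieceHom V W) φ' = φ from
      Over.OverMorphism.ext hl, ← Groth.Agent.EtaleSite.germ_res,
      Subsingleton.elim (F.obj.map (Groth.Agent.EtaleSite.pieceHom V W).op s) 0, map_zero]

end Groth.Agent.S0068
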