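import Groth.Statements.S0071
import Groth.Agent.EtaleSite.PushIntegral
import Groth.Prelude.Def_EtBase

set_option autoImplicit false
open CategoryTheory CategoryTheory.Limits AlgebraicGeometry Opposite
universe u
open EtBase

namespace Groth.Agent.S0071

/-- Part (2) — higher direct images of an abelian étale sheaf along a finite morphism vanish in positive
degrees. -/
theorem result {X Y : Scheme.{u}} (f : X ⟶ Y) [IsFinite f] [EtCoh.BCCont f]
    (F : EtCoh.Ab X) (q : ℕ) (hq : 1 ≤ q) : IsZero ((EtCoh.Rpush f q).obj F) := by
  obtain ⟨n, rfl⟩ := Nat.exists_eq_add_of_le hq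
  rw [Nat.add_comm]
  have : PreservesFiniteColimits (EtCoh.push f) :=
    Groth.Agent.EtaleSite.preservesFiniteColimits_push f
  have : PreservesFiniteLimits (EtCoh.push f) :=
    have : PreservesLimitsOfSize.{0, 0} (EtCoh.push f) :=
      (EtCoh.pullPushAdj f).rightAdjoint_preservesLimits
    PreservesLimitsOfSize.preservesFiniteLimits _
  let I := injectiveResolution F
  refine IsZero.of_iso ?_ (I.isoRightDerivedObj (EtCoh.push f) (n + 1))
  refine (HomologicalComplex.exactAt_iff_isZero_homology _ _).1 ?_
  exact (I.cocomplex_exactAt_succ n).map (EtCoh.push f)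

end Groth.Agent.S0071
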