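import Groth.Statements.S0072
import Groth.Agent.EtaleSite.PushImage
import Mathlib.Algebra.Category.Grp.Limits
import Mathlib.Algebra.Category.Grp.Biproducts

set_option autoImplicit false
open CategoryTheory CategoryTheory.Limits AlgebraicGeometry Opposite
universe u
open EtBase

namespace Groth.Agent.S0072

/-- Let f : X → Y be a finite morphism of schemes, F an abelian sheaf on X_ét, and η : Spec Ω → Y a
geometric point with Ω algebraically closed. Then the stalk (f_*F)_η is isomorphic to the direct sum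
of the stalks F_ξ over the geometric points ξ : Spec Ω → X lying over η (those with f ∘ ξ = η). Only
the existence of an isomorphism is asserted; the published statement gives a canonical
identification. -/
theorem result {X Y : Scheme.{u}} (f : X ⟶ Y) [IsFinite f] [EtCoh.BCCont f]
    (F : EtCoh.Ab X) {Ω : Type u} [Field Ω] [IsAlgClosed Ω] (η : Spec (CommRingCat.of Ω) ⟶ Y) :
    Nonempty ((EtCoh.stalk η).obj ((EtCoh.push f).obj F) ≅
      ∐ fun ξ : {ξ : Spec (CommRingCat.of Ω) ⟶ X // ξ ≫ f = η} => (EtCoh.stalk ξ.1).obj F) := by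
  classical
  let P := {ξ : Spec (CommRingCat.of Ω) ⟶ X // ξ ≫ f = η}
  have : Finite P := Groth.Agent.EtaleSite.finite_points f η
  let M := fun ξ : P => (EtCoh.stalk ξ.1).obj F
  let c : (EtCoh.stalk η).obj ((EtCoh.push f).obj F) ⟶ ∏ᶜ M :=
    Pi.lift fun ξ => Groth.Agent.EtaleSite.cmpAt f ξ.1 ξ.2 F
  have hc : ∀ p (ξ : P), Pi.π M ξ (c p) = Groth.Agent.EtaleSite.cmpAt f ξ.1 ξ.2 F p :=
    fun p ξ => by
      have h1 : c ≫ Pi.π M ξ = Groth.Agent.EtaleSite.cmpAt f ξ.1 ξ.2 F := Pi.lift_π _ ξ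
      rw [← h1]
      rfl
  have : IsIso c := by
    rw [ConcreteCategory.isIso_iff_bijective]
    constructor
    · rw [injective_iff_map_eq_zero]
      intro p hp
      refine Groth.Agent.EtaleSite.eq_zero_of_cmpAt f η F p fun ξ hξ => ?_
      rw [← hc p ⟨ξ, hξ⟩, hp, map_zero]
    · intro q
      obtain ⟨p, hp⟩ := Groth.Agent.EtaleSite.exists_cmpAt_eq f η F fun ξ => Pi.π M ξ q
      refine ⟨p, Concrete.limit_ext _ _ _ fun ⟨ξ⟩ => ?_⟩
      exact (hc p ξ).trans (hp ξ)
  have : HasBiproduct M := HasBiproductsOfShape.has_biproduct M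
  exact ⟨asIso c ≪≫ (biproduct.isoProduct M).symm ≪≫ biproduct.isoCoproduct M⟩

end Groth.Agent.S0072
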