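import Groth.Statements.S0075
import Groth.Agent.S5115
import Groth.Agent.EtaleSite.TopInvGlue
import Groth.Agent.SGA1Desc.SubtrEff

set_option autoImplicit false
open CategoryTheory CategoryTheory.Limits AlgebraicGeometry Opposite
universe u
open EtBase

namespace Groth.Agent.S0075

section
set_option backward.isDefEq.respectTransparency false
set_option backward.isDefEq.respectTransparency.types false

/-- Integral surjections are universally S-subtrusive: specializations lift along closed maps. -/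
theorem univSSubtrusive {X Y : Scheme.{u}} (f : X ⟶ Y) [IsIntegralHom f] [Surjective f] :
    Subtr.UnivSSubtrusive f := by
  intro A B a b q hq y y' hy
  haveI : IsIntegralHom q := MorphismProperty.of_isPullback hq.flip ‹IsIntegralHom f›
  haveI : Surjective q := MorphismProperty.of_isPullback hq.flip ‹Surjective f›
  obtain ⟨x', rfl⟩ := q.surjective y'
  have hc : y ∈ q '' closure {x'} :=
    closure_minimal (Set.singleton_subset_iff.2 (Set.mem_image_of_mem _ (subset_closure (Set.mem_singleton x'))))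
      (q.isClosedMap _ isClosed_closure) (specializes_iff_mem_closure.1 hy)
  obtain ⟨x, hx, rfl⟩ := hc
  exact ⟨x, x', specializes_iff_mem_closure.2 hx, rfl, rfl⟩

theorem exists_lift_nhd {X Y : Scheme.{u}} (f : X ⟶ Y) [IsIntegralHom f] [UniversallyInjective f]
    [Surjective f] (U : X.Etale) (u : U.left) :
    ∃ (V : Y.Etale) (k : pullback V.hom f ⟶ U.left), k ≫ U.hom = pullback.snd V.hom f ∧
      IsOpenImmersion k ∧ u ∈ Set.range k := by
  haveI : AlgebraicGeometry.Etale U.hom := U.prop
  obtain ⟨V, hV, hfV, -⟩ := exists_isAffineOpen_mem_and_subset (x := f (U.hom u)) (U := ⊤) trivial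
  obtain ⟨W, hW, huW, hWV⟩ := exists_isAffineOpen_mem_and_subset (x := u)
    (U := U.hom ⁻¹ᵁ f ⁻¹ᵁ V) hfV
  let g := f ∣_ V
  haveI : IsIntegralHom g := IsZariskiLocalAtTarget.restrict ‹IsIntegralHom f› V
  haveI : UniversallyInjective g := IsZariskiLocalAtTarget.restrict ‹UniversallyInjective f› V
  haveI : Surjective g := IsZariskiLocalAtTarget.restrict ‹Surjective f› V
  haveI : IsAffine (W : Scheme.{u}) := hW
  haveI : IsAffine ((f ⁻¹ᵁ V : X.Opens) : Scheme.{u}) := hV.preimage f
  let w : (W : Scheme.{u}) ⟶ (f ⁻¹ᵁ V : X.Opens) :=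
    IsOpenImmersion.lift (f ⁻¹ᵁ V).ι (W.ι ≫ U.hom) (by
      rw [Scheme.Opens.range_ι]
      rintro _ ⟨z, rfl⟩
      exact hWV z.2)
  have hw : w ≫ (f ⁻¹ᵁ V).ι = W.ι ≫ U.hom := IsOpenImmersion.lift_fac _ _ _
  haveI : AlgebraicGeometry.Etale (w ≫ (f ⁻¹ᵁ V).ι) := by rw [hw]; infer_instance
  haveI : AlgebraicGeometry.Etale w := Etale.of_comp w (f ⁻¹ᵁ V).ι
  let Wo : Over ((f ⁻¹ᵁ V : X.Opens) : Scheme.{u}) := Over.mk w
  haveI : AlgebraicGeometry.Etale Wo.hom := ‹AlgebraicGeometry.Etale w›
  let D := Groth.Agent.S5115.datum g Wo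
  haveI : AlgebraicGeometry.Etale D.obj.hom := ‹AlgebraicGeometry.Etale w›
  haveI : IsSeparated D.obj.hom := inferInstanceAs (IsSeparated w)
  haveI : QuasiCompact D.obj.hom := inferInstanceAs (QuasiCompact w)
  obtain ⟨E⟩ := Groth.Agent.SGA1Desc.exists_eff_of_univSSubtrusive D (univSSubtrusive g)
  haveI := E.etale
  let pr : pullback (w ≫ g) (𝟙 (V : Scheme.{u})) ⟶ (W : Scheme.{u}) := pullback.fst _ _
  haveI : IsIso pr := inferInstanceAs (IsIso (pullback.fst (w ≫ g) (𝟙 (V : Scheme.{u}))))
  have h1 : IsPullback E.q (pr ≫ w) E.str g := by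
    have h := E.isPullback
    rw [Category.comp_id] at h
    exact h
  have h2 := h1.paste_vert (isPullback_morphismRestrict f V)
  let e := h2.isoPullback
  refine ⟨Scheme.Etale.mk (E.str ≫ V.ι), e.inv ≫ pr ≫ W.ι, ?_, inferInstance, ?_⟩
  · show (e.inv ≫ pr ≫ W.ι) ≫ U.hom = pullback.snd (E.str ≫ V.ι) f
    refine Eq.trans ?_ h2.isoPullback_inv_snd
    simp only [Category.assoc]
    exact congrArg (fun t => e.inv ≫ pr ≫ t) hw.symm
  · refine ⟨e.hom ((asIso pr).inv ⟨u, huW⟩), ?_⟩
    change (e.hom ≫ e.inv ≫ pr ≫ W.ι) ((asIso pr).inv ⟨u, huW⟩) = u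
    rw [e.hom_inv_id_assoc]
    change W.ι (((asIso pr).inv ≫ (asIso pr).hom) ⟨u, huW⟩) = u
    rw [Iso.inv_hom_id]
    rfl

end

/-- Topological invariance of the small étale site — base change along an integral, universally
injective, surjective morphism (a universal homeomorphism) is an equivalence between the categories
of étale schemes. -/
theorem result {X Y : Scheme.{u}} (f : X ⟶ Y) [IsIntegralHom f] [UniversallyInjective f]
    [Surjective f] : (EtCoh.bc f).IsEquivalence := by
  exact Groth.Agent.EtaleSite.isEquivalence_bc f fun U u => exists_lift_nhd f U u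

end Groth.Agent.S0075
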