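import Groth.Statements.S0089
import Groth.Agent.EtSection.Split
import Groth.Agent.EtSection.NormalSH
import Mathlib.AlgebraicGeometry.FunctionField

set_option autoImplicit false
open CategoryTheory CategoryTheory.Limits AlgebraicGeometry Opposite
universe u
open EtBase

namespace Groth.Agent.S0089

/-- Part (1) — over an integral normal scheme whose function field is separably closed, any separated
étale scheme is a disjoint union of open subschemes of the base. -/
theorem result {U X : Scheme.{u}} [IsIntegral X] (hN : ∀ x : X, IsIntegrallyClosed (X.presheaf.stalk x))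
    [IsSepClosed X.functionField] (g : U ⟶ X) [AlgebraicGeometry.Etale g] [IsSeparated g] :
    ∃ (ι : Type u) (V : ι → X.Opens) (e : (∐ fun i => (V i : Scheme.{u})) ≅ U),
      ∀ i, Sigma.ι (fun i => (V i : Scheme.{u})) i ≫ e.hom ≫ g = (V i).ι := by
  obtain ⟨ι, V, e, -, he⟩ := Groth.Agent.EtSection.exists_split g fun x => by
    haveI := hN x
    exact Groth.Agent.EtSection.isStrictlyHenselian_of_normal (R := X.presheaf.stalk x) X.functionField
  exact ⟨ι, V, e, he⟩

end Groth.Agent.S0089
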