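import Groth.Statements.S0096
import Groth.Agent.S9556
import Mathlib.AlgebraicGeometry.Limits


set_option autoImplicit false
open CategoryTheory CategoryTheory.Limits AlgebraicGeometry Opposite
universe u
open EtBase

namespace Groth.Agent.S0096

/-- A finite unramified morphism becomes, after base change to a suitable étale neighbourhood of any
point of the base, a finite disjoint union of closed immersions. -/
theorem result {X S : Scheme.{u}} (f : X ⟶ S) [IsFinite f] [FormallyUnramified f] (s : S) :
    ∃ (U : Scheme.{u}) (g : U ⟶ S) (_ : AlgebraicGeometry.Etale g) (u : U) (_ : g.base u = s)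
      (n : ℕ) (V : Fin n → Scheme.{u}) (c : ∀ j, V j ⟶ U) (_ : ∀ j, IsClosedImmersion (c j))
      (e : (∐ V) ≅ pullback f g), ∀ j, Sigma.ι V j ≫ e.hom ≫ pullback.snd f g = c j := by
  classical
  have hfin : (f.base ⁻¹' {s}).Finite := f.finite_preimage_singleton s
  obtain ⟨m, ⟨em⟩⟩ := @Finite.exists_equiv_fin _ hfin.to_subtype
  let x : Fin m → X := fun i => (em.symm i).1
  have hinj : Function.Injective x := Subtype.val_injective.comp em.symm.injective
  obtain ⟨U, g, u, hg, hgu, K, hK, W, V, hcov, hWV, hVV, hV, hW⟩ :=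
    S9556.result f s x hinj (fun i => (em.symm i).2)
      (fun i => ⟨⊤, trivial, inferInstance, MorphismProperty.comp_mem _ _ _ inferInstance ‹FormallyUnramified f›⟩)
  let q := pullback.snd f g
  have : IsFinite q := MorphismProperty.pullback_snd _ _ ‹_›
  have hWc : IsClosed (W : Set ↑(pullback f g)) := by
    have e : (W : Set ↑(pullback f g))ᶜ = ⋃ k, (V k : Set ↑(pullback f g)) := by
      ext w
      simp only [Set.mem_compl_iff, SetLike.mem_coe, Set.mem_iUnion]
      refine ⟨fun hw => ?_, ?_⟩
      · rcases TopologicalSpace.Opens.mem_sup.1 (hcov.ge (TopologicalSpace.Opens.mem_top w)) with h | h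
        · exact absurd h hw
        · exact TopologicalSpace.Opens.mem_iSup.1 h
      · rintro ⟨k, hk⟩ hw
        exact (hWV k).le_bot ⟨hw, hk⟩
    refine isOpen_compl_iff.1 ?_
    rw [e]
    exact isOpen_iUnion fun k => (V k).2
  have hq : IsClosed (q.base '' (W : Set ↑(pullback f g))) := q.isClosedMap _ hWc
  let U' : U.Opens := ⟨(q.base '' (W : Set ↑(pullback f g)))ᶜ, hq.isOpen_compl⟩
  have huU : u ∈ U' := by
    rintro ⟨w, hwW, hwu⟩
    have hfw : f.base ((pullback.fst f g).base w) = s := by
      rw [← hgu, ← hwu]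
      exact (Scheme.Hom.comp_apply _ _ w).symm.trans
        ((congrArg (fun (φ : pullback f g ⟶ S) => φ.base w) pullback.condition).trans
          (Scheme.Hom.comp_apply _ _ w))
    exact hW w (em ⟨_, hfw⟩) hwW hwu (by simp [x])
  let P := pullback q U'.ι
  let j : P ⟶ pullback f g := pullback.fst q U'.ι
  let V' : K → P.Opens := fun k => j ⁻¹ᵁ V k
  have hc : ∀ k, IsClosedImmersion ((V' k).ι ≫ pullback.snd q U'.ι) := fun k =>
    MorphismProperty.of_isPullback (P := @IsClosedImmersion)
      ((isPullback_morphismRestrict j (V k)).paste_vert (IsPullback.of_hasPullback q U'.ι)) (hV k).1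
  obtain ⟨n, ⟨en⟩⟩ := Finite.exists_equiv_fin K
  have hjW : ∀ y : P, j y ∉ W := fun y hy => (pullback.snd q U'.ι y).2 ⟨j y, hy,
    (Scheme.Hom.comp_apply _ _ y).symm.trans ((congrArg (fun (φ : P ⟶ U) => φ y) pullback.condition).trans
      (Scheme.Hom.comp_apply _ _ y))⟩
  have hcov' : ⨆ i : Fin n, ((V' (en.symm i)).ι).opensRange = ⊤ := by
    refine top_le_iff.1 fun y _ => ?_
    rcases TopologicalSpace.Opens.mem_sup.1 (hcov.ge (TopologicalSpace.Opens.mem_top (j y))) with h | h
    · exact absurd h (hjW y)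
    · obtain ⟨k, hk⟩ := TopologicalSpace.Opens.mem_iSup.1 h
      exact TopologicalSpace.Opens.mem_iSup.2 ⟨en k, by simpa [V'] using hk⟩
  have hdisj : Pairwise (Function.onFun Disjoint fun i : Fin n => ((V' (en.symm i)).ι).opensRange) := by
    intro a b hab
    simp only [Function.onFun, Scheme.Opens.opensRange_ι]
    refine disjoint_iff_inf_le.2 fun y hy => ?_
    exact ((hVV _ _ (en.symm.injective.ne hab)).le_bot (show j y ∈ V (en.symm a) ⊓ V (en.symm b) from hy)).elim
  obtain ⟨hcol⟩ := nonempty_isColimit_cofanMk_of (fun i : Fin n => (V' (en.symm i)).ι) hcov' hdisj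
  let e : (∐ fun i : Fin n => (V' (en.symm i)).toScheme) ≅ pullback f (U'.ι ≫ g) :=
    (colimit.isColimit _).coconePointUniqueUpToIso hcol ≪≫ pullbackLeftPullbackSndIso f g U'.ι
  refine ⟨U'.toScheme, U'.ι ≫ g, inferInstance, ⟨u, huU⟩, ?_, n,
    fun i => (V' (en.symm i)).toScheme, fun i => (V' (en.symm i)).ι ≫ pullback.snd q U'.ι,
    fun i => hc _, e, fun i => ?_⟩
  · exact (Scheme.Hom.comp_apply _ _ _).trans hgu
  · simp only [e, Iso.trans_hom, Category.assoc, pullbackLeftPullbackSndIso_hom_snd]
    rw [← Category.assoc]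
    congr 1
    exact (colimit.isColimit _).comp_coconePointUniqueUpToIso_hom hcol ⟨i⟩

end Groth.Agent.S0096
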