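import Groth.Statements.S0098
import Groth.Agent.EtaleSite.OnePointFibre
import Mathlib.AlgebraicGeometry.Morphisms.FlatMono


set_option autoImplicit false
open CategoryTheory CategoryTheory.Limits AlgebraicGeometry Opposite
universe u
open EtBase

namespace Groth.Agent.S0098

/-- A finite étale morphism whose fibre over a point s is a single point with the same residue field is
an isomorphism over an open neighbourhood of s. -/
theorem result {X S : Scheme.{u}} (f : X ⟶ S) [IsFinite f] [AlgebraicGeometry.Etale f] (s : S) (x : X)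
    (hx : f.base ⁻¹' {s} = {x}) (hκ : Function.Surjective (f.residueFieldMap x)) :
    ∃ U : S.Opens, s ∈ U ∧ IsIso (f ∣_ U) := by
  obtain ⟨U, hsU, hU⟩ := EtaleSite.OnePointFibre.exists_nhd_isClosedImmersion f s x hx hκ
  have : AlgebraicGeometry.Etale (f ∣_ U) :=
    MorphismProperty.of_isPullback (P := @AlgebraicGeometry.Etale)
      (isPullback_morphismRestrict f U).flip ‹_›
  have hoi : IsOpenImmersion (f ∣_ U) := IsOpenImmersion.of_flat_of_mono _
  let V := (f ∣_ U).opensRange
  have hxs : f.base x = s := by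
    have : x ∈ f.base ⁻¹' {s} := by rw [hx]; rfl
    exact this
  refine ⟨U.ι ''ᵁ V, ⟨⟨s, hsU⟩, ⟨⟨x, show f.base x ∈ U by rw [hxs]; exact hsU⟩, ?_⟩, rfl⟩, ?_⟩
  · exact Subtype.ext ((morphismRestrict_base_coe f U _).trans hxs)
  · have h : IsIso (f ∣_ U ∣_ V) := by
      rw [isIso_iff_isOpenImmersion_and_surjective]
      refine ⟨inferInstance, ⟨fun y => ?_⟩⟩
      obtain ⟨z, hz⟩ := y.2
      refine ⟨⟨z, show (f ∣_ U) z ∈ V from ⟨z, rfl⟩⟩, ?_⟩
      rw [morphismRestrict_base]
      exact Subtype.ext hz
    exact ((MorphismProperty.isomorphisms Scheme).arrow_mk_iso_iff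
      (morphismRestrictRestrict f U V)).1 h

end Groth.Agent.S0098
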