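import Groth.Statements.S0102
import Groth.Agent.EtaleSite.Points

set_option autoImplicit false
open CategoryTheory CategoryTheory.Limits AlgebraicGeometry Opposite
universe u
open EtBase

namespace Groth.Agent.S0102

/-- A section of an abelian étale sheaf over an étale scheme U vanishes on pullback to an étale V → U
exactly when V maps into a certain largest open subset of U. -/
theorem result {S : Scheme.{u}} (F : EtCoh.Ab S) (U : S.Etale) (σ : EtCoh.sect F U) :
    ∃ W : U.left.Opens, ∀ (V : S.Etale) (φ : V ⟶ U),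
      F.obj.map φ.op σ = 0 ↔ Set.range φ.left.base ⊆ (W : Set U.left) := by
  refine ⟨⨆ (V : {p : (V : S.Etale) × (V ⟶ U) // F.obj.map p.2.op σ = 0}),
    (⟨Set.range V.1.2.left, V.1.2.left.isOpenMap.isOpen_range⟩ : U.left.Opens), fun V φ => ⟨fun h => ?_, fun h => ?_⟩⟩
  · intro x hx
    exact TopologicalSpace.Opens.mem_iSup.2 ⟨⟨⟨V, φ⟩, h⟩, hx⟩
  · have hS : Presheaf.equalizerSieve (F := F.obj) (F.obj.map φ.op σ) 0 ∈
        S.smallEtaleTopology V := by
      refine EtaleSite.mem_topology_of_forall_exists _ fun v => ?_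
      obtain ⟨⟨⟨W, ψ⟩, hψ⟩, w, hw⟩ := TopologicalSpace.Opens.mem_iSup.1 (h ⟨v, rfl⟩)
      obtain ⟨z, hz₁, hz₂⟩ := Scheme.Pullback.exists_preimage_pullback
        (f := φ.left) (g := ψ.left) v w hw.symm
      let e := (IsPullback.map (Scheme.Etale.forget S ⋙ Over.forget S)
        (IsPullback.of_hasPullback φ ψ))
      refine ⟨pullback φ ψ, pullback.fst φ ψ, e.isoPullback.inv z, ?_, ?_⟩
      · show F.obj.map _ (F.obj.map φ.op σ) = F.obj.map _ 0
        rw [map_zero, ← ConcreteCategory.comp_apply, ← Functor.map_comp, ← op_comp,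
          pullback.condition, op_comp, Functor.map_comp, ConcreteCategory.comp_apply, hψ, map_zero]
      · exact (congrArg (fun k => k z) e.isoPullback_inv_fst).trans hz₁
    exact F.property.isSeparated _ _ hS _ _ fun W g hg => hg

end Groth.Agent.S0102
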