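import Groth.Statements.S0103
import Groth.Agent.S0109
import Groth.Agent.EtaleSite.ArtinSchreierKer

set_option autoImplicit false
open CategoryTheory CategoryTheory.Limits AlgebraicGeometry Opposite
universe u
open EtBase

namespace Groth.Agent.S0103

/-- Let S be an affine scheme whose ring of global sections has prime characteristic p. Then the étale
cohomology H^q(S, Z/p) with constant Z/p coefficients vanishes for every q ≥ 2. -/
theorem result (S : Scheme.{u}) [IsAffine S] (p : ℕ) [Fact p.Prime] [CharP Γ(S, ⊤) p]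
    (q : ℕ) (hq : 2 ≤ q) : Subsingleton (EtCoh.H S (EtCoh.const S (ZMod p)) q) := by
  have h0 : (p : Γ(S, ⊤)) = 0 := CharP.cast_eq_zero _ p
  have hS := Groth.Agent.EtaleSite.ArtinSchreierKer.shortExact (X := S) p h0
  obtain ⟨r, rfl⟩ : ∃ r, q = r + 1 := ⟨q - 1, by omega⟩
  change Subsingleton (Abelian.Ext ((constantSheaf S.smallEtaleTopology AddCommGrpCat.{u + 1}).obj
    (AddCommGrpCat.of (ULift.{u + 1} ℤ))) (Groth.Agent.EtaleSite.ArtinSchreierKer.sc (X := S) p h0).X₁ (r + 1))
  refine subsingleton_of_forall_eq 0 fun x => ?_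
  have hz : x.comp (Abelian.Ext.mk₀ (Groth.Agent.EtaleSite.ArtinSchreierKer.sc (X := S) p h0).f)
      (add_zero (r + 1)) = 0 := (Groth.Agent.S0109.result S (r + 1) (by omega)).elim _ _
  obtain ⟨w, hw⟩ := Abelian.Ext.covariant_sequence_exact₁ _ hS x hz rfl
  have hw0 : w = 0 := (Groth.Agent.S0109.result S r (by omega)).elim w 0
  subst hw0; rw [← hw, Abelian.Ext.zero_comp]

end Groth.Agent.S0103
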