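import Groth.Statements.S0107
import Groth.Agent.LccRepLib.Global
-- import your own Groth.Agent.* helpers here

set_option autoImplicit false
open CategoryTheory CategoryTheory.Limits AlgebraicGeometry Opposite
universe u
open EtBase

namespace Groth.Agent.S0107

/-- The underlying sheaf of sets of a finite locally constant abelian sheaf F on the small étale site of
a scheme X is representable by a scheme finite étale over X: there are an étale X-scheme U with U →
X finite and an isomorphism between the sheaf of sets underlying F and the functor of points of U. -/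
theorem result {X : Scheme.{u}} (F : EtCoh.Ab X) (h : EtCoh.IsFiniteLocallyConstant F) :
    ∃ (U : X.Etale) (_ : IsFinite U.hom),
      Nonempty (F.obj ⋙ forget AddCommGrpCat.{u + 1} ≅ yoneda.obj U ⋙ uliftFunctor.{u + 1}) := by
  classical
  obtain ⟨ι, V, hV, hP⟩ := Groth.Agent.EtConsAb.exists_covers_of_forall_geomPoint
    (fun V : X.Etale => ∃ (M : Type (u + 1)) (_ : AddCommGroup M) (_ : Finite M)
      (m : M →+ F.obj.obj (op V)), Groth.Agent.EtConsAb.IsTriv F V M m) (fun Ω _ _ ξ => by
      obtain ⟨V, φ, M, _, _, m, hm⟩ := Groth.Agent.EtConsAb.exists_isTriv h ξ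
      exact ⟨V, φ, M, inferInstance, inferInstance, m, hm⟩)
  have hrep : ∀ i, ∃ (κ : Type u) (_ : Finite κ)
      (x : F.obj.obj (op (LccRepLib.sigma fun _ : κ => V i))),
      LccRepLib.Rep F (LccRepLib.sigmaDesc (fun _ : κ => V i) fun _ => 𝟙 (V i)) x := fun i => by
    obtain ⟨M, _, _, m, hm⟩ := hP i
    obtain ⟨n, ⟨e⟩⟩ := Finite.exists_equiv_fin M
    exact ⟨ULift.{u} (Fin n), inferInstance,
      LccRepLib.exists_rep_triv F (Equiv.ulift.trans e.symm) hm⟩
  choose κ hκ x hx using hrep
  obtain ⟨η, hη⟩ := LccRepLib.exists_sigma_sect (fun i => LccRepLib.sigma fun _ : κ i => V i) F x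
  have hr := LccRepLib.rep_sigma F V _ _ (fun _ _ => True) (fun _ _ _ => trivial) x hx η hη trivial
  haveI : ∀ i, IsFinite (LccRepLib.sigmaDesc (fun _ : κ i => V i) fun _ => 𝟙 (V i)).left :=
    fun i => LccRepLib.isFinite_fold
  haveI := LccRepLib.isFinite_sigmaDesc V (fun i => LccRepLib.sigma fun _ : κ i => V i)
    fun i => LccRepLib.sigmaDesc (fun _ : κ i => V i) fun _ => 𝟙 (V i)
  haveI : Surjective (LccRepLib.sigma V).hom := ⟨fun y => by
    obtain ⟨i, v, hv⟩ := hV y
    refine ⟨(LccRepLib.sigmaι V i).left v, ?_⟩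
    rw [← hv, ← Scheme.Hom.comp_apply, MorphismProperty.Over.w (LccRepLib.sigmaι V i)]⟩
  exact LccRepLib.exists_repr hr

end Groth.Agent.S0107
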