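import Groth.Statements.S0130
import Groth.Agent.EtConsAb.Strata

set_option autoImplicit false
universe u
open CategoryTheory CategoryTheory.Limits AlgebraicGeometry Opposite
open EtPBC

namespace Groth.Agent.S0130
open Groth.Agent.EtConsAb

/-- Abelian case: X quasi-compact and quasi-separated, T_i -> X immersions with constructible images
covering X, and F pulled back to each T_i constructible; then F is constructible. -/
theorem result (X : Scheme.{u}) [CompactSpace X] [QuasiSeparatedSpace X]
    (F : EtCoh.Ab X) {ι : Type u} (T : ι → Scheme.{u}) (g : ∀ i, T i ⟶ X) [∀ i, IsImmersion (g i)]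
    [∀ i, EtCoh.BCCont (g i)]
    (hc : ∀ i, Topology.IsConstructible (Set.range (g i)))
    (hcov : (⋃ i, Set.range (g i)) = Set.univ)
    (h : ∀ i, EtPBC.IsConstructible ((EtCoh.pull (g i)).obj F)) :
    EtPBC.IsConstructible F := by
  obtain ⟨t, ht⟩ := exists_finite_subcover_of_isConstructible _ hc hcov
  let e := t.equivFin
  refine isConstructible_of_strataCover (strataCover_of_strataCover (fun k => T (e.symm k).1)
    (fun k => g (e.symm k).1) (fun k => inferInstance) (fun k => hc _) (Set.eq_univ_of_forall fun x => ?_)
    fun k => ?_)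
  · obtain ⟨i, hi, hx⟩ := Set.mem_iUnion₂.1 (ht.ge (Set.mem_univ x))
    exact Set.mem_iUnion.2 ⟨e ⟨i, hi⟩, by rw [Equiv.symm_apply_apply]; exact hx⟩
  · haveI : CompactSpace (T (e.symm k).1) := by
      rw [← isCompact_univ_iff, (g _).isEmbedding.isInducing.isCompact_iff, Set.image_univ]
      exact (Groth.Agent.ConstrLib.isRetrocompact_of_isConstructible (hc _)).isCompact
    haveI : QuasiSeparatedSpace (T (e.symm k).1) := quasiSeparatedSpace_of_quasiSeparated (g _)
    exact strataCover_of_isConstructible (h _)

end Groth.Agent.S0130
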