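import Groth.Statements.S0131
import Groth.Agent.EtConsAb.ConsSerre

set_option autoImplicit false
universe u
open CategoryTheory CategoryTheory.Limits AlgebraicGeometry Opposite
open EtPBC

namespace Groth.Agent.S0131

/-- Part (3): with Λ = Z/n: for a morphism of constructible abelian sheaves on X_et both killed by n > 0
(that is, a map of constructible sheaves of Z/n-modules), kernel and cokernel are constructible.
(The source writes the proof for modules over a Noetherian ring; the plain abelian case (2) is
marked omitted there, hence the n-torsion hypotheses.) -/
theorem result {X : Scheme.{u}} {F G : EtCoh.Ab X} (φ : F ⟶ G)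
    (n : ℕ) (hn : 0 < n) (hFn : EtCoh.KilledBy n F) (hGn : EtCoh.KilledBy n G)
    (hF : EtPBC.IsConstructible F) (hG : EtPBC.IsConstructible G) :
    EtPBC.IsConstructible (kernel φ) ∧ EtPBC.IsConstructible (cokernel φ) := by
  exact ⟨Groth.Agent.EtConsAb.isConstructible_kernel φ hF hG, Groth.Agent.EtConsAb.isConstructible_cokernel φ hF hG⟩

end Groth.Agent.S0131
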