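import Groth.Statements.S0138
import Groth.Agent.EtConsAb.Colim

set_option autoImplicit false
universe u
open CategoryTheory CategoryTheory.Limits AlgebraicGeometry Opposite
open EtPBC

namespace Groth.Agent.S0138

/-- For Lambda = Z/n: on a quasi-compact quasi-separated X, a constructible abelian sheaf killed by n >
0 (that is, a constructible sheaf of Z/n-modules) is isomorphic to the cokernel of a map between
finite direct sums of sheaves j_{U!} Z/n with U affine and etale over X. (The source also proves the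
converse; we state the presentation direction.) -/
theorem result (X : Scheme.{u}) [CompactSpace X] [QuasiSeparatedSpace X]
    (n : ℕ) (hn : 0 < n) (F : EtCoh.Ab X) (hF : EtPBC.IsConstructible F) (hFn : EtCoh.KilledBy n F) :
    ∃ (a b : ℕ) (V : Fin a → X.Etale) (U : Fin b → X.Etale) (_ : ∀ j, IsAffine (V j).left)
      (_ : ∀ i, IsAffine (U i).left)
      (φ : (⨁ fun j => EtPBC.extZeroConst (V j) (ZMod n)) ⟶ ⨁ fun i => EtPBC.extZeroConst (U i) (ZMod n)),
      Nonempty (F ≅ cokernel φ) := by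
  classical
  have hPF : ∀ (Ω : Type u) [Field Ω] [IsSepClosed Ω] (ξ : Spec (CommRingCat.of Ω) ⟶ X)
      (t : ↑((EtCoh.stalk ξ).obj F)), ∃ (g : Groth.Agent.EtConsAb.Gen F)
        (φ : (Scheme.pointSmallEtale ξ).fiber.obj g.U),
        g.n = n ∧ Groth.Agent.EtaleSite.germ ξ F g.U φ g.s = t :=
    fun Ω _ _ ξ t => Groth.Agent.EtConsAb.exists_gen_germ_killedBy hn hFn ξ t
  obtain ⟨S, hS, hepi⟩ := Groth.Agent.EtConsAb.exists_genπ_epi hF (fun g => g.n = n) hPF
  have hsum : n • 𝟙 (Groth.Agent.EtConsAb.genSum S) = 0 := biproduct.hom_ext' _ _ fun g => by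
    rw [Preadditive.comp_nsmul, comp_zero, Category.comp_id, ← Category.id_comp (biproduct.ι _ g),
      ← Preadditive.nsmul_comp, ← hS g.1 g.2, Groth.Agent.EtConsAb.nsmul_id_extZeroConst, zero_comp]
  have hKn : EtCoh.KilledBy n (kernel (Groth.Agent.EtConsAb.genπ S)) :=
    Groth.Agent.EtConsAb.killedBy_of_nsmul (by
      rw [← cancel_mono (kernel.ι (Groth.Agent.EtConsAb.genπ S)), zero_comp, Preadditive.nsmul_comp,
        Category.id_comp, ← Category.comp_id (kernel.ι (Groth.Agent.EtConsAb.genπ S)),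
        ← Preadditive.comp_nsmul, hsum, comp_zero])
  let p : Groth.Agent.EtConsAb.Stage F := ⟨(S, ∅), fun r hr => absurd hr (Finset.notMem_empty r)⟩
  obtain ⟨q, -, hqS, hmono, hrel⟩ := Groth.Agent.EtConsAb.Stage.exists_ge_mono p
    (Groth.Agent.EtConsAb.isConstructible_kernel _ (Groth.Agent.EtConsAb.isConstructible_genSum S) hF)
    (fun g => g.n = n) fun Ω _ _ ξ t => Groth.Agent.EtConsAb.exists_gen_germ_killedBy hn hKn ξ t
  haveI : Epi (Groth.Agent.EtConsAb.genπ q.1.1) := by rw [hqS]; exact hepi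
  haveI : Epi q.π := epi_of_epi_fac (cokernel.π_desc _ _ _ :
    cokernel.π q.relMap ≫ q.π = Groth.Agent.EtConsAb.genπ q.1.1)
  haveI := isIso_of_mono_of_epi q.π
  let eS := q.1.1.equivFin.symm
  let eR := q.1.2.equivFin.symm
  have hnS : ∀ g : q.1.1, g.1.n = n := fun g => hS g.1 (by
    have h := g.2
    simp only [hqS] at h
    exact h)
  have hnR : ∀ r : q.1.2, r.1.rel.n = n := fun r => by
    rcases hrel r.1 r.2 with h | ⟨g, hg, h⟩
    · exact absurd h (Finset.notMem_empty _)
    · exact h.trans hg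
  let iS := biproduct.whiskerEquiv (f := fun i => EtPBC.extZeroConst (eS i).1.U (ZMod n))
    (g := fun g : q.1.1 => g.1.src) eS fun i => eqToIso (by
      show Groth.Agent.EtConsAb.Gen.src (eS i).1 = _
      unfold Groth.Agent.EtConsAb.Gen.src
      rw [hnS (eS i)])
  let iR := biproduct.whiskerEquiv (f := fun i => EtPBC.extZeroConst (eR i).1.rel.U (ZMod n))
    (g := fun r : q.1.2 => r.1.rel.src) eR fun i => eqToIso (by
      show Groth.Agent.EtConsAb.Gen.src (eR i).1.rel = _
      unfold Groth.Agent.EtConsAb.Gen.src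
      rw [hnR (eR i)])
  refine ⟨_, _, fun j => (eR j).1.rel.U, fun i => (eS i).1.U, fun j => (eR j).1.rel.affine,
    fun i => (eS i).1.affine, iR.hom ≫ q.relMap ≫ iS.inv,
    ⟨(asIso q.π).symm ≪≫ cokernel.mapIso _ _ iR.symm iS.symm ?_⟩⟩
  simp

end Groth.Agent.S0138
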