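import Groth.Statements.S0145
import Groth.Agent.EtConsAb.Colim
import Groth.Agent.EtConsAb.SubFLC
import Groth.Agent.LimTop.Closure

set_option autoImplicit false
universe u
open CategoryTheory CategoryTheory.Limits AlgebraicGeometry Opposite
open EtPBC

namespace Groth.Agent.S0145

/-- The closure of a constructible set consists of specialisations of its points. -/
theorem exists_specializes {X : Scheme.{u}} {E : Set X} (hE : Topology.IsConstructible E) {y : X}
    (hy : y ∈ closure E) : ∃ z ∈ E, z ⤳ y :=
  Groth.Agent.LimTop.exists_specializes_of_mem_closure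
    (fun x => ⟨Set.univ, isOpen_univ, trivial, {Subtype.val ⁻¹' E}, fun T hT => by
      rw [Set.mem_singleton_iff.1 hT]
      exact (Groth.Agent.EtConsAb.isConstructible_preimage_val_univ hE).isLocallyConstructible,
      (Set.sInter_singleton _).symm⟩) hy


/-- (1): X Noetherian, E a subset of X stable under specialization, F a torsion abelian sheaf on X_et
supported inside E. Then F is a filtered colimit of constructible abelian sheaves each supported
inside some closed subset contained in E. -/
theorem result (X : Scheme.{u}) [IsNoetherian X]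
    (E : Set X) (hE : StableUnderSpecialization E)
    (F : EtCoh.Ab X) (hF : EtCoh.IsTorsion F) (hsupp : EtPBC.supp F ⊆ E) :
    ∃ (J : Type (u + 1)) (_ : SmallCategory J) (_ : IsFiltered J) (D : J ⥤ EtCoh.Ab X)
      (c : Cocone D) (_ : IsColimit c), Nonempty (c.pt ≅ F) ∧
      ∀ j, EtPBC.IsConstructible (D.obj j) ∧
        ∃ Z : Set X, IsClosed Z ∧ Z ⊆ E ∧ EtPBC.supp (D.obj j) ⊆ Z := by
  classical
  let P : Groth.Agent.EtConsAb.Stage F → Prop := fun p => Mono p.π
  have hP : ∀ p, ∃ q, p ≤ q ∧ P q := fun p => by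
    have hK := Groth.Agent.EtConsAb.isConstructible_sub (kernel.ι (Groth.Agent.EtConsAb.genπ p.1.1))
      (Groth.Agent.EtConsAb.isConstructible_genSum p.1.1)
    obtain ⟨q, h1, -, h2, -⟩ := Groth.Agent.EtConsAb.Stage.exists_ge_mono p hK (fun _ => True)
      fun Ω _ _ ξ t => by
        obtain ⟨g, φ, h⟩ := Groth.Agent.EtConsAb.exists_gen_germ
          (Groth.Agent.EtConsAb.isTorsion_of_isConstructible hK) ξ t
        exact ⟨g, φ, trivial, h⟩
    exact ⟨q, h1, h2⟩
  haveI := Groth.Agent.EtConsAb.Stage.directed_subtype P hP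
  haveI : Nonempty {p // P p} := ⟨⟨_, (hP (Classical.arbitrary _)).choose_spec.2⟩⟩
  obtain ⟨hc⟩ := Groth.Agent.EtConsAb.Stage.nonempty_isColimit_cocone hF P hP
  refine ⟨{p // P p}, inferInstance, inferInstance, _, _, hc, ⟨Iso.refl _⟩, fun p => ⟨
    Groth.Agent.EtConsAb.Stage.isConstructible_obj p.1, closure (EtPBC.supp p.1.obj), isClosed_closure,
    fun x hx => ?_, subset_closure⟩⟩
  obtain ⟨z, hz, hzs⟩ := exists_specializes (Groth.Agent.EtConsAb.isConstructible_supp_of_strataCover
    (Groth.Agent.EtConsAb.strataCover_of_isConstructible (Groth.Agent.EtConsAb.Stage.isConstructible_obj p.1))) hx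
  refine hE hzs (hsupp ?_)
  let ξ := Groth.Agent.EtaleSite.geomPointAt X z
  have hξ : ξ default = z := Groth.Agent.EtaleSite.geomPointAt_apply X _ _
  rw [← hξ] at hz ⊢
  rw [Groth.Agent.EtConsAb.mem_supp_iff] at hz ⊢
  intro h0
  haveI : Mono p.1.π := p.2
  exact hz (h0.of_mono ((EtCoh.stalk ξ).map p.1.π))

end Groth.Agent.S0145
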