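import Groth.Statements.S0148
import Groth.Agent.GalCohAux.EtCdTrDeg

set_option autoImplicit false
universe u
open CategoryTheory CategoryTheory.Limits AlgebraicGeometry Opposite
open EtPBC

namespace Groth.Agent.S0148

/-- For a field extension L/K with cd(K) <= e and transcendence degree <= n one has cd(L) <= e + n. -/
theorem result (K L : Type u) [Field K] [Field L] [Algebra K L]
    (e n : ℕ) (hK : EtCoh.CohDimLE (Spec (CommRingCat.of K)) e) (htr : Algebra.trdeg K L ≤ n) :
    EtCoh.CohDimLE (Spec (CommRingCat.of L)) (e + n) := by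
  refine GalCohAux.EtCdTrDeg.cohDimLE_of_cd fun ℓ hℓ => ?_
  haveI := Fact.mk hℓ
  exact GalCohAux.EtCdTrDeg.cd_trdeg_le (GalCohAux.EtCdTrDeg.cd_of_cohDimLE ℓ hK) n htr

end Groth.Agent.S0148
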