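import Groth.Statements.S0149
import Groth.Agent.EtLimit.Main
import Groth.Agent.EtLimit.PushSys
import Groth.Agent.GalCohAux.EtTorsion
-- import your own Groth.Agent.* helpers here

set_option autoImplicit false
universe u
open CategoryTheory CategoryTheory.Limits AlgebraicGeometry Opposite
open EtPBC

namespace Groth.Agent.S0149

/-- If X = lim X_i is a cofiltered limit of quasi-compact quasi-separated schemes with affine transition
morphisms and cd(X_i) <= d for all i, then cd(X) <= d. -/
theorem result {I : Type u} [SmallCategory I] [IsCofiltered I] (D : I ⥤ Scheme.{u})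
    [∀ {i j : I} (a : i ⟶ j), IsAffineHom (D.map a)]
    [∀ i, CompactSpace (D.obj i)] [∀ i, QuasiSeparatedSpace (D.obj i)]
    (c : Cone D) (hc : IsLimit c) (d : ℕ) (h : ∀ i, EtCoh.CohDimLE (D.obj i) d) :
    EtCoh.CohDimLE c.pt d := by
  haveI : ∀ (i j : I) (a : i ⟶ j), IsAffineHom (D.map a) := fun _ _ a => inferInstance
  haveI : ∀ i, IsAffineHom (c.π.app i) := fun i => isAffineHom_π_app _ _ hc (i := i)
  intro F hF q hq
  obtain ⟨i₀⟩ := IsCofiltered.nonempty (C := I)
  haveI : CompactSpace c.pt := QuasiCompact.compactSpace_of_compactSpace (c.π.app i₀)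
  haveI : QuasiSeparatedSpace c.pt := quasiSeparatedSpace_of_quasiSeparated (c.π.app i₀)
  obtain ⟨hK⟩ := Groth.Agent.EtLimit.nonempty_isColimit_pushSysCocone c F hc
  refine subsingleton_of_forall_eq 0 fun ξ => ?_
  obtain ⟨j, ξj, rfl⟩ := (Groth.Agent.EtColim.CohColim.coh_colimit q hK).1 ξ
  obtain ⟨k, a, η, hη⟩ := (Groth.Agent.EtLimit.limit_cohomology hc q).1 j.unop
    ((EtCoh.push (c.π.app j.unop)).obj F) ξj
  have h0 : η = 0 := @Subsingleton.elim _ (h k _
    (Groth.Agent.GalCohAux.EtTorsion.isTorsion_pull (D.map a)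
      (Groth.Agent.EtLimit.isTorsion_push_of_isAffineHom (c.π.app j.unop) hF)) q hq) _ _
  subst h0
  rw [map_zero] at hη
  subst hη
  exact map_zero _

end Groth.Agent.S0149
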