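import Groth.Statements.S0151
import Groth.Agent.GalCohAux.EtDimVanE
import Groth.Agent.VarDim.Scheme

set_option autoImplicit false
universe u
open CategoryTheory CategoryTheory.Limits AlgebraicGeometry Opposite
open EtPBC

namespace Groth.Agent.S0151

attribute [local instance] Curv2.resAlgebra

theorem aux (K : Type u) [Field K] (X : Scheme.{u}) [X.Over (Spec (CommRingCat.of K))]
    [LocallyOfFiniteType (X ↘ Spec (CommRingCat.of K))] [IsNoetherian X]
    (e : ℕ) (hK : EtCoh.CohDimLE (Spec (CommRingCat.of K)) e) : ∃ d : ℕ, EtCoh.CohDimLE X d := by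
  classical
  let t : X → ℕ := VarDim.dimPt K X
  let φ : X → ℕ := fun x => (t x + 1) * (e + t x + 1)
  have hmono : ∀ x y : X, x ⤳ y → φ y ≤ φ x := fun x y hxy => by
    rcases eq_or_ne x y with rfl | hne
    · exact le_rfl
    · have hy : y < x := lt_of_le_not_ge hxy fun h => hne (Specializes.antisymm (h : y ⤳ x) hxy).eq.symm
      have ht : t y ≤ t x := (VarDim.dimPt_lt_of_lt K hy).le
      exact Nat.mul_le_mul (by omega) (by omega)
  have hstep : ∀ x y : X, x ⤳ y → x ≠ y → φ y + e + t x + 1 ≤ φ x := fun x y hxy hne => by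
    have hy : y < x := lt_of_le_not_ge hxy fun h => hne (Specializes.antisymm (h : y ⤳ x) hxy).eq.symm
    have ht : t y + 1 ≤ t x := VarDim.dimPt_lt_of_lt K hy
    have h1 : φ y ≤ t x * (e + t x) := Nat.mul_le_mul ht (by omega)
    have h2 : φ x = t x * (e + t x) + t x + e + t x + 1 := by show (t x + 1) * (e + t x + 1) = _; ring
    omega
  have hcd : ∀ (x : X) (ℓ : ℕ), ℓ.Prime → GalCohAux.EtCdTr.Cd (X.residueField x) ℓ (e + t x) := fun x ℓ hℓ => by
    haveI := Fact.mk hℓ
    exact GalCohAux.EtCdTrDeg.cd_trdeg (GalCohAux.EtCdTrDeg.cd_of_cohDimLE ℓ hK) (t x)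
      (VarDim.trdeg_residueField K X x)
  have hfin := TopologicalSpace.NoetherianSpace.finite_irreducibleComponents (α := X)
  refine ⟨hfin.toFinset.sup (fun Z => if h : IsIrreducible Z ∧ IsClosed Z then φ (QuasiSober.sober h.1 h.2).choose else 0),
    fun F hF q hq => ?_⟩
  refine GalCohAux.EtDimVanC.vanishing (GalCohAux.EtDimVanD.torsionClass Set.univ) φ
    (fun x y hxy hne => by have := hstep x y hxy hne; omega) (fun x M hM r hr => ?_)
    (fun x y hxy hne R _ _ _ _ _ P hP M hM r hr => ?_) F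
    ((GalCohAux.EtDimVanD.isTorsion_iff_lTorsion F).1 hF) q fun x _ => ?_
  · refine GalCohAux.EtCdTrDeg.cohDimLE_of_cd (fun ℓ hℓ => hcd x ℓ hℓ) M
      ((GalCohAux.EtDimVanD.isTorsion_iff_lTorsion M).2 hM) r (lt_of_le_of_lt ?_ hr)
    exact le_trans (by omega) (Nat.le_mul_of_pos_left (e + t x + 1) (Nat.succ_pos (t x)))
  · haveI : P.IsPrime := hP.1.1
    obtain ⟨ψ, hψ⟩ := GalCohAux.EtDimVanE.exists_algebraic x y hxy R P hP
    letI := ψ.toAlgebra
    haveI := hψ
    have := hstep x y hxy hne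
    exact GalCohAux.EtCdTrDeg.cohDimLE_of_cd
      (fun ℓ hℓ => GalCohAux.EtCdTr.cd_algebraic (k := X.residueField x) (hcd x ℓ hℓ)) M
      ((GalCohAux.EtDimVanD.isTorsion_iff_lTorsion M).2 hM) r (by omega)
  · refine lt_of_le_of_lt ?_ hq
    obtain ⟨Z, hZ, hsub⟩ := exists_mem_irreducibleComponents_subset_of_isIrreducible {x} isIrreducible_singleton
    have hZc : IsIrreducible Z ∧ IsClosed Z := ⟨hZ.1, isClosed_of_mem_irreducibleComponents Z hZ⟩
    refine le_trans ?_ (Finset.le_sup (hfin.mem_toFinset.2 hZ))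
    rw [dif_pos hZc]
    exact hmono _ x ((QuasiSober.sober hZc.1 hZc.2).choose_spec.specializes (hsub rfl))

/-- (2): if cd(K) is finite and X is of finite type over K then cd(X) is finite. -/
theorem result (K : Type u) [Field K] (X : Scheme.{u})
    (a : X ⟶ Spec (CommRingCat.of K)) [LocallyOfFiniteType a] [QuasiCompact a]
    (e : ℕ) (hK : EtCoh.CohDimLE (Spec (CommRingCat.of K)) e) :
    ∃ d : ℕ, EtCoh.CohDimLE X d := by
  letI : X.Over (Spec (CommRingCat.of K)) := ⟨a⟩
  haveI : LocallyOfFiniteType (X ↘ Spec (CommRingCat.of K)) := ‹LocallyOfFiniteType a›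
  haveI : IsLocallyNoetherian X := LocallyOfFiniteType.isLocallyNoetherian a
  haveI : CompactSpace X := QuasiCompact.compactSpace_of_compactSpace a
  haveI : IsNoetherian X := {}
  exact aux K X e hK

end Groth.Agent.S0151
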