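import Groth.Statements.S0152
import Groth.Agent.ProEtW.Spectral
-- import your own Groth.Agent.* helpers here

set_option autoImplicit false
universe u
open EtPBC

namespace Groth.Agent.S0152

/-- Let X be a spectral space and Z a closed subset such that Z meets the closure of every point of X in
a connected (nonempty) set. If Z is the disjoint union of two closed subsets Z_1, Z_2 then X is the
disjoint union of closed subsets X_1, X_2 with Z_i = Z ∩ X_i. -/
theorem result (X : Type u) [TopologicalSpace X] [SpectralSpace X]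
    (Z : Set X) (hZ : IsClosed Z)
    (hconn : ∀ x : X, IsConnected (Z ∩ closure {x}))
    (Z₁ Z₂ : Set X) (h₁ : IsClosed Z₁) (h₂ : IsClosed Z₂) (hdisj : Disjoint Z₁ Z₂) (hunion : Z₁ ∪ Z₂ = Z) :
    ∃ X₁ X₂ : Set X, IsClosed X₁ ∧ IsClosed X₂ ∧ Disjoint X₁ X₂ ∧ X₁ ∪ X₂ = Set.univ ∧
      Z₁ = Z ∩ X₁ ∧ Z₂ = Z ∩ X₂ := by
  obtain ⟨U, V, hU, -, hV, -, h1U, h2V, hd⟩ := ProEtW.Spectral.exists_disjoint_compact_opens (X := X)
    h₁.isCompact h₂.isCompact (fun c hc d hd z hzc hzd => by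
      obtain ⟨w, -, hw1, hw2⟩ := isPreconnected_closed_iff.1 (hconn z).2 Z₁ Z₂ h₁ h₂
        (fun w hw => hunion.ge hw.1)
        ⟨c, ⟨hunion.le (Or.inl hc), hzc.mem_closure⟩, hc⟩
        ⟨d, ⟨hunion.le (Or.inr hd), hzd.mem_closure⟩, hd⟩
      exact Set.disjoint_left.1 hdisj hw1 hw2)
  have hcov : U ∪ V = Set.univ := Set.eq_univ_of_forall fun x => by
    obtain ⟨z, hz, hzx⟩ := (hconn x).1
    have hs : x ⤳ z := specializes_iff_mem_closure.2 hzx
    rcases hunion.ge hz with h | h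
    · exact Or.inl (hs.mem_open hU (h1U h))
    · exact Or.inr (hs.mem_open hV (h2V h))
  have hUc : Uᶜ = V := (isCompl_iff.2 ⟨hd, codisjoint_iff.2 hcov⟩).compl_eq
  have hVc : Vᶜ = U := (isCompl_iff.2 ⟨hd.symm, codisjoint_iff.2 (by rw [sup_comm]; exact hcov)⟩).compl_eq
  refine ⟨U, V, ?_, ?_, hd, hcov, ?_, ?_⟩
  · rw [← hVc]; exact hV.isClosed_compl
  · rw [← hUc]; exact hU.isClosed_compl
  · refine Set.Subset.antisymm (fun z hz => ⟨hunion.le (Or.inl hz), h1U hz⟩) fun z hz => ?_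
    exact (hunion.ge hz.1).resolve_right fun h => Set.disjoint_left.1 hd hz.2 (h2V h)
  · refine Set.Subset.antisymm (fun z hz => ⟨hunion.le (Or.inr hz), h2V hz⟩) fun z hz => ?_
    exact (hunion.ge hz.1).resolve_left fun h => Set.disjoint_left.1 hd (h1U h) hz.2

end Groth.Agent.S0152
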