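import Groth.Statements.S0154
import Groth.Agent.EtDev.AicEmbed
import Groth.Agent.EtConsAb.PointTorsion

set_option autoImplicit false
universe u
open CategoryTheory CategoryTheory.Limits AlgebraicGeometry Opposite
open EtPBC
open Groth.Agent Groth.Agent.EtConsAb

namespace Groth.Agent.S0154

/-- Let X be an affine scheme, i : Z → X a closed immersion, F a torsion abelian sheaf on X_ét, q > 0
and ξ ∈ H^q(Z, i^* F). Then there is an injective map F → F' of torsion abelian sheaves on X_ét such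
that ξ maps to zero in H^q(Z, i^* F'). -/
theorem result (X Z : Scheme.{u}) [IsAffine X]
    (i : Z ⟶ X) [IsClosedImmersion i] [EtCoh.BCCont i]
    (F : EtCoh.Ab X) (hF : EtCoh.IsTorsion F) (q : ℕ) (hq : 0 < q)
    (ξ : EtCoh.H Z ((EtCoh.pull i).obj F) q) :
    ∃ (F' : EtCoh.Ab X) (_ : EtCoh.IsTorsion F') (φ : F ⟶ F') (_ : Mono φ),
      Sheaf.H.map ((EtCoh.pull i).map φ) q ξ = 0 := by
  classical
  haveI : IsAffine Z := isAffine_of_isAffineHom i
  haveI : PreservesFiniteLimits (EtCoh.pull i) := inferInstance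
  haveI : PreservesColimitsOfSize.{u + 1, u + 1} (EtCoh.pull i) :=
    (EtCoh.pullPushAdj i).leftAdjoint_preservesColimits
  haveI : (EtCoh.pull i).Additive := Functor.additive_of_preserves_binary_products _
  obtain ⟨q, rfl⟩ := Nat.exists_eq_succ_of_ne_zero hq.ne'
  have hL : EtAcyc.IsLTorsion Set.univ F := fun U s x => by
    obtain ⟨V, g, hv, hs⟩ := hF U s x
    obtain ⟨m, hm, hk⟩ := isOfFinAddOrder_iff_nsmul_eq_zero.1 hs
    exact ⟨V, g, m, hv, ⟨hm, fun _ _ _ => Set.mem_univ _⟩, hk⟩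
  obtain ⟨hc⟩ := EtDev.nonempty_isColimit_lGen hL
  obtain ⟨hc'⟩ := EtAcDepth.isColimit_pull i hc
  obtain ⟨j, η, hη⟩ := (EtColim.CohColimLarge.coh_colimit (q + 1) hc').1 ξ
  obtain ⟨E, a, ha, hE, hZ⟩ := EtDev.AicEmbed.exists_acyclic_embedding i (Stage.isConstructible_obj j.1)
  haveI := ha
  let c : j.1.obj ⟶ F := (Stage.cocone (F := F) (EtDev.LGen Set.univ)).ι.app j
  haveI : Mono (pushout.inl c a) := inferInstance
  haveI : Epi (biprod.desc (pushout.inl c a) (pushout.inr c a)) :=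
    Preadditive.epi_of_cancel_zero _ fun {G} k hk => by
      refine pushout.hom_ext ?_ ?_
      · simpa using biprod.inl ≫= hk
      · simpa using biprod.inr ≫= hk
  refine ⟨pushout c a, EtConsAb.PointTorsion.isTorsion_of_epi (biprod.desc (pushout.inl c a) (pushout.inr c a))
    (EtDev.AicEmbed.isTorsion_biprod hF hE), pushout.inl c a, inferInstance, ?_⟩
  haveI := hZ q
  have h0 : η.comp (Abelian.Ext.mk₀ ((EtCoh.pull i).map a)) (add_zero (q + 1)) = 0 :=
    Subsingleton.elim _ _
  let P := EtCoh.pull i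
  have key : ∀ (x : EtCoh.H Z (P.obj j.1.obj) (q + 1)),
      x.comp (Abelian.Ext.mk₀ (P.map a)) (add_zero (q + 1)) = 0 →
      (x.comp (Abelian.Ext.mk₀ (P.map c)) (add_zero (q + 1))).comp
        (Abelian.Ext.mk₀ (P.map (pushout.inl c a))) (add_zero (q + 1)) = 0 := by
    intro x hx
    rw [Abelian.Ext.comp_assoc_of_second_deg_zero, Abelian.Ext.mk₀_comp_mk₀, ← Functor.map_comp,
      pushout.condition, Functor.map_comp, ← Abelian.Ext.mk₀_comp_mk₀,
      ← Abelian.Ext.comp_assoc_of_second_deg_zero, hx]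
    exact Abelian.Ext.zero_comp ..
  refine (Sheaf.H.map_apply _ _).trans ?_
  rw [← hη, Sheaf.H.map_apply]
  exact key η h0

end Groth.Agent.S0154
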