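import Groth.Statements.S0155
import Groth.Agent.EtConsAb.ProperFibre
-- import your own Groth.Agent.* helpers here

set_option autoImplicit false
universe u
open CategoryTheory CategoryTheory.Limits AlgebraicGeometry Opposite
open EtPBC

namespace Groth.Agent.S0155

open Groth.Agent.EtaleSite Groth.Agent.EtLimit Groth.Agent.EtConsAb.PullVal Groth.Agent.EtConsAb.ProperFibre

variable {X Y : Scheme.{u}} (f : X ⟶ Y) {Ω : Type u} [Field Ω] [IsSepClosed Ω]
  (ξ : Spec (CommRingCat.of Ω) ⟶ Y) (F : EtCoh.Ab X)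

theorem resFibre_w {U V : Y.Etale} (g : U ⟶ V) (φ : (Scheme.pointSmallEtale ξ).fiber.obj U) :
    ((EtCoh.push f).obj F).obj.map g.op ≫ resFibre f ξ F φ =
      resFibre f ξ F ((Scheme.pointSmallEtale ξ).fiber.map g φ) := by
  refine FHom.map_app _ ((EtCoh.bc f).map g) _ _ _ _ (pullback.hom_ext ?_ ?_)
  · refine (Category.assoc _ _ _).trans ((congrArg (toNbhd f ξ φ ≫ ·) (FHom.bc_map_fst g)).trans ?_)
    exact (Category.assoc _ _ _).symm.trans ((congrArg (· ≫ g.left) (toNbhd_fst f ξ φ)).trans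
      ((Category.assoc _ _ _).trans (toNbhd_fst f ξ ((Scheme.pointSmallEtale ξ).fiber.map g φ)).symm))
  · exact (Category.assoc _ _ _).trans ((congrArg (toNbhd f ξ φ ≫ ·)
      (MorphismProperty.Over.w ((EtCoh.bc f).map g))).trans ((toNbhd_hom f ξ φ).trans (toNbhd_hom f ξ _).symm))

/-- The comparison with the sections on the fibre. -/
noncomputable def cmpFibre : (EtCoh.stalk ξ).obj ((EtCoh.push f).obj F) ⟶
    ((EtCoh.pull (pullback.fst f ξ)).obj F).obj.obj (op (EtCoh.top (pullback f ξ))) :=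
  (Scheme.pointSmallEtale ξ).presheafFiberDesc (fun _ φ => resFibre f ξ F φ)
    (fun _ _ g φ => resFibre_w f ξ F g φ)

theorem cmpFibre_germ {V : Y.Etale} (φ : (Scheme.pointSmallEtale ξ).fiber.obj V)
    (s : F.obj.obj (op ((EtCoh.bc f).obj V))) :
    cmpFibre f ξ F (germ ξ ((EtCoh.push f).obj F) V φ s) = resFibre f ξ F φ s :=
  ConcreteCategory.congr_hom ((Scheme.pointSmallEtale ξ).toPresheafFiber_presheafFiberDesc
    (P := ((EtCoh.push f).obj F).obj) (fun _ φ => resFibre f ξ F φ)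
    (fun _ _ g φ => resFibre_w f ξ F g φ) V φ) s

theorem bijective_cmpFibre [IsProper f] : Function.Bijective (cmpFibre f ξ F) := by
  refine ⟨(injective_iff_map_eq_zero _).2 fun p hp => ?_, fun x => ?_⟩
  · obtain ⟨V, φ, s, rfl⟩ := exists_germ_eq ξ ((EtCoh.push f).obj F) p
    rw [cmpFibre_germ] at hp
    refine germ_eq_zero f ξ φ s fun Ω' _ _ ζ => ?_
    rw [← rep_resFibre f ξ φ s Ω' ζ, hp, map_zero]
  · obtain ⟨V, φ, s, hs⟩ := exists_rep f ξ F x
    refine ⟨germ ξ ((EtCoh.push f).obj F) V φ s, (cmpFibre_germ f ξ F φ s).trans ?_⟩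
    refine val_ext (pullback.fst f ξ) fun Ω' _ _ ζ => ?_
    rw [rep_resFibre f ξ φ s Ω' ζ, hs Ω' ζ]

/-- Let f : X ⟶ Y be a proper morphism of schemes, ȳ : Spec Ω ⟶ Y a geometric point (Ω a separably
closed field) and F an abelian sheaf on the small étale site of X. Then the stalk (f_* F)_ȳ is
isomorphic to the group of global sections Γ(X_ȳ, F|X_ȳ) of the pullback of F to the geometric fibre
X_ȳ = X ×_Y Spec Ω. The published statement is stronger: it asserts that the canonical map is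
bijective (for sheaves of sets as well); only the existence of an isomorphism of abelian groups is
asserted here. -/
theorem result {X Y : Scheme.{u}} (f : X ⟶ Y) [IsProper f] [EtCoh.BCCont f]
    {Ω : Type u} [Field Ω] [IsSepClosed Ω] (ξ : Spec (CommRingCat.of Ω) ⟶ Y)
    [EtCoh.BCCont (pullback.fst f ξ)] (F : EtCoh.Ab X) :
    Nonempty ((EtCoh.stalk ξ).obj ((EtCoh.push f).obj F) ≅
      ((EtCoh.pull (pullback.fst f ξ)).obj F).obj.obj (op (EtCoh.top (pullback f ξ)))) := by
  haveI : IsIso (cmpFibre f ξ F) :=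
    (ConcreteCategory.isIso_iff_bijective _).2 (bijective_cmpFibre f ξ F)
  exact ⟨asIso (cmpFibre f ξ F)⟩

end Groth.Agent.S0155
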