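import Groth.Statements.S0158
import Groth.Agent.EtColim.PullTors

set_option autoImplicit false
set_option backward.isDefEq.respectTransparency false
universe u
open CategoryTheory CategoryTheory.Limits AlgebraicGeometry Opposite
open EtPBC

namespace Groth.Agent.S0158

open Groth.Agent Groth.Agent.EtColim

variable {X Y X' Y' : Scheme.{u}} (f : X ⟶ Y) [IsProper f] [EtCoh.BCCont f]
  (f' : X' ⟶ Y') (g' : X' ⟶ X) (g : Y' ⟶ Y) [EtCoh.BCCont f'] [EtCoh.BCCont g'] [EtCoh.BCCont g]

/-- The canonical comparison in degree zero on derived functors. -/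
theorem exists_natural_zero (h : IsPullback g' f' f g) :
    ∃ α : ∀ G : EtCoh.Ab X, (EtCoh.pull g).obj ((EtCoh.Rpush f 0).obj G) ≅
        (EtCoh.Rpush f' 0).obj ((EtCoh.pull g').obj G),
      ∀ {G G' : EtCoh.Ab X} (a : G ⟶ G'), (EtCoh.pull g).map ((EtCoh.Rpush f 0).map a) ≫ (α G').hom =
        (α G).hom ≫ (EtCoh.Rpush f' 0).map ((EtCoh.pull g').map a) := by
  haveI := PullTors.push_pfl f
  haveI := PullTors.push_pfl f'
  haveI := fun G => EtConsAb.ProperFibre.isIso_baseChange0_proper f f' g' g h G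
  refine ⟨fun G => (EtCoh.pull g).mapIso ((EtCoh.push f).rightDerivedZeroIsoSelf.app G) ≪≫
      asIso (EtCoh.baseChange0 f g f' g' h.w G) ≪≫
      ((EtCoh.push f').rightDerivedZeroIsoSelf.app ((EtCoh.pull g').obj G)).symm, fun {G G'} a => ?_⟩
  have h1 := (EtCoh.push f).rightDerivedZeroIsoSelf.hom.naturality a
  have h3 := (EtCoh.push f').rightDerivedZeroIsoSelf.inv.naturality ((EtCoh.pull g').map a)
  have h2 := EtRamLib.Kummer.Cover.baseChange0_natural f g f' g' h.w a
  simp only [Iso.trans_hom, Functor.mapIso_hom, Iso.app_hom, asIso_hom, Iso.symm_hom, Iso.app_inv, Category.assoc]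
  rw [← Functor.map_comp_assoc]
  erw [h1]
  rw [Functor.map_comp_assoc]
  slice_lhs 2 3 => erw [h2]
  simp only [Category.assoc]
  erw [h3]

theorem main (h : IsPullback g' f' f g)
    (hZ : ∀ (I : EtCoh.Ab X) [Injective I] (ℓ : ℕ), ℓ.Prime → ∀ q : ℕ,
      IsZero ((EtCoh.Rpush f' (q + 1)).obj ((EtCoh.pull g').obj (PullTors.Z I ℓ)))) :
    ∀ (q : ℕ) (F : EtCoh.Ab X), EtCoh.IsTorsion F →
      Nonempty ((EtCoh.pull g).obj ((EtCoh.Rpush f q).obj F) ≅
        (EtCoh.Rpush f' q).obj ((EtCoh.pull g').obj F)) := by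
  haveI : IsProper f' := MorphismProperty.of_isPullback h ‹IsProper f›
  haveI := PullTors.push_pfl f
  haveI := PullTors.push_pfl f'
  haveI := EtaleSite.preservesFiniteLimits_pull g
  haveI := EtaleSite.preservesFiniteLimits_pull g'
  obtain ⟨α, hα⟩ := exists_natural_zero f f' g' g h
  let l := Groth.Agent.RDerLES.derivedLES (EtCoh.push f)
  let l' := Groth.Agent.RDerLES.derivedLES (EtCoh.push f')
  intro q
  induction q with
  | zero => exact fun F _ => ⟨α F⟩
  | succ q ih =>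
    intro F hF
    have hF' := (GalCohAux.EtDimVanD.isTorsion_iff_lTorsion F).1 hF
    let I := Injective.under F
    let ι : F ⟶ kernel (TorsionPush.toLoc Set.univ I) :=
      kernel.lift _ (Injective.ι F) (TorsionPush.toLoc_eq_zero Set.univ I hF' _)
    haveI : Mono ι := mono_of_mono_fac (kernel.lift_ι _ _ _)
    let S := ShortComplex.mk ι (cokernel.π ι) (cokernel.condition _)
    have hS : S.ShortExact := { exact := ShortComplex.exact_cokernel ι, mono_f := inferInstance }
    have hS' := hS.map_of_exact (EtCoh.pull g')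
    have hQ : EtCoh.IsTorsion S.X₃ := (GalCohAux.EtDimVanD.isTorsion_iff_lTorsion _).2
      (TorsionPush.isLTorsion_of_epi Set.univ (cokernel.π ι) (TorsionPush.isLTorsion_kernel Set.univ I))
    have hK : ∀ b, IsZero ((EtCoh.Rpush f (b + 1)).obj S.X₂) := TorsionPush.isZero_Rpush_kernel Set.univ I f
    have hK' : ∀ b, IsZero ((EtCoh.Rpush f' (b + 1)).obj (S.map (EtCoh.pull g')).X₂) :=
      PullTors.isZero_Rpush_pull_kernel I Set.univ g' f' (hZ I)
    haveI : Epi (l.δ S hS q (q + 1) rfl) := (l.exact₁ S hS q (q + 1) rfl).epi_f ((hK q).eq_of_tgt _ _)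
    haveI : Epi (l'.δ _ hS' q (q + 1) rfl) :=
      (l'.exact₁ _ hS' q (q + 1) rfl).epi_f ((hK' q).eq_of_tgt _ _)
    cases q with
    | zero =>
      have e₁ : cokernel ((EtCoh.Rpush f 0).map S.g) ≅ (EtCoh.Rpush f 1).obj S.X₁ :=
        (cokernelIsCokernel _).coconePointUniqueUpToIso (l.exact₃ S hS 0 1 rfl).gIsCokernel
      have e₂ : cokernel ((EtCoh.Rpush f' 0).map (S.map (EtCoh.pull g')).g) ≅
          (EtCoh.Rpush f' 1).obj (S.map (EtCoh.pull g')).X₁ :=
        (cokernelIsCokernel _).coconePointUniqueUpToIso (l'.exact₃ _ hS' 0 1 rfl).gIsCokernel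
      exact ⟨(EtCoh.pull g).mapIso e₁.symm ≪≫ PreservesCokernel.iso (EtCoh.pull g) _ ≪≫
        cokernel.mapIso _ _ (α S.X₂) (α S.X₃) (hα S.g) ≪≫ e₂⟩
    | succ q =>
      haveI : Mono (l.δ S hS (q + 1) (q + 2) rfl) :=
        (l.exact₃ S hS (q + 1) (q + 2) rfl).mono_g ((hK q).eq_of_src _ _)
      haveI : Mono (l'.δ _ hS' (q + 1) (q + 2) rfl) :=
        (l'.exact₃ _ hS' (q + 1) (q + 2) rfl).mono_g ((hK' q).eq_of_src _ _)
      haveI : IsIso (l.δ S hS (q + 1) (q + 2) rfl) := isIso_of_mono_of_epi _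
      haveI : IsIso (l'.δ _ hS' (q + 1) (q + 2) rfl) := isIso_of_mono_of_epi _
      obtain ⟨e⟩ := ih S.X₃ hQ
      exact ⟨(EtCoh.pull g).mapIso (asIso (l.δ S hS (q + 1) (q + 2) rfl)).symm ≪≫ e ≪≫
        asIso (l'.δ _ hS' (q + 1) (q + 2) rfl)⟩


/-- For a proper morphism f : X → Y the following are equivalent: (1) cohomology commutes with base
change for f, i.e. for every cartesian square with g : Y' → Y, g' : X' → X, f' : X' → Y' and every
torsion abelian sheaf F on X_ét there are isomorphisms g^* R^q f_* F ≅ R^q f'_* g'^* F; (2) for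
every prime ℓ, every sheaf I of ℤ/ℓ-modules on X_ét which is injective among sheaves of ℤ/ℓ-modules,
and every cartesian square as above, R^q f'_*(g'^* I) = 0 for q > 0. Injectivity among sheaves of
ℤ/ℓ-modules is spelled out as the extension property against monomorphisms of sheaves killed by ℓ.
Condition (1) is used in its abstract-isomorphism form; the published proof shows that (2) yields
the canonical base change isomorphisms. -/
theorem result {X Y : Scheme.{u}} (f : X ⟶ Y) [IsProper f] [EtCoh.BCCont f] :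
    EtPBC.CohCommutesWithBC f ↔
      ∀ (ℓ : ℕ), ℓ.Prime → ∀ (I : EtCoh.Ab X), EtCoh.KilledBy ℓ I →
        (∀ (G : EtCoh.Ab X), EtCoh.KilledBy ℓ G → ∀ (a : G ⟶ I) {G' : EtCoh.Ab X} (m : G ⟶ G'),
            EtCoh.KilledBy ℓ G' → Mono m → ∃ b : G' ⟶ I, m ≫ b = a) →
        ∀ ⦃X' Y' : Scheme.{u}⦄ (f' : X' ⟶ Y') (g' : X' ⟶ X) (g : Y' ⟶ Y)
          [EtCoh.BCCont f'] [EtCoh.BCCont g'], IsPullback g' f' f g →
          ∀ q : ℕ, 0 < q → IsZero ((EtCoh.Rpush f' q).obj ((EtCoh.pull g').obj I)) := by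
  constructor
  · intro hC ℓ hℓ I hI hinj X' Y' f' g' g _ _ hsq q hq
    haveI := EtaleSite.preservesFiniteLimits_pull g
    haveI : EtCoh.BCCont g := inferInstance
    obtain ⟨k, rfl⟩ : ∃ k, q = k + 1 := ⟨q - 1, by omega⟩
    let J := Injective.under I
    let a : I ⟶ PullTors.Z J ℓ := kernel.lift _ (Injective.ι I) (by
      rw [Preadditive.comp_nsmul, Category.comp_id, ← Category.id_comp (Injective.ι I),
        ← Preadditive.nsmul_comp, PullTors.nsmul_id_eq_zero hI, zero_comp])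
    haveI : Mono a := mono_of_mono_fac (kernel.lift_ι _ _ _)
    obtain ⟨r, hr⟩ := hinj I hI (𝟙 I) a (PullTors.killedBy_Z J ℓ) inferInstance
    have h0 : IsZero ((EtCoh.Rpush f (k + 1)).obj I) := by
      rw [IsZero.iff_id_eq_zero, ← CategoryTheory.Functor.map_id, ← hr, Functor.map_comp,
        (PullTors.isZero_Rpush_Z J hℓ.pos f k).eq_of_src ((EtCoh.Rpush f (k + 1)).map r) 0, comp_zero]
    obtain ⟨e⟩ := hC f' g' g hsq I
      (GalCohAux.EtNsmul.isTorsion_of_nsmul_id hℓ.pos (PullTors.nsmul_id_eq_zero hI)) (k + 1)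
    exact IsZero.of_iso ((EtCoh.pull g).map_isZero h0) e.symm
  · intro h2 X' Y' f' g' g _ _ _ hsq F hF q
    exact main f f' g' g hsq (fun I _ ℓ hℓ q => h2 ℓ hℓ _ (PullTors.killedBy_Z I ℓ)
      (fun G _ a {G'} m hG' hm => PullTors.exists_extend I ℓ G a m hG' hm) f' g' g hsq (q + 1) (Nat.succ_pos q)) q F hF

end Groth.Agent.S0158
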