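import Groth.Statements.S0159
import Groth.Agent.S0158
import Groth.Agent.EtColim.PushCompAcy
import Groth.Agent.EtAcDepth.Piece

set_option autoImplicit false
set_option backward.isDefEq.respectTransparency false
universe u
open CategoryTheory CategoryTheory.Limits AlgebraicGeometry Opposite
open EtPBC

namespace Groth.Agent.S0159

open Groth.Agent Groth.Agent.EtColim

/-- Let f : X -> Y and g : Y -> Z be proper with f surjective. If cohomology commutes with base change
(abstract form) for f and for g ∘ f then it does for g. -/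
theorem result {X Y Z : Scheme.{u}} (f : X ⟶ Y) (g : Y ⟶ Z) [IsProper f] [IsProper g]
    [Surjective f] [EtCoh.BCCont f] [EtCoh.BCCont g] [EtCoh.BCCont (f ≫ g)]
    (hf : EtPBC.CohCommutesWithBC f) (hgf : EtPBC.CohCommutesWithBC (f ≫ g)) :
    EtPBC.CohCommutesWithBC g := by
  refine (Groth.Agent.S0158.result g).2 fun ℓ hℓ I hI hinj Y' Z' g' a k _ _ hsq q hq => ?_
  obtain ⟨j, rfl⟩ : ∃ j, q = j + 1 := ⟨q - 1, by omega⟩
  haveI := EtaleSite.preservesFiniteLimits_pull f
  haveI := EtaleSite.preservesFiniteLimits_pull a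
  haveI := PullTors.push_pfl f
  let I₀ := Injective.under ((EtCoh.pull f).obj I)
  let J := PullTors.Z I₀ ℓ
  have hJ : EtCoh.KilledBy ℓ J := PullTors.killedBy_Z I₀ ℓ
  let a₀ : (EtCoh.pull f).obj I ⟶ J := kernel.lift _ (Injective.ι _) (by
    rw [Preadditive.comp_nsmul, Category.comp_id, ← Category.id_comp (Injective.ι ((EtCoh.pull f).obj I)),
      ← Preadditive.nsmul_comp, PullTors.nsmul_id_eq_zero (PushCompAcy.killedBy_pull hI f), zero_comp])
  haveI : Mono a₀ := mono_of_mono_fac (kernel.lift_ι _ _ _)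
  haveI : Mono ((EtCoh.pullPushAdj f).unit.app I) := Preadditive.mono_of_cancel_zero _ fun {W} x hx => by
    refine EtAcDepth.eq_zero_of_pull f x ?_
    have h1 := congrArg (fun y => (EtCoh.pull f).map y ≫ (EtCoh.pullPushAdj f).counit.app _) hx
    simpa using h1
  let u : I ⟶ (EtCoh.push f).obj J := (EtCoh.pullPushAdj f).unit.app I ≫ (EtCoh.push f).map a₀
  obtain ⟨r, hr⟩ := hinj I hI (𝟙 I) u (PushCompAcy.killedBy_map hJ f) inferInstance
  let hh : pullback f a ⟶ X := pullback.fst f a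
  let f' : pullback f a ⟶ Y' := pullback.snd f a
  have sq : IsPullback hh f' f a := IsPullback.of_hasPullback f a
  haveI := EtaleSite.preservesFiniteLimits_pull hh
  haveI : EtCoh.BCCont f' := inferInstance
  haveI : EtCoh.BCCont hh := inferInstance
  haveI : EtCoh.BCCont (f' ≫ g') := inferInstance
  haveI := EtConsAb.ProperFibre.isIso_baseChange0_proper f f' hh a sq J
  have hext : ∀ (G : EtCoh.Ab X), EtCoh.KilledBy ℓ G → ∀ (c : G ⟶ J) {G' : EtCoh.Ab X} (m : G ⟶ G'),
      EtCoh.KilledBy ℓ G' → Mono m → ∃ b : G' ⟶ J, m ≫ b = c :=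
    fun G _ c {G'} m hG' hm => PullTors.exists_extend I₀ ℓ G c m hG' hm
  have h1 := (Groth.Agent.S0158.result f).1 hf ℓ hℓ J hJ hext f' hh a sq
  have h2 := (Groth.Agent.S0158.result (f ≫ g)).1 hgf ℓ hℓ J hJ hext (f' ≫ g') hh k (sq.paste_vert hsq)
    (j + 1) j.succ_pos
  have h3 : IsZero ((EtCoh.Rpush g' (j + 1)).obj ((EtCoh.pull a).obj ((EtCoh.push f).obj J))) :=
    IsZero.of_iso ((PushCompAcy.isZero_Rpush_comp_iff f' g' j _ fun b => h1 (b + 1) b.succ_pos).1 h2)
      ((EtCoh.Rpush g' (j + 1)).mapIso (asIso (EtCoh.baseChange0 f a f' hh sq.w J)))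
  rw [IsZero.iff_id_eq_zero, ← CategoryTheory.Functor.map_id, ← CategoryTheory.Functor.map_id (EtCoh.pull a),
    ← hr, Functor.map_comp, Functor.map_comp, h3.eq_of_src ((EtCoh.Rpush g' (j + 1)).map ((EtCoh.pull a).map r)) 0,
    comp_zero]

end Groth.Agent.S0159
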