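import Groth.Statements.S0160
import Groth.Agent.S0158
import Groth.Agent.EtColim.PushCompAcy
import Groth.Agent.EtAcDepth.Piece

set_option autoImplicit false
set_option backward.isDefEq.respectTransparency false
universe u
open CategoryTheory CategoryTheory.Limits AlgebraicGeometry Opposite
open EtPBC

namespace Groth.Agent.S0160

open Groth.Agent Groth.Agent.EtColim

/-- Let f : X -> Y and g : Y -> Z be proper. If cohomology commutes with base change (abstract form) for
f and for g then it does for g ∘ f. -/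
theorem result {X Y Z : Scheme.{u}} (f : X ⟶ Y) (g : Y ⟶ Z) [IsProper f] [IsProper g]
    [EtCoh.BCCont f] [EtCoh.BCCont g] [EtCoh.BCCont (f ≫ g)]
    (hf : EtPBC.CohCommutesWithBC f) (hg : EtPBC.CohCommutesWithBC g) :
    EtPBC.CohCommutesWithBC (f ≫ g) := by
  refine (Groth.Agent.S0158.result (f ≫ g)).2 fun ℓ hℓ I hI hinj X' Z' t hh k _ _ hsq q hq => ?_
  obtain ⟨j, rfl⟩ : ∃ j, q = j + 1 := ⟨q - 1, by omega⟩
  let a : pullback g k ⟶ Y := pullback.fst g k
  let g' : pullback g k ⟶ Z' := pullback.snd g k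
  obtain ⟨f', hf₁, rfl⟩ : ∃ f', f' ≫ a = hh ≫ f ∧ f' ≫ g' = t :=
    ⟨pullback.lift (hh ≫ f) t (by rw [Category.assoc]; exact hsq.w), pullback.lift_fst _ _ _,
      pullback.lift_snd _ _ _⟩
  have sq : IsPullback hh f' f a :=
    IsPullback.of_bot hsq hf₁.symm (IsPullback.of_hasPullback g k)
  haveI := EtaleSite.preservesFiniteLimits_pull a
  haveI : EtCoh.BCCont f' := inferInstance
  haveI : EtCoh.BCCont g' := inferInstance
  haveI : EtCoh.BCCont a := inferInstance
  have h1 := (Groth.Agent.S0158.result f).1 hf ℓ hℓ I hI hinj f' hh a sq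
  haveI := EtConsAb.ProperFibre.isIso_baseChange0_proper f f' hh a sq I
  refine (PushCompAcy.isZero_Rpush_comp_iff f' g' j _ fun b => h1 (b + 1) b.succ_pos).2 ?_
  exact IsZero.of_iso ((Groth.Agent.S0158.result g).1 hg ℓ hℓ _ (PushCompAcy.killedBy_map hI f)
      (fun G hG b {G'} m hG' hm => PushCompAcy.exists_extend_push f hinj G hG b m hG' hm) g' a k
      (IsPullback.of_hasPullback g k) (j + 1) j.succ_pos)
    ((EtCoh.Rpush g' (j + 1)).mapIso (asIso (EtCoh.baseChange0 f a f' hh sq.w I))).symm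

end Groth.Agent.S0160
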