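import Groth.Statements.S0164
import Groth.Agent.EtSubmersive.ShBC
import Groth.Agent.EtaleSite.SetSH
import Groth.Agent.EtLimit.Nbhd
import Groth.Agent.FBase.BC
import Groth.Agent.S0537

set_option autoImplicit false
universe u
open CategoryTheory CategoryTheory.Limits AlgebraicGeometry Opposite
open EtPBC

namespace Groth.Agent.S0164

/-- The identity of an affine scheme is presented by the constant system. -/
def idPres {T : Scheme.{u}} [hT : IsAffine T] : Groth.Agent.EtLimit.EtPres (𝟙 T) where
  I := PUnit.{u + 1}
  D := (Functor.const _).obj T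
  π := 𝟙 _
  isLimit :=
    { lift := fun s => s.π.app PUnit.unit
      fac := fun _ _ => Category.comp_id _
      uniq := fun _ _ h => (Category.comp_id _).symm.trans (h PUnit.unit) }
  p _ := 𝟙 T
  isAffine _ := hT
  etale _ := MorphismProperty.id_mem (W := @Etale) T
  w _ _ _ := Category.comp_id _
  fac _ := Category.comp_id _

/-- Let k be a separably closed field and S = Spec k. Let f : X → S be any morphism, g : T → S
quasi-compact and quasi-separated, and Y = X ×_S T with projections h : Y → X and e : Y → T. Then
for every abelian sheaf F on T_ét the base change map f^* g_* F → h_* e^* F is an isomorphism. (The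
published statement is for sheaves of sets; it is stated here for abelian sheaves.) -/
theorem result {k : Type u} [Field k] [IsSepClosed k]
    {X Y T : Scheme.{u}} (f : X ⟶ Spec (CommRingCat.of k)) (g : T ⟶ Spec (CommRingCat.of k))
    [QuasiCompact g] [QuasiSeparated g] (h : Y ⟶ X) (e : Y ⟶ T) (hc : IsPullback e h g f)
    [EtCoh.BCCont f] [EtCoh.BCCont g] [EtCoh.BCCont h] [EtCoh.BCCont e] (F : EtCoh.Ab T) :
    IsIso (EtCoh.baseChange0 g f h e hc.w F) := by
  refine EtSubmersive.isIso_baseChange0 g f h e hc F fun x => ?_
  obtain ⟨RX, _, _, _, _, iX⟩ := S0537.result (X.presheaf.stalk x)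
  haveI := iX.henselian
  haveI := iX.isSepClosure.sep_closed
  obtain ⟨PX⟩ := EtLimit.nonempty_etPres X x RX
  let σX := Hens2.specOf X x RX
  obtain ⟨φ, hφ⟩ := Spec.map_surjective (σX ≫ f)
  have hflat : φ.hom.Flat := by
    algebraize [φ.hom]
    exact RingHom.flat_algebraMap_iff.2 inferInstance
  have hloc : IsLocalHom φ.hom :=
    ⟨fun a ha => isUnit_iff_ne_zero.2 fun h0 => ha.ne_zero (by rw [h0, map_zero])⟩
  refine ⟨k, RX, inferInstance, inferInstance, inferInstance, inferInstance, inferInstance,
    inferInstance, 𝟙 _, σX, idPres, PX, φ.hom, hloc, hflat,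
    (Category.comp_id _).trans hφ, ?_, fun Ω _ _ η => ?_⟩
  · show X.fromSpecStalk x (PrimeSpectrum.comap (algebraMap (X.presheaf.stalk x) RX) _) = x
    rw [IsLocalRing.comap_closedPoint]
    exact Scheme.fromSpecStalk_closedPoint
  · haveI : PreconnectedSpace ↥(Spec (CommRingCat.of RX)) :=
      preconnectedSpace_of_forall_constant fun g hg y z =>
        ((IsLocalRing.specializes_closedPoint y).map hg).eq.trans
          ((IsLocalRing.specializes_closedPoint z).map hg).eq.symm
    haveI : ConnectedSpace ↥(Spec (CommRingCat.of RX)) := ⟨⟨IsLocalRing.closedPoint RX⟩⟩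
    haveI := FBase.BC.geometricallyConnected_of_isSepClosed (k := k) (Spec.map φ)
    exact GeometricallyConnected.geometrically_connectedSpace (f := Spec.map φ) η _ _
      (IsPullback.of_hasPullback _ _)

end Groth.Agent.S0164
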