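import Groth.Statements.S0170
import Groth.Agent.AbsFlat93.QfEtale

set_option autoImplicit false
universe u
open CategoryTheory CategoryTheory.Limits AlgebraicGeometry Opposite
open EtPBC

namespace Groth.Agent.S0170

/-- For f : Y -> X quasi-finite and of finite presentation with X and Y affine, one can find an affine
X' mapping onto X such that the base change Y' = X' x_X Y contains a closed subscheme Z' with the
same underlying space (a thickening) for which the composite Z' -> Y' -> X' is finite etale. -/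
theorem result {Y X : Scheme.{u}} [IsAffine X] [IsAffine Y] (f : Y ⟶ X)
    [LocallyQuasiFinite f] [LocallyOfFinitePresentation f] :
    ∃ (X' : Scheme.{u}) (_ : IsAffine X') (a : X' ⟶ X) (_ : Surjective a) (Z' : Scheme.{u})
      (c : Z' ⟶ pullback a f) (_ : IsClosedImmersion c) (_ : Surjective c),
      IsFinite (c ≫ pullback.fst a f) ∧ Etale (c ≫ pullback.fst a f) := by
  let k : X → Type u := fun s => AlgebraicClosure (X.residueField s)
  let g : ∀ s, Spec (CommRingCat.of (k s)) ⟶ X := fun s =>
    Spec.map (CommRingCat.ofHom (algebraMap (X.residueField s) (k s))) ≫ X.fromSpecResidueField s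
  let ψ : ∀ s, Γ(X, ⊤) ⟶ CommRingCat.of (k s) := fun s => Spec.preimage (g s ≫ X.isoSpec.hom)
  let R : CommRingCat.{u} := CommRingCat.of (∀ s, k s)
  let a : Spec R ⟶ X := Spec.map (CommRingCat.ofHom (Pi.ringHom fun s => (ψ s).hom)) ≫ X.isoSpec.inv
  have ha : Surjective a := by
    refine ⟨fun s => ?_⟩
    have e : Spec.map (CommRingCat.ofHom (Pi.evalRingHom k s)) ≫ a = g s := by
      have e1 : CommRingCat.ofHom (Pi.ringHom fun t => (ψ t).hom) ≫ CommRingCat.ofHom (Pi.evalRingHom k s) = ψ s :=
        CommRingCat.hom_ext (RingHom.ext fun x => rfl)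
      rw [← Category.assoc, ← Spec.map_comp, e1, Spec.map_preimage, Category.assoc, X.isoSpec.hom_inv_id,
        Category.comp_id]
    have h := congrArg (fun q : Spec (CommRingCat.of (k s)) ⟶ X => q default) e
    simp only [g, Scheme.Hom.comp_apply] at h
    exact ⟨_, h.trans (Scheme.fromSpecResidueField_apply _ _)⟩
  let φ : R ⟶ Γ(pullback a f, ⊤) := (Scheme.ΓSpecIso R).inv ≫ (pullback.fst a f).appTop
  have hφ : Spec.map φ = (pullback a f).isoSpec.inv ≫ pullback.fst a f := by
    rw [Iso.eq_inv_comp, Spec.map_comp, ← Category.assoc, Scheme.isoSpec_hom_naturality,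
      Scheme.isoSpec_Spec_hom, Category.assoc, ← Spec.map_comp, Iso.inv_hom_id, Spec.map_id, Category.comp_id]
  have hfp : φ.hom.FinitePresentation := by
    refine HasRingHomProperty.Spec_iff.1 (?_ : LocallyOfFinitePresentation (Spec.map φ))
    rw [hφ]
    infer_instance
  have hqf : φ.hom.QuasiFinite := by
    refine HasRingHomProperty.Spec_iff.1 (?_ : LocallyQuasiFinite (Spec.map φ))
    rw [hφ]
    infer_instance
  algebraize [φ.hom]
  obtain ⟨J, -, hnil, hfin, het⟩ := Groth.Agent.AbsFlat93.exists_finite_etale (R := R)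
    (Groth.Agent.AbsFlat93.pi_inv k) (Groth.Agent.AbsFlat93.pi_root k) Γ(pullback a f, ⊤)
  let mk : Γ(pullback a f, ⊤) ⟶ CommRingCat.of (Γ(pullback a f, ⊤) ⧸ J) :=
    CommRingCat.ofHom (Ideal.Quotient.mk J)
  have hc1 : IsClosedImmersion (Spec.map mk) :=
    IsClosedImmersion.spec_of_surjective mk Ideal.Quotient.mk_surjective
  have hc2 : Surjective (Spec.map mk) := by
    refine ⟨fun p => ?_⟩
    have : p ∈ Set.range (PrimeSpectrum.comap (Ideal.Quotient.mk J)) := by
      rw [range_comap_of_surjective _ _ Ideal.Quotient.mk_surjective, Ideal.mk_ker]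
      intro x hx
      obtain ⟨n, hn⟩ := hnil x hx
      exact p.isPrime.mem_of_pow_mem n (hn ▸ p.asIdeal.zero_mem)
    exact this
  refine ⟨Spec R, inferInstance, a, ha, Spec (CommRingCat.of (Γ(pullback a f, ⊤) ⧸ J)),
    Spec.map mk ≫ (pullback a f).isoSpec.inv, inferInstance, inferInstance, ?_⟩
  have hcomp : (Spec.map mk ≫ (pullback a f).isoSpec.inv) ≫ pullback.fst a f =
      Spec.map (CommRingCat.ofHom (algebraMap R (Γ(pullback a f, ⊤) ⧸ J))) := by
    rw [Category.assoc, ← hφ, ← Spec.map_comp]
    rfl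
  rw [hcomp]
  exact ⟨(IsFinite.SpecMap_iff _).2 (RingHom.finite_algebraMap.2 hfin),
    HasRingHomProperty.Spec_iff.2 (RingHom.etale_algebraMap.2 het)⟩

end Groth.Agent.S0170
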