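import Groth.Statements.S0749
import Groth.Agent.PunctLib.Resolution
import Groth.Agent.PunctLib.Split
import Mathlib.RingTheory.Jacobson.Ring

set_option autoImplicit false
open CategoryTheory CategoryTheory.Limits AlgebraicGeometry Opposite
open scoped TensorProduct
universe u
attribute [local instance] HasDerivedCategory.standard
open EtRest

namespace Groth.Agent.S0749

open Groth.Agent Groth.Agent.EtaleSite Groth.Agent.PunctLib
open scoped ZeroObject

theorem isSepClosed_residueField {K : Type u} [Field K] [IsSepClosed K] {X : Scheme.{u}}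
    (a : X ⟶ Spec (CommRingCat.of K)) [LocallyOfFiniteType a] (x : X) (hx : IsClosed ({x} : Set X)) :
    IsSepClosed (X.residueField x) := by
  have : IsClosedImmersion (X.fromSpecResidueField x) :=
    .of_isPreimmersion _ (by rw [Scheme.range_fromSpecResidueField]; exact hx)
  obtain ⟨ψ, hψ⟩ := Spec.map_surjective (X.fromSpecResidueField x ≫ a)
  have hft : ψ.hom.FiniteType := by
    rw [← HasRingHomProperty.Spec_iff (P := @LocallyOfFiniteType), hψ]; infer_instance
  algebraize [ψ.hom]
  have : Module.Finite K (X.residueField x) := finite_of_finite_type_of_isJacobsonRing K _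
  let L := SeparableClosure (X.residueField x)
  letI : Algebra K L := ((algebraMap (X.residueField x) L).comp (algebraMap K (X.residueField x))).toAlgebra
  have : IsScalarTower K (X.residueField x) L := .of_algebraMap_eq' rfl
  have : Algebra.IsAlgebraic K L := Algebra.IsAlgebraic.trans K (X.residueField x) L
  have : IsPurelyInseparable K L := Algebra.IsAlgebraic.isPurelyInseparable_of_isSepClosed
  have : IsPurelyInseparable (X.residueField x) L := IsPurelyInseparable.tower_top K (X.residueField x) L
  have hb : Function.Bijective (algebraMap (X.residueField x) L) :=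
    ⟨(algebraMap (X.residueField x) L).injective,
      IsPurelyInseparable.surjective_algebraMap_of_isSeparable (X.residueField x) L⟩
  let e := RingEquiv.ofBijective (algebraMap (X.residueField x) L) hb
  refine IsSepClosed.of_exists_root _ fun p hp hirr hsep => ?_
  obtain ⟨r, hr⟩ := IsSepClosed.exists_root (p.map e.toRingHom)
    (by rw [Polynomial.degree_map]; exact hirr.degree_pos.ne') hsep.map
  refine ⟨e.symm r, e.injective ?_⟩
  rw [map_zero]
  have := Polynomial.eval_map_apply (p := p) e.toRingHom (e.symm r)
  rw [show e.toRingHom (e.symm r) = r from e.apply_symm_apply r] at this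
  exact this.symm.trans hr

/-- Let K be a separably closed field, X of finite type over K and Q an object of D(X_et) whose
cohomology sheaves have zero stalks at every geometric point lying over a non-closed point of X.
Then Q = 0 if and only if H^i(X, Q) = Hom(Z, Q[i]) vanishes for all integers i. -/
theorem result {K : Type u} [Field K] [IsSepClosed K]
    {X : Scheme.{u}} (a : X ⟶ Spec (CommRingCat.of K)) [LocallyOfFiniteType a] [QuasiCompact a]
    (Q : DCoh.DEt X)
    (hQ : ∀ (x : ↥X), ¬ IsClosed ({x} : Set ↥X) → ∀ (Ω : Type u) [Field Ω] [IsSepClosed Ω]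
      (ξ : Spec (CommRingCat.of Ω) ⟶ X), Set.range ξ.base = {x} →
        ∀ i : ℤ, IsZero ((EtCoh.stalk ξ).obj (DCoh.HDEt Q i))) :
    IsZero Q ↔ ∀ i : ℤ, Subsingleton
      ((DerivedCategory.singleFunctor (EtCoh.Ab X) 0).obj (EtCoh.const X ℤ) ⟶ (shiftFunctor (DCoh.DEt X) i).obj Q) := by
  have : CompactSpace X := QuasiCompact.compactSpace_of_compactSpace a
  have : IsLocallyNoetherian X := LocallyOfFiniteType.isLocallyNoetherian a
  have : IsNoetherian X := {}
  have hsc := isSepClosed_residueField a
  constructor
  · intro h i
    exact ⟨fun f g => ((shiftFunctor (DCoh.DEt X) i).map_isZero h).eq_of_tgt f g⟩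
  · intro h
    let K := DerivedCategory.Q.objPreimage Q
    let e : DerivedCategory.Q.obj K ≅ Q := DerivedCategory.Q.objObjPreimageIso Q
    have eH : ∀ m, (Split.sc K m).homology ≅ DCoh.HDEt Q m := fun m =>
      (K.homologyIsoSc' (m - 1) m (m + 1) (by simp) (by simp)).symm ≪≫
        ((DerivedCategory.homologyFunctorFactors (EtCoh.Ab X) m).app K).symm ≪≫
          (DerivedCategory.homologyFunctor (EtCoh.Ab X) m).mapIso e
    have hz : ∀ m, ZeroOff (C0 X) ((Split.sc K m).homology) := fun m y hy =>
      (hQ y hy (SeparableClosure (X.residueField y)) (geomPointAt X y)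
        ((EtConsAb.range_geomPoint _).trans (congrArg (fun q => ({q} : Set X))
          (geomPointAt_apply X y _))) m).of_iso ((EtCoh.stalk (geomPointAt X y)).mapIso (eH m))
    choose I0 I1 a b w h0 h1 hS using fun m => exists_resolution hsc _ (hz m)
    let D : Split.Data K := ⟨I0, I1, a, b, w, h0, h1, hS⟩
    suffices hall : ∀ n, IsZero (DCoh.HDEt Q n) by
      have : IsIso (0 : Q ⟶ (0 : DCoh.DEt X)) := (DerivedCategory.isIso_iff (EtCoh.Ab X) _).2 fun n =>
        ⟨0, (hall n).eq_of_src _ _,
          ((DerivedCategory.homologyFunctor (EtCoh.Ab X) n).map_isZero (isZero_zero _)).eq_of_src _ _⟩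
      exact (isZero_zero _).of_iso (asIso (0 : Q ⟶ (0 : DCoh.DEt X)))
    intro n
    have hn : IsZero ((Split.sc K (0 + n)).homology) := isZero_of_hom_const hsc _ (hz _) fun s =>
      Split.eq_zero_of_subsingleton D n s ⟨fun f g => by
        have := h n
        rw [← cancel_mono ((shiftFunctor (DCoh.DEt X) n).map e.hom)]
        exact Subsingleton.elim _ _⟩
    have h2 := hn.of_iso (eH (0 + n)).symm
    rwa [zero_add] at h2

end Groth.Agent.S0749
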