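import Groth.Statements.S0171
import Groth.Agent.GalCohAux.EtSuppClosed
import Groth.Agent.S0749

set_option autoImplicit false
universe u
open CategoryTheory CategoryTheory.Limits AlgebraicGeometry Opposite
open EtPBC

namespace Groth.Agent.S0171

/-- K separably closed, X of finite type over K, F an abelian sheaf on X_et whose support consists of
closed points. Then H^q(X, F) = 0 for q > 0. (The source also shows F is globally generated; not
stated here.) -/
theorem result {K : Type u} [Field K] [IsSepClosed K] (X : Scheme.{u})
    (a : X ⟶ Spec (CommRingCat.of K)) [LocallyOfFiniteType a] [QuasiCompact a]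
    (F : EtCoh.Ab X) (hF : ∀ x ∈ EtPBC.supp F, IsClosed ({x} : Set X)) (q : ℕ) (hq : 0 < q) :
    Subsingleton (EtCoh.H X F q) := by
  haveI : IsLocallyNoetherian X := LocallyOfFiniteType.isLocallyNoetherian a
  haveI : CompactSpace X := QuasiCompact.compactSpace_of_compactSpace a
  haveI : IsNoetherian X := {}
  refine GalCohAux.EtSuppClosed.subsingleton_H_of_supp_closed F hF q fun x hx M => ?_
  haveI := S0749.isSepClosed_residueField a x (hF x hx)
  exact GalCohAux.EtSuppClosed.subsingleton_sepClosed (X.residueField x) M q hq

end Groth.Agent.S0171
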