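import Groth.Statements.S0173
import Groth.Agent.EtConsAb.Colim
import Groth.Agent.LimTop.Closure

set_option autoImplicit false
universe u
open CategoryTheory CategoryTheory.Limits AlgebraicGeometry Opposite
open EtPBC

namespace Groth.Agent.S0173

/-- The closure of a constructible set consists of specialisations of its points. -/
theorem exists_specializes {X : Scheme.{u}} {E : Set X} (hE : Topology.IsConstructible E) {y : X}
    (hy : y ∈ closure E) : ∃ z ∈ E, z ⤳ y :=
  Groth.Agent.LimTop.exists_specializes_of_mem_closure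
    (fun x => ⟨Set.univ, isOpen_univ, trivial, {Subtype.val ⁻¹' E}, fun T hT => by
      rw [Set.mem_singleton_iff.1 hT]
      exact (Groth.Agent.EtConsAb.isConstructible_preimage_val_univ hE).isLocallyConstructible,
      (Set.sInter_singleton _).symm⟩) hy


/-- (1), for X irreducible: X quasi-compact, quasi-separated and irreducible with generic point η, F a
torsion abelian sheaf on X_et whose stalk over η vanishes. Then F is a filtered colimit of
constructible abelian sheaves each supported in a closed subset not containing η. (The source allows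
η to be the generic point of any irreducible component.) -/
theorem result (X : Scheme.{u}) [CompactSpace X] [QuasiSeparatedSpace X]
    [IrreducibleSpace X] (F : EtCoh.Ab X) (hF : EtCoh.IsTorsion F) (hη : genericPoint X ∉ EtPBC.supp F) :
    ∃ (J : Type (u + 1)) (_ : SmallCategory J) (_ : IsFiltered J) (D : J ⥤ EtCoh.Ab X)
      (c : Cocone D) (_ : IsColimit c), Nonempty (c.pt ≅ F) ∧
      ∀ j, EtPBC.IsConstructible (D.obj j) ∧
        ∃ Z : Set X, IsClosed Z ∧ genericPoint X ∉ Z ∧ EtPBC.supp (D.obj j) ⊆ Z := by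
  classical
  let P : Groth.Agent.EtConsAb.Stage F → Prop := fun p => genericPoint X ∉ EtPBC.supp p.obj
  have hP : ∀ p, ∃ q, p ≤ q ∧ P q := by
    intro p
    let ξ := Groth.Agent.EtaleSite.geomPointAt X (genericPoint X)
    have hx : ξ default = genericPoint X := Groth.Agent.EtaleSite.geomPointAt_apply X _ _
    haveI := Groth.Agent.EtConsAb.finite_stalk_of_isConstructible
      (Groth.Agent.EtConsAb.isConstructible_genSum p.1.1) ξ
    have h0 : IsZero ((EtCoh.stalk ξ).obj F) :=
      not_not.1 fun h => hη (hx ▸ (Groth.Agent.EtConsAb.mem_supp_iff ξ).2 h)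
    have hy : ∀ y, (EtCoh.stalk ξ).map (Groth.Agent.EtConsAb.genπ p.1.1) y = 0 :=
      fun y => congrArg (fun k => k y)
        (h0.eq_of_tgt ((EtCoh.stalk ξ).map (Groth.Agent.EtConsAb.genπ p.1.1)) 0)
    obtain ⟨q, hpq, hq1, hq⟩ := Groth.Agent.EtConsAb.Stage.exists_ge_kill
      (fun S => Groth.Agent.EtConsAb.isTorsion_of_isConstructible (Groth.Agent.EtConsAb.isConstructible_genSum S))
      p ξ id hy
    refine ⟨q, hpq, fun hmem => (Groth.Agent.EtConsAb.mem_supp_iff ξ).1 (hx.symm ▸ hmem) ?_⟩
    obtain ⟨⟨S, R⟩, hR⟩ := p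
    obtain ⟨⟨S', R'⟩, hR'⟩ := q
    obtain rfl : S' = S := hq1
    have hz : ∀ x, x = (0 : ((EtCoh.stalk ξ).obj _ : AddCommGrpCat)) := fun x => by
      obtain ⟨y, rfl⟩ := Groth.Agent.EtConsAb.stalk_surjective_of_epi ξ
        (cokernel.π (Groth.Agent.EtConsAb.Stage.relMap ⟨(S', R'), hR'⟩)) x
      have h := hq y
      rw [show Groth.Agent.EtConsAb.genIncl hpq.1 = 𝟙 _ from Groth.Agent.EtConsAb.genIncl_refl S',
        CategoryTheory.Functor.map_id] at h
      exact h
    haveI := (⟨fun a b => (hz a).trans (hz b).symm⟩ : Subsingleton ((EtCoh.stalk ξ).obj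
      (Groth.Agent.EtConsAb.Stage.obj ⟨(S', R'), hR'⟩) : AddCommGrpCat))
    exact AddCommGrpCat.isZero_of_subsingleton _
  haveI := Groth.Agent.EtConsAb.Stage.directed_subtype P hP
  haveI : Nonempty {p // P p} := ⟨⟨_, (hP (Classical.arbitrary _)).choose_spec.2⟩⟩
  obtain ⟨hc⟩ := Groth.Agent.EtConsAb.Stage.nonempty_isColimit_cocone hF P hP
  refine ⟨{p // P p}, inferInstance, inferInstance, _, _, hc, ⟨Iso.refl _⟩, fun p => ⟨
    Groth.Agent.EtConsAb.Stage.isConstructible_obj p.1, closure (EtPBC.supp p.1.obj), isClosed_closure,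
    fun h => ?_, subset_closure⟩⟩
  obtain ⟨z, hz, hzs⟩ := exists_specializes (Groth.Agent.EtConsAb.isConstructible_supp_of_strataCover
    (Groth.Agent.EtConsAb.strataCover_of_isConstructible (Groth.Agent.EtConsAb.Stage.isConstructible_obj p.1))) h
  exact p.2 ((hzs.antisymm (genericPoint_specializes z)).eq ▸ hz)

end Groth.Agent.S0173
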