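import Groth.Statements.S0175
import Groth.Agent.EtSupp.Mono
import Groth.Agent.EtaleSite.PushImage

set_option autoImplicit false
universe u
open CategoryTheory CategoryTheory.Limits AlgebraicGeometry Opposite
open EtPBC

namespace Groth.Agent.S0175

open Groth.Agent.EtSupp in
theorem supp_kernel_subset {Z X U : Scheme.{u}} (i : Z ⟶ X)
    (j : U ⟶ X) [IsOpenImmersion j] (hZU : Set.range j = (Set.range i)ᶜ)
    [EtCoh.BCCont j] (I : EtCoh.Ab X) :
    EtPBC.supp (kernel ((EtCoh.pullPushAdj j).unit.app I)) ⊆ Set.range i.base := by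
  rintro x ⟨Ω, _, _, ξ, hξ, hne⟩
  by_contra hx
  rcases exists_lift_or_notMem j ξ with ⟨ζ, hζ⟩ | hout
  · refine hne ?_
    have h1 : IsZero ((EtCoh.pull j).obj (kernel ((EtCoh.pullPushAdj j).unit.app I))) := by
      have hz := (comp_unitApp_eq_zero_iff j (kernel.ι (EtDual.unitApp j I))).mp (kernel.condition _)
      have : Mono ((EtCoh.pull j).map (kernel.ι (EtDual.unitApp j I))) := inferInstance
      exact IsZero.of_mono_eq_zero _ hz
    have h2 : IsZero ((EtCoh.stalk ζ).obj ((EtCoh.pull j).obj
        (kernel ((EtCoh.pullPushAdj j).unit.app I)))) := (EtCoh.stalk ζ).map_isZero h1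
    have h3 := h2.of_iso ((EtaleSite.stalkPullIso j ζ).app _).symm
    rw [hζ] at h3
    exact h3
  · apply hout
    have : ξ.base default = x := hξ.le ⟨_, rfl⟩
    rw [this]
    exact (hZU.symm ▸ hx : x ∈ Set.range j)

/-- Let i : Z → X be a closed immersion of schemes with open complement j : U → X, and I an injective
abelian sheaf on X_ét. Then the subsheaf H_Z(I) of sections supported on Z (the kernel of I → j_*
j^* I), viewed on Z_ét via i^*, is an injective abelian sheaf on Z_ét. -/
theorem result {Z X U : Scheme.{u}} (i : Z ⟶ X) [IsClosedImmersion i]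
    (j : U ⟶ X) [IsOpenImmersion j] (hZU : Set.range j = (Set.range i)ᶜ)
    [EtCoh.BCCont i] [EtCoh.BCCont j] (I : EtCoh.Ab X) [Injective I] :
    Injective ((EtCoh.pull i).obj (kernel ((EtCoh.pullPushAdj j).unit.app I))) := by
  set K := kernel ((EtCoh.pullPushAdj j).unit.app I)
  haveI hK : Injective K := EtSupp.injective_secSupp j I
  haveI := EtaleSite.isIso_unit_of_supp i K (supp_kernel_subset i j hZU I)
  let e : K ≅ (EtCoh.push i).obj ((EtCoh.pull i).obj K) :=
    asIso ((EtCoh.pullPushAdj i).unit.app K)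
  let ff := EtaleSite.fullyFaithfulPush i
  haveI : (EtCoh.push i).Faithful := ff.faithful
  haveI : (EtCoh.push i).PreservesMonomorphisms :=
    Functor.preservesMonomorphisms_of_adjunction (EtCoh.pullPushAdj i)
  constructor
  intro A B f φ _
  let g := Injective.factorThru ((EtCoh.push i).map f ≫ e.inv) ((EtCoh.push i).map φ)
  refine ⟨ff.preimage (g ≫ e.hom), ff.map_injective ?_⟩
  rw [Functor.map_comp, ff.map_preimage, ← Category.assoc, Injective.comp_factorThru,
    Category.assoc, Iso.inv_hom_id, Category.comp_id]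

end Groth.Agent.S0175
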