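import Groth.Statements.S0176
import Groth.Agent.ProEtW.AlgResidue

set_option autoImplicit false
universe u
open CategoryTheory CategoryTheory.Limits AlgebraicGeometry Opposite
open EtPBC

namespace Groth.Agent.S0176

/-- For a weakly etale ring map A -> B (Mathlib's Algebra.WeaklyEtale) one can enlarge B along a
faithfully flat ind-etale extension B' so that B' is already ind-etale over A; here ind-etale means:
a filtered colimit of etale algebras. -/
theorem result (A B : Type u) [CommRing A] [CommRing B] [Algebra A B]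
    [Algebra.WeaklyEtale A B] :
    ∃ (B' : Type u) (_ : CommRing B') (_ : Algebra B B') (_ : Algebra A B') (_ : IsScalarTower A B B'),
      Module.FaithfullyFlat B B' ∧ EtPBC.IsIndEtale B B' ∧ EtPBC.IsIndEtale A B' := by
  obtain ⟨C, D, _, _, _, _, _, _, _, _, hffC, hfC, hffD, hfD, -, hwD, -, hcl, -, -, hsh⟩ :=
    Groth.Agent.ProEtW.AlgResidue.exists_square
      (Groth.Agent.ProEtW.AlgResidue.of_weaklyEtale (A := A) (B := B))
  have : Algebra.WeaklyEtale A C := Groth.Agent.IndAlg.Etale.weaklyEtale hfC
  have : Algebra.WeaklyEtale B D := Groth.Agent.IndAlg.Etale.weaklyEtale hfD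
  have : Algebra.WeaklyEtale A D := Algebra.WeaklyEtale.trans A B D
  have : Algebra.WeaklyEtale C D := Groth.Agent.WEtale.Local.of_tower A C D
  have hid : EtPBC.IdentifiesLocalRings C D :=
    Groth.Agent.WEtale.Local.identifiesLocalRings_of_below fun q => by
      obtain ⟨m, ⟨hm, hqm⟩, -⟩ := hwD.2.2 q
      exact ⟨m, (PrimeSpectrum.le_iff_specializes q m).2 hqm,
        Groth.Agent.ProEtW.Contractible.bijective_over_closedPoint hsh m (hcl.le hm)⟩
  exact ⟨D, inferInstance, inferInstance, inferInstance, inferInstance, hffD,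
    Groth.Agent.IndAlg.Etale.isInd_of_fac hfD,
    Groth.Agent.IndAlg.Etale.isInd_of_fac (Groth.Agent.IndAlg.Etale.fac_trans hfC
      (Groth.Agent.WEtale.Local.fac_of_isIndZariski
        (Groth.Agent.ProEtW.IdentifiesLocal.isIndZariski hwD hid)))⟩

end Groth.Agent.S0176
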