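import Groth.Statements.S0177
import Groth.Agent.ProEtW.Contractible

set_option autoImplicit false
universe u
open CategoryTheory CategoryTheory.Limits AlgebraicGeometry Opposite
open EtPBC

namespace Groth.Agent.S0177

/-- For every ring A there is a faithfully flat ind-etale A-algebra D which is w-contractible, i.e.
every faithfully flat weakly etale D-algebra has a D-algebra retraction. -/
theorem result (A : Type u) [CommRing A] :
    ∃ (D : Type u) (_ : CommRing D) (_ : Algebra A D),
      Module.FaithfullyFlat A D ∧ EtPBC.IsIndEtale A D ∧ EtPBC.IsWContractible D := by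
  obtain ⟨D, _, _, hff, hfac, hw, hED, hsh, -⟩ := Groth.Agent.ProEtW.Contractible.exists_wContractible A
  exact ⟨D, inferInstance, inferInstance, hff, Groth.Agent.IndAlg.Etale.isInd_of_fac hfac,
    Groth.Agent.ProEtW.Contractible.isWContractible hw hED fun m _ => hsh m⟩

end Groth.Agent.S0177
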