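import Groth.Statements.S0179
import Groth.Agent.ProEtW.Spectral
import Mathlib.Order.Disjointed

set_option autoImplicit false
universe u
open EtPBC

namespace Groth.Agent.S0179

/-- For a spectral space X with set of closed points X_0, the following are equivalent: (1) any open
cover of X admits a refinement by finitely many pairwise disjoint open-and-closed pieces; (2) the
map from X_0 to the space of connected components pi_0(X) is a bijection. -/
theorem result (X : Type u) [TopologicalSpace X] [SpectralSpace X] :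
    (∀ (ι : Type u) (U : ι → Set X), (∀ i, IsOpen (U i)) → (⋃ i, U i) = Set.univ →
      ∃ (n : ℕ) (V : Fin n → Set X), (∀ k, IsClopen (V k)) ∧
        Pairwise (fun k l => Disjoint (V k) (V l)) ∧ (⋃ k, V k) = Set.univ ∧ ∀ k, ∃ i, V k ⊆ U i) ↔
    Function.Bijective (fun x : {x : X // IsClosed ({x} : Set X)} => _root_.ConnectedComponents.mk x.1) := by
  constructor
  · intro h
    refine ⟨?_, Groth.Agent.ProEtW.Spectral.surjective_closedPoints_mk⟩
    intro x y hxy
    by_contra hne
    have hne' : x.1 ≠ y.1 := fun e => hne (Subtype.ext e)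
    obtain ⟨n, V, hV, -, hcov, href⟩ := h (ULift Bool)
      (fun b => if b.down then {y.1}ᶜ else {x.1}ᶜ)
      (fun b => by split; exacts [y.2.isOpen_compl, x.2.isOpen_compl])
      (by
        ext z
        simp only [Set.mem_iUnion, Set.mem_univ, iff_true]
        by_cases hz : z = y.1
        · exact ⟨⟨false⟩, by simpa [hz] using hne'.symm⟩
        · exact ⟨⟨true⟩, by simpa using hz⟩)
    obtain ⟨k, hk⟩ := Set.mem_iUnion.1 (hcov.symm ▸ Set.mem_univ x.1 : x.1 ∈ ⋃ k, V k)
    obtain ⟨⟨_ | _⟩, hi⟩ := href k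
    · exact (hi hk) rfl
    · exact Groth.Agent.ProEtW.Spectral.connectedComponents_mk_ne_iff.2
        ⟨V k, hV k, hk, fun hy => (hi hy) rfl⟩ hxy
  · intro hb ι U hU hcov
    have key : ∀ x : {x : X // IsClosed ({x} : Set X)}, ∃ (i : ι) (W : Set X),
        IsClopen W ∧ x.1 ∈ W ∧ W ⊆ U i := by
      intro x
      obtain ⟨i, hi⟩ := Set.mem_iUnion.1 (hcov.symm ▸ Set.mem_univ x.1 : x.1 ∈ ⋃ i, U i)
      have hsub : connectedComponent x.1 ⊆ U i := by
        intro z hz
        obtain ⟨w, hw, hzw⟩ := Groth.Agent.ProEtW.Spectral.exists_closedPoint_specializes z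
        have hwC := isClosed_connectedComponent.stableUnderSpecialization hzw hz
        have : (⟨w, hw⟩ : {x : X // IsClosed ({x} : Set X)}) = x :=
          hb.1 (_root_.ConnectedComponents.coe_eq_coe'.2 hwC)
        have hwx : w = x.1 := congrArg Subtype.val this
        exact hzw.mem_open (hU i) (hwx ▸ hi)
      rw [Groth.Agent.ProEtW.Spectral.connectedComponent_eq_iInter_isClopen] at hsub
      have H1 := (hU i).isClosed_compl.isCompact.inter_iInter_nonempty
        (fun s : {s : Set X // IsClopen s ∧ x.1 ∈ s} => (s : Set X)) fun s => s.2.1.1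
      obtain ⟨si, H2⟩ := not_forall.1 (mt H1 (fun ⟨p, hp, hp'⟩ => hp (hsub hp')))
      refine ⟨i, _, isClopen_biInter_finset (s := si) fun s _ => s.2.1,
        Set.mem_iInter₂.2 fun s _ => s.2.2, fun p hp => ?_⟩
      by_contra hpU
      exact H2 ⟨p, hpU, hp⟩
    choose i W hW hxW hWU using key
    have hWcov : Set.univ ⊆ ⋃ x, W x := by
      intro z _
      obtain ⟨w, hw, hzw⟩ := Groth.Agent.ProEtW.Spectral.exists_closedPoint_specializes z
      exact Set.mem_iUnion.2 ⟨⟨w, hw⟩, hzw.mem_open (hW _).2 (hxW ⟨w, hw⟩)⟩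
    obtain ⟨t, ht⟩ := isCompact_univ.elim_finite_subcover W (fun x => (hW x).2) hWcov
    let e := t.equivFin
    refine ⟨t.card, disjointed (fun k => W (e.symm k).1), fun k => ?_, disjoint_disjointed _, ?_, fun k =>
      ⟨i (e.symm k).1, (disjointed_le _ k).trans (hWU _)⟩⟩
    · rw [disjointed_apply, Finset.sup_set_eq_biUnion]
      exact (hW _).diff (isClopen_biUnion_finset fun j _ => hW _)
    · rw [iUnion_disjointed]
      refine Set.eq_univ_of_univ_subset (ht.trans ?_)
      intro z hz
      obtain ⟨x, hx, hzx⟩ := Set.mem_iUnion₂.1 hz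
      exact Set.mem_iUnion.2 ⟨e ⟨x, hx⟩, by simpa using hzx⟩

end Groth.Agent.S0179
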