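import Groth.Statements.S0180
import Groth.Agent.ProEtW.Spectral

set_option autoImplicit false
universe u
open EtPBC

namespace Groth.Agent.S0180

/-- Final assertion: if X is spectral, the set X_0 of closed points is closed, and every point of X
specializes to exactly one closed point, then X_0 -> pi_0(X) is bijective (so X satisfies the
equivalent conditions of the lemma; such X are called w-local). -/
theorem result (X : Type u) [TopologicalSpace X]
    [SpectralSpace X] (h0 : IsClosed {x : X | IsClosed ({x} : Set X)})
    (huniq : ∀ x : X, ∃! z : X, IsClosed ({z} : Set X) ∧ x ⤳ z) :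
    Function.Bijective (fun x : {x : X // IsClosed ({x} : Set X)} => _root_.ConnectedComponents.mk x.1) := by
  refine ⟨?_, Groth.Agent.ProEtW.Spectral.surjective_closedPoints_mk⟩
  intro x y hxy
  by_contra hne
  have hT : ∀ c : {x : X // IsClosed ({x} : Set X)}, IsClosed ({c} : Set {x : X // IsClosed ({x} : Set X)}) := by
    intro c
    rw [h0.isClosedEmbedding_subtypeVal.isClosed_iff_image_isClosed, Set.image_singleton]
    exact c.2
  have : T1Space {x : X // IsClosed ({x} : Set X)} := ⟨hT⟩
  have : SpectralSpace {x : X // IsClosed ({x} : Set X)} :=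
    Groth.Agent.ProEtW.Spectral.spectralSpace_subtype h0
  have : T2Space {x : X // IsClosed ({x} : Set X)} := Groth.Agent.ProEtW.Spectral.t2Space_of_t1Space
  have : TotallySeparatedSpace {x : X // IsClosed ({x} : Set X)} := inferInstance
  obtain ⟨C, hC, hxC, hyC⟩ := exists_isClopen_of_totally_separated hne
  have hemb := h0.isClosedEmbedding_subtypeVal
  obtain ⟨W, hW, hCW, hDW⟩ := Groth.Agent.ProEtW.Spectral.exists_isClopen_inter_closedPoints h0 huniq
    (hemb.isClosedMap C hC.1) (hemb.isClosedMap Cᶜ hC.compl.1)
    (by
      rw [← Set.image_union, Set.union_compl_self, Set.image_univ]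
      exact Subtype.range_coe)
    (Set.disjoint_image_of_injective Subtype.val_injective disjoint_compl_right)
  exact Groth.Agent.ProEtW.Spectral.connectedComponents_mk_ne_iff.2
    ⟨W, hW, hCW ⟨x, hxC, rfl⟩, fun hy => Set.disjoint_left.1 hDW ⟨y, hyC, rfl⟩ hy⟩ hxy

end Groth.Agent.S0180
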