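import Groth.Statements.S0181
import Groth.Agent.EtConsAb.Compact

set_option autoImplicit false
universe u
open CategoryTheory CategoryTheory.Limits AlgebraicGeometry Opposite
open EtPBC

namespace Groth.Agent.S0181

/-- (2): on a quasi-compact quasi-separated X, if F = colim F_j is a filtered colimit of constructible
abelian sheaves and F is itself constructible, then the ind-object (F_j) is essentially constant
with value F: there are i and s : F -> F_i splitting F_i -> F such that for every j the transition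
F_j -> F_k, for some k beyond i and j, equals F_j -> F -> F_i -> F_k. -/
theorem result (X : Scheme.{u}) [CompactSpace X] [QuasiSeparatedSpace X]
    {J : Type u} [SmallCategory J] [IsFiltered J] (D : J ⥤ EtCoh.Ab X)
    (c : Cocone D) (hc : IsColimit c)
    (hD : ∀ j, EtPBC.IsConstructible (D.obj j)) (hF : EtPBC.IsConstructible c.pt) :
    ∃ (i : J) (s : c.pt ⟶ D.obj i), s ≫ c.ι.app i = 𝟙 c.pt ∧
      ∀ j : J, ∃ (k : J) (a : i ⟶ k) (b : j ⟶ k), D.map b = c.ι.app j ≫ s ≫ D.map a := by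
  obtain ⟨h⟩ := Groth.Agent.EtConsAb.nonempty_isColimit_map_coyoneda hF hc
  obtain ⟨i, s, hs⟩ := Types.jointly_surjective _ h (𝟙 c.pt)
  replace hs : s ≫ c.ι.app i = 𝟙 c.pt := hs
  refine ⟨i, s, hs, fun j => ?_⟩
  obtain ⟨k, a, b, -⟩ : ∃ (k : J) (a : i ⟶ k) (b : j ⟶ k), True :=
    ⟨_, IsFiltered.leftToMax i j, IsFiltered.rightToMax i j, trivial⟩
  obtain ⟨hj⟩ := Groth.Agent.EtConsAb.nonempty_isColimit_map_coyoneda (hD j) hc
  obtain ⟨l, φ, ψ, hl⟩ := (Types.FilteredColimit.isColimit_eq_iff _ hj (i := k) (j := k)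
    (xi := D.map b) (xj := c.ι.app j ≫ s ≫ D.map a)).1 (by
      show D.map b ≫ c.ι.app k = (c.ι.app j ≫ s ≫ D.map a) ≫ c.ι.app k
      rw [c.w, Category.assoc, Category.assoc, c.w, hs]
      exact (Category.comp_id _).symm)
  replace hl : D.map b ≫ D.map φ = (c.ι.app j ≫ s ≫ D.map a) ≫ D.map ψ := hl
  refine ⟨IsFiltered.coeq φ ψ, a ≫ ψ ≫ IsFiltered.coeqHom φ ψ, b ≫ φ ≫ IsFiltered.coeqHom φ ψ, ?_⟩
  rw [Functor.map_comp, Functor.map_comp, ← Category.assoc, hl, Functor.map_comp, Functor.map_comp]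
  simp only [Category.assoc]

end Groth.Agent.S0181
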