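import Groth.Statements.S0182
import Groth.Agent.EtConsAb.Supp

set_option autoImplicit false
universe u
open CategoryTheory CategoryTheory.Limits AlgebraicGeometry Opposite
open EtPBC

namespace Groth.Agent.S0182
open Groth.Agent.EtConsAb

/-- (1), surjectivity case, for abelian sheaves: X quasi-compact and quasi-separated, F -> G a map of
constructible abelian sheaves on X_et; the set of points x of X such that F -> G is surjective on
stalks at (every) geometric point over x is constructible. The source states this for constructible
sheaves of sets; an abelian constructible sheaf is one, with the same stalks. -/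
theorem result (X : Scheme.{u}) [CompactSpace X] [QuasiSeparatedSpace X]
    {F G : EtCoh.Ab X} (φ : F ⟶ G) (hF : EtPBC.IsConstructible F) (hG : EtPBC.IsConstructible G) :
    Topology.IsConstructible {x : X | ∀ (Ω : Type u) [Field Ω] [IsSepClosed Ω]
      (ξ : Spec (CommRingCat.of Ω) ⟶ X), Set.range ξ = {x} →
        Function.Surjective ((EtCoh.stalk ξ).map φ)} := by
  have h : {x : X | ∀ (Ω : Type u) [Field Ω] [IsSepClosed Ω] (ξ : Spec (CommRingCat.of Ω) ⟶ X),
      Set.range ξ = {x} → Function.Surjective ((EtCoh.stalk ξ).map φ)} =
      (EtPBC.supp (cokernel φ))ᶜ := by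
    have key : ∀ (Ω : Type u) [Field Ω] [IsSepClosed Ω] (ξ : Spec (CommRingCat.of Ω) ⟶ X),
        Function.Surjective ((EtCoh.stalk ξ).map φ) ↔ IsZero ((EtCoh.stalk ξ).obj (cokernel φ)) := by
      intro Ω _ _ ξ
      rw [← AddCommGrpCat.epi_iff_surjective]
      constructor
      · intro _
        exact (isZero_cokernel_of_epi ((EtCoh.stalk ξ).map φ)).of_iso (PreservesCokernel.iso _ φ)
      · intro h0
        exact Preadditive.epi_of_isZero_cokernel _ (h0.of_iso (PreservesCokernel.iso _ φ).symm)
    ext x
    constructor
    · rintro hx ⟨Ω, _, _, ξ, hr, hne⟩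
      exact hne ((key Ω ξ).1 (hx Ω ξ hr))
    · intro hx Ω _ _ ξ hr
      exact (key Ω ξ).2 (not_not.1 fun hne => hx ⟨Ω, _, ‹_›, ξ, hr, hne⟩)
  rw [h, Topology.isConstructible_compl]
  exact isConstructible_supp_of_strataCover (strataCover_of_isConstructible (isConstructible_cokernel φ hF hG))

end Groth.Agent.S0182
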