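import Groth.Statements.S0183
import Groth.Agent.ProEtW.IdentifiesLocal

set_option autoImplicit false
universe u
open CategoryTheory CategoryTheory.Limits AlgebraicGeometry Opposite
open EtPBC

namespace Groth.Agent.S0183
open Groth.Agent.ProEtW Set

/-- Suppose A -> B identifies local rings (A_p -> B_q bijective for every prime q of B over p). Then B
can be enlarged along a faithfully flat ind-Zariski extension B' so that B' is already ind-Zariski
over A; ind-Zariski means: a filtered colimit of local isomorphisms in the sense of Mathlib's
Algebra.IsLocalIso (Zariski-locally on the source a standard open immersion). -/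
theorem result (A B : Type u) [CommRing A] [CommRing B] [Algebra A B]
    (h : EtPBC.IdentifiesLocalRings A B) :
    ∃ (B' : Type u) (_ : CommRing B') (_ : Algebra B B') (_ : Algebra A B') (_ : IsScalarTower A B B'),
      Module.FaithfullyFlat B B' ∧ EtPBC.IsIndZariski B B' ∧ EtPBC.IsIndZariski A B' := by
  let h' : WithConstructibleTopology (PrimeSpectrum B) → WithConstructibleTopology (PrimeSpectrum B) :=
    id
  have hh : Continuous h' := continuous_id
  let B' := LocFrac.Ring (WLocalization.sub h')
  let alg : Algebra A B' := ((algebraMap B B').comp (algebraMap A B)).toAlgebra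
  have : IsScalarTower A B B' := .of_algebraMap_eq fun _ => rfl
  refine ⟨B', inferInstance, inferInstance, alg, inferInstance,
    WLocalization.faithfullyFlat hh Function.surjective_id, WLocalization.isIndZariski hh,
    IdentifiesLocal.isIndZariski (WLocalization.isWLocal hh) fun Q => ?_⟩
  have hid := IdentifiesLocal.identifies_locFrac (WLocalization.isOpen_sub hh) Q
  have h2 := h (PrimeSpectrum.comap (algebraMap B B') Q)
  have hc := Localization.localRingHom_comp (Q.asIdeal.comap ((algebraMap B B').comp (algebraMap A B)))
    (Q.asIdeal.comap (algebraMap B B')) Q.asIdeal (algebraMap A B) rfl (algebraMap B B') rfl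
  show Function.Bijective (Localization.localRingHom _ _ ((algebraMap B B').comp (algebraMap A B)) rfl)
  rw [hc]
  exact hid.comp h2

end Groth.Agent.S0183
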