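import Groth.Statements.S0191
import Groth.Agent.CSA.Simple
import Mathlib.LinearAlgebra.TensorProduct.RightExactness

set_option autoImplicit false
universe u v w
open scoped TensorProduct
open Curves

namespace Groth.Agent.S0191

/-- If K is a skew field with center k, every two-sided ideal of A ⊗ K is generated by the elements a ⊗
1 it contains. -/
theorem result (k : Type u) [Field k] (A : Type v) [Ring A] [Algebra k A]
    (K : Type w) [DivisionRing K] [Algebra k K] [Algebra.IsCentral k K]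
    (I : TwoSidedIdeal (A ⊗[k] K)) :
    I = TwoSidedIdeal.span ((fun a : A => a ⊗ₜ[k] (1 : K)) '' {a : A | a ⊗ₜ[k] (1 : K) ∈ I}) := by
  classical
  apply le_antisymm
  · intro x hx
    let 𝔞 : Submodule k A := (TwoSidedIdeal.comap (Algebra.TensorProduct.includeLeft : A →ₐ[k] A ⊗[k] K) I).asIdeal.restrictScalars k
    have h𝔞 : ∀ a : A, a ∈ 𝔞 ↔ a ⊗ₜ[k] (1 : K) ∈ I := fun a => by simp [𝔞, TwoSidedIdeal.mem_comap]
    let J := TwoSidedIdeal.comap (Algebra.TensorProduct.includeLeft : A →ₐ[k] A ⊗[k] K) I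
    let qa : A →ₐ[k] J.ringCon.Quotient := RingCon.mkₐ k J.ringCon
    have hqs : Function.Surjective qa := fun y => Quotient.exists_rep y
    have hker : ∀ a, qa a = 0 ↔ a ∈ 𝔞 := fun a => by
      rw [h𝔞]
      exact (RingCon.eq _).trans ((TwoSidedIdeal.mem_iff _ _).symm.trans (TwoSidedIdeal.mem_comap _))
    have hexact : Function.Exact 𝔞.subtype qa.toLinearMap := fun a => (hker a).trans (by simp)
    let Q := Algebra.TensorProduct.map qa (AlgHom.id k K)
    have hQs : Function.Surjective Q := fun y => LinearMap.rTensor_surjective K hqs y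
    let I' : TwoSidedIdeal (J.ringCon.Quotient ⊗[k] K) := TwoSidedIdeal.mk' (Q '' I)
      ⟨0, I.zero_mem, map_zero Q⟩
      (by rintro _ _ ⟨a, ha, rfl⟩ ⟨b, hb, rfl⟩; exact ⟨a + b, I.add_mem ha hb, map_add Q a b⟩)
      (by rintro _ ⟨a, ha, rfl⟩; exact ⟨-a, I.neg_mem ha, map_neg Q a⟩)
      (by rintro y _ ⟨a, ha, rfl⟩; obtain ⟨b, rfl⟩ := hQs y; exact ⟨b * a, I.mul_mem_left _ _ ha, map_mul Q b a⟩)
      (by rintro _ y ⟨a, ha, rfl⟩; obtain ⟨b, rfl⟩ := hQs y; exact ⟨a * b, I.mul_mem_right _ _ ha, map_mul Q a b⟩)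
    set S := TwoSidedIdeal.span ((fun a : A => a ⊗ₜ[k] (1 : K)) '' {a : A | a ⊗ₜ[k] (1 : K) ∈ I})
    have hkerS : ∀ z, Q z = 0 → z ∈ S := by
      intro z hz
      obtain ⟨w, rfl⟩ := (rTensor_exact K hexact hqs z).1 hz
      induction w using TensorProduct.induction_on with
      | zero => simp
      | tmul a c =>
        have h1 : (a : A) ⊗ₜ[k] (1 : K) ∈ S := TwoSidedIdeal.subset_span ⟨a, (h𝔞 a).1 a.2, rfl⟩
        simpa using S.mul_mem_right _ ((1 : A) ⊗ₜ[k] c) h1
      | add u v hu hv =>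
        rw [map_add]
        exact S.add_mem (hu ((rTensor_exact K hexact hqs _).2 ⟨u, rfl⟩)) (hv ((rTensor_exact K hexact hqs _).2 ⟨v, rfl⟩))
    by_cases hbot : I' = ⊥
    · refine hkerS x ?_
      have : Q x ∈ I' := (TwoSidedIdeal.mem_mk' ..).2 ⟨x, hx, rfl⟩
      simpa [hbot, TwoSidedIdeal.mem_bot] using this
    · exfalso
      obtain ⟨b, hb, hbI⟩ := Groth.Agent.CSA.exists_tmul_one_mem I' hbot
      obtain ⟨z, hzI, hz⟩ := (TwoSidedIdeal.mem_mk' ..).1 hbI
      obtain ⟨a, rfl⟩ := hqs b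
      apply hb
      refine (hker a).2 ((h𝔞 a).2 ?_)
      have hd : Q (a ⊗ₜ[k] (1 : K) - z) = 0 := by rw [map_sub, hz]; simp [Q]
      have hS : S ≤ I := TwoSidedIdeal.span_le.2 (by rintro _ ⟨a, ha, rfl⟩; exact ha)
      simpa using I.add_mem (hS (hkerS _ hd)) hzI
  · exact TwoSidedIdeal.span_le.2 (by rintro _ ⟨a, ha, rfl⟩; exact ha)

end Groth.Agent.S0191
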