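import Groth.Statements.S0195
import Groth.Agent.CSA.SplitEmbed


set_option autoImplicit false
universe u v w
open scoped TensorProduct
open Curves

namespace Groth.Agent.S0195

open Groth.Agent.CSA

/-- A finite extension k' of k splits a finite central simple algebra A exactly when some algebra
similar to A contains k' with dim equal to [k':k]^2. Uses Mathlib's bundled CSA and Brauer
equivalence. -/
theorem result (k : Type u) [Field k] (A : CSA.{u, u} k)
    (k' : Type u) [Field k'] [Algebra k k'] [FiniteDimensional k k'] :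
    Curves.Splits k A k' ↔ ∃ (B : CSA.{u, u} k) (_ : k' →ₐ[k] B), IsBrauerEquivalent A B ∧
      Module.finrank k B = Module.finrank k k' ^ 2 := by
  have hA : IsCSA k A := IsCSA.of k A
  constructor
  · intro h
    obtain ⟨C, _, _, ι, hC, hd, hbr⟩ := exists_brEq_of_splits hA k' h
    obtain ⟨c1, c2, c3⟩ := hC
    obtain ⟨n, m, hn, hm, ⟨φ⟩⟩ := hbr.symm
    exact ⟨{ __ := AlgCat.of k C }, ι, ⟨n, m, hn, hm, ⟨φ⟩⟩, hd⟩
  · rintro ⟨B, ι, ⟨n, m, hn, hm, ⟨φ⟩⟩, hd⟩
    have h : BrEq k A B := ⟨n, m, hn, hm, ⟨φ⟩⟩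
    exact (h.splits_iff hA (IsCSA.of k B) k').2 (splits_of_subfield ι hd rfl)

end Groth.Agent.S0195
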