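import Groth.Statements.S0196
import Groth.Agent.CSA.Subfield

set_option autoImplicit false
universe u v w
open scoped TensorProduct
open Curves

namespace Groth.Agent.S0196

/-- In a finite central skew field D over k, a maximal commutative k-subalgebra L satisfies dim D = (dim
L)^2. -/
theorem result (k : Type u) [Field k]
    (D : Type v) [DivisionRing D] [Algebra k D] [Algebra.IsCentral k D] [FiniteDimensional k D]
    (L : Subalgebra k D) (hcomm : ∀ x ∈ L, ∀ y ∈ L, x * y = y * x)
    (hmax : ∀ L' : Subalgebra k D, (∀ x ∈ L', ∀ y ∈ L', x * y = y * x) → L ≤ L' → L' = L) :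
    Module.finrank k D = Module.finrank k L ^ 2 := by
  classical
  let : CommRing L := { (inferInstance : Ring L) with mul_comm := fun a b => Subtype.ext (hcomm a a.2 b b.2) }
  have : FiniteDimensional k L := FiniteDimensional.finiteDimensional_submodule (Subalgebra.toSubmodule L)
  have : IsDomain L := L.toSubring.instIsDomainSubtypeMem
  letI : Field L := fieldOfFiniteDimensional k L
  refine Groth.Agent.CSA.finrank_sq_of_centralizer L.val fun c hc => ?_
  have hT := Algebra.isMulCommutative_adjoin k (s := insert c (L : Set D)) (by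
    rintro a (rfl | ha) b (rfl | hb)
    · rfl
    · exact (hc ⟨b, hb⟩).symm
    · exact hc ⟨a, ha⟩
    · exact hcomm a ha b hb)
  have h := hmax _ (fun x hx y hy => congrArg Subtype.val (hT.is_comm.comm ⟨x, hx⟩ ⟨y, hy⟩))
    fun x hx => Algebra.subset_adjoin (Set.mem_insert_of_mem _ hx)
  rw [Subalgebra.range_val, ← h]
  exact Algebra.subset_adjoin (Set.mem_insert _ _)

end Groth.Agent.S0196
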