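import Groth.Statements.S0200
import Groth.Agent.CSA.Splitting
import Groth.Agent.S7721

set_option autoImplicit false
universe u v w
open scoped TensorProduct
open Curves

namespace Groth.Agent.S0200

/-- A k-algebra is finite central simple exactly when its base change to the separable closure of k is a
matrix algebra of positive size. -/
theorem result (k : Type u) [Field k] (A : Type v) [Ring A] [Algebra k A] :
    (Algebra.IsCentral k A ∧ IsSimpleRing A ∧ FiniteDimensional k A) ↔
      Curves.Splits k A (SeparableClosure k) := by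
  refine ⟨fun ⟨h1, h2, h3⟩ => Groth.Agent.CSA.splits_of_isSepClosed k A _, ?_⟩
  rintro ⟨n, hn, ⟨e⟩⟩
  have : NeZero n := ⟨hn⟩
  have : Nonempty (Fin n) := ⟨0⟩
  have hfin : FiniteDimensional k A := by
    have h : Module.rank (SeparableClosure k) ((SeparableClosure k) ⊗[k] A) < Cardinal.aleph0 := by
      rw [← Cardinal.lift_lt_aleph0, e.toLinearEquiv.lift_rank_eq, Cardinal.lift_lt_aleph0]
      exact Module.rank_lt_aleph0 _ _
    rw [Module.rank_baseChange, Cardinal.lift_lt_aleph0] at h
    exact Module.rank_lt_aleph0_iff.1 h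
  have hc : Algebra.IsCentral (SeparableClosure k) ((SeparableClosure k) ⊗[k] A) := ⟨fun x hx => by
    obtain ⟨c, hc⟩ := (Algebra.IsCentral.mem_center_iff (SeparableClosure k)).1 ((MulEquivClass.apply_mem_center_iff e).2 hx)
    exact Algebra.mem_bot.2 ⟨c, e.injective (by rw [hc, AlgEquiv.commutes])⟩⟩
  have hs : IsSimpleRing ((SeparableClosure k) ⊗[k] A) := IsSimpleRing.of_ringEquiv e.symm.toRingEquiv inferInstance
  obtain ⟨h1, h2⟩ := (Groth.Agent.S7721.result k (SeparableClosure k) A).2 ⟨hc, hs⟩
  exact ⟨h1, h2, hfin⟩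

end Groth.Agent.S0200
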