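import Groth.Statements.S0469
import Groth.Agent.CohTop.Spectral

set_option autoImplicit false
universe u
open CategoryTheory
open CohTop

namespace Groth.Agent.S0469

/-- If X is a spectral space of Krull dimension at most d, then H^p(X, F) = 0 for every abelian sheaf F
and every p > d. -/
theorem result {X : TopCat.{u}} [SpectralSpace X] (d : ℕ) (hd : topologicalKrullDim X ≤ d)
    (F : CohTop.Ab X) (p : ℕ) (hp : d < p) : Subsingleton (CohTop.H F p) := by
  exact Groth.Agent.CohTop.Spectral.spectral_vanishing d hd F p hp

end Groth.Agent.S0469
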