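import Groth.Statements.S0207
import Groth.Agent.GalCohAux.EtDimVanA
import Groth.Agent.EtaleSite.ArtinSchreierKer
import Groth.Agent.S0110
import Groth.Agent.S0469
-- import your own Groth.Agent.* helpers here

set_option autoImplicit false
universe u
open CategoryTheory CategoryTheory.Limits AlgebraicGeometry
open Curves

namespace Groth.Agent.S0207

/-- On a quasi-compact quasi-separated scheme of dimension d on which the prime p is zero, étale
cohomology with Z/p coefficients vanishes from degree d+2 on. -/
theorem result (p : ℕ) [Fact p.Prime] (S : Scheme.{u}) [CompactSpace S] [QuasiSeparatedSpace S]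
    (hp : (p : Γ(S, ⊤)) = 0) (d : ℕ) (hd : topologicalKrullDim S = d) (q : ℕ) (hq : 2 + d ≤ q) :
    Subsingleton (EtCoh.H S (EtCoh.const S (ZMod p)) q) := by
  haveI : SpectralSpace S.toTopCat := show SpectralSpace S from { }
  have hGa : ∀ i, d < i → Subsingleton (EtCoh.H S (EtCoh.Ga S) i) := fun i hi => by
    obtain ⟨e⟩ := Groth.Agent.S0110.result S i
    haveI : Subsingleton (Coh.HH S (Coh.structureModule S) i) :=
      Groth.Agent.S0469.result (X := S.toTopCat) d hd.le (Coh.toAb (Coh.structureModule S)) i hi
    exact e.toEquiv.subsingleton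
  obtain ⟨q', rfl⟩ : ∃ q', q = q' + 1 := ⟨q - 1, by omega⟩
  exact Groth.Agent.GalCohAux.EtDimVanA.subsingleton_H_left
    (Groth.Agent.EtaleSite.ArtinSchreierKer.shortExact p hp) q' (hGa _ (by omega)) (hGa _ (by omega))

end Groth.Agent.S0207
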