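import Groth.Statements.S0215
import Groth.Agent.GrpScheme.Rosenlicht.Scheme
-- import your own Groth.Agent.* helpers here

set_option autoImplicit false
set_option backward.isDefEq.respectTransparency false
universe u
open CategoryTheory CategoryTheory.Limits AlgebraicGeometry TopologicalSpace
open Curves Groth.Agent.GrpScheme.Rosenlicht

namespace Groth.Agent.S0215

/-- For a connected reduced scheme locally of finite type over a field k with finitely many irreducible
components, in which every global function integral over k is a constant, the group of invertible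
global functions modulo nonzero constants is finitely generated. -/
theorem result (k : Type u) [Field k] (X : Scheme.{u}) (f : X ⟶ Spec (CommRingCat.of k))
    [LocallyOfFiniteType f] [IsReduced X] [ConnectedSpace X] (hirr : (irreducibleComponents (X : Type u)).Finite)
    (hint : ∀ x : Γ(X, ⊤), (f.appTop.hom.comp (Scheme.ΓSpecIso (CommRingCat.of k)).inv.hom).IsIntegralElem x →
      x ∈ Set.range (f.appTop.hom.comp (Scheme.ΓSpecIso (CommRingCat.of k)).inv.hom)) :
    Group.FG ((Γ(X, ⊤))ˣ ⧸ (Units.map ((f.appTop.hom.comp (Scheme.ΓSpecIso (CommRingCat.of k)).inv.hom : k →+* Γ(X, ⊤)) : k →* Γ(X, ⊤))).range) := by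
  classical
  let X₁ : Over (Spec (CommRingCat.of k)) := Over.mk f
  have key : ∀ C : irreducibleComponents (X : Type u),
      ∃ (U : X.Opens) (m : ℕ) (v : Fin m → (Γ(X, ⊤))ˣ → ℤ), ((C : Set X) ∩ U).Nonempty ∧
        (∀ j u u', v j (u * u') = v j u + v j u') ∧
        ∀ u : (Γ(X, ⊤))ˣ, (∀ j, v j u = 0) →
          ∃ q : Polynomial k, q.Monic ∧
            pb (openIncl X₁ U) (q.eval₂ (cst X₁) (u : Γ(X, ⊤))) = 0 := by
    rintro ⟨C, hC⟩
    let O : Set X := (⋃₀ ((irreducibleComponents (X : Type u)) \ {C}))ᶜ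
    have hOc : IsOpen O := by
      rw [isOpen_compl_iff, Set.sUnion_eq_biUnion]
      exact (hirr.subset Set.sdiff_subset).isClosed_biUnion
        fun D hD => isClosed_of_mem_irreducibleComponents D hD.1
    obtain ⟨x, hxC, hxO⟩ : (C ∩ O).Nonempty := by
      by_contra hne
      have hsub : C ⊆ ⋃₀ ((irreducibleComponents (X : Type u)) \ {C}) := fun x hx => by
        by_contra hx'
        exact hne ⟨x, hx, hx'⟩
      obtain ⟨D, hD, hCD⟩ := (isIrreducible_iff_sUnion_isClosed.1 hC.1)
        (hirr.subset Set.sdiff_subset).toFinset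
        (fun D hD => isClosed_of_mem_irreducibleComponents D ((Set.Finite.mem_toFinset _).1 hD).1)
        (by rw [Set.Finite.coe_toFinset]; exact hsub)
      rw [Set.Finite.mem_toFinset] at hD
      exact hD.2 (le_antisymm (hC.2 hD.1.1 hCD) hCD)
    obtain ⟨_, ⟨U, hU, rfl⟩, hxU, hUO⟩ :=
      X.isBasis_affineOpens.exists_subset_of_mem_open hxO hOc
    have hUC : (U : Set X) ⊆ C := fun y hy => by
      obtain ⟨D, hD, hyD⟩ := (sUnion_irreducibleComponents (X := (X : Type u))).symm.subset (Set.mem_univ y)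
      by_contra hyC
      exact hUO hy ⟨D, ⟨hD, fun h => hyC ((h : D = C) ▸ hyD)⟩, hyD⟩
    have hirrU : IrreducibleSpace (Scheme.Opens.toScheme (X := X) U) := by
      have h1 : IsPreirreducible (U : Set X) := by
        intro a b ha hb ⟨p, hpU, hpa⟩ ⟨q, hqU, hqb⟩
        obtain ⟨r, -, ⟨hrU, hra⟩, -, hrb⟩ :=
          hC.1.2 ((U : Set X) ∩ a) ((U : Set X) ∩ b) (U.2.inter ha) (U.2.inter hb)
            ⟨p, hUC hpU, hpU, hpa⟩ ⟨q, hUC hqU, hqU, hqb⟩
        exact ⟨r, hrU, hra, hrb⟩
      exact isIrreducible_iff_irreducibleSpace.1 ⟨⟨x, hxU⟩, h1⟩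
    let X' := openObj X₁ U
    let i := openIncl X₁ U
    have : IrreducibleSpace X'.left := hirrU
    have : IsReduced X₁.left := ‹IsReduced X›
    have : IsReduced X'.left := isReduced_of_isOpenImmersion i.left
    have : IsIntegral X'.left := isIntegral_of_irreducibleSpace_of_isReduced _
    have : IsAffine X'.left := hU
    have : LocallyOfFiniteType X₁.hom := ‹LocallyOfFiniteType f›
    let : Algebra k Γ(X'.left, ⊤) := (cst X').toAlgebra
    have : Algebra.FiniteType k Γ(X'.left, ⊤) := finiteType_cst X'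
    obtain ⟨m, w, -, hconst⟩ := exists_valuations_at_infinity' (k := k) (A := Γ(X'.left, ⊤))
    let K := FractionRing Γ(X'.left, ⊤)
    let r : Γ(X, ⊤) →+* K := (algebraMap Γ(X'.left, ⊤) K).comp (pb i)
    have hne : ∀ (j : Fin m) (u : (Γ(X, ⊤))ˣ), w j (r u) ≠ 0 := fun j u =>
      (Valuation.ne_zero_iff _).2 (u.isUnit.map r).ne_zero
    refine ⟨U, m, fun j u => WithZero.log (w j (r u)), ⟨x, hxC, hxU⟩, fun j u u' => ?_, fun u hu => ?_⟩
    · simp only [Units.val_mul, map_mul, WithZero.log_mul (hne j u) (hne j u')]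
    · obtain ⟨q, hq, hq0⟩ := hconst (pb i (u : Γ(X, ⊤))) fun j => by
        have h : WithZero.log (w j (r u)) = 0 := hu j
        show w j (r u) ≤ 1
        rw [← WithZero.exp_log (hne j u), h, WithZero.exp_zero]
      refine ⟨q, hq, ?_⟩
      rw [Polynomial.hom_eval₂]
      rw [show (pb i).comp (cst X₁) = cst X' from RingHom.ext (pb_cst i)]
      exact hq0
  choose U m v hU hv hker using key
  have : Finite (irreducibleComponents (X : Type u)) := hirr.to_subtype
  let φ : Additive (Γ(X, ⊤))ˣ →+ ((Σ C, Fin (m C)) → ℤ) :=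
    AddMonoidHom.mk' (fun u p => v p.1 p.2 (Additive.toMul u)) fun a b => funext fun p => hv _ _ _ _
  let R := (Units.map ((f.appTop.hom.comp (Scheme.ΓSpecIso (CommRingCat.of k)).inv.hom :
      k →+* Γ(X, ⊤)) : k →* Γ(X, ⊤))).range
  have hsub : ∀ u, φ (Additive.ofMul u) = 0 → u ∈ R := by
    intro u hu
    choose q hq hq0 using fun C => hker C u fun j => congrFun hu ⟨C, j⟩
    let Q : Polynomial k := ∏ᶠ C, q C
    have := Fintype.ofFinite (irreducibleComponents (X : Type u))
    have hQ : Q = ∏ C, q C := finprod_eq_prod_of_fintype _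
    have hzero : Q.eval₂ (cst X₁) (u : Γ(X, ⊤)) = 0 := by
      rw [← basicOpen_eq_bot_iff (X := X)]
      ext y
      simp only [Opens.coe_bot, Set.mem_empty_iff_false, iff_false]
      intro hy
      obtain ⟨C, hC, hyC⟩ := (sUnion_irreducibleComponents (X := (X : Type u))).symm.subset (Set.mem_univ y)
      obtain ⟨r, -, hrU, hrO⟩ := hC.1.2 _ _ (U ⟨C, hC⟩).2
        (X.basicOpen (Q.eval₂ (cst X₁) (u : Γ(X, ⊤)))).2 (hU ⟨C, hC⟩) ⟨y, hyC, hy⟩
      have h0 : pb (openIncl X₁ (U ⟨C, hC⟩)) (Q.eval₂ (cst X₁) (u : Γ(X, ⊤))) = 0 := by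
        rw [hQ, ← Polynomial.coe_eval₂RingHom, map_prod, map_prod]
        exact Finset.prod_eq_zero (Finset.mem_univ (⟨C, hC⟩ : irreducibleComponents (X : Type u))) (hq0 ⟨C, hC⟩)
      have hmem : (⟨r, hrU⟩ : (U ⟨C, hC⟩).toScheme) ∈ (openIncl X₁ (U ⟨C, hC⟩)).left ⁻¹ᵁ
          X.basicOpen (Q.eval₂ (cst X₁) (u : Γ(X, ⊤))) := hrO
      change (⟨r, hrU⟩ : (U ⟨C, hC⟩).toScheme) ∈ (openIncl X₁ (U ⟨C, hC⟩)).left ⁻¹ᵁ
          X₁.left.basicOpen (Q.eval₂ (cst X₁) (u : Γ(X, ⊤))) at hmem
      erw [Scheme.preimage_basicOpen] at hmem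
      change (⟨r, hrU⟩ : (U ⟨C, hC⟩).toScheme) ∈ (openObj X₁ (U ⟨C, hC⟩)).left.basicOpen
        (pb (openIncl X₁ (U ⟨C, hC⟩)) (Q.eval₂ (cst X₁) (u : Γ(X, ⊤)))) at hmem
      rw [h0, Scheme.basicOpen_zero] at hmem
      exact hmem
    obtain ⟨c, hc⟩ := hint (u : Γ(X, ⊤))
      ⟨Q, hQ ▸ Polynomial.monic_prod_of_monic _ _ fun C _ => hq C, hzero⟩
    rcases eq_or_ne c 0 with rfl | hc0
    · have : Subsingleton Γ(X, ⊤) := subsingleton_of_zero_eq_one
        (by
          rw [map_zero] at hc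
          exact (isUnit_zero_iff.1 (hc ▸ u.isUnit)))
      exact ⟨1, Subsingleton.elim _ _⟩
    · exact ⟨Units.mk0 c hc0, Units.ext hc⟩
  have hfg : (LinearMap.range φ.toIntLinearMap).FG := IsNoetherian.noetherian _
  obtain ⟨S, hS⟩ := hfg
  have hlift : ∀ s : S, ∃ a : (Γ(X, ⊤))ˣ, φ (Additive.ofMul a) = s.1 := fun s => by
    have : (s : (Σ C, Fin (m C)) → ℤ) ∈ LinearMap.range φ.toIntLinearMap :=
      hS ▸ Submodule.subset_span s.2
    obtain ⟨a, ha⟩ := this
    exact ⟨Additive.toMul a, ha⟩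
  choose a ha using hlift
  refine Group.fg_iff.2 ⟨Set.range fun s => QuotientGroup.mk (s := R) (a s), ?_, Set.finite_range _⟩
  rw [eq_top_iff]
  intro z _
  induction z using QuotientGroup.induction_on with
  | H u =>
    have hu : φ (Additive.ofMul u) ∈ Submodule.span ℤ (Set.range fun s : S => (s.1 : (Σ C, Fin (m C)) → ℤ)) := by
      rw [Subtype.range_coe_subtype, Finset.setOfPred_mem, hS]
      exact ⟨_, rfl⟩
    suffices ∀ y ∈ Submodule.span ℤ (Set.range fun s : S => (s.1 : (Σ C, Fin (m C)) → ℤ)), ∀ u,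
        φ (Additive.ofMul u) = y →
        QuotientGroup.mk (s := R) u ∈ Subgroup.closure (Set.range fun s => QuotientGroup.mk (s := R) (a s)) from
      this _ hu u rfl
    intro y hy
    induction hy using Submodule.span_induction with
    | mem y hy =>
      obtain ⟨s, rfl⟩ := hy
      intro u hu
      have : u * (a s)⁻¹ ∈ R := hsub _ (by rw [ofMul_mul, ofMul_inv, map_add, map_neg, hu, ha, add_neg_cancel])
      refine Subgroup.subset_closure ⟨s, ?_⟩
      exact (QuotientGroup.eq_iff_div_mem.2 (by rwa [div_eq_mul_inv])).symm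
    | zero =>
      intro u hu
      rw [(QuotientGroup.eq_one_iff u).2 (hsub u hu)]
      exact one_mem _
    | add y y' hy hy' ih ih' =>
      intro u hu
      have hy₁ : y ∈ LinearMap.range φ.toIntLinearMap := by
        rw [← hS, ← Finset.setOfPred_mem, ← Subtype.range_coe_subtype]; exact hy
      obtain ⟨u₁, hu₁⟩ := hy₁
      have h1 := ih (Additive.toMul u₁) hu₁
      have h2 := ih' (u * (Additive.toMul u₁)⁻¹) (by
        rw [ofMul_mul, ofMul_inv, map_add, map_neg, hu]
        erw [hu₁]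
        simp)
      rw [show u = Additive.toMul u₁ * (u * (Additive.toMul u₁)⁻¹) by
        rw [mul_comm, inv_mul_cancel_right], QuotientGroup.mk_mul]
      exact mul_mem h1 h2
    | smul n y hy ih =>
      intro u hu
      have hy₁ : y ∈ LinearMap.range φ.toIntLinearMap := by
        rw [← hS, ← Finset.setOfPred_mem, ← Subtype.range_coe_subtype]; exact hy
      obtain ⟨u₁, hu₁⟩ := hy₁
      have h1 := ih (Additive.toMul u₁) hu₁
      have : u * ((Additive.toMul u₁) ^ n)⁻¹ ∈ R := hsub _ (by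
        rw [ofMul_mul, ofMul_inv, ofMul_zpow, map_add, map_neg, map_zsmul, hu]
        erw [hu₁]
        exact add_neg_cancel _)
      rw [show QuotientGroup.mk (s := R) u = QuotientGroup.mk ((Additive.toMul u₁) ^ n) from
        QuotientGroup.eq_iff_div_mem.2 (by rwa [div_eq_mul_inv]), QuotientGroup.mk_zpow]
      exact zpow_mem h1 n


end Groth.Agent.S0215
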