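import Groth.Statements.S0216
import Mathlib.AlgebraicGeometry.Properties
import Mathlib.AlgebraicGeometry.Morphisms.FiniteType
import Mathlib.RingTheory.Spectrum.Prime.Chevalley

set_option autoImplicit false
universe u
open CategoryTheory CategoryTheory.Limits AlgebraicGeometry TopologicalSpace
open Curves

namespace Groth.Agent.S0216

open Polynomial in
private lemma exists_coprime_poly {k : Type u} [Field k] (F : Subfield k) {g : k[X]} (hg : g ≠ 0) :
    ∃ (Q : F[X]) (r : k[X]), Q ≠ 0 ∧ Irreducible r ∧ r ∣ Q.map F.subtype ∧ ¬ r ∣ g := by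
  classical
  let W : k[X] → F[X] := fun r => if h : ∃ Q : F[X], Q ≠ 0 ∧ r ∣ Q.map F.subtype then h.choose else 1
  have hW0 : ∀ r, W r ≠ 0 := by
    intro r
    simp only [W]
    split_ifs with h
    · exact h.choose_spec.1
    · exact one_ne_zero
  let H : F[X] := X * ∏ r ∈ (UniqueFactorizationMonoid.normalizedFactors g).toFinset, W r
  have hH : H ≠ 0 := mul_ne_zero X_ne_zero (Finset.prod_ne_zero_iff.mpr fun r _ => hW0 r)
  have hdeg : 0 < (H + 1).natDegree := by
    rw [← C_1, natDegree_add_C, natDegree_X_mul (Finset.prod_ne_zero_iff.mpr fun r _ => hW0 r)]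
    exact Nat.succ_pos _
  have hQ : H + 1 ≠ 0 := fun h => by rw [h, natDegree_zero] at hdeg; exact lt_irrefl 0 hdeg
  have hu : ¬ IsUnit ((H + 1).map F.subtype) := fun h => by
    have := natDegree_eq_zero_of_isUnit h
    rw [natDegree_map] at this
    omega
  obtain ⟨r, hr, hrQ⟩ := WfDvdMonoid.exists_irreducible_factor hu
    ((Polynomial.map_ne_zero_iff F.subtype.injective).mpr hQ)
  refine ⟨H + 1, r, hQ, hr, hrQ, fun hrg => ?_⟩
  obtain ⟨r', hr', ha⟩ := UniqueFactorizationMonoid.exists_mem_normalizedFactors_of_dvd hg hr hrg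
  have h1 : r' ∣ (H + 1).map F.subtype := ha.dvd_iff_dvd_left.mp hrQ
  have hex : ∃ Q : F[X], Q ≠ 0 ∧ r' ∣ Q.map F.subtype := ⟨_, hQ, h1⟩
  have h2 : r' ∣ H.map F.subtype := by
    have h3 : r' ∣ (W r').map F.subtype := by
      simp only [W, dif_pos hex]
      exact hex.choose_spec.2
    refine h3.trans (Polynomial.map_dvd _ ((Finset.dvd_prod_of_mem W (Multiset.mem_toFinset.mpr hr')).trans ?_))
    exact dvd_mul_left _ _
  rw [Polynomial.map_add, Polynomial.map_one, dvd_add_right h2] at h1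
  exact hr.not_isUnit (isUnit_of_dvd_one (ha.dvd.trans h1))

open Polynomial PrimeSpectrum in
private lemma exists_rel {k A : Type u} [Field k] [CommRing A] [Nontrivial A] [Algebra k A]
    [Algebra.FiniteType k A] (F : Subfield k) (y : A)
    (h : ∀ Q : F[X], aeval y (Q.map F.subtype) = 0 ∨ IsUnit (aeval y (Q.map F.subtype))) :
    ∃ P : k[X], P ≠ 0 ∧ aeval y P = 0 := by
  by_contra hne
  push Not at hne
  let φ : k[X] →+* A := (aeval y).toRingHom
  have hφ : Function.Injective φ := (injective_iff_map_eq_zero _).mpr fun P hP => by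
    by_contra h0
    exact hne P h0 hP
  have hft : φ.FiniteType := by
    refine RingHom.FiniteType.of_comp_finiteType (f := (C : k →+* k[X])) ?_
    have e : φ.comp C = algebraMap k A := RingHom.ext fun c => by simp [φ]
    rw [e]
    exact RingHom.finiteType_algebraMap.mpr ‹_›
  have hc := isConstructible_range_comap (RingHom.FinitePresentation.of_finiteType.mp hft)
  obtain ⟨S, hS⟩ := exists_constructibleSetData_iff.mpr hc
  let η : PrimeSpectrum k[X] := ⟨⊥, Ideal.isPrime_bot⟩
  have hη : η ∈ Set.range (PrimeSpectrum.comap φ) := by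
    obtain ⟨p, hp, hp'⟩ := Ideal.exists_comap_eq_of_mem_minimalPrimes_of_injective hφ (p := ⊥)
      (by rw [IsDomain.minimalPrimes_eq_singleton_bot]; exact Set.mem_singleton _)
    exact ⟨⟨p, hp⟩, PrimeSpectrum.ext hp'⟩
  rw [← hS, ConstructibleSetData.toSet, Set.mem_iUnion₂] at hη
  obtain ⟨D, hD, hDη⟩ := hη
  have hg0 : ∀ i, D.g i = 0 := fun i => Ideal.mem_bot.mp (hDη.1 (Set.mem_range_self i))
  have hf0 : D.f ≠ 0 := fun h0 => hDη.2 (fun z hz => by
    obtain rfl : z = D.f := hz
    exact Ideal.mem_bot.mpr h0)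
  obtain ⟨Q, r, hQ, hr, hrQ, hrf⟩ := exists_coprime_poly F hf0
  haveI : (Ideal.span {r}).IsPrime := (Ideal.span_singleton_prime hr.ne_zero).mpr hr.prime
  let q : PrimeSpectrum k[X] := ⟨Ideal.span {r}, inferInstance⟩
  have hq : q ∈ Set.range (PrimeSpectrum.comap φ) := by
    rw [← hS, ConstructibleSetData.toSet, Set.mem_iUnion₂]
    refine ⟨D, hD, ?_, ?_⟩
    · rintro _ ⟨i, rfl⟩
      rw [hg0 i]
      exact Ideal.zero_mem _
    · intro hz
      exact hrf (Ideal.mem_span_singleton.mp (hz rfl))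
  obtain ⟨m, hm⟩ := hq
  have hQm : φ (Q.map F.subtype) ∈ m.asIdeal := by
    have h1 : Q.map F.subtype ∈ (PrimeSpectrum.comap φ m).asIdeal := by
      rw [hm]
      exact Ideal.mem_span_singleton.mpr hrQ
    exact h1
  rcases h Q with h0 | h0
  · exact hne _ ((Polynomial.map_ne_zero_iff F.subtype.injective).mpr hQ) h0
  · exact m.2.ne_top (Ideal.eq_top_of_isUnit_mem _ hQm h0)

open Polynomial in
private lemma zero_or_unit {X : Scheme.{u}} [IsReduced X] [ConnectedSpace X] {k : Type u} [Field k]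
    (φ : k →+* Γ(X, ⊤)) {w : Γ(X, ⊤)} (hw : φ.IsIntegralElem w) : w = 0 ∨ IsUnit w := by
  obtain ⟨p, hp, hpw⟩ := hw
  obtain ⟨q, hq, hq'⟩ := exists_eq_pow_rootMultiplicity_mul_and_not_dvd p hp.ne_zero 0
  have hc : q.coeff 0 ≠ 0 := fun h => hq' (by rwa [map_zero, sub_zero, X_dvd_iff])
  let v := eval₂ φ w q
  have hwv : w * v = 0 := by
    refine IsReduced.eq_zero _ ⟨p.rootMultiplicity 0 + 1, ?_⟩
    have h0 : w ^ p.rootMultiplicity 0 * v = 0 := by
      rw [← hpw]
      conv_rhs => rw [hq]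
      simp [v]
    calc (w * v) ^ (p.rootMultiplicity 0 + 1) = w * v ^ p.rootMultiplicity 0 * (w ^ p.rootMultiplicity 0 * v) := by ring
      _ = 0 := by rw [h0, mul_zero]
  have hcov : ∀ z : X, z ∈ X.basicOpen w ∨ z ∈ X.basicOpen v := by
    intro z
    by_contra hz
    push Not at hz
    simp only [Scheme.mem_basicOpen_top] at hz
    let G := (X.presheaf.germ ⊤ z trivial).hom
    have hu : IsUnit (G (φ (q.coeff 0))) := ((isUnit_iff_ne_zero.mpr hc).map φ).map G
    have e : φ (q.coeff 0) = v - w * eval₂ φ w q.divX := by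
      have := congrArg (eval₂ φ w) (X_mul_divX_add q)
      simp only [eval₂_add, eval₂_mul, eval₂_X, eval₂_C] at this
      rw [eq_sub_iff_add_eq, add_comm]
      exact this
    rw [e, map_sub, map_mul] at hu
    refine (IsLocalRing.mem_maximalIdeal _).mp ?_ hu
    exact Ideal.sub_mem _ ((IsLocalRing.mem_maximalIdeal _).mpr hz.2)
      (Ideal.mul_mem_right _ _ ((IsLocalRing.mem_maximalIdeal _).mpr hz.1))
  have hclopen : IsClopen (X.basicOpen w : Set X) := by
    refine ⟨⟨?_⟩, (X.basicOpen w).2⟩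
    convert (X.basicOpen v).2 using 1
    ext z
    refine ⟨fun h => (hcov z).resolve_left h, fun h h' => ?_⟩
    have h2 : z ∈ X.basicOpen (w * v) := by rw [Scheme.basicOpen_mul]; exact ⟨h', h⟩
    rw [hwv, Scheme.basicOpen_zero] at h2
    exact h2
  rcases isClopen_iff.mp hclopen with h | h
  · exact Or.inl ((basicOpen_eq_bot_iff w).mp (TopologicalSpace.Opens.ext h))
  · refine Or.inr (X.toRingedSpace.isUnit_of_isUnit_germ ⊤ w fun z _ => ?_)
    have hz : z ∈ X.basicOpen w := by
      show z ∈ (X.basicOpen w : Set X)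
      rw [h]; trivial
    rwa [Scheme.mem_basicOpen_top] at hz

open Polynomial in
private lemma integral_of_integral {X : Scheme.{u}} [IsReduced X] [ConnectedSpace X]
    {k₁ k₂ : Type u} [Field k₁] [Field k₂]
    (a : X ⟶ Spec (CommRingCat.of k₁)) [LocallyOfFiniteType a] (φ₂ : k₂ →+* Γ(X, ⊤)) (x : Γ(X, ⊤))
    (hx : φ₂.IsIntegralElem x) :
    (a.appTop.hom.comp (Scheme.ΓSpecIso (CommRingCat.of k₁)).inv.hom).IsIntegralElem x := by
  let φ₁ : k₁ →+* Γ(X, ⊤) := a.appTop.hom.comp (Scheme.ΓSpecIso (CommRingCat.of k₁)).inv.hom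
  change φ₁.IsIntegralElem x
  let F : Subfield k₁ :=
    { φ₂.range.comap φ₁ with
      inv_mem' := by
        rintro r ⟨s, hs⟩
        by_cases hr : r = 0
        · exact ⟨0, by simp [hr]⟩
        refine ⟨s⁻¹, ?_⟩
        by_cases hs0 : s = 0
        · have h0 : φ₁ r = 0 := by rw [← hs, hs0, map_zero]
          have : Subsingleton Γ(X, ⊤) := subsingleton_of_zero_eq_one
            (by rw [← map_one φ₁, ← inv_mul_cancel₀ hr, map_mul, h0, mul_zero])
          exact Subsingleton.elim _ _
        · exact left_inv_eq_right_inv (a := φ₁ r)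
            (by rw [← hs, ← map_mul, inv_mul_cancel₀ hs0, map_one])
            (by rw [← map_mul, mul_inv_cancel₀ hr, map_one]) }
  have hQ : ∀ Q : F[X], φ₂.IsIntegralElem (eval₂ φ₁ x (Q.map F.subtype)) := by
    intro Q
    induction Q using Polynomial.induction_on' with
    | add p q hp hq => rw [Polynomial.map_add, eval₂_add]; exact RingHom.IsIntegralElem.add φ₂ hp hq
    | monomial n c =>
      obtain ⟨s, hs⟩ : ∃ s, φ₂ s = φ₁ (F.subtype c) := c.2
      rw [map_monomial, eval₂_monomial, ← hs]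
      refine RingHom.IsIntegralElem.mul φ₂ φ₂.isIntegralElem_map ?_
      induction n with
      | zero => rw [pow_zero]; exact φ₂.isIntegralElem_one
      | succ n ih => rw [pow_succ]; exact RingHom.IsIntegralElem.mul φ₂ ih hx
  let ψ : ∀ z : X, k₁[X] →+* X.presheaf.stalk z := fun z =>
    eval₂RingHom ((X.presheaf.germ ⊤ z trivial).hom.comp φ₁) ((X.presheaf.germ ⊤ z trivial).hom x)
  have hrel : ∀ z : X, ∃ (U : X.Opens) (ρ : k₁[X] →+* Γ(X, U)), z ∈ U ∧
      (∀ (z' : X) (h' : z' ∈ U) (T : k₁[X]), X.presheaf.germ U z' h' (ρ T) = ψ z' T) ∧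
      ∃ P : k₁[X], P ≠ 0 ∧ ρ P = 0 := by
    intro z
    obtain ⟨U, hU, hzU, -⟩ := exists_isAffineOpen_mem_and_subset (X := X) (x := z) (U := ⊤) trivial
    let r : Γ(X, ⊤) →+* Γ(X, U) := (X.presheaf.map (homOfLE le_top).op).hom
    refine ⟨U, eval₂RingHom (r.comp φ₁) (r x), hzU, fun z' h' T => ?_, ?_⟩
    · show (X.presheaf.germ U z' h').hom (eval₂ (r.comp φ₁) (r x) T) = eval₂ _ _ T
      rw [hom_eval₂]
      have hg : ∀ t, (X.presheaf.germ U z' h').hom (r t) = (X.presheaf.germ ⊤ z' trivial).hom t :=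
        fun t => X.presheaf.germ_res_apply _ z' h' t
      rw [hg]
      congr 1
      exact RingHom.ext fun t => hg _
    · letI : Algebra k₁ Γ(X, U) := (r.comp φ₁).toAlgebra
      haveI : Algebra.FiniteType k₁ Γ(X, U) := by
        have h1 := a.finiteType_appLE (isAffineOpen_top (Spec (CommRingCat.of k₁))) hU le_top
        have h2 : (Scheme.ΓSpecIso (CommRingCat.of k₁)).inv.hom.FiniteType :=
          RingHom.FiniteType.of_surjective _
            (ConcreteCategory.bijective_of_isIso (Scheme.ΓSpecIso (CommRingCat.of k₁)).inv).2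
        exact RingHom.finiteType_algebraMap.mp (h1.comp h2)
      haveI : Nontrivial Γ(X, U) :=
        haveI : Nonempty U.toScheme := ⟨⟨z, hzU⟩⟩
        (X.presheaf.germ U z hzU).hom.domain_nontrivial
      refine exists_rel F (r x) fun Q => ?_
      have e : aeval (r x) (Q.map F.subtype) = r (eval₂ φ₁ x (Q.map F.subtype)) := by
        rw [hom_eval₂]; rfl
      rw [e]
      rcases zero_or_unit φ₂ (hQ Q) with h | h
      · exact Or.inl (by rw [h, map_zero])
      · exact Or.inr (h.map r)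
  obtain ⟨z⟩ : Nonempty X := inferInstance
  obtain ⟨r, hr, hrz⟩ : ∃ r : k₁[X], Irreducible r ∧ ¬ IsUnit (ψ z r) := by
    obtain ⟨U, ρ, hzU, hρ, P, hP, hP0⟩ := hrel z
    have hz0 : ψ z P = 0 := by rw [← hρ z hzU, hP0, map_zero]
    classical
    by_contra h
    push Not at h
    obtain ⟨u, hu⟩ := UniqueFactorizationMonoid.prod_normalizedFactors hP
    have : IsUnit (ψ z P) := by
      rw [← hu, map_mul, IsUnit.mul_iff]
      refine ⟨?_, u.isUnit.map _⟩
      rw [map_multiset_prod]
      refine (IsUnit.submonoid (X.presheaf.stalk z)).multiset_prod_mem _ fun c hc => ?_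
      obtain ⟨r, hr, rfl⟩ := Multiset.mem_map.mp hc
      exact h r (UniqueFactorizationMonoid.irreducible_of_normalized_factor r hr)
    rw [hz0] at this
    exact not_isUnit_zero this
  let w := eval₂ φ₁ x r
  have hψ : ∀ z' : X, (z' ∈ X.basicOpen w ↔ IsUnit (ψ z' r)) := fun z' => by
    rw [Scheme.mem_basicOpen_top]
    show IsUnit ((X.presheaf.germ ⊤ z' trivial).hom (eval₂ φ₁ x r)) ↔ _
    rw [hom_eval₂]
    rfl
  have hclopen : IsClopen (X.basicOpen w : Set X) := by
    refine ⟨⟨isOpen_iff_forall_mem_open.mpr fun z' hz' => ?_⟩, (X.basicOpen w).2⟩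
    have hz' : ¬ IsUnit (ψ z' r) := fun h => hz' ((hψ z').mpr h)
    obtain ⟨U, ρ, hzU, hρ, P, hP, hP0⟩ := hrel z'
    obtain ⟨m, s, hrs, hPs⟩ := WfDvdMonoid.max_power_factor hP hr
    obtain ⟨c, d, hcd⟩ := hr.coprime_iff_not_dvd.mpr hrs
    have hs : IsUnit (ψ z' s) := by
      by_contra hs
      have h1 : ψ z' 1 ∈ IsLocalRing.maximalIdeal (X.presheaf.stalk z') := by
        rw [← hcd, map_add, map_mul, map_mul]
        exact Ideal.add_mem _ (Ideal.mul_mem_left _ _ ((IsLocalRing.mem_maximalIdeal _).mpr hz'))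
          (Ideal.mul_mem_left _ _ ((IsLocalRing.mem_maximalIdeal _).mpr hs))
      rw [map_one] at h1
      exact (IsLocalRing.mem_maximalIdeal _).mp h1 isUnit_one
    refine ⟨X.basicOpen (ρ s), fun z'' hz'' => ?_, (X.basicOpen _).2, ?_⟩
    · intro hmem
      have hU'' : z'' ∈ U := X.basicOpen_le _ hz''
      have h2 := (Scheme.mem_basicOpen _ _ _ hU'').mp hz''
      rw [hρ] at h2
      have h0 : ψ z'' P = 0 := by rw [← hρ z'' hU'', hP0, map_zero]
      have h3 : IsUnit (ψ z'' P) := by
        rw [hPs, map_mul, map_pow]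
        exact (((hψ z'').mp hmem).pow m).mul h2
      rw [h0] at h3
      exact not_isUnit_zero h3
    · show z' ∈ X.basicOpen (ρ s)
      rw [Scheme.mem_basicOpen _ _ _ hzU, hρ]
      exact hs
  have hw : w = 0 := by
    refine (basicOpen_eq_bot_iff w).mp (TopologicalSpace.Opens.ext ?_)
    rcases isClopen_iff.mp hclopen with h | h
    · exact h
    · exact absurd ((hψ z).mp (h.symm ▸ Set.mem_univ z : z ∈ (X.basicOpen w : Set X))) hrz
  refine ⟨r * C r.leadingCoeff⁻¹, monic_mul_leadingCoeff_inv hr.ne_zero, ?_⟩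
  rw [eval₂_mul]
  show w * _ = 0
  rw [hw, zero_mul]

/-- If a connected reduced scheme is locally of finite type over two fields k₁ and k₂, then a global
function is integral over k₁ exactly when it is integral over k₂ (the integral closures of the two
base fields in the global functions coincide). -/
theorem result (X : Scheme.{u}) [IsReduced X] [ConnectedSpace X]
    (k₁ k₂ : Type u) [Field k₁] [Field k₂]
    (a : X ⟶ Spec (CommRingCat.of k₁)) (b : X ⟶ Spec (CommRingCat.of k₂))
    [LocallyOfFiniteType a] [LocallyOfFiniteType b] (x : Coh.Γtop X) :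
    (Coh.toGlobal a).IsIntegralElem x ↔ (Coh.toGlobal b).IsIntegralElem x := by
  exact ⟨fun h => integral_of_integral b (a.appTop.hom.comp (Scheme.ΓSpecIso (CommRingCat.of k₁)).inv.hom) x h,
    fun h => integral_of_integral a (b.appTop.hom.comp (Scheme.ΓSpecIso (CommRingCat.of k₂)).inv.hom) x h⟩

end Groth.Agent.S0216
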