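import Groth.Statements.S0218
import Mathlib
-- import your own Groth.Agent.* helpers here

set_option autoImplicit false
set_option linter.style.haveILetI false
universe u
open Curves Polynomial

namespace Groth.Agent.S0218

/-- Over an algebraically closed field k, a commutative k-algebra with exactly two k-subalgebras is
isomorphic to k × k or to the dual numbers over k. -/
theorem result (k : Type u) [Field k] [IsAlgClosed k] (A : Type u) [CommRing A] [Algebra k A]
    (h : Nat.card (Subalgebra k A) = 2) :
    Nonempty (A ≃ₐ[k] (k × k)) ∨ Nonempty (A ≃ₐ[k] DualNumber k) := by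
  classical
  obtain ⟨hfin, hnt⟩ : Finite (Subalgebra k A) ∧ Nontrivial (Subalgebra k A) := by
    have hf : Finite (Subalgebra k A) := Nat.finite_of_card_ne_zero (by omega)
    exact ⟨hf, Finite.one_lt_card_iff_nontrivial.1 (by omega)⟩
  have htwo : ∀ S : Subalgebra k A, S = ⊥ ∨ S = ⊤ := by
    intro S
    haveI := Fintype.ofFinite (Subalgebra k A)
    rw [Nat.card_eq_fintype_card] at h
    by_contra hS
    push Not at hS
    have h3 : ({S, ⊥, ⊤} : Finset (Subalgebra k A)).card = 3 :=
      Finset.card_eq_three.2 ⟨_, _, _, hS.1, hS.2, bot_ne_top, rfl⟩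
    have := Finset.card_le_univ ({S, ⊥, ⊤} : Finset (Subalgebra k A))
    omega
  haveI : Nontrivial A := by
    by_contra hA
    rw [not_nontrivial_iff_subsingleton] at hA
    exact bot_ne_top (α := Subalgebra k A) (Subalgebra.ext fun x => by simp [Subsingleton.elim x 0])
  obtain ⟨a, -, ha⟩ := SetLike.exists_of_lt (bot_lt_top : (⊥ : Subalgebra k A) < ⊤)
  have hadj : ∀ b : A, b ∉ (⊥ : Subalgebra k A) → Algebra.adjoin k {b} = ⊤ := fun b hb =>
    (htwo _).resolve_left fun h => hb (h ▸ Algebra.subset_adjoin rfl)
  have hint : IsIntegral k a := by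
    rw [← isAlgebraic_iff_isIntegral]
    by_cases hb : a ^ 2 ∈ (⊥ : Subalgebra k A)
    · obtain ⟨c, hc⟩ := Algebra.mem_bot.1 hb
      refine ⟨X ^ 2 - C c, X_pow_sub_C_ne_zero two_pos c, ?_⟩
      rw [map_sub, map_pow, aeval_X, aeval_C, hc, sub_self]
    · have hmem : a ∈ Algebra.adjoin k {a ^ 2} := by rw [hadj _ hb]; exact Algebra.mem_top
      rw [Algebra.adjoin_singleton_eq_range_aeval] at hmem
      obtain ⟨P, hP⟩ := hmem
      refine ⟨expand k 2 P - X, fun h0 => ?_, ?_⟩
      · have h1 := congrArg (fun q : k[X] => q.coeff 1) h0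
        simp [coeff_expand (two_pos)] at h1
      · rw [map_sub, expand_aeval, aeval_X]
        exact sub_eq_zero.2 hP
  set f := minpoly k a with hf
  have hn2 : 2 ≤ f.natDegree := by
    by_contra hn
    have h1 := minpoly.natDegree_pos hint
    exact ha (Algebra.mem_bot.2 ((minpoly.natDegree_eq_one_iff.1 (by rw [← hf] at h1 ⊢; omega)) : a ∈ (algebraMap k A).range))
  obtain ⟨l, hl⟩ := IsAlgClosed.exists_root f (by rw [degree_eq_natDegree (minpoly.ne_zero hint)]; exact_mod_cast (by omega : f.natDegree ≠ 0))
  obtain ⟨g, hg⟩ := dvd_iff_isRoot.2 hl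
  have hg0 : g ≠ 0 := fun h0 => minpoly.ne_zero hint (by rw [← hf, hg, h0, mul_zero])
  have hgdeg : g.natDegree + 1 = f.natDegree := by
    rw [hg, natDegree_mul (X_sub_C_ne_zero l) hg0, natDegree_X_sub_C, add_comm]
  have hgmonic : g.Monic := by
    have h1 := minpoly.monic hint
    rw [← hf, hg] at h1
    exact (monic_X_sub_C l).of_mul_monic_left h1
  set b := aeval a g with hb
  have hrel : (a - algebraMap k A l) * b = 0 := by
    have := minpoly.aeval k a
    rw [← hf, hg] at this
    simpa using this
  have hbb : b * b = algebraMap k A (g.eval l) * b := by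
    obtain ⟨q, hq⟩ := (X_sub_C_dvd_sub_C_eval : X - C l ∣ g - C (g.eval l))
    have h1 := congrArg (aeval a) hq
    simp only [map_sub, map_mul, aeval_X, aeval_C] at h1
    rw [← hb, sub_eq_iff_eq_add] at h1
    calc b * b = (a - algebraMap k A l) * b * aeval a q + algebraMap k A (g.eval l) * b := by
          conv_lhs => arg 1; rw [h1]
          ring
      _ = _ := by rw [hrel, zero_mul, zero_add]
  have hbnot : b ∉ (⊥ : Subalgebra k A) := by
    intro hb'
    obtain ⟨c, hc⟩ := Algebra.mem_bot.1 hb'
    have hne : g - C c ≠ 0 := fun h0 => by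
      rw [sub_eq_zero.1 h0, natDegree_C] at hgdeg
      omega
    have := natDegree_le_of_dvd (minpoly.dvd k a (by simp [← hb, hc] : aeval a (g - C c) = 0)) hne
    rw [natDegree_sub_C, ← hf] at this
    omega
  obtain ⟨u, w, huw⟩ : ∃ u w : k, a = algebraMap k A u + algebraMap k A w * b := by
    suffices key : ∀ z ∈ Algebra.adjoin k {b}, ∃ u w : k, z = algebraMap k A u + algebraMap k A w * b from
      key a (by rw [hadj _ hbnot]; exact Algebra.mem_top)
    intro z hz
    induction hz using Algebra.adjoin_induction with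
    | mem x hx => exact ⟨0, 1, by rw [Set.mem_singleton_iff.1 hx]; simp⟩
    | algebraMap r => exact ⟨r, 0, by simp⟩
    | add x y _ _ hx hy =>
      obtain ⟨u, w, rfl⟩ := hx
      obtain ⟨u', w', rfl⟩ := hy
      exact ⟨u + u', w + w', by simp only [map_add]; ring⟩
    | mul x y _ _ hx hy =>
      obtain ⟨u, w, rfl⟩ := hx
      obtain ⟨u', w', rfl⟩ := hy
      exact ⟨u * u', u * w' + w * u' + w * w' * g.eval l, by
        simp only [map_add, map_mul]
        linear_combination (algebraMap k A w * algebraMap k A w') * hbb⟩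
  have hn : g.natDegree = 1 := by
    by_contra hne
    have h0 : C w * g + C u - X ≠ 0 := fun h0 => by
      have h1 := congrArg (fun q : k[X] => q.coeff g.natDegree) h0
      have h2 := congrArg (fun q : k[X] => q.coeff 1) h0
      simp [coeff_X, coeff_C, hgmonic.coeff_natDegree,
        show g.natDegree ≠ 0 by omega, Ne.symm hne] at h1 h2
      simp [h1] at h2
    have hdeg : (C w * g + C u - X).natDegree ≤ g.natDegree := by
      refine (natDegree_sub_le _ _).trans (max_le ((natDegree_add_le _ _).trans (max_le (natDegree_C_mul_le _ _) ?_)) ?_)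
      · simp
      · simp; omega
    have := natDegree_le_of_dvd (minpoly.dvd k a (by simp [← hb]; rw [sub_eq_zero, add_comm]; exact huw.symm :
      aeval a (C w * g + C u - X) = 0)) h0
    rw [← hf] at this
    omega
  obtain ⟨m, rfl⟩ : ∃ m, g = X - C m := ⟨-(g.coeff 0), by
    conv_lhs => rw [hgmonic.eq_X_add_C hn]
    simp⟩
  have hbdef : b = a - algebraMap k A m := by simp [hb]
  -- a two-dimensional algebra mapping onto `A`
  have hiso : ∀ (B : Type u) [CommRing B] [Algebra k B] [Module.Finite k B], Module.finrank k B = 2 →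
      ∀ ψ : B →ₐ[k] A, a ∈ ψ.range → Nonempty (A ≃ₐ[k] B) := by
    intro B _ _ _ hB ψ hψ
    have hr : ψ.range = ⊤ := (htwo _).resolve_left fun h => ha (h ▸ hψ)
    have hs : Function.Surjective ψ := (AlgHom.range_eq_top ψ).1 hr
    refine ⟨(AlgEquiv.ofBijective ψ ⟨?_, hs⟩).symm⟩
    show Function.Injective ψ.toLinearMap
    haveI : Module.Finite k A := Module.Finite.of_surjective ψ.toLinearMap hs
    have h1 := ψ.toLinearMap.finrank_range_add_finrank_ker
    rw [LinearMap.range_eq_top.2 hs, finrank_top, hB] at h1
    have h2 : Module.finrank k A ≠ 1 := fun h2 => bot_ne_top (Subalgebra.bot_eq_top_iff_finrank_eq_one.2 h2)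
    have h3 : 0 < Module.finrank k A := Module.finrank_pos
    rw [← LinearMap.ker_eq_bot, ← Submodule.finrank_eq_zero (R := k)]
    omega
  rw [hbdef] at hrel
  rcases eq_or_ne l m with rfl | hne
  · haveI : Module.Finite k (DualNumber k) := inferInstanceAs (Module.Finite k (k × k))
    refine Or.inr (hiso (DualNumber k) ?_
      (DualNumber.lift ⟨⟨Algebra.ofId k A, a - algebraMap k A l⟩, hrel, fun c => Commute.all _ _⟩)
      ⟨TrivSqZeroExt.inl l + DualNumber.eps, by simp⟩)
    rw [show Module.finrank k (DualNumber k) = Module.finrank k (k × k) from rfl, Module.finrank_prod, Module.finrank_self]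
  · set e := algebraMap k A (l - m)⁻¹ * (a - algebraMap k A m) with he
    have hinv : algebraMap k A (l - m)⁻¹ * (algebraMap k A l - algebraMap k A m) = 1 := by
      rw [← map_sub, ← map_mul, inv_mul_cancel₀ (sub_ne_zero.2 hne), map_one]
    have hee : e * e = e := by
      rw [he]
      linear_combination (algebraMap k A (l - m)⁻¹ * algebraMap k A (l - m)⁻¹) * hrel +
        (algebraMap k A (l - m)⁻¹ * (a - algebraMap k A m)) * hinv
    let ψ : k × k →ₐ[k] A :=
      { toFun := fun z => algebraMap k A z.1 * e + algebraMap k A z.2 * (1 - e)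
        map_one' := by simp
        map_mul' := fun x y => by
          simp only [Prod.fst_mul, Prod.snd_mul, map_mul]
          linear_combination (-(algebraMap k A x.1 - algebraMap k A x.2) * (algebraMap k A y.1 - algebraMap k A y.2)) * hee
        map_zero' := by simp
        map_add' := fun x y => by simp only [Prod.fst_add, Prod.snd_add, map_add]; ring
        commutes' := fun r => by simp [Prod.algebraMap_apply]; ring }
    refine Or.inl (hiso (k × k) (by rw [Module.finrank_prod, Module.finrank_self]) ψ ⟨(l, m), ?_⟩)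
    show algebraMap k A l * e + algebraMap k A m * (1 - e) = a
    rw [he]
    linear_combination (a - algebraMap k A m) * hinv

end Groth.Agent.S0218
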