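import Groth.Statements.S0222
import Groth.Agent.S0002
import Groth.Agent.CohTop.Spectral
import Groth.Agent.CohAff.Classes
import Groth.Agent.CohLES.Basic
import Groth.Agent.CohAff.ResOps
import Groth.Agent.CohDev.Loc
import Groth.Agent.Nagata.Main
import Groth.Agent.VarDim.Scheme
import Mathlib.AlgebraicGeometry.Morphisms.SchemeTheoreticallyDominant
-- helpers

set_option autoImplicit false
universe u
open CategoryTheory CategoryTheory.Limits AlgebraicGeometry
open Curves

namespace Groth.Agent.S0222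

open TopologicalSpace Groth.Agent Groth.Agent.CohAff

/-- the dimension of a scheme of finite type with a dense open is that of the open -/
theorem dim_le_of_denseRange (k : Type u) [Field k] {X P : Scheme.{u}} [P.Over (Spec (CommRingCat.of k))]
    [LocallyOfFiniteType (P ↘ Spec (CommRingCat.of k))] [IsNoetherian P]
    (i : X ⟶ P) [IsOpenImmersion i] (hi : DenseRange i.base) :
    topologicalKrullDim P ≤ topologicalKrullDim X := by
  rw [VarDim.topologicalKrullDim_eq_iSup k]
  refine iSup_le fun y => ?_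
  obtain ⟨η, hη, hηy⟩ : ∃ η : P, (∀ z : P, z ⤳ η → η ⤳ z) ∧ η ⤳ y := by
    obtain ⟨C, hC, hCy⟩ : ∃ C ∈ irreducibleComponents (↥P), y ∈ C :=
      ⟨irreducibleComponent y, irreducibleComponent_mem_irreducibleComponents y, mem_irreducibleComponent⟩
    obtain ⟨η, hη⟩ := QuasiSober.sober hC.1 (isClosed_of_mem_irreducibleComponents C hC)
    refine ⟨η, fun z hz => ?_, hη.specializes hCy⟩
    have h1 : C ⊆ closure {z} := by
      rw [← hη.def]
      exact closure_minimal (Set.singleton_subset_iff.2 hz.mem_closure) isClosed_closure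
    have h2 := hC.2 (isIrreducible_singleton.closure) h1
    exact specializes_iff_mem_closure.2 (hη.def.symm ▸ h2 (subset_closure rfl))
  have hmem : η ∈ i.opensRange := by
    have hcov : (Set.univ : Set P) = ⋃ C ∈ irreducibleComponents (↥P), C := by
      rw [← sUnion_irreducibleComponents, Set.sUnion_eq_biUnion]
    by_contra hne
    let C := closure ({η} : Set P)
    have hmax : C ∈ irreducibleComponents (↥P) := by
      refine ⟨isIrreducible_singleton.closure, fun D hD hCD => ?_⟩
      obtain ⟨δ, hδ⟩ := QuasiSober.sober hD.closure isClosed_closure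
      have hδη : δ ⤳ η := hδ.specializes (subset_closure (hCD (subset_closure rfl)))
      intro w hw
      exact ((hη δ hδη).trans (hδ.specializes (subset_closure hw))).mem_closure
    let B := ⋃ D ∈ irreducibleComponents (↥P) \ {C}, D
    have hB : IsClosed B := ((NoetherianSpace.finite_irreducibleComponents).sdiff).isClosed_biUnion
      fun D hD => isClosed_of_mem_irreducibleComponents D hD.1
    have hηB : η ∉ B := by
      simp only [B, Set.mem_iUnion, not_exists]
      intro D hD hηD
      exact hD.2 (le_antisymm (hmax.2 hD.1.1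
        (closure_minimal (Set.singleton_subset_iff.2 hηD) (isClosed_of_mem_irreducibleComponents D hD.1)))
        (closure_minimal (Set.singleton_subset_iff.2 hηD) (isClosed_of_mem_irreducibleComponents D hD.1)))
    obtain ⟨w, hwB, hwU⟩ := hi.inter_open_nonempty Bᶜ hB.isOpen_compl ⟨η, hηB⟩ |>.imp fun w h => (h : w ∈ Bᶜ ∩ Set.range i.base)
    obtain ⟨D, hD, hwD⟩ : ∃ D ∈ irreducibleComponents (↥P), w ∈ D :=
      ⟨irreducibleComponent w, irreducibleComponent_mem_irreducibleComponents w, mem_irreducibleComponent⟩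
    have hDC : D = C := by
      by_contra h
      exact hwB (Set.mem_biUnion ⟨hD, h⟩ hwD)
    subst hDC
    exact hne ((specializes_iff_mem_closure.2 hwD).mem_open i.opensRange.2 hwU)
  have h3 : (VarDim.dimPt k P y : WithBot ℕ∞) ≤ VarDim.dimPt k P η := by
    exact_mod_cast (VarDim.exists_ltSeries_of_le k (hηy : y ≤ η)).1
  refine h3.trans ((VarDim.le_topologicalKrullDim_opens k i.opensRange hmem le_rfl).trans ?_)
  exact (IsHomeomorph.topologicalKrullDim_eq _ i.isOpenEmbedding.isEmbedding.toHomeomorph.isHomeomorph).ge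

theorem appIso_inv_appTop {X P : Scheme.{u}} (i : X ⟶ P) [IsOpenImmersion i] (a : Γ(P, ⊤)) :
    (i.appIso ⊤).inv (i.appTop a) = P.presheaf.map (homOfLE (le_top : i ''ᵁ ⊤ ≤ ⊤)).op a := by
  have h := i.appLE_appIso_inv (U := ⊤) (V := ⊤) le_top
  rw [Scheme.Hom.appLE] at h
  have h2 := ConcreteCategory.congr_hom h a
  simp at h2
  exact h2

/-- sections of a restricted resolution are sections on the image -/
def toR {X P : Scheme.{u}} (i : X ⟶ P) [IsOpenImmersion i] (R : FRes P) (n : ℕ) (V : X.Opens)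
    (z : Γ(R.Z n, i ''ᵁ V)) : Γ((R.restrict i).Z n, V) := z

theorem ex_restrict_iff {X P : Scheme.{u}} (i : X ⟶ P) [IsOpenImmersion i] (R : FRes P) :
    ∀ (n : ℕ) (V : X.Opens) (z : Γ((R.restrict i).Z n, V)), (R.restrict i).Ex n V z ↔ R.Ex n (i ''ᵁ V) z
  | 0, _, _ => Iff.rfl
  | _ + 1, _, _ => Iff.rfl


/-- For a separated scheme of finite type and dimension d over a field k and a coherent module F, the
top cohomology H^d(X, F) is finite-dimensional over k (no properness needed). -/
theorem result (k : Type u) [Field k] (X : Scheme.{u}) [X.Over (Spec (CommRingCat.of k))]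
    [IsSeparated (X ↘ Spec (CommRingCat.of k))] [LocallyOfFiniteType (X ↘ Spec (CommRingCat.of k))]
    [QuasiCompact (X ↘ Spec (CommRingCat.of k))]
    (F : X.Modules) (hF : Coh.IsCoh F) (d : ℕ) (hd : topologicalKrullDim X = d) :
    Module.Finite k (Coh.HH X F d) := by
  let f := X ↘ Spec (CommRingCat.of k)
  obtain ⟨Y, j, p, hj, hjc, hp, hjp⟩ := Nagata.hasCompactification f
  let P := j.image
  let i : X ⟶ P := j.toImage
  let q : P ⟶ Spec (CommRingCat.of k) := j.imageι ≫ p
  letI : P.Over (Spec (CommRingCat.of k)) := ⟨q⟩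
  haveI hq : IsProper (P ↘ Spec (CommRingCat.of k)) := inferInstanceAs (IsProper (j.imageι ≫ p))
  haveI : IsLocallyNoetherian P := LocallyOfFiniteType.isLocallyNoetherian (P ↘ Spec (CommRingCat.of k))
  haveI : CompactSpace P := QuasiCompact.compactSpace_of_compactSpace (P ↘ Spec (CommRingCat.of k))
  haveI : IsNoetherian P := ⟨⟩
  haveI : IsLocallyNoetherian X := LocallyOfFiniteType.isLocallyNoetherian f
  haveI : CompactSpace X := QuasiCompact.compactSpace_of_compactSpace f
  haveI : IsNoetherian X := ⟨⟩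
  have hiq : i ≫ q = f := by
    show j.toImage ≫ j.imageι ≫ p = f
    rw [Scheme.Hom.toImage_imageι_assoc]
    exact hjp
  haveI : F.IsQuasicoherent := hF.1
  obtain ⟨H, -, e, hH, -⟩ := CohDev.exists_coh_extension (j := i) ((Scheme.Modules.pushforward i).obj F)
    (QCoh.isQuasicoherent_pushforward i F) F hF 0
  have hdimP : topologicalKrullDim P ≤ d :=
    (dim_le_of_denseRange k i i.denseRange).trans hd.le
  haveI : Module.Finite k (Coh.HH P H d) := Groth.Agent.S0002.result k P H hH d
  let R : FRes P := FRes.ofMod H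
  haveI : PrespectralSpace P.toTopCat := inferInstanceAs (PrespectralSpace P)
  haveI : QuasiSeparatedSpace P.toTopCat := inferInstanceAs (QuasiSeparatedSpace P)
  haveI : CompactSpace P.toTopCat := inferInstanceAs (CompactSpace P)
  haveI : T0Space P.toTopCat := inferInstanceAs (T0Space P)
  haveI : QuasiSober P.toTopCat := inferInstanceAs (QuasiSober P)
  let R' := R.restrict i
  let a : k → Γ(P, ⊤) := fun c => Coh.toGlobal q c
  let U : P.Opens := i ''ᵁ ⊤
  let g : Γ(R.Z d, ⊤) →+ Coh.HH X (R'.Z 0) d :=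
    AddMonoidHom.mk' (fun z => R'.clsTop d (toR i R d ⊤ (QCoh.res (R.Z d) (le_top : U ≤ ⊤) z)))
      (fun a b => (congrArg (fun w => R'.clsTop d (toR i R d ⊤ w)) (map_add _ a b)).trans
        (map_add (R'.clsTop d) (toR i R d ⊤ _) (toR i R d ⊤ _)))
  have hker : ∀ z, R.clsTop d z = 0 → g z = 0 := fun z hz => by
    refine (R'.clsTop_eq_zero_iff d _).2 ((ex_restrict_iff i R d ⊤ _).2 ?_)
    refine (R.cls_eq_zero_iff d U _).1 ?_
    show R.cls d U (QCoh.res (R.Z d) (le_top : U ≤ ⊤) z) = 0
    rw [R.cls_res d le_top, (R.cls_eq_zero_iff d ⊤ z).2 ((R.clsTop_eq_zero_iff d z).1 hz), map_zero]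
  have hgs : Function.Surjective g := fun y => by
    obtain ⟨z', rfl⟩ := R'.clsTop_surjective d y
    obtain ⟨w, hw⟩ := CohTop.Spectral.spectral_top_surjective (X := P.toTopCat) d hdimP (Coh.toAb (R.Z 0)) U
      (by
        show IsCompact (i ''ᵁ ⊤ : Set P)
        rw [Scheme.Hom.image_top_eq_opensRange]
        exact isCompact_range i.continuous) (R.cls d U z')
    obtain ⟨z, rfl⟩ := R.cls_surjective d ⊤ w
    refine ⟨z, sub_eq_zero.1 ?_⟩
    show R'.clsTop d _ - R'.clsTop d z' = 0
    rw [← map_sub]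
    refine (R'.clsTop_eq_zero_iff d _).2 ((ex_restrict_iff i R d ⊤ _).2 ((R.cls_eq_zero_iff d U _).1 ?_))
    refine (map_sub (R.cls d U) (QCoh.res (R.Z d) (le_top : U ≤ ⊤) z) z').trans (sub_eq_zero.2 ?_)
    rw [R.cls_res d le_top]
    exact hw
  have hsc : ∀ c : k, (Coh.toGlobal f c : Γ(X, ⊤)) = i.appTop (Coh.toGlobal q c) := fun c => by
    rw [← hiq]
    rfl
  have hg : ∀ (c : k) (z : Γ(R.Z d, ⊤)),
      g (a c • z) = c • g z := fun c z => by
    show R'.clsTop d _ = (Coh.toGlobal f c) • R'.clsTop d _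
    rw [← R'.clsTop_smul, hsc]
    congr 1
    show QCoh.res (R.Z d) (le_top : U ≤ ⊤) (a c • z) = _
    rw [QCoh.res_smul]
    change _ = ((i.appIso ⊤).inv (i.appTop (a c))) • (show Γ(R.Z d, U) from QCoh.res (R.Z d) (le_top : U ≤ ⊤) z)
    rw [appIso_inv_appTop]
  let ψ₀ : Coh.HH P H d →+ Coh.HH X (R'.Z 0) d :=
    (QuotientAddGroup.lift (R.clsTop d).ker g fun z hz => hker z hz).comp
      (QuotientAddGroup.quotientKerEquivOfSurjective (R.clsTop d) (R.clsTop_surjective d)).symm.toAddMonoidHom
  have hψ : ∀ z, ψ₀ (R.clsTop d z) = g z := fun z => by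
    have : (QuotientAddGroup.quotientKerEquivOfSurjective (R.clsTop d) (R.clsTop_surjective d)).symm
        (R.clsTop d z) = QuotientAddGroup.mk z :=
      (AddEquiv.symm_apply_eq _).2 rfl
    exact (congrArg (QuotientAddGroup.lift (R.clsTop d).ker g fun z hz => hker z hz) this).trans rfl
  let ψ : Coh.HH P H d →ₗ[k] Coh.HH X (R'.Z 0) d :=
    { toFun := ψ₀
      map_add' := map_add ψ₀
      map_smul' := fun c x => by
        obtain ⟨z, rfl⟩ := R.clsTop_surjective d x
        show ψ₀ ((Coh.toGlobal q c) • R.clsTop d z) = c • ψ₀ (R.clsTop d z)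
        have h1 : R.clsTop d (a c • z) = (Coh.toGlobal q c) • R.clsTop d z := R.clsTop_smul d _ z
        rw [← h1, hψ, hψ]
        exact hg c z }
  haveI hfin : Module.Finite k (Coh.HH X (R'.Z 0) d) :=
    Module.Finite.of_surjective ψ fun y => by
      obtain ⟨z, rfl⟩ := hgs y
      exact ⟨R.clsTop d z, hψ z⟩
  haveI : Module.Finite k (Coh.HH X ((Scheme.Modules.restrictFunctor i).obj H) d) := hfin
  exact Module.Finite.of_surjective (CohLES.mapL k e.hom d) fun y =>
    ⟨CohLES.mapL k e.inv d y, by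
      rw [← LinearMap.comp_apply, ← CohLES.mapL_comp, e.inv_hom_id, CohLES.mapL_id, LinearMap.id_apply]⟩

end Groth.Agent.S0222
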