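import Groth.Statements.S0226
import Groth.Agent.RegLoc.TwoDim
import Mathlib.RingTheory.Ideal.MinimalPrime.Noetherian
-- import your own Groth.Agent.* helpers here

set_option autoImplicit false
universe u
open Curves

namespace Groth.Agent.S0226

/-- In a regular local ring of dimension two, an ideal inside the maximal ideal with reduced quotient is
zero, the maximal ideal, or principal. -/
theorem result (A : Type u) [CommRing A] [IsRegularLocalRing A] (hdim : ringKrullDim A = 2)
    (I : Ideal A) (hI : I ≤ IsLocalRing.maximalIdeal A) [IsReduced (A ⧸ I)] :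
    I = ⊥ ∨ I = IsLocalRing.maximalIdeal A ∨ ∃ f ∈ IsLocalRing.maximalIdeal A, f ≠ 0 ∧ I = Ideal.span {f} := by
  classical
  haveI : IsDomain A := Groth.Agent.RegLoc.isDomain A
  haveI : UniqueFactorizationMonoid A :=
    Groth.Agent.RegLoc.TwoDim.uniqueFactorizationMonoid_of_dim_two hdim
  let m := IsLocalRing.maximalIdeal A
  rcases eq_or_ne I ⊥ with h | hI0
  · exact Or.inl h
  have hrad : I.IsRadical := (Ideal.isRadical_iff_quotient_reduced I).2 ‹_›
  have hsInf : sInf I.minimalPrimes = I := by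
    rw [Ideal.sInf_minimalPrimes, hrad.radical]
  by_cases hm : m ∈ I.minimalPrimes
  · refine Or.inr (Or.inl (le_antisymm hI ?_))
    conv_rhs => rw [← hsInf]
    exact le_sInf fun p hp => hm.2 hp.1 (IsLocalRing.le_maximalIdeal hp.1.1.ne_top)
  · refine Or.inr (Or.inr ?_)
    have hpr : ∀ p ∈ I.minimalPrimes, ∃ π : A, Prime π ∧ p = Ideal.span {π} := by
      intro p hp
      haveI := hp.1.1
      have hp0 : p ≠ ⊥ := fun h => hI0 (le_bot_iff.1 (h ▸ hp.1.2))
      obtain ⟨π, hπp, hπ⟩ := Ideal.IsPrime.exists_mem_prime_of_ne_bot hp.1.1 hp0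
      refine ⟨π, hπ, ?_⟩
      by_contra hne
      have h1 : Ideal.span {π} < p :=
        lt_of_le_of_ne ((Ideal.span_singleton_le_iff_mem _).2 hπp) (Ne.symm hne)
      have h2 : p < m := lt_of_le_of_ne (IsLocalRing.le_maximalIdeal hp.1.1.ne_top)
        fun h => hm (h ▸ hp)
      haveI hq : (Ideal.span {π}).IsPrime := (Ideal.span_singleton_prime hπ.ne_zero).2 hπ
      have h0 : (⊥ : Ideal A) < Ideal.span {π} :=
        bot_lt_iff_ne_bot.2 fun h => hπ.ne_zero (Ideal.span_singleton_eq_bot.1 h)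
      let l : LTSeries (PrimeSpectrum A) := LTSeries.mk 3
        ![⟨⊥, Ideal.isPrime_bot⟩, ⟨Ideal.span {π}, hq⟩, ⟨p, hp.1.1⟩,
          ⟨m, (IsLocalRing.maximalIdeal.isMaximal A).isPrime⟩]
        (Fin.strictMono_iff_lt_succ.2 (by
          intro i
          match i with
          | ⟨0, _⟩ => exact (PrimeSpectrum.asIdeal_lt_asIdeal ⟨⊥, Ideal.isPrime_bot⟩ ⟨_, hq⟩).1 h0
          | ⟨1, _⟩ => exact (PrimeSpectrum.asIdeal_lt_asIdeal ⟨_, hq⟩ ⟨p, hp.1.1⟩).1 h1
          | ⟨2, _⟩ => exact (PrimeSpectrum.asIdeal_lt_asIdeal ⟨p, hp.1.1⟩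
              ⟨m, (IsLocalRing.maximalIdeal.isMaximal A).isPrime⟩).1 h2))
      have h3 := Order.LTSeries.length_le_krullDim l
      rw [show Order.krullDim (PrimeSpectrum A) = ringKrullDim A from rfl, hdim] at h3
      norm_cast at h3
    haveI : Fintype I.minimalPrimes := (Ideal.finite_minimalPrimes_of_isNoetherianRing A I).fintype
    choose π hπ hπp using fun p : I.minimalPrimes => hpr p.1 p.2
    refine ⟨∏ p, π p, ?_, Finset.prod_ne_zero_iff.2 fun p _ => (hπ p).ne_zero, ?_⟩
    · obtain ⟨p₀, hp₀⟩ := Ideal.nonempty_minimalPrimes (I := I)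
        (ne_top_of_le_ne_top (IsLocalRing.maximalIdeal.isMaximal A).ne_top hI)
      refine IsLocalRing.le_maximalIdeal hp₀.1.1.ne_top ?_
      refine Ideal.mem_of_dvd _ (Finset.dvd_prod_of_mem π (Finset.mem_univ ⟨p₀, hp₀⟩)) ?_
      exact (hπp ⟨p₀, hp₀⟩).ge (Ideal.mem_span_singleton_self _)
    · conv_lhs => rw [← hsInf]
      refine le_antisymm (fun x hx => ?_) (le_sInf fun p hp => ?_)
      · rw [Ideal.mem_span_singleton]
        refine Finset.prod_dvd_of_isRelPrime (fun p _ q _ hpq => ?_) fun p _ => ?_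
        · refine ((hπ p).irreducible.isRelPrime_iff_not_dvd).2 fun hd => hpq (Subtype.ext ?_)
          rw [hπp p, hπp q, Ideal.span_singleton_eq_span_singleton]
          exact (hπ p).associated_of_dvd (hπ q) hd
        · have := (Submodule.mem_sInf.1 hx) p.1 p.2
          rwa [hπp p, Ideal.mem_span_singleton] at this
      · have hd : π ⟨p, hp⟩ ∣ ∏ q, π q := Finset.dvd_prod_of_mem π (Finset.mem_univ _)
        refine le_trans ?_ (hπp ⟨p, hp⟩).ge
        exact Ideal.span_singleton_le_span_singleton.2 hd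

end Groth.Agent.S0226
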