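import Groth.Statements.S0231
import Groth.Agent.GalCohAux.EtGmCurve
import Groth.Agent.S14451

set_option autoImplicit false
universe u
open CategoryTheory CategoryTheory.Limits AlgebraicGeometry
open Curves

namespace Groth.Agent.S0231

/-- For a smooth curve X over an algebraically closed field and j as in the previous row, the étale
cohomology of j_* G_m on X vanishes in positive degrees. -/
theorem result (k : Type u) [Field k] [IsAlgClosed k] (X : Scheme.{u}) (f : X ⟶ Spec (CommRingCat.of k))
    [Smooth f] [IsSeparated f] [LocallyOfFiniteType f] [QuasiCompact f] [IsIntegral X]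
    (hdim : topologicalKrullDim X = 1)
    [EtCoh.BCCont (X.fromSpecStalk (genericPoint X))] (p : ℕ) (hp : 1 ≤ p) :
    Subsingleton (EtCoh.H X ((EtCoh.push (X.fromSpecStalk (genericPoint X))).obj
      (EtCoh.Gm (Spec (X.presheaf.stalk (genericPoint X))))) p) := by
  have h : Function.Bijective (EtLim.HofPush (X.fromSpecStalk (genericPoint X))
      (EtCoh.Gm (Spec (X.presheaf.stalk (genericPoint X)))) p) :=
    S14451.result _ _ (fun q hq => by
      obtain ⟨r, rfl⟩ : ∃ r, q = r + 1 := ⟨q - 1, by omega⟩
      exact GalCohAux.EtGmCurve.isZero_Rpush_generic k f hdim r) p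
  haveI : FiniteDimensional X.functionField X.functionField := Module.Finite.self _
  haveI := GalCohAux.EtGmCurve.subsingleton_H_Gm_finite k f hdim p hp X.functionField
  exact (Equiv.ofBijective _ h).subsingleton

end Groth.Agent.S0231
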