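import Groth.Statements.S0227
import Groth.Agent.GalCohAux.EtGmPushStalk
import Groth.Agent.GalCohAux.EtSuppClosed
import Groth.Agent.S0231
import Groth.Agent.S0749
import Groth.Agent.S3502
import Groth.Agent.AlgSp.GorCore

set_option autoImplicit false
set_option backward.isDefEq.respectTransparency false
universe u
open CategoryTheory CategoryTheory.Limits AlgebraicGeometry
open Curves

namespace Groth.Agent.S0227

open EtaleSite GalCohAux GalCohAux.EtDimVanA

attribute [-instance] EtFin.instUniqueCarrierCarrierCommRingCatSpecOf_groth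

/-- Kernels and cokernels of maps which are bijective off closed points are supported in closed points. -/
theorem supp_kernel_cokernel {X : Scheme.{u}} {F G : EtCoh.Ab X} (a : F ⟶ G)
    (h : ∀ (Ω : Type u) [Field Ω] [IsSepClosed Ω] (ξ : Spec (CommRingCat.of Ω) ⟶ X),
      ¬ IsClosed ({ξ default} : Set X) → Function.Bijective ((EtCoh.stalk ξ).map a)) :
    (∀ y ∈ EtPBC.supp (kernel a), IsClosed ({y} : Set X)) ∧
      ∀ y ∈ EtPBC.supp (cokernel a), IsClosed ({y} : Set X) := by
  constructor <;> intro y hy <;> by_contra hc <;> rw [mem_supp] at hy <;> apply hy <;>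
    have hb := h _ (geomPointAt X y) (by rw [geomPointAt_apply X y _]; exact hc)
  · haveI : IsIso ((EtCoh.stalk (geomPointAt X y)).map a) := (ConcreteCategory.isIso_iff_bijective _).2 hb
    exact IsZero.of_iso (isZero_kernel_of_mono _) (PreservesKernel.iso (EtCoh.stalk (geomPointAt X y)) a)
  · haveI : IsIso ((EtCoh.stalk (geomPointAt X y)).map a) := (ConcreteCategory.isIso_iff_bijective _).2 hb
    exact IsZero.of_iso (isZero_cokernel_of_epi _) (PreservesCokernel.iso (EtCoh.stalk (geomPointAt X y)) a)

/-- Sheaves supported in closed points with separably closed residue fields are acyclic. -/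
theorem acyclic_of_supp_closed {X : Scheme.{u}} [IsNoetherian X] (G : EtCoh.Ab X)
    (hG : ∀ x ∈ EtPBC.supp G, IsClosed ({x} : Set X))
    (hcl : ∀ x : X, IsClosed ({x} : Set X) → IsSepClosed (X.residueField x)) (q : ℕ) (hq : 0 < q) :
    Subsingleton (EtCoh.H X G q) :=
  EtSuppClosed.subsingleton_H_of_supp_closed G hG q fun x hx M =>
    haveI := hcl x (hG x hx)
    EtSuppClosed.subsingleton_sepClosed (X.residueField x) M q hq


/-- On a smooth curve over an algebraically closed field the étale cohomology of G_m vanishes from
degree two on. -/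
theorem result (k : Type u) [Field k] [IsAlgClosed k] (X : Scheme.{u}) (f : X ⟶ Spec (CommRingCat.of k))
    [Smooth f] [IsSeparated f] [LocallyOfFiniteType f] [QuasiCompact f] [IsIntegral X]
    (hdim : topologicalKrullDim X = 1) (q : ℕ) (hq : 2 ≤ q) :
    Subsingleton (EtCoh.H X (EtCoh.Gm X) q) := by
  haveI : IsLocallyNoetherian X := LocallyOfFiniteType.isLocallyNoetherian f
  haveI : CompactSpace X := QuasiCompact.compactSpace_of_compactSpace f
  haveI : IsNoetherian X := {}
  let j := X.fromSpecStalk (genericPoint X)
  haveI : Flat j := AlgSp.GorCore.flat_fromSpecStalk _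
  haveI : EtCoh.BCCont j := inferInstance
  let a := EtLim.GmPush j
  have hcl : ∀ x : X, IsClosed ({x} : Set X) → IsSepClosed (X.residueField x) := fun x hx =>
    S0749.isSepClosed_residueField f x hx
  obtain ⟨hK, hC⟩ := supp_kernel_cokernel a fun Ω _ _ ξ hξ => by
    have hr : ξ default ∈ Set.range j := by
      rw [Scheme.range_fromSpecStalk]
      show ξ default ⤳ genericPoint X
      by_cases he : genericPoint X = ξ default
      · rw [he]
      · exact absurd (S3502.spec_dim_one X hdim.le (genericPoint X) (ξ default) (genericPoint_specializes _) he).1 hξ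
    exact EtGmPushStalk.bijective_stalk_GmPush j ξ hr
  let S1 : ShortComplex (EtCoh.Ab X) :=
    ShortComplex.mk (kernel.ι a) (Abelian.coimage.π a) (cokernel.condition _)
  let S2 : ShortComplex (EtCoh.Ab X) :=
    ShortComplex.mk (Abelian.image.ι a) (cokernel.π a) (kernel.condition _)
  have hS1 : S1.ShortExact := { exact := ShortComplex.exact_of_g_is_cokernel _ (cokernelIsCokernel _) }
  have hS2 : S2.ShortExact := { exact := ShortComplex.exact_of_f_is_kernel _ (kernelIsKernel _) }
  obtain ⟨q, rfl⟩ : ∃ r, q = r + 1 := ⟨q - 1, by omega⟩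
  have hP := S0231.result k X f hdim (q + 1) (by omega)
  have hI := subsingleton_H_left hS2 q (acyclic_of_supp_closed _ hC hcl q (by omega)) hP
  exact subsingleton_H_mid hS1 (q + 1) (acyclic_of_supp_closed _ hK hcl (q + 1) (by omega))
    (subsingleton_H_of_iso (Abelian.coimageIsoImage a).symm (q + 1) hI)

end Groth.Agent.S0227
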