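import Groth.Statements.S0232
import Groth.Prelude.Def_PicGrp
import Groth.Agent.S7671
import Groth.Agent.ProperFin.Descend

set_option autoImplicit false
universe u
open CategoryTheory CategoryTheory.Limits AlgebraicGeometry
open Curves

namespace Groth.Agent.S0232

/-- For a quasi-compact quasi-separated scheme X over a field k with finite-dimensional H^0(X, O_X), an
invertible module on X that becomes trivial after base change to a field extension k' is already
trivial (injectivity of Pic(X) → Pic(X_{k'}), stated on classes without a group structure). The base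
change is given as any pullback square. -/
theorem result (k : Type u) [Field k] (X : Scheme.{u}) [X.Over (Spec (CommRingCat.of k))]
    [CompactSpace X] [QuasiSeparatedSpace X]
    (hfin : Module.Finite k (Coh.HH X (Coh.structureModule X) 0))
    (k' : Type u) [Field k'] [Algebra k k'] (X' : Scheme.{u}) (g : X' ⟶ X) (q : X' ⟶ Spec (CommRingCat.of k'))
    (hpb : IsPullback g q (X ↘ Spec (CommRingCat.of k)) (Spec.map (CommRingCat.ofHom (algebraMap k k'))))
    (L : X.Modules) (hL : PicF.IsInvertible L) (htriv : PicF.IsTrivialCl (PicF.pullCl g (PicF.cl L))) :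
    PicF.IsTrivialCl (PicF.cl L) := by
  let φ : k →+* Γ(X, ⊤) := Coh.toGlobal (X ↘ Spec (CommRingCat.of k))
  letI : Algebra k Γ(X, ⊤) := φ.toAlgebra
  let e := Groth.Agent.ProperFin.h0Sec (Coh.structureModule X)
  let el : Coh.HH X (Coh.structureModule X) 0 →ₗ[k] Γ(X, ⊤) :=
    { toFun := fun v => e v
      map_add' := fun a b => map_add e a b
      map_smul' := fun c v => Groth.Agent.ProperFin.h0Sec_smul _ (Coh.toGlobal _ c) v }
  haveI := hfin
  haveI : Module.Finite k Γ(X, ⊤) :=
    Module.Finite.of_surjective el (fun y => ⟨e.symm y, e.apply_symm_apply y⟩)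
  haveI : IsArtinianRing Γ(X, ⊤) := IsArtinianRing.of_finite k Γ(X, ⊤)
  obtain ⟨t⟩ := (PicGrp.cl_eq_cl_iff _ _).1 htriv
  refine (PicGrp.cl_eq_cl_iff _ _).2 (Groth.Agent.S7671.result k k' X
    (X ↘ Spec (CommRingCat.of k)) inferInstance L hL ?_)
  exact ⟨(Scheme.Modules.pullbackCongr hpb.isoPullback_inv_fst.symm).app L ≪≫
    ((Scheme.Modules.pullbackComp hpb.isoPullback.inv g).app L).symm ≪≫
    (Scheme.Modules.pullback hpb.isoPullback.inv).mapIso t ≪≫
    Groth.Agent.QCoh.pullbackUnitIso _⟩

end Groth.Agent.S0232
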