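import Groth.Statements.S0235
import Groth.Agent.PicStar.Semilocal
import Groth.Agent.PerfSch.DescSec

set_option autoImplicit false
universe u
open CategoryTheory CategoryTheory.Limits AlgebraicGeometry
open Curves

namespace Groth.Agent.S0235

/-- For a finite morphism π : X → Y and an invertible module L on X, every point y of Y has an open
neighbourhood V such that L is trivial on the preimage of V. -/
theorem result {X Y : Scheme.{u}} (π : X ⟶ Y) [IsFinite π]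
    (L : X.Modules) (hL : PicF.IsInvertible L) (y : Y) :
    ∃ V : Y.Opens, y ∈ V ∧ Nonempty (L.restrict (π ⁻¹ᵁ V).ι ≅ Coh.structureModule (↑(π ⁻¹ᵁ V))) := by
  obtain ⟨W, e, hy, -, he⟩ := Groth.Agent.PicStar.exists_gen_fibre π hL (O := ⊤) (y := y) trivial
  refine ⟨W, hy, ?_⟩
  have h := Groth.Agent.Props.GenPull.isGen_pb (π ⁻¹ᵁ W).ι he
  have hle : (⊤ : (↑(π ⁻¹ᵁ W) : Scheme.{u}).Opens) ≤ (π ⁻¹ᵁ W).ι ⁻¹ᵁ (π ⁻¹ᵁ W) := fun x _ => x.2
  obtain ⟨φ⟩ := Groth.Agent.PerfSch.DescSec.nonempty_iso_of_isGen (h.restrict hle)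
  exact ⟨(Scheme.Modules.restrictFunctorIsoPullback (π ⁻¹ᵁ W).ι).app L ≪≫ φ.symm⟩

end Groth.Agent.S0235
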