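import Groth.Statements.S0237
import Groth.Agent.FEtCat.Basic

set_option autoImplicit false
universe u
open Pi1

namespace Groth.Agent.S0237

open AlgebraicGeometry CategoryTheory in
/-- If a morphism of schemes has dense image, pulling back finite etale covers along it is faithful. -/
theorem result {X Y : Scheme.{u}} (f : X ⟶ Y)
    (h : DenseRange f.base) : (FEt.restrict f).Faithful := by
  constructor
  intro Y Z φ ψ e
  refine Groth.Agent.FEtCat.Basic.hom_ext ?_
  have e' : Limits.pullback.fst Y.hom f ≫ φ.left = Limits.pullback.fst Y.hom f ≫ ψ.left := by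
    have := congrArg (fun t => t.left ≫ Limits.pullback.fst Z.hom f) e
    simp [FEt.restrict] at this
    exact (Limits.pullback.lift_fst _ _ _).symm.trans (this.trans (Limits.pullback.lift_fst _ _ _))
  refine Groth.Agent.FEtCat.Count.eq_of_comp_eq Z.hom φ.left ψ.left
    ((MorphismProperty.Over.w φ).trans (MorphismProperty.Over.w ψ).symm) _ e' fun W hW hsub => ?_
  have hopen : IsOpenMap Y.hom := Y.hom.isOpenMap
  have hd : Dense (Y.hom ⁻¹' Set.range f) := Dense.preimage h hopen
  have hle : Y.hom ⁻¹' Set.range f ⊆ W := by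
    intro y hy
    obtain ⟨x, hx⟩ := hy
    obtain ⟨z, hz, -⟩ := Scheme.Pullback.exists_preimage_pullback (f := Y.hom) (g := f) y x hx.symm
    exact hsub ⟨z, hz⟩
  exact hW.isClosed.closure_eq ▸ (hd.mono hle).closure_eq

end Groth.Agent.S0237
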