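import Groth.Statements.S0243
import Groth.Agent.FEtCat.Full

set_option autoImplicit false
universe u
open Pi1

namespace Groth.Agent.S0243

open AlgebraicGeometry CategoryTheory CategoryTheory.Limits in
/-- If a closed subscheme meets every connected component of the ambient scheme, restricting finite
etale covers to it is a faithful functor. -/
theorem result {X Y : Scheme.{u}} (i : Y ⟶ X) [IsClosedImmersion i]
    (h : ∀ x : X, (connectedComponent x ∩ Set.range i.base).Nonempty) :
    (FEt.restrict i).Faithful := by
  refine Groth.Agent.FEtCat.Full.faithful_of_clopenInj i fun Z W hW hp => ?_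
  have hc := Groth.Agent.FEtCat.Count.isClopen_image (X := X) Z.hom hW
  by_contra hne
  obtain ⟨w, hw⟩ := Set.nonempty_iff_ne_empty.mpr hne
  obtain ⟨x, hx, y, hy⟩ := h (Z.hom w)
  obtain ⟨w', hw', hwx⟩ := hc.connectedComponent_subset ⟨w, hw, rfl⟩ hx
  obtain ⟨z, hz, -⟩ := Scheme.Pullback.exists_preimage_pullback (f := Z.hom) (g := i) w' y
    (hwx.trans hy.symm)
  exact Set.notMem_empty z (hp ▸ (show pullback.fst Z.hom i z ∈ W by rw [hz]; exact hw'))

end Groth.Agent.S0243
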