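import Groth.Statements.S0248
import Groth.Agent.PurityReg.Main
import Groth.Agent.VarDim.Algebra
import Groth.Agent.ParaFLib.PicUFD
import Mathlib.RingTheory.Etale.Locus
import Mathlib.RingTheory.Localization.BaseChange

set_option autoImplicit false
universe u
open Pi1

namespace Groth.Agent.S0248

set_option backward.isDefEq.respectTransparency.types false
set_option linter.style.haveILetI false
set_option maxHeartbeats 800000

open scoped TensorProduct
open IsLocalRing

open AlgebraicGeometry CategoryTheory CategoryTheory.Limits in
/-- Let A be a regular local ring of dimension at least 2 and B a finite A-algebra which is an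
integrally closed domain, with A → B injective. If B is étale over A at every prime of B not lying
over the maximal ideal of A, then B is étale over A. This is the case of the published statement in
which B is a domain and A → B is injective. -/
theorem result (A B : Type u) [CommRing A] [IsRegularLocalRing A]
    (hA : (2 : WithBot ℕ∞) ≤ ringKrullDim A) [CommRing B] [IsDomain B] [IsIntegrallyClosed B]
    [Algebra A B] [Module.Finite A B] (hinj : Function.Injective (algebraMap A B))
    (h : ∀ (q : Ideal B) (_ : q.IsPrime), q.comap (algebraMap A B) ≠ IsLocalRing.maximalIdeal A →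
      Algebra.IsEtaleAt A q) : Algebra.Etale A B := by
  haveI := Groth.Agent.RegLoc.isDomain A
  haveI := Groth.Agent.RegLoc.UFD.uniqueFactorizationMonoid A
  haveI : FaithfulSMul A B := (faithfulSMul_iff_algebraMap_injective A B).mpr hinj
  haveI : Module.IsTorsionFree A B := inferInstance
  haveI : Algebra.IsIntegral A B := Algebra.IsIntegral.of_finite A B
  haveI : Algebra.FinitePresentation A B := Algebra.FinitePresentation.of_finiteType.mp inferInstance
  haveI : IsNoetherianRing B := IsNoetherianRing.of_finite A B
  refine PurityReg.etale_of_saturated hA B (fun c hc z hz => ?_) (fun c hc z hz => ?_) fun a ha _ => ?_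
  · exact (smul_eq_zero.mp hz).resolve_left hc
  · have hc' : algebraMap A B c ≠ 0 := fun h0 => hc (hinj (h0.trans (map_zero _).symm))
    let J : Ideal B := Submodule.comap (LinearMap.toSpanSingleton B B z) (Ideal.span {algebraMap A B c})
    have hmem : ∀ j, j ∈ J ↔ ∃ w, w * algebraMap A B c = j * z := fun j => by
      simp only [J, Submodule.mem_comap, LinearMap.toSpanSingleton_apply, smul_eq_mul, Ideal.mem_span_singleton']
    suffices (1 : B) ∈ J by
      obtain ⟨w, hw⟩ := (hmem 1).mp this
      exact ⟨w, by rw [Algebra.smul_def, mul_comm, hw, one_mul]⟩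
    rw [← Ideal.eq_top_iff_one]
    by_contra hJ
    obtain ⟨Q, hQ, hJQ⟩ := Ideal.exists_le_maximal J hJ
    have hQm : Q.under A = maximalIdeal A :=
      IsLocalRing.eq_maximalIdeal (Ideal.isMaximal_comap_of_isIntegral_of_isMaximal Q)
    let T := Localization.AtPrime Q
    haveI : IsIntegrallyClosed T := isIntegrallyClosed_of_isLocalization T Q.primeCompl Q.primeCompl_le_nonZeroDivisors
    have hdimT : (2 : WithBot ℕ∞) ≤ ringKrullDim T := by
      rw [IsLocalization.AtPrime.ringKrullDim_eq_height Q, ← VarDim.height_under_of_isIntegral (R := A) Q, hQm,
        IsLocalRing.maximalIdeal_height_eq_ringKrullDim]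
      exact hA
    have hdep := ParaFLib.PicUFD.two_le_depth_of_normal T hdimT
    obtain ⟨r, g, hg⟩ := PurityReg.exists_gens (A := A)
    let K := FractionRing B
    letI : Algebra T K := (IsLocalization.lift (S := T) (g := algebraMap B K) fun y : Q.primeCompl =>
      ((map_ne_zero_iff _ (IsFractionRing.injective B K)).mpr fun h0 : (y : B) = 0 => y.2 (h0 ▸ Q.zero_mem)).isUnit).toAlgebra
    haveI : IsScalarTower B T K := IsScalarTower.of_algebraMap_eq fun y => (IsLocalization.lift_eq _ y).symm
    haveI : IsFractionRing T K := IsFractionRing.isFractionRing_of_isDomain_of_isLocalization Q.primeCompl T K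
    have hcK : algebraMap B K (algebraMap A B c) ≠ 0 := (map_ne_zero_iff _ (IsFractionRing.injective B K)).mpr hc'
    refine Exists.elim (Groth.Agent.FEtCat.SectionsFinite.exists_eq_of_forall (K := K) hdep
      (fun i : Fin r => algebraMap B T (algebraMap A B (g i))) (fun q hq hgq => ?hgen)
      (algebraMap B K z / algebraMap B K (algebraMap A B c)) (fun i => ?hloc)) fun b hb => ?main
    case main =>
      obtain ⟨⟨b', t⟩, hbt⟩ := IsLocalization.surj Q.primeCompl b
      refine t.2 (hJQ ((hmem t).mpr ⟨b', IsFractionRing.injective B K ?_⟩))
      rw [div_eq_iff hcK] at hb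
      have hbt' := congrArg (algebraMap T K) hbt
      rw [map_mul, ← IsScalarTower.algebraMap_apply, ← IsScalarTower.algebraMap_apply] at hbt'
      rw [map_mul, map_mul, ← hbt', hb]
      ring
    case hgen =>
      have hq' : (q.under B).IsPrime := Ideal.IsPrime.comap _
      have hle : q.under B ≤ Q := fun y hy => by
        by_contra hyQ
        exact hq.ne_top (Ideal.eq_top_of_isUnit_mem _ hy (IsLocalization.map_units T (⟨y, hyQ⟩ : Q.primeCompl)))
      have hmle : maximalIdeal A ≤ (q.under B).under A := hg ▸ Ideal.span_le.mpr (by rintro _ ⟨i, rfl⟩; exact hgq i)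
      have hmax : (q.under B).IsMaximal := Ideal.isMaximal_of_isIntegral_of_isMaximal_comap (R := A) (q.under B) (by
        rw [← show maximalIdeal A = (q.under B).comap (algebraMap A B) from
          le_antisymm hmle (le_maximalIdeal (hq'.comap (algebraMap A B)).ne_top)]
        infer_instance)
      have hqQ : q.under B = Q := hmax.eq_of_le hQ.ne_top hle
      exact (IsLocalization.map_under Q.primeCompl T q).symm.trans
        ((congrArg (Ideal.map (algebraMap B T)) hqQ).trans (IsLocalization.AtPrime.map_eq_maximalIdeal Q T))
    case hloc =>
      obtain ⟨k, w, hw⟩ := hz (g i) (hg ▸ Ideal.subset_span ⟨i, rfl⟩)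
      refine ⟨k, algebraMap B T w, ?_⟩
      rw [← IsScalarTower.algebraMap_apply B T K, ← IsScalarTower.algebraMap_apply B T K, mul_div_assoc',
        div_eq_iff hcK]
      have e := congrArg (algebraMap B K) hw
      simp only [Algebra.smul_def, map_mul, map_pow] at e
      linear_combination e
  · have het : Algebra.Etale A (Localization.Away (algebraMap A B a)) :=
      Algebra.basicOpen_subset_etaleLocus_iff_etale.mp fun q hq => h q.asIdeal q.isPrime fun h0 => hq (by
        have : a ∈ q.asIdeal.comap (algebraMap A B) := h0 ▸ ha
        exact this)
    let S := Localization.Away (algebraMap A B a)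
    letI : Algebra (Localization.Away a) S := (Localization.awayMap (algebraMap A B) a).toAlgebra
    haveI : IsScalarTower A (Localization.Away a) S := IsScalarTower.of_algebraMap_eq fun y => by
      rw [RingHom.algebraMap_toAlgebra, IsScalarTower.algebraMap_apply A B S]
      exact (IsLocalization.map_eq _ _).symm
    haveI : IsLocalization (Algebra.algebraMapSubmonoid B (Submonoid.powers a)) S := by
      rw [Algebra.algebraMapSubmonoid_powers]; infer_instance
    haveI : Algebra.IsPushout A (Localization.Away a) B S :=
      (Algebra.isPushout_of_isLocalization (Submonoid.powers a) (Localization.Away a) B S).symm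
    haveI : Algebra.Etale (Localization.Away a) S := Algebra.Etale.of_restrictScalars A (Localization.Away a) S
    exact Algebra.Etale.of_equiv (A := S) (Algebra.IsPushout.equiv A (Localization.Away a) B S).symm

end Groth.Agent.S0248
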