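import Groth.Statements.S0249
import Mathlib.RingTheory.Ideal.KrullsHeightTheorem

set_option autoImplicit false
universe u
open Pi1

namespace Groth.Agent.S0249

open AlgebraicGeometry CategoryTheory CategoryTheory.Limits in
/-- Let A be a Noetherian local ring of dimension at least 1 and f an element of its maximal ideal. Then
some prime ideal of height exactly 1 contains f. -/
theorem result (A : Type u) [CommRing A] [IsNoetherianRing A] [IsLocalRing A]
    (h : (1 : WithBot ℕ∞) ≤ ringKrullDim A) (f : A) (hf : f ∈ IsLocalRing.maximalIdeal A) :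
    ∃ p : Ideal A, p.IsPrime ∧ f ∈ p ∧ p.height = 1 := by
  by_contra hcon
  push Not at hcon
  have hne : ∀ p : Ideal A, p.IsPrime → f ∈ p → p.height ≠ 1 := hcon
  -- minimal primes over f have height zero
  have hmin0 : ∀ q ∈ (Ideal.span {f}).minimalPrimes, q.height = 0 := by
    intro q hq
    have := hq.1.1
    have hle := Ideal.height_le_one_of_isPrincipal_of_mem_minimalPrimes (Ideal.span {f}) q hq
    have hne1 := hne q this (hq.1.2 (Ideal.mem_span_singleton_self f))
    exact ENat.lt_one_iff_eq_zero.mp (lt_of_le_of_ne hle hne1)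
  have hht : 1 ≤ (IsLocalRing.maximalIdeal A).height := by
    rw [← IsLocalRing.maximalIdeal_height_eq_ringKrullDim] at h
    exact_mod_cast h
  -- primes containing f of positive height
  obtain ⟨q, ⟨hqp, hfq, hq1⟩, hqmin⟩ := WellFounded.has_min (wellFounded_lt (α := ℕ∞))
    |> fun H => (show ∃ q : Ideal A, (q.IsPrime ∧ f ∈ q ∧ 1 ≤ q.height) ∧
        ∀ q' : Ideal A, q'.IsPrime → f ∈ q' → 1 ≤ q'.height → q.height ≤ q'.height by
      obtain ⟨a, ⟨q, hq, rfl⟩, hmin⟩ := H (Ideal.height '' {q : Ideal A | q.IsPrime ∧ f ∈ q ∧ 1 ≤ q.height})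
        ⟨_, _, ⟨inferInstance, hf, hht⟩, rfl⟩
      exact ⟨q, hq, fun q' h1 h2 h3 => not_lt.mp (hmin _ ⟨q', ⟨h1, h2, h3⟩, rfl⟩)⟩)
  -- every prime strictly below q containing f has height zero
  have hbelow : ∀ p : Ideal A, p.IsPrime → f ∈ p → p < q → p.height = 0 := by
    intro p hp hfp hlt
    by_contra h0
    have := hqmin p hp hfp (ENat.one_le_iff_ne_zero.mpr h0)
    exact absurd (Ideal.height_strict_mono_of_isPrime hlt) (not_lt.mpr this)
  have hq2 : 1 < q.height := lt_of_le_of_ne hq1 (Ne.symm (hne q hqp hfq))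
  obtain ⟨r, hr, hrlt, hrh⟩ : ∃ r : Ideal A, r.IsPrime ∧ r < q ∧ 1 ≤ r.height := by
    by_contra hno
    push Not at hno
    refine absurd hq2 (not_lt.mpr ?_)
    exact (q.height_le_iff).mpr fun p hp hlt => by exact_mod_cast hno p hp hlt
  have hfr : f ∉ r := fun hfr => by
    have := hbelow r hr hfr hrlt
    rw [this] at hrh
    exact absurd hrh (by simp)
  obtain ⟨s, hs, hsr, hs0⟩ : ∃ s : Ideal A, s.IsPrime ∧ s < r ∧ True := by
    obtain ⟨s, hs, hle⟩ := Ideal.exists_minimalPrimes_le (bot_le (a := r))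
    refine ⟨s, hs.1.1, lt_of_le_of_ne hle ?_, trivial⟩
    rintro rfl
    rw [Ideal.height_eq_zero_iff.mpr hs] at hrh
    exact absurd hrh (by simp)
  have hfs : f ∉ s := fun h' => hfr (hsr.le h')
  -- q is not minimal over s + (f), as it has height at least two over s
  have : (Ideal.span {f}).map (Ideal.Quotient.mk s) ≤ q.map (Ideal.Quotient.mk s) :=
    Ideal.map_mono (by simpa [Ideal.span_le])
  have hsq : s ⊔ Ideal.span {f} ≤ q := sup_le (hsr.le.trans hrlt.le) (by simpa [Ideal.span_le])
  obtain ⟨t, ht, htq⟩ := Ideal.exists_minimalPrimes_le hsq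
  have hst : s < t := lt_of_le_of_ne (le_sup_left.trans ht.1.2) fun hst =>
    hfs (hst ▸ ht.1.2 (Ideal.mem_sup_right (Ideal.mem_span_singleton_self f)))
  have htp := ht.1.1
  have ht1 : 1 ≤ t.height := ENat.one_le_iff_ne_zero.mpr fun h0 => by
    have := Ideal.height_strict_mono_of_isPrime hst
    rw [h0] at this
    exact not_lt_bot this
  have hft : f ∈ t := ht.1.2 (Ideal.mem_sup_right (Ideal.mem_span_singleton_self f))
  have htq' : t = q := by
    by_contra hne'
    have := hbelow t htp hft (lt_of_le_of_ne htq hne')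
    rw [this] at ht1
    exact absurd ht1 (by simp)
  subst htq'
  -- in A/s, the prime q is minimal over a principal ideal, hence has height at most one
  have hsP := hs
  have hq' := Ideal.map_height_le_one_of_mem_minimalPrimes (I := s) (x := f) ht
  have hlt' : r.map (Ideal.Quotient.mk s) < t.map (Ideal.Quotient.mk s) := by
    refine lt_of_le_of_ne (Ideal.map_mono hrlt.le) fun he => hrlt.ne ?_
    have := congrArg (Ideal.comap (Ideal.Quotient.mk s)) he
    rwa [Ideal.comap_map_quotientMk, Ideal.comap_map_quotientMk, sup_eq_right.mpr hsr.le,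
      sup_eq_right.mpr (hsr.le.trans hrlt.le)] at this
  have hrp : (r.map (Ideal.Quotient.mk s)).IsPrime :=
    Ideal.map_isPrime_of_surjective Ideal.Quotient.mk_surjective (by rw [Ideal.mk_ker]; exact hsr.le)
  have hpos : (0 : ℕ∞) < (r.map (Ideal.Quotient.mk s)).height := by
    rw [pos_iff_ne_zero, Ne, Ideal.height_eq_zero_iff]
    intro hmin
    have hbot : (⊥ : Ideal (A ⧸ s)).IsPrime := Ideal.isPrime_bot
    have hb : r.map (Ideal.Quotient.mk s) = ⊥ := le_bot_iff.mp (hmin.2 ⟨hbot, bot_le⟩ bot_le)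
    rw [Ideal.map_eq_bot_iff_le_ker, Ideal.mk_ker] at hb
    exact absurd hb (not_le_of_gt hsr)
  have := Ideal.height_strict_mono_of_isPrime hlt'
  have h2 : (r.map (Ideal.Quotient.mk s)).height < 1 := lt_of_lt_of_le this hq'
  rw [ENat.lt_one_iff_eq_zero] at h2
  rw [h2] at hpos
  exact lt_irrefl _ hpos

end Groth.Agent.S0249
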