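import Groth.Statements.S1159
import Groth.Agent.Pi1PS.Formal
import Groth.Agent.S9489

set_option autoImplicit false
set_option linter.style.haveILetI false
set_option backward.isDefEq.respectTransparency.types false
universe u
open Pi1

namespace Groth.Agent.S1159

open CategoryTheory CategoryTheory.Limits AlgebraicGeometry in
theorem full_faithful_iso_comp {X Y Z : Scheme.{u}} (e : X ⟶ Y) [IsIso e] (i : Y ⟶ Z) (g : X ⟶ Z)
    (hg : g = e ≫ i) (h : (FEt.restrict i).Full ∧ (FEt.restrict i).Faithful) :
    (FEt.restrict g).Full ∧ (FEt.restrict g).Faithful := by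
  subst hg
  obtain ⟨h1, h2⟩ := h
  obtain ⟨h3, h4⟩ := FEtCat.Full.full_faithful e
    (fun W V _ hV => by
      have hs : Function.Surjective (pullback.fst W.hom e) := (pullback.fst W.hom e).homeomorph.surjective
      rw [← Set.image_preimage_eq V hs, hV, Set.image_empty])
    (fun W V hV => ⟨(inv (pullback.fst W.hom e)) ⁻¹' V, hV.preimage (inv (pullback.fst W.hom e)).continuous, by
      ext z
      change (pullback.fst W.hom e ≫ inv (pullback.fst W.hom e)) z ∈ V ↔ z ∈ V
      rw [IsIso.hom_inv_id]; rfl⟩)
  let sq : FEt.restrict (e ≫ i) ≅ FEt.restrict i ⋙ FEt.restrict e :=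
    MorphismProperty.Over.pullbackComp e i _ rfl
  exact ⟨Functor.Full.of_iso sq.symm, Functor.Faithful.of_iso sq.symm⟩

open AlgebraicGeometry CategoryTheory CategoryTheory.Limits in
/-- Let A be a Noetherian local ring of depth at least 2, d ≥ 1, B = A[[x_1, ..., x_d]] (assumed local,
as it is), Y = Spec B and Y₀ = V(x_1, ..., x_d), identified with Spec A via the quotient map. Let V
be an open subscheme of Y whose intersection with Y₀ is Y₀ minus the closed point. Then restriction
of finite etale covers from V to V ×_Y Y₀ is fully faithful. -/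
theorem result (A : Type u) [CommRing A] [IsNoetherianRing A] [IsLocalRing A]
    (hA : (2 : ℕ∞) ≤ LocCoh.depth A A) (d : ℕ) (hd : 1 ≤ d)
    [IsLocalRing (MvPowerSeries (Fin d) A)]
    (V : (Spec (CommRingCat.of (MvPowerSeries (Fin d) A))).Opens)
    (hV : ∀ y : Spec (CommRingCat.of (MvPowerSeries (Fin d) A)),
      (∀ i : Fin d, MvPowerSeries.X i ∈ (y : PrimeSpectrum (MvPowerSeries (Fin d) A)).asIdeal) →
      (y ∈ V ↔ y ≠ IsLocalRing.closedPoint (MvPowerSeries (Fin d) A))) :
    (FEt.restrict (pullback.fst V.ι (Spec.map (CommRingCat.ofHom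
      (MvPowerSeries.constantCoeff : MvPowerSeries (Fin d) A →+* A))))).Full ∧
    (FEt.restrict (pullback.fst V.ι (Spec.map (CommRingCat.ofHom
      (MvPowerSeries.constantCoeff : MvPowerSeries (Fin d) A →+* A))))).Faithful := by
  let q := Pi1PS.zs A d
  haveI : IsClosedImmersion q :=
    IsClosedImmersion.spec_of_surjective _ fun r => ⟨MvPowerSeries.C r, MvPowerSeries.constantCoeff_C r⟩
  haveI : CompactSpace (V : Scheme.{u}) :=
    isCompact_iff_compactSpace.mp (TopologicalSpace.NoetherianSpace.isCompact _)
  haveI : AlgebraicGeometry.IsNoetherian (V : Scheme.{u}) := ⟨⟩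
  haveI : (V : Scheme.{u}).IsQuasiAffine := Scheme.IsQuasiAffine.of_isImmersion V.ι
  let J := q.ker.comap V.ι
  have hker : (pullback.fst V.ι q).ker = J := Scheme.IdealSheafData.ker_fst_of_isClosedImmersion q _
  have hFF := S9489.result _ J (Or.inl ⟨inferInstance, Pi1PS.homToFormal hA V hV⟩)
  rw [← hker] at hFF
  exact full_faithful_iso_comp (pullback.fst V.ι q).toImage
    (pullback.fst V.ι q).ker.subschemeι _ (pullback.fst V.ι q).toImage_imageι.symm hFF

end Groth.Agent.S1159
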