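import Groth.Statements.S0251
import Groth.Agent.Pi1Desc.EssSurj
import Groth.Agent.Pi1PS.Formal
import Groth.Agent.S1159

set_option autoImplicit false
set_option linter.style.haveILetI false
set_option backward.isDefEq.respectTransparency.types false
universe u
open Pi1

namespace Groth.Agent.S0251

open CategoryTheory CategoryTheory.Limits AlgebraicGeometry IsLocalRing

variable {X Y Z : Scheme.{u}}

/-- Restriction along a composite. -/
noncomputable def restrictComp {W : Scheme.{u}} (a : X ⟶ Y) (b : Y ⟶ W) (c : X ⟶ W) (h : c = a ≫ b)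
    (E : FEt.Cat W) : (FEt.restrict c).obj E ≅ (FEt.restrict a).obj ((FEt.restrict b).obj E) :=
  (MorphismProperty.Over.pullbackComp (P := FEt.prop) (Q := ⊤) a b c h).app E


open AlgebraicGeometry CategoryTheory CategoryTheory.Limits in
/-- If A is a Noetherian local ring of depth at least 2 and d is at least 1, then purity holds for the
local ring of formal power series in d variables over A. -/
theorem result (A : Type u) [CommRing A] [IsNoetherianRing A] [IsLocalRing A] (hA : (2 : ℕ∞) ≤ LocCoh.depth A A)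
    (d : ℕ) (hd : 1 ≤ d) : FEt.PurityHolds (MvPowerSeries (Fin d) A) := by
  set B := MvPowerSeries (Fin d) A with hB
  let π := Pi1PS.pr A d
  let q := Pi1PS.zs A d
  haveI : Flat π := Pi1PS.flat_pr A d
  haveI : IsClosedImmersion q :=
    IsClosedImmersion.spec_of_surjective _ fun r => ⟨MvPowerSeries.C r, MvPowerSeries.constantCoeff_C r⟩
  have hcc : (MvPowerSeries.constantCoeff : B →+* A).comp MvPowerSeries.C = RingHom.id A :=
    MvPowerSeries.constantCoeff_comp_C
  have hm : ∀ f : B, f ∈ maximalIdeal B ↔ MvPowerSeries.constantCoeff f ∈ maximalIdeal A := by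
    have := Ideal.comap_isMaximal_of_surjective (MvPowerSeries.constantCoeff : B →+* A)
      (fun r => ⟨MvPowerSeries.C r, MvPowerSeries.constantCoeff_C r⟩) (K := maximalIdeal A)
    intro f
    rw [← IsLocalRing.eq_maximalIdeal this]
    rfl
  have hπc : π (closedPoint B) = closedPoint A := by
    refine PrimeSpectrum.ext (Ideal.ext fun a => ?_)
    show MvPowerSeries.C a ∈ maximalIdeal B ↔ a ∈ maximalIdeal A
    rw [hm, MvPowerSeries.constantCoeff_C]
  let U := FEt.puncturedSpec B
  let PR := FEt.puncturedSpec A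
  let U'' : (Spec (CommRingCat.of B)).Opens := π ⁻¹ᵁ PR
  have hle : U'' ≤ U := fun y hy (h : y = closedPoint B) => hy (h ▸ hπc)
  have hV : ∀ y : Spec (CommRingCat.of B),
      (∀ i, MvPowerSeries.X i ∈ (y : PrimeSpectrum B).asIdeal) → (y ∈ U'' ↔ y ≠ closedPoint B) := by
    refine fun y hy => ⟨fun h => hle h, fun hne (hc : π y = closedPoint A) => hne ?_⟩
    refine PrimeSpectrum.ext (le_antisymm (IsLocalRing.le_maximalIdeal y.2.ne_top) fun f hf => ?_)
    have h1 : MvPowerSeries.C (MvPowerSeries.constantCoeff f) ∈ y.asIdeal := by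
      have h0 : MvPowerSeries.constantCoeff f ∈ (closedPoint A).asIdeal := (hm f).1 hf
      rw [← hc] at h0
      exact h0
    have h2 : f - MvPowerSeries.C (MvPowerSeries.constantCoeff f) ∈ y.asIdeal := by
      refine (Ideal.span_le.2 (by rintro _ ⟨i, rfl⟩; exact hy i) :
        Ideal.span (Set.range MvPowerSeries.X) ≤ y.asIdeal) ?_
      rw [← Pi1PS.ker_constantCoeff, RingHom.mem_ker, map_sub, MvPowerSeries.constantCoeff_C, sub_self]
    simpa using add_mem h2 h1
  -- restriction from the punctured spectrum to `U''` is fully faithful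
  let h₀ : (U'' : Scheme.{u}) ⟶ U := (Spec (CommRingCat.of B)).homOfLE hle
  have hj₀ : Pi1Desc.HExt h₀ := Pi1Desc.hExt_of_depth h₀ fun y hy => by
    have hy' : U.ι y ∉ U'' := fun h => hy ⟨⟨U.ι y, h⟩, U.ι.isOpenEmbedding.injective (by
      rw [← Scheme.Hom.comp_apply, Scheme.homOfLE_ι]; rfl)⟩
    have hπy : π (U.ι y) = closedPoint A := by
      by_contra h
      exact hy' h
    rw [HartogsAffine.depth_congr_ringEquiv (asIso (U.ι.stalkMap y)).commRingCatIsoToRingEquiv]
    refine le_trans ?_ (Pi1PS.depth_le_of_flat π (U.ι y))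
    rw [hπy, Pi1PS.depth_closedPoint]
    exact hA
  haveI := Pi1Desc.faithful hj₀
  haveI := Pi1Desc.full hj₀
  refine ⟨fun E => ?_⟩
  let E₁ := (FEt.restrict h₀).obj E
  let c₀ := pullback.fst U''.ι q
  let πU : (U'' : Scheme.{u}) ⟶ PR := π ∣_ PR
  let e := c₀ ≫ πU
  have hqπ : q ≫ π = 𝟙 _ := Pi1PS.zs_pr A d
  have he : e ≫ PR.ι = pullback.snd U''.ι q := by
    rw [Category.assoc, morphismRestrict_ι]
    show pullback.fst U''.ι q ≫ U''.ι ≫ π = _
    rw [← Category.assoc, pullback.condition, Category.assoc, hqπ, Category.comp_id]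
  obtain ⟨σ', hσ'⟩ := Pi1Desc.exists_lift U'' (PR.ι ≫ q) (by
    rw [Scheme.Hom.comp_preimage, ← Scheme.Hom.comp_preimage q π, hqπ]
    simp)
  let σ : (PR : Scheme.{u}) ⟶ pullback U''.ι q := pullback.lift σ' PR.ι hσ'
  haveI : IsIso e := ⟨σ, by
    apply pullback.hom_ext
    · rw [Category.assoc, pullback.lift_fst, Category.id_comp, ← cancel_mono U''.ι, Category.assoc, hσ',
        reassoc_of% he, pullback.condition]
    · rw [Category.assoc, pullback.lift_snd, he, Category.id_comp], by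
    rw [← cancel_mono PR.ι, Category.assoc, he, pullback.lift_snd, Category.id_comp]⟩
  let E₀ := (FEt.restrict (inv e ≫ c₀)).obj E₁
  let i₁ : (FEt.restrict c₀).obj ((FEt.restrict πU).obj E₀) ≅ (FEt.restrict c₀).obj E₁ :=
    (restrictComp c₀ πU e rfl E₀).symm ≪≫ (restrictComp e (inv e ≫ c₀) c₀ (by simp) E₁).symm
  obtain ⟨hFull, hFaith⟩ := Groth.Agent.S1159.result A hA d hd U'' hV
  let ι₁ : (FEt.restrict πU).obj E₀ ≅ E₁ := (FEt.restrict c₀).preimageIso i₁
  -- a flat neighbourhood meeting the closed fibre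
  let i₀ : Fin d := ⟨0, hd⟩
  let O : (Spec (CommRingCat.of B)).Opens := PrimeSpectrum.basicOpen (MvPowerSeries.X i₀ : B)
  have hOA : IsAffineOpen O := by
    have := (isAffineOpen_top (Spec (CommRingCat.of B))).basicOpen
      ((Scheme.ΓSpecIso (CommRingCat.of B)).inv (MvPowerSeries.X i₀))
    rwa [basicOpen_eq_of_affine] at this
  haveI : IsAffine (O : Scheme.{u}) := hOA
  have hOU : O ≤ U := fun y hy (h : y = closedPoint B) => hy (by
    subst h
    exact (hm _).2 (by rw [MvPowerSeries.constantCoeff_X]; exact zero_mem _))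
  let jR := PR.ι
  haveI : QuasiCompact jR := inferInstance
  have hjR : Pi1Desc.HExt jR := Pi1Desc.hExt_of_depth jR fun y hy => by
    rw [Scheme.Opens.range_ι] at hy
    have : y = closedPoint A := by
      by_contra h
      exact hy h
    rw [this, Pi1PS.depth_closedPoint]
    exact hA
  let t : (O : Scheme.{u}) ⟶ Spec (CommRingCat.of A) := O.ι ≫ π
  let jT := (Spec (CommRingCat.of B)).homOfLE (inf_le_left : O ⊓ U'' ≤ O)
  let h₂ := (Spec (CommRingCat.of B)).homOfLE (inf_le_right : O ⊓ U'' ≤ U'')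
  let κ := h₂ ≫ πU
  have sq : IsPullback κ jT jR t := by
    refine IsOpenImmersion.isPullback _ _ _ _ ?_ ?_
    · simp [κ, πU, jR, t, jT, h₂, U'']
    · ext y
      show t y ∈ jR.opensRange ↔ y ∈ jT.opensRange
      rw [Scheme.Opens.opensRange_ι]
      constructor
      · intro hy
        refine ⟨⟨O.ι y, y.2, hy⟩, O.ι.isOpenEmbedding.injective ?_⟩
        rw [← Scheme.Hom.comp_apply, Scheme.homOfLE_ι]
        rfl
      · rintro ⟨z, rfl⟩
        have e := congr($((Spec (CommRingCat.of B)).homOfLE_ι (inf_le_left : O ⊓ U'' ≤ O)) z)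
        rw [Scheme.Hom.comp_apply] at e
        show π (O.ι _) ∈ PR
        rw [e]
        exact z.2.2
  let D := (FEt.restrict ((Spec (CommRingCat.of B)).homOfLE hOU)).obj E
  let eD : (FEt.restrict jT).obj D ≅ (FEt.restrict κ).obj E₀ :=
    (restrictComp jT ((Spec (CommRingCat.of B)).homOfLE hOU)
      ((Spec (CommRingCat.of B)).homOfLE (inf_le_right.trans hle : O ⊓ U'' ≤ U)) (by simp [jT]) E).symm ≪≫
    restrictComp h₂ h₀ _ (by simp [h₂, h₀]) E ≪≫ (FEt.restrict h₂).mapIso ι₁.symm ≪≫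
    (restrictComp h₂ πU κ rfl E₀).symm
  have hE₀ : (FEt.restrict jR).essImage E₀ := by
    refine Pi1Desc.mem_essImage E₀ fun W hW => ?_
    have ht' : Surjective t := ⟨fun z => by
      haveI := z.2
      haveI : IsDomain (MvPowerSeries (Fin d) (A ⧸ z.asIdeal)) := NoZeroDivisors.to_isDomain _
      let Q : Ideal B := RingHom.ker (MvPowerSeries.map (Ideal.Quotient.mk z.asIdeal) (σ := Fin d))
      haveI : Q.IsPrime := RingHom.ker_isPrime _
      have hQ : (⟨Q, inferInstance⟩ : PrimeSpectrum B) ∈ O := by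
        show MvPowerSeries.X i₀ ∉ Q
        rw [RingHom.mem_ker, MvPowerSeries.map_X]
        intro h0
        have := congrArg (MvPowerSeries.coeff (Finsupp.single i₀ 1)) h0
        simp [MvPowerSeries.coeff_X] at this
      refine ⟨⟨_, hQ⟩, ?_⟩
      show π ⟨Q, inferInstance⟩ = z
      refine PrimeSpectrum.ext (Ideal.ext fun a => ?_)
      show MvPowerSeries.C a ∈ Q ↔ a ∈ z.asIdeal
      rw [RingHom.mem_ker, MvPowerSeries.map_C, map_eq_zero_iff _ MvPowerSeries.C_injective,
        Ideal.Quotient.eq_zero_iff_mem]⟩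
    -- reduce to the opens of the cover
    haveI := FpqcDesc.descendsAlong_isFinite.{u}
    haveI : IsAffine (t ⁻¹ᵁ W : (O : Scheme.{u}).Opens) := hW.preimage t
    let j' := (t ⁻¹ᵁ W).ι
    let t' := j' ≫ t
    have ht'W : t' ⁻¹ᵁ W = ⊤ := by
      ext y
      simp only [TopologicalSpace.Opens.coe_top, Set.mem_univ, iff_true]
      exact y.2
    have sq' := ((IsPullback.of_hasPullback jT j').flip.paste_vert sq.flip).flip
    let D' := (FEt.restrict j').obj D
    let eD' : (FEt.restrict (pullback.snd jT j')).obj D' ≅ (FEt.restrict (pullback.fst jT j' ≫ κ)).obj E₀ :=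
      (restrictComp (pullback.snd jT j') j' _ rfl D).symm ≪≫
      restrictComp (pullback.fst jT j') jT _ pullback.condition.symm D ≪≫
      (FEt.restrict (pullback.fst jT j')).mapIso eD ≪≫
      (restrictComp (pullback.fst jT j') κ _ rfl E₀).symm
    obtain ⟨R, l, r, hpo, hr⟩ := Pi1Desc.piece_of_iso hjR E₀ W hW t' (pullback.snd jT j')
      (pullback.fst jT j' ≫ κ) sq' ht'W D' eD'
    haveI : Flat (Spec.map (t'.appLE W ⊤ ht'W.ge)) :=
      Flat.SpecMap_iff.mpr (t'.flat_appLE hW (isAffineOpen_top _) ht'W.ge)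
    have hsurj : ∀ z, ∃ _ : PUnit.{u+1}, z ∈ Set.range (Spec.map (t'.appLE W ⊤ ht'W.ge)).base := by
      intro z
      obtain ⟨o, ho⟩ := ht'.surj (hW.fromSpec z)
      have hoW : o ∈ t ⁻¹ᵁ W := by
        show t o ∈ (W : Set (Spec (CommRingCat.of A)))
        rw [ho, ← hW.range_fromSpec]
        exact ⟨z, rfl⟩
      obtain ⟨y, hy⟩ : (⟨o, hoW⟩ : t ⁻¹ᵁ W) ∈
          Set.range (isAffineOpen_top ((t ⁻¹ᵁ W : (O : Scheme.{u}).Opens) : Scheme.{u})).fromSpec := by
        rw [IsAffineOpen.range_fromSpec]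
        trivial
      refine ⟨PUnit.unit, y, hW.fromSpec.isOpenEmbedding.injective ?_⟩
      rw [← Scheme.Hom.comp_apply, IsAffineOpen.SpecMap_appLE_fromSpec _ hW (isAffineOpen_top _),
        Scheme.Hom.comp_apply, hy, ← ho]
      rfl
    exact ⟨Pi1Desc.of_family (P := @IsFinite) (fun _ : PUnit.{u+1} => Γ(_, ⊤)) (fun _ => R) _ _
        (fun _ => r) (fun _ => l) (fun _ => hpo) hsurj fun _ => hr.1,
      Pi1Desc.of_family (P := @Etale) (fun _ : PUnit.{u+1} => Γ(_, ⊤)) (fun _ => R) _ _
        (fun _ => r) (fun _ => l) (fun _ => hpo) hsurj fun _ => hr.2⟩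
  obtain ⟨Y₀, ⟨eY⟩⟩ := hE₀
  refine ⟨(FEt.restrict π).obj Y₀, ⟨(FEt.restrict h₀).preimageIso ?_⟩⟩
  exact (restrictComp h₀ U.ι U''.ι (by simp [h₀]) _).symm ≪≫
    (restrictComp U''.ι π (U''.ι ≫ π) rfl Y₀).symm ≪≫
    restrictComp πU jR _ (morphismRestrict_ι π PR).symm Y₀ ≪≫ (FEt.restrict πU).mapIso eY ≪≫ ι₁

end Groth.Agent.S0251
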