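import Groth.Statements.S0252
import Groth.Agent.FEtCat.Basic
import Groth.Agent.ProEtW.Spectral

set_option autoImplicit false
universe u
open Pi1

set_option backward.isDefEq.respectTransparency.types false

namespace Groth.Agent.S0252

open AlgebraicGeometry CategoryTheory CategoryTheory.Limits

theorem clopen_of_isEquivalence {X Y : Scheme.{u}} (f : X ⟶ Y) (h : (FEt.restrict f).IsEquivalence) :
    (∀ W : Set Y, IsClopen W → f ⁻¹' W = ∅ → W = ∅) ∧
      ∀ W' : Set X, IsClopen W' → ∃ W : Set Y, IsClopen W ∧ f ⁻¹' W = W' := by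
  refine ⟨fun W hW he => ?_, fun W' hW' => ?_⟩
  · let U : Y.Opens := ⟨W, hW.2⟩
    have : IsClosedImmersion U.ι := by
      refine IsClosedImmersion.of_isPreimmersion _ ?_
      rw [Scheme.Opens.range_ι]
      exact hW.1
    let φ : FEtCat.Basic.empty Y ⟶ FEtCat.Basic.mk U.ι := FEtCat.Basic.isInitialEmpty.to _
    have h1 : IsEmpty ↥((FEt.restrict f).obj (FEtCat.Basic.mk U.ι)).left := ⟨fun z => by
      have hz : f (((FEt.restrict f).obj (FEtCat.Basic.mk U.ι)).hom z) ∈ W := by
        change (pullback.snd U.ι f ≫ f) z ∈ W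
        rw [← pullback.condition]
        exact (pullback.fst U.ι f z).2
      exact Set.notMem_empty (((FEt.restrict f).obj (FEtCat.Basic.mk U.ι)).hom z) (he ▸ Set.mem_preimage.mpr hz)⟩
    have : IsIso ((FEt.restrict f).map φ).left := inferInstance
    have : IsIso ((FEt.restrict f).map φ) := FEtCat.Basic.isIso_of_left _
    have : IsIso φ := isIso_of_reflects_iso φ (FEt.restrict f)
    have := FEtCat.Basic.isIso_left φ
    refine Set.eq_empty_of_forall_notMem fun y hy => ?_
    exact (inferInstance : IsEmpty (∅ : Scheme.{u})).elim (inv φ.left (⟨y, hy⟩ : U))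
  · let U : X.Opens := ⟨W', hW'.2⟩
    have : IsClosedImmersion U.ι := by
      refine IsClosedImmersion.of_isPreimmersion _ ?_
      rw [Scheme.Opens.range_ι]
      exact hW'.1
    obtain ⟨Z, ⟨e⟩⟩ := h.essSurj.mem_essImage (FEtCat.Basic.mk U.ι)
    refine ⟨Set.range Z.hom, ⟨Z.hom.isClosedMap.isClosed_range, Z.hom.isOpenMap.isOpen_range⟩, ?_⟩
    have he : e.hom.left ≫ U.ι = pullback.snd Z.hom f := MorphismProperty.Over.w e.hom
    have := FEtCat.Basic.isIso_left e.hom
    refine (Scheme.Pullback.range_snd (f := Z.hom) (g := f)).symm.trans ?_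
    rw [← he]
    ext x
    constructor
    · rintro ⟨z, rfl⟩
      exact (e.hom.left z).2
    · intro hx
      refine ⟨inv e.hom.left (⟨x, hx⟩ : U), ?_⟩
      change (inv e.hom.left ≫ e.hom.left ≫ U.ι) (⟨x, hx⟩ : U) = x
      rw [IsIso.inv_hom_id_assoc]
      rfl

open AlgebraicGeometry CategoryTheory CategoryTheory.Limits in
/-- Let f be a morphism between quasi-compact quasi-separated schemes such that base change of finite
etale covers along f is an equivalence. Then the induced map on connected components is a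
homeomorphism. -/
theorem result {X Y : Scheme.{u}} [CompactSpace X] [QuasiSeparatedSpace X] [CompactSpace Y] [QuasiSeparatedSpace Y]
    (f : X ⟶ Y) (h : (FEt.restrict f).IsEquivalence) :
    IsHomeomorph f.continuous.connectedComponentsMap := by
  obtain ⟨hinj, hsurj⟩ := clopen_of_isEquivalence f h
  have : T2Space (ConnectedComponents Y) := ProEtW.Spectral.t2Space_connectedComponents
  have hc : Continuous f.continuous.connectedComponentsMap := f.continuous.connectedComponentsMap_continuous
  refine isHomeomorph_iff_continuous_bijective.mpr ⟨hc, fun a b hab => ?_, fun c => ?_⟩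
  · obtain ⟨x, rfl⟩ := ConnectedComponents.surjective_coe a
    obtain ⟨x', rfl⟩ := ConnectedComponents.surjective_coe b
    by_contra hne
    obtain ⟨W', hW', hx, hx'⟩ := ProEtW.Spectral.connectedComponents_mk_ne_iff.mp hne
    obtain ⟨W, hW, rfl⟩ := hsurj W' hW'
    exact ProEtW.Spectral.connectedComponents_mk_ne_iff.mpr ⟨W, hW, hx, hx'⟩ hab
  · obtain ⟨y, rfl⟩ := ConnectedComponents.surjective_coe c
    let ι := {W : Set Y // IsClopen W ∧ y ∈ W}
    have : Nonempty ι := ⟨⟨Set.univ, isClopen_univ, trivial⟩⟩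
    obtain ⟨x, hx⟩ := IsCompact.nonempty_iInter_of_directed_nonempty_isCompact_isClosed
      (fun W : ι => f ⁻¹' W.1)
      (fun W W' => ⟨⟨W.1 ∩ W'.1, W.2.1.inter W'.2.1, W.2.2, W'.2.2⟩, Set.preimage_mono Set.inter_subset_left,
        Set.preimage_mono Set.inter_subset_right⟩)
      (fun W => Set.nonempty_iff_ne_empty.mpr fun he => Set.notMem_empty y ((hinj W.1 W.2.1 he) ▸ W.2.2))
      (fun W => (W.2.1.1.preimage f.continuous).isCompact) (fun W => W.2.1.1.preimage f.continuous)
    refine ⟨ConnectedComponents.mk x, ?_⟩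
    by_contra hne
    obtain ⟨W, hW, hyW, hxW⟩ := ProEtW.Spectral.connectedComponents_mk_ne_iff.mp (Ne.symm hne)
    exact hxW (Set.mem_iInter.mp hx ⟨W, hW, hyW⟩)

end Groth.Agent.S0252
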