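import Groth.Statements.S0254
import Groth.Agent.SepClosedNormal.Basic

set_option autoImplicit false
universe u
open Pi1

namespace Groth.Agent.S0254

open AlgebraicGeometry CategoryTheory CategoryTheory.Limits in
/-- An integrally closed local domain whose fraction field is separably closed is henselian with
separably closed residue field (i.e. strictly henselian). -/
theorem result (A : Type u) [CommRing A] [IsDomain A] [IsLocalRing A] [IsIntegrallyClosed A]
    [IsSepClosed (FractionRing A)] :
    HenselianLocalRing A ∧ IsSepClosed (IsLocalRing.ResidueField A) := by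
  refine ⟨{ is_henselian := fun f hf a₀ h0 h1 =>
    Groth.Agent.SepClosedNormal.Basic.exists_isRoot_sub_mem (FractionRing A) _ f le_rfl hf a₀ h0 h1 }, ?_⟩
  by_cases hm : IsLocalRing.maximalIdeal A = ⊥
  · have hA : IsField A := IsLocalRing.isField_iff_maximalIdeal_eq.mpr hm
    have e₁ : A ≃+* FractionRing A := RingEquiv.ofBijective (algebraMap A (FractionRing A))
      ⟨IsFractionRing.injective A _, IsFractionRing.surjective_iff_isField.mpr hA⟩
    have e₂ : A ≃+* IsLocalRing.ResidueField A := RingEquiv.ofBijective (IsLocalRing.residue A)
      ⟨(injective_iff_map_eq_zero _).mpr fun x hx => by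
        rw [IsLocalRing.residue_eq_zero_iff, hm] at hx
        exact hx, IsLocalRing.residue_surjective⟩
    let e := e₁.symm.trans e₂
    refine IsSepClosed.of_exists_root _ fun p _ hi hs => ?_
    obtain ⟨x, hx⟩ := IsSepClosed.exists_root (p.map e.symm.toRingHom)
      (by rw [Polynomial.degree_map]; exact (Polynomial.degree_pos_of_irreducible hi).ne')
      (hs.map)
    refine ⟨e x, e.symm.injective ?_⟩
    rw [map_zero, ← hx]
    change e.symm.toRingHom (p.eval (e x)) = _
    rw [← Polynomial.eval_map_apply]
    simp
  · have : IsAlgClosed (IsLocalRing.maximalIdeal A).ResidueField :=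
      Groth.Agent.SepClosedNormal.Basic.isAlgClosed_residueField (FractionRing A) _ hm
    have : IsAlgClosed (IsLocalRing.ResidueField A) :=
      IsAlgClosed.of_ringEquiv _ _ (RingEquiv.ofBijective _
        (IsLocalRing.maximalIdeal A).bijective_algebraMap_quotient_residueField).symm
    infer_instance

end Groth.Agent.S0254
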