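import Groth.Statements.S0255
import Groth.Agent.PurityReg.AtPoint
import Groth.Agent.PurityReg.AtPointScheme
-- import your own Groth.Agent.* helpers here

set_option autoImplicit false
universe u
open Pi1

namespace Groth.Agent.S0255

set_option backward.isDefEq.respectTransparency.types false

open AlgebraicGeometry CategoryTheory CategoryTheory.Limits in
/-- Let f be a morphism locally of finite type between locally Noetherian schemes and x a point with
image y, such that the local ring at x is a normal domain, the local ring at y is regular of the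
same dimension, this dimension is at least 1, f is quasi-finite at x, and f is unramified at every
point of dimension one specializing to x. Then f is etale on an open neighbourhood of x. -/
theorem result {X Y : Scheme.{u}} (f : X ⟶ Y) [LocallyOfFiniteType f] [IsLocallyNoetherian X]
    [IsLocallyNoetherian Y] (x : X)
    (hx : IsDomain (X.presheaf.stalk x) ∧ IsIntegrallyClosed (X.presheaf.stalk x))
    (hy : IsRegularLocalRing (Y.presheaf.stalk (f.base x)))
    (hq : f.QuasiFiniteAt x)
    (hdim : ringKrullDim (X.presheaf.stalk x) = ringKrullDim (Y.presheaf.stalk (f.base x)))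
    (hdim1 : (1 : WithBot ℕ∞) ≤ ringKrullDim (X.presheaf.stalk x))
    (hunr : ∀ x' : X, x' ⤳ x → ringKrullDim (X.presheaf.stalk x') = 1 →
      (f.stalkMap x').hom.FormallyUnramified) :
    ∃ U : X.Opens, x ∈ U ∧ Etale (U.ι ≫ f) := by
  haveI : LocallyOfFinitePresentation f := inferInstance
  obtain ⟨U, hU, V, hV, hVU, hxV⟩ := Groth.Agent.EtStruct.exists_chart f x
  letI := (f.appLE U V hVU).hom.toAlgebra
  haveI : Algebra.FiniteType Γ(Y, U) Γ(X, V) := f.finiteType_appLE hU hV hVU
  haveI : IsNoetherianRing Γ(Y, U) := IsLocallyNoetherian.component_noetherian ⟨U, hU⟩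
  haveI : Algebra.QuasiFiniteAt Γ(Y, U) (hV.primeIdealOf ⟨x, hxV⟩).asIdeal :=
    hq.quasiFiniteAt hV hU hVU hxV
  let q := (hV.primeIdealOf ⟨x, hxV⟩).asIdeal
  have hB := PurityReg.normal_atPrime hV x hxV hx
  have hA := PurityReg.regular_atPrime_under f hU hV hVU x hxV hy
  have hinj := (PurityReg.injective_iff_ringKrullDim_eq Γ(Y, U) Γ(X, V) q hA hB).mpr (by
    rw [← PurityReg.ringKrullDim_stalk_base f hU hV hVU x hxV,
      IsLocalization.AtPrime.ringKrullDim_eq_height q,
      ← PurityReg.ringKrullDim_stalk_eq_height hV x hxV]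
    exact hdim)
  haveI := hB.1
  rw [PurityReg.etale_nhd_iff_isEtaleAt f hU hV hVU x hxV]
  refine PurityReg.isEtaleAt_of_codim_one q hA hB hinj ?_ fun q₁ _ hle hht => ?_
  · rw [PurityReg.ringKrullDim_stalk_eq_height hV x hxV] at hdim1
    exact WithBot.coe_le_coe.mp hdim1
  · obtain ⟨x', hx', hsp, hq'⟩ := PurityReg.exists_point_of_le hV x hxV q₁ hle
    have hd : ringKrullDim (X.presheaf.stalk x') = 1 := by
      rw [PurityReg.ringKrullDim_stalk_eq_height hV x' hx', hq', hht]
      rfl
    have hu := (Groth.Agent.EtStruct.formallyUnramified_stalkMap_iff f hU hV hVU hx').mp (hunr x' hsp hd)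
    haveI : Algebra.IsUnramifiedAt Γ(Y, U) q₁ := by
      subst hq'
      exact hu
    haveI : Algebra.QuasiFiniteAt Γ(Y, U) q₁ := .of_le hle
    exact PurityReg.isEtaleAt_of_isUnramifiedAt_of_height_one q₁
      (PurityReg.loc_regular (Ideal.comap_mono hle) hA) (PurityReg.loc_normal hle hB)
      (PurityReg.loc_injective hle hinj) hht

end Groth.Agent.S0255
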