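import Groth.Statements.S0257
import Groth.Agent.PurityReg.Flat
import Groth.Agent.PurityReg.AtPointScheme
-- import your own Groth.Agent.* helpers here

set_option autoImplicit false
universe u
open Pi1

namespace Groth.Agent.S0257

set_option backward.isDefEq.respectTransparency.types false

open AlgebraicGeometry CategoryTheory CategoryTheory.Limits in
/-- Let f be flat and locally of finite type between locally Noetherian schemes, x a point of X which is
not a generic point of an irreducible component (its local ring has dimension at least 1), with f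
quasi-finite at x and unramified at all points of dimension one specializing to x. Then f is etale
on an open neighbourhood of x. -/
theorem result {X Y : Scheme.{u}} (f : X ⟶ Y) [LocallyOfFiniteType f] [Flat f] [IsLocallyNoetherian X]
    [IsLocallyNoetherian Y] (x : X) (hq : f.QuasiFiniteAt x)
    (hdim1 : (1 : WithBot ℕ∞) ≤ ringKrullDim (X.presheaf.stalk x))
    (hunr : ∀ x' : X, x' ⤳ x → ringKrullDim (X.presheaf.stalk x') = 1 →
      (f.stalkMap x').hom.FormallyUnramified) :
    ∃ U : X.Opens, x ∈ U ∧ Etale (U.ι ≫ f) := by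
  obtain ⟨U, hU, V, hV, hVU, hxV⟩ := Groth.Agent.EtStruct.exists_chart f x
  let := (f.appLE U V hVU).hom.toAlgebra
  have : Algebra.FiniteType Γ(Y, U) Γ(X, V) := f.finiteType_appLE hU hV hVU
  have : IsNoetherianRing Γ(Y, U) := IsLocallyNoetherian.component_noetherian ⟨U, hU⟩
  have : Algebra.QuasiFiniteAt Γ(Y, U) (hV.primeIdealOf ⟨x, hxV⟩).asIdeal :=
    hq.quasiFiniteAt hV hU hVU hxV
  let q := (hV.primeIdealOf ⟨x, hxV⟩).asIdeal
  have : Module.Flat Γ(Y, U) (Localization.AtPrime q) :=
    (Groth.Agent.EtStruct.flat_stalkMap_iff f hU hV hVU hxV).mp (Flat.stalkMap f x)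
  rw [PurityReg.etale_nhd_iff_isEtaleAt f hU hV hVU x hxV]
  refine PurityReg.isEtaleAt_of_flat_codim_one Γ(Y, U) Γ(X, V) q ?_ fun q₁ _ hle hht => ?_
  · rw [PurityReg.ringKrullDim_stalk_eq_height hV x hxV] at hdim1
    exact WithBot.coe_le_coe.mp hdim1
  · obtain ⟨x', hx', hsp, hq'⟩ := PurityReg.exists_point_of_le hV x hxV q₁ hle
    have hd : ringKrullDim (X.presheaf.stalk x') = 1 := by
      rw [PurityReg.ringKrullDim_stalk_eq_height hV x' hx', hq', hht]
      rfl
    have h := (PurityReg.etale_nhd_iff_isEtaleAt f hU hV hVU x' hx').mp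
      ((Groth.Agent.EtStruct.etale_nhd_iff f x').mpr ⟨hunr x' hsp hd, Flat.stalkMap f x'⟩)
    subst hq'
    exact h

end Groth.Agent.S0257
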