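import Groth.Statements.S0258
import Groth.Agent.FEtCat.DepthTwo

set_option autoImplicit false
universe u
open Pi1

noncomputable section

namespace Groth.Agent.S0258

open AlgebraicGeometry CategoryTheory CategoryTheory.Limits in
/-- For a Noetherian local ring A of depth at least 2, the functor restricting finite étale covers of
Spec A to the punctured spectrum is fully faithful (full and faithful). The published statement
assumes instead that the punctured spectrum of the strict henselization of A is connected; depth at
least 2 is a sufficient condition for this, and the result is stated here under that hypothesis. -/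
theorem result (A : Type u) [CommRing A] [IsNoetherianRing A] [IsLocalRing A] (hA : (2 : ℕ∞) ≤ LocCoh.depth A A) :
    (FEt.restrict (FEt.puncturedSpec A).ι).Full ∧ (FEt.restrict (FEt.puncturedSpec A).ι).Faithful := by
  refine FEtCat.DepthTwo.full_faithful (X := Spec (CommRingCat.of A)) (FEt.puncturedSpec A) fun x hx => ?_
  obtain rfl : x = IsLocalRing.closedPoint A := by_contra fun h => hx h
  let S := (Spec (CommRingCat.of A)).presheaf.stalk (IsLocalRing.closedPoint A)
  let _ : Algebra A S := inferInstanceAs (Algebra A ((Spec.structureSheaf A).presheaf.stalk _))
  have : IsLocalization.AtPrime S (IsLocalRing.maximalIdeal A) :=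
    inferInstanceAs (IsLocalization.AtPrime ((Spec.structureSheaf A).presheaf.stalk _) (IsLocalRing.closedPoint A).asIdeal)
  have : Module.Flat A S := IsLocalization.flat S (IsLocalRing.maximalIdeal A).primeCompl
  have : IsLocalHom (algebraMap A S) := ⟨fun a ha =>
    by_contra fun h => ((IsLocalization.AtPrime.isUnit_to_map_iff S (IsLocalRing.maximalIdeal A) a).mp ha) h⟩
  rw [Hensel.UnramifiedFlat.depth_eq A S (IsLocalization.AtPrime.map_eq_maximalIdeal (IsLocalRing.maximalIdeal A) S)]
  exact hA

end Groth.Agent.S0258
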