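import Groth.Statements.S0261
import Groth.Agent.Hens.PunctExtend

set_option linter.style.haveILetI false
set_option backward.isDefEq.respectTransparency.types false

set_option autoImplicit false
universe u
open Pi1

namespace Groth.Agent.S0261

open AlgebraicGeometry CategoryTheory CategoryTheory.Limits in
/-- Let A be a Noetherian local ring of depth at least 3, f an element of the maximal ideal and V a
finite etale cover of the punctured spectrum U of A. If the restriction of V to the punctured
spectrum of A/fA is the restriction of a finite etale cover of Spec(A/fA), then V is the restriction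
of a finite etale cover of Spec A. -/
theorem result (A : Type u) [CommRing A] [IsNoetherianRing A] [IsLocalRing A] (hA : (3 : ℕ∞) ≤ LocCoh.depth A A)
    (f : A) (hf : f ∈ IsLocalRing.maximalIdeal A) (V : FEt.Cat (FEt.puncturedSpec A : Scheme.{u}))
    (hV : ∃ Y₀ : FEt.Cat (Spec (CommRingCat.of (A ⧸ Ideal.span {f}))),
      Nonempty ((FEt.restrict (pullback.snd (FEt.puncturedSpec A).ι
        (Spec.map (CommRingCat.ofHom (Ideal.Quotient.mk (Ideal.span {f})))))).obj Y₀ ≅
        (FEt.restrict (pullback.fst (FEt.puncturedSpec A).ι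
        (Spec.map (CommRingCat.ofHom (Ideal.Quotient.mk (Ideal.span {f})))))).obj V)) :
    ∃ Y : FEt.Cat (Spec (CommRingCat.of A)),
      Nonempty ((FEt.restrict (FEt.puncturedSpec A).ι).obj Y ≅ V) := by
  have hvan : ∀ i < 3, ∃ n : ℕ, ∀ x : LocCoh.H (IsLocalRing.maximalIdeal A) i A, (f ^ n) • x = 0 := fun i hi => by
    obtain ⟨d, hd⟩ := ENat.ne_top_iff_exists.mp (Groth.Agent.Depth.idealDepth_lt_top
      (I := IsLocalRing.maximalIdeal A) (M := A) (by
        rw [smul_eq_mul, Ideal.mul_top]; exact (IsLocalRing.maximalIdeal.isMaximal A).ne_top)).ne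
    have h3 : 3 ≤ d := by
      have : ((3 : ℕ) : ℕ∞) ≤ (d : ℕ∞) := hd ▸ hA
      exact_mod_cast this
    have := (Groth.Agent.LocCoh.H_of_idealDepth_eq _ d A hd.symm).1 i (by omega)
    exact ⟨0, fun x => Subsingleton.elim _ _⟩
  exact Groth.Agent.Hens.PunctExtend.exists_extension hf (hvan 1 (by norm_num)) (hvan 2 (by norm_num)) V hV

end Groth.Agent.S0261
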