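import Groth.Statements.S0265
import Groth.Agent.FEtProperConn.Trivial
import Groth.Agent.CBC.OConn
import Groth.Agent.S3701
import Groth.Agent.S7179
import Groth.Agent.FEtCat.Basic
-- import your own Groth.Agent.* helpers here

set_option autoImplicit false
set_option maxHeartbeats 1000000
set_option backward.isDefEq.respectTransparency.types false
set_option backward.isDefEq.respectTransparency false
universe u
open Pi1

namespace Groth.Agent.S0265

open AlgebraicGeometry CategoryTheory CategoryTheory.Limits

theorem geometricallyConnected_of_algClosed {X S : Scheme.{u}} (f : X ⟶ S)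
    (h : ∀ (Ω : Type u) [Field Ω] [IsAlgClosed Ω] (σ : Spec (CommRingCat.of Ω) ⟶ S),
      ConnectedSpace ↥(pullback f σ)) : GeometricallyConnected f := by
  refine ⟨fun K _ σ Y fst snd hY => ?_⟩
  let ι : Spec (CommRingCat.of (AlgebraicClosure K)) ⟶ Spec (CommRingCat.of K) :=
    Spec.map (CommRingCat.ofHom (algebraMap K (AlgebraicClosure K)))
  haveI : Surjective ι := ⟨fun x => ⟨default, Subsingleton.elim _ _⟩⟩
  haveI := h (AlgebraicClosure K) (ι ≫ σ)
  haveI : Surjective (pullback.fst snd ι) := MorphismProperty.pullback_fst _ _ ‹Surjective ι›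
  have hc := (IsPullback.of_hasPullback snd ι).paste_horiz hY
  haveI : ConnectedSpace ↥(pullback snd ι) :=
    hc.isoPullback.inv.surjective.connectedSpace hc.isoPullback.inv.continuous
  exact (pullback.fst snd ι).surjective.connectedSpace (pullback.fst snd ι).continuous

/-- A closed surjection with connected fibres onto a connected space has connected source. -/
theorem connectedSpace_of_closed {A B : Scheme.{u}} (q : A ⟶ B) [Surjective q] [UniversallyClosed q]
    [ConnectedSpace ↥B] (hq : ∀ b : B, _root_.IsConnected (q ⁻¹' {b})) : ConnectedSpace ↥A := by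
  obtain ⟨b⟩ := (inferInstance : Nonempty ↥B)
  obtain ⟨a, -⟩ := q.surjective b
  refine connectedSpace_iff_clopen.2 ⟨⟨a⟩, fun T hT => ?_⟩
  have hsat : ∀ x y, q x = q y → x ∈ T → y ∈ T := fun x y e hx =>
    (hq (q y)).isPreconnected.subset_isClopen hT ⟨x, e, hx⟩ rfl
  have hTc : q '' T = (q '' Tᶜ)ᶜ := by
    ext z
    constructor
    · rintro ⟨x, hx, rfl⟩ ⟨y, hy, e⟩
      exact hy (hsat x y e.symm hx)
    · intro hz
      obtain ⟨x, rfl⟩ := q.surjective z
      by_cases hx : x ∈ T
      · exact ⟨x, hx, rfl⟩
      · exact (hz ⟨x, hx, rfl⟩).elim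
  have hcl : IsClopen (q '' T) := ⟨q.isClosedMap _ hT.1,
    hTc ▸ (q.isClosedMap _ hT.2.isClosed_compl).isOpen_compl⟩
  rcases isClopen_iff.1 hcl with h | h
  · exact Or.inl (Set.image_eq_empty.1 h)
  · refine Or.inr (Set.eq_univ_of_forall fun x => ?_)
    obtain ⟨y, hy, e⟩ : q x ∈ q '' T := h ▸ Set.mem_univ _
    exact hsat y x e hy

open AlgebraicGeometry CategoryTheory CategoryTheory.Limits in
/-- (Exactness of the homotopy sequence of etale fundamental groups at the middle term, in functor
form.) Let f : X -> S be flat, proper and of finite presentation with connected reduced geometric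
fibres, S connected. If Y is a connected finite etale cover of X which admits a section over some
geometric fibre of f, then Y is isomorphic to the pullback along f of a finite etale cover of S. -/
theorem result {X S : Scheme.{u}} (f : X ⟶ S) [IsProper f] [Flat f] [LocallyOfFinitePresentation f]
    [ConnectedSpace S]
    (hfib : ∀ (Ω : Type u) [Field Ω] [IsAlgClosed Ω] (s : Spec (CommRingCat.of Ω) ⟶ S),
      ConnectedSpace ↥(pullback f s) ∧ IsReduced (pullback f s))
    (Y : FEt.Cat X) [ConnectedSpace Y.left] (Ω : Type u) [Field Ω] [IsAlgClosed Ω]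
    (s : Spec (CommRingCat.of Ω) ⟶ S) (σ : pullback f s ⟶ Y.left)
    (hσ : σ ≫ Y.hom = pullback.fst f s) :
    (FEt.restrict f).essImage Y := by
  haveI : GeometricallyConnected f :=
    geometricallyConnected_of_algClosed f fun Ω _ _ σ => (hfib Ω σ).1
  haveI : GeometricallyReduced f :=
    Groth.Agent.S3701.geometricallyReduced_of_algClosed f fun Ω _ _ σ => (hfib Ω σ).2
  haveI : Surjective f := ⟨fun z => by
    obtain ⟨K, _, _, x, hx⟩ := Groth.Agent.FEtProperConn.exists_geomPt z
    haveI := (hfib K x).1
    obtain ⟨p⟩ := (inferInstance : Nonempty ↥(pullback f x))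
    refine ⟨pullback.fst f x p, ?_⟩
    rw [← Scheme.Hom.comp_apply, pullback.condition, Scheme.Hom.comp_apply]
    exact (congrArg x (Subsingleton.elim _ _)).trans hx⟩
  have hO : ∀ U : S.Opens, Function.Bijective (f.app U).hom := fun U =>
    Groth.Agent.CBC.OConn.bijective_app f (fun z => Groth.Agent.CBC.OConn.bijective_fiber f z) U
  let g := Y.hom
  haveI : IsFinite g := Y.prop.1
  haveI : Etale g := Y.prop.2
  let q := g ≫ f
  have hredY : ∀ (K : Type u) [Field K] [IsAlgClosed K] (x : Spec (CommRingCat.of K) ⟶ S),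
      IsReduced (pullback q x) := by
    intro K _ _ x
    haveI := (hfib K x).2
    let m : pullback q x ⟶ pullback f x :=
      pullback.map q x f x g (𝟙 _) (𝟙 S) (Category.comp_id _) ((Category.comp_id _).trans (Category.id_comp _).symm)
    have hm : IsPullback (pullback.fst q x) m g (pullback.fst f x) := by
      refine IsPullback.of_bot ?_ (pullback.lift_fst _ _ _).symm (IsPullback.of_hasPullback f x)
      rw [show m ≫ pullback.snd f x = pullback.snd q x from (pullback.lift_snd _ _ _).trans (Category.comp_id _)]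
      exact IsPullback.of_hasPullback q x
    haveI : Etale m := MorphismProperty.of_isPullback hm ‹Etale g›
    haveI : WeaklyEtale m := inferInstance
    exact Groth.Agent.S7179.result m
  obtain ⟨hNf, hNe⟩ := Groth.Agent.S3701.result q hredY
  let N := q.normalization
  let nN : N ⟶ S := q.fromNormalization
  let τ : Y.left ⟶ N := q.toNormalization
  haveI : IsFinite nN := hNf
  haveI : Etale nN := hNe
  haveI : IsProper (τ ≫ q.fromNormalization) := by
    rw [Scheme.Hom.toNormalization_fromNormalization]; infer_instance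
  haveI : IsProper τ := IsProper.of_comp τ q.fromNormalization
  have hτs : Function.Surjective τ := by
    rw [← Set.range_eq_univ, ← (τ.isClosedMap.isClosed_range).closure_eq]
    exact τ.denseRange.closure_range
  haveI : ConnectedSpace ↥N := hτs.connectedSpace τ.continuous
  let c : Y.left ⟶ pullback f nN := pullback.lift g τ (by
    show g ≫ f = τ ≫ q.fromNormalization
    rw [Scheme.Hom.toNormalization_fromNormalization])
  have hc1 : c ≫ pullback.fst f nN = g := pullback.lift_fst _ _ _
  have hc2 : c ≫ pullback.snd f nN = τ := pullback.lift_snd _ _ _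
  haveI : Etale (pullback.fst f nN) := MorphismProperty.pullback_fst _ _ ‹Etale nN›
  haveI : IsFinite (pullback.fst f nN) := MorphismProperty.pullback_fst _ _ ‹IsFinite nN›
  haveI : Etale (c ≫ pullback.fst f nN) := hc1 ▸ ‹Etale g›
  haveI : Etale c := MorphismProperty.of_postcomp (W := @Etale) (W' := @Etale) c (pullback.fst f nN)
    ‹Etale (pullback.fst f nN)› ‹_›
  haveI : IsFinite (c ≫ pullback.fst f nN) := hc1 ▸ ‹IsFinite g›
  haveI : IsFinite c := IsFinite.of_comp c (pullback.fst f nN)
  -- the section
  have hE : ∀ y : Y.left, y ∈ Pi1X.etaleLocus g := fun y =>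
    Groth.Agent.FEtProperConn.mem_etaleLocus g (V := ⊤) (inferInstanceAs (Etale ((⊤ : Y.left.Opens).ι ≫ g))) trivial
  have hr : Set.range σ ⊆ Set.range (Pi1X.etaleLocus g).ι := by
    rw [Scheme.Opens.range_ι]
    rintro _ ⟨p, rfl⟩
    exact hE _
  let σ' := IsOpenImmersion.lift (Pi1X.etaleLocus g).ι σ hr
  have hσ' : σ' ≫ (Pi1X.etaleLocus g).ι ≫ g = pullback.fst f s := by
    rw [← Category.assoc, IsOpenImmersion.lift_fac]
    exact hσ
  haveI := (hfib Ω s).1
  haveI : LocallyOfFiniteType (pullback.snd f s) := MorphismProperty.pullback_snd _ _ inferInstance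
  haveI : JacobsonSpace ↥(pullback f s) := LocallyOfFiniteType.jacobsonSpace (pullback.snd f s)
  obtain ⟨p₀⟩ := (inferInstance : Nonempty ↥(pullback f s))
  obtain ⟨y, -, hyc⟩ := nonempty_inter_closedPoints (X := ↥(pullback f s)) (Z := Set.univ)
    ⟨p₀, trivial⟩ isOpen_univ.isLocallyClosed
  let ρ : Spec (CommRingCat.of Ω) ⟶ pullback f s := pointOfClosedPoint (pullback.snd f s) y hyc
  obtain ⟨U', hsU, -, hiso⟩ := Groth.Agent.FEtProperConn.exists_open_of_section f g hO c hc1 hc2 s σ' hσ'
    ρ (pointOfClosedPoint_comp _ _ _) _ rfl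
  -- connectedness and the degree
  haveI : Surjective (pullback.snd f nN) := MorphismProperty.pullback_snd f nN ‹Surjective f›
  haveI : IsProper (pullback.snd f nN) := MorphismProperty.pullback_snd f nN ‹IsProper f›
  haveI : ConnectedSpace ↥(pullback f nN) := connectedSpace_of_closed (pullback.snd f nN)
    fun b => Groth.Agent.FEtProperConn.isConnected_preimage_bc f (fun K _ _ x => (hfib K x).1) nN b
  let V := (pullback.snd f nN) ⁻¹ᵁ U'
  haveI : IsIso (c ∣_ V) := hiso
  obtain ⟨z₀, hz₀⟩ : ∃ z, pullback.snd f nN z ∈ U' :=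
    ⟨c ((Pi1X.etaleLocus g).ι ((ρ ≫ σ') default)), by
      rw [← Scheme.Hom.comp_apply, hc2]
      exact hsU⟩
  haveI : IsIso c := by
    refine (Scheme.Hom.isIso_iff_finrank_eq c).2 (funext fun z => ?_)
    rw [(Scheme.Hom.isLocallyConstant_finrank c).apply_eq_of_preconnectedSpace z z₀]
    have h1 := Scheme.Hom.finrank_of_isPullback _ _ c V.ι (isPullback_morphismRestrict c V).flip ⟨z₀, hz₀⟩
    rw [Scheme.Hom.finrank_eq_one_of_isIso] at h1
    exact h1.symm
  let S' : FEt.Cat S := Groth.Agent.FEtCat.Basic.mk nN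
  let c' : Y.left ⟶ ((FEt.restrict f).obj S').left := c ≫ (pullbackSymmetry f nN).hom
  haveI : IsIso c' := IsIso.comp_isIso
  let φ : Y ⟶ (FEt.restrict f).obj S' := Groth.Agent.FEtCat.Basic.homMk c' (by
    show (c ≫ (pullbackSymmetry f nN).hom) ≫ pullback.snd nN f = g
    rw [Category.assoc, pullbackSymmetry_hom_comp_snd]
    exact hc1)
  haveI : IsIso φ.left := ‹IsIso c'›
  haveI : IsIso φ := Groth.Agent.FEtCat.Basic.isIso_of_left φ
  exact ⟨S', ⟨(asIso φ).symm⟩⟩

end Groth.Agent.S0265
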