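import Groth.Statements.S0270
import Groth.Agent.FEtCat.AlgClosureStage
import Groth.Agent.FEtCat.Galois

set_option autoImplicit false
universe u
open Pi1

namespace Groth.Agent.S0270

open AlgebraicGeometry CategoryTheory CategoryTheory.Limits in
/-- (Exactness of the homotopy sequence of etale fundamental groups at pi_1(X), in functor form.) Let X
be quasi-compact and quasi-separated over a field k with X_{kbar} connected, kbar an algebraic
closure of k. If a finite etale cover U of X becomes completely split (a disjoint union of copies of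
X_{kbar}) after base change to kbar, then there are a finite etale k-scheme V and an X-morphism from
V x_k X to U which is surjective. -/
theorem result (k : Type u) [Field k] {X : Scheme.{u}} (f : X ⟶ Spec (CommRingCat.of k)) [CompactSpace X]
    [QuasiSeparatedSpace X]
    [ConnectedSpace ↥(pullback f (Spec.map (CommRingCat.ofHom (algebraMap k (AlgebraicClosure k)))))]
    (U : FEt.Cat X) (hU : Pi1.IsSplit ((FEt.restrict (pullback.fst f (Spec.map (CommRingCat.ofHom (algebraMap k (AlgebraicClosure k)))))).obj U)) :
    ∃ (V : FEt.Cat (Spec (CommRingCat.of k))) (e : (FEt.restrict f).obj V ⟶ U), Surjective e.left := by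
  let L := AlgebraicClosure k
  let bk : Spec (CommRingCat.of L) ⟶ Spec (CommRingCat.of k) :=
    Spec.map (CommRingCat.ofHom (algebraMap k L))
  let b := pullback.fst f bk
  obtain ⟨ι, hι, e₀, he⟩ := hU
  let e : pullback U.hom b ≅ ∐ fun _ : ι => pullback f bk := e₀
  let U' := (FEt.restrict b).obj U
  let σ : ι → (pullback f bk ⟶ U.left) := fun i =>
    Sigma.ι (fun _ : ι => pullback f bk) i ≫ e.inv ≫ pullback.fst U.hom b
  have hσ : ∀ i, σ i ≫ U.hom = b := fun i => by
    have h1 : Sigma.ι (fun _ : ι => pullback f bk) i ≫ e.inv ≫ pullback.snd U.hom b = 𝟙 _ := he i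
    simp only [σ, Category.assoc]
    rw [pullback.condition]
    calc _ = (Sigma.ι (fun _ : ι => pullback f bk) i ≫ e.inv ≫ pullback.snd U.hom b) ≫ b := by
          simp only [Category.assoc]
      _ = b := by rw [h1, Category.id_comp]
  choose S φ g hS hg using fun i =>
    FEtCat.AlgClosureStage.exists_etale_stage_hom k f L U (σ i) (hσ i)
  let ε := (PreservesCoproduct.iso (FEt.restrict f) S).hom ≫ Sigma.desc φ
  have hε : ∀ i, (FEt.restrict f).map (Sigma.ι S i) ≫ ε = φ i := fun i => by
    have h1 : Sigma.ι (fun j => (FEt.restrict f).obj (S j)) i ≫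
        (PreservesCoproduct.iso (FEt.restrict f) S).inv = (FEt.restrict f).map (Sigma.ι S i) := by
      rw [PreservesCoproduct.inv_hom, ι_comp_sigmaComparison]
    rw [← h1]
    simp only [ε, Category.assoc]
    rw [Iso.inv_hom_id_assoc, Limits.Sigma.ι_desc]
  refine ⟨∐ S, ε, ⟨fun u => ?_⟩⟩
  have : Surjective bk :=
    ⟨fun x => ⟨default, Subsingleton.elim (α := PrimeSpectrum k) _ _⟩⟩
  have : Surjective b := inferInstanceAs (Surjective (pullback.fst f bk))
  obtain ⟨w, rfl⟩ := (pullback.fst U.hom b).surjective u
  obtain ⟨i, x, hx⟩ := FEtCat.Sigma.exists_range_ι (e.hom w)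
  refine ⟨((FEt.restrict f).map (Sigma.ι S i)).left (g i x), ?_⟩
  have h2 : g i ≫ ((FEt.restrict f).map (Sigma.ι S i)).left ≫ ε.left = σ i := by
    rw [← hg i, ← hε i]
    rfl
  have h3 : ε.left (((FEt.restrict f).map (Sigma.ι S i)).left (g i x)) = σ i x := congr($h2 x)
  rw [h3]
  change (pullback.fst U.hom b) (e.inv ((Sigma.ι (fun _ : ι => pullback f bk) i) x)) = _
  rw [hx]
  exact congrArg _ (congr($(e.hom_inv_id) w))

end Groth.Agent.S0270
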