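import Groth.Statements.S0280
import Mathlib
import Groth.Agent.Omega.EtaleNormalization
import Groth.Agent.Omega.SmoothFibreDim

set_option autoImplicit false
universe u
open Pi1

namespace Groth.Agent.S0280

/-- Let k be a field of characteristic p > 0 and C a k-algebra which is etale over the polynomial ring
in n variables. Then there is a (possibly different) k-algebra map from that polynomial ring to C
which is finite etale. -/
theorem result (k : Type u) [Field k] (p : ℕ)
    [Fact p.Prime] [CharP k p] (n : ℕ) (C : Type u) [CommRing C]
    [Algebra (MvPolynomial (Fin n) k) C] [Algebra k C] [IsScalarTower k (MvPolynomial (Fin n) k) C]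
    [Algebra.Etale (MvPolynomial (Fin n) k) C] :
    ∃ φ : MvPolynomial (Fin n) k →ₐ[k] C, φ.toRingHom.Finite ∧ φ.toRingHom.Etale := by
  classical
  haveI : Algebra.FiniteType k C := Algebra.FiniteType.trans (S := MvPolynomial (Fin n) k) inferInstance inferInstance
  have hpC : (p : C) = 0 := by
    rw [← map_natCast (algebraMap k C), CharP.cast_eq_zero, map_zero]
  have hdim : ringKrullDim C ≤ (n : WithBot ℕ∞) := by
    haveI : Algebra.QuasiFinite (MvPolynomial (Fin n) k) C := inferInstance
    refine (Groth.Agent.Wt.QFShift.ringKrullDim_le_of_quasiFinite (R := MvPolynomial (Fin n) k)).trans ?_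
    rw [MvPolynomial.ringKrullDim_of_isNoetherianRing, ringKrullDim_eq_zero_of_field]
    simp
  obtain ⟨m, gen, hgen⟩ := Algebra.FiniteType.iff_quotient_mvPolynomial''.1 (inferInstance : Algebra.FiniteType k C)
  let x : Fin n → C := fun i => algebraMap (MvPolynomial (Fin n) k) C (MvPolynomial.X i)
  obtain ⟨x', hD, hint⟩ := Groth.Agent.Omega.EtaleNormalization.exists_normalized (k := k) hpC
    (Fact.out : p.Prime).pos hdim m x (fun j => gen (MvPolynomial.X j)) fun c => by
      have htop : Algebra.adjoin k (Set.range x ∪ Set.range fun j => gen (MvPolynomial.X j)) = ⊤ := by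
        refine top_unique ?_
        rintro c -
        obtain ⟨q, rfl⟩ := hgen c
        induction q using MvPolynomial.induction_on with
        | C a =>
          rw [← MvPolynomial.algebraMap_eq, AlgHom.commutes]
          exact Subalgebra.algebraMap_mem _ a
        | add a b ha hb => rw [map_add]; exact Subalgebra.add_mem _ ha hb
        | mul_X a j ha =>
          rw [map_mul]
          exact Subalgebra.mul_mem _ ha (Algebra.subset_adjoin (Or.inr ⟨j, rfl⟩))
      rw [htop]
      exact isIntegral_algebraMap (x := (⟨c, trivial⟩ : (⊤ : Subalgebra k C)))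
  -- spanning of the differentials
  have hD_span : Submodule.span C (Set.range fun i => KaehlerDifferential.D k C (x i)) = ⊤ := by
    have hπ : Function.Surjective (KaehlerDifferential.mapBaseChange k (MvPolynomial (Fin n) k) C) := fun z =>
      ((KaehlerDifferential.exact_mapBaseChange_map k (MvPolynomial (Fin n) k) C) z).mp (Subsingleton.elim _ _)
    rw [eq_top_iff]
    rintro z -
    obtain ⟨w, rfl⟩ := hπ z
    induction w using TensorProduct.induction_on with
    | zero => rw [map_zero]; exact Submodule.zero_mem _
    | add a b ha hb => rw [map_add]; exact Submodule.add_mem _ ha hb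
    | tmul c ω =>
      rw [KaehlerDifferential.mapBaseChange_tmul]
      refine Submodule.smul_mem _ _ ?_
      rw [← (KaehlerDifferential.mvPolynomialBasis k (Fin n)).linearCombination_repr ω,
        Finsupp.linearCombination_apply, Finsupp.sum, map_sum]
      refine Submodule.sum_mem _ fun i _ => ?_
      rw [map_smul, KaehlerDifferential.mvPolynomialBasis_apply, KaehlerDifferential.map_D,
        ← IsScalarTower.algebraMap_smul C]
      exact Submodule.smul_mem _ _ (Submodule.subset_span ⟨i, rfl⟩)
  have hr : ∀ P : PrimeSpectrum C, Module.rankAtStalk (R := C) (KaehlerDifferential k C) P = n := by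
    intro P
    haveI : Module.Free (MvPolynomial (Fin n) k) (KaehlerDifferential k (MvPolynomial (Fin n) k)) :=
      .of_basis (KaehlerDifferential.mvPolynomialBasis k (Fin n))
    rw [Module.rankAtStalk_isBaseChange
      (KaehlerDifferential.isBaseChange_of_formallyEtale k (MvPolynomial (Fin n) k) C) P,
      Module.rankAtStalk_eq_finrank_of_free,
      Module.finrank_eq_card_basis (KaehlerDifferential.mvPolynomialBasis k (Fin n))]
    simp
  haveI : Algebra.Smooth k (MvPolynomial (Fin n) k) := ⟨inferInstance, inferInstance⟩
  haveI : Algebra.Smooth k C := Algebra.Smooth.comp k (MvPolynomial (Fin n) k) C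
  let φ : MvPolynomial (Fin n) k →ₐ[k] C := MvPolynomial.aeval x'
  refine ⟨φ, ?_⟩
  suffices h : letI := φ.toRingHom.toAlgebra; Module.Finite (MvPolynomial (Fin n) k) C ∧
      Algebra.Etale (MvPolynomial (Fin n) k) C from h
  letI := φ.toRingHom.toAlgebra
  haveI : IsScalarTower k (MvPolynomial (Fin n) k) C := .of_algebraMap_eq fun a => (φ.commutes a).symm
  haveI : Algebra.FiniteType (MvPolynomial (Fin n) k) C := Algebra.FiniteType.of_restrictScalars_finiteType k _ C
  haveI : Algebra.IsIntegral (MvPolynomial (Fin n) k) C := ⟨fun c => by
    obtain ⟨q, hq, hq0⟩ := hint c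
    have hle : ∀ s ∈ Algebra.adjoin k (Set.range x'), ∃ P, φ P = s := fun s hs => by
      rw [Algebra.adjoin_range_eq_range_aeval] at hs
      exact hs
    have hlift : q.map (algebraMap (Algebra.adjoin k (Set.range x')) C) ∈
        Polynomial.lifts (algebraMap (MvPolynomial (Fin n) k) C) := by
      rw [Polynomial.lifts_iff_coeff_lifts]
      intro i
      rw [Polynomial.coeff_map]
      exact hle _ (q.coeff i).2
    rcases subsingleton_or_nontrivial C with hC | hC
    · exact ⟨1, Polynomial.monic_one, Subsingleton.elim _ _⟩
    obtain ⟨q', hq', -, hq'm⟩ := Polynomial.lifts_and_degree_eq_and_monic hlift (hq.map _)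
    refine ⟨q', hq'm, ?_⟩
    rw [← Polynomial.eval_map, hq', Polynomial.eval_map]
    exact hq0⟩
  refine ⟨Algebra.IsIntegral.finite, ?_⟩
  haveI : Algebra.FormallyUnramified (MvPolynomial (Fin n) k) C := by
    refine ⟨⟨fun a b => ?_⟩⟩
    have hz : ∀ z : KaehlerDifferential (MvPolynomial (Fin n) k) C, z = 0 := by
      intro z
      obtain ⟨ω, rfl⟩ := KaehlerDifferential.map_surjective k (MvPolynomial (Fin n) k) C z
      have : ω ∈ Submodule.span C (Set.range fun i => KaehlerDifferential.D k C (x i)) := hD_span ▸ trivial
      induction this using Submodule.span_induction with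
      | mem y hy =>
        obtain ⟨i, rfl⟩ := hy
        simp only [← hD i, KaehlerDifferential.map_D, Algebra.algebraMap_self_apply]
        rw [show x' i = algebraMap (MvPolynomial (Fin n) k) C (MvPolynomial.X i) from (MvPolynomial.aeval_X x' i).symm]
        exact Derivation.map_algebraMap _ _
      | zero => exact map_zero _
      | add a b _ _ ha hb => rw [map_add, ha, hb, add_zero]
      | smul c a _ ha => rw [map_smul, ha, smul_zero]
    rw [hz a, hz b]
  refine Groth.Agent.Omega.SmoothFibreDim.etale_of_unramified_rank k (MvPolynomial (Fin n) k) C fun P => ?_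
  haveI : Module.Free (MvPolynomial (Fin n) k) (KaehlerDifferential k (MvPolynomial (Fin n) k)) :=
    .of_basis (KaehlerDifferential.mvPolynomialBasis k (Fin n))
  rw [hr P, Module.rankAtStalk_eq_finrank_of_free,
    Module.finrank_eq_card_basis (KaehlerDifferential.mvPolynomialBasis k (Fin n))]
  simp


end Groth.Agent.S0280
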