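import Groth.Statements.S0282
import Groth.Agent.FEtCat.FrobeniusLift

set_option autoImplicit false
universe u
open scoped TensorProduct
open Pi1

namespace Groth.Agent.S0282

/-- Let R be a ring of prime characteristic p, A a quotient ring of R and B a finite étale A-algebra.
Then there are a finite étale R-algebra C and a surjective A-algebra homomorphism from A ⊗_R C onto
B. (This covering-level statement yields the injectivity of π₁(Spec A) → π₁(Spec R).) -/
theorem result (p : ℕ) [Fact p.Prime] (R A B : Type u)
    [CommRing R] [CommRing A] [CommRing B] [CharP R p] [Algebra R A]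
    (hRA : Function.Surjective (algebraMap R A)) [Algebra A B] [Module.Finite A B]
    [Algebra.Etale A B] :
    ∃ (C : Type u) (_ : CommRing C) (_ : Algebra R C), Module.Finite R C ∧ Algebra.Etale R C ∧
      ∃ ψ : A ⊗[R] C →ₐ[A] B, Function.Surjective ψ := by
  exact FEtCat.FrobeniusLift.exists_lift p hRA

end Groth.Agent.S0282
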