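import Groth.Statements.S0286
import Groth.Agent.FEtCat.UnivHomeo

set_option autoImplicit false
universe u
open Pi1

namespace Groth.Agent.S0286

open AlgebraicGeometry CategoryTheory CategoryTheory.Limits in
/-- For a scheme X over a field k of characteristic p (p a prime), pulling back finite étale covers
along the projection X ×_{Spec k} Spec(k^perf) → X, where k^perf is the perfect closure of k, is an
equivalence of categories. -/
theorem result (k : Type u) [Field k] (p : ℕ) [Fact p.Prime] [CharP k p] {X : Scheme.{u}}
    (f : X ⟶ Spec (CommRingCat.of k)) :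
    (FEt.restrict (pullback.fst f
      (Spec.map (CommRingCat.ofHom (PerfectClosure.of k p))))).IsEquivalence := by
  let g : Spec (CommRingCat.of (PerfectClosure k p)) ⟶ Spec (CommRingCat.of k) :=
    Spec.map (CommRingCat.ofHom (PerfectClosure.of k p))
  let _ : Algebra k (PerfectClosure k p) := (PerfectClosure.of k p).toAlgebra
  have : IsIntegralHom g := (IsIntegralHom.SpecMap_iff).mpr fun y => by
    obtain ⟨n, x, hx⟩ := IsPRadical.pow_mem (PerfectClosure.of k p) p y
    exact IsIntegral.of_pow (pow_pos (Fact.out : p.Prime).pos n)
      (hx ▸ isIntegral_algebraMap (R := k) (A := PerfectClosure k p) (x := x))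
  have : UniversallyInjective g := by
    refine ((tfae_universallyInjective g).out 1 0).mp ?_
    intro K instK a b hab
    obtain ⟨a', rfl⟩ := Spec.map_surjective a
    obtain ⟨b', rfl⟩ := Spec.map_surjective b
    change Spec.map a' ≫ Spec.map _ = Spec.map b' ≫ Spec.map _ at hab
    rw [← Spec.map_comp, ← Spec.map_comp] at hab
    have h := congrArg CommRingCat.Hom.hom (Spec.map_injective hab)
    have : CharP K p := charP_of_injective_ringHom (a'.hom.comp (PerfectClosure.of k p)).injective p
    congr 1
    ext y
    obtain ⟨n, x, hx⟩ := IsPRadical.pow_mem (PerfectClosure.of k p) p y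
    refine iterateFrobenius_inj K p n ?_
    simp only [iterateFrobenius_def, ← map_pow]
    rw [← hx]
    exact RingHom.congr_fun h x
  have : UniversallyInjective (pullback.fst f g) := MorphismProperty.pullback_fst f g ‹_›
  have : Surjective g := ⟨fun x => ⟨default, Subsingleton.elim _ _⟩⟩
  exact FEtCat.UnivHomeo.isEquivalence_restrict (pullback.fst f g)

end Groth.Agent.S0286
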