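import Groth.Statements.S0287
import Groth.Agent.PurityReg.ExtendNormal
-- import your own Groth.Agent.* helpers here

set_option autoImplicit false
universe u
open Pi1

namespace Groth.Agent.S0287

set_option backward.isDefEq.respectTransparency.types false
set_option linter.style.haveILetI false
set_option maxHeartbeats 800000

open AlgebraicGeometry CategoryTheory CategoryTheory.Limits in
/-- Let X be locally Noetherian, U a dense open, Y a finite etale cover of U such that the local rings
of X at points outside U are regular and, at each such point of dimension one, the restriction of Y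
to the punctured local scheme extends over the local scheme (Y is unramified over X in codimension
1). Then Y extends to a finite etale cover of X. -/
theorem result {X : Scheme.{u}} [IsLocallyNoetherian X] (U : X.Opens) (hU : Dense (U : Set X))
    (Y : FEt.Cat (U : Scheme.{u}))
    (hreg : ∀ x : X, x ∉ U → IsRegularLocalRing (X.presheaf.stalk x))
    (hunr : ∀ ξ : X, ξ ∉ U → ringKrullDim (X.presheaf.stalk ξ) = 1 →
      ∃ Yξ : FEt.Cat (Spec (X.presheaf.stalk ξ)),
        Nonempty ((FEt.restrict (pullback.snd U.ι (X.fromSpecStalk ξ))).obj Yξ ≅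
          (FEt.restrict (pullback.fst U.ι (X.fromSpecStalk ξ))).obj Y)) :
    ∃ Y' : FEt.Cat X, Nonempty ((FEt.restrict U.ι).obj Y' ≅ Y) := by
  let g : Y.left ⟶ X := Y.hom ≫ U.ι
  let ν := g.fromNormalization
  -- on each affine open the normalization is the extension
  have hloc : ∀ V : X.Opens, IsAffineOpen V →
      IsFinite (pullback.snd ν V.ι) ∧ Etale (pullback.snd ν V.ι) := by
    intro V hV
    haveI : IsAffine (V : Scheme.{u}) := hV
    haveI : IsNoetherian (V : Scheme.{u}) := {}
    let U' : (V : Scheme.{u}).Opens := V.ι ⁻¹ᵁ U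
    have hU' : Dense (U' : Set (V : Scheme.{u})) := hU.preimage V.ι.isOpenEmbedding.isOpenMap
    let r : (U' : Scheme.{u}) ⟶ U := IsOpenImmersion.lift U.ι (U'.ι ≫ V.ι) (by
      rw [Scheme.Opens.range_ι]
      rintro _ ⟨z, rfl⟩
      exact z.2)
    have hr : r ≫ U.ι = U'.ι ≫ V.ι := IsOpenImmersion.lift_fac _ _ _
    have hreg' : ∀ z : (V : Scheme.{u}), z ∉ U' → IsRegularLocalRing ((V : Scheme.{u}).presheaf.stalk z) := fun z hz => by
      haveI := hreg z.1 hz
      exact IsRegularLocalRing.of_ringEquiv (V.stalkIso z).commRingCatIsoToRingEquiv.symm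
    have hunr' : ∀ ξ : (V : Scheme.{u}), ξ ∉ U' → ringKrullDim ((V : Scheme.{u}).presheaf.stalk ξ) = 1 →
        ∃ Yξ : FEt.Cat (Spec ((V : Scheme.{u}).presheaf.stalk ξ)),
          Nonempty ((FEt.restrict (pullback.snd U'.ι ((V : Scheme.{u}).fromSpecStalk ξ))).obj Yξ ≅
            (FEt.restrict (pullback.fst U'.ι ((V : Scheme.{u}).fromSpecStalk ξ))).obj ((FEt.restrict r).obj Y)) := by
      intro ξ hξ hd
      have hd' : ringKrullDim (X.presheaf.stalk ξ.1) = 1 := by
        rw [← hd]
        exact ringKrullDim_eq_of_ringEquiv (V.stalkIso ξ).commRingCatIsoToRingEquiv.symm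
      obtain ⟨Yξ, ⟨eξ⟩⟩ := hunr ξ.1 hξ hd'
      let j' := (V : Scheme.{u}).fromSpecStalk ξ
      let σ := Spec.map (V.ι.stalkMap ξ)
      have hσ : σ ≫ X.fromSpecStalk ξ.1 = j' ≫ V.ι := Scheme.SpecMap_stalkMap_fromSpecStalk V.ι
      let m := pullback.lift (f := U.ι) (g := X.fromSpecStalk ξ.1) (pullback.fst U'.ι j' ≫ r)
        (pullback.snd U'.ι j' ≫ σ) (by
          rw [Category.assoc, hr, Category.assoc]
          refine Eq.trans ?_ (congrArg (pullback.snd U'.ι j' ≫ ·) hσ).symm
          rw [← Category.assoc, pullback.condition, Category.assoc])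
      refine ⟨(FEt.restrict σ).obj Yξ, ⟨?_⟩⟩
      exact ((MorphismProperty.Over.pullbackComp (pullback.snd U'.ι j') σ (pullback.snd U'.ι j' ≫ σ) rfl).app Yξ).symm ≪≫
        (MorphismProperty.Over.pullbackComp m (pullback.snd U.ι (X.fromSpecStalk ξ.1)) (pullback.snd U'.ι j' ≫ σ)
          (pullback.lift_snd _ _ _).symm).app Yξ ≪≫
        (FEt.restrict m).mapIso eξ ≪≫
        ((MorphismProperty.Over.pullbackComp m (pullback.fst U.ι (X.fromSpecStalk ξ.1)) (pullback.fst U'.ι j' ≫ r)
          (pullback.lift_fst _ _ _).symm).app Y).symm ≪≫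
        (MorphismProperty.Over.pullbackComp (pullback.fst U'.ι j') r (pullback.fst U'.ι j' ≫ r) rfl).app Y
    obtain ⟨E, ⟨eE⟩⟩ := PurityReg.exists_extension_noetherian U' hU' ((FEt.restrict r).obj Y) hreg' hunr'
    obtain ⟨h, _, hfac, hrange⟩ := PurityReg.exists_openImmersion_of_restrict_iso U' eE
    -- identify the base change of `g` with the restriction of `Y`
    have hsq : IsPullback r U'.ι U.ι V.ι := IsOpenImmersion.isPullback _ _ _ _ hr.symm (by
      rw [Scheme.Opens.opensRange_ι, Scheme.Opens.opensRange_ι])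
    have hP := (IsPullback.of_hasPullback Y.hom r).paste_vert hsq
    let ψ := hP.isoPullback
    have hψ : ψ.hom ≫ pullback.snd g V.ι = pullback.snd Y.hom r ≫ U'.ι := hP.isoPullback_hom_snd
    let h' : pullback g V.ι ⟶ E.left := ψ.inv ≫ h
    have hg' : pullback.snd g V.ι = h' ≫ E.hom := by
      refine Eq.trans ?_ (Category.assoc _ _ _).symm
      exact (Iso.eq_inv_comp _).mpr (hψ.trans hfac.symm)
    haveI : IsLocallyNoetherian E.left := LocallyOfFiniteType.isLocallyNoetherian (Y := (V : Scheme.{u})) E.hom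
    haveI : IsOpenImmersion h' := MorphismProperty.comp_mem @IsOpenImmersion ψ.inv h inferInstance ‹_›
    haveI hIso : IsIso ((pullback.snd g V.ι).normalizationDesc h' E.hom hg') := by
      refine @PurityReg.isIso_normalizationDesc (V : Scheme.{u}) E.left _ _ ‹IsLocallyNoetherian E.left› E.hom _ h' _ _ _ _ hg' fun e he => ?_
      have he' : E.hom e ∉ U' := fun hU'e => he (by
        obtain ⟨w, hw⟩ := (hrange e).mpr hU'e
        refine ⟨ψ.hom w, ?_⟩
        rw [← Scheme.Hom.comp_apply, Iso.hom_inv_id_assoc]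
        exact hw)
      haveI := hreg' _ he'
      haveI := Groth.Agent.RegLoc.isDomain ((V : Scheme.{u}).presheaf.stalk (E.hom e))
      refine ⟨(@Groth.Agent.EtNormal.normal_stalk_iff E.left (V : Scheme.{u}) E.hom (FEtCat.Basic.etale_hom E) e).mpr ⟨inferInstance, ?_⟩, ?_⟩
      · haveI := Groth.Agent.RegLoc.UFD.uniqueFactorizationMonoid ((V : Scheme.{u}).presheaf.stalk (E.hom e))
        infer_instance
      · letI : Algebra ((V : Scheme.{u}).presheaf.stalk (E.hom e)) (E.left.presheaf.stalk e) := (E.hom.stalkMap e).hom.toAlgebra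
        rw [(@Groth.Agent.EtNormal.isEtLike_stalk E.left (V : Scheme.{u}) E.hom (FEtCat.Basic.etale_hom E) e).ringKrullDim_eq]
        exact PurityReg.one_le_ringKrullDim_of_not_mem hU' he'
    let d := (pullback.snd g V.ι).normalizationDesc h' E.hom hg'
    haveI : IsIso (g.normalizationPullback V.ι) := inferInstance
    have he : pullback.snd ν V.ι = (inv (g.normalizationPullback V.ι) ≫ d) ≫ E.hom := by
      rw [Category.assoc, IsIso.eq_inv_comp]
      exact (Scheme.Hom.normalizationPullback_snd g V.ι).trans (Scheme.Hom.normalizationDesc_comp _ _ _ hg').symm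
    rw [he]
    exact ⟨inferInstance, inferInstance⟩
  let 𝒰 := X.openCoverOfIsOpenCover (fun V : X.affineOpens => V.1) (iSup_affineOpens_eq_top X)
  haveI : IsFinite ν := IsZariskiLocalAtTarget.of_openCover 𝒰 fun V => (hloc V.1 V.2).1
  haveI : Etale ν := IsZariskiLocalAtTarget.of_openCover 𝒰 fun V => (hloc V.1 V.2).2
  refine ⟨Groth.Agent.FEtCat.Basic.mk ν, ⟨?_⟩⟩
  -- over `U` the normalization is `Y`
  have hUU : IsPullback (𝟙 (U : Scheme.{u})) (𝟙 _) U.ι U.ι := IsKernelPair.id_of_mono U.ι
  have hP := (IsPullback.of_id_fst (f := Y.hom)).paste_vert hUU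
  let ψ := hP.isoPullback
  have hψ : ψ.hom ≫ pullback.snd g U.ι = Y.hom := hP.isoPullback_hom_snd.trans (Category.comp_id _)
  haveI : IsIntegralHom (pullback.snd g U.ι) := by
    have : pullback.snd g U.ι = ψ.inv ≫ Y.hom := by rw [Iso.eq_inv_comp, hψ]
    rw [this]
    infer_instance
  let t := ψ.hom ≫ (pullback.snd g U.ι).toNormalization ≫ g.normalizationPullback U.ι
  have ht : t ≫ pullback.snd ν U.ι = Y.hom := by
    refine Eq.trans ?_ hψ
    refine (Category.assoc _ _ _).trans (congrArg (ψ.hom ≫ ·) ?_)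
    refine (Category.assoc _ _ _).trans ?_
    exact (congrArg ((pullback.snd g U.ι).toNormalization ≫ ·) (Scheme.Hom.normalizationPullback_snd g U.ι)).trans
      (Scheme.Hom.toNormalization_fromNormalization _)
  haveI : IsIso (pullback.snd g U.ι).toNormalization := inferInstance
  haveI : IsIso (g.normalizationPullback U.ι) := inferInstance
  haveI : IsIso t := @IsIso.comp_isIso _ _ _ _ _ ψ.hom _ inferInstance inferInstance
  exact (MorphismProperty.Over.isoMk (@asIso _ _ _ _ t ‹IsIso t›) ht).symm

end Groth.Agent.S0287
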