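import Groth.Statements.S0288
import Groth.Agent.EtStruct.UnibranchGlobal
import Groth.Agent.S9812

set_option autoImplicit false
universe u
open Pi1

namespace Groth.Agent.S0288

open AlgebraicGeometry CategoryTheory CategoryTheory.Limits in
/-- Let X be a normal integral scheme with function field K, L a finite field extension of K and Y -> X
the normalization of X in Spec L. If Y -> X is unramified (formally unramified and locally of finite
type), then it is etale, and finite. -/
theorem result {X : Scheme.{u}} [IsIntegral X] (hX : Pi1.IsNormalScheme X) (L : Type u) [Field L]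
    [Algebra X.functionField L] [FiniteDimensional X.functionField L]
    [QuasiCompact (Spec.map (CommRingCat.ofHom (algebraMap X.functionField L)) ≫ X.fromSpecStalk (genericPoint X))]
    [QuasiSeparated (Spec.map (CommRingCat.ofHom (algebraMap X.functionField L)) ≫ X.fromSpecStalk (genericPoint X))]
    [FormallyUnramified (Spec.map (CommRingCat.ofHom (algebraMap X.functionField L)) ≫ X.fromSpecStalk (genericPoint X)).fromNormalization]
    [LocallyOfFiniteType (Spec.map (CommRingCat.ofHom (algebraMap X.functionField L)) ≫ X.fromSpecStalk (genericPoint X)).fromNormalization] :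
    Etale (Spec.map (CommRingCat.ofHom (algebraMap X.functionField L)) ≫ X.fromSpecStalk (genericPoint X)).fromNormalization ∧
    IsFinite (Spec.map (CommRingCat.ofHom (algebraMap X.functionField L)) ≫ X.fromSpecStalk (genericPoint X)).fromNormalization := by
  set f := Spec.map (CommRingCat.ofHom (algebraMap X.functionField L)) ≫
    X.fromSpecStalk (genericPoint X)
  have hfin : IsFinite f.fromNormalization :=
    (IsFinite.iff_isIntegralHom_and_locallyOfFiniteType _).mpr ⟨inferInstance, inferInstance⟩
  refine ⟨?_, hfin⟩
  have hY : ∀ y : X, CAlg2.IsGeomUnibranch (X.presheaf.stalk y) := fun y ↦ by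
    have := (hX y).1
    have := (hX y).2
    exact S9812.result _
  refine EtStruct.etale_of_formallyUnramified_of_connected hY f.fromNormalization
    ⟨f.toNormalization (default : Spec (CommRingCat.of L)), ?_⟩
  rw [← Scheme.Hom.comp_apply, f.toNormalization_fromNormalization]
  have : Subsingleton (Spec (X.presheaf.stalk (genericPoint X))) :=
    inferInstanceAs (Subsingleton (PrimeSpectrum X.functionField))
  rw [Scheme.Hom.comp_apply, Subsingleton.elim ((Spec.map _) _)
    (IsLocalRing.closedPoint (X.presheaf.stalk (genericPoint X))), Scheme.fromSpecStalk_closedPoint]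

end Groth.Agent.S0288
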