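import Groth.Statements.S0291
import Groth.Agent.HartogsAffine.Basic
import Mathlib.RingTheory.IntegralClosure.IntegralRestrict

set_option autoImplicit false
universe u
open Pi1

noncomputable section

namespace Groth.Agent.S0291

open AlgebraicGeometry CategoryTheory CategoryTheory.Limits in
/-- Let A be a Noetherian local ring and B a finite A-algebra such that the local rings of Spec B at all
closed points have depth at least 2. Then restriction from global sections of Spec B to sections
over the preimage of the punctured spectrum of A is an isomorphism. -/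
theorem result (A B : Type u) [CommRing A] [IsNoetherianRing A] [IsLocalRing A] [CommRing B] [Algebra A B]
    [Module.Finite A B]
    (h : ∀ (m : Ideal B) (_ : m.IsMaximal), (2 : ℕ∞) ≤ LocCoh.depth (Localization.AtPrime m) (Localization.AtPrime m)) :
    IsIso ((Spec (CommRingCat.of B)).presheaf.map (homOfLE (le_top :
      Spec.map (CommRingCat.ofHom (algebraMap A B)) ⁻¹ᵁ FEt.puncturedSpec A ≤ ⊤)).op) := by
  have : IsNoetherianRing B := IsNoetherianRing.of_finite A B
  refine (ConcreteCategory.isIso_iff_bijective _).mpr
    (HartogsAffine.bijective_res (X := Spec (CommRingCat.of B)) _ fun x hx => ?_)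
  have hc : Spec.map (CommRingCat.ofHom (algebraMap A B)) x = IsLocalRing.closedPoint A := by_contra fun h' => hx h'
  have hc' : x.asIdeal.comap (algebraMap A B) = IsLocalRing.maximalIdeal A := congrArg PrimeSpectrum.asIdeal hc
  have hmax : x.asIdeal.IsMaximal := Ideal.isMaximal_of_isIntegral_of_isMaximal_comap x.asIdeal
    (hc' ▸ IsLocalRing.maximalIdeal.isMaximal A)
  let S := (Spec (CommRingCat.of B)).presheaf.stalk x
  let _ : Algebra B S := inferInstanceAs (Algebra B ((Spec.structureSheaf B).presheaf.stalk x))
  have : IsLocalization.AtPrime S x.asIdeal :=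
    inferInstanceAs (IsLocalization.AtPrime ((Spec.structureSheaf B).presheaf.stalk x) x.asIdeal)
  let e : Localization.AtPrime x.asIdeal ≃ₐ[B] S := IsLocalization.algEquiv x.asIdeal.primeCompl _ _
  have : IsNoetherianRing S := isNoetherianRing_of_ringEquiv _ e.toRingEquiv
  rw [HartogsAffine.depth_congr_ringEquiv e.toRingEquiv]
  exact h x.asIdeal hmax

end Groth.Agent.S0291
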