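import Groth.Statements.S0292
import Groth.Agent.PurityReg.SectionsDepthTwo
import Mathlib.AlgebraicGeometry.Normalization
-- import your own Groth.Agent.* helpers here

set_option autoImplicit false
universe u
open Pi1

namespace Groth.Agent.S0292

set_option backward.isDefEq.respectTransparency.types false
set_option linter.style.haveILetI false
set_option maxHeartbeats 800000

open AlgebraicGeometry CategoryTheory CategoryTheory.Limits in
/-- The affine case, for a morphism with finite module of sections. -/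
theorem affine_case {W : Scheme.{u}} [IsAffine W] [IsLocallyNoetherian W] (D : W.Opens) (V : FEt.Cat (D : Scheme.{u}))
    (h : ∀ x : W, x ∉ D → (2 : ℕ∞) ≤ LocCoh.depth (W.presheaf.stalk x) (W.presheaf.stalk x))
    {S : Scheme.{u}} (g : S ⟶ W) [QuasiCompact g] [QuasiSeparated g] (ψ : S ≅ V.left)
    (hψ : g = ψ.hom ≫ PurityReg.toW D V) :
    IsFinite g.fromNormalization ∧ ∀ y : g.normalization, g.fromNormalization y ∉ D →
      (2 : ℕ∞) ≤ LocCoh.depth (g.normalization.presheaf.stalk y) (g.normalization.presheaf.stalk y) := by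
  haveI : IsAffine g.normalization := isAffine_of_isAffineHom g.fromNormalization
  haveI : IsNoetherianRing Γ(W, ⊤) := IsLocallyNoetherian.component_noetherian ⟨⊤, isAffineOpen_top W⟩
  let N := g.normalization
  let τ := g.toNormalization.appTop
  haveI : IsIso ψ.hom.appTop := inferInstanceAs (IsIso (Scheme.Γ.map ψ.hom.op))
  haveI : IsIso ψ.inv.appTop := inferInstanceAs (IsIso (Scheme.Γ.map ψ.inv.op))
  -- sections of the normalization are all sections
  have hgfin : g.appTop.hom.Finite := by
    rw [show g.appTop = (PurityReg.toW D V).appTop ≫ ψ.hom.appTop by rw [hψ, Scheme.Hom.comp_appTop]]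
    exact (RingHom.Finite.of_surjective _ (ConcreteCategory.bijective_of_isIso ψ.hom.appTop).2).comp
      (PurityReg.finite_appTop D V h)
  have hτν : g.fromNormalization.appTop ≫ τ = g.appTop := by
    rw [← Scheme.Hom.comp_appTop, g.toNormalization_fromNormalization]
  have hτ : Function.Bijective τ.hom := by
    have h1 := g.toNormalization_app_preimage ⟨⊤, isAffineOpen_top W⟩
    show Function.Bijective (g.toNormalization.app (g.fromNormalization ⁻¹ᵁ ⊤)).hom
    rw [h1]
    simp only [CommRingCat.hom_comp, RingHom.coe_comp]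
    refine ((ConcreteCategory.bijective_of_isIso _).comp ⟨Subtype.val_injective, fun s => ?_⟩).comp
      (ConcreteCategory.bijective_of_isIso _)
    letI : Algebra Γ(W, ⊤) Γ(S, g ⁻¹ᵁ ⊤) := (g.app ⊤).hom.toAlgebra
    haveI : Module.Finite Γ(W, ⊤) Γ(S, g ⁻¹ᵁ ⊤) := hgfin
    exact ⟨⟨s, IsIntegral.of_finite Γ(W, ⊤) s⟩, rfl⟩
  haveI : IsIso τ := (ConcreteCategory.isIso_iff_bijective _).mpr hτ
  have hνfin : g.fromNormalization.appTop.hom.Finite := by
    have e : g.fromNormalization.appTop = g.appTop ≫ inv τ := by rw [← hτν, Category.assoc, IsIso.hom_inv_id, Category.comp_id]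
    rw [e]
    exact (RingHom.Finite.of_surjective _ (ConcreteCategory.bijective_of_isIso (inv τ)).2).comp hgfin
  refine ⟨(HasAffineProperty.iff_of_isAffine (P := @IsFinite)).mpr ⟨inferInstance, hνfin⟩, fun y hy => ?_⟩
  -- the identification with the sections of `V`
  let E : Γ(N, ⊤) ≅ Γ(V.left, ⊤) := asIso τ ≪≫ (asIso ψ.inv.appTop)
  have hE : g.fromNormalization.appTop ≫ E.hom = (PurityReg.toW D V).appTop := by
    show g.fromNormalization.appTop ≫ τ ≫ ψ.inv.appTop = _
    rw [reassoc_of% hτν, ← Scheme.Hom.comp_appTop, hψ, Iso.inv_hom_id_assoc]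
  letI algS := (PurityReg.toW D V).appTop.hom.toAlgebra
  let x := g.fromNormalization y
  obtain ⟨a, b, hxa, hxb, u, hxu, hreg, hdiv⟩ := PurityReg.exists_regular_pair D V x (h x hy)
  let ν := g.fromNormalization.appTop.hom
  have hEν : ∀ c : Γ(W, ⊤), E.hom.hom (ν c) = algebraMap Γ(W, ⊤) Γ(V.left, ⊤) c := fun c =>
    congrArg (fun φ => φ.hom c) hE
  have hEinj : Function.Injective E.hom.hom := (ConcreteCategory.bijective_of_isIso E.hom).1
  have hr : ∀ n, ν a * n = 0 → ν u * n = 0 := fun n hn => hEinj (by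
    have e := hreg (E.hom.hom n) (by rw [Algebra.smul_def, ← hEν, ← map_mul, hn, map_zero])
    rw [Algebra.smul_def, ← hEν, ← map_mul] at e
    rw [e, map_zero])
  have hd : ∀ n m, ν b * n = ν a * m → ∃ w, ν u * n = ν a * w := fun n m hnm => by
    obtain ⟨w, hw⟩ := hdiv (E.hom.hom n) (E.hom.hom m) (by
      rw [Algebra.smul_def, Algebra.smul_def, ← hEν, ← hEν, ← map_mul, hnm, map_mul])
    obtain ⟨w', rfl⟩ := (ConcreteCategory.bijective_of_isIso E.hom).2 w
    refine ⟨w', hEinj ?_⟩
    rw [map_mul, map_mul, hEν, hEν, ← Algebra.smul_def, ← Algebra.smul_def]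
    exact hw
  -- at the point
  let St := N.presheaf.stalk y
  letI : Algebra Γ(N, ⊤) St := TopCat.Presheaf.algebra_section_stalk N.presheaf (⟨y, trivial⟩ : (⊤ : N.Opens))
  let q := ((isAffineOpen_top N).primeIdealOf ⟨y, trivial⟩).asIdeal
  haveI : IsLocalization.AtPrime St q := (isAffineOpen_top N).isLocalization_stalk ⟨y, trivial⟩
  have hunit : ∀ c : Γ(W, ⊤), x ∈ W.basicOpen c ↔ IsUnit (algebraMap Γ(N, ⊤) St (ν c)) := fun c => by
    show y ∈ g.fromNormalization ⁻¹ᵁ W.basicOpen c ↔ _
    rw [Scheme.preimage_basicOpen]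
    exact N.mem_basicOpen_top (ν c) y
  let α := algebraMap Γ(N, ⊤) St
  have hu : IsUnit (α (ν u)) := (hunit u).mp hxu
  have hmem : ∀ r ∈ [α (ν a), α (ν b)], r ∈ IsLocalRing.maximalIdeal St := by
    simp only [List.mem_cons, List.not_mem_nil, or_false, forall_eq_or_imp, forall_eq]
    exact ⟨fun h' => hxa ((hunit a).mpr h'), fun h' => hxb ((hunit b).mpr h')⟩
  refine le_trans (le_of_eq ?_) (Depth.le_idealDepth_of_isWeaklyRegular (M := St) (rs := [α (ν a), α (ν b)]) ?_ hmem)
  · rfl
  rw [RingTheory.Sequence.isWeaklyRegular_cons_iff, RingTheory.Sequence.isWeaklyRegular_cons_iff]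
  refine ⟨?_, ?_, RingTheory.Sequence.IsWeaklyRegular.nil _ _⟩
  · rw [isSMulRegular_iff_right_eq_zero_of_smul]
    intro z hz
    obtain ⟨⟨n, t⟩, hnt⟩ := IsLocalization.surj q.primeCompl z
    have h0 : α (ν a * n) = 0 := by
      rw [map_mul, show α n = z * α t from hnt.symm, ← mul_assoc, show α (ν a) * z = 0 from hz, zero_mul]
    obtain ⟨⟨s, hs⟩, hsn⟩ := (IsLocalization.map_eq_zero_iff q.primeCompl St _).mp h0
    have h2 := congrArg α (hr (s * n) (by rw [mul_left_comm]; exact hsn))
    rw [map_mul, map_mul, map_zero, show α n = z * α t from hnt.symm] at h2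
    exact (IsLocalization.map_units St t).mul_left_eq_zero.mp
      ((IsLocalization.map_units St (⟨s, hs⟩ : q.primeCompl)).mul_right_eq_zero.mp (hu.mul_right_eq_zero.mp h2))
  · refine (isSMulRegular_quotient_iff_mem_of_smul_mem _ _).mpr fun z hz => ?_
    obtain ⟨c, -, hc⟩ := hz
    obtain ⟨⟨n, t⟩, hnt⟩ := IsLocalization.surj q.primeCompl z
    obtain ⟨⟨m, t'⟩, hmt⟩ := IsLocalization.surj q.primeCompl c
    have h0 : α (ν b * (n * t')) = α (ν a * (m * t)) := by
      simp only [map_mul]
      rw [show α n = z * α t from hnt.symm, show α m = c * α t' from hmt.symm]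
      have hc' : α (ν a) * c = α (ν b) * z := hc
      linear_combination -(α t * α t') * hc'
    obtain ⟨⟨s, hs⟩, hsn⟩ := (IsLocalization.eq_iff_exists q.primeCompl St).mp h0
    obtain ⟨w, hw⟩ := hd (s * (n * t')) (s * (m * t)) (by
      rw [mul_left_comm, mul_left_comm (ν a)]
      exact hsn)
    have h2 := congrArg α hw
    simp only [map_mul] at h2
    rw [show α n = z * α t from hnt.symm] at h2
    have hU : IsUnit (α (ν u) * (α s * (α t * α t'))) :=
      hu.mul ((IsLocalization.map_units St (⟨s, hs⟩ : q.primeCompl)).mul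
        ((IsLocalization.map_units St t).mul (IsLocalization.map_units St t')))
    refine ⟨α w * ↑hU.unit⁻¹, trivial, ?_⟩
    show α (ν a) * (α w * ↑hU.unit⁻¹) = z
    have h3 := hU.val_inv_mul
    linear_combination -(↑hU.unit⁻¹ : St) * h2 + z * h3

open AlgebraicGeometry CategoryTheory CategoryTheory.Limits in
/-- Let X be a locally Noetherian scheme, U ⊆ X an open subscheme such that at every point x outside U
the local ring 𝒪_{X,x} has depth at least 2, and V → U a finite étale cover. Then there exist a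
scheme Y and a finite morphism π : Y → X whose restriction π⁻¹(U) → U is isomorphic to V over U, and
such that at every point y of Y with π(y) outside U the local ring 𝒪_{Y,y} has depth at least 2.
(Existence only; uniqueness is not asserted here.) -/
theorem result {X : Scheme.{u}} [IsLocallyNoetherian X] (U : X.Opens)
    (hU : ∀ x : X, x ∉ U → (2 : ℕ∞) ≤ LocCoh.depth (X.presheaf.stalk x) (X.presheaf.stalk x)) (V : FEt.Cat (U : Scheme.{u})) :
    ∃ (Y : Scheme.{u}) (π : Y ⟶ X) (e : pullback π U.ι ≅ V.left), IsFinite π ∧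
      e.hom ≫ V.hom = pullback.snd π U.ι ∧
      ∀ y : Y, π.base y ∉ U → (2 : ℕ∞) ≤ LocCoh.depth (Y.presheaf.stalk y) (Y.presheaf.stalk y) := by
  let g : V.left ⟶ X := V.hom ≫ U.ι
  let ν := g.fromNormalization
  have hloc : ∀ W : X.Opens, IsAffineOpen W → IsFinite (pullback.snd ν W.ι) ∧
      ∀ y : (pullback ν W.ι : Scheme.{u}), pullback.snd ν W.ι y ∉ W.ι ⁻¹ᵁ U →
        (2 : ℕ∞) ≤ LocCoh.depth ((pullback ν W.ι : Scheme.{u}).presheaf.stalk y) ((pullback ν W.ι : Scheme.{u}).presheaf.stalk y) := by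
    intro W hW
    haveI : IsAffine (W : Scheme.{u}) := hW
    let D : (W : Scheme.{u}).Opens := W.ι ⁻¹ᵁ U
    let r : (D : Scheme.{u}) ⟶ U := IsOpenImmersion.lift U.ι (D.ι ≫ W.ι) (by
      rw [Scheme.Opens.range_ι]
      rintro _ ⟨z, rfl⟩
      exact z.2)
    have hr : r ≫ U.ι = D.ι ≫ W.ι := IsOpenImmersion.lift_fac _ _ _
    have hD : ∀ x : (W : Scheme.{u}), x ∉ D → (2 : ℕ∞) ≤ LocCoh.depth ((W : Scheme.{u}).presheaf.stalk x) ((W : Scheme.{u}).presheaf.stalk x) := fun x hx =>
      (hU x.1 hx).trans (HartogsAffine.depth_congr_ringEquiv (W.stalkIso x).commRingCatIsoToRingEquiv.symm).ge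
    have hsq : IsPullback r D.ι U.ι W.ι := IsOpenImmersion.isPullback _ _ _ _ hr.symm (by
      rw [Scheme.Opens.opensRange_ι, Scheme.Opens.opensRange_ι])
    have hP := (IsPullback.of_hasPullback V.hom r).paste_vert hsq
    obtain ⟨hfin, hdep⟩ := affine_case D ((FEt.restrict r).obj V) hD (pullback.snd g W.ι) hP.isoPullback.symm
      (Iso.eq_inv_comp _ |>.mpr hP.isoPullback_hom_snd).symm.symm
    have he : pullback.snd ν W.ι = inv (g.normalizationPullback W.ι) ≫ (pullback.snd g W.ι).fromNormalization :=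
      (IsIso.eq_inv_comp _).mpr (Scheme.Hom.normalizationPullback_snd g W.ι)
    refine ⟨?_, fun y hy => ?_⟩
    · rw [he]; infer_instance
    · let k := inv (g.normalizationPullback W.ι)
      haveI : LocallyOfFiniteType (pullback.snd g W.ι).fromNormalization := inferInstance
      haveI := LocallyOfFiniteType.isLocallyNoetherian (Y := (W : Scheme.{u})) (pullback.snd g W.ι).fromNormalization
      haveI := isLocallyNoetherian_of_isOpenImmersion k
      refine (hdep (k y) ?_).trans (HartogsAffine.depth_congr_ringEquiv (asIso (k.stalkMap y)).commRingCatIsoToRingEquiv).ge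
      rw [← Scheme.Hom.comp_apply, ← he]
      exact hy
  let 𝒰 := X.openCoverOfIsOpenCover (fun W : X.affineOpens => W.1) (iSup_affineOpens_eq_top X)
  haveI : IsFinite ν := IsZariskiLocalAtTarget.of_openCover 𝒰 fun W => (hloc W.1 W.2).1
  -- over `U` the normalization is `V`
  have hUU : IsPullback (𝟙 (U : Scheme.{u})) (𝟙 _) U.ι U.ι := IsKernelPair.id_of_mono U.ι
  have hP := (IsPullback.of_id_fst (f := V.hom)).paste_vert hUU
  let ψ := hP.isoPullback
  have hψ : ψ.hom ≫ pullback.snd g U.ι = V.hom := hP.isoPullback_hom_snd.trans (Category.comp_id _)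
  haveI : IsIntegralHom (pullback.snd g U.ι) := by
    have : pullback.snd g U.ι = ψ.inv ≫ V.hom := by rw [Iso.eq_inv_comp, hψ]
    rw [this]
    infer_instance
  let t := ψ.hom ≫ (pullback.snd g U.ι).toNormalization ≫ g.normalizationPullback U.ι
  have ht : t ≫ pullback.snd ν U.ι = V.hom := by
    refine Eq.trans ?_ hψ
    refine (Category.assoc _ _ _).trans (congrArg (ψ.hom ≫ ·) ?_)
    refine (Category.assoc _ _ _).trans ?_
    exact (congrArg ((pullback.snd g U.ι).toNormalization ≫ ·) (Scheme.Hom.normalizationPullback_snd g U.ι)).trans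
      (Scheme.Hom.toNormalization_fromNormalization _)
  haveI : IsIso (pullback.snd g U.ι).toNormalization := inferInstance
  haveI : IsIso (g.normalizationPullback U.ι) := inferInstance
  haveI : IsIso t := @IsIso.comp_isIso _ _ _ _ _ ψ.hom _ inferInstance inferInstance
  refine ⟨g.normalization, ν, (@asIso _ _ _ _ t ‹IsIso t›).symm, ‹_›, ?_, fun y hy => ?_⟩
  · exact (Iso.inv_comp_eq _).mpr ht.symm
  · obtain ⟨_, ⟨W, hW, rfl⟩, hyW, -⟩ :=
      X.isBasis_affineOpens.exists_subset_of_mem_open (Set.mem_univ (ν y)) isOpen_univ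
    haveI := LocallyOfFiniteType.isLocallyNoetherian ν
    haveI := isLocallyNoetherian_of_isOpenImmersion (pullback.fst ν (Scheme.Opens.ι W))
    obtain ⟨z, rfl⟩ : ∃ z, pullback.fst ν (Scheme.Opens.ι W) z = y := by
      have : y ∈ Set.range (pullback.fst ν (Scheme.Opens.ι W)) := by
        rw [Scheme.Pullback.range_fst, Scheme.Opens.range_ι]; exact hyW
      exact this
    have hz : pullback.snd ν (Scheme.Opens.ι W) z ∉ Scheme.Opens.ι W ⁻¹ᵁ U := fun h' => hy (by
      show ν (pullback.fst ν (Scheme.Opens.ι W) z) ∈ U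
      rw [← Scheme.Hom.comp_apply, pullback.condition, Scheme.Hom.comp_apply]
      exact h')
    exact ((hloc W hW).2 z hz).trans
      (HartogsAffine.depth_congr_ringEquiv (asIso ((pullback.fst ν (Scheme.Opens.ι W)).stalkMap z)).commRingCatIsoToRingEquiv).le

end Groth.Agent.S0292
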