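import Groth.Statements.S18423
import Groth.Agent.TraceEtale.Basic

set_option autoImplicit false
universe u v
open Pi1

namespace Groth.Agent.S18423

/-- Let A be a Noetherian local ring of Krull dimension at least 2 and B a finite flat commutative
A-algebra. If B is etale over A at every prime of B lying over a non-maximal prime of A (that is,
Spec B is etale over the punctured spectrum of A), then B is etale over A. -/
theorem result (A : Type u) (B : Type v) [CommRing A] [CommRing B]
    [Algebra A B] [IsNoetherianRing A] [IsLocalRing A] (hdim : (2 : WithBot ℕ∞) ≤ ringKrullDim A)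
    [Module.Finite A B] [Module.Flat A B]
    (h : ∀ q : PrimeSpectrum B, q.asIdeal.comap (algebraMap A B) ≠ IsLocalRing.maximalIdeal A →
      Algebra.IsEtaleAt A q.asIdeal) :
    Algebra.Etale A B := by
  classical
  have : Module.Free A B := Module.free_of_flat_of_isLocalRing
  let b := Module.Free.chooseBasis A B
  set d := Algebra.discr A b with hd
  have : Algebra.FinitePresentation A B := by
    have := Module.finitePresentation_of_finite A B
    exact .of_finitePresentation A B
  suffices hu : IsUnit d by
    exact Groth.Agent.TraceEtale.Basic.etale_of_bijective A B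
      ((Groth.Agent.TraceEtale.Basic.isUnit_discr_iff b).mp hu)
  by_contra hnu
  have key : ∀ f ∈ IsLocalRing.maximalIdeal A, f ∈ (Ideal.span {d}).radical := by
    intro f hf
    let M : Submonoid A := Submonoid.powers f
    let Am := Localization M
    let Bm := Localization (Algebra.algebraMapSubmonoid B M)
    have hsub : ↑(PrimeSpectrum.basicOpen (algebraMap A B f)) ⊆ Algebra.etaleLocus A B := fun q hq =>
      h q fun he => hq (show algebraMap A B f ∈ q.asIdeal from Ideal.mem_comap.mp (by rw [he]; exact hf))
    have h1 : Algebra.Etale A (Localization.Away (algebraMap A B f)) :=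
      Algebra.basicOpen_subset_etaleLocus_iff_etale.mp hsub
    have : IsLocalization.Away (algebraMap A B f) Bm := by
      have hM : Algebra.algebraMapSubmonoid B M = Submonoid.powers (algebraMap A B f) :=
        Submonoid.map_powers _ _
      have : IsLocalization (Algebra.algebraMapSubmonoid B M) Bm := inferInstance
      unfold IsLocalization.Away
      rwa [← hM]
    have : Algebra.Etale A Bm := Algebra.Etale.of_equiv
      ((IsLocalization.algEquiv (Submonoid.powers (algebraMap A B f))
        (Localization.Away (algebraMap A B f)) Bm).restrictScalars A)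
    have : Algebra.FormallyUnramified Am Bm := Algebra.FormallyUnramified.of_restrictScalars A Am Bm
    let bm := b.localizationLocalization Am M Bm
    have : Module.Free Am Bm := Module.Free.of_basis bm
    have : Module.Finite Am Bm := Module.Finite.of_basis bm
    have h2 : IsUnit (Algebra.discr Am bm) := (Groth.Agent.TraceEtale.Basic.isUnit_discr_iff bm).mpr
      (Groth.Agent.TraceEtale.Basic.bijective_traceForm Am Bm)
    rw [Algebra.discr_localizationLocalization, IsLocalization.algebraMap_isUnit_iff M] at h2
    obtain ⟨m, ⟨k, rfl⟩, hm⟩ := h2
    exact ⟨k, Ideal.mem_span_singleton.mpr hm⟩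
  have hmin : IsLocalRing.maximalIdeal A ∈ (Ideal.span {d}).minimalPrimes := by
    refine ⟨⟨inferInstance, (Ideal.span_singleton_le_iff_mem _).mpr ((IsLocalRing.mem_maximalIdeal d).mpr hnu)⟩, ?_⟩
    rintro q ⟨hq, hdq⟩ - f hf
    exact hq.radical_le_iff.mpr hdq (key f hf)
  have hle := Ideal.height_le_one_of_isPrincipal_of_mem_minimalPrimes _ _ hmin
  rw [← IsLocalRing.maximalIdeal_height_eq_ringKrullDim] at hdim
  exact absurd (hdim.trans (WithBot.coe_le_coe.mpr hle)) (by norm_num)

end Groth.Agent.S18423
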