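import Groth.Statements.S0293
import Groth.Agent.EtStruct.Scheme
import Groth.Agent.Depth.Local
import Groth.Agent.S18423
-- import your own Groth.Agent.* helpers here

set_option autoImplicit false
universe u
open Pi1

namespace Groth.Agent.S0293

set_option backward.isDefEq.respectTransparency.types false
set_option linter.style.haveILetI false

open AlgebraicGeometry CategoryTheory CategoryTheory.Limits

theorem isEtaleAt_of_height (A B : Type u) [CommRing A] [CommRing B] [Algebra A B] [IsNoetherianRing A]
    [Module.Finite A B] [Module.Flat A B]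
    (h : ∀ P : PrimeSpectrum B, (P.asIdeal.comap (algebraMap A B)).height < 2 → Algebra.IsEtaleAt A P.asIdeal)
    (P : PrimeSpectrum B) : Algebra.IsEtaleAt A P.asIdeal := by
  classical
  induction hn : (P.asIdeal.comap (algebraMap A B)).height using WellFoundedLT.induction generalizing P with
  | _ n ih =>
  subst hn
  rcases lt_or_ge (P.asIdeal.comap (algebraMap A B)).height 2 with hlt | hge
  · exact h P hlt
  set p := P.asIdeal.comap (algebraMap A B) with hp
  let Am := Localization.AtPrime p
  let Bm := Localization (Algebra.algebraMapSubmonoid B p.primeCompl)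
  have : Module.Finite Am Bm := Module.Finite.of_isLocalization A B p.primeCompl
  have : Module.Flat Am Bm := (Module.flat_iff_of_isLocalization Am p.primeCompl _).mpr
    (Module.Flat.trans A B Bm)
  have hloc : ∀ (Q : Ideal Bm) [Q.IsPrime],
      IsLocalization.AtPrime (Localization.AtPrime Q) (Q.comap (algebraMap B Bm)) := fun Q _ =>
    IsLocalization.isLocalization_isLocalization_atPrime_isLocalization
      (Algebra.algebraMapSubmonoid B p.primeCompl) (Localization.AtPrime Q) Q
  have hiso : ∀ (Q : Ideal Bm) [Q.IsPrime],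
      Algebra.IsEtaleAt A (Q.comap (algebraMap B Bm)) ↔ Algebra.FormallyEtale A (Localization.AtPrime Q) :=
    fun Q _ => by
      haveI := hloc Q
      exact Algebra.FormallyEtale.iff_of_equiv ((IsLocalization.algEquiv (Q.comap (algebraMap B Bm)).primeCompl
        (Localization.AtPrime (Q.comap (algebraMap B Bm))) (Localization.AtPrime Q)).restrictScalars A)
  have : Algebra.Etale Am Bm := by
    refine Groth.Agent.S18423.result Am Bm ?_ fun Q hQ => ?_
    · rw [IsLocalization.AtPrime.ringKrullDim_eq_height p Am]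
      exact WithBot.coe_le_coe.mpr hge
    · let q : PrimeSpectrum B := ⟨Q.asIdeal.comap (algebraMap B Bm), inferInstance⟩
      have hq : q.asIdeal.comap (algebraMap A B) = (Q.asIdeal.comap (algebraMap Am Bm)).comap (algebraMap A Am) := by
        rw [Ideal.comap_comap, Ideal.comap_comap, ← IsScalarTower.algebraMap_eq, ← IsScalarTower.algebraMap_eq]
      have hlt : q.asIdeal.comap (algebraMap A B) < p := by
        have h1 : Q.asIdeal.comap (algebraMap Am Bm) < IsLocalRing.maximalIdeal Am :=
          lt_of_le_of_ne (IsLocalRing.le_maximalIdeal (Ideal.IsPrime.ne_top inferInstance)) hQ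
        have h2 : (IsLocalRing.maximalIdeal Am).comap (algebraMap A Am) = p := IsLocalization.AtPrime.under_maximalIdeal Am p
        refine lt_of_le_of_ne ((le_of_eq hq).trans ((Ideal.comap_mono (f := algebraMap A Am) h1.le).trans (le_of_eq h2))) fun e => hQ ?_
        rw [← IsLocalization.map_under p.primeCompl Am (Q.asIdeal.comap (algebraMap Am Bm)),
          ← IsLocalization.map_under p.primeCompl Am (IsLocalRing.maximalIdeal Am)]
        exact congrArg (Ideal.map (algebraMap A Am)) ((hq.symm.trans e).trans h2.symm)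
      have := (hiso Q.asIdeal).mp (ih _ (Ideal.height_strict_mono_of_isPrime hlt) q rfl)
      exact Algebra.FormallyEtale.localization_base p.primeCompl
  have hd : Disjoint (Algebra.algebraMapSubmonoid B p.primeCompl : Set B) (P.asIdeal : Set B) := by
    rw [Set.disjoint_left]
    rintro _ ⟨a, ha, rfl⟩ hP
    exact ha hP
  let Q := P.asIdeal.map (algebraMap B Bm)
  have : Q.IsPrime := IsLocalization.isPrime_of_isPrime_disjoint _ Bm _ P.2 hd
  have hQ : Q.comap (algebraMap B Bm) = P.asIdeal :=
    IsLocalization.comap_map_of_isPrime_disjoint _ Bm P.2 hd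
  have : Algebra.FormallyEtale A Am := Algebra.FormallyEtale.of_isLocalization p.primeCompl
  have : Algebra.FormallyEtale A Bm := Algebra.FormallyEtale.comp A Am Bm
  have : Algebra.FormallyEtale Bm (Localization.AtPrime Q) := Algebra.FormallyEtale.of_isLocalization Q.primeCompl
  have := (hiso Q).mpr (Algebra.FormallyEtale.comp A Bm _)
  convert this using 2
  exact hQ.symm

open AlgebraicGeometry CategoryTheory CategoryTheory.Limits in
/-- Let X be a locally Noetherian scheme, U ⊆ X an open subset such that the local rings of X at points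
outside U have depth at least 2, and π : Y → X a finite morphism which is étale over U and such that
the local rings of Y at points outside the preimage of U have depth at least 2. Then π is étale if
and only if it is flat. -/
theorem result {X : Scheme.{u}} [IsLocallyNoetherian X] (U : X.Opens)
    (hU : ∀ x : X, x ∉ U → (2 : ℕ∞) ≤ LocCoh.depth (X.presheaf.stalk x) (X.presheaf.stalk x)) {Y : Scheme.{u}} (π : Y ⟶ X)
    [IsFinite π] [Etale (pullback.snd π U.ι)]
    (hY : ∀ y : Y, π.base y ∉ U → (2 : ℕ∞) ≤ LocCoh.depth (Y.presheaf.stalk y) (Y.presheaf.stalk y)) :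
    Etale π ↔ Flat π := by
  refine ⟨fun h => inferInstance, fun hflat => ?_⟩
  have hU' : ∀ y : Y, π.base y ∈ U → (π.stalkMap y).hom.FormallyUnramified := fun y hy => by
    refine (EtStruct.formallyUnramified_nhd_iff π y).mp ⟨π ⁻¹ᵁ U, hy, ?_⟩
    have : Etale (π ∣_ U) := (MorphismProperty.arrow_mk_iso_iff @Etale
      (Arrow.isoMk (pullbackRestrictIsoRestrict π U).symm (Iso.refl _) (by rw [← pullbackRestrictIsoRestrict_hom_morphismRestrict]; exact ((pullbackRestrictIsoRestrict π U).inv_hom_id_assoc _).trans (Category.comp_id _).symm))).mpr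
      (‹Etale (pullback.snd π U.ι)›)
    rw [← morphismRestrict_ι]
    infer_instance
  have hu : ∀ y : Y, (π.stalkMap y).hom.FormallyUnramified := fun y => by
    obtain ⟨_, ⟨V, hV, rfl⟩, hxV, -⟩ :=
      X.isBasis_affineOpens.exists_subset_of_mem_open (Set.mem_univ (π y)) isOpen_univ
    have hW : IsAffineOpen (π ⁻¹ᵁ V) := hV.preimage π
    algebraize [(π.appLE V (π ⁻¹ᵁ V) le_rfl).hom]
    have hN : IsNoetherianRing Γ(X, V) := IsLocallyNoetherian.component_noetherian ⟨V, hV⟩
    have : Module.Finite Γ(X, V) Γ(Y, π ⁻¹ᵁ V) := by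
      have := IsFinite.finite_app π V hV
      rwa [Scheme.Hom.app_eq_appLE] at this
    have hfl : ∀ (z : Y) (hz : z ∈ π ⁻¹ᵁ V), Module.Flat Γ(X, V)
        (Localization.AtPrime (hW.primeIdealOf ⟨z, hz⟩).asIdeal) := fun z hz =>
      (EtStruct.flat_stalkMap_iff π hV hW le_rfl hz).mp (Flat.stalkMap π z)
    have : Module.Flat Γ(X, V) Γ(Y, π ⁻¹ᵁ V) := HasRingHomProperty.appLE @Flat π inferInstance ⟨V, hV⟩ ⟨_, hW⟩ le_rfl
    have hall := isEtaleAt_of_height Γ(X, V) Γ(Y, π ⁻¹ᵁ V) fun P hP => by
      obtain ⟨z, hz, rfl⟩ : ∃ (z : Y) (hz : z ∈ π ⁻¹ᵁ V), hW.primeIdealOf ⟨z, hz⟩ = P :=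
        ⟨hW.fromSpec P, hW.range_fromSpec.le ⟨P, rfl⟩,
          hW.fromSpec.isOpenEmbedding.injective (IsAffineOpen.fromSpec_primeIdealOf _ _)⟩
      have hzU : π.base z ∈ U := by
        by_contra hzU
        let _ : Algebra Γ(X, V) (X.presheaf.stalk (π z)) :=
          TopCat.Presheaf.algebra_section_stalk X.presheaf ⟨π z, hz⟩
        have := hV.isLocalization_stalk ⟨π z, hz⟩
        have h2 : (2 : WithBot ℕ∞) ≤ ringKrullDim (X.presheaf.stalk (π z)) :=
          le_trans (WithBot.coe_le_coe.mpr (hU _ hzU))
            ((Groth.Agent.Depth.depth_le_supportDim).trans (Module.supportDim_le_ringKrullDim _ _))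
        rw [IsLocalization.AtPrime.ringKrullDim_eq_height (hV.primeIdealOf ⟨π z, hz⟩).asIdeal,
          ← IsAffineOpen.comap_primeIdealOf_appLE V hV (π ⁻¹ᵁ V) hW le_rfl hz] at h2
        exact absurd (WithBot.coe_le_coe.mp h2) (not_le.mpr hP)
      have := (EtStruct.formallyUnramified_stalkMap_iff π hV hW le_rfl hz).mp (hU' z hzU)
      have := hfl z hz
      exact EtStruct.isEtaleAt_of_isUnramifiedAt_of_flat _
    refine (EtStruct.formallyUnramified_stalkMap_iff π hV hW le_rfl hxV).mpr ?_
    have := hall (hW.primeIdealOf ⟨y, hxV⟩)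
    exact inferInstanceAs (Algebra.FormallyUnramified _ _)
  have : LocallyOfFinitePresentation π := inferInstance
  choose W hW hE using fun y => (EtStruct.etale_nhd_iff π y).mpr ⟨hu y, Flat.stalkMap π y⟩
  exact (IsZariskiLocalAtSource.iff_of_openCover (Y.openCoverOfIsOpenCover W
    (TopologicalSpace.IsOpenCover.mk (eq_top_iff.mpr fun y _ => TopologicalSpace.Opens.mem_iSup.mpr ⟨y, hW y⟩)))).mpr hE

end Groth.Agent.S0293
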