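import Groth.Statements.S0297
import Groth.Agent.FEtCat.Galois
import Groth.Agent.GalCat.Unique

set_option autoImplicit false
universe u
open Pi1

namespace Groth.Agent.S0297

open AlgebraicGeometry CategoryTheory CategoryTheory.Limits in
/-- For a connected scheme X and geometric points ξ : Spec Ω → X and ξ' : Spec Ω' → X (Ω, Ω'
algebraically closed fields), every morphism of functors from the fibre functor at ξ to the fibre
functor at ξ' on finite étale covers of X is an isomorphism. -/
theorem result {X : Scheme.{u}} [ConnectedSpace X] {Ω Ω' : Type u} [Field Ω]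
    [IsAlgClosed Ω] [Field Ω'] [IsAlgClosed Ω'] (ξ : Spec (CommRingCat.of Ω) ⟶ X)
    (ξ' : Spec (CommRingCat.of Ω') ⟶ X) (φ : FEt.fiber ξ ⟶ FEt.fiber ξ') : IsIso φ := by
  have : GaloisCategory (FEt.Cat X) := Groth.Agent.FEtCat.Galois.galoisCategory
  let F := Groth.Agent.FEtCat.Basic.fibre ξ
  obtain ⟨e⟩ := Groth.Agent.GalCat.Unique.nonempty_iso_of_exact F (Groth.Agent.FEtCat.Basic.fibre ξ')
  let ψ : F ⟶ Groth.Agent.FEtCat.Basic.fibre ξ' :=
    { app := fun Y => FintypeCat.homMk (φ.app Y)
      naturality := fun Y Z g => by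
        ext s
        exact ConcreteCategory.congr_hom (φ.naturality g) s }
  have h1 : IsIso (ψ ≫ e.hom) := PreGaloisCategory.FibreFunctor.end_isIso F (ψ ≫ e.hom)
  have : IsIso ψ := IsIso.of_isIso_comp_right ψ e.hom
  rw [NatTrans.isIso_iff_isIso_app]
  intro Y
  have : IsIso (ψ.app Y) := ((asIso ψ).app Y).isIso_hom
  exact Functor.map_isIso FintypeCat.incl (ψ.app Y)

end Groth.Agent.S0297
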