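import Groth.Statements.S0332
import Groth.Agent.LocCohSweep.HLVT

set_option autoImplicit false
universe u v
open LocCoh

namespace Groth.Agent.S0332

/-- Let R be Noetherian local of dimension d with completion R^; suppose that for every minimal prime p
of R^ with dim R^/p = d the quotient of R^ by I R^ + p has Krull dimension at least 1 (i.e. some
prime containing I R^ + p is not maximal). Then local cohomology with support in I vanishes in all
degrees ≥ d for every module. -/
theorem result (R : Type u) [CommRing R] [IsLocalRing R] [IsNoetherianRing R] (I : Ideal R) (d : ℕ) (hd : ringKrullDim R = d) (h : ∀ p ∈ minimalPrimes (AdicCompletion (IsLocalRing.maximalIdeal R) R), ringKrullDim (AdicCompletion (IsLocalRing.maximalIdeal R) R ⧸ p) = d → 1 ≤ ringKrullDim (AdicCompletion (IsLocalRing.maximalIdeal R) R ⧸ (I.map (algebraMap R (AdicCompletion (IsLocalRing.maximalIdeal R) R)) ⊔ p))) (M : Type u) [AddCommGroup M] [Module R M] (i : ℕ) (hi : d ≤ i) : Subsingleton (LocCoh.H I i M) := by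
  have : IsNoetherianRing (AdicCompletion (IsLocalRing.maximalIdeal R) R) :=
    RegLoc.Completion.isNoetherianRing_adicCompletion' _
  have : Module.FaithfullyFlat R (AdicCompletion (IsLocalRing.maximalIdeal R) R) :=
    Module.FaithfullyFlat.of_flat_of_isLocalHom
  have : IsAdicComplete (IsLocalRing.maximalIdeal (AdicCompletion (IsLocalRing.maximalIdeal R) R))
      (AdicCompletion (IsLocalRing.maximalIdeal R) R) := by
    rw [AdicCompletion.maximalIdeal_eq_map, IsAdicComplete.map_algebraMap_iff]
    exact AdicCompletion.isAdicComplete (IsNoetherian.noetherian _)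
  have hd' : ringKrullDim (AdicCompletion (IsLocalRing.maximalIdeal R) R) = d :=
    (RegLoc.Completion.ringKrullDim_completion R).trans hd
  exact LocCoh.subsingleton_H_of_forall_tensor
    (fun _ : PUnit.{1} => AdicCompletion (IsLocalRing.maximalIdeal R) R)
    (fun N _ _ hN => by
      have := hN ⟨⟩
      exact Module.FaithfullyFlat.lTensor_reflects_triviality R (AdicCompletion (IsLocalRing.maximalIdeal R) R) N)
    I i (ModuleCat.of R M) fun _ =>
      LocCohSweep.HLVT.subsingleton_H_complete _ d hd' (I.map (algebraMap R _)) h _ i hi

end Groth.Agent.S0332
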