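import Groth.Statements.S0337
import Mathlib.RingTheory.Nakayama
import Mathlib.RingTheory.OrzechProperty
import Mathlib.LinearAlgebra.Isomorphisms

set_option autoImplicit false
universe u v
open CategoryTheory
open LocCoh

namespace Groth.Agent.S0337

open IsLocalRing

/-- a presentation with all relations in the maximal ideal -/
theorem exists_minimal (R : Type u) [CommRing R] [IsLocalRing R] (M : Type u) [AddCommGroup M] [Module R M]
    [Module.Finite R M] :
    ∃ (r : ℕ) (f : (Fin r → R) →ₗ[R] M), Function.Surjective f ∧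
      ∀ x, f x = 0 → ∀ i, x i ∈ maximalIdeal R := by
  classical
  have hex : ∃ r, ∃ f : (Fin r → R) →ₗ[R] M, Function.Surjective f := Module.Finite.exists_fin' R M
  obtain ⟨f, hf⟩ := Nat.find_spec hex
  refine ⟨_, f, hf, fun x hx i => ?_⟩
  by_contra hi
  obtain ⟨v, hv⟩ := (IsLocalRing.notMem_maximalIdeal.1 hi).exists_left_inv
  obtain ⟨k, hk⟩ : ∃ k, Nat.find hex = k + 1 := ⟨_, (Nat.succ_pred_eq_of_pos (Fin.pos i)).symm⟩
  refine Nat.find_min hex (m := k) (by omega) ?_
  let e : Fin k → Fin (Nat.find hex) := fun j => Fin.cast hk.symm ((Fin.cast hk i).succAbove j)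
  refine ⟨Fintype.linearCombination R fun j => f (Pi.single (e j) 1), fun m => ?_⟩
  obtain ⟨y, rfl⟩ := hf m
  let z := y - (y i * v) • x
  have hz : z i = 0 := by simp [z, mul_assoc, hv]
  refine ⟨fun j => z (e j), ?_⟩
  have hfz : f y = f z := by simp [z, map_sub, hx]
  rw [hfz, Fintype.linearCombination_apply]
  conv_rhs => rw [pi_eq_sum_univ' z, map_sum]
  have he : ∀ j, e j ≠ i := fun j h => Fin.succAbove_ne (Fin.cast hk i) j (by
    have := congrArg (Fin.cast hk) h
    simpa [e] using this)
  have hinj : Function.Injective e := fun a b h => Fin.succAbove_right_injective (Fin.cast_injective _ h)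
  rw [← Finset.sum_subset (Finset.subset_univ (Finset.univ.image e)) fun j _ hj => ?_]
  · rw [Finset.sum_image hinj.injOn]
    simp [map_smul]
  · have hji : j = i := by
      by_contra hji
      obtain ⟨l, hl⟩ := Fin.exists_succAbove_eq (show Fin.cast hk j ≠ Fin.cast hk i from
        fun h => hji (Fin.cast_injective _ h))
      refine hj (Finset.mem_image.2 ⟨l, Finset.mem_univ _, ?_⟩)
      simp [e, hl]
    rw [hji, hz, zero_smul, map_zero]


/-- the argument, for any module with the universal property of the Frobenius pullback -/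
theorem core (p : ℕ) [Fact p.Prime] (R : Type u) [CommRing R] [IsLocalRing R] [IsNoetherianRing R] [CharP R p]
    (M : Type u) [AddCommGroup M] [Module R M] [Module.Finite R M] (F : ModuleCat.{u} R)
    (η : ModuleCat.of R M ⟶ (ModuleCat.restrictScalars (frobenius R p)).obj F)
    (huniv : ∀ N : ModuleCat.{u} R, Function.Bijective fun q : F ⟶ N =>
      η ≫ (ModuleCat.restrictScalars (frobenius R p)).map q)
    (eM : F ≅ ModuleCat.of R M) : Module.Free R M := by
  classical
  obtain ⟨r, f, hf, hfm⟩ := exists_minimal R M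
  let φ := frobenius R p
  let J : Ideal R := Ideal.span {a | ∃ x, f x = 0 ∧ ∃ i, x i = a}
  have hJ : ∀ x, f x = 0 → ∀ i, x i ∈ J := fun x hx i => Ideal.subset_span ⟨x, hx, i, rfl⟩
  have hJm : J ≤ maximalIdeal R := Ideal.span_le.2 fun a ⟨x, hx, i, hi⟩ => hi ▸ hfm x hx i
  let J' : Ideal R := J.map φ
  let ι : M → F := fun m => η.hom m
  let g : (Fin r → R) →ₗ[R] M :=
    eM.hom.hom.comp (Fintype.linearCombination R fun j => ι (f (Pi.single j 1)))
  -- the kernel of `g` has coordinates in `J'`
  have hg : ∀ w, g w = 0 → ∀ i, w i ∈ J' := by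
    let N := ModuleCat.of R (Fin r → R ⧸ J')
    let L : (Fin r → R) →ₗ[R] ((ModuleCat.restrictScalars φ).obj N : ModuleCat.{u} R) :=
      { toFun := fun x => (fun i => Ideal.Quotient.mk J' (φ (x i)) : Fin r → R ⧸ J')
        map_add' := fun x y => funext fun i => by
          show Ideal.Quotient.mk J' (φ (x i + y i)) = _
          rw [map_add, map_add]
          rfl
        map_smul' := fun c x => funext fun i => by
          show Ideal.Quotient.mk J' (φ (c * x i)) = φ c • Ideal.Quotient.mk J' (φ (x i))
          rw [map_mul]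
          rfl }
    have hL : LinearMap.ker f ≤ LinearMap.ker L := fun x hx => funext fun i =>
      (Ideal.Quotient.eq_zero_iff_mem).2 (Ideal.mem_map_of_mem φ (hJ x hx i))
    let T : ModuleCat.{u} R := (ModuleCat.restrictScalars φ).obj N
    let l : M →ₗ[R] T := ((LinearMap.ker f).liftQ L hL).comp (f.quotKerEquivOfSurjective hf).symm.toLinearMap
    let L' : ModuleCat.of R M ⟶ (ModuleCat.restrictScalars φ).obj N := @ModuleCat.ofHom R _ M T _ _ T.isAddCommGroup T.isModule l
    obtain ⟨Φ, h1⟩ := (huniv N).2 L'
    have hΦ : ∀ x, Φ.hom (ι (f x)) = (fun i => Ideal.Quotient.mk J' (φ (x i)) : Fin r → R ⧸ J') := fun x => by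
      refine (ConcreteCategory.congr_hom h1 (f x)).trans ?_
      change (LinearMap.ker f).liftQ L hL ((f.quotKerEquivOfSurjective hf).symm (f x)) = _
      rw [show (f.quotKerEquivOfSurjective hf).symm (f x) = Submodule.Quotient.mk x from
        (LinearEquiv.symm_apply_eq _).2 rfl]
      rfl
    intro w hw i
    have h0 : Fintype.linearCombination R (fun j => ι (f (Pi.single j 1))) w = 0 :=
      eM.toLinearEquiv.injective (hw.trans (map_zero _).symm)
    have h2 := congrArg Φ.hom h0
    rw [map_zero, Fintype.linearCombination_apply, map_sum] at h2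
    refine Ideal.Quotient.eq_zero_iff_mem.1 (Eq.trans ?_ (congrFun h2 i))
    simp only [map_smul, hΦ]
    rw [Finset.sum_apply]
    rw [Finset.sum_eq_single i (fun j _ hj => ?_) (fun h => absurd (Finset.mem_univ i) h)]
    · show Ideal.Quotient.mk J' (w i) = w i • Ideal.Quotient.mk J' (φ (Pi.single (M := fun _ : Fin r => R) i 1 i))
      rw [Pi.single_eq_same, map_one, map_one, Algebra.smul_def, mul_one]
      rfl
    · show w j • Ideal.Quotient.mk J' (φ (Pi.single (M := fun _ : Fin r => R) j 1 i)) = 0
      rw [Pi.single_eq_of_ne hj.symm, map_zero, map_zero, smul_zero]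
  -- `g` is surjective
  have hgs : Function.Surjective g := by
    refine eM.toLinearEquiv.surjective.comp ?_
    let S := LinearMap.range (Fintype.linearCombination R fun j => ι (f (Pi.single j 1)))
    let q : F ⟶ ModuleCat.of R (F ⧸ S) := ModuleCat.ofHom S.mkQ
    have hq : q = 0 := by
      refine (huniv _).1 (Eq.trans ?_ ((congrArg (η ≫ ·) (Functor.map_zero _ _ _)).trans Limits.comp_zero).symm)
      refine ModuleCat.hom_ext ((LinearMap.cancel_right hf).1 (LinearMap.pi_ext' fun j => LinearMap.ext_ring ?_))
      exact (Submodule.Quotient.mk_eq_zero S).2 ⟨Pi.single j 1, by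
          rw [Fintype.linearCombination_apply_single, one_smul]
          rfl⟩
    intro y
    exact (Submodule.Quotient.mk_eq_zero S).1 (ConcreteCategory.congr_hom hq y)
  -- compare with `f`
  obtain ⟨u, hu⟩ := Module.projective_lifting_property f g hf
  have hus : Function.Surjective u := by
    rw [← LinearMap.range_eq_top, ← top_le_iff]
    refine Submodule.le_of_le_smul_of_le_jacobson_bot Module.Finite.fg_top
      (IsLocalRing.maximalIdeal_le_jacobson ⊥) fun y _ => ?_
    obtain ⟨w, hw⟩ := hgs (f y)
    have hy : f (y - u w) = 0 := by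
      rw [map_sub, ← hw, ← hu]
      exact sub_self _
    rw [← sub_add_cancel y (u w)]
    refine add_mem (Submodule.mem_sup_right ?_) (Submodule.mem_sup_left ⟨w, rfl⟩)
    rw [pi_eq_sum_univ' (y - u w)]
    exact Submodule.sum_mem _ fun i _ => Submodule.smul_mem_smul (hfm _ hy i) Submodule.mem_top
  have hJJ' : J ≤ J' := Ideal.span_le.2 fun a ⟨x, hx, i, hi⟩ => by
    obtain ⟨w, rfl⟩ := hus x
    have hw : g w = 0 := by rw [← hu]; exact hx
    rw [← hi, pi_eq_sum_univ' w, map_sum, Finset.sum_apply]
    exact Ideal.sum_mem _ fun j _ => by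
      rw [map_smul, Pi.smul_apply, smul_eq_mul]
      exact J'.mul_mem_right _ (hg w hw j)
  have hJbot : J = ⊥ := by
    refine Submodule.eq_bot_of_le_smul_of_le_jacobson_bot J J (IsNoetherian.noetherian J) ?_
      (hJm.trans (IsLocalRing.maximalIdeal_le_jacobson ⊥))
    refine hJJ'.trans (Ideal.map_le_iff_le_comap.2 fun a ha => ?_)
    rw [Ideal.mem_comap, smul_eq_mul]
    obtain ⟨q, hq⟩ : ∃ q, p = q + 2 := ⟨p - 2, by have := (Fact.out : p.Prime).two_le; omega⟩
    have : φ a = a * a ^ (q + 1) := by
      show a ^ p = _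
      rw [hq, ← pow_succ']
    rw [this]
    exact Ideal.mul_mem_mul ha (Ideal.pow_mem_of_mem J ha _ (Nat.succ_pos q))
  refine Module.Free.of_equiv (LinearEquiv.ofBijective f ⟨(injective_iff_map_eq_zero f).2 fun x hx => ?_, hf⟩)
  funext i
  exact (Submodule.mem_bot R).1 (hJbot.le (hJ x hx i))

/-- Over a Noetherian local ring of prime characteristic p, a finite module isomorphic to its own base
change along Frobenius is free. -/
theorem result (p : ℕ) [Fact p.Prime] (R : Type u) [CommRing R] [IsLocalRing R] [IsNoetherianRing R] [CharP R p] (M : Type u) [AddCommGroup M] [Module R M] [Module.Finite R M] (h : Nonempty ((ModuleCat.extendScalars (frobenius R p)).obj (ModuleCat.of R M) ≅ ModuleCat.of R M)) : Module.Free R M := by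
  obtain ⟨eM⟩ := h
  let adj := ModuleCat.extendRestrictScalarsAdj (frobenius R p)
  refine core p R M _ (adj.unit.app (ModuleCat.of R M)) (fun N => ?_) eM
  convert (adj.homEquiv (ModuleCat.of R M) N).bijective using 1
  funext q
  exact (adj.homEquiv_unit ..).symm

end Groth.Agent.S0337
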