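import Groth.Statements.S0338
import Groth.Agent.CAlg48.Kunz
import Groth.Agent.InjHull.Matlis
import Groth.Agent.InjHull.Noetherian
import Groth.Agent.Gor.FlatLocal
import Groth.Agent.S0342
import Mathlib.LinearAlgebra.DirectSum.Finsupp
import Mathlib.LinearAlgebra.TensorProduct.Pi

set_option autoImplicit false
universe u v
open CategoryTheory
open LocCoh

namespace Groth.Agent.S0338

open IsLocalRing TensorProduct

variable {R : Type u} [CommRing R]

/-- `M[I]` is freely generated over `R/I`. -/
def FreeTorsion (I : Ideal R) (M : Type u) [AddCommGroup M] [Module R M] : Prop :=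
  ∃ (ι : Type u) (g : (ι →₀ R) →ₗ[R] M),
    LinearMap.range g = LocCoh.torsionBy I M ∧ ∀ v, g v = 0 ↔ ∀ i, v i ∈ I

theorem freeTorsion_maximalIdeal [IsLocalRing R] (M : Type u) [AddCommGroup M] [Module R M] :
    FreeTorsion (maximalIdeal R) M := by
  classical
  let : Field (R ⧸ maximalIdeal R) := Ideal.Quotient.field (maximalIdeal R)
  let b := Module.Free.chooseBasis (R ⧸ maximalIdeal R) (LocCoh.torsionBy (maximalIdeal R) M)
  let g := Finsupp.linearCombination R (fun i => (b i : M))
  let mkv : (Module.Free.ChooseBasisIndex (R ⧸ maximalIdeal R) (LocCoh.torsionBy (maximalIdeal R) M) →₀ R)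
      → (Module.Free.ChooseBasisIndex (R ⧸ maximalIdeal R) (LocCoh.torsionBy (maximalIdeal R) M) →₀ R ⧸ maximalIdeal R) :=
    Finsupp.mapRange (Ideal.Quotient.mk _) (map_zero _)
  have key : ∀ v, g v = ((b.repr.symm (mkv v)) : M) := by
    intro v
    induction v using Finsupp.induction_linear with
    | zero => simp [g, mkv]
    | add x y hx hy => simp only [mkv] at hx hy ⊢; rw [map_add, hx, hy, Finsupp.mapRange_add (map_add _), map_add, Submodule.coe_add]
    | single i r =>
      simp only [g, mkv, Finsupp.linearCombination_single, Finsupp.mapRange_single,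
        Module.Basis.repr_symm_single]
      rfl
  refine ⟨_, g, le_antisymm ?_ ?_, fun v => ?_⟩
  · rintro _ ⟨v, rfl⟩
    rw [key]; exact Subtype.prop _
  · intro x hx
    obtain ⟨v, hv⟩ := Finsupp.mapRange_surjective (Ideal.Quotient.mk (maximalIdeal R)) (map_zero _)
      Ideal.Quotient.mk_surjective (b.repr ⟨x, hx⟩)
    exact ⟨v, by rw [key]; simp only [mkv, hv, LinearEquiv.symm_apply_apply]⟩
  · rw [key, Submodule.coe_eq_zero, LinearEquiv.map_eq_zero_iff]
    simp only [mkv, Finsupp.ext_iff, Finsupp.mapRange_apply, Finsupp.coe_zero, Pi.zero_apply,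
      Ideal.Quotient.eq_zero_iff_mem]

theorem lTensor_ker_exact (S : Type u) [AddCommGroup S] [Module R S] [Module.Flat R S] {N P : Type u}
    [AddCommGroup N] [Module R N] [AddCommGroup P] [Module R P] (g : N →ₗ[R] P) :
    Function.Exact (LinearMap.lTensor S (LinearMap.ker g).subtype) (LinearMap.lTensor S g) :=
  Module.Flat.lTensor_exact S (LinearMap.exact_subtype_ker_map g)

section Frobenius

variable (p : ℕ) [Fact p.Prime] [CharP R p]

/-- `R` as an algebra over itself through the Frobenius. -/
def Fr (R : Type u) [CommRing R] (p : ℕ) [Fact p.Prime] [CharP R p] : Type u := R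

noncomputable instance : CommRing (Fr R p) := inferInstanceAs (CommRing R)
noncomputable instance : Algebra R (Fr R p) := (frobenius R p : R →+* Fr R p).toAlgebra

/-- The identity map, changing the structure. -/
def toFr (r : R) : Fr R p := r

theorem exists_semilinear (M : Type u) [AddCommGroup M] [Module R M]
    (h : Nonempty ((ModuleCat.extendScalars (frobenius R p)).obj (ModuleCat.of R M) ≅ ModuleCat.of R M)) :
    ∃ e : Fr R p ⊗[R] M ≃+ M, ∀ (r : R) (z : Fr R p ⊗[R] M), e (toFr p r • z) = r • e z := by
  obtain ⟨φ⟩ := h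
  let j : Fr R p ≃ₗ[R] ((ModuleCat.restrictScalars (frobenius R p)).obj (ModuleCat.of R R)) :=
    { toFun := fun x => x
      invFun := fun x => x
      map_add' := fun _ _ => rfl
      map_smul' := fun _ _ => rfl
      left_inv := fun _ => rfl
      right_inv := fun _ => rfl }
  let η : Fr R p ⊗[R] M ≃+ ((ModuleCat.extendScalars (frobenius R p)).obj (ModuleCat.of R M)) :=
    (TensorProduct.congr j (LinearEquiv.refl R M)).toAddEquiv
  refine ⟨η.trans φ.toLinearEquiv.toAddEquiv, fun r z => ?_⟩
  have hη : η (toFr p r • z) = r • η z := by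
    induction z using TensorProduct.induction_on with
    | zero => simp
    | add x y hx hy => rw [smul_add, map_add, map_add, hx, hy, smul_add]
    | tmul t m => rfl
  show φ.toLinearEquiv (η _) = r • φ.toLinearEquiv (η z)
  rw [hη, map_smul]

theorem algebraMap_smul_tmul {M : Type u} [AddCommGroup M] [Module R M] (a : R)
    (z : Fr R p ⊗[R] M) :
    LinearMap.lTensor (Fr R p) (a • (LinearMap.id : M →ₗ[R] M)) z
      = (algebraMap R (Fr R p) a) • z := by
  induction z using TensorProduct.induction_on with
  | zero => simp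
  | add x y hx hy => rw [map_add, hx, hy, smul_add]
  | tmul t m =>
    rw [LinearMap.lTensor_tmul, LinearMap.smul_apply, LinearMap.id_apply, ← TensorProduct.smul_tmul,
      TensorProduct.smul_tmul', Algebra.smul_def, smul_eq_mul]

theorem freeTorsion_map [IsNoetherianRing R] (hflat : (frobenius R p).Flat) {M : Type u}
    [AddCommGroup M] [Module R M] (e : Fr R p ⊗[R] M ≃+ M)
    (he : ∀ (r : R) (z : Fr R p ⊗[R] M), e (toFr p r • z) = r • e z) (I : Ideal R)
    (hI : FreeTorsion I M) : FreeTorsion (I.map (frobenius R p)) M := by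
  classical
  have : Module.Flat R (Fr R p) := hflat
  obtain ⟨ι, g, hrange, hker⟩ := hI
  let Φ := (TensorProduct.finsuppScalarRight R (Fr R p) (Fr R p) ι).symm
  let g' := Finsupp.linearCombination R fun i => e ((1 : Fr R p) ⊗ₜ[R] g (Finsupp.single i 1))
  let c : (ι →₀ R) → (ι →₀ Fr R p) := Finsupp.mapRange (toFr p) rfl
  have key : ∀ v : ι →₀ R, g' v = e (LinearMap.lTensor (Fr R p) g (Φ (c v))) := by
    intro v
    induction v using Finsupp.induction_linear with
    | zero =>
      rw [show c 0 = 0 from Finsupp.mapRange_zero]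
      simp
    | add x y hx hy =>
      have hc : c (x + y) = c x + c y := Finsupp.mapRange_add (fun _ _ => rfl) x y
      rw [hc, map_add, map_add, map_add, map_add, hx, hy]
    | single i r =>
      have hc : c (Finsupp.single i r) = Finsupp.single i (toFr p r) := Finsupp.mapRange_single
      rw [hc, show Φ (Finsupp.single i (toFr p r)) = toFr p r ⊗ₜ[R] Finsupp.single i 1 from
        TensorProduct.finsuppScalarRight_symm_apply_single i (toFr p r), LinearMap.lTensor_tmul]
      simp only [g', Finsupp.linearCombination_single]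
      rw [← he, TensorProduct.smul_tmul', smul_eq_mul, mul_one]
  have hrel : ∀ (a : R), a ∈ I → ∀ i, g (Finsupp.single i a) = 0 := fun a ha i =>
    (hker _).2 fun j => by
      rw [Finsupp.single_apply]; split_ifs
      · exact ha
      · exact zero_mem _
  have hann : ∀ a ∈ I.map (frobenius R p), ∀ i,
      a • e ((1 : Fr R p) ⊗ₜ[R] g (Finsupp.single i 1)) = 0 := by
    intro a ha i
    have hle : I.map (frobenius R p)
        ≤ LinearMap.ker (LinearMap.toSpanSingleton R M (e ((1 : Fr R p) ⊗ₜ[R] g (Finsupp.single i 1)))) := by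
      refine Ideal.map_le_iff_le_comap.2 fun b hb => ?_
      rw [Ideal.mem_comap, LinearMap.mem_ker, LinearMap.toSpanSingleton_apply, ← he,
        show toFr p (frobenius R p b) = algebraMap R (Fr R p) b from rfl,
        ← algebraMap_smul_tmul, LinearMap.lTensor_tmul, LinearMap.smul_apply, LinearMap.id_apply,
        ← map_smul, Finsupp.smul_single, smul_eq_mul, mul_one, hrel b hb i, tmul_zero, map_zero]
    exact hle ha
  refine ⟨ι, g', le_antisymm ?_ ?_, fun v => ⟨fun hv i => ?_, fun hv => ?_⟩⟩
  · rintro _ ⟨v, rfl⟩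
    refine (Submodule.mem_torsionBySet_iff _ _).2 fun a => ?_
    rw [Finsupp.linearCombination_apply, Finsupp.smul_sum]
    refine Finset.sum_eq_zero fun i _ => ?_
    show (a : R) • (v i • _) = 0
    rw [smul_comm, hann a a.2 i, smul_zero]
  · intro x hx
    obtain ⟨s, hs⟩ := IsNoetherian.noetherian I
    let π : M →ₗ[R] (↥s → M) := LinearMap.pi fun j => (j : R) • LinearMap.id
    have hexact : Function.Exact g π := by
      rw [LinearMap.exact_iff, hrange]
      ext m
      rw [LinearMap.mem_ker, Submodule.mem_torsionBySet_iff]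
      refine ⟨fun hm a => ?_, fun hm => funext fun j => ?_⟩
      · have hle : I ≤ LinearMap.ker (LinearMap.toSpanSingleton R M m) := by
          rw [← hs]
          exact Submodule.span_le.2 fun b hb => congrFun hm ⟨b, hb⟩
        exact hle a.2
      · exact hm ⟨j, hs ▸ Submodule.subset_span j.2⟩
    have hz : LinearMap.lTensor (Fr R p) π (e.symm x) = 0 := by
      apply (TensorProduct.piRight R R (Fr R p) fun _ : ↥s => M).injective
      rw [map_zero]
      funext j
      have hj : ∀ z : Fr R p ⊗[R] M,
          (TensorProduct.piRight R R (Fr R p) fun _ : ↥s => M)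
              (LinearMap.lTensor (Fr R p) π z) j
            = LinearMap.lTensor (Fr R p) ((j : R) • (LinearMap.id : M →ₗ[R] M)) z := by
        intro z
        induction z using TensorProduct.induction_on with
        | zero => simp
        | add u w hu hw => simp only [map_add, Pi.add_apply, hu, hw]
        | tmul t m => simp [π]
      rw [hj, algebraMap_smul_tmul, Pi.zero_apply]
      apply e.injective
      have hb : frobenius R p (j : R) ∈ I.map (frobenius R p) :=
        Ideal.mem_map_of_mem _ (hs ▸ Submodule.subset_span j.2)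
      rw [map_zero, ← (Submodule.mem_torsionBySet_iff _ x).1 hx ⟨_, hb⟩]
      exact (he _ _).trans (by rw [AddEquiv.apply_symm_apply]; rfl)
    obtain ⟨w, hw⟩ := (Module.Flat.lTensor_exact (Fr R p) hexact _).1 hz
    refine ⟨Finsupp.mapRange (fun t : Fr R p => (t : R)) rfl (Φ.symm w), ?_⟩
    have hc : c (Finsupp.mapRange (fun t : Fr R p => (t : R)) rfl (Φ.symm w)) = Φ.symm w :=
      Finsupp.ext fun _ => rfl
    rw [key, hc, LinearEquiv.apply_symm_apply, hw, AddEquiv.apply_symm_apply]
  · have h0 : LinearMap.lTensor (Fr R p) g (Φ (c v)) = 0 := e.injective (by rw [← key, hv, map_zero])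
    obtain ⟨w, hw⟩ := (lTensor_ker_exact (Fr R p) g _).1 h0
    have hmem : ∀ w : Fr R p ⊗[R] LinearMap.ker g,
        TensorProduct.finsuppScalarRight R (Fr R p) (Fr R p) ι
          (LinearMap.lTensor (Fr R p) (LinearMap.ker g).subtype w) i
            ∈ (I.map (frobenius R p) : Ideal R) := by
      intro w
      induction w using TensorProduct.induction_on with
      | zero => simp only [map_zero, Finsupp.coe_zero, Pi.zero_apply]; exact zero_mem (I.map (frobenius R p))
      | add x y hx hy => simp only [map_add, Finsupp.coe_add, Pi.add_apply]; exact add_mem (S := Ideal R) hx hy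
      | tmul t m =>
        rw [LinearMap.lTensor_tmul, TensorProduct.finsuppScalarRight_apply_tmul_apply, Algebra.smul_def]
        have hm : frobenius R p (m.1 i) ∈ I.map (frobenius R p) :=
          Ideal.mem_map_of_mem _ ((hker _).1 m.2 i)
        exact Ideal.mul_mem_right (α := R) t _ hm
    have h1 := hmem w
    rwa [hw, LinearEquiv.apply_symm_apply] at h1
  · rw [Finsupp.linearCombination_apply]
    exact Finset.sum_eq_zero fun i _ => hann _ (hv i) i

theorem freeTorsion_pow [IsRegularLocalRing R] {M : Type u} [AddCommGroup M] [Module R M]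
    (h : Nonempty ((ModuleCat.extendScalars (frobenius R p)).obj (ModuleCat.of R M) ≅ ModuleCat.of R M))
    (n : ℕ) : FreeTorsion ((maximalIdeal R).map (iterateFrobenius R p n)) M := by
  obtain ⟨e, he⟩ := exists_semilinear p M h
  induction n with
  | zero => rw [iterateFrobenius_zero, Ideal.map_id]; exact freeTorsion_maximalIdeal M
  | succ n ih =>
    rw [add_comm n 1, iterateFrobenius_add, iterateFrobenius_one, ← Ideal.map_map]
    exact freeTorsion_map p (CAlg48.Kunz.flat_of_isRegularLocalRing p) e he _ ih

theorem injective_quotient [IsRegularLocalRing R] (n : ℕ) :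
    Module.Injective (R ⧸ (maximalIdeal R).map (iterateFrobenius R p n))
      (R ⧸ (maximalIdeal R).map (iterateFrobenius R p n)) := by
  let S := CAlg48.HilbertKunz.FPush R p n
  have : IsRegularLocalRing S := inferInstanceAs (IsRegularLocalRing R)
  have : Module.Flat R S := CAlg48.Kunz.flat_iterate p (CAlg48.Kunz.flat_of_isRegularLocalRing p) n
  have : IsLocalHom (algebraMap R S) := ⟨fun a ha => by
    change IsUnit (iterateFrobenius R p n a : R) at ha
    rw [iterateFrobenius_def] at ha
    exact (isUnit_pow_iff (pow_ne_zero n (Fact.out : p.Prime).ne_zero)).1 ha⟩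
  have hG : LocCoh.IsGorensteinLocalRing (R ⧸ (maximalIdeal R).map (iterateFrobenius R p n)) :=
    ((Gor.FlatLocal.gorenstein_flat_local_iff (A := R) (B := S)).1 (S0342.result S)).2
  rcases Gor.Basic.exists_regular_or_socle (A := R ⧸ (maximalIdeal R).map (iterateFrobenius R p n)) with
    ⟨x, hx, hreg⟩ | ⟨φ, hφ⟩
  · exfalso
    obtain ⟨r, rfl⟩ := Ideal.Quotient.mk_surjective x
    have hr : r ∈ maximalIdeal R := (mem_maximalIdeal r).2 fun hu =>
      (mem_maximalIdeal _).1 hx (hu.map (Ideal.Quotient.mk _))
    have h0 : (Ideal.Quotient.mk ((maximalIdeal R).map (iterateFrobenius R p n)) r) ^ (p ^ n) = 0 := by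
      rw [← map_pow, Ideal.Quotient.eq_zero_iff_mem, ← iterateFrobenius_def]
      exact Ideal.mem_map_of_mem _ hr
    have h1 := hreg.pow (p ^ n)
    rw [h0] at h1
    exact one_ne_zero (h1 ((zero_mul _).trans (zero_mul _).symm) :
      (1 : R ⧸ (maximalIdeal R).map (iterateFrobenius R p n)) = 0)
  · obtain ⟨k, hk⟩ := hG.exists_hasInjectiveDimensionLT
    exact Gor.Basic.injective_of_socle_of_finite_id hφ k
      (CategoryTheory.hasInjectiveDimensionLT_of_ge _ k (k + 1) (Nat.le_succ k))

theorem map_iterateFrobenius_le (n : ℕ) [IsLocalRing R] :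
    (maximalIdeal R).map (iterateFrobenius R p n) ≤ maximalIdeal R ^ (p ^ n) :=
  Ideal.map_le_iff_le_comap.2 fun a ha => by
    rw [Ideal.mem_comap, iterateFrobenius_def]
    exact Ideal.pow_mem_pow ha _

theorem injective_of_frobenius_stable [IsRegularLocalRing R] {M : Type u} [AddCommGroup M] [Module R M]
    (hM : LocCoh.IsPowerTorsion (maximalIdeal R) M)
    (h : Nonempty ((ModuleCat.extendScalars (frobenius R p)).obj (ModuleCat.of R M) ≅ ModuleCat.of R M)) :
    Module.Injective R M := by
  classical
  apply Module.Baer.injective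
  intro J φ
  obtain ⟨n, hn⟩ := InjHull.Noetherian.exists_pow_smul_eq_zero hM φ
  obtain ⟨k, hk⟩ := (maximalIdeal R).exists_pow_inf_eq_pow_smul J
  obtain ⟨e, he⟩ : ∃ e, n + k ≤ p ^ e :=
    ⟨n + k, (Nat.lt_pow_self (Fact.out : p.Prime).one_lt).le⟩
  obtain ⟨ι, g, hrange, hker⟩ := freeTorsion_pow p h e
  have hinj := Module.Baer.of_injective (injective_quotient (R := R) p e)
  generalize hI : (maximalIdeal R).map (iterateFrobenius R p e) = I at hrange hker hinj
  have hIc : I ≤ maximalIdeal R ^ (n + k) :=
    hI ▸ (map_iterateFrobenius_le p e).trans (Ideal.pow_le_pow_right he)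
  have hkill : ∀ x : J, (x : R) ∈ I → φ x = 0 := by
    intro x hx
    have hmem : (x : R) ∈ maximalIdeal R ^ (n + k) • (⊤ : Submodule R R) ⊓ J :=
      ⟨by simpa using hIc hx, x.2⟩
    rw [hk (n + k) (Nat.le_add_left k n), Nat.add_sub_cancel] at hmem
    have hmem' : (x : R) ∈ (maximalIdeal R ^ n • (⊤ : Submodule R J)).map J.subtype := by
      rw [Submodule.map_smul'', Submodule.map_top, Submodule.range_subtype]
      exact Submodule.smul_mono le_rfl inf_le_right hmem
    obtain ⟨y, hy, hyx⟩ := Submodule.mem_map.mp hmem'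
    obtain rfl : y = x := Subtype.ext hyx
    refine Submodule.smul_induction_on hy (fun c hc z _ => ?_) (fun u v hu hv => ?_)
    · rw [map_smul, hn c hc]
    · rw [map_add, hu, hv, add_zero]
  have hin : ∀ x : J, ∃ v, g v = φ x := fun x => by
    rw [← LinearMap.mem_range, hrange, Submodule.mem_torsionBySet_iff]
    intro a
    rw [← map_smul]
    exact hkill _ (Ideal.mul_mem_right _ I a.2)
  choose v hv using hin
  have huniq : ∀ (x : J) (w : ι →₀ R), g w = φ x → ∀ i,
      Ideal.Quotient.mk I (w i) = Ideal.Quotient.mk I (v x i) := fun x w hw i => by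
    rw [Ideal.Quotient.eq, ← Finsupp.sub_apply]
    exact (hker _).1 (by rw [map_sub, hw, hv, sub_self]) i
  let J' : Ideal (R ⧸ I) := J.map (Ideal.Quotient.mk I)
  have hpre : ∀ y : J', ∃ x : J, Ideal.Quotient.mk I x = y := fun y => by
    obtain ⟨x, hx, hxy⟩ := (Ideal.mem_map_iff_of_surjective _ Ideal.Quotient.mk_surjective).1 y.2
    exact ⟨⟨x, hx⟩, hxy⟩
  choose pre hpre using hpre
  have hwd : ∀ (i : ι) (y : J') (x : J), Ideal.Quotient.mk I x = y → ∀ w, g w = φ x →
      Ideal.Quotient.mk I (v (pre y) i) = Ideal.Quotient.mk I (w i) := by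
    intro i y x hx w hw
    refine (huniq (pre y) w ?_ i).symm
    rw [hw, ← sub_eq_zero, ← map_sub]
    exact hkill _ (Ideal.Quotient.eq.1 (hx.trans (hpre y).symm))
  have hψ : ∀ i : ι, ∃ c : R, ∀ x : J, Ideal.Quotient.mk I (v x i) = Ideal.Quotient.mk I (x * c) := by
    intro i
    let ψ : J' →ₗ[R ⧸ I] R ⧸ I :=
      { toFun := fun y => Ideal.Quotient.mk I (v (pre y) i)
        map_add' := fun y z => by
          rw [← map_add, ← Finsupp.add_apply]
          refine hwd i (y + z) (pre y + pre z) ?_ _ (by rw [map_add, map_add, hv, hv])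
          push_cast
          rw [map_add, hpre, hpre]
        map_smul' := fun r y => by
          obtain ⟨r, rfl⟩ := Ideal.Quotient.mk_surjective r
          rw [RingHom.id_apply, smul_eq_mul, ← map_mul, ← smul_eq_mul, ← Finsupp.smul_apply]
          refine hwd i _ (r • pre y) ?_ _ (by rw [map_smul, map_smul, hv])
          show Ideal.Quotient.mk I (r * (pre y : R)) = _
          rw [map_mul, hpre]
          rfl }
    obtain ⟨ψ', hψ'⟩ := hinj J' ψ
    obtain ⟨c, hc⟩ := Ideal.Quotient.mk_surjective (ψ' 1)
    refine ⟨c, fun x => ?_⟩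
    have hx : Ideal.Quotient.mk I (x : R) ∈ J' := Ideal.mem_map_of_mem _ x.2
    rw [← hwd i ⟨_, hx⟩ x rfl _ (hv x), map_mul, hc, ← smul_eq_mul, ← map_smul, smul_eq_mul, mul_one]
    exact (hψ' _ hx).symm
  choose c hc using hψ
  obtain ⟨gen, hgen⟩ := Module.Finite.fg_top (R := R) (M := J)
  let T : Finset ι := gen.biUnion fun x => (v x).support
  have hsupp : ∀ x : J, ∃ w, g w = φ x ∧ w.support ⊆ T := by
    intro x
    have hx : x ∈ Submodule.span R (gen : Set J) := hgen ▸ Submodule.mem_top
    induction hx using Submodule.span_induction with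
    | mem x hx => exact ⟨v x, hv x, Finset.subset_biUnion_of_mem (fun x => (v x).support) hx⟩
    | zero => exact ⟨0, by simp, by simp⟩
    | add a b _ _ ha hb =>
      obtain ⟨wa, ha1, ha2⟩ := ha
      obtain ⟨wb, hb1, hb2⟩ := hb
      exact ⟨wa + wb, by simp [ha1, hb1], Finsupp.support_add.trans (Finset.union_subset ha2 hb2)⟩
    | smul r a _ ha =>
      obtain ⟨wa, ha1, ha2⟩ := ha
      exact ⟨r • wa, by simp [ha1], Finsupp.support_smul.trans ha2⟩
  refine ⟨LinearMap.toSpanSingleton R M (g (∑ i ∈ T, Finsupp.single i (c i))), fun x hx => ?_⟩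
  obtain ⟨w, hw, hwT⟩ := hsupp ⟨x, hx⟩
  rw [LinearMap.toSpanSingleton_apply, ← map_smul, ← hw, ← sub_eq_zero, ← map_sub, hker]
  intro i
  simp only [Finsupp.sub_apply, Finsupp.smul_apply, Finsupp.finsetSum_apply, Finsupp.single_apply,
    Finset.sum_ite_eq', smul_eq_mul]
  rw [← Ideal.Quotient.eq]
  split_ifs with hi
  · rw [huniq ⟨x, hx⟩ w hw i]
    exact (hc i ⟨x, hx⟩).symm
  · rw [mul_zero, Finsupp.notMem_support_iff.1 fun h => hi (hwT h)]

end Frobenius


/-- Over a regular local ring of prime characteristic p, let M be a module killed elementwise by powers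
of the maximal ideal and isomorphic to its own base change along Frobenius; then M is isomorphic to
a (possibly infinite) sum of copies of E, where E is an injective hull of the residue field. -/
theorem result (p : ℕ) [Fact p.Prime] (R : Type u) [CommRing R] [IsRegularLocalRing R] [CharP R p] (E : Type u) [AddCommGroup E] [Module R E] (f : IsLocalRing.ResidueField R →ₗ[R] E) (hf : InjHull.IsInjectiveHull f) (M : Type u) [AddCommGroup M] [Module R M] (hM : LocCoh.IsPowerTorsion (IsLocalRing.maximalIdeal R) M) (h : Nonempty ((ModuleCat.extendScalars (frobenius R p)).obj (ModuleCat.of R M) ≅ ModuleCat.of R M)) : ∃ ι : Type u, Nonempty (M ≃ₗ[R] (ι →₀ E)) := by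
  classical
  have hMinj := injective_of_frobenius_stable p hM h
  obtain ⟨ι, g, hrange, hker⟩ := freeTorsion_maximalIdeal (R := R) M
  have hEinj : Module.Injective R (ι →₀ E) :=
    InjHull.Basic.injective_of_equiv
      (InjHull.Noetherian.injective_directSum (fun _ : ι => E) fun _ => hf.isInjective)
      (finsuppLequivDFinsupp R).symm
  -- the embedding of the socle
  let q : (ι →₀ R) →ₗ[R] (ι →₀ E) :=
    Finsupp.mapRange.linearMap (f ∘ₗ Algebra.linearMap R (IsLocalRing.ResidueField R))
  have hq : ∀ v, q v = 0 ↔ ∀ i, v i ∈ IsLocalRing.maximalIdeal R := fun v => by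
    rw [Finsupp.ext_iff]
    refine forall_congr' fun i => ?_
    show f (IsLocalRing.residue R (v i)) = 0 ↔ _
    rw [map_eq_zero_iff f hf.injective, IsLocalRing.residue_eq_zero_iff]
  have hle : LinearMap.ker g ≤ LinearMap.ker q := fun v hv => (hq v).2 ((hker v).1 hv)
  let u : LinearMap.range g →ₗ[R] (ι →₀ E) :=
    (LinearMap.ker g).liftQ q hle ∘ₗ g.quotKerEquivRange.symm.toLinearMap
  have hu : ∀ v, u ⟨g v, LinearMap.mem_range_self g v⟩ = q v := fun v => by
    simp [u]
  obtain ⟨G, hG⟩ := InjHull.Basic.extend hEinj (LinearMap.range g).subtype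
    (Submodule.injective_subtype _) u
  have hGg : ∀ v, G (g v) = q v := fun v => by
    rw [← hu v, ← hG]; rfl
  have hGinj : Function.Injective G := InjHull.Matlis.injective_of_socle hM G fun x hx hx0 => by
    obtain ⟨v, rfl⟩ : x ∈ LinearMap.range g :=
      hrange ▸ (Submodule.mem_torsionBySet_iff _ _).2 fun a => hx a a.2
    exact (hker v).2 ((hq v).1 (by rw [← hGg, hx0]))
  obtain ⟨H, hH⟩ := InjHull.Basic.extend hMinj G hGinj LinearMap.id
  have hHG : ∀ x, H (G x) = x := fun x => LinearMap.congr_fun hH x
  have htors : LocCoh.IsPowerTorsion (IsLocalRing.maximalIdeal R) (ι →₀ E) := fun y => by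
    choose n hn using fun i => InjHull.Matlis.isPowerTorsion_hull hf (y i)
    refine ⟨y.support.sup n, fun a ha => Finsupp.ext fun i => ?_⟩
    by_cases hi : i ∈ y.support
    · exact hn i a (Ideal.pow_le_pow_right (Finset.le_sup hi) ha)
    · simp [Finsupp.notMem_support_iff.1 hi]
  have hHinj : Function.Injective H := InjHull.Matlis.injective_of_socle htors H fun y hy hy0 => by
    have hc : ∀ i, ∃ r : R, f (IsLocalRing.residue R r) = y i := fun i => by
      obtain ⟨c, hc⟩ := (InjHull.Matlis.mem_range_iff hf).2 fun a ha => DFunLike.congr_fun (hy a ha) i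
      obtain ⟨r, rfl⟩ := IsLocalRing.residue_surjective c
      exact ⟨r, hc⟩
    choose r hr using hc
    have hqr : q (Finsupp.onFinset y.support (fun i => if i ∈ y.support then r i else 0)
        (fun i hi => by by_contra h; simp [h] at hi)) = y := Finsupp.ext fun i => by
      show f (IsLocalRing.residue R (if i ∈ y.support then r i else 0)) = y i
      split_ifs with hi
      · exact hr i
      · rw [map_zero, map_zero, Finsupp.notMem_support_iff.1 hi]
    rw [← hqr, ← hGg, hHG] at hy0
    rw [← hqr, ← hGg, hy0, map_zero]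
  exact ⟨ι, ⟨LinearEquiv.ofBijective G ⟨hGinj, fun y => ⟨H y, hHinj (hHG _)⟩⟩⟩⟩

end Groth.Agent.S0338
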