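import Groth.Statements.S0359
import Groth.Agent.Depth.Open

set_option autoImplicit false
universe u v
open LocCoh

namespace Groth.Agent.S0359

/-- For a finite module M over a Noetherian ring and a prime p with depth(M_p) = e finite, there is a
basic open neighbourhood of p in V(p) on which the depth of the localizations of M is at least e,
and it exceeds e at all but finitely many of those primes. -/
theorem result (R : Type u) [CommRing R] [IsNoetherianRing R] (M : Type u) [AddCommGroup M] [Module R M] [Module.Finite R M] (p : Ideal R) [p.IsPrime] (e : ℕ) (he : LocCoh.depth (Localization.AtPrime p) (LocalizedModule p.primeCompl M) = e) : ∃ f : R, f ∉ p ∧ (∀ (q : Ideal R) [q.IsPrime], p ≤ q → f ∉ q → (e : ℕ∞) ≤ LocCoh.depth (Localization.AtPrime q) (LocalizedModule q.primeCompl M)) ∧ {q : PrimeSpectrum R | p ≤ q.asIdeal ∧ f ∉ q.asIdeal ∧ LocCoh.depth (Localization.AtPrime q.asIdeal) (LocalizedModule q.asIdeal.primeCompl M) = e}.Finite := by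
  classical
  rw [Depth.depth_eq_idealDepth, ← Localization.AtPrime.map_eq_maximalIdeal] at he
  obtain ⟨rs, hlen, hmem, hrs⟩ := Depth.exists_isWeaklyRegular_localizedModule e M he.ge
  obtain ⟨f, hf, h⟩ := Depth.exists_notMem_forall_isWeaklyRegular p rs M hrs
  refine ⟨f, hf, fun q _ hpq hfq => ?_, ?_⟩
  · rw [Depth.depth_eq_idealDepth]
    simpa [hlen] using Depth.le_idealDepth_of_isWeaklyRegular
      (I := IsLocalRing.maximalIdeal (Localization.AtPrime q)) (h q hfq) (by
        simp only [List.mem_map, forall_exists_index, and_imp, forall_apply_eq_imp_iff₂]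
        exact fun r hr => Depth.map_le_maximalIdeal hpq (Ideal.mem_map_of_mem _ (hmem r hr)))
  · let Q := M ⧸ (Ideal.ofList rs • ⊤ : Submodule R M)
    refine ((associatedPrimes.finite R Q).preimage (f := PrimeSpectrum.asIdeal)
      (fun a _ b _ hab => PrimeSpectrum.ext hab)).subset ?_
    rintro q ⟨hpq, hfq, hq⟩
    have hsum := Depth.idealDepth_localizedModule_quotient_add_length
      (J := IsLocalRing.maximalIdeal (Localization.AtPrime q.asIdeal)) rs M (h q.asIdeal hfq)
      fun r hr => Depth.map_le_maximalIdeal hpq (Ideal.mem_map_of_mem _ (hmem r hr))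
    rw [Depth.depth_eq_idealDepth] at hq
    rw [hq, hlen] at hsum
    have h0 : LocCoh.idealDepth (IsLocalRing.maximalIdeal (Localization.AtPrime q.asIdeal))
        (LocalizedModule q.asIdeal.primeCompl Q) = 0 :=
      WithTop.add_right_cancel (ENat.natCast_ne_top e) (hsum.trans (zero_add _).symm)
    obtain ⟨P, hP, hle⟩ := Depth.idealDepth_eq_zero_iff.mp h0
    have hPmax : P = IsLocalRing.maximalIdeal (Localization.AtPrime q.asIdeal) :=
      ((IsLocalRing.maximalIdeal.isMaximal _).eq_of_le (Depth.isPrime_of_mem_associatedPrimes hP).ne_top hle).symm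
    have := Module.associatedPrimes.comap_mem_associatedPrimes_of_mem_associatedPrimes_of_isLocalizedModule_of_fg
      q.asIdeal.primeCompl (LocalizedModule.mkLinearMap q.asIdeal.primeCompl Q) P hP (IsNoetherian.noetherian _)
    simpa [hPmax, Localization.AtPrime.under_maximalIdeal] using this

end Groth.Agent.S0359
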