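import Groth.Statements.S0362
import Groth.Agent.DualCx.TensorTop
import Groth.Agent.InjHull.Matlis

set_option autoImplicit false
universe u v
open CategoryTheory
open Dual

namespace Groth.Agent.S0362

open CategoryTheory IsLocalRing

variable {A : Type u} [CommRing A] [IsLocalRing A] [IsNoetherianRing A]

/-- `A/m^(n+1)` -/
noncomputable abbrev Q (n : ℕ) : Dual.FinLen A :=
  ⟨ModuleCat.of A (A ⧸ maximalIdeal A ^ (n + 1)), InjHull.Matlis.isFiniteLength_quotient_pow (n + 1)⟩

abbrev mk {M N : Dual.FinLen A} (f : (M.obj : Type u) →ₗ[A] N.obj) : M ⟶ N :=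
  ObjectProperty.homMk (ModuleCat.ofHom f)

abbrev ap {M N : Dual.FinLen A} (f : M ⟶ N) : (M.obj : Type u) →ₗ[A] N.obj := f.hom.hom

omit [IsLocalRing A] [IsNoetherianRing A] in
lemma ext' {M N : Dual.FinLen A} {f g : M ⟶ N} (h : ∀ x, ap f x = ap g x) : f = g :=
  ObjectProperty.hom_ext _ (ModuleCat.hom_ext (LinearMap.ext h))

/-- the point `x` as a map from `A/m^(n+1)` -/
noncomputable def pt {M : Dual.FinLen A} {n : ℕ} (x : M.obj)
    (hx : ∀ a ∈ maximalIdeal A ^ (n + 1), a • x = 0) : Q n ⟶ M :=
  mk (Submodule.liftQ _ (LinearMap.toSpanSingleton A M.obj x) fun a ha => hx a ha)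

lemma ap_pt {M : Dual.FinLen A} {n : ℕ} (x : M.obj) (hx : ∀ a ∈ maximalIdeal A ^ (n + 1), a • x = 0)
    (a : A) : ap (pt x hx) (Submodule.Quotient.mk a) = a • x := rfl

lemma kills_map {M : Dual.FinLen A} {n : ℕ} (f : Q n ⟶ M) :
    ∀ a ∈ maximalIdeal A ^ (n + 1), a • ap f (Submodule.Quotient.mk 1) = 0 := fun a ha => by
  rw [← map_smul, ← Submodule.Quotient.mk_smul, smul_eq_mul, mul_one,
    (Submodule.Quotient.mk_eq_zero _).mpr ha, map_zero]

lemma eq_of_one {M : Dual.FinLen A} {n : ℕ} {f g : Q n ⟶ M}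
    (h : ap f (Submodule.Quotient.mk 1) = ap g (Submodule.Quotient.mk 1)) : f = g :=
  ObjectProperty.hom_ext _ (ModuleCat.hom_ext (Submodule.linearMap_qext _ (LinearMap.ext_ring h)))

/-- projection -/
noncomputable def q (n : ℕ) : Q (n + 1) ⟶ (Q n : Dual.FinLen A) :=
  pt (Submodule.Quotient.mk 1) fun a ha => by
    rw [← Submodule.Quotient.mk_smul, smul_eq_mul, mul_one, Submodule.Quotient.mk_eq_zero]
    exact Ideal.pow_le_pow_right (by omega) ha

lemma ap_q (n : ℕ) (a : A) :
    ap (q n) (Submodule.Quotient.mk a : A ⧸ maximalIdeal A ^ (n + 1 + 1)) = Submodule.Quotient.mk a := by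
  refine (ap_pt _ _ a).trans ?_
  rw [← Submodule.Quotient.mk_smul, smul_eq_mul, mul_one]

omit [IsNoetherianRing A] in
lemma kills_Q (n : ℕ) (a : A) (ha : a ∈ maximalIdeal A ^ (n + 1))
    (x : A ⧸ maximalIdeal A ^ (n + 1)) : a • x = 0 := by
  obtain ⟨x, rfl⟩ := Submodule.Quotient.mk_surjective _ x
  rw [← Submodule.Quotient.mk_smul, Submodule.Quotient.mk_eq_zero]
  exact Ideal.mul_mem_right _ _ ha

variable (F : Dual.FinLen A ≌ Dual.FinLen A) [F.functor.Additive] [F.functor.Linear A]

lemma kills_obj {M : Dual.FinLen A} (a : A) (h : ∀ x : M.obj, a • x = 0) :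
    ∀ y : (F.functor.obj M).obj, a • y = 0 := fun y => by
  have h0 : (a • 𝟙 M) = 0 := ext' h
  have := congrArg F.functor.map h0
  rw [Functor.map_smul, Functor.map_zero, CategoryTheory.Functor.map_id] at this
  exact congrArg (fun f => ap f y) this

lemma exists_gen0 : ∃ e : (F.functor.obj (Q 0)).obj, Submodule.span A {e} = ⊤ := by
  let V := F.functor.obj (Q 0 : Dual.FinLen A)
  have : IsNoetherian A V.obj := (isFiniteLength_iff_isNoetherian_isArtinian.mp V.property).1
  have hne : Nontrivial V.obj := by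
    by_contra h
    rw [not_nontrivial_iff_subsingleton] at h
    have h1 : 𝟙 (Q 0 : Dual.FinLen A) = 0 := F.functor.map_injective (ext' fun x => Subsingleton.elim _ _)
    have h2 : (Submodule.Quotient.mk 1 : A ⧸ maximalIdeal A ^ (0 + 1)) = 0 :=
      congrArg (fun f => ap f (Submodule.Quotient.mk 1 : A ⧸ maximalIdeal A ^ (0 + 1))) h1
    rw [Submodule.Quotient.mk_eq_zero, zero_add, pow_one] at h2
    exact (maximalIdeal A).ne_top_iff_one.mp (maximalIdeal.isMaximal A).ne_top h2
  have hm : ∀ a ∈ maximalIdeal A, ∀ v : V.obj, a • v = 0 := fun a ha =>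
    kills_obj F a fun x => kills_Q 0 a (by rwa [zero_add, pow_one]) x
  obtain ⟨f, hf⟩ := DualCx.TensorTop.exists_residue_surjection (A := A) V.obj
  obtain ⟨y, hy⟩ := hf 1
  let g : ResidueField A →ₗ[A] V.obj :=
    Submodule.liftQ _ (LinearMap.toSpanSingleton A V.obj y) fun a ha => hm a ha y
  obtain ⟨φ, hφ⟩ := F.functor.map_surjective (mk (g.comp f) : V ⟶ V)
  obtain ⟨c, hc⟩ := Submodule.Quotient.mk_surjective _ (ap φ (Submodule.Quotient.mk 1 : A ⧸ maximalIdeal A ^ (0 + 1)))
  have hφc : φ = c • 𝟙 (Q 0) := eq_of_one (hc.symm.trans (by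
    change _ = c • (Submodule.Quotient.mk 1 : A ⧸ maximalIdeal A ^ (0 + 1))
    rw [← Submodule.Quotient.mk_smul, smul_eq_mul, mul_one]))
  have hgf : ∀ v, g (f v) = c • v := fun v => by
    rw [hφc, Functor.map_smul, CategoryTheory.Functor.map_id] at hφ
    exact (congrArg (fun h => ap h v) hφ).symm
  have hgy : g (f y) = y := by rw [hy]; exact one_smul A y
  have hcu : IsUnit c := by
    by_contra hcu
    have h1 : y = 0 := by
      rw [← hgy, hgf]; exact hm c ((mem_maximalIdeal c).mpr hcu) y
    rw [h1, map_zero] at hy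
    exact zero_ne_one hy
  refine ⟨y, eq_top_iff.mpr fun v _ => ?_⟩
  obtain ⟨b, hb⟩ := Submodule.Quotient.mk_surjective _ (f v)
  have : c • v = b • y := by rw [← hgf, ← hb]; rfl
  refine (Submodule.smul_mem_iff_of_isUnit _ hcu).mp ?_
  rw [this]
  exact Submodule.smul_mem _ _ (Submodule.mem_span_singleton_self y)

lemma exists_gen_succ {n : ℕ} (e : (F.functor.obj (Q n)).obj) (he : Submodule.span A {e} = ⊤) :
    ∃ e' : (F.functor.obj (Q (n + 1))).obj, Submodule.span A {e'} = ⊤ ∧
      ap (F.functor.map (q n)) e' = e := by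
  let V := F.functor.obj (Q 0 : Dual.FinLen A)
  obtain ⟨v, hv⟩ := exists_gen0 F
  -- maps to the simple object
  have detect : ∀ {R : Dual.FinLen A} (S : Submodule A R.obj), S ≠ ⊤ →
      ∃ h : R ⟶ V, h ≠ 0 ∧ ∀ x ∈ S, ap h x = 0 := by
    intro R S hS
    have : IsNoetherian A R.obj := (isFiniteLength_iff_isNoetherian_isArtinian.mp R.property).1
    have : Nontrivial (R.obj ⧸ S) := Submodule.Quotient.nontrivial_iff.mpr hS
    obtain ⟨f, hf⟩ := DualCx.TensorTop.exists_residue_surjection (A := A) (R.obj ⧸ S)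
    have hm : ∀ a ∈ maximalIdeal A, a • v = 0 := fun a ha =>
      kills_obj F a (fun x => kills_Q 0 a (by rwa [zero_add, pow_one]) x) v
    let g : ResidueField A →ₗ[A] V.obj :=
      Submodule.liftQ _ (LinearMap.toSpanSingleton A V.obj v) hm
    refine ⟨mk (g.comp (f.comp S.mkQ)), fun h0 => ?_, fun x hx => ?_⟩
    · obtain ⟨z, hz⟩ := hf 1
      obtain ⟨z, rfl⟩ := Submodule.Quotient.mk_surjective _ z
      have h1 : g (f (Submodule.Quotient.mk z)) = 0 := congrArg (fun h => ap h z) h0
      rw [hz, show g 1 = v from one_smul A v] at h1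
      have : Subsingleton V.obj := subsingleton_of_forall_eq 0 fun x => by
        have : x ∈ Submodule.span A {v} := hv ▸ Submodule.mem_top
        rw [h1] at this
        simpa using this
      have h2 : 𝟙 (Q 0 : Dual.FinLen A) = 0 := F.functor.map_injective (ext' fun x => Subsingleton.elim _ _)
      have h3 : (Submodule.Quotient.mk 1 : A ⧸ maximalIdeal A ^ (0 + 1)) = 0 :=
        congrArg (fun f => ap f (Submodule.Quotient.mk 1 : A ⧸ maximalIdeal A ^ (0 + 1))) h2
      rw [Submodule.Quotient.mk_eq_zero, zero_add, pow_one] at h3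
      exact (maximalIdeal A).ne_top_iff_one.mp (maximalIdeal.isMaximal A).ne_top h3
    · change g (f (S.mkQ x)) = 0
      rw [Submodule.mkQ_apply, (Submodule.Quotient.mk_eq_zero S).mpr hx, map_zero, map_zero]
  -- `F q` is surjective
  have hsurj : Function.Surjective (ap (F.functor.map (q n))) := by
    rw [← LinearMap.range_eq_top]
    by_contra hne
    obtain ⟨h, h0, hh⟩ := detect _ hne
    obtain ⟨h', rfl⟩ := F.functor.map_surjective h
    refine h0 ?_
    have hq : q n ≫ h' = 0 := F.functor.map_injective (by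
      rw [Functor.map_comp, Functor.map_zero]
      exact ext' fun x => hh _ ⟨x, rfl⟩)
    have : h' = 0 := eq_of_one (by
      have := congrArg (fun f => ap f (Submodule.Quotient.mk 1 : A ⧸ maximalIdeal A ^ (n + 1 + 1))) hq
      change ap h' (ap (q n) (Submodule.Quotient.mk 1 : A ⧸ maximalIdeal A ^ (n + 1 + 1))) = 0 at this
      rw [ap_q] at this
      exact this)
    rw [this, Functor.map_zero]
  obtain ⟨e', he'⟩ := hsurj e
  refine ⟨e', ?_, he'⟩
  by_contra hne
  obtain ⟨h, h0, hh⟩ := detect _ hne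
  obtain ⟨h', rfl⟩ := F.functor.map_surjective h
  let y : (Q 0 : Dual.FinLen A).obj := ap h' (Submodule.Quotient.mk 1 : A ⧸ maximalIdeal A ^ (n + 1 + 1))
  let h'' : Q n ⟶ (Q 0 : Dual.FinLen A) := pt y fun a ha =>
    kills_Q 0 a (Ideal.pow_le_pow_right (by omega) ha) y
  have hfac : q n ≫ h'' = h' := eq_of_one (by
    change ap h'' (ap (q n) (Submodule.Quotient.mk 1 : A ⧸ maximalIdeal A ^ (n + 1 + 1))) = y
    rw [ap_q]
    exact one_smul A y)
  refine h0 ?_
  have hzero : ap (F.functor.map h'') e = 0 := by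
    rw [← he']
    have := hh e' (Submodule.mem_span_singleton_self e')
    rw [← hfac, Functor.map_comp] at this
    exact this
  have : F.functor.map h'' = 0 := ext' fun x => by
    obtain ⟨r, rfl⟩ := Submodule.mem_span_singleton.mp (he ▸ Submodule.mem_top : x ∈ Submodule.span A {e})
    rw [map_smul, hzero, smul_zero]
    rfl
  rw [← hfac, Functor.map_comp, this, Limits.comp_zero]

/-- a compatible system of generators -/
noncomputable def gen : ∀ n : ℕ,
    { e : (F.functor.obj (Q n)).obj // Submodule.span A {e} = ⊤ }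
  | 0 => ⟨(exists_gen0 F).choose, (exists_gen0 F).choose_spec⟩
  | n + 1 => ⟨(exists_gen_succ F (gen n).1 (gen n).2).choose,
      (exists_gen_succ F (gen n).1 (gen n).2).choose_spec.1⟩

lemma gen_q (n : ℕ) : ap (F.functor.map (q n)) (gen F (n + 1)).1 = (gen F n).1 :=
  (exists_gen_succ F (gen F n).1 (gen F n).2).choose_spec.2

lemma exists_kills (M : Dual.FinLen A) : ∃ n : ℕ, ∀ a ∈ maximalIdeal A ^ (n + 1), ∀ x : M.obj, a • x = 0 := by
  obtain ⟨hN, hA⟩ := isFiniteLength_iff_isNoetherian_isArtinian.mp M.property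
  choose k hk using InjHull.Matlis.isPowerTorsion_of_isArtinian (R := A) M.obj
  obtain ⟨s, hs⟩ := (IsNoetherian.noetherian (⊤ : Submodule A M.obj))
  classical
  refine ⟨s.sup k, fun a ha x => ?_⟩
  have h : a • (LinearMap.id : (M.obj : Type u) →ₗ[A] M.obj) = 0 :=
    LinearMap.ext_on hs fun y hy => by
      rw [LinearMap.smul_apply, LinearMap.id_apply, LinearMap.zero_apply]
      exact hk y a (Ideal.pow_le_pow_right (le_trans (Finset.le_sup (f := k) hy) (Nat.le_succ _)) ha)
  exact LinearMap.congr_fun h x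

noncomputable def bd (M : Dual.FinLen A) : ℕ := (exists_kills M).choose

lemma bd_spec (M : Dual.FinLen A) (x : M.obj) :
    ∀ a ∈ maximalIdeal A ^ (bd M + 1), a • x = 0 := fun a ha => (exists_kills M).choose_spec a ha x

lemma indep {M : Dual.FinLen A} (x : M.obj) {n : ℕ} (hn : ∀ a ∈ maximalIdeal A ^ (n + 1), a • x = 0) :
    ∀ (m : ℕ), n ≤ m → ∀ (hm : ∀ a ∈ maximalIdeal A ^ (m + 1), a • x = 0),
      ap (F.functor.map (pt x hm)) (gen F m).1 = ap (F.functor.map (pt x hn)) (gen F n).1 := by
  intro m h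
  induction m, h using Nat.le_induction with
  | base => intro hm; rfl
  | succ m hnm ih =>
    intro hm
    have hm' : ∀ a ∈ maximalIdeal A ^ (m + 1), a • x = 0 := fun a ha =>
      hn a (Ideal.pow_le_pow_right (by omega) ha)
    have : pt x hm = q m ≫ pt x hm' := eq_of_one (by
      change ap (pt x hm) _ = ap (pt x hm') (ap (q m) (Submodule.Quotient.mk 1 : A ⧸ maximalIdeal A ^ (m + 1 + 1)))
      rw [ap_q, ap_pt, ap_pt])
    rw [this, Functor.map_comp, ← ih hm', ← gen_q F m]
    rfl

/-- the comparison -/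
noncomputable def φ (M : Dual.FinLen A) : (M.obj : Type u) →ₗ[A] (F.functor.obj M).obj where
  toFun x := ap (F.functor.map (pt x (bd_spec M x))) (gen F (bd M)).1
  map_add' x y := by
    rw [show pt (x + y) (bd_spec M (x + y)) = pt x (bd_spec M x) + pt y (bd_spec M y) from
      eq_of_one (by
        change ap (pt (x + y) _) _ = ap (pt x _) _ + ap (pt y _) _
        rw [ap_pt, ap_pt, ap_pt, smul_add]), Functor.map_add]
    rfl
  map_smul' r x := by
    rw [show pt (r • x) (bd_spec M (r • x)) = r • pt x (bd_spec M x) from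
      eq_of_one (by
        change ap (pt (r • x) _) _ = r • ap (pt x _) _
        rw [ap_pt, ap_pt, smul_comm]), Functor.map_smul]
    rfl

lemma φ_natural {M N : Dual.FinLen A} (f : M ⟶ N) (x : M.obj) :
    ap (F.functor.map f) (φ F M x) = φ F N (ap f x) := by
  let m := max (bd M) (bd N)
  have hM : ∀ a ∈ maximalIdeal A ^ (m + 1), a • x = 0 := fun a ha =>
    bd_spec M x a (Ideal.pow_le_pow_right (Nat.add_le_add_right (le_max_left _ _) 1) ha)
  have hN : ∀ a ∈ maximalIdeal A ^ (m + 1), a • ap f x = 0 := fun a ha => by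
    rw [← map_smul, hM a ha, map_zero]
  change ap (F.functor.map f) (ap (F.functor.map (pt x _)) _) = ap (F.functor.map (pt (ap f x) _)) _
  rw [← indep F x (bd_spec M x) m (le_max_left _ _) hM,
    ← indep F (ap f x) (bd_spec N (ap f x)) m (le_max_right _ _) hN]
  rw [show pt (ap f x) hN = pt x hM ≫ f from eq_of_one (by
    change ap (pt (ap f x) hN) _ = ap f (ap (pt x hM) _)
    rw [ap_pt, ap_pt, map_smul]), Functor.map_comp]
  rfl

lemma φ_bijective (M : Dual.FinLen A) : Function.Bijective (φ F M) := by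
  refine ⟨(injective_iff_map_eq_zero _).mpr fun x hx => ?_, fun y => ?_⟩
  · have : F.functor.map (pt x (bd_spec M x)) = 0 := ext' fun z => by
      obtain ⟨r, rfl⟩ := Submodule.mem_span_singleton.mp
        (show z ∈ Submodule.span A {(gen F (bd M)).1} by rw [(gen F (bd M)).2]; exact Submodule.mem_top)
      rw [map_smul]
      exact (congrArg (r • ·) hx).trans (smul_zero r)
    have h1 : pt x (bd_spec M x) = 0 := F.functor.map_injective (this.trans (Functor.map_zero _ _ _).symm)
    have h2 := congrArg (fun f => ap f (Submodule.Quotient.mk 1 : A ⧸ maximalIdeal A ^ (bd M + 1))) h1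
    exact (one_smul A x).symm.trans ((ap_pt x (bd_spec M x) 1).symm.trans h2)
  · let n := bd M
    let e := (gen F n).1
    have he : Function.Surjective (LinearMap.toSpanSingleton A _ e) := by
      rw [← LinearMap.range_eq_top, LinearMap.range_toSpanSingleton]
      exact (gen F n).2
    have hker : LinearMap.ker (LinearMap.toSpanSingleton A _ e) ≤
        LinearMap.ker (LinearMap.toSpanSingleton A _ y) := fun a ha => by
      have h0 : a • 𝟙 (F.functor.obj (Q n)) = 0 := ext' fun z => by
        obtain ⟨r, rfl⟩ := he z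
        change a • r • e = 0
        rw [smul_comm, show a • e = 0 from ha, smul_zero]
      have h1 : a • 𝟙 (Q n : Dual.FinLen A) = 0 := F.functor.map_injective (by
        rw [Functor.map_smul, CategoryTheory.Functor.map_id, h0, Functor.map_zero])
      have h2 := congrArg (fun f => ap f (Submodule.Quotient.mk 1 : A ⧸ maximalIdeal A ^ (n + 1))) h1
      have h3 : (Submodule.Quotient.mk a : A ⧸ maximalIdeal A ^ (n + 1)) = 0 := by
        rw [← mul_one a, ← smul_eq_mul, Submodule.Quotient.mk_smul]
        exact h2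
      exact kills_obj F a (fun x => bd_spec M x a ((Submodule.Quotient.mk_eq_zero _).mp h3)) y
    let h : F.functor.obj (Q n) ⟶ F.functor.obj M :=
      mk ((Submodule.liftQ _ _ hker).comp (LinearMap.quotKerEquivOfSurjective _ he).symm.toLinearMap)
    have hh : ap h e = y := by
      change Submodule.liftQ _ _ hker ((LinearMap.quotKerEquivOfSurjective _ he).symm e) = y
      rw [show (LinearMap.quotKerEquivOfSurjective _ he).symm e = Submodule.Quotient.mk 1 from
        (LinearEquiv.symm_apply_eq _).mpr (one_smul A e).symm, Submodule.liftQ_apply]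
      exact one_smul A y
    obtain ⟨h', hh'⟩ := F.functor.map_surjective h
    refine ⟨ap h' (Submodule.Quotient.mk 1 : A ⧸ maximalIdeal A ^ (n + 1)), ?_⟩
    change ap (F.functor.map (pt _ _)) e = y
    rw [show pt _ (bd_spec M _) = h' from eq_of_one ((ap_pt _ _ 1).trans (one_smul A _)), hh', hh]

noncomputable def compIso (M : Dual.FinLen A) : M ≅ F.functor.obj M :=
  let e := LinearEquiv.ofBijective (φ F M) (φ_bijective F M)
  ⟨mk e.toLinearMap, mk e.symm.toLinearMap,
    ext' fun x => e.symm_apply_apply x, ext' fun x => e.apply_symm_apply x⟩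


/-- Over a Noetherian local ring A, an additive A-linear equivalence from the category of finite length
A-modules to itself is naturally isomorphic to the identity. -/
theorem result (A : Type u) [CommRing A] [IsLocalRing A] [IsNoetherianRing A] (F : Dual.FinLen A ≌ Dual.FinLen A) [F.functor.Additive] [F.functor.Linear A] : Nonempty (F.functor ≅ 𝟭 (Dual.FinLen A)) := by
  exact ⟨(NatIso.ofComponents (fun M => compIso F M)
    (fun {M N} f => ext' fun x => (φ_natural F f x).symm)).symm⟩

end Groth.Agent.S0362
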