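import Groth.Statements.S0363
import Groth.Agent.DualCx.TorHull

set_option autoImplicit false
universe u v
open CategoryTheory
open Goren

namespace Groth.Agent.S0363

open IsLocalRing Groth.Agent.DualCx Groth.Agent.DualCx.TorHull in
theorem aux (A : Type u) [CommRing A] [LocCoh.IsGorensteinLocalRing A] (d : ℕ) (hd : ringKrullDim A = d) (E : Type u) [AddCommGroup E] [Module A E] (f : ResidueField A →ₗ[A] E) (hf : InjHull.IsInjectiveHull f) :
    (∀ i : ℕ, i ≠ d → Limits.IsZero (((Tor (ModuleCat.{u} A) i).obj (ModuleCat.of A E)).obj (ModuleCat.of A (ResidueField A)))) ∧ Nonempty ((((Tor (ModuleCat.{u} A) d).obj (ModuleCat.of A E)).obj (ModuleCat.of A (ResidueField A))) ≅ ModuleCat.of A (ResidueField A)) := by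
  have hG : LocCoh.IsGorensteinLocalRing (A ⧸ Ideal.ofList ([] : List A)) :=
    Gor.FlatLocal.gorenstein_of_ringEquiv (R := A)
      ((RingEquiv.quotientBot A).symm.trans (Ideal.quotEquivOfEq Ideal.ofList_nil.symm))
  have hd' : ringKrullDim (A ⧸ Ideal.ofList ([] : List A)) = d := by
    rw [← hd]
    exact ringKrullDim_eq_of_ringEquiv ((Ideal.quotEquivOfEq Ideal.ofList_nil).trans (RingEquiv.quotientBot A))
  obtain ⟨l, hl, hlen, hloc, φ, hφ, hinj⟩ := exists_reg d ([] : List A) trivial hG hd'
  have hlen' : l.length + 0 = d := by simpa using hlen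
  obtain ⟨e⟩ := nonempty_quotient_hull hf l hinj hφ
  obtain ⟨h1, h2⟩ := t_T hf d l hl 0 hlen'
    ⟨fun i hi => absurd hi (by omega), fun i => (t_congr _ e.symm).trans (t_Q l hl i)⟩
  have htop : LocCoh.torsionBy (Ideal.ofList ([] : List A)) E = ⊤ := eq_top_iff.mpr fun e _ => by
    refine mem_T.mpr fun a ha => ?_
    rw [Ideal.ofList_nil, Ideal.mem_bot] at ha
    rw [ha, zero_smul]
  have eE : TorHull.T E ([] : List A) ≅ ModuleCat.of A E := (LinearEquiv.ofTop _ htop).toModuleIso
  refine ⟨fun i hi => ?_, ?_⟩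
  · have h0 : t i (ModuleCat.of A E) = 0 := by
      rw [← t_congr i eE]
      rcases Nat.lt_or_ge i d with h | h
      · exact h1 i h
      · obtain ⟨j, rfl⟩ : ∃ j, i = j + 1 + d := ⟨i - d - 1, by omega⟩
        rw [h2, Nat.choose_zero_succ, Nat.cast_zero]
    have := Module.length_eq_zero_iff.mp h0
    exact ModuleCat.isZero_of_subsingleton _
  · have h := h2 0
    rw [Nat.zero_add, Nat.choose_self, Nat.cast_one, t_congr d eE, t, Module.length_eq_one_iff,
      isSimpleModule_iff_quot_maximal] at h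
    obtain ⟨I, hI, ⟨g⟩⟩ := h
    obtain rfl : I = maximalIdeal A := IsLocalRing.eq_maximalIdeal hI
    exact ⟨g.toModuleIso⟩

/-- Over a Gorenstein local ring of dimension d with E an injective hull of the residue field κ,
Tor_i(E, κ) vanishes for i ≠ d and Tor_d(E, κ) is isomorphic to κ. -/
theorem result (A : Type u) [CommRing A] [LocCoh.IsGorensteinLocalRing A] (d : ℕ) (hd : ringKrullDim A = d) (E : Type u) [AddCommGroup E] [Module A E] (f : IsLocalRing.ResidueField A →ₗ[A] E) (hf : InjHull.IsInjectiveHull f) : (∀ i : ℕ, i ≠ d → Limits.IsZero (((Tor (ModuleCat.{u} A) i).obj (ModuleCat.of A E)).obj (ModuleCat.of A (IsLocalRing.ResidueField A)))) ∧ Nonempty ((((Tor (ModuleCat.{u} A) d).obj (ModuleCat.of A E)).obj (ModuleCat.of A (IsLocalRing.ResidueField A))) ≅ ModuleCat.of A (IsLocalRing.ResidueField A)) := by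
  exact aux A d hd E f hf

end Groth.Agent.S0363
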