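import Groth.Statements.S0365
import Groth.Agent.DualCx.Normal

set_option autoImplicit false
universe u v
open CategoryTheory
attribute [local instance] HasDerivedCategory.standard
open Dual

namespace Groth.Agent.S0365

/-- For a Noetherian local ring with normalized dualizing complex ω, the depth of the ring is the least
δ ≥ 0 with H^{-δ}(ω) nonzero. -/
theorem result (A : Type u) [CommRing A] [IsLocalRing A] [IsNoetherianRing A] (ω : Dual.D A) (hω : Dual.IsDualizing A ω) (hn : Dual.IsNormalized A ω) (n : ℕ) : LocCoh.depth A A = n ↔ ((∀ δ : ℕ, δ < n → Subsingleton (Dual.HD A ω (-(δ : ℤ)))) ∧ Nontrivial (Dual.HD A ω (-(n : ℤ)))) := by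
  rw [DualCx.Normal.depth_eq_iff hω hn A n]
  constructor
  · rintro ⟨h1, h2⟩
    exact ⟨fun δ hδ => have := h1 δ hδ; (DualCx.Cx.homUnitEquivShift ω _).symm.toEquiv.subsingleton  ,
      (DualCx.Cx.homUnitEquivShift ω _).symm.toEquiv.nontrivial⟩
  · rintro ⟨h1, h2⟩
    exact ⟨fun δ hδ => have := h1 δ hδ; (DualCx.Cx.homUnitEquivShift ω _).toEquiv.subsingleton,
      (DualCx.Cx.homUnitEquivShift ω _).toEquiv.nontrivial⟩

end Groth.Agent.S0365
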