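import Groth.Statements.S0369
import Groth.Agent.DualCx.TopModule

set_option autoImplicit false
universe u v
open CategoryTheory
attribute [local instance] HasDerivedCategory.standard
open Dual

namespace Groth.Agent.S0369

/-- For a Noetherian local ring of dimension d with normalized dualizing complex ω, the module ω_A =
H^{−d}(ω) has support equal to the union of those irreducible components of Spec A whose dimension
is d, and satisfies Serre's condition (S_2). -/
theorem result (A : Type u) [CommRing A] [IsLocalRing A] [IsNoetherianRing A] (ω : Dual.D A) (hω : Dual.IsDualizing A ω) (hn : Dual.IsNormalized A ω) (d : ℕ) (hd : ringKrullDim A = d) : Module.support A (Dual.HD A ω (-(d : ℤ))) = {p : PrimeSpectrum A | ∃ q ∈ minimalPrimes A, q ≤ p.asIdeal ∧ ringKrullDim (A ⧸ q) = d} ∧ LocCoh.HasSk 2 A (Dual.HD A ω (-(d : ℤ))) := by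
  have hsupp : ∀ p : PrimeSpectrum A, p ∈ Module.support A (Dual.HD A ω (-(d : ℤ))) ↔
      ¬ DualCx.Dimfun.Z p (Dual.HD A ω (-(d : ℤ))) := fun p => by
    rw [DualCx.Dimfun.Z_iff_localized, not_subsingleton_iff_nontrivial]
    exact Module.mem_support_iff
  refine ⟨?_, ?_⟩
  · ext p
    rw [hsupp, Set.mem_ofPred_eq]
    constructor
    · intro hp
      obtain ⟨h, -, -, q, hq, hqp, hdeg⟩ := DualCx.TopModule.exists_minimal hω hn d hd p hp
      refine ⟨q.asIdeal, hq, hqp, ?_⟩
      rw [DualCx.Dimfun.ringKrullDim_quotient_eq hω hn q, hdeg, neg_neg]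
      rfl
    · rintro ⟨Q, hQ, hQp, hdim⟩ hZ
      let q : PrimeSpectrum A := ⟨Q, hQ.1.1⟩
      have h1 := DualCx.Dimfun.ringKrullDim_quotient_eq hω hn q
      rw [show ringKrullDim (A ⧸ q.1) = (d : WithBot ℕ∞) from hdim] at h1
      have h2 : d = (-DualCx.Dimfun.deg hω q).toNat := by exact_mod_cast h1
      have h3 := DualCx.Dimfun.deg_nonpos hω hn q
      exact (DualCx.Dimfun.not_Z_HD_iff_minimal hω q hQ (-(d : ℤ))).mpr (by omega)
        (DualCx.Dimfun.Z_mono hQp hZ)
  · intro p hp
    let P : PrimeSpectrum A := ⟨p, hp⟩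
    by_cases hZ : DualCx.Dimfun.Z P (Dual.HD A ω (-(d : ℤ)))
    · have : Subsingleton (LocalizedModule p.primeCompl (Dual.HD A ω (-(d : ℤ)))) :=
        (DualCx.Dimfun.Z_iff_localized P _).mp hZ
      rw [Module.supportDim_eq_bot_of_subsingleton]
      exact le_trans (min_le_right _ _) bot_le
    obtain ⟨h, hh, hhd, -⟩ := DualCx.TopModule.exists_minimal hω hn d hd P hZ
    obtain ⟨e⟩ := DualCx.TopModule.nonempty_localized hω hn P (-(d : ℤ)) (-(h : ℤ)) (by omega)
    have hdep := DualCx.TopModule.le_depth (DualCx.Normalized.isDualizing_loc hω P)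
      (DualCx.Normalized.isNormalized_loc hω P) h
      (DualCx.TopModule.subsingleton_below hω hn P h hh.le) (min 2 h) (min_le_left _ _) (min_le_right _ _)
    rw [show LocCoh.depth (Localization.AtPrime p) (LocalizedModule p.primeCompl (Dual.HD A ω (-(d : ℤ))))
      = LocCoh.depth (DualCx.Dimfun.B P) (Dual.HD (DualCx.Dimfun.B P) (DualCx.Normalized.loc hω P) (-(h : ℤ)))
      from Depth.idealDepth_congr e]
    refine le_trans ?_ (WithBot.coe_le_coe.mpr hdep)
    have hle : Module.supportDim (Localization.AtPrime p)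
        (LocalizedModule p.primeCompl (Dual.HD A ω (-(d : ℤ)))) ≤ ((h : ℕ) : WithBot ℕ∞) := by
      refine (Module.supportDim_le_ringKrullDim _ _).trans ?_
      rw [IsLocalization.AtPrime.ringKrullDim_eq_height p (Localization.AtPrime p),
        show p.height = (h : ℕ∞) from hh]
      rfl
    refine (min_le_min le_rfl hle).trans (le_of_eq ?_)
    rcases le_total 2 h with h2 | h2
    · rw [min_eq_left h2, min_eq_left (by exact_mod_cast h2)]
      rfl
    · rw [min_eq_right h2, min_eq_right (by exact_mod_cast h2)]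
      rfl

end Groth.Agent.S0369
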