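import Groth.Statements.S0370
import Groth.Agent.DualCx.Normalized
import Groth.Agent.DRing.PCTools
import Groth.Agent.Depth.Basic

set_option autoImplicit false
universe u v
open CategoryTheory
attribute [local instance] HasDerivedCategory.standard
open Dual

namespace Groth.Agent.S0370

theorem cmRing_iff (A : Type u) [CommRing A] [IsNoetherianRing A] (p : Ideal A) [p.IsPrime] :
    LocCoh.IsCohenMacaulayLocalRing (Localization.AtPrime p) ↔
      (Subsingleton (LocalizedModule p.primeCompl A) ∨
        LocCoh.IsCohenMacaulayModule (Localization.AtPrime p) (LocalizedModule p.primeCompl A)) := by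
  let e : LocalizedModule p.primeCompl A ≃ₗ[Localization.AtPrime p] Localization.AtPrime p :=
    (LocalizedModule.equivTensorProduct p.primeCompl A).trans
      (TensorProduct.AlgebraTensorModule.rid A (Localization.AtPrime p) (Localization.AtPrime p))
  have hns : ¬ Subsingleton (LocalizedModule p.primeCompl A) := fun h =>
    not_subsingleton (Localization.AtPrime p) e.symm.toEquiv.subsingleton
  rw [or_iff_right hns, LocCoh.IsCohenMacaulayModule, Module.supportDim_eq_of_equiv e,
    show LocCoh.depth (Localization.AtPrime p) (LocalizedModule p.primeCompl A) =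
      LocCoh.depth (Localization.AtPrime p) (Localization.AtPrime p) from Depth.idealDepth_congr e]
  exact ⟨fun h => h.supportDim_eq_depth, fun h => { supportDim_eq_depth := h }⟩


/-- A Noetherian ring admitting a finite module which, placed in degree 0, is a dualizing complex, is
Cohen–Macaulay. -/
theorem result (A : Type u) [CommRing A] [IsNoetherianRing A] (W : Type u) [AddCommGroup W] [Module A W] [Module.Finite A W] (h : Dual.IsDualizing A (Dual.inD A W)) : LocCoh.IsCohenMacaulayRing A := by
  constructor
  intro p hp
  rw [cmRing_iff]
  refine (DualCx.Normalized.cm_iff h ⟨p, hp⟩ A).mpr ⟨0, fun j hj => ?_⟩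
  have h0 : Subsingleton (Dual.HD A (Dual.inD A W) j) :=
    DRing.PC.subsingleton_HD_inD A W j hj
  have := (DualCx.Cx.homUnitEquivShift (Dual.inD A W) j).toEquiv.subsingleton
  exact DualCx.Dimfun.Z_of_subsingleton _ _

end Groth.Agent.S0370
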