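import Groth.Statements.S0372
import Groth.Agent.DualCx.Locus

set_option autoImplicit false
universe u v
open CategoryTheory
attribute [local instance] HasDerivedCategory.standard
open Dual

namespace Groth.Agent.S0372

/-- If a Noetherian ring has a dualizing complex then the set of primes at which the localization is
Cohen–Macaulay is open and dense in the prime spectrum. -/
theorem result (A : Type u) [CommRing A] [IsNoetherianRing A] (ω : Dual.D A) (hω : Dual.IsDualizing A ω) : IsOpen {p : PrimeSpectrum A | LocCoh.IsCohenMacaulayLocalRing (Localization.AtPrime p.asIdeal)} ∧ Dense {p : PrimeSpectrum A | LocCoh.IsCohenMacaulayLocalRing (Localization.AtPrime p.asIdeal)} := by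
  refine ⟨?_, ?_⟩
  · convert DualCx.Locus.isOpen_cm hω A using 1
    ext p
    exact DualCx.Locus.cmRing_iff p.asIdeal
  · intro p
    have hp : p ∈ Module.support A A :=
      Module.mem_support_iff_of_finite.mpr fun r hr => by
        have := Module.mem_annihilator.mp hr 1
        rw [smul_eq_mul, mul_one] at this
        rw [this]
        exact p.asIdeal.zero_mem
    refine closure_mono ?_ (DualCx.Locus.subset_closure_cm hω A hp)
    rintro q ⟨hq, -⟩
    exact (DualCx.Locus.cmRing_iff q.asIdeal).mpr (Or.inr hq)

end Groth.Agent.S0372
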