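import Groth.Statements.S0375
import Groth.Agent.DualCx.Trace
import Mathlib.RingTheory.HopkinsLevitzki
import Mathlib.RingTheory.KrullDimension.Zero

set_option autoImplicit false
universe u v
open CategoryTheory
attribute [local instance] HasDerivedCategory.standard
open Dual

namespace Groth.Agent.S0375

/-- Over a Noetherian local ring of dimension 0, a normalized dualizing complex is isomorphic in D(A) to
an injective hull of the residue field placed in degree 0. -/
theorem result (A : Type u) [CommRing A] [IsLocalRing A] [IsNoetherianRing A] (h0 : ringKrullDim A = 0) (ω : Dual.D A) (hω : Dual.IsDualizing A ω) (hn : Dual.IsNormalized A ω) (E : Type u) [AddCommGroup E] [Module A E] (f : IsLocalRing.ResidueField A →ₗ[A] E) (hf : InjHull.IsInjectiveHull f) : Nonempty (ω ≅ Dual.inD A E) := by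
  have : Ring.KrullDimLE 0 A := Ring.krullDimLE_iff.mpr (by simp [h0])
  have : IsArtinianRing A := IsNoetherianRing.isArtinianRing_of_krullDimLE_zero
  obtain ⟨k, hk⟩ := IsArtinianRing.isNilpotent_jacobson_bot (R := A)
  rw [IsLocalRing.jacobson_eq_maximalIdeal _ bot_ne_top] at hk
  have hkill : ∀ a ∈ IsLocalRing.maximalIdeal A ^ k, ∀ x : A, a • x = 0 := fun a ha x => by
    rw [hk] at ha
    rw [(Submodule.mem_bot A).mp ha, zero_smul]
  obtain ⟨θ, hθ⟩ := DualCx.Trace.exists_trace hω hn hf
  let eT := (LinearEquiv.ofBijective _ (DualCx.Trace.bijective_τ hω hn hf θ hθ A k hkill)).trans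
    (LinearMap.ringLmapEquivSelf A A E)
  let e0 : Dual.HD A ω 0 ≃ₗ[A] E := (DualCx.Cx.homUnitEquivShift ω 0).symm.trans eT
  obtain ⟨eω⟩ := DualCx.Devissage.nonempty_single ω 0 fun i hi => by
    have := DualCx.Trace.subsingleton_of_pow hn A hkill i hi
    exact (DualCx.Cx.homUnitEquivShift ω i).symm.toEquiv.subsingleton
  exact ⟨eω ≪≫ (shiftFunctorZero' (Dual.D A) (-0 : ℤ) neg_zero).app _ ≪≫
    (DerivedCategory.singleFunctor (ModuleCat.{u} A) 0).mapIso e0.toModuleIso⟩

end Groth.Agent.S0375
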