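import Groth.Statements.S0377
import Groth.Agent.DualCx.Smooth
import Groth.Agent.DualCx.ShriekExists

set_option autoImplicit false
universe u v
open CategoryTheory
attribute [local instance] HasDerivedCategory.standard
open Dual

namespace Groth.Agent.S0377

/-- If a Noetherian ring A has a dualizing complex then so does every A-algebra essentially of finite
type. -/
theorem result (A : Type u) [CommRing A] [IsNoetherianRing A] (ω : Dual.D A) (hω : Dual.IsDualizing A ω) (B : Type u) [CommRing B] [Algebra A B] [Algebra.EssFiniteType A B] : ∃ ω' : Dual.D B, Dual.IsDualizing B ω' := by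
  let C := Algebra.EssFiniteType.subalgebra A B
  let M := Algebra.EssFiniteType.submonoid A B
  obtain ⟨n, f, hf⟩ := Algebra.FiniteType.iff_quotient_mvPolynomial''.mp
    (inferInstance : Algebra.FiniteType A C)
  have hP := DualCx.Smooth.isDualizing_mvPolynomial hω n
  letI : Algebra (MvPolynomial (Fin n) A) C := f.toRingHom.toAlgebra
  have : Module.Finite (MvPolynomial (Fin n) A) C :=
    Module.Finite.of_surjective (Algebra.linearMap (MvPolynomial (Fin n) A) C) hf
  have : IsNoetherianRing C := Algebra.FiniteType.isNoetherianRing A C
  obtain ⟨ω₁, h₁⟩ := DualCx.Shriek.exists_isDualizing (B := C) hP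
  have : IsNoetherianRing B := IsLocalization.isNoetherianRing M B inferInstance
  have : Module.Flat C B := IsLocalization.flat B M
  exact ⟨_, DualCx.Extended.isDualizing (B := B) h₁ fun m _ => IsLocalization.map_comap M B m⟩

end Groth.Agent.S0377
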