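import Groth.Statements.S0382
import Groth.Agent.GrpScheme.EtaleEndo
import Groth.Agent.GrpScheme.AVComm
import Groth.Agent.GrpScheme.Dimension
-- import your own Groth.Agent.* helpers here

set_option autoImplicit false
universe u v
open CategoryTheory MonoidalCategory CartesianMonoidalCategory MonObj GrpObj AlgebraicGeometry
open GrpSch

namespace Groth.Agent.S0382

/-- On an abelian variety of positive dimension over a field K (a proper, geometrically integral group
scheme over K), multiplication by an integer d is étale exactly when d is nonzero in K.
Multiplication by d is written as the d-th power of the identity morphism in the group Hom(A, A),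
whose multiplication is pointwise, induced by the group structure of A. -/
theorem result (K : Type u) [Field K] (A : Over (Spec (CommRingCat.of K))) [GrpObj A] [IsProper A.hom] [GeometricallyIntegral A.hom] (hA : 0 < topologicalKrullDim A.left) (d : ℤ) : Etale ((𝟙 A ^ d).left) ↔ ((d : K) ≠ 0) := by
  have := Groth.Agent.GrpScheme.AVComm.isCommMonObj A
  refine ⟨fun h hd => ?_, fun hd => Groth.Agent.GrpScheme.EtaleEndo.etale_zpow A d hd⟩
  have hf := Groth.Agent.GrpScheme.EtaleEndo.isField_of_formallyUnramified A d hd
  let e := Groth.Agent.GrpScheme.Cartier.unitPt A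
  have hcl : IsClosed ({e} : Set A.left) := by
    have : IsClosedImmersion η[A].left := by
      have : IsClosedImmersion (η[A].left ≫ A.hom) := by
        rw [Over.w η[A]]
        exact inferInstanceAs (IsClosedImmersion (𝟙 (Spec (CommRingCat.of K))))
      exact IsClosedImmersion.of_comp η[A].left A.hom
    have hsub : Subsingleton (𝟙_ (Over (Spec (CommRingCat.of K)))).left :=
      inferInstanceAs (Subsingleton (Spec (CommRingCat.of K)))
    have hr : Set.range η[A].left = {e} := Set.eq_singleton_iff_unique_mem.mpr
      ⟨⟨_, rfl⟩, fun y ⟨p, hp⟩ => hp ▸ congrArg η[A].left (hsub.elim p _)⟩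
    exact hr ▸ η[A].left.isClosedEmbedding.isClosed_range
  have hmax : IsMax e := fun w hw => by
    have h1 : w ∈ Set.range (A.left.fromSpecStalk e) := by
      rw [Scheme.range_fromSpecStalk]; exact hw
    obtain ⟨r, rfl⟩ := h1
    have hsub : Subsingleton (Spec (A.left.presheaf.stalk e)) := by
      let := hf.toField
      exact inferInstanceAs (Subsingleton (PrimeSpectrum _))
    rw [hsub.elim r (IsLocalRing.closedPoint _), Scheme.fromSpecStalk_closedPoint]
  have h0 : Order.coheight e = 0 := Order.coheight_eq_zero.mpr hmax
  rw [← Groth.Agent.GrpScheme.Dimension.coheight_eq_topologicalKrullDim A e hcl, h0] at hA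
  exact lt_irrefl _ hA

end Groth.Agent.S0382
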