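import Groth.Statements.S0396
import Groth.Agent.LocFlat.Fibre
import Mathlib.RingTheory.Localization.BaseChange
import Mathlib.RingTheory.Flat.Localization

set_option autoImplicit false
universe u
open FlatMor

namespace Groth.Agent.S0396

open TensorProduct in
/-- For a map of Noetherian rings R → S, an ideal I of R and a finite S-module M such that M/IⁿM is flat
over R/Iⁿ for every n ≥ 1, the localization of M at any prime of S containing IS is flat over R. -/
theorem result {R S M : Type u} [CommRing R] [CommRing S] [IsNoetherianRing R] [IsNoetherianRing S] [Algebra R S]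
    [AddCommGroup M] [Module R M] [Module S M] [IsScalarTower R S M] [Module.Finite S M] (I : Ideal R)
    (h : ∀ n : ℕ, 0 < n → Module.Flat (R ⧸ I ^ n) ((R ⧸ I ^ n) ⊗[R] M))
    (q : Ideal S) [q.IsPrime] (hq : I.map (algebraMap R S) ≤ q) :
    Module.Flat R (LocalizedModule q.primeCompl M) := by
  have : IsNoetherianRing (Localization.AtPrime q) :=
    IsLocalization.isNoetherianRing q.primeCompl _ inferInstance
  have : Module.Finite (Localization.AtPrime q) (LocalizedModule q.primeCompl M) :=
    Module.Finite.of_isLocalizedModule q.primeCompl (LocalizedModule.mkLinearMap q.primeCompl M)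
  refine Groth.Agent.LocFlat.flat_of_forall_pow (S := Localization.AtPrime q)
    (LocalizedModule q.primeCompl M) I ?_ ?_
  · rw [IsLocalRing.jacobson_eq_maximalIdeal ⊥ bot_ne_top,
      IsScalarTower.algebraMap_eq R S (Localization.AtPrime q), ← Ideal.map_map,
      ← Localization.AtPrime.map_eq_maximalIdeal]
    exact Ideal.map_mono hq
  intro n A B _ _ _ _ a ha hB
  have hB' : I ^ (n + 1) • (⊤ : Submodule R B) = ⊥ := by
    rw [eq_bot_iff, ← hB]
    exact Submodule.smul_mono_left (Ideal.pow_le_pow_right (Nat.le_succ n))
  have h0 : Function.Injective (a.lTensor M) := (LinearMap.lTensor_inj_iff_rTensor_inj _ _).mpr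
    (Groth.Agent.LocFlat.rTensor_injective_of_flat_quot M (I ^ (n + 1))
    (h _ (Nat.succ_pos n)) A B a ha hB')
  have : Module.Flat S (Localization.AtPrime q) := IsLocalization.flat _ q.primeCompl
  let e := LocalizedModule.equivTensorProduct q.primeCompl M
  have h1 : Function.Injective ((AlgebraTensorModule.lTensor S M a).baseChange (Localization.AtPrime q)) :=
    Module.Flat.lTensor_preserves_injective_linearMap (AlgebraTensorModule.lTensor S M a) h0
  let j := fun (X : Type u) [AddCommGroup X] [Module R X] =>
    (AlgebraTensorModule.assoc R S (Localization.AtPrime q) (Localization.AtPrime q) M X).symm.trans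
      (AlgebraTensorModule.congr e.symm (LinearEquiv.refl R X))
  have hcomm : ∀ z, LinearMap.lTensor (LocalizedModule q.primeCompl M) a (j A z) =
      j B ((AlgebraTensorModule.lTensor S M a).baseChange (Localization.AtPrime q) z) := by
    intro z
    induction z with
    | zero => simp
    | tmul c y =>
      induction y with
      | zero => simp
      | tmul m x => simp [j]
      | add y y' hy hy' => simp only [tmul_add, map_add, hy, hy']
    | add z z' hz hz' => simp only [map_add, hz, hz']
  rw [← LinearMap.lTensor_inj_iff_rTensor_inj]
  intro x y hxy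
  obtain ⟨x, rfl⟩ := (j A).surjective x
  obtain ⟨y, rfl⟩ := (j A).surjective y
  rw [hcomm, hcomm] at hxy
  rw [h1 ((j B).injective hxy)]

end Groth.Agent.S0396
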