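import Groth.Statements.S0397
import Mathlib.RingTheory.LocalRing.Module
import Mathlib.RingTheory.TensorProduct.Free


set_option autoImplicit false
universe u
open FlatMor

namespace Groth.Agent.S0397

/-- Over a local ring whose maximal ideal is nilpotent, every flat module (not necessarily finitely
generated) is free. -/
theorem result {R M : Type u} [CommRing R] [IsLocalRing R] (hR : IsNilpotent (IsLocalRing.maximalIdeal R))
    [AddCommGroup M] [Module R M] [Module.Flat R M] : Module.Free R M := by
  have hv : ∃ v : Module.Free.ChooseBasisIndex (IsLocalRing.ResidueField R)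
      (TensorProduct R (IsLocalRing.ResidueField R) M) → M,
      TensorProduct.mk R _ M 1 ∘ v = Module.Free.chooseBasis _ _ :=
    (TensorProduct.mk_surjective R M _ Ideal.Quotient.mk_surjective).comp_left _
  obtain ⟨v, hv⟩ := hv
  set w := Module.Free.chooseBasis (IsLocalRing.ResidueField R)
      (TensorProduct R (IsLocalRing.ResidueField R) M)
  have hli : LinearIndependent R v :=
    Module.IsLocalRing.linearIndependent_of_flat v (hv ▸ w.linearIndependent)
  set N := Submodule.span R (Set.range v) with hN
  have h1 : N ⊔ (IsLocalRing.maximalIdeal R) • ⊤ = (⊤ : Submodule R M) := by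
    have hk : LinearMap.ker (TensorProduct.mk R (IsLocalRing.ResidueField R) M 1) =
        IsLocalRing.maximalIdeal R • ⊤ := LinearMap.ker_tensorProductMk M
    rw [← hk, ← Submodule.comap_map_eq, hN, Submodule.map_span,
      ← Set.range_comp, hv, ← Submodule.restrictScalars_span R (IsLocalRing.ResidueField R)
        Ideal.Quotient.mk_surjective, w.span_eq]
    rfl
  have h2 : ∀ k : ℕ, N ⊔ (IsLocalRing.maximalIdeal R) ^ k • ⊤ = (⊤ : Submodule R M) := by
    intro k
    induction k with
    | zero => simp
    | succ k ih =>
      rw [eq_top_iff]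
      calc (⊤ : Submodule R M) = N ⊔ (IsLocalRing.maximalIdeal R) ^ k • (N ⊔ (IsLocalRing.maximalIdeal R) • ⊤) := by rw [h1, ih]
        _ ≤ N ⊔ (IsLocalRing.maximalIdeal R) ^ (k + 1) • ⊤ := by
          rw [Submodule.smul_sup, pow_succ, Submodule.mul_smul, ← sup_assoc]
          exact sup_le_sup_right (sup_le le_rfl Submodule.smul_le_right) _
  obtain ⟨k, hk⟩ := hR
  have h3 := h2 k
  rw [hk] at h3
  simp at h3
  exact Module.Free.of_basis (Module.Basis.mk hli (le_of_eq h3.symm))
end Groth.Agent.S0397
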