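import Groth.Statements.S0398
import Groth.Agent.LocFlat.Artinian

set_option autoImplicit false
universe u
open FlatMor

namespace Groth.Agent.S0398

open TensorProduct in
/-- For an injective ring map R → S with R Artinian and an R-module M, if S ⊗ M is flat over S then M is
flat over R. -/
theorem result {R S M : Type u} [CommRing R] [CommRing S] [IsArtinianRing R] [Algebra R S] (hinj : Function.Injective (algebraMap R S))
    [AddCommGroup M] [Module R M] [Module.Flat S (S ⊗[R] M)] : Module.Flat R M := by
  obtain ⟨P, _, _, p, hP, hp, hker⟩ := Groth.Agent.LocFlat.Artinian.exists_cover (R := R) M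
  have hb := Groth.Agent.LocFlat.Artinian.baseChange_bijective_of_flat (S := S) p hp
    (Ideal.jacobson (⊥ : Ideal R)) IsArtinianRing.isNilpotent_jacobson_bot hker
  have : FaithfulSMul R S := (faithfulSMul_iff_algebraMap_injective R S).mpr hinj
  have hinjp : Function.Injective p := by
    intro x y hxy
    exact Module.Flat.tensorProduct_mk_injective R P S (hb.1 (by simp [hxy]))
  exact Module.Flat.of_linearEquiv (LinearEquiv.ofBijective p ⟨hinjp, hp⟩).symm

end Groth.Agent.S0398
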