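import Groth.Statements.S0399
import Groth.Agent.LocFlat.Basic
import Mathlib.RingTheory.Localization.BaseChange
import Mathlib.RingTheory.Flat.Localization
import Mathlib.LinearAlgebra.TensorProduct.Finiteness

set_option autoImplicit false
universe u
open FlatMor

namespace Groth.Agent.S0399

open TensorProduct Function Groth.Agent.LocFlat in
theorem of_baseChange {A A' : Type u} [CommRing A] [CommRing A'] [Algebra A A']
    {L F C : Type u} [AddCommGroup L] [Module A L] [AddCommGroup F] [Module A F]
    [AddCommGroup C] [Module A C] [Module.Flat A' (A' ⊗[A] C)]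
    (f : L →ₗ[A] F) (g : F →ₗ[A] C) (hfg : Exact f g) (hg : Surjective g)
    (hinj : Injective (f.baseChange A'))
    (Q : Type u) [AddCommGroup Q] [Module A Q] [Module A' Q] [IsScalarTower A A' Q] :
    Injective (f.lTensor Q) := by
  have hi := lTensor_injective_of_flat_coker (f.baseChange A') (g.baseChange A')
    (lTensor_exact A' hfg hg) (LinearMap.lTensor_surjective _ hg) hinj Q
  have hcomm : ∀ z, f.lTensor Q (AlgebraTensorModule.cancelBaseChange A A' A' Q L z) =
      AlgebraTensorModule.cancelBaseChange A A' A' Q F ((f.baseChange A').lTensor Q z) := by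
    intro z
    induction z with
    | zero => simp
    | tmul q y =>
      induction y with
      | zero => simp
      | tmul r l => simp
      | add y y' hy hy' => simp only [tmul_add, map_add, hy, hy']
    | add z z' hz hz' => simp only [map_add, hz, hz']
  intro x y hxy
  obtain ⟨x, rfl⟩ := (AlgebraTensorModule.cancelBaseChange A A' A' Q L).surjective x
  obtain ⟨y, rfl⟩ := (AlgebraTensorModule.cancelBaseChange A A' A' Q L).surjective y
  rw [hcomm, hcomm] at hxy
  rw [hi ((AlgebraTensorModule.cancelBaseChange A A' A' Q F).injective hxy)]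

open TensorProduct Function in
/-- From modules killed by a power of `f` to `f`-power torsion modules. -/
theorem of_torsion {A : Type u} [CommRing A] (f : A) {L F : Type u} [AddCommGroup L] [Module A L]
    [AddCommGroup F] [Module A F] [Module.Flat A F] (i : L →ₗ[A] F)
    (h : ∀ (n : ℕ) (Q : Type u) [AddCommGroup Q] [Module A Q],
      (∀ q : Q, f ^ n • q = 0) → Injective (i.lTensor Q))
    (Q : Type u) [AddCommGroup Q] [Module A Q] (hQ : ∀ q : Q, ∃ n : ℕ, f ^ n • q = 0) :
    Injective (i.lTensor Q) := by
  classical
  rw [injective_iff_map_eq_zero]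
  intro x hx
  obtain ⟨S, rfl⟩ := TensorProduct.exists_finset x
  choose n hn using hQ
  let N := S.sup fun q => n q.1
  let Qn := LinearMap.ker (LinearMap.lsmul A Q (f ^ N))
  have hmem : ∀ q ∈ S, q.1 ∈ Qn := fun q hq => by
    obtain ⟨d, hd⟩ := Nat.exists_eq_add_of_le (Finset.le_sup (f := fun q : Q × L => n q.1) hq)
    show f ^ N • q.1 = 0
    rw [show N = _ from hd, pow_add, mul_comm, mul_smul, hn, smul_zero]
  let y : Qn ⊗[A] L := ∑ q ∈ S.attach, (⟨q.1.1, hmem _ q.2⟩ : Qn) ⊗ₜ q.1.2
  have hy : Qn.subtype.rTensor L y = ∑ q ∈ S, q.1 ⊗ₜ[A] q.2 := by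
    simp only [y, map_sum, LinearMap.rTensor_tmul, Submodule.subtype_apply]
    exact Finset.sum_attach S (fun q => q.1 ⊗ₜ[A] q.2)
  rw [← hy] at hx ⊢
  have : i.lTensor Qn y = 0 := by
    apply Module.Flat.rTensor_preserves_injective_linearMap (M := F) Qn.subtype (Submodule.injective_subtype Qn)
    rw [map_zero, ← LinearMap.comp_apply, LinearMap.rTensor_comp_lTensor,
      ← LinearMap.lTensor_comp_rTensor, LinearMap.comp_apply, hx]
  rw [h N Qn (fun q => Subtype.ext q.2) (this.trans (map_zero _).symm), map_zero]

open TensorProduct Function in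
theorem of_torsion_sub {A : Type u} [CommRing A] (f : A) {F : Type u}
    [AddCommGroup F] [Module A F] [Module.Flat A F] (L : Submodule A F)
    (h : ∀ (n : ℕ) (Q : Type u) [AddCommGroup Q] [Module A Q],
      (∀ q : Q, f ^ n • q = 0) → Injective (L.subtype.lTensor Q))
    (Q : Type u) [AddCommGroup Q] [Module A Q] (hQ : ∀ q : Q, ∃ n : ℕ, f ^ n • q = 0) :
    Injective (L.subtype.lTensor Q) :=
  of_torsion f (L := L) L.subtype h Q hQ

open TensorProduct Function in
theorem lTensor_injective_of_pow_sub {R : Type u} [CommRing R] (I : Ideal R) {B : Type u}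
    [AddCommGroup B] [Module R B] [Module.Flat R B] (L : Submodule R B)
    (hbase : ∀ (Q : Type u) [AddCommGroup Q] [Module R Q],
      I • (⊤ : Submodule R Q) = ⊥ → Injective (L.subtype.lTensor Q))
    (n : ℕ) (Q : Type u) [AddCommGroup Q] [Module R Q] (hQ : I ^ n • (⊤ : Submodule R Q) = ⊥) :
    Injective (L.subtype.lTensor Q) :=
  Groth.Agent.LocFlat.lTensor_injective_of_pow I (A := L) L.subtype hbase n Q hQ

open TensorProduct Function Groth.Agent.LocFlat in
/-- Everything about `M` on modules killed by powers of `f`. -/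
theorem killed {A : Type u} [CommRing A] (f : A) (hA : f ∈ nonZeroDivisors A) (M : Type u) [AddCommGroup M] [Module A M]
    (hM : IsSMulRegular M f) (h2 : Module.Flat (A ⧸ Ideal.span {f}) ((A ⧸ Ideal.span {f}) ⊗[A] M))
    (Q : Type u) [AddCommGroup Q] [Module A Q] (hQ : ∀ q : Q, ∃ n : ℕ, f ^ n • q = 0) :
    Injective ((relSub A M).subtype.lTensor Q) := by
  have h1 : Injective (LinearMap.rTensor M (Ideal.span {f}).subtype) := by
    let g : A →ₗ[A] Ideal.span {f} := LinearMap.toSpanSingleton A _ ⟨f, Ideal.mem_span_singleton_self f⟩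
    have hg : Surjective g := by
      rintro ⟨a, ha⟩
      obtain ⟨c, rfl⟩ := Ideal.mem_span_singleton'.mp ha
      exact ⟨c, rfl⟩
    have hcomp : ∀ z, TensorProduct.lid A M (LinearMap.rTensor M (Ideal.span {f}).subtype (g.rTensor M z)) =
        f • TensorProduct.lid A M z := by
      intro z
      induction z with
      | zero => simp
      | tmul a m => simp [g, smul_smul, mul_comm]
      | add a b ha hb => simp only [map_add, ha, hb, smul_add]
    intro x y hxy
    obtain ⟨x, rfl⟩ := LinearMap.rTensor_surjective M hg x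
    obtain ⟨y, rfl⟩ := LinearMap.rTensor_surjective M hg y
    have h := congrArg (TensorProduct.lid A M) hxy
    rw [hcomp, hcomp] at h
    rw [(TensorProduct.lid A M).injective (hM h)]
  refine of_torsion_sub f (relSub A M) (fun n Q _ _ hQ => ?_) Q hQ
  refine lTensor_injective_of_pow_sub (Ideal.span {f}) (relSub A M)
    (by intro Q _ _ hQ; exact pres_of_killed M _ h1 h2 Q hQ) n Q ?_
  rw [Ideal.span_singleton_pow, eq_bot_iff, Submodule.smul_le]
  intro r hr q _
  obtain ⟨c, rfl⟩ := Ideal.mem_span_singleton'.mp hr
  rw [Submodule.mem_bot, mul_smul, hQ, smul_zero]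

open TensorProduct Function in
/-- Kernels of surjections between flat modules are flat. -/
theorem flat_of_exact {R : Type u} [CommRing R] {A B C : Type u} [AddCommGroup A] [Module R A]
    [AddCommGroup B] [Module R B] [AddCommGroup C] [Module R C] [Module.Flat R B] [Module.Flat R C]
    (f : A →ₗ[R] B) (g : B →ₗ[R] C) (hfg : Exact f g) (hg : Surjective g) (hf : Injective f) :
    Module.Flat R A := by
  rw [Module.Flat.iff_rTensor_injective']
  intro J
  have hJ := Groth.Agent.LocFlat.lTensor_injective_of_flat_coker f g hfg hg hf J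
  rw [injective_iff_map_eq_zero]
  intro x hx
  apply hJ
  apply Module.Flat.rTensor_preserves_injective_linearMap (M := B) (Submodule.subtype J) (Submodule.injective_subtype J)
  rw [map_zero, map_zero, ← LinearMap.comp_apply, LinearMap.rTensor_comp_lTensor,
    ← LinearMap.lTensor_comp_rTensor, LinearMap.comp_apply, hx, map_zero]

open TensorProduct Function in
theorem key_step {A : Type u} [CommRing A] (f : A) {F C : Type u} [AddCommGroup F] [Module A F]
    [Module.Flat A F] [AddCommGroup C] [Module A C]
    [Module.Flat (Localization.Away f) (Localization.Away f ⊗[A] C)]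
    (L : Submodule A F) (p : F →ₗ[A] C) (hp : Surjective p) (hLp : Exact L.subtype p)
    (hinjf : Injective (L.subtype.baseChange (Localization.Away f)))
    (hM : ∀ (Q : Type u) [AddCommGroup Q] [Module A Q], (∀ q : Q, ∃ n : ℕ, f ^ n • q = 0) →
      Injective (L.subtype.lTensor Q))
    (hL : ∀ (W : Type u) [AddCommGroup W] [Module A W], (∀ w : W, ∃ n : ℕ, f ^ n • w = 0) →
      Injective ((Groth.Agent.LocFlat.relSub A L).subtype.lTensor W))
    (Q : Type u) [AddCommGroup Q] [Module A Q] : Injective (L.subtype.lTensor Q) := by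
  let l := LocalizedModule.mkLinearMap (Submonoid.powers f) Q
  have hker : ∀ q : LinearMap.ker l, ∃ n : ℕ, f ^ n • q = 0 := by
    rintro ⟨q, hq⟩
    obtain ⟨⟨_, n, rfl⟩, hn⟩ := (IsLocalizedModule.eq_zero_iff (Submonoid.powers f) l).mp hq
    exact ⟨n, Subtype.ext hn⟩
  refine Groth.Agent.LocFlat.lTensor_injective_ext (A := L) L.subtype (LinearMap.ker l).subtype l.rangeRestrict
    (Submodule.injective_subtype _) ?_ l.surjective_rangeRestrict (hM _ hker) ?_
  · rw [LinearMap.exact_iff, LinearMap.ker_rangeRestrict, Submodule.range_subtype]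
  · have hW : Injective ((LinearMap.range l).subtype.rTensor L) := by
      refine Groth.Agent.LocFlat.rTensor_injective_of_pres L (LinearMap.range l).subtype (LinearMap.range l).mkQ
        (Submodule.injective_subtype _) (LinearMap.exact_subtype_mkQ _) (Submodule.mkQ_surjective _) ?_
      refine hL _ fun w => ?_
      obtain ⟨z, rfl⟩ := Submodule.mkQ_surjective _ w
      obtain ⟨⟨q, ⟨_, n, rfl⟩⟩, hz⟩ := IsLocalizedModule.surj (Submonoid.powers f) l z
      exact ⟨n, (Submodule.Quotient.mk_eq_zero _).mpr ⟨q, hz.symm⟩⟩
    intro x y hxy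
    apply hW
    apply of_baseChange (A' := Localization.Away f) (L := L) L.subtype p hLp hp hinjf (LocalizedModule (Submonoid.powers f) Q)
    simp only [← LinearMap.comp_apply, LinearMap.lTensor_comp_rTensor]
    rw [← LinearMap.rTensor_comp_lTensor, LinearMap.comp_apply, LinearMap.comp_apply, hxy]

open TensorProduct Function in
theorem flat_baseChange_ker {A : Type u} [CommRing A] (A' : Type u) [CommRing A'] [Algebra A A']
    {F C : Type u} [AddCommGroup F] [Module A F] [Module.Flat A F] [AddCommGroup C] [Module A C]
    [Module.Flat A' (A' ⊗[A] C)] (p : F →ₗ[A] C) (hp : Surjective p)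
    (h : Injective ((LinearMap.ker p).subtype.baseChange A')) :
    Module.Flat A' (A' ⊗[A] LinearMap.ker p) :=
  flat_of_exact ((LinearMap.ker p).subtype.baseChange A') (p.baseChange A')
    (lTensor_exact A' (LinearMap.exact_subtype_ker_map p) hp) (LinearMap.lTensor_surjective A' hp) h

open TensorProduct in
/-- For a ring A, a module M and an element f that is a nonzerodivisor on A and on M, if M_f is flat
over A_f and M/fM is flat over A/fA then M is flat over A (the source's companion statement for
faithful flatness is not stated). -/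
theorem result {A M : Type u} [CommRing A] [AddCommGroup M] [Module A M] (f : A) (hA : f ∈ nonZeroDivisors A) (hM : IsSMulRegular M f)
    [Module.Flat (Localization.Away f) (LocalizedModule (Submonoid.powers f) M)]
    [Module.Flat (A ⧸ Ideal.span {f}) ((A ⧸ Ideal.span {f}) ⊗[A] M)] : Module.Flat A M := by
  let Af := Localization.Away f
  let L := Groth.Agent.LocFlat.relSub A M
  let p := Groth.Agent.LocFlat.pres A M
  have hp : Function.Surjective p := Groth.Agent.LocFlat.pres_surjective M
  have hLp : Function.Exact L.subtype p := LinearMap.exact_subtype_ker_map p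
  have hfl : Module.Flat (A ⧸ Ideal.span {f}) ((A ⧸ Ideal.span {f}) ⊗[A] M) := ‹_›
  have : Module.Flat A Af := IsLocalization.flat Af (Submonoid.powers f)
  have hflatf : Module.Flat Af (Af ⊗[A] M) :=
    Module.Flat.of_linearEquiv (LocalizedModule.equivTensorProduct (Submonoid.powers f) M).symm
  have hinjf : Function.Injective (L.subtype.baseChange Af) :=
    Module.Flat.lTensor_preserves_injective_linearMap L.subtype (Submodule.injective_subtype L)
  have hLreg : IsSMulRegular L f := fun x y h => by
    apply Subtype.ext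
    ext m
    have := DFunLike.congr_fun (congrArg Subtype.val h) m
    exact mul_cancel_left_mem_nonZeroDivisors hA |>.mp (by simpa using this)
  have h1M : Function.Injective (L.subtype.baseChange (A ⧸ Ideal.span {f})) :=
    killed f hA M hM hfl (A ⧸ Ideal.span {f}) fun q => ⟨1, by
      obtain ⟨a, rfl⟩ := Ideal.Quotient.mk_surjective q
      rw [pow_one]
      exact Ideal.Quotient.eq_zero_iff_mem.mpr (Ideal.mul_mem_right a _ (Ideal.mem_span_singleton_self f))⟩
  have hLflat : Module.Flat (A ⧸ Ideal.span {f}) ((A ⧸ Ideal.span {f}) ⊗[A] L) :=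
    flat_baseChange_ker (A ⧸ Ideal.span {f}) p hp h1M
  have key : ∀ (Q : Type u) [AddCommGroup Q] [Module A Q], Function.Injective (L.subtype.lTensor Q) :=
    fun Q _ _ => key_step f L p hp hLp hinjf
      (fun Q _ _ hQ => killed f hA M hM hfl Q hQ)
      (fun Q _ _ hQ => killed f hA L hLreg hLflat Q hQ) Q
  rw [Module.Flat.iff_lTensor_injective']
  intro J
  rw [LinearMap.lTensor_inj_iff_rTensor_inj]
  exact Groth.Agent.LocFlat.rTensor_injective_of_pres M (Submodule.subtype J) J.mkQ
    (Submodule.injective_subtype J) (LinearMap.exact_subtype_mkQ _) (Submodule.mkQ_surjective _) (key _)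

end Groth.Agent.S0399
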