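import Groth.Statements.S0401
import Mathlib.RingTheory.QuasiFinite.Basic
import Mathlib.RingTheory.KrullDimension.Basic

set_option autoImplicit false
universe u
open FlatMor

namespace Groth.Agent.S0401

/-- For a finite type ring map R → S quasi-finite at a prime q lying over p, the dimension of S_q is at
most the dimension of R_p. -/
theorem result {R S : Type u} [CommRing R] [CommRing S] [Algebra R S] [Algebra.FiniteType R S] (q : Ideal S) [q.IsPrime] [Algebra.QuasiFiniteAt R q] :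
    ringKrullDim (Localization.AtPrime q) ≤ ringKrullDim (Localization.AtPrime (q.under R)) := by
  let φ := IsLocalization.AtPrime.orderIsoOfPrime (Localization.AtPrime q) q
  let ψ := IsLocalization.AtPrime.orderIsoOfPrime (Localization.AtPrime (q.under R)) (q.under R)
  refine Order.krullDim_le_of_strictMono (fun P =>
    (⟨(ψ.symm ⟨(φ ⟨P.asIdeal, P.isPrime⟩).1.under R,
      ⟨haveI := (φ ⟨P.asIdeal, P.isPrime⟩).2.1; inferInstance,
        Ideal.comap_mono (φ ⟨P.asIdeal, P.isPrime⟩).2.2⟩⟩).1, (ψ.symm _).2⟩ :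
      PrimeSpectrum (Localization.AtPrime (q.under R)))) fun P Q hPQ => ?_
  have h1 : φ ⟨P.asIdeal, P.isPrime⟩ < φ ⟨Q.asIdeal, Q.isPrime⟩ := φ.strictMono hPQ
  refine ψ.symm.strictMono (lt_of_le_of_ne (Ideal.comap_mono h1.le) fun he => ?_)
  have := (φ ⟨P.asIdeal, P.isPrime⟩).2.1
  have := (φ ⟨Q.asIdeal, Q.isPrime⟩).2.1
  have : Algebra.QuasiFiniteAt R (φ ⟨P.asIdeal, P.isPrime⟩).1 :=
    Algebra.QuasiFiniteAt.of_le (Q := q) (φ ⟨P.asIdeal, P.isPrime⟩).2.2
  have : Algebra.QuasiFiniteAt R (φ ⟨Q.asIdeal, Q.isPrime⟩).1 :=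
    Algebra.QuasiFiniteAt.of_le (Q := q) (φ ⟨Q.asIdeal, Q.isPrime⟩).2.2
  exact h1.ne (Subtype.ext (Algebra.QuasiFiniteAt.eq_of_le_of_under_eq (R := R) h1.le
    (congrArg Subtype.val he)))

end Groth.Agent.S0401
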