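import Groth.Statements.S0406
import Groth.Agent.RGFlat.Generic

set_option autoImplicit false
universe u
open FlatMor

namespace Groth.Agent.S0406

/-- Raynaud–Gruson, algebra case: a flat finite type algebra over a domain is finitely presented. -/
theorem result {R S : Type u} [CommRing R] [IsDomain R] [CommRing S] [Algebra R S] [Algebra.FiniteType R S] [Module.Flat R S] :
    Algebra.FinitePresentation R S := by
  obtain ⟨n, π, hπ⟩ := Algebra.FiniteType.iff_quotient_mvPolynomial''.mp (inferInstance : Algebra.FiniteType R S)
  let P := MvPolynomial (Fin n) R
  letI : Algebra P S := π.toRingHom.toAlgebra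
  haveI : IsScalarTower R P S := IsScalarTower.of_algebraMap_eq fun a => (π.commutes a).symm
  haveI : Module.Finite P S := Module.Finite.of_surjective (Algebra.linearMap P S) hπ
  haveI : Module.FinitePresentation P S :=
    RGFlat.fp_of_genericFG (R := R) RGFlat.genericFG_of_isDomain fun Q _ => RGFlat.flatAt_of_flat Q
  exact Algebra.FinitePresentation.of_surjective hπ
    (Module.FinitePresentation.fg_ker (Algebra.linearMap P S) hπ)

end Groth.Agent.S0406
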