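import Groth.Statements.S0407
import Groth.Agent.FlatMor.LinInjMain
import Groth.Agent.FlatMor.LocalInj

set_option autoImplicit false
universe u
open FlatMor

namespace Groth.Agent.S0407

open TensorProduct Groth.Agent.FlatMor

/-- The spreading property, from a presentation of the local algebra. -/
theorem exists_spread {A B P N M : Type u} [CommRing A] [IsLocalRing A] [CommRing B] [IsLocalRing B] [Algebra A B]
    [IsLocalHom (algebraMap A B)] [CommRing P] [Algebra A P] [Algebra.FinitePresentation A P] [Algebra P B]
    [IsScalarTower A P B]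
    (hP : ∀ b : B, ∃ x s : P, IsUnit (algebraMap P B s) ∧ b * algebraMap P B s = algebraMap P B x)
    [AddCommGroup N] [Module A N] [Module B N] [IsScalarTower A B N] [Module.Finite B N] [Module.Flat A N]
    [AddCommGroup M] [Module A M] [Module.Flat A M] (u : N →ₗ[A] M) (p : Ideal A) [p.IsPrime]
    (hp : Function.Injective (u.lTensor p.ResidueField)) :
    ∃ I : Ideal (Localization.AtPrime p), I.FG ∧ I ≤ IsLocalRing.maximalIdeal (Localization.AtPrime p) ∧
      ∀ (Q : Type u) [AddCommGroup Q] [Module A Q] [Module (Localization.AtPrime p ⧸ I) Q]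
        [IsScalarTower A (Localization.AtPrime p ⧸ I) Q], Function.Injective (u.lTensor Q) := by
  let q : Ideal P := (IsLocalRing.maximalIdeal B).comap (algebraMap P B)
  haveI : q.IsPrime := Ideal.comap_isPrime _ _
  let Pq := Localization q.primeCompl
  have hu : ∀ s : q.primeCompl, IsUnit (algebraMap P B s) := fun s => IsLocalRing.notMem_maximalIdeal.mp s.2
  letI : Algebra Pq B := (IsLocalization.lift (M := q.primeCompl) (S := Pq) hu).toAlgebra
  haveI : IsScalarTower P Pq B := IsScalarTower.of_algebraMap_eq fun x => (IsLocalization.lift_eq hu x).symm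
  haveI : IsScalarTower A Pq B := IsScalarTower.of_algebraMap_eq fun a => by
    rw [IsScalarTower.algebraMap_apply A P B, IsScalarTower.algebraMap_apply P Pq B, ← IsScalarTower.algebraMap_apply A P Pq]
  haveI : Module.Finite Pq B := Module.Finite.of_surjective (Algebra.linearMap Pq B) fun b => by
    obtain ⟨x, s, hs, hx⟩ := hP b
    have hsq : s ∈ q.primeCompl := fun h => IsLocalRing.notMem_maximalIdeal.mpr hs h
    refine ⟨IsLocalization.mk' Pq x ⟨s, hsq⟩, hs.mul_left_inj.mp ?_⟩
    show algebraMap Pq B _ * _ = _
    rw [hx, IsScalarTower.algebraMap_apply P Pq B s, ← map_mul, IsLocalization.mk'_spec,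
      ← IsScalarTower.algebraMap_apply]
  letI : Module Pq N := Module.compHom N (algebraMap Pq B)
  haveI : IsScalarTower Pq B N := IsScalarTower.of_algebraMap_smul fun _ _ => rfl
  haveI : Module.Finite Pq N := Module.Finite.trans B N
  letI : Module P N := Module.compHom N (algebraMap P B)
  haveI : IsScalarTower P B N := IsScalarTower.of_algebraMap_smul fun _ _ => rfl
  haveI : IsScalarTower P Pq N := IsScalarTower.of_algebraMap_smul fun x v => by
    show algebraMap Pq B (algebraMap P Pq x) • v = algebraMap P B x • v
    rw [← IsScalarTower.algebraMap_apply]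
  haveI : IsScalarTower A Pq N := IsScalarTower.of_algebraMap_smul fun a v => by
    show algebraMap Pq B (algebraMap A Pq a) • v = a • v
    rw [← IsScalarTower.algebraMap_apply, algebraMap_smul]
  haveI : IsScalarTower A P N := IsScalarTower.of_algebraMap_smul fun a v => by
    show algebraMap P B (algebraMap A P a) • v = a • v
    rw [← IsScalarTower.algebraMap_apply, algebraMap_smul]
  haveI : IsLocalRing Pq := IsLocalization.AtPrime.isLocalRing Pq q
  haveI : IsLocalHom (algebraMap A Pq) := ⟨fun a ha => by
    refine isUnit_of_map_unit (algebraMap A B) a ?_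
    rw [IsScalarTower.algebraMap_apply A Pq B]
    exact ha.map _⟩
  haveI : Algebra.EssFiniteType P Pq := .of_isLocalization Pq q.primeCompl
  haveI : Algebra.EssFiniteType A Pq := Algebra.EssFiniteType.comp A P Pq
  haveI : Module.FinitePresentation Pq N := LocalInj.finitePresentation_of_flat (A := A) N
  exact LinInjSpread.exists_ideal_lTensor_injective q.primeCompl N u p hp

open TensorProduct in
/-- For a local homomorphism A → B essentially of finite type, a flat A-module M, a finite B-module N
and an A-linear map u from N to M that is injective modulo the maximal ideal of A: u is universally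
injective over A, N is finitely presented over B and N is flat over A (no Noetherian hypothesis). -/
theorem result {A B M N : Type u} [CommRing A] [CommRing B] [IsLocalRing A] [IsLocalRing B] [Algebra A B] [IsLocalHom (algebraMap A B)] [Algebra.EssFiniteType A B]
    [AddCommGroup M] [Module A M] [Module.Flat A M]
    [AddCommGroup N] [Module A N] [Module B N] [IsScalarTower A B N] [Module.Finite B N]
    (u : N →ₗ[A] M) (h : Function.Injective (LinearMap.lTensor (IsLocalRing.ResidueField A) u)) :
    (∀ (Q : Type u) [AddCommGroup Q] [Module A Q], Function.Injective (LinearMap.rTensor Q u)) ∧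
      Module.FinitePresentation B N ∧ Module.Flat A N := by
  haveI : Module.Flat A N := Groth.Agent.HP.Sep.flat_of_map (B := B) u h
  refine ⟨fun Q _ _ => ?_, LocalInj.finitePresentation_of_flat (A := A) N, inferInstance⟩
  let S := Algebra.EssFiniteType.subalgebra A B
  obtain ⟨n, π, hπ⟩ := Algebra.FiniteType.iff_quotient_mvPolynomial''.mp (inferInstance : Algebra.FiniteType A S)
  letI : Algebra (MvPolynomial (Fin n) A) B := (S.val.comp π).toRingHom.toAlgebra
  haveI : IsScalarTower A (MvPolynomial (Fin n) A) B :=
    IsScalarTower.of_algebraMap_eq fun a => ((S.val.comp π).commutes a).symm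
  have hP : ∀ b : B, ∃ x s : MvPolynomial (Fin n) A, IsUnit (algebraMap _ B s) ∧
      b * algebraMap _ B s = algebraMap _ B x := fun b => by
    obtain ⟨⟨x, s⟩, hxs⟩ := IsLocalization.surj (Algebra.EssFiniteType.submonoid A B) b
    obtain ⟨x', hx'⟩ := hπ x
    obtain ⟨s', hs'⟩ := hπ s
    have hx : algebraMap _ B x' = algebraMap S B x := congrArg (algebraMap S B) hx'
    have hs : algebraMap _ B s' = algebraMap S B s := congrArg (algebraMap S B) hs'
    exact ⟨x', s', by rw [hs]; exact IsLocalization.map_units B s, by rw [hx, hs]; exact hxs⟩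
  have hspread := fun (p : Ideal A) [p.IsPrime] (hp : Function.Injective (u.lTensor p.ResidueField)) =>
    exists_spread (B := B) (P := MvPolynomial (Fin n) A) hP u p hp
  refine (LinearMap.lTensor_inj_iff_rTensor_inj Q u).mp (LinInjMain.univInj_of_spread u (fun p _ => ?_) Q)
  exact hspread p (LinInjMain.good_all (B := B) u h hspread p)

end Groth.Agent.S0407
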