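import Groth.Statements.S0409
import Groth.Agent.FlatMisc.QFScheme

set_option autoImplicit false
universe u
open FlatMor

namespace Groth.Agent.S0409

open AlgebraicGeometry CategoryTheory Limits in
/-- A quasi-finite morphism (locally of finite type, quasi-compact, with finite fibres) is finite over a
dense open subset of the target. -/
theorem result {Y X : Scheme.{u}} (f : Y ⟶ X) [LocallyQuasiFinite f] [LocallyOfFiniteType f] [QuasiCompact f] :
    ∃ U : X.Opens, Dense (U : Set ↑X) ∧ IsFinite (f ∣_ U) := by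
  let S := {V : X.Opens | IsFinite (f ∣_ V)}
  let U : X.Opens := ⨆ V : S, (V : X.Opens)
  refine ⟨U, ?_, ?_⟩
  · rw [dense_iff_inter_open]
    intro W hW hne
    obtain ⟨W', hW', ⟨y, hy⟩, hf⟩ :=
      Groth.Agent.FlatMisc.QFScheme.exists_finite_restrict f ⟨W, hW⟩ hne
    exact ⟨y, hW' hy, le_iSup (fun V : S => (V : X.Opens)) ⟨W', hf⟩ hy⟩
  · apply IsZariskiLocalAtTarget.of_iSup_eq_top (fun V : S => U.ι ⁻¹ᵁ (V : X.Opens))
    · apply U.ι.image_injective
      beta_reduce
      rw [Scheme.Hom.image_iSup]
      simp only [Scheme.Opens.ι_image_top, Scheme.Hom.image_preimage_eq_opensRange_inf,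
        Scheme.Opens.opensRange_ι, ← inf_iSup_eq]
      exact inf_idem U
    · intro V
      have h : U.ι ''ᵁ (U.ι ⁻¹ᵁ (V : X.Opens)) = V := by
        rw [Scheme.Hom.image_preimage_eq_opensRange_inf, Scheme.Opens.opensRange_ι]
        exact inf_eq_right.mpr (le_iSup (fun V : S => (V : X.Opens)) V)
      rw [(MorphismProperty.arrow_mk_iso_iff @IsFinite (morphismRestrictRestrict f U _)), h]
      exact V.2

end Groth.Agent.S0409
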