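import Groth.Statements.S1379
import Groth.Agent.Wt.EtNbhd
import Groth.Agent.S1341
import Groth.Agent.S1349
-- Template for statement S1379 (row 1379; see the milestone table for weights).
-- Copy to Groth/Agent/S1379.lean and replace the sorry. The statement below is byte-identical to the frozen
-- statement FlatMor.GrothFrozen.S1379 (Groth/Statements/S1379.lean; the theorem FlatMor.fppf_cover_dominated_etale_locally_by_finite_locally_free);
-- the grader kernel-checks Groth.Agent.S1379.result against that frozen type. Keep the theorem IN THIS FILE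
-- (a `result` declared elsewhere and merely imported here is not credited); helpers may live anywhere
-- under Groth/Agent/.


set_option autoImplicit false
universe u
open FlatMor

namespace Groth.Agent.S1379

open AlgebraicGeometry CategoryTheory Limits in
/-- Let S₁ → S be flat, locally of finite presentation and surjective (an fppf cover by one morphism).
Then for every point s of S there are an étale morphism S' → S whose image contains s and a
surjective, finite, flat morphism of finite presentation V → S' such that V → S factors through S₁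
Zariski locally on V. -/
theorem result {S₁ S : Scheme.{u}} (g : S₁ ⟶ S) [Flat g] [LocallyOfFinitePresentation g] [Surjective g] (s : S) :
    ∃ (S' V : Scheme.{u}) (e : S' ⟶ S) (π : V ⟶ S'), Etale e ∧ s ∈ Set.range ⇑e ∧ Surjective π ∧ IsFinite π ∧ Flat π ∧ LocallyOfFinitePresentation π ∧
      ∀ v : ↑V, ∃ (W : V.Opens) (r : ↑W ⟶ S₁), v ∈ W ∧ r ≫ g = W.ι ≫ π ≫ e := by
  obtain ⟨s₁, rfl⟩ := g.surjective s
  obtain ⟨hopen, hdense⟩ := S1341.result g
  have : LocallyOfFiniteType (g.fiberToSpecResidueField (g s₁)) :=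
    MorphismProperty.of_isPullback (IsPullback.of_hasPullback g (S.fromSpecResidueField (g s₁)))
      (inferInstance : LocallyOfFiniteType g)
  have : JacobsonSpace (g.fiber (g s₁)) :=
    LocallyOfFiniteType.jacobsonSpace (g.fiberToSpecResidueField (g s₁))
  let O : Set (g.fiber (g s₁)) := g.fiberι (g s₁) ⁻¹' {x : ↑S₁ | MoreMor.IsCMAt g x}
  have hO : O.Nonempty := by
    obtain ⟨z, hz, -⟩ := (hdense (g s₁)).exists_mem_open isOpen_univ ⟨g.asFiber s₁, trivial⟩
    exact ⟨z, hz⟩
  obtain ⟨a, haO, hacl⟩ := nonempty_inter_closedPoints hO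
    (hopen.preimage (g.fiberι (g s₁)).continuous).isLocallyClosed
  have hga : g (g.fiberι (g s₁) a) = g s₁ := (g.range_fiberι (g s₁)).le ⟨a, rfl⟩
  obtain ⟨x, hx⟩ : ∃ x, g.fiberι (g s₁) a = x := ⟨_, rfl⟩
  have hcm : MoreMor.IsCMAt g x := hx ▸ haO
  rw [hx] at hga
  have hcl : IsClosed ({g.asFiber x} : Set ↑(g.fiber (g x))) := by
    have key : ∀ (y : S) (b : g.fiber y), IsClosed ({b} : Set ↑(g.fiber y)) → g x = y →
        g.fiberι y b = x → IsClosed ({g.asFiber x} : Set ↑(g.fiber (g x))) := by
      intro y b hb hy hbx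
      subst hy
      have : g.asFiber x = b := (g.fiberι (g x)).isEmbedding.injective
        ((g.fiberι_asFiber x).trans hbx.symm)
      rwa [this]
    exact key _ a hacl hga hx
  rw [← hga]
  obtain ⟨V₀, Z, i, hreg, ⟨z, hz⟩, hfl, hfp, hqf, -⟩ := S1349.result g x hcm hcl
  let h := i ≫ V₀.ι ≫ g
  have : LocallyOfFiniteType h := inferInstance
  have hzs : h z = g x := by
    show (i ≫ V₀.ι ≫ g) z = g x
    rw [← Category.assoc, Scheme.Hom.comp_apply, hz]
  obtain ⟨U, e, u, hnb, W, w, hfin, hwz⟩ :=
    Wt.EtNbhd.exists_finPart h z (Scheme.Hom.quasiFiniteAt h z)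
  let π := W.ι ≫ pullback.snd h e
  have : IsFinite π := hfin.finite
  have : Flat π := inferInstance
  have : LocallyOfFinitePresentation π := inferInstance
  let U' : U.Opens := ⟨Set.range π, π.isOpenMap.isOpen_range⟩
  let π' : (W : Scheme.{u}) ⟶ (U' : Scheme.{u}) :=
    IsOpenImmersion.lift U'.ι π (le_of_eq (U'.range_ι).symm)
  have hπ' : π' ≫ U'.ι = π := IsOpenImmersion.lift_fac _ _ _
  have hpb : IsPullback (𝟙 _) π' π U'.ι :=
    IsPullback.of_horiz_isIso_mono ⟨by rw [Category.id_comp, hπ']⟩
  have : Etale e := hnb.etale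
  refine ⟨U', W, U'.ι ≫ e, π', inferInstance, ?_, ?_,
    MorphismProperty.of_isPullback hpb ‹IsFinite π›, MorphismProperty.of_isPullback hpb ‹Flat π›,
    MorphismProperty.of_isPullback hpb ‹LocallyOfFinitePresentation π›, fun v => ?_⟩
  · refine ⟨⟨u, ⟨⟨w, hfin.mem⟩, ?_⟩⟩, ?_⟩
    · exact hfin.map_eq
    · refine (Scheme.Hom.comp_apply _ _ _).trans ?_
      exact hnb.base_eq.trans hzs
  · refine ⟨fun y => ?_⟩
    obtain ⟨v, hv⟩ := y.2
    refine ⟨v, U'.ι.isOpenEmbedding.injective ?_⟩
    rw [← Scheme.Hom.comp_apply, hπ']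
    exact hv
  · refine ⟨⊤, (⊤ : Scheme.Opens _).ι ≫ W.ι ≫ pullback.fst h e ≫ i ≫ V₀.ι, trivial, ?_⟩
    rw [reassoc_of% hπ']
    simp only [π, Category.assoc]
    rw [show i ≫ V₀.ι ≫ g = h from rfl, pullback.condition]

end Groth.Agent.S1379
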