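import Groth.Statements.S1390
import Groth.Agent.CAlg48.SplitCover
import Groth.Agent.EtStruct.Scheme
-- Template for statement S1390 (row 1390; see the milestone table for weights).
-- Copy to Groth/Agent/S1390.lean and replace the sorry. The statement below is byte-identical to the frozen
-- statement FlatMor.GrothFrozen.S1390 (Groth/Statements/S1390.lean; the theorem FlatMor.etale_nbhd_dominated_by_finite_locally_free_zariski_locally);
-- the grader kernel-checks Groth.Agent.S1390.result against that frozen type. Keep the theorem IN THIS FILE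
-- (a `result` declared elsewhere and merely imported here is not credited); helpers may live anywhere
-- under Groth/Agent/.


set_option autoImplicit false
universe u
open FlatMor

namespace Groth.Agent.S1390

open AlgebraicGeometry CategoryTheory Limits in
/-- Let (U, u) be an étale neighbourhood of (S, s), i.e. U → S étale with u over s. Then there are an
affine open neighbourhood V of s and a surjective, finite, flat morphism of finite presentation π :
T → V such that every point t of T over s has an open neighbourhood W_t with an S-morphism W_t → U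
sending t to u. -/
theorem result {U S : Scheme.{u}} (e : U ⟶ S) [Etale e] (u : U) (s : S) (hu : e u = s) :
    ∃ (V : S.Opens) (T : Scheme.{u}) (π : T ⟶ (V : Scheme.{u})), s ∈ V ∧ IsAffineOpen V ∧ Surjective π ∧ IsFinite π ∧ Flat π ∧ LocallyOfFinitePresentation π ∧
      ∀ t : T, V.ι (π t) = s → ∃ (W : T.Opens) (h : (W : Scheme.{u}) ⟶ U), t ∈ W ∧ h ≫ e = W.ι ≫ π ≫ V.ι ∧ ∀ ht : t ∈ W, h ⟨t, ht⟩ = u := by
  classical
  subst hu
  obtain ⟨_, ⟨V, hV, rfl⟩, hsV, -⟩ :=
    S.isBasis_affineOpens.exists_subset_of_mem_open (Set.mem_univ (e u)) isOpen_univ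
  obtain ⟨_, ⟨U₀, hU₀, rfl⟩, huU, hUV⟩ :=
    U.isBasis_affineOpens.exists_subset_of_mem_open (show u ∈ e ⁻¹ᵁ V from hsV) (e ⁻¹ᵁ V).2
  have hUV' : U₀ ≤ e ⁻¹ᵁ V := hUV
  let := (e.appLE V U₀ hUV').hom.toAlgebra
  have : Algebra.Etale Γ(S, V) Γ(U, U₀) :=
    HasRingHomProperty.appLE @Etale e ‹_› ⟨V, hV⟩ ⟨U₀, hU₀⟩ hUV'
  let q := (hU₀.primeIdealOf ⟨u, huU⟩).asIdeal
  let p := (hV.primeIdealOf ⟨e u, hsV⟩).asIdeal
  have hqp : q.under Γ(S, V) = p :=
    congr($(IsAffineOpen.comap_primeIdealOf_appLE (f := e) V hV U₀ hU₀ hUV' huU).1)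
  obtain ⟨g, hg, hgs⟩ := Algebra.IsEtaleAt.exists_isStandardEtale (R := Γ(S, V)) q
  obtain ⟨P⟩ := hgs.nonempty_standardEtalePresentation
  have : Nontrivial Γ(S, V) := ⟨1, 0, fun h => p.one_notMem (h ▸ p.zero_mem)⟩
  obtain ⟨S', _, _, _, _, _, hsplit⟩ := CAlg48.SplitCover.exists_splits_finset {P.f}
    (by simpa using P.monic_f)
  have : Module.FinitePresentation Γ(S, V) S' := Module.finitePresentation_of_projective _ S'
  let b : Spec (CommRingCat.of S') ⟶ Spec Γ(S, V) :=
    Spec.map (CommRingCat.ofHom (algebraMap Γ(S, V) S'))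
  have hb1 : IsFinite b := (IsFinite.SpecMap_iff _).mpr (RingHom.finite_algebraMap.mpr inferInstance)
  have hb2 : Flat b := (HasRingHomProperty.Spec_iff (P := @Flat)).mpr
    (RingHom.flat_algebraMap_iff.mpr inferInstance)
  have hb3 : LocallyOfFinitePresentation b :=
    (HasRingHomProperty.Spec_iff (P := @LocallyOfFinitePresentation)).mpr
      (RingHom.finitePresentation_algebraMap.mpr inferInstance)
  have hb4 : Surjective b := ⟨PrimeSpectrum.comap_surjective_of_faithfullyFlat⟩
  have := hV.isOpenImmersion_fromSpec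
  refine ⟨V, Spec (CommRingCat.of S'), b ≫ hV.isoSpec.inv, hsV, hV, inferInstance, inferInstance,
    inferInstance, inferInstance, fun t ht => ?_⟩
  have : t.asIdeal.IsPrime := t.isPrime
  have ht' : t.asIdeal.under Γ(S, V) = q.under Γ(S, V) := by
    have h1 : hV.fromSpec (b t) = e u := by
      rw [← ht, ← IsAffineOpen.isoSpec_inv_ι hV]
      rfl
    have h2 : b t = hV.primeIdealOf ⟨e u, hsV⟩ := by
      apply hV.fromSpec.isOpenEmbedding.injective
      exact h1.trans (hV.fromSpec_primeIdealOf ⟨e u, hsV⟩).symm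
    rw [hqp]
    exact congrArg PrimeSpectrum.asIdeal h2
  have hdisj : Disjoint (Submonoid.powers g : Set Γ(U, U₀)) q :=
    (Ideal.disjoint_powers_iff_notMem_of_isPrime _).mpr hg
  have : (q.map (algebraMap Γ(U, U₀) (Localization.Away g))).IsPrime :=
    IsLocalization.isPrime_of_isPrime_disjoint (Submonoid.powers g) _ _ inferInstance hdisj
  have hq : (q.map (algebraMap Γ(U, U₀) (Localization.Away g))).under Γ(U, U₀) = q :=
    IsLocalization.under_map_of_isPrime_disjoint (Submonoid.powers g) _ inferInstance hdisj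
  obtain ⟨g', hg', φ, hφ⟩ := CAlg48.SplitCover.exists_hom P
    (hsplit _ (Finset.mem_singleton_self _)) (q.map (algebraMap Γ(U, U₀) (Localization.Away g)))
    t.asIdeal (by rw [ht', ← Ideal.under_under (B := Γ(U, U₀))
      (q.map (algebraMap Γ(U, U₀) (Localization.Away g))), hq])
  let j : Spec (CommRingCat.of (Localization.Away g')) ⟶ Spec (CommRingCat.of S') :=
    Spec.map (CommRingCat.ofHom (algebraMap S' (Localization.Away g')))
  have : IsOpenImmersion j := IsOpenImmersion.of_isLocalization g'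
  let ψ : Γ(U, U₀) →ₐ[Γ(S, V)] Localization.Away g' :=
    φ.comp (IsScalarTower.toAlgHom Γ(S, V) Γ(U, U₀) (Localization.Away g))
  let k : Spec (CommRingCat.of (Localization.Away g')) ⟶ U :=
    Spec.map (CommRingCat.ofHom ψ.toRingHom) ≫ hU₀.fromSpec
  have hdisj' : Disjoint (Submonoid.powers g' : Set S') t.asIdeal :=
    (Ideal.disjoint_powers_iff_notMem_of_isPrime _).mpr hg'
  let t₁ : Spec (CommRingCat.of (Localization.Away g')) :=
    ⟨t.asIdeal.map (algebraMap S' (Localization.Away g')),
      IsLocalization.isPrime_of_isPrime_disjoint (Submonoid.powers g') _ _ t.2 hdisj'⟩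
  have ht₁ : j t₁ = t := PrimeSpectrum.ext
    (IsLocalization.under_map_of_isPrime_disjoint (Submonoid.powers g') _ t.2 hdisj')
  refine ⟨j.opensRange, j.isoOpensRange.inv ≫ k, ⟨t₁, ht₁⟩, ?_, fun htW => ?_⟩
  · have hk : k ≫ e = j ≫ b ≫ hV.fromSpec := by
      have hc : e.appLE V U₀ hUV' ≫ CommRingCat.ofHom ψ.toRingHom =
          CommRingCat.ofHom (algebraMap Γ(S, V) S') ≫
            CommRingCat.ofHom (algebraMap S' (Localization.Away g')) := by
        ext r
        exact (ψ.commutes r).trans
          (IsScalarTower.algebraMap_apply Γ(S, V) S' (Localization.Away g') r)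
      simp only [k, j, b, Category.assoc]
      rw [← IsAffineOpen.SpecMap_appLE_fromSpec e hV hU₀ hUV', ← Spec.map_comp_assoc,
        ← Spec.map_comp_assoc, hc]
    rw [Category.assoc, hk, ← Category.assoc, Scheme.Hom.isoOpensRange_inv_comp, Category.assoc,
      IsAffineOpen.isoSpec_inv_ι hV]
  · have h3 : j.isoOpensRange.inv ⟨t, htW⟩ = t₁ := by
      apply j.isOpenEmbedding.injective
      refine ((Scheme.Hom.comp_apply _ _ _).symm.trans
        congr($(Scheme.Hom.isoOpensRange_inv_comp j) ⟨t, htW⟩)).trans ?_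
      exact ht₁.symm
    refine (Scheme.Hom.comp_apply _ _ _).trans ((congrArg k h3).trans ?_)
    show hU₀.fromSpec ((Spec.map (CommRingCat.ofHom ψ.toRingHom)) t₁) = u
    have h4 : (Spec.map (CommRingCat.ofHom ψ.toRingHom)) t₁ = hU₀.primeIdealOf ⟨u, huU⟩ := by
      apply PrimeSpectrum.ext
      show Ideal.comap ψ.toRingHom t₁.asIdeal = q
      rw [← hq, Ideal.under, ← hφ]
      rfl
    rw [h4, hU₀.fromSpec_primeIdealOf]

end Groth.Agent.S1390
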