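import Groth.Statements.S1378
import Groth.Agent.Wt.SplitScheme
import Groth.Agent.S1379
import Groth.Agent.S1390
-- Template for statement S1378 (row 1378; see the milestone table for weights).
-- Copy to Groth/Agent/S1378.lean and replace the sorry. The statement below is byte-identical to the frozen
-- statement FlatMor.GrothFrozen.S1378 (Groth/Statements/S1378.lean; the theorem FlatMor.fppf_cover_dominated_by_integral_surjective_zariski_locally);
-- the grader kernel-checks Groth.Agent.S1378.result against that frozen type. Keep the theorem IN THIS FILE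
-- (a `result` declared elsewhere and merely imported here is not credited); helpers may live anywhere
-- under Groth/Agent/.


set_option autoImplicit false
universe u
open FlatMor

namespace Groth.Agent.S1378

open AlgebraicGeometry CategoryTheory Limits

/-- The basic open immersion. -/
noncomputable abbrev bas (A : CommRingCat.{u}) (f : A) :
    Spec (CommRingCat.of (Localization.Away f)) ⟶ Spec A :=
  Spec.map (CommRingCat.ofHom (algebraMap A (Localization.Away f)))

theorem range_bas (A : CommRingCat.{u}) (f : A) :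
    Set.range (bas A f) = (PrimeSpectrum.basicOpen f : Set (PrimeSpectrum A)) :=
  PrimeSpectrum.localization_away_comap_range (Localization.Away f) f

/-- Lift of finite surjective morphisms along split affine schemes. -/
theorem exists_lift {A : CommRingCat.{u}} (hA : Wt.SplitRing.IsSplitRing A) {Y V : Scheme.{u}}
    (j : Spec A ⟶ Y) (π : V ⟶ Y) [IsFinite π] [Surjective π] :
    ∃ σ : Spec A ⟶ V, σ ≫ π = j := by
  let p := pullback.snd π j
  have : IsFinite p := MorphismProperty.of_isPullback (IsPullback.of_hasPullback π j) ‹_›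
  have : Surjective p := MorphismProperty.of_isPullback (IsPullback.of_hasPullback π j) ‹_›
  have : IsAffine (pullback π j) := isAffine_of_isAffineHom p
  obtain ⟨φ, hφ⟩ := Spec.map_surjective ((pullback π j).isoSpec.inv ≫ p)
  have h1 : IsFinite (Spec.map φ) := hφ ▸ inferInstance
  have h2 : Surjective (Spec.map φ) := hφ ▸ inferInstance
  obtain ⟨τ, hτ⟩ := Wt.SplitRing.exists_section hA φ.hom
    ((IsFinite.SpecMap_iff φ).mp h1).to_isIntegral h2.surj
  refine ⟨Spec.map (CommRingCat.ofHom τ) ≫ (pullback π j).isoSpec.inv ≫ pullback.fst π j, ?_⟩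
  rw [Category.assoc, Category.assoc, pullback.condition, ← Category.assoc (Scheme.isoSpec _).inv,
    ← hφ, ← Spec.map_comp_assoc, show φ ≫ CommRingCat.ofHom τ = 𝟙 A from CommRingCat.hom_ext hτ,
    Spec.map_id, Category.id_comp]

/-- Shrink a neighbourhood of `t` so that a given lift lands in an open. -/
theorem exists_shrink {A : CommRingCat.{u}} {Y : Scheme.{u}} {f : A}
    (σ : Spec (CommRingCat.of (Localization.Away f)) ⟶ Y)
    (a : Spec (CommRingCat.of (Localization.Away f))) (O : Y.Opens) (hO : σ a ∈ O) :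
    ∃ (f' : A) (k : Spec (CommRingCat.of (Localization.Away f')) ⟶
        Spec (CommRingCat.of (Localization.Away f))) (b : Spec (CommRingCat.of (Localization.Away f')))
      (l : Spec (CommRingCat.of (Localization.Away f')) ⟶ (O : Scheme.{u})),
      k ≫ bas A f = bas A f' ∧ l ≫ O.ι = k ≫ σ ∧ k b = a := by
  have : IsOpenImmersion (bas A f) := IsOpenImmersion.of_isLocalization f
  obtain ⟨_, ⟨_, ⟨f', rfl⟩, rfl⟩, ha, hf'⟩ :=
    PrimeSpectrum.isBasis_basic_opens.exists_subset_of_mem_open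
      (show bas A f a ∈ bas A f '' (σ ⁻¹ᵁ O : Set _) from ⟨a, hO, rfl⟩)
      ((bas A f).isOpenEmbedding.isOpenMap _ (σ ⁻¹ᵁ O).2)
  have : IsOpenImmersion (bas A f') := IsOpenImmersion.of_isLocalization f'
  have hr : Set.range (bas A f') ⊆ bas A f '' (σ ⁻¹ᵁ O : Set _) := by
    rw [range_bas]; exact hf'
  let k := IsOpenImmersion.lift (bas A f) (bas A f') (hr.trans (Set.image_subset_range _ _))
  have hk : k ≫ bas A f = bas A f' := IsOpenImmersion.lift_fac _ _ _
  have hkO : ∀ z, σ (k z) ∈ O := fun z => by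
    obtain ⟨w, hw, hwz⟩ := hr ⟨z, rfl⟩
    rw [← hk, Scheme.Hom.comp_apply] at hwz
    rwa [← (bas A f).isOpenEmbedding.injective hwz]
  obtain ⟨b, hb⟩ : bas A f a ∈ Set.range (bas A f') := by rw [range_bas]; exact ha
  refine ⟨f', k, b, IsOpenImmersion.lift O.ι (k ≫ σ) ?_, hk, IsOpenImmersion.lift_fac _ _ _, ?_⟩
  · rintro _ ⟨z, rfl⟩
    rw [O.range_ι, Scheme.Hom.comp_apply]
    exact hkO z
  · apply (bas A f).isOpenEmbedding.injective
    rw [← Scheme.Hom.comp_apply, hk, hb]

/-- Fppf covers of split affine schemes split Zariski locally. -/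
theorem exists_local_lift {A : CommRingCat.{u}} (hA : Wt.SplitRing.IsSplitRing A) {S₁ : Scheme.{u}}
    (g : S₁ ⟶ Spec A) [Flat g] [LocallyOfFinitePresentation g] [Surjective g] (t : Spec A) :
    ∃ (f : A) (r : Spec (CommRingCat.of (Localization.Away f)) ⟶ S₁),
      t ∈ Set.range (bas A f) ∧ r ≫ g = bas A f := by
  obtain ⟨U, V, e, π, _, ⟨u, hu⟩, _, _, _, _, hV⟩ := S1379.result g t
  obtain ⟨V₀, T, π₀, htV₀, hV₀, _, _, _, _, hT⟩ := S1390.result e u t hu
  obtain ⟨_, ⟨_, ⟨f, rfl⟩, rfl⟩, htf, hfV₀⟩ :=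
    PrimeSpectrum.isBasis_basic_opens.exists_subset_of_mem_open htV₀ V₀.2
  have : IsOpenImmersion (bas A f) := IsOpenImmersion.of_isLocalization f
  let j : Spec (CommRingCat.of (Localization.Away f)) ⟶ (V₀ : Scheme.{u}) :=
    IsOpenImmersion.lift V₀.ι (bas A f) (by rw [range_bas, V₀.range_ι]; exact hfV₀)
  have hj : j ≫ V₀.ι = bas A f := IsOpenImmersion.lift_fac _ _ _
  have hsplit : ∀ f : A, Wt.SplitRing.IsSplitRing (CommRingCat.of (Localization.Away f)) :=
    fun f => Wt.SplitRing.isSplitRing_away hA f _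
  obtain ⟨σ, hσ⟩ := exists_lift (hsplit f) j π₀
  obtain ⟨a, ha⟩ : t ∈ Set.range (bas A f) := by rw [range_bas]; exact htf
  have hσa : V₀.ι (π₀ (σ a)) = t := by
    rw [← ha, ← hj, ← hσ]
    rfl
  obtain ⟨W, h, hσW, hhe, hhu⟩ := hT (σ a) hσa
  obtain ⟨f₁, k₁, b₁, l₁, hk₁, hl₁, hb₁⟩ := exists_shrink σ a W hσW
  let l := l₁ ≫ h
  have hle : l ≫ e = bas A f₁ := by
    rw [Category.assoc, hhe, reassoc_of% hl₁, reassoc_of% hσ, hj, hk₁]
  obtain ⟨σ₂, hσ₂⟩ := exists_lift (hsplit f₁) l π
  obtain ⟨W₂, r₂, hW₂, hr₂⟩ := hV (σ₂ b₁)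
  obtain ⟨f₂, k₂, b₂, l₂, hk₂, hl₂, hb₂⟩ := exists_shrink σ₂ b₁ W₂ hW₂
  refine ⟨f₂, l₂ ≫ r₂, ⟨b₂, ?_⟩, ?_⟩
  · rw [← hk₂, Scheme.Hom.comp_apply, hb₂, ← hk₁, Scheme.Hom.comp_apply, hb₁, ha]
  · rw [Category.assoc, hr₂, reassoc_of% hl₂, reassoc_of% hσ₂, hle, hk₂]

open AlgebraicGeometry CategoryTheory Limits in
/-- Let S' → S be flat, locally of finite presentation and surjective (an fppf cover by one morphism).
Then there is a surjective integral morphism T → S which factors through S' Zariski locally on T. -/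
theorem result {S' S : Scheme.{u}} (g : S' ⟶ S) [Flat g] [LocallyOfFinitePresentation g] [Surjective g] :
    ∃ (T : Scheme.{u}) (π : T ⟶ S), Surjective π ∧ IsIntegralHom π ∧
      ∀ t : ↑T, ∃ (V : T.Opens) (r : ↑V ⟶ S'), t ∈ V ∧ r ≫ g = V.ι ≫ π := by
  obtain ⟨T, π, hs, hi, hT⟩ := Wt.SplitRing.exists_split_cover S
  refine ⟨T, π, hs, hi, fun t => ?_⟩
  obtain ⟨A, j, _, ⟨z, rfl⟩, hA⟩ := hT t
  have : Flat (pullback.snd g (j ≫ π)) := MorphismProperty.of_isPullback (IsPullback.of_hasPullback g (j ≫ π)) ‹_›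
  have : LocallyOfFinitePresentation (pullback.snd g (j ≫ π)) :=
    MorphismProperty.of_isPullback (IsPullback.of_hasPullback g (j ≫ π)) ‹_›
  have : Surjective (pullback.snd g (j ≫ π)) := MorphismProperty.of_isPullback (IsPullback.of_hasPullback g (j ≫ π)) ‹_›
  obtain ⟨f, r, ⟨w, hw⟩, hr⟩ := exists_local_lift hA (pullback.snd g (j ≫ π)) z
  have : IsOpenImmersion (bas A f) := IsOpenImmersion.of_isLocalization f
  let m := bas A f ≫ j
  refine ⟨m.opensRange, m.isoOpensRange.inv ≫ r ≫ pullback.fst g (j ≫ π), ⟨w, ?_⟩, ?_⟩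
  · show (bas A f ≫ j) w = j z
    rw [Scheme.Hom.comp_apply, hw]
  · rw [Category.assoc, Category.assoc, pullback.condition, reassoc_of% hr, ← Category.assoc (bas A f),
      ← Category.assoc, Scheme.Hom.isoOpensRange_inv_comp]

end Groth.Agent.S1378
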