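import Groth.Statements.S0441
import Groth.Agent.S1378
import Groth.Agent.LimLib.FPSystem

set_option autoImplicit false
universe u
open FlatMor

namespace Groth.Agent.S0441

open AlgebraicGeometry CategoryTheory Limits in
/-- Lifts on a finite open cover of an integral surjective cover descend to a finite stage. -/
theorem exists_finite_of_integral {U S T : Scheme.{u}} (g : U ⟶ S) [LocallyOfFinitePresentation g]
    [CompactSpace ↑S] [QuasiSeparatedSpace ↑S] (π : T ⟶ S) [Surjective π] [IsIntegralHom π]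
    (hT : ∀ t : ↑T, ∃ (V : T.Opens) (r : ↑V ⟶ U), t ∈ V ∧ r ≫ g = V.ι ≫ π) :
    ∃ (S' : Scheme.{u}) (p : S' ⟶ S), Surjective p ∧ IsFinite p ∧ LocallyOfFinitePresentation p ∧
      ∀ y : ↑S', ∃ (V : S'.Opens) (h : ↑V ⟶ U), y ∈ V ∧ h ≫ g = V.ι ≫ p := by
  classical
  haveI : CompactSpace T := QuasiCompact.compactSpace_of_compactSpace π
  obtain ⟨I, _, _, _, D, c, hc, hD, ⟨e⟩⟩ := LimLib.exists_finiteSystem π
  let D' : Iᵒᵖ ⥤ Scheme.{u} := D ⋙ Over.forget S
  let p : ∀ a, D'.obj a ⟶ S := fun a => (D.obj a).hom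
  haveI hpf : ∀ a, IsFinite (p a) := fun a => (hD a).1
  have hp : ∀ {a b : Iᵒᵖ} (φ : a ⟶ b), D'.map φ ≫ p b = p a := fun φ => Over.w (D.map φ)
  haveI : ∀ {a b : Iᵒᵖ} (φ : a ⟶ b), IsAffineHom (D'.map φ) := fun {a b} φ => by
    haveI : IsAffineHom (D'.map φ ≫ p b) := by rw [hp]; infer_instance
    exact IsAffineHom.of_comp (D'.map φ) (p b)
  haveI : ∀ a, CompactSpace (D'.obj a) := fun a => QuasiCompact.compactSpace_of_compactSpace (p a)
  haveI : ∀ a, QuasiSeparatedSpace (D'.obj a) := fun a => quasiSeparatedSpace_of_quasiSeparated (p a)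
  let C' : Cone D' := (Over.forget S).mapCone c
  have hC' : IsLimit C' := isLimitOfPreserves (Over.forget S) hc
  let q : C'.pt ⟶ S := c.pt.hom
  have hq : ∀ a, C'.π.app a ≫ p a = q := fun a => Over.w (c.π.app a)
  let ε : C'.pt ⟶ T := e.hom.left
  have hε : ε ≫ π = q := Over.w e.hom
  haveI : IsIso ε := inferInstanceAs (IsIso ((Over.forget S).map e.hom))
  -- the finite cover
  have hcov : ∀ t : C'.pt, ∃ (V : C'.pt.Opens) (r : ↑V ⟶ U),
      t ∈ V ∧ IsCompact (V : Set C'.pt) ∧ r ≫ g = V.ι ≫ q := by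
    intro t
    obtain ⟨V, r, ht, hr⟩ := hT (ε t)
    obtain ⟨_, ⟨V', hV', rfl⟩, htV', hle⟩ := C'.pt.isBasis_affineOpens.exists_subset_of_mem_open
      (show t ∈ ε ⁻¹ᵁ V from ht) (ε ⁻¹ᵁ V).2
    refine ⟨V', ε.resLE V V' hle ≫ r, htV', hV'.isCompact, ?_⟩
    rw [Category.assoc, hr]
    refine (Scheme.Hom.resLE_comp_ι_assoc ε hle π).trans ?_
    rw [hε]
  choose V r hmem hVc hr using hcov
  haveI : CompactSpace C'.pt := by
    exact QuasiCompact.compactSpace_of_compactSpace ε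
  obtain ⟨ts, hts⟩ := isCompact_univ.elim_finite_subcover (fun t => (V t : Set C'.pt)) (fun t => (V t).2)
    fun t _ => Set.mem_iUnion.mpr ⟨t, hmem t⟩
  -- the opens at a stage
  choose i₁ W₁ hW₁c hW₁ using fun t : ts => exists_preimage_eq D' C' hC' (V t.1) (hVc t.1)
  obtain ⟨i₀, φ₀⟩ : ∃ i₀, ∀ t : ts, Nonempty (i₀ ⟶ i₁ t) := by
    obtain ⟨i₀, h⟩ := IsCofiltered.inf_objs_exists (Finset.univ.image i₁)
    exact ⟨i₀, fun t => h (Finset.mem_image_of_mem _ (Finset.mem_univ t))⟩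
  let W : ts → (D'.obj i₀).Opens := fun t => D'.map (φ₀ t).some ⁻¹ᵁ W₁ t
  have hW : ∀ t, C'.π.app i₀ ⁻¹ᵁ W t = V t.1 := fun t => by
    rw [← hW₁ t, ← Scheme.Hom.comp_preimage, C'.w]
  obtain ⟨i, φ, hi⟩ := exists_map_eq_top D' C' hC' (⨆ t, W t) (by
    refine eq_top_iff.mpr fun x _ => ?_
    obtain ⟨t, ht, hx⟩ := Set.mem_iUnion₂.mp (hts (Set.mem_univ x))
    rw [Scheme.Hom.preimage_iSup]
    exact TopologicalSpace.Opens.mem_iSup.mpr ⟨⟨t, ht⟩, by rw [hW]; exact hx⟩)
  -- lifting on each piece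
  have hlift : ∀ t : ts, ∃ (j : Over i₀) (h : (opensDiagram D' i₀ (W t)).obj j ⟶ U),
      h ≫ g = Scheme.Opens.ι _ ≫ p j.left := by
    intro t
    haveI : ∀ j, CompactSpace ((opensDiagram D' i₀ (W t)).obj j) := fun j => by
      haveI : QuasiCompact (D'.map j.hom) := inferInstance
      haveI : QuasiCompact (D'.map (φ₀ t).some) := inferInstance
      exact isCompact_iff_compactSpace.mp ((D'.map j.hom).isCompact_preimage
        ((D'.map (φ₀ t).some).isCompact_preimage (hW₁c t)))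
    haveI : ∀ j, QuasiSeparatedSpace ((opensDiagram D' i₀ (W t)).obj j) := fun j => by
      let O : (D'.obj j.left).Opens := D'.map j.hom ⁻¹ᵁ W t
      have h' := quasiSeparatedSpace_of_quasiSeparated O.ι
      exact h'
    let τ : opensDiagram D' i₀ (W t) ⟶ (Functor.const _).obj S :=
      { app := fun j => (D'.map j.hom ⁻¹ᵁ W t).ι ≫ p j.left
        naturality := fun j k a => by
          refine (Scheme.Hom.resLE_comp_ι_assoc _ _ _).trans ?_
          rw [hp]
          exact (Category.comp_id _).symm }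
    obtain ⟨j, h, -, hh⟩ := Scheme.exists_π_app_comp_eq_of_locallyOfFinitePresentation
      (opensDiagram D' i₀ (W t)) τ g (opensCone D' C' i₀ (W t)) (isLimitOpensCone D' C' hC' i₀ (W t))
      ((C'.pt.isoOfEq (hW t)).hom ≫ r t.1) (by
        ext j
        refine (Scheme.Hom.resLE_comp_ι_assoc _ _ _).trans ?_
        rw [hq]
        show _ = ((C'.pt.isoOfEq (hW t)).hom ≫ r t.1) ≫ g
        rw [Category.assoc, hr, Scheme.isoOfEq_hom_ι_assoc])
    exact ⟨j, h, hh⟩
  choose j h hh using hlift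
  obtain ⟨m, ψ, hψ⟩ : ∃ (m : Iᵒᵖ) (ψ : m ⟶ i), ∀ t, Nonempty (m ⟶ (j t).left) := by
    obtain ⟨m, hm⟩ := IsCofiltered.inf_objs_exists (insert i (Finset.univ.image fun t => (j t).left))
    exact ⟨m, (hm (Finset.mem_insert_self _ _)).some, fun t =>
      hm (Finset.mem_insert_of_mem (Finset.mem_image_of_mem _ (Finset.mem_univ t)))⟩
  refine ⟨D'.obj m, p m, ?_, hpf m, (hD m).2, fun y => ?_⟩
  · haveI : Surjective ((inv ε ≫ C'.π.app m) ≫ p m) := by
      rw [Category.assoc, hq, ← hε, IsIso.inv_hom_id_assoc]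
      infer_instance
    exact Surjective.of_comp (inv ε ≫ C'.π.app m) _
  · obtain ⟨t, ht⟩ : ∃ t, D'.map (ψ ≫ φ) y ∈ W t := by
      have : D'.map ψ y ∈ D'.map φ ⁻¹ᵁ (⨆ t, W t) := by rw [hi]; trivial
      rw [Scheme.Hom.preimage_iSup] at this
      obtain ⟨t, ht⟩ := TopologicalSpace.Opens.mem_iSup.mp this
      exact ⟨t, by rw [D'.map_comp]; exact ht⟩
    let β : m ⟶ (j t).left := (hψ t).some
    have hβ : β ≫ (j t).hom = ψ ≫ φ := Subsingleton.elim _ _
    have hle : D'.map (ψ ≫ φ) ⁻¹ᵁ W t ≤ D'.map β ⁻¹ᵁ (D'.map (j t).hom ⁻¹ᵁ W t) := by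
      refine le_of_eq ?_
      show _ = (D'.map β ≫ D'.map (j t).hom) ⁻¹ᵁ W t
      rw [← D'.map_comp, hβ]
    refine ⟨D'.map (ψ ≫ φ) ⁻¹ᵁ W t, (D'.map β).resLE _ _ hle ≫ h t, ht, ?_⟩
    refine (Category.assoc _ _ _).trans ((congrArg _ (hh t)).trans ?_)
    refine (Scheme.Hom.resLE_comp_ι_assoc _ _ _).trans ?_
    rw [hp]


open AlgebraicGeometry CategoryTheory Limits in
/-- For a surjective, flat morphism locally of finite presentation U → S (an fppf cover by one morphism)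
with S quasi-compact and quasi-separated, there is a surjective finite morphism of finite
presentation S' → S that factors through U locally on S'. -/
theorem result {U S : Scheme.{u}} (g : U ⟶ S) [Flat g] [LocallyOfFinitePresentation g] [Surjective g] [CompactSpace ↑S] [QuasiSeparatedSpace ↑S] :
    ∃ (S' : Scheme.{u}) (π : S' ⟶ S), Surjective π ∧ IsFinite π ∧ LocallyOfFinitePresentation π ∧
      ∀ y : ↑S', ∃ (V : S'.Opens) (h : ↑V ⟶ U), y ∈ V ∧ h ≫ g = V.ι ≫ π := by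
  obtain ⟨T, π, _, _, hT⟩ := Groth.Agent.S1378.result g
  exact exists_finite_of_integral g π hT

end Groth.Agent.S0441
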