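import Groth.Statements.S0411
import Groth.Agent.GrpdLib.FiniteInAffine

set_option autoImplicit false
universe u
open FlatMor

namespace Groth.Agent.S0411

open AlgebraicGeometry CategoryTheory Limits in
/-- For a separated, locally quasi-finite morphism (locally of finite type with discrete fibres) to an
affine scheme, every finite set of points of the source lies in an affine open. -/
theorem result {X Y : Scheme.{u}} (f : X ⟶ Y) [IsAffine Y] [IsSeparated f] [LocallyQuasiFinite f] [LocallyOfFiniteType f] (T : Finset ↑X) :
    ∃ U : X.Opens, IsAffineOpen U ∧ ∀ x ∈ T, x ∈ U := by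
  obtain ⟨W, hW, hFW⟩ := Groth.Agent.GrpdLib.exists_affine_of_finite_of_lqf f T.finite_toSet
  exact ⟨W, hW, fun x hx => hFW hx⟩

end Groth.Agent.S0411
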