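import Groth.Statements.S0413
import Mathlib
import Groth.Agent.S1459
import Groth.Agent.CIntCodim.Smooth
import Groth.Agent.FlatMor.FibreStalk
import Groth.Agent.RegLoc.Basic
import Groth.Agent.EtStruct.Scheme

set_option autoImplicit false
universe u
set_option linter.style.haveILetI false
set_option maxHeartbeats 1000000
set_option backward.isDefEq.respectTransparency false
open FlatMor

namespace Groth.Agent.S0413

/-- If `𝔪 ≤ g(𝔞) + (y)` and `h` kills the `y`s then `h(𝔪) ≤ (h ∘ g)(𝔞)`. -/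
theorem map_le_map_comp {A O T ι : Type*} [CommRing A] [CommRing O] [CommRing T] (g : A →+* O)
    (h : O →+* T) (a : Ideal A) (M : Ideal O) (y : ι → O)
    (hm : M ≤ Ideal.map g a ⊔ Ideal.span (Set.range y)) (hy : ∀ k, h (y k) = 0) :
    Ideal.map h M ≤ Ideal.map (h.comp g) a := by
  rw [← Ideal.map_map]
  refine (Ideal.map_mono hm).trans ?_
  rw [Ideal.map_sup, sup_le_iff]
  refine ⟨le_rfl, ?_⟩
  rw [Ideal.map_span, Ideal.span_le]
  rintro _ ⟨_, ⟨k, rfl⟩, rfl⟩
  rw [hy k]
  exact zero_mem _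

open AlgebraicGeometry CategoryTheory in
theorem locallyQuasiFinite_of_etale {X Y : Scheme.{u}} (g : X ⟶ Y) [Etale g] : LocallyQuasiFinite g := by
  rw [HasRingHomProperty.iff_appLE (P := @LocallyQuasiFinite)]
  intro V U e
  have h : (g.appLE V.1 U.1 e).hom.Etale := HasRingHomProperty.appLE @Etale g ‹_› V U e
  algebraize [(g.appLE V.1 U.1 e).hom]
  exact (inferInstance : Algebra.QuasiFinite Γ(Y, V) Γ(X, U))

open AlgebraicGeometry CategoryTheory Limits in
/-- For a smooth morphism and a point that is closed in its fibre with separable residue field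
extension, there is a locally closed subscheme through the point which is étale over the base and
meets the fibre only in that point. -/
theorem result {X S : Scheme.{u}} (f : X ⟶ S) [Smooth f] (x : X)
    (hcl : IsClosed ({f.asFiber x} : Set ↑(f.fiber (f x))))
    (hsep : @Algebra.IsSeparable (S.residueField (f x)) (X.residueField x) _ _ (f.residueFieldMap x).hom.toAlgebra) :
    ∃ (Z : Scheme.{u}) (i : Z ⟶ X) (z : Z), IsImmersion i ∧ Etale (i ≫ f) ∧ i z = x ∧
      ∀ z' : ↑Z, f (i z') = f x → z' = z := by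
  classical
  let O := X.presheaf.stalk x
  let I : Ideal O := Ideal.map (f.stalkMap x).hom (IsLocalRing.maximalIdeal (S.presheaf.stalk (f x)))
  -- the fibre ring is regular
  obtain ⟨φ, hφs, hφk⟩ := Groth.Agent.FlatMor.FibreStalk.exists_fibre_stalk f x
  have hreg := Groth.Agent.CIntCodim.isRegularLocalRing_fiberStalk f x
  let eφ : O ⧸ I ≃+* (f.fiber (f x)).presheaf.stalk (f.asFiber x) :=
    (Ideal.quotEquivOfEq hφk.symm).trans (RingHom.quotientKerEquivOfSurjective hφs)
  haveI : IsRegularLocalRing (O ⧸ I) := IsRegularLocalRing.of_ringEquiv eφ.symm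
  obtain ⟨n, hn, -⟩ := Groth.Agent.RegLoc.exists_natCast_eq_ringKrullDim (O ⧸ I)
  obtain ⟨s, hs, hs'⟩ := Submodule.FG.exists_span_finset_card_eq_spanFinrank
    (IsNoetherian.noetherian (IsLocalRing.maximalIdeal (O ⧸ I)))
  rw [Groth.Agent.RegLoc.spanFinrank_eq_dim hn] at hs
  let e : Fin n ≃ s := (s.equivFinOfCardEq hs).symm
  have hxbar : Ideal.span (Set.range fun k => (e k : O ⧸ I)) = IsLocalRing.maximalIdeal (O ⧸ I) := by
    rw [show (Set.range fun k => (e k : O ⧸ I)) = (s : Set (O ⧸ I)) by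
      ext a
      exact ⟨fun ⟨k, hk⟩ => hk ▸ (e k).2, fun ha => ⟨e.symm ⟨a, ha⟩, by simp⟩⟩]
    exact hs'
  choose y hy using fun k => Ideal.Quotient.mk_surjective (I := I) (e k : O ⧸ I)
  have hmk : (List.ofFn y).map (Ideal.Quotient.mk I) = List.ofFn fun k => (e k : O ⧸ I) := by
    rw [List.map_ofFn]
    exact congrArg List.ofFn (funext hy)
  obtain ⟨U, hU, hxU, hs₁, hgerm, -, hxr, hfl, hfp, -⟩ :=
    Groth.Agent.S1459.result f x (Flat.stalkMap f x) (List.ofFn y) (by
      rw [hmk]
      exact Groth.Agent.RegLoc.isRegular_ofFn hn _ hxbar)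
  -- the slice
  let A : Ideal Γ(X, U) := Ideal.ofList hs₁
  let mk : Γ(X, U) ⟶ CommRingCat.of (Γ(X, U) ⧸ A) := CommRingCat.ofHom (Ideal.Quotient.mk A)
  haveI : IsClosedImmersion (Spec.map mk) :=
    IsClosedImmersion.spec_of_surjective mk Ideal.Quotient.mk_surjective
  haveI := hU.isOpenImmersion_fromSpec
  let i : Spec (CommRingCat.of (Γ(X, U) ⧸ A)) ⟶ X := Spec.map mk ≫ hU.fromSpec
  obtain ⟨z, hz⟩ := hxr
  have hz' : i z = x := hz
  subst hz'
  haveI : Flat (i ≫ f) := by rw [Category.assoc]; exact hfl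
  haveI : LocallyOfFinitePresentation (i ≫ f) := by rw [Category.assoc]; exact hfp
  -- unramified at the point
  have hkill : ∀ a ∈ hs₁, (i.stalkMap z).hom (X.presheaf.germ U (i z) hxU a) = 0 := by
    intro a ha
    have h2 : Spec.map mk ⁻¹ᵁ (hU.fromSpec ⁻¹ᵁ U) = ⊤ := by
      rw [hU.fromSpec_preimage_self, Scheme.Hom.preimage_top]
    have h0 : i.app U a = 0 := by
      show (Spec.map mk).app (hU.fromSpec ⁻¹ᵁ U) (hU.fromSpec.app U a) = 0
      have key : ∀ (O : (Spec Γ(X, U)).Opens) (hO : O = ⊤) (b : Γ(X, U)),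
          (Spec.map mk).app O ((Spec Γ(X, U)).presheaf.map (eqToHom hO).op
            ((Scheme.ΓSpecIso Γ(X, U)).inv b)) = 0 ↔ mk b = 0 := by
        rintro O rfl b
        rw [eqToHom_refl, op_id, CategoryTheory.Functor.map_id, CommRingCat.id_apply,
          ← CommRingCat.comp_apply]
        show ((Scheme.ΓSpecIso Γ(X, U)).inv ≫ (Spec.map mk).appTop) b = 0 ↔ _
        rw [← Scheme.ΓSpecIso_inv_naturality, CommRingCat.comp_apply,
          map_eq_zero_iff _ (ConcreteCategory.bijective_of_isIso (Scheme.ΓSpecIso _).inv).1]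
      rw [hU.fromSpec_app_self, CommRingCat.comp_apply]
      exact (key _ hU.fromSpec_preimage_self a).2
        (Ideal.Quotient.eq_zero_iff_mem.2 (Ideal.subset_span ha))
    rw [← CommRingCat.comp_apply]
    erw [Scheme.Hom.germ_stalkMap i U z hxU]
    rw [CommRingCat.comp_apply, h0, map_zero]
  have hsurj : Function.Surjective (i.stalkMap z).hom := i.stalkMap_surjective z
  have hmax : Ideal.map (i.stalkMap z).hom (IsLocalRing.maximalIdeal O) ≤
      Ideal.map ((i ≫ f).stalkMap z).hom (IsLocalRing.maximalIdeal (S.presheaf.stalk (f (i z)))) := by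
    rw [Scheme.Hom.stalkMap_comp i f z, CommRingCat.hom_comp]
    have hm : IsLocalRing.maximalIdeal O ≤ I ⊔ Ideal.span (Set.range y) := by
      intro a ha
      have h1 : Ideal.Quotient.mk I a ∈ Ideal.map (Ideal.Quotient.mk I) (Ideal.span (Set.range y)) := by
        rw [Ideal.map_span, ← Set.range_comp,
          show Ideal.Quotient.mk I ∘ y = fun k => (e k : O ⧸ I) from funext hy, hxbar,
          Groth.Agent.RegLoc.maximalIdeal_quotient_eq_map]
        exact Ideal.mem_map_of_mem _ ha
      rwa [← Ideal.mem_comap, Ideal.comap_map_of_surjective _ Ideal.Quotient.mk_surjective,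
        ← RingHom.ker_eq_comap_bot, Ideal.mk_ker, sup_comm] at h1
    refine map_le_map_comp (f.stalkMap (i z)).hom (i.stalkMap z).hom _ _ y hm fun k => ?_
    obtain ⟨a, ha, hak⟩ := List.mem_map.1
      (hgerm ▸ List.mem_ofFn.2 ⟨k, rfl⟩ :
        y k ∈ hs₁.map (X.presheaf.germ U (i z) hxU))
    rw [← hak]
    exact hkill a ha
  have hun : ((i ≫ f).stalkMap z).hom.FormallyUnramified := by
    let Z := Spec (CommRingCat.of (Γ(X, U) ⧸ A))
    let R₀ := S.presheaf.stalk ((i ≫ f) z)
    let T := Z.presheaf.stalk z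
    algebraize [((i ≫ f).stalkMap z).hom]
    haveI : IsLocalHom (algebraMap R₀ T) :=
      inferInstanceAs <| IsLocalHom ((i ≫ f).stalkMap z).hom
    haveI : Algebra.EssFiniteType R₀ T := by
      rw [← RingHom.essFiniteType_algebraMap, RingHom.algebraMap_toAlgebra]
      exact LocallyOfFiniteType.stalkMap (i ≫ f) z
    refine Algebra.FormallyUnramified.iff_map_maximalIdeal_eq.mpr ⟨?_, le_antisymm ?_ ?_⟩
    · letI : Algebra (IsLocalRing.ResidueField R₀) (X.residueField (i z)) :=
        (f.residueFieldMap (i z)).hom.toAlgebra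
      let ρ : X.residueField (i z) →ₐ[IsLocalRing.ResidueField R₀] IsLocalRing.ResidueField T :=
        { (i.residueFieldMap z).hom with
          commutes' := fun a => by
            show (f.residueFieldMap (i z) ≫ i.residueFieldMap z) a = _
            rw [← Scheme.residueFieldMap_comp]
            rfl }
      have hρ : Function.Bijective ρ := by
        refine ⟨(i.residueFieldMap z).hom.injective, fun b => ?_⟩
        obtain ⟨b, rfl⟩ := IsLocalRing.residue_surjective b
        obtain ⟨c, rfl⟩ := hsurj b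
        exact ⟨IsLocalRing.residue _ c, rfl⟩
      haveI : Algebra.IsSeparable (IsLocalRing.ResidueField R₀) (X.residueField (i z)) := hsep
      exact AlgEquiv.Algebra.isSeparable (AlgEquiv.ofBijective ρ hρ)
    · exact ((IsLocalRing.local_hom_TFAE (algebraMap R₀ T)).out 0 2 rfl rfl).mp inferInstance
    · rw [← IsLocalRing.map_maximalIdeal_of_surjective _ hsurj]
      exact hmax
  obtain ⟨W, hzW, hW⟩ := (Groth.Agent.EtStruct.formallyUnramified_nhd_iff (i ≫ f) z).2 hun
  haveI := hW
  haveI : Etale (W.ι ≫ i ≫ f) := Etale.of_formallyUnramified_of_flat _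
  -- isolate the point in the fibre
  let g := W.ι ≫ i ≫ f
  let w : W.toScheme := ⟨z, hzW⟩
  haveI : LocallyQuasiFinite g := locallyQuasiFinite_of_etale g
  obtain ⟨V, hV⟩ : ∃ V : W.toScheme.Opens, w ∈ V ∧ ∀ v ∈ V, g v = g w → v = w := by
    have hd : _root_.IsDiscrete (g ⁻¹' {g w}) := g.isDiscrete_preimage_singleton (g w)
    haveI : DiscreteTopology (g ⁻¹' {g w}) := hd.to_subtype
    obtain ⟨O', hO', hOw⟩ := isOpen_induced_iff.1
      (isOpen_discrete ({(⟨w, rfl⟩ : g ⁻¹' {g w})} : Set (g ⁻¹' {g w})))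
    refine ⟨⟨O', hO'⟩, ?_, fun v hv hvw => ?_⟩
    · exact (Set.ext_iff.1 hOw ⟨w, rfl⟩).2 rfl
    · exact congrArg Subtype.val
        (Set.mem_singleton_iff.1 ((Set.ext_iff.1 hOw ⟨v, hvw⟩).1 hv))
  refine ⟨V.toScheme, V.ι ≫ W.ι ≫ i, ⟨w, hV.1⟩, inferInstance, ?_, rfl, fun v hv => ?_⟩
  · simp only [Category.assoc]
    infer_instance
  · exact Subtype.ext (hV.2 v.1 v.2 hv)

end Groth.Agent.S0413
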