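import Groth.Statements.S0415
import Groth.Agent.PerfSch.Perfect
import Mathlib.AlgebraicGeometry.Morphisms.Integral

set_option autoImplicit false
universe u
open FlatMor

namespace Groth.Agent.S0415

open AlgebraicGeometry CategoryTheory Limits in
/-- A morphism of schemes is a universal homeomorphism if and only if it is integral, universally
injective and surjective. -/
theorem result {X Y : Scheme.{u}} (f : X ⟶ Y) :
    FlatMor.IsUnivHomeo f ↔ IsIntegralHom f ∧ UniversallyInjective f ∧ Surjective f := by
  rw [Groth.Agent.PerfSch.Perfect.isUnivHomeo_iff]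
  constructor
  · intro h
    have := Groth.Agent.PerfSch.Perfect.isAffineHom_of_isUnivHomeo f
      ((Groth.Agent.PerfSch.Perfect.isUnivHomeo_iff f).mpr h)
    exact ⟨IsIntegralHom.iff_universallyClosed_and_isAffineHom.mpr ⟨h.2.2, this⟩, h.1, h.2.1⟩
  · rintro ⟨h1, h2, h3⟩
    exact ⟨h2, h3, inferInstance⟩

end Groth.Agent.S0415
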