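import Groth.Statements.S0416
import Mathlib.AlgebraicGeometry.Morphisms.Immersion


set_option autoImplicit false
universe u
open FlatMor

namespace Groth.Agent.S0416

open AlgebraicGeometry CategoryTheory Limits in
/-- When a composite of two morphisms is a universal homeomorphism and so is either factor, the
remaining factor is a universal homeomorphism as well. -/
theorem result {X Y Z : Scheme.{u}} (g : X ⟶ Y) (h : Y ⟶ Z) :
    (FlatMor.IsUnivHomeo (g ≫ h) → FlatMor.IsUnivHomeo g → FlatMor.IsUnivHomeo h) ∧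
    (FlatMor.IsUnivHomeo (g ≫ h) → FlatMor.IsUnivHomeo h → FlatMor.IsUnivHomeo g) := by
  refine ⟨fun h1 h2 => ?_, fun h1 h2 => ?_⟩
  · intro Y' Z' i₁ i₂ h' hsq
    have hp : IsPullback (pullback.fst g i₁) (pullback.snd g i₁) g i₁ := IsPullback.of_hasPullback g i₁
    have hg : IsHomeomorph (pullback.snd g i₁) := h2 _ _ _ hp.flip
    have hgh : IsHomeomorph ((pullback.snd g i₁) ≫ h' :) := h1 _ _ _ (hp.flip.paste_horiz hsq)
    have : (h' : Y' → Z') = ((pullback.snd g i₁ ≫ h' :) : _ → Z') ∘ hg.homeomorph.symm := by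
      ext y
      obtain ⟨x, rfl⟩ := hg.surjective y
      have : hg.homeomorph.symm (pullback.snd g i₁ x) = x := hg.homeomorph.symm_apply_apply x
      simp [this]
    show IsHomeomorph h'
    rw [this]
    exact hgh.comp hg.homeomorph.symm.isHomeomorph
  · intro X' Y' i₁ i₂ g' hsq
    have h3 : IsHomeomorph (pullback.snd (g ≫ h) (i₂ ≫ h)) :=
      h1 _ _ _ (IsPullback.of_hasPullback (g ≫ h) (i₂ ≫ h)).flip
    have hinj : Function.Injective h := by
      have h4 : IsHomeomorph h := MorphismProperty.universally_le _ _ h2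
      exact h4.injective
    let k := pullback.mapDesc g i₂ h
    have hks : Function.Surjective k := by
      intro z
      have hx : g (pullback.fst (g ≫ h) (i₂ ≫ h) z) = i₂ (pullback.snd (g ≫ h) (i₂ ≫ h) z) := by
        apply hinj
        have := congrArg (fun q : _ ⟶ Z => q (z)) (pullback.condition (f := g ≫ h) (g := i₂ ≫ h))
        simpa using this
      obtain ⟨w, hw1, hw2⟩ := Scheme.Pullback.exists_preimage_pullback _ _ hx
      refine ⟨w, h3.injective ?_⟩
      rw [← hw2, ← Scheme.Hom.comp_apply]
      exact congrArg (fun q : _ ⟶ Y' => (q w)) (show k ≫ pullback.snd (g ≫ h) (i₂ ≫ h) = pullback.snd g i₂ from pullback.lift_snd _ _ _)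
    have hk : IsHomeomorph k :=
      isHomeomorph_iff_isEmbedding_surjective.mpr ⟨k.isEmbedding, hks⟩
    have heq : (hsq.flip.isoPullback.hom ≫ k) ≫ pullback.snd (g ≫ h) (i₂ ≫ h) = g' := by
      rw [Category.assoc, show k ≫ pullback.snd _ _ = pullback.snd g i₂ from pullback.lift_snd _ _ _]
      exact hsq.flip.isoPullback_hom_snd
    show IsHomeomorph g'
    rw [← heq]
    exact h3.comp (hk.comp hsq.flip.isoPullback.hom.homeomorph.isHomeomorph)

end Groth.Agent.S0416
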