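import Groth.Statements.S0417
import Groth.Agent.FlatMisc.AffineOfEmb
import Groth.Agent.Thick.Unram
import Mathlib.AlgebraicGeometry.Morphisms.ClosedImmersion
import Mathlib.RingTheory.Nilpotent.Lemmas

set_option autoImplicit false
universe u
open FlatMor

namespace Groth.Agent.S0417

open CategoryTheory in
theorem surjective_of_nil {A B A' B' : CommRingCat.{u}} {φ : A ⟶ B} {π : A ⟶ A'} {ρ : B ⟶ B'} {ψ : A' ⟶ B'}
    (h : IsPushout φ π ρ ψ) (hφ : φ.hom.FiniteType) (hπ : Function.Surjective π)
    (hnil : RingHom.ker π.hom ≤ nilradical A) (hψ : Function.Surjective ψ) : Function.Surjective φ := by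
  classical
  have hker : RingHom.ker ρ.hom ≤ (RingHom.ker π.hom).map φ.hom := by
    let Q := CommRingCat.of (B ⧸ (RingHom.ker π.hom).map φ.hom)
    let qB : B ⟶ Q := CommRingCat.ofHom (Ideal.Quotient.mk _)
    let qA : A' ⟶ Q := CommRingCat.ofHom (RingHom.liftOfSurjective π.hom hπ
      ⟨(Ideal.Quotient.mk _).comp φ.hom, fun a ha => by
        rw [RingHom.mem_ker, RingHom.comp_apply, Ideal.Quotient.eq_zero_iff_mem]
        exact Ideal.mem_map_of_mem _ ha⟩)
    have hw : φ ≫ qB = π ≫ qA := by
      refine CommRingCat.hom_ext (RingHom.ext fun a => ?_)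
      show _ = qA.hom (π.hom a)
      symm
      exact RingHom.liftOfSurjective_comp_apply (C := Q) π.hom hπ _ a
    intro b hb
    have := congrArg (fun g => g.hom b) (h.inl_desc qB qA hw)
    simp only [CommRingCat.hom_comp, RingHom.comp_apply] at this
    rw [show ρ.hom b = 0 from hb, map_zero] at this
    exact Ideal.Quotient.eq_zero_iff_mem.mp this.symm
  obtain ⟨s, hs⟩ : ∃ s : Finset B, ∀ S : Subring B, φ.hom.range ≤ S → (s : Set B) ⊆ S → S = ⊤ := by
    letI := φ.hom.toAlgebra
    have : Algebra.FiniteType A B := hφ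
    obtain ⟨s, hs⟩ := this.out
    refine ⟨s, fun S hr hsS => ?_⟩
    let S' : Subalgebra A B :=
      { S with algebraMap_mem' := fun a => hr ⟨a, rfl⟩ }
    have : (⊤ : Subalgebra A B) ≤ S' := hs ▸ Algebra.adjoin_le hsS
    exact top_unique fun b _ => this Algebra.mem_top
  have hmem : ∀ b ∈ s, ∃ T : Finset A, (∀ a ∈ T, a ∈ RingHom.ker π.hom) ∧
      ∃ a, b - φ.hom a ∈ (Ideal.span (T : Set A)).map φ.hom := by
    intro b _
    obtain ⟨a', ha'⟩ := hψ (ρ.hom b)
    obtain ⟨a, rfl⟩ := hπ a'
    have hd : b - φ.hom a ∈ (RingHom.ker π.hom).map φ.hom := by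
      refine hker ?_
      rw [RingHom.mem_ker, map_sub, sub_eq_zero]
      have := congrArg (fun g => g.hom a) h.w
      simp only [CommRingCat.hom_comp, RingHom.comp_apply] at this
      rw [this]
      exact ha'.symm
    rw [Ideal.map] at hd
    obtain ⟨T, hT, hTd⟩ := Submodule.mem_span_finite_of_mem_span hd
    choose g hg using fun x : T => hT x.2
    refine ⟨Finset.univ.image g, fun x hx => ?_, a, ?_⟩
    · obtain ⟨y, _, rfl⟩ := Finset.mem_image.mp hx
      exact (hg y).1
    · refine Submodule.span_le.mpr ?_ hTd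
      intro x hx
      rw [← show φ.hom (g ⟨x, hx⟩) = x from (hg ⟨x, hx⟩).2]
      exact Ideal.mem_map_of_mem _ (Ideal.subset_span (by simp))
  choose! T hT a ha using hmem
  let I0 := Ideal.span ((s.biUnion T : Finset A) : Set A)
  have hI0 : I0 ≤ nilradical A := Ideal.span_le.mpr fun x hx => by
    obtain ⟨b, hb, hxb⟩ := Finset.mem_biUnion.mp hx
    exact hnil (hT b hb x hxb)
  obtain ⟨n, hn⟩ : ∃ n : ℕ, I0 ^ n = 0 := by
    refine (Ideal.FG.isNilpotent_iff_le_nilradical ⟨_, rfl⟩).mpr hI0
  let S : ℕ → Prop := fun k => ∀ b, ∃ a, b - φ.hom a ∈ (I0 ^ k).map φ.hom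
  have h1 : S 1 := by
    let R : Subring B :=
      { carrier := {b | ∃ a, b - φ.hom a ∈ (I0 ^ 1).map φ.hom}
        mul_mem' := by
          rintro x y ⟨a, ha⟩ ⟨c, hc⟩
          refine ⟨a * c, ?_⟩
          rw [show x * y - φ.hom (a * c) = (x - φ.hom a) * y + φ.hom a * (y - φ.hom c) by rw [map_mul]; ring]
          exact add_mem (Ideal.mul_mem_right _ _ ha) (Ideal.mul_mem_left _ _ hc)
        one_mem' := ⟨1, by simp⟩
        add_mem' := by
          rintro x y ⟨a, ha⟩ ⟨c, hc⟩
          exact ⟨a + c, by rw [map_add, show x + y - (φ.hom a + φ.hom c) = (x - φ.hom a) + (y - φ.hom c) by ring]; exact add_mem ha hc⟩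
        zero_mem' := ⟨0, by simp⟩
        neg_mem' := by
          rintro x ⟨a, ha⟩
          exact ⟨-a, by rw [map_neg, show -x - -φ.hom a = -(x - φ.hom a) by ring]; exact neg_mem ha⟩ }
    have := hs R (by rintro _ ⟨x, rfl⟩; exact ⟨x, by simp⟩) fun b hb => ⟨a b, by
      rw [pow_one]
      exact Ideal.map_mono (Ideal.span_mono (Finset.coe_subset.mpr (Finset.subset_biUnion_of_mem T hb))) (ha b hb)⟩
    intro b
    exact (show b ∈ R by rw [this]; trivial)
  have hk : ∀ k, S k := by
    intro k
    induction k with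
    | zero =>
      intro b
      refine ⟨0, ?_⟩
      rw [pow_zero, Ideal.one_eq_top, Ideal.map_top]
      trivial
    | succ k ih =>
      intro b
      obtain ⟨c, hc⟩ := ih b
      suffices hsuff : ∀ z ∈ (I0 ^ k).map φ.hom, ∃ d, z - φ.hom d ∈ (I0 ^ (k + 1)).map φ.hom by
        obtain ⟨d, hd⟩ := hsuff _ hc
        exact ⟨c + d, by rwa [map_add, ← sub_sub]⟩
      intro z hz
      have hz' : z ∈ Submodule.span B (φ.hom '' ((I0 ^ k : Ideal A) : Set A)) := hz
      clear hc hz
      induction hz' using Submodule.closure_induction with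
      | zero => exact ⟨0, by simp⟩
      | add x y _ _ hx hy =>
        obtain ⟨d, hd⟩ := hx
        obtain ⟨e, he⟩ := hy
        exact ⟨d + e, by rw [map_add, show x + y - (φ.hom d + φ.hom e) = (x - φ.hom d) + (y - φ.hom e) by ring]; exact add_mem hd he⟩
      | smul_mem r x hx =>
        obtain ⟨i, hi, rfl⟩ := hx
        obtain ⟨e, he⟩ := h1 r
        refine ⟨e * i, ?_⟩
        rw [smul_eq_mul, map_mul, ← sub_mul, mul_comm, pow_succ, Ideal.map_mul]
        exact Ideal.mul_mem_mul (Ideal.mem_map_of_mem _ hi) (by rwa [pow_one] at he)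
  intro b
  obtain ⟨c, hc⟩ := hk n b
  rw [hn, Submodule.zero_eq_bot, Ideal.map_bot, Ideal.mem_bot, sub_eq_zero] at hc
  exact ⟨c, hc.symm⟩

open AlgebraicGeometry CategoryTheory Limits in
/-- Let i : S' → S be a closed immersion that is bijective on points and f : X → S a morphism of finite
type (locally of finite type and quasi-compact) whose base change X ×_S S' → S' is a closed
immersion. Then f is a closed immersion. The published statement alternatively allows S' → S of
finite presentation in place of the finite-type hypothesis on f; only the first alternative is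
stated. -/
theorem result {X S S' : Scheme.{u}} (f : X ⟶ S) (i : S' ⟶ S) [IsClosedImmersion i] (hi : Function.Bijective i)
    [LocallyOfFiniteType f] [QuasiCompact f] [IsClosedImmersion (pullback.snd f i)] : IsClosedImmersion f := by
  have : Surjective i := ⟨hi.2⟩
  let f' := pullback.snd f i
  let i' := pullback.fst f i
  have hi' : IsHomeomorph i' := Groth.Agent.Thick.Topo.isHomeomorph i'
  have hcl : Topology.IsClosedEmbedding f := by
    have he : (f : X → S) = ((f' ≫ i :) : _ → S) ∘ hi'.homeomorph.symm := by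
      ext x
      obtain ⟨w, rfl⟩ := hi'.surjective x
      have : hi'.homeomorph.symm (i' w) = w := hi'.homeomorph.symm_apply_apply w
      simp only [Function.comp_apply, this]
      rw [← Scheme.Hom.comp_apply, pullback.condition]
    rw [he]
    exact (f' ≫ i).isClosedEmbedding.comp hi'.homeomorph.symm.isClosedEmbedding
  have hfa := Groth.Agent.FlatMisc.AffineOfEmb.isAffineHom_of_isClosedEmbedding f hcl
  refine isClosedImmersion_iff_isAffineHom.mpr ⟨hfa, fun U hU => ?_⟩
  obtain ⟨h', hp⟩ := Groth.Agent.Thick.Unram.isPushout_appLE (iS := i) (iX := i') (f := f') (f' := f)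
    (IsPullback.of_hasPullback f i) hU (hU.preimage f) le_rfl
  rw [Scheme.Hom.app_eq_appLE]
  refine surjective_of_nil hp (f.finiteType_appLE hU (hU.preimage f) le_rfl) (i.app_surjective U hU)
    (Groth.Agent.Thick.Unram.ker_app_le_nilradical i hU) ?_
  have hle : i' ⁻¹ᵁ (f ⁻¹ᵁ U) = f' ⁻¹ᵁ (i ⁻¹ᵁ U) := by
    rw [← Scheme.Hom.comp_preimage, pullback.condition, Scheme.Hom.comp_preimage]
  have key : ∀ (W : (pullback f i).Opens) (e : W = f' ⁻¹ᵁ (i ⁻¹ᵁ U)) (h : W ≤ f' ⁻¹ᵁ (i ⁻¹ᵁ U)),
      Function.Surjective (f'.appLE (i ⁻¹ᵁ U) W h) := by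
    rintro W rfl h
    rw [← Scheme.Hom.app_eq_appLE]
    exact f'.app_surjective _ (hU.preimage i)
  exact key _ hle h'

end Groth.Agent.S0417
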