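import Groth.Statements.S7401
import Groth.Agent.UH.Towers
-- import your own Groth.Agent.* helpers here

set_option autoImplicit false
universe u
open CategoryTheory AlgebraicGeometry
open Mor

namespace Groth.Agent.S7401

/-- Let `A ⊆ B` be a ring extension. Then `Spec B → Spec A` is a universal homeomorphism if and only if
every finite subset of `B` lies in a subextension `A[b_1, …, b_n]` such that for each `i` either
`b_i^2, b_i^3 ∈ A[b_1, …, b_{i-1}]` or there is a prime number `p` with `p b_i, b_i^p ∈ A[b_1, …,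
b_{i-1}]`. -/
theorem result {A B : Type u} [CommRing A] [CommRing B] [Algebra A B]
    (hinj : Function.Injective (algebraMap A B)) :
    FlatMor.IsUnivHomeo (Spec.map (CommRingCat.ofHom (algebraMap A B))) ↔
    ∀ E : Finset B, ∃ l : List B, (↑E : Set B) ⊆ Algebra.adjoin A {b : B | b ∈ l} ∧
      ∀ i : Fin l.length,
        (l.get i ^ 2 ∈ Algebra.adjoin A {b : B | ∃ j : Fin l.length, j < i ∧ b = l.get j} ∧
          l.get i ^ 3 ∈ Algebra.adjoin A {b : B | ∃ j : Fin l.length, j < i ∧ b = l.get j}) ∨
        ∃ p : ℕ, p.Prime ∧ (p : B) * l.get i ∈ Algebra.adjoin A {b : B | ∃ j : Fin l.length, j < i ∧ b = l.get j} ∧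
          l.get i ^ p ∈ Algebra.adjoin A {b : B | ∃ j : Fin l.length, j < i ∧ b = l.get j} := by
  rw [Groth.Agent.WN.isUnivHomeo_specMap_iff]
  constructor
  · intro h E
    obtain ⟨l, hl, hE⟩ := Groth.Agent.UH.exists_tower_of_finite Groth.Agent.UH.uhStep_mono E
      fun b _ => Groth.Agent.UH.uhTowers_of_isRadHomeo h b
    exact ⟨l, hE, hl⟩
  · intro H
    refine Groth.Agent.UH.isRadHomeo_of_towers hinj fun b => ?_
    obtain ⟨l, hE, hl⟩ := H {b}
    exact ⟨l, hl, hE (by simp)⟩

end Groth.Agent.S7401
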