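import Groth.Statements.S0418
import Groth.Agent.WN.Basic
import Groth.Agent.S7401
import Mathlib.Algebra.CharP.Lemmas
import Mathlib.NumberTheory.Basic
import Mathlib.RingTheory.IntegralClosure.IsIntegral.Basic
import Mathlib.FieldTheory.Perfect
-- import your own Groth.Agent.* helpers here

set_option autoImplicit false
universe u
open FlatMor

namespace Groth.Agent.S0418

variable {A B : Type u} [CommRing A] [CommRing B] (φ : A →+* B) (p : ℕ)

theorem exists_smul_mem (h : Function.Bijective (Localization.awayMap φ (p : A))) (b : B) :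
    ∃ n : ℕ, (p ^ n : B) * b ∈ φ.range := by
  obtain ⟨x, hx⟩ := h.2 (algebraMap B _ b)
  obtain ⟨⟨a, s⟩, hs⟩ := IsLocalization.surj (Submonoid.powers (p : A)) x
  obtain ⟨m, hm⟩ := s.2
  have h1 := congrArg (Localization.awayMap φ (p : A)) hs
  simp only [Localization.awayMap, IsLocalization.Away.map, map_mul, IsLocalization.map_eq] at h1
  rw [show IsLocalization.map _ φ _ x = algebraMap B _ b from hx, ← map_mul,
    IsLocalization.eq_iff_exists (Submonoid.powers (φ (p : A)))] at h1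
  obtain ⟨⟨_, k, rfl⟩, hk⟩ := h1
  refine ⟨k + m, (p : A) ^ k * a, ?_⟩
  simp only at hk
  rw [← hm] at hk
  simp only [map_pow, map_mul, map_natCast] at hk ⊢
  rw [← hk, pow_add]
  ring

theorem exists_uniform [Algebra A B] (S : Submodule A B) (hS : S.FG)
    (hmul : ∀ b : B, ∃ n : ℕ, (p ^ n : B) * b ∈ (algebraMap A B).range) :
    ∃ n : ℕ, ∀ b ∈ S, (p ^ n : B) * b ∈ (algebraMap A B).range := by
  classical
  obtain ⟨G, rfl⟩ := hS
  choose n hn using hmul
  refine ⟨G.sup n, fun b hb => ?_⟩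
  induction hb using Submodule.span_induction with
  | mem g hg =>
    obtain ⟨a, ha⟩ := hn g
    refine ⟨(p : A) ^ (G.sup n - n g) * a, ?_⟩
    rw [map_mul, map_pow, map_natCast, ha, ← mul_assoc, ← pow_add, Nat.sub_add_cancel (Finset.le_sup hg)]
  | zero => exact ⟨0, by simp⟩
  | add x y _ _ hx hy => rw [mul_add]; exact add_mem hx hy
  | smul a x _ hx =>
    obtain ⟨c, hc⟩ := hx
    exact ⟨a * c, by rw [map_mul, hc, Algebra.smul_def]; ring⟩

theorem pow_mem_of_mem_add_mul [Algebra A B]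
    (hint : ∀ b : B, IsIntegral A b) (hmul : ∀ b : B, ∃ n : ℕ, (p ^ n : B) * b ∈ (algebraMap A B).range)
    (c : A) (z : B) : ∃ j, (algebraMap A B c + p * z) ^ (p ^ j) ∈ (algebraMap A B).range := by
  let Z := Algebra.adjoin A ({z} : Set B)
  obtain ⟨k, hk⟩ := exists_uniform p (Subalgebra.toSubmodule Z) (hint z).fg_adjoin_singleton hmul
  refine ⟨k, ?_⟩
  let z' : Z := ⟨z, Algebra.subset_adjoin rfl⟩
  obtain ⟨w, hw⟩ := dvd_sub_pow_of_dvd_sub (p := p) (a := algebraMap A Z c + p * z') (b := algebraMap A Z c)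
    ⟨z', by ring⟩ k
  have h1 := congrArg (fun t : Z => (t : B)) hw
  simp only [Subalgebra.coe_sub, Subalgebra.coe_pow, Subalgebra.coe_add, Subalgebra.coe_mul,
    Subalgebra.coe_algebraMap] at h1
  push_cast at h1
  rw [sub_eq_iff_eq_add] at h1
  have h2 : (algebraMap A B c + p * z) ^ p ^ k = p * ((p ^ k : B) * w.1) + algebraMap A B c ^ p ^ k := by
    rw [h1]; ring
  rw [h2]
  exact add_mem (mul_mem (natCast_mem _ p) (hk _ w.2)) (pow_mem (RingHom.mem_range_self _ c) _)

variable {p}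

/-- The elements with a `p`-power power in the range modulo `p`. -/
noncomputable def modRoots [Algebra A B] (hp : p.Prime) : Subalgebra A B where
  carrier := {x | ∃ n : ℕ, ∃ c : A, ∃ z : B, x ^ p ^ n = algebraMap A B c + p * z}
  algebraMap_mem' a := ⟨0, a, 0, by simp⟩
  mul_mem' := by
    rintro x y ⟨m, a, z, hx⟩ ⟨n, b, w, hy⟩
    have e : ∀ (x : B) (m n : ℕ) (a : A) (z : B), x ^ p ^ m = algebraMap A B a + p * z →
        ∃ z', x ^ p ^ (m + n) = algebraMap A B (a ^ p ^ n) + p * z' := fun x m n a z hx => by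
      obtain ⟨r, hr⟩ := exists_add_pow_prime_pow_eq hp (algebraMap A B a) ((p : B) * z) n
      refine ⟨(p : B) ^ (p ^ n - 1) * z ^ p ^ n + algebraMap A B a * ((p : B) * z) * r, ?_⟩
      have : ((p : B) * z) ^ p ^ n = p * ((p : B) ^ (p ^ n - 1) * z ^ p ^ n) := by
        rw [mul_pow, ← mul_assoc, ← pow_succ', Nat.sub_add_cancel (Nat.one_le_pow _ _ hp.pos)]
      rw [pow_add, pow_mul, hx, hr, this, map_pow]
      ring
    obtain ⟨z', hz'⟩ := e x m n a z hx
    obtain ⟨w', hw'⟩ := e y n m b w hy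
    rw [Nat.add_comm n m] at hw'
    refine ⟨m + n, a ^ p ^ n * b ^ p ^ m, z' * algebraMap A B (b ^ p ^ m) +
      algebraMap A B (a ^ p ^ n) * w' + p * z' * w', ?_⟩
    rw [mul_pow, hz', hw', map_mul]
    ring
  add_mem' := by
    rintro x y ⟨m, a, z, hx⟩ ⟨n, b, w, hy⟩
    have e : ∀ (x : B) (m n : ℕ) (a : A) (z : B), x ^ p ^ m = algebraMap A B a + p * z →
        ∃ z', x ^ p ^ (m + n) = algebraMap A B (a ^ p ^ n) + p * z' := fun x m n a z hx => by
      obtain ⟨r, hr⟩ := exists_add_pow_prime_pow_eq hp (algebraMap A B a) ((p : B) * z) n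
      refine ⟨(p : B) ^ (p ^ n - 1) * z ^ p ^ n + algebraMap A B a * ((p : B) * z) * r, ?_⟩
      have : ((p : B) * z) ^ p ^ n = p * ((p : B) ^ (p ^ n - 1) * z ^ p ^ n) := by
        rw [mul_pow, ← mul_assoc, ← pow_succ', Nat.sub_add_cancel (Nat.one_le_pow _ _ hp.pos)]
      rw [pow_add, pow_mul, hx, hr, this, map_pow]
      ring
    obtain ⟨z', hz'⟩ := e x m n a z hx
    obtain ⟨w', hw'⟩ := e y n m b w hy
    rw [Nat.add_comm n m] at hw'
    obtain ⟨r, hr⟩ := exists_add_pow_prime_pow_eq hp x y (m + n)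
    refine ⟨m + n, a ^ p ^ n + b ^ p ^ m, z' + w' + x * y * r, ?_⟩
    rw [hr, hz', hw', map_add]
    ring

theorem exists_pow_mem (hp : p.Prime) (h : Groth.Agent.WN.IsRadHomeo φ)
    (hmul : ∀ b : B, ∃ n : ℕ, (p ^ n : B) * b ∈ φ.range) (b : B) :
    ∃ n : ℕ, b ^ p ^ n ∈ φ.range := by
  classical
  let R := φ.range
  letI : Algebra R B := R.subtype.toAlgebra
  have hc : (algebraMap R B).comp φ.rangeRestrict = φ := rfl
  have hinj : Function.Injective (algebraMap R B) := Subtype.val_injective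
  have hint : (algebraMap R B).IsIntegral := RingHom.IsIntegral.tower_top φ.rangeRestrict _ (by rw [hc]; exact h.isIntegral)
  have hU : FlatMor.IsUnivHomeo (AlgebraicGeometry.Spec.map (CommRingCat.ofHom (algebraMap R B))) := by
    rw [Groth.Agent.WN.isUnivHomeo_specMap_iff]
    refine ⟨hint, Groth.Agent.WN.surj_of_isIntegral_of_ker_le hint ?_, fun K _ g₁ g₂ hg => ?_⟩
    · rw [(RingHom.injective_iff_ker_eq_bot _).mp hinj]; exact bot_le
    · refine h.radicial K g₁ g₂ ?_
      rw [← hc, ← RingHom.comp_assoc, hg, RingHom.comp_assoc]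
  have hrange : ∀ x : B, x ∈ (algebraMap R B).range ↔ x ∈ φ.range := fun x =>
    ⟨fun ⟨r, hr⟩ => hr ▸ r.2, fun hx => ⟨⟨x, hx⟩, rfl⟩⟩
  have hmul' : ∀ b : B, ∃ n : ℕ, (p ^ n : B) * b ∈ (algebraMap R B).range := fun b =>
    (hmul b).imp fun n hn => (hrange _).mpr hn
  let D := modRoots (A := R) (B := B) hp
  have hroot : ∀ x : B, x ^ p ∈ D → x ∈ D := by
    rintro x ⟨n, c, z, hx⟩
    exact ⟨n + 1, c, z, by rw [pow_succ', pow_mul]; exact hx⟩
  have hpD : ∀ z : B, (p : B) * z ∈ D := fun z => ⟨0, 0, z, by simp⟩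
  obtain ⟨l, hl, hstep⟩ := (Groth.Agent.S7401.result hinj).mp hU {b}
  have key : ∀ (i : ℕ) (hi : i < l.length), l.get ⟨i, hi⟩ ∈ D := by
    intro i
    induction i using Nat.strong_induction_on with
    | _ i ih =>
      intro hi
      have hsub : Algebra.adjoin R {b : B | ∃ j : Fin l.length, j < ⟨i, hi⟩ ∧ b = l.get j} ≤ D :=
        Algebra.adjoin_le fun y ⟨j, hj, hy⟩ => hy ▸ ih j.1 hj j.2
      rcases hstep ⟨i, hi⟩ with ⟨h2, h3⟩ | ⟨q, hq, hq1, hq2⟩
      · refine hroot _ ?_
        rcases hp.eq_two_or_odd' with rfl | ⟨t, rfl⟩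
        · exact hsub h2
        · obtain ⟨s, rfl⟩ : ∃ s, t = s + 1 := ⟨t - 1, by have := hp.two_le; omega⟩
          rw [show 2 * (s + 1) + 1 = 2 * s + 3 by ring, pow_add, pow_mul]
          exact mul_mem (pow_mem (hsub h2) _) (hsub h3)
      · by_cases hqp : q = p
        · exact hroot _ (hqp ▸ hsub hq2)
        · obtain ⟨u, v, huv⟩ := Int.isCoprime_iff_gcd_eq_one.mpr
            ((Int.gcd_natCast_natCast q p).trans ((Nat.coprime_primes hq hp).mpr hqp))
          have : l.get ⟨i, hi⟩ = (u : B) * ((q : B) * l.get ⟨i, hi⟩) + (v : B) * ((p : B) * l.get ⟨i, hi⟩) := by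
            have h1 := congrArg (fun t : ℤ => (t : B) * l.get ⟨i, hi⟩) huv
            push_cast at h1
            rw [one_mul] at h1
            linear_combination -h1
          rw [this]
          exact add_mem (mul_mem (intCast_mem _ u) (hsub hq1)) (mul_mem (intCast_mem _ v) (hpD _))
  obtain ⟨n, c, z, hz⟩ : b ∈ D := Algebra.adjoin_le (S := D) (fun y hy => by
    obtain ⟨i, rfl⟩ := List.get_of_mem hy
    exact key i.1 i.2) (hl (Finset.mem_singleton_self b))
  obtain ⟨j, hj⟩ := pow_mem_of_mem_add_mul (A := R) p (fun b => hint b) hmul' c z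
  refine ⟨n + j, (hrange _).mp ?_⟩
  rw [pow_add, pow_mul, hz]
  exact hj

open AlgebraicGeometry in
/-- For a prime number p and a ring map A → B that becomes an isomorphism after inverting p, Spec B →
Spec A is a universal homeomorphism if and only if the kernel consists of nilpotents and every
element of B has some p-power multiple and p-power power in the image. -/
theorem result {A B : Type u} [CommRing A] [CommRing B] (φ : A →+* B) (p : ℕ) (hp : p.Prime)
    (h : Function.Bijective (Localization.awayMap φ (p : A))) :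
    FlatMor.IsUnivHomeo (Spec.map (CommRingCat.ofHom φ)) ↔
      (∀ a ∈ RingHom.ker φ, IsNilpotent a) ∧ ∀ b : B, ∃ n : ℕ, (p ^ n : B) * b ∈ φ.range ∧ b ^ (p ^ n) ∈ φ.range := by
  have hmul := exists_smul_mem φ p h
  rw [Groth.Agent.WN.isUnivHomeo_specMap_iff]
  constructor
  · intro hu
    refine ⟨fun a ha => mem_nilradical.mp (Groth.Agent.WN.ker_le_nilradical_of_surj hu.surj ha), fun b => ?_⟩
    obtain ⟨m, a, ha⟩ := hmul b
    obtain ⟨n, c, hc⟩ := exists_pow_mem φ hp hu hmul b
    refine ⟨m + n, ⟨(p : A) ^ n * a, ?_⟩, ⟨c ^ p ^ m, ?_⟩⟩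
    · rw [map_mul, map_pow, map_natCast, ha]; ring
    · rw [map_pow, hc, ← pow_mul, ← pow_add, Nat.add_comm n m]
  · rintro ⟨hker, hpow⟩
    have hint : φ.IsIntegral := fun b => by
      obtain ⟨n, -, a, ha⟩ := hpow b
      letI := φ.toAlgebra
      refine IsIntegral.of_pow (pow_pos hp.pos n) ?_
      rw [← ha]
      exact isIntegral_algebraMap
    refine ⟨hint, Groth.Agent.WN.surj_of_isIntegral_of_ker_le hint fun a ha => mem_nilradical.mpr (hker a ha),
      fun K _ g₁ g₂ hg => RingHom.ext fun b => ?_⟩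
    obtain ⟨n, ⟨a, ha⟩, ⟨c, hc⟩⟩ := hpow b
    by_cases hpK : (p : K) = 0
    · haveI : Fact p.Prime := ⟨hp⟩
      haveI : CharP K p := (CharP.charP_iff_prime_eq_zero hp).mpr hpK
      refine iterateFrobenius_inj K p n ?_
      rw [iterateFrobenius_def, iterateFrobenius_def, ← map_pow, ← map_pow, ← hc]
      exact RingHom.congr_fun hg c
    · have h1 := RingHom.congr_fun hg a
      simp only [RingHom.comp_apply, ha, map_mul, map_pow, map_natCast] at h1
      exact mul_left_cancel₀ (pow_ne_zero n hpK) h1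

end Groth.Agent.S0418
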