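import Groth.Statements.S0420
import Groth.Agent.FBaseSep.Connected
import Groth.Agent.S1337

set_option autoImplicit false
universe u
open FlatMor

namespace Groth.Agent.S0420

open AlgebraicGeometry CategoryTheory Limits in
/-- For a morphism of finite type to an irreducible scheme whose generic fibre is geometrically
connected, all fibres over some nonempty open of the target are geometrically connected. -/
theorem result {X Y : Scheme.{u}} (f : X ⟶ Y) [IrreducibleSpace ↑Y] [LocallyOfFiniteType f] [QuasiCompact f]
    (h : GeometricallyConnected (f.fiberToSpecResidueField (genericPoint ↑Y))) :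
    ∃ V : Y.Opens, (V : Set ↑Y).Nonempty ∧ GeometricallyConnected (f ∣_ V) := by
  obtain ⟨W, -, hW, hWo, hWc⟩ := Groth.Agent.S1337.result f (genericPoint ↑Y)
  have hcl : closure ({genericPoint ↑Y} : Set ↑Y) = Set.univ := genericPoint_closure _
  have hopen : IsOpen W := by
    obtain ⟨O, hO, e⟩ := hWo
    have : O = W := Set.ext fun x =>
      Set.ext_iff.mp e ⟨x, by rw [hcl]; trivial⟩
    exact this ▸ hO
  let g : ∀ y, Spec (CommRingCat.of (SeparableClosure (Y.residueField y))) ⟶ Spec (Y.residueField y) := fun y =>
    Spec.map (CommRingCat.ofHom (algebraMap (Y.residueField y) (SeparableClosure (Y.residueField y))))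
  have hone : MoreMor.nGeomConnComp f (genericPoint ↑Y) = 1 := by
    haveI : ConnectedSpace ↥(MoreMor.geomFiber f (genericPoint ↑Y)) :=
      pullback_of_geometrically h.1 (SeparableClosure (Y.residueField (genericPoint ↑Y))) (g _)
    haveI : Subsingleton (_root_.ConnectedComponents ↥(MoreMor.geomFiber f (genericPoint ↑Y))) :=
      inferInstance
    haveI : Nonempty (_root_.ConnectedComponents ↥(MoreMor.geomFiber f (genericPoint ↑Y))) :=
      (inferInstance : Nonempty ↥(MoreMor.geomFiber f (genericPoint ↑Y))).map _root_.ConnectedComponents.mk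
    haveI := uniqueOfSubsingleton (Classical.arbitrary (_root_.ConnectedComponents ↥(MoreMor.geomFiber f (genericPoint ↑Y))))
    exact ENat.card_eq_coe_fintype_card.trans (by rw [Fintype.card_unique]; rfl)
  have hfib : ∀ y ∈ W, GeometricallyConnected (f.fiberToSpecResidueField y) := by
    intro y hy
    have h1 := (hWc y hy).trans hone
    have h2 : ENat.card (_root_.ConnectedComponents ↥(MoreMor.geomFiber f y)) = 1 := h1
    obtain ⟨hs, hn⟩ : Subsingleton (_root_.ConnectedComponents ↥(MoreMor.geomFiber f y)) ∧
        Nonempty (_root_.ConnectedComponents ↥(MoreMor.geomFiber f y)) := by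
      refine ⟨ENat.card_le_one_iff_subsingleton _ |>.mp h2.le, ?_⟩
      by_contra hc
      rw [not_nonempty_iff] at hc
      rw [ENat.card_eq_zero_iff_empty _ |>.mpr hc] at h2
      exact zero_ne_one h2
    haveI : ConnectedSpace ↥(pullback (f.fiberToSpecResidueField y)
        (Groth.Agent.FBase.BC.specMap (Y.residueField y) (SeparableClosure (Y.residueField y)))) := by
      show ConnectedSpace ↥(MoreMor.geomFiber f y)
      exact
        { toPreconnectedSpace := preconnectedSpace_iff_connectedComponent.mpr fun x =>
            Set.eq_univ_of_forall fun z => _root_.ConnectedComponents.coe_eq_coe'.mp (hs.elim _ _)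
          toNonempty := hn.elim fun c => (_root_.ConnectedComponents.surjective_coe c).choose |> Nonempty.intro }
    exact Groth.Agent.FBaseSep.geometricallyConnected_of_sepClosure (k := Y.residueField y) (f.fiberToSpecResidueField y)
  let V : Y.Opens := ⟨W, hopen⟩
  refine ⟨V, ⟨_, hW⟩, ⟨fun K _ y Z fst snd hsq => ?_⟩⟩
  have hsq' : IsPullback (fst ≫ (f ⁻¹ᵁ V).ι) snd f (y ≫ V.ι) :=
    hsq.paste_horiz (isPullback_morphismRestrict f V).flip
  obtain ⟨⟨v, φ⟩, hv⟩ := (Scheme.SpecToEquivOfField _ _).symm.surjective (y ≫ V.ι)
  have hv' : Spec.map φ ≫ Y.fromSpecResidueField v = y ≫ V.ι := by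
    rw [← hv]; simp [Scheme.SpecToEquivOfField]
  have hvW : v ∈ W := by
    let pt : ↥(Spec (CommRingCat.of K)) := default
    have := congrArg (fun k : Spec (CommRingCat.of K) ⟶ Y => k pt) hv'
    simp only [Scheme.Hom.comp_apply, Scheme.fromSpecResidueField_apply] at this
    rw [this]
    exact (y pt).2
  let p : Z ⟶ f.fiber v := pullback.lift (fst ≫ (f ⁻¹ᵁ V).ι) (snd ≫ Spec.map φ)
    (by rw [Category.assoc snd, hv', hsq'.w])
  refine (hfib v hvW).1 (Spec.map φ) p snd ?_
  refine .flip (.of_bot (.flip ?_) ?_ (IsPullback.of_hasPullback f (Y.fromSpecResidueField v)).flip)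
  · convert! hsq' using 1
    exact pullback.lift_fst _ _ _
  · exact (pullback.lift_snd _ _ _).symm

end Groth.Agent.S0420
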