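import Groth.Statements.S0422
import Groth.Agent.FlatOpen.FibreCond

set_option autoImplicit false
universe u
open FlatMor

namespace Groth.Agent.S0422

open TensorProduct in
/-- Fibrewise criterion of flatness modulo a locally nilpotent ideal: let R → S be of finite type, S' an
S-algebra which is of finite presentation over R, I an ideal of R all of whose elements are
nilpotent, and M a finitely presented S'-module which is flat over R and such that M/IM is flat over
S/IS. Then M is flat over S. (The published statement also asserts flatness over R of suitable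
localizations of S; that part is not stated here.) -/
theorem result {R S S' M : Type u} [CommRing R] [CommRing S] [CommRing S'] [Algebra R S] [Algebra S S'] [Algebra R S'] [IsScalarTower R S S']
    [Algebra.FiniteType R S] [Algebra.FinitePresentation R S'] (I : Ideal R) (hI : ∀ a ∈ I, IsNilpotent a)
    [AddCommGroup M] [Module S' M] [Module S M] [Module R M] [IsScalarTower S S' M] [IsScalarTower R S M]
    [Module.FinitePresentation S' M] [Module.Flat R M]
    (h : Module.Flat (S ⧸ I.map (algebraMap R S)) ((S ⧸ I.map (algebraMap R S)) ⊗[S] M)) : Module.Flat S M := by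
  haveI : IsScalarTower R S' M := IsScalarTower.of_algebraMap_smul fun r m => by
    rw [IsScalarTower.algebraMap_apply R S S', algebraMap_smul, algebraMap_smul]
  refine Groth.Agent.FlatOpen.flat_of_forall_flatAt (R := S) (S := S') fun Q _ => ?_
  have hflat : FlatCA.FlatAt R Q M :=
    Groth.Agent.FlatMor.FlatAtBC.flat_localizedModule R Q.primeCompl M
  let J := (Q.comap (algebraMap R S')).map (algebraMap R S)
  have hle : I.map (algebraMap R S) ≤ J := Ideal.map_mono fun a ha => by
    obtain ⟨n, hn⟩ := hI a ha
    exact Ideal.IsPrime.mem_of_pow_mem inferInstance n (by rw [hn]; exact zero_mem _)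
  letI : Algebra (S ⧸ I.map (algebraMap R S)) (S ⧸ J) :=
    RingHom.toAlgebra (R := S ⧸ I.map (algebraMap R S)) (S := S ⧸ J) (Ideal.Quotient.factor hle)
  haveI : IsScalarTower S (S ⧸ I.map (algebraMap R S)) (S ⧸ J) :=
    IsScalarTower.of_algebraMap_eq (R := S) (S := S ⧸ I.map (algebraMap R S)) (A := S ⧸ J) fun _ => rfl
  haveI := h
  exact Groth.Agent.FlatOpen.fibre_flat_criterion_ft R S S' M Q hflat J rfl
    (Groth.Agent.FlatOpen.flat_fibre_localized (D := S ⧸ I.map (algebraMap R S)) Q.primeCompl)

end Groth.Agent.S0422
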