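import Groth.Statements.S0423
import Mathlib.AlgebraicGeometry.Morphisms.FormallyUnramified
import Mathlib.RingTheory.Ideal.Pure

set_option autoImplicit false
universe u
open FlatMor

namespace Groth.Agent.S0423

set_option backward.isDefEq.respectTransparency.types false
open Algebra in
theorem formallyUnramified_of_flat_lmul {R S : Type u} [CommRing R] [CommRing S] [Algebra R S]
    (h : (Algebra.TensorProduct.lmul' R (S := S)).toRingHom.Flat) : Algebra.FormallyUnramified R S := by
  algebraize [(Algebra.TensorProduct.lmul' R (S := S)).toRingHom]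
  set F := (Algebra.TensorProduct.lmul' R (S := S)).toRingHom
  have hF : Function.Surjective (algebraMap (TensorProduct R S S) S) := fun x ↦
    ⟨.tmul _ x 1, by simp [RingHom.algebraMap_toAlgebra, F]⟩
  have he : (TensorProduct R S S ⧸ RingHom.ker (algebraMap (TensorProduct R S S) S)) ≃ₗ[TensorProduct R S S] S :=
    (Ideal.quotientKerAlgEquivOfSurjective (f := Algebra.ofId (TensorProduct R S S) S) hF).toLinearEquiv
  have : (RingHom.ker (algebraMap (TensorProduct R S S) S)).Pure := Module.Flat.of_linearEquiv he
  have hid : IsIdempotentElem (KaehlerDifferential.ideal R S) :=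
    Ideal.isIdempotentElem_of_pure (RingHom.ker (algebraMap (TensorProduct R S S) S))
  exact ⟨(Ideal.cotangent_subsingleton_iff _).mpr hid⟩

open AlgebraicGeometry CategoryTheory Limits in
theorem main {X Y : Scheme.{u}} (f : X ⟶ Y) [WeaklyEtale f] : FormallyUnramified f := by
  wlog hY : ∃ R, Y = Spec R generalizing X Y
  · rw [IsZariskiLocalAtTarget.iff_of_openCover (P := @FormallyUnramified) Y.affineCover]
    intro i
    have hw : WeaklyEtale (pullback.snd f (Y.affineCover.f i)) := inferInstance
    exact this (pullback.snd f (Y.affineCover.f i)) ⟨_, rfl⟩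
  obtain ⟨R, rfl⟩ := hY
  wlog hX : ∃ S, X = Spec S generalizing X
  · rw [IsZariskiLocalAtSource.iff_of_openCover (P := @FormallyUnramified) X.affineCover]
    intro i
    have hw : WeaklyEtale (X.affineCover.f i ≫ f) := inferInstance
    exact this (_ ≫ _) ⟨_, rfl⟩
  obtain ⟨S, rfl⟩ := hX
  obtain ⟨φ, rfl : Spec.map φ = f⟩ := Spec.homEquiv.symm.surjective f
  rw [HasRingHomProperty.Spec_iff (P := @FormallyUnramified)]
  algebraize [φ.hom]
  refine formallyUnramified_of_flat_lmul ?_
  have h : Flat (pullback.diagonal (Spec.map φ)) := inferInstance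
  rw [show φ = CommRingCat.ofHom (algebraMap R S) from rfl, diagonal_SpecMap R S,
    MorphismProperty.cancel_right_of_respectsIso (P := @Flat)] at h
  exact (HasRingHomProperty.Spec_iff (P := @Flat)).mp h

open AlgebraicGeometry CategoryTheory Limits in
/-- A weakly étale morphism of schemes (flat with flat diagonal) is formally unramified. -/
theorem result {X Y : Scheme.{u}} (f : X ⟶ Y) [WeaklyEtale f] : FormallyUnramified f := by
  exact main f

end Groth.Agent.S0423
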