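import Groth.Statements.S0426
import Groth.Agent.WEtale.Olivier
import Mathlib.FieldTheory.IsSepClosed

set_option autoImplicit false
universe u
open FlatMor

namespace Groth.Agent.S0426

/-- A field extension L/K such that L is weakly étale over K (equivalently the multiplication map of L
⊗_K L is flat) is algebraic and separable. -/
theorem result {K L : Type u} [Field K] [Field L] [Algebra K L] [Algebra.WeaklyEtale K L] : Algebra.IsSeparable K L := by
  let F := SeparableClosure K
  have : Algebra.WeaklyEtale F (TensorProduct K F L) := inferInstance
  let : CommRing (TensorProduct K F L) := inferInstance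
  obtain ⟨m, hm⟩ := Ideal.exists_maximal (TensorProduct K F L)
  let e : F ≃ₐ[F] (TensorProduct K F L ⧸ m) :=
    AlgEquiv.ofBijective (Algebra.ofId F _) (Groth.Agent.WEtale.bijective_quotient_maximal F _ m)
  exact Algebra.IsSeparable.of_algHom K F ((e.symm.toAlgHom.restrictScalars K).comp
    (((Ideal.Quotient.mkₐ F m).restrictScalars K).comp Algebra.TensorProduct.includeRight))

end Groth.Agent.S0426
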