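import Groth.Statements.S0429
import Groth.Agent.S0406

set_option autoImplicit false
universe u
open FlatMor

namespace Groth.Agent.S0429

open AlgebraicGeometry CategoryTheory Limits in
/-- A flat morphism locally of finite type to an integral scheme is locally of finite presentation. -/
theorem result {X S : Scheme.{u}} (f : X ⟶ S) [IsIntegral S] [Flat f] [LocallyOfFiniteType f] : LocallyOfFinitePresentation f := by
  refine ⟨fun {U} hU {V} hV e => ?_⟩
  by_cases hne : Nonempty U
  · haveI := hne
    algebraize [(f.appLE U V e).hom]
    haveI : Algebra.FiniteType Γ(S, U) Γ(X, V) := f.finiteType_appLE hU hV e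
    haveI : Module.Flat Γ(S, U) Γ(X, V) := f.flat_appLE hU hV e
    exact Groth.Agent.S0406.result (R := Γ(S, U)) (S := Γ(X, V))
  · haveI : Subsingleton Γ(S, U) := by
      have hU' : U = ⊥ := by
        ext x
        exact ⟨fun hx => (hne ⟨⟨x, hx⟩⟩).elim, fun hx => False.elim hx⟩
      subst hU'
      infer_instance
    haveI : Subsingleton Γ(X, V) := (f.appLE U V e).hom.codomain_trivial
    refine RingHom.FinitePresentation.of_surjective _ (fun x => ⟨0, Subsingleton.elim _ _⟩) ?_
    rw [Subsingleton.elim (RingHom.ker (f.appLE U V e).hom) ⊥]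
    exact Submodule.fg_bot

end Groth.Agent.S0429
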