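import Groth.Statements.S0433
import Groth.Agent.FlatMisc.SpecPushout
import Mathlib.Algebra.Category.Ring.Constructions
import Mathlib.CategoryTheory.Limits.Types.Pullbacks
-- import your own Groth.Agent.* helpers here

set_option autoImplicit false
universe u
open FlatMor

namespace Groth.Agent.S0433

open AlgebraicGeometry CategoryTheory Limits in
/-- For a surjective ring map A' → A and any ring map B → A, the spectra of A, A', B and of the fibre
product ring B ×_A A' form a pushout square of schemes. -/
theorem result {A A' B : Type u} [CommRing A] [CommRing A'] [CommRing B] (p : A' →+* A) (hp : Function.Surjective p) (q : B →+* A) :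
    IsPushout (Spec.map (CommRingCat.ofHom p)) (Spec.map (CommRingCat.ofHom q))
      (Spec.map (pullback.snd (CommRingCat.ofHom q) (CommRingCat.ofHom p)))
      (Spec.map (pullback.fst (CommRingCat.ofHom q) (CommRingCat.ofHom p))) := by
  let P : CommRingCat.{u} := Limits.pullback (CommRingCat.ofHom q) (CommRingCat.ofHom p)
  letI : Algebra P B := (Limits.pullback.fst (CommRingCat.ofHom q) (CommRingCat.ofHom p)).hom.toAlgebra
  letI : Algebra P A' := (Limits.pullback.snd (CommRingCat.ofHom q) (CommRingCat.ofHom p)).hom.toAlgebra
  letI : Algebra B A := q.toAlgebra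
  letI : Algebra A' A := p.toAlgebra
  letI : Algebra P A := (Limits.pullback.fst (CommRingCat.ofHom q) (CommRingCat.ofHom p) ≫ CommRingCat.ofHom q).hom.toAlgebra
  haveI : IsScalarTower P B A := IsScalarTower.of_algebraMap_eq' rfl
  haveI : IsScalarTower P A' A := IsScalarTower.of_algebraMap_eq' (by
    show (Limits.pullback.fst (CommRingCat.ofHom q) (CommRingCat.ofHom p) ≫ CommRingCat.ofHom q).hom = _
    rw [Limits.pullback.condition]
    rfl)
  have hT := (IsPullback.of_hasPullback (CommRingCat.ofHom q) (CommRingCat.ofHom p)).map (CategoryTheory.forget CommRingCat)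
  have hsq : EtMil.IsFibreSquare P B A' A := by
    refine ⟨hp, fun b a' hab => ?_⟩
    obtain ⟨z, hzB, hzA⟩ := Limits.Types.exists_of_isPullback hT b a' hab
    exact ⟨z, ⟨hzB, hzA⟩, fun y hy => Limits.Types.ext_of_isPullback hT (hy.1.trans hzB.symm) (hy.2.trans hzA.symm)⟩
  exact (Groth.Agent.FlatMisc.SpecPushout.isPushout hsq).flip

end Groth.Agent.S0433
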