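import Groth.Statements.S0435
import Groth.Agent.S1301
import Groth.Agent.S9735
import Groth.Agent.FlatMisc.ValuationRed
import Groth.Agent.FBase.BC
import Groth.Agent.EtaPtLib.Basic
import Groth.Agent.LimTop.Closure
import Mathlib.AlgebraicGeometry.Morphisms.Preimmersion
import Mathlib.FieldTheory.IsAlgClosed.AlgebraicClosure
-- import your own Groth.Agent.* helpers here

set_option autoImplicit false
universe u
open FlatMor

namespace Groth.Agent.S0435

open AlgebraicGeometry CategoryTheory CategoryTheory.Limits TopologicalSpace Topology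

theorem generization {X Y : Scheme.{u}} (f : X ⟶ Y) [Flat f] [IsProper f] {z y : Y} (h : z ⤳ y)
    (hy : GeometricallyReduced (f.fiberToSpecResidueField y)) :
    GeometricallyReduced (f.fiberToSpecResidueField z) := by
  obtain ⟨U, hU, hyU, -⟩ := exists_isAffineOpen_mem_and_subset (x := y) (U := ⊤) trivial
  obtain ⟨q, rfl⟩ : y ∈ Set.range hU.fromSpec := by rw [hU.range_fromSpec]; exact hyU
  obtain ⟨p, rfl⟩ : z ∈ Set.range hU.fromSpec := by rw [hU.range_fromSpec]; exact h.mem_open U.2 hyU
  have hpq : p.asIdeal ≤ q.asIdeal :=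
    (PrimeSpectrum.le_iff_specializes p q).mpr (hU.fromSpec.isOpenEmbedding.isInducing.specializes_iff.mp h)
  let K := AlgebraicClosure p.asIdeal.ResidueField
  let g : Γ(Y, U) →+* K := (algebraMap p.asIdeal.ResidueField K).comp (algebraMap Γ(Y, U) p.asIdeal.ResidueField)
  have hg : RingHom.ker g = p.asIdeal := by
    rw [RingHom.ker_comp_of_injective _ (algebraMap p.asIdeal.ResidueField K).injective,
      Ideal.ker_algebraMap_residueField]
  obtain ⟨V, g', hg', hker⟩ := EtaPtLib.exists_valuationSubring g q (le_of_eq_of_le hg hpq)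
  let φ : Spec (CommRingCat.of V) ⟶ Y := Spec.map (CommRingCat.ofHom g') ≫ hU.fromSpec
  let η : Spec (CommRingCat.of K) ⟶ Spec (CommRingCat.of V) :=
    Spec.map (CommRingCat.ofHom (algebraMap V K))
  let c : PrimeSpectrum V := IsLocalRing.closedPoint V
  have hc : φ c = hU.fromSpec q := by
    show hU.fromSpec (PrimeSpectrum.comap g' c) = _
    refine congrArg hU.fromSpec (PrimeSpectrum.ext ?_)
    show (IsLocalRing.maximalIdeal V).comap g' = q.asIdeal
    rw [← hker, ← RingHom.comap_ker, IsLocalRing.ker_residue]
  let o : Spec (CommRingCat.of K) := IsLocalRing.closedPoint K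
  have ho : (η ≫ φ) o = hU.fromSpec p := by
    show hU.fromSpec (PrimeSpectrum.comap g' (PrimeSpectrum.comap (algebraMap V K) (IsLocalRing.closedPoint K))) = _
    refine congrArg hU.fromSpec (PrimeSpectrum.ext ?_)
    show ((IsLocalRing.maximalIdeal K).comap (algebraMap V K)).comap g' = p.asIdeal
    rw [Ideal.comap_comap, IsLocalRing.maximalIdeal_eq_bot, ← RingHom.ker_eq_comap_bot]
    show RingHom.ker (V.subtype.comp g') = p.asIdeal
    rw [hg', hg]
  let fV := pullback.snd f φ
  have hloc := S9735.result f φ fV (pullback.fst f φ) (IsPullback.of_hasPullback f φ)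
  haveI : GeometricallyReduced (fV.fiberToSpecResidueField c) := by
    refine (Set.ext_iff.mp hloc c).mpr ?_
    show GeometricallyReduced (f.fiberToSpecResidueField (φ c))
    rw [hc]; exact hy
  haveI : IsReduced (fV.fiber c) := GeometricallyReduced.geometrically_isReduced
    (f := fV.fiberToSpecResidueField c) (𝟙 _) (𝟙 _) (fV.fiberToSpecResidueField c) (IsPullback.of_id_fst)
  haveI : IsReduced (pullback f φ) := FlatMisc.ValuationRed.isReduced_of_proper (R := V) fV ‹_›
  haveI : Flat η := (HasRingHomProperty.Spec_iff (P := @Flat)).mpr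
    (RingHom.flat_algebraMap_iff.mpr (IsLocalization.flat K (nonZeroDivisors V)))
  haveI : IsPreimmersion η := IsPreimmersion.of_isLocalization (nonZeroDivisors V)
  let fK := pullback.snd fV η
  haveI : IsReduced (pullback fV η) :=
    FlatMisc.ValuationRed.isReduced_of_flat_preimmersion (pullback.fst fV η)
  haveI : GeometricallyReduced fK :=
    FBase.BC.geometricallyReduced_of_isReduced_of_perfectField fK
  have hloc2 := S9735.result f (η ≫ φ) fK (pullback.fst fV η ≫ pullback.fst f φ)
    ((IsPullback.of_hasPullback fV η).paste_horiz (IsPullback.of_hasPullback f φ))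
  have h3 : GeometricallyReduced (fK.fiberToSpecResidueField o) := inferInstance
  have h4 : GeometricallyReduced (f.fiberToSpecResidueField ((η ≫ φ) o)) := (Set.ext_iff.mp hloc2 o).mp h3
  rwa [ho] at h4

open AlgebraicGeometry CategoryTheory Limits in
/-- For a flat proper morphism of finite presentation, the points of the target whose fibre is
geometrically reduced form an open subset. -/
theorem result {X Y : Scheme.{u}} (f : X ⟶ Y) [Flat f] [IsProper f] [LocallyOfFinitePresentation f] :
    IsOpen {y : ↑Y | GeometricallyReduced (f.fiberToSpecResidueField y)} := by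
  rw [← isClosed_compl_iff]
  refine isClosed_of_closure_subset fun y hy => ?_
  obtain ⟨z, hz, hzy⟩ := Groth.Agent.LimTop.exists_specializes_of_mem_closure
    (Groth.Agent.LimTop.isProConstructible_of_isLocallyConstructible
      (Groth.Agent.LimTop.isLocallyConstructible_compl (Groth.Agent.S1301.result f))) hy
  exact fun h => hz (generization f hzy h)

end Groth.Agent.S0435
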