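import Groth.Statements.S0443
import Mathlib.AlgebraicGeometry.Morphisms.Finite
import Mathlib.AlgebraicGeometry.AffineScheme
import Mathlib.AlgebraicGeometry.Morphisms.UniversallyClosed

set_option autoImplicit false
universe u
open FlatMor

namespace Groth.Agent.S0443

open AlgebraicGeometry CategoryTheory Limits in
/-- For a finite morphism π : X → Y and a point x of X that is the only point of its fibre, the induced
homomorphism of local rings O_{Y,π(x)} → O_{X,x} is finite. (The published lemma has further parts,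
not stated here.) -/
theorem result {X Y : Scheme.{u}} (π : X ⟶ Y) [IsFinite π] (x : X) (hx : ∀ x' : ↑X, π x' = π x → x' = x) :
    (π.stalkMap x).hom.Finite := by
  classical
  obtain ⟨_, ⟨U, hU, rfl⟩, hxU, -⟩ := Y.isBasis_affineOpens.exists_subset_of_mem_open
    (Set.mem_univ (π x)) isOpen_univ
  have hV : IsAffineOpen (π ⁻¹ᵁ U) := hU.preimage π
  set A := Γ(Y, U)
  set φ := π.app U
  letI : Algebra Γ(X, π ⁻¹ᵁ U) (X.presheaf.stalk x) := TopCat.Presheaf.algebra_section_stalk X.presheaf (⟨x, hxU⟩ : ↥(π ⁻¹ᵁ U))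
  have hloc : IsLocalization.AtPrime (X.presheaf.stalk x) (hV.primeIdealOf ⟨x, hxU⟩).asIdeal :=
    hV.isLocalization_stalk ⟨x, hxU⟩
  letI := φ.hom.toAlgebra
  have hfin : Module.Finite Γ(Y, U) Γ(X, π ⁻¹ᵁ U) := π.finite_app U hU
  obtain ⟨S, hS⟩ := hfin.fg_top
  have hgerm : ∀ a : Γ(Y, U), algebraMap Γ(X, π ⁻¹ᵁ U) (X.presheaf.stalk x) (φ.hom a) =
      (π.stalkMap x).hom (Y.presheaf.germ U (π x) hxU a) := fun a =>
    (Scheme.Hom.germ_stalkMap_apply π U x hxU a).symm
  letI := (π.stalkMap x).hom.toAlgebra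
  show Module.Finite (Y.presheaf.stalk (π x)) (X.presheaf.stalk x)
  refine ⟨⟨S.image (algebraMap Γ(X, π ⁻¹ᵁ U) (X.presheaf.stalk x)), ?_⟩⟩
  rw [eq_top_iff, Finset.coe_image]
  intro z _
  set N := Submodule.span (Y.presheaf.stalk (π x))
    (algebraMap Γ(X, π ⁻¹ᵁ U) (X.presheaf.stalk x) '' (S : Set Γ(X, π ⁻¹ᵁ U)))
  have hN : ∀ b, algebraMap Γ(X, π ⁻¹ᵁ U) (X.presheaf.stalk x) b ∈ N := by
    intro b
    have hb : b ∈ Submodule.span Γ(Y, U) (S : Set Γ(X, π ⁻¹ᵁ U)) := by rw [hS]; trivial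
    induction hb using Submodule.span_induction with
    | mem w hw => exact Submodule.subset_span ⟨w, hw, rfl⟩
    | zero => rw [map_zero]; exact zero_mem _
    | add v w _ _ hv hw => rw [map_add]; exact add_mem hv hw
    | smul a w _ hw =>
      rw [show a • w = φ.hom a * w from rfl, map_mul, hgerm]
      exact N.smul_mem (Y.presheaf.germ U (π x) hxU a) hw
  obtain ⟨⟨b, ⟨s, hs⟩⟩, hz⟩ := IsLocalization.surj (hV.primeIdealOf ⟨x, hxU⟩).asIdeal.primeCompl z
  have hxs : x ∈ X.basicOpen s := by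
    rw [Scheme.mem_basicOpen X s x hxU]
    exact IsLocalization.map_units (X.presheaf.stalk x)
      (⟨s, hs⟩ : (hV.primeIdealOf ⟨x, hxU⟩).asIdeal.primeCompl)
  have hC : IsClosed (π '' ((X.basicOpen s : Set X)ᶜ)) := π.isClosedMap _ (X.basicOpen s).2.isClosed_compl
  have hy : π x ∉ π '' ((X.basicOpen s : Set X)ᶜ) := by
    rintro ⟨x', hx', he⟩
    exact hx' (hx x' he ▸ hxs)
  obtain ⟨t, ht, hxt⟩ := hU.exists_basicOpen_le (V := ⟨_, hC.isOpen_compl⟩) ⟨π x, hy⟩ hxU
  have hle : X.basicOpen (φ.hom t) ≤ X.basicOpen s := by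
    rw [show X.basicOpen (φ.hom t) = π ⁻¹ᵁ Y.basicOpen t from (Scheme.preimage_basicOpen π t).symm]
    intro w hw
    by_contra hws
    exact ht hw ⟨w, hws, rfl⟩
  letI : Algebra Γ(X, π ⁻¹ᵁ U) Γ(X, X.basicOpen (φ.hom t)) :=
    (X.presheaf.map (homOfLE (X.basicOpen_le (φ.hom t))).op).hom.toAlgebra
  have := hV.isLocalization_basicOpen (φ.hom t)
  have hunit : IsUnit (algebraMap Γ(X, π ⁻¹ᵁ U) Γ(X, X.basicOpen (φ.hom t)) s) := by
    have := (X.toRingedSpace.isUnit_res_basicOpen s).map (X.presheaf.map (homOfLE hle).op).hom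
    convert this using 1
    show (X.presheaf.map (homOfLE (X.basicOpen_le (φ.hom t))).op).hom s =
      (X.presheaf.map (homOfLE (X.basicOpen_le s)).op ≫ X.presheaf.map (homOfLE hle).op).hom s
    rw [← X.presheaf.map_comp]
    rfl
  obtain ⟨n, c, hc⟩ := (IsLocalization.Away.algebraMap_isUnit_iff (φ.hom t)).mp hunit
  have hu : IsUnit (Y.presheaf.germ U (π x) hxU t) := (Scheme.mem_basicOpen Y t (π x) hxU).mp hxt
  obtain ⟨v, hv⟩ := (hu.pow n).exists_left_inv
  have key : z = v • algebraMap Γ(X, π ⁻¹ᵁ U) (X.presheaf.stalk x) (b * c) := by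
    show z = (π.stalkMap x).hom v * _
    rw [map_mul, ← hz, mul_assoc z, ← map_mul, ← hc, map_pow, hgerm, ← map_pow,
      mul_left_comm, ← map_mul, hv, map_one, mul_one]
  rw [key]
  exact N.smul_mem v (hN _)

end Groth.Agent.S0443
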