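import Groth.Statements.S0444
import Groth.Agent.FlatMisc.FlatFibreDimGen
import Groth.Agent.FibSemi.Basic
import Mathlib.RingTheory.Flat.TorsionFree
-- import your own Groth.Agent.* helpers here

set_option autoImplicit false
universe u
open FlatMor

namespace Groth.Agent.S0444

open TensorProduct

theorem fibre_dim_eq {R S : Type u} [CommRing R] [CommRing S] [Algebra R S] (p : Ideal R) [p.IsPrime]
    (L : Type u) [Field L] [Algebra R L] (hker : RingHom.ker (algebraMap R L) = p)
    (hsurj : ∀ x : L, ∃ a b : R, b ∉ p ∧ x * algebraMap R L b = algebraMap R L a) :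
    ringKrullDim (p.Fiber S) = ringKrullDim (L ⊗[R] S) := by
  have hu : p.primeCompl ≤ (IsUnit.submonoid L).comap (algebraMap R L) := fun x hx =>
    isUnit_iff_ne_zero.mpr fun h0 => hx (hker.le (RingHom.mem_ker.mpr h0))
  let θ : p.ResidueField →+* L := Ideal.ResidueField.lift p (algebraMap R L) hker.ge hu
  let φ : p.ResidueField →ₐ[R] L :=
    { toRingHom := θ
      commutes' := fun x => Ideal.ResidueField.lift_algebraMap _ _ _ _ x }
  have hbij : Function.Bijective φ := by
    refine ⟨θ.injective, fun x => ?_⟩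
    obtain ⟨a, b, hb, hab⟩ := hsurj x
    refine ⟨algebraMap R _ a * (algebraMap R _ b)⁻¹, ?_⟩
    show θ _ = x
    rw [map_mul, map_inv₀, show θ (algebraMap R _ a) = algebraMap R L a from φ.commutes a,
      show θ (algebraMap R _ b) = algebraMap R L b from φ.commutes b, ← hab, mul_assoc,
      mul_inv_cancel₀ (fun h0 => hb (hker.le (RingHom.mem_ker.mpr h0))), mul_one]
  exact ringKrullDim_eq_of_ringEquiv
    (Algebra.TensorProduct.congr (AlgEquiv.ofBijective φ hbij) (AlgEquiv.refl : S ≃ₐ[R] S)).toRingEquiv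

theorem fibre_dim_le {R S : Type u} [CommRing R] [CommRing S] [Algebra R S] (p : PrimeSpectrum R) (n : ℕ)
    (h : ∀ l : LTSeries (PrimeSpectrum S), (∀ i, (l i).comap (algebraMap R S) = p) → l.length ≤ n) :
    ringKrullDim (p.asIdeal.Fiber S) ≤ n := by
  refine iSup_le fun l => ?_
  let e := PrimeSpectrum.preimageOrderIsoFiber R S p
  exact_mod_cast h (LTSeries.mk l.length (fun i => (e.symm (l i)).1) fun i j hij =>
    show (e.symm (l i)).1 < (e.symm (l j)).1 from e.symm.strictMono (l.strictMono hij)) fun i => (e.symm (l i)).2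

theorem length_le_fibre_dim {R S : Type u} [CommRing R] [CommRing S] [Algebra R S] (p : PrimeSpectrum R)
    (l : LTSeries (PrimeSpectrum S)) (h : ∀ i, (l i).comap (algebraMap R S) = p) :
    (l.length : WithBot ℕ∞) ≤ ringKrullDim (p.asIdeal.Fiber S) := by
  let e := PrimeSpectrum.preimageOrderIsoFiber R S p
  exact le_iSup (fun l : LTSeries (PrimeSpectrum (p.asIdeal.Fiber S)) => (l.length : WithBot ℕ∞))
    (LTSeries.mk l.length (fun i => e ⟨l i, h i⟩) fun i j hij => e.strictMono
      (show (⟨l i, h i⟩ : PrimeSpectrum.comap (algebraMap R S) ⁻¹' {p}) < ⟨l j, h j⟩ from l.strictMono hij))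

theorem exists_fibre_dim {R S : Type u} [CommRing R] [CommRing S] [Algebra R S] [Algebra.FiniteType R S]
    (p : PrimeSpectrum R) [Nontrivial (p.asIdeal.Fiber S)] :
    ∃ d : ℕ, ringKrullDim (p.asIdeal.Fiber S) = d := by
  obtain ⟨m, g, hg, hfin⟩ := exists_finite_inj_algHom_of_fg p.asIdeal.ResidueField (p.asIdeal.Fiber S)
  refine ⟨m, ?_⟩
  letI := g.toRingHom.toAlgebra
  have : Module.Finite (MvPolynomial (Fin m) p.asIdeal.ResidueField) (p.asIdeal.Fiber S) := hfin
  have : Algebra.IsIntegral (MvPolynomial (Fin m) p.asIdeal.ResidueField) (p.asIdeal.Fiber S) :=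
    Algebra.IsIntegral.of_finite _ _
  have : FaithfulSMul (MvPolynomial (Fin m) p.asIdeal.ResidueField) (p.asIdeal.Fiber S) :=
    (faithfulSMul_iff_algebraMap_injective _ _).mpr hg
  rw [Groth.Agent.VarDim.ringKrullDim_eq_of_isIntegral (R := MvPolynomial (Fin m) p.asIdeal.ResidueField),
    MvPolynomial.ringKrullDim_of_isNoetherianRing, ringKrullDim_eq_zero_of_field, zero_add, Nat.card_fin]

open TensorProduct in
/-- Let R be a valuation ring with residue field κ and fraction field K, and S a domain of finite type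
over R with R → S injective. If the special fibre κ ⊗_R S is nonzero, then its Krull dimension
equals the Krull dimension of the generic fibre K ⊗_R S. (The published statement also asserts that
the special fibre is equidimensional; that is not stated here.) -/
theorem result {R S : Type u} [CommRing R] [IsDomain R] [ValuationRing R] [CommRing S] [IsDomain S] [Algebra R S]
    (hinj : Function.Injective (algebraMap R S)) [Algebra.FiniteType R S]
    [Nontrivial (IsLocalRing.ResidueField R ⊗[R] S)] :
    ringKrullDim (IsLocalRing.ResidueField R ⊗[R] S) = ringKrullDim (FractionRing R ⊗[R] S) := by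
  let m : PrimeSpectrum R := IsLocalRing.closedPoint R
  let o : PrimeSpectrum R := ⟨⊥, Ideal.isPrime_bot⟩
  have hm : ringKrullDim (m.asIdeal.Fiber S) = ringKrullDim (IsLocalRing.ResidueField R ⊗[R] S) :=
    fibre_dim_eq _ _ IsLocalRing.ker_residue fun x => by
      obtain ⟨a, rfl⟩ := IsLocalRing.residue_surjective x
      exact ⟨a, 1, m.2.one_notMem, by rw [map_one, mul_one]; rfl⟩
  have ho : ringKrullDim (o.asIdeal.Fiber S) = ringKrullDim (FractionRing R ⊗[R] S) :=
    fibre_dim_eq _ _ ((RingHom.injective_iff_ker_eq_bot _).mp (IsFractionRing.injective R (FractionRing R))) fun x => by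
      obtain ⟨⟨a, b⟩, hab⟩ := IsLocalization.surj (nonZeroDivisors R) x
      exact ⟨a, b, fun h0 => nonZeroDivisors.ne_zero b.2 ((Submodule.mem_bot R).mp h0), hab⟩
  rw [← hm, ← ho]
  haveI : Nontrivial (m.asIdeal.Fiber S) := by
    by_contra hnt
    have : ringKrullDim (m.asIdeal.Fiber S) = ⊥ := by
      haveI := not_nontrivial_iff_subsingleton.mp hnt
      exact ringKrullDim_eq_bot_of_subsingleton
    have h0 : (0 : WithBot ℕ∞) ≤ ringKrullDim (IsLocalRing.ResidueField R ⊗[R] S) :=
      ringKrullDim_nonneg_of_nontrivial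
    rw [← hm, this] at h0
    exact absurd h0 (by simp)
  haveI : Module.IsTorsionFree R S := by
    haveI : FaithfulSMul R S := (faithfulSMul_iff_algebraMap_injective R S).mpr hinj
    infer_instance
  haveI : Module.Flat R S := (Module.Flat.flat_iff_torsion_eq_bot_of_isBezout (R := R) (M := S)).mpr
    ((Submodule.isTorsionFree_iff_torsion_eq_bot (R := R) (M := S)).mp inferInstance)
  obtain ⟨d, hd⟩ := exists_fibre_dim (S := S) m
  refine le_antisymm (iSup_le fun l => ?_) ?_
  · -- special ≤ generic
    let e := PrimeSpectrum.preimageOrderIsoFiber R S m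
    let l₁ : LTSeries (PrimeSpectrum S) := LTSeries.mk l.length (fun i => (e.symm (l i)).1) fun i j hij =>
      show (e.symm (l i)).1 < (e.symm (l j)).1 from e.symm.strictMono (l.strictMono hij)
    have hl₁ : ∀ i, (l₁ i).comap (algebraMap R S) = m := fun i => (e.symm (l i)).2
    obtain ⟨a, ha⟩ := Groth.Agent.DimSpec.exists_indep_of_chain m.asIdeal l₁ hl₁
    obtain ⟨q', -, hq', ha'⟩ := Groth.Agent.FlatMisc.FlatFibreDimGen.indep_of_flat m.asIdeal o.asIdeal bot_le
      l₁.head.asIdeal (congrArg PrimeSpectrum.asIdeal (hl₁ 0)) a ha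
    obtain ⟨L, hL, hL'⟩ := Groth.Agent.DimSpec.exists_chain_of_indep o.asIdeal q' hq' a ha'
    have h1 := length_le_fibre_dim o L fun i => (hL' i).2
    rw [hL] at h1
    exact h1
  · -- generic ≤ special
    rw [hd]
    refine fibre_dim_le o d fun l hl => ?_
    obtain ⟨M, hM⟩ := Ideal.exists_maximal (m.asIdeal.Fiber S)
    let e := PrimeSpectrum.preimageOrderIsoFiber R S m
    let P := (e.symm ⟨M, hM.isPrime⟩).1
    have hP : P.comap (algebraMap R S) = m := (e.symm ⟨M, hM.isPrime⟩).2
    let b : PrimeSpectrum S := ⟨⊥, Ideal.isPrime_bot⟩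
    have hb : b.comap (algebraMap R S) = o := PrimeSpectrum.ext (by
      show (⊥ : Ideal S).comap (algebraMap R S) = ⊥
      rw [← RingHom.ker_eq_comap_bot]; exact (RingHom.injective_iff_ker_eq_bot _).mp hinj)
    have key : ∀ l' : LTSeries (PrimeSpectrum S), l'.head.asIdeal = ⊥ →
        (∀ i, (l' i).comap (algebraMap R S) = o) → l'.length ≤ d := fun l' hh hl' =>
      Groth.Agent.FibSemi.length_le_of_chain P.asIdeal (d := d) (fun Q hQ hPQ hQc => by
          have hQm : (⟨Q, hQ⟩ : PrimeSpectrum S).comap (algebraMap R S) = m :=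
            PrimeSpectrum.ext (hQc.trans (congrArg PrimeSpectrum.asIdeal hP))
          have h1 : (⟨M, hM.isPrime⟩ : PrimeSpectrum (m.asIdeal.Fiber S)) ≤ e ⟨⟨Q, hQ⟩, hQm⟩ := by
            rw [← e.apply_symm_apply ⟨M, hM.isPrime⟩]
            exact e.monotone (show (e.symm ⟨M, hM.isPrime⟩).1 ≤ ⟨Q, hQ⟩ from hPQ)
          have h2 : e ⟨⟨Q, hQ⟩, hQm⟩ = ⟨M, hM.isPrime⟩ :=
            PrimeSpectrum.ext (hM.eq_of_le (e ⟨⟨Q, hQ⟩, hQm⟩).isPrime.ne_top h1).symm
          have h3 := congrArg (fun z => (e.symm z).1.asIdeal) h2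
          simp only [OrderIso.symm_apply_apply] at h3
          exact h3)
        (fun lc hlc _ => by
          have := length_le_fibre_dim m lc fun i =>
            PrimeSpectrum.ext ((hlc i).trans (congrArg PrimeSpectrum.asIdeal hP))
          rw [hd] at this
          exact_mod_cast this)
        l' hh (fun i => (congrArg PrimeSpectrum.asIdeal (hl' i)).trans (congrArg PrimeSpectrum.asIdeal hb).symm)
    by_cases hh : l.head = b
    · exact key l (congrArg PrimeSpectrum.asIdeal hh) hl
    · have hlt : b < l.head := lt_of_le_of_ne (show (⊥ : Ideal S) ≤ l.head.asIdeal from bot_le) (Ne.symm hh)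
      have hmem : ∀ z ∈ l.cons b hlt, z.comap (algebraMap R S) = o := fun z hz => by
        have hz' : z = b ∨ z ∈ l := by
          rw [← RelSeries.mem_toList, RelSeries.toList_cons] at hz
          simpa [RelSeries.mem_toList] using hz
        rcases hz' with rfl | ⟨i, rfl⟩
        · exact hb
        · exact hl i
      have := key (l.cons b hlt) (by rw [RelSeries.head_cons]) fun i => hmem _ ⟨i, rfl⟩
      simp only [RelSeries.cons_length] at this
      omega

end Groth.Agent.S0444
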