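import Groth.Statements.S0445
import Mathlib.AlgebraicGeometry.Morphisms.FormallyUnramified
import Mathlib.AlgebraicGeometry.ResidueField

set_option autoImplicit false
universe u
open FlatMor

namespace Groth.Agent.S0445

open AlgebraicGeometry CategoryTheory Limits in
/-- Two morphisms over S into an S-scheme unramified over S which agree at a point and induce the same
map on residue fields there agree on an open neighbourhood of that point. -/
theorem result {X Y S : Scheme.{u}} (p : Y ⟶ S) [FormallyUnramified p] [LocallyOfFiniteType p] (f g : X ⟶ Y) (hfg : f ≫ p = g ≫ p)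
    (x : X) (h1 : f x = g x) (h2 : f.residueFieldMap x = (Y.residueFieldCongr h1).hom ≫ g.residueFieldMap x) :
    ∃ U : X.Opens, x ∈ U ∧ U.ι ≫ f = U.ι ≫ g := by
  let P : X ⟶ pullback p p := pullback.lift f g hfg
  let q := pullback.fst P (pullback.diagonal p)
  have hq : q ≫ f = q ≫ g := by
    have h := pullback.condition (f := P) (g := pullback.diagonal p)
    have ha := congrArg (· ≫ pullback.fst p p) h
    have hb := congrArg (· ≫ pullback.snd p p) h
    simp only [P, Category.assoc, pullback.lift_fst, pullback.lift_snd, pullback.diagonal_fst,
      pullback.diagonal_snd, Category.comp_id] at ha hb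
    exact ha.trans hb.symm
  have hx : X.fromSpecResidueField x ≫ f = X.fromSpecResidueField x ≫ g := by
    rw [← Scheme.Hom.SpecMap_residueFieldMap_fromSpecResidueField,
      ← Scheme.Hom.SpecMap_residueFieldMap_fromSpecResidueField, h2, Spec.map_comp, Category.assoc,
      Scheme.residueFieldCongr_fromSpecResidueField h1]
  let l : Spec (X.residueField x) ⟶ pullback P (pullback.diagonal p) :=
    pullback.lift (X.fromSpecResidueField x) (X.fromSpecResidueField x ≫ f) (by
      apply pullback.hom_ext <;> simp only [P, Category.assoc, pullback.lift_fst, pullback.lift_snd,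
        pullback.diagonal_fst, pullback.diagonal_snd, Category.comp_id, hx])
  refine ⟨q.opensRange, ?_, ?_⟩
  · refine ⟨l (IsLocalRing.closedPoint _), ?_⟩
    have e : (l ≫ q) (IsLocalRing.closedPoint _) = X.fromSpecResidueField x (IsLocalRing.closedPoint _) :=
      by rw [show l ≫ q = X.fromSpecResidueField x from pullback.lift_fst _ _ _]
    exact e.trans (Scheme.fromSpecResidueField_apply x _)
  · rw [← cancel_epi q.isoOpensRange.hom]
    simp only [Scheme.Hom.isoOpensRange_hom_ι_assoc, hq]

end Groth.Agent.S0445
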