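import Groth.Statements.S1202
import Groth.Agent.HP.ProjPoint
-- import your own Groth.Agent.* helpers here

set_option autoImplicit false
universe u
open FlatMor

namespace Groth.Agent.S1202

open TensorProduct in
/-- Ring form, X = Spec S and S = Spec R affine: let S be a finitely presented R-algebra, N a finitely
presented S-module and q a prime of S over p such that N_q is flat over R. Then there are an étale
R-algebra R' with a prime p' over p having the same residue field, an étale S-algebra S' with a
prime q' over q having the same residue field, and a compatible R'-algebra structure on S' with q'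
over p', such that S' ⊗_S N is a projective R'-module. -/
theorem result {R S : Type u} [CommRing R] [CommRing S] [Algebra R S] [Algebra.FinitePresentation R S]
    (N : Type u) [AddCommGroup N] [Module S N] [Module R N] [IsScalarTower R S N] [Module.FinitePresentation S N]
    (p : Ideal R) [p.IsPrime] (q : Ideal S) [q.IsPrime] [q.LiesOver p] (hflat : FlatCA.FlatAt R q N) :
    ∃ (R' S' : Type u) (_ : CommRing R') (_ : CommRing S') (_ : Algebra R R') (_ : Algebra S S') (_ : Algebra R' S')
      (_ : Algebra R S') (_ : IsScalarTower R R' S') (_ : IsScalarTower R S S')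
      (p' : Ideal R') (q' : Ideal S') (_ : p'.IsPrime) (_ : q'.IsPrime),
      FlatCA.IsEtaleNhd R R' p p' ∧ FlatCA.IsEtaleNhd S S' q q' ∧ q'.LiesOver p' ∧
      Module.Projective R' (RestrictScalars R' S' (S' ⊗[S] N)) := by
  letI : ∀ (R' : Type u) [CommRing R'] [Algebra R R'], Algebra S (R' ⊗[R] S) := fun _ _ _ =>
    Algebra.TensorProduct.rightAlgebra
  obtain ⟨R', _, _, p', _, hnhd, g, x, hx', hx, hxp, hbij, hproj⟩ := Groth.Agent.HP.exists_projective_point N p q hflat
  haveI := hnhd.1
  haveI := Groth.Agent.RGFlat.Spreading.isScalarTower_tensor (A := R) (B := S) R'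
  haveI : Algebra.IsPushout R S R' (R' ⊗[R] S) := Algebra.IsPushout.symm inferInstance
  haveI : Algebra.Etale S (R' ⊗[R] S) := Algebra.Etale.of_equiv (Algebra.IsPushout.equiv R S R' (R' ⊗[R] S))
  let C := Localization.Away g
  haveI : Algebra.Etale (R' ⊗[R] S) C := Algebra.Etale.of_isLocalizationAway g
  haveI : Algebra.Etale S C := Algebra.Etale.comp S (R' ⊗[R] S) C
  haveI hRS : IsScalarTower R S C := IsScalarTower.of_algebraMap_eq fun a => by
    rw [IsScalarTower.algebraMap_apply R (R' ⊗[R] S) C, IsScalarTower.algebraMap_apply R S (R' ⊗[R] S),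
      ← IsScalarTower.algebraMap_apply S (R' ⊗[R] S) C]
  refine ⟨R', C, inferInstance, inferInstance, inferInstance, inferInstance, inferInstance, inferInstance,
    inferInstance, hRS, p', x, inferInstance, hx', hnhd, ⟨inferInstance, hx, hbij⟩, ⟨hxp.symm⟩, ?_⟩
  let e : RestrictScalars R' C (C ⊗[S] N) ≃ₗ[R'] C ⊗[S] N :=
    (RestrictScalars.addEquiv R' C _).toLinearEquiv fun a m => by
      rw [RestrictScalars.addEquiv_map_smul, algebraMap_smul]
  exact Module.Projective.of_equiv e.symm

end Groth.Agent.S1202
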