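import Groth.Statements.S0446
import Groth.Agent.S1202
import Groth.Agent.FlatOpen.Scheme
import Groth.Agent.Wt.EtNbhd
-- import your own Groth.Agent.* helpers here

set_option autoImplicit false
universe u
open FlatMor TensorProduct

namespace Groth.Agent.S0446

open AlgebraicGeometry CategoryTheory in
theorem residue_surjective {R R' : Type u} [CommRing R] [CommRing R'] [Algebra R R'] (x : Spec (CommRingCat.of R'))
    (q : Ideal R) [q.IsPrime] (hq : x.asIdeal.LiesOver q)
    (hb : Function.Bijective (Ideal.ResidueField.mapₐ q x.asIdeal (Algebra.ofId R R') hq.over)) :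
    Function.Surjective ((Spec.map (CommRingCat.ofHom (algebraMap R R'))).residueFieldMap x) := by
  let φ := CommRingCat.ofHom (algebraMap R R')
  let z : Ideal R := (Spec.map φ x).asIdeal
  have hz : x.asIdeal.LiesOver z := ⟨rfl⟩
  have hzq : z = q := by rw [hq.over]; rfl
  have hbz : Function.Bijective (Ideal.ResidueField.mapₐ z x.asIdeal (Algebra.ofId R R') hz.over) :=
    HP.bijective_residue_of z x.asIdeal hz fun c => by
      obtain ⟨s, t, ht, hst⟩ := HP.exists_frac_of_bijective q x.asIdeal hq hb c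
      exact ⟨s, t, hzq ▸ ht, hst⟩
  have key := Wt.EtNbhd.residueFieldMap_SpecMap φ x
  intro y
  obtain ⟨w, hw⟩ := hbz.2 ((Scheme.Spec.residueFieldIso (CommRingCat.of R') x).hom y)
  refine ⟨(Scheme.Spec.residueFieldIso (CommRingCat.of R) _).inv w, ?_⟩
  have h2 := congr($(key).hom w)
  simp only [CommRingCat.hom_comp, CommRingCat.hom_ofHom, RingHom.coe_comp, Function.comp_apply] at h2
  exact (Scheme.Spec.residueFieldIso (CommRingCat.of R') x).commRingCatIsoToRingEquiv.injective (h2.trans hw)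

open AlgebraicGeometry CategoryTheory Limits in
/-- For a morphism locally of finite presentation which is flat at a point x, there are affine étale
neighbourhoods (X', x') of (X, x) and (S', s') of (S, f x) with trivial residue field extensions and
a compatible morphism X' → S' such that the ring of global sections of X' is a projective module
over that of S'. -/
theorem result {X S : Scheme.{u}} (f : X ⟶ S) [LocallyOfFinitePresentation f] (x : X) (hx : (f.stalkMap x).hom.Flat) :
    ∃ (X' S' : Scheme.{u}) (g : X' ⟶ X) (e : S' ⟶ S) (f' : X' ⟶ S') (x' : X'),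
      IsAffine X' ∧ IsAffine S' ∧ Etale g ∧ Etale e ∧ g ≫ f = f' ≫ e ∧ g x' = x ∧ e (f' x') = f x ∧
      Function.Surjective (g.residueFieldMap x') ∧ Function.Surjective (e.residueFieldMap (f' x')) ∧
      @Module.Projective Γ(S', ⊤) _ Γ(X', ⊤) _ (f'.appTop).hom.toAlgebra.toModule := by
  obtain ⟨_, ⟨V, hV, rfl⟩, hxV, -⟩ := S.isBasis_affineOpens.exists_subset_of_mem_open
    (Set.mem_univ (f x)) isOpen_univ
  obtain ⟨_, ⟨U, hU, rfl⟩, hxU, hUV⟩ := X.isBasis_affineOpens.exists_subset_of_mem_open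
    (show x ∈ f ⁻¹ᵁ V from hxV) (f ⁻¹ᵁ V).isOpen
  letI := (f.appLE V U hUV).hom.toAlgebra
  haveI : Algebra.FinitePresentation Γ(S, V) Γ(X, U) := f.finitePresentation_appLE hV hU hUV
  let q := AssSch.Stalk.primeOf hU x hxU
  let p : Ideal Γ(S, V) := q.comap (algebraMap Γ(S, V) Γ(X, U))
  haveI : q.LiesOver p := ⟨rfl⟩
  have hflat := (FlatOpen.Scheme.stalkMap_flat_iff f hV hU hUV x hxU).mp hx
  obtain ⟨R', S', _, _, _, _, _, _, _, _, p', q', _, _, ⟨heR, hpo, hpb⟩, ⟨heS, hqo, hqb⟩, hq'p', hproj⟩ :=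
    S1202.result (R := Γ(S, V)) (S := Γ(X, U)) Γ(X, U) p q hflat
  let φS : Γ(X, U) ⟶ CommRingCat.of S' := CommRingCat.ofHom (algebraMap Γ(X, U) S')
  let φR : Γ(S, V) ⟶ CommRingCat.of R' := CommRingCat.ofHom (algebraMap Γ(S, V) R')
  let ψ : CommRingCat.of R' ⟶ CommRingCat.of S' := CommRingCat.ofHom (algebraMap R' S')
  let x' : Spec (CommRingCat.of S') := ⟨q', inferInstance⟩
  haveI : Etale (Spec.map φS) :=
    (HasRingHomProperty.Spec_iff (P := @Etale)).mpr (RingHom.etale_algebraMap.mpr heS)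
  haveI : Etale (Spec.map φR) :=
    (HasRingHomProperty.Spec_iff (P := @Etale)).mpr (RingHom.etale_algebraMap.mpr heR)
  haveI := hU.isOpenImmersion_fromSpec
  haveI := hV.isOpenImmersion_fromSpec
  have hsq : φR ≫ ψ = f.appLE V U hUV ≫ φS := by
    ext a
    show algebraMap R' S' (algebraMap Γ(S, V) R' a) = algebraMap Γ(X, U) S' (algebraMap Γ(S, V) Γ(X, U) a)
    rw [← IsScalarTower.algebraMap_apply, ← IsScalarTower.algebraMap_apply]
  have hpt : Spec.map φS x' = hU.primeIdealOf ⟨x, hxU⟩ := PrimeSpectrum.ext hqo.over.symm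
  have hgx : (Spec.map φS ≫ hU.fromSpec) x' = x := by
    rw [Scheme.Hom.comp_apply, hpt]
    exact hU.fromSpec_primeIdealOf _
  have hcomm : (Spec.map φS ≫ hU.fromSpec) ≫ f = Spec.map ψ ≫ (Spec.map φR ≫ hV.fromSpec) := by
    rw [Category.assoc, ← IsAffineOpen.SpecMap_appLE_fromSpec f hV hU hUV, ← Category.assoc, ← Category.assoc,
      ← Spec.map_comp, ← Spec.map_comp, hsq]
  refine ⟨Spec (CommRingCat.of S'), Spec (CommRingCat.of R'), Spec.map φS ≫ hU.fromSpec, Spec.map φR ≫ hV.fromSpec,
    Spec.map ψ, x', inferInstance, inferInstance, inferInstance, inferInstance, hcomm, hgx, ?_, ?_, ?_, ?_⟩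
  · rw [← hgx, ← Scheme.Hom.comp_apply, ← Scheme.Hom.comp_apply, hcomm]
  · rw [Scheme.residueFieldMap_comp]
    intro y
    obtain ⟨w, rfl⟩ := residue_surjective (R := Γ(X, U)) (R' := S') x' q hqo hqb y
    obtain ⟨v, rfl⟩ := (ConcreteCategory.bijective_of_isIso (hU.fromSpec.residueFieldMap (Spec.map φS x'))).2 w
    exact ⟨v, rfl⟩
  · rw [Scheme.residueFieldMap_comp]
    intro y
    have h2 : (Spec.map ψ x').asIdeal = p' := hq'p'.over.symm
    obtain ⟨w, rfl⟩ := residue_surjective (R := Γ(S, V)) (R' := R') (Spec.map ψ x') p (⟨by rw [h2]; exact hpo.over⟩) (by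
      haveI : (Spec.map ψ x').asIdeal.IsPrime := (Spec.map ψ x').isPrime
      refine HP.bijective_residue_of (S := Γ(S, V)) (C := R') p (Spec.map ψ x').asIdeal (⟨by rw [h2]; exact hpo.over⟩) fun c => ?_
      obtain ⟨s, t, ht, hst⟩ := HP.exists_frac_of_bijective p p' hpo hpb c
      exact ⟨s, t, ht, h2.symm ▸ hst⟩) y
    obtain ⟨v, rfl⟩ := (ConcreteCategory.bijective_of_isIso (hV.fromSpec.residueFieldMap _)).2 w
    exact ⟨v, rfl⟩
  · letI := ((Spec.map ψ).appTop).hom.toAlgebra
    haveI : Module.Projective R' (S' ⊗[Γ(X, U)] Γ(X, U)) := by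
      haveI := hproj
      exact Module.Projective.of_equiv ((RestrictScalars.addEquiv R' S' _).toLinearEquiv fun a m => by
        rw [RestrictScalars.addEquiv_map_smul, algebraMap_smul])
    haveI : Module.Projective R' S' :=
      Module.Projective.of_equiv ((TensorProduct.AlgebraTensorModule.rid Γ(X, U) S' S').restrictScalars R')
    let eR : R' ≃+* Γ(Spec (CommRingCat.of R'), ⊤) := (Scheme.ΓSpecIso (CommRingCat.of R')).symm.commRingCatIsoToRingEquiv
    let eS : S' ≃+* Γ(Spec (CommRingCat.of S'), ⊤) := (Scheme.ΓSpecIso (CommRingCat.of S')).symm.commRingCatIsoToRingEquiv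
    haveI : RingHomInvPair eR.toRingHom eR.symm.toRingHom := RingHomInvPair.of_ringEquiv eR
    haveI : RingHomInvPair eR.symm.toRingHom eR.toRingHom := RingHomInvPair.of_ringEquiv eR.symm
    let el : S' ≃ₛₗ[eR.toRingHom] Γ(Spec (CommRingCat.of S'), ⊤) :=
      { eS.toAddEquiv with
        map_smul' := fun a m => by
          show eS (a • m) = algebraMap Γ(Spec (CommRingCat.of R'), ⊤) Γ(Spec (CommRingCat.of S'), ⊤) (eR a) * eS m
          rw [Algebra.smul_def, map_mul]
          congr 1
          exact congr($(Scheme.ΓSpecIso_inv_naturality ψ).hom a) }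
    exact Module.Projective.of_equiv el

end Groth.Agent.S0446
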