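import Groth.Statements.S0449
import Groth.Agent.FlatMisc.FlatEpiFP
import Mathlib.AlgebraicGeometry.Morphisms.FlatMono
import Mathlib.AlgebraicGeometry.Morphisms.SchemeTheoreticallyDominant
import Mathlib.AlgebraicGeometry.Morphisms.Separated
-- import your own Groth.Agent.* helpers here

set_option autoImplicit false
universe u
open FlatMor

namespace Groth.Agent.S0449

open AlgebraicGeometry CategoryTheory CategoryTheory.Limits TopologicalSpace

theorem isIso_diagonal {X S : Scheme.{u}} (f : X ⟶ S) [IsSeparated f] [Flat f] (U : S.Opens)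
    [QuasiCompact U.ι] [IsSchemeTheoreticallyDominant U.ι] [IsIso (f ∣_ U)] :
    IsIso (pullback.diagonal f) := by
  let g : pullback f f ⟶ S := pullback.fst f f ≫ f
  haveI : Flat g := MorphismProperty.comp_mem _ _ _
    (MorphismProperty.pullback_fst f f ‹Flat f›) ‹Flat f›
  let p := pullback.snd U.ι g
  have hU := isPullback_morphismRestrict f U
  have hlift : ∀ a : pullback U.ι g ⟶ X, pullback.fst U.ι g ≫ U.ι = a ≫ f →
      a = (pullback.fst U.ι g ≫ inv (f ∣_ U)) ≫ (f ⁻¹ᵁ U).ι := fun a ha => by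
    have h1 : hU.lift (pullback.fst U.ι g) a ha = pullback.fst U.ι g ≫ inv (f ∣_ U) := by
      rw [← cancel_mono (f ∣_ U), hU.lift_fst, Category.assoc, IsIso.inv_hom_id, Category.comp_id]
    rw [← h1, hU.lift_snd]
  have ha : pullback.fst U.ι g ≫ U.ι = (p ≫ pullback.fst f f) ≫ f := by
    rw [pullback.condition, Category.assoc]
  have hb : pullback.fst U.ι g ≫ U.ι = (p ≫ pullback.snd f f) ≫ f := by
    rw [ha, Category.assoc, Category.assoc, pullback.condition]
  have hab : p ≫ pullback.fst f f = p ≫ pullback.snd f f := (hlift _ ha).trans (hlift _ hb).symm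
  have hp : p = (p ≫ pullback.fst f f) ≫ pullback.diagonal f := by
    apply pullback.hom_ext
    · simp
    · simp [hab]
  refine IsClosedImmersion.isIso_of_ker_eq (pullback.diagonal f) (𝟙 _) (pullback.diagonal f) (Category.comp_id _) ?_
  have h1 : (pullback.diagonal f).ker ≤ p.ker := by
    rw [hp]
    exact Scheme.Hom.le_ker_comp _ _
  rw [p.ker_eq_bot, le_bot_iff] at h1
  rw [h1, Scheme.Hom.ker_eq_bot]

theorem exists_cover {S : Scheme.{u}} (U : S.Opens) [QuasiCompact U.ι] {V : S.Opens} (hV : IsAffineOpen V) :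
    ∃ F : Finset Γ(S, V), (∀ a ∈ F, S.basicOpen a ≤ U) ∧ ∀ x ∈ U ⊓ V, ∃ a ∈ F, x ∈ S.basicOpen a := by
  classical
  have hc : IsCompact ((U ⊓ V : S.Opens) : Set S) := by
    have h2 : IsCompact (U.ι '' (U.ι ⁻¹' (V : Set S))) :=
      (U.ι.isCompact_preimage hV.isCompact).image U.ι.continuous
    rwa [Set.image_preimage_eq_inter_range, Scheme.Opens.range_ι, Set.inter_comm] at h2
  have hex : ∀ x ∈ U ⊓ V, ∃ a : Γ(S, V), S.basicOpen a ≤ U ∧ x ∈ S.basicOpen a := fun x hx => by
    obtain ⟨a, ha, hxa⟩ := hV.exists_basicOpen_le ⟨x, hx.1⟩ hx.2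
    exact ⟨a, ha, hxa⟩
  obtain ⟨F, hF⟩ := hc.elim_finite_subcover
    (fun a : {a : Γ(S, V) // S.basicOpen a ≤ U} => (S.basicOpen a.1 : Set S)) (fun a => (S.basicOpen a.1).2)
    fun x hx => by
      obtain ⟨a, ha, hxa⟩ := hex x hx
      exact Set.mem_iUnion.mpr ⟨⟨a, ha⟩, hxa⟩
  refine ⟨F.image Subtype.val, fun a ha => ?_, fun x hx => ?_⟩
  · obtain ⟨b, -, rfl⟩ := Finset.mem_image.mp ha
    exact b.2
  · obtain ⟨b, hbF, hxb⟩ := Set.mem_iUnion₂.mp (hF hx)
    exact ⟨b.1, Finset.mem_image_of_mem _ hbF, hxb⟩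

theorem finitePresentation_chart {X S : Scheme.{u}} (f : X ⟶ S) [LocallyOfFiniteType f] [Flat f] [Mono f]
    (U : S.Opens) [QuasiCompact U.ι] [IsSchemeTheoreticallyDominant U.ι] [IsIso (f ∣_ U)]
    {V : S.Opens} (hV : IsAffineOpen V) {W : X.Opens} (hW : IsAffineOpen W) (e : W ≤ f ⁻¹ᵁ V) :
    (f.appLE V W e).hom.FinitePresentation := by
  set φ := f.appLE V W e with hφ
  algebraize [φ.hom]
  haveI : Module.Flat Γ(S, V) Γ(X, W) := Flat.flat_appLE f hV hW e
  haveI : Algebra.FiniteType Γ(S, V) Γ(X, W) := f.finiteType_appLE hV hW e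
  haveI hm : Mono (Spec.map φ) :=
    haveI : Mono (Spec.map φ ≫ hV.fromSpec) := by
      rw [IsAffineOpen.SpecMap_appLE_fromSpec f hV hW e]
      infer_instance
    mono_of_mono (Spec.map φ) hV.fromSpec
  haveI : Algebra.IsEpi Γ(S, V) Γ(X, W) := CommRingCat.epi_iff_epi.mp ⟨fun g₁ g₂ hg => by
    apply Spec.map_injective
    rw [← cancel_mono (Spec.map φ), ← Spec.map_comp, ← Spec.map_comp]
    exact congrArg Spec.map hg⟩
  obtain ⟨F, hFU, hF⟩ := exists_cover U hV
  let u : F → Γ(S, V) := Subtype.val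
  have hu : ∀ a : Γ(S, V), (∀ i, algebraMap Γ(S, V) (Localization.Away (u i)) a = 0) → a = 0 := fun a ha => by
    apply U.ι.app_injective V
    rw [map_zero, Scheme.Opens.ι_app]
    refine S.IsSheaf.section_ext fun x hx => ?_
    obtain ⟨⟨w, hwU⟩, hwV, hwx⟩ := hx
    obtain ⟨b, hb, hxb⟩ := hF x ⟨hwx ▸ hwU, hwx ▸ hwV⟩
    have hle : S.basicOpen b ≤ U.ι ''ᵁ U.ι ⁻¹ᵁ V := fun z hz => ⟨⟨z, hFU b hb hz⟩, S.basicOpen_le b hz, rfl⟩
    refine ⟨S.basicOpen b, hle, hxb, ?_⟩
    letI : Algebra Γ(S, V) Γ(S, S.basicOpen b) := (S.presheaf.map (homOfLE (S.basicOpen_le b)).op).hom.toAlgebra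
    haveI : IsLocalization.Away b Γ(S, S.basicOpen b) := hV.isLocalization_of_eq_basicOpen b _ rfl
    have h1 : algebraMap Γ(S, V) Γ(S, S.basicOpen b) a = 0 := by
      rw [← (IsLocalization.algEquiv (Submonoid.powers b) (Localization.Away b) Γ(S, S.basicOpen b)).commutes,
        show algebraMap Γ(S, V) (Localization.Away b) a = 0 from ha ⟨b, hb⟩, map_zero]
    refine Eq.trans ?_ (map_zero _).symm
    refine Eq.trans ?_ h1
    refine (CommRingCat.comp_apply _ _ _).symm.trans ?_
    exact ConcreteCategory.congr_hom (S.presheaf.map_comp _ _).symm a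
  have hfp : ∀ i, Algebra.FinitePresentation Γ(S, V) (Localization.Away (algebraMap Γ(S, V) Γ(X, W) (u i))) := fun i => by
    set r := algebraMap Γ(S, V) Γ(X, W) (u i)
    let W' := X.basicOpen r
    have hW' : IsAffineOpen W' := hW.basicOpen r
    have hle : W' ≤ W := X.basicOpen_le r
    have e' : W' ≤ f ⁻¹ᵁ V := hle.trans e
    have hWU : W' ≤ f ⁻¹ᵁ U := fun z hz => by
      have : z ∈ f ⁻¹ᵁ S.basicOpen (u i) := by
        have h1 : X.basicOpen r = X.basicOpen (f.app V (u i)) ⊓ W := by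
          show X.basicOpen ((f.appLE V W e) (u i)) = _
          rw [Scheme.Hom.appLE, CommRingCat.comp_apply, Scheme.basicOpen_res, inf_comm]
          try rfl
        rw [Scheme.preimage_basicOpen]
        have h2 : z ∈ (X.basicOpen (f.app V (u i)) ⊓ W : X.Opens) := by rw [← h1]; exact hz
        exact h2.1
      exact hFU (u i) i.2 this
    letI : Algebra Γ(X, W) Γ(X, W') := (X.presheaf.map (homOfLE hle).op).hom.toAlgebra
    haveI : IsLocalization.Away r Γ(X, W') := hW.isLocalization_of_eq_basicOpen r _ rfl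
    letI : Algebra Γ(S, V) Γ(X, W') := (f.appLE V W' e').hom.toAlgebra
    haveI : IsScalarTower Γ(S, V) Γ(X, W) Γ(X, W') := IsScalarTower.of_algebraMap_eq' (by
      show (f.appLE V W' e').hom = (f.appLE V W e ≫ X.presheaf.map (homOfLE hle).op).hom
      rw [Scheme.Hom.appLE_map])
    haveI : Algebra.FinitePresentation Γ(S, V) Γ(X, W') := by
      show (f.appLE V W' e').hom.FinitePresentation
      refine (HasRingHomProperty.Spec_iff (P := @LocallyOfFinitePresentation)).mp ?_
      have hr : Set.range hW'.fromSpec ⊆ Set.range (f ⁻¹ᵁ U).ι := by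
        rw [hW'.range_fromSpec, Scheme.Opens.range_ι]; exact hWU
      have heq : Spec.map (f.appLE V W' e') ≫ hV.fromSpec =
          (IsOpenImmersion.lift (f ⁻¹ᵁ U).ι hW'.fromSpec hr ≫ (f ∣_ U)) ≫ U.ι := by
        rw [IsAffineOpen.SpecMap_appLE_fromSpec f hV hW' e', Category.assoc, morphismRestrict_ι,
          ← Category.assoc, IsOpenImmersion.lift_fac]
      haveI : IsOpenImmersion (IsOpenImmersion.lift (f ⁻¹ᵁ U).ι hW'.fromSpec hr) :=
        haveI : IsOpenImmersion (IsOpenImmersion.lift (f ⁻¹ᵁ U).ι hW'.fromSpec hr ≫ (f ⁻¹ᵁ U).ι) := by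
          rw [IsOpenImmersion.lift_fac]; infer_instance
        IsOpenImmersion.of_comp _ (f ⁻¹ᵁ U).ι
      haveI : LocallyOfFinitePresentation (Spec.map (f.appLE V W' e') ≫ hV.fromSpec) := by
        rw [heq]; infer_instance
      exact MorphismProperty.of_postcomp (W := @LocallyOfFinitePresentation) (W' := @IsOpenImmersion)
        (Spec.map (f.appLE V W' e')) hV.fromSpec (inferInstanceAs (IsOpenImmersion hV.fromSpec)) ‹_›
    exact Algebra.FinitePresentation.equiv
      ((IsLocalization.algEquiv (Submonoid.powers r) Γ(X, W') (Localization.Away r)).restrictScalars Γ(S, V))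
  let T : Set Γ(X, W) := {h | Algebra.FinitePresentation Γ(S, V) (Localization.Away h)}
  have hT : Ideal.span T = ⊤ := by
    by_contra hne
    obtain ⟨M, hM, hTM⟩ := Ideal.exists_le_maximal _ hne
    obtain ⟨h, hhM, hh⟩ := FlatMisc.FlatEpiFP.exists_finitePresentation u hu hfp M
    exact hhM (hTM (Ideal.subset_span hh))
  exact Algebra.FinitePresentation.of_span_eq_top_target T hT fun r hr => hr

open AlgebraicGeometry CategoryTheory Limits in
/-- A separated, flat morphism locally of finite type that is an isomorphism over a quasi-compact,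
scheme-theoretically dense open of the target is an open immersion. -/
theorem result {X S : Scheme.{u}} (f : X ⟶ S) [IsSeparated f] [LocallyOfFiniteType f] [Flat f] (U : S.Opens)
    [QuasiCompact U.ι] [IsSchemeTheoreticallyDominant U.ι] [IsIso (f ∣_ U)] : IsOpenImmersion f := by
  haveI : IsIso (CategoryTheory.Limits.pullback.diagonal f) := isIso_diagonal f U
  haveI : Mono f := (CategoryTheory.Limits.pullback.isIso_diagonal_iff f).mp ‹_›
  haveI : LocallyOfFinitePresentation f := ⟨fun {V} hV {W} hW e => finitePresentation_chart f U hV hW e⟩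
  exact IsOpenImmersion.of_flat_of_mono f

end Groth.Agent.S0449
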