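import Groth.Statements.S0450
import Groth.Agent.FlatMisc.FlatFibreFinite
import Mathlib.AlgebraicGeometry.ZariskisMainTheorem

set_option autoImplicit false
universe u
open FlatMor

namespace Groth.Agent.S0450

open AlgebraicGeometry CategoryTheory Limits in
/-- A flat proper morphism locally of finite presentation that is finite over a dense open subset of the
target is finite (the source alternatively allows the open to be retrocompact instead of assuming
finite presentation; only this alternative is stated). -/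
theorem result {X S : Scheme.{u}} (f : X ⟶ S) [Flat f] [IsProper f] [LocallyOfFinitePresentation f] (U : S.Opens)
    (hU : Dense (U : Set ↑S)) [IsFinite (f ∣_ U)] : IsFinite f := by
  suffices h : LocallyQuasiFinite f from IsFinite.of_isProper_of_locallyQuasiFinite f
  refine (HasRingHomProperty.iff_appLE (P := @LocallyQuasiFinite)).mpr fun ⟨V, hV⟩ ⟨W, hW⟩ e => ?_
  show (f.appLE V W e).hom.QuasiFinite
  algebraize [(f.appLE V W e).hom]
  have : Algebra.FinitePresentation Γ(S, V) Γ(X, W) := f.finitePresentation_appLE hV hW e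
  have : Module.Flat Γ(S, V) Γ(X, W) := f.flat_appLE hV hW e
  refine Groth.Agent.FlatMisc.FlatFibreFinite.quasiFinite (hV.fromSpec ⁻¹' U)
    (hU.preimage hV.fromSpec.isOpenEmbedding.isOpenMap) fun r hr => ?_
  have hfin : (f ⁻¹' {hV.fromSpec r}).Finite := by
    have h1 := ((f ∣_ U).finite_preimage_singleton ⟨hV.fromSpec r, hr⟩).image Subtype.val
    refine h1.subset fun x hx => ?_
    have hxU : x ∈ f ⁻¹ᵁ U := by
      show f x ∈ U
      rw [show f x = hV.fromSpec r from hx]
      exact hr
    exact ⟨⟨x, hxU⟩, Subtype.ext ((morphismRestrict_base_coe f U _).trans hx), rfl⟩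
  have hinj : Function.Injective fun Q : r.asIdeal.primesOver Γ(X, W) => hW.fromSpec ⟨Q.1, Q.2.1⟩ :=
    fun Q Q' h => Subtype.ext (congrArg PrimeSpectrum.asIdeal (hW.fromSpec.isOpenEmbedding.injective h))
  have : Finite (r.asIdeal.primesOver Γ(X, W)) := by
    have : Finite (f ⁻¹' {hV.fromSpec r}) := hfin.to_subtype
    refine Finite.of_injective (fun Q => (⟨hW.fromSpec ⟨Q.1, Q.2.1⟩, ?_⟩ : f ⁻¹' {hV.fromSpec r}))
      fun Q Q' h => hinj (congrArg (fun z : f ⁻¹' {hV.fromSpec r} => (z : X)) h)
    rw [Set.mem_preimage, Set.mem_singleton_iff]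
    refine (congr($(IsAffineOpen.SpecMap_appLE_fromSpec f hV hW e) (⟨Q.1, Q.2.1⟩ : PrimeSpectrum Γ(X, W)))).symm.trans ?_
    exact congrArg hV.fromSpec (PrimeSpectrum.ext Q.2.2.over.symm)
  have : Finite (PrimeSpectrum (r.asIdeal.Fiber Γ(X, W))) :=
    Finite.of_equiv _ (PrimeSpectrum.primesOverOrderIsoFiber Γ(S, V) Γ(X, W) r.asIdeal).toEquiv
  have : Algebra.QuasiFinite r.asIdeal.ResidueField (r.asIdeal.Fiber Γ(X, W)) := by
    refine Algebra.QuasiFinite.iff_finite_primesOver.mpr fun I _ => ?_
    refine (Set.toFinite (Set.range (PrimeSpectrum.asIdeal (R := r.asIdeal.Fiber Γ(X, W))))).subset ?_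
    exact fun Q hQ => ⟨⟨Q, hQ.1⟩, rfl⟩
  exact Module.Finite.of_quasiFinite

end Groth.Agent.S0450
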