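import Groth.Statements.S0451
import Groth.Agent.RGFlat.Dense

set_option autoImplicit false
universe u
open FlatMor

namespace Groth.Agent.S0451

open AlgebraicGeometry CategoryTheory Limits

theorem fp_congr {X S : Scheme.{u}} (f : X ⟶ S) {V V' : S.Opens} {W W' : X.Opens} (hV : V = V') (hW : W = W')
    {e : W ≤ f ⁻¹ᵁ V} {e' : W' ≤ f ⁻¹ᵁ V'} (h : (f.appLE V W e).hom.FinitePresentation) :
    (f.appLE V' W' e').hom.FinitePresentation := by
  subst hV; subst hW; exact h

theorem fp_of_le {X S : Scheme.{u}} (f : X ⟶ S) (U : S.Opens) [LocallyOfFinitePresentation (f ∣_ U)]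
    {V : S.Opens} (hV : IsAffineOpen V) (hVU : V ≤ U) {W : X.Opens} (hW : IsAffineOpen W) (e : W ≤ f ⁻¹ᵁ V) :
    (f.appLE V W e).hom.FinitePresentation := by
  let V' := U.ι ⁻¹ᵁ V
  let W' := (f ⁻¹ᵁ U).ι ⁻¹ᵁ W
  have hWU : W ≤ f ⁻¹ᵁ U := e.trans (f.preimage_mono hVU)
  have hV'' : U.ι ''ᵁ V' = V := by
    rw [Scheme.Hom.image_preimage_eq_opensRange_inf, Scheme.Opens.opensRange_ι, inf_eq_right.mpr hVU]
  have hW'' : (f ⁻¹ᵁ U).ι ''ᵁ W' = W := by
    rw [Scheme.Hom.image_preimage_eq_opensRange_inf, Scheme.Opens.opensRange_ι, inf_eq_right.mpr hWU]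
  have hV' : IsAffineOpen V' := U.ι.isAffineOpen_iff_of_isOpenImmersion.mp (hV''.symm ▸ hV)
  have hW' : IsAffineOpen W' := (f ⁻¹ᵁ U).ι.isAffineOpen_iff_of_isOpenImmersion.mp (hW''.symm ▸ hW)
  have e' : W' ≤ (f ∣_ U) ⁻¹ᵁ V' := by
    show (f ⁻¹ᵁ U).ι ⁻¹ᵁ W ≤ (f ∣_ U) ⁻¹ᵁ (U.ι ⁻¹ᵁ V)
    rw [← Scheme.Hom.comp_preimage, morphismRestrict_ι, Scheme.Hom.comp_preimage]
    exact Scheme.Hom.preimage_mono _ e
  have h := (f ∣_ U).finitePresentation_appLE hV' hW' e'
  rw [morphismRestrict_appLE] at h
  exact fp_congr f hV'' hW'' h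

open AlgebraicGeometry CategoryTheory Limits in
/-- A flat morphism locally of finite type which is locally of finite presentation over a quasi-compact
scheme-theoretically dense open of the target is locally of finite presentation. -/
theorem result {X S : Scheme.{u}} (f : X ⟶ S) [LocallyOfFiniteType f] [Flat f] (U : S.Opens)
    [QuasiCompact U.ι] [IsSchemeTheoreticallyDominant U.ι] [LocallyOfFinitePresentation (f ∣_ U)] : LocallyOfFinitePresentation f := by
  classical
  refine ⟨fun {V} hV {W} hW e => ?_⟩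
  have hfl := f.flat_appLE hV hW e
  have hft := f.finiteType_appLE hV hW e
  algebraize [(f.appLE V W e).hom]
  let A := Γ(S, V)
  let B := Γ(X, W)
  -- basic opens of `V` covering `U ∩ V`
  have hK : IsCompact (U.ι '' (U.ι ⁻¹ᵁ V : Set U)) := (U.ι.isCompact_preimage hV.isCompact).image U.ι.continuous
  have hcov : U.ι '' (U.ι ⁻¹ᵁ V : Set U) ⊆ ⋃ a : {a : A // S.basicOpen a ≤ U}, (S.basicOpen a.1 : Set S) := by
    rintro _ ⟨x, hx, rfl⟩
    obtain ⟨a, ha, hxa⟩ := hV.exists_basicOpen_le (V := U ⊓ V) ⟨U.ι x, ⟨x.2, hx⟩⟩ hx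
    exact Set.mem_iUnion.mpr ⟨⟨a, ha.trans inf_le_left⟩, hxa⟩
  obtain ⟨t, ht⟩ := hK.elim_finite_subcover (fun a : {a : A // S.basicOpen a ≤ U} => (S.basicOpen a.1 : Set S)) (fun a => (S.basicOpen a.1).isOpen) hcov
  let a : Fin t.card → A := fun i => (t.equivFin.symm i).1.1
  have hdense : Function.Injective (RingHom.pi (fun i => algebraMap A (Localization.Away (a i)))) := by
    rw [injective_iff_map_eq_zero]
    intro x hx
    refine U.ι.app_injective V ?_
    rw [map_zero]
    refine (U.toScheme).IsSheaf.section_ext fun y hy => ?_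
    obtain ⟨b, hb⟩ := Set.mem_iUnion.mp (ht ⟨y, hy, rfl⟩)
    obtain ⟨hbt, hyb⟩ := Set.mem_iUnion.mp hb
    let i := t.equivFin ⟨b, hbt⟩
    have hi : a i = b.1 := by simp [a, i]
    refine ⟨U.ι ⁻¹ᵁ S.basicOpen b.1, Scheme.Hom.preimage_mono _ (S.basicOpen_le b.1), hyb, ?_⟩
    have h0 : algebraMap A (Localization.Away b.1) x = 0 := hi ▸ congrFun hx i
    rw [IsLocalization.map_eq_zero_iff (Submonoid.powers b.1)] at h0
    letI := hV.isLocalization_basicOpen b.1
    have h1 : algebraMap A Γ(S, S.basicOpen b.1) x = 0 :=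
      (IsLocalization.map_eq_zero_iff (Submonoid.powers b.1) _ _).mpr h0
    rw [map_zero]
    exact (ConcreteCategory.congr_hom (U.ι.naturality (homOfLE (S.basicOpen_le b.1)).op).symm x).trans
      ((congrArg _ h1).trans (map_zero (U.ι.app (S.basicOpen b.1)).hom))
  haveI : Algebra.FiniteType A B := hft
  haveI : Module.Flat A B := hfl
  obtain ⟨n, π, hπ⟩ := Algebra.FiniteType.iff_quotient_mvPolynomial''.mp (inferInstance : Algebra.FiniteType A B)
  let P := MvPolynomial (Fin n) A
  letI : Algebra P B := π.toRingHom.toAlgebra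
  haveI : IsScalarTower A P B := IsScalarTower.of_algebraMap_eq fun c => (π.commutes c).symm
  haveI : Module.Finite P B := Module.Finite.of_surjective (Algebra.linearMap P B) hπ
  have hfp : ∀ i, Module.FinitePresentation (Localization.Away (algebraMap A P (a i)))
      (LocalizedModule (Submonoid.powers (algebraMap A P (a i))) B) := by
    intro i
    let q := algebraMap A P (a i)
    let Pq := Localization.Away q
    let W' := X.basicOpen (algebraMap A B (a i))
    let Bb := Γ(X, W')
    letI : Algebra A Bb := ((algebraMap B Bb).comp (algebraMap A B)).toAlgebra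
    haveI : IsScalarTower A B Bb := IsScalarTower.of_algebraMap_eq' rfl
    haveI : IsLocalization.Away (algebraMap A B (a i)) Bb := hW.isLocalization_basicOpen _
    have hfpAB : Algebra.FinitePresentation A Bb := by
      have hle : W' ≤ f ⁻¹ᵁ S.basicOpen (a i) := (Scheme.basicOpen_appLE f _ _ e (a i)).le.trans inf_le_right
      have h2 := fp_of_le f U (hV.basicOpen (a i)) ((t.equivFin.symm i).1.2) (hW.basicOpen _) hle
      haveI := hV.isLocalization_basicOpen (a i)
      haveI : Algebra.FinitePresentation A Γ(S, S.basicOpen (a i)) := IsLocalization.Away.finitePresentation (a i)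
      have h3 : RingHom.FinitePresentation ((f.appLE (S.basicOpen (a i)) W' hle).hom.comp (algebraMap A Γ(S, S.basicOpen (a i)))) :=
        h2.comp (RingHom.finitePresentation_algebraMap.mpr inferInstance)
      refine RingHom.finitePresentation_algebraMap.mp ?_
      convert h3 using 1
      ext c
      show algebraMap B Bb (algebraMap A B c) = _
      simp [RingHom.algebraMap_toAlgebra, ← ConcreteCategory.comp_apply]
      rfl
    letI : Algebra P Bb := ((algebraMap B Bb).comp (algebraMap P B)).toAlgebra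
    haveI : IsScalarTower P B Bb := IsScalarTower.of_algebraMap_eq' rfl
    haveI : IsScalarTower A P Bb := IsScalarTower.of_algebraMap_eq fun c => by
      rw [IsScalarTower.algebraMap_apply A B Bb, IsScalarTower.algebraMap_apply P B Bb, ← IsScalarTower.algebraMap_apply A P B]
    have hqu : IsUnit (algebraMap P Bb q) := by
      rw [← IsScalarTower.algebraMap_apply A P Bb, IsScalarTower.algebraMap_apply A B Bb]
      exact IsLocalization.Away.algebraMap_isUnit _
    let ψ : Pq →ₐ[P] Bb := IsLocalization.liftAlgHom (M := Submonoid.powers q) (f := Algebra.ofId P Bb) (by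
      rintro ⟨_, k, rfl⟩
      rw [Algebra.ofId_apply, map_pow]
      exact hqu.pow k)
    have hsub : Submonoid.powers (algebraMap A B (a i)) = Algebra.algebraMapSubmonoid B (Submonoid.powers q) := by
      rw [Algebra.algebraMapSubmonoid_powers, ← IsScalarTower.algebraMap_apply A P B]
    haveI : IsLocalizedModule (Submonoid.powers q) (IsScalarTower.toAlgHom P B Bb).toLinearMap :=
      isLocalizedModule_iff_isLocalization.mpr (hsub ▸ (inferInstance : IsLocalization.Away (algebraMap A B (a i)) Bb))
    letI : Algebra Pq Bb := ψ.toRingHom.toAlgebra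
    haveI : IsScalarTower P Pq Bb := IsScalarTower.of_algebraMap_eq fun c => (ψ.commutes c).symm
    let e1 := (IsLocalizedModule.iso (Submonoid.powers q) (IsScalarTower.toAlgHom P B Bb).toLinearMap).extendScalarsOfIsLocalization
      (Submonoid.powers q) Pq
    haveI : Module.FinitePresentation Pq Bb := by
      have hψ : Function.Surjective (Algebra.linearMap Pq Bb) := by
        intro x
        obtain ⟨b, ⟨_, k, rfl⟩, rfl⟩ := IsLocalization.exists_mk'_eq (Submonoid.powers (algebraMap A B (a i))) x
        obtain ⟨p, rfl⟩ := hπ b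
        refine ⟨IsLocalization.mk' Pq p (⟨q ^ k, k, rfl⟩ : Submonoid.powers q), ?_⟩
        refine (IsLocalization.eq_mk'_iff_mul_eq).mpr ?_
        show ψ (IsLocalization.mk' Pq p (⟨q ^ k, k, rfl⟩ : Submonoid.powers q)) * algebraMap B Bb (algebraMap A B (a i) ^ k) = algebraMap P Bb p
        have hk : algebraMap B Bb (algebraMap A B (a i) ^ k) = algebraMap P Bb (q ^ k) :=
          ((map_pow (algebraMap B Bb) _ k).trans (congrArg (· ^ k)
            ((IsScalarTower.algebraMap_apply A B Bb (a i)).symm.trans (IsScalarTower.algebraMap_apply A P Bb (a i))))).trans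
            (map_pow (algebraMap P Bb) q k).symm
        rw [hk, ← ψ.commutes, ← ψ.commutes, ← map_mul, IsLocalization.mk'_spec_mk]
      haveI : Algebra.FinitePresentation A Pq := Algebra.FinitePresentation.trans A P Pq
      haveI : IsScalarTower A Pq Bb := IsScalarTower.of_algebraMap_eq fun c => by
        rw [IsScalarTower.algebraMap_apply A P Pq, ← IsScalarTower.algebraMap_apply P Pq Bb, ← IsScalarTower.algebraMap_apply]
      exact Module.finitePresentation_of_surjective (Algebra.linearMap Pq Bb) hψ
        (Algebra.FinitePresentation.ker_fG_of_surjective (IsScalarTower.toAlgHom A Pq Bb) hψ)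
    exact Module.FinitePresentation.of_equiv e1.symm
  haveI : Module.FinitePresentation P B := RGFlat.fp_of_dense B a hdense hfp
  show Algebra.FinitePresentation A B
  exact Algebra.FinitePresentation.of_surjective hπ
    (Module.FinitePresentation.fg_ker (Algebra.linearMap P B) hπ)

end Groth.Agent.S0451
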