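import Groth.Statements.S0471
import Groth.Agent.CohTop.Proper.Profinite

set_option autoImplicit false
universe u
open CategoryTheory
open CohTop

namespace Groth.Agent.S0471

/-- If X is profinite (compact, Hausdorff, totally disconnected), then H^(p+1)(X, F) = 0 for every
abelian sheaf F. -/
theorem result {X : TopCat.{u}} [CompactSpace X] [T2Space X] [TotallyDisconnectedSpace X]
    (F : CohTop.Ab X) (p : ℕ) : Subsingleton (CohTop.H F (p + 1)) := by
  let R : Groth.Agent.ModShf.AcyclicRes.Res F :=
    ⟨(CochainComplex.single₀ (CohTop.Ab X)).obj F, 𝟙 _, inferInstance⟩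
  obtain ⟨e⟩ := Groth.Agent.CohTop.Proper.Profinite.nonempty_homology_iso_H_soft R
    (fun n => Groth.Agent.CohTop.Proper.Profinite.isSoft _) (p + 1)
  refine AddCommGrpCat.subsingleton_of_isZero (Limits.IsZero.of_iso ?_ e.symm)
  rw [← HomologicalComplex.exactAt_iff_isZero_homology, HomologicalComplex.exactAt_iff]
  exact ShortComplex.exact_of_isZero_X₂ _ (Functor.map_isZero (Groth.Agent.CohTop.Descent.Compute.Γt X)
    (HomologicalComplex.isZero_single_obj_X (ComplexShape.up ℕ) 0 F (p + 1) (by omega)))

end Groth.Agent.S0471
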