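import Groth.Statements.S0479
import Groth.Agent.DHA.KInj.WellGenerated
import Groth.Agent.DHA.Brown.Representable
-- import your own Groth.Agent.* helpers here

set_option autoImplicit false
universe v u
open CategoryTheory
open CohDer

namespace Groth.Agent.S0479

open CategoryTheory.Limits CategoryTheory.Pretriangulated.Opposite in
/-- For A Grothendieck abelian, every cohomological functor from D(A)^op to abelian groups that turns
coproducts into products is of the form Hom(-, X) for some object X of D(A). -/
theorem result {A : Type u} [Category.{v} A] [Abelian A]
    [IsGrothendieckAbelian.{v} A] [HasDerivedCategory.{v} A]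
    (H : (DerivedCategory A)ᵒᵖ ⥤ AddCommGrpCat.{v}) [H.IsHomological]
    [∀ (ι : Type v), PreservesLimitsOfShape (Discrete ι) H] :
    (H ⋙ forget AddCommGrpCat.{v}).IsRepresentable := by
  have := Groth.Agent.DHA.KInj.hasCoproducts_derived (A := A)
  have := Groth.Agent.DHA.KInj.hasCoproducts_derived_nat (A := A)
  exact Groth.Agent.DHA.Brown.isRepresentable H
    (Groth.Agent.DHA.KInj.isPerfect_gen (CategoryTheory.isSeparator_separator A))

end Groth.Agent.S0479
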