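import Groth.Statements.S0480
import Mathlib.Algebra.Homology.HomotopyCategory.Pretriangulated
-- import your own Groth.Agent.* helpers here

set_option autoImplicit false
universe v u
open CategoryTheory
open CohDer

namespace Groth.Agent.S0480

open CategoryTheory.Limits in
/-- In an abelian category, if the product of a family of K-injective cochain complexes exists (it is
then the termwise product), it is again K-injective. -/
theorem result {A : Type u} [Category.{v} A] [Abelian A] {T : Type v} (I : T → CochainComplex A ℤ)
    [HasProduct I] (h : ∀ t, (I t).IsKInjective) : (∏ᶜ I).IsKInjective := by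
  refine ⟨fun {K} f hK => ?_⟩
  have key : ∀ t, ∃ g : CochainComplex.mappingCone (𝟙 K) ⟶ I t,
      CochainComplex.mappingCone.inr (𝟙 K) ≫ g = f ≫ Pi.π I t := by
    intro t
    obtain ⟨H⟩ := (h t).nonempty_homotopy_zero (f ≫ Pi.π I t) hK
    obtain ⟨α, hα⟩ := CochainComplex.HomComplex.Cochain.equivHomotopy _ _ H
    refine ⟨CochainComplex.mappingCone.desc _ α (f ≫ Pi.π I t) ?_, CochainComplex.mappingCone.inr_desc _ _ _ _⟩
    simpa using hα.symm
  choose g hg using key
  have hf : f = CochainComplex.mappingCone.inr (𝟙 K) ≫ Pi.lift g := by
    ext t : 1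
    simp [hg]
  rw [hf]
  exact ⟨((Homotopy.ofEq (by simp)).trans
    ((((CochainComplex.mappingCone.homotopyToZeroOfId K).compLeft
      (CochainComplex.mappingCone.inr (𝟙 K))).compRight (Pi.lift g)))).trans
        (Homotopy.ofEq (by simp))⟩

end Groth.Agent.S0480
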