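import Groth.Statements.S0483
import Groth.Agent.SiteCoh.Free
import Groth.Agent.SiteCoh.DimShift

set_option autoImplicit false
universe u
open CategoryTheory
open CohSite

namespace Groth.Agent.S0483

/-- For an abelian sheaf F on a small site, an object U and a class ξ in H^(n+1)(U, F), there is a
covering sieve of U such that ξ pulls back to zero along every arrow of the sieve. -/
theorem result {C : Type u} [SmallCategory C] (J : GrothendieckTopology C)
    (F : Sheaf J AddCommGrpCat.{u}) (U : C) (n : ℕ) (ξ : CohSite.HU F (n + 1) U) :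
    ∃ (S : J.Cover U), ∀ (a : S.Arrow), CohSite.res F (n + 1) a.f ξ = 0 := by
  induction n generalizing F with
  | zero =>
    have hS := SiteCoh.DimShift.inj_shortExact F
    have := hS.epi_g
    obtain ⟨y, hy⟩ := SiteCoh.DimShift.exists_delta hS 0 (M := CohCx.freeSheaf J U) ξ
    obtain ⟨g, rfl⟩ := (Abelian.Ext.mk₀_bijective _ _).2 y
    have h1 : Sheaf.IsLocallySurjective (SiteCoh.DimShift.inj F).g :=
      (Sheaf.isLocallySurjective_iff_epi' _ _).2 inferInstance
    refine ⟨⟨_, Presheaf.imageSieve_mem J (SiteCoh.DimShift.inj F).g.hom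
      (SiteCoh.Free.sectionEquiv J U _ g)⟩, fun a => ?_⟩
    obtain ⟨x, hx⟩ := a.hf
    obtain ⟨b, rfl⟩ := (SiteCoh.Free.sectionEquiv J a.Y _).surjective x
    have hb : b ≫ (SiteCoh.DimShift.inj F).g = CohCx.freeSheafMap J a.f ≫ g := by
      apply (SiteCoh.Free.sectionEquiv J a.Y _).injective
      rw [SiteCoh.Free.sectionEquiv_comp, SiteCoh.Free.sectionEquiv_map]
      exact hx
    rw [SiteCoh.Free.res_apply, ← hy, ← Abelian.Ext.comp_assoc (a₁₂ := 0) _ _ _ (by lia) (by lia) (by lia),
      Abelian.Ext.mk₀_comp_mk₀, ← hb]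
    exact SiteCoh.DimShift.delta_comp_eq_zero hS b _
  | succ n ih =>
    have hS := SiteCoh.DimShift.inj_shortExact F
    obtain ⟨y, hy⟩ := SiteCoh.DimShift.exists_delta hS (n + 1) (M := CohCx.freeSheaf J U) ξ
    obtain ⟨T, hT⟩ := ih _ y
    refine ⟨T, fun a => ?_⟩
    have h := hT a
    rw [SiteCoh.Free.res_apply] at h ⊢
    rw [← hy, ← Abelian.Ext.comp_assoc (a₁₂ := n + 1) _ _ _ (by lia) (by lia) (by lia)]
    erw [h]
    exact Abelian.Ext.zero_comp ..

end Groth.Agent.S0483
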