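import Groth.Statements.S0485
import Groth.Agent.ModShf.GrothAb

set_option autoImplicit false
universe u
open CategoryTheory
open CohSite

namespace Groth.Agent.S0485

/-- For a sheaf of rings O on a small site, every O-module embeds into an injective O-module. -/
theorem result {C : Type u} [SmallCategory C] (J : GrothendieckTopology C)
    (R : Sheaf J RingCat.{u}) : EnoughInjectives (SheafOfModules.{u} R) := by
  exact inferInstance

end Groth.Agent.S0485
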