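import Groth.Statements.S0488
import Mathlib
import Groth.Agent.CohTop.Restrict
import Groth.Agent.KFlat.CxAdj

set_option autoImplicit false
universe u
open CohTop

namespace Groth.Agent.S0488

open CategoryTheory CategoryTheory.Limits

theorem isKInjective_of_adjunction {A B : Type*} [Category A] [Category B] [Abelian A] [Abelian B]
    {L : A ⥤ B} {R : B ⥤ A} [L.Additive] [R.Additive] [L.PreservesHomology] (adj : L ⊣ R)
    (I : CochainComplex B ℤ) [I.IsKInjective] :
    CochainComplex.IsKInjective ((R.mapHomologicalComplex (ComplexShape.up ℤ)).obj I) where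
  nonempty_homotopy_zero {K} f hK := by
    let a := Groth.Agent.KFlat.CxAdj.mapCx adj (ComplexShape.up ℤ)
    have hLK : HomologicalComplex.Acyclic ((L.mapHomologicalComplex (ComplexShape.up ℤ)).obj K) :=
      fun n => (hK n).map L
    let H := CochainComplex.IsKInjective.homotopyZero ((a.homEquiv K I).symm f) hLK
    have h := (R.mapHomotopy H).compLeft (a.unit.app K)
    refine ⟨((Homotopy.ofEq ?_).trans h).trans (Homotopy.ofEq (by simp))⟩
    exact ((a.homEquiv_unit K I ((a.homEquiv K I).symm f)).symm.trans (Equiv.apply_symm_apply _ _)).symm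

open TopologicalSpace in
/-- For an open U of X, restriction to U sends K-injective complexes of abelian sheaves on X to
K-injective complexes on U. -/
theorem result {X : TopCat.{u}} (U : Opens X) (I : CochainComplex (CohTop.Ab X) ℤ)
    (h : I.IsKInjective) :
    CochainComplex.IsKInjective (((CohTop.restrFunctor U).mapHomologicalComplex (ComplexShape.up ℤ)).obj I) := by
  haveI := h
  haveI : (Groth.Agent.CohTop.Restrict.extZero U).PreservesMonomorphisms := inferInstance
  haveI : (Groth.Agent.CohTop.Restrict.extZero U).Additive :=
    (Groth.Agent.CohTop.Restrict.extZeroAdj U).left_adjoint_additive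
  haveI : (Groth.Agent.CohTop.Restrict.extZero U).IsLeftAdjoint :=
    (Groth.Agent.CohTop.Restrict.extZeroAdj U).isLeftAdjoint
  haveI : (Groth.Agent.CohTop.Restrict.extZero U).PreservesHomology :=
    Functor.preservesHomology_of_preservesMonos_and_cokernels _
  exact isKInjective_of_adjunction (Groth.Agent.CohTop.Restrict.extZeroAdj U) I

end Groth.Agent.S0488
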