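import Groth.Statements.S0490
import Mathlib.CategoryTheory.Triangulated.Orthogonal
import Mathlib.CategoryTheory.Adjunction.PartialAdjoint
-- import your own Groth.Agent.* helpers here

set_option autoImplicit false
universe v u
open CategoryTheory
open CohDer

namespace Groth.Agent.S0490

open CategoryTheory.Pretriangulated in
/-- Let A be a full triangulated subcategory of a pretriangulated category D (an object property
containing zero, stable under shifts and closed under extensions). The inclusion A → D is a left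
adjoint (i.e. has a right adjoint) if and only if every object X of D fits in a distinguished
triangle A → X → B → A[1] with A in the subcategory and B right orthogonal to it. (The source's
further conclusions about saturation are not asserted.) -/
theorem result {D : Type u} [Category.{v} D] [Preadditive D] [Limits.HasZeroObject D] [HasShift D ℤ]
    [∀ n : ℤ, (shiftFunctor D n).Additive] [Pretriangulated D]
    (P : ObjectProperty D) [P.IsTriangulated] :
    P.ι.IsLeftAdjoint ↔ ∀ X : D, ∃ (A B : D) (f : A ⟶ X) (g : X ⟶ B) (h : B ⟶ (shiftFunctor D (1 : ℤ)).obj A),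
      Triangle.mk f g h ∈ distinguishedTriangles ∧ P A ∧ P.rightOrthogonal B := by
  constructor
  · intro _ X
    let adj := Adjunction.ofIsLeftAdjoint P.ι
    let A := P.ι.rightAdjoint.obj X
    obtain ⟨B, g, h, hT⟩ := distinguished_cocone_triangle (adj.counit.app X)
    refine ⟨A.obj, B, adj.counit.app X, g, h, hT, A.property, fun A' b hA' => ?_⟩
    have hu : ∀ {Z : D} (hZ : P Z) (c c' : Z ⟶ A.obj),
        c ≫ adj.counit.app X = c' ≫ adj.counit.app X → c = c' := by
      intro Z hZ c c' hcc
      have h2 : ObjectProperty.homMk (X := ⟨Z, hZ⟩) (Y := A) c = ObjectProperty.homMk c' := by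
        apply (adj.homEquiv ⟨Z, hZ⟩ X).symm.injective
        rw [Adjunction.homEquiv_counit, Adjunction.homEquiv_counit]
        exact hcc
      exact congrArg (fun k => k.hom) h2
    have hu' : ∀ (c : A' ⟶ A.obj⟦(1 : ℤ)⟧), c ≫ (adj.counit.app X)⟦(1 : ℤ)⟧' = 0 → c = 0 := by
      intro c hc
      let e : (A'⟦(-1 : ℤ)⟧)⟦(1 : ℤ)⟧ ≅ A' := (shiftFunctorCompIsoId D (-1 : ℤ) 1 (by omega)).app A'
      obtain ⟨c', hc'⟩ := (shiftFunctor D (1 : ℤ)).map_surjective (e.hom ≫ c)
      have h1 : c' ≫ adj.counit.app X = 0 := by
        apply (shiftFunctor D (1 : ℤ)).map_injective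
        rw [Functor.map_zero]
        refine ((shiftFunctor D (1 : ℤ)).map_comp _ _).trans ?_
        exact (congrArg (· ≫ _) hc').trans ((Category.assoc _ _ _).trans
          ((congrArg (e.hom ≫ ·) hc).trans Limits.comp_zero))
      have h2 : c' = 0 := hu (P.le_shift (-1) _ hA') _ _ (h1.trans Limits.zero_comp.symm)
      rw [h2, Functor.map_zero] at hc'
      rw [← cancel_epi e.hom, Limits.comp_zero]
      exact hc'.symm
    have h₀ : b ≫ h = 0 := hu' _ (by
      have := comp_distTriang_mor_zero₃₁ _ hT
      simp only [Triangle.mk_mor₃, Triangle.mk_mor₁] at this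
      rw [Category.assoc]
      exact (congrArg (b ≫ ·) this).trans Limits.comp_zero)
    obtain ⟨c, rfl⟩ := Triangle.coyoneda_exact₃ _ hT b h₀
    obtain ⟨d, hd⟩ : ∃ d : A' ⟶ A.obj, d ≫ adj.counit.app X = c := by
      let d' := adj.homEquiv ⟨A', hA'⟩ X c
      refine ⟨d'.hom, ?_⟩
      have := (adj.homEquiv ⟨A', hA'⟩ X).symm_apply_apply c
      rw [Adjunction.homEquiv_counit] at this
      exact this
    have h12 := comp_distTriang_mor_zero₁₂ _ hT
    simp only [Triangle.mk_mor₁, Triangle.mk_mor₂] at h12
    show c ≫ g = 0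
    rw [← hd]
    refine (Category.assoc _ _ _).trans ?_
    exact (congrArg (d ≫ ·) h12).trans Limits.comp_zero
  · intro h
    refine P.ι.isLeftAdjoint_of_rightAdjointObjIsDefined_eq_top (funext fun X => eq_true ?_)
    obtain ⟨A, B, f, g, k, hT, hA, hB⟩ := h X
    rw [Functor.rightAdjointObjIsDefined_iff]
    refine Functor.RepresentableBy.isRepresentable (Y := (⟨A, hA⟩ : P.FullSubcategory))
      ⟨fun {Z} => Equiv.ofBijective (fun φ => φ.hom ≫ f) ⟨fun φ φ' hφ => ?_, fun a => ?_⟩,
        fun {Z Z'} u v => (Category.assoc u.hom v.hom f)⟩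
    · apply ObjectProperty.hom_ext
      rw [← sub_eq_zero]
      obtain ⟨e, he⟩ := Triangle.coyoneda_exact₂ _ (inv_rot_of_distTriang _ hT) (φ.hom - φ'.hom)
        (by show (φ.hom - φ'.hom) ≫ f = 0
            rw [Preadditive.sub_comp]; exact sub_eq_zero.2 hφ)
      have : e = 0 := P.rightOrthogonal.le_shift (-1) _ hB e Z.property
      rw [he, this, Limits.zero_comp]
      rfl
    · obtain ⟨a', ha'⟩ := Triangle.coyoneda_exact₂ _ hT a (hB _ Z.property)
      exact ⟨ObjectProperty.homMk a', ha'.symm⟩

end Groth.Agent.S0490
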