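import Groth.Statements.S0492
import Groth.Agent.SiteCoh.WeakContr
import Mathlib.CategoryTheory.Sites.Abelian
import Mathlib.CategoryTheory.Abelian.GrothendieckAxioms.Basic

set_option autoImplicit false
universe u
open CategoryTheory
open CohSite

namespace Groth.Agent.S0492

open CategoryTheory.Limits in
/-- Part (4), for sheaves of abelian groups: let B be a set of weakly contractible objects of a small
site such that every object admits a covering family by members of B. Then products in the category
of abelian sheaves are exact (Grothendieck's AB4*). -/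
theorem result {C : Type u} [SmallCategory C] (J : GrothendieckTopology C)
    (B : Set C) (hB : ∀ U ∈ B, CohSite.IsWeaklyContractible J U)
    (hcov : ∀ V : C, ∃ (ι : Type u) (U : ι → C) (f : ∀ i, U i ⟶ V), (∀ i, U i ∈ B) ∧ Sieve.ofArrows U f ∈ J V) :
    AB4Star (Sheaf J AddCommGrpCat.{u}) := by
  open Groth.Agent.SiteCoh.WeakContr Opposite in
  refine ⟨fun ι => ?_⟩
  have hc : Groth.Agent.SiteCoh.WeakContr.Covers J (· ∈ B) := fun V => by
    obtain ⟨κ, U, f, hU, hS⟩ := hcov V
    refine ⟨_, hS, ?_⟩
    rintro W g ⟨_, h, k, ⟨i⟩, rfl⟩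
    exact ⟨U i, h, f i, hU i, rfl⟩
  have : (lim (J := Discrete ι) (C := Sheaf J AddCommGrpCat.{u})).PreservesEpimorphisms := ⟨fun {K K'} α _ => by
    have : Sheaf.IsLocallySurjective (lim.map α) := by
      refine Groth.Agent.SiteCoh.WeakContr.isLocallySurjective_of_covers hc _ (fun U hU y => ?_)
      let Ψ := (sheafToPresheaf J AddCommGrpCat.{u} ⋙
        (evaluation Cᵒᵖ AddCommGrpCat.{u}).obj (Opposite.op U)) ⋙ forget AddCommGrpCat.{u}
      have hsurj : ∀ i, Function.Surjective (Ψ.map (α.app i)) := fun i => by
        have : Sheaf.IsLocallySurjective (α.app i) :=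
          (Sheaf.isLocallySurjective_iff_epi' _ _).2 ((NatTrans.epi_iff_epi_app α).1 inferInstance i)
        exact Groth.Agent.SiteCoh.WeakContr.surjective_of_isLocallySurjective (hB U hU) (α.app i)
      choose x hx using fun i => hsurj i (Ψ.map (limit.π K' i) y)
      let h₀ := isLimitOfPreserves Ψ (limit.isLimit K)
      let s : (K ⋙ Ψ).sections := ⟨x, fun {a b} f => by
        obtain ⟨a⟩ := a
        obtain ⟨b⟩ := b
        obtain rfl := Discrete.eq_of_hom f
        exact (congrArg (fun g => (K ⋙ Ψ).map g (x ⟨a⟩)) (Subsingleton.elim f (𝟙 _))).trans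
          (ConcreteCategory.congr_hom ((K ⋙ Ψ).map_id _) _)⟩
      refine ⟨(Types.isLimitEquivSections h₀).symm s, ?_⟩
      apply (Types.isLimitEquivSections (isLimitOfPreserves Ψ (limit.isLimit K'))).injective
      apply Subtype.ext
      funext i
      show Ψ.map (limit.π K' i) (Ψ.map (lim.map α) _) = Ψ.map (limit.π K' i) y
      rw [← ConcreteCategory.comp_apply, ← Functor.map_comp]
      erw [limMap_π, Functor.map_comp, ConcreteCategory.comp_apply]
      rw [← hx i]
      congr 1
      exact Types.isLimitEquivSections_symm_apply h₀ s i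
    infer_instance⟩
  exact hasExactLimitsOfShape_of_preservesEpi _ _

end Groth.Agent.S0492
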