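import Groth.Statements.S0495
import Groth.Agent.Hensel.Pair

set_option autoImplicit false
universe u
open Hensel

namespace Groth.Agent.S0495

/-- A local ring whose Krull dimension is zero is henselian. -/
theorem result (R : Type u) [CommRing R] [IsLocalRing R]
    (h : ringKrullDim R = 0) : HenselianLocalRing R := by
  haveI : Ring.KrullDimLE 0 R := Ring.krullDimLE_iff.mpr (by rw [h]; rfl)
  refine Hensel.henselianLocalRing_of_henselianRing (Hensel.henselianRing_of_isNilpotent ?_)
  intro x hx
  rw [← mem_nilradical]
  rw [nilradical_eq_sInf, Ideal.mem_sInf]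
  intro p hp
  haveI : p.IsPrime := hp
  rwa [IsLocalRing.eq_maximalIdeal (Ideal.IsPrime.isMaximal' (‹p.IsPrime› : p.IsPrime))]

end Groth.Agent.S0495
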