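import Groth.Statements.S0496
import Groth.Agent.Hensel.Pair
import Mathlib.Dynamics.Newton

set_option autoImplicit false
universe u
open Hensel

namespace Groth.Agent.S0496

/-- If every factorization of the reduction of a monic polynomial into two coprime factors over the
residue field lifts to a factorization over the local ring, then the local ring is henselian. -/
theorem result (R : Type u) [CommRing R] [IsLocalRing R]
    (h : ∀ f : Polynomial R, f.Monic →
      ∀ g₀ h₀ : Polynomial (IsLocalRing.ResidueField R), IsCoprime g₀ h₀ →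
      Polynomial.map (IsLocalRing.residue R) f = g₀ * h₀ →
      ∃ g h : Polynomial R, f = g * h ∧ Polynomial.map (IsLocalRing.residue R) g = g₀ ∧
        Polynomial.map (IsLocalRing.residue R) h = h₀) :
    HenselianLocalRing R := by
  constructor
  intro f hf a₀ h₁ h₂
  set a := IsLocalRing.residue R a₀ with ha
  set f₀ := Polynomial.map (IsLocalRing.residue R) f with hf₀
  have hroot : f₀.IsRoot a := by
    rw [Polynomial.IsRoot.def, hf₀, Polynomial.eval_map, ha, Polynomial.eval₂_at_apply]
    exact Ideal.Quotient.eq_zero_iff_mem.2 h₁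
  obtain ⟨q, hq⟩ := Polynomial.dvd_iff_isRoot.2 hroot
  have hqa : q.eval a ≠ 0 := by
    have := congr(Polynomial.eval a (Polynomial.derivative $hq))
    rw [hf₀, Polynomial.derivative_map, Polynomial.eval_map, ha, Polynomial.eval₂_at_apply,
      Polynomial.derivative_mul] at this
    simp [← ha] at this
    rw [← this]
    exact (h₂.map _).ne_zero
  obtain ⟨g, g', rfl, hg, -⟩ := h f hf (Polynomial.X - Polynomial.C a) q
    ((Polynomial.irreducible_X_sub_C a).coprime_iff_not_dvd.2 (by rwa [Polynomial.dvd_iff_isRoot]))
    hq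
  -- `g` reduces to a monic linear polynomial; its other coefficients are nilpotent
  have hlin : ∀ i, 2 ≤ i → IsNilpotent (g.coeff i) := fun i hi => by
    rw [← mem_nilradical, nilradical_eq_sInf, Ideal.mem_sInf]
    intro p (hp : p.IsPrime)
    haveI : p.IsPrime := hp
    rw [← Ideal.Quotient.eq_zero_iff_mem, ← Polynomial.coeff_map]
    refine Polynomial.coeff_eq_zero_of_natDegree_lt (lt_of_le_of_lt ?_ hi)
    -- over the domain `R / p` leading coefficients of factors of a monic polynomial are units
    have hm : (Polynomial.map (Ideal.Quotient.mk p) g * Polynomial.map (Ideal.Quotient.mk p) g').Monic := by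
      rw [← Polynomial.map_mul]; exact hf.map _
    have hu : IsUnit (Polynomial.map (Ideal.Quotient.mk p) g).leadingCoeff :=
      IsUnit.of_mul_eq_one _ ((Polynomial.leadingCoeff_mul _ _).symm.trans hm)
    let π : R ⧸ p →+* IsLocalRing.ResidueField R := Ideal.Quotient.factor (IsLocalRing.le_maximalIdeal hp.ne_top)
    have h1 := Polynomial.natDegree_map_of_leadingCoeff_ne_zero π (hu.map π).ne_zero
    rw [Polynomial.map_map, show π.comp (Ideal.Quotient.mk p) = IsLocalRing.residue R from RingHom.ext fun x => rfl,
      hg, Polynomial.natDegree_X_sub_C] at h1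
    omega
  have hrest : ∃ r, IsNilpotent r ∧ Polynomial.aeval (-(g.coeff 0) * Ring.inverse (g.coeff 1)) g = r := by
    refine ⟨_, ?_, rfl⟩
    rw [Polynomial.aeval_eq_sum_range' (n := g.natDegree + 2) (by omega), Finset.sum_range_succ',
      Finset.sum_range_succ']
    have hu : IsUnit (g.coeff 1) := by
      by_contra hc
      have := congr(Polynomial.coeff $hg 1)
      rw [Polynomial.coeff_map, show IsLocalRing.residue R (g.coeff 1) = 0 from Ideal.Quotient.eq_zero_iff_mem.2 hc] at this
      simp at this
    simp only [zero_add, pow_zero, pow_one, smul_eq_mul, mul_one]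
    rw [show g.coeff 1 * (-g.coeff 0 * Ring.inverse (g.coeff 1)) = -g.coeff 0 by
      rw [mul_comm, mul_assoc, Ring.inverse_mul_cancel _ hu, mul_one]]
    rw [add_assoc, neg_add_cancel, add_zero, ← mem_nilradical]
    refine Ideal.sum_mem _ fun i _ => Ideal.mul_mem_right _ _ (mem_nilradical.2 (hlin _ (by omega)))
  obtain ⟨r, hr, hr'⟩ := hrest
  set b := -(g.coeff 0) * Ring.inverse (g.coeff 1) with hb
  have hgb : IsLocalRing.residue R b = a := by
    have h3 : IsLocalRing.residue R r = 0 := (hr.map _).eq_zero
    rw [← hr', Polynomial.coe_aeval_eq_eval, ← Polynomial.eval₂_at_apply, ← Polynomial.eval_map, hg] at h3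
    simpa [sub_eq_zero] using h3
  have hder : IsUnit (Polynomial.aeval b g.derivative) := by
    by_contra hc
    have h3 : IsLocalRing.residue R (Polynomial.eval b g.derivative) = 0 := by
      rw [← Polynomial.coe_aeval_eq_eval]
      exact Ideal.Quotient.eq_zero_iff_mem.2 hc
    rw [← Polynomial.eval₂_at_apply, ← Polynomial.eval_map, ← Polynomial.derivative_map, hg] at h3
    simp at h3
  obtain ⟨c, ⟨hc, hc'⟩, -⟩ := Polynomial.existsUnique_nilpotent_sub_and_aeval_eq_zero (hr' ▸ hr) hder
  refine ⟨c, ?_, ?_⟩
  · rw [Polynomial.IsRoot.def, Polynomial.eval_mul, ← Polynomial.coe_aeval_eq_eval, hc', zero_mul]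
  · rw [← Ideal.Quotient.eq]
    change IsLocalRing.residue R c = a
    rw [← hgb, ← sub_eq_zero, ← map_sub, ← neg_sub, map_neg, (hc.map (IsLocalRing.residue R)).eq_zero, neg_zero]

end Groth.Agent.S0496
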