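import Groth.Statements.S0497
import Groth.Agent.Hensel.EtaleLift
import Groth.Agent.Hensel.Local
import Mathlib.RingTheory.QuasiFinite.Weakly

set_option autoImplicit false
universe u
open Hensel

namespace Groth.Agent.S0497

/-- Over a henselian local ring, any factorization of the reduction of a polynomial (not necessarily
monic) into a monic factor and a factor coprime to it lifts to a factorization over the ring in
which the lift of the monic factor is again monic (so it has the same degree as its reduction). -/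
theorem result (R : Type u) [CommRing R] [HenselianLocalRing R]
    (f : Polynomial R) (g₀ h₀ : Polynomial (IsLocalRing.ResidueField R)) (hg : g₀.Monic)
    (hc : IsCoprime g₀ h₀) (hf : Polynomial.map (IsLocalRing.residue R) f = g₀ * h₀) :
    ∃ g h : Polynomial R, f = g * h ∧ g.Monic ∧ Polynomial.map (IsLocalRing.residue R) g = g₀ ∧
      Polynomial.map (IsLocalRing.residue R) h = h₀ := by
  classical
  set k := IsLocalRing.ResidueField R
  set ρ := IsLocalRing.residue R
  have hρs : Function.Surjective ρ := IsLocalRing.residue_surjective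
  let μ := IsLocalRing.maximalIdeal R
  obtain ⟨w, hw⟩ := Polynomial.map_surjective ρ hρs h₀
  obtain ⟨gl, hgl⟩ := Polynomial.map_surjective ρ hρs g₀
  let T := Polynomial R ⧸ Ideal.span {f}
  let S := Localization.Away (Ideal.Quotient.mk (Ideal.span {f}) w)
  let π : Polynomial R →ₐ[R] S := (IsScalarTower.toAlgHom R T S).comp (Ideal.Quotient.mkₐ R _)
  have hπf : π f = 0 := by
    change algebraMap T S (Ideal.Quotient.mk _ f) = 0
    rw [Ideal.Quotient.eq_zero_iff_mem.2 (Ideal.mem_span_singleton_self f), map_zero]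
  have hwu : IsUnit (π w) := IsLocalization.Away.algebraMap_isUnit (S := S) (Ideal.Quotient.mk (Ideal.span {f}) w)
  let J := μ.map (algebraMap R S)
  have hJ : ∀ P : Polynomial R, P.map ρ = 0 → π P ∈ J := fun P hP => by
    have h1 : P ∈ μ.map (Polynomial.C : R →+* Polynomial R) := Ideal.mem_map_C_iff.2 fun i =>
      (IsLocalRing.residue_eq_zero_iff _).1 (by rw [← Polynomial.coeff_map, hP, Polynomial.coeff_zero])
    have h2 := Ideal.mem_map_of_mem π.toRingHom h1
    rw [Ideal.map_map] at h2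
    rwa [show π.toRingHom.comp Polynomial.C = algebraMap R S from RingHom.ext fun r => π.commutes r] at h2
  have hgJ : π gl ∈ J := by
    have h1 := hJ (gl * w - f) (by rw [Polynomial.map_sub, Polynomial.map_mul, hgl, hw, hf, sub_self])
    rw [map_sub, map_mul, hπf, sub_zero, mul_comm] at h1
    exact (Ideal.unit_mul_mem_iff_mem J hwu).1 h1
  obtain ⟨a, b, hab⟩ := hc
  obtain ⟨a, rfl⟩ := Polynomial.map_surjective ρ hρs a
  obtain ⟨b, rfl⟩ := Polynomial.map_surjective ρ hρs b
  have hinv : π (b * w) - 1 ∈ J := by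
    have h1 := sub_mem (hJ (a * gl + b * w - 1) (by
      rw [Polynomial.map_sub, Polynomial.map_add, Polynomial.map_mul, Polynomial.map_mul, hgl, hw,
        Polynomial.map_one, hab, sub_self])) (J.mul_mem_left (π a) hgJ)
    convert! h1 using 1
    rw [map_sub, map_add, map_mul π a gl, map_one]; ring
  obtain ⟨n, hn⟩ : ∃ n, g₀.natDegree = n := ⟨_, rfl⟩
  -- every element of `S` is congruent to a polynomial of degree `< n` modulo `J`
  let N : Submodule R S := Submodule.span R (Set.range fun i : Fin n => π (Polynomial.X ^ (i : ℕ)))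
  have hlow : ∀ P : Polynomial R, ∃ x ∈ N, π P - x ∈ J := by
    intro P
    refine ⟨π ((Polynomial.map ρ P %ₘ g₀).sum fun i c => Polynomial.C (Function.surjInv hρs c) * Polynomial.X ^ i), ?_, ?_⟩
    · rw [Polynomial.sum_def, map_sum]
      refine Submodule.sum_mem _ fun i hi => ?_
      rw [← Polynomial.smul_eq_C_mul, map_smul]
      refine Submodule.smul_mem _ _ (Submodule.subset_span ⟨⟨i, ?_⟩, rfl⟩)
      have h1 : g₀.natDegree ≠ 0 → (Polynomial.map ρ P %ₘ g₀).natDegree < g₀.natDegree := fun h0 =>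
        Polynomial.natDegree_modByMonic_lt _ hg fun h1 => h0 (by rw [h1, Polynomial.natDegree_one])
      rcases eq_or_ne g₀.natDegree 0 with h0 | h0
      · rw [hg.natDegree_eq_zero.1 h0, Polynomial.modByMonic_one] at hi
        simp at hi
      · exact hn ▸ lt_of_le_of_lt (Polynomial.le_natDegree_of_ne_zero (Polynomial.mem_support_iff.1 hi)) (h1 h0)
    · obtain ⟨q, hq⟩ := Polynomial.map_surjective ρ hρs (Polynomial.map ρ P /ₘ g₀)
      set L := (Polynomial.map ρ P %ₘ g₀).sum fun i c => Polynomial.C (Function.surjInv hρs c) * Polynomial.X ^ i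
      have hL : L.map ρ = Polynomial.map ρ P %ₘ g₀ := by
        conv_rhs => rw [← Polynomial.sum_C_mul_X_pow_eq (Polynomial.map ρ P %ₘ g₀)]
        simp only [L, Polynomial.sum_def, Polynomial.map_sum]
        refine Finset.sum_congr rfl fun i _ => ?_
        rw [Polynomial.map_mul, Polynomial.map_C, Polynomial.map_pow, Polynomial.map_X, Function.surjInv_eq hρs]
      have h1 := add_mem (hJ (P - L - gl * q) (by
        rw [Polynomial.map_sub, Polynomial.map_sub, Polynomial.map_mul, hgl, hq, hL, sub_sub,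
          Polynomial.modByMonic_add_div _ g₀, sub_self])) (J.mul_mem_right (π q) hgJ)
      convert! h1 using 1
      rw [map_sub, map_sub, map_mul]; ring
  have hlowS : ∀ z : S, ∃ x ∈ N, z - x ∈ J := by
    intro z
    obtain ⟨⟨t, ⟨_, e, rfl⟩⟩, ht⟩ := IsLocalization.surj (Submonoid.powers (Ideal.Quotient.mk (Ideal.span {f}) w)) z
    obtain ⟨P, rfl⟩ := Ideal.Quotient.mk_surjective t
    obtain ⟨x, hx, hx'⟩ := hlow (P * b ^ e)
    refine ⟨x, hx, ?_⟩
    obtain ⟨c, hc⟩ : (π (b * w) - 1) ∣ (π (b * w) ^ e - 1) := by simpa using sub_dvd_pow_sub_pow (π (b * w)) 1 e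
    have h1 : π (b * w) ^ e * z = π (P * b ^ e) := by
      change z * algebraMap T S (Ideal.Quotient.mk (Ideal.span {f}) w ^ e) = π P at ht
      rw [map_pow] at ht
      change z * π w ^ e = π P at ht
      rw [map_mul, map_mul, map_pow, mul_pow, ← ht]; ring
    have h2 := sub_mem hx' (J.mul_mem_right z (hc ▸ J.mul_mem_right c hinv : π (b * w) ^ e - 1 ∈ J))
    convert! h2 using 1
    linear_combination h1
  haveI : Module.Finite R (S ⧸ J) := by
    refine ⟨Submodule.fg_def.2 ⟨(Ideal.Quotient.mkₐ R J) '' Set.range (fun i : Fin n => π (Polynomial.X ^ (i : ℕ))),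
      (Set.finite_range _).image _, eq_top_iff.2 fun z _ => ?_⟩⟩
    obtain ⟨z, rfl⟩ := Ideal.Quotient.mk_surjective z
    obtain ⟨x, hx, hx'⟩ := hlowS z
    rw [(Ideal.Quotient.eq.2 hx' : Ideal.Quotient.mk J z = Ideal.Quotient.mk J x),
      ← AlgHom.coe_toLinearMap, ← Submodule.map_span]
    exact ⟨x, hx, rfl⟩
  haveI : Algebra.FiniteType R S := inferInstance
  obtain ⟨E, hE, hE1, hfin⟩ := Hensel.exists_isIdempotentElem_finite (I := μ) S fun Q hQ hle => by
    have hu : Q.under R = μ := ((IsLocalRing.maximalIdeal.isMaximal R).eq_of_le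
      (Ideal.IsPrime.ne_top inferInstance) (Ideal.map_le_iff_le_comap.1 hle)).symm
    haveI : (Q.map (Ideal.Quotient.mk ((Q.under R).map (algebraMap R S)))).IsPrime :=
      Ideal.map_isPrime_of_surjective Ideal.Quotient.mk_surjective (by rw [Ideal.mk_ker, hu]; exact hle)
    haveI : Module.Finite R (S ⧸ (Q.under R).map (algebraMap R S)) := by rw [hu]; infer_instance
    haveI : Algebra.WeaklyQuasiFiniteAt R Q := inferInstanceAs (Algebra.QuasiFiniteAt R _)
    exact Algebra.QuasiFiniteAt.of_weaklyQuasiFiniteAt _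
  let M := S ⧸ Ideal.span {1 - E}
  let q : S →ₐ[R] M := Ideal.Quotient.mkₐ R _
  have hN : ∀ z : M, z ∈ N.map q.toLinearMap := by
    suffices h : (⊤ : Submodule R M) ≤ N.map q.toLinearMap from fun z => h Submodule.mem_top
    refine Submodule.le_of_le_smul_of_le_jacobson_bot Module.Finite.fg_top (I := μ)
      (IsLocalRing.maximalIdeal_le_jacobson ⊥) fun z _ => ?_
    obtain ⟨z, rfl⟩ := Ideal.Quotient.mk_surjective z
    obtain ⟨x, hx, hx'⟩ := hlowS z
    refine Submodule.mem_sup.2 ⟨q x, ⟨x, hx, rfl⟩, q (z - x), ?_, by rw [map_sub, add_sub_cancel]; rfl⟩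
    have h1 := Ideal.mem_map_of_mem q.toRingHom hx'
    rw [Ideal.map_map, show q.toRingHom.comp (algebraMap R S) = algebraMap R M from RingHom.ext fun r => q.commutes r] at h1
    rw [Ideal.smul_top_eq_map]; exact h1
  obtain ⟨x, hx, hxn⟩ := hN (q (π (Polynomial.X ^ n)))
  obtain ⟨c, rfl⟩ := (Submodule.mem_span_range_iff_exists_fun R).1 hx
  let g : Polynomial R := Polynomial.X ^ n - ∑ i : Fin n, Polynomial.C (c i) * Polynomial.X ^ (i : ℕ)
  have hgm : g.Monic := by
    refine Polynomial.monic_X_pow_sub ?_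
    exact Polynomial.degree_sum_fin_lt c
  have hqg : q (π g) = 0 := by
    rw [map_sub, map_sub, sub_eq_zero, map_sum, map_sum]
    refine Eq.trans hxn.symm ?_
    rw [AlgHom.coe_toLinearMap, map_sum]
    refine Finset.sum_congr rfl fun i _ => ?_
    rw [← Polynomial.smul_eq_C_mul, map_smul π]
  let Q₀ := Polynomial k ⧸ Ideal.span {g₀}
  let ψ₀ : Polynomial R →+* Q₀ := (Ideal.Quotient.mk _).comp (Polynomial.mapRingHom ρ)
  have hψf : ψ₀ f = 0 := by
    change Ideal.Quotient.mk _ (f.map ρ) = 0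
    rw [hf, Ideal.Quotient.eq_zero_iff_mem]
    exact Ideal.mem_span_singleton.2 (dvd_mul_right _ _)
  have hψw : IsUnit (ψ₀ w) := by
    refine IsUnit.of_mul_eq_one (ψ₀ b) ?_
    rw [← map_mul, ← map_one ψ₀]
    change Ideal.Quotient.mk _ ((w * b).map ρ) = Ideal.Quotient.mk _ (Polynomial.map ρ 1)
    rw [Ideal.Quotient.eq, Ideal.mem_span_singleton]
    refine ⟨-(a.map ρ), ?_⟩
    rw [Polynomial.map_mul, Polynomial.map_one, hw]
    linear_combination hab
  let ψ₁ : T →+* Q₀ := Ideal.Quotient.lift _ ψ₀ fun p hp => by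
    obtain ⟨d, rfl⟩ := Ideal.mem_span_singleton.1 hp
    rw [map_mul, hψf, zero_mul]
  let ψ : S →+* Q₀ := IsLocalization.Away.lift (Ideal.Quotient.mk (Ideal.span {f}) w) (g := ψ₁) hψw
  have hψπ : ∀ P, ψ (π P) = ψ₀ P := fun P => IsLocalization.Away.lift_eq _ _ _
  have hψJ : ∀ z ∈ J, ψ z = 0 := fun z hz => by
    have h1 : J ≤ RingHom.ker ψ := Ideal.map_le_iff_le_comap.2 fun r hr => by
      rw [Ideal.mem_comap, RingHom.mem_ker, ← π.commutes r, hψπ, Polynomial.algebraMap_eq]
      change Ideal.Quotient.mk _ ((Polynomial.C r).map ρ) = 0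
      rw [Polynomial.map_C, (IsLocalRing.residue_eq_zero_iff r).2 hr, map_zero, map_zero]
    exact h1 hz
  have hψE : ψ E = 1 := by
    have := hψJ _ hE1
    rwa [map_sub, map_one, sub_eq_zero] at this
  have hgmap : g.map ρ = g₀ := by
    obtain ⟨d, hd⟩ := Ideal.mem_span_singleton.1 (Ideal.Quotient.eq_zero_iff_mem.1 hqg : π g ∈ Ideal.span {1 - E})
    have h1 := congrArg ψ hd
    rw [map_mul, map_sub ψ 1 E, map_one ψ, hψE, sub_self, zero_mul, hψπ] at h1
    have h2 : g₀ ∣ g.map ρ := Ideal.mem_span_singleton.1 (Ideal.Quotient.eq_zero_iff_mem.1 h1)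
    refine Polynomial.eq_of_monic_of_dvd_of_natDegree_le hg (hgm.map _) h2 ?_
    rw [hgm.natDegree_map, hn]
    exact le_of_eq (Polynomial.natDegree_eq_of_degree_eq_some (by
      rw [Polynomial.degree_sub_eq_left_of_degree_lt (by rw [Polynomial.degree_X_pow]; exact Polynomial.degree_sum_fin_lt c),
        Polynomial.degree_X_pow]))
  -- `g` is killed by an element which is a unit modulo `g`
  have hgE : π g * E = 0 := by
    obtain ⟨d, hd⟩ := Ideal.mem_span_singleton.1 (Ideal.Quotient.eq_zero_iff_mem.1 hqg : π g ∈ Ideal.span {1 - E})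
    rw [hd]; linear_combination (-d) * hE.eq
  obtain ⟨⟨c₀, ⟨_, e, rfl⟩⟩, hc₀⟩ := IsLocalization.surj (Submonoid.powers (Ideal.Quotient.mk (Ideal.span {f}) w)) E
  obtain ⟨P, rfl⟩ := Ideal.Quotient.mk_surjective c₀
  dsimp only at hc₀
  rw [map_pow] at hc₀
  change E * π w ^ e = π P at hc₀
  have h0 : algebraMap T S (Ideal.Quotient.mk (Ideal.span {f}) (g * P)) = 0 := by
    change π (g * P) = 0
    rw [map_mul, ← hc₀, ← mul_assoc, hgE, zero_mul]
  obtain ⟨⟨_, e', rfl⟩, he'⟩ :=
    (IsLocalization.map_eq_zero_iff (Submonoid.powers (Ideal.Quotient.mk (Ideal.span {f}) w)) S _).1 h0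
  change Ideal.Quotient.mk (Ideal.span {f}) w ^ e' * _ = 0 at he'
  rw [← map_pow, ← map_mul, Ideal.Quotient.eq_zero_iff_mem] at he'
  obtain ⟨d, hd⟩ := Ideal.mem_span_singleton.1 he'
  have hdu : IsUnit (AdjoinRoot.mk g d) := by
    haveI := hgm.finite_adjoinRoot
    let χ : AdjoinRoot g →+* Q₀ := Ideal.Quotient.lift _ ψ₀ fun p hp => by
      obtain ⟨s, rfl⟩ := Ideal.mem_span_singleton.1 hp
      rw [map_mul]
      change Ideal.Quotient.mk _ (g.map ρ) * _ = 0
      rw [hgmap, Ideal.Quotient.eq_zero_iff_mem.2 (Ideal.mem_span_singleton_self g₀), zero_mul]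
    have hχ : ∀ p, χ (AdjoinRoot.mk g p) = ψ₀ p := fun p => rfl
    have hker : ∀ z, χ z = 0 → z ∈ μ.map (algebraMap R (AdjoinRoot g)) := by
      intro z hz
      obtain ⟨p, rfl⟩ := AdjoinRoot.mk_surjective z
      obtain ⟨s, hs⟩ := Ideal.mem_span_singleton.1 (Ideal.Quotient.eq_zero_iff_mem.1 hz)
      obtain ⟨s, rfl⟩ := Polynomial.map_surjective ρ hρs s
      have h1 : p - g * s ∈ μ.map (Polynomial.C : R →+* Polynomial R) := Ideal.mem_map_C_iff.2 fun i =>
        (IsLocalRing.residue_eq_zero_iff _).1 (by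
          rw [← Polynomial.coeff_map, Polynomial.map_sub, Polynomial.map_mul, hgmap, ← hs]
          simp [ρ])
      have h2 := Ideal.mem_map_of_mem (AdjoinRoot.mk g) h1
      rw [Ideal.map_map, map_sub, map_mul, AdjoinRoot.mk_self, zero_mul, sub_zero] at h2
      exact h2
    have hprod : IsUnit (ψ₀ d) := by
      have h1 := congrArg ψ hc₀
      rw [map_mul, hψE, one_mul, map_pow, hψπ, hψπ] at h1
      have h2 := congrArg (Polynomial.map ρ) hd
      rw [Polynomial.map_mul, Polynomial.map_mul, Polynomial.map_mul, Polynomial.map_pow, hgmap, hw, hf] at h2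
      have h3 : h₀ ^ e' * P.map ρ = h₀ * d.map ρ := mul_left_cancel₀ hg.ne_zero (by linear_combination h2)
      have h4 := congrArg (Ideal.Quotient.mk (Ideal.span {g₀})) h3
      rw [map_mul, map_mul, map_pow, ← hw] at h4
      change ψ₀ w ^ e' * ψ₀ P = ψ₀ w * ψ₀ d at h4
      rw [← h1] at h4
      exact ((IsUnit.mul_iff).1 (h4 ▸ (hψw.pow e').mul (hψw.pow e))).2
    obtain ⟨u, hu⟩ := hprod.exists_right_inv
    obtain ⟨u, rfl⟩ := Ideal.Quotient.mk_surjective u
    obtain ⟨u, rfl⟩ := Polynomial.map_surjective ρ hρs u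
    have h1 : χ (AdjoinRoot.mk g d * AdjoinRoot.mk g u - 1) = 0 := by
      rw [map_sub, map_mul, map_one, hχ, hχ, sub_eq_zero]; exact hu
    exact (IsUnit.mul_iff.1 (Hensel.isUnit_of_sub_one_mem
      (Hensel.map_le_jacobson_bot_of_isIntegral (IsLocalRing.maximalIdeal_le_jacobson ⊥)) (hker _ h1))).1
  have hfg : g ∣ f := by
    rw [← AdjoinRoot.mk_eq_zero]
    refine hdu.mul_left_eq_zero.1 ?_
    rw [← map_mul, ← hd, map_mul, map_mul, AdjoinRoot.mk_self, zero_mul, mul_zero]
  obtain ⟨hh, rfl⟩ := hfg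
  refine ⟨g, hh, rfl, hgm, hgmap, mul_left_cancel₀ hg.ne_zero ?_⟩
  rw [← hf, Polynomial.map_mul, hgmap]

end Groth.Agent.S0497
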