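import Groth.Statements.S0498
import Groth.Agent.S0497

set_option autoImplicit false
universe u
open Hensel

namespace Groth.Agent.S0498

/-- Over a henselian local ring, a simple root in the residue field of the reduction of an arbitrary
polynomial (monic or not) lifts to a root in the ring. -/
theorem result (R : Type u) [CommRing R] [HenselianLocalRing R]
    (f : Polynomial R) (a₀ : IsLocalRing.ResidueField R)
    (h₁ : Polynomial.eval₂ (IsLocalRing.residue R) a₀ f = 0)
    (h₂ : Polynomial.eval₂ (IsLocalRing.residue R) a₀ (Polynomial.derivative f) ≠ 0) :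
    ∃ a : R, Polynomial.IsRoot f a ∧ IsLocalRing.residue R a = a₀ := by
  have hroot : (f.map (IsLocalRing.residue R)).IsRoot a₀ := by
    rw [Polynomial.IsRoot.def, Polynomial.eval_map]; exact h₁
  obtain ⟨q, hq⟩ := Polynomial.dvd_iff_isRoot.2 hroot
  have hne : q.eval a₀ ≠ 0 := fun h0 => h₂ (by
    rw [← Polynomial.eval_map, ← Polynomial.derivative_map, hq, Polynomial.derivative_mul]
    simp [h0])
  obtain ⟨g, h, rfl, hgm, hgmap, -⟩ := Groth.Agent.S0497.result R f _ q (Polynomial.monic_X_sub_C a₀)
    ((Polynomial.irreducible_X_sub_C a₀).coprime_iff_not_dvd.2 (by rwa [Polynomial.dvd_iff_isRoot])) hq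
  have hdeg : g.natDegree = 1 := by
    rw [← hgm.natDegree_map (IsLocalRing.residue R), hgmap, Polynomial.natDegree_X_sub_C]
  refine ⟨-g.coeff 0, ?_, ?_⟩
  · rw [Polynomial.IsRoot.def, Polynomial.eval_mul, hgm.eq_X_add_C hdeg]
    simp
  · rw [map_neg, ← Polynomial.coeff_map, hgmap]
    simp

end Groth.Agent.S0498
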