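import Groth.Statements.S0502
import Groth.Agent.Hensel.QFinite

set_option autoImplicit false
universe u
open Hensel

namespace Groth.Agent.S0502

/-- A local ring `R` is henselian as soon as every étale `R`-algebra having a prime over the maximal
ideal with trivial residue field extension admits an `R`-algebra retraction to `R`. -/
theorem result (R : Type u) [CommRing R] [IsLocalRing R]
    (h : ∀ (S : Type u) [CommRing S] [Algebra R S] [Algebra.Etale R S] (q : Ideal S) [q.IsPrime],
      q.LiesOver (IsLocalRing.maximalIdeal R) → Function.Surjective (algebraMap R q.ResidueField) →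
      Nonempty (S →ₐ[R] R)) :
    HenselianLocalRing R := by
  constructor
  intro f hf a₀ h₁ h₂
  open Polynomial in
  obtain ⟨c, hc⟩ : (X - C (IsLocalRing.residue R a₀)) ∣ f.map (IsLocalRing.residue R) := by
    rw [dvd_iff_isRoot, IsRoot.def, eval_map, eval₂_at_apply]
    exact Ideal.Quotient.eq_zero_iff_mem.2 h₁
  open Polynomial in
  obtain ⟨h₀, hh₀⟩ := Polynomial.map_surjective (IsLocalRing.residue R) IsLocalRing.residue_surjective c
  open Polynomial in
  let P : StandardEtalePair R :=
    { f := f, monic_f := hf, g := derivative f * h₀, cond := ⟨h₀, 0, 1, by simp⟩ }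
  let k := IsLocalRing.ResidueField R
  have hca : Polynomial.eval (IsLocalRing.residue R a₀) c ≠ 0 := by
    intro h0
    have := congr(Polynomial.eval (IsLocalRing.residue R a₀) (Polynomial.derivative $hc))
    rw [Polynomial.derivative_map, Polynomial.eval_map, Polynomial.eval₂_at_apply, Polynomial.derivative_mul] at this
    simp [h0] at this
    exact this h₂
  have haev : ∀ (g : Polynomial R) (a : R), Polynomial.aeval (IsLocalRing.residue R a) g =
      IsLocalRing.residue R (g.eval a) := fun g a => by
    rw [← IsLocalRing.ResidueField.algebraMap_eq, Polynomial.aeval_algebraMap_apply, Polynomial.coe_aeval_eq_eval]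
  have hmap : P.HasMap (IsLocalRing.residue R a₀) := by
    refine ⟨?_, ?_⟩
    · rw [haev]; exact Ideal.Quotient.eq_zero_iff_mem.2 h₁
    · change IsUnit (Polynomial.aeval (IsLocalRing.residue R a₀) (Polynomial.derivative f * h₀))
      rw [map_mul, haev]
      refine (h₂.map _).mul (IsUnit.mk0 _ ?_)
      rwa [Polynomial.aeval_def, IsLocalRing.ResidueField.algebraMap_eq, ← Polynomial.eval_map, hh₀]
  set q := RingHom.ker (P.lift _ hmap).toRingHom with hq
  haveI : q.IsPrime := RingHom.ker_isPrime _
  have hqm : q.LiesOver (IsLocalRing.maximalIdeal R) := ⟨by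
    ext a
    rw [Ideal.under_def, Ideal.mem_comap, hq, RingHom.mem_ker]
    change _ ↔ (P.lift _ hmap) (algebraMap R _ a) = 0
    rw [AlgHom.commutes, IsLocalRing.ResidueField.algebraMap_eq, IsLocalRing.residue_eq_zero_iff]⟩
  have hsurj : Function.Surjective (algebraMap R q.ResidueField) := by
    intro z
    obtain ⟨x, y, hy, rfl⟩ := IsFractionRing.div_surjective (A := P.Ring ⧸ q) z
    have key : ∀ x : P.Ring ⧸ q, ∃ a : R, algebraMap R q.ResidueField a = algebraMap _ q.ResidueField x := by
      intro x
      obtain ⟨x, rfl⟩ := Ideal.Quotient.mk_surjective x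
      obtain ⟨a, ha⟩ := IsLocalRing.residue_surjective ((P.lift _ hmap) x)
      refine ⟨a, ?_⟩
      rw [IsScalarTower.algebraMap_apply R (P.Ring ⧸ q) q.ResidueField, IsScalarTower.algebraMap_apply R P.Ring (P.Ring ⧸ q),
        Ideal.Quotient.algebraMap_eq]
      congr 1
      rw [Ideal.Quotient.eq, hq, RingHom.mem_ker]
      change (P.lift _ hmap) (algebraMap R P.Ring a - x) = 0
      rw [map_sub, AlgHom.commutes, IsLocalRing.ResidueField.algebraMap_eq, ha, sub_self]
    obtain ⟨a, ha⟩ := key x
    obtain ⟨b, hb⟩ := key y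
    have hbu : IsUnit b := by
      by_contra hbn
      refine (nonZeroDivisors.ne_zero hy) ((IsFractionRing.injective (P.Ring ⧸ q) q.ResidueField) ?_)
      rw [map_zero, ← hb, IsScalarTower.algebraMap_apply R P.Ring q.ResidueField, Ideal.algebraMap_residueField_eq_zero,
        ← Ideal.mem_of_liesOver q (IsLocalRing.maximalIdeal R)]
      exact hbn
    refine ⟨a * Ring.inverse b, ?_⟩
    rw [← ha, ← hb, eq_div_iff ((hbu.map _).ne_zero), ← map_mul, mul_assoc, Ring.inverse_mul_cancel _ hbu, mul_one]
  obtain ⟨τ⟩ := h P.Ring q hqm hsurj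
  obtain ⟨hroot, hg⟩ := P.hasMap_X.map τ
  refine ⟨τ P.X, ?_, ?_⟩
  · rwa [Polynomial.IsRoot.def, ← Polynomial.coe_aeval_eq_eval]
  · rw [← IsLocalRing.residue_eq_zero_iff, map_sub]
    have h3 : Polynomial.eval (IsLocalRing.residue R (τ P.X)) (f.map (IsLocalRing.residue R)) = 0 := by
      rw [Polynomial.eval_map, Polynomial.eval₂_at_apply, ← Polynomial.coe_aeval_eq_eval, hroot, map_zero]
    rw [hc, Polynomial.eval_mul, mul_eq_zero, Polynomial.eval_sub, Polynomial.eval_X, Polynomial.eval_C] at h3
    refine h3.resolve_right fun h4 => ?_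
    have h5 := hg.map (IsLocalRing.residue R)
    change IsUnit (IsLocalRing.residue R (Polynomial.aeval (τ P.X) (Polynomial.derivative f * h₀))) at h5
    rw [map_mul, map_mul, IsUnit.mul_iff] at h5
    refine h5.2.ne_zero ?_
    rwa [Polynomial.coe_aeval_eq_eval, ← Polynomial.eval₂_at_apply, ← Polynomial.eval_map, hh₀]

end Groth.Agent.S0502
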