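import Groth.Statements.S0503
import Groth.Agent.Hensel.QFinite

set_option autoImplicit false
universe u
open Hensel

namespace Groth.Agent.S0503

/-- A finite-type quasi-finite algebra `S` over a henselian local ring `R` contains an idempotent `e`
such that `S/(1-e)` is finitely generated as an `R`-module and the maximal ideal of `R` generates
the unit ideal of `S/(e)`; in other words `S` is a product of a module-finite algebra and an algebra
whose fibre over the closed point is empty. -/
theorem result (R : Type u) [CommRing R] [HenselianLocalRing R]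
    (S : Type u) [CommRing S] [Algebra R S] [Algebra.FiniteType R S] [Algebra.QuasiFinite R S] :
    ∃ e : S, IsIdempotentElem e ∧ Module.Finite R (S ⧸ Ideal.span ({1 - e} : Set S)) ∧
      Ideal.map (algebraMap R (S ⧸ Ideal.span ({e} : Set S))) (IsLocalRing.maximalIdeal R) = ⊤ := by
  obtain ⟨e, he, hfin, h⟩ := Hensel.exists_idempotent_finite_and_forall_not_quasiFiniteAt R S
  refine ⟨e, he, hfin, ?_⟩
  by_contra hne
  obtain ⟨M, hM, hle⟩ := Ideal.exists_le_maximal _ hne
  set q := M.comap (Ideal.Quotient.mk (Ideal.span ({e} : Set S))) with hqdef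
  haveI : M.IsPrime := hM.isPrime
  have hq : q.LiesOver (IsLocalRing.maximalIdeal R) := by
    refine ⟨(IsLocalRing.maximalIdeal.isMaximal R).eq_of_le (Ideal.IsPrime.ne_top inferInstance) ?_⟩
    intro r hr
    rw [Ideal.under_def, Ideal.mem_comap, hqdef, Ideal.mem_comap]
    exact hle (Ideal.mem_map_of_mem _ hr)
  refine h q hq inferInstance ?_
  rw [hqdef, Ideal.mem_comap, Ideal.Quotient.eq_zero_iff_mem.2 (Ideal.mem_span_singleton_self e)]
  exact M.zero_mem

end Groth.Agent.S0503
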