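import Groth.Statements.S0505
import Groth.Agent.Hensel.Local

set_option autoImplicit false
universe u
open Hensel

namespace Groth.Agent.S0505

/-- A local ring which is finitely generated as a module over a henselian local ring is itself
henselian. -/
theorem result (R : Type u) [CommRing R] [HenselianLocalRing R]
    (S : Type u) [CommRing S] [IsLocalRing S] [Algebra R S] [Module.Finite R S] :
    HenselianLocalRing S := by
  have h := Hensel.henselianRing_of_isIntegral (I := IsLocalRing.maximalIdeal R) S
  refine Hensel.henselianLocalRing_of_henselianRing ?_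
  refine Hensel.henselianRing_of_radical_eq (I := (IsLocalRing.maximalIdeal R).map (algebraMap R S)) ?_
  intro x hx
  rw [Ideal.radical_eq_sInf, Ideal.mem_sInf]
  rintro P ⟨hP, hPp⟩
  haveI := hPp
  haveI : (P.comap (algebraMap R S)).IsMaximal := by
    have h1 : IsLocalRing.maximalIdeal R ≤ P.comap (algebraMap R S) := Ideal.map_le_iff_le_comap.1 hP
    rw [← (IsLocalRing.maximalIdeal.isMaximal R).eq_of_le (hPp.comap _).ne_top h1]
    exact IsLocalRing.maximalIdeal.isMaximal R
  haveI := Ideal.isMaximal_of_isIntegral_of_isMaximal_comap P ‹_›
  rwa [IsLocalRing.eq_maximalIdeal ‹P.IsMaximal›]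

end Groth.Agent.S0505
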