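import Groth.Statements.S0510
import Groth.Agent.Hens.Unique

set_option autoImplicit false
universe u
open Hensel

namespace Groth.Agent.S0510

/-- For a local ring `R` with henselization `S` and every `n`, the natural map from `R` modulo the
`n`-th power of its maximal ideal to `S` modulo the extension of that power is a bijection. -/
theorem result (R : Type u) [CommRing R] [IsLocalRing R] (S : Type u) [CommRing S] [IsLocalRing S]
    [Algebra R S] [IsLocalHom (algebraMap R S)] [Hensel.IsHenselization R S] (n : ℕ) :
    Function.Bijective (Ideal.quotientMap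
      (Ideal.map (algebraMap R S) (IsLocalRing.maximalIdeal R ^ n)) (algebraMap R S)
      Ideal.le_comap_map) := by
  haveI := Hens.faithfullyFlat_of_isHenselization (R := R) S
  set m := IsLocalRing.maximalIdeal R
  have hm : m.map (algebraMap R S) = IsLocalRing.maximalIdeal S := Hens.map_maximalIdeal_of_isHenselization (R := R) S
  have hbij := (Hens.residueMap_bijective_of_isHenselization (R := R) S).2
  constructor
  · refine Ideal.quotientMap_injective' ?_
    rw [Ideal.comap_map_eq_self_of_faithfullyFlat]
  · -- every element of `S` is congruent to one of `R` modulo any power of `m`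
    suffices h : ∀ (k : ℕ) (s : S), ∃ r : R, s - algebraMap R S r ∈ (m ^ k).map (algebraMap R S) by
      intro z
      obtain ⟨s, rfl⟩ := Ideal.Quotient.mk_surjective z
      obtain ⟨r, hr⟩ := h n s
      exact ⟨Ideal.Quotient.mk _ r, by rw [Ideal.quotientMap_mk]; exact (Ideal.Quotient.eq.2 hr).symm⟩
    have h1 : ∀ s : S, ∃ r : R, s - algebraMap R S r ∈ m.map (algebraMap R S) := fun s => by
      obtain ⟨x, hx⟩ := hbij (IsLocalRing.residue S s)
      obtain ⟨r, rfl⟩ := IsLocalRing.residue_surjective x
      refine ⟨r, ?_⟩
      rw [hm, ← IsLocalRing.residue_eq_zero_iff, map_sub, ← hx, IsLocalRing.ResidueField.map_residue, sub_self]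
    intro k
    induction k with
    | zero => exact fun s => ⟨0, by rw [pow_zero, Ideal.one_eq_top, Ideal.map_top]; exact Submodule.mem_top⟩
    | succ k ih =>
      intro s
      obtain ⟨r, hr⟩ := ih s
      have key : ∀ x ∈ (m ^ k).map (algebraMap R S), ∃ a : R,
          x - algebraMap R S a ∈ (m ^ (k + 1)).map (algebraMap R S) := by
        intro x hx
        induction hx using Submodule.span_induction with
        | mem x hx => obtain ⟨a, -, rfl⟩ := hx; exact ⟨a, by simp⟩
        | zero => exact ⟨0, by simp⟩
        | add x y _ _ hx hy =>
          obtain ⟨a, ha⟩ := hx; obtain ⟨b, hb⟩ := hy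
          refine ⟨a + b, ?_⟩
          have := add_mem ha hb
          convert this using 1; rw [map_add]; ring
        | smul c x hxm hx =>
          obtain ⟨a, ha⟩ := hx; obtain ⟨b, hb⟩ := h1 c
          refine ⟨b * a, ?_⟩
          have h2 : (c - algebraMap R S b) * x ∈ (m ^ (k + 1)).map (algebraMap R S) := by
            rw [pow_succ', Ideal.map_mul]
            exact Ideal.mul_mem_mul hb hxm
          have := add_mem h2 (Ideal.mul_mem_left _ (algebraMap R S b) ha)
          convert this using 1
          rw [smul_eq_mul, map_mul]; ring
      obtain ⟨a, ha⟩ := key _ hr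
      exact ⟨r + a, by rw [map_add, ← sub_sub]; exact ha⟩

end Groth.Agent.S0510
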