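import Groth.Statements.S0516
import Groth.Agent.Hensel.QFinite
import Mathlib.FieldTheory.IsSepClosed
import Mathlib.RingTheory.Unramified.LocalRing

set_option autoImplicit false
universe u
open Hensel

namespace Groth.Agent.S0516

/-- An unramified algebra `S` (formally unramified of finite type) over a strictly henselian local ring
`R` is isomorphic over `R` to a product of finitely many quotient rings of `R` and an `R`-algebra in
which the maximal ideal of `R` generates the unit ideal. -/
theorem result (R : Type u) [CommRing R]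
    [HenselianLocalRing R] [IsSepClosed (IsLocalRing.ResidueField R)] (S : Type u) [CommRing S] [Algebra R S]
    [Algebra.Unramified R S] :
    ∃ (ι : Type u) (_ : Fintype ι) (A : ι → Type u) (_ : ∀ i, CommRing (A i))
      (_ : ∀ i, Algebra R (A i)) (B : Type u) (_ : CommRing B) (_ : Algebra R B),
      (∀ i, Function.Surjective (algebraMap R (A i))) ∧
      Ideal.map (algebraMap R B) (IsLocalRing.maximalIdeal R) = ⊤ ∧
      Nonempty (S ≃ₐ[R] ((∀ i, A i) × B)) := by
  haveI : Algebra.EssFiniteType R S := inferInstance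
  obtain ⟨e, he, hfin, h⟩ := Hensel.exists_idempotent_finite_and_forall_not_quasiFiniteAt R S
  obtain ⟨n, f, hf, hloc⟩ := Hensel.exists_pi_local (R := R) (S ⧸ Ideal.span {1 - e})
  let e' : ULift.{u} (Fin n) → (S ⧸ Ideal.span {1 - e}) := fun i => f i.down
  have he' : CompleteOrthogonalIdempotents e' := (CompleteOrthogonalIdempotents.equiv Equiv.ulift).2 hf
  refine ⟨ULift.{u} (Fin n), inferInstance, fun i => (S ⧸ Ideal.span {1 - e}) ⧸ Ideal.span {1 - e' i},
    inferInstance, inferInstance, S ⧸ Ideal.span {e}, inferInstance, inferInstance, fun i => ?_, ?_, ⟨?_⟩⟩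
  · let T := (S ⧸ Ideal.span {1 - e}) ⧸ Ideal.span {1 - e' i}
    haveI : IsLocalRing T := hloc i.down
    haveI : Algebra.FormallyUnramified R T := Algebra.FormallyUnramified.comp R (S ⧸ Ideal.span {1 - e}) T
    haveI : IsLocalHom (algebraMap R T) := by
      refine ((IsLocalRing.local_hom_TFAE (algebraMap R T)).out 0 2).2 ?_
      exact le_trans (Hensel.map_le_jacobson_bot_of_isIntegral (IsLocalRing.maximalIdeal_le_jacobson ⊥))
        (IsLocalRing.jacobson_eq_maximalIdeal ⊥ bot_ne_top).le
    have hsurj : Function.Surjective (algebraMap (IsLocalRing.ResidueField R) (IsLocalRing.ResidueField T)) :=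
      IsSepClosed.algebraMap_surjective _ _
    change Function.Surjective (algebraMap R T)
    rw [← Algebra.coe_linearMap, ← LinearMap.range_eq_top, eq_top_iff]
    refine Submodule.le_of_le_smul_of_le_jacobson_bot Module.Finite.fg_top
      (I := IsLocalRing.maximalIdeal R) (IsLocalRing.maximalIdeal_le_jacobson ⊥) fun z _ => ?_
    obtain ⟨a, ha⟩ := hsurj (IsLocalRing.residue T z)
    obtain ⟨a, rfl⟩ := IsLocalRing.residue_surjective a
    refine Submodule.mem_sup.2 ⟨algebraMap R T a, ⟨a, rfl⟩, _, ?_, add_sub_cancel _ _⟩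
    rw [Ideal.smul_top_eq_map, Submodule.restrictScalars_mem, Algebra.FormallyUnramified.map_maximalIdeal,
      ← IsLocalRing.residue_eq_zero_iff, map_sub, ← ha]
    exact sub_self _
  · by_contra hne
    obtain ⟨M, hM, hle⟩ := Ideal.exists_le_maximal _ hne
    haveI : M.IsPrime := hM.isPrime
    refine h (M.comap (Ideal.Quotient.mk _)) ?_ inferInstance ?_
    · refine ⟨(IsLocalRing.maximalIdeal.isMaximal R).eq_of_le (Ideal.IsPrime.ne_top inferInstance) ?_⟩
      intro r hr
      rw [Ideal.under_def, Ideal.mem_comap, Ideal.mem_comap]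
      exact hle (Ideal.mem_map_of_mem _ hr)
    · rw [Ideal.mem_comap, Ideal.Quotient.eq_zero_iff_mem.2 (Ideal.mem_span_singleton_self e)]
      exact M.zero_mem
  · let Φ : (S ⧸ Ideal.span {1 - e}) →ₐ[R] ∀ i, (S ⧸ Ideal.span {1 - e}) ⧸ Ideal.span {1 - e' i} :=
      Pi.algHom R _ fun i => Ideal.Quotient.mkₐ R _
    let Ψ : S →ₐ[R] (∀ i, (S ⧸ Ideal.span {1 - e}) ⧸ Ideal.span {1 - e' i}) × (S ⧸ Ideal.span {e}) :=
      (Φ.comp (Ideal.Quotient.mkₐ R _)).prod (Ideal.Quotient.mkₐ R _)
    refine AlgEquiv.ofBijective Ψ ?_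
    have hb := RingHom.prod_bijective_of_isIdempotentElem he.one_sub he (by ring) (by rw [sub_mul, one_mul, he.eq, sub_self])
    have hΦ : Function.Bijective Φ := he'.bijective_pi
    exact (hΦ.prodMap Function.bijective_id).comp hb

end Groth.Agent.S0516
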