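import Groth.Statements.S0517
import Groth.Agent.Hensel.SepClosed

set_option autoImplicit false
universe u
open Hensel

namespace Groth.Agent.S0517

/-- Given strictly henselian local rings `R` and `S`, a local ring map `φ` between them, and a square
system of `n` polynomial equations in `n` unknowns over `R` whose quotient algebra is étale over
`R`, applying `φ` coordinatewise matches the solutions of the system in `Rⁿ` bijectively with the
solutions of the transported system in `Sⁿ`. -/
theorem result (R : Type u) [CommRing R]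
    [HenselianLocalRing R] [IsSepClosed (IsLocalRing.ResidueField R)] (S : Type u) [CommRing S]
    [HenselianLocalRing S] [IsSepClosed (IsLocalRing.ResidueField S)] (φ : R →+* S) [IsLocalHom φ] (n : ℕ)
    (P : Fin n → MvPolynomial (Fin n) R)
    [Algebra.Etale R (MvPolynomial (Fin n) R ⧸ Ideal.span (Set.range P))] :
    Set.BijOn (fun r : Fin n → R => φ ∘ r)
      {r : Fin n → R | ∀ i, MvPolynomial.eval r (P i) = 0}
      {s : Fin n → S | ∀ i, MvPolynomial.eval s (MvPolynomial.map φ (P i)) = 0} := by
  let E := MvPolynomial (Fin n) R ⧸ Ideal.span (Set.range P)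
  letI : Algebra R S := φ.toAlgebra
  haveI : IsLocalHom (algebraMap R S) := ‹IsLocalHom φ›
  have hev : ∀ (x : Fin n → S) (p : MvPolynomial (Fin n) R),
      MvPolynomial.eval x (MvPolynomial.map φ p) = MvPolynomial.aeval x p := fun x p => by
    rw [MvPolynomial.eval_map]; rfl
  have hR : ∀ r : Fin n → R, (∀ i, MvPolynomial.eval r (P i) = 0) → ∃ f : E →ₐ[R] R,
      ∀ i, f (Ideal.Quotient.mk _ (MvPolynomial.X i)) = r i := fun r hr =>
    ⟨Ideal.Quotient.liftₐ _ (MvPolynomial.aeval r) (fun a ha => by
      have h1 : Ideal.span (Set.range P) ≤ RingHom.ker (MvPolynomial.aeval r).toRingHom :=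
        Ideal.span_le.2 (Set.range_subset_iff.2 hr)
      exact h1 ha), fun i => MvPolynomial.aeval_X _ i⟩
  have hS : ∀ s : Fin n → S, (∀ i, MvPolynomial.eval s (MvPolynomial.map φ (P i)) = 0) → ∃ f : E →ₐ[R] S,
      ∀ i, f (Ideal.Quotient.mk _ (MvPolynomial.X i)) = s i := fun r hr =>
    ⟨Ideal.Quotient.liftₐ _ (MvPolynomial.aeval r) (fun a ha => by
      have h1 : Ideal.span (Set.range P) ≤ RingHom.ker (MvPolynomial.aeval r).toRingHom :=
        Ideal.span_le.2 (Set.range_subset_iff.2 fun i => (hev r (P i)).symm.trans (hr i))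
      exact h1 ha), fun i => MvPolynomial.aeval_X _ i⟩
  have hext : ∀ {T : Type u} [CommRing T] [Algebra R T] (f g : E →ₐ[R] T),
      (∀ i, f (Ideal.Quotient.mk _ (MvPolynomial.X i)) = g (Ideal.Quotient.mk _ (MvPolynomial.X i))) → f = g :=
    fun f g h => Ideal.Quotient.algHom_ext R (MvPolynomial.algHom_ext h)
  refine ⟨fun r hr i => ?_, fun r hr r' hr' h => ?_, fun s hs => ?_⟩
  · rw [hev]
    have h1 : MvPolynomial.aeval (φ ∘ r) (P i) = φ (MvPolynomial.eval r (P i)) :=
      (MvPolynomial.comp_aeval_apply r (Algebra.ofId R S) (P i)).symm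
    exact h1.trans (by rw [hr i, map_zero])
  · obtain ⟨f, hf⟩ := hR r hr
    obtain ⟨g, hg⟩ := hR r' hr'
    have hsm : ∀ x, f x - g x ∈ IsLocalRing.maximalIdeal R := by
      intro x
      have h2 : ((Algebra.ofId R S).comp f) = ((Algebra.ofId R S).comp g) := hext _ _ fun i => by
        change φ (f _) = φ (g _)
        rw [hf, hg]; exact congrFun h i
      have h3 : φ (f x - g x) = 0 := by
        rw [map_sub, sub_eq_zero]; exact DFunLike.congr_fun h2 x
      exact fun hu => not_isUnit_zero (h3 ▸ hu.map φ)
    funext i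
    rw [← hf, ← hg, Hensel.algHom_eq_of_sub_mem (IsLocalRing.maximalIdeal_le_jacobson ⊥) hsm]
  · obtain ⟨g, hg⟩ := hS s hs
    let σ : E →ₐ[R] IsLocalRing.ResidueField S :=
      (IsScalarTower.toAlgHom R S (IsLocalRing.ResidueField S)).comp g
    have hmem := fun x : E => Hensel.mem_range_of_point_of_sepClosed σ x
    choose a ha using hmem
    have hinj : Function.Injective (algebraMap (IsLocalRing.ResidueField R) (IsLocalRing.ResidueField S)) :=
      RingHom.injective _
    let σ₀ : E →ₐ[R] IsLocalRing.ResidueField R :=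
      { toFun := a
        map_one' := hinj (by rw [ha, map_one, map_one])
        map_mul' := fun x y => hinj (by rw [map_mul, ha, ha, ha, map_mul])
        map_zero' := hinj (by rw [ha, map_zero, map_zero])
        map_add' := fun x y => hinj (by rw [map_add, ha, ha, ha, map_add])
        commutes' := fun r => hinj (by rw [ha, AlgHom.commutes, ← IsScalarTower.algebraMap_apply]) }
    obtain ⟨f, hf, -⟩ := Hensel.existsUnique_algHom_residue E σ₀
    have heq : (Algebra.ofId R S).comp f = g := by
      refine Hensel.algHom_eq_of_sub_mem (IsLocalRing.maximalIdeal_le_jacobson ⊥) fun x => ?_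
      rw [← IsLocalRing.residue_eq_zero_iff, map_sub, sub_eq_zero]
      change IsLocalRing.residue S (algebraMap R S (f x)) = σ x
      rw [← ha x, ← IsLocalRing.ResidueField.map_residue (algebraMap R S), hf]
      rfl
    refine ⟨fun i => f (Ideal.Quotient.mk _ (MvPolynomial.X i)), fun j => ?_, ?_⟩
    · have h1 : MvPolynomial.aeval (fun i => f (Ideal.Quotient.mk _ (MvPolynomial.X i))) =
          f.comp (Ideal.Quotient.mkₐ R (Ideal.span (Set.range P))) :=
        MvPolynomial.algHom_ext fun i => by rw [MvPolynomial.aeval_X]; rfl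
      have h2 := DFunLike.congr_fun h1 (P j)
      rw [AlgHom.comp_apply, Ideal.Quotient.mkₐ_eq_mk,
        Ideal.Quotient.eq_zero_iff_mem.2 (Ideal.subset_span (Set.mem_range_self j)), map_zero] at h2
      exact h2
    · funext i
      rw [← hg i, ← heq]; rfl

end Groth.Agent.S0517
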