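import Groth.Statements.S0533
import Groth.Agent.Hensel.Local

set_option autoImplicit false
universe u
open Hensel

namespace Groth.Agent.S0533

/-- If `A` is Henselian at `I`, base change to `A/I` gives a bijection between `A`-algebra maps of two
finite étale `A`-algebras and `A/I`-algebra maps of their reductions. -/
theorem result (A : Type u) [CommRing A] (I : Ideal A) [HenselianRing A I]
    (B₁ B₂ : Type u) [CommRing B₁] [CommRing B₂] [Algebra A B₁] [Algebra A B₂]
    [Module.Finite A B₁] [Algebra.Etale A B₁] [Module.Finite A B₂] [Algebra.Etale A B₂] :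
    Function.Bijective (fun φ : B₁ →ₐ[A] B₂ =>
      Algebra.TensorProduct.map (AlgHom.id (A ⧸ I) (A ⧸ I)) φ) := by
  let J := Ideal.map (algebraMap A B₂) I
  haveI : HenselianRing B₂ J := Hensel.henselianRing_of_isIntegral B₂
  let e₂ : TensorProduct A (A ⧸ I) B₂ ≃ₐ[A] B₂ ⧸ J :=
    (Algebra.TensorProduct.comm A (A ⧸ I) B₂).trans
      ((Algebra.TensorProduct.quotIdealMapEquivTensorQuot B₂ I).restrictScalars A).symm
  have he₂ : ∀ b : B₂, e₂ (1 ⊗ₜ b) = Ideal.Quotient.mk J b := fun b => by
    simp only [e₂, AlgEquiv.trans_apply, Algebra.TensorProduct.comm_tmul]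
    change (Algebra.TensorProduct.quotIdealMapEquivTensorQuot B₂ I).symm (b ⊗ₜ 1) = _
    rw [AlgEquiv.symm_apply_eq, Algebra.TensorProduct.quotIdealMapEquivTensorQuot_mk]
  constructor
  · intro φ ψ h
    refine Hensel.algHom_eq_of_sub_mem (HenselianRing.jac (I := J)) fun s => Ideal.Quotient.eq.1 ?_
    rw [← he₂, ← he₂]
    exact congrArg e₂ (DFunLike.congr_fun h (1 ⊗ₜ s))
  · intro Φ
    let σ : B₁ →ₐ[A] B₂ ⧸ J :=
      e₂.toAlgHom.comp ((Φ.restrictScalars A).comp Algebra.TensorProduct.includeRight)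
    let σB : TensorProduct A B₂ B₁ →ₐ[B₂] B₂ ⧸ J :=
      Algebra.TensorProduct.lift (Algebra.ofId B₂ _) σ fun _ _ => .all _ _
    obtain ⟨τ, hτ⟩ := Hensel.exists_algHom_lift (I := J) (TensorProduct A B₂ B₁) σB
    refine ⟨(τ.restrictScalars A).comp Algebra.TensorProduct.includeRight, ?_⟩
    refine Algebra.TensorProduct.ext (by ext) (AlgHom.ext fun s => e₂.injective ?_)
    have := DFunLike.congr_fun hτ (Algebra.TensorProduct.includeRight s)
    simp [σB, σ] at this ⊢
    refine e₂.injective ?_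
    rw [he₂]; exact this

end Groth.Agent.S0533
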