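import Groth.Statements.S0520
import Groth.Agent.Hensel.Pair

set_option autoImplicit false
universe u
open Hensel

namespace Groth.Agent.S0520

/-- A ring `A` is Henselian at an ideal `I` in Mathlib's sense (simple roots lift) exactly when `I` lies
in the Jacobson radical and every factorization of the reduction of a monic polynomial into two
comaximal monic factors over `A/I` lifts to a factorization into monic polynomials over `A`. -/
theorem result (A : Type u) [CommRing A] (I : Ideal A) :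
    HenselianRing A I ↔ (I ≤ Ideal.jacobson ⊥ ∧
      ∀ f : Polynomial A, f.Monic → ∀ g₀ h₀ : Polynomial (A ⧸ I), g₀.Monic → h₀.Monic →
        IsCoprime g₀ h₀ → Polynomial.map (Ideal.Quotient.mk I) f = g₀ * h₀ →
        ∃ g h : Polynomial A, g.Monic ∧ h.Monic ∧ f = g * h ∧
          Polynomial.map (Ideal.Quotient.mk I) g = g₀ ∧ Polynomial.map (Ideal.Quotient.mk I) h = h₀) := by
  refine ⟨fun hA => ⟨hA.jac, fun f hf g₀ h₀ hg₀ hh₀ hc hfg => ?_⟩, fun ⟨hI, h⟩ => ?_⟩
  · obtain ⟨g, h, h1, h2, h3, -, h4, h5⟩ :=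
      Hensel.exists_factorization_lift (Hensel.gabberRoots_of_henselianRing (I := I)) hA.jac hf hg₀ hh₀ hc hfg
    exact ⟨g, h, h1, h2, h3, h4, h5⟩
  · refine ⟨hI, fun f hf a₀ h₁ h₂ => ?_⟩
    rcases subsingleton_or_nontrivial (A ⧸ I) with hs | hs
    · have : Subsingleton A := subsingleton_of_zero_eq_one
        (isUnit_zero_iff.1 (Hensel.isUnit_of_mk hI (isUnit_of_subsingleton _)))
      exact ⟨a₀, Subsingleton.elim _ _, by simp⟩
    set a := Ideal.Quotient.mk I a₀ with ha
    set f₀ := Polynomial.map (Ideal.Quotient.mk I) f with hf₀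
    have hroot : f₀.IsRoot a := by
      rw [Polynomial.IsRoot.def, hf₀, Polynomial.eval_map, ha, Polynomial.eval₂_at_apply,
        Ideal.Quotient.eq_zero_iff_mem.2 h₁]
    obtain ⟨q, hq⟩ := Polynomial.dvd_iff_isRoot.2 hroot
    have hqm : q.Monic := (Polynomial.monic_X_sub_C a).of_mul_monic_left (hq ▸ hf.map _)
    obtain ⟨u, hu⟩ : IsUnit (q.eval a) := by
      have := congr(Polynomial.eval a (Polynomial.derivative $hq))
      rw [hf₀, Polynomial.derivative_map, Polynomial.eval_map, ha, Polynomial.eval₂_at_apply,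
        Polynomial.derivative_mul] at this
      simp [← ha] at this
      rwa [← this]
    obtain ⟨r, hr⟩ : (Polynomial.X - Polynomial.C a) ∣ (q - Polynomial.C (q.eval a)) :=
      Polynomial.dvd_iff_isRoot.2 (by simp)
    have hc : IsCoprime (Polynomial.X - Polynomial.C a) q := by
      refine ⟨-(Polynomial.C (↑u⁻¹ : A ⧸ I)) * r, Polynomial.C (↑u⁻¹ : A ⧸ I), ?_⟩
      have h2 : Polynomial.C (↑u⁻¹ : A ⧸ I) * Polynomial.C (q.eval a) = 1 := by
        rw [← map_mul, ← hu, Units.inv_mul, map_one]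
      linear_combination Polynomial.C (↑u⁻¹ : A ⧸ I) * hr + h2
    obtain ⟨g, g', hg, -, rfl, hg', -⟩ := h f hf _ q (Polynomial.monic_X_sub_C a) hqm hc hq
    have hdeg : g.natDegree = 1 := by
      rw [← hg.natDegree_map (Ideal.Quotient.mk I), hg', Polynomial.natDegree_X_sub_C]
    refine ⟨-g.coeff 0, ?_, ?_⟩
    · rw [Polynomial.IsRoot.def, Polynomial.eval_mul, hg.eq_X_add_C hdeg]
      simp
    · rw [← Ideal.Quotient.eq, map_neg, ← Polynomial.coeff_map, hg']
      simp [ha]

end Groth.Agent.S0520
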