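import Groth.Statements.S0524
import Groth.Agent.Hensel.Pair

set_option autoImplicit false
universe u
open Hensel

namespace Groth.Agent.S0524

/-- (1) iff (5) with the uniqueness complement: `A` is Henselian at `I` exactly when `I` lies in the
Jacobson radical and, for every `n ≥ 1` and every polynomial `p` of degree at most `n` with all
coefficients in `I`, the polynomial `Tⁿ(T-1) + p` has exactly one root congruent to `1` modulo `I`. -/
theorem result (A : Type u) [CommRing A] (I : Ideal A) :
    HenselianRing A I ↔ (I ≤ Ideal.jacobson ⊥ ∧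
      ∀ (n : ℕ), 0 < n → ∀ p : Polynomial A, p.natDegree ≤ n → (∀ i, p.coeff i ∈ I) →
        ∃! α : A, α - 1 ∈ I ∧
          Polynomial.IsRoot (Polynomial.X ^ n * (Polynomial.X - 1) + p) α) := by
  refine ⟨fun hA => ⟨hA.jac, fun n hn p hd hp => ?_⟩, fun ⟨hI, h⟩ =>
    Hensel.henselianRing_of_gabberRoots hI fun n hn p hd hp => (h n hn p hd hp).exists⟩
  obtain ⟨α, hα, hroot⟩ := Hensel.gabberRoots_of_henselianRing (I := I) n hn p hd hp
  refine ⟨α, ⟨hα, hroot⟩, fun β ⟨hβ, hβroot⟩ => ?_⟩
  refine Hensel.root_eq_of_sub_mem hA.jac hβroot hroot ?_ (by simpa using I.sub_mem hα hβ)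
  refine Hensel.isUnit_of_mk hA.jac ?_
  have hmap : Polynomial.map (Ideal.Quotient.mk I) p = 0 := by
    ext i; simp [Ideal.Quotient.eq_zero_iff_mem, hp i]
  rw [← Polynomial.eval₂_at_apply, ← Polynomial.eval_map, ← Polynomial.derivative_map,
    (Ideal.Quotient.eq.2 hβ).trans (map_one _)]
  simp [hmap]

end Groth.Agent.S0524
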