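import Groth.Statements.S0529
import Groth.Agent.Hensel.Pair
import Mathlib.Algebra.Group.Pi.Units

set_option autoImplicit false
universe u
open Hensel

namespace Groth.Agent.S0529

/-- A product of rings, with the product ideal, is Henselian exactly when every factor is Henselian at
its ideal. -/
theorem result (J : Type u) (A : J → Type u) [∀ j, CommRing (A j)]
    (I : ∀ j, Ideal (A j)) :
    HenselianRing (∀ j, A j) (⨅ j, Ideal.comap (Pi.evalRingHom A j) (I j)) ↔
      ∀ j, HenselianRing (A j) (I j) := by
  classical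
  set K := ⨅ j, Ideal.comap (Pi.evalRingHom A j) (I j) with hK
  have hmem : ∀ x : ∀ j, A j, x ∈ K ↔ ∀ j, x j ∈ I j := fun x => by simp [hK, Ideal.mem_iInf]
  constructor
  · intro h j
    let B := A j
    letI : Algebra (∀ i, A i) (A j) := (Pi.evalRingHom A j).toAlgebra
    have hs : Function.Surjective (algebraMap (∀ i, A i) (A j)) :=
      fun x => ⟨Function.update 0 j x, Function.update_self j x _⟩
    haveI : Algebra.IsIntegral (∀ i, A i) (A j) :=
      ⟨fun b => by obtain ⟨a, rfl⟩ := hs b; exact isIntegral_algebraMap⟩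
    have hmap : K.map (algebraMap (∀ i, A i) (A j)) = I j := by
      refine le_antisymm (Ideal.map_le_iff_le_comap.2 fun x hx => (hmem x).1 hx j) fun x hx => ?_
      rw [show x = Pi.evalRingHom A j (Function.update 0 j x) from (Function.update_self j x _).symm]
      refine Ideal.mem_map_of_mem _ ((hmem _).2 fun i => ?_)
      rcases eq_or_ne i j with rfl | hne
      · rwa [Function.update_self]
      · rw [Function.update_of_ne hne]; exact zero_mem _
    exact hmap ▸ Hensel.henselianRing_of_isIntegral (A j)
  · intro h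
    refine ⟨fun x hx => Ideal.mem_jacobson_bot.2 fun y => Pi.isUnit_iff.2 fun j =>
      Ideal.mem_jacobson_bot.1 ((h j).jac ((hmem x).1 hx j)) (y j), fun f hf a₀ h₁ h₂ => ?_⟩
    have hev : ∀ j (g : Polynomial (∀ i, A i)) (x : ∀ i, A i),
        (g.map (Pi.evalRingHom A j)).eval (x j) = g.eval x j := fun j g x => by
      rw [Polynomial.eval_map, show x j = Pi.evalRingHom A j x from rfl, Polynomial.eval₂_at_apply]; rfl
    have hroot : ∀ j, ∃ a : A j, (f.map (Pi.evalRingHom A j)).IsRoot a ∧ a - a₀ j ∈ I j := fun j => by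
      refine (h j).is_henselian _ (hf.map _) (a₀ j) ?_ ?_
      · rw [hev]; exact (hmem _).1 h₁ j
      · rw [Polynomial.derivative_map, hev]
        obtain ⟨y, hy⟩ := h₂.exists_right_inv
        obtain ⟨y, rfl⟩ := Ideal.Quotient.mk_surjective y
        rw [← map_mul, ← map_one (Ideal.Quotient.mk _), Ideal.Quotient.eq] at hy
        refine IsUnit.of_mul_eq_one (Ideal.Quotient.mk (I j) (y j)) ?_
        rw [← map_mul, ← map_one (Ideal.Quotient.mk _), Ideal.Quotient.eq]
        exact (hmem _).1 hy j
    choose a ha ha' using hroot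
    refine ⟨a, funext fun j => ?_, (hmem _).2 ha'⟩
    rw [← hev]; exact ha j

end Groth.Agent.S0529
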