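import Groth.Statements.S0530
import Groth.Agent.Hensel.Pair

set_option autoImplicit false
universe u
open Hensel

namespace Groth.Agent.S0530

/-- If `A` is Henselian at `I` and `p` is a prime ideal of `A`, then the spectrum of `A/(p + I)` is
connected. -/
theorem result (A : Type u) [CommRing A] (I : Ideal A) [HenselianRing A I]
    (p : Ideal A) [p.IsPrime] : ConnectedSpace (PrimeSpectrum (A ⧸ p ⊔ I)) := by
  have hne : Nonempty (PrimeSpectrum (A ⧸ p ⊔ I)) := by
    rw [← not_isEmpty_iff, PrimeSpectrum.isEmpty_iff_subsingleton, Ideal.Quotient.subsingleton_iff]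
    intro h
    obtain ⟨M, hM, hpM⟩ := Ideal.exists_le_maximal p ‹p.IsPrime›.ne_top
    refine hM.ne_top (eq_top_iff.2 (h ▸ sup_le hpM (HenselianRing.jac.trans ?_)))
    exact sInf_le ⟨bot_le, hM⟩
  haveI : PreconnectedSpace (PrimeSpectrum (A ⧸ p ⊔ I)) := by
    rw [preconnectedSpace_iff_clopen]
    intro s hs
    obtain ⟨e, he, rfl⟩ := PrimeSpectrum.exists_idempotent_basicOpen_eq_of_isClopen hs
    obtain ⟨x, rfl⟩ := Ideal.Quotient.mk_surjective e
    have hx : Ideal.Quotient.mk p x * Ideal.Quotient.mk p x - Ideal.Quotient.mk p x ∈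
        I.map (algebraMap A (A ⧸ p)) := by
      rw [← map_mul, ← map_sub, Ideal.Quotient.algebraMap_eq,
        Ideal.mem_quotient_iff_mem_sup, sup_comm]
      exact Ideal.Quotient.eq.1 (by rw [map_mul]; exact he.eq)
    obtain ⟨e', he', he''⟩ := Hensel.exists_isIdempotentElem_lift' (I := I) hx
    have key : ∀ c : A, e' = Ideal.Quotient.mk p c →
        Ideal.Quotient.mk (p ⊔ I) x = Ideal.Quotient.mk (p ⊔ I) c := by
      intro c hc
      rw [hc, ← map_sub, Ideal.Quotient.algebraMap_eq, Ideal.mem_quotient_iff_mem_sup,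
        sup_comm] at he''
      exact (Ideal.Quotient.eq.2 he'').symm
    rcases IsIdempotentElem.iff_eq_zero_or_one.1 he' with h0 | h0
    · left; rw [key 0 (by rw [h0, map_zero]), map_zero]; simp
    · right; rw [key 1 (by rw [h0, map_one]), map_one]; simp
  exact ⟨hne⟩

end Groth.Agent.S0530
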