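import Groth.Statements.S0531
import Groth.Agent.Hensel.Pair

set_option autoImplicit false
universe u
open Hensel

namespace Groth.Agent.S0531

/-- Every ring has a largest ideal at which it is Henselian. -/
theorem result (A : Type u) [CommRing A] :
    ∃ I : Ideal A, HenselianRing A I ∧ ∀ J : Ideal A, HenselianRing A J → J ≤ I := by
  let S := {J : Ideal A | HenselianRing A J}
  have hne : S.Nonempty := ⟨⊥, Hensel.henselianRing_of_isNilpotent fun x hx => by simp_all⟩
  have hdir : DirectedOn (· ≤ ·) S := by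
    intro I hI J hJ
    haveI : HenselianRing A I := hI
    haveI : HenselianRing A J := hJ
    have := Hensel.henselianRing_quotient (I := J) I
    refine ⟨I ⊔ J, (Hensel.henselianRing_iff_of_le le_sup_left).2 ⟨‹_›, ?_⟩, le_sup_left, le_sup_right⟩
    rwa [Ideal.map_sup, Ideal.map_quotient_self, bot_sup_eq]
  have hjac : sSup S ≤ Ideal.jacobson ⊥ := sSup_le fun J hJ => (hJ : HenselianRing A J).jac
  refine ⟨sSup S, ⟨hjac, fun f hf a₀ h₁ h₂ => ?_⟩, fun J hJ => le_sSup hJ⟩
  obtain ⟨J, hJ, hmem⟩ := (Submodule.mem_sSup_of_directed hne hdir).1 h₁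
  obtain ⟨a, ha, ha'⟩ :=
    (hJ : HenselianRing A J).is_henselian f hf a₀ hmem ((Hensel.isUnit_of_mk hjac h₂).map _)
  exact ⟨a, ha, le_sSup (α := Ideal A) hJ ha'⟩

end Groth.Agent.S0531
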