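import Groth.Statements.S0535
import Groth.Agent.Hensel.Basic

set_option autoImplicit false
universe u
open Hensel

namespace Groth.Agent.S0535

/-- If `R` is Henselian at `I` and two finitely generated projective `R`-modules become isomorphic after
base change to `R/I`, then they are isomorphic. -/
theorem result (R : Type u) [CommRing R] (I : Ideal R)
    [HenselianRing R I] (P₁ P₂ : Type u) [AddCommGroup P₁] [Module R P₁] [AddCommGroup P₂]
    [Module R P₂] [Module.Finite R P₁] [Module.Projective R P₁] [Module.Finite R P₂]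
    [Module.Projective R P₂]
    (e : TensorProduct R (R ⧸ I) P₁ ≃ₗ[R ⧸ I] TensorProduct R (R ⧸ I) P₂) :
    Nonempty (P₁ ≃ₗ[R] P₂) := by
  let p₁ : P₁ →ₗ[R] TensorProduct R (R ⧸ I) P₁ := TensorProduct.mk R (R ⧸ I) P₁ 1
  let p₂ : P₂ →ₗ[R] TensorProduct R (R ⧸ I) P₂ := TensorProduct.mk R (R ⧸ I) P₂ 1
  have hs : ∀ (P : Type u) [AddCommGroup P] [Module R P],
      Function.Surjective (TensorProduct.mk R (R ⧸ I) P 1) := fun P _ _ =>
    TensorProduct.mk_surjective R P (R ⧸ I) Ideal.Quotient.mk_surjective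
  obtain ⟨a, ha⟩ := Module.projective_lifting_property p₂ ((e.restrictScalars R).toLinearMap.comp p₁) (hs P₂)
  have hker : ∀ (P : Type u) [AddCommGroup P] [Module R P],
      LinearMap.ker (TensorProduct.mk R (R ⧸ I) P 1) = I • (⊤ : Submodule R P) := fun P _ _ => by
    have h1 : LinearMap.ker (TensorProduct.mk R (R ⧸ I) P 1) = LinearMap.ker ((TensorProduct.quotTensorEquivQuotSMul P I).toLinearMap.comp
        (TensorProduct.mk R (R ⧸ I) P 1)) := by
      rw [LinearEquiv.ker_comp]
    rw [h1]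
    have h2 : (TensorProduct.quotTensorEquivQuotSMul P I).toLinearMap.comp (TensorProduct.mk R (R ⧸ I) P 1) =
        (I • (⊤ : Submodule R P)).mkQ := by
      ext x; simp
    rw [h2, Submodule.ker_mkQ]
  have hsurj : Function.Surjective a := by
    rw [← LinearMap.range_eq_top, eq_top_iff]
    refine Submodule.le_of_le_smul_of_le_jacobson_bot Module.Finite.fg_top (I := I) HenselianRing.jac fun y _ => ?_
    obtain ⟨x, hx⟩ := hs P₁ (e.symm (p₂ y))
    refine Submodule.mem_sup.2 ⟨a x, ⟨x, rfl⟩, y - a x, ?_, add_sub_cancel _ _⟩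
    rw [← hker P₂, LinearMap.mem_ker, map_sub, sub_eq_zero]
    have h1 : p₂ (a x) = e (p₁ x) := LinearMap.congr_fun ha x
    change p₂ y = p₂ (a x)
    rw [h1, show p₁ x = e.symm (p₂ y) from hx, e.apply_symm_apply]
  obtain ⟨b, hb⟩ := Module.projective_lifting_property a LinearMap.id hsurj
  have hb' : ∀ y, a (b y) = y := fun y => LinearMap.congr_fun hb y
  suffices hbs : Function.Surjective b by
    refine ⟨LinearEquiv.ofBijective a ⟨fun x y hxy => ?_, hsurj⟩⟩
    obtain ⟨x, rfl⟩ := hbs x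
    obtain ⟨y, rfl⟩ := hbs y
    rw [hb', hb'] at hxy; rw [hxy]
  rw [← LinearMap.range_eq_top, eq_top_iff]
  refine Submodule.le_of_le_smul_of_le_jacobson_bot Module.Finite.fg_top (I := I) HenselianRing.jac fun x _ => ?_
  refine Submodule.mem_sup.2 ⟨b (a x), ⟨_, rfl⟩, x - b (a x), ?_, add_sub_cancel _ _⟩
  rw [← hker P₁, LinearMap.mem_ker, map_sub, sub_eq_zero]
  refine e.injective ?_
  have h1 : ∀ z, p₂ (a z) = e (p₁ z) := fun z => LinearMap.congr_fun ha z
  change e (p₁ x) = e (p₁ (b (a x)))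
  rw [← h1, ← h1, hb']

end Groth.Agent.S0535
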