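import Groth.Statements.S0544
import Mathlib.RingTheory.AdicCompletion.Functoriality
import Mathlib.RingTheory.Finiteness.Cardinality
-- import your own Groth.Agent.* helpers here

set_option autoImplicit false
universe u
open CAlg

namespace Groth.Agent.S0544

lemma mem_smul_top_pi {R : Type*} [CommRing R] (J : Ideal R) {n : ℕ} (v : Fin n → R) :
    v ∈ (J • ⊤ : Submodule R (Fin n → R)) ↔ ∀ i, v i ∈ J := by
  refine ⟨fun h i => ?_, fun h => ?_⟩
  · refine Submodule.smul_induction_on h (fun a ha w _ => ?_) (fun a b ha hb => ?_)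
    · exact Ideal.mul_mem_right _ _ ha
    · exact add_mem ha hb
  · rw [pi_eq_sum_univ v]
    exact sum_mem fun i _ => Submodule.smul_mem_smul (h i) trivial

lemma isPrecomplete_pi {R : Type*} [CommRing R] (I : Ideal R) [IsPrecomplete I R] (n : ℕ) :
    IsPrecomplete I (Fin n → R) := by
  refine ⟨fun f hf => ?_⟩
  have : ∀ i, ∃ L, ∀ k, f k i ≡ L [SMOD (I ^ k • ⊤ : Submodule R R)] := fun i =>
    IsPrecomplete.prec' (fun k => f k i) fun {a b} hab => by
      rw [SModEq.sub_mem, smul_eq_mul, Ideal.mul_top]
      exact (mem_smul_top_pi _ _).mp (SModEq.sub_mem.mp (hf hab)) i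
  choose L hL using this
  refine ⟨L, fun k => SModEq.sub_mem.mpr ((mem_smul_top_pi _ _).mpr fun i => ?_)⟩
  have := SModEq.sub_mem.mp (hL i k)
  rwa [smul_eq_mul, Ideal.mul_top] at this

/-- Let `R` be complete with respect to an ideal `I` and `M` an `R`-module which is `I`-adically
separated and such that `M/IM` is finitely generated. Then `M` is a finitely generated `R`-module. -/
theorem result (R : Type u) [CommRing R]
    (I : Ideal R) [IsAdicComplete I R] (M : Type u) [AddCommGroup M] [Module R M] [IsHausdorff I M]
    (h : Module.Finite R (M ⧸ (I • ⊤ : Submodule R M))) : Module.Finite R M := by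
  obtain ⟨n, g, hg⟩ := Module.Finite.exists_fin' R (M ⧸ (I • ⊤ : Submodule R M))
  choose v hv using fun i => Submodule.mkQ_surjective (I • ⊤ : Submodule R M) (g (Pi.single i 1))
  have h2 : Function.Surjective (Submodule.mkQ (I • ⊤ : Submodule R M) ∘ₗ Fintype.linearCombination R v) := by
    have : Submodule.mkQ (I • ⊤ : Submodule R M) ∘ₗ Fintype.linearCombination R v = g := by
      ext i
      simp [hv]
    rw [this]
    exact hg
  have := isPrecomplete_pi I n
  exact Module.Finite.of_surjective _ (surjective_of_mkQ_comp_surjective h2)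

end Groth.Agent.S0544
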