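import Groth.Statements.S0546
import Mathlib.RingTheory.AdicCompletion.Basic
import Mathlib.RingTheory.Finiteness.Ideal
-- import your own Groth.Agent.* helpers here

set_option autoImplicit false
universe u
open CAlg

namespace Groth.Agent.S0546

/-- If `I ≤ J` are ideals with `I` finitely generated and `M` is `J`-adically complete, then `M` is
`I`-adically complete. -/
theorem result (A : Type u) [CommRing A] (I J : Ideal A) (hIJ : I ≤ J)
    (hI : I.FG) (M : Type u) [AddCommGroup M] [Module A M] [IsAdicComplete J M] :
    IsAdicComplete I M := by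
  classical
  refine { haus' := ?_, prec' := ?_ }
  · intro x hx
    exact IsHausdorff.haus (I := J) inferInstance x fun n =>
      SModEq.mono (Submodule.smul_mono (Ideal.pow_right_mono hIJ n) le_rfl) (hx n)
  · intro f hf
    have hmono : ∀ n, (I ^ n • ⊤ : Submodule A M) ≤ J ^ n • ⊤ := fun n =>
      Submodule.smul_mono (Ideal.pow_right_mono hIJ n) le_rfl
    obtain ⟨L, hL⟩ := IsPrecomplete.prec (I := J) inferInstance (f := f)
      (fun {m n} hmn => SModEq.mono (hmono m) (hf hmn))
    refine ⟨L, fun n => ?_⟩
    obtain ⟨T, hT⟩ := (hI.pow : (I ^ n).FG)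
    have hdec : ∀ k, ∃ y : T → M, (∀ g, y g ∈ (I ^ k • ⊤ : Submodule A M)) ∧
        f (n + k + 1) - f (n + k) = ∑ g : T, (g : A) • y g := by
      intro k
      have h1 : f (n + k + 1) - f (n + k) ∈ Ideal.span (T : Set A) • (I ^ k • ⊤ : Submodule A M) := by
        rw [show Ideal.span (T : Set A) = I ^ n from hT, ← Submodule.mul_smul, ← pow_add]
        exact SModEq.sub_mem.mp (hf (Nat.le_succ (n + k))).symm
      refine Submodule.smul_induction_on h1 (fun r hr m hm => ?_) ?_
      · obtain ⟨c, hc⟩ := Submodule.mem_span_finset'.mp hr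
        refine ⟨fun g => c g • m, fun g => Submodule.smul_mem _ _ hm, ?_⟩
        rw [← hc, Finset.sum_smul]
        exact Finset.sum_congr rfl fun g _ => by rw [smul_eq_mul, mul_comm, mul_smul]
      · rintro u v ⟨y, hy, rfl⟩ ⟨z, hz, rfl⟩
        exact ⟨y + z, fun g => Submodule.add_mem _ (hy g) (hz g), by
          simp [smul_add, Finset.sum_add_distrib]⟩
    choose y hy hy' using hdec
    let s : T → ℕ → M := fun g K => ∑ k ∈ Finset.range K, y k g
    have hs : ∀ (g : T) {a b : ℕ}, a ≤ b → s g a ≡ s g b [SMOD (J ^ a • ⊤ : Submodule A M)] := by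
      intro g a b hab
      rw [SModEq.sub_mem]
      obtain ⟨d, rfl⟩ := Nat.exists_eq_add_of_le hab
      rw [← neg_mem_iff, neg_sub]
      simp only [s, Finset.sum_range_add_sub_sum_range]
      refine Submodule.sum_mem _ fun k _ => ?_
      exact Submodule.smul_mono_left (Ideal.pow_le_pow_right (Nat.le_add_right a k)) (hmono _ (hy (a + k) g))
    choose Y hY using fun g : T => IsPrecomplete.prec (I := J) inferInstance (f := s g) (hs g)
    have htel : ∀ K, f (n + K) - f n = ∑ g : T, (g : A) • s g K := by
      intro K
      induction K with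
      | zero => simp [s]
      | succ K ih =>
        simp only [s, Finset.sum_range_succ, smul_add, Finset.sum_add_distrib] at ih ⊢
        rw [← ih, ← hy' K]
        rw [show n + (K + 1) = n + K + 1 from rfl]
        abel
    have key : L - f n - ∑ g : T, (g : A) • Y g = 0 := by
      refine IsHausdorff.haus (I := J) inferInstance _ fun K => SModEq.zero.mpr ?_
      have e1 : L - f n - ∑ g : T, (g : A) • Y g =
          (L - f (n + K)) + ∑ g : T, (g : A) • (s g K - Y g) := by
        simp only [smul_sub, Finset.sum_sub_distrib]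
        rw [← htel K]
        abel
      rw [e1]
      refine Submodule.add_mem _ ?_ (Submodule.sum_mem _ fun g _ =>
        Submodule.smul_mem _ _ (SModEq.sub_mem.mp (hY g K)))
      exact Submodule.smul_mono_left (Ideal.pow_le_pow_right (Nat.le_add_left K n))
        (SModEq.sub_mem.mp (hL (n + K)).symm)
    rw [sub_eq_zero] at key
    rw [SModEq.sub_mem, ← neg_mem_iff, neg_sub, key]
    exact Submodule.sum_mem _ fun g _ => Submodule.smul_mem_smul (hT ▸ Submodule.subset_span g.2) Submodule.mem_top

end Groth.Agent.S0546
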