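import Groth.Statements.S0551
import Groth.Agent.CAlgA.ComplFlatLimit
import Groth.Agent.LocFlat.Basic
import Groth.Agent.RegLoc.AdicNoeth
import Mathlib.RingTheory.AdicCompletion.Completeness
import Mathlib.RingTheory.AdicCompletion.Algebra
import Mathlib.RingTheory.IsTensorProduct
-- import your own Groth.Agent.* helpers here

set_option autoImplicit false
universe u
open CAlg

namespace Groth.Agent.S0551

open TensorProduct Function Groth.Agent.CAlgA.ComplFlatLimit

variable {R : Type u} [CommRing R] (I : Ideal R) (M : Type u) [AddCommGroup M] [Module R M]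

local notation "Â" => AdicCompletion I R
local notation "J" => Ideal.map (algebraMap R (AdicCompletion I R)) I

variable {I M}

/-- Powers of the extended ideal, on an arbitrary module over the completion. -/
lemma mem_map_pow_smul_iff {P : Type u} [AddCommGroup P] [Module R P] [Module Â P] [IsScalarTower R Â P]
    (n : ℕ) (x : P) : x ∈ J ^ n • (⊤ : Submodule Â P) ↔ x ∈ I ^ n • (⊤ : Submodule R P) := by
  rw [← Ideal.map_pow, ← Submodule.restrictScalars_mem R, Ideal.smul_restrictScalars, Submodule.restrictScalars_top]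

lemma mem_map_pow_smul_iff_eval (hI : I.FG) (n : ℕ) (x : AdicCompletion I M) :
    x ∈ J ^ n • (⊤ : Submodule Â (AdicCompletion I M)) ↔ AdicCompletion.eval I M n x = 0 := by
  rw [mem_map_pow_smul_iff, AdicCompletion.pow_smul_top_eq_ker_eval hI, LinearMap.mem_ker]

/-- Elements of the completion are congruent to elements of `R`. -/
lemma exists_sub_algebraMap_mem (hI : I.FG) (n : ℕ) (a : Â) : ∃ r : R, a - algebraMap R Â r ∈ J ^ n := by
  obtain ⟨r, hr⟩ := Submodule.Quotient.mk_surjective _ (AdicCompletion.eval I R n a)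
  refine ⟨r, ?_⟩
  have h : a - algebraMap R Â r ∈ I ^ n • (⊤ : Submodule R Â) := by
    rw [AdicCompletion.pow_smul_top_eq_ker_eval hI, LinearMap.mem_ker, map_sub, sub_eq_zero, ← hr]
    rfl
  rw [← Ideal.map_pow]
  refine Submodule.smul_induction_on h (fun s hs y _ => ?_) fun y z hy hz => add_mem hy hz
  rw [Algebra.smul_def]
  exact Ideal.mul_mem_right _ _ (Ideal.mem_map_of_mem _ hs)

variable (I M) in
/-- The comparison map from the base change to the completion. -/
noncomputable def comparison : (Â ⊗[R] M) →ₗ[Â] AdicCompletion I M :=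
  (AdicCompletion.of I M).liftBaseChange Â

lemma comparison_one_tmul (m : M) : comparison I M (1 ⊗ₜ m) = AdicCompletion.of I M m := by
  simp [comparison]

lemma comparison_mod (hI : I.FG) (n : ℕ) :
    (∀ x : AdicCompletion I M, ∃ p, x - comparison I M p ∈ J ^ n • (⊤ : Submodule Â (AdicCompletion I M))) ∧
    ∀ p, comparison I M p ∈ J ^ n • (⊤ : Submodule Â (AdicCompletion I M)) →
      p ∈ J ^ n • (⊤ : Submodule Â (Â ⊗[R] M)) := by
  have hdec : ∀ p : Â ⊗[R] M, ∃ m : M, p - 1 ⊗ₜ m ∈ J ^ n • (⊤ : Submodule Â (Â ⊗[R] M)) := by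
    intro p
    induction p with
    | zero => exact ⟨0, by simp⟩
    | add a b ha hb =>
      obtain ⟨m, hm⟩ := ha
      obtain ⟨m', hm'⟩ := hb
      refine ⟨m + m', ?_⟩
      rw [tmul_add, add_sub_add_comm]
      exact add_mem hm hm'
    | tmul a m =>
      obtain ⟨r, hr⟩ := exists_sub_algebraMap_mem hI n a
      refine ⟨r • m, ?_⟩
      have : a ⊗ₜ[R] m - 1 ⊗ₜ (r • m) = (a - algebraMap R Â r) • ((1 : Â) ⊗ₜ[R] m) := by
        rw [smul_tmul', smul_eq_mul, mul_one, sub_tmul, Algebra.algebraMap_eq_smul_one, smul_tmul]
      rw [this]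
      exact Submodule.smul_mem_smul hr trivial
  constructor
  · intro x
    obtain ⟨m, hm⟩ := Submodule.Quotient.mk_surjective _ (AdicCompletion.eval I M n x)
    refine ⟨1 ⊗ₜ m, (mem_map_pow_smul_iff_eval hI n _).2 ?_⟩
    rw [comparison_one_tmul, map_sub, AdicCompletion.eval_of, Submodule.mkQ_apply, hm, sub_self]
  · intro p hp
    obtain ⟨m, hm⟩ := hdec p
    have h1 := sub_mem hp (map_mem_smul_top _ (comparison I M) hm)
    rw [map_sub, sub_sub_cancel, comparison_one_tmul, mem_map_pow_smul_iff_eval hI, AdicCompletion.eval_of,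
      Submodule.mkQ_apply, Submodule.Quotient.mk_eq_zero] at h1
    have h2 : (1 : Â) ⊗ₜ[R] m ∈ J ^ n • (⊤ : Submodule Â (Â ⊗[R] M)) :=
      (mem_map_pow_smul_iff n _).2 (Submodule.smul_top_le_comap_smul_top _ (TensorProduct.mk R Â M 1) h1)
    simpa using add_mem hm h2

lemma rTensor_injective (hI : I.FG) (h2 : Module.Flat (R ⧸ I) ((R ⧸ I) ⊗[R] M))
    (h1 : Injective (LinearMap.rTensor M I.subtype)) (n : ℕ) {X Y : Type u}
    [AddCommGroup X] [Module Â X] [Module R X] [IsScalarTower R Â X]
    [AddCommGroup Y] [Module Â Y] [Module R Y] [IsScalarTower R Â Y]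
    (a : X →ₗ[Â] Y) (ha : Injective a) (hY : J ^ n • (⊤ : Submodule Â Y) = ⊥) :
    Injective (a.rTensor (AdicCompletion I M)) := by
  have hY' : I ^ n • (⊤ : Submodule R Y) = ⊥ := by
    rw [eq_bot_iff]
    intro y hy
    rw [← mem_map_pow_smul_iff, hY] at hy
    exact hy
  have hX : J ^ n • (⊤ : Submodule Â X) = ⊥ := by
    rw [eq_bot_iff]
    intro x hx
    have := map_mem_smul_top _ a hx
    rw [hY, Submodule.mem_bot] at this
    exact (Submodule.mem_bot _).2 (ha (this.trans (map_zero a).symm))
  have hinj := Groth.Agent.LocFlat.inj_of_pow M I h1 h2 n X Y (a.restrictScalars R) ha hY'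
  have hbX := lTensor_bijective_of_mod _ X hX _ (comparison_mod (M := M) hI n).1 (comparison_mod hI n).2
  have hbY := lTensor_bijective_of_mod _ Y (N := AdicCompletion I M) hY _
    (comparison_mod (M := M) hI n).1 (comparison_mod hI n).2
  have hcomm : ∀ z : X ⊗[Â] (Â ⊗[R] M),
      AlgebraTensorModule.cancelBaseChange R Â Â Y M (a.rTensor _ z) =
        (a.restrictScalars R).rTensor M (AlgebraTensorModule.cancelBaseChange R Â Â X M z) := by
    intro z
    induction z with
    | zero => simp
    | add u v hu hv => simp only [map_add, hu, hv]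
    | tmul x w =>
      induction w with
      | zero => simp
      | add u v hu hv => simp only [tmul_add, map_add, hu, hv]
      | tmul c m => simp
  intro x y hxy
  obtain ⟨x, rfl⟩ := hbX.2 x
  obtain ⟨y, rfl⟩ := hbX.2 y
  rw [← LinearMap.comp_apply, ← LinearMap.comp_apply (f := a.rTensor _), LinearMap.rTensor_comp_lTensor,
    ← LinearMap.lTensor_comp_rTensor, LinearMap.comp_apply, LinearMap.comp_apply] at hxy
  have h := congrArg (AlgebraTensorModule.cancelBaseChange R Â Â Y M) (hbY.1 hxy)
  rw [hcomm, hcomm] at h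
  rw [(AlgebraTensorModule.cancelBaseChange R Â Â X M).injective (hinj h)]

/-- Let `R` be a ring, `I` a finitely generated ideal with `R/I` Noetherian, and `M` an `R`-module such
that `M/IM` is flat over `R/I` and the multiplication map `I ⊗ M → M` is injective (the vanishing of
the first Tor of `M` against `R/I`). Then the `I`-adic completion of `M` is flat over the `I`-adic
completion of `R`. (The published statement also records that the completed ring is Noetherian; that
is stated separately.) -/
theorem result (R : Type u) [CommRing R] (I : Ideal R) (hI : I.FG)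
    [IsNoetherianRing (R ⧸ I)] (M : Type u) [AddCommGroup M] [Module R M]
    [Module.Flat (R ⧸ I) (M ⧸ (I • ⊤ : Submodule R M))]
    (hT : Function.Injective (TensorProduct.lift ((LinearMap.lsmul R M).comp (Submodule.subtype I)))) :
    Module.Flat (AdicCompletion I R) (AdicCompletion I M) := by
  haveI := RegLoc.AdicNoeth.isNoetherianRing_adicCompletion I hI
  haveI : IsAdicComplete I (AdicCompletion I M) := AdicCompletion.isAdicComplete hI
  haveI : IsAdicComplete (I.map (algebraMap R (AdicCompletion I R))) (AdicCompletion I M) :=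
    { toIsHausdorff := IsHausdorff.map_algebraMap_iff.2 inferInstance
      toIsPrecomplete := IsPrecomplete.map_algebraMap_iff.2 inferInstance }
  have h1 : Injective (LinearMap.rTensor M I.subtype) := by
    have : TensorProduct.lift ((LinearMap.lsmul R M).comp (Submodule.subtype I)) =
        (TensorProduct.lid R M).toLinearMap ∘ₗ LinearMap.rTensor M I.subtype :=
      TensorProduct.ext' fun x y => by simp
    rw [this, LinearMap.coe_comp] at hT
    exact hT.of_comp
  have h2 : Module.Flat (R ⧸ I) ((R ⧸ I) ⊗[R] M) :=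
    Module.Flat.of_linearEquiv ((TensorProduct.quotTensorEquivQuotSMul M I).extendScalarsOfSurjective
      (S := R ⧸ I) Ideal.Quotient.mk_surjective)
  refine FlatModPow.flat (I := I.map (algebraMap R (AdicCompletion I R))) ?_
  intro n X Y _ _ _ _ a ha hY
  letI : Module R X := Module.compHom X (algebraMap R (AdicCompletion I R))
  letI : Module R Y := Module.compHom Y (algebraMap R (AdicCompletion I R))
  haveI : IsScalarTower R (AdicCompletion I R) X := IsScalarTower.of_algebraMap_smul fun _ _ => rfl
  haveI : IsScalarTower R (AdicCompletion I R) Y := IsScalarTower.of_algebraMap_smul fun _ _ => rfl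
  exact rTensor_injective hI h2 h1 n a ha hY

end Groth.Agent.S0551
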