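import Groth.Statements.S0552
import Groth.Agent.PtTop.Catenary
-- import your own Groth.Agent.* helpers here

set_option autoImplicit false
universe u
open CAlg

namespace Groth.Agent.S0552

/-- A ring is catenary exactly when its localization at every maximal ideal is catenary. -/
theorem result (R : Type u) [CommRing R] :
    CAlg.IsCatenary R ↔ ∀ (m : Ideal R) [m.IsMaximal], CAlg.IsCatenary (Localization.AtPrime m) := by
  constructor
  · intro h m _
    exact Groth.Agent.PtTop.Catenary.isCatenary_of_isLocalization m.primeCompl _ h
  · intro h
    refine Groth.Agent.PtTop.Catenary.cat_of_cover.{u, u} fun p q hpq => ?_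
    obtain ⟨m, hm, hqm⟩ := Ideal.exists_le_maximal q.asIdeal q.2.ne_top
    have hr := Groth.Agent.PtTop.Catenary.range_locEmb m.primeCompl (Localization.AtPrime m)
    have hd : ∀ x : PrimeSpectrum R, x.asIdeal ≤ m →
        x ∈ Set.range (Groth.Agent.PtTop.Catenary.locEmb m.primeCompl (Localization.AtPrime m)) := fun x hx => by
      rw [hr]
      exact Set.disjoint_left.mpr fun a ha hax => ha (hx hax)
    exact ⟨PrimeSpectrum (Localization.AtPrime m), _,
      Groth.Agent.PtTop.Catenary.locEmb m.primeCompl (Localization.AtPrime m),
      Groth.Agent.PtTop.Catenary.ordConnected_range_locEmb _ _,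
      hd p (le_trans hpq hqm), hd q hqm, h m⟩

end Groth.Agent.S0552
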