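import Groth.Statements.S0553
import Groth.Agent.PtTop.Catenary
import Mathlib.RingTheory.RingHom.FiniteType
-- import your own Groth.Agent.* helpers here

set_option autoImplicit false
universe u
open CAlg

namespace Groth.Agent.S0553

/-- A Noetherian ring is universally catenary exactly when its localization at every maximal ideal is
universally catenary. -/
theorem result (R : Type u) [CommRing R]
    [IsNoetherianRing R] :
    CAlg.IsUniversallyCatenary R ↔
      ∀ (m : Ideal R) [m.IsMaximal], CAlg.IsUniversallyCatenary (Localization.AtPrime m) := by
  constructor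
  · intro h m _
    refine ⟨inferInstance, fun S _ _ hS => ?_⟩
    classical
    obtain ⟨s, hs⟩ := hS.out
    let _ : Algebra R S := ((algebraMap (Localization.AtPrime m) S).comp (algebraMap R _)).toAlgebra
    have : IsScalarTower R (Localization.AtPrime m) S := .of_algebraMap_eq' rfl
    let S₀ := Algebra.adjoin R (s : Set S)
    have : Algebra.FiniteType R S₀ := (Subalgebra.fg_iff_finiteType _).mp (Subalgebra.fg_adjoin_finset s)
    let M := Algebra.algebraMapSubmonoid S₀ m.primeCompl
    have hu : ∀ t : m.primeCompl, IsUnit (algebraMap R S t) := fun t => by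
      rw [IsScalarTower.algebraMap_apply R (Localization.AtPrime m) S]
      exact (IsLocalization.map_units _ t).map _
    have : IsLocalization M S := by
      refine (isLocalization_iff _ _).mpr ⟨?_, fun z => ?_, fun {x y} hxy => ⟨1, ?_⟩⟩
      · rintro ⟨_, t, ht, rfl⟩
        exact hu ⟨t, ht⟩
      · have hz : z ∈ Algebra.adjoin (Localization.AtPrime m) (s : Set S) := hs ▸ Algebra.mem_top
        obtain ⟨t, ht⟩ : ∃ t : m.primeCompl, algebraMap R S t * z ∈ S₀ := by
          induction hz using Algebra.adjoin_induction with
          | mem x hx => exact ⟨1, by simpa using Algebra.subset_adjoin hx⟩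
          | algebraMap a =>
            obtain ⟨r, t, rfl⟩ := IsLocalization.exists_mk'_eq m.primeCompl a
            refine ⟨t, ?_⟩
            rw [IsScalarTower.algebraMap_apply R (Localization.AtPrime m) S, ← map_mul,
              mul_comm, IsLocalization.mk'_spec, ← IsScalarTower.algebraMap_apply]
            exact S₀.algebraMap_mem r
          | add a b _ _ ha hb =>
            obtain ⟨t, ht⟩ := ha
            obtain ⟨t', ht'⟩ := hb
            refine ⟨t * t', ?_⟩
            rw [Submonoid.coe_mul, map_mul, show algebraMap R S t * algebraMap R S t' * (a + b) =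
              algebraMap R S t' * (algebraMap R S t * a) + algebraMap R S t * (algebraMap R S t' * b) by ring]
            exact add_mem (mul_mem (S₀.algebraMap_mem _) ht) (mul_mem (S₀.algebraMap_mem _) ht')
          | mul a b _ _ ha hb =>
            obtain ⟨t, ht⟩ := ha
            obtain ⟨t', ht'⟩ := hb
            refine ⟨t * t', ?_⟩
            rw [Submonoid.coe_mul, map_mul, show algebraMap R S t * algebraMap R S t' * (a * b) =
              (algebraMap R S t * a) * (algebraMap R S t' * b) by ring]
            exact mul_mem ht ht'
        exact ⟨(⟨_, ht⟩, ⟨algebraMap R S₀ t, ⟨t, t.2, rfl⟩⟩), mul_comm z _⟩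
      · simpa using Subtype.ext hxy
    exact Groth.Agent.PtTop.Catenary.isCatenary_of_isLocalization M S (h.2 S₀ inferInstance)
  · intro h
    refine ⟨inferInstance, fun S _ _ hS => ?_⟩
    refine Groth.Agent.PtTop.Catenary.cat_of_cover.{u, u} fun p q hpq => ?_
    obtain ⟨m, hm, hqm⟩ := Ideal.exists_le_maximal (q.asIdeal.comap (algebraMap R S))
      (Ideal.comap_ne_top _ q.2.ne_top)
    let M := Algebra.algebraMapSubmonoid S m.primeCompl
    have : IsLocalization (m.primeCompl.map (algebraMap R S)) (Localization M) :=
      inferInstanceAs (IsLocalization M (Localization M))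
    let f : Localization.AtPrime m →+* Localization M :=
      IsLocalization.map (Localization M) (algebraMap R S) (m.primeCompl.le_comap_map)
    let _ := f.toAlgebra
    have hft : f.FiniteType := RingHom.finiteType_localizationPreserves (algebraMap R S) m.primeCompl
      (Localization.AtPrime m) (Localization M) (RingHom.finiteType_algebraMap.mpr hS)
    have hd : ∀ x : PrimeSpectrum S, x.asIdeal.comap (algebraMap R S) ≤ m →
        x ∈ Set.range (Groth.Agent.PtTop.Catenary.locEmb M (Localization M)) := fun x hx => by
      rw [Groth.Agent.PtTop.Catenary.range_locEmb]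
      refine Set.disjoint_left.mpr ?_
      rintro _ ⟨a, ha, rfl⟩ hax
      exact ha (hx hax)
    exact ⟨PrimeSpectrum (Localization M), _, Groth.Agent.PtTop.Catenary.locEmb M (Localization M),
      Groth.Agent.PtTop.Catenary.ordConnected_range_locEmb _ _,
      hd p (le_trans (Ideal.comap_mono hpq) hqm), hd q hqm,
      (h m).2 (Localization M) hft⟩

end Groth.Agent.S0553
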