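import Groth.Statements.S0561
import Groth.Agent.RegLoc.Basic
-- import your own Groth.Agent.* helpers here

set_option autoImplicit false
universe u
open CAlg

namespace Groth.Agent.S0561

/-- Let `R` be a regular local ring of dimension `d` and `I` an ideal with `R/I` a regular local ring.
Then there are elements `x₁, …, x_d` generating the maximal ideal such that `I` is generated by `x₁,
…, x_c` for some `c ≤ d`. -/
theorem result (R : Type u) [CommRing R]
    [IsRegularLocalRing R] (d : ℕ) (hd : ringKrullDim R = d) (I : Ideal R)
    [IsRegularLocalRing (R ⧸ I)] :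
    ∃ (x : Fin d → R) (c : ℕ) (hc : c ≤ d), Ideal.span (Set.range x) = IsLocalRing.maximalIdeal R ∧
      I = Ideal.span (Set.range (fun i : Fin c => x (Fin.castLE hc i))) := by
  classical
  obtain ⟨s, t, hs, hst, hcard⟩ := RegLoc.exists_finset_span_eq_of_quotient hd I
  obtain rfl := hcard
  let xs : Fin s.card → R := fun i => (s.equivFin.symm i : R)
  let xt : Fin t.card → R := fun i => (t.equivFin.symm i : R)
  have hrs : Set.range xs = (s : Set R) := by
    rw [show xs = Subtype.val ∘ s.equivFin.symm from rfl, Set.range_comp,
      Equiv.range_eq_univ, Set.image_univ, Subtype.range_coe_subtype]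
    rfl
  have hrt : Set.range xt = (t : Set R) := by
    rw [show xt = Subtype.val ∘ t.equivFin.symm from rfl, Set.range_comp,
      Equiv.range_eq_univ, Set.image_univ, Subtype.range_coe_subtype]
    rfl
  refine ⟨Fin.append xs xt, s.card, Nat.le_add_right _ _, ?_, ?_⟩
  · rw [← hst, ← Ideal.span_union, ← hrs, ← hrt]
    congr 1
    ext z
    simp only [Set.mem_union, Set.mem_range]
    constructor
    · rintro ⟨i, rfl⟩
      induction i using Fin.addCases with
      | left i => exact Or.inl ⟨i, (Fin.append_left _ _ i).symm⟩
      | right i => exact Or.inr ⟨i, (Fin.append_right _ _ i).symm⟩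
    · rintro (⟨i, rfl⟩ | ⟨i, rfl⟩)
      · exact ⟨_, Fin.append_left _ _ i⟩
      · exact ⟨_, Fin.append_right _ _ i⟩
  · conv_lhs => rw [← hs, ← hrs]
    congr 2
    funext i
    rw [show Fin.castLE (Nat.le_add_right s.card t.card) i = Fin.castAdd t.card i from rfl,
      Fin.append_left]

end Groth.Agent.S0561
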