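import Groth.Statements.S0574
import Groth.Agent.RegLoc.N1
import Mathlib.RingTheory.DedekindDomain.IntegralClosure
-- import your own Groth.Agent.* helpers here

set_option autoImplicit false
universe u
open CAlg

namespace Groth.Agent.S0574

/-- For Noetherian domains of characteristic zero the conditions N-1 and N-2 coincide. -/
theorem result (R : Type u) [CommRing R] [IsDomain R] [IsNoetherianRing R]
    [CharZero R] : CAlg.IsN1 R ↔ CAlg.IsN2 R := by
  constructor
  · intro h L _ _ _ _ hfd
    haveI := hfd
    let K := FractionRing R
    let R' := integralClosure R K
    haveI : Module.Finite R R' := h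
    haveI : IsFractionRing R' K := integralClosure.isFractionRing_of_finite_extension K K
    haveI : IsIntegrallyClosed R' := integralClosure.isIntegrallyClosedOfFiniteExtension K
    haveI : IsNoetherianRing R' := IsNoetherianRing.of_finite R R'
    haveI : CharZero K := charZero_of_injective_algebraMap (IsFractionRing.injective R K)
    haveI : Algebra.IsSeparable K L := inferInstance
    haveI : IsScalarTower R' K L := inferInstance
    haveI : IsScalarTower R R' L := inferInstance
    haveI : Algebra.IsIntegral R R' := Algebra.IsIntegral.of_finite R R'
    haveI : Module.Finite R' (integralClosure R' L) :=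
      IsIntegralClosure.finite R' K L (integralClosure R' L)
    haveI : Module.Finite R (integralClosure R' L) := Module.Finite.trans R' _
    let e : (integralClosure R' L) →ₗ[R] integralClosure R L :=
      { toFun := fun x => ⟨x, isIntegral_trans (x : L) x.2⟩
        map_add' := fun _ _ => rfl
        map_smul' := fun _ _ => rfl }
    refine Module.Finite.of_surjective e fun x => ⟨⟨x, ?_⟩, rfl⟩
    exact (x.2 : IsIntegral R (x : L)).tower_top
  · intro h
    exact h (FractionRing R) inferInstance

end Groth.Agent.S0574
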