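import Groth.Statements.S0577
import Groth.Agent.Nagata.CompleteLocal
-- import your own Groth.Agent.* helpers here

set_option autoImplicit false
universe u
open CAlg

namespace Groth.Agent.S0577

/-- Let `A` be a Noetherian local domain of prime characteristic `p` which is a Nagata ring. If `a ∈ A`
has a `p`-th root in the completion of `A`, then it has a `p`-th root in `A`. -/
theorem result (A : Type u) [CommRing A] [IsDomain A]
    [IsLocalRing A] (hA : CAlg.IsNagata A) (p : ℕ) [Fact p.Prime] [CharP A p] (a : A)
    (h : ∃ α : AdicCompletion (IsLocalRing.maximalIdeal A) A,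
      α ^ p = algebraMap A (AdicCompletion (IsLocalRing.maximalIdeal A) A) a) :
    ∃ b : A, b ^ p = a := by
  classical
  have hp := Fact.out (p := p.Prime)
  have := hA.1
  let Ah := AdicCompletion (IsLocalRing.maximalIdeal A) A
  obtain ⟨α, hα⟩ := h
  let K := FractionRing A
  let Ω := AlgebraicClosure K
  obtain ⟨r, hr⟩ := IsAlgClosed.exists_pow_nat_eq (algebraMap A Ω a) hp.pos
  let S := Algebra.adjoin A {r}
  have hint : IsIntegral A r := IsIntegral.of_pow hp.pos (hr ▸ isIntegral_algebraMap)
  have : Module.Finite A S := Algebra.finite_adjoin_simple_of_isIntegral hint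
  have := Groth.Agent.Nagata.isReduced_tensor_completion hA S
  have : Module.FaithfullyFlat A Ah := Module.FaithfullyFlat.of_flat_of_isLocalHom
  have hinjA : Function.Injective (algebraMap A Ω) := by
    rw [IsScalarTower.algebraMap_eq A K Ω]
    exact (algebraMap K Ω).injective.comp (IsFractionRing.injective A K)
  let ρ : S := ⟨r, Algebra.self_mem_adjoin_singleton A r⟩
  have hρ : ρ ^ p = algebraMap A S a := Subtype.ext hr
  have hkey : ρ ⊗ₜ[A] (1 : Ah) = (1 : S) ⊗ₜ[A] α := by
    rcases subsingleton_or_nontrivial (TensorProduct A S Ah) with hs | hn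
    · exact Subsingleton.elim _ _
    have : CharP (TensorProduct A S Ah) p := (CharP.charP_iff_prime_eq_zero hp).mpr (by
      rw [← map_natCast (algebraMap A (TensorProduct A S Ah)), CharP.cast_eq_zero A p, map_zero])
    have : ExpChar (TensorProduct A S Ah) p := ExpChar.prime hp
    rw [← sub_eq_zero]
    refine IsReduced.eq_zero _ ⟨p, ?_⟩
    rw [sub_pow_expChar, Algebra.TensorProduct.tmul_pow, Algebra.TensorProduct.tmul_pow, one_pow,
      one_pow, hρ, hα, sub_eq_zero, Algebra.algebraMap_eq_smul_one, Algebra.algebraMap_eq_smul_one,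
      TensorProduct.smul_tmul]
  let π := (LinearMap.range (Algebra.linearMap A S)).mkQ
  have h0 : (π ρ) ⊗ₜ[A] (1 : Ah) = 0 := by
    have := congrArg (π.rTensor Ah) hkey
    rw [LinearMap.rTensor_tmul, LinearMap.rTensor_tmul] at this
    rw [this, show π (1 : S) = 0 from (Submodule.Quotient.mk_eq_zero _).mpr ⟨1, map_one (algebraMap A S)⟩, TensorProduct.zero_tmul]
  have h1 : π ρ = 0 := by
    simpa using congrArg (TensorProduct.comm A _ Ah) h0
  obtain ⟨b, hb⟩ := (Submodule.Quotient.mk_eq_zero _).mp h1
  refine ⟨b, hinjA ?_⟩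
  rw [map_pow, show algebraMap A Ω b = r from congrArg Subtype.val hb, hr]

end Groth.Agent.S0577
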