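import Groth.Statements.S0584
import Groth.Agent.Kaplansky.Basic

set_option autoImplicit false
universe u
open scoped Classical
open CAlg

namespace Groth.Agent.S0584

/-- Projectivity of a module is equivalent to the conjunction of three conditions — flatness, the
Mittag-Leffler property, and being an internal direct sum of countably generated submodules. -/
theorem result (R : Type u) [CommRing R] (M : Type u)
    [AddCommGroup M] [Module R M] :
    Module.Projective R M ↔ (Module.Flat R M ∧ CAlg.IsMittagLeffler R M ∧
      ∃ (ι : Type u) (N : ι → Submodule R M), DirectSum.IsInternal N ∧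
        ∀ i, CAlg.IsCountablyGenerated R (N i)) := by
  constructor
  · intro _
    obtain ⟨κ, _, L, hL, hc⟩ := Groth.Agent.Kaplansky.exists_decomposition_of_projective (R := R) M
    refine ⟨inferInstance, Groth.Agent.ProjDesc.isMittagLeffler_of_projective R M, κ, L, ?_, hc⟩
    convert hL
  · rintro ⟨_, hML, ι, N, hN, hc⟩
    have hproj : ∀ i, Module.Projective R (N i) := fun i ↦ by
      obtain ⟨r, hr⟩ := Groth.Agent.Kaplansky.summand hN i
      have : Module.Flat R (N i) := Module.Flat.of_retract (N i).subtype r hr
      exact Groth.Agent.ProjDesc.projective_of_countable R (N i)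
        (Groth.Agent.Kaplansky.isMittagLeffler_of_retract hML _ r hr) (hc i)
    exact Module.Projective.of_equiv (LinearEquiv.ofBijective (DirectSum.coeLinearMap N) hN)

end Groth.Agent.S0584
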