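import Groth.Statements.S0587
import Groth.Agent.MLMod.Basic
-- import your own Groth.Agent.* helpers here

set_option autoImplicit false
universe u
open CAlg
open scoped TensorProduct

namespace Groth.Agent.S0587

/-- A module `M` is finitely generated exactly when for every family of modules `(Qᵢ)` the natural map
from `M ⊗ ∏ Qᵢ` to `∏ (M ⊗ Qᵢ)` is surjective. -/
theorem result (R : Type u) [CommRing R] (M : Type u)
    [AddCommGroup M] [Module R M] :
    Module.Finite R M ↔ ∀ (ι : Type u) (Q : ι → Type u) [∀ i, AddCommGroup (Q i)]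
      [∀ i, Module R (Q i)], Function.Surjective (TensorProduct.piRightHom R R M Q) := by
  classical
  refine ⟨fun h ι Q _ _ => Groth.Agent.MLMod.piRightHom_surjective_of_finite M, fun h => ?_⟩
  obtain ⟨z, hz⟩ := h M (fun _ => R) fun m => m ⊗ₜ (1 : R)
  obtain ⟨k, a, q, rfl⟩ := TensorProduct.exists_sum_tmul_eq z
  refine ⟨⟨Finset.univ.image a, eq_top_iff.mpr fun m _ => ?_⟩⟩
  have hm := congrArg (TensorProduct.rid R M) (congrFun hz m)
  simp only [map_sum, Finset.sum_apply, TensorProduct.piRightHom_tmul, TensorProduct.rid_tmul, one_smul] at hm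
  rw [← hm]
  exact Submodule.sum_mem _ fun i _ => Submodule.smul_mem _ _ (Submodule.subset_span (by simp))

end Groth.Agent.S0587
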