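import Groth.Statements.S0588
import Groth.Agent.MLMod.Basic
-- import your own Groth.Agent.* helpers here

set_option autoImplicit false
universe u
open CAlg
open scoped TensorProduct

namespace Groth.Agent.S0588

/-- A module `M` is finitely presented exactly when for every family of modules `(Qᵢ)` the natural map
from `M ⊗ ∏ Qᵢ` to `∏ (M ⊗ Qᵢ)` is bijective. -/
theorem result (R : Type u) [CommRing R] (M : Type u)
    [AddCommGroup M] [Module R M] :
    Module.FinitePresentation R M ↔ ∀ (ι : Type u) (Q : ι → Type u) [∀ i, AddCommGroup (Q i)]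
      [∀ i, Module R (Q i)], Function.Bijective (TensorProduct.piRightHom R R M Q) := by
  classical
  refine ⟨fun h ι Q _ _ => ⟨Groth.Agent.MLMod.piRightHom_injective_of_fp M,
    Groth.Agent.MLMod.piRightHom_surjective_of_finite M⟩, fun h => ?_⟩
  obtain ⟨z, hz⟩ := (h M (fun _ => R)).2 fun m => m ⊗ₜ (1 : R)
  obtain ⟨k, a, q, rfl⟩ := TensorProduct.exists_sum_tmul_eq z
  haveI : Module.Finite R M := ⟨⟨Finset.univ.image a, eq_top_iff.mpr fun m _ => by
    have hm := congrArg (TensorProduct.rid R M) (congrFun hz m)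
    simp only [map_sum, Finset.sum_apply, TensorProduct.piRightHom_tmul, TensorProduct.rid_tmul, one_smul] at hm
    rw [← hm]
    exact Submodule.sum_mem _ fun i _ => Submodule.smul_mem _ _ (Submodule.subset_span (by simp))⟩⟩
  obtain ⟨n, p, hp⟩ := Module.Finite.exists_fin' R M
  refine Module.finitePresentation_of_surjective p hp ?_
  -- the kernel is finitely generated
  let K := LinearMap.ker p
  obtain ⟨w, hw⟩ : ∃ w : (Fin n → R) ⊗[R] (K → R),
      TensorProduct.piRightHom R R (Fin n → R) (fun _ : K => R) w = fun v : K => ((v : Fin n → R) ⊗ₜ[R] (1 : R)) :=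
    (Groth.Agent.MLMod.piRightHom_bijective_free n).2 _
  have h0 : p.rTensor (K → R) w = 0 := by
    apply (h K (fun _ => R)).1
    rw [map_zero]
    funext v
    rw [Groth.Agent.MLMod.piRightHom_rTensor, hw, LinearMap.rTensor_tmul, (v.2 : p v = 0), TensorProduct.zero_tmul]
    rfl
  obtain ⟨u, hu⟩ := (rTensor_exact (K → R) (LinearMap.exact_subtype_ker_map p) hp w).mp h0
  obtain ⟨l, b, c, rfl⟩ := TensorProduct.exists_sum_tmul_eq u
  refine ⟨Finset.univ.image fun i => (b i : Fin n → R), le_antisymm (Submodule.span_le.mpr ?_) fun v hv => ?_⟩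
  · intro x hx
    simp only [Finset.coe_image, Set.mem_image] at hx
    obtain ⟨i, -, rfl⟩ := hx
    exact (b i).2
  · have hv' := congrArg (TensorProduct.rid R (Fin n → R)) (congrFun hw ⟨v, hv⟩)
    rw [← hu] at hv'
    simp only [map_sum, Finset.sum_apply, LinearMap.rTensor_tmul, TensorProduct.piRightHom_tmul,
      TensorProduct.rid_tmul, one_smul] at hv'
    rw [← hv']
    exact Submodule.sum_mem _ fun i _ => Submodule.smul_mem _ _ (Submodule.subset_span (by simp))

end Groth.Agent.S0588
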