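import Groth.Statements.S0589
import Groth.Agent.S6361
import Groth.Agent.Hensel.Pair
-- import your own Groth.Agent.* helpers here

set_option autoImplicit false
universe u
open scoped Classical
open CAlg

namespace Groth.Agent.S0589

open IsLocalRing Polynomial

/-- In a finite algebra over a henselian local ring, an element splits off the part where it is a unit. -/
theorem exists_idempotent (R : Type u) [CommRing R] [HenselianLocalRing R] {T : Type u} [CommRing T]
    [Algebra R T] [Module.Finite R T] (θ : T) :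
    ∃ e : T, IsIdempotentElem e ∧ IsUnit (θ * e + (1 - e)) ∧ IsUnit (1 - θ * (1 - e)) := by
  let I : Ideal T := (maximalIdeal R).map (algebraMap R T)
  letI := Ideal.Quotient.field (maximalIdeal R)
  haveI : Module.Finite (R ⧸ maximalIdeal R) (T ⧸ I) := Module.Finite.of_restrictScalars_finite R _ _
  haveI : IsArtinianRing (T ⧸ I) := IsArtinianRing.of_finite (R ⧸ maximalIdeal R) _
  set t : T ⧸ I := Ideal.Quotient.mk I θ
  obtain ⟨n, a, hn⟩ := IsArtinian.exists_pow_succ_smul_dvd t (1 : T ⧸ I)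
  simp only [smul_eq_mul, mul_one, Nat.succ_eq_add_one] at hn
  have hk : ∀ k : ℕ, t ^ n = t ^ (n + k) * a ^ k := by
    intro k
    induction k with
    | zero => simp
    | succ k ih =>
      rw [ih, pow_add, pow_succ a, ← hn]
      ring
  have hN : t ^ (n + 1) = t ^ (n + 1 + (n + 1)) * a ^ (n + 1) := by
    conv_lhs => rw [pow_succ, hk (n + 1)]
    ring
  have he : IsIdempotentElem (t ^ (n + 1) * a ^ (n + 1)) := by
    show _ * _ = _
    conv_rhs => rw [hN]
    ring
  obtain ⟨e, he₁, he₂⟩ := (Hensel.idempotents_bijOn (I := maximalIdeal R) T).surjOn he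
  haveI : IsLocalHom (Ideal.Quotient.mk I) := isLocalHom_of_le_jacobson_bot I
    (Hensel.map_le_jacobson_bot_of_isIntegral HenselianRing.jac)
  have h1 : t ^ (n + 1) * (1 - Ideal.Quotient.mk I e) = 0 := by
    rw [he₂, mul_sub, mul_one, ← mul_assoc, ← pow_add, ← hN, sub_self]
  have he' : IsIdempotentElem (Ideal.Quotient.mk I e) := he₁.map _
  refine ⟨e, he₁, isUnit_of_map_unit (Ideal.Quotient.mk I) _ ?_,
    isUnit_of_map_unit (Ideal.Quotient.mk I) _ ?_⟩
  · rw [map_add, map_mul, map_sub, map_one]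
    refine IsUnit.of_mul_eq_one (t ^ n * a ^ (n + 1) * Ideal.Quotient.mk I e +
      (1 - Ideal.Quotient.mk I e)) ?_
    calc (t * Ideal.Quotient.mk I e + (1 - Ideal.Quotient.mk I e)) *
          (t ^ n * a ^ (n + 1) * Ideal.Quotient.mk I e + (1 - Ideal.Quotient.mk I e))
        = (t ^ (n + 1) * a ^ (n + 1)) * (Ideal.Quotient.mk I e * Ideal.Quotient.mk I e)
          + (t + t ^ n * a ^ (n + 1)) * (Ideal.Quotient.mk I e - Ideal.Quotient.mk I e * Ideal.Quotient.mk I e)
          + (1 - Ideal.Quotient.mk I e) * (1 - Ideal.Quotient.mk I e) := by ring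
      _ = 1 := by
        rw [← he₂, he'.eq, sub_self, mul_zero, add_zero, he'.eq, he'.one_sub.eq, add_sub_cancel]
  · rw [map_sub, map_mul, map_sub, map_one]
    refine IsNilpotent.isUnit_one_sub ⟨n + 1, ?_⟩
    rw [mul_pow, pow_succ (1 - Ideal.Quotient.mk I e), mul_left_comm, h1, mul_zero]

/-- An element of a countably generated Mittag-Leffler module lies in a finitely presented direct summand. -/
theorem exists_proj (R : Type u) [CommRing R] [HenselianLocalRing R] (M : Type u) [AddCommGroup M] [Module R M]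
    (hc : CAlg.IsCountablyGenerated R M) (hML : CAlg.IsMittagLeffler R M) (x : M) :
    ∃ π : M →ₗ[R] M, π ∘ₗ π = π ∧ π x = x ∧ Module.FinitePresentation R (LinearMap.range π) := by
  obtain ⟨Q, _, _, _, b, c, hbc⟩ :=
    S6361.result R M hML hc (LinearMap.toSpanSingleton R M x)
  have hx : c (b x) = x := by
    simpa using LinearMap.congr_fun hbc 1
  obtain ⟨p, hp, hψ⟩ := LinearMap.exists_monic_and_aeval_eq_zero R (b ∘ₗ c : Module.End R Q)
  haveI : Module.Finite R (R[X] ⧸ Ideal.span {p}) := hp.finite_quotient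
  let φ : (R[X] ⧸ Ideal.span {p}) →ₐ[R] Module.End R Q :=
    Ideal.Quotient.liftₐ _ (Polynomial.aeval (b ∘ₗ c : Module.End R Q)) fun q hq => by
      obtain ⟨q, rfl⟩ := Ideal.mem_span_singleton.1 hq
      rw [map_mul, hψ, zero_mul]
  set θ : R[X] ⧸ Ideal.span {p} := Ideal.Quotient.mk _ X with hθdef
  have hθ : φ θ = b ∘ₗ c := Polynomial.aeval_X (R := R) (b ∘ₗ c : Module.End R Q)
  obtain ⟨e, he, ⟨v, hv⟩, hu⟩ := exists_idempotent R θ
  have hθy : φ θ (b x) = b x := by rw [hθ, LinearMap.comp_apply, hx]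
  have hey : φ e (b x) = b x := by
    obtain ⟨u, hu'⟩ := hu
    have h0 : φ ((1 - θ * (1 - e)) * (1 - e)) (b x) = 0 := by
      have : (1 - θ * (1 - e)) * (1 - e) = (1 - e) - (1 - e) * θ := by
        have := he.one_sub.eq
        linear_combination (- θ) * this
      rw [this, map_sub, LinearMap.sub_apply, map_mul, Module.End.mul_apply, hθy, sub_self]
    have h2 : φ (1 - e) (b x) = 0 := by
      have := congrArg (φ (↑u⁻¹ : R[X] ⧸ Ideal.span {p})) h0
      rwa [map_zero, ← Module.End.mul_apply, ← map_mul, ← mul_assoc, ← hu', Units.inv_mul, one_mul] at this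
    rw [map_sub, map_one, LinearMap.sub_apply, Module.End.one_apply, sub_eq_zero] at h2
    exact h2.symm
  set w : R[X] ⧸ Ideal.span {p} := ↑v⁻¹
  have hw : w * e * θ * e = e := by
    have h : w * (θ * e + (1 - e)) = 1 := by rw [← hv]; exact v.inv_mul
    linear_combination e * h + w * he.eq
  let r : M →ₗ[R] Q := φ (w * e) ∘ₗ b
  let s : Q →ₗ[R] M := c ∘ₗ φ e
  have hrs : ∀ q, r (s q) = φ e q := fun q => by
    show φ (w * e) ((b ∘ₗ c) (φ e q)) = φ e q
    rw [← hθ, ← Module.End.mul_apply, ← map_mul, ← Module.End.mul_apply, ← map_mul, hw]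
  have hsr : ∀ m, φ e (r m) = r m := fun m => by
    show φ e (φ (w * e) (b m)) = φ (w * e) (b m)
    rw [← Module.End.mul_apply, ← map_mul, mul_comm, mul_assoc, he.eq]
  have hidem : (s ∘ₗ r) ∘ₗ (s ∘ₗ r) = s ∘ₗ r := LinearMap.ext fun m => by
    simp only [LinearMap.comp_apply, hrs, hsr]
  refine ⟨s ∘ₗ r, hidem, ?_, ?_⟩
  · have hs' : s (b x) = x := by show c (φ e (b x)) = x; rw [hey, hx]
    calc s (r x) = s (r (s (b x))) := by rw [hs']
      _ = s (b x) := by rw [hrs, hey]; 
      _ = x := hs'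
  · have hmem : ∀ q, s q ∈ LinearMap.range (s ∘ₗ r) := fun q => ⟨s q, by
      show s (r (s q)) = s q
      rw [hrs]
      show c (φ e (φ e q)) = c (φ e q)
      rw [← Module.End.mul_apply, ← map_mul, he.eq]⟩
    refine Module.finitePresentation_of_surjective (s.codRestrict _ hmem) ?_ ?_
    · rintro ⟨_, m, rfl⟩
      exact ⟨r m, rfl⟩
    · have : LinearMap.ker (s.codRestrict _ hmem) = LinearMap.range (φ (1 - e)) := by
        rw [LinearMap.ker_codRestrict]
        ext q
        constructor
        · intro hq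
          refine ⟨q, ?_⟩
          have : φ e q = 0 := by rw [← hrs, LinearMap.mem_ker.1 hq, map_zero]
          rw [map_sub, map_one, LinearMap.sub_apply, this, sub_zero, Module.End.one_apply]
        · rintro ⟨q, rfl⟩
          show c (φ e (φ (1 - e) q)) = 0
          rw [← Module.End.mul_apply, ← map_mul, mul_sub, mul_one, he.eq, sub_self, map_zero,
            LinearMap.zero_apply, map_zero]
      rw [this]
      exact Module.Finite.iff_fg.1 inferInstance

/-- One splitting step. -/
theorem exists_step (R : Type u) [CommRing R] [HenselianLocalRing R] (M : Type u) [AddCommGroup M] [Module R M]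
    (hc : CAlg.IsCountablyGenerated R M) (hML : CAlg.IsMittagLeffler R M) (g : M)
    (σ : {σ : M →ₗ[R] M // σ ∘ₗ σ = σ}) :
    ∃ σ' : {σ : M →ₗ[R] M // σ ∘ₗ σ = σ}, σ.1 ∘ₗ σ'.1 = σ'.1 ∧ σ'.1 ∘ₗ σ.1 = σ'.1 ∧ σ'.1 g = 0 ∧
      Module.FinitePresentation R (LinearMap.range (σ.1 - σ'.1)) := by
  obtain ⟨σ, hσ⟩ := σ
  have hσ' : ∀ m, σ (σ m) = σ m := LinearMap.congr_fun hσ
  set K := LinearMap.range σ with hK
  have hfix : ∀ k : K, σ.rangeRestrict k.1 = k := by
    rintro ⟨_, m, rfl⟩
    exact Subtype.ext (hσ' m)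
  have hcK : CAlg.IsCountablyGenerated R K := by
    obtain ⟨t, ht, htop⟩ := hc
    exact ⟨σ.rangeRestrict '' t, ht.image _, by
      rw [← Submodule.map_span, htop, Submodule.map_top, LinearMap.range_rangeRestrict]⟩
  have hMLK : CAlg.IsMittagLeffler R K :=
    MLMod.isMittagLeffler_of_universallyInjective K.subtype (fun P _ _ => by
      refine Function.LeftInverse.injective (g := σ.rangeRestrict.rTensor P) fun z => ?_
      rw [← LinearMap.comp_apply, ← LinearMap.rTensor_comp,
        show σ.rangeRestrict ∘ₗ K.subtype = LinearMap.id from LinearMap.ext hfix,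
        LinearMap.rTensor_id, LinearMap.id_apply]) hML
  obtain ⟨π, hπ, hπg, hfp⟩ := exists_proj R K hcK hMLK (σ.rangeRestrict g)
  set P : M →ₗ[R] M := K.subtype ∘ₗ π ∘ₗ σ.rangeRestrict with hP
  have hσP : ∀ m, σ (P m) = P m := fun m => congrArg Subtype.val (hfix (π (σ.rangeRestrict m)))
  have hPσ : ∀ m, P (σ m) = P m := fun m => by
    show (π (σ.rangeRestrict (σ m))).1 = (π (σ.rangeRestrict m)).1
    rw [show σ.rangeRestrict (σ m) = σ.rangeRestrict m from Subtype.ext (hσ' m)]
  have hPP : ∀ m, P (P m) = P m := fun m => by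
    show (π (σ.rangeRestrict (π (σ.rangeRestrict m)).1)).1 = (π (σ.rangeRestrict m)).1
    rw [hfix, ← LinearMap.comp_apply, hπ]
  refine ⟨⟨σ - P, LinearMap.ext fun m => ?_⟩, LinearMap.ext fun m => ?_, LinearMap.ext fun m => ?_, ?_, ?_⟩
  · simp only [LinearMap.comp_apply, LinearMap.sub_apply, map_sub, hσ', hσP, hPσ, hPP]
    abel
  · simp only [LinearMap.comp_apply, LinearMap.sub_apply, map_sub, hσ', hσP]
  · simp only [LinearMap.comp_apply, LinearMap.sub_apply, hσ', hPσ]
  · show σ g - (π (σ.rangeRestrict g)).1 = 0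
    rw [hπg]
    exact sub_self _
  · show Module.FinitePresentation R (LinearMap.range (σ - (σ - P)))
    rw [sub_sub_cancel]
    have hr : LinearMap.range P = (LinearMap.range π).map K.subtype := by
      rw [hP, LinearMap.range_comp, LinearMap.range_comp_of_range_eq_top _ σ.range_rangeRestrict]
    rw [hr]
    exact Module.FinitePresentation.of_equiv (Submodule.equivMapOfInjective _ K.injective_subtype _)


/-- Over a henselian local ring, a countably generated Mittag-Leffler module is an internal direct sum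
of finitely presented submodules. -/
theorem result (R : Type u) [CommRing R]
    [HenselianLocalRing R] (M : Type u) [AddCommGroup M] [Module R M] (hc : CAlg.IsCountablyGenerated R M)
    (hML : CAlg.IsMittagLeffler R M) :
    ∃ (ι : Type u) (N : ι → Submodule R M), DirectSum.IsInternal N ∧
      ∀ i, Module.FinitePresentation R (N i) := by
  obtain ⟨t, ht, htop⟩ := hc
  obtain ⟨g, hg⟩ := (ht.insert 0).exists_eq_range (Set.insert_nonempty _ _)
  choose step h1 h2 h3 h4 using exists_step R M ⟨t, ht, htop⟩ hML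
  let σ : ℕ → {σ : M →ₗ[R] M // σ ∘ₗ σ = σ} := Nat.rec ⟨LinearMap.id, rfl⟩ fun n s => step (g n) s
  have hσ : ∀ n m, n ≤ m → (σ n).1 ∘ₗ (σ m).1 = (σ m).1 ∧ (σ m).1 ∘ₗ (σ n).1 = (σ m).1 := by
    intro n m h
    induction m, h using Nat.le_induction with
    | base => exact ⟨(σ n).2, (σ n).2⟩
    | succ m _ ih =>
      have e1 : (σ m).1 ∘ₗ (σ (m + 1)).1 = (σ (m + 1)).1 := h1 (g m) (σ m)
      have e2 : (σ (m + 1)).1 ∘ₗ (σ m).1 = (σ (m + 1)).1 := h2 (g m) (σ m)
      constructor
      · rw [← e1, ← LinearMap.comp_assoc, ih.1]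
      · rw [← e2, LinearMap.comp_assoc, ih.2]
  let p : ℕ → M →ₗ[R] M := fun n => (σ n).1 - (σ (n + 1)).1
  have hpp : ∀ n m, n ≠ m → p n ∘ₗ p m = 0 := by
    intro n m hnm
    simp only [p, LinearMap.sub_comp, LinearMap.comp_sub]
    rcases lt_or_gt_of_ne hnm with h | h
    · rw [(hσ n m h.le).1, (hσ n (m + 1) (by omega)).1, (hσ (n + 1) m h).1,
        (hσ (n + 1) (m + 1) (by omega)).1]
      abel
    · rw [(hσ m n h.le).2, (hσ (m + 1) n h).2, (hσ m (n + 1) (by omega)).2,
        (hσ (m + 1) (n + 1) (by omega)).2]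
      abel
  have hp : ∀ n, p n ∘ₗ p n = p n := by
    intro n
    simp only [p, LinearMap.sub_comp, LinearMap.comp_sub]
    rw [(σ n).2, (σ (n + 1)).2, (hσ n (n + 1) n.le_succ).1, (hσ n (n + 1) n.le_succ).2]
    abel
  refine ⟨ULift.{u} ℕ, fun i => LinearMap.range (p i.down), ?_, fun i => h4 (g i.down) (σ i.down)⟩
  suffices h : iSupIndep (fun i : ULift.{u} ℕ => LinearMap.range (p i.down)) ∧
      (⨆ i : ULift.{u} ℕ, LinearMap.range (p i.down)) = ⊤ by
    convert DirectSum.isInternal_submodule_of_iSupIndep_of_iSup_eq_top h.1 h.2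
  refine ⟨?_, ?_⟩
  · refine fun i => disjoint_iff_inf_le.2 ?_
    rintro x ⟨⟨m, rfl⟩, hx⟩
    have hk : (⨆ j, ⨆ (_ : j ≠ i), LinearMap.range (p j.down)) ≤ LinearMap.ker (p i.down) := by
      refine iSup₂_le fun j hj => ?_
      rw [LinearMap.range_le_ker_iff]
      exact hpp _ _ fun h => hj (ULift.ext _ _ h.symm)
    have := LinearMap.mem_ker.1 (hk hx)
    rw [← LinearMap.comp_apply, hp] at this
    exact this
  · rw [eq_top_iff, ← htop, Submodule.span_le]
    intro x hx
    obtain ⟨m, rfl⟩ : x ∈ Set.range g := hg ▸ Set.mem_insert_of_mem _ hx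
    have hsum : ∀ k, g m - (σ k).1 (g m) ∈ ⨆ i : ULift.{u} ℕ, LinearMap.range (p i.down) := by
      intro k
      induction k with
      | zero => simp [σ]
      | succ k ih =>
        have : g m - (σ (k + 1)).1 (g m) = (g m - (σ k).1 (g m)) + p k (g m) := by
          simp only [p, LinearMap.sub_apply]
          abel
        rw [this]
        exact add_mem ih (Submodule.mem_iSup_of_mem ⟨k⟩ ⟨g m, rfl⟩)
    have := hsum (m + 1)
    rwa [show (σ (m + 1)).1 (g m) = 0 from h3 (g m) (σ m), sub_zero] at this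

end Groth.Agent.S0589
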