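import Groth.Statements.S0604
import Groth.Agent.AuslBuchs.Basic
import Groth.Agent.RegLoc.Basic
-- import your own Groth.Agent.* helpers here

set_option autoImplicit false
universe u
open CategoryTheory
open CAlg

namespace Groth.Agent.S0604

/-- Over a Noetherian local ring `R`, a nonzero finitely generated module `M` of finite projective
dimension satisfies depth R = pd M + depth M. -/
theorem result (R : Type u) [CommRing R] [IsLocalRing R] [IsNoetherianRing R]
    (M : Type u) [AddCommGroup M] [Module R M] [Module.Finite R M] [Nontrivial M] (e : ℕ)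
    (he : projectiveDimension (ModuleCat.of R M) = e) :
    LocCoh.depth R R = e + LocCoh.depth R M := by
  obtain ⟨d, hdim, -⟩ := Groth.Agent.RegLoc.exists_natCast_eq_ringKrullDim R
  have hle : LocCoh.depth R R ≤ (d : ℕ∞) := by
    have := (Groth.Agent.Depth.depth_le_supportDim (R := R) (M := R)).trans (Module.supportDim_le_ringKrullDim R R)
    rw [hdim] at this
    exact WithBot.coe_le_coe.1 this
  obtain ⟨n, hn⟩ := ENat.ne_top_iff_exists.mp (ne_top_of_le_ne_top (ENat.coe_ne_top d) hle)
  have hd : LocCoh.depth R R = (n : ℕ∞) := hn.symm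
  have hup : CategoryTheory.HasProjectiveDimensionLE (ModuleCat.of R M) e :=
    (CategoryTheory.projectiveDimension_le_iff _ _).1 he.le
  have key := fun q => Groth.Agent.AuslBuchs.le_depth_iff hd q e M hup
  have hlow := (key e).2 hup
  have hsat : ∀ q, q < e → ¬ CategoryTheory.HasProjectiveDimensionLE (ModuleCat.of R M) q := fun q hq hc => by
    have h1 := (CategoryTheory.projectiveDimension_le_iff _ q).2 hc
    rw [he] at h1
    have h2 : e ≤ q := by exact_mod_cast h1
    omega
  rcases Nat.eq_zero_or_pos e with h0 | hpos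
  · subst h0
    have hpd : CategoryTheory.HasProjectiveDimensionLE (ModuleCat.of R M) 0 := hup
    have := (Groth.Agent.RegLoc.PD.pd_zero_iff M).1 hpd
    have : Module.Free R M := Module.free_of_flat_of_isLocalRing
    have := Groth.Agent.AuslBuchs.nontrivial_ext_free hd M
    have heq : LocCoh.depth R M = (n : ℕ∞) :=
      (Groth.Agent.Depth.idealDepth_eq_iff_ext (I := IsLocalRing.maximalIdeal R) (M := M) n).2
        ⟨(Groth.Agent.Depth.le_idealDepth_iff_ext n).1 (by rw [Nat.sub_zero] at hlow; exact hlow), this⟩
    rw [hd, heq, Nat.cast_zero, zero_add]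
  · have hnot : ¬ ((n - (e - 1) : ℕ) : ℕ∞) ≤ LocCoh.depth R M := fun h =>
      hsat (e - 1) (by omega) ((key (e - 1)).1 h)
    obtain ⟨m, hm⟩ := ENat.ne_top_iff_exists.mp (fun h => hnot (h ▸ le_top) : LocCoh.depth R M ≠ ⊤)
    rw [← hm] at hnot hlow
    rw [hd, ← hm]
    norm_cast at hnot hlow ⊢
    omega

end Groth.Agent.S0604
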