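import Groth.Statements.S0614
import Groth.Agent.DVRCrit.Basic

set_option autoImplicit false
universe u
open WeierstrassCurve IsLocalRing Polynomial
open Neron

noncomputable section

namespace Groth.Agent.S0614

section forms

variable {F : Type u} [Field F] [IsAlgClosed F]

theorem exists_legendre (W : WeierstrassCurve F) [W.IsElliptic] (h2 : (2 : F) ≠ 0) :
    ∃ (C : VariableChange F) (l : F), C • W = ⟨0, -(1 + l), 0, l, 0⟩ := by
  obtain ⟨r, hr⟩ := IsAlgClosed.exists_root
    (Polynomial.C (4 : F) * X ^ 3 + Polynomial.C W.b₂ * X ^ 2 + Polynomial.C (2 * W.b₄) * X + Polynomial.C W.b₆)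
    (by
      have h4 : (4 : F) ≠ 0 := by rw [show (4 : F) = 2 * 2 by norm_num]; exact mul_ne_zero h2 h2
      rw [degree_cubic h4]; decide)
  simp only [IsRoot.def, eval_add, eval_mul, eval_pow, eval_C, eval_X, b₂, b₄, b₆] at hr
  let C₁ : VariableChange F := ⟨1, r, -W.a₁ / 2, -(W.a₃ + r * W.a₁) / 2⟩
  let A := (C₁ • W).a₂
  let B := (C₁ • W).a₄
  have e1 : C₁ • W = ⟨0, A, 0, B, 0⟩ := by
    ext
    · simp only [C₁, variableChange_a₁, inv_one, Units.val_one]; field_simp; ring
    · rfl
    · simp only [C₁, variableChange_a₃, inv_one, Units.val_one]; field_simp; ring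
    · rfl
    · simp only [C₁, variableChange_a₆, inv_one, Units.val_one]; field_simp; linear_combination hr
  have hB : B ≠ 0 := fun hB => by
    have h := (C₁ • W).isUnit_Δ.ne_zero
    apply h
    simp only [e1, Δ, b₂, b₄, b₆, b₈, hB]
    ring
  obtain ⟨z, hz⟩ := IsAlgClosed.exists_root
    (Polynomial.C (1 : F) * X ^ 2 + Polynomial.C A * X + Polynomial.C B)
    (by rw [degree_quadratic (one_ne_zero)]; decide)
  simp only [IsRoot.def, eval_add, eval_mul, eval_pow, eval_C, eval_X] at hz
  have hz0 : z ≠ 0 := fun h => hB (by simpa [h] using hz)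
  obtain ⟨w, hw⟩ := IsAlgClosed.exists_pow_nat_eq z (n := 2) (by norm_num)
  have hw0 : w ≠ 0 := fun h => hz0 (by simpa [h] using hw.symm)
  refine ⟨⟨Units.mk0 w hw0, 0, 0, 0⟩ * C₁, B / z ^ 2, ?_⟩
  rw [mul_smul, e1]
  ext
  · simp [variableChange_a₁]
  · simp only [variableChange_a₂, Units.val_inv_eq_inv_val, Units.val_mk0]
    subst hw
    field_simp
    linear_combination hz
  · simp [variableChange_a₃]
  · simp only [variableChange_a₄, Units.val_inv_eq_inv_val, Units.val_mk0]
    subst hw
    field_simp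
    ring
  · simp [variableChange_a₆]

theorem exists_deuring (W : WeierstrassCurve F) [W.IsElliptic] (h3 : (3 : F) ≠ 0) :
    ∃ (C : VariableChange F) (a : F), C • W = ⟨a, 0, 1, 0, 0⟩ := by
  obtain ⟨r, hr⟩ := IsAlgClosed.exists_root
    (Polynomial.C (3 : F) * X ^ 4 + (Polynomial.C W.b₂ * X ^ 3 + Polynomial.C (3 * W.b₄) * X ^ 2 +
      Polynomial.C (3 * W.b₆) * X + Polynomial.C W.b₈))
    (by
      rw [degree_add_eq_left_of_degree_lt (by rw [degree_C_mul_X_pow 4 h3]; exact lt_of_le_of_lt degree_cubic_le (by decide)),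
        degree_C_mul_X_pow 4 h3]
      decide)
  simp only [IsRoot.def, eval_add, eval_mul, eval_pow, eval_C, eval_X] at hr
  obtain ⟨t, ht⟩ := IsAlgClosed.exists_root
    (Polynomial.C (1 : F) * X ^ 2 + Polynomial.C (W.a₃ + r * W.a₁) * X +
      Polynomial.C (-(W.a₆ + r * W.a₄ + r ^ 2 * W.a₂ + r ^ 3)))
    (by rw [degree_quadratic (one_ne_zero)]; decide)
  simp only [IsRoot.def, eval_add, eval_mul, eval_pow, eval_C, eval_X] at ht
  let C₁ : VariableChange F := ⟨1, r, 0, t⟩
  let V := C₁ • W
  have hV6 : V.a₆ = 0 := by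
    simp only [V, C₁, variableChange_a₆, inv_one, Units.val_one]; linear_combination (-1 : F) * ht
  have hV8 : V.b₈ = 0 := by
    simp only [V, C₁, variableChange_b₈, inv_one, Units.val_one]; linear_combination hr
  have h8 : V.a₂ * V.a₃ ^ 2 - V.a₁ * V.a₃ * V.a₄ - V.a₄ ^ 2 = 0 := by
    rw [b₈, hV6] at hV8; linear_combination hV8
  have h3' : V.a₃ ≠ 0 := fun h => by
    have h4 : V.a₄ = 0 := by
      have : V.a₄ ^ 2 = 0 := by rw [h] at h8; linear_combination (-1 : F) * h8
      exact pow_eq_zero_iff two_ne_zero |>.mp this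
    have : V.Δ = 0 := by
      simp only [Δ, b₂, b₄, b₆, b₈, h, h4, hV6]; ring
    exact V.isUnit_Δ.ne_zero this
  obtain ⟨w, hw⟩ := IsAlgClosed.exists_pow_nat_eq V.a₃ (n := 3) (by norm_num)
  have hw0 : w ≠ 0 := fun h => h3' (by simpa [h] using hw.symm)
  let C₂ : VariableChange F := ⟨1, 0, V.a₄ / V.a₃, 0⟩
  refine ⟨⟨Units.mk0 w hw0, 0, 0, 0⟩ * (C₂ * C₁), (V.a₁ + 2 * (V.a₄ / V.a₃)) / w, ?_⟩
  rw [mul_smul, mul_smul]
  change _ • C₂ • V = _
  ext
  · simp only [C₂, variableChange_a₁, inv_one, Units.val_one, Units.val_inv_eq_inv_val, Units.val_mk0]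
    ring
  · simp only [C₂, variableChange_a₁, variableChange_a₂, inv_one, Units.val_one, Units.val_inv_eq_inv_val, Units.val_mk0]
    field_simp
    linear_combination h8
  · simp only [C₂, variableChange_a₁, variableChange_a₃, inv_one, Units.val_one, Units.val_inv_eq_inv_val, Units.val_mk0]
    field_simp
    linear_combination -V.a₃ * hw
  · simp only [C₂, variableChange_a₁, variableChange_a₂, variableChange_a₃, variableChange_a₄, inv_one, Units.val_one, Units.val_inv_eq_inv_val, Units.val_mk0]
    field_simp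
    ring
  · simp only [C₂, variableChange_a₁, variableChange_a₂, variableChange_a₃, variableChange_a₄, variableChange_a₆, inv_one, Units.val_one, Units.val_inv_eq_inv_val, Units.val_mk0, hV6]
    ring

end forms

theorem good_of_model {A L : Type u} [CommRing A] [IsDomain A] [IsDiscreteValuationRing A] [Field L] [Algebra A L]
    [IsFractionRing A L] (W : WeierstrassCurve L) (C : VariableChange L) (M : WeierstrassCurve A)
    (hM : C • W = M.map (algebraMap A L)) (hu : IsUnit M.Δ) :
    (W.minimal A).HasGoodReduction A := by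
  have : IsMinimal A (W.minimal A) := inferInstance
  refine { toIsMinimal := this, goodReduction := ?_ }
  let C₀ := (W.exists_isMinimal A).choose
  have hW : W.minimal A = C₀ • W := rfl
  let E := C * C₀⁻¹
  have hE : E • W.minimal A = C • W := by rw [hW, ← mul_smul, inv_mul_cancel_right]
  have hint : IsIntegral A (E • W.minimal A) := ⟨M, hE.trans hM⟩
  obtain ⟨-, hmax⟩ := this.val_Δ_maximal
  let v := IsDedekindDomain.HeightOneSpectrum.valuation L (IsDiscreteValuationRing.maximalIdeal A)
  have h1 : (valuation_Δ_aux A (E • W.minimal A) : WithZero (Multiplicative ℤ)) = 1 := by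
    rw [valuation_Δ_aux_eq_of_isIntegral, hE, hM, map_Δ]
    refine le_antisymm (IsDedekindDomain.HeightOneSpectrum.valuation_le_one _ _) (not_lt.mp fun h => ?_)
    exact (IsDedekindDomain.HeightOneSpectrum.valuation_lt_one_iff_mem _ _).mp h |> fun hm =>
      (IsLocalRing.mem_maximalIdeal _).mp hm hu
  have hle : valuation_Δ_aux A ((1 : VariableChange L) • W.minimal A) ≤ valuation_Δ_aux A (E • W.minimal A) :=
    Subtype.coe_le_coe.mp (by rw [h1]; exact (valuation_Δ_aux A _).2)
  have := Subtype.coe_le_coe.mpr (hmax hint hle)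
  simp only [h1, one_smul, valuation_Δ_aux_eq_of_isIntegral] at this
  exact le_antisymm (by rw [← valuation_Δ_aux_eq_of_isIntegral]; exact (valuation_Δ_aux A (W.minimal A)).2) this

theorem delta_mul_j {F : Type u} [Field F] (W : WeierstrassCurve F) [W.IsElliptic] : W.Δ * W.j = W.c₄ ^ 3 := by
  rw [j, ← mul_assoc, ← coe_Δ', Units.mul_inv, one_mul]

theorem descend {K Ω : Type u} [Field K] [Field Ω] [Algebra K Ω] [Algebra.IsAlgebraic K Ω]
    (W : WeierstrassCurve K) [W.IsElliptic] (S : Finset Ω) (C : VariableChange Ω)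
    (hC : (C.u : Ω) ∈ S ∧ C.r ∈ S ∧ C.s ∈ S ∧ C.t ∈ S) :
    ∃ (C' : VariableChange (IntermediateField.adjoin K (S : Set Ω))),
      (C' • W.baseChange (IntermediateField.adjoin K (S : Set Ω))).map
        (IntermediateField.adjoin K (S : Set Ω)).val.toRingHom = C • W.baseChange Ω := by
  let L := IntermediateField.adjoin K (S : Set Ω)
  have hs : ∀ {x}, x ∈ S → x ∈ L := fun hx => IntermediateField.subset_adjoin K _ hx
  refine ⟨⟨Units.mk0 ⟨(C.u : Ω), hs hC.1⟩ (fun h => C.u.ne_zero (congrArg Subtype.val h)),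
    ⟨C.r, hs hC.2.1⟩, ⟨C.s, hs hC.2.2.1⟩, ⟨C.t, hs hC.2.2.2⟩⟩, ?_⟩
  rw [← map_variableChange]
  congr 1
  ext <;> rfl

theorem exists_dvr {R K : Type u} [CommRing R] [IsDomain R] [IsDiscreteValuationRing R] [Field K] [Algebra R K]
    [IsFractionRing R K] (L : Type u) [Field L] [Algebra K L] [FiniteDimensional K L] :
    ∃ (A : ValuationSubring L), IsDiscreteValuationRing A ∧ ∃ φ : R →+* A, IsLocalHom φ ∧
      ∀ r : R, algebraMap K L (algebraMap R K r) = algebraMap A L (φ r) := by
  let f : R →+* L := (algebraMap K L).comp (algebraMap R K)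
  let b := Module.finBasis K L
  have hgen : Subfield.closure (Set.range f ∪ Set.range b) = ⊤ := by
    rw [eq_top_iff]
    intro x _
    rw [← b.sum_repr x]
    refine sum_mem fun i _ => ?_
    rw [Algebra.smul_def]
    refine mul_mem ?_ (Subfield.subset_closure (.inr ⟨i, rfl⟩))
    obtain ⟨p, q, -, hpq⟩ := IsFractionRing.div_surjective (A := R) (b.repr x i)
    rw [← hpq, map_div₀]
    exact div_mem (Subfield.subset_closure (.inl ⟨p, rfl⟩)) (Subfield.subset_closure (.inl ⟨q, rfl⟩))
  obtain ⟨π, hπ⟩ := IsDiscreteValuationRing.exists_irreducible R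
  obtain ⟨A, hA, hmem, hdom⟩ := DVRCrit.exists_dvr_dominating' f (Set.finite_range b) hgen
    ⟨π, hπ.not_isUnit, fun h => hπ.ne_zero (IsFractionRing.injective R K
      (((map_eq_zero (algebraMap K L)).mp h).trans (map_zero _).symm))⟩
  refine ⟨A, hA, f.codRestrict A.toSubring hmem, ⟨fun r hr => ?_⟩, fun r => rfl⟩
  by_contra hn
  have h1 := hdom r hn
  have h2 := (A.valuation_eq_one_iff ⟨f r, hmem r⟩).mp hr
  exact absurd h2 h1.ne

/-- a root of an equation with integral reversed polynomial of unit constant term is integral -/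
theorem mem_of_reversed {L : Type u} [Field L] (A : ValuationSubring L) (x : L)
    (h : x ≠ 0 → ∀ y : A, (y : L) = x⁻¹ → residue A y = 0 → False) : x ∈ A := by
  by_contra hx
  have hx0 : x ≠ 0 := fun h0 => hx (h0 ▸ A.zero_mem)
  have hy : x⁻¹ ∈ A := (A.mem_or_inv_mem x).resolve_left hx
  refine h hx0 ⟨x⁻¹, hy⟩ rfl ((residue_eq_zero_iff _).mpr fun hu => ?_)
  obtain ⟨c, hc⟩ := isUnit_iff_exists_inv.mp hu
  have : x⁻¹ * (c : L) = 1 := congrArg Subtype.val hc
  exact hx (by rw [← inv_inv x, inv_eq_of_mul_eq_one_right this]; exact c.2)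

theorem legendre_good {L : Type u} [Field L] (A : ValuationSubring L) [IsDiscreteValuationRing A] (h2 : IsUnit (2 : A))
    (l : L) (j : A) (hl : (⟨0, -(1 + l), 0, l, 0⟩ : WeierstrassCurve L).Δ * j =
      (⟨0, -(1 + l), 0, l, 0⟩ : WeierstrassCurve L).c₄ ^ 3) :
    ∃ M : WeierstrassCurve A, M.map (algebraMap A L) = ⟨0, -(1 + l), 0, l, 0⟩ ∧ IsUnit M.Δ := by
  have h2' : (2 : L) ≠ 0 := by
    have := (h2.map (algebraMap A L)).ne_zero
    rwa [map_ofNat] at this
  have hrel : 256 * (l ^ 2 - l + 1) ^ 3 = (j : L) * (l ^ 2 * (l - 1) ^ 2) := by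
    simp only [Δ, c₄, b₂, b₄, b₆, b₈] at hl
    apply mul_left_cancel₀ (pow_ne_zero 4 h2')
    linear_combination -hl
  have h256 : residue A (256 : A) ≠ 0 := fun h => by
    rw [residue_eq_zero_iff] at h
    exact h ((show (256 : A) = 2 ^ 8 by norm_num) ▸ h2.pow 8)
  have hmem : l ∈ A := mem_of_reversed A l fun hl0 y hy hy0 => by
    have he : (256 : A) * (1 - y + y ^ 2) ^ 3 = j * (y ^ 2 * (1 - y) ^ 2) := by
      apply Subtype.ext
      push_cast [show ((256 : A) : L) = 256 from map_ofNat A.subtype 256]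
      rw [hy]
      field_simp
      linear_combination hrel
    have := congrArg (residue A) he
    simp only [map_mul, map_pow, map_add, map_sub, map_one, hy0] at this
    apply h256
    simpa using this
  obtain ⟨l₀, rfl⟩ : ∃ l₀ : A, (l₀ : L) = l := ⟨⟨l, hmem⟩, rfl⟩
  refine ⟨⟨0, -(1 + l₀), 0, l₀, 0⟩, ?_, ?_⟩
  · ext <;> simp [WeierstrassCurve.map]
  · have he : (256 : A) * (l₀ ^ 2 - l₀ + 1) ^ 3 = j * (l₀ ^ 2 * (l₀ - 1) ^ 2) := by
      apply Subtype.ext; push_cast [show ((256 : A) : L) = 256 from map_ofNat A.subtype 256]; exact hrel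
    have hu : IsUnit (l₀ ^ 2 * (l₀ - 1) ^ 2) := by
      by_contra hn
      have h0 : residue A (l₀ ^ 2 * (l₀ - 1) ^ 2) = 0 := (residue_eq_zero_iff _).mpr hn
      have := congrArg (residue A) he
      rw [map_mul (residue A) j, h0, mul_zero] at this
      simp only [map_mul, map_pow, map_sub, map_add, map_one, mul_eq_zero, pow_eq_zero_iff, ne_eq, OfNat.ofNat_ne_zero,
        not_false_eq_true] at this h0
      apply h256
      rcases h0 with h0 | h0
      · simpa [h0] using this
      · rw [sub_eq_zero] at h0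
        simpa [h0] using this
    have hΔ : (⟨0, -(1 + l₀), 0, l₀, 0⟩ : WeierstrassCurve A).Δ = 2 ^ 4 * (l₀ ^ 2 * (l₀ - 1) ^ 2) := by
      simp only [Δ, b₂, b₄, b₆, b₈]; ring
    rw [hΔ]
    exact (h2.pow 4).mul hu

theorem deuring_good {L : Type u} [Field L] (A : ValuationSubring L) [IsDiscreteValuationRing A] (h3 : IsUnit (3 : A))
    (a : L) (j : A) (ha : (⟨a, 0, 1, 0, 0⟩ : WeierstrassCurve L).Δ * j =
      (⟨a, 0, 1, 0, 0⟩ : WeierstrassCurve L).c₄ ^ 3) :
    ∃ M : WeierstrassCurve A, M.map (algebraMap A L) = ⟨a, 0, 1, 0, 0⟩ ∧ IsUnit M.Δ := by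
  have hrel : a ^ 3 * (a ^ 3 - 24) ^ 3 = (j : L) * (a ^ 3 - 27) := by
    simp only [Δ, c₄, b₂, b₄, b₆, b₈] at ha
    linear_combination -ha
  have hmem : a ∈ A := mem_of_reversed A a fun ha0 y hy hy0 => by
    have he : (1 - 24 * y ^ 3) ^ 3 = j * (y ^ 9 * (1 - 27 * y ^ 3)) := by
      apply Subtype.ext
      push_cast [show ((24 : A) : L) = 24 from map_ofNat A.subtype 24, show ((27 : A) : L) = 27 from map_ofNat A.subtype 27]
      rw [hy]
      field_simp
      linear_combination hrel
    have := congrArg (residue A) he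
    simp [map_mul, map_pow, map_sub, map_one, hy0] at this
  obtain ⟨a₀, rfl⟩ : ∃ a₀ : A, (a₀ : L) = a := ⟨⟨a, hmem⟩, rfl⟩
  refine ⟨⟨a₀, 0, 1, 0, 0⟩, ?_, ?_⟩
  · ext <;> simp [WeierstrassCurve.map]
  · have he : a₀ ^ 3 * (a₀ ^ 3 - 24) ^ 3 = j * (a₀ ^ 3 - 27) := by
      apply Subtype.ext; push_cast [show ((24 : A) : L) = 24 from map_ofNat A.subtype 24, show ((27 : A) : L) = 27 from map_ofNat A.subtype 27]; exact hrel
    have hΔ : (⟨a₀, 0, 1, 0, 0⟩ : WeierstrassCurve A).Δ = a₀ ^ 3 - 27 := by
      simp only [Δ, b₂, b₄, b₆, b₈]; ring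
    rw [hΔ]
    by_contra hn
    have h0 : residue A (a₀ ^ 3 - 27) = 0 := (residue_eq_zero_iff _).mpr hn
    have h3' : residue A (3 : A) ≠ 0 := fun h => (residue_eq_zero_iff _).mp h h3
    have h27 : residue A a₀ ^ 3 = residue A 3 ^ 3 := by
      rw [← sub_eq_zero, ← map_pow, ← map_pow, ← map_sub]
      norm_num
      exact h0
    have h24 : residue A (a₀ ^ 3 - 24) = residue A 3 := by
      rw [← sub_eq_zero, ← map_sub, ← h0]
      congr 1
      ring
    have := congrArg (residue A) he
    rw [map_mul (residue A) j, h0, mul_zero, map_mul, map_pow, map_pow, h27, h24] at this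
    exact h3' (by simpa using this)

/-- (c) (the base Dedekind scheme taken local): an elliptic curve E over the fraction field K of a
discrete valuation ring R has integral j-invariant if and only if it has potential good reduction
(stated here with a finite extension: there are a finite extension L of K and a discrete valuation
ring R_L of L dominating R over which a minimal Weierstrass equation of E_L has good reduction). -/
theorem result {R : Type u} [CommRing R] [IsDomain R]
    [IsDiscreteValuationRing R] {K : Type u} [Field K] [Algebra R K] [IsFractionRing R K]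
    (W : WeierstrassCurve K) [W.IsElliptic] :
    (∃ r : R, algebraMap R K r = W.j) ↔
      ∃ (L : Type u) (_ : Field L) (_ : Algebra K L) (_ : FiniteDimensional K L) (RL : Type u)
        (_ : CommRing RL) (_ : IsDomain RL) (_ : IsDiscreteValuationRing RL) (_ : Algebra RL L)
        (_ : IsFractionRing RL L) (φ : R →+* RL), IsLocalHom φ ∧
        (∀ r : R, algebraMap K L (algebraMap R K r) = algebraMap RL L (φ r)) ∧
        ((W.baseChange L).minimal RL).HasGoodReduction RL := by
  constructor
  · rintro ⟨r, hr⟩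
    let Ω := AlgebraicClosure K
    by_cases h2 : IsUnit (2 : R)
    · have h2' : (2 : Ω) ≠ 0 := by
        have := (h2.map ((algebraMap K Ω).comp (algebraMap R K))).ne_zero
        rwa [map_ofNat] at this
      obtain ⟨C, l, hC⟩ := exists_legendre (W.map (algebraMap K Ω)) h2'
      classical
      let S : Finset Ω := {(C.u : Ω), C.r, C.s, C.t, l}
      let L := IntermediateField.adjoin K (S : Set Ω)
      have : FiniteDimensional K L := IntermediateField.finiteDimensional_adjoin fun x _ =>
        Algebra.IsIntegral.isIntegral x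
      obtain ⟨C', hC'⟩ := descend W S C (by simp [S])
      obtain ⟨A, hA, φ, hφl, hφ⟩ := exists_dvr (R := R) (K := K) L
      let l' : L := ⟨l, IntermediateField.subset_adjoin K _ (by simp [S])⟩
      let M₀ : WeierstrassCurve L := ⟨0, -(1 + l'), 0, l', 0⟩
      have hM₀ : C' • W.baseChange L = M₀ := by
        refine WeierstrassCurve.map_injective (f := L.val.toRingHom) L.val.toRingHom.injective ?_
        refine hC'.trans (hC.trans ?_)
        ext <;> simp [M₀, WeierstrassCurve.map, l']
      haveI : (W.baseChange L).IsElliptic := inferInstanceAs (W.map _).IsElliptic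
      have hjrel : M₀.Δ * (φ r : L) = M₀.c₄ ^ 3 := by
        have h := delta_mul_j (C' • W.baseChange L)
        rw [variableChange_j, show (W.baseChange L).j = algebraMap K L W.j from map_j W _, ← hr, hφ r,
          congrArg WeierstrassCurve.Δ hM₀, congrArg WeierstrassCurve.c₄ hM₀] at h
        exact h
      obtain ⟨M, hM, hMu⟩ := legendre_good A (by have := h2.map φ; rwa [map_ofNat] at this) l' (φ r) hjrel
      exact ⟨L, inferInstance, inferInstance, inferInstance, A, inferInstance, inferInstance, hA, inferInstance,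
        inferInstance, φ, hφl, hφ, good_of_model (W.baseChange L) C' M (hM₀.trans hM.symm) hMu⟩
    · have h3 : IsUnit (3 : R) := by
        by_contra h
        have : (3 : R) - 2 ∈ IsLocalRing.maximalIdeal R := sub_mem h h2
        norm_num at this
      have h3' : (3 : Ω) ≠ 0 := by
        have := (h3.map ((algebraMap K Ω).comp (algebraMap R K))).ne_zero
        rwa [map_ofNat] at this
      obtain ⟨C, a, hC⟩ := exists_deuring (W.map (algebraMap K Ω)) h3'
      classical
      let S : Finset Ω := {(C.u : Ω), C.r, C.s, C.t, a}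
      let L := IntermediateField.adjoin K (S : Set Ω)
      have : FiniteDimensional K L := IntermediateField.finiteDimensional_adjoin fun x _ =>
        Algebra.IsIntegral.isIntegral x
      obtain ⟨C', hC'⟩ := descend W S C (by simp [S])
      obtain ⟨A, hA, φ, hφl, hφ⟩ := exists_dvr (R := R) (K := K) L
      let a' : L := ⟨a, IntermediateField.subset_adjoin K _ (by simp [S])⟩
      let M₀ : WeierstrassCurve L := ⟨a', 0, 1, 0, 0⟩
      have hM₀ : C' • W.baseChange L = M₀ := by
        refine WeierstrassCurve.map_injective (f := L.val.toRingHom) L.val.toRingHom.injective ?_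
        refine hC'.trans (hC.trans ?_)
        ext <;> simp [M₀, WeierstrassCurve.map, a']
      haveI : (W.baseChange L).IsElliptic := inferInstanceAs (W.map _).IsElliptic
      have hjrel : M₀.Δ * (φ r : L) = M₀.c₄ ^ 3 := by
        have h := delta_mul_j (C' • W.baseChange L)
        rw [variableChange_j, show (W.baseChange L).j = algebraMap K L W.j from map_j W _, ← hr, hφ r,
          congrArg WeierstrassCurve.Δ hM₀, congrArg WeierstrassCurve.c₄ hM₀] at h
        exact h
      obtain ⟨M, hM, hMu⟩ := deuring_good A (by have := h3.map φ; rwa [map_ofNat] at this) a' (φ r) hjrel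
      exact ⟨L, inferInstance, inferInstance, inferInstance, A, inferInstance, inferInstance, hA, inferInstance,
        inferInstance, φ, hφl, hφ, good_of_model (W.baseChange L) C' M (hM₀.trans hM.symm) hMu⟩
  · rintro ⟨L, _, _, _, A, _, _, _, _, _, φ, hφl, hφ, hgood⟩
    haveI : (W.baseChange L).IsElliptic := inferInstanceAs (W.map _).IsElliptic
    let V := (W.baseChange L).minimal A
    have hΔ : IsUnit (V.integralModel A).Δ := by
      by_contra h
      have h1 := hgood.goodReduction
      rw [← integralModel_Δ_eq A V] at h1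
      exact ((IsDedekindDomain.HeightOneSpectrum.valuation_lt_one_iff_mem _ _).mpr h).ne h1
    obtain ⟨x, hx⟩ : ∃ x : A, algebraMap A L x = algebraMap K L W.j := by
      refine ⟨↑hΔ.unit⁻¹ * (V.integralModel A).c₄ ^ 3, ?_⟩
      have e1 : algebraMap K L W.j = (((W.baseChange L).exists_isMinimal A).choose • W.baseChange L).j := by
        rw [variableChange_j]; exact (map_j W _).symm
      have hj := delta_mul_j (((W.baseChange L).exists_isMinimal A).choose • W.baseChange L)
      rw [← e1] at hj
      change V.Δ * _ = V.c₄ ^ 3 at hj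
      rw [← integralModel_Δ_eq A V, ← integralModel_c₄_eq A V] at hj
      rw [map_mul, map_pow, ← hj, ← mul_assoc, ← map_mul, IsUnit.val_inv_mul hΔ, map_one, one_mul]
    by_contra hne
    push Not at hne
    rcases ValuationRing.isInteger_or_isInteger R W.j with ⟨r, hr⟩ | ⟨r, hr⟩
    · exact hne r hr
    · have hj0 : W.j ≠ 0 := fun h => hne 0 (by rw [map_zero, h])
      have hru : ¬ IsUnit r := fun hu => hne (↑hu.unit⁻¹) (by
        rw [map_units_inv, IsUnit.unit_spec, hr, inv_inv])
      have h1 : φ r * x = 1 := IsFractionRing.injective A L (by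
        rw [map_mul, map_one, ← hφ r, hx, hr, ← map_mul, inv_mul_cancel₀ hj0, map_one])
      exact hru (isUnit_of_map_unit φ r (IsUnit.of_mul_eq_one _ h1))

end Groth.Agent.S0614
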