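import Groth.Statements.S0632
import Groth.Agent.EtaleSite.PushIntegral

set_option autoImplicit false
open CategoryTheory CategoryTheory.Limits AlgebraicGeometry Opposite
universe u
open EtCore

namespace Groth.Agent.S0632

/-- Let X -> Y be a closed immersion and U_i -> X (i in ι) a jointly surjective family of etale
morphisms. Then one can find a jointly surjective family of etale Y-schemes V_j each of which either
has empty preimage over X or, after base change to X, maps into one of the U_i over X. -/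
theorem result {X Y : Scheme.{u}} (f : X ⟶ Y) [IsClosedImmersion f]
    {ι : Type u} (U : ι → X.Etale) (hU : EtCoh.Covers U) :
    ∃ (κ : Type u) (V : κ → Y.Etale), EtCoh.Covers V ∧
      ∀ j, IsEmpty ↥(pullback (V j).hom f) ∨
        ∃ (i : ι) (h : pullback (V j).hom f ⟶ (U i).left), h ≫ (U i).hom = pullback.snd (V j).hom f := by
  have key : ∀ y : Y, ∃ V : Y.Etale, (∃ v : V.left, V.hom v = y) ∧
      (IsEmpty ↥(pullback V.hom f) ∨
        ∃ (i : ι) (h : pullback V.hom f ⟶ (U i).left), h ≫ (U i).hom = pullback.snd V.hom f) := by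
    intro y
    by_cases hy : y ∈ Set.range f
    · obtain ⟨x, rfl⟩ := hy
      obtain ⟨i, u, rfl⟩ := hU x
      haveI : AlgebraicGeometry.Etale (U i).hom := (U i).prop
      obtain ⟨V, hv, h, hh⟩ := Groth.Agent.EtaleSite.exists_nbhd_factor f (U i).hom
        (f ((U i).hom u)) fun x hx => ⟨u, (f.isClosedEmbedding.injective hx).symm⟩
      exact ⟨V, hv, Or.inr ⟨i, h, hh⟩⟩
    · let O : Y.Opens := ⟨(Set.range f)ᶜ, f.isClosedEmbedding.isClosed_range.isOpen_compl⟩
      refine ⟨Scheme.Etale.mk O.ι, ⟨(⟨y, hy⟩ : O), rfl⟩, Or.inl ⟨fun z => ?_⟩⟩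
      refine (pullback.fst O.ι f z).2 ⟨pullback.snd O.ι f z, ?_⟩
      exact (congrArg (fun k : pullback O.ι f ⟶ Y => k z) pullback.condition).symm
  choose V hv hV using key
  exact ⟨Y, V, fun y => ⟨y, hv y⟩, hV⟩

end Groth.Agent.S0632
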