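import Groth.Statements.S0634
import Groth.Agent.EtaleSite.PushStalk
-- import your own Groth.Agent.* helpers here

set_option autoImplicit false
open CategoryTheory CategoryTheory.Limits AlgebraicGeometry Opposite
universe u
open EtCore

namespace Groth.Agent.S0634

open Groth.Agent.EtaleSite

/-- The structure map to the terminal object. -/
noncomputable def toTop {S : Scheme.{u}} (V : S.Etale) : V ⟶ EtCoh.top S :=
  MorphismProperty.Over.homMk V.hom (Category.comp_id _) trivial

/-- For an abelian sheaf F on the small etale site of S and two global sections s, t there is an open W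
of S such that a morphism f : T -> S has image inside W if and only if the pullbacks of s and t
along f (images under the adjunction unit, as sections of the pullback sheaf over T) coincide. -/
theorem result {S : Scheme.{u}} (F : EtCoh.Ab S) (s t : EtCoh.sect F (EtCoh.top S)) :
    ∃ W : S.Opens, ∀ (T : Scheme.{u}) (f : T ⟶ S),
      Set.range f.base ⊆ (W : Set S) ↔
        ((EtCoh.pullPushAdj f).unit.app F).hom.app (op (EtCoh.top S)) s =
          ((EtCoh.pullPushAdj f).unit.app F).hom.app (op (EtCoh.top S)) t := by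
  let W : S.Opens := ⟨{x | ∃ (V : S.Etale) (v : V.left), F.obj.map (toTop V).op s =
      F.obj.map (toTop V).op t ∧ V.hom v = x}, by
    rw [isOpen_iff_forall_mem_open]
    rintro x ⟨V, v, hV, hv⟩
    haveI : AlgebraicGeometry.Etale V.hom := V.prop
    exact ⟨Set.range V.hom, by rintro _ ⟨w, rfl⟩; exact ⟨V, w, hV, rfl⟩,
      V.hom.isOpenMap.isOpen_range, v, hv⟩⟩
  refine ⟨W, fun T f => ⟨fun hT => ?_, fun heq => ?_⟩⟩
  · refine sect_ext (U := (EtCoh.bc f).obj (EtCoh.top S)) _ _ fun Ω _ _ ξ x => ?_
    obtain ⟨φ, rfl⟩ := (fiberBcEquiv f ξ (EtCoh.top S)).surjective x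
    rw [← germ_stalkPullIso_inv, ← germ_stalkPullIso_inv]
    refine congrArg _ ?_
    obtain ⟨V, v, hV, hv⟩ := hT (⟨ξ default, rfl⟩ : f (ξ default) ∈ Set.range f.base)
    obtain ⟨y, -⟩ := exists_fiber_point (ξ ≫ f) V v hv
    have hy : (Scheme.pointSmallEtale (ξ ≫ f)).fiber.map (toTop V) y = φ :=
      Over.OverMorphism.ext ((Over.w y).trans ((Category.comp_id φ.left).symm.trans (Over.w φ)).symm)
    rw [← hy, ← germ_res, hV, germ_res]
  · rintro _ ⟨τ, rfl⟩
    let ξ := geomPointAt T τ
    let φ : (Scheme.pointSmallEtale (ξ ≫ f)).fiber.obj (EtCoh.top S) :=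
      (Over.homMk (ξ ≫ f) (Category.comp_id _) :
        Over.mk (ξ ≫ f) ⟶ (Scheme.Etale.forget S).obj (EtCoh.top S))
    have h1 : (stalkPullIso f ξ).inv.app F (germ (ξ ≫ f) F _ φ s) =
        (stalkPullIso f ξ).inv.app F (germ (ξ ≫ f) F _ φ t) := by
      rw [germ_stalkPullIso_inv, germ_stalkPullIso_inv, heq]
    obtain ⟨V, g, y, hy, hst⟩ := (germ_eq_iff (ξ ≫ f) F _ φ s t).1
      ((ConcreteCategory.bijective_of_isIso ((stalkPullIso f ξ).inv.app F)).1 h1)
    have hg : g = toTop V := MorphismProperty.Over.Hom.ext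
      ((Category.comp_id g.left).symm.trans (MorphismProperty.Over.w g))
    subst hg
    exact ⟨V, y.left (default : Spec (CommRingCat.of _)), hst,
      ((congrArg (fun k : Spec (CommRingCat.of _) ⟶ S => k default) (Over.w y)).trans
        (congrArg f (geomPointAt_apply T τ _)))⟩

end Groth.Agent.S0634
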