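import Groth.Statements.S0642
import Groth.Agent.EtaleSite.PushImage
import Groth.Agent.EtaleSite.ExtEquiv
import Groth.Prelude.Def_EtCore

set_option autoImplicit false
open CategoryTheory CategoryTheory.Limits AlgebraicGeometry Opposite
universe u
open EtCore

namespace Groth.Agent.S0642

/-- Let X_0 -> X be integral, universally injective and surjective (a universal homeomorphism). Then for
every abelian sheaf F on the small etale site of X and every q the pullback map from H^q(X, F) to
H^q(X_0, F|_{X_0}) is bijective. (Exactness of pullback of abelian sheaves, which always holds, is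
carried as an instance hypothesis.) -/
theorem result {X₀ X : Scheme.{u}} (i : X₀ ⟶ X) [IsIntegralHom i]
    [UniversallyInjective i] [Surjective i] [PreservesFiniteLimits (EtCoh.pull i)] (F : EtCoh.Ab X) (q : ℕ) :
    Function.Bijective (EtCore.Hpull i F q) := by
  haveI : ∀ G, IsIso ((EtCoh.pullPushAdj i).unit.app G) := fun G =>
    Groth.Agent.EtaleSite.isIso_unit_of_supp i G fun x _ => i.surjective x
  haveI : ∀ G, IsIso ((EtCoh.pullPushAdj i).counit.app G) := Groth.Agent.EtaleSite.isIso_counit i
  let e := (EtCoh.pullPushAdj i).toEquivalence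
  have hinj : ∀ I : EtCoh.Ab X, Injective I → Injective ((EtCoh.pull i).obj I) := fun I hI => by
    haveI : e.inverse.PreservesMonomorphisms := inferInstance
    exact e.symm.toAdjunction.map_injective I hI
  have hb := Groth.Agent.EtaleSite.bijective_mapExt (EtCoh.pull i) e.fullyFaithfulFunctor hinj
    (EtCoh.const X ℤ) q F
  have hc : Function.Bijective (fun e : Abelian.Ext ((EtCoh.pull i).obj (EtCoh.const X ℤ))
      ((EtCoh.pull i).obj F) q =>
      (Abelian.Ext.mk₀ (EtCore.pullConst i ℤ).inv).comp e (zero_add q)) := by
    refine Function.bijective_iff_has_inverse.2 ⟨fun e' =>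
      (Abelian.Ext.mk₀ (EtCore.pullConst i ℤ).hom).comp e' (zero_add q), fun e' => ?_, fun e' => ?_⟩
    · simp
    · simp
  exact hc.comp hb

end Groth.Agent.S0642
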