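import Groth.Statements.S0643
-- import your own Groth.Agent.* helpers here

set_option autoImplicit false
universe u
open EtCore

namespace Groth.Agent.S0643

open Polynomial in
/-- Let A be a ring, assumed nonzero here (the published statement does not say so; over the zero ring
no polynomial has positive degree in Lean's sense), and a, b elements generating the unit ideal such
that some positive power of a is congruent to 1 modulo b. Then there is a monic polynomial P of
positive degree over A such that in B = A[y]/(P) the element a - b y is a unit. -/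
theorem result (A : Type u) [CommRing A] [Nontrivial A] (a b : A) (hab : IsCoprime a b)
    (hroot : ∃ n : ℕ, 0 < n ∧ a ^ n - 1 ∈ Ideal.span ({b} : Set A)) :
    ∃ P : A[X], P.Monic ∧ 0 < P.natDegree ∧
      IsUnit (algebraMap A (AdjoinRoot P) a - algebraMap A (AdjoinRoot P) b * AdjoinRoot.root P) := by
  obtain ⟨n, hn, hmem⟩ := hroot
  obtain ⟨c, hc⟩ := Ideal.mem_span_singleton.mp hmem
  obtain ⟨x, y, hxy⟩ := hab
  obtain ⟨m, rfl⟩ : ∃ m, n = m + 1 := ⟨n - 1, by omega⟩
  let P : A[X] := X ^ (m + 1) - C c * (C x * X + C y) ^ m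
  have hlt : (C c * (C x * X + C y) ^ m).natDegree < m + 1 := by
    have h1 : (C x * X + C y).natDegree ≤ 1 := natDegree_linear_le
    have h2 := natDegree_pow_le_of_le m h1
    have h3 := natDegree_C_mul_le c ((C x * X + C y) ^ m)
    omega
  have hlt' : (C c * (C x * X + C y) ^ m).degree < ((m + 1 : ℕ) : WithBot ℕ) :=
    degree_le_natDegree.trans_lt (by exact_mod_cast hlt)
  have hP : P.Monic := monic_X_pow_sub hlt'
  have hdeg : P.natDegree = m + 1 := by
    rw [natDegree_sub_eq_left_of_natDegree_lt (by rwa [natDegree_X_pow]), natDegree_X_pow]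
  refine ⟨P, hP, by omega, ?_⟩
  set B := AdjoinRoot P
  let f := algebraMap A B
  let r : B := AdjoinRoot.root P
  have hr : r ^ (m + 1) = f c * (f x * r + f y) ^ m := by
    have h : AdjoinRoot.mk P P = 0 := AdjoinRoot.mk_self
    simp only [P, map_sub, map_mul, map_pow, map_add, AdjoinRoot.mk_X, AdjoinRoot.mk_C,
      sub_eq_zero] at h
    exact h
  obtain ⟨s, hs⟩ := sub_dvd_pow_sub_pow (f a) (f b * r) (m + 1)
  obtain ⟨t, ht⟩ := sub_dvd_pow_sub_pow (f x * f a + f y * f b) (f x * (f b * r) + f y * f b) m
  have e1 : f a ^ (m + 1) - 1 = f b * f c := by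
    rw [← map_pow, ← map_mul, ← hc, map_sub, map_one]
  have e2 : f x * f a + f y * f b = 1 := by rw [← map_mul, ← map_mul, ← map_add, hxy, map_one]
  rw [e2, one_pow] at ht
  have e3 : (f x * (f b * r) + f y * f b) ^ m = f b ^ m * (f x * r + f y) ^ m := by
    rw [← mul_pow]; ring
  rw [e3] at ht
  rw [mul_pow, hr] at hs
  refine IsUnit.of_mul_eq_one (s - f b * f c * t * f x) ?_
  show (f a - f b * r) * _ = 1
  have ht' : 1 - f b ^ m * (f x * r + f y) ^ m =
      (f x * f a + f y * f b - (f x * (f b * r) + f y * f b)) * t := by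
    rw [e2]; exact ht
  linear_combination -hs + f b * f c * ht' + e1

end Groth.Agent.S0643
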