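import Groth.Statements.S0644
import Groth.Agent.EtaleSite.Stalk
import Mathlib.AlgebraicGeometry.Morphisms.UniversallyOpen
-- import your own Groth.Agent.* helpers here

set_option autoImplicit false
open CategoryTheory CategoryTheory.Limits AlgebraicGeometry Opposite
universe u
open EtCore

namespace Groth.Agent.S0644

/-- Let F be a sheaf of sets on the small etale site of S which is a subsheaf of the final sheaf, i.e.
every set of sections has at most one element. Then there is exactly one open W of S such that F is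
isomorphic to the sheaf represented by W (viewed as a scheme etale over S). -/
theorem result (S : Scheme.{u}) (F : Sheaf S.smallEtaleTopology (Type u))
    (hF : ∀ U : S.Etale, Subsingleton (F.obj.obj (op U))) :
    ∃! W : S.Opens, Nonempty (F.obj ≅ yoneda.obj (Scheme.Etale.mk W.ι)) := by
  classical
  let W : S.Opens := ⟨{x | ∃ (V : S.Etale) (v : V.left), Nonempty (F.obj.obj (op V)) ∧ V.hom v = x}, by
    rw [isOpen_iff_forall_mem_open]
    rintro x ⟨V, v, hV, hv⟩
    haveI : AlgebraicGeometry.Etale V.hom := V.prop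
    exact ⟨Set.range V.hom, by rintro _ ⟨w, rfl⟩; exact ⟨V, w, hV, rfl⟩,
      V.hom.isOpenMap.isOpen_range, v, hv⟩⟩
  let M : S.Etale := Scheme.Etale.mk W.ι
  haveI hM : ∀ U : S.Etale, Subsingleton (U ⟶ M) := fun U => ⟨fun a b => MorphismProperty.Over.Hom.ext
    ((cancel_mono W.ι).1 ((MorphismProperty.Over.w a).trans (MorphismProperty.Over.w b).symm))⟩
  have hmk : ∀ U : S.Etale, Nonempty (F.obj.obj (op U)) → Nonempty (U ⟶ M) := fun U hU =>
    ⟨MorphismProperty.Over.homMk (IsOpenImmersion.lift (X := (W : Scheme.{u})) (Z := S) W.ι U.hom (by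
      rintro _ ⟨u, rfl⟩
      erw [Scheme.Opens.range_ι]
      exact ⟨U, u, hU, rfl⟩)) (IsOpenImmersion.lift_fac (X := (W : Scheme.{u})) (Z := S) W.ι _ _) trivial⟩
  have hsec : ∀ U : S.Etale, (U ⟶ M) → Nonempty (F.obj.obj (op U)) := fun U a => by
    let R : Sieve U :=
      { arrows := fun V _ => Nonempty (F.obj.obj (op V))
        downward_closed := fun {V V' _} hV g => hV.map (F.obj.map g.op) }
    have hR : R ∈ S.smallEtaleTopology U := by
      refine Groth.Agent.EtaleSite.mem_topology_of_forall_exists R fun u => ?_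
      obtain ⟨V, v, hV, hv⟩ : U.hom u ∈ W := by
        show U.hom u ∈ W
        rw [← MorphismProperty.Over.w a]
        exact (a.left u).2
      haveI : AlgebraicGeometry.Etale V.hom := V.prop
      haveI : AlgebraicGeometry.Etale U.hom := U.prop
      obtain ⟨p, hp, hp'⟩ := Scheme.Pullback.exists_preimage_pullback (f := U.hom) (g := V.hom) u v hv.symm
      let P : S.Etale := Scheme.Etale.mk (pullback.fst U.hom V.hom ≫ U.hom)
      let q : P ⟶ V := MorphismProperty.Over.homMk (pullback.snd U.hom V.hom)
        pullback.condition.symm trivial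
      exact ⟨P, MorphismProperty.Over.homMk (pullback.fst U.hom V.hom) rfl trivial, p,
        hV.map (F.obj.map q.op), hp⟩
    have hP := (isSheaf_iff_isSheaf_of_type _ _).1 F.property R hR
    let x : Presieve.FamilyOfElements F.obj R.arrows := fun V g hg => hg.some
    exact ⟨(hP x fun Y₁ Y₂ Z g₁ g₂ f₁ f₂ h₁ h₂ _ => (hF Z).elim _ _).choose⟩
  refine ⟨W, ⟨NatIso.ofComponents (fun U =>
    { hom := TypeCat.ofHom fun s => (hmk U.unop ⟨s⟩).some
      inv := TypeCat.ofHom fun a => (hsec U.unop a).some
      hom_inv_id := by ext s; exact (hF U.unop).elim _ _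
      inv_hom_id := by ext a; exact (hM U.unop).elim _ _ })
    fun {U V} g => by ext s; exact (hM V.unop).elim _ _⟩, fun W' ⟨e⟩ => ?_⟩
  let eM : Scheme.Etale.mk W'.ι ≅ M := Yoneda.fullyFaithful.preimageIso (e.symm ≪≫
    NatIso.ofComponents (fun U =>
      { hom := TypeCat.ofHom fun s => (hmk U.unop ⟨s⟩).some
        inv := TypeCat.ofHom fun a => (hsec U.unop a).some
        hom_inv_id := by ext s; exact (hF U.unop).elim _ _
        inv_hom_id := by ext a; exact (hM U.unop).elim _ _ })
      fun {U V} g => by ext s; exact (hM V.unop).elim _ _)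
  refine le_antisymm (fun x hx => ?_) (fun x hx => ?_)
  · have h := congrArg (fun k : (W' : Scheme.{u}) ⟶ S => k ⟨x, hx⟩) (MorphismProperty.Over.w eM.hom)
    exact Eq.subst (motive := fun z => z ∈ W) h (eM.hom.left ⟨x, hx⟩).2
  · have h := congrArg (fun k : (W : Scheme.{u}) ⟶ S => k ⟨x, hx⟩) (MorphismProperty.Over.w eM.inv)
    exact Eq.subst (motive := fun z => z ∈ W') h (eM.inv.left ⟨x, hx⟩).2

end Groth.Agent.S0644
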