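import Groth.Statements.S0650
import Groth.Agent.S0727
import Groth.Agent.S0680


set_option autoImplicit false
open CategoryTheory CategoryTheory.Limits AlgebraicGeometry Opposite
universe u
open EtCore

namespace Groth.Agent.S0650

/-- For a separated étale morphism j : U → X there is a natural transformation from extension by zero
j_! to direct image j_*, on abelian sheaves, whose component at every abelian sheaf on the small
étale site of U is a monomorphism. (Only the existence of such a natural injective comparison map is
stated; the published statement constructs a specific one.) (Continuity of the composition functor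
of étale sites, which always holds, is carried as an instance hypothesis.) -/
theorem result {U X : Scheme.{u}} (j : U ⟶ X) [AlgebraicGeometry.Etale j]
    [IsSeparated j] [EtShriek.JCont j] :
    ∃ τ : EtShriek.extZero j ⟶ EtCoh.push j, ∀ F : EtCoh.Ab U, Mono (τ.app F) := by
  obtain ⟨e⟩ := S0727.result j
  let τ : EtShriek.lowerShriek j ⟶ EtCoh.push j :=
    { app := fun F => EtShriek.lowerShriekToPush j F
      naturality := fun F G a => by
        change (presheafToSheaf _ _).map ((EtShriek.lowerShriekPreFunctor j).map a) ≫ _ = _
        refine (((sheafificationAdjunction X.smallEtaleTopology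
          AddCommGrpCat.{u + 1}).homEquiv_naturality_left_symm (Y := (EtCoh.push j).obj G)
            ((EtShriek.lowerShriekPreFunctor j).map a) (EtShriek.lowerShriekPreι j G)).symm.trans ?_).trans
          ((sheafificationAdjunction X.smallEtaleTopology
            AddCommGrpCat.{u + 1}).homEquiv_naturality_right_symm (X := EtShriek.lowerShriekPre j F) (Y := (EtCoh.push j).obj F)
              (EtShriek.lowerShriekPreι j F)
              ((EtCoh.push j).map a))
        congr 1 }
  refine ⟨e.hom ≫ τ, fun F => ?_⟩
  have hm : Mono (EtShriek.lowerShriekToPush j F) := by
    let P := EtShriek.lowerShriekPre j F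
    let η := (sheafificationAdjunction X.smallEtaleTopology AddCommGrpCat.{u + 1}).unit.app P
    have : IsIso η := isIso_toSheafify X.smallEtaleTopology (S0680.result j F)
    have h : η ≫ (EtShriek.lowerShriekToPush j F).hom = EtShriek.lowerShriekPreι j F := by
      exact ((sheafificationAdjunction X.smallEtaleTopology AddCommGrpCat.{u + 1}).homEquiv_unit P ((EtCoh.push j).obj F)
          (EtShriek.lowerShriekToPush j F)).symm.trans
        (((sheafificationAdjunction X.smallEtaleTopology AddCommGrpCat.{u + 1}).homEquiv P
          ((EtCoh.push j).obj F)).apply_symm_apply (EtShriek.lowerShriekPreι j F))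
    have : Mono (EtShriek.lowerShriekPreι j F) := by
      have : ∀ V, Mono ((EtShriek.lowerShriekPreι j F).app V) := fun V =>
        (AddCommGrpCat.mono_iff_injective _).2 Subtype.val_injective
      exact NatTrans.mono_of_mono_app _
    have : Mono ((sheafToPresheaf _ _).map (EtShriek.lowerShriekToPush j F)) := by
      have : (sheafToPresheaf _ _).map (EtShriek.lowerShriekToPush j F) =
          inv η ≫ EtShriek.lowerShriekPreι j F := by
        rw [← h, IsIso.inv_hom_id_assoc]
        rfl
      rw [this]
      exact mono_comp (inv η) (EtShriek.lowerShriekPreι j F)
    exact (sheafToPresheaf _ _).mono_of_mono_map this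
  exact mono_comp (e.hom.app F) (EtShriek.lowerShriekToPush j F)

end Groth.Agent.S0650
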