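import Groth.Statements.S0653
import Groth.Agent.EtaleSite.FiniteBC
import Groth.Agent.EtSupp.Basic

set_option autoImplicit false
open CategoryTheory CategoryTheory.Limits AlgebraicGeometry Opposite
universe u
open EtCore

namespace Groth.Agent.S0653

/-- Consider a cartesian square U = X x_Y V with f : X -> Y finite, j : V -> Y an open immersion, j' : U
-> X and g : U -> V the projections. Then for every abelian sheaf F on the small etale site of U,
f_* j'_! F is isomorphic to j_! g_* F. (The source also asserts functoriality in F; only the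
objectwise isomorphism is stated.) (Continuity of the composition functor of etale sites, which
always holds, is carried as an instance hypothesis.) -/
theorem result {U X V Y : Scheme.{u}} (f : X ⟶ Y) [IsFinite f] (j : V ⟶ Y)
    [IsOpenImmersion j] [AlgebraicGeometry.Etale j] [EtShriek.JCont j] (j' : U ⟶ X) [IsOpenImmersion j']
    [AlgebraicGeometry.Etale j'] [EtShriek.JCont j'] (g : U ⟶ V) (h : IsPullback j' g f j) (F : EtCoh.Ab U) :
    Nonempty ((EtCoh.push f).obj ((EtShriek.extZero j').obj F) ≅ (EtShriek.extZero j).obj ((EtCoh.push g).obj F)) := by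
  let H := (EtShriek.extZero j').obj F
  haveI := Groth.Agent.EtaleSite.isIso_baseChange0 f j g j' h H
  let e₁ : (EtCoh.pull j).obj ((EtCoh.push f).obj H) ≅ (EtCoh.push g).obj ((EtCoh.pull j').obj H) :=
    asIso (EtCoh.baseChange0 f j g j' h.w H)
  haveI := Groth.Agent.EtaleSite.isIso_unit_extZero j' F
  let e₂ : F ≅ (EtCoh.pull j').obj H :=
    asIso ((EtShriek.extZeroAdj j').unit.app F) ≪≫
      ((Groth.Agent.EtaleSite.pullIsoRestrAlong j').app H).symm
  let c := (Groth.Agent.EtSupp.extPullAdj j).counit.app ((EtCoh.push f).obj H)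
  suffices IsIso c from
    ⟨((EtShriek.extZero j).mapIso ((EtCoh.push g).mapIso e₂ ≪≫ e₁.symm) ≪≫ asIso c).symm⟩
  refine Groth.Agent.EtaleSite.isIso_of_stalk _ fun Ω _ _ ξ => ?_
  rcases Groth.Agent.EtSupp.exists_lift_or_notMem j ξ with ⟨ζ, rfl⟩ | hξ
  · haveI hu : IsIso ((Groth.Agent.EtSupp.extPullAdj j).unit.app
        ((EtCoh.pull j).obj ((EtCoh.push f).obj H))) := by
      haveI := Groth.Agent.EtaleSite.isIso_unit_extZero j ((EtCoh.pull j).obj ((EtCoh.push f).obj H))
      simp only [Groth.Agent.EtSupp.extPullAdj, Adjunction.ofNatIsoRight_unit, NatTrans.comp_app,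
        Functor.whiskerLeft_app]
      infer_instance
    have h1 : IsIso ((EtCoh.pull j).map c) := by
      rw [← IsIso.inv_eq_of_hom_inv_id
        ((Groth.Agent.EtSupp.extPullAdj j).right_triangle_components ((EtCoh.push f).obj H))]
      infer_instance
    exact (NatIso.isIso_map_iff (Groth.Agent.EtaleSite.stalkPullIso j ζ) _).mp
      (inferInstanceAs (IsIso ((EtCoh.stalk ζ).map ((EtCoh.pull j).map c))))
  · refine (Groth.Agent.EtSupp.isZero_stalk_extZero j _ ξ hξ).isIso ?_ _
    let σ : Spec (CommRingCat.of (AlgebraicClosure Ω)) ⟶ Spec (CommRingCat.of Ω) :=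
      Spec.map (CommRingCat.ofHom (algebraMap Ω (AlgebraicClosure Ω)))
    refine IsZero.of_iso ?_ ((Groth.Agent.EtaleSite.stalkExtIso σ ξ).app _)
    suffices ∀ p : (EtCoh.stalk (σ ≫ ξ)).obj ((EtCoh.push f).obj H), p = 0 from
      @AddCommGrpCat.isZero_of_subsingleton _ ⟨fun a b => (this a).trans (this b).symm⟩
    intro p
    refine Groth.Agent.EtaleSite.eq_zero_of_cmpAt f (σ ≫ ξ) H p fun ξ' hξ' => ?_
    have hz : IsZero ((EtCoh.stalk ξ').obj H) := by
      refine Groth.Agent.EtSupp.isZero_stalk_extZero j' F ξ' ?_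
      rintro ⟨x, hx⟩
      refine hξ ⟨g x, ?_⟩
      have h1 : j (g x) = f (j' x) := congrArg (fun k : U ⟶ Y => k x) h.w.symm
      have h2 : f (ξ' default) = ξ (σ default) :=
        congrArg (fun k : Spec (CommRingCat.of (AlgebraicClosure Ω)) ⟶ Y => k default) hξ'
      exact h1.trans ((congrArg f hx).trans (h2.trans (congrArg ξ (Subsingleton.elim _ _))))
    have := AddCommGrpCat.subsingleton_of_isZero hz
    exact Subsingleton.elim _ _

end Groth.Agent.S0653
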