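import Groth.Statements.S0660
import Groth.Agent.EtaleSite.Clopen
import Groth.Agent.EtaleSite.Points
import Mathlib.AlgebraicGeometry.Morphisms.IsIso
-- import your own Groth.Agent.* helpers here

set_option autoImplicit false
open CategoryTheory CategoryTheory.Limits AlgebraicGeometry Opposite
universe u
open EtCore

namespace Groth.Agent.S0660

/-- Let i : Z -> X be a closed immersion, U and U' schemes etale over X, and h a Z-morphism from U x_X Z
to U' x_X Z. Then there are an etale X-scheme W and X-morphisms a : W -> U, b : W -> U' such that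
the base change of a to Z is an isomorphism and h is the base change of b composed with the inverse
of the base change of a. -/
theorem result {Z X : Scheme.{u}} (i : Z ⟶ X) [IsClosedImmersion i] (U U' : X.Etale)
    (h : (EtCoh.bc i).obj U ⟶ (EtCoh.bc i).obj U') :
    ∃ (W : X.Etale) (a : W ⟶ U) (b : W ⟶ U'), IsIso ((EtCoh.bc i).map a) ∧ (EtCoh.bc i).map a ≫ h = (EtCoh.bc i).map b := by
  haveI : AlgebraicGeometry.Etale U.hom := U.prop
  haveI : AlgebraicGeometry.Etale U'.hom := U'.prop
  let P : X.Etale := Scheme.Etale.mk (pullback.fst U.hom U'.hom ≫ U.hom)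
  let a₀ : P ⟶ U := MorphismProperty.Over.homMk (pullback.fst U.hom U'.hom) rfl trivial
  let b₀ : P ⟶ U' := MorphismProperty.Over.homMk (pullback.snd U.hom U'.hom)
    pullback.condition.symm trivial
  let p : ((EtCoh.bc i).obj P).left ⟶ P.left := pullback.fst P.hom i
  let q : ((EtCoh.bc i).obj U).left ⟶ P.left :=
    pullback.lift (pullback.fst U.hom i) (h.left ≫ pullback.fst U'.hom i) (by
      refine pullback.condition.trans ?_
      refine Eq.trans ?_ ((Category.assoc _ _ _).trans
        (congrArg (h.left ≫ ·) pullback.condition)).symm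
      exact (congrArg (· ≫ i) (MorphismProperty.Over.w h).symm).trans (Category.assoc _ _ _))
  let k : ((EtCoh.bc i).obj U).left ⟶ ((EtCoh.bc i).obj P).left :=
    pullback.lift q (pullback.snd U.hom i) (by
      refine (Category.assoc _ _ _).symm.trans ?_
      exact (congrArg (· ≫ U.hom) (pullback.lift_fst _ _ _)).trans pullback.condition)
  have hk : k ≫ ((EtCoh.bc i).map a₀).left = 𝟙 _ := by
    refine pullback.hom_ext ?_ ?_
    · refine (Category.assoc _ _ _).trans ((congrArg (k ≫ ·) (pullback.lift_fst _ _ _)).trans ?_)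
      refine (Category.assoc _ _ _).symm.trans ((congrArg (· ≫ a₀.left) (pullback.lift_fst _ _ _)).trans ?_)
      exact (pullback.lift_fst _ _ _).trans (Category.id_comp _).symm
    · refine (Category.assoc _ _ _).trans ((congrArg (k ≫ ·) (pullback.lift_snd _ _ _)).trans ?_)
      exact (pullback.lift_snd _ _ _).trans (Category.id_comp _).symm
  haveI : AlgebraicGeometry.Etale ((EtCoh.bc i).map a₀).left := by
    haveI : AlgebraicGeometry.Etale ((EtCoh.bc i).obj U).hom := ((EtCoh.bc i).obj U).prop
    haveI : AlgebraicGeometry.Etale (((EtCoh.bc i).map a₀).left ≫ ((EtCoh.bc i).obj U).hom) := by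
      rw [MorphismProperty.Over.w ((EtCoh.bc i).map a₀)]; exact ((EtCoh.bc i).obj P).prop
    exact AlgebraicGeometry.Etale.of_comp _ ((EtCoh.bc i).obj U).hom
  haveI : IsOpenImmersion k := Groth.Agent.EtaleSite.isOpenImmersion_of_section _ k hk
  haveI : IsClosedImmersion p := MorphismProperty.pullback_fst P.hom i ‹_›
  let C : Set P.left := p '' (Set.range k)ᶜ
  let W₀ : P.left.Opens :=
    ⟨Cᶜ, (p.isClosedEmbedding.isClosedMap _ k.isOpenEmbedding.isOpen_range.isClosed_compl).isOpen_compl⟩
  let W : X.Etale := Groth.Agent.EtaleSite.piece P W₀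
  let e : W ⟶ P := Groth.Agent.EtaleSite.pieceHom P W₀
  have hq : Set.range q ⊆ Set.range W₀.ι := by
    rintro _ ⟨z, rfl⟩
    rw [Scheme.Opens.range_ι]
    rintro ⟨z', hz', hzz⟩
    refine hz' ⟨z, p.isClosedEmbedding.injective ?_⟩
    exact (congrArg (fun r : ((EtCoh.bc i).obj U).left ⟶ P.left => r z)
      (pullback.lift_fst _ _ _)).trans hzz.symm
  let m : ((EtCoh.bc i).obj U).left ⟶ ((EtCoh.bc i).obj W).left :=
    pullback.lift (IsOpenImmersion.lift (X := (W₀ : Scheme.{u})) (Z := P.left) W₀.ι q hq) (pullback.snd U.hom i) (by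
      refine (Category.assoc _ _ _).symm.trans ?_
      exact (congrArg (· ≫ P.hom) (IsOpenImmersion.lift_fac (X := (W₀ : Scheme.{u})) (Z := P.left) W₀.ι q hq)).trans
        ((Category.assoc _ _ _).symm.trans
          ((congrArg (· ≫ U.hom) (pullback.lift_fst _ _ _)).trans pullback.condition)))
  have hme : m ≫ ((EtCoh.bc i).map e).left = k := by
    refine pullback.hom_ext ?_ ?_
    · refine (Category.assoc _ _ _).trans ((congrArg (m ≫ ·) (pullback.lift_fst _ _ _)).trans ?_)
      refine (Category.assoc _ _ _).symm.trans ((congrArg (· ≫ e.left) (pullback.lift_fst _ _ _)).trans ?_)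
      exact (IsOpenImmersion.lift_fac (X := (W₀ : Scheme.{u})) (Z := P.left) W₀.ι q hq).trans (pullback.lift_fst _ _ _).symm
    · refine (Category.assoc _ _ _).trans ((congrArg (m ≫ ·) (pullback.lift_snd _ _ _)).trans ?_)
      exact (pullback.lift_snd _ _ _).trans (pullback.lift_snd _ _ _).symm
  haveI : IsOpenImmersion ((EtCoh.bc i).map e).left :=
    MorphismProperty.of_isPullback (EtCoh.isPullback_bc_map i e).flip (inferInstanceAs (IsOpenImmersion W₀.ι))
  haveI : IsOpenImmersion (m ≫ ((EtCoh.bc i).map e).left) := hme ▸ ‹IsOpenImmersion k›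
  haveI : IsOpenImmersion m := IsOpenImmersion.of_comp m ((EtCoh.bc i).map e).left
  haveI : AlgebraicGeometry.Surjective m := ⟨fun w => by
    let z := ((EtCoh.bc i).map e).left w
    have hz : z ∈ Set.range k := by
      by_contra hn
      have h1 : p z ∈ C := ⟨z, hn, rfl⟩
      have h2 : p z = W₀.ι (pullback.fst W.hom i w) :=
        congrArg (fun r : ((EtCoh.bc i).obj W).left ⟶ P.left => r w) (pullback.lift_fst _ _ _)
      have h3 : W₀.ι (pullback.fst W.hom i w) ∈ Cᶜ := (pullback.fst W.hom i w).2
      exact h3 (h2 ▸ h1)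
    obtain ⟨u, hu⟩ := hz
    exact ⟨u, ((EtCoh.bc i).map e).left.isOpenEmbedding.injective
      ((congrArg (fun r : ((EtCoh.bc i).obj U).left ⟶ ((EtCoh.bc i).obj P).left => r u) hme).trans hu)⟩⟩
  haveI : IsIso m := (isIso_iff_isOpenImmersion_and_surjective m).2 ⟨‹_›, ‹_›⟩
  have hma : m ≫ ((EtCoh.bc i).map (e ≫ a₀)).left = 𝟙 _ := by
    rw [Functor.map_comp]
    exact (Category.assoc _ _ _).symm.trans ((congrArg (· ≫ _) hme).trans hk)
  refine ⟨W, e ≫ a₀, e ≫ b₀, ?_, ?_⟩
  · haveI : IsIso ((Scheme.Etale.forget Z).map ((EtCoh.bc i).map (e ≫ a₀))).left := by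
      show IsIso ((EtCoh.bc i).map (e ≫ a₀)).left
      rw [← IsIso.inv_eq_of_hom_inv_id hma]
      infer_instance
    haveI : IsIso ((Scheme.Etale.forget Z).map ((EtCoh.bc i).map (e ≫ a₀))) :=
      @isIso_of_reflects_iso _ _ _ _ _ _ _ (Over.forget Z)
        ‹IsIso ((Scheme.Etale.forget Z).map ((EtCoh.bc i).map (e ≫ a₀))).left› _
    exact isIso_of_fully_faithful (Scheme.Etale.forget Z) _
  · apply MorphismProperty.Over.Hom.ext
    refine (cancel_epi m).1 ?_
    refine ((Category.assoc _ _ _).symm.trans ((congrArg (· ≫ h.left) hma).trans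
      (Category.id_comp h.left))).trans ?_
    rw [Functor.map_comp]
    refine Eq.trans ?_ ((congrArg (· ≫ ((EtCoh.bc i).map b₀).left) hme).symm.trans
      (Category.assoc _ _ _))
    refine pullback.hom_ext ?_ ?_
    · refine Eq.symm ((Category.assoc _ _ _).trans ((congrArg (k ≫ ·) (pullback.lift_fst _ _ _)).trans ?_))
      exact (Category.assoc _ _ _).symm.trans ((congrArg (· ≫ b₀.left) (pullback.lift_fst _ _ _)).trans
        (pullback.lift_snd _ _ _))
    · refine Eq.trans (MorphismProperty.Over.w h) ?_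
      exact ((Category.assoc _ _ _).trans ((congrArg (k ≫ ·) (pullback.lift_snd _ _ _)).trans
        (pullback.lift_snd _ _ _))).symm

end Groth.Agent.S0660
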