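import Groth.Statements.S0671
import Groth.Agent.EtaleSite.Points
-- import your own Groth.Agent.* helpers here

set_option autoImplicit false
open CategoryTheory CategoryTheory.Limits AlgebraicGeometry Opposite
universe u
open EtCore

namespace Groth.Agent.S0671

/-- For an abelian sheaf F on the small etale site of S and a section σ over an etale S-scheme U, the
support of σ is a closed subset of U; and a point of S has a nonzero geometric stalk exactly when it
is the image of a point lying in the support of some section over some etale S-scheme. -/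
theorem result {S : Scheme.{u}} (F : EtCoh.Ab S) :
    (∀ (U : S.Etale) (σ : EtCoh.sect F U), IsClosed (EtShriek.sectSupp F U σ)) ∧
    EtPBC.supp F = ⋃ (U : S.Etale) (σ : EtCoh.sect F U), U.hom.base '' EtShriek.sectSupp F U σ := by
  open Groth.Agent.EtaleSite in
  constructor
  · intro U σ
    rw [← isOpen_compl_iff, isOpen_iff_forall_mem_open]
    intro x hx
    simp only [Set.mem_compl_iff, EtShriek.sectSupp, Set.mem_setOf_eq, not_forall, not_not] at hx
    obtain ⟨W, g, ⟨w, hw⟩, hg⟩ := hx
    haveI : AlgebraicGeometry.Etale U.hom := U.prop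
    haveI : AlgebraicGeometry.Etale g.left := by
      haveI : AlgebraicGeometry.Etale (g.left ≫ U.hom) := by
        rw [MorphismProperty.Over.w g]; exact W.prop
      exact AlgebraicGeometry.Etale.of_comp g.left U.hom
    refine ⟨Set.range g.left, ?_, g.left.isOpenMap.isOpen_range, w, hw⟩
    rintro _ ⟨w', rfl⟩ h
    exact h W g ⟨w', rfl⟩ hg
  · ext x
    constructor
    · rintro ⟨Ω, _, _, ξ, hξ, hne⟩
      obtain ⟨p, hp⟩ : ∃ p : (EtCoh.stalk ξ).obj F, p ≠ 0 := by
        by_contra hc
        push Not at hc
        exact hne (@AddCommGrpCat.isZero_of_subsingleton _ ⟨fun a b => (hc a).trans (hc b).symm⟩)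
      obtain ⟨U, y, s, rfl⟩ := exists_germ_eq ξ F p
      let u : U.left := y.left (default : Spec (CommRingCat.of Ω))
      refine Set.mem_iUnion₂.2 ⟨U, s, u, ?_, ?_⟩
      · rintro W g ⟨w, hw⟩ hg
        haveI : AlgebraicGeometry.Etale U.hom := U.prop
        haveI : AlgebraicGeometry.Etale g.left := by
          haveI : AlgebraicGeometry.Etale (g.left ≫ U.hom) := by
            rw [MorphismProperty.Over.w g]; exact W.prop
          exact AlgebraicGeometry.Etale.of_comp g.left U.hom
        obtain ⟨l, hl, -⟩ := Scheme.exists_fac_of_etale_of_isSepClosed g.left y.left w hw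
        let z : (Scheme.pointSmallEtale ξ).fiber.obj W := (Over.homMk l (by
          show l ≫ W.hom = ξ
          rw [← MorphismProperty.Over.w g, ← Category.assoc, hl]
          exact Over.w y) : Over.mk ξ ⟶ (Scheme.Etale.forget S).obj W)
        refine hp ?_
        rw [show y = (Scheme.pointSmallEtale ξ).fiber.map g z from
          (Over.OverMorphism.ext hl).symm, ← germ_res, hg, map_zero]
      · exact ((congrArg (fun k : Spec (CommRingCat.of Ω) ⟶ S => k default) (Over.w y)).trans
          (Set.mem_singleton_iff.1 (hξ.le ⟨default, rfl⟩)))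
    · intro hx
      obtain ⟨U, s, u, hu, rfl⟩ := Set.mem_iUnion₂.1 hx
      let ζ := geomPointAt U.left u
      let ξ := ζ ≫ U.hom
      let y : (Scheme.pointSmallEtale ξ).fiber.obj U :=
        (Over.homMk ζ rfl : Over.mk ξ ⟶ (Scheme.Etale.forget S).obj U)
      refine ⟨_, _, inferInstance, ξ, ?_, fun hz => ?_⟩
      · ext z
        constructor
        · rintro ⟨a, rfl⟩
          exact congrArg U.hom (geomPointAt_apply U.left u a)
        · rintro rfl
          exact ⟨default, congrArg U.hom (geomPointAt_apply U.left u _)⟩
      · have := AddCommGrpCat.subsingleton_of_isZero hz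
        obtain ⟨W, g, z, hz', hst⟩ := (germ_eq_iff ξ F U y s 0).1
          (@Subsingleton.elim _ this _ _)
        refine hu W g ⟨z.left (default : Spec (CommRingCat.of _)), ?_⟩ (hst.trans (map_zero _))
        exact (congrArg (fun r => r.left (default : Spec (CommRingCat.of _))) hz').trans
          (geomPointAt_apply U.left u _)

end Groth.Agent.S0671
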