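import Groth.Statements.S0676
import Groth.Agent.IndAlg.EtaleLift

set_option autoImplicit false
open CategoryTheory CategoryTheory.Limits AlgebraicGeometry Opposite Topology
universe u
open ProEtW

namespace Groth.Agent.S0676

/-- If every faithfully flat etale A-algebra has an A-algebra retraction, then the same holds for the
quotient ring A/I for every ideal I. -/
theorem result (A : Type u) [CommRing A]
    (h : ProEtW.HasEtaleRetractions A) (I : Ideal A) :
    ProEtW.HasEtaleRetractions (A ⧸ I) := by
  intro B _ _ hB hEt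
  let : Algebra A B := ((algebraMap (A ⧸ I) B).comp (Ideal.Quotient.mk I)).toAlgebra
  have : IsScalarTower A (A ⧸ I) B := .of_algebraMap_eq fun a => rfl
  obtain ⟨D, _, _, hD, hDf, hlift⟩ := Groth.Agent.IndAlg.EtaleLift.exists_ff_lift A I B
  obtain ⟨r⟩ := h D hDf hD
  obtain ⟨g⟩ := hlift (A ⧸ I) (fun a ha => Ideal.Quotient.eq_zero_iff_mem.2 ha)
    ((Ideal.Quotient.mkₐ A I).comp r)
  refine ⟨{ g.toRingHom with commutes' := fun x => ?_ }⟩
  obtain ⟨a, rfl⟩ := Ideal.Quotient.mk_surjective x
  exact g.commutes a

end Groth.Agent.S0676
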