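import Groth.Statements.S0687
import Groth.Agent.EtShriekLib.ExtZeroIso
import Groth.Prelude.Def_EtCore

set_option autoImplicit false
open CategoryTheory CategoryTheory.Limits AlgebraicGeometry Opposite
universe u
open EtShriek

namespace Groth.Agent.S0687

/-- Let k be a field, j : X → X' an open immersion into a scheme X' proper over k, and p : X → Spec k
the composite of j with the structure morphism of X', with p separated and locally of finite type.
Then for every abelian sheaf F on X_ét the group H^0_c(X, F) of sections with compact support (the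
global sections of F whose support is proper over k) is isomorphic to the group of global sections
H^0(X', j_!F) of the extension by zero of F. (Only the existence of an isomorphism of groups is
asserted; the published statement gives a canonical one.) -/
theorem result {k : Type u} [Field k] {X Xb : Scheme.{u}} (j : X ⟶ Xb)
    [IsOpenImmersion j] (pb : Xb ⟶ Spec (CommRingCat.of k)) [IsProper pb]
    (p : X ⟶ Spec (CommRingCat.of k)) (hp : p = j ≫ pb) [IsSeparated p] [LocallyOfFiniteType p]
    [EtShriek.JCont j] (F : EtCoh.Ab X) :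
    Nonempty ((EtShriek.H0c p F) ≃+ EtCoh.sect ((EtShriek.extZero j).obj F) (EtCoh.top Xb)) := by
  subst hp
  obtain ⟨e⟩ := EtShriekLib.nonempty_extZero_iso j
  let T := (EtCoh.bc j).obj (EtCoh.top Xb)
  have hsnd : IsIso (pullback.snd (𝟙 Xb) j) := inferInstance
  let ε : T ≅ EtCoh.top X :=
    MorphismProperty.Over.isoMk (@asIso _ _ _ _ (pullback.snd (𝟙 Xb) j) hsnd) (Category.comp_id _)
  let el : T.left ⟶ X := ε.hom.left
  have hel : el ≫ j = EtShriek.prV j (EtCoh.top Xb) :=
    (pullback.condition (f := 𝟙 Xb) (g := j)).symm.trans (Category.comp_id _)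
  have : IsIso el := hsnd
  have sq : IsPullback el (el ≫ j) j (𝟙 Xb) := IsPullback.of_horiz_isIso ⟨by rw [Category.comp_id]⟩
  have h0 : ∀ t : EtCoh.sect F (EtCoh.top X), t ∈ EtShriek.H0c (j ≫ pb) F ↔
      ClSub.IsProperOver (j ≫ pb) (EtShriek.sectSupp F (EtCoh.top X) t) := by
    refine fun t => ⟨fun ht => ?_, fun ht => AddSubgroup.subset_closure ⟨_, subset_rfl, ht⟩⟩
    induction ht using AddSubgroup.closure_induction with
    | mem x hx =>
      obtain ⟨Z, hZ, hp⟩ := hx
      exact EtShriekLib.ipo_mono _ hp (EtShriekLib.isClosed_sectSupp F _ x) hZ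
    | zero => rw [EtShriekLib.sectSupp_zero]; exact EtShriekLib.ipo_empty _
    | add x y _ _ hx hy =>
      exact EtShriekLib.ipo_mono _ (EtShriekLib.ipo_union _ hx hy) (EtShriekLib.isClosed_sectSupp F _ _)
        (EtShriekLib.sectSupp_add F x y)
    | neg x _ hx => rwa [EtShriekLib.sectSupp_neg]
  have h1 : ∀ (Z : Set X) (hZ : IsClosed Z),
      ClSub.IsProperOver (j ≫ pb) Z ↔ ClSub.IsProperOver j Z := by
    refine fun Z hZ => ⟨fun hp => ⟨hZ, ?_⟩, fun hp => ?_⟩
    · have := EtShriekLib.isProper_redι _ hp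
      have : IsProper ((EtShriekLib.redι hp.1 ≫ j) ≫ pb) := by rw [Category.assoc]; infer_instance
      exact EtShriekLib.isProper_of_comp (EtShriekLib.redι hp.1 ≫ j) pb
    · exact EtShriekLib.ipo_comp j pb hp (EtShriekLib.ipo_of_isProper pb isClosed_univ) (Set.subset_univ _)
  have key : ∀ t : EtCoh.sect F (EtCoh.top X), t ∈ EtShriek.H0c (j ≫ pb) F ↔
      F.obj.map ε.hom.op t ∈ EtShriek.shriekSubgroup j F (EtCoh.top Xb) := by
    intro t
    rw [h0, h1 _ (EtShriekLib.isClosed_sectSupp F _ _), EtShriekLib.mem_shriekSubgroup_iff,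
      EtShriekLib.sectSupp_map]
    have sq' : IsPullback (inv el) j (el ≫ j) (𝟙 Xb) :=
      IsPullback.of_horiz_isIso ⟨by rw [Category.comp_id, IsIso.inv_hom_id_assoc]⟩
    let Z' : Set T.left := el ⁻¹' EtShriek.sectSupp F (EtCoh.top X) t
    have hiff := congrArg (fun q => ClSub.IsProperOver (X := T.left) (S := Xb) q Z') hel
    refine ⟨fun hp => hiff.mp (EtShriekLib.ipo_preimage _ sq hp), fun hp => ?_⟩
    have := EtShriekLib.ipo_preimage _ sq' (hiff.mpr hp)
    refine EtShriekLib.ipo_mono _ this (EtShriekLib.isClosed_sectSupp F _ _) fun x hx => ?_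
    show el ((inv el) x) ∈ EtShriek.sectSupp F (EtCoh.top X) t
    have he : el ((inv el) x) = x := congrArg (fun q => q x) (IsIso.inv_hom_id el)
    rw [he]
    exact hx
  let a : EtCoh.sect F (EtCoh.top X) ≃+ EtCoh.sect F T := (F.obj.mapIso ε.op).addCommGroupIsoToAddEquiv
  refine ⟨AddEquiv.trans ?_ ((((sheafToPresheaf _ _).mapIso (e.app F ≪≫ (EtShriekLib.shriekIso j).app F)).app
    (op (EtCoh.top Xb))).addCommGroupIsoToAddEquiv.symm)⟩
  show EtShriek.H0c (j ≫ pb) F ≃+ EtShriek.shriekSubgroup j F (EtCoh.top Xb)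
  exact AddEquiv.mk' ⟨fun t => ⟨a t.1, (key t.1).mp t.2⟩,
      fun s => ⟨a.symm s.1, (key _).mpr (by
        rw [show F.obj.map ε.hom.op (a.symm s.1) = a (a.symm s.1) from rfl, a.apply_symm_apply]; exact s.2)⟩,
      fun t => Subtype.ext (a.symm_apply_apply _), fun s => Subtype.ext (a.apply_symm_apply _)⟩
    (fun t t' => Subtype.ext (map_add a _ _))

end Groth.Agent.S0687
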