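import Groth.Statements.S0688
import Groth.Agent.EtShriekLib.BaseChangeMain
import Groth.Agent.EtaleSite.SH

set_option autoImplicit false
open CategoryTheory CategoryTheory.Limits AlgebraicGeometry Opposite
universe u
open EtShriek

namespace Groth.Agent.S0688

open Groth.Agent Groth.Agent.EtShriekLib Groth.Agent.EtaleSite in
/-- Sections with compact support and the stalk of `f_!` over a separably closed field. -/
theorem nonempty_stalk_id_equiv {Ω : Type u} [Field Ω] [IsSepClosed Ω] {P : Scheme.{u}}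
    (p : P ⟶ Spec (CommRingCat.of Ω)) [LocallyOfFiniteType p] (G : EtCoh.Ab P) :
    Nonempty ((EtCoh.stalk (𝟙 (Spec (CommRingCat.of Ω)))).obj ((shriek₀ p).obj G) ≅
      AddCommGrpCat.of (EtShriek.H0c p G)) := by
  let e₀ : Ω ≃+* IsLocalRing.ResidueField Ω :=
    RingEquiv.ofBijective (IsLocalRing.residue Ω) ⟨(IsLocalRing.residue Ω).injective, IsLocalRing.residue_surjective⟩
  haveI : IsSepClosed (IsLocalRing.ResidueField Ω) := by
    refine IsSepClosed.of_exists_root _ fun q hq hirr hsep => ?_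
    obtain ⟨a, ha⟩ := IsSepClosed.exists_root (k := Ω) (q.map e₀.symm.toRingHom)
      (by rw [Polynomial.degree_map]
          exact Polynomial.degree_ne_of_natDegree_ne (Nat.pos_iff_ne_zero.1 hirr.natDegree_pos))
      hsep.map
    refine ⟨e₀ a, ?_⟩
    have h := congrArg e₀.toRingHom ha
    rw [Polynomial.eval_map, Polynomial.hom_eval₂, map_zero] at h
    rw [show e₀.toRingHom.comp e₀.symm.toRingHom = RingHom.id _ from RingHom.ext e₀.apply_symm_apply] at h
    exact h
  let S := Spec (CommRingCat.of Ω)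
  obtain ⟨i₁⟩ := nonempty_stalk_iso_geomPointAt (closedPt Ω)
  obtain ⟨i₂⟩ := nonempty_stalk_iso_geomPointAt (𝟙 S)
  rw [Subsingleton.elim (α := S) (closedPt Ω default) ((𝟙 S) default)] at i₁
  let H := (shriek₀ p).obj G
  let T := (EtCoh.bc p).obj (EtCoh.top S)
  have hsnd : IsIso (pullback.snd (𝟙 S) p) := inferInstance
  let ε : T ≅ EtCoh.top P :=
    MorphismProperty.Over.isoMk (@asIso _ _ _ _ (pullback.snd (𝟙 S) p) hsnd) (Category.comp_id _)
  let el : T.left ⟶ P := ε.hom.left
  have hel : el ≫ p = EtShriek.prV p (EtCoh.top S) :=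
    (pullback.condition (f := 𝟙 S) (g := p)).symm.trans (Category.comp_id _)
  have : IsIso el := hsnd
  have sq : IsPullback el (el ≫ p) p (𝟙 S) := IsPullback.of_horiz_isIso ⟨by rw [Category.comp_id]⟩
  have sq' : IsPullback (inv el) p (el ≫ p) (𝟙 S) :=
    IsPullback.of_horiz_isIso ⟨by rw [Category.comp_id, IsIso.inv_hom_id_assoc]⟩
  have h0 : ∀ t : EtCoh.sect G (EtCoh.top P), t ∈ EtShriek.H0c p G ↔
      ClSub.IsProperOver p (EtShriek.sectSupp G (EtCoh.top P) t) := by
    refine fun t => ⟨fun ht => ?_, fun ht => AddSubgroup.subset_closure ⟨_, subset_rfl, ht⟩⟩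
    induction ht using AddSubgroup.closure_induction with
    | mem x hx =>
      obtain ⟨Z, hZ, hp⟩ := hx
      exact ipo_mono _ hp (isClosed_sectSupp G _ x) hZ
    | zero => rw [sectSupp_zero]; exact ipo_empty _
    | add x y _ _ hx hy =>
      exact ipo_mono _ (ipo_union _ hx hy) (isClosed_sectSupp G _ _) (sectSupp_add G x y)
    | neg x _ hx => rwa [sectSupp_neg]
  let a : EtCoh.sect G (EtCoh.top P) ≃+ EtCoh.sect G T := (G.obj.mapIso ε.op).addCommGroupIsoToAddEquiv
  have key : ∀ t : EtCoh.sect G (EtCoh.top P), t ∈ EtShriek.H0c p G ↔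
      a t ∈ EtShriek.shriekSubgroup p G (EtCoh.top S) := by
    intro t
    rw [h0, mem_shriekSubgroup_iff, show a t = G.obj.map ε.hom.op t from rfl, sectSupp_map]
    let Z' : Set T.left := el ⁻¹' EtShriek.sectSupp G (EtCoh.top P) t
    have hiff := congrArg (fun q => ClSub.IsProperOver (X := T.left) (S := S) q Z') hel
    refine ⟨fun hp => hiff.mp (ipo_preimage _ sq hp), fun hp => ?_⟩
    refine ipo_mono _ (ipo_preimage _ sq' (hiff.mpr hp)) (isClosed_sectSupp G _ _) fun x hx => ?_
    show el ((inv el) x) ∈ EtShriek.sectSupp G (EtCoh.top P) t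
    rwa [show el ((inv el) x) = x from congrArg (fun q => q x) (IsIso.inv_hom_id el)]
  let b : EtShriek.H0c p G ≃+ EtShriek.shriekSubgroup p G (EtCoh.top S) :=
    AddEquiv.mk' ⟨fun t => ⟨a t.1, (key t.1).mp t.2⟩,
      fun s => ⟨a.symm s.1, (key _).mpr (by rw [a.apply_symm_apply]; exact s.2)⟩,
      fun t => Subtype.ext (a.symm_apply_apply _), fun s => Subtype.ext (a.apply_symm_apply _)⟩
    (fun t t' => Subtype.ext (map_add a _ _))
  let g₀ : EtShriek.shriekSubgroup p G (EtCoh.top S) ≃+ ((EtCoh.stalk (closedPt Ω)).obj H) :=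
    AddEquiv.ofBijective (germ (closedPt Ω) H (EtCoh.top S) (topPoint Ω)).hom (bijective_germ_top Ω H)
  exact ⟨((i₁ ≪≫ i₂.symm).app H).symm ≪≫ (b.trans g₀).symm.toAddCommGrpIso⟩

/-- Let f : X → Y be separated and locally of finite type, F an abelian sheaf on X_ét and ȳ : Spec k → Y
a geometric point (k algebraically closed), with fibre X_ȳ = X ×_Y Spec k. Then the stalk (f_! F)_ȳ
of the direct image with proper support is isomorphic to H⁰_c(X_ȳ, F|X_ȳ), the group of sections
with proper support over the geometric fibre. (Only the existence of an isomorphism of groups is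
asserted; the published isomorphism is a specific canonical one.) -/
theorem result {X Y : Scheme.{u}} (f : X ⟶ Y) [IsSeparated f] [LocallyOfFiniteType f]
    (F : EtCoh.Ab X) {Ω : Type u} [Field Ω] [IsAlgClosed Ω] (η : Spec (CommRingCat.of Ω) ⟶ Y)
    [EtCoh.BCCont (pullback.fst f η)] :
    Nonempty ((EtCoh.stalk η).obj ((EtShriek.lowerShriek f).obj F) ≅
      AddCommGrpCat.of (EtShriek.H0c (pullback.snd f η) ((EtCoh.pull (pullback.fst f η)).obj F))) := by
  let P := pullback f η
  have h : IsPullback (pullback.fst f η) (pullback.snd f η) f η := IsPullback.of_hasPullback f η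
  haveI : LocallyOfFiniteType (pullback.snd f η) := MorphismProperty.of_isPullback h inferInstance
  haveI := Groth.Agent.EtShriekLib.bc_of_isSeparated f η (pullback.snd f η) (pullback.fst f η) h F
  obtain ⟨e⟩ := nonempty_stalk_id_equiv (pullback.snd f η) ((EtCoh.pull (pullback.fst f η)).obj F)
  refine ⟨(EtCoh.stalk η).mapIso ((Groth.Agent.EtShriekLib.shriekIso f).app F) ≪≫ ?_ ≪≫ e⟩
  exact eqToIso (by rw [Category.id_comp]) ≪≫
    ((Groth.Agent.EtaleSite.stalkPullIso η (𝟙 _)).app _).symm ≪≫
      (EtCoh.stalk (𝟙 _)).mapIso (asIso (Groth.Agent.EtShriekLib.bcMap h F))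

end Groth.Agent.S0688
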