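import Groth.Statements.S0689
import Groth.Agent.EtShriekLib.Exact
import Mathlib.CategoryTheory.Adjunction.AdjointFunctorTheorems
import Mathlib.CategoryTheory.Abelian.Subobject

set_option autoImplicit false
open CategoryTheory CategoryTheory.Limits AlgebraicGeometry Opposite
universe u
open EtShriek

namespace Groth.Agent.S0689

/-- Suppose f : X → Y is a separated morphism of schemes that is locally of finite type and locally
quasi-finite. Then the functor f_! of direct image with proper support on abelian étale sheaves (for
separated f, a subsheaf of the ordinary direct image) admits a right adjoint; that is, f_! is a left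
adjoint. -/
theorem result {X Y : Scheme.{u}} (f : X ⟶ Y) [IsSeparated f]
    [LocallyOfFiniteType f] [LocallyQuasiFinite f] :
    (EtShriek.lowerShriek f).IsLeftAdjoint := by
  have : WellPowered.{u + 1} (EtCoh.Ab X) := IsGrothendieckAbelian.wellPowered (EtCoh.Ab X)
  have : WellPowered.{u + 1} (EtCoh.Ab X)ᵒᵖ := Abelian.wellPowered_opposite
  have : PreservesColimits (EtShriekLib.shriek₀ f) := ⟨inferInstance⟩
  have : PreservesColimits (EtShriek.lowerShriek f) :=
    preservesColimits_of_natIso (EtShriekLib.shriekIso f).symm
  exact isLeftAdjoint_of_preservesColimits_of_isSeparating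
    (P := ObjectProperty.singleton (separator (EtCoh.Ab X))) (isSeparator_separator _) _

end Groth.Agent.S0689
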