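import Groth.Statements.S0694
import Groth.Agent.ProEtW.WLocalization

set_option autoImplicit false
open CategoryTheory CategoryTheory.Limits AlgebraicGeometry Opposite Topology
universe u
open ProEtW
open Groth.Agent.ProEtW

namespace Groth.Agent.S0694

/-- For every ring A there is a faithfully flat ind-Zariski A-algebra A_w whose spectrum is w-local, the
closed points of Spec A_w mapping bijectively onto Spec A. (Part (4), reducedness of the particular
closed subscheme structure of the construction, is not stated.) -/
theorem result (A : Type u) [CommRing A] :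
    ∃ (Aw : Type u) (_ : CommRing Aw) (_ : Algebra A Aw),
      Module.FaithfullyFlat A Aw ∧ EtPBC.IsIndZariski A Aw ∧ ProEtW.IsWLocal (PrimeSpectrum Aw) ∧
      Set.BijOn (PrimeSpectrum.comap (algebraMap A Aw)) (ProEtW.closedPoints (PrimeSpectrum Aw))
        Set.univ := by
  let h : WithConstructibleTopology (PrimeSpectrum A) → WithConstructibleTopology (PrimeSpectrum A) :=
    id
  have hh : Continuous h := continuous_id
  refine ⟨LocFrac.Ring (WLocalization.sub h), inferInstance, inferInstance,
    WLocalization.faithfullyFlat hh Function.surjective_id, WLocalization.isIndZariski hh,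
    WLocalization.isWLocal hh, fun _ _ => Set.mem_univ _, ?_, ?_⟩
  · intro Q hQ Q' hQ' he
    refine (WLocalization.bijOn_pt hh).injOn hQ hQ' ?_
    refine WithTopology.ofTopology_injective (constructibleTopology (PrimeSpectrum A)) ?_
    exact ((WLocalization.isClosed_singleton_iff hh Q).1 hQ).symm.trans
      (he.trans ((WLocalization.isClosed_singleton_iff hh Q').1 hQ'))
  · intro p _
    obtain ⟨Q, hQ⟩ := WLocalization.exists_closedPt hh (WithTopology.toTopology _ p)
    exact ⟨Q, (WLocalization.isClosed_singleton_iff hh Q).2 (by rw [hQ]), congr_arg Prod.fst hQ⟩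

end Groth.Agent.S0694
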