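import Groth.Statements.S0696
import Groth.Agent.ProEtW.WLocalization
import Mathlib.Topology.ExtremallyDisconnected
import Mathlib.Topology.Compactification.StoneCech

set_option autoImplicit false
open CategoryTheory CategoryTheory.Limits AlgebraicGeometry Opposite Topology
universe u
open ProEtW
open Groth.Agent.ProEtW

namespace Groth.Agent.S0696

/-- Every ring A admits a faithfully flat ind-Zariski extension B whose spectrum is w-local with
extremally disconnected space of connected components. -/
theorem result (A : Type u) [CommRing A] :
    ∃ (B : Type u) (_ : CommRing B) (_ : Algebra A B),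
      Module.FaithfullyFlat A B ∧ EtPBC.IsIndZariski A B ∧ ProEtW.IsWLocal (PrimeSpectrum B) ∧
        ExtremallyDisconnected (_root_.ConnectedComponents (PrimeSpectrum B)) := by
  let h : Ultrafilter (PrimeSpectrum A) → WithConstructibleTopology (PrimeSpectrum A) :=
    Ultrafilter.extend (WithTopology.toTopology (constructibleTopology (PrimeSpectrum A)))
  have hh : Continuous h := continuous_ultrafilter_extend _
  have hs : Function.Surjective h := fun z =>
    ⟨pure (WithTopology.ofTopology z), (ultrafilter_extend_pure _ _).trans rfl⟩
  have : TotallyDisconnectedSpace (Ultrafilter (PrimeSpectrum A)) := inferInstance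
  have hproj : CompactT2.Projective (Ultrafilter (PrimeSpectrum A)) := by
    intro Y Z _ _ _ _ _ _ f g hf hg hgs
    choose s hs using hgs
    refine ⟨Ultrafilter.extend (s ∘ f ∘ pure), continuous_ultrafilter_extend _,
      denseRange_pure.equalizer (hg.comp (continuous_ultrafilter_extend _)) hf ?_⟩
    ext x
    simp [ultrafilter_extend_pure, hs]
  have hED : ExtremallyDisconnected (Ultrafilter (PrimeSpectrum A)) :=
    hproj.extremallyDisconnected
  obtain ⟨e, -⟩ := WLocalization.exists_pi0 hh
  exact ⟨LocFrac.Ring (WLocalization.sub h), inferInstance, inferInstance,
    WLocalization.faithfullyFlat hh hs, WLocalization.isIndZariski hh, WLocalization.isWLocal hh,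
    extremallyDisconnected_of_homeo e.symm⟩

end Groth.Agent.S0696
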