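import Groth.Statements.S0697
import Groth.Agent.ProEtW.WLocalization

set_option autoImplicit false
open CategoryTheory CategoryTheory.Limits AlgebraicGeometry Opposite Topology
universe u
open ProEtW
open Groth.Agent.ProEtW
open Set

namespace Groth.Agent.S0697

/-- Let A be a ring, X = Spec A, T a profinite space and g : T -> pi_0(X) continuous. Then there is an
ind-Zariski A-algebra B, with Y = Spec B, and a homeomorphism e : pi_0(Y) -> T over pi_0(X) such
that Y -> X x T, y |-> (image of y, e [y]) is a topological embedding with image the fibre product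
of X and T over pi_0(X); that is, the square Y -> pi_0(Y) = T, Y -> X is cartesian in topological
spaces. -/
theorem result (A : Type u) [CommRing A] (T : Type u)
    [TopologicalSpace T] [CompactSpace T] [T2Space T] [TotallyDisconnectedSpace T]
    (g : C(T, _root_.ConnectedComponents (PrimeSpectrum A))) :
    ∃ (B : Type u) (_ : CommRing B) (_ : Algebra A B) (e : _root_.ConnectedComponents (PrimeSpectrum B) ≃ₜ T),
      EtPBC.IsIndZariski A B ∧
      (∀ y : PrimeSpectrum B,
        g (e (_root_.ConnectedComponents.mk y)) = _root_.ConnectedComponents.mk (PrimeSpectrum.comap (algebraMap A B) y)) ∧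
      Topology.IsEmbedding (fun y : PrimeSpectrum B =>
        (PrimeSpectrum.comap (algebraMap A B) y, e (_root_.ConnectedComponents.mk y))) ∧
      Set.range (fun y : PrimeSpectrum B =>
        (PrimeSpectrum.comap (algebraMap A B) y, e (_root_.ConnectedComponents.mk y))) =
        {p : PrimeSpectrum A × T | _root_.ConnectedComponents.mk p.1 = g p.2} := by
  let S : T → Submonoid A := fun t =>
    { carrier := {e | IsIdempotentElem e ∧
        ∀ x : PrimeSpectrum A, _root_.ConnectedComponents.mk x = g t → e ∉ x.asIdeal}
      one_mem' := ⟨IsIdempotentElem.one, fun x _ => x.2.one_notMem⟩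
      mul_mem' := fun h h' => ⟨h.1.mul h'.1, fun x hx => x.2.mul_notMem (h.2 x hx) (h'.2 x hx)⟩ }
  have hclop : ∀ e : A, IsIdempotentElem e →
      IsClopen (PrimeSpectrum.basicOpen e : Set (PrimeSpectrum A)) := fun e he =>
    PrimeSpectrum.isClopen_iff.2 ⟨e, he, rfl⟩
  have hS : ∀ s, IsOpen {t | s ∈ S t} := by
    intro s
    by_cases hs : IsIdempotentElem s
    · have : {t | s ∈ S t} = g ⁻¹' (_root_.ConnectedComponents.mk ''
          (PrimeSpectrum.basicOpen s : Set (PrimeSpectrum A))) := by
        ext t
        obtain ⟨x, hx⟩ := ConnectedComponents.surjective_coe (g t)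
        rw [mem_preimage, ← hx, Spectral.mk_mem_image_mk_iff (hclop s hs)]
        refine ⟨fun h => h.2 x hx, fun h => ⟨hs, fun y hy => ?_⟩⟩
        exact (Spectral.mk_mem_image_mk_iff (hclop s hs)).1
          (hy.trans hx.symm ▸ mem_image_of_mem _ h)
      rw [this]
      exact (Spectral.isClopen_image_mk (hclop s hs)).2.preimage g.continuous
    · have : {t | s ∈ S t} = ∅ := eq_empty_of_forall_notMem fun t h => hs h.1
      rw [this]
      exact isOpen_empty
  have hrange : range (LocFrac.toProd (S := S)) =
      {q : PrimeSpectrum A × T | _root_.ConnectedComponents.mk q.1 = g q.2} := by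
    rw [LocFrac.range_toProd hS]
    ext ⟨p, t⟩
    refine ⟨fun h => ?_, fun h s hs => hs.2 p h⟩
    obtain ⟨x, hx⟩ := ConnectedComponents.surjective_coe (g t)
    by_contra hne
    obtain ⟨W, hW, hxW, hpW⟩ := Spectral.connectedComponents_mk_ne_iff.1
      (hx.trans_ne (Ne.symm hne))
    obtain ⟨e, he, rfl⟩ := PrimeSpectrum.isClopen_iff.1 hW
    refine hpW (h e ⟨he, fun y hy => ?_⟩)
    exact (Spectral.mk_mem_image_mk_iff (hclop e he)).1 (hy.trans hx.symm ▸ mem_image_of_mem _ hxW)
  have hemb := LocFrac.toProd_isEmbedding hS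
  have hsurj : Function.Surjective (LocFrac.pt (S := S)) := by
    intro t
    obtain ⟨x, hx⟩ := ConnectedComponents.surjective_coe (g t)
    obtain ⟨Q, hQ⟩ := hrange.ge (show _root_.ConnectedComponents.mk (x, t).1 = g (x, t).2 from hx)
    exact ⟨Q, congr_arg Prod.snd hQ⟩
  obtain ⟨e, he⟩ := WLocalization.exists_pi0_homeomorph LocFrac.continuous_pt hsurj fun t => by
    rw [← hemb.isInducing.isPreconnected_image]
    obtain ⟨x, hx⟩ := ConnectedComponents.surjective_coe (g t)
    have : LocFrac.toProd (S := S) '' (LocFrac.pt ⁻¹' {t}) =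
        connectedComponent x ×ˢ ({t} : Set T) := by
      ext ⟨p, t'⟩
      simp only [mem_prod, mem_singleton_iff, ← ConnectedComponents.coe_eq_coe', hx]
      constructor
      · rintro ⟨Q, hQ, hQe⟩
        have h1 : t' = t := (congr_arg Prod.snd hQe).symm.trans hQ
        have h2 := hrange.le (mem_range_self Q)
        rw [hQe] at h2
        exact ⟨h1 ▸ h2, h1⟩
      · rintro ⟨h1, rfl⟩
        obtain ⟨Q, hQ⟩ := hrange.ge
          (show _root_.ConnectedComponents.mk (p, t').1 = g (p, t').2 from h1)
        exact ⟨Q, congr_arg Prod.snd hQ, hQ⟩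
    rw [this]
    exact isPreconnected_connectedComponent.prod isPreconnected_singleton
  have hfun : (fun y => (PrimeSpectrum.comap (algebraMap A (LocFrac.Ring S)) y,
      e (_root_.ConnectedComponents.mk y))) = LocFrac.toProd := funext fun y => Prod.ext rfl (he y)
  refine ⟨LocFrac.Ring S, inferInstance, inferInstance, e, LocFrac.isIndZariski hS, fun y => ?_,
    hfun ▸ hemb, hfun ▸ hrange⟩
  rw [he y]
  exact (hrange.le (mem_range_self y) :).symm

end Groth.Agent.S0697
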