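import Groth.Statements.S0698
import Groth.Agent.IndAlg.Localization
import Groth.Agent.ProEtW.Spectral

set_option autoImplicit false
open CategoryTheory CategoryTheory.Limits AlgebraicGeometry Opposite Topology
universe u
open ProEtW

namespace Groth.Agent.S0698

/-- Let A be a ring, X = Spec A and T a closed subset of pi_0(X). Then A has an ind-Zariski quotient
ring B (the map A -> B is surjective) whose spectrum maps homeomorphically onto the preimage of T in
X. -/
theorem result (A : Type u) [CommRing A]
    (T : Set (_root_.ConnectedComponents (PrimeSpectrum A))) (hT : IsClosed T) :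
    ∃ (B : Type u) (_ : CommRing B) (_ : Algebra A B),
      EtPBC.IsIndZariski A B ∧ Function.Surjective (algebraMap A B) ∧
      Topology.IsEmbedding (PrimeSpectrum.comap (algebraMap A B)) ∧
      Set.range (PrimeSpectrum.comap (algebraMap A B)) = _root_.ConnectedComponents.mk ⁻¹' T := by
  have hT2 := Groth.Agent.ProEtW.Spectral.t2Space_connectedComponents (X := PrimeSpectrum A)
  let S : Submonoid A :=
    { carrier := {e | IsIdempotentElem e ∧
        _root_.ConnectedComponents.mk ⁻¹' T ⊆ (PrimeSpectrum.basicOpen e : Set (PrimeSpectrum A))}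
      one_mem' := ⟨IsIdempotentElem.one, by simp⟩
      mul_mem' := fun {a b} ha hb => ⟨ha.1.mul hb.1, by
        rw [PrimeSpectrum.basicOpen_mul, TopologicalSpace.Opens.coe_inf]
        exact Set.subset_inter ha.2 hb.2⟩ }
  refine ⟨Localization S, inferInstance, inferInstance,
    Groth.Agent.IndAlg.Localization.isIndZariski S, ?_,
    PrimeSpectrum.localization_comap_isEmbedding (Localization S) S, ?_⟩
  · intro z
    obtain ⟨x, s, rfl⟩ := IsLocalization.exists_mk'_eq S z
    refine ⟨x, ?_⟩
    have h1 : algebraMap A (Localization S) s.1 = 1 := by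
      refine (IsLocalization.map_units (Localization S) s).mul_left_inj.1 ?_
      rw [← map_mul, one_mul]
      exact congrArg _ s.2.1
    have := IsLocalization.mk'_spec (Localization S) x s
    rw [h1, mul_one] at this
    exact this.symm
  · rw [PrimeSpectrum.localization_comap_range (Localization S) S]
    ext x
    constructor
    · intro hx
      by_contra hxT
      have hcomp : IsCompact T := hT.isCompact
      obtain ⟨V, hV, hTV, hxV⟩ : ∃ V : Set (_root_.ConnectedComponents (PrimeSpectrum A)),
          IsClopen V ∧ T ⊆ V ∧ _root_.ConnectedComponents.mk x ∉ V := by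
        obtain ⟨W, hW, hxW, hWT⟩ :=
          isTopologicalBasis_isClopen.exists_subset_of_mem_open hxT hT.isOpen_compl
        exact ⟨Wᶜ, hW.compl, fun t ht htW => hWT htW ht, fun h => h hxW⟩
      obtain ⟨e, he, heq⟩ := PrimeSpectrum.exists_idempotent_basicOpen_eq_of_isClopen
        (hV.preimage _root_.ConnectedComponents.continuous_coe)
      refine Set.disjoint_left.1 hx (show e ∈ S from ⟨he, fun y hy => heq ▸ hTV hy⟩) ?_
      by_contra hex
      exact hxV ((Set.ext_iff.1 heq x).2 hex)
    · intro hx
      exact Set.disjoint_left.2 fun e he hex => he.2 hx hex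

end Groth.Agent.S0698
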