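import Groth.Statements.S0699
import Groth.Agent.ProEtW.IdentifiesLocal

set_option autoImplicit false
open CategoryTheory CategoryTheory.Limits AlgebraicGeometry Opposite Topology
universe u
open ProEtW
open Groth.Agent.ProEtW
open Set

namespace Groth.Agent.S0699

/-- Let A -> B identify local rings, with Spec A and Spec B w-local, Spec B -> Spec A w-local, and
pi_0(Spec B) -> pi_0(Spec A) bijective. Then A -> B is bijective. -/
theorem result (A B : Type u) [CommRing A] [CommRing B]
    [Algebra A B] (h1 : EtPBC.IdentifiesLocalRings A B) (h2 : ProEtW.IsWLocal (PrimeSpectrum A))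
    (h3 : ProEtW.IsWLocal (PrimeSpectrum B))
    (h4 : ProEtW.IsWLocalMap (PrimeSpectrum.comap (algebraMap A B)))
    (h5 : Function.Bijective
      (PrimeSpectrum.continuous_comap (algebraMap A B)).connectedComponentsMap) :
    Function.Bijective (algebraMap A B) := by
  obtain ⟨_, _, _⟩ := IdentifiesLocal.isProfinite_C0 h2
  obtain ⟨_, _, _⟩ := IdentifiesLocal.isProfinite_C0 h3
  let j : IdentifiesLocal.C0 B → IdentifiesLocal.C0 A := fun x =>
    ⟨PrimeSpectrum.comap (algebraMap A B) x.1, h4.2 x.1 x.2⟩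
  have hinjA : ∀ {R : Type u} [CommRing R], ProEtW.IsWLocal (PrimeSpectrum R) →
      ∀ x y : IdentifiesLocal.C0 R,
        _root_.ConnectedComponents.mk x.1 = _root_.ConnectedComponents.mk y.1 → x = y := by
    intro R _ hR x y hxy
    obtain ⟨_, _, _⟩ := IdentifiesLocal.isProfinite_C0 hR
    by_contra hne
    obtain ⟨W, hW, hx, hy⟩ := exists_isClopen_of_totally_separated hne
    obtain ⟨ε, hε, hεW⟩ := IdentifiesLocal.exists_idempotent hR hW
    refine Spectral.connectedComponents_mk_ne_iff.2 ⟨PrimeSpectrum.basicOpen ε,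
      PrimeSpectrum.isClopen_iff.2 ⟨ε, hε, rfl⟩, (hεW x).1 hx, fun hh => hy ((hεW y).2 hh)⟩ hxy
  have hmap : ∀ q, (PrimeSpectrum.continuous_comap (algebraMap A B)).connectedComponentsMap
      (_root_.ConnectedComponents.mk q) =
      _root_.ConnectedComponents.mk (PrimeSpectrum.comap (algebraMap A B) q) := fun q => rfl
  have hj : Function.Bijective j := by
    refine ⟨fun x y hxy => hinjA h3 x y (h5.1 ?_), fun n => ?_⟩
    · rw [hmap, hmap]
      exact congrArg (fun z => _root_.ConnectedComponents.mk z.1) hxy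
    · obtain ⟨c, hc⟩ := h5.2 (_root_.ConnectedComponents.mk n.1)
      obtain ⟨⟨x, hx⟩, rfl⟩ := Spectral.surjective_closedPoints_mk c
      exact ⟨⟨x, hx⟩, hinjA h2 _ n hc⟩
  have hjc : Continuous j :=
    ((PrimeSpectrum.continuous_comap _).comp continuous_subtype_val).subtype_mk _
  let jh := hjc.homeoOfEquivCompactToT2 (f := Equiv.ofBijective j hj)
  refine ⟨?_, fun b => ?_⟩
  · rw [injective_iff_map_eq_zero]
    intro a ha
    refine Module.eq_zero_of_localization_maximal
      (fun P _ => Localization.AtPrime P) (fun P _ => Algebra.linearMap A _) a fun P hP => ?_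
    obtain ⟨x, hx⟩ := hj.2 ⟨⟨P, hP.isPrime⟩,
      (PrimeSpectrum.isClosed_singleton_iff_isMaximal _).2 hP⟩
    obtain ⟨u, hu, hua⟩ := IdentifiesLocal.exists_ann h1 x.1 (t := 1) (a := a)
      x.1.2.one_notMem (by rw [ha, mul_zero])
    show algebraMap A (Localization.AtPrime P) a = 0
    refine (IsLocalization.map_eq_zero_iff P.primeCompl _ _).2 ⟨⟨u, ?_⟩, hua⟩
    intro huP
    exact hu (congrArg (fun z => z.1.asIdeal) hx ▸ huP :
      u ∈ (PrimeSpectrum.comap (algebraMap A B) x.1).asIdeal)
  · choose a s t hs ht h0 using fun x : IdentifiesLocal.C0 B =>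
      IdentifiesLocal.exists_rep h1 x.1 b
    have hW : ∀ x, ∃ W : Set (IdentifiesLocal.C0 B), IsClopen W ∧ x ∈ W ∧
        ∀ y ∈ W, algebraMap A B (s x) ∉ y.1.asIdeal ∧ t x ∉ y.1.asIdeal := by
      intro x
      obtain ⟨W, hW, hxW, hWst⟩ := compact_exists_isClopen_in_isOpen
        ((PrimeSpectrum.basicOpen (algebraMap A B (s x) * t x)).isOpen.preimage
          continuous_subtype_val) (x := x) (x.1.2.mul_notMem (hs x) (ht x))
      exact ⟨W, hW, hxW, fun y hy => ⟨fun hh => hWst hy (Ideal.mul_mem_right _ _ hh),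
        fun hh => hWst hy (Ideal.mul_mem_left _ _ hh)⟩⟩
    choose W hWc hxW hWst using hW
    let φ : ∀ n : IdentifiesLocal.C0 A, Localization.AtPrime n.1.asIdeal := fun n =>
      IsLocalization.mk' _ (a (jh.symm n)) (⟨s (jh.symm n), by
        have h7 : j (jh.symm n) = n := jh.apply_symm_apply n
        intro hh
        exact hs (jh.symm n) (congrArg (fun z => z.1.asIdeal) h7 ▸ hh :
          s (jh.symm n) ∈ (PrimeSpectrum.comap (algebraMap A B) (jh.symm n).1).asIdeal)⟩ :
        n.1.asIdeal.primeCompl)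
    obtain ⟨a₀, ha₀⟩ := IdentifiesLocal.exists_global h2 φ fun n => by
      refine ⟨jh.symm ⁻¹' W (jh.symm n), a (jh.symm n), s (jh.symm n),
        (hWc _).preimage jh.symm.continuous, hxW _, fun m hm => ?_⟩
      set x := jh.symm n with hx
      set y := jh.symm m with hy
      have hym : (PrimeSpectrum.comap (algebraMap A B) y.1).asIdeal = m.1.asIdeal :=
        congrArg (fun z => z.1.asIdeal) (jh.apply_symm_apply m)
      refine ⟨fun hh => (hWst x y hm).1 (hym.symm ▸ hh :
        s x ∈ (PrimeSpectrum.comap (algebraMap A B) y.1).asIdeal), ?_⟩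
      obtain ⟨u, hu, hu0⟩ := IdentifiesLocal.exists_ann h1 y.1
        (t := t y * t x) (a := a y * s x - a x * s y)
        (y.1.2.mul_notMem (ht y) (hWst x y hm).2) (by
          simp only [map_sub, map_mul]
          linear_combination (t y * algebraMap A B (s y)) * h0 x -
            (t x * algebraMap A B (s x)) * h0 y)
      have hus : u ∈ m.1.asIdeal.primeCompl := fun hh => hu
        (hym.symm ▸ hh : u ∈ (PrimeSpectrum.comap (algebraMap A B) y.1).asIdeal)
      show IsLocalization.mk' _ _ _ * _ = _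
      rw [mul_comm, IsLocalization.mul_mk'_eq_mk'_of_mul, IsLocalization.mk'_eq_iff_eq_mul,
        ← map_mul]
      refine (IsLocalization.eq_iff_exists m.1.asIdeal.primeCompl _).2 ⟨⟨u, hus⟩, ?_⟩
      show u * (s x * a y) = u * (a x * s y)
      linear_combination hu0
    refine ⟨a₀, MaximalSpectrum.toPiLocalization_injective B (funext fun P => ?_)⟩
    let x : IdentifiesLocal.C0 B := ⟨⟨P.asIdeal, P.isMaximal.isPrime⟩,
      (PrimeSpectrum.isClosed_singleton_iff_isMaximal _).2 P.isMaximal⟩
    have h7 := ha₀ (jh x)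
    rw [show φ (jh x) = _ from rfl, IsLocalization.eq_mk'_iff_mul_eq, ← map_mul] at h7
    obtain ⟨c, hc⟩ := (IsLocalization.eq_iff_exists (jh x).1.asIdeal.primeCompl _).1 h7
    simp only [Homeomorph.symm_apply_apply] at hc
    refine (IsLocalization.eq_iff_exists P.asIdeal.primeCompl _).2
      ⟨⟨algebraMap A B c * algebraMap A B (s x) * t x,
        x.1.2.mul_notMem (x.1.2.mul_notMem c.2 (hs x)) (ht x)⟩, ?_⟩
    show algebraMap A B c * algebraMap A B (s x) * t x * algebraMap A B a₀ =
      algebraMap A B c * algebraMap A B (s x) * t x * b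
    have hc' := congrArg (algebraMap A B) hc
    simp only [map_mul] at hc'
    linear_combination (t x) * hc' - (algebraMap A B c) * h0 x

end Groth.Agent.S0699
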