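import Groth.Statements.S0702
import Groth.Agent.S0701

set_option autoImplicit false
open CategoryTheory CategoryTheory.Limits AlgebraicGeometry Opposite Topology
universe u
open ProEtW

namespace Groth.Agent.S0702

/-- Let Spec A be profinite and A -> B induce algebraic extensions of residue fields at all primes. Then
Spec B is profinite. -/
theorem result (A B : Type u) [CommRing A] [CommRing B]
    [Algebra A B] [T2Space (PrimeSpectrum A)] [TotallyDisconnectedSpace (PrimeSpectrum A)]
    (h : ProEtW.AlgebraicResidueExtensions A B) :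
    ProEtW.IsProfinite (PrimeSpectrum B) := by
  refine Groth.Agent.S0701.result A B fun q q' heq hle => ?_
  by_contra hne
  obtain ⟨x, hxq', hxq⟩ := SetLike.exists_of_lt (lt_of_le_of_ne hle
    fun e => hne (PrimeSpectrum.ext e))
  have halg := h q.asIdeal
  set J : Ideal (B ⧸ q.asIdeal) := q'.asIdeal.map (Ideal.Quotient.mk q.asIdeal) with hJ
  have hx0 : Ideal.Quotient.mk q.asIdeal x ≠ 0 := fun h0 => hxq (Ideal.Quotient.eq_zero_iff_mem.1 h0)
  have hne' := Ideal.comap_ne_bot_of_algebraic_mem hx0 (Ideal.mem_map_of_mem _ hxq')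
    (halg.isAlgebraic (Ideal.Quotient.mk q.asIdeal x))
  apply hne'
  rw [Submodule.eq_bot_iff]
  intro a ha
  obtain ⟨a, rfl⟩ := Ideal.Quotient.mk_surjective a
  rw [Ideal.mem_comap] at ha
  have : algebraMap A B a ∈ q'.asIdeal := by
    have h2 := ha
    rw [← Ideal.mem_quotient_iff_mem hle]
    exact h2
  have : a ∈ q'.asIdeal.comap (algebraMap A B) := this
  rw [← heq] at this
  exact Ideal.Quotient.eq_zero_iff_mem.2 this

end Groth.Agent.S0702
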