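import Groth.Statements.S0704
import Groth.Agent.ProEtW.Pullback

set_option autoImplicit false
open Topology
universe u
open ProEtW

namespace Groth.Agent.S0704

/-- With X, T, g and the fibre product Y of X and T over pi_0(X) as in the first part, if X is moreover
w-local then Y is w-local, the projection Y -> X is w-local, and the closed points of Y are exactly
the points mapping to closed points of X. -/
theorem result (X T : Type u) [TopologicalSpace X]
    [TopologicalSpace T] [CompactSpace T] [T2Space T] [TotallyDisconnectedSpace T]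
    (hX : ProEtW.IsWLocal X) (g : C(T, _root_.ConnectedComponents X)) :
    ProEtW.IsWLocal {p : X × T // _root_.ConnectedComponents.mk p.1 = g p.2} ∧
      ProEtW.IsWLocalMap (fun y : {p : X × T // _root_.ConnectedComponents.mk p.1 = g p.2} => y.1.1) ∧
      ProEtW.closedPoints {p : X × T // _root_.ConnectedComponents.mk p.1 = g p.2} =
        (fun y : {p : X × T // _root_.ConnectedComponents.mk p.1 = g p.2} => y.1.1) ⁻¹' ProEtW.closedPoints X := by
  obtain ⟨hs, h0, hu⟩ := hX
  have hsp := Groth.Agent.ProEtW.Pullback.spectralSpace_fib g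
  have hF := Groth.Agent.ProEtW.Pullback.isClosed_fib g
  have hclosed : ∀ y : {p : X × T // _root_.ConnectedComponents.mk p.1 = g p.2},
      IsClosed ({y} : Set {p : X × T // _root_.ConnectedComponents.mk p.1 = g p.2}) ↔
        IsClosed ({y.1.1} : Set X) := by
    intro y
    rw [hF.isClosedEmbedding_subtypeVal.isClosed_iff_image_isClosed, Set.image_singleton]
    constructor
    · intro h
      exact h.preimage (continuous_id.prodMk (continuous_const (y := y.1.2))) |> fun h' => by
        convert h' using 1
        ext x
        exact ⟨fun hx => Prod.ext hx rfl, fun hx => congrArg Prod.fst hx⟩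
    · intro h
      rw [← Prod.mk.eta (p := y.1), ← Set.singleton_prod_singleton]
      exact h.prod isClosed_singleton
  have hcp : ProEtW.closedPoints {p : X × T // _root_.ConnectedComponents.mk p.1 = g p.2} =
      (fun y : {p : X × T // _root_.ConnectedComponents.mk p.1 = g p.2} => y.1.1) ⁻¹'
        ProEtW.closedPoints X := Set.ext hclosed
  have hfst : Continuous fun y : {p : X × T // _root_.ConnectedComponents.mk p.1 = g p.2} => y.1.1 :=
    continuous_fst.comp continuous_subtype_val
  refine ⟨⟨hsp, ?_, fun y => ?_⟩, ⟨⟨hfst, fun U hU hUc => ?_⟩, fun y hy => (hclosed y).1 hy⟩, hcp⟩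
  · exact Set.ext hclosed ▸ h0.preimage hfst
  · obtain ⟨z, ⟨hz, hyz⟩, huz⟩ := hu y.1.1
    have hzc : _root_.ConnectedComponents.mk z = g y.1.2 := by
      rw [← y.2]
      exact _root_.ConnectedComponents.coe_eq_coe'.2
        (isClosed_connectedComponent.stableUnderSpecialization hyz mem_connectedComponent)
    refine ⟨⟨(z, y.1.2), hzc⟩, ⟨(hclosed _).2 hz, ?_⟩, ?_⟩
    · exact Topology.IsInducing.subtypeVal.specializes_iff.1 (hyz.prod specializes_rfl)
    · rintro w ⟨hw, hyw⟩
      exact Subtype.ext (Prod.ext (huz w.1.1 ⟨(hclosed w).1 hw, hyw.map hfst⟩)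
        (hyw.map (continuous_snd.comp continuous_subtype_val)).eq.symm)
  · have h := hF.isClosedEmbedding_subtypeVal.isCompact_preimage (hUc.prod (isCompact_univ (X := T)))
    rwa [Set.prod_univ] at h

end Groth.Agent.S0704
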