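import Groth.Statements.S0705
import Groth.Agent.ProEtW.WLocalization

set_option autoImplicit false
open CategoryTheory CategoryTheory.Limits AlgebraicGeometry Opposite Topology
universe u
open ProEtW
open Groth.Agent.ProEtW
open Set

namespace Groth.Agent.S0705

/-- Let I be an ideal of A such that V(I) is a profinite space. Then some ind-Zariski A-algebra B has
w-local spectrum whose closed points are exactly V(IB), with A/I -> B/IB bijective. -/
theorem result (A : Type u) [CommRing A] (I : Ideal A)
    (hI : ProEtW.IsProfinite (PrimeSpectrum.zeroLocus (R := A) I)) :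
    ∃ (B : Type u) (_ : CommRing B) (_ : Algebra A B),
      EtPBC.IsIndZariski A B ∧ ProEtW.IsWLocal (PrimeSpectrum B) ∧
      ProEtW.closedPoints (PrimeSpectrum B) = PrimeSpectrum.zeroLocus (I.map (algebraMap A B)) ∧
      Function.Bijective (Ideal.quotientMap (I.map (algebraMap A B)) (algebraMap A B)
        Ideal.le_comap_map) := by
  obtain ⟨hcs, ht2, htd⟩ := hI
  let T := PrimeSpectrum.zeroLocus (R := A) (I : Set A)
  let h : T → WithConstructibleTopology (PrimeSpectrum A) := fun t => WithTopology.toTopology _ t.1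
  have hTc : IsClosed (PrimeSpectrum.zeroLocus (R := A) (I : Set A)) :=
    PrimeSpectrum.isClosed_zeroLocus _
  have hh : Continuous h := by
    refine WLocalization.continuous_of_isClopen fun U hU hUc => ⟨?_, hU.preimage continuous_subtype_val⟩
    exact (hTc.isClosedEmbedding_subtypeVal.isCompact_preimage hUc).isClosed
  let S := WLocalization.sub h
  have hS : ∀ s, IsOpen {t | s ∈ S t} := WLocalization.isOpen_sub hh
  let B := LocFrac.Ring S
  refine ⟨B, inferInstance, inferInstance, WLocalization.isIndZariski hh, WLocalization.isWLocal hh,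
    ?_, ?_⟩
  · ext Q
    refine (WLocalization.isClosed_singleton_iff hh Q).trans ?_
    rw [PrimeSpectrum.mem_zeroLocus, SetLike.coe_subset_coe, Ideal.map_le_iff_le_comap]
    refine ⟨fun he => ?_, fun hle => ?_⟩
    · exact (LocFrac.pt Q).2.trans (SetLike.coe_subset_coe.2
        (le_of_eq (congrArg PrimeSpectrum.asIdeal he.symm)))
    · let p : T := ⟨(LocFrac.toProd Q).1, hle⟩
      have hs : p ⤳ LocFrac.pt Q := (subtype_specializes_iff _ _).2
        ((PrimeSpectrum.le_iff_specializes _ _).1 (WLocalization.le hh Q))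
      exact congrArg Subtype.val hs.eq
  have hcm : ∀ x c, LocFrac.ev S x (algebraMap A B c) = algebraMap A (Localization (S x)) c :=
    fun x c => (LocFrac.ev S x).commutes c
  have key1 : ∀ φ ∈ I.map (algebraMap A B), ∀ t,
      LocFrac.ev S t φ ∈ I.map (algebraMap A (Localization (S t))) := by
    intro φ hφ t
    have : I.map (algebraMap A B) ≤
        (I.map (algebraMap A (Localization (S t)))).comap (LocFrac.ev S t).toRingHom := by
      refine Ideal.map_le_iff_le_comap.2 fun a ha => ?_
      rw [Ideal.mem_comap, Ideal.mem_comap]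
      show LocFrac.ev S t (algebraMap A B a) ∈ _
      rw [AlgHom.commutes]
      exact Ideal.mem_map_of_mem _ ha
    exact this hφ
  have key2 : ∀ φ : B, (∀ t, LocFrac.ev S t φ ∈ I.map (algebraMap A (Localization (S t)))) →
      φ ∈ I.map (algebraMap A B) := by
    intro φ hφ
    let K : Ideal B := Submodule.colon (I.map (algebraMap A B)) {φ}
    by_contra hne
    have hK : K ≠ ⊤ := fun e => hne (by
      have h1 := Submodule.mem_colon_singleton.1 (show (1 : B) ∈ K from e ▸ Submodule.mem_top)
      simpa using h1)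
    obtain ⟨m, hm, hKm⟩ := Ideal.exists_le_maximal K hK
    let Q : PrimeSpectrum B := ⟨m, hm.isPrime⟩
    obtain ⟨W, a, s, hW, htW, hd⟩ := φ.2 (LocFrac.pt Q)
    have ha : algebraMap A (Localization (S (LocFrac.pt Q))) a ∈ I.map (algebraMap A _) :=
      (hd _ htW).2 ▸ Ideal.mul_mem_right _ _ (hφ _)
    obtain ⟨c, hc, hca⟩ := (IsLocalization.algebraMap_mem_map_algebraMap_iff (S (LocFrac.pt Q))
      _ I a).1 ha
    obtain ⟨V, hV, htV, hVc⟩ := compact_exists_isClopen_in_isOpen (hS c) (x := LocFrac.pt Q) hc
    let e := LocFrac.idem (S := S) (W ∩ V) (hW.inter hV)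
    have hmem : algebraMap A B (s * c) * e ∈ K := by
      refine Submodule.mem_colon_singleton.2 ?_
      have : algebraMap A B (s * c) * e * φ = algebraMap A B (c * a) * e := by
        refine LocFrac.ext _ fun x => ?_
        simp only [map_mul, hcm]
        by_cases hx : x ∈ W ∩ V
        · rw [LocFrac.ev_idem_of_mem _ hx, mul_one, mul_one, ← (hd x hx.1).2]
          show _ * φ.1 x = _
          ring
        · rw [LocFrac.ev_idem_of_notMem _ hx, mul_zero, mul_zero, zero_mul]
      rw [smul_eq_mul, this]
      exact Ideal.mul_mem_right _ _ (Ideal.mem_map_of_mem _ hca)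
    refine (Q.2.mem_or_mem (hKm hmem)).elim
      (LocFrac.notMem_of_mem hS Q (mul_mem (hd _ htW).1 hc)) ?_
    exact (LocFrac.pt_spec Q (hW.inter hV)).2 ⟨htW, htV⟩
  refine ⟨Ideal.quotientMap_injective' fun a ha => ?_, fun y => ?_⟩
  · let K : Ideal A := Submodule.colon I {a}
    by_contra hne
    have hIK : I ≤ K := fun i hi => Submodule.mem_colon_singleton.2 (Ideal.mul_mem_right _ _ hi)
    have hK : K ≠ ⊤ := fun e => hne (by
      have h1 := Submodule.mem_colon_singleton.1 (show (1 : A) ∈ K from e ▸ Submodule.mem_top)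
      simpa using h1)
    obtain ⟨m, hm, hKm⟩ := Ideal.exists_le_maximal K hK
    let t : T := ⟨⟨m, hm.isPrime⟩, hIK.trans hKm⟩
    have h1 := key1 _ ha t
    rw [AlgHom.commutes] at h1
    obtain ⟨c, hc, hca⟩ := (IsLocalization.algebraMap_mem_map_algebraMap_iff (S t) _ I a).1 h1
    exact hc (hKm (Submodule.mem_colon_singleton.2 hca))
  · obtain ⟨φ, rfl⟩ := Ideal.Quotient.mk_surjective y
    let J : Ideal A :=
      { carrier := {x | ∃ b, algebraMap A B x * φ - algebraMap A B b ∈ I.map (algebraMap A B)}
        zero_mem' := ⟨0, by simp⟩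
        add_mem' := by
          rintro x y ⟨b, hb⟩ ⟨b', hb'⟩
          refine ⟨b + b', ?_⟩
          convert add_mem hb hb' using 1
          simp only [map_add]; ring
        smul_mem' := by
          rintro c x ⟨b, hb⟩
          refine ⟨c * b, ?_⟩
          convert Ideal.mul_mem_left _ (algebraMap A B c) hb using 1
          simp only [smul_eq_mul, map_mul]; ring }
    suffices hJ : J = ⊤ by
      obtain ⟨b, hb⟩ : (1 : A) ∈ J := hJ ▸ Submodule.mem_top
      refine ⟨Ideal.Quotient.mk I b, ?_⟩
      rw [Ideal.quotientMap_mk, Ideal.Quotient.eq, ← neg_mem_iff]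
      simpa using hb
    by_contra hne
    have hIJ : I ≤ J := fun i hi => ⟨0, by
      simpa using Ideal.mul_mem_right φ _ (Ideal.mem_map_of_mem (algebraMap A B) hi)⟩
    obtain ⟨m, hm, hJm⟩ := Ideal.exists_le_maximal J hne
    let t : T := ⟨⟨m, hm.isPrime⟩, hIJ.trans hJm⟩
    obtain ⟨W, a, s, hW, htW, hd⟩ := φ.2 t
    -- an element cutting out `W` in `V(I)`
    let q : PrimeSpectrum (A ⧸ I) → T := fun x => ⟨PrimeSpectrum.comap (Ideal.Quotient.mk I) x,
      fun i hi => by
        show Ideal.Quotient.mk I i ∈ x.asIdeal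
        rw [Ideal.Quotient.eq_zero_iff_mem.2 hi]
        exact zero_mem _⟩
    obtain ⟨eb, heb, hWe⟩ := PrimeSpectrum.isClopen_iff.1
      (hW.preimage (show Continuous q from (PrimeSpectrum.continuous_comap _).subtype_mk _))
    obtain ⟨e, rfl⟩ := Ideal.Quotient.mk_surjective eb
    have hWiff : ∀ x : T, x ∈ W ↔ e ∉ x.1.asIdeal := by
      intro x
      obtain ⟨x', hx'⟩ : x.1 ∈ range (PrimeSpectrum.comap (Ideal.Quotient.mk I)) := by
        rw [range_comap_of_surjective _ _ Ideal.Quotient.mk_surjective,
          Ideal.mk_ker]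
        exact x.2
      have hx : q x' = x := Subtype.ext hx'
      rw [← hx]
      exact Set.ext_iff.1 hWe x'
    have he2 : e * (1 - e) ∈ I := by
      rw [← Ideal.Quotient.eq_zero_iff_mem, map_mul, map_sub, map_one, mul_sub, mul_one, heb.eq,
        sub_self]
    have hse : s * e ∈ J := by
      refine ⟨a * e, key2 _ fun x => ?_⟩
      simp only [map_sub, map_mul, hcm]
      by_cases hx : x ∈ W
      · rw [← (hd x hx).2]
        convert zero_mem (I.map (algebraMap A (Localization (S x)))) using 1
        show _ * φ.1 x - _ = _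
        ring
      · have hex : e ∈ x.1.asIdeal := by_contra fun hh => hx ((hWiff x).2 hh)
        have h1e : 1 - e ∉ x.1.asIdeal := fun hh => x.1.2.one_notMem (by
          simpa using add_mem hh hex)
        have heI : algebraMap A (Localization (S x)) e ∈ I.map (algebraMap A _) :=
          (IsLocalization.algebraMap_mem_map_algebraMap_iff (S x) _ I e).2
            ⟨1 - e, h1e, by rwa [mul_comm]⟩
        exact sub_mem (Ideal.mul_mem_right _ _ (Ideal.mul_mem_left _ _ heI))
          (Ideal.mul_mem_left _ _ heI)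
    exact (hm.isPrime.mem_or_mem (hJm hse)).elim (hd t htW).1 ((hWiff t).1 htW)

end Groth.Agent.S0705
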