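import Groth.Statements.S0706

set_option autoImplicit false
open CategoryTheory CategoryTheory.Limits AlgebraicGeometry Opposite Topology
universe u
open ProEtW

namespace Groth.Agent.S0706

/-- Let f be an element and I an ideal of A, and Z the intersection of D(f) and V(I) in Spec A. There is
a multiplicative subset S of A for which the image of Spec(S^{-1}A) in Spec A consists precisely of
the points having a specialization in Z. -/
theorem result (A : Type u) [CommRing A] (f : A) (I : Ideal A) :
    ∃ S : Submonoid A,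
      Set.range (PrimeSpectrum.comap (algebraMap A (Localization S))) =
        {x | ∃ z : PrimeSpectrum A,
          z ∈ (PrimeSpectrum.basicOpen f : Set (PrimeSpectrum A)) ∩ PrimeSpectrum.zeroLocus I ∧ x ⤳ z} := by
  let Z : Set (PrimeSpectrum A) :=
    (PrimeSpectrum.basicOpen f : Set (PrimeSpectrum A)) ∩ PrimeSpectrum.zeroLocus I
  let S : Submonoid A :=
    { carrier := {a | ∀ z ∈ Z, a ∉ z.asIdeal}
      one_mem' := fun z _ h => z.isPrime.ne_top ((Ideal.eq_top_iff_one _).2 h)
      mul_mem' := fun ha hb z hz h => (z.isPrime.mem_or_mem h).elim (ha z hz) (hb z hz) }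
  refine ⟨S, ?_⟩
  rw [PrimeSpectrum.localization_comap_range (Localization S) S]
  ext x
  constructor
  · intro hx
    by_contra hh
    have key : f ∈ (x.asIdeal ⊔ I).radical := by
      rw [Ideal.radical_eq_sInf, Ideal.mem_sInf]
      rintro J ⟨hJ, hJp⟩
      by_contra hf
      refine hh ⟨⟨J, hJp⟩, ⟨hf, ?_⟩, (PrimeSpectrum.le_iff_specializes _ _).1 (le_sup_left.trans hJ)⟩
      exact le_sup_right.trans hJ
    obtain ⟨n, hn⟩ := key
    obtain ⟨a, ha, b, hb, hab⟩ := Submodule.mem_sup.1 hn
    refine Set.disjoint_left.1 hx (?_ : a ∈ S) ha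
    intro z hz haz
    refine hz.1 (z.isPrime.mem_of_pow_mem n ?_)
    rw [← hab]
    exact z.asIdeal.add_mem haz (hz.2 hb)
  · rintro ⟨z, hz, hxz⟩
    rw [Set.mem_ofPred_eq, Set.disjoint_left]
    exact fun a ha hax => ha z hz ((PrimeSpectrum.le_iff_specializes _ _).2 hxz hax)

end Groth.Agent.S0706
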