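import Groth.Statements.S0707
import Groth.Agent.S0677

set_option autoImplicit false
open CategoryTheory CategoryTheory.Limits AlgebraicGeometry Opposite Topology
universe u
open ProEtW

namespace Groth.Agent.S0707
open Groth.Agent.ProEtW

theorem extremallyDisconnected_of_isOpenEmbedding {X Y : Type u} [TopologicalSpace X] [TopologicalSpace Y]
    [ExtremallyDisconnected Y] {f : X → Y} (hf : IsOpenEmbedding f) : ExtremallyDisconnected X where
  open_closure U hU := by
    rw [hf.isInducing.closure_eq_preimage_closure_image]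
    exact (ExtremallyDisconnected.open_closure _ (hf.isOpenMap U hU)).preimage hf.continuous

/-- Let A be w-contractible, E a finite set of elements of A with zero set Z in Spec A, and B a
localization of A at a multiplicative subset S such that the image of Spec B → Spec A is precisely
the set of points of Spec A specializing to some point of Z. Then B is w-contractible. -/
theorem result (A B : Type u) [CommRing A] [CommRing B]
    [Algebra A B] (S : Submonoid A) [IsLocalization S B] (E : Finset A)
    (hB : Set.range (PrimeSpectrum.comap (algebraMap A B)) =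
      {x | ∃ z : PrimeSpectrum A, z ∈ PrimeSpectrum.zeroLocus (R := A) E ∧ x ⤳ z})
    (hA : EtPBC.IsWContractible A) : EtPBC.IsWContractible B := by
  classical
  obtain ⟨hWL, hED, hsh⟩ := (Groth.Agent.S0677.result A).1 hA
  have hemb : IsEmbedding (PrimeSpectrum.comap (algebraMap A B)) :=
    PrimeSpectrum.localization_comap_isEmbedding B S
  let Z : Set (PrimeSpectrum A) := PrimeSpectrum.zeroLocus (E : Set A)
  have hZc : IsClosed Z := PrimeSpectrum.isClosed_zeroLocus _
  have hZr : Z ⊆ Set.range (PrimeSpectrum.comap (algebraMap A B)) := fun z hz => hB ▸ ⟨z, hz, le_rfl⟩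
  have hover : ∀ q : PrimeSpectrum B, ∃ z : PrimeSpectrum A, IsClosed ({z} : Set (PrimeSpectrum A)) ∧
      z ∈ Z ∧ PrimeSpectrum.comap (algebraMap A B) q ⤳ z := by
    intro q
    obtain ⟨z, hz, hqz⟩ : PrimeSpectrum.comap (algebraMap A B) q ∈
        {x | ∃ z : PrimeSpectrum A, z ∈ Z ∧ x ⤳ z} := hB ▸ ⟨q, rfl⟩
    obtain ⟨y, hy, hzy⟩ := Spectral.exists_closedPoint_specializes z
    exact ⟨y, hy, hzy.mem_closed hZc hz, hqz.trans hzy⟩
  have hclosed : ∀ q : PrimeSpectrum B, IsClosed ({q} : Set (PrimeSpectrum B)) ↔
      IsClosed ({PrimeSpectrum.comap (algebraMap A B) q} : Set (PrimeSpectrum A)) := by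
    intro q
    refine ⟨fun hq => ?_, fun hq => ?_⟩
    · obtain ⟨z, hz, hzZ, hqz⟩ := hover q
      obtain ⟨q', rfl⟩ := hZr hzZ
      have : q = q' := Set.mem_singleton_iff.1
        ((hemb.isInducing.specializes_iff.1 hqz).mem_closed hq rfl) |>.symm
      exact this ▸ hz
    · have : ({q} : Set (PrimeSpectrum B)) =
          PrimeSpectrum.comap (algebraMap A B) ⁻¹' {PrimeSpectrum.comap (algebraMap A B) q} := by
        ext y; simp [hemb.injective.eq_iff]
      rw [this]
      exact hq.preimage hemb.continuous
  have hinZ : ∀ q : PrimeSpectrum B, IsClosed ({q} : Set (PrimeSpectrum B)) →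
      PrimeSpectrum.comap (algebraMap A B) q ∈ Z := by
    intro q hq
    obtain ⟨z, hz, hzZ, hqz⟩ := hover q
    rwa [show PrimeSpectrum.comap (algebraMap A B) q = z from
      (Set.mem_singleton_iff.1 (hqz.mem_closed ((hclosed q).1 hq) rfl)).symm]
  have hWLB : ProEtW.IsWLocal (PrimeSpectrum B) := by
    obtain ⟨-, h0, hu⟩ := hWL
    refine ⟨inferInstance, ?_, fun q => ?_⟩
    · simp only [hclosed]
      exact h0.preimage hemb.continuous
    · obtain ⟨z, hz, hzZ, hqz⟩ := hover q
      obtain ⟨y, rfl⟩ := hZr hzZ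
      refine ⟨y, ⟨(hclosed y).2 hz, hemb.isInducing.specializes_iff.1 hqz⟩, fun y' ⟨h1, h2⟩ => ?_⟩
      exact hemb.injective ((hu _).unique ⟨(hclosed y').1 h1, h2.map hemb.continuous⟩ ⟨hz, hqz⟩)
  refine (Groth.Agent.S0677.result B).2 ⟨hWLB, ?_, fun m hm => ?_⟩
  · obtain ⟨_, _, _⟩ := IdentifiesLocal.isProfinite_C0 hWL
    obtain ⟨eA, -⟩ := Retraction.exists_homeomorph_pi0 hWL
    have : ExtremallyDisconnected (IdentifiesLocal.C0 A) := extremallyDisconnected_of_homeo eA.symm
    obtain ⟨eB, -⟩ := Retraction.exists_homeomorph_pi0 hWLB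
    let f : IdentifiesLocal.C0 B → IdentifiesLocal.C0 A := fun q =>
      ⟨PrimeSpectrum.comap (algebraMap A B) q.1, (hclosed q.1).1 q.2⟩
    have hf : IsOpenEmbedding f := by
      refine ⟨⟨IsInducing.of_comp (g := Subtype.val) ((hemb.continuous.comp continuous_subtype_val).subtype_mk _)
        continuous_subtype_val (hemb.isInducing.comp IsInducing.subtypeVal),
        fun x y h => Subtype.ext (hemb.injective (congrArg Subtype.val h))⟩, ?_⟩
      have hr : Set.range f = Subtype.val ⁻¹' Z := by
        ext z
        refine ⟨fun ⟨q, hq⟩ => hq ▸ hinZ q.1 q.2, fun hz => ?_⟩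
        obtain ⟨q, hq⟩ := hZr hz
        exact ⟨⟨q, (hclosed q).2 (hq ▸ z.2)⟩, Subtype.ext hq⟩
      have hZeq : Z = ⋂ f ∈ E, (PrimeSpectrum.basicOpen f : Set (PrimeSpectrum A))ᶜ := by
        ext x; simp [Z, Set.subset_def]
      rw [hr, hZeq]
      simp only [Set.preimage_iInter, Set.preimage_compl]
      exact isOpen_biInter_finset fun a _ => (hWL.2.1.isClosedEmbedding_subtypeVal.isCompact_preimage
        (PrimeSpectrum.isCompact_basicOpen a)).isClosed.isOpen_compl
    have : ExtremallyDisconnected (IdentifiesLocal.C0 B) := extremallyDisconnected_of_isOpenEmbedding hf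
    exact extremallyDisconnected_of_homeo eB
  · have : (m.comap (algebraMap A B)).IsMaximal :=
      (PrimeSpectrum.isClosed_singleton_iff_isMaximal _).1
        ((hclosed ⟨m, hm.isPrime⟩).1 ((PrimeSpectrum.isClosed_singleton_iff_isMaximal _).2 hm))
    have : IsLocalization.AtPrime (Localization.AtPrime m) (m.comap (algebraMap A B)) :=
      IsLocalization.isLocalization_isLocalization_atPrime_isLocalization S (Localization.AtPrime m) m
    exact Groth.Agent.WEtale.Local.strictlyHenselian_of_ringEquiv
      (IsLocalization.algEquiv (m.comap (algebraMap A B)).primeCompl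
        (Localization.AtPrime (m.comap (algebraMap A B))) (Localization.AtPrime m)).toRingEquiv
      (hsh _)

end Groth.Agent.S0707
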