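import Groth.Statements.S0708
import Groth.Agent.IndAlg.EtaleLift
import Groth.Agent.IndAlg.Localization
import Groth.Agent.IndAlg.Etale

set_option autoImplicit false
open CategoryTheory CategoryTheory.Limits AlgebraicGeometry Opposite Topology
universe u
open ProEtW

namespace Groth.Agent.S0708
open scoped TensorProduct
open Groth.Agent.IndAlg

/-- Let A be a ring all of whose faithfully flat etale algebras have retractions, I an ideal with zero
set Z, and B a localization of A at a multiplicative subset such that the image of Spec B → Spec A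
is precisely the set of points of Spec A specializing to some point of Z. Then every faithfully flat
etale B-algebra has a retraction. -/
theorem result (A B : Type u) [CommRing A] [CommRing B]
    [Algebra A B] (S : Submonoid A) [IsLocalization S B] (I : Ideal A)
    (hB : Set.range (PrimeSpectrum.comap (algebraMap A B)) =
      {x | ∃ z : PrimeSpectrum A, z ∈ PrimeSpectrum.zeroLocus (R := A) I ∧ x ⤳ z})
    (hA : ProEtW.HasEtaleRetractions A) : ProEtW.HasEtaleRetractions B := by
  classical
  intro C _ _ hff hEt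
  have : Algebra.Etale B C := hEt
  obtain ⟨B0, E0, _, _, hfg, hE0, ⟨e⟩⟩ := Algebra.Etale.exists_subalgebra_fg (R := ℤ) (A := B) (B := C)
  have : Algebra.FiniteType ℤ B0 := (Subalgebra.fg_iff_finiteType B0).1 hfg
  have : Algebra.FinitePresentation ℤ B0 := Algebra.FinitePresentation.of_finiteType.1 ‹_›
  obtain ⟨A1, _, _, hA1, v, w, hw⟩ := Localization.fac_localization (B := B) S (A ⊗[ℤ] B0) inferInstance
    (Algebra.TensorProduct.lift (Algebra.ofId A B) B0.val (fun _ _ => Commute.all _ _))
  obtain ⟨r1, hr1⟩ := Algebra.IsStandardOpenImmersion.exists_away A A1 (self := hA1)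
  have : Algebra.Etale A A1 := Algebra.Etale.of_isLocalizationAway r1
  let : Algebra B0 A1 :=
    (v.toRingHom.comp (Algebra.TensorProduct.includeRight (R := ℤ) (A := A) (B := B0)).toRingHom).toAlgebra
  let : Algebra A1 B := w.toRingHom.toAlgebra
  have : IsScalarTower A A1 B := .of_algebraMap_eq fun a => (w.commutes a).symm
  have : IsScalarTower B0 A1 B := .of_algebraMap_eq fun b => by
    show (b : B) = w (v ((1 : A) ⊗ₜ[ℤ] b))
    rw [show w (v ((1 : A) ⊗ₜ[ℤ] b)) = _ from congr($hw ((1 : A) ⊗ₜ[ℤ] b))]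
    simp
  let E1 := A1 ⊗[B0] E0
  let e1 : B ⊗[A1] E1 ≃ₐ[B] C :=
    (Algebra.TensorProduct.cancelBaseChange B0 A1 B B E0).trans e.symm
  have : Algebra.Etale A E1 := Algebra.Etale.comp A A1 E1
  -- the image of `E1` is an open set containing the image of `B`
  have hsub : ∀ q : PrimeSpectrum B, PrimeSpectrum.comap (algebraMap A B) q ∈
      Set.range (PrimeSpectrum.comap (algebraMap A E1)) := by
    intro q
    have := hff
    obtain ⟨Q, hQ⟩ := PrimeSpectrum.comap_surjective_of_faithfullyFlat (A := B) (B := C) q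
    let ι1 : E1 →+* C := (e1 : B ⊗[A1] E1 →+* C).comp
      (Algebra.TensorProduct.includeRight (R := A1) (A := B) (B := E1)).toRingHom
    refine ⟨PrimeSpectrum.comap ι1 Q, ?_⟩
    rw [← hQ, ← PrimeSpectrum.comap_comp_apply, ← PrimeSpectrum.comap_comp_apply]
    refine congrArg (fun φ => PrimeSpectrum.comap φ Q) (RingHom.ext fun a => ?_)
    show e1 ((1 : B) ⊗ₜ[A1] algebraMap A E1 a) = algebraMap B C (algebraMap A B a)
    rw [IsScalarTower.algebraMap_apply A A1 E1, ← Algebra.TensorProduct.tmul_one_eq_one_tmul,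
      ← IsScalarTower.algebraMap_apply A A1 B, ← Algebra.algebraMap_self_apply (algebraMap A B a),
      ← Algebra.TensorProduct.algebraMap_apply, e1.commutes, Algebra.algebraMap_self_apply]
  have hZ : ∀ p : PrimeSpectrum A, p ∈ PrimeSpectrum.zeroLocus (I : Set A) →
      p ∈ Set.range (PrimeSpectrum.comap (algebraMap A B)) := fun p hp => by
    rw [hB]; exact ⟨p, hp, le_rfl⟩
  have hopen : IsOpen (Set.range (PrimeSpectrum.comap (algebraMap A E1))) :=
    (PrimeSpectrum.isOpenMap_comap_of_hasGoingDown_of_finitePresentation).isOpen_range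
  obtain ⟨t, htI, ht⟩ : ∃ t : Finset A, (t : Set A) ⊆ I ∧ ∀ p : PrimeSpectrum A,
      p ∈ Set.range (PrimeSpectrum.comap (algebraMap A E1)) ∨ ∃ f ∈ t, f ∉ p.asIdeal := by
    obtain ⟨t, ht⟩ := hopen.isClosed_compl.isCompact.elim_finite_subcover
      (fun f : I => (PrimeSpectrum.basicOpen f.1 : Set (PrimeSpectrum A)))
      (fun f => PrimeSpectrum.isOpen_basicOpen) (fun p hp => by
        have : ¬ (I : Set A) ⊆ p.asIdeal := fun h => hp (by
          obtain ⟨q, rfl⟩ := hZ p h
          exact hsub q)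
        obtain ⟨f, hf, hfp⟩ := Set.not_subset.1 this
        exact Set.mem_iUnion.2 ⟨⟨f, hf⟩, hfp⟩)
    refine ⟨t.image Subtype.val, by intro x; simp +contextual, fun p => ?_⟩
    by_cases hp : p ∈ Set.range (PrimeSpectrum.comap (algebraMap A E1))
    · exact Or.inl hp
    · obtain ⟨f, hf, hfp⟩ := Set.mem_iUnion₂.1 (ht hp)
      exact Or.inr ⟨f.1, Finset.mem_image_of_mem _ hf, hfp⟩
  have : ∀ f : t, Algebra.Etale A (_root_.Localization.Away f.1) := fun f =>
    Algebra.Etale.of_isLocalizationAway f.1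
  let D := E1 × ((f : t) → _root_.Localization.Away f.1)
  have hD : Algebra.Etale A D := EtaleLift.etale_prod A E1 _
  have hDff : Module.FaithfullyFlat A D := EtaleLift.faithfullyFlat_prod ht
  obtain ⟨r⟩ := hA D hDff hD
  let g : D →ₐ[A] B := (Algebra.ofId A B).comp r
  -- the closed points of `B` lie over the zero set
  have hjac : I.map (algebraMap A B) ≤ (⊥ : Ideal B).jacobson := by
    refine le_sInf fun m hm => ?_
    have hmax : m.IsMaximal := hm.2
    rw [Ideal.map_le_iff_le_comap]
    have hmem : PrimeSpectrum.comap (algebraMap A B) ⟨m, hmax.isPrime⟩ ∈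
        Set.range (PrimeSpectrum.comap (algebraMap A B)) := ⟨_, rfl⟩
    rw [hB] at hmem
    obtain ⟨z, hz, hxz⟩ := hmem
    obtain ⟨q, rfl⟩ := hZ z hz
    have hle : m ≤ q.asIdeal := by
      rw [← IsLocalization.map_under S B m, ← IsLocalization.map_under S B q.asIdeal]
      exact Ideal.map_mono ((PrimeSpectrum.le_iff_specializes
        (PrimeSpectrum.comap (algebraMap A B) ⟨m, hmax.isPrime⟩)
        (PrimeSpectrum.comap (algebraMap A B) q)).2 hxz)
    rw [hmax.eq_of_le q.isPrime.ne_top hle]
    exact hz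
  have hg0 : g (0, 1) = 0 := by
    let J := I.map (algebraMap A B)
    have h1 : ((Ideal.Quotient.mkₐ A J).comp g) (0, 1) = 0 :=
      EtaleLift.hom_pi_one_eq_zero _ fun f => Ideal.Quotient.eq_zero_iff_mem.2
        (Ideal.mem_map_of_mem _ (htI f.2))
    have h2 : g (0, 1) ∈ (⊥ : Ideal B).jacobson := hjac (Ideal.Quotient.eq_zero_iff_mem.1 h1)
    have h3 : IsIdempotentElem (g (0, 1)) := by
      show g (0, 1) * g (0, 1) = g (0, 1)
      rw [← map_mul, Prod.mk_mul_mk, mul_zero, mul_one]
    obtain ⟨u, hu⟩ := Ideal.mem_jacobson_bot.1 h2 (-1)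
    have h4 : g (0, 1) * (g (0, 1) * -1 + 1) = 0 := by
      rw [mul_add, ← mul_assoc, h3.eq, mul_one]; ring
    rwa [← hu, Units.mul_left_eq_zero] at h4
  obtain ⟨g1⟩ := EtaleLift.nonempty_hom_fst g hg0
  have hw1 : g1.comp (IsScalarTower.toAlgHom A A1 E1) = w :=
    IsLocalization.algHom_ext (Submonoid.powers r1) (Subsingleton.elim _ _)
  let g2 : E1 →ₐ[A1] B :=
    { g1.toRingHom with commutes' := fun a => congr($hw1 a) }
  exact ⟨(Algebra.TensorProduct.lift (Algebra.ofId B B) g2 fun _ _ => Commute.all _ _).comp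
    e1.symm.toAlgHom⟩

end Groth.Agent.S0708
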