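import Groth.Statements.S0728
import Groth.Agent.EtShriekLib.Supp

set_option autoImplicit false
open CategoryTheory CategoryTheory.Limits AlgebraicGeometry Opposite
universe u
open EtShriek

namespace Groth.Agent.S0728

/-- Geometric points with the same image are separated by `f` where residue extensions are trivial. -/
theorem point_ext {X X' : Scheme.{u}} (f : X' ⟶ X) {Ω : Type u} [Field Ω]
    (a b : Spec (CommRingCat.of Ω) ⟶ X') (hab : a ≫ f = b ≫ f)
    (hpt : a.base default = b.base default)
    (hκ : Function.Surjective (f.residueFieldMap (a.base default))) : a = b := by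
  obtain ⟨⟨x, α⟩, ha⟩ := (Scheme.SpecToEquivOfField Ω X').symm.surjective a
  obtain ⟨⟨y, β⟩, hb⟩ := (Scheme.SpecToEquivOfField Ω X').symm.surjective b
  replace ha : Spec.map α ≫ X'.fromSpecResidueField x = a := ha
  replace hb : Spec.map β ≫ X'.fromSpecResidueField y = b := hb
  have hxa : a.base default = x := by
    rw [← ha, Scheme.Hom.comp_apply]; exact Scheme.fromSpecResidueField_apply _ _
  have hxb : b.base default = y := by
    rw [← hb, Scheme.Hom.comp_apply]; exact Scheme.fromSpecResidueField_apply _ _
  obtain rfl : x = y := hxa.symm.trans (hpt.trans hxb)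
  rw [hxa] at hκ
  rw [← ha, ← hb, Category.assoc, Category.assoc, ← f.SpecMap_residueFieldMap_fromSpecResidueField,
    ← Category.assoc, ← Category.assoc, cancel_mono, ← Spec.map_comp, ← Spec.map_comp, Spec.map_inj] at hab
  have : α = β := by
    ext1
    exact RingHom.ext fun z => by
      obtain ⟨w, rfl⟩ := hκ z
      exact congr($hab w)
  rw [← ha, ← hb, this]

/-- In the case where the inverse image of Z is Z' (so that the bijection is restriction): let phi : U'
-> U be a morphism of the small etale site of X and Z a closed subset of U such that phi restricted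
to the inverse image Z' of Z is a bijection onto Z inducing isomorphisms of residue fields (so Z' ->
U is a closed immersion with image Z, for the reduced structures). Then restriction along phi is a
bijection from the sections of F over U supported in Z to the sections of F over U' supported in Z'. -/
theorem result {X : Scheme.{u}} (F : EtCoh.Ab X) {U U' : X.Etale}
    (φ : U' ⟶ U) (Z : Set ↥U.left) (hZ : IsClosed Z)
    (hbij : Set.BijOn φ.left.base (φ.left.base ⁻¹' Z) Z)
    (hres : ∀ x ∈ φ.left.base ⁻¹' Z, Function.Bijective (φ.left.residueFieldMap x)) :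
    Set.BijOn (F.obj.map φ.op) {s | EtShriek.sectSupp F U s ⊆ Z}
      {s' | EtShriek.sectSupp F U' s' ⊆ φ.left.base ⁻¹' Z} := by
  refine ⟨fun s hs => ?_, fun s hs t ht hst => ?_, fun t ht => ?_⟩
  · show EtShriek.sectSupp F U' (F.obj.map φ.op s) ⊆ _
    rw [EtShriekLib.sectSupp_map]
    exact Set.preimage_mono hs
  · rw [← sub_eq_zero]
    refine EtShriekLib.eq_zero_of_sectSupp_empty F _ (Set.eq_empty_iff_forall_notMem.mpr fun x hx => ?_)
    have hxZ : x ∈ Z := by
      rw [sub_eq_add_neg] at hx
      rcases EtShriekLib.sectSupp_add F _ _ hx with h | h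
      · exact hs h
      · rw [EtShriekLib.sectSupp_neg] at h; exact ht h
    obtain ⟨x', -, rfl⟩ := hbij.surjOn hxZ
    have : x' ∈ EtShriek.sectSupp F U' (F.obj.map φ.op (s - t)) := by
      rw [EtShriekLib.sectSupp_map]; exact hx
    rw [map_sub, hst, sub_self, EtShriekLib.sectSupp_zero] at this
    exact this
  · let O : U.left.Opens := ⟨Zᶜ, hZ.isOpen_compl⟩
    let P : X.Etale := EtaleSite.piece U O
    let ι₀ : P ⟶ U := EtaleSite.pieceHom U O
    let A : Bool → X.Etale := fun b => cond b U' P
    let a : ∀ b, A b ⟶ U := fun b => match b with | true => φ | false => ι₀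
    have hP : (Presieve.ofArrows A a).IsSheafFor (F.obj ⋙ forget AddCommGrpCat.{u + 1}) := by
      rw [Presieve.isSheafFor_iff_generate]
      refine EtaleSite.isSheaf_forget F _ (EtaleSite.mem_topology_of_forall_exists _ fun x => ?_)
      by_cases hx : (x : U.left) ∈ Z
      · obtain ⟨x', -, hx'⟩ := hbij.surjOn hx
        exact ⟨U', φ, x', Sieve.le_generate _ _ _ (Presieve.ofArrows.mk true), hx'⟩
      · exact ⟨P, ι₀, (⟨x, hx⟩ : O), Sieve.le_generate _ _ _ (Presieve.ofArrows.mk false), rfl⟩
    rw [Presieve.isSheafFor_arrows_iff] at hP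
    have hzero : ∀ {W : X.Etale} (g : W ⟶ U'), (∀ y, φ.left (g.left y) ∉ Z) → F.obj.map g.op t = 0 :=
      fun g hg => EtShriekLib.eq_zero_of_sectSupp_empty F _ (Set.eq_empty_iff_forall_notMem.mpr
        fun y hy => by rw [EtShriekLib.sectSupp_map] at hy; exact hg y (ht hy))
    obtain ⟨s, hs, -⟩ := hP (fun b => match b with | true => t | false => 0) fun b c W gb gc h => by
      rcases b with _ | _ <;> rcases c with _ | _
      · show F.obj.map gb.op 0 = F.obj.map gc.op 0
        rw [map_zero, map_zero]
      · show F.obj.map gb.op 0 = F.obj.map gc.op t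
        rw [map_zero, hzero gc fun y => ?_]
        have : φ.left (gc.left y) = O.ι (gb.left y) := congrArg (fun q => q.left y) h.symm
        rw [this]
        exact (gb.left y).2
      · show F.obj.map gb.op t = F.obj.map gc.op 0
        rw [map_zero, hzero gb fun y => ?_]
        have : φ.left (gb.left y) = O.ι (gc.left y) := congrArg (fun q => q.left y) h
        rw [this]
        exact (gc.left y).2
      · show F.obj.map gb.op t = F.obj.map gc.op t
        refine EtaleSite.sect_ext _ _ fun Ω _ _ ξ w => ?_
        rw [EtaleSite.germ_res, EtaleSite.germ_res]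
        let w₁ := (Scheme.pointSmallEtale ξ).fiber.map gb w
        let w₂ := (Scheme.pointSmallEtale ξ).fiber.map gc w
        let l₁ : Spec (CommRingCat.of Ω) ⟶ U'.left := w₁.left
        let l₂ : Spec (CommRingCat.of Ω) ⟶ U'.left := w₂.left
        let wl : Spec (CommRingCat.of Ω) ⟶ W.left := w.left
        have hh : gb.left ≫ φ.left = gc.left ≫ φ.left := congrArg (fun q => q.left) h
        have e : l₁ ≫ φ.left = l₂ ≫ φ.left := by
          show (wl ≫ gb.left) ≫ φ.left = (wl ≫ gc.left) ≫ φ.left
          rw [Category.assoc, Category.assoc, hh]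
        by_cases h1 : l₁ default ∈ φ.left ⁻¹' Z
        · have hpt : φ.left (l₁ default) = φ.left (l₂ default) := congrArg (fun q => q default) e
          have h2 : l₂ default ∈ φ.left ⁻¹' Z := by
            show φ.left (l₂ default) ∈ Z
            rw [← hpt]; exact h1
          have : w₁ = w₂ := Over.OverMorphism.ext
            (point_ext φ.left l₁ l₂ e (hbij.injOn h1 h2 hpt) (hres _ h1).2)
          exact congrArg (fun q => EtaleSite.germ ξ F U' q t) this
        · have h2 : l₂ default ∉ φ.left ⁻¹' Z := fun h2 => h1 (by
            show φ.left (l₁ default) ∈ Z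
            have hp : φ.left (l₁ default) = φ.left (l₂ default) := congrArg (fun q => q default) e
            rw [hp]; exact h2)
          exact ((EtShriekLib.germ_eq_zero_iff F t ξ w₁).mpr fun hh1 => h1 (ht hh1)).trans
            ((EtShriekLib.germ_eq_zero_iff F t ξ w₂).mpr fun hh2 => h2 (ht hh2)).symm
    refine ⟨s, fun x hx => ?_, hs true⟩
    by_contra hxZ
    have : (⟨x, hxZ⟩ : O) ∈ EtShriek.sectSupp F P (F.obj.map ι₀.op s) := by
      rw [EtShriekLib.sectSupp_map]; exact hx
    rw [show F.obj.map ι₀.op s = 0 from hs false, EtShriekLib.sectSupp_zero] at this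
    exact this

end Groth.Agent.S0728
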