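import Groth.Statements.S0737
import Groth.Agent.ProEtW.AlgResidue
import Groth.Agent.S0705

set_option autoImplicit false
open CategoryTheory CategoryTheory.Limits AlgebraicGeometry Opposite Topology
universe u
open ProEtW

namespace Groth.Agent.S0737

/-- Let Spec A be w-local with radical ideal I cutting out its closed points, and A -> B inducing
algebraic residue field extensions. Then (1) every point of V(IB) is closed in Spec B, and (2) there
is an ind-Zariski B-algebra C with B/IB -> C/IC bijective, Spec C w-local, Spec C -> Spec A w-local,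
and closed points of Spec C exactly the points over closed points of Spec A. -/
theorem result (A B : Type u) [CommRing A]
    [CommRing B] [Algebra A B] (hA : ProEtW.IsWLocal (PrimeSpectrum A)) (I : Ideal A) (hI : I.IsRadical)
    (hI0 : PrimeSpectrum.zeroLocus (R := A) I = ProEtW.closedPoints (PrimeSpectrum A))
    (h : ProEtW.AlgebraicResidueExtensions A B) :
    PrimeSpectrum.zeroLocus (R := B) (I.map (algebraMap A B)) ⊆ ProEtW.closedPoints (PrimeSpectrum B) ∧
    ∃ (C : Type u) (_ : CommRing C) (_ : Algebra B C) (_ : Algebra A C) (_ : IsScalarTower A B C),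
      EtPBC.IsIndZariski B C ∧
      Function.Bijective (Ideal.quotientMap ((I.map (algebraMap A B)).map (algebraMap B C))
        (algebraMap B C) Ideal.le_comap_map) ∧
      ProEtW.IsWLocal (PrimeSpectrum C) ∧
      ProEtW.IsWLocalMap (PrimeSpectrum.comap (algebraMap A C)) ∧
      ProEtW.closedPoints (PrimeSpectrum C) =
        PrimeSpectrum.comap (algebraMap A C) ⁻¹' ProEtW.closedPoints (PrimeSpectrum A) := by
  have hsub : PrimeSpectrum.zeroLocus (R := B) (I.map (algebraMap A B)) ⊆
      ProEtW.closedPoints (PrimeSpectrum B) := by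
    intro q hq
    refine Groth.Agent.ProEtW.AlgResidue.isClosed_singleton_of_comap h ?_
    refine hI0.le ?_
    intro a ha
    exact hq (Ideal.mem_map_of_mem _ ha)
  refine ⟨hsub, ?_⟩
  let Z := PrimeSpectrum.zeroLocus (R := B) (I.map (algebraMap A B) : Set B)
  have hZ : IsClosed Z := PrimeSpectrum.isClosed_zeroLocus _
  have : SpectralSpace Z := Groth.Agent.ProEtW.Spectral.spectralSpace_subtype hZ
  have : T1Space Z := ⟨fun x => by
    have : ({x} : Set Z) = Subtype.val ⁻¹' {x.1} := by ext; simp [Subtype.ext_iff]
    rw [this]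
    exact (hsub x.2).preimage continuous_subtype_val⟩
  have : T2Space Z := Groth.Agent.ProEtW.Spectral.t2Space_of_t1Space
  obtain ⟨C, _, _, hZar, hw, hcl, hbij⟩ := Groth.Agent.S0705.result B (I.map (algebraMap A B))
    ⟨inferInstance, inferInstance, Groth.Agent.ProEtW.Spectral.totallyDisconnectedSpace_of_t1Space⟩
  let algAC : Algebra A C := ((algebraMap B C).comp (algebraMap A B)).toAlgebra
  have : IsScalarTower A B C := .of_algebraMap_eq fun _ => rfl
  have hpre : ProEtW.closedPoints (PrimeSpectrum C) =
      PrimeSpectrum.comap (algebraMap A C) ⁻¹' ProEtW.closedPoints (PrimeSpectrum A) := by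
    rw [hcl, ← hI0, PrimeSpectrum.preimage_comap_zeroLocus, Ideal.map_map,
      IsScalarTower.algebraMap_eq A B C, Ideal.map, PrimeSpectrum.zeroLocus_span]
  exact ⟨C, inferInstance, inferInstance, algAC, inferInstance, hZar, hbij, hw,
    ⟨Groth.Agent.ProEtW.WUniversal.isSpectralMap_comap _, fun x hx => (hpre.le hx :)⟩, hpre⟩

end Groth.Agent.S0737
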