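import Groth.Statements.S0738
import Groth.Agent.ProEtW.Spectral

set_option autoImplicit false
open Topology
universe u
open ProEtW

namespace Groth.Agent.S0738

/-- A closed subset of a w-local spectral space is w-local (with the subspace topology). -/
theorem result (X : Type u) [TopologicalSpace X] (hX : ProEtW.IsWLocal X)
    (Y : Set X) (hY : IsClosed Y) : ProEtW.IsWLocal ↥Y := by
  obtain ⟨hs, h0, hu⟩ := hX
  have hclosed : ∀ y : Y, IsClosed ({y} : Set Y) ↔ IsClosed ({(y : X)} : Set X) := by
    intro y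
    rw [hY.isClosedEmbedding_subtypeVal.isClosed_iff_image_isClosed, Set.image_singleton]
  refine ⟨Groth.Agent.ProEtW.Spectral.spectralSpace_subtype hY, ?_, fun y => ?_⟩
  · simp only [hclosed]
    exact h0.preimage continuous_subtype_val
  · obtain ⟨z, ⟨hz, hyz⟩, huz⟩ := hu y
    refine ⟨⟨z, hY.stableUnderSpecialization hyz y.2⟩, ⟨(hclosed _).2 hz, ?_⟩, ?_⟩
    · exact Topology.IsInducing.subtypeVal.specializes_iff.1 hyz
    · rintro w ⟨hw, hyw⟩
      exact Subtype.ext (huz w ⟨(hclosed w).1 hw, Topology.IsInducing.subtypeVal.specializes_iff.2 hyw⟩)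

end Groth.Agent.S0738
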