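import Groth.Statements.S0739
import Groth.Agent.ProEtS.Affine
import Groth.Agent.WEtale.Basic

set_option autoImplicit false
open CategoryTheory CategoryTheory.Limits AlgebraicGeometry Opposite
universe u
open ProEtS

namespace Groth.Agent.S0739

/-- Let U be an object of X_proet, R a covering sieve on U, and xi : Spec k -> U a geometric point (k
separably closed). Then there is a morphism V -> U in R and a geometric point of V with the same
field mapping to xi. -/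
theorem result {X : Scheme.{u}} (U : X.ProEt) (R : Sieve U)
    (hR : R ∈ Scheme.ProEt.topology X U) {k : Type u} [Field k] [IsSepClosed k]
    (ξ : Spec (CommRingCat.of k) ⟶ U.left) :
    ∃ (V : X.ProEt) (g : V ⟶ U) (ξ' : Spec (CommRingCat.of k) ⟶ V.left), R g ∧ ξ' ≫ g.left = ξ := by
  rw [Groth.Agent.ProEtS.Site.mem_topology_iff, Scheme.proetaleTopology,
    Precoverage.mem_toGrothendieck_iff_of_isStableUnderComposition] at hR
  obtain ⟨P, hP, hle⟩ := hR
  obtain ⟨𝒰, _, rfl⟩ := Scheme.mem_propQCPrecoverage_iff_exists_quasiCompactCover.1 hP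
  let pt : ↥(Spec (CommRingCat.of k)) := (⊥ : PrimeSpectrum k)
  obtain ⟨z, hz⟩ := 𝒰.covers (ξ pt)
  obtain ⟨V, g, m, hg, hm⟩ := hle _ _ (Presieve.ofArrows.mk (𝒰.idx (ξ pt)))
  have : WeaklyEtale (𝒰.f (𝒰.idx (ξ pt))) := 𝒰.map_prop _
  obtain ⟨w, -, -⟩ := Scheme.Pullback.exists_preimage_pullback (f := 𝒰.f (𝒰.idx (ξ pt))) (g := ξ) z pt hz
  obtain ⟨W, hW, hwW, -⟩ := exists_isAffineOpen_mem_and_subset (x := w) (U := ⊤) trivial
  have : IsAffine (W : Scheme.{u}) := hW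
  let q : (W : Scheme.{u}) ⟶ Spec (CommRingCat.of k) := W.ι ≫ pullback.snd _ _
  have : WeaklyEtale q := inferInstance
  obtain ⟨φ, hφ⟩ := Spec.map_surjective ((W : Scheme.{u}).isoSpec.inv ≫ q)
  let : Algebra k ↥Γ((W : Scheme.{u}), ⊤) := φ.hom.toAlgebra
  have hwe : WeaklyEtale (Spec.map φ) := by rw [hφ]; infer_instance
  have : Algebra.WeaklyEtale k ↥Γ((W : Scheme.{u}), ⊤) :=
    (Groth.Agent.ProEtS.Affine.weaklyEtale_SpecMap_iff k ↥Γ((W : Scheme.{u}), ⊤)).1 hwe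
  have : Nontrivial ↥Γ((W : Scheme.{u}), ⊤) :=
    PrimeSpectrum.nonempty_iff_nontrivial.1 ⟨(W : Scheme.{u}).isoSpec.hom ⟨w, hwW⟩⟩
  obtain ⟨M, hM⟩ := Ideal.exists_maximal ↥Γ((W : Scheme.{u}), ⊤)
  let e : k ≃ₐ[k] (↥Γ((W : Scheme.{u}), ⊤) ⧸ M) :=
    AlgEquiv.ofBijective (Algebra.ofId k _) (Groth.Agent.WEtale.bijective_quotient_maximal k _ M)
  let r : ↥Γ((W : Scheme.{u}), ⊤) →ₐ[k] k := e.symm.toAlgHom.comp (Ideal.Quotient.mkₐ k M)
  let s : Spec (CommRingCat.of k) ⟶ (W : Scheme.{u}) :=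
    Spec.map (CommRingCat.ofHom r.toRingHom) ≫ (W : Scheme.{u}).isoSpec.inv
  have hs : s ≫ q = 𝟙 _ := by
    rw [Category.assoc, ← hφ, ← Spec.map_comp, ← Spec.map_id]
    congr 1
    ext a
    exact r.commutes a
  refine ⟨V, g, s ≫ W.ι ≫ pullback.fst _ _ ≫ m, hg, ?_⟩
  simp only [Category.assoc]
  rw [hm, pullback.condition, ← Category.assoc W.ι, ← Category.assoc s, hs, Category.id_comp]

end Groth.Agent.S0739
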