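import Groth.Statements.S0748
import Mathlib
import Groth.Agent.EtFppfCmp.Acyclic
-- import your own Groth.Agent.* helpers here

set_option autoImplicit false
open CategoryTheory CategoryTheory.Limits AlgebraicGeometry Opposite
universe u
open EtFppf

namespace Groth.Agent.S0748

/-- For an abelian sheaf F on X_et and every q, H^q(X_et, F) and H^q_fppf(X, a^{-1} F) are isomorphic
(continuity binder assumed). -/
theorem result (X : Scheme.{u}) [EtFppf.ACont X] (F : EtCoh.Ab X) (q : ℕ) :
    Nonempty (EtCoh.H X F q ≃+ EtFppf.HF X ((EtFppf.aPull X).obj F) q) := by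
  haveI : PreservesFiniteLimits (EtFppf.aPull X) :=
    Groth.Agent.BigBC.preservesFiniteLimits_piEtPull X Scheme.fppfPrecoverage
  haveI : PreservesFiniteColimits (EtFppf.aPull X) :=
    Groth.Agent.BigBC.preservesFiniteColimits_piEtPull X Scheme.fppfPrecoverage
  haveI : (EtFppf.aPull X).Additive := Groth.Agent.BigBC.additive_piEtPull X Scheme.fppfPrecoverage
  haveI := Groth.Agent.EtFppfCmp.preservesFiniteLimits_aPush (S := X)
  let A := (constantSheaf X.smallEtaleTopology AddCommGrpCat.{u + 1}).obj (AddCommGrpCat.of (ULift.{u + 1} ℤ))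
  let G := (EtFppf.aPull X).obj F
  let e₁ := AddEquiv.ofBijective (AddMonoidHom.mk'
    (Groth.Agent.EtaleSite.AdjExt.toExt (EtFppf.aAdj X) A G q)
    (fun a b => by simp [Groth.Agent.EtaleSite.AdjExt.toExt, Abelian.Ext.mapExactFunctor_add,
      Abelian.Ext.add_comp]))
    (Groth.Agent.EtaleSite.AdjExt.toExt_bijective (EtFppf.aAdj X) q A G
      (fun n hn => Groth.Agent.EtFppfCmp.isZero_RaPush F n hn))
  let i := (Groth.Agent.BigBC.piEtPullConstIso X Scheme.fppfPrecoverage).app (AddCommGrpCat.of (ULift.{u + 1} ℤ))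
  haveI := Groth.Agent.EtFppfCmp.isIso_aAdj_unit_app X F
  let η := asIso ((EtFppf.aAdj X).unit.app F)
  let e₀ : EtCoh.H X F q ≃+ Abelian.Ext A ((EtFppf.aPush X).obj G) q :=
    { toFun := fun x => x.comp (Abelian.Ext.mk₀ η.hom) (add_zero q)
      invFun := fun x => x.comp (Abelian.Ext.mk₀ η.inv) (add_zero q)
      left_inv := fun x => by
        change (x.comp (Abelian.Ext.mk₀ η.hom) (add_zero q)).comp (Abelian.Ext.mk₀ η.inv) (add_zero q) = x
        rw [Abelian.Ext.comp_assoc_of_second_deg_zero, Abelian.Ext.mk₀_comp_mk₀, η.hom_inv_id]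
        exact Abelian.Ext.comp_mk₀_id _
      right_inv := fun x => by
        change (x.comp (Abelian.Ext.mk₀ η.inv) (add_zero q)).comp (Abelian.Ext.mk₀ η.hom) (add_zero q) = x
        rw [Abelian.Ext.comp_assoc_of_second_deg_zero, Abelian.Ext.mk₀_comp_mk₀, η.inv_hom_id]
        exact Abelian.Ext.comp_mk₀_id _
      map_add' := fun x y => Abelian.Ext.add_comp _ _ _ _ }
  exact ⟨(e₀.trans e₁).trans
    { toFun := fun x => (Abelian.Ext.mk₀ i.inv).comp x (zero_add q)
      invFun := fun x => (Abelian.Ext.mk₀ i.hom).comp x (zero_add q)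
      left_inv := fun x => by
        change (Abelian.Ext.mk₀ i.hom).comp ((Abelian.Ext.mk₀ i.inv).comp x (zero_add q)) (zero_add q) = x
        rw [Abelian.Ext.mk₀_comp_mk₀_assoc, i.hom_inv_id, Abelian.Ext.mk₀_id_comp]
      right_inv := fun x => by
        change (Abelian.Ext.mk₀ i.inv).comp ((Abelian.Ext.mk₀ i.hom).comp x (zero_add q)) (zero_add q) = x
        rw [Abelian.Ext.mk₀_comp_mk₀_assoc, i.inv_hom_id, Abelian.Ext.mk₀_id_comp]
      map_add' := fun x y => Abelian.Ext.comp_add _ _ _ _ }⟩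


end Groth.Agent.S0748
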