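import Groth.Statements.S0754
import Groth.Agent.ProEtS.Affine
import Groth.Agent.Hens.IndEtale

set_option autoImplicit false
open CategoryTheory CategoryTheory.Limits AlgebraicGeometry Opposite
universe u
open ProEtS

namespace Groth.Agent.S0754

/-- For a point x of a scheme X and a strict henselization R of the local ring of X at x, the canonical
morphism Spec R -> X is weakly etale, so that Spec R is an object of the small pro-etale site of X. -/
theorem result (X : Scheme.{u}) (x : ↥X) (R : Type u) [CommRing R]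
    [IsLocalRing R] [Algebra (X.presheaf.stalk x) R] [IsLocalHom (algebraMap (X.presheaf.stalk x) R)]
    [Hensel.IsStrictHenselization (X.presheaf.stalk x) R] :
    WeaklyEtale (Hens2.specOf X x R) := by
  obtain ⟨U, hU, hx, -⟩ := exists_isAffineOpen_mem_and_subset (x := x) (U := ⊤) trivial
  let : Algebra Γ(X, U) (X.presheaf.stalk x) := (X.presheaf.germ U x hx).hom.toAlgebra
  have := hU.isLocalization_stalk ⟨x, hx⟩
  have h1 : Algebra.WeaklyEtale Γ(X, U) (X.presheaf.stalk x) :=
    Groth.Agent.WEtale.Local.of_isLocalization (hU.primeIdealOf ⟨x, hx⟩).asIdeal.primeCompl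
  have h2 : Algebra.WeaklyEtale (X.presheaf.stalk x) R :=
    Groth.Agent.IndAlg.Etale.weaklyEtale (Groth.Agent.IndAlg.fac_algEquiv
      (Groth.Agent.Hens.strictHenselizationEquiv R) Groth.Agent.Hens.fac_etLoc)
  have : WeaklyEtale (Spec.map (CommRingCat.ofHom (algebraMap Γ(X, U) (X.presheaf.stalk x)))) :=
    (Groth.Agent.ProEtS.Affine.weaklyEtale_SpecMap_iff _ _).2 h1
  have : WeaklyEtale (Spec.map (X.presheaf.germ U x hx)) := this
  have : WeaklyEtale (Spec.map (CommRingCat.ofHom (algebraMap (X.presheaf.stalk x) R))) :=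
    (Groth.Agent.ProEtS.Affine.weaklyEtale_SpecMap_iff _ _).2 h2
  rw [Hens2.specOf, ← hU.fromSpecStalk_eq_fromSpecStalk hx, IsAffineOpen.fromSpecStalk]
  infer_instance

end Groth.Agent.S0754
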