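import Groth.Statements.S0757
import Groth.Agent.ProEtS.WC

set_option autoImplicit false
open CategoryTheory CategoryTheory.Limits AlgebraicGeometry Opposite
universe u
open ProEtS

namespace Groth.Agent.S0757

/-- For an affine object U of the small pro-etale site of X: the ring of functions of U is
w-contractible if and only if every covering sieve of U contains the inclusions of the pieces of
some finite decomposition of U into pairwise disjoint open and closed subschemes. -/
theorem result {X : Scheme.{u}} (U : X.ProEt)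
    [IsAffine U.left] :
    EtPBC.IsWContractible ↥(Γ(U.left, ⊤)) ↔
      ∀ R ∈ Scheme.ProEt.topology X U, ∃ (n : ℕ) (W : Fin n → U.left.Opens),
        (∀ k, IsClopen ((W k : Set ↥U.left))) ∧
        Pairwise (fun k l => Disjoint (W k : Set ↥U.left) (W l)) ∧ (⋃ k, (W k : Set ↥U.left)) = Set.univ ∧
        ∀ k, R.arrows (MorphismProperty.Over.homMk (W k).ι : Scheme.ProEt.mk ((W k).ι ≫ U.hom) ⟶ U) := by
  refine ⟨fun h R hR => Groth.Agent.ProEtS.Affine.exists_clopen_refinement U h hR, fun h =>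
    Groth.Agent.ProEtS.WC.isWContractible_of_forall_section U fun V g hg _ => ?_⟩
  obtain ⟨n, W, hW, hd, hu, hR⟩ := h _ hg
  have hfac : ∀ k, ∃ m : (W k : Scheme.{u}) ⟶ V.left, m ≫ g.left = (W k).ι := by
    intro k
    obtain ⟨_, m, _, ⟨⟩, hm⟩ := hR k
    exact ⟨m.left, congrArg (fun e : Scheme.ProEt.mk ((W k).ι ≫ U.hom) ⟶ U => e.left) hm⟩
  choose m hm using hfac
  let 𝒰 : U.left.OpenCover := U.left.openCoverOfIsOpenCover (fun k : ULift.{u} (Fin n) => W k.down)
    (top_le_iff.1 fun x _ => TopologicalSpace.Opens.mem_iSup.2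
      (let ⟨k, hk⟩ := Set.mem_iUnion.1 (Set.eq_univ_iff_forall.1 hu x); ⟨⟨k⟩, hk⟩))
  have hov : ∀ i j : ULift.{u} (Fin n), pullback.fst (𝒰.f i) (𝒰.f j) ≫ m i.down =
      pullback.snd (𝒰.f i) (𝒰.f j) ≫ m j.down := by
    intro i j
    by_cases hij : i = j
    · subst hij
      have : Mono (𝒰.f i) := inferInstanceAs (Mono (W i.down).ι)
      rw [fst_eq_snd_of_mono_eq]
    · have : IsEmpty ↥(pullback (𝒰.f i) (𝒰.f j)) := ⟨fun z => by
        have h1 : (𝒰.f i) (pullback.fst (𝒰.f i) (𝒰.f j) z) ∈ (W i.down : Set ↥U.left) := by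
          rw [← Scheme.Opens.range_ι (W i.down)]
          exact ⟨_, rfl⟩
        have h2 : (𝒰.f i) (pullback.fst (𝒰.f i) (𝒰.f j) z) ∈ (W j.down : Set ↥U.left) := by
          rw [← Scheme.Hom.comp_apply, pullback.condition, Scheme.Hom.comp_apply,
            ← Scheme.Opens.range_ι (W j.down)]
          exact ⟨_, rfl⟩
        exact Set.disjoint_left.1 (hd fun e => hij (ULift.ext _ _ e)) h1 h2⟩
      exact isInitialOfIsEmpty.hom_ext _ _
  refine ⟨Scheme.Cover.glueMorphisms 𝒰 (fun k => m k.down) hov, Scheme.Cover.hom_ext 𝒰 _ _ fun k => ?_⟩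
  rw [← Category.assoc, Scheme.Cover.ι_glueMorphisms, Category.comp_id]
  exact hm k.down

end Groth.Agent.S0757
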