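import Groth.Statements.S0758
import Groth.Agent.EtModWLib.EssLocal
import Groth.Agent.EtModWLib.ProConst
import Groth.Agent.EtModWLib.FlatDescent
import Groth.Agent.EtModWLib.ConstMod
import Groth.Agent.EtModWLib.Comp

set_option autoImplicit false
open CategoryTheory CategoryTheory.Limits AlgebraicGeometry Opposite
open scoped TensorProduct
universe u
open EtModW

namespace Groth.Agent.S0758

open Groth.Agent Groth.Agent.EtModWLib Groth.Agent.EtModWLib.GoodPoint

section Etale

variable {Λ : Type (u + 1)} [CommRing Λ] {X : Scheme.{u}}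

/-- The final object of the small étale site. -/
noncomputable def topTerminal (X : Scheme.{u}) : IsTerminal (EtCoh.top X) :=
  IsTerminal.ofUniqueHom (fun U => MorphismProperty.Over.homMk U.hom (Category.comp_id _) trivial)
    fun U g => MorphismProperty.Over.Hom.ext ((Category.comp_id g.left).symm.trans (MorphismProperty.Over.w g))

set_option backward.isDefEq.respectTransparency.types false in
/-- A sheaf trivialised on the whole scheme is constant. -/
theorem nonempty_iso_constMod {G : EtModW.Mod Λ X} {M : Type (u + 1)} [AddCommGroup M] [Module Λ M]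
    {m : M →ₗ[Λ] G.obj.obj (op (EtCoh.top X))} (hm : IsTriv G (EtCoh.top X) M m) :
    Nonempty (EtModW.constMod Λ X M ≅ G) := by
  let adj := constantSheafAdj X.smallEtaleTopology (ModuleCat.{u + 1} Λ) (topTerminal X)
  let u : EtModW.constMod Λ X M ⟶ G := (adj.homEquiv (ModuleCat.of Λ M) G).symm (ModuleCat.ofHom m)
  have hu : ∀ x, u.hom.app (op (EtCoh.top X)) (constSect M (EtCoh.top X) x) = m x := fun x => by
    have h1 : adj.homEquiv (ModuleCat.of Λ M) G u = ModuleCat.ofHom m := Equiv.apply_symm_apply _ _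
    rw [Adjunction.homEquiv_unit] at h1
    refine Eq.trans ?_ (congrArg (fun k => k x) h1)
    simp [adj, constantSheafAdj, constantPresheafAdj, constSect]
    rfl
  have : IsIso u := isIso_of_stalk u fun Ω _ _ ξ => by
    obtain ⟨φ, -⟩ := EtaleSite.exists_fiber_point ξ (EtCoh.top X) (ξ default) rfl
    refine (ConcreteCategory.isIso_iff_bijective _).2 ?_
    refine (Function.Bijective.of_comp_iff _ (isTriv_constSect M (EtCoh.top X) Ω ξ φ)).1 ?_
    have : ((EtModW.stalk Λ ξ).map u ∘ fun x => germ ξ (EtModW.constMod Λ X M) (EtCoh.top X) φ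
        (constSect M (EtCoh.top X) x)) = fun x => germ ξ G (EtCoh.top X) φ (m x) :=
      funext fun x => (germ_naturality ξ u _ φ _).trans (congrArg (germ ξ G (EtCoh.top X) φ) (hu x))
    exact this ▸ hm Ω ξ φ
  exact ⟨asIso u⟩

theorem isFTLocConst_constMod (M : Type (u + 1)) [AddCommGroup M] [Module Λ M] [Module.Finite Λ M] :
    EtModW.IsFTLocConst Λ (EtModW.constMod Λ X M) :=
  isFTLocConst_of_isTriv fun _ _ _ ξ => by
    obtain ⟨φ, -⟩ := EtaleSite.exists_fiber_point ξ (EtCoh.top X) (ξ default) rfl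
    exact ⟨_, φ, M, inferInstance, inferInstance, inferInstance, _, isTriv_constSect M _⟩

theorem finitePresentation_stalk_constMod (M : Type (u + 1)) [AddCommGroup M] [Module Λ M]
    [Module.FinitePresentation Λ M] {Ω : Type u} [Field Ω] [IsSepClosed Ω]
    (ξ : Spec (CommRingCat.of Ω) ⟶ X) :
    Module.FinitePresentation Λ ↑((EtModW.stalk Λ ξ).obj (EtModW.constMod Λ X M)) := by
  obtain ⟨φ, -⟩ := EtaleSite.exists_fiber_point ξ (EtCoh.top X) (ξ default) rfl
  exact Module.FinitePresentation.of_equiv (IsTriv.stalkEquiv (isTriv_constSect M _) φ)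

set_option backward.isDefEq.respectTransparency.types false in
/-- The pullback of `F` to an étale object on which it is constant is constant. -/
theorem nonempty_pull_iso_constMod {F : EtModW.Mod Λ X} {U : X.Etale} {M : Type (u + 1)} [AddCommGroup M]
    [Module Λ M] {m : M →ₗ[Λ] F.obj.obj (op U)} (hm : IsTriv F U M m) :
    Nonempty (EtModW.constMod Λ U.left M ≅ (EtModW.pull Λ U.hom).obj F) := by
  let d : EtCoh.top U.left ⟶ (EtCoh.bc U.hom).obj U :=
    MorphismProperty.Over.homMk (pullback.lift (𝟙 U.left) (𝟙 U.left) rfl) (pullback.lift_snd _ _ _) trivial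
  exact nonempty_iso_constMod ((hm.pull U.hom).restrict d)

end Etale

/-- For a ring L (in the value universe) the functor eps^{-1} sends locally constant sheaves of
L-modules of finite presentation on X_et to such sheaves on X_proet, and every locally constant
sheaf of L-modules of finite presentation on X_proet is isomorphic to eps^{-1} of one on X_et (so
eps^{-1}, which is fully faithful, is an equivalence between these categories; continuity of the
comparison functor assumed as a binder). -/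
theorem result (X : Scheme.{u}) [ProEtS.EpsCont X]
    (Λ : Type (u + 1)) [CommRing Λ] :
    (∀ F : EtModW.Mod Λ X, EtModW.IsFPLocConst Λ F →
      EtModW.IsFPLocConstP Λ ((EtModW.epsPullMod Λ X).obj F)) ∧
    ∀ G : EtModW.ModP Λ X, EtModW.IsFPLocConstP Λ G →
      ∃ F : EtModW.Mod Λ X, EtModW.IsFPLocConst Λ F ∧ Nonempty ((EtModW.epsPullMod Λ X).obj F ≅ G) := by
  have epsC : ∀ T : Scheme.{u}, ProEtS.EpsCont T := fun T => Groth.Agent.ProEtS.Site.epsCont T
  have pC : ∀ {T T' : Scheme.{u}} (g : T ⟶ T'), ProEtS.PCont g := fun g => Groth.Agent.ProEtS.Site.pCont g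
  constructor
  · rintro F ⟨ι, U, hU, hM⟩
    refine ⟨ι, fun i => (ProEtS.eps X).obj (U i), ?_, fun i => ?_⟩
    · refine Groth.Agent.ProEtS.Site.generate_mem _ _ (Scheme.etalePrecoverage_le_proetalePrecoverage _ ?_)
      show _ ∈ Scheme.precoverage @Etale X
      exact (Scheme.ofArrows_mem_precoverage_iff @Etale).2 ⟨fun x => let ⟨i, y, hy⟩ := hU x; ⟨i, y, hy⟩, fun i => (U i).prop⟩
    · obtain ⟨M, h₁, h₂, h₃, ⟨e⟩⟩ := hM i
      refine ⟨M, h₁, h₂, h₃, ?_⟩
      obtain ⟨m, hm⟩ := exists_isTriv_of_restrIso e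
      obtain ⟨e'⟩ := nonempty_pull_iso_constMod hm
      exact (ProConst.nonempty_over_iso_iff_pull ((ProEtS.eps X).obj (U i)) _ M).2
        ⟨(PullPBc.pullEpsIso (U i).hom).app F ≪≫ (EtModW.epsPullMod Λ (U i).left).mapIso e'.symm⟩
  · rintro G ⟨κ, V, hV, hM⟩
    choose M h₁ h₂ h₃ hiso using hM
    have hiso' := fun k => (ProConst.nonempty_over_iso_iff_pull (V k) G (M k)).1 (hiso k)
    obtain ⟨E, ⟨e⟩⟩ := EssLocal.essImage_of_coversP V hV G fun k =>
      (hiso' k).elim fun e => ⟨_, ⟨e.symm⟩⟩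
    have hloc : ∀ k, Nonempty ((EtModW.pull Λ (V k).hom).obj E ≅ EtModW.constMod Λ (V k).left (M k)) := fun k =>
      (hiso' k).elim fun ek => ⟨fullyFaithfulEpsPullMod.preimageIso
        (((PullPBc.pullEpsIso (V k).hom).app E).symm ≪≫ (PullPBc.pullPMod Λ (V k).hom).mapIso e ≪≫ ek)⟩
    have hfp : ∀ (Ω : Type u) [Field Ω] [IsSepClosed Ω] (ξ : Spec (CommRingCat.of Ω) ⟶ X),
        Module.FinitePresentation Λ ↑((EtModW.stalk Λ ξ).obj E) := fun Ω _ _ ξ => by
      obtain ⟨O, hO⟩ := Groth.Agent.ProEtS.Covers.affineOpens_cover X (ξ default)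
      obtain ⟨n, W, g, k, q, hW, hw, hcov, hq⟩ := EssLocal.exists_affine_refinement V hV O.2
      obtain ⟨p, hp⟩ : ξ default ∈ Set.range O.2.fromSpec := by rw [O.2.range_fromSpec]; exact hO
      obtain ⟨i, w, hwp⟩ := hcov p
      let ζ := EtaleSite.geomPointAt (V (k i)).left (q i w)
      obtain ⟨ek⟩ := hloc (k i)
      have hx : (ζ ≫ (V (k i)).hom) default = ξ default := by
        refine (Scheme.Hom.comp_apply _ _ _).trans ((congrArg (V (k i)).hom (EtaleSite.geomPointAt_apply _ _ _)).trans ?_)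
        refine (Scheme.Hom.comp_apply _ _ _).symm.trans ((congrArg (fun m => m w) (hq i)).trans ?_)
        exact (Scheme.Hom.comp_apply _ _ _).trans ((congrArg O.2.fromSpec hwp).trans hp)
      obtain ⟨es⟩ := nonempty_stalk_equiv (ζ ≫ (V (k i)).hom) ξ hx E
      haveI := finitePresentation_stalk_constMod (Λ := Λ) (M (k i)) ζ
      exact Module.FinitePresentation.of_equiv
        (((EtModW.stalk Λ ζ).mapIso ek).symm ≪≫ (stalkPullIso (Λ := Λ) (V (k i)).hom ζ).app E ≪≫ es).toLinearEquiv
    refine ⟨E, isFPLocConst_of_stalk ?_ fun x => ⟨_, inferInstance, inferInstance,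
      EtaleSite.geomPointAt X x, EtaleSite.geomPointAt_apply X x _, hfp _ _⟩, ⟨e⟩⟩
    refine isFTLocConst_of_openCover (fun U : X.affineOpens => U.2.fromSpec) ?_ E fun U => ?_
    · refine Set.eq_univ_of_forall fun x => ?_
      obtain ⟨U, hU⟩ := Groth.Agent.ProEtS.Covers.affineOpens_cover X x
      exact Set.mem_iUnion.2 ⟨U, by rw [U.2.range_fromSpec]; exact hU⟩
    obtain ⟨n, W, g, k, q, hW, hw, hcov, hq⟩ := EssLocal.exists_affine_refinement V hV U.2
    haveI := hW
    let π : ∐ W ⟶ Spec Γ(X, U.1) := Sigma.desc g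
    have hπ : ∀ i, Sigma.ι W i ≫ π = g i := fun i => Sigma.ι_desc _ _
    haveI : Surjective π := ⟨fun x => by
      obtain ⟨i, w, hwx⟩ := hcov x
      exact ⟨Sigma.ι W i w, (Scheme.Hom.comp_apply _ _ _).symm.trans ((congrArg (fun m => m w) (hπ i)).trans hwx)⟩⟩
    haveI : WeaklyEtale π := IsZariskiLocalAtSource.sigmaDesc (P := @WeaklyEtale) hw
    haveI : IsAffineHom π := inferInstance
    refine FlatDescent.isFTLocConst_of_pull_flat π _ ?_ ?_
    · refine isFTLocConst_of_openCover (fun i => Sigma.ι W i) ?_ _ fun i => ?_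
      · exact Set.eq_univ_of_forall fun x => Set.mem_iUnion.2
          (let ⟨i, y, hy⟩ := (sigmaOpenCover W).exists_eq x; ⟨i, y, hy⟩)
      · obtain ⟨ek⟩ := hloc (k i)
        refine isFTLocConst_of_iso ?_ (isFTLocConst_pull (q i) (isFTLocConst_constMod (Λ := Λ) (M (k i))))
        exact (EtModW.pull Λ (q i)).mapIso ek.symm ≪≫ (pullComp (V (k i)).hom (q i)).app E ≪≫
          (pullCongr ((hq i).trans ((congrArg (· ≫ U.2.fromSpec) (hπ i)).symm.trans (Category.assoc _ _ _)))).app E ≪≫
          ((pullComp (π ≫ U.2.fromSpec) (Sigma.ι W i)).app E).symm ≪≫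
          (EtModW.pull Λ (Sigma.ι W i)).mapIso ((pullComp U.2.fromSpec π).app E).symm
    · intro Ω _ _ η
      haveI := hfp Ω ((η ≫ π) ≫ U.2.fromSpec)
      exact Module.FinitePresentation.of_equiv ((stalkPullIso (Λ := Λ) π η).app _ ≪≫
        (stalkPullIso (Λ := Λ) U.2.fromSpec (η ≫ π)).app E).toLinearEquiv.symm

end Groth.Agent.S0758
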