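import Groth.Statements.S0760
import Groth.Agent.EtRestLib.LocallyConstant
import Groth.Agent.S0073

set_option autoImplicit false
open CategoryTheory CategoryTheory.Limits AlgebraicGeometry Opposite
open scoped TensorProduct
universe u
open EtRest

namespace Groth.Agent.S0760

/-- Let f : X -> S be locally acyclic and F a locally constant abelian sheaf on X_et all of whose
geometric stalks are torsion groups whose elements have order prime to the residue characteristic.
Then f is locally acyclic relative to F: for every point x, strict henselizations R_S -> R_X of the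
local rings at f(x) and x (compatible with f), separably closed field Om under R_S, and every q,
pulling back along the variety of vanishing cycles Spec(R_X (x)_{R_S} Om) -> Spec R_X induces a
bijection H^q(Spec R_X, F|) -> H^q(Spec(R_X (x) Om), F|). (Left exactness of the pullback functor
carried as a binder.) -/
theorem result {X S : Scheme.{u}} (f : X ⟶ S)
    (hf : EtRest.IsLocallyAcyclic f) (F : EtCoh.Ab X) (hF : EtRest.IsLocallyConstant F)
    (htor : ∀ (Ω : Type u) [Field Ω] [IsSepClosed Ω] (ξ : Spec (CommRingCat.of Ω) ⟶ X)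
      (s : (EtCoh.stalk ξ).obj F), ∃ n : ℕ, 0 < n ∧ (n : Ω) ≠ 0 ∧ n • s = 0)
    (x : ↥X) (RS RX : Type u) [CommRing RS] [CommRing RX] [IsLocalRing RS] [IsLocalRing RX]
    [Algebra (S.presheaf.stalk (f.base x)) RS] [IsLocalHom (algebraMap (S.presheaf.stalk (f.base x)) RS)]
    [Hensel.IsStrictHenselization (S.presheaf.stalk (f.base x)) RS]
    [Algebra (X.presheaf.stalk x) RX] [IsLocalHom (algebraMap (X.presheaf.stalk x) RX)]
    [Hensel.IsStrictHenselization (X.presheaf.stalk x) RX]
    [Algebra RS RX] [IsLocalHom (algebraMap RS RX)]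
    (hc : (algebraMap RS RX).comp (algebraMap (S.presheaf.stalk (f.base x)) RS) =
      (algebraMap (X.presheaf.stalk x) RX).comp (f.stalkMap x).hom)
    (Ω : Type u) [Field Ω] [IsSepClosed Ω] [Algebra RS Ω]
    [PreservesFiniteLimits (EtCoh.pull
      (Spec.map (CommRingCat.ofHom (algebraMap RX (EtRest.vcRing RS RX Ω)))))] (q : ℕ) :
    Function.Bijective (EtCore.HpullVia
      (Spec.map (CommRingCat.ofHom (algebraMap RX (EtRest.vcRing RS RX Ω)))) (Hens2.specOf X x RX)
      (Spec.map (CommRingCat.ofHom (algebraMap RX (EtRest.vcRing RS RX Ω))) ≫ Hens2.specOf X x RX)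
      rfl F q) := by
  obtain ⟨ι, U, hU, hM⟩ := hF
  have : IsSepClosed (IsLocalRing.ResidueField RX) :=
    (inferInstance : Hensel.IsStrictHenselization (X.presheaf.stalk x) RX).isSepClosure.sep_closed
  have : HenselianLocalRing RX :=
    (inferInstance : Hensel.IsStrictHenselization (X.presheaf.stalk x) RX).henselian
  let t := Hens2.specOf X x RX
  let v := Spec.map (CommRingCat.ofHom (algebraMap RX (EtRest.vcRing RS RX Ω)))
  let ξ := EtaleSite.closedPt RX ≫ t
  obtain ⟨i, y, hy⟩ := hU (ξ.base default)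
  obtain ⟨φ, -⟩ := EtaleSite.exists_fiber_point ξ (U i) y hy
  obtain ⟨M, hMgrp, ⟨e⟩⟩ := hM i
  obtain ⟨m, hm⟩ := EtConsAb.exists_isTriv_of_restrIso e
  obtain ⟨eG⟩ := EtRestLib.exists_iso_const RX ((EtCoh.pull t).obj F) _
    (EtaleSite.fiberBcEquiv t (EtaleSite.closedPt RX) (U i) φ) _ (hm.pull t)
  let P : ℕ → Prop := fun n => (n : IsLocalRing.ResidueField RX) ≠ 0
  have hP : ∀ n, P n → ∀ d, d ∣ n → P d := fun n hn d ⟨c, hc⟩ h0 => hn (by
    rw [hc, Nat.cast_mul, h0, zero_mul])
  have hP0 : ¬ P 0 := fun h => h Nat.cast_zero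
  have htM : ∀ a : AddCommGrpCat.of M, ∃ n, P n ∧ n • a = 0 := fun a => by
    obtain ⟨n, -, hn, hn0⟩ := htor _ ξ (EtaleSite.germ ξ F (U i) φ (m a))
    refine ⟨n, hn, (hm _ ξ φ).1 ?_⟩
    show EtaleSite.germ ξ F (U i) φ (m (n • a)) = EtaleSite.germ ξ F (U i) φ (m 0)
    rw [map_zero, map_zero, ← hn0]
    exact (congrArg _ (map_nsmul m n a)).trans (map_nsmul _ n _)
  let ψ : X.residueField x →+* IsLocalRing.ResidueField RX :=
    IsLocalRing.ResidueField.map (algebraMap (X.presheaf.stalk x) RX)
  have hX : ∀ n, P n → (n : X.residueField x) ≠ 0 := fun n hn h0 => hn (by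
    rw [← map_natCast ψ, h0, map_zero])
  have hla := hf x RS RX hc Ω
  refine (EtaleSite.HpullComp.HF_map_bijective _).comp ?_
  refine EtRestLib.Hpull_bijective_congr v eG.symm q ?_
  obtain ⟨n₀, hn₀, hPn₀⟩ : ∃ n, 1 < n ∧ P n := by
    by_cases h2 : P 2
    · exact ⟨2, by omega, h2⟩
    · refine ⟨3, by omega, fun h3 => ?_⟩
      have h2' : ((2 : ℕ) : IsLocalRing.ResidueField RX) = 0 := not_not.1 h2
      rw [Nat.cast_succ, h2', zero_add] at h3
      exact one_ne_zero h3
  rcases Nat.eq_zero_or_pos q with rfl | hq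
  · exact EtRestLib.Hpull_bijective_const v _ (EtRestLib.cst_bijective RX _)
      (EtRestLib.cst_bijective_of_equiv hn₀ (hla n₀ (hX n₀ hPn₀)).2.some _)
  · have h1 : Subsingleton (EtCoh.H (Spec (CommRingCat.of RX))
        (EtaleSite.ConstSections.cSheaf _ (AddCommGrpCat.of M)) q) := Groth.Agent.S0073.result RX _ q hq
    have h2 := EtRestLib.subsingleton_H_const (W := Spec (CommRingCat.of (EtRest.vcRing RS RX Ω)))
      q hP hP0 (fun n hn => (hla n (hX n hn)).1 q hq) (AddCommGrpCat.of M) htM
    have h3 : Subsingleton (EtCoh.H (Spec (CommRingCat.of (EtRest.vcRing RS RX Ω)))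
        ((EtCoh.pull v).obj (EtaleSite.ConstSections.cSheaf _ (AddCommGrpCat.of M))) q) :=
      (EtaleSite.HpullComp.HF_map_bijective
        ((EtCore.pullConstIso v).app (AddCommGrpCat.of M)).hom).injective.subsingleton
    exact ⟨fun a b _ => Subsingleton.elim a b, fun b => ⟨0, Subsingleton.elim _ b⟩⟩

end Groth.Agent.S0760
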