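import Groth.Statements.S0763
import Groth.Agent.ProEtDCLib.Main
import Mathlib.Algebra.Category.ModuleCat.Kernels

set_option autoImplicit false
open CategoryTheory CategoryTheory.Limits AlgebraicGeometry Opposite
universe u
open ProEtDC

namespace Groth.Agent.S0763
open Groth.Agent Groth.Agent.EtModWLib

/-- Part (1), for the site X_proet (which has enough weakly contractible objects): for a Noetherian ring
L (in the value universe) and an ideal I, the derived complete sheaves of L-modules form a weak
Serre subcategory: kernels and cokernels of maps between derived complete sheaves are derived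
complete, and an extension of derived complete sheaves is derived complete. -/
theorem result (X : Scheme.{u}) (Λ : Type (u + 1)) [CommRing Λ]
    [IsNoetherianRing Λ] (I : Ideal Λ) :
    (∀ (F G : EtModW.ModP Λ X) (φ : F ⟶ G), ProEtDC.IsDCSheaf Λ I F → ProEtDC.IsDCSheaf Λ I G →
      ProEtDC.IsDCSheaf Λ I (kernel φ) ∧ ProEtDC.IsDCSheaf Λ I (cokernel φ)) ∧
    ∀ (S : ShortComplex (EtModW.ModP Λ X)), S.ShortExact →
      ProEtDC.IsDCSheaf Λ I S.X₁ → ProEtDC.IsDCSheaf Λ I S.X₃ → ProEtDC.IsDCSheaf Λ I S.X₂ := by
  simp only [Groth.Agent.ProEtDCLib.isDCSheaf_iff]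
  refine ⟨fun F G φ hF hG => ⟨fun f hf W hW => ?_, fun f hf W hW => ?_⟩, fun S hS h1 h3 f hf W hW => ?_⟩
  · exact DRing.Tel.tel_congr
      (PreservesKernel.iso (sectFun Λ W) φ ≪≫ ModuleCat.kernelIsoKer _).symm.toLinearEquiv
      (DRing.Tel.tel_ker (hF f hf W hW) (hG f hf W hW) _)
  · have := ProEtDCLib.preservesHomology_sectFun (Λ := Λ) W hW
    have := (sectFun Λ W).preservesFiniteColimits_of_preservesHomology
    exact DRing.Tel.tel_congr
      (PreservesCokernel.iso (sectFun Λ W) φ ≪≫ ModuleCat.cokernelIsoRangeQuotient _).symm.toLinearEquiv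
      (DRing.Tel.tel_coker (hF f hf W hW) (hG f hf W hW) _)
  · have := ProEtDCLib.preservesHomology_sectFun (Λ := Λ) W hW
    have := (sectFun Λ W).preservesFiniteColimits_of_preservesHomology
    have h := hS.map_of_exact (sectFun Λ W)
    let g := (sectFun Λ W).map S.g
    refine DRing.Tel.tel_extension (LinearMap.ker g.hom) ?_ ?_
    · exact DRing.Tel.tel_congr
        ((LinearEquiv.ofInjective _ h.moduleCat_injective_f).trans
          (LinearEquiv.ofEq _ _ h.exact.moduleCat_range_eq_ker)) (h1 f hf W hW)
    · exact DRing.Tel.tel_congr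
        (g.hom.quotKerEquivOfSurjective h.moduleCat_surjective_g).symm (h3 f hf W hW)

end Groth.Agent.S0763
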