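import Groth.Statements.S0764
import Groth.Agent.ProEtDCLib.Main

set_option autoImplicit false
open CategoryTheory CategoryTheory.Limits AlgebraicGeometry Opposite
universe u
open ProEtDC

namespace Groth.Agent.S0764
open Groth.Agent Groth.Agent.EtModWLib

/-- For a Noetherian ring L (value universe), an ideal I and an inverse system (F_n) of derived complete
sheaves of L-modules indexed by the natural numbers, the limit sheaf lim F_n is derived complete. -/
theorem result (X : Scheme.{u}) (Λ : Type (u + 1)) [CommRing Λ]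
    [IsNoetherianRing Λ] (I : Ideal Λ) (D : ℕᵒᵖ ⥤ EtModW.ModP Λ X)
    (hD : ∀ n : ℕ, ProEtDC.IsDCSheaf Λ I (D.obj (op n))) :
    ProEtDC.IsDCSheaf Λ I (limit D) := by
  simp only [Groth.Agent.ProEtDCLib.isDCSheaf_iff] at hD ⊢
  intro f hf W hW
  have hT := fun n => hD n f hf W hW
  refine DRing.Tel.tel_iff.2 ⟨fun x hx => funext fun k => ?_, fun m => ?_⟩
  · refine limit_sect_ext D W _ _ fun n => ?_
    exact (congrFun ((DRing.Tel.tel_iff.1 (hT n)).1
      (fun j => (limit.π D (op n)).hom.app (op W) (x j)) fun j =>
        (congrArg _ (hx j)).trans (map_smul _ f _)) k).trans (map_zero _).symm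
  · choose y hy using fun n => (DRing.Tel.tel_iff.1 (hT n)).2
      fun j => (limit.π D (op n)).hom.app (op W) (m j)
    have hc : ∀ n k, (ARSys.tr D (Nat.le_succ n)).hom.app (op W) (y (n + 1) k) = y n k := fun n k => by
      refine congrFun ((hT n).1 (funext fun j => ?_) :
        (fun j => (ARSys.tr D (Nat.le_succ n)).hom.app (op W) (y (n + 1) j)) = y n) k
      rw [DRing.Tel.D_apply, DRing.Tel.D_apply, hy n j, ← limit_sect_tr D W (Nat.le_succ n) (m j),
        ← hy (n + 1) j]
      exact ((map_sub _ _ _).trans (congrArg₂ (· - ·) rfl (map_smul _ f _))).symm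
    choose z hz using fun k => exists_limit_sect D W (fun n => y n k) fun n => hc n k
    refine ⟨z, fun k => limit_sect_ext D W _ _ fun n => ?_⟩
    rw [← hy n k, ← hz k n, ← hz (k + 1) n]
    exact (map_sub _ _ _).trans (congrArg₂ (· - ·) rfl (map_smul _ f _))

end Groth.Agent.S0764
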