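import Groth.Statements.S0766
import Groth.Agent.ProEtDCLib.Main
import Groth.Agent.DRing.DerivedComplete

set_option autoImplicit false
open CategoryTheory CategoryTheory.Limits AlgebraicGeometry Opposite
universe u
open ProEtDC

namespace Groth.Agent.S0766
open Groth.Agent Groth.Agent.EtModWLib

/-- Let L be a ring (value universe), I an ideal generated by finitely many elements a_1, ..., a_r, and
F a sheaf of L-modules on X_proet which is derived complete with respect to I and satisfies F/IF = 0
(the map F^r -> F, (s_k) |-> sum a_k s_k, is an epimorphism). Then F = 0. -/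
theorem result (X : Scheme.{u}) (Λ : Type (u + 1)) [CommRing Λ]
    {r : ℕ} (a : Fin r → Λ) (F : EtModW.ModP Λ X)
    (hF : ProEtDC.IsDCSheaf Λ (Ideal.span (Set.range a)) F) (h0 : ProEtDC.ModGensIsZero Λ a F) :
    IsZero F := by
  rw [Groth.Agent.ProEtDCLib.isDCSheaf_iff] at hF
  refine ProEtDCLib.isZero_of_wc fun W hW => ?_
  have : Epi (biproduct.desc fun k : Fin r => smulHom Λ F (a k)) := h0
  refine DRing.DerComplete.subsingleton_of_smul_top (A := Λ) (M := (sectFun Λ W).obj F)
    (Ideal.span (Set.range a)) (Submodule.fg_span (Set.finite_range a))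
    (fun f hf => hF f hf W hW) (eq_top_iff.2 fun x _ => ?_)
  obtain ⟨y, rfl⟩ := surjective_of_epi_wc (biproduct.desc fun k : Fin r => smulHom Λ F (a k)) W hW x
  have hd : biproduct.desc (fun k : Fin r => smulHom Λ F (a k)) =
      ∑ k, biproduct.π (fun _ : Fin r => F) k ≫ smulHom Λ F (a k) := biproduct.desc_eq
  have e := congrArg (fun φ => φ y) ((congrArg (sectFun Λ W).map hd).trans ((sectFun Λ W).map_sum _ _))
  refine (congrArg (· ∈ (Ideal.span (Set.range a) • ⊤ : Submodule Λ ((sectFun Λ W).obj F))) e).mpr ?_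
  change (ModuleCat.Hom.hom ((∑ k : Fin r, (sectFun Λ W).map (biproduct.π (fun _ : Fin r => F) k ≫ smulHom Λ F (a k))) : (sectFun Λ W).obj _ ⟶ (sectFun Λ W).obj F)) y ∈ _
  rw [ModuleCat.hom_sum, LinearMap.sum_apply]
  exact Submodule.sum_mem _ fun k _ =>
    Submodule.smul_mem_smul (Ideal.subset_span ⟨k, rfl⟩) Submodule.mem_top

end Groth.Agent.S0766
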