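import Groth.Statements.S0769
import Groth.Agent.EtCoprodGE.Push

set_option autoImplicit false
open CategoryTheory CategoryTheory.Limits AlgebraicGeometry Opposite
universe u
attribute [local instance] HasDerivedCategory.standard
open EtRest

noncomputable section

namespace Groth.Agent.S0769

/-- Let f : X -> Y be separated of finite type with X, Y quasi-compact quasi-separated and c a
compactification. For a family K_i of objects of D(X_et) with torsion cohomology sheaves, all
vanishing below a common degree a, Rf_! (computed through c) preserves the direct sum of the K_i.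
(The left exactness of j_! and the existence of the unbounded derived direct image along the
compactification are assumed as hypotheses.) -/
theorem result {X Y : Scheme.{u}} [CompactSpace ↥X] [QuasiSeparatedSpace ↥X] [CompactSpace ↥Y] [QuasiSeparatedSpace ↥Y]
    (f : X ⟶ Y) [IsSeparated f] [LocallyOfFiniteType f] [QuasiCompact f] (c : DEt.Compactification f)
    [PreservesFiniteLimits (EtShriek.extZero c.j)] [DCoh.HasRpushEt c.Xbar c.fbar]
    {ι : Type u} (K : ι → DCoh.DEt X) (a : ℤ) (hb : ∀ i, ∀ n : ℤ, n < a → IsZero (DCoh.HDEt (K i) n))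
    (ht : ∀ i, ∀ n : ℤ, EtCoh.IsTorsion (DCoh.HDEt (K i) n)) :
    PreservesColimit (Discrete.functor K) (DEt.Rshriek c) := by
  have hK : ∀ i, (K i).IsGE a := fun i =>
    (DerivedCategory.isGE_iff _ _).2 fun n hn => hb i n hn
  have : PreservesColimitsOfShape (Discrete ι) (EtShriek.extZero c.j) :=
    (EtShriek.extZeroAdj c.j).leftAdjoint_preservesColimits.preservesColimitsOfShape
  have h₁ : PreservesColimit (Discrete.functor K) (DEt.extZeroD c.j) :=
    Groth.Agent.EtCoprodGE.preservesColimit_mapDerivedCategory (EtShriek.extZero c.j) K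
  have hK' : ∀ i, ((DEt.extZeroD c.j).obj (K i)).IsGE a := fun i => by
    obtain ⟨L, hL, ⟨e⟩⟩ := DerivedCategory.exists_iso_Q_obj_of_isGE (K i) a (hX := hK i)
    let L' : CochainComplex (EtCoh.Ab c.Xbar) ℤ := ((EtShriek.extZero c.j).mapHomologicalComplex (ComplexShape.up ℤ)).obj L
    have hL' : L'.IsStrictlyGE a := by
      rw [CochainComplex.isStrictlyGE_iff]
      intro q hq
      exact (EtShriek.extZero c.j).map_isZero (L.isZero_of_isStrictlyGE a q hq)
    have : (DerivedCategory.Q.obj L').IsGE a := inferInstance
    exact @Triangulated.TStructure.isGE_of_iso _ _ _ _ _ _ _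
      (DerivedCategory.TStructure.t (C := EtCoh.Ab c.Xbar)) (DerivedCategory.Q.obj L') _
      (((EtShriek.extZero c.j).mapDerivedCategoryFactors.app L).symm ≪≫ (DEt.extZeroD c.j).mapIso e.symm) a this
  have h₂ := Groth.Agent.EtCoprodGE.preservesColimit_RpushEt_of_isGE c.fbar _ a hK'
  have : PreservesColimit (Discrete.functor K ⋙ DEt.extZeroD c.j) (DCoh.RpushEt c.Xbar c.fbar) :=
    preservesColimit_of_iso_diagram _ (Discrete.natIso fun _ => Iso.refl _ :
      Discrete.functor (fun i => (DEt.extZeroD c.j).obj (K i)) ≅ Discrete.functor K ⋙ DEt.extZeroD c.j)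
  exact comp_preservesColimit _ _

end Groth.Agent.S0769
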