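import Groth.Statements.S0776
import Groth.Agent.ProEtDCLib.Main
import Groth.Agent.S0764

set_option autoImplicit false
open CategoryTheory CategoryTheory.Limits AlgebraicGeometry Opposite
universe u
open ProEtDC

namespace Groth.Agent.S0776
open Groth.Agent Groth.Agent.EtModWLib

theorem tel_of_smul_zero {A : Type*} [CommRing A] {M : Type*} [AddCommGroup M] [Module A M] {g : A}
    (h : ∀ x : M, g • x = 0) : DRing.Tel.Tel M g :=
  DRing.Tel.tel_of_sol (LinearMap.proj 0) fun m => by simp [h]


/-- For a Noetherian ring L (value universe) and an ideal I, the sheaf L^ = lim_n L/I^n (limit of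
constant sheaves) on X_proet is derived complete with respect to I. -/
theorem result (X : Scheme.{u}) (Λ : Type (u + 1)) [CommRing Λ]
    [IsNoetherianRing Λ] (I : Ideal Λ) : ProEtDC.IsDCSheaf Λ I (ProEtDC.lambdaHat Λ X I) := by
  refine S0764.result X Λ I _ fun n => ?_
  rw [Groth.Agent.ProEtDCLib.isDCSheaf_iff]
  intro f hf W hW
  refine DRing.Tel.tel_of_pow (n := n) (tel_of_smul_zero fun x => ?_)
  have h0 : (f ^ n) • 𝟙 ((quotTower Λ I ⋙ constantSheaf (Scheme.ProEt.topology X)
      (ModuleCat.{u + 1} Λ)).obj (op n)) = 0 := by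
    apply Sheaf.hom_ext
    refine sheafify_hom_ext _ _ _
      ((constantSheaf (Scheme.ProEt.topology X) (ModuleCat.{u + 1} Λ)).obj _).property ?_
    apply NatTrans.ext
    funext V
    ext y
    let η := toSheafify (Scheme.ProEt.topology X)
      ((Functor.const X.ProEtᵒᵖ).obj (ModuleCat.of Λ (Λ ⧸ (I ^ n • ⊤ : Submodule Λ Λ))))
    show (f ^ n) • (η.app V).hom y = 0
    refine (map_smul (η.app V).hom (f ^ n) y).symm.trans ?_
    refine (congrArg _ ?_).trans (map_zero _)
    obtain ⟨z, rfl⟩ := Submodule.Quotient.mk_surjective _ y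
    exact (Submodule.Quotient.mk_eq_zero _).2
      (Submodule.smul_mem_smul (Ideal.pow_mem_pow hf n) Submodule.mem_top)
  exact congrArg (fun φ => φ.hom.app (op W) x) h0

end Groth.Agent.S0776
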