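import Groth.Statements.S0777
import Groth.Agent.ProEtDCLib.PhiExact
import Groth.Agent.ProEtDCLib.ExtTel
import Groth.Agent.ProEtDCLib.Devis
import Groth.Agent.ProEtDCLib.LocGen
import Groth.Agent.S0763
import Groth.Agent.S0766
import Groth.Agent.S0776
import Mathlib.Algebra.Category.ModuleCat.Biproducts

set_option autoImplicit false
open CategoryTheory CategoryTheory.Limits AlgebraicGeometry Opposite
universe u
open ProEtDC

namespace Groth.Agent.S0777
open Groth.Agent Groth.Agent.EtModWLib Groth.Agent.ProEtDCLib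

variable {X : Scheme.{u}} {Λ : Type (u + 1)} [CommRing Λ]

theorem smulHom_eq (F : EtModW.ModP Λ X) (c : Λ) : smulHom Λ F c = c • 𝟙 F := by
  apply Sheaf.hom_ext
  rfl

theorem isIso_unitMap (I : Ideal Λ) (M : ModuleCat.{u + 1} Λ)
    (hM : I • (⊤ : Submodule Λ M) = ⊥) : IsIso ((unitMap Λ X I).app M) := by
  refine isIso_of_wc _ fun V hV => ?_
  have hbot : ∀ n, 1 ≤ n → (I ^ n • ⊤ : Submodule Λ M) = ⊥ := fun n hn => by
    rw [eq_bot_iff, ← hM]
    exact Submodule.smul_mono_left (Ideal.pow_le_self (by omega))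
  have hinj : ∀ n, 1 ≤ n → Function.Injective
      ((csect V).map (ModuleCat.ofHom ((I ^ n • ⊤ : Submodule Λ M).mkQ) :
        M ⟶ ((tower Λ I).obj M).obj (op n))).hom := fun n hn => csect_injective V _
    (LinearMap.ker_eq_bot.1 (by
      show LinearMap.ker (I ^ n • ⊤ : Submodule Λ M).mkQ = ⊥
      rw [Submodule.ker_mkQ, hbot n hn]))
  have hη : ∀ n z, comp V M n ((sectFun Λ V).map ((unitMap Λ X I).app M) z) =
      ((csect V).map (ModuleCat.ofHom ((I ^ n • ⊤ : Submodule Λ M).mkQ) :
        M ⟶ ((tower Λ I).obj M).obj (op n))).hom z := fun n z =>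
    congrArg (fun ψ => (sectFun Λ V).map ψ z) (unitMap_π Λ X I M n)
  refine ⟨fun z z' h => hinj 1 le_rfl ?_, fun y => ?_⟩
  · rw [← hη, ← hη]
    exact congrArg _ h
  · obtain ⟨z, hz⟩ := csect_surjective V hV _ ((I ^ 1 • ⊤ : Submodule Λ M).mkQ_surjective)
      (comp V M 1 y)
    refine ⟨z, phi_sect_ext V M _ _ fun n => ?_⟩
    show comp V M n ((sectFun Λ V).map ((unitMap Λ X I).app M) z) = _
    rw [hη]
    rcases Nat.eq_zero_or_pos n with rfl | hn
    · have h0 : (𝟙 _ : ((tower Λ I).obj M).obj (op 0) ⟶ _) = 0 :=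
        ModuleCat.hom_ext (Submodule.linearMap_qext _ (LinearMap.ext fun m =>
          (Submodule.Quotient.mk_eq_zero _).2 (by simp)))
      have hz0 : ∀ w : (csect V).obj (((tower Λ I).obj M).obj (op 0)), w = 0 := fun w => by
        rw [← csect_eq_zero V _ h0 w, CategoryTheory.Functor.map_id]
        rfl
      exact (hz0 _).trans (hz0 _).symm
    · have hfac : (ModuleCat.ofHom ((I ^ n • ⊤ : Submodule Λ M).mkQ) :
          M ⟶ ((tower Λ I).obj M).obj (op n)) ≫ ((tower Λ I).obj M).map (homOfLE hn).op =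
          (ModuleCat.ofHom ((I ^ 1 • ⊤ : Submodule Λ M).mkQ) : M ⟶ ((tower Λ I).obj M).obj (op 1)) :=
        ModuleCat.hom_ext (LinearMap.ext fun m => tower_tr_mk M hn m)
      have htr : Function.Injective ((csect V).map (((tower Λ I).obj M).map (homOfLE hn).op)).hom := by
        refine csect_injective V _ ?_
        refine (injective_iff_map_eq_zero _).2 fun w hw => ?_
        obtain ⟨m, rfl⟩ := Submodule.Quotient.mk_surjective _ w
        rw [tower_tr_mk, Submodule.Quotient.mk_eq_zero] at hw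
        rw [Submodule.Quotient.mk_eq_zero]
        exact (hbot n hn).symm ▸ (hbot 1 le_rfl ▸ hw)
      refine htr ?_
      rw [comp_tr, csect_comp, hfac]
      exact hz

theorem isDCSheaf_biproduct (I : Ideal Λ) (t : ℕ) {F : EtModW.ModP Λ X} (hF : IsDCSheaf Λ I F) :
    IsDCSheaf Λ I (⨁ fun _ : Fin t => F) := by
  rw [isDCSheaf_iff] at hF ⊢
  intro f hf W hW
  exact DRing.Tel.tel_congr ((sectFun Λ W).mapBiproduct (fun _ : Fin t => F) ≪≫
    ModuleCat.biproductIsoPi _).symm.toLinearEquiv
    (DRing.Tel.tel_pi (fun _ : Fin t => ((sectFun Λ W).obj F : Type (u + 1))) fun _ => hF f hf W hW)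

/-- A global section extends over the completed constant sheaf. -/
theorem exists_hom [IsNoetherianRing Λ] {r : ℕ} (a : Fin r → Λ) (F : EtModW.ModP Λ X)
    (hF : IsDCSheaf Λ (Ideal.span (Set.range a)) F) (x : F.obj.obj (op (_root_.ProEtS.topP X))) :
    ∃ φ : lambdaHat Λ X (Ideal.span (Set.range a)) ⟶ F,
      ∃ z, φ.hom.app (op (_root_.ProEtS.topP X)) z = x := by
  let I := Ideal.span (Set.range a)
  let M := ModuleCat.of Λ Λ
  let T := _root_.ProEtS.topP X
  let adj := constantSheafAdj (Scheme.ProEt.topology X) (ModuleCat.{u + 1} Λ)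
    (IsTerminal.ofUniqueHom (fun U => toTop U) (fun U m =>
      (Scheme.ProEt.forget X).map_injective (Over.OverMorphism.ext
        ((Category.comp_id m.left).symm.trans (Over.w m.hom)))) : IsTerminal T)
  let σ : (cst Λ X).obj M ⟶ F :=
    (adj.homEquiv M F).symm (ModuleCat.ofHom (LinearMap.toSpanSingleton Λ _ x))
  have hc : ∀ S : ShortComplex (ModuleCat.{u + 1} Λ), S.ShortExact → (S.map (cst Λ X)).ShortExact :=
    fun S hS => hS.map_of_exact (cst Λ X)
  have hB : Devis.B (unitMap Λ X I) F M := by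
    refine Devis.B_of_finite hc (shortExact_Phi X I) (List.ofFn a) (fun b hb Z n => ?_)
      (fun N _ hN => ?_) M
    · obtain ⟨k, rfl⟩ := List.mem_ofFn.1 hb
      exact tel_ext hF (Ideal.subset_span ⟨k, rfl⟩) Z n
    · have := isIso_unitMap (X := X) I N (by
        rw [eq_bot_iff]
        refine Submodule.smul_le.2 fun c hc m _ => ?_
        refine Submodule.span_induction (p := fun c _ => c • m ∈ (⊥ : Submodule Λ N)) ?_ ?_ ?_ ?_ hc
        · rintro _ ⟨k, rfl⟩
          exact hN _ (List.mem_ofFn.2 ⟨k, rfl⟩) m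
        · simp
        · intro c d _ _ h1 h2
          rw [add_smul]
          exact add_mem h1 h2
        · intro c d _ h1
          rw [smul_eq_mul, mul_smul]
          exact Submodule.smul_mem _ _ h1)
      intro n
      refine Function.bijective_iff_has_inverse.2 ⟨Devis.pre (Λ := Λ) F (inv ((unitMap Λ X I).app N)) n,
        fun y => ?_, fun y => ?_⟩
      · rw [Devis.pre_pre, IsIso.inv_hom_id, Devis.pre_apply, Abelian.Ext.mk₀_id_comp]
      · rw [Devis.pre_pre, IsIso.hom_inv_id, Devis.pre_apply, Abelian.Ext.mk₀_id_comp]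
  obtain ⟨e, he⟩ := (hB 0).2 (Abelian.Ext.mk₀ σ)
  let φ : (Phi Λ X I).obj M ⟶ F := Abelian.Ext.addEquiv₀ e
  have hφ : (unitMap Λ X I).app M ≫ φ = σ := by
    apply (Abelian.Ext.mk₀_bijective _ _).1
    rw [← Abelian.Ext.mk₀_comp_mk₀]
    exact (congrArg (fun k => (Abelian.Ext.mk₀ ((unitMap Λ X I).app M)).comp k (zero_add 0))
      (Abelian.Ext.mk₀_addEquiv₀_apply e)).trans he
  let z₀ := adj.unit.app M (1 : Λ)
  refine ⟨φ, ((unitMap Λ X I).app M).hom.app (op T) z₀, ?_⟩
  refine (congrArg (fun k => k.hom.app (op T) z₀) hφ).trans ?_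
  have h := congrArg (fun k => k (1 : Λ)) ((adj.homEquiv M F).apply_symm_apply
    (ModuleCat.ofHom (LinearMap.toSpanSingleton Λ _ x)))
  refine Eq.trans ?_ (h.trans (one_smul Λ x))
  rw [Adjunction.homEquiv_unit]
  rfl


/-- Let X be an affine scheme whose ring of functions is w-contractible (a weakly contractible affine),
L a Noetherian ring (value universe), I an ideal generated by a_1, ..., a_r, and F a sheaf of
L-modules on X_proet which is derived complete with respect to I and such that F/IF (the cokernel of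
F^r -> F, (s_k) |-> sum a_k s_k) is a locally constant sheaf of finite presentation. Then for some t
there is an epimorphism (L^)^t -> F from a finite direct sum of copies of the completed constant
sheaf. -/
theorem result (X : Scheme.{u}) [IsAffine X]
    (hX : EtPBC.IsWContractible ↥(Γ(X, ⊤))) (Λ : Type (u + 1)) [CommRing Λ] [IsNoetherianRing Λ]
    {r : ℕ} (a : Fin r → Λ) (F : EtModW.ModP Λ X)
    (hF : ProEtDC.IsDCSheaf Λ (Ideal.span (Set.range a)) F)
    (hq : EtModW.IsFPLocConstP Λ (cokernel (ProEtDC.gensMap Λ a F))) :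
    ∃ (t : ℕ) (φ : (⨁ fun _ : Fin t => ProEtDC.lambdaHat Λ X (Ideal.span (Set.range a))) ⟶ F), Epi φ := by
  let I := Ideal.span (Set.range a)
  obtain ⟨t, s, hs⟩ := ProEtDCLib.exists_generators hX (cokernel (gensMap Λ a F)) hq
  have hT : _root_.ProEtS.IsWC (_root_.ProEtS.topP X) :=
    have : IsAffine (_root_.ProEtS.topP X).left := ‹IsAffine X›
    ProEtS.WC.isWC_of_isWContractible _ hX
  choose x hx using fun i =>
    surjective_of_epi_wc (cokernel.π (gensMap Λ a F)) (_root_.ProEtS.topP X) hT (s i)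
  choose φ hφ using fun i => exists_hom a F hF (x i)
  let Φt := biproduct.desc φ
  refine ⟨t, Φt, Preadditive.epi_of_isZero_cokernel _ ?_⟩
  have hG : IsDCSheaf Λ I (cokernel Φt) :=
    ((S0763.result X Λ I).1 _ _ Φt (isDCSheaf_biproduct I _ (S0776.result X Λ I)) hF).2
  have hψ : Epi (Φt ≫ cokernel.π (gensMap Λ a F)) := ⟨fun {G} u v huv => hs G u v fun i => by
    obtain ⟨z, hz⟩ := hφ i
    have h1 := congrArg (fun k => k.hom.app (op (_root_.ProEtS.topP X)) z)
      (congrArg (biproduct.ι (fun _ : Fin t => lambdaHat Λ X I) i ≫ ·) huv)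
    simp only [Φt, Category.assoc, biproduct.ι_desc_assoc] at h1
    rw [← hx i, ← hz]
    exact h1⟩
  refine S0766.result X Λ a _ hG (epi_of_wc _ fun V hV g => ?_)
  obtain ⟨f₀, hf₀⟩ := surjective_of_epi_wc (cokernel.π Φt) V hV g
  obtain ⟨y, hy⟩ := surjective_of_epi_wc (Φt ≫ cokernel.π (gensMap Λ a F)) V hV
    ((cokernel.π (gensMap Λ a F)).hom.app (op V) f₀)
  obtain ⟨w, hw⟩ := exists_lift_wc
    (ShortComplex.mk (gensMap Λ a F) (cokernel.π _) (cokernel.condition _))
    (ShortComplex.exact_of_g_is_cokernel _ (cokernelIsCokernel _)) V hV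
    (f₀ - Φt.hom.app (op V) y) ((map_sub _ _ _).trans (sub_eq_zero.2 hy.symm))
  refine ⟨(biproduct.map fun _ : Fin r => cokernel.π Φt).hom.app (op V) w, ?_⟩
  have hnat : (biproduct.map fun _ : Fin r => cokernel.π Φt) ≫ gensMap Λ a (cokernel Φt) =
      gensMap Λ a F ≫ cokernel.π Φt := by
    refine biproduct.hom_ext' _ _ fun k => ?_
    simp only [gensMap, biproduct.ι_map_assoc, biproduct.ι_desc, biproduct.ι_desc_assoc]
    rw [smulHom_eq, smulHom_eq, Linear.comp_smul, Linear.smul_comp, Category.comp_id, Category.id_comp]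
  refine (congrArg (fun k => k.hom.app (op V) w) hnat).trans ?_
  show (cokernel.π Φt).hom.app (op V) ((gensMap Λ a F).hom.app (op V) w) = g
  refine (congrArg _ hw).trans ((map_sub _ _ _).trans ?_)
  rw [hf₀]
  refine sub_eq_self.2 ?_
  exact (congrArg (fun k => k.hom.app (op V) y) (cokernel.condition Φt)).trans rfl

end Groth.Agent.S0777
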