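import Groth.Statements.S0778
import Groth.Agent.S0677

set_option autoImplicit false
open CategoryTheory CategoryTheory.Limits AlgebraicGeometry Opposite Topology
universe u
open ProEtW

namespace Groth.Agent.S0778

/-- A ring A is w-contractible (retractions for faithfully flat weakly etale algebras) if and only if
every faithfully flat ind-etale A-algebra has an A-algebra retraction. -/
theorem result (A : Type u) [CommRing A] :
    EtPBC.IsWContractible A ↔ ProEtW.HasIndEtaleRetractions A := by
  refine ⟨fun h B _ _ hff hB => h B hff (Groth.Agent.IndAlg.Etale.weaklyEtale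
    (Groth.Agent.IndAlg.fac_of_isInd hB)), fun h => ?_⟩
  have hz : ProEtW.HasIndZariskiRetractions A := fun B _ _ hff hz => h B hff
    (Groth.Agent.IndAlg.Etale.isInd_of_fac (Groth.Agent.WEtale.Local.fac_of_isIndZariski hz))
  have he : ProEtW.HasEtaleRetractions A := fun B _ _ hff he => h B hff
    (Groth.Agent.IndAlg.Etale.isInd_of_fac (Groth.Agent.IndAlg.fac_self he))
  obtain ⟨h1, h2⟩ := (Groth.Agent.S0678.result A).1 hz
  exact (Groth.Agent.S0677.result A).2 ⟨h1, h2, fun m _ => Groth.Agent.S0675.result A he m⟩

end Groth.Agent.S0778
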