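import Groth.Statements.S0781


set_option autoImplicit false
open CategoryTheory CategoryTheory.Limits AlgebraicGeometry Opposite
universe u
open Desc

namespace Groth.Agent.S0781

/-- If p : X → S is a surjective morphism of schemes, then for schemes U₁, U₂ étale over S, two
S-morphisms U₁ → U₂ whose base changes to X agree, as morphisms of canonical descent data relative
to p, are equal; that is, the canonical-descent-datum functor is faithful on schemes étale over S.
(Descent data are taken in functor-of-points form, equivalent by the Yoneda lemma to an isomorphism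
over X ×_S X satisfying the cocycle condition.) -/
theorem result {X S : Scheme.{u}} (p : X ⟶ S) [Surjective p] (U₁ U₂ : Over S)
    [Etale U₁.hom] [Etale U₂.hom] : Function.Injective ((Desc.toDD p).map : (U₁ ⟶ U₂) → _) := by
  intro g g' h
  apply Over.OverMorphism.ext
  have h0 := congrArg (fun φ => φ.hom.left ≫ pullback.snd p U₂.hom) h
  have h1 : pullback.snd p U₁.hom ≫ g.left = pullback.snd p U₁.hom ≫ g'.left := by
    exact (pullback.lift_snd _ _ _).symm.trans (h0.trans (pullback.lift_snd _ _ _))
  have hk : g.left ≫ U₂.hom = g'.left ≫ U₂.hom := by rw [Over.w, Over.w]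
  let k := pullback.lift g.left g'.left hk
  let d := pullback.diagonal U₂.hom
  have hd : Set.range k ⊆ Set.range d := by
    rintro _ ⟨x, rfl⟩
    obtain ⟨y, hy⟩ := (pullback.snd p U₁.hom).surjective x
    refine ⟨(pullback.snd p U₁.hom ≫ g.left) y, ?_⟩
    have e : pullback.snd p U₁.hom ≫ k = (pullback.snd p U₁.hom ≫ g.left) ≫ d := by
      apply pullback.hom_ext
      · simp only [Category.assoc, d]
        erw [pullback.diagonal_fst, pullback.lift_fst]
        rw [Category.comp_id]
      · simp only [Category.assoc, d]
        erw [pullback.diagonal_snd, pullback.lift_snd]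
        rw [Category.comp_id]
        exact h1.symm
    rw [← Scheme.Hom.comp_apply, ← e, Scheme.Hom.comp_apply, hy]
  have hl : IsOpenImmersion.lift d k hd ≫ d = k := IsOpenImmersion.lift_fac _ _ _
  have e1 : IsOpenImmersion.lift d k hd = g.left := by
    have := congrArg (· ≫ pullback.fst U₂.hom U₂.hom) hl
    simp only [Category.assoc, k, d] at this
    erw [pullback.diagonal_fst, Category.comp_id, pullback.lift_fst] at this
    exact this
  have e2 : IsOpenImmersion.lift d k hd = g'.left := by
    have := congrArg (· ≫ pullback.snd U₂.hom U₂.hom) hl
    simp only [Category.assoc, k, d] at this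
    erw [pullback.diagonal_snd, Category.comp_id, pullback.lift_snd] at this
    exact this
  exact e1.symm.trans e2

end Groth.Agent.S0781
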