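import Groth.Statements.S0782
import Mathlib

set_option autoImplicit false
set_option backward.isDefEq.respectTransparency false
set_option backward.isDefEq.respectTransparency.types false
open CategoryTheory CategoryTheory.Limits AlgebraicGeometry Opposite
universe u
open Desc

namespace Groth.Agent.S0782

/-- two maps into `U` over `S`, with `U → S` étale, agreeing set-theoretically through the diagonal -/
theorem eq_of_range_subset {S U T : Scheme.{u}} (q : U ⟶ S) [Etale q] (a b : T ⟶ U) (w : a ≫ q = b ≫ q)
    (hd : Set.range (pullback.lift a b w) ⊆ Set.range (pullback.diagonal q)) : a = b := by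
  let d := pullback.diagonal q
  have hl : IsOpenImmersion.lift d (pullback.lift a b w) hd ≫ d = pullback.lift a b w :=
    IsOpenImmersion.lift_fac _ _ _
  have e1 : IsOpenImmersion.lift d (pullback.lift a b w) hd = a := by
    have := congrArg (· ≫ pullback.fst q q) hl
    simp only [Category.assoc, d] at this
    erw [pullback.diagonal_fst, Category.comp_id, pullback.lift_fst] at this
    exact this
  have e2 : IsOpenImmersion.lift d (pullback.lift a b w) hd = b := by
    have := congrArg (· ≫ pullback.snd q q) hl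
    simp only [Category.assoc, d] at this
    erw [pullback.diagonal_snd, Category.comp_id, pullback.lift_snd] at this
    exact this
  exact e1.symm.trans e2

theorem eq_of_surjective {S U T T' : Scheme.{u}} (q : U ⟶ S) [Etale q] (π : T' ⟶ T) [Surjective π]
    (a b : T ⟶ U) (w : a ≫ q = b ≫ q) (h : π ≫ a = π ≫ b) : a = b := by
  refine eq_of_range_subset q a b w ?_
  rintro _ ⟨x, rfl⟩
  obtain ⟨y, rfl⟩ := π.surjective x
  refine ⟨(π ≫ a) y, ?_⟩
  have e : π ≫ pullback.lift a b w = (π ≫ a) ≫ pullback.diagonal q := by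
    apply pullback.hom_ext <;> simp [h]
  rw [← Scheme.Hom.comp_apply, ← e, Scheme.Hom.comp_apply]

/-- Let p : X ⟶ S be a morphism such that for every scheme U étale over S the projection X ×_S U ⟶ U is
a quotient map of topological spaces (submersive; U = S is allowed). Then for U₁, U₂ étale over S,
every morphism between their canonical descent data relative to p comes from an S-morphism U₁ ⟶ U₂:
the canonical-descent-datum functor is full on schemes étale over S (injectivity of this assignment
is a companion statement). (Descent data are taken in functor-of-points form, equivalent by the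
Yoneda lemma to the usual form of an isomorphism over X ×_S X satisfying the cocycle condition.) -/
theorem result {X S : Scheme.{u}} (p : X ⟶ S)
    (hp : ∀ U : Over S, Etale U.hom → Topology.IsQuotientMap (pullback.snd p U.hom).base) (U₁ U₂ : Over S)
    [Etale U₁.hom] [Etale U₂.hom] : Function.Surjective ((Desc.toDD p).map : (U₁ ⟶ U₂) → _) := by
  intro ψ
  let h : pullback p U₁.hom ⟶ U₂.left := ψ.hom.left ≫ pullback.snd p U₂.hom
  have ψfst : ψ.hom.left ≫ pullback.fst p U₂.hom = pullback.fst p U₁.hom := Over.w ψ.hom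
  have hS : h ≫ U₂.hom = pullback.snd p U₁.hom ≫ U₁.hom := by
    simp only [h, Category.assoc, ← pullback.condition]
    rw [← Category.assoc, ψfst]
  -- compatibility
  have comp : ∀ {T : Scheme.{u}} (v v' : T ⟶ pullback p U₁.hom),
      v ≫ pullback.snd p U₁.hom = v' ≫ pullback.snd p U₁.hom → v ≫ h = v' ≫ h := by
    intro T v v' hv
    have hx : (v ≫ pullback.fst p U₁.hom) ≫ p = (v' ≫ pullback.fst p U₁.hom) ≫ p := by
      simp only [Category.assoc, pullback.condition]
      rw [← Category.assoc, hv, Category.assoc]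
    have hc := ψ.comm (v ≫ pullback.fst p U₁.hom) (v' ≫ pullback.fst p U₁.hom) hx ⟨v, rfl⟩
      ⟨v ≫ ψ.hom.left, by
        show (v ≫ ψ.hom.left) ≫ pullback.fst p U₂.hom = _
        rw [Category.assoc, ψfst]⟩ rfl
    have hc2 := congrArg (· ≫ pullback.snd p U₂.hom) hc
    have e : pullback.lift (v' ≫ pullback.fst p U₁.hom) (v ≫ pullback.snd p U₁.hom)
        (by rw [← hx]; simp [pullback.condition]) = v' := by
      apply pullback.hom_ext <;> simp [hv]
    simp only [Desc.toDD, Desc.canonicalDD] at hc2
    simp at hc2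
    rw [e] at hc2; exact hc2
  let d := pullback.diagonal U₂.hom
  let pr : pullback U₁.hom U₂.hom ⟶ S := pullback.fst U₁.hom U₂.hom ≫ U₁.hom
  have : Etale pr := inferInstance
  let V : Over S := Over.mk pr
  have hpV := hp V ‹_›
  let π := pullback.snd p pr
  let c : pullback p pr ⟶ pullback p U₁.hom :=
    pullback.lift (pullback.fst p pr) (π ≫ pullback.fst U₁.hom U₂.hom)
      (by simp [π, pr, pullback.condition])
  let a := π ≫ pullback.snd U₁.hom U₂.hom
  let b := c ≫ h
  have wab : a ≫ U₂.hom = b ≫ U₂.hom := by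
    simp only [a, b, Category.assoc]
    rw [hS, ← pullback.condition (f := U₁.hom) (g := U₂.hom), reassoc_of% show c ≫ pullback.snd p U₁.hom =
      π ≫ pullback.fst U₁.hom U₂.hom from pullback.lift_snd _ _ _]
  let k := pullback.lift a b wab
  let Z : Set (pullback p pr : Scheme.{u}) := k ⁻¹' Set.range d
  have hZ : IsOpen Z := d.isOpenEmbedding.isOpen_range.preimage k.continuous
  have sat : ∀ w w' : (pullback p pr : Scheme.{u}), π w = π w' → k w = k w' := by
    intro w w' hw
    obtain ⟨z, rfl, rfl⟩ := Scheme.Pullback.exists_preimage_pullback w w' hw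
    rw [← Scheme.Hom.comp_apply, ← Scheme.Hom.comp_apply]
    suffices e : pullback.fst π π ≫ k = pullback.snd π π ≫ k by rw [e]
    apply pullback.hom_ext
    · simp [k, a, pullback.condition_assoc]
    · have e' := comp (pullback.fst π π ≫ c) (pullback.snd π π ≫ c) (by simp [c, pullback.condition_assoc])
      simpa [k, b] using e'
  have hπs : Function.Surjective π := hpV.surjective
  have hpre : π ⁻¹' (π '' Z) = Z := by
    ext w
    constructor
    · rintro ⟨w', hw', e⟩
      show k w ∈ Set.range d
      rw [← sat w' w e]; exact hw'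
    · intro hw; exact ⟨w, hw, rfl⟩
  let Γ : (pullback U₁.hom U₂.hom).Opens := ⟨π '' Z, by
    rw [← hpV.isOpen_preimage]
    exact hpre.symm ▸ hZ⟩
  let γ := Γ.ι ≫ pullback.fst U₁.hom U₂.hom
  let e : pullback p U₁.hom ⟶ pullback U₁.hom U₂.hom := pullback.lift (pullback.snd p U₁.hom) h hS.symm
  let e0 : pullback p U₁.hom ⟶ pullback p pr :=
    pullback.lift (pullback.fst p U₁.hom) e (by simp [e, pr]; simp [pullback.condition])
  have he0 : e0 ≫ k = h ≫ d := by
    have hec : e0 ≫ c = 𝟙 _ := by
      apply pullback.hom_ext <;> simp [e0, e, c, π]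
    apply pullback.hom_ext
    · simp [k, a, d, e0, e, π]
    · simp [k, b, d, reassoc_of% hec]
  have heΓ : Set.range e ⊆ Set.range Γ.ι := by
    rintro _ ⟨x, rfl⟩
    rw [Scheme.Opens.range_ι]
    refine ⟨e0 x, ⟨h x, ?_⟩, ?_⟩
    · rw [← Scheme.Hom.comp_apply, ← he0, Scheme.Hom.comp_apply]
    · rw [← Scheme.Hom.comp_apply]; simp [e0, π]
  let e' := IsOpenImmersion.lift Γ.ι e heΓ
  have he' : e' ≫ Γ.ι = e := IsOpenImmersion.lift_fac _ _ _
  have hγ : e' ≫ γ = pullback.snd p U₁.hom := by simp [γ, reassoc_of% he', e]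
  have h1s : Surjective (pullback.snd p U₁.hom) := ⟨(hp U₁ ‹_›).surjective⟩
  have : Surjective γ := by
    refine ⟨fun x => ?_⟩
    obtain ⟨y, rfl⟩ := (pullback.snd p U₁.hom).surjective x
    exact ⟨e' y, by rw [← Scheme.Hom.comp_apply, hγ]⟩
  have hpS : Surjective p := by
    refine ⟨fun s => ?_⟩
    obtain ⟨y, rfl⟩ := (hp (Over.mk (𝟙 S)) (inferInstanceAs (Etale (𝟙 S)))).surjective s
    refine ⟨pullback.fst p (𝟙 S) y, ?_⟩
    rw [← Scheme.Hom.comp_apply, pullback.condition]; simp
  have : Mono γ := by
    refine ⟨fun {T} s s' hs => ?_⟩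
    rw [← cancel_mono Γ.ι]
    apply pullback.hom_ext (by simpa [γ] using hs)
    let u1 := s ≫ γ
    let τ := pullback.snd p (u1 ≫ U₁.hom)
    have key : ∀ s : T ⟶ Γ, s ≫ γ = u1 → τ ≫ s ≫ Γ.ι ≫ pullback.snd U₁.hom U₂.hom =
        pullback.lift (pullback.fst p (u1 ≫ U₁.hom)) (τ ≫ u1)
          (by simp [τ, pullback.condition]) ≫ h := by
      intro s hs
      let m : pullback p (u1 ≫ U₁.hom) ⟶ pullback p pr :=
        pullback.lift (pullback.fst p (u1 ≫ U₁.hom)) (τ ≫ s ≫ Γ.ι)
          (by simp [τ, pr, pullback.condition, ← hs, γ])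
      have hm : Set.range (m ≫ k) ⊆ Set.range d := by
        rintro _ ⟨x, rfl⟩
        have : m x ∈ π ⁻¹' (π '' Z) := by
          show π (m x) ∈ (Γ : Set _)
          rw [← Scheme.Hom.comp_apply]
          simp [π, m]
        rw [hpre] at this
        exact this
      have wm : (m ≫ a) ≫ U₂.hom = (m ≫ b) ≫ U₂.hom := by simp [wab]
      have hmk : pullback.lift (m ≫ a) (m ≫ b) wm = m ≫ k := by
        apply pullback.hom_ext <;> simp [k]
      have := eq_of_range_subset U₂.hom (m ≫ a) (m ≫ b) wm (by rw [hmk]; exact hm)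
      calc τ ≫ s ≫ Γ.ι ≫ pullback.snd U₁.hom U₂.hom = m ≫ a := by simp [m, a, π]
        _ = m ≫ b := this
        _ = _ := by
          simp only [b, ← Category.assoc]
          congr 1
          apply pullback.hom_ext <;> simp [m, c, π, ← hs, γ]
    apply eq_of_surjective U₂.hom τ _ _ ?_ ?_
    · simpa [γ, pullback.condition, ← pullback.condition] using congrArg (· ≫ U₁.hom) hs
    · simpa using (key s rfl).trans (key s' hs.symm).symm
  have : IsOpenImmersion γ := IsOpenImmersion.of_flat_of_mono γ
  have : IsIso γ := (isIso_iff_isOpenImmersion_and_surjective γ).mpr ⟨‹_›, ‹_›⟩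
  refine ⟨Over.homMk (inv γ ≫ Γ.ι ≫ pullback.snd U₁.hom U₂.hom) ?_, ?_⟩
  · simp [← pullback.condition, γ]
  · apply SchDD.hom_ext
    apply Over.OverMorphism.ext
    apply pullback.hom_ext
    · simp [Desc.toDD, Desc.canonicalDD, ψfst]
    · simp only [Desc.toDD, Desc.canonicalDD]
      have : pullback.snd p U₁.hom ≫ inv γ = e' := by rw [← hγ]; simp
      simp [reassoc_of% this, reassoc_of% he', e, h]

end Groth.Agent.S0782
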