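import Groth.Statements.S1366
import Groth.Agent.S0384
import Groth.Agent.Hens.ProperClopenGen

set_option autoImplicit false
set_option linter.style.haveILetI false
universe u
open FlatMor

namespace Groth.Agent.S1366

open AlgebraicGeometry CategoryTheory Limits in
/-- Let (A, I) be a henselian pair and X a separated scheme of finite type over Spec A, with X_0 its
base change to Spec (A/I). If Y is an open and closed subset of X_0 which (as an open subscheme) is
proper over Spec (A/I), then there is an open and closed subset W of X, proper over Spec A as an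
open subscheme, whose preimage in X_0 is exactly Y. -/
theorem result {A : Type u} [CommRing A] (I : Ideal A) [HenselianRing A I]
    {X : Scheme.{u}} (f : X ⟶ Spec (CommRingCat.of A)) [IsSeparated f] [LocallyOfFiniteType f] [QuasiCompact f]
    (Y : (pullback f (Spec.map (CommRingCat.ofHom (Ideal.Quotient.mk I)))).Opens) (hYc : IsClosed (Y : Set ↑(pullback f (Spec.map (CommRingCat.ofHom (Ideal.Quotient.mk I))))))
    (hYp : IsProper (Y.ι ≫ pullback.snd f (Spec.map (CommRingCat.ofHom (Ideal.Quotient.mk I))))) :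
    ∃ W : X.Opens, IsClosed (W : Set ↑X) ∧ IsProper (W.ι ≫ f) ∧
      pullback.fst f (Spec.map (CommRingCat.ofHom (Ideal.Quotient.mk I))) ⁻¹ᵁ W = Y := by
  let i := Spec.map (CommRingCat.ofHom (Ideal.Quotient.mk I))
  let p := pullback.fst f i
  haveI : IsClosedImmersion i := IsClosedImmersion.spec_of_surjective _ Ideal.Quotient.mk_surjective
  obtain ⟨Xc, j, g, hj, _, hg, hjg⟩ := Groth.Agent.S0384.result f
  let Z : Set Xc := g ⁻¹' PrimeSpectrum.zeroLocus (I : Set A)
  have hpZ : Set.range p = f ⁻¹' PrimeSpectrum.zeroLocus (I : Set A) :=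
    Hens.ProperClopenLift.range_fst_mk I f
  have hfj : ∀ x, g (j x) = f x := fun x => by rw [← Scheme.Hom.comp_apply, hjg]
  let V : Set Xc := j '' (p '' (Y : Set _))
  have hVZ : V ⊆ Z := by
    rintro _ ⟨_, ⟨y, -, rfl⟩, rfl⟩
    show g (j (p y)) ∈ PrimeSpectrum.zeroLocus (I : Set A)
    rw [hfj]
    exact hpZ.le ⟨y, rfl⟩
  have hVc : IsClosed V := by
    haveI : IsProper ((Y.ι ≫ p ≫ j) ≫ g) := by
      have : (Y.ι ≫ p ≫ j) ≫ g = (Y.ι ≫ pullback.snd f i) ≫ i := by
        simp only [Category.assoc, hjg]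
        rw [pullback.condition]
      rw [this]
      infer_instance
    haveI : IsProper (Y.ι ≫ p ≫ j) := IsProper.of_comp (Y.ι ≫ p ≫ j) g
    have h := (Y.ι ≫ p ≫ j).isClosedMap.isClosed_range
    have he : Set.range (Y.ι ≫ p ≫ j) = V := by
      simp only [V, Scheme.Hom.comp_base, TopCat.coe_comp, Set.range_comp, Scheme.Opens.range_ι]
      exact Set.image_comp _ _ _
    rwa [he] at h
  have hVclop : IsClopen (Subtype.val ⁻¹' V : Set ↥Z) := by
    refine ⟨hVc.preimage continuous_subtype_val, ?_⟩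
    obtain ⟨O, hO, hOY⟩ := p.isClosedEmbedding.isInducing.isOpen_iff.mp Y.2
    have hV : V = j '' O ∩ Z := by
      apply subset_antisymm
      · rintro _ ⟨_, ⟨y, hy, rfl⟩, rfl⟩
        exact ⟨⟨p y, (Set.ext_iff.mp hOY y).mpr hy, rfl⟩, hVZ ⟨_, ⟨y, hy, rfl⟩, rfl⟩⟩
      · rintro _ ⟨⟨x, hx, rfl⟩, hxZ⟩
        have : f x ∈ PrimeSpectrum.zeroLocus (I : Set A) := hfj x ▸ hxZ
        obtain ⟨y, rfl⟩ := hpZ.ge this
        exact ⟨p y, ⟨y, (Set.ext_iff.mp hOY y).mp hx, rfl⟩, rfl⟩
    rw [show (Subtype.val ⁻¹' V : Set ↥Z) = Subtype.val ⁻¹' (j '' O) by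
      ext z; simp [hV, z.2]]
    exact (j.isOpenEmbedding.isOpenMap O hO).preimage continuous_subtype_val
  obtain ⟨U, ⟨hU, hUV⟩, -⟩ := Hens.ProperClopenGen.existsUnique_clopen I g hVZ hVclop
  have hUj : U ⊆ Set.range j := by
    intro x hx
    by_contra hxj
    have hB : IsClosed (U \ Set.range j) := hU.1.sdiff j.isOpenEmbedding.isOpen_range
    obtain ⟨t, ht, htmax⟩ : ∃ t ∈ g '' (U \ Set.range j), IsClosed ({t} : Set (PrimeSpectrum A)) :=
      (g.isClosedMap _ hB).exists_closed_singleton ⟨g x, x, ⟨hx, hxj⟩, rfl⟩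
    obtain ⟨y, ⟨hyU, hyj⟩, rfl⟩ := ht
    have hI : g y ∈ PrimeSpectrum.zeroLocus (I : Set A) := by
      haveI := (PrimeSpectrum.isClosed_singleton_iff_isMaximal _).mp htmax
      exact (HenselianRing.jac (R := A) (I := I)).trans (sInf_le ⟨bot_le, this⟩)
    obtain ⟨_, ⟨z, -, rfl⟩, rfl⟩ := hUV.le ⟨hyU, hI⟩
    exact hyj ⟨_, rfl⟩
  let W : X.Opens := ⟨j ⁻¹' U, hU.2.preimage j.continuous⟩
  refine ⟨W, hU.1.preimage j.continuous, ?_, ?_⟩
  · haveI : IsClosedImmersion (W.ι ≫ j) := by
      have h : IsClosed (Set.range (W.ι ≫ j)) := by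
        have : Set.range (W.ι ≫ j) = U := by
          simp only [Scheme.Hom.comp_base, TopCat.coe_comp, Set.range_comp, Scheme.Opens.range_ι]
          exact Set.image_preimage_eq_of_subset hUj
        rw [this]
        exact hU.1
      exact IsClosedImmersion.of_isPreimmersion _ h
    rw [← hjg, ← Category.assoc]
    infer_instance
  · refine TopologicalSpace.Opens.ext (Set.ext fun y => ?_)
    show j (p y) ∈ U ↔ y ∈ Y
    constructor
    · intro h
      obtain ⟨_, ⟨y', hy', rfl⟩, he⟩ := hUV.le ⟨h, (by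
        show g (j (p y)) ∈ PrimeSpectrum.zeroLocus (I : Set A)
        rw [hfj]; exact hpZ.le ⟨y, rfl⟩)⟩
      rwa [← p.isClosedEmbedding.injective (j.isOpenEmbedding.injective he)]
    · intro h
      exact (hUV.ge ⟨_, ⟨y, h, rfl⟩, rfl⟩).1

end Groth.Agent.S1366
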