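import Groth.Statements.S0784
import Mathlib
import Groth.Agent.S1366

set_option autoImplicit false
open CategoryTheory CategoryTheory.Limits AlgebraicGeometry Opposite
universe u
set_option linter.style.haveILetI false
set_option backward.isDefEq.respectTransparency false
open Desc

namespace Groth.Agent.S0784

theorem locallyQuasiFinite_of_etale {X Y : Scheme.{u}} (g : X ⟶ Y) [Etale g] : LocallyQuasiFinite g := by
  rw [HasRingHomProperty.iff_appLE (P := @LocallyQuasiFinite)]
  intro V U e
  have h : (g.appLE V.1 U.1 e).hom.Etale := HasRingHomProperty.appLE @Etale g ‹_› V U e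
  algebraize [(g.appLE V.1 U.1 e).hom]
  exact (inferInstance : Algebra.QuasiFinite Γ(Y, V) Γ(X, U))

/-- Let (A, I) be a henselian pair and g : U ⟶ Spec A quasi-compact, separated and etale such that the
base change of U to Spec(A/I) is finite over Spec(A/I). Then U is the disjoint union of an open and
closed subscheme finite over Spec A and an open and closed subscheme with no points lying over V(I). -/
theorem result (A : Type u) [CommRing A] (I : Ideal A) [HenselianRing A I]
    {U : Scheme.{u}} (g : U ⟶ Spec (CommRingCat.of A)) [QuasiCompact g] [IsSeparated g] [Etale g]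
    (hfin : IsFinite (pullback.snd g (Spec.map (CommRingCat.ofHom (Ideal.Quotient.mk I))))) :
    ∃ W : U.Opens, IsClosed (W : Set U) ∧ IsFinite (W.ι ≫ g) ∧
      ∀ u : U, u ∉ W → ¬ I ≤ (g.base u : PrimeSpectrum A).asIdeal := by
  let q := Spec.map (CommRingCat.ofHom (Ideal.Quotient.mk I))
  haveI : IsFinite (pullback.snd g q) := hfin
  haveI : IsIso ((⊤ : (pullback g q).Opens)).ι := by rw [← Scheme.topIso_hom]; infer_instance
  have hp : IsProper (((⊤ : (pullback g q).Opens)).ι ≫ pullback.snd g q) := inferInstance
  obtain ⟨W, hWc, hWp, hWY⟩ := Groth.Agent.S1366.result I g ⊤ (by simp) hp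
  haveI := hWp
  haveI := locallyQuasiFinite_of_etale (W.ι ≫ g)
  refine ⟨W, hWc, IsFinite.of_isProper_of_locallyQuasiFinite _, fun u hu hle => hu ?_⟩
  have hr : g.base u ∈ Set.range q := by
    show g.base u ∈ Set.range (PrimeSpectrum.comap (Ideal.Quotient.mk I))
    rw [range_comap_of_surjective _ _ Ideal.Quotient.mk_surjective, Ideal.mk_ker]
    exact hle
  obtain ⟨z, rfl⟩ : u ∈ Set.range (pullback.fst g q) := by
    rw [Scheme.Pullback.range_fst]
    exact hr
  have : z ∈ pullback.fst g q ⁻¹ᵁ W := by rw [hWY]; trivial
  exact this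

end Groth.Agent.S0784
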