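import Groth.Statements.S4694
import Groth.Agent.EGA4Lib.DepthFlat

set_option autoImplicit false
set_option linter.style.haveILetI false
universe u
open EGA4

namespace Groth.Agent.S4694

open TensorProduct in
/-- Let A → B be a local homomorphism of Noetherian local rings, M a finite A-module and N a nonzero
finite B-module, flat over A, whose closed-fibre module N/m_A N has finite length. Then the depth of
the B-module N ⊗_A M equals the depth of the A-module M. (The companion equality of codepths in the
published item is not restated.) -/
theorem result {A B M N : Type u} [CommRing A] [CommRing B]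
    [IsNoetherianRing A] [IsNoetherianRing B] [IsLocalRing A] [IsLocalRing B] [Algebra A B]
    [IsLocalHom (algebraMap A B)] [AddCommGroup M] [Module A M] [Module.Finite A M]
    [AddCommGroup N] [Module B N] [Module A N] [IsScalarTower A B N] [Module.Finite B N] [Nontrivial N]
    [Module.Flat A N] (hN : IsFiniteLength B (EGA4.FibMod A B N)) :
    LocCoh.depth B (N ⊗[A] M) = LocCoh.depth A M := by
  rw [EGA4Lib.depth_tensor_of_flat]
  have hfl := hN
  haveI : IsFiniteLength B (N ⧸ (IsLocalRing.maximalIdeal A).map (algebraMap A B) • (⊤ : Submodule B N)) := hN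
  obtain ⟨_, hart⟩ := isFiniteLength_iff_isNoetherian_isArtinian.1 hN
  haveI := hart
  have h0 : LocCoh.depth B
      (N ⧸ (IsLocalRing.maximalIdeal A).map (algebraMap A B) • (⊤ : Submodule B N)) = 0 := by
    have hnt : Nontrivial (N ⧸ (IsLocalRing.maximalIdeal A).map (algebraMap A B) • (⊤ : Submodule B N)) := by
      rw [Submodule.Quotient.nontrivial_iff]
      exact Depth.smul_top_ne_top_of_le_maximalIdeal
        (((IsLocalRing.local_hom_TFAE (algebraMap A B)).out 0 2).mp ‹_›)
    obtain ⟨p, hp⟩ := associatedPrimes.nonempty B
      (N ⧸ (IsLocalRing.maximalIdeal A).map (algebraMap A B) • (⊤ : Submodule B N))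
    rw [Depth.depth_eq_idealDepth, Depth.idealDepth_eq_zero_iff]
    refine ⟨p, hp, ?_⟩
    obtain ⟨hpp, z, hz⟩ := isAssociatedPrime_iff.mp hp
    -- `B/p` embeds in an Artinian module, so it is an Artinian domain, hence a field
    let i : B ⧸ p →ₗ[B] (N ⧸ (IsLocalRing.maximalIdeal A).map (algebraMap A B) • (⊤ : Submodule B N)) :=
      Submodule.liftQ p (LinearMap.toSpanSingleton B _ z) fun r hr => by
        rw [hz] at hr; simpa [Submodule.mem_colon] using hr
    have hi : Function.Injective i := by
      rw [injective_iff_map_eq_zero]
      intro a ha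
      obtain ⟨r, rfl⟩ := Submodule.Quotient.mk_surjective _ a
      refine (Submodule.Quotient.mk_eq_zero _).2 ?_
      have : r • z = 0 := ha
      rw [hz]; simpa [Submodule.mem_colon] using this
    haveI : IsArtinian B (B ⧸ p) := isArtinian_of_injective i hi
    haveI : IsArtinianRing (B ⧸ p) := isArtinian_of_tower B inferInstance
    haveI := hpp
    haveI : p.IsMaximal := Ideal.Quotient.maximal_of_isField p (IsArtinianRing.isField_of_isDomain _)
    exact (IsLocalRing.eq_maximalIdeal inferInstance).ge
  rw [h0, add_zero]

end Groth.Agent.S4694
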