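import Groth.Statements.S0785
import Groth.Agent.S4694
import Groth.Agent.Depth.Basic
import Mathlib
-- import your own Groth.Agent.* helpers here

set_option autoImplicit false
universe u
open Desc

namespace Groth.Agent.S0785

/-- Let A → B be a local homomorphism of Noetherian local rings which is etale in the sense that B is
the localization at a prime of an etale A-algebra. Then A and B have the same depth. -/
theorem result (A B : Type u) [CommRing A] [CommRing B] [IsLocalRing A] [IsLocalRing B]
    [IsNoetherianRing A] [IsNoetherianRing B] [Algebra A B] [IsLocalHom (algebraMap A B)]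
    (E : Type u) [CommRing E] [Algebra A E] [Algebra.Etale A E] (P : Ideal E) [P.IsPrime]
    [Algebra E B] [IsScalarTower A E B] [IsLocalization.AtPrime B P] :
    LocCoh.depth A A = LocCoh.depth B B := by
  haveI : Module.Flat E B := IsLocalization.flat B P.primeCompl
  haveI : Module.Flat A B := Module.Flat.trans A E B
  haveI : Algebra.FormallyUnramified E B := Algebra.FormallyUnramified.of_isLocalization P.primeCompl
  haveI : Algebra.FormallyUnramified A B := Algebra.FormallyUnramified.comp A E B
  haveI : Algebra.EssFiniteType E B := Algebra.EssFiniteType.of_isLocalization B P.primeCompl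
  haveI : Algebra.EssFiniteType A B := Algebra.EssFiniteType.comp A E B
  have hm := Algebra.FormallyUnramified.map_maximalIdeal (R := A) (S := B)
  have hfl : IsFiniteLength B (EGA4.FibMod A B B) := by
    show IsFiniteLength B (B ⧸ (IsLocalRing.maximalIdeal A).map (algebraMap A B) • (⊤ : Submodule B B))
    rw [hm, Ideal.smul_eq_mul, Ideal.mul_top]
    haveI : IsSimpleModule B (B ⧸ IsLocalRing.maximalIdeal B) :=
      isSimpleModule_iff_isCoatom.2 (IsLocalRing.maximalIdeal.isMaximal B).out
    exact isFiniteLength_iff_isNoetherian_isArtinian.2 ⟨inferInstance, inferInstance⟩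
  have h := Groth.Agent.S4694.result (A := A) (B := B) (M := A) (N := B) hfl
  refine h.symm.trans ?_
  rw [Groth.Agent.Depth.depth_eq_idealDepth, Groth.Agent.Depth.depth_eq_idealDepth]
  exact Groth.Agent.Depth.idealDepth_congr (TensorProduct.AlgebraTensorModule.rid A B B)

end Groth.Agent.S0785
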