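import Groth.Statements.S0789
import Groth.Agent.EtShriekLib.Proper

set_option autoImplicit false
universe u
open Coherent

namespace Groth.Agent.S0789

open CategoryTheory AlgebraicGeometry in
/-- Let X and Y be schemes locally of finite type over S and f : X → Y a universally closed morphism
over S. If Z ⊆ X is closed and proper over S, its image f(Z) is again closed in Y and proper over S. -/
theorem result {X Y S : Scheme.{u}} (p : X ⟶ S) (q : Y ⟶ S)
    [LocallyOfFiniteType p] [LocallyOfFiniteType q] (f : X ⟶ Y) [UniversallyClosed f] (w : f ≫ q = p)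
    (Z : Set X) (hZ : ClSub.IsProperOver p Z) : ClSub.IsProperOver q (⇑f '' Z) := by
  have := Groth.Agent.EtShriekLib.isProper_redι p hZ
  have hcl : IsClosed (⇑f '' Z) := f.isClosedMap _ hZ.1
  refine ⟨hcl, ?_⟩
  let r := Groth.Agent.EtShriekLib.redι hcl
  obtain ⟨l, hl⟩ := Groth.Agent.RedSub.exists_lift_closed r (Groth.Agent.EtShriekLib.redι hZ.1 ≫ f) (by
    rw [Groth.Agent.EtShriekLib.range_redι,
      show (⇑(Groth.Agent.EtShriekLib.redι hZ.1 ≫ f)) = ⇑f ∘ ⇑(Groth.Agent.EtShriekLib.redι hZ.1) from rfl,
      Set.range_comp, Groth.Agent.EtShriekLib.range_redι])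
  have : UniversallyClosed (l ≫ r) := by rw [hl]; infer_instance
  have : UniversallyClosed l :=
    MorphismProperty.of_postcomp (W := @UniversallyClosed) (W' := @IsSeparated) l r inferInstance inferInstance
  have : Surjective l := by
    refine ⟨fun v => ?_⟩
    obtain ⟨x, hx, e⟩ := (Groth.Agent.EtShriekLib.range_redι hcl).le ⟨v, rfl⟩
    obtain ⟨z, rfl⟩ := (Groth.Agent.EtShriekLib.range_redι hZ.1).ge hx
    refine ⟨z, r.isClosedEmbedding.injective ?_⟩
    rw [← Scheme.Hom.comp_apply, hl]
    exact e
  have : IsProper (l ≫ r ≫ q) := by rw [reassoc_of% hl, w]; infer_instance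
  exact Groth.Agent.EtShriekLib.isProper_of_comp_surjective l (r ≫ q)

end Groth.Agent.S0789
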