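import Groth.Statements.S0800
import Groth.Agent.S0855
import Groth.Agent.SiteCoh.CovColim

set_option autoImplicit false
universe u
open Coherent

namespace Groth.Agent.S0800

open CategoryTheory CategoryTheory.Limits AlgebraicGeometry in
/-- Let f : X → S be quasi-compact and quasi-separated. Then for every p the higher direct image functor
R^p f_* on abelian sheaves (on the underlying spaces) preserves filtered colimits. -/
theorem result {X S : Scheme.{u}} (f : X ⟶ S) [QuasiCompact f]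
    [QuasiSeparated f] (p : ℕ) (J : Type u) [SmallCategory J] [IsFiltered J] :
    PreservesColimitsOfShape J (Coh.RpushAb f p) := by
  have hqc : ∀ V : S.Opens, IsAffineOpen V → IsCompact ((f ⁻¹ᵁ V : X.Opens) : Set X) :=
    fun V hV => f.isCompact_preimage hV.isCompact
  have hqs : ∀ V : S.Opens, IsAffineOpen V → IsQuasiSeparated ((f ⁻¹ᵁ V : X.Opens) : Set X) := fun V hV => by
    haveI : IsAffine _ := hV
    exact (isQuasiSeparated_iff_quasiSeparatedSpace _ (f ⁻¹ᵁ V).2).2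
      (quasiSeparatedSpace_of_quasiSeparated (f ∣_ V))
  have hB : TopologicalSpace.Opens.IsBasis {V : X.Opens | IsCompact (V : Set X)} :=
    TopologicalSpace.Opens.isBasis_iff_nbhd.2 fun {U x} hx => by
      obtain ⟨W, hW, hxW, hWU⟩ := exists_isAffineOpen_mem_and_subset (X := X) hx
      exact ⟨W, hW.isCompact, hxW, hWU⟩
  refine ⟨fun {F} => Groth.Agent.S0855.result f.base F p ?_⟩
  refine TopologicalSpace.Opens.isBasis_iff_nbhd.2 fun {U y} hy => ?_
  obtain ⟨V, hV, hyV, hVU⟩ := exists_isAffineOpen_mem_and_subset (X := S) hy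
  refine ⟨V, ?_, hyV, hVU⟩
  refine Groth.Agent.SiteCoh.CovColim.preservesColimit (J := Opens.grothendieckTopology X)
    {W : X.Opens | IsCompact (W : Set X) ∧ W ≤ f ⁻¹ᵁ V}
    (fun W κ Y => Finite κ ∧ (IsCompact (W : Set X) ∧ W ≤ f ⁻¹ᵁ V) ∧
      (∀ i, IsCompact ((Y i).left : Set X)) ∧
      Sieve.ofArrows (fun i => (Y i).left) (fun i => (Y i).hom) ∈ Opens.grothendieckTopology X W)
    (fun W κ Y hY => ⟨hY.1, hY.2.1, hY.2.2.2, fun n a => ?_⟩) (fun W hW T hT => ?_)
    (U := f ⁻¹ᵁ V) ⟨hqc V hV, le_rfl⟩ p F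
  · have hsub : ∀ k, (Y (a k)).left ≤ f ⁻¹ᵁ V := fun k => (leOfHom (Y (a k)).hom).trans hY.2.1.2
    let M : X.Opens := Finset.univ.inf' Finset.univ_nonempty fun k => (Y (a k)).left
    have hM : IsCompact (M : Set X) ∧ M ≤ f ⁻¹ᵁ V :=
      Finset.inf'_induction (p := fun W : X.Opens => IsCompact (W : Set X) ∧ W ≤ f ⁻¹ᵁ V)
        Finset.univ_nonempty _
        (fun s hs t ht => ⟨by
          change IsCompact ((s : Set X) ∩ (t : Set X))
          exact hqs V hV _ _ hs.2 s.2 hs.1 ht.2 t.2 ht.1, inf_le_left.trans hs.2⟩)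
        (fun k _ => ⟨hY.2.2.1 _, hsub k⟩)
    have hle : ∀ k, M ≤ (Y (a k)).left := fun k => Finset.inf'_le _ (Finset.mem_univ k)
    have e : (∏ᶜ fun k => Y (a k)).left = M := le_antisymm
      (Finset.le_inf' _ _ fun k _ => leOfHom (Pi.π (fun k => Y (a k)) k).left)
      (leOfHom (Pi.lift (P := Over.mk (homOfLE ((hle 0).trans (leOfHom (Y (a 0)).hom))))
        (f := fun k => Y (a k)) fun k => Over.homMk (homOfLE (hle k))).left)
    exact e ▸ hM
  · choose W' g hg hxW using fun x : {x : X // x ∈ W} => hT x x.2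
    choose Z hZc hxZ hZW using fun x : {x : X // x ∈ W} =>
      TopologicalSpace.Opens.isBasis_iff_nbhd.1 hB (hxW x)
    obtain ⟨t, ht⟩ := hW.1.elim_finite_subcover (fun x => (Z x : Set X)) (fun x => (Z x).2)
      fun x hx => Set.mem_iUnion.2 ⟨⟨x, hx⟩, hxZ _⟩
    refine ⟨t, fun x => Over.mk (homOfLE (hZW x.1) ≫ g x.1),
      ⟨inferInstance, hW, fun x => hZc _, fun y hy => ?_⟩, fun x => T.downward_closed (hg _) _⟩
    obtain ⟨x, hx, hy⟩ := Set.mem_iUnion₂.1 (ht hy)
    exact ⟨Z x, homOfLE (hZW x) ≫ g x, Sieve.ofArrows_mk (fun i : t => Z i.1) _ ⟨x, hx⟩, hy⟩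

end Groth.Agent.S0800
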