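import Groth.Statements.S0810
import Groth.Agent.ParaFormal.CI
-- import your own Groth.Agent.* helpers here

set_option autoImplicit false
universe u
open Formal2

namespace Groth.Agent.S0810

open CategoryTheory AlgebraicGeometry in
/-- Let A be a Noetherian local ring which is a complete intersection (its completion is a regular local
ring modulo a regular sequence) of dimension at least 4. Then every invertible module on the
punctured spectrum of A is trivial. -/
theorem result (A : Type u) [CommRing A] [IsNoetherianRing A]
    [IsLocalRing A] (hci : Pi1.IsCompleteIntersection A) (hdim : (4 : WithBot ℕ∞) ≤ ringKrullDim A) :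
    Formal2.PicTrivial (↑(FEt.puncturedSpec A) : Scheme.{u}) := by
  obtain ⟨B, _, _, rs, hmem, hreg, ⟨e⟩⟩ := hci
  let S := AdicCompletion (IsLocalRing.maximalIdeal A) A
  haveI : IsNoetherianRing S := Groth.Agent.RegLoc.Completion.isNoetherianRing_adicCompletion' _
  have hS : ParaF.IsParafactorialLocalRing S := by
    refine Groth.Agent.ParaFormal.CI.parafactorial rs.length
      (e.symm.toRingHom.comp (Ideal.Quotient.mk (Ideal.span {r | r ∈ rs}))) rs
      ⟨e.symm.surjective.comp Ideal.Quotient.mk_surjective, rfl, hmem, hreg.toIsWeaklyRegular, ?_⟩ ?_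
    · ext x
      simp [RingHom.mem_ker, Ideal.Quotient.eq_zero_iff_mem, Ideal.ofList]
    · rw [Groth.Agent.RegLoc.Completion.ringKrullDim_completion]
      exact hdim
  have hmap : (IsLocalRing.maximalIdeal A).map (algebraMap A S) = IsLocalRing.maximalIdeal S :=
    AdicCompletion.maximalIdeal_eq_map.symm
  haveI : IsLocalHom (algebraMap A S) := ((IsLocalRing.local_hom_TFAE (algebraMap A S)).out 2 0).mp hmap.le
  have hfib : ringKrullDim (S ⧸ (IsLocalRing.maximalIdeal A).map (algebraMap A S)) = 0 := by
    rw [hmap]
    letI := Ideal.Quotient.field (IsLocalRing.maximalIdeal S)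
    exact ringKrullDim_eq_zero_of_field _
  intro L hL
  exact (Groth.Agent.ParaFLib.parafactorial_iff.1 (Groth.Agent.S2865.result A S hfib hS)).2 L hL

end Groth.Agent.S0810
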