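import Groth.Statements.S0811
import Groth.Agent.ParaFormal.Surjective
import Groth.Agent.ParaFormal.LocCohBridge

set_option autoImplicit false
universe u
open Formal2

namespace Groth.Agent.S0811

set_option backward.isDefEq.respectTransparency.types false
set_option maxHeartbeats 800000

open CategoryTheory AlgebraicGeometry in
/-- Let (A, 𝔪) be a Noetherian local ring and f ∈ 𝔪 a nonzerodivisor such that A is f-adically complete,
the local cohomology modules H^i_𝔪(A/fA) for i = 1, 2 are finitely generated over A, and H^3_𝔪(A/fA)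
vanishes. Let U be the punctured spectrum of A and U₀ = U ∩ Spec(A/fA). Then every invertible
O_{U₀}-module is isomorphic to the pullback of an invertible module defined on some open U' ⊆ U
containing U₀. -/
theorem result (A : Type u) [CommRing A] [IsNoetherianRing A]
    [IsLocalRing A] (f : A) (hf : f ∈ IsLocalRing.maximalIdeal A) [IsAdicComplete (Ideal.span {f}) A]
    (hnzd : f ∈ nonZeroDivisors A)
    (h₁ : Module.Finite A (LocCoh.H (IsLocalRing.maximalIdeal A) 1 (A ⧸ Ideal.span {f})))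
    (h₂ : Module.Finite A (LocCoh.H (IsLocalRing.maximalIdeal A) 2 (A ⧸ Ideal.span {f})))
    (h₃ : Subsingleton (LocCoh.H (IsLocalRing.maximalIdeal A) 3 (A ⧸ Ideal.span {f})))
    (L₀ : (↑(Formal2.specQuotMap A f ⁻¹ᵁ FEt.puncturedSpec A) : Scheme.{u}).Modules)
    (hL₀ : PicF.IsInvertible L₀) :
    ∃ (U' : (Spec (CommRingCat.of A)).Opens) (_ : U' ≤ FEt.puncturedSpec A)
      (h : Formal2.specQuotMap A f ⁻¹ᵁ FEt.puncturedSpec A ≤ Formal2.specQuotMap A f ⁻¹ᵁ U')
      (L : (↑U' : Scheme.{u}).Modules), PicF.IsInvertible L ∧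
        Nonempty ((Scheme.Modules.pullback ((Formal2.specQuotMap A f).resLE U' _ h)).obj L ≅ L₀) := by
  let J : Ideal A := Ideal.span {f}
  haveI : Nontrivial (A ⧸ J) := Ideal.Quotient.nontrivial_iff.2 fun h =>
    (IsLocalRing.maximalIdeal.isMaximal A).ne_top (top_le_iff.1 (h ▸ (Ideal.span_singleton_le_iff_mem _).2 hf))
  haveI : IsLocalRing (A ⧸ J) := IsLocalRing.of_surjective' (Ideal.Quotient.mk J) Ideal.Quotient.mk_surjective
  have hreg : IsSMulRegular A f := fun a b h => (mul_cancel_left_mem_nonZeroDivisors hnzd).1 h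
  let q := Formal2.specQuotMap A f
  let P := q ⁻¹ᵁ FEt.puncturedSpec A
  have hP : P = FEt.puncturedSpec (A ⧸ J) :=
    Groth.Agent.ParaFormal.preimage_punctured _ Ideal.Quotient.mk_surjective
  obtain ⟨M', hM', ⟨ε⟩⟩ : ∃ M' : (Spec (CommRingCat.of (A ⧸ J))).Modules,
      PicF.IsInvertible (M'.restrict P.ι) ∧ Nonempty (M'.restrict P.ι ≅ L₀) :=
    ⟨_, Groth.Agent.PicCl.isInvertible_of_iso (Groth.Agent.ParaFLib.restrictPushforwardIso P.ι L₀).symm hL₀,
      ⟨Groth.Agent.ParaFLib.restrictPushforwardIso P.ι L₀⟩⟩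
  have key : ∀ Q : (Spec (CommRingCat.of (A ⧸ J))).Opens, Q = FEt.puncturedSpec (A ⧸ J) →
      PicF.IsInvertible (M'.restrict Q.ι) →
      ∃ V : (Spec (CommRingCat.of A)).Opens, V ≤ FEt.puncturedSpec A ∧
        ∃ M : (Spec (CommRingCat.of A)).Modules, PicF.IsInvertible (M.restrict V.ι) ∧ Q ≤ q ⁻¹ᵁ V ∧
          Nonempty (((Scheme.Modules.pullback q).obj M).restrict Q.ι ≅ M'.restrict Q.ι) := by
    rintro Q rfl hQ
    obtain ⟨V, hVU, -, h⟩ := Groth.Agent.ParaFormal.exists_lift_module_nbhd f hreg (fun g hg hg' =>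
      Groth.Agent.ParaFormal.LocCohBridge.cech_hypotheses f g (IsLocalRing.maximalIdeal A)
        (le_antisymm ((Ideal.radical_mono hg').trans (Ideal.radical_idem _).le)
          (Ideal.radical_mono (Ideal.span_le.2 (Set.range_subset_iff.2 hg)))) h₁ h₂ h₃) M' hQ
    exact ⟨V, hVU, h⟩
  obtain ⟨V, hVU, M, hM, hPV, ⟨φ⟩⟩ := key P hP hM'
  exact ⟨V, hVU, hPV, M.restrict V.ι, hM, ⟨(Groth.Agent.ParaFormal.pullbackRestrictIso q V P hPV M).symm ≪≫ φ ≪≫ ε⟩⟩

end Groth.Agent.S0811
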