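import Groth.Statements.S0812
import Groth.Agent.ParaFormal.Extend
import Groth.Agent.ParaFormal.LocCohBridge

set_option autoImplicit false
universe u
open Formal2

namespace Groth.Agent.S0812

set_option backward.isDefEq.respectTransparency.types false
set_option maxHeartbeats 800000

open CategoryTheory AlgebraicGeometry in
/-- Let (A, 𝔪) be a Noetherian local ring and f ∈ 𝔪 a nonzerodivisor such that A is f-adically complete,
the local cohomology modules H^i_𝔪(A/fA) for i = 1, 2 are finitely generated over A, and H^3_𝔪(A/fA)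
vanishes. Assume moreover that for every prime 𝔮 not containing f and maximal with this property,
the punctured spectrum of A_𝔮 has trivial Picard group. Then every invertible module on the
punctured spectrum of A/fA is the pullback of an invertible module on the punctured spectrum of A. -/
theorem result (A : Type u) [CommRing A] [IsNoetherianRing A] [IsLocalRing A]
    (f : A) (hf : f ∈ IsLocalRing.maximalIdeal A) [IsAdicComplete (Ideal.span {f}) A]
    (hnzd : f ∈ nonZeroDivisors A)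
    (h₁ : Module.Finite A (LocCoh.H (IsLocalRing.maximalIdeal A) 1 (A ⧸ Ideal.span {f})))
    (h₂ : Module.Finite A (LocCoh.H (IsLocalRing.maximalIdeal A) 2 (A ⧸ Ideal.span {f})))
    (h₃ : Subsingleton (LocCoh.H (IsLocalRing.maximalIdeal A) 3 (A ⧸ Ideal.span {f})))
    (h₅ : ∀ (q : Ideal A) [q.IsPrime], f ∉ q → (∀ (q' : Ideal A), q'.IsPrime → q ≤ q' → f ∉ q' → q' = q) →
      Formal2.PicTrivial (↑(FEt.puncturedSpec (Localization.AtPrime q)) : Scheme.{u})) :
    Formal2.PicPullbackSurjective (Formal2.specQuotMap A f ∣_ FEt.puncturedSpec A) := by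
  intro L₀ hL₀
  let J : Ideal A := Ideal.span {f}
  haveI : Nontrivial (A ⧸ J) := Ideal.Quotient.nontrivial_iff.2 fun h =>
    (IsLocalRing.maximalIdeal.isMaximal A).ne_top (top_le_iff.1 (h ▸ (Ideal.span_singleton_le_iff_mem _).2 hf))
  haveI : IsLocalRing (A ⧸ J) := IsLocalRing.of_surjective' (Ideal.Quotient.mk J) Ideal.Quotient.mk_surjective
  have hreg : IsSMulRegular A f := fun a b h => (mul_cancel_left_mem_nonZeroDivisors hnzd).1 h
  let q := Formal2.specQuotMap A f
  let U := FEt.puncturedSpec A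
  let P := q ⁻¹ᵁ U
  have hP : P = FEt.puncturedSpec (A ⧸ J) :=
    Groth.Agent.ParaFormal.preimage_punctured _ Ideal.Quotient.mk_surjective
  obtain ⟨M', hM', ⟨ε⟩⟩ : ∃ M' : (Spec (CommRingCat.of (A ⧸ J))).Modules,
      PicF.IsInvertible (M'.restrict P.ι) ∧ Nonempty (M'.restrict P.ι ≅ L₀) :=
    ⟨_, Groth.Agent.PicCl.isInvertible_of_iso (Groth.Agent.ParaFLib.restrictPushforwardIso P.ι L₀).symm hL₀,
      ⟨Groth.Agent.ParaFLib.restrictPushforwardIso P.ι L₀⟩⟩
  have key : ∀ Q : (Spec (CommRingCat.of (A ⧸ J))).Opens, Q = FEt.puncturedSpec (A ⧸ J) →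
      PicF.IsInvertible (M'.restrict Q.ι) →
      ∃ M : (Spec (CommRingCat.of A)).Modules, PicF.IsInvertible (M.restrict U.ι) ∧
        Nonempty (((Scheme.Modules.pullback q).obj M).restrict Q.ι ≅ M'.restrict Q.ι) := by
    rintro Q rfl hQ
    obtain ⟨V, hVU, hmax, M₀, hM₀, hPV, ⟨ψ⟩⟩ := Groth.Agent.ParaFormal.exists_lift_module_nbhd f hreg (fun g hg hg' =>
      Groth.Agent.ParaFormal.LocCohBridge.cech_hypotheses f g (IsLocalRing.maximalIdeal A)
        (le_antisymm ((Ideal.radical_mono hg').trans (Ideal.radical_idem _).le)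
          (Ideal.radical_mono (Ideal.span_le.2 (Set.range_subset_iff.2 hg)))) h₁ h₂ h₃) M' hQ
    have hst : ∀ p : PrimeSpectrum A, p ∈ U → p ∉ V →
        ParaF.PicTrivial (FEt.puncturedSpec (Localization.AtPrime p.asIdeal) : Scheme.{u}) := by
      intro p hpU hpV
      have hfp : f ∉ p.asIdeal := fun h => hpU (PrimeSpectrum.ext (hmax p hpV h))
      have habove : ∀ r : PrimeSpectrum A, p.asIdeal ≤ r.asIdeal → r ∉ V := fun r hr hrV =>
        hpV (((PrimeSpectrum.le_iff_specializes p r).1 hr).mem_open V.2 hrV)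
      have hdim : ringKrullDim (A ⧸ p.asIdeal) = 1 :=
        Groth.Agent.ParaFormal.dim_quotient_eq_one _ hf hfp fun r hr hpr hfr =>
          hmax ⟨r, hr⟩ (habove ⟨r, hr⟩ hpr) hfr
      refine h₅ p.asIdeal hfp fun r hr hpr hfr => le_antisymm ?_ hpr
      exact Groth.Agent.ParaFormal.Extend.le_of_dim_quotient_eq_one hdim hr hpr fun e => hfr (e ▸ hf)
    obtain ⟨M, hM, ⟨φ⟩⟩ := Groth.Agent.ParaFormal.Extend.exists_extension_picTrivial hVU hst M₀ hM₀
    exact ⟨M, hM, ⟨Groth.Agent.ParaFormal.pullbackRestrictIso q V _ hPV M ≪≫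
      (Scheme.Modules.pullback (q.resLE V _ hPV)).mapIso φ ≪≫
      (Groth.Agent.ParaFormal.pullbackRestrictIso q V _ hPV M₀).symm ≪≫ ψ⟩⟩
  obtain ⟨M, hM, ⟨φ⟩⟩ := key P hP hM'
  exact ⟨M.restrict U.ι, hM,
    ⟨(Scheme.Modules.pullbackCongr (q.resLE_eq_morphismRestrict (U := U)).symm).app (M.restrict U.ι) ≪≫
      (Groth.Agent.ParaFormal.pullbackRestrictIso q U P le_rfl M).symm ≪≫ φ ≪≫ ε⟩⟩

end Groth.Agent.S0812
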