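import Groth.Statements.S0813
import Groth.Agent.ParaFormal.Descent
import Groth.Agent.RegLoc.Completion
-- import your own Groth.Agent.* helpers here

set_option autoImplicit false
universe u
open Formal2

namespace Groth.Agent.S0813

open CategoryTheory AlgebraicGeometry in
/-- Let (A, 𝔪) be a Noetherian local ring of depth at least 2, A^ its 𝔪-adic completion, U the punctured
spectrum of A and U^ its preimage in Spec A^ (the punctured spectrum of A^). Then an invertible
O_U-module whose pullback to U^ is trivial is trivial. -/
theorem result (A : Type u) [CommRing A] [IsNoetherianRing A]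
    [IsLocalRing A] (hdepth : (2 : ℕ∞) ≤ LocCoh.depth A A) :
    Formal2.PicPullbackInjective
      (Spec.map (CommRingCat.ofHom (algebraMap A (AdicCompletion (IsLocalRing.maximalIdeal A) A))) ∣_
        FEt.puncturedSpec A) := by
  haveI : IsNoetherianRing (AdicCompletion (IsLocalRing.maximalIdeal A) A) :=
    Groth.Agent.RegLoc.Completion.isNoetherianRing_adicCompletion' _
  have hm : (IsLocalRing.maximalIdeal A).map (algebraMap A (AdicCompletion (IsLocalRing.maximalIdeal A) A)) =
      IsLocalRing.maximalIdeal (AdicCompletion (IsLocalRing.maximalIdeal A) A) :=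
    AdicCompletion.maximalIdeal_eq_map.symm
  haveI : IsLocalHom (algebraMap A (AdicCompletion (IsLocalRing.maximalIdeal A) A)) :=
    ((IsLocalRing.local_hom_TFAE _).out 2 0).mp hm.le
  intro L hL h
  exact Groth.Agent.ParaFormal.nonempty_iso_of_flat hm hdepth L hL h

end Groth.Agent.S0813
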