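import Groth.Statements.S0816
import Groth.Agent.CohDev.Loc
import Groth.Agent.AssSch.Basic
import Groth.Agent.KFlat.FlatPull
import Groth.Agent.LimTop.SubExtGen
-- import your own Groth.Agent.* helpers here

set_option autoImplicit false
universe u
open Coherent

namespace Groth.Agent.S0816

open CategoryTheory CategoryTheory.Limits AlgebraicGeometry Opposite TopologicalSpace
open Groth.Agent.CohDev Groth.Agent.PullStalk.Sky Groth.Agent.PullStalk.Exact
open Groth.Agent.Props.SubSheaf Groth.Agent.Props.SubMod Groth.Agent.AssSch.Stalk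

variable {X : Scheme.{u}}

lemma spec_germ (M : X.Modules) {V : X.Opens} {z y : X} (h : z ⤳ y) (hy : y ∈ V) (m : Γ(M, V)) :
    M.presheaf.stalkSpecializes h (germM M V y hy m) = germM M V z (h.mem_open V.2 hy) m :=
  TopCat.Presheaf.germ_stalkSpecializes_apply M.presheaf hy h m

lemma spec_smul (M : X.Modules) {z y : X} (h : z ⤳ y) (c : X.presheaf.stalk y)
    (t : M.presheaf.stalk y) :
    M.presheaf.stalkSpecializes h (c • t) =
      X.presheaf.stalkSpecializes h c • M.presheaf.stalkSpecializes h t := by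
  obtain ⟨W₁, hW₁, a, rfl⟩ := X.presheaf.exists_germ_eq c
  obtain ⟨W₂, hW₂, m, rfl⟩ := exists_germM_eq M y t
  let W : X.Opens := W₁ ⊓ W₂
  have hW : y ∈ W := ⟨hW₁, hW₂⟩
  rw [← X.presheaf.germ_res_apply (homOfLE (inf_le_left : W ≤ W₁)) y hW a,
    show germM M W₂ y hW₂ m = germM M W y hW (QCoh.res M inf_le_right m) from
      (M.presheaf.germ_res_apply (homOfLE (inf_le_right : W ≤ W₂)) y hW m).symm,
    ← germM_smul, spec_germ, spec_germ, germM_smul,
    TopCat.Presheaf.germ_stalkSpecializes_apply]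

variable {M : X.Modules} (A : Set X) (N : ∀ z : X, Submodule (X.presheaf.stalk z) (M.presheaf.stalk z))

/-- Stalk elements satisfying the conditions at the generalizations in `A`. -/
def condFam : StalkSub M := fun y =>
  { carrier := {t | ∀ z ∈ A, ∀ h : z ⤳ y, M.presheaf.stalkSpecializes h t ∈ N z}
    zero_mem' := fun z _ h => by rw [map_zero]; exact zero_mem _
    add_mem' := fun hs ht z hz h => by rw [map_add]; exact add_mem (hs z hz h) (ht z hz h)
    smul_mem' := fun c t ht z hz h => by rw [spec_smul]; exact Submodule.smul_mem _ _ (ht z hz h) }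

/-- Sections satisfying the conditions. -/
def condSec (V : X.affineOpens) : Submodule Γ(X, V.1) Γ(M, V.1) where
  carrier := {m | ∀ z ∈ A, ∀ hz : z ∈ V.1, germM M V.1 z hz m ∈ N z}
  zero_mem' := fun z _ hz => by rw [germM_zero]; exact zero_mem _
  add_mem' := fun hs ht z hz h => by rw [germM_add]; exact add_mem (hs z hz h) (ht z hz h)
  smul_mem' := fun c t ht z hz h => by rw [germM_smul]; exact Submodule.smul_mem _ _ (ht z hz h)

variable {A N}

lemma germ_mem_condFam {V : X.affineOpens} {m : Γ(M, V.1)} (hm : m ∈ condSec A N V) {y : X}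
    (hy : y ∈ V.1) : germM M V.1 y hy m ∈ condFam A N y := fun z hz h => by
  rw [spec_germ]; exact hm z hz _

lemma exists_smul_mem_condSec (hN : ∀ z ∈ A, ∃ n : ℕ, IsLocalRing.maximalIdeal (X.presheaf.stalk z) ^ n • (⊤ : Submodule _ (M.presheaf.stalk z)) ≤ N z)
    {V : X.affineOpens} (hA : (A ∩ V.1).Finite) {m : Γ(M, V.1)} {y : X}
    (hy : y ∈ V.1) (hm : germM M V.1 y hy m ∈ condFam A N y) :
    ∃ g : Γ(X, V.1), IsUnit (X.presheaf.germ V.1 y hy g) ∧ g • m ∈ condSec A N V := by
  classical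
  have h : ∀ z ∈ hA.toFinset, ∃ a : Γ(X, V.1), IsUnit (X.presheaf.germ V.1 y hy a) ∧
      ∀ hz : z ∈ V.1, germM M V.1 z hz (a • m) ∈ N z := fun z hz => by
    obtain ⟨hzA, hzV⟩ := hA.mem_toFinset.mp hz
    by_cases hs : z ⤳ y
    · refine ⟨1, by rw [map_one]; exact isUnit_one, fun hz' => ?_⟩
      rw [one_smul]
      have := hm z hzA hs
      rwa [spec_germ] at this
    · obtain ⟨a, haz, hay⟩ := SetLike.not_le_iff_exists.mp
        (fun hle => hs ((AssSch.Basic.primeOf_le_iff V.2 z y hzV hy).mp hle))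
      obtain ⟨n, hn⟩ := hN z hzA
      refine ⟨a ^ n, by rw [map_pow]; exact ((isUnit_germ_iff V.2 y hy a).mpr hay).pow n, fun hz' => hn ?_⟩
      rw [germM_smul, map_pow]
      refine Submodule.smul_mem_smul (Ideal.pow_mem_pow ?_ n) Submodule.mem_top
      exact (IsLocalRing.mem_maximalIdeal _).mpr fun hu => (isUnit_germ_iff V.2 z hzV a).mp hu haz
  choose a ha ha' using h
  refine ⟨∏ z : hA.toFinset, a z.1 z.2, ?_, fun z hz hzV => ?_⟩
  · rw [map_prod]; exact IsUnit.prod_univ_iff.mpr fun z => ha z.1 z.2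
  · have hzF : z ∈ hA.toFinset := hA.mem_toFinset.mpr ⟨hz, hzV⟩
    obtain ⟨d, hd⟩ := Finset.dvd_prod_of_mem (fun z : hA.toFinset => a z.1 z.2) (Finset.mem_univ ⟨z, hzF⟩)
    rw [hd, mul_comm, mul_smul, germM_smul]
    exact Submodule.smul_mem _ _ (ha' z hzF hzV)

variable [IsLocallyNoetherian X]

lemma ftOn_condFam (hM : Coh.IsCoh M) (hA : ∀ V : X.affineOpens, (A ∩ V.1).Finite)
    (hN : ∀ z ∈ A, ∃ n : ℕ, IsLocalRing.maximalIdeal (X.presheaf.stalk z) ^ n • (⊤ : Submodule _ (M.presheaf.stalk z)) ≤ N z) :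
    FTOn (condFam A N) ⊤ := by
  haveI : M.IsQuasicoherent := hM.1
  intro x _
  obtain ⟨V, hV, hxV, -⟩ := exists_isAffineOpen_mem_and_subset (X := X) (Opens.mem_top x)
  have := IsLocallyNoetherian.component_noetherian ⟨V, hV⟩
  have := finite_sections hM hV
  obtain ⟨T, hT⟩ := IsNoetherian.noetherian (condSec A N ⟨V, hV⟩)
  refine ⟨V, hV, hxV, le_top, T, fun y hy => le_antisymm (fun t ht => ?_) (Submodule.span_le.mpr ?_)⟩
  · obtain ⟨g, m, hg, hgt⟩ := exists_germ_smul_eq M hV y hy t
    have hm : germM M V y hy m ∈ condFam A N y := hgt ▸ Submodule.smul_mem _ _ ht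
    obtain ⟨g', hg', hm'⟩ := exists_smul_mem_condSec hN (V := ⟨V, hV⟩) (hA _) hy hm
    rw [← hT] at hm'
    have h1 := germ_mem_spanGerm_of_mem_span hm' y hy
    rw [germM_smul] at h1
    change X.presheaf.germ V y hy g' • germM M V y hy m ∈ _ at h1
    rw [← hgt, smul_smul] at h1
    exact (Submodule.smul_mem_iff_of_isUnit _ (hg'.mul ((isUnit_germ_iff hV y hy g).mpr hg))).mp h1
  · rintro _ ⟨m, hm, rfl⟩
    exact germ_mem_condFam (V := ⟨V, hV⟩) (hT ▸ Submodule.subset_span hm) hy

/-- A submodule supported off `U` is missed by some coherent submodule which is everything on `U`. -/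
theorem exists_complement {P K : X.Modules} (hP : Coh.IsCoh P) (ι : K ⟶ P) [Mono ι] (hK : Coh.IsQCoh K)
    (U : X.Opens) (hKU : ∀ y ∈ U, y ∉ CohB1.support K) :
    ∃ (C : X.Modules) (c : C ⟶ P), Mono c ∧ Coh.IsCoh C ∧
      IsIso ((Scheme.Modules.restrictFunctor U.ι).map c) ∧
      ∀ (y : X) (t : K.presheaf.stalk y), stalkLin ι y t ∈ Set.range (stalkLin c y) → t = 0 := by
  classical
  haveI : P.IsQuasicoherent := hP.1
  haveI : K.IsQuasicoherent := hK
  have hKc : Coh.IsCoh K := isCoh_of_mono ι hK hP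
  let A : Set X := _root_.AssSch.Ass K
  have hAU : ∀ z ∈ A, z ∉ U := fun z hz hzU =>
    hKU z hzU (not_subsingleton_iff_nontrivial.mpr (AssSch.Basic.nontrivial_of_mem_ass K hz))
  have hA : ∀ V : X.affineOpens, (A ∩ V.1).Finite := fun V => by
    have := IsLocallyNoetherian.component_noetherian V
    have := finite_sections hKc V.2
    let f : X → Ideal Γ(X, V.1) := fun z => if hz : z ∈ V.1 then primeOf V.2 z hz else ⊥
    refine Set.Finite.of_finite_image ((associatedPrimes.finite Γ(X, V.1) Γ(K, V.1)).subset ?_)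
      (f := f) fun a ha b hb hab => ?_
    · rintro _ ⟨z, ⟨hz, hzV⟩, rfl⟩
      rw [show f z = primeOf V.2 z hzV from dif_pos hzV]
      exact (mem_ass_iff K V.2 z hzV).mp hz
    · rw [show f a = primeOf V.2 a ha.2 from dif_pos ha.2, show f b = primeOf V.2 b hb.2 from dif_pos hb.2] at hab
      exact AssSch.Basic.eq_of_primeOf_eq V.2 ha.2 hb.2 hab
  have hN : ∀ z : X, ∃ n : ℕ, ∀ t : K.presheaf.stalk z,
      (∀ r ∈ IsLocalRing.maximalIdeal (X.presheaf.stalk z), r • t = 0) →
      stalkLin ι z t ∈ IsLocalRing.maximalIdeal (X.presheaf.stalk z) ^ n • (⊤ : Submodule _ (P.presheaf.stalk z)) →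
      t = 0 := fun z => by
    haveI := FDesc.QuasiFlat.finite_stalk_of_isCoh P hP z
    let m := IsLocalRing.maximalIdeal (X.presheaf.stalk z)
    let S : Submodule (X.presheaf.stalk z) (P.presheaf.stalk z) :=
      { carrier := {p | ∀ r ∈ m, r • p = 0}
        zero_mem' := fun _ _ => smul_zero _
        add_mem' := fun hs ht r hr => by rw [smul_add, hs r hr, ht r hr, add_zero]
        smul_mem' := fun c t ht r hr => by rw [smul_comm, ht r hr, smul_zero] }
    obtain ⟨k, hk⟩ := m.exists_pow_inf_eq_pow_smul S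
    refine ⟨k + 1, fun t ht hmem => stalk_injective ι z ?_⟩
    have hS : stalkLin ι z t ∈ S := fun r hr => by rw [← map_smul, ht r hr, map_zero]
    have h1 : stalkLin ι z t ∈ m ^ (k + 1) • (⊤ : Submodule _ (P.presheaf.stalk z)) ⊓ S := ⟨hmem, hS⟩
    rw [hk (k + 1) (Nat.le_succ k), show k + 1 - k = 1 by omega, pow_one] at h1
    have hbot : m • ((m ^ k • (⊤ : Submodule _ (P.presheaf.stalk z))) ⊓ S) ≤ ⊥ :=
      Submodule.smul_le.mpr fun r hr p hp => (Submodule.mem_bot _).mpr (hp.2 r hr)
    rw [map_zero]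
    exact (Submodule.mem_bot _).mp (hbot h1)
  choose n hn using hN
  let N : ∀ z : X, Submodule (X.presheaf.stalk z) (P.presheaf.stalk z) := fun z =>
    IsLocalRing.maximalIdeal (X.presheaf.stalk z) ^ n z • ⊤
  have hft := ftOn_condFam (N := N) hP hA fun z _ => ⟨n z, le_rfl⟩
  refine ⟨sub (condFam A N), incl (condFam A N), inferInstance,
    ⟨isQuasicoherent_sub hft, isFiniteType_sub hft⟩,
    isIso_restrict_incl fun y hy => eq_top_iff.mpr fun t _ z hz h => absurd (h.mem_open U.2 hy) (hAU z hz), ?_⟩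
  rintro y t ⟨c, hc⟩
  have hmem : stalkLin ι y t ∈ condFam A N y := by
    rw [← hc]
    obtain ⟨W, hyW, w, rfl⟩ := exists_germM_eq _ y c
    rw [stalkLin_germ]
    exact (mem_range_incl _ _).mp ⟨w, rfl⟩ y hyW
  obtain ⟨V, hV, hyV⟩ := AssSch.Basic.exists_affine y
  obtain ⟨g, s, hg, hgs⟩ := exists_germ_smul_eq K hV y hyV t
  have hs : germM P V y hyV (ι.app V s) ∈ condFam A N y := by
    rw [← stalkLin_germ, ← hgs, map_smul]
    exact Submodule.smul_mem _ _ hmem
  obtain ⟨g', hg', hs'⟩ := exists_smul_mem_condSec (fun z _ => ⟨n z, le_rfl⟩) (V := ⟨V, hV⟩) (hA _) hyV hs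
  let L : Submodule Γ(X, V) Γ(K, V) := (condSec A N ⟨V, hV⟩).comap (appLin ι V)
  suffices hL : L = ⊥ by
    have h0 : g' • s = 0 := by
      rw [← Submodule.mem_bot Γ(X, V), ← hL]
      change ι.app V (g' • s) ∈ condSec A N ⟨V, hV⟩
      rwa [Scheme.Modules.Hom.app_smul]
    have h1 := congrArg (germM K V y hyV) h0
    rw [germM_smul, germM_zero, hg'.smul_eq_zero, ← hgs] at h1
    exact ((isUnit_germ_iff hV y hyV g).mpr hg).smul_eq_zero.mp h1
  by_contra hL
  haveI : Nontrivial L := Submodule.nontrivial_iff_ne_bot.mpr hL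
  have := IsLocallyNoetherian.component_noetherian ⟨V, hV⟩
  obtain ⟨p, hp⟩ := associatedPrimes.nonempty Γ(X, V) L
  obtain ⟨hpr, l, hl⟩ := Submodule.isAssociatedPrime_iff.mp hp
  obtain ⟨z, hz, hzp⟩ := AssSch.Basic.exists_point hV p
  have hann : ∀ a : Γ(X, V), a ∈ p ↔ a • (l : Γ(K, V)) = 0 := fun a => by
    rw [hl, Submodule.mem_colon_singleton, Submodule.mem_bot, Subtype.ext_iff]
    rfl
  have hne : germM K V z hz (l : Γ(K, V)) ≠ 0 := fun h0 => by
    obtain ⟨a, ha, hal⟩ := (germM_eq_zero_iff K hV z hz _).mp h0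
    exact ha (hzp ▸ (hann a).mpr hal)
  have hkill : ∀ r ∈ IsLocalRing.maximalIdeal (X.presheaf.stalk z), r • germM K V z hz (l : Γ(K, V)) = 0 :=
    fun r hr => smul_eq_zero_of_prime hV hz (fun a ha => by
      rw [← germM_smul, (hann a).mp (hzp ▸ ha), germM_zero]) hr
  have hzA : z ∈ A := (mem_ass_iff K hV z hz).mpr <| by
    rw [hzp]
    exact associatedPrimes.subset_of_injective (Submodule.injective_subtype L) hp
  refine hne (hn z _ hkill ?_)
  rw [stalkLin_germ]
  exact l.2 z hzA hz

open CategoryTheory AlgebraicGeometry in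
/-- Let X be locally Noetherian, F and G coherent O_X-modules, U ⊆ X open and φ : F|_U → G|_U a map of
O_U-modules. Then there are a coherent submodule F' ⊆ F whose inclusion is an isomorphism over U and
a map φ' : F' → G whose restriction to U is φ (composed with that isomorphism). -/
theorem result (X : Scheme.{u}) [IsLocallyNoetherian X] (F G : X.Modules)
    (hF : Coh.IsCoh F) (hG : Coh.IsCoh G) (U : X.Opens)
    (φ : (Scheme.Modules.restrictFunctor U.ι).obj F ⟶ (Scheme.Modules.restrictFunctor U.ι).obj G) :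
    ∃ (F' : X.Modules) (ι : F' ⟶ F) (φ' : F' ⟶ G), Mono ι ∧ Coh.IsCoh F' ∧
      IsIso ((Scheme.Modules.restrictFunctor U.ι).map ι) ∧
      (Scheme.Modules.restrictFunctor U.ι).map φ' = (Scheme.Modules.restrictFunctor U.ι).map ι ≫ φ := by
  let j := U.ι
  haveI : QuasiCompact j := LimTop.SubExtGen.quasiCompact_ι (fun x => by
    obtain ⟨W, hW, hxW, -⟩ := exists_isAffineOpen_mem_and_subset (X := X) (Opens.mem_top x)
    haveI := IsLocallyNoetherian.component_noetherian ⟨W, hW⟩
    exact ⟨W, hxW, noetherianSpace_of_isAffineOpen W hW⟩) U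
  haveI : F.IsQuasicoherent := hF.1
  haveI : G.IsQuasicoherent := hG.1
  let R := Scheme.Modules.restrictFunctor j
  let adj := Scheme.Modules.restrictAdjunction j
  let T := (Scheme.Modules.pushforward j).obj (R.obj G)
  haveI : (R.obj G).IsQuasicoherent := inferInstance
  have hT : Coh.IsQCoh T := QCoh.isQuasicoherent_pushforward j (R.obj G)
  let a : F ⟶ T := adj.homEquiv _ _ φ
  let η : G ⟶ T := adj.unit.app G
  let p : pullback a η ⟶ F := pullback.fst a η
  let q : pullback a η ⟶ G := pullback.snd a η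
  let hl := Abelian.PullbackToBiproductIsKernel.isLimitPullbackToBiproduct a η
  have hP : Coh.IsCoh (pullback a η) :=
    isCoh_of_iso (hl.conePointUniqueUpToIso (kernelIsKernel _)).symm
      (isCoh_kernel _ (isCoh_biprod hF hG) hT)
  haveI hη : IsIso (R.map η) := by
    haveI : IsIso (adj.counit.app (R.obj G)) := inferInstance
    exact IsIso.of_isIso_comp_right (R.map η) (adj.counit.app (R.obj G))
  haveI hp : IsIso (R.map p) := ((IsPullback.of_hasPullback a η).map R).isIso_fst_of_isIso
  have hK : Coh.IsCoh (kernel p) := isCoh_kernel p hP hF.1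
  obtain ⟨C, c, hc, hC, hciso, hdis⟩ := exists_complement hP (kernel.ι p) hK.1 U (fun y hy hys => hys
    (subsingleton_of_forall_eq 0 fun t => stalk_injective (kernel.ι p) y (by
      rw [map_zero]
      refine (stalk_bijective_of_isIso_restrict j p (show y ∈ Set.range j by rw [Scheme.Opens.range_ι]; exact hy)).1 ?_
      rw [map_zero, ← stalkLin_comp_apply, kernel.condition, stalkLin_zero_apply])))
  haveI := hc
  refine ⟨C, c ≫ p, c ≫ q, Preadditive.mono_of_cancel_zero _ fun {W} w hw => ?_, hC, ?_, ?_⟩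
  · rw [← cancel_mono c, zero_comp]
    have hv : kernel.lift p (w ≫ c) (by rw [Category.assoc]; exact hw) = 0 := by
      refine Scheme.Modules.hom_ext _ _ fun O => ?_
      ext s
      refine TopCat.Presheaf.section_ext (⟨(kernel p).presheaf, (kernel p).isSheaf⟩ : TopCat.Sheaf AddCommGrpCat X) O _ _
        fun y hy => ?_
      refine Eq.trans ?_ (map_zero ((kernel p).presheaf.germ O y hy).hom).symm
      refine hdis y _ ⟨stalkLin w y (germM W O y hy s), ?_⟩
      change stalkLin c y (stalkLin w y _) = stalkLin (kernel.ι p) y (germM (kernel p) O y hy _)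
      rw [← stalkLin_comp_apply, stalkLin_germ, stalkLin_germ]
      exact congrArg (germM _ O y hy) (congrArg (fun f => f.app O s) (kernel.lift_ι p (w ≫ c) _)).symm
    rw [← kernel.lift_ι p (w ≫ c) (by rw [Category.assoc]; exact hw), hv, zero_comp]
  · haveI := hciso
    rw [Functor.map_comp]
    infer_instance
  · haveI : IsIso (adj.counit.app (R.obj G)) := inferInstance
    rw [Functor.map_comp, Functor.map_comp, Category.assoc]
    congr 1
    have h := congrArg (fun f => R.map f ≫ adj.counit.app (R.obj G)) (pullback.condition (f := a) (g := η))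
    simp only [Functor.map_comp, Category.assoc] at h
    rw [show R.map η ≫ adj.counit.app (R.obj G) = 𝟙 _ from adj.left_triangle_components G,
      Category.comp_id,
      show R.map a ≫ adj.counit.app (R.obj G) = φ from
        (adj.homEquiv_counit _ _ _).symm.trans ((adj.homEquiv _ _).symm_apply_apply φ)] at h
    exact h.symm

end Groth.Agent.S0816
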