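import Groth.Statements.S0818
import Groth.Agent.CohDev.Gen

set_option autoImplicit false
universe u
open Coherent

namespace Groth.Agent.S0818

open Groth.Agent.CohDev CategoryTheory CategoryTheory.Limits AlgebraicGeometry
lemma model_point {X : Scheme.{u}} (x : X) [IsIntegral (IntMult.ptIdeal x).subscheme] :
    Set.range (IntMult.ptIdeal x).subschemeι = closure ({x} : Set X) ∧
      (IntMult.ptIdeal x).subschemeι (genericPoint (IntMult.ptIdeal x).subscheme) = x := by
  let i := (IntMult.ptIdeal x).subschemeι
  have hr : Set.range i = closure ({x} : Set X) := by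
    rw [Scheme.IdealSheafData.range_subschemeι]
    exact coe_support_ptIdeal x
  refine ⟨hr, ?_⟩
  have h := (genericPoint_spec (IntMult.ptIdeal x).subscheme).image i.continuous
  rw [Set.image_univ, hr, closure_closure] at h
  exact h.eq (isGenericPoint_closure (x := x))


open CategoryTheory AlgebraicGeometry in
/-- Let X be a nonempty Noetherian scheme and P an isomorphism-invariant property of O_X-modules such
that (1) in every short exact sequence of coherent O_X-modules, if two of the three terms satisfy P
then so does the third, and (2) for every integral scheme Z and closed immersion i : Z → X, with ξ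
the generic point of Z, there is a coherent O_X-module G satisfying P whose support is exactly i(Z)
and whose stalk at i(ξ) is isomorphic, as a module over the local ring O_{X,i(ξ)}, to the residue
field of that local ring. Then every coherent O_X-module satisfies P. (The published statement
leaves the nonemptiness of X implicit; it is needed to handle the zero module and is assumed
explicitly here.) -/
theorem result (X : Scheme.{u}) [IsNoetherian X] [Nonempty X]
    (P : X.Modules → Prop) (hP : ∀ M N : X.Modules, Nonempty (M ≅ N) → P M → P N)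
    (h₁ : ∀ S : ShortComplex X.Modules, S.ShortExact → Coh.IsCoh S.X₁ → Coh.IsCoh S.X₂ → Coh.IsCoh S.X₃ →
      (P S.X₁ → P S.X₂ → P S.X₃) ∧ (P S.X₁ → P S.X₃ → P S.X₂) ∧ (P S.X₂ → P S.X₃ → P S.X₁))
    (h₂ : ∀ (Z : Scheme.{u}) (i : Z ⟶ X) [IsClosedImmersion i] [IsIntegral Z],
      ∃ G : X.Modules, Coh.IsCoh G ∧ CohB1.support G = Set.range ⇑i ∧
        Nonempty (↑(G.presheaf.stalk (i (genericPoint Z))) ≃ₗ[X.presheaf.stalk (i (genericPoint Z))]
          IsLocalRing.ResidueField (X.presheaf.stalk (i (genericPoint Z)))) ∧ P G)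
    (M : X.Modules) (hM : Coh.IsCoh M) : P M := by
  obtain ⟨h0, hmodel⟩ : (∀ M : X.Modules, IsZero M → P M) ∧ (∀ x : X, ∃ G : X.Modules, Coh.IsCoh G ∧
      CohB1.support G ⊆ closure {x} ∧ Nonempty (↑(G.presheaf.stalk x) ≃ₗ[X.presheaf.stalk x]
        IsLocalRing.ResidueField (X.presheaf.stalk x)) ∧ P G) := by
    have hm : ∀ x : X, ∃ G : X.Modules, Coh.IsCoh G ∧
        CohB1.support G ⊆ closure {x} ∧ Nonempty (↑(G.presheaf.stalk x) ≃ₗ[X.presheaf.stalk x]
          IsLocalRing.ResidueField (X.presheaf.stalk x)) ∧ P G := fun x => by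
      haveI : IsIntegral (IntMult.ptIdeal x).subscheme :=
        S16188.isIntegral_subscheme _ isIrreducible_singleton.closure
      obtain ⟨G, hG, hs, hθ, hPG⟩ := h₂ _ (IntMult.ptIdeal x).subschemeι
      obtain ⟨hr, hx⟩ := model_point x
      rw [hx] at hθ
      exact ⟨G, hG, hs.le.trans hr.le, hθ, hPG⟩
    refine ⟨fun M hM => ?_, hm⟩
    obtain ⟨G, hG, -, -, hPG⟩ := hm (Classical.arbitrary X)
    let S := ShortComplex.mk (𝟙 G) (0 : G ⟶ M) (by simp)
    exact (h₁ S { exact := S.exact_of_g_is_cokernel (CokernelCofork.IsColimit.ofπ _ _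
                    (fun {W} k hk => 0) (fun k hk => by simpa [S] using hk.symm)
                    (fun k hk m hm => hM.eq_of_src _ _))
                  mono_f := inferInstanceAs (Mono (𝟙 G))
                  epi_g := ⟨fun _ _ _ => hM.eq_of_src _ _⟩ }
      hG hG (isCoh_of_isZero hM)).1 hPG hPG
  have h : TwoOfThree Set.univ P := fun S hS a b c _ => h₁ S hS a b c
  refine devissage_two isClosed_univ h0 h (fun x _ J hJ hsmall => ?_) hM (Set.subset_univ _)
  obtain ⟨G, hG, hGs, ⟨θ⟩, hPG⟩ := hmodel x
  obtain ⟨ρ⟩ := hJ.stalk_residue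
  have hJs := hJ.support_subset
  obtain ⟨-, -, hJc, -⟩ := hJ
  exact piece_of_model h (Set.subset_univ _) hsmall hG hJc hGs hJs (θ.trans ρ.symm) hPG

end Groth.Agent.S0818
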