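import Groth.Statements.S0819
import Groth.Agent.CohDev.Gen

set_option autoImplicit false
universe u
open Coherent

namespace Groth.Agent.S0819

open Groth.Agent.CohDev CategoryTheory CategoryTheory.Limits AlgebraicGeometry

open CategoryTheory AlgebraicGeometry in
/-- Let X be a Noetherian scheme, Z₀ ⊆ X an irreducible closed subset with generic point ξ, and P an
isomorphism-invariant property of O_X-modules such that: (1) in every short exact sequence of
coherent modules supported in Z₀, P for two of the terms implies P for the third; (2) P holds for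
i_* I whenever i : Z → X is an integral closed subscheme with i(Z) a proper subset of Z₀ and I ⊆ O_Z
is a quasi-coherent ideal sheaf; (3) there is a coherent G with support exactly Z₀, stalk at ξ
isomorphic to the residue field over the local ring, and P(G). Then P holds for every coherent
module whose support is contained in Z₀. -/
theorem result (X : Scheme.{u}) [IsNoetherian X]
    (Z₀ : Set X) (hZ₀ : IsClosed Z₀) (hirr : IsIrreducible Z₀) (ξ : X) (hξ : ξ ∈ Z₀ ∧ closure {ξ} = Z₀)
    (P : X.Modules → Prop) (hP : ∀ M N : X.Modules, Nonempty (M ≅ N) → P M → P N)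
    (h₁ : ∀ S : ShortComplex X.Modules, S.ShortExact → Coh.IsCoh S.X₁ → Coh.IsCoh S.X₂ → Coh.IsCoh S.X₃ →
      CohB1.support S.X₂ ⊆ Z₀ →
      (P S.X₁ → P S.X₂ → P S.X₃) ∧ (P S.X₁ → P S.X₃ → P S.X₂) ∧ (P S.X₂ → P S.X₃ → P S.X₁))
    (h₂ : ∀ (Z : Scheme.{u}) (i : Z ⟶ X), IsClosedImmersion i → IsIntegral Z →
      Set.range ⇑i ⊆ Z₀ → Set.range ⇑i ≠ Z₀ →
      ∀ (I : Z.Modules) (ι : I ⟶ Coh.structureModule Z), Mono ι → Coh.IsQCoh I →
        P ((Coh.push i).obj I))
    (h₃ : ∃ G : X.Modules, Coh.IsCoh G ∧ CohB1.support G = Z₀ ∧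
      Nonempty (↑(G.presheaf.stalk ξ) ≃ₗ[X.presheaf.stalk ξ] IsLocalRing.ResidueField (X.presheaf.stalk ξ)) ∧ P G)
    (M : X.Modules) (hM : Coh.IsCoh M) (hsupp : CohB1.support M ⊆ Z₀) : P M := by
  obtain ⟨G, hG, hGs, ⟨θ⟩, hPG⟩ := h₃
  have h0 : ∀ M : X.Modules, IsZero M → P M := fun M hM => by
    let S := ShortComplex.mk (𝟙 G) (0 : G ⟶ M) (by simp)
    exact (h₁ S { exact := S.exact_of_g_is_cokernel (CokernelCofork.IsColimit.ofπ _ _
                    (fun {W} k hk => 0) (fun k hk => by simpa [S] using hk.symm)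
                    (fun k hk m hm => hM.eq_of_src _ _))
                  mono_f := inferInstanceAs (Mono (𝟙 G))
                  epi_g := ⟨fun _ _ _ => hM.eq_of_src _ _⟩ }
      hG hG (isCoh_of_isZero hM) hGs.le).1 hPG hPG
  have h : TwoOfThree Z₀ P := h₁
  refine devissage_two hZ₀ h0 h (fun x hx J hJ hsmall => ?_) hM hsupp
  by_cases hxξ : x = ξ
  · subst hxξ
    obtain ⟨ρ⟩ := hJ.stalk_residue
    have hJs := hJ.support_subset
    obtain ⟨-, -, hJc, -⟩ := hJ
    exact piece_of_model h hξ.2.le hsmall hG hJc (hGs.le.trans hξ.2.ge) hJs (θ.trans ρ.symm) hPG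
  · obtain ⟨hZ, I, ι, hι, hI, ⟨e⟩⟩ := hJ.exists_ideal
    obtain hr : Set.range (IntMult.ptIdeal x).subschemeι = closure ({x} : Set X) := by
      rw [Scheme.IdealSheafData.range_subschemeι]; exact coe_support_ptIdeal x
    refine hP _ _ ⟨e.symm⟩ (h₂ _ _ inferInstance hZ ?_ ?_ I ι hι hI)
    · rw [hr]; exact closure_minimal (Set.singleton_subset_iff.mpr hx) hZ₀
    · rw [hr, ← hξ.2]
      intro he
      exact hxξ ((isGenericPoint_closure (x := x)).eq (show IsGenericPoint ξ (closure {x}) from he.symm))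

end Groth.Agent.S0819
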