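import Groth.Statements.S0820
import Groth.Agent.CohDev.AR
import Groth.Agent.AssSch.Stalk
import Groth.Agent.HomShQC.Stalk
-- import your own Groth.Agent.* helpers here

set_option autoImplicit false
universe u
open Coherent

namespace Groth.Agent.S0820

open Groth.Agent.CohDev Groth.Agent.PullStalk.Sky CategoryTheory AlgebraicGeometry

open CategoryTheory AlgebraicGeometry in
/-- Let f : Y → X be finite and surjective with X locally Noetherian, and let i : Z → X be a closed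
immersion from an integral scheme, ξ the image of the generic point of Z. Then some coherent
O_Y-module F has f_* F supported exactly on i(Z), with the stalk of f_* F at ξ killed by every
element of 𝔪_{X,ξ}, the maximal ideal of O_{X,ξ}. -/
theorem result {Y X : Scheme.{u}} (f : Y ⟶ X) [IsFinite f]
    [Surjective f] [IsLocallyNoetherian X] (Z : Scheme.{u}) (i : Z ⟶ X) [IsClosedImmersion i] [IsIntegral Z] :
    ∃ F : Y.Modules, Coh.IsCoh F ∧ CohB1.support ((Coh.push f).obj F) = Set.range ⇑i ∧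
      ∀ a ∈ IsLocalRing.maximalIdeal (X.presheaf.stalk (i (genericPoint Z))),
        ∀ m : ↑(((Coh.push f).obj F).presheaf.stalk (i (genericPoint Z))), a • m = 0 := by
  let W := Limits.pullback f i
  let p₁ : W ⟶ Y := Limits.pullback.fst f i
  let p₂ : W ⟶ Z := Limits.pullback.snd f i
  haveI : IsLocallyNoetherian W := LocallyOfFiniteType.isLocallyNoetherian (p₁ ≫ f)
  let O := Coh.structureModule W
  haveI : O.IsQuasicoherent := WeakAssSch.isQuasicoherent_unit W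
  let F : Y.Modules := (Coh.push p₁).obj O
  let Q : X.Modules := (Coh.push f).obj F
  have hF : Coh.IsCoh F := CycLib.isCoh_push O p₁ (HomShQC.isCoh_structureModule)
  haveI : ((Coh.push f).obj F).IsQuasicoherent := (CycLib.isCoh_push F f hF).1
  have hrange : ∀ (V : X.Opens) (a : Γ(X, V)), i.app V a = 0 → p₁.app (f ⁻¹ᵁ V) (f.app V a) = 0 := fun V a ha => by
    have h : (p₁ ≫ f) = p₂ ≫ i := Limits.pullback.condition
    have h2 : (p₂ ≫ i).app V a = 0 := by
      change p₂.app (i ⁻¹ᵁ V) (i.app V a) = 0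
      rw [ha, map_zero]
    change (p₁ ≫ f).app V a = 0
    exact (congrArg (fun g => g a) (Scheme.Hom.congr_app h V)).trans
      ((congrArg (W.presheaf.map _) h2).trans (map_zero _))
  refine ⟨F, hF, Set.Subset.antisymm (fun x hx => ?_) ?_, fun a ha m => ?_⟩
  · by_contra hxi
    refine hx (subsingleton_of_forall_eq 0 fun t => ?_)
    obtain ⟨O', hxO, m, rfl⟩ := exists_germM_eq Q x t
    let V : X.Opens := O' ⊓ ⟨(Set.range i)ᶜ, i.isClosedEmbedding.isClosed_range.isOpen_compl⟩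
    have hV : p₁ ⁻¹ᵁ (f ⁻¹ᵁ V) = ⊥ := by
      refine le_bot_iff.mp fun w hw => hw.2 ⟨p₂ w, ?_⟩
      exact (congrArg (fun g : W ⟶ X => g w) (Limits.pullback.condition (f := f) (g := i))).symm
    have h0 : QCoh.res Q (inf_le_left : V ≤ O') m = 0 := by
      refine TopCat.Presheaf.section_ext (⟨O.presheaf, O.isSheaf⟩ : TopCat.Sheaf AddCommGrpCat _)
        (p₁ ⁻¹ᵁ (f ⁻¹ᵁ V)) _ _ fun w hw => ?_
      exact absurd (hV ▸ hw : w ∈ (⊥ : W.Opens)) id
    exact (Q.presheaf.germ_res_apply (homOfLE (inf_le_left : V ≤ O')) x ⟨hxO, hxi⟩ m).symm.trans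
      ((congrArg (Q.presheaf.germ V x ⟨hxO, hxi⟩) h0).trans (map_zero _))
  · rintro - ⟨z, rfl⟩ hs
    obtain ⟨w, hw⟩ := p₂.surjective z
    let one : Γ(Q, ⊤) := (1 : Γ(W, p₁ ⁻¹ᵁ (f ⁻¹ᵁ ⊤)))
    haveI : Subsingleton (Q.presheaf.stalk (i z)) := hs
    obtain ⟨V, hzV, j, j', hj⟩ := Q.presheaf.germ_eq (i z) (show i z ∈ (⊤ : X.Opens) from trivial) (show i z ∈ (⊤ : X.Opens) from trivial) one 0 (Subsingleton.elim _ _)
    have hwV : w ∈ p₁ ⁻¹ᵁ (f ⁻¹ᵁ V) := by
      change (p₁ ≫ f) w ∈ V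
      rw [show p₁ ≫ f = p₂ ≫ i from Limits.pullback.condition]
      change i (p₂ w) ∈ V
      rwa [hw]
    rw [map_zero] at hj
    have h1 : (1 : Γ(W, p₁ ⁻¹ᵁ (f ⁻¹ᵁ V))) = 0 :=
      (map_one (W.presheaf.map (homOfLE ((p₁ ≫ f).preimage_mono j.le)).op).hom).symm.trans hj
    exact one_ne_zero (α := W.presheaf.stalk w) (by
      rw [← map_one (W.presheaf.germ (p₁ ⁻¹ᵁ (f ⁻¹ᵁ V)) w hwV).hom]
      exact (congrArg (W.presheaf.germ (p₁ ⁻¹ᵁ (f ⁻¹ᵁ V)) w hwV) h1).trans (map_zero _))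
  · obtain ⟨V, hV, hξV, -⟩ := exists_isAffineOpen_mem_and_subset (X := X) (TopologicalSpace.Opens.mem_top (i (genericPoint Z)))
    refine smul_eq_zero_of_prime hV hξV (fun b hb => ?_) ha
    have hb0 : i.app V b = 0 := by
      apply AlgebraicGeometry.eq_zero_of_basicOpen_eq_bot
      rw [← Scheme.preimage_basicOpen]
      refine le_bot_iff.mp fun z hz => ?_
      have hξ := (genericPoint_spec Z).mem_open_set_iff (i ⁻¹ᵁ X.basicOpen b).isOpen |>.mpr
        ⟨z, trivial, hz⟩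
      exact (((AssSch.Stalk.mem_basicOpen_iff hV _ hξV b).mp hξ) hb).elim
    obtain ⟨O', hxO, q, rfl⟩ := exists_germM_eq Q _ m
    let V' : X.Opens := V ⊓ O'
    have hb' : p₁.app (f ⁻¹ᵁ V') (f.app V' (X.presheaf.map (homOfLE (inf_le_left : V' ≤ V)).op b)) = 0 := by
      refine hrange V' _ ?_
      rw [← CommRingCat.comp_apply, i.naturality, CommRingCat.comp_apply, hb0, map_zero]
    have h0 : X.presheaf.map (homOfLE (inf_le_left : V' ≤ V)).op b • QCoh.res Q (inf_le_right : V' ≤ O') q = 0 := by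
      change (show Γ(W, p₁ ⁻¹ᵁ (f ⁻¹ᵁ V')) from p₁.app (f ⁻¹ᵁ V') (f.app V' _)) • (show Γ(O, p₁ ⁻¹ᵁ (f ⁻¹ᵁ V')) from QCoh.res Q (inf_le_right : V' ≤ O') q) = 0
      rw [hb', zero_smul]
    have hm : germM Q V' (i (genericPoint Z)) ⟨hξV, hxO⟩ (QCoh.res Q (inf_le_right : V' ≤ O') q) = germM Q O' _ hxO q :=
      Q.presheaf.germ_res_apply (homOfLE (inf_le_right : V' ≤ O')) _ ⟨hξV, hxO⟩ q
    rw [← hm, ← X.presheaf.germ_res_apply (homOfLE (inf_le_left : V' ≤ V)) _ ⟨hξV, hxO⟩]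
    exact (germM_smul Q V' _ ⟨hξV, hxO⟩ _ _).symm.trans ((congrArg (germM Q V' (i (genericPoint Z)) ⟨hξV, hxO⟩) h0).trans
      (map_zero (Q.presheaf.germ V' _ ⟨hξV, hxO⟩).hom))

end Groth.Agent.S0820
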