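import Groth.Statements.S0821
import Groth.Agent.Formal53.Local

set_option autoImplicit false
universe u
open CategoryTheory
attribute [local instance] HasDerivedCategory.standard
open Formal2

namespace Groth.Agent.S0821

open AlgebraicGeometry Opposite in
/-- In the form of its final sentence (A complete). Let (A, 𝔪) be a Noetherian local ring with a
dualizing complex, f ∈ 𝔪 a nonzerodivisor with A f-adically complete, and U the punctured spectrum.
Let (F_n) be a coherent formal module on U for the ideal (f) (indices shifted by one) with each F_n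
finite locally free over O_U/f^nO_U. Assume depth (A/fA)_𝔭 + dim A/𝔭 > 1 for every non-maximal prime
𝔭 containing f, and depth A_𝔭 + dim A/𝔭 > 3 for every prime 𝔭 not containing f such that some
non-maximal prime contains 𝔭 and f. Then (F_n) is isomorphic to the system (F/f^nF) of a coherent
O_U-module F. -/
theorem result (A : Type u) [CommRing A]
    [IsNoetherianRing A] [IsLocalRing A] (hω : ∃ ω : Dual.D A, Dual.IsDualizing A ω) (f : A)
    (hf : f ∈ IsLocalRing.maximalIdeal A) (hnzd : f ∈ nonZeroDivisors A) [IsAdicComplete (Ideal.span {f}) A]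
    (G : ℕᵒᵖ ⥤ (↑(FEt.puncturedSpec A) : Scheme.{u}).Modules) (hG : Formal.IsCohFormal (Ideal.span {f}) G)
    (hfree : ∀ n : ℕ, Formal2.IsFinLocFreeMod (Ideal.span {f}) (n + 1) (G.obj (op n)))
    (h₅ : ∀ (p : Ideal A) [p.IsPrime], f ∈ p → p ≠ IsLocalRing.maximalIdeal A →
      (1 : WithBot ℕ∞) < ((LocCoh.depth (Localization.AtPrime p)
          (LocalizedModule p.primeCompl (A ⧸ Ideal.span {f})) : ℕ∞) : WithBot ℕ∞) + ringKrullDim (A ⧸ p))
    (h₆ : ∀ (p : Ideal A) [p.IsPrime], f ∉ p →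
      (∃ r : Ideal A, r.IsPrime ∧ p ≤ r ∧ f ∈ r ∧ r ≠ IsLocalRing.maximalIdeal A) →
      (3 : WithBot ℕ∞) < ((LocCoh.depth (Localization.AtPrime p) (Localization.AtPrime p) : ℕ∞) : WithBot ℕ∞) +
        ringKrullDim (A ⧸ p)) :
    ∃ F : (↑(FEt.puncturedSpec A) : Scheme.{u}).Modules, Coh.IsCoh F ∧
      Nonempty (Formal.completion (Ideal.span {f}) F ≅ G) := by
  obtain ⟨ω₀, hω₀⟩ := hω
  obtain ⟨k, hn⟩ := Groth.Agent.DualCx.Normalized.exists_isNormalized hω₀
  have hd := Groth.Agent.DualCx.Normalized.isDualizing_shift hω₀ k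
  have hdim : ∀ p : Ideal A, ∀ [p.IsPrime], ∀ x : ℕ∞, ∀ n : ℕ,
      (n : WithBot ℕ∞) < (x : WithBot ℕ∞) + ringKrullDim (A ⧸ p) →
        ((n + 1 : ℕ) : WithBot ℕ∞) < ((x + 1 : ℕ∞) : WithBot ℕ∞) + ringKrullDim (A ⧸ p) := by
    intro p _ x n h
    obtain ⟨e, he⟩ : ∃ e : ℕ, ringKrullDim (A ⧸ p) = e :=
      ⟨_, (Groth.Agent.LocCohSweep.DualityLocus.deg_eq hd hn ⟨p, inferInstance⟩).1⟩
    rw [he] at h ⊢
    induction x using ENat.recTopCoe with
    | top =>
      show ((n + 1 : ℕ) : WithBot ℕ∞) < (((⊤ + 1 : ℕ∞) + e : ℕ∞) : WithBot ℕ∞)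
      rw [top_add, top_add]
      exact WithBot.coe_lt_coe.2 (ENat.natCast_lt_top _)
    | coe a =>
      have h' : n < a + e := by exact_mod_cast h
      exact_mod_cast (show n + 1 < a + 1 + e by omega)
  obtain ⟨N', h2⟩ := Groth.Agent.Formal53.Ann.exists_pow_le_sup (f := f)
    (Module.annihilator A (LocCoh.H (IsLocalRing.maximalIdeal A) 2 A)) fun p hp hfp hpne => by
      haveI := hp
      refine Groth.Agent.Formal53.Ann.not_ann_le hd hn A ⟨p, hp⟩ 2 ?_
      rw [← Groth.Agent.Formal53.Ann.depth_loc hnzd p hfp]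
      exact hdim p _ 1 (h₅ p hfp hpne)
  obtain ⟨c, N, h3⟩ := Groth.Agent.Formal53.Ann.exists_saturation (f := f)
    (Module.annihilator A (LocCoh.H (IsLocalRing.maximalIdeal A) 3 A)) fun p hp hfp hle r hr hpr hfr => by
      haveI := hp
      by_contra hne
      exact Groth.Agent.Formal53.Ann.not_ann_le hd hn A ⟨p, hp⟩ 3 (h₆ p hfp ⟨r, hr, hpr, hfr, hne⟩) hle
  have h1 : IsFiniteLength A (LocCoh.H (IsLocalRing.maximalIdeal A) 1 (A ⧸ Ideal.span {f})) := by
    rw [Groth.Agent.LocCohSweep.DualityLocus.isFiniteLength_H_iff A (A ⧸ Ideal.span {f}) 1,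
      Ideal.radical_eq_sInf, le_sInf_iff]
    rintro p ⟨hle, hp⟩
    haveI := hp
    by_contra hpne
    refine Groth.Agent.Formal53.Ann.not_ann_le hd hn (A ⧸ Ideal.span {f}) ⟨p, hp⟩ 1 ?_ hle
    by_cases hfp : f ∈ p
    · exact h₅ p hfp fun he => hpne he.ge
    · haveI : Subsingleton (LocalizedModule p.primeCompl (A ⧸ Ideal.span {f})) :=
        LocalizedModule.subsingleton_iff.2 fun m => ⟨f, hfp, by
          obtain ⟨m, rfl⟩ := Ideal.Quotient.mk_surjective m
          exact Ideal.Quotient.eq_zero_iff_mem.2 (Ideal.mul_mem_right _ _ (Ideal.mem_span_singleton_self f))⟩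
      rw [show LocCoh.depth (Localization.AtPrime p) (LocalizedModule p.primeCompl (A ⧸ Ideal.span {f})) = ⊤ from
        if_pos (Subsingleton.elim _ _)]
      obtain ⟨e, he⟩ : ∃ e : ℕ, ringKrullDim (A ⧸ p) = e :=
        ⟨_, (Groth.Agent.LocCohSweep.DualityLocus.deg_eq hd hn ⟨p, hp⟩).1⟩
      rw [he]
      show ((1 : ℕ) : WithBot ℕ∞) < (((⊤ : ℕ∞) + e : ℕ∞) : WithBot ℕ∞)
      rw [top_add]
      exact WithBot.coe_lt_coe.2 (ENat.natCast_lt_top 1)
  haveI := (isFiniteLength_iff_isNoetherian_isArtinian.mp h1).1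
  refine Groth.Agent.Formal53.Local.exists_algebraization_of_eq (FEt.puncturedSpec A) ?_ hnzd inferInstance h2 h3 G hG hfree
  refine TopologicalSpace.Opens.ext (congrArg compl ?_)
  exact (PrimeSpectrum.zeroLocus_eq_singleton (IsLocalRing.maximalIdeal A)).symm

end Groth.Agent.S0821
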