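import Groth.Statements.S0828
import Groth.Agent.Props.QProj
import Groth.Agent.QCoh.FiniteType
import Groth.Agent.FDesc.QuasiFlat
import Groth.Agent.RegLoc.MCM
import Groth.Agent.DualAbs.CMCrit
import Groth.Agent.Depth.CM
import Groth.Agent.CanonMod.Init
import Groth.Agent.ZClosLib.S2
-- import your own Groth.Agent.* helpers here

set_option autoImplicit false
universe u
open Coherent

namespace Groth.Agent.S0828

open CategoryTheory AlgebraicGeometry in
/-- The rank of a trivialisation is positive exactly when the stalks are nonzero. -/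
theorem nontrivial_stalk_iff {X : Scheme.{u}} (F : X.Modules) [F.IsQuasicoherent] {V : X.Opens}
    {n : ℕ} (e : F.restrict V.ι ≅ FlatMod.freeMod (↑V) n) {x : X} (hxV : x ∈ V) :
    Nontrivial (F.presheaf.stalk x) ↔ 0 < n := by
  obtain ⟨_, ⟨W, hW, rfl⟩, hxW, hWV⟩ := X.isBasis_affineOpens.exists_subset_of_mem_open hxV V.2
  obtain ⟨b⟩ := Props.QProj.free_sections_of_restrict_iso F e hW hWV
  let _ := Props.QStalk.moduleSections F hxW
  let _ := X.presheaf.algebra_section_stalk ⟨x, hxW⟩
  have : IsScalarTower Γ(X, W) (X.presheaf.stalk x) (F.presheaf.stalk x) :=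
    IsScalarTower.of_algebraMap_smul fun _ _ ↦ rfl
  have hL := Props.QStalk.isLocalizedModule_germLin F hxW hW
  have hA : IsLocalization.AtPrime (X.presheaf.stalk x) (hW.primeIdealOf ⟨x, hxW⟩).asIdeal :=
    hW.isLocalization_stalk ⟨x, hxW⟩
  let b' := b.ofIsLocalizedModule (X.presheaf.stalk x)
    (hW.primeIdealOf ⟨x, hxW⟩).asIdeal.primeCompl (Props.QStalk.germLin F hxW)
  refine ⟨fun h => ?_, fun h => ?_⟩
  · by_contra hn
    obtain rfl : n = 0 := by omega
    have : Subsingleton (F.presheaf.stalk x) := b'.repr.toEquiv.subsingleton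
    exact not_nontrivial _ h
  · have : Nonempty (Fin n) := ⟨⟨0, h⟩⟩
    exact b'.repr.toEquiv.nontrivial

open CategoryTheory AlgebraicGeometry in
/-- Let X be a regular scheme (locally Noetherian with regular local rings) and F a coherent O_X-module.
Then F has support all of X and Cohen–Macaulay stalks if and only if F is finite locally free of
positive rank near every point. -/
theorem result (X : Scheme.{u}) [IsLocallyNoetherian X]
    (hreg : ∀ x : X, IsRegularLocalRing (X.presheaf.stalk x)) (F : X.Modules) (hF : Coh.IsCoh F) :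
    (CohB1.support F = Set.univ ∧
        ∀ x : X, LocCoh.IsCohenMacaulayModule (X.presheaf.stalk x) ↑(F.presheaf.stalk x)) ↔
      ∀ x : X, ∃ (U : X.Opens) (n : ℕ), x ∈ U ∧ 0 < n ∧
        Nonempty (F.restrict U.ι ≅ FlatMod.freeMod (↑U) n) := by
  have := hF.1
  have := hF.2
  have hdim : ∀ x : X, ∃ d : ℕ, ringKrullDim (X.presheaf.stalk x) = d ∧
      LocCoh.depth (X.presheaf.stalk x) (X.presheaf.stalk x) = (d : ℕ∞) := fun x => by
    have := hreg x
    have := Depth.isCohenMacaulayLocalRing_of_isRegularLocalRing (R := X.presheaf.stalk x)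
    obtain ⟨d, hd, -⟩ := RegLoc.exists_natCast_eq_ringKrullDim (X.presheaf.stalk x)
    exact ⟨d, hd, CanonMod.depth_self hd⟩
  constructor
  · rintro ⟨hsupp, hCM⟩
    have hnt : ∀ z : X, Nontrivial (F.presheaf.stalk z) := fun z =>
      not_subsingleton_iff_nontrivial.mp (hsupp.ge (Set.mem_univ z) : z ∈ CohB1.support F)
    have hfree : ∀ x : X, Module.Free (X.presheaf.stalk x) (F.presheaf.stalk x) := fun x => by
      have := hreg x
      have := FDesc.QuasiFlat.finite_stalk_of_isCoh F hF x
      refine RegLoc.MCM.free_of_depth_eq_dim _ ?_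
      rw [← ZClosLib.S2.supportDim_eq_dim F hF hnt x]
      exact (hCM x).symm
    have hLF : FlatMod.IsFinLocFree F := by
      refine Props.QProj.isFinLocFree_of F (fun x => ?_) hfree
      obtain ⟨U, hU, hx, -⟩ := exists_isAffineOpen_mem_and_subset (X := X)
        (TopologicalSpace.Opens.mem_top x)
      have : IsNoetherianRing Γ(X, U) := IsLocallyNoetherian.component_noetherian ⟨U, hU⟩
      have := QCoh.finite_sections_of_isFiniteType F hU
      exact ⟨U, hU, hx, Module.finitePresentation_of_finite _ _⟩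
    intro x
    obtain ⟨V, n, hxV, ⟨e⟩⟩ := hLF x
    exact ⟨V, n, hxV, (nontrivial_stalk_iff F e hxV).mp (hnt x), ⟨e⟩⟩
  · intro h
    have hnt : ∀ z : X, Nontrivial (F.presheaf.stalk z) := fun z => by
      obtain ⟨V, n, hzV, hn, ⟨e⟩⟩ := h z
      exact (nontrivial_stalk_iff F e hzV).mpr hn
    have hLF : FlatMod.IsFinLocFree F := fun x => by
      obtain ⟨V, n, hxV, -, he⟩ := h x
      exact ⟨V, n, hxV, he⟩
    refine ⟨Set.eq_univ_of_forall fun z hz => not_subsingleton (F.presheaf.stalk z) hz, fun x => ?_⟩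
    obtain ⟨d, hd, hdepth⟩ := hdim x
    have := hreg x
    have := FDesc.QuasiFlat.finite_stalk_of_isCoh F hF x
    have := hnt x
    have h1 := DualAbs.le_depth_stalk hLF hF x hdepth
    have h2 := Depth.depth_le_supportDim (R := X.presheaf.stalk x) (M := F.presheaf.stalk x)
    show Module.supportDim (X.presheaf.stalk x) (F.presheaf.stalk x) = _
    refine le_antisymm ?_ h2
    rw [ZClosLib.S2.supportDim_eq_dim F hF hnt x, hd]
    exact WithBot.coe_le_coe.mpr h1

end Groth.Agent.S0828
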