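import Groth.Statements.S0834
import Groth.Agent.FormalTors.Kernel
-- import your own Groth.Agent.* helpers here

set_option autoImplicit false
universe u
open Formal2

namespace Groth.Agent.S0834

open CategoryTheory CategoryTheory.Limits AlgebraicGeometry in
/-- Let A be a ring, I ⊆ A an ideal and X a Noetherian scheme over Spec A. Then the full subcategory of
inverse systems of 𝒪_X-modules formed by the coherent formal modules for the ideal sheaf I·𝒪_X has
kernels. (This is the kernel half of the statement that this category is abelian; cokernels are
componentwise, and abelianness itself is not asserted here.) -/
theorem result (A : Type u) [CommRing A] (I : Ideal A) (X : Scheme.{u})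
    [X.Over (Spec (CommRingCat.of A))] [IsNoetherian X] : HasKernels (Formal2.CohFormalCat I X) := by
  exact Groth.Agent.FormalTors.Kernel.hasKernels

end Groth.Agent.S0834
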