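import Groth.Statements.S0847
import Groth.Agent.ProjTilde.TwistFG
import Groth.Agent.AmpCrit.SerreVan
import Groth.Agent.Props.AmpleTwist
import Groth.Agent.ProjTwist.Quotient

set_option autoImplicit false
universe u
open Coherent

namespace Groth.Agent.S0847

section

open CategoryTheory AlgebraicGeometry TopologicalSpace Groth.Agent.QCoh Groth.Agent.ProjTilde Groth.Agent.ProjTwist

variable {R A : Type u} [CommRing R] [CommRing A] [Algebra R A] (𝒜 : ℕ → Submodule R A)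
  [GradedAlgebra 𝒜]

theorem isCoh_tensorMod' {X : Scheme.{u}} (M N : X.Modules) (hM : Coh.IsCoh M)
    (hN : N.IsQuasicoherent) (hN' : SheafOfModules.IsFiniteType.{u} N) :
    Coh.IsCoh (CohB1.tensorMod M N) := by
  have := hM.1
  have := hM.2
  exact ⟨LimTop.TensorQC.isQuasicoherent_tensM M N, LimTop.TensorQC.isFT_tensM M N⟩

theorem finiteType_zero [IsNoetherianRing A] : Algebra.FiniteType (𝒜 0) A := by
  classical
  obtain ⟨N, g, d, hd, hg, hirr⟩ := exists_gens_of_fg 𝒜 (IsNoetherian.noetherian _)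
  refine ⟨⟨Finset.univ.image g, ?_⟩⟩
  rw [Finset.coe_image, Finset.coe_univ, Set.image_univ]
  refine eq_top_iff.mpr fun a _ => ?_
  rw [← DirectSum.sum_support_decompose 𝒜 a]
  refine Subalgebra.sum_mem _ fun i _ => ?_
  have h := mem_closure_mono hd hg hirr i _ (SetLike.coe_mem (DirectSum.decompose 𝒜 a i))
  refine (AddSubgroup.closure_le
    (K := (Algebra.adjoin (𝒜 0) (Set.range g)).toSubring.toAddSubgroup)).mpr ?_ h
  rintro _ ⟨c, hc, q, -, rfl⟩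
  show c * mono g q ∈ Algebra.adjoin (𝒜 0) (Set.range g)
  refine mul_mem ?_ ?_
  · exact Subalgebra.algebraMap_mem (Algebra.adjoin (𝒜 0) (Set.range g)) (⟨c, hc⟩ : 𝒜 0)
  · exact Subalgebra.prod_mem _ fun l _ =>
      Subalgebra.pow_mem _ (Algebra.subset_adjoin (Set.mem_range_self l)) _

theorem isFiniteType_twist_neg [IsNoetherianRing A] (ρ : ℕ) :
    SheafOfModules.IsFiniteType.{u} (Twist.twist 𝒜 (-(ρ : ℤ))) := by
  rw [twist_eq_tilde]
  exact isFiniteType_tilde_neg (𝒜 := 𝒜) (ℳ := 𝒜) ρ (IsNoetherian.noetherian _)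
    ⟨0, IsNoetherian.noetherian _⟩

theorem nonempty_tensorPow_iso {E : ℕ} (hc : CoveredBy 𝒜 E ⊤) :
    ∀ n : ℕ, Nonempty (Twist.twist 𝒜 ((n * E : ℕ) : ℤ) ≅
      CohB1.tensorPow (Twist.twist 𝒜 (E : ℤ)) n)
  | 0 => ⟨eqToIso (by rw [zero_mul]; rfl) ≪≫ (twistZeroIso 𝒜).symm⟩
  | n + 1 => by
    obtain ⟨e⟩ := nonempty_tensorPow_iso hc n
    have h : (1 : ℤ) * E + ((n * E : ℕ) : ℤ) = (((n + 1) * E : ℕ) : ℤ) := by push_cast; ring
    have hI := isIso_actHom (ℳ := 𝒜) (M := A) (𝒜 := 𝒜) hc h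
    refine ⟨(@asIso _ _ _ _ _ hI).symm ≪≫ eqToIso ?_ ≪≫ tensCongr e (Iso.refl _)⟩
    rw [one_mul]
    rfl

theorem main [IsNoetherianRing A] (F : (Proj 𝒜).Modules) (hF : Coh.IsCoh F)
    (p : ℕ) (hp : 0 < p) :
    ∃ d₀ : ℤ, ∀ d : ℤ, d₀ ≤ d →
      Subsingleton (Coh.HH (Proj 𝒜) (Twist.twistBy 𝒜 F d) p) := by
  classical
  obtain ⟨E, hE, r, g, hg, hcov⟩ := exists_gens (𝒜 := 𝒜)
  have := finiteType_zero 𝒜
  let f : Proj 𝒜 ⟶ Spec (CommRingCat.of (𝒜 0)) := Proj.toSpecZero 𝒜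
  have : IsProper f := inferInstanceAs (IsProper (Proj.toSpecZero 𝒜))
  have : CompactSpace (Proj 𝒜) := (quasiCompact_iff_compactSpace f).mp inferInstance
  have hcov' : ⨆ i : ULift.{u} (Fin r), Proj.basicOpen 𝒜 (g i.down) = ⊤ := by
    refine top_le_iff.mp fun x hx => ?_
    obtain ⟨i, hi⟩ := Opens.mem_iSup.mp (hcov.ge hx)
    exact Opens.mem_iSup.mpr ⟨⟨i⟩, hi⟩
  have hc : CoveredBy 𝒜 E ⊤ := fun x hx => by
    obtain ⟨i, hi⟩ := Opens.mem_iSup.mp (hcov.ge hx)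
    exact ⟨E, 0, g i, 1, hg i, SetLike.GradedOne.one_mem, (zero_add E).symm, by rwa [mul_one]⟩
  have hL : CohB1.IsAmple (Twist.twist 𝒜 (E : ℤ)) :=
    Props.AmpleTwist.isAmple_twist hE (fun i : ULift.{u} (Fin r) => hg i.down) hcov'
  have hM : ∀ ρ : ℕ, Coh.IsCoh (CohB1.tensorMod F (Twist.twist 𝒜 (-(ρ : ℤ)))) := fun ρ =>
    isCoh_tensorMod' F _ hF (isQuasicoherent_twist (𝒜 := 𝒜) (-(ρ : ℤ))) (isFiniteType_twist_neg 𝒜 ρ)
  choose n₀ hn₀ using fun ρ : Fin E => AmpCrit.SerreVan.serre_vanishing f hL _ (hM ρ)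
  let B := Finset.univ.sup n₀
  refine ⟨((B * E : ℕ) : ℤ), fun d hd => ?_⟩
  obtain ⟨D, rfl⟩ : ∃ D : ℕ, d = (D : ℤ) :=
    ⟨d.toNat, (Int.toNat_of_nonneg ((Int.natCast_nonneg _).trans hd)).symm⟩
  have hD : B * E ≤ D := by exact_mod_cast hd
  obtain ⟨q, ρ, hρ, hq⟩ : ∃ q ρ : ℕ, ρ < E ∧ D + ρ = q * E := by
    refine ⟨(D + (E - 1)) / E, (E - 1) - (D + (E - 1)) % E, by omega, ?_⟩
    have h1 := Nat.div_add_mod (D + (E - 1)) E
    have h2 := Nat.mod_lt (D + (E - 1)) hE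
    rw [mul_comm] at h1
    omega
  have hqB : B ≤ q := Nat.le_of_mul_le_mul_right (by omega : B * E ≤ q * E) hE
  have hv := hn₀ ⟨ρ, hρ⟩ q ((Finset.le_sup (Finset.mem_univ _)).trans hqB) p hp
  obtain ⟨eL⟩ := nonempty_tensorPow_iso 𝒜 hc q
  have hact : (q : ℤ) * E + (-(ρ : ℤ)) = (D : ℤ) := by
    have : (D : ℤ) + ρ = q * E := by exact_mod_cast hq
    linarith
  have hI := isIso_actHom (ℳ := 𝒜) (M := A) (𝒜 := 𝒜) hc hact
  have e1 : Twist.twist 𝒜 (D : ℤ) ≅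
      CohB1.tensorMod (Twist.twist 𝒜 (-(ρ : ℤ))) (CohB1.tensorPow (Twist.twist 𝒜 (E : ℤ)) q) :=
    (@asIso _ _ _ _ _ hI).symm ≪≫ eqToIso (by rfl) ≪≫ tensCongr (Iso.refl _)
      (eqToIso (by push_cast; rfl) ≪≫ eL)
  exact @AmpCrit.subsingleton_HH_of_iso _ _ _
    ((tensCongr (Iso.refl F) e1 ≪≫ (tensAssoc _ _ _).symm).symm) p hv

end


open CategoryTheory AlgebraicGeometry in
/-- Let A be a Noetherian graded ring (graded by ℕ as an R-algebra), X = Proj A, F a coherent O_X-module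
and p > 0. Then the twists F(d) = F ⊗ O_X(d) have vanishing H^p for every sufficiently large d. -/
theorem result {R A : Type u} [CommRing R] [CommRing A] [Algebra R A]
    (𝒜 : ℕ → Submodule R A) [GradedAlgebra 𝒜] [IsNoetherianRing A] (F : (Proj 𝒜).Modules) (hF : Coh.IsCoh F)
    (p : ℕ) (hp : 0 < p) :
    ∃ d₀ : ℤ, ∀ d : ℤ, d₀ ≤ d → Subsingleton (Coh.HH (Proj 𝒜) (Twist.twistBy 𝒜 F d) p) := by
  exact main 𝒜 F hF p hp

end Groth.Agent.S0847
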