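import Groth.Statements.S0854
import Groth.Agent.CohTop.RestrictPush

set_option autoImplicit false
universe u
open CategoryTheory
open CohTop

namespace Groth.Agent.S0854

open TopologicalSpace in
/-- For abelian sheaves, one degree at a time: for a continuous map f : X -> Y, an abelian sheaf F on X,
an open V of Y and g : f^{-1}(V) -> V the restriction of f, the restriction of R^p f_* F to V is
isomorphic to R^p g_* (F|_{f^{-1} V}). -/
theorem result {X Y : TopCat.{u}} (f : X ⟶ Y) (F : CohTop.Ab X)
    (V : Opens Y) (p : ℕ) :
    Nonempty (CohTop.restr ((CohTop.Rpush f p).obj F) V ≅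
      (CohTop.Rpush (TopCat.ofHom ⟨(V : Set Y).restrictPreimage f, f.hom.continuous.restrictPreimage⟩ :
          TopCat.of ((Opens.map f).obj V) ⟶ TopCat.of V) p).obj
        (CohTop.restr F ((Opens.map f).obj V))) := by
  exact ⟨Groth.Agent.CohTop.RestrictPush.RpushRestrIso f V F p⟩

end Groth.Agent.S0854
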