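import Groth.Statements.S0857
import Groth.Agent.SiteCoh.Free
import Groth.Agent.SiteCoh.DimShift

set_option autoImplicit false
universe u
open CategoryTheory
open CohSite

namespace Groth.Agent.S0857

open Opposite CategoryTheory.Limits in
/-- For a family of abelian sheaves F_i on a site and an object U, the map H^1(U, ∏ F_i) -> ∏ H^1(U,
F_i) induced by the projections is injective. (The degree-zero part of the published statement, that
sections of a product are the product of sections, is not restated.) -/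
theorem result {C : Type u} [SmallCategory C] {J : GrothendieckTopology C}
    {I : Type u} (F : I → Sheaf J AddCommGrpCat.{u}) (U : C) :
    Function.Injective (fun (x : CohSite.HU (∏ᶜ F) 1 U) (i : I) =>
      (((Sheaf.cohomologyPresheafFunctor J 1).map (Pi.π F i)).app (op U)).hom x) := by
  intro x x' hxx
  obtain ⟨z, rfl⟩ : ∃ z, x = x' + z := ⟨x - x', by abel⟩
  have hz : ∀ i, (Abelian.Ext.comp z (Abelian.Ext.mk₀ (Limits.Pi.π F i)) (add_zero 1)) = 0 := fun i => by
    have h := congrFun hxx i
    simp only [map_add, add_eq_left] at h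
    exact h
  suffices z = 0 by simp [this]
  clear hxx x'
  let T : I → ShortComplex (Sheaf J AddCommGrpCat.{u}) := fun i => SiteCoh.DimShift.inj (F i)
  have hT : ∀ i, (T i).ShortExact := fun i => SiteCoh.DimShift.inj_shortExact (F i)
  let m : ∏ᶜ F ⟶ ∏ᶜ fun i => (T i).X₂ := Limits.Pi.map fun i => (T i).f
  let q : (∏ᶜ fun i => (T i).X₂) ⟶ ∏ᶜ fun i => (T i).X₃ := Limits.Pi.map fun i => (T i).g
  have : ∀ i, Mono (T i).f := fun i => (hT i).mono_f
  have hmq : m ≫ q = 0 := by
    refine Limits.Pi.hom_ext _ _ fun i => ?_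
    simp only [m, q, Category.assoc, Limits.Pi.map_π, Limits.Pi.map_π_assoc, zero_comp]
    exact (congrArg (Limits.Pi.π F i ≫ ·) (T i).zero).trans comp_zero
  have hex : (ShortComplex.mk m q hmq).Exact := by
    refine ShortComplex.exact_of_f_is_kernel _ (KernelFork.IsLimit.ofι' m hmq fun {A} k hk => ?_)
    have : ∀ i, { l : A ⟶ F i // l ≫ (T i).f = k ≫ Limits.Pi.π (fun i => (T i).X₂) i } := fun i =>
      KernelFork.IsLimit.lift' (hT i).exact.fIsKernel _ (by
        have h := congrArg (· ≫ Limits.Pi.π (fun i => (T i).X₃) i) hk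
        simpa [q] using h)
    exact ⟨Limits.Pi.lift fun i => (this i).1, Limits.Pi.hom_ext _ _ fun i => by simp [m, (this i).2]⟩
  let S : ShortComplex (Sheaf J AddCommGrpCat.{u}) :=
    ShortComplex.mk m (cokernel.π m) (cokernel.condition m)
  have hS : S.ShortExact :=
    { exact := ShortComplex.exact_of_g_is_cokernel S (cokernelIsCokernel m)
      mono_f := inferInstanceAs (Mono (Limits.Pi.map fun i => (T i).f))
      epi_g := coequalizer.π_epi }
  have : Injective S.X₂ := inferInstanceAs (Injective (∏ᶜ fun i => (T i).X₂))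
  obtain ⟨y, rfl⟩ := SiteCoh.DimShift.exists_delta hS 0 (M := CohCx.freeSheaf J U) z
  obtain ⟨g, rfl⟩ := (Abelian.Ext.mk₀_bijective _ _).2 y
  let c : ∀ i, S.X₃ ⟶ (T i).X₃ := fun i =>
    cokernel.desc m (Limits.Pi.π (fun i => (T i).X₂) i ≫ (T i).g) (by
      rw [← Category.assoc, Limits.Pi.map_π, Category.assoc, (T i).zero, comp_zero])
  let φ : ∀ i, S ⟶ T i := fun i =>
    { τ₁ := Limits.Pi.π F i
      τ₂ := Limits.Pi.π (fun i => (T i).X₂) i
      τ₃ := c i
      comm₁₂ := (Limits.Pi.map_π (fun i => (T i).f) i).symm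
      comm₂₃ := (cokernel.π_desc _ _ _).symm }
  have hl : ∀ i, ∃ a : CohCx.freeSheaf J U ⟶ (T i).X₂, a ≫ (T i).g = g ≫ c i := fun i => by
    have h := hz i
    rw [Abelian.Ext.comp_assoc_of_third_deg_zero] at h
    erw [ShortComplex.ShortExact.extClass_naturality hS (hT i) (φ i)] at h
    rw [← Abelian.Ext.comp_assoc_of_second_deg_zero, Abelian.Ext.mk₀_comp_mk₀] at h
    obtain ⟨w, hw⟩ := Abelian.Ext.covariant_sequence_exact₃ _ (hT i) _ rfl h
    obtain ⟨a, rfl⟩ := (Abelian.Ext.mk₀_bijective _ _).2 w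
    rw [Abelian.Ext.mk₀_comp_mk₀] at hw
    exact ⟨a, (Abelian.Ext.mk₀_bijective _ _).1 hw⟩
  choose a ha using hl
  have hg : Limits.Pi.lift a ≫ S.g = g := by
    have := ShortComplex.exact_iff_mono_cokernel_desc (ShortComplex.mk m q hmq) |>.1 hex
    rw [← cancel_mono (cokernel.desc m q hmq)]
    refine Limits.Pi.hom_ext _ _ fun i => ?_
    have hc : cokernel.desc m q hmq ≫ Limits.Pi.π (fun i => (T i).X₃) i = c i := by
      rw [← cancel_epi (cokernel.π m)]
      simp [c, q]
    simp only [Category.assoc, hc, ← ha i]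
    simp [S, c]
  rw [← hg]
  exact SiteCoh.DimShift.delta_comp_eq_zero hS _ _

end Groth.Agent.S0857
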