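import Groth.Statements.S0859
import Groth.Agent.SiteCoh.CechCover

set_option autoImplicit false
universe u
open CategoryTheory
open CohSite

namespace Groth.Agent.S0859

open Opposite CategoryTheory.Limits in
/-- Consider abelian sheaves F ⊂ G with quotient H on a site with fibre products, and an object U. If
every covering sieve of U can be refined by a covering family with respect to which the first Cech
cohomology group of F vanishes, then G(U) -> H(U) is surjective. -/
theorem result {C : Type u} [SmallCategory C] [HasPullbacks C]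
    {J : GrothendieckTopology C} (S : ShortComplex (Sheaf J AddCommGrpCat.{u})) (hS : S.ShortExact)
    (U : C)
    (h : ∀ T ∈ J U, ∃ (ι : Type u) (Y : ι → Over U), (∀ i, T.arrows (Y i).hom) ∧
      Sieve.ofArrows (fun i => (Y i).left) (fun i => (Y i).hom) ∈ J U ∧
      IsZero (CohCx.cechH S.X₁.obj Y 1)) :
    Function.Surjective (S.g.hom.app (op U)) := by
  intro b
  obtain ⟨g, rfl⟩ := (SiteCoh.Free.sectionEquiv J U S.X₃).surjective b
  have := hS.epi_g
  have h1 : Sheaf.IsLocallySurjective S.g := (Sheaf.isLocallySurjective_iff_epi' _ S.g).2 inferInstance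
  obtain ⟨ι, Y, hT, hY, hz⟩ := h _ (Presheaf.imageSieve_mem J S.g.hom (SiteCoh.Free.sectionEquiv J U S.X₃ g))
  obtain ⟨a, ha⟩ := SiteCoh.CechCover.exists_lift_resolution Y J S.g g hT
  have := SiteCoh.CechCover.quasiIso_resolution Y J hY
  obtain ⟨a', ha'⟩ := SiteCoh.Cartan.exists_lift_of_exactAt (SiteCoh.CechCover.resolution Y J) hS
    ((HomologicalComplex.exactAt_iff_isZero_homology _ _).2
      (SiteCoh.CechCover.isZero_homology_homCx Y J S.X₁ 1 hz)) g a ha
  exact ⟨SiteCoh.Free.sectionEquiv J U S.X₂ a', by rw [← SiteCoh.Free.sectionEquiv_comp, ha']⟩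

end Groth.Agent.S0859
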