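import Groth.Statements.S0861
import Groth.Agent.SiteCoh.CechCover

set_option autoImplicit false
universe u
open CategoryTheory
open CohSite

namespace Groth.Agent.S0861

open CategoryTheory.Limits in
/-- Let C be a site with fibre products, B a class of objects and Cov a class of covering families
(indexed families of objects over a member of B). Assume: (1) for a family in Cov over U, U and all
iterated fibre products U_{i_0} x_U ... x_U U_{i_p} lie in B; (2) every covering sieve of a member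
of B contains a family from Cov; (3) the abelian sheaf F has vanishing Cech cohomology in positive
degrees for every family in Cov. Then H^p(U, F) = 0 for all p > 0 and U in B. -/
theorem result {C : Type u} [SmallCategory C] [HasPullbacks C]
    (J : GrothendieckTopology C) (B : Set C) (Cov : ∀ (U : C) (ι : Type u), (ι → Over U) → Prop)
    (h1 : ∀ (U : C) (ι : Type u) (Y : ι → Over U), Cov U ι Y → U ∈ B ∧
      Sieve.ofArrows (fun i => (Y i).left) (fun i => (Y i).hom) ∈ J U ∧
      ∀ (p : ℕ) (a : Fin (p + 1) → ι), (∏ᶜ fun k => Y (a k)).left ∈ B)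
    (h2 : ∀ U ∈ B, ∀ T ∈ J U, ∃ (ι : Type u) (Y : ι → Over U), Cov U ι Y ∧ ∀ i, T.arrows (Y i).hom)
    (F : Sheaf J AddCommGrpCat.{u})
    (h3 : ∀ (U : C) (ι : Type u) (Y : ι → Over U), Cov U ι Y → ∀ p : ℕ, IsZero (CohCx.cechH F.obj Y (p + 1)))
    (U : C) (hU : U ∈ B) (p : ℕ) : Subsingleton (CohSite.HU F (p + 1) U) := by
  let γ := Σ' (V : C) (ι : Type u) (Y : ι → Over V), Cov V ι Y
  refine SiteCoh.Cartan.cartan (A := Sheaf J AddCommGrpCat.{u}) (γ := γ)
    (fun b : B => CohCx.freeSheaf J b.1)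
    (fun c => ⟨c.1, (h1 _ _ _ c.2.2.2).1⟩) (fun c => SiteCoh.CechCover.cx c.2.2.1 J)
    (fun c => SiteCoh.CechCover.resolution c.2.2.1 J)
    (fun c => SiteCoh.CechCover.quasiIso_resolution c.2.2.1 J (h1 _ _ _ c.2.2.2).2.1)
    ?_ ?_ p F (fun c k => SiteCoh.CechCover.isZero_homology_homCx c.2.2.1 J F (k + 1)
      (h3 _ _ _ c.2.2.2 k)) ⟨U, hU⟩
  · rintro ⟨V, hV⟩ X Z g _ h
    have hg : Sheaf.IsLocallySurjective g := (Sheaf.isLocallySurjective_iff_epi' _ g).2 inferInstance
    obtain ⟨ι, Y, hc, hT⟩ := h2 V hV _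
      (Presheaf.imageSieve_mem J g.hom (SiteCoh.Free.sectionEquiv J V Z h))
    obtain ⟨a, ha⟩ := SiteCoh.CechCover.exists_lift_resolution Y J g h hT
    exact ⟨⟨V, ι, Y, hc⟩, rfl, a, by simpa using ha⟩
  · intro c n G hG
    exact SiteCoh.CechCover.subsingleton_ext_one_of_bijective _
      (SiteCoh.CechCover.summand_bijective c.2.2.1 J n) G
      (fun k => hG ⟨_, (h1 _ _ _ c.2.2.2).2.2 n k⟩)

end Groth.Agent.S0861
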