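import Groth.Statements.S0866
import Groth.Agent.IrrFlasque.Basic
-- import your own Groth.Agent.* helpers here

set_option autoImplicit false
universe u
open CategoryTheory
open CohTop

namespace Groth.Agent.S0866

/-- The first step of the Godement resolution, for abelian sheaves: let f : X_disc -> X be the identity
map from X with the discrete topology. For an abelian sheaf F on X, the adjunction unit F -> f_*
f^{-1} F is a monomorphism and f_* f^{-1} F is a flasque sheaf. (The source builds the whole
functorial flasque resolution by iterating f_* f^{-1} and proves it is a stalkwise homotopy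
equivalence; only this first step is asserted here.) -/
theorem result {X : TopCat.{u}} (F : CohTop.Ab X) :
    Mono ((TopCat.Sheaf.pullbackPushforwardAdjunction AddCommGrpCat.{u}
      (TopCat.adj₁.counit.app X)).unit.app F) ∧
    TopCat.Sheaf.IsFlasque ((CohTop.push (TopCat.adj₁.counit.app X)).obj
      ((CohTop.pull (TopCat.adj₁.counit.app X)).obj F)) := by
  constructor
  · let f := TopCat.adj₁.counit.app X
    let G : CohTop.Ab ((forget TopCat ⋙ TopCat.discrete).obj X) :=
      ⟨Groth.Agent.IrrFlasque.piPresheaf fun x => CohTop.stalk F (f x),
        Groth.Agent.IrrFlasque.isSheaf_piPresheaf _⟩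
    let θ : F ⟶ (CohTop.push f).obj G :=
      ⟨{ app := fun U => AddCommGrpCat.ofHom
          { toFun := fun s x => TopCat.Presheaf.germ F.obj U.unop (f x.1) x.2 s
            map_zero' := funext fun x => map_zero (TopCat.Presheaf.germ F.obj U.unop (f x.1) x.2).hom
            map_add' := fun s t => funext fun x =>
              map_add (TopCat.Presheaf.germ F.obj U.unop (f x.1) x.2).hom s t }
         naturality := fun U V i => by
           ext s
           funext x
           exact TopCat.Presheaf.germ_res_apply F.obj i.unop (f x.1) x.2 s }⟩
    have hθ : Mono θ := by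
      have : ∀ W, Mono (θ.hom.app W) := fun W => by
        rw [AddCommGrpCat.mono_iff_injective]
        intro s t h
        refine TopCat.Presheaf.section_ext F W.unop s t fun x hx => ?_
        exact congrFun h ⟨x, hx⟩
      have : Mono θ.hom := NatTrans.mono_of_mono_app _
      exact (sheafToPresheaf _ _).mono_of_mono_map this
    let adj := TopCat.Sheaf.pullbackPushforwardAdjunction AddCommGrpCat.{u} f
    exact @mono_of_mono_fac _ _ _ _ _ _ _ θ hθ ((adj.homEquiv_unit ..).symm.trans
      ((adj.homEquiv _ _).apply_symm_apply θ))
  · exact ⟨fun {U V} i => by
      haveI : DiscreteTopology ((forget TopCat ⋙ TopCat.discrete).obj X) := ⟨rfl⟩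
      rw [AddCommGrpCat.epi_iff_surjective]
      exact Groth.Agent.IrrFlasque.surjective_res_discrete (Y := (forget TopCat ⋙ TopCat.discrete).obj X)
        ((CohTop.pull (TopCat.adj₁.counit.app X)).obj F) ((TopologicalSpace.Opens.map (TopCat.adj₁.counit.app X)).op.map i)⟩

end Groth.Agent.S0866
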