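import Groth.Statements.S0871
import Groth.Agent.CohTop.NegVanish
import Groth.Agent.S0488

set_option autoImplicit false
universe u
open CategoryTheory
open CohTop

namespace Groth.Agent.S0871

open TopologicalSpace Opposite CategoryTheory.Limits Groth.Agent.CohTop.NegVanish
  Groth.Agent.HyperCech

variable {X : TopCat.{u}} {W : TopCat.{u}}

/-- The two groups of classes agree. -/
theorem nonempty_equiv [HasDerivedCategory.{u} (CohTop.Ab X)] [HasDerivedCategory.{u} (CohTop.Ab W)]
    {K₀ I : CochainComplex (CohTop.Ab X) ℤ} (φ : K₀ ⟶ I) [QuasiIso φ] [I.IsKInjective]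
    {K₁ I' : CochainComplex (CohTop.Ab W) ℤ} (φ' : K₁ ⟶ I') [QuasiIso φ'] [I'.IsKInjective]
    (p : ℤ) (V : Opens X) (V' : Opens W)
    (e : ∀ q, (I.X q).obj.obj (op V) ≃+ (I'.X q).obj.obj (op V'))
    (he : ∀ q q' x, (I'.d q q').hom.app (op V') (e q x) = e q' ((I.d q q').hom.app (op V) x)) :
    Nonempty (CohCx.HDU ((DerivedCategory.Q (C := CohTop.Ab X)).obj K₀) p V ≃+
      CohCx.HDU ((DerivedCategory.Q (C := CohTop.Ab W)).obj K₁) p V') := by
  have hex : ∀ z : (I.cycles p).obj.obj (op V), ∃ z' : (I'.cycles p).obj.obj (op V'),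
      (I'.iCycles p).hom.app _ z' = e p ((I.iCycles p).hom.app _ z) := fun z =>
    exists_cycle I' p (p + 1) rfl _ _ (by rw [he, iCycles_app_d, map_zero])
  choose g hg using hex
  let g' : (I.cycles p).obj.obj (op V) →+ (I'.cycles p).obj.obj (op V') :=
    AddMonoidHom.mk' g fun a b => iCycles_app_injective I' p _ (by
      rw [hg]
      erw [map_add, map_add, map_add, hg, hg])
  let ψ := (Zq.app φ' p V').comp g'
  have hsurj : Function.Surjective ψ := fun x => by
    obtain ⟨z', rfl⟩ := Zq.app_surjective φ' p V' x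
    obtain ⟨z, hz⟩ := exists_cycle I p (p + 1) rfl (op V) ((e p).symm ((I'.iCycles p).hom.app _ z'))
      (by
        apply (e (p + 1)).injective
        rw [← he, AddEquiv.apply_symm_apply, iCycles_app_d, map_zero])
    refine ⟨z, congrArg (Zq.app φ' p V') (iCycles_app_injective I' p _ ?_)⟩
    exact (hg z).trans (by rw [hz, AddEquiv.apply_symm_apply])
  have hker : ∀ z, Zq.app φ p V z = 0 ↔ ψ z = 0 := fun z => by
    refine (Zq.app_eq_zero_iff φ p V z).trans (Iff.trans ?_ (Zq.app_eq_zero_iff φ' p V' (g z)).symm)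
    refine ⟨fun ⟨t, ht⟩ => ⟨e (p - 1) t, iCycles_app_injective I' p _ ?_⟩, fun ⟨t, ht⟩ =>
      ⟨(e (p - 1)).symm t, iCycles_app_injective I p _ ((e p).injective ?_)⟩⟩
    · exact (toCycles_app I' (p - 1) p _ _).trans ((he (p - 1) p t).trans
        ((congrArg (e p) ((toCycles_app I (p - 1) p _ t).symm.trans (congrArg _ ht))).trans (hg z).symm))
    · refine (congrArg (e p) (toCycles_app I (p - 1) p _ _)).trans ((he (p - 1) p _).symm.trans ?_)
      rw [AddEquiv.apply_symm_apply]
      exact ((toCycles_app I' (p - 1) p _ t).symm.trans (congrArg _ ht)).trans (hg z)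
  let Φ := AddMonoidHom.liftOfSurjective (Zq.app φ p V) (Zq.app_surjective φ p V)
    ⟨ψ, fun z hz => (hker z).1 hz⟩
  have hΦ : ∀ z, Φ (Zq.app φ p V z) = ψ z := fun z => AddMonoidHom.liftOfRightInverse_comp_apply _ _ _ _ z
  refine ⟨AddEquiv.ofBijective Φ ⟨(injective_iff_map_eq_zero Φ).2 fun x hx => ?_, fun y => ?_⟩⟩
  · obtain ⟨z, rfl⟩ := Zq.app_surjective φ p V x
    exact (hker z).2 ((hΦ z).symm.trans hx)
  · obtain ⟨z, rfl⟩ := hsurj y
    exact ⟨_, hΦ z⟩


open TopologicalSpace CategoryTheory.Limits in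
/-- For an object K of the derived category of abelian sheaves on X and an open U, H^p(U, K) is
isomorphic to H^p(U, K|_U), where K|_U is the image of K under the functor on derived categories
induced by the (exact) restriction to U. Exactness of restriction is assumed through instance
arguments (true, but not recorded by Mathlib in this generality). -/
theorem result {X : TopCat.{u}} (U : Opens X)
    [HasDerivedCategory.{u} (CohTop.Ab X)] [HasDerivedCategory.{u} (CohTop.Ab (TopCat.of U))]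
    [PreservesFiniteLimits (CohTop.restrFunctor U)] [PreservesFiniteColimits (CohTop.restrFunctor U)]
    (K : DerivedCategory (CohTop.Ab X)) (p : ℤ) :
    Nonempty (CohCx.HDU K p U ≃+ CohCx.HDU ((CohTop.restrFunctor U).mapDerivedCategory.obj K) p ⊤) := by
  let Q := DerivedCategory.Q (C := CohTop.Ab X)
  obtain ⟨K₀, ⟨e⟩⟩ : ∃ K₀, Nonempty (Q.obj K₀ ≅ K) := ⟨_, ⟨Q.objObjPreimageIso K⟩⟩
  let φ := (Groth.Agent.DHA.KInj.resolutionι (CohTop.Ab X)).app K₀
  let R := (CohTop.restrFunctor U).mapHomologicalComplex (ComplexShape.up ℤ)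
  have := Groth.Agent.S0488.result U ((Groth.Agent.DHA.KInj.resolution (CohTop.Ab X)).obj K₀) inferInstance
  have : QuasiIso (R.map φ) := inferInstance
  have hV : U.isOpenEmbedding.functor.obj (⊤ : Opens (TopCat.of U)) = U :=
    Opens.ext (Set.image_univ.trans Subtype.range_coe)
  let eT : (CohTop.restrFunctor U).mapDerivedCategory.obj K ≅
      (DerivedCategory.Q (C := CohTop.Ab (TopCat.of U))).obj (R.obj K₀) :=
    ((CohTop.restrFunctor U).mapDerivedCategory.mapIso e).symm ≪≫
      (CohTop.restrFunctor U).mapDerivedCategoryFactors.app K₀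
  let eX : CohCx.HDU ((DerivedCategory.Q (C := CohTop.Ab X)).obj K₀) p U ≃+ CohCx.HDU K p U :=
    ((preadditiveYoneda.mapIso ((shiftFunctor (DerivedCategory (CohTop.Ab X)) p).mapIso e)).app
      _).addCommGroupIsoToAddEquiv
  let eU : CohCx.HDU ((CohTop.restrFunctor U).mapDerivedCategory.obj K) p ⊤ ≃+
      CohCx.HDU ((DerivedCategory.Q (C := CohTop.Ab (TopCat.of U))).obj (R.obj K₀)) p ⊤ :=
    ((preadditiveYoneda.mapIso
      ((shiftFunctor (DerivedCategory (CohTop.Ab (TopCat.of U))) p).mapIso eT)).app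
      _).addCommGroupIsoToAddEquiv
  let I := (Groth.Agent.DHA.KInj.resolution (CohTop.Ab X)).obj K₀
  let es : ∀ q, (I.X q).obj.obj (Opposite.op U) ≃+ ((R.obj I).X q).obj.obj (Opposite.op ⊤) := fun q =>
    ((I.X q).obj.mapIso (eqToIso (congrArg Opposite.op hV.symm))).addCommGroupIsoToAddEquiv
  obtain ⟨E⟩ := nonempty_equiv φ (R.map φ) p U ⊤ es (fun q q' x =>
    ConcreteCategory.congr_hom ((I.d q q').hom.naturality _) x)
  exact ⟨(eX.symm.trans E).trans eU.symm⟩

end Groth.Agent.S0871
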