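import Groth.Statements.S0872
import Groth.Agent.CohDerLib.Compact.Site

set_option autoImplicit false
universe u
open CategoryTheory
open CohSite

namespace Groth.Agent.S0872

open Opposite CategoryTheory.Limits in
/-- Abelian sheaves, O = Z: let U be an object of a site such that for some d, H^p(U, F) = 0 for all p >
d and all abelian sheaves F, and each functor F ↦ H^p(U, F) preserves direct sums. Then the free
abelian sheaf Z[h_U]^# (that is, j_! Z_U), viewed in degree zero, is a compact object of the derived
category of abelian sheaves (maps out of it commute with direct sums; the existence of direct sums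
in the derived category is assumed). -/
theorem result {C : Type u} [SmallCategory C] (J : GrothendieckTopology C) (U : C)
    [HasDerivedCategory.{u} (Sheaf J AddCommGrpCat.{u})]
    [HasCoproducts.{u} (DerivedCategory (Sheaf J AddCommGrpCat.{u}))]
    (d : ℕ) (h1 : ∀ (F : Sheaf J AddCommGrpCat.{u}) (p : ℕ), d < p → Subsingleton (CohSite.HU F p U))
    (h2 : ∀ (p : ℕ) (ι : Type u), PreservesColimitsOfShape (Discrete ι)
      ((Sheaf.cohomologyPresheafFunctor J p).flip.obj (op U))) :
    CohDer.IsCompactObject ((DerivedCategory.singleFunctor (Sheaf J AddCommGrpCat.{u}) 0).obj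
      (CohCx.freeSheaf J U)) := by
  intro ι X
  let A := Sheaf J AddCommGrpCat.{u}
  let K : ι → CochainComplex A ℤ := fun i =>
    (DHA.KInj.resolution A).obj (DerivedCategory.Q.objPreimage (X i))
  let e : ∀ i, DerivedCategory.Q.obj (K i) ≅ X i := fun i =>
    (asIso (DerivedCategory.Q.map ((DHA.KInj.resolutionι A).app
      (DerivedCategory.Q.objPreimage (X i))))).symm ≪≫ DerivedCategory.Q.objObjPreimageIso (X i)
  exact CohDerLib.Compact.homSum_bijective_site (fun p => h2 p ι) X K e (Or.inl ⟨d, h1⟩)

end Groth.Agent.S0872
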