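import Groth.Statements.S0875
import Groth.Agent.CohDerLib.HComp.Tower

set_option autoImplicit false
universe u
open CategoryTheory
open CohTop

namespace Groth.Agent.S0875

open TopologicalSpace CategoryTheory.Limits in
/-- Let E be an object of the derived category of abelian sheaves on X. Assume every point x has a
function p(x, -) and a fundamental system of open neighbourhoods U with H^p(U, H^{m-p}(E)) = 0 for
all m and all p > p(x, m). Then E is a derived limit of the tower of its truncations τ_{≥ -n} E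
through the canonical maps E -> τ_{≥ -n} E (equivalently, E -> R lim τ_{≥ -n} E is an isomorphism).
The existence of the countable product of the truncations is assumed. -/
theorem result {X : TopCat.{u}}
    [HasDerivedCategory.{u} (CohTop.Ab X)] (E : DerivedCategory (CohTop.Ab X))
    [HasProduct (CohCx.truncTower E)]
    (h : ∀ x : X, ∃ p : ℤ → ℤ, ∀ V : Opens X, x ∈ V → ∃ U : Opens X, x ∈ U ∧ U ≤ V ∧
      ∀ (m : ℤ) (k : ℕ), p m < k → Subsingleton (CohTop.HU (CohCx.HD E (m - k)) k U)) :
    CohCx.IsRlimVia (CohCx.truncTower E) (CohCx.truncTowerMap E) E (CohCx.toTruncTower E) := by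
  refine CohDerLib.HComp.isRlimVia_truncTower E fun U m T hT => ?_
  have key : ∀ x : U, ∃ (j : ℕ) (W : Opens X) (i : W ⟶ U), (x : X) ∈ W ∧ T j i ∧
      ∀ k : ℕ, m + j < (k : ℤ) → Subsingleton (CohTop.HU (CohCx.HD E (m - k)) k W) := by
    intro x
    obtain ⟨p, hp⟩ := h x.1
    obtain ⟨V, i, hi, hxV⟩ := hT (p m - m).toNat x.1 x.2
    obtain ⟨W, hxW, hWV, hW⟩ := hp V hxV
    exact ⟨_, W, homOfLE hWV ≫ i, hxW, (T _).downward_closed hi _, fun k hk => hW m k (by omega)⟩
  choose j W i hxW hiT hgood using key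
  refine ⟨U, W, i, fun x hx => ?_, fun x => ⟨j x, hiT x, hgood x⟩⟩
  exact ⟨W ⟨x, hx⟩, i ⟨x, hx⟩, Sieve.ofArrows_mk _ _ _, hxW ⟨x, hx⟩⟩

end Groth.Agent.S0875
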