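import Groth.Statements.S0879
import Groth.Agent.SiteCoh.RlimSingle
import Groth.Agent.S0478

set_option autoImplicit false
universe u
open CategoryTheory
open CohSite

namespace Groth.Agent.S0879

open Opposite CategoryTheory.Limits in
/-- Let (F_n) be an inverse system of abelian sheaves on a site and B a class of objects such that every
object is covered by members of B, H^p(U, F_n) = 0 for p > 0 and U in B, and the system of sections
F_n(U) has vanishing R^1 lim for U in B. Then lim F_n (in degree zero) is a derived limit of (F_n)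
in the derived category and H^p(U, lim F_n) = 0 for p > 0 and U in B. -/
theorem result {C : Type u} [SmallCategory C]
    {J : GrothendieckTopology C} [HasDerivedCategory.{u} (Sheaf J AddCommGrpCat.{u})]
    (F : ℕ → Sheaf J AddCommGrpCat.{u}) (t : ∀ n, F (n + 1) ⟶ F n)
    [HasProduct fun n => (DerivedCategory.singleFunctor (Sheaf J AddCommGrpCat.{u}) 0).obj (F n)]
    (B : Set C)
    (hB : ∀ U : C, ∃ (ι : Type u) (Y : ι → C) (f : ∀ i, Y i ⟶ U), Sieve.ofArrows Y f ∈ J U ∧ ∀ i, Y i ∈ B)
    (h1 : ∀ U ∈ B, ∀ (p n : ℕ), Subsingleton (CohSite.HU (F n) (p + 1) U))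
    (h2 : ∀ U ∈ B, CohCx.LimOneIsZero (fun n => (F n).obj.obj (op U)) (fun n => ((t n).hom.app (op U)).hom)) :
    DCoh.IsRlim (fun n => (DerivedCategory.singleFunctor _ 0).obj (F n))
      (fun n => (DerivedCategory.singleFunctor _ 0).map (t n))
      ((DerivedCategory.singleFunctor _ 0).obj (limit (CohCx.opSequence F t))) ∧
    ∀ U ∈ B, ∀ p : ℕ, Subsingleton (CohSite.HU (limit (CohCx.opSequence F t)) (p + 1) U) := by
  have hp : Limits.HasProducts.{u} (DerivedCategory (Sheaf J AddCommGrpCat.{u})) := Groth.Agent.S0478.result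
  have : Limits.HasLimitsOfShape (Discrete ℕ) (DerivedCategory (Sheaf J AddCommGrpCat.{u})) :=
    have := hp (ULift.{u} ℕ)
    Limits.hasLimitsOfShape_of_equivalence (Discrete.equivalence Equiv.ulift.{u})
  exact Groth.Agent.SiteCoh.RlimSingle.main F t B hB h1 h2


end Groth.Agent.S0879
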