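import Groth.Statements.S0883
import Groth.Agent.CohTop.NegVanish

set_option autoImplicit false
universe u
open CategoryTheory
open CohTop

namespace Groth.Agent.S0883

open TopologicalSpace in
/-- Part (1) (abelian sheaves; the assertion about Rf_* K is not included): given a continuous map f : X
-> Y, a basis B of opens of Y and an object K of the derived category of abelian sheaves on X such
that H^i(f^{-1}V, K) = 0 for all i < 0 and V in B. Then H^i(f^{-1}V, K) = 0 for i < 0 and every open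
V of Y, and the presheaf V ↦ H^0(f^{-1}V, K) is a sheaf on Y. -/
theorem result {X Y : TopCat.{u}} (f : X ⟶ Y)
    [HasDerivedCategory.{u} (CohTop.Ab X)] (B : Set (Opens Y)) (hB : Opens.IsBasis B)
    (K : DerivedCategory (CohTop.Ab X))
    (h : ∀ V ∈ B, ∀ i : ℤ, i < 0 → Subsingleton (CohCx.HDU K i ((Opens.map f).obj V))) :
    (∀ (V : Opens Y) (i : ℤ), i < 0 → Subsingleton (CohCx.HDU K i ((Opens.map f).obj V))) ∧
    Presheaf.IsSheaf (Opens.grothendieckTopology Y) ((Opens.map f).op ⋙ CohCx.HDUPresheaf K 0) := by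
  let Q := DerivedCategory.Q (C := CohTop.Ab X)
  obtain ⟨K₀, ⟨e⟩⟩ : ∃ K₀, Nonempty (Q.obj K₀ ≅ K) := ⟨_, ⟨Q.objObjPreimageIso K⟩⟩
  let J := Opens.grothendieckTopology X
  let eP : ∀ i : ℤ, CohCx.HDUPresheaf (Q.obj K₀) i ≅ CohCx.HDUPresheaf K i := fun i =>
    Functor.isoWhiskerLeft _ (preadditiveYoneda.mapIso ((shiftFunctor (DerivedCategory (CohTop.Ab X)) i).mapIso e))
  have h' : ∀ V ∈ B, ∀ i : ℤ, i < 0 → Subsingleton (CohCx.HDU (Q.obj K₀) i ((Opens.map f).obj V)) := by
    intro V hV i hi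
    have : Subsingleton ((CohCx.HDUPresheaf K i).obj (Opposite.op ((Opens.map f).obj V)) : Type u) :=
      h V hV i hi
    exact ((eP i).app (Opposite.op ((Opens.map f).obj V))).addCommGroupIsoToAddEquiv.toEquiv.subsingleton
  let φ := (Groth.Agent.DHA.KInj.resolutionι (CohTop.Ab X)).app K₀
  refine ⟨fun V i hi => ?_, ?_⟩
  · have : Subsingleton ((CohCx.HDUPresheaf (Q.obj K₀) i).obj (Opposite.op ((Opens.map f).obj V)) : Type u) :=
      Groth.Agent.CohTop.NegVanish.subsingleton_HDU f _ φ B hB h' V i hi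
    exact ((eP i).app (Opposite.op ((Opens.map f).obj V))).symm.addCommGroupIsoToAddEquiv.toEquiv.subsingleton
  · exact (Presheaf.isSheaf_of_iso_iff (Functor.isoWhiskerLeft (Opens.map f).op (eP 0))).1
      (Groth.Agent.CohTop.NegVanish.isSheaf_HDU_zero f _ φ B hB h')

end Groth.Agent.S0883
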