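import Groth.Statements.S0884
import Groth.Agent.CohTop.SpectralNbhd
import Groth.Agent.CohTop.Proper.Profinite

set_option autoImplicit false
universe u
open CategoryTheory
open CategoryTheory CategoryTheory.Limits
open CohTop

namespace Groth.Agent.S0884

open TopologicalSpace in
/-- Let f : X -> Y be a spectral map of spectral spaces, y a point of Y, E ⊆ Y the set of points
specializing to y, and F an abelian sheaf on X. Then the stalk (R^p f_* F)_y is isomorphic to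
H^p(f^{-1}(E), F|_{f^{-1}(E)}), the cohomology of the pullback of F to the subspace f^{-1}(E). -/
theorem result {X Y : TopCat.{u}} [SpectralSpace X] [SpectralSpace Y]
    (f : X ⟶ Y) (hf : IsSpectralMap f) (y : Y) (F : CohTop.Ab X) (p : ℕ) :
    Nonempty (CohTop.stalk ((CohTop.Rpush f p).obj F) y ≃+
      CohTop.H ((CohTop.pull (TopCat.ofHom ⟨Subtype.val, continuous_subtype_val⟩ :
          TopCat.of {x : X | y ∈ closure {f x}} ⟶ X)).obj F) p) := by
  let Z : TopCat.{u} := TopCat.of {x : X | y ∈ closure {f x}}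
  let i : Z ⟶ X := TopCat.ofHom ⟨Subtype.val, continuous_subtype_val⟩
  let κ := {V : Opens Y // IsCompact (V : Set Y) ∧ y ∈ V}
  have : Nonempty κ := ⟨⟨⊤, isCompact_univ, trivial⟩⟩
  let 𝒱 : κ → Opens X := fun k => (Opens.map f).obj k.1
  have hc : ∀ k, IsCompact (𝒱 k : Set X) := fun k =>
    hf.isCompact_preimage_of_isOpen k.1.2 k.2.1
  have hdir : ∀ a b, ∃ c, 𝒱 c ≤ 𝒱 a ⊓ 𝒱 b := fun a b =>
    ⟨⟨a.1 ⊓ b.1, Groth.Agent.CohTop.Spectral.isCompact_inf a.2.1 b.2.1, a.2.2, b.2.2⟩, fun _ h => h⟩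
  have hyi : ∀ (z : Z) (V : Opens Y), y ∈ V → f (i z) ∈ V := fun z V hV =>
    (specializes_iff_mem_closure.2 z.2).mem_open V.2 hV
  have hrange : ∀ x, (∀ k, x ∈ 𝒱 k) → x ∈ Set.range i := fun x hx => by
    refine ⟨⟨x, specializes_iff_mem_closure.1 (specializes_iff_forall_open.2 fun o ho hyo => ?_)⟩, rfl⟩
    obtain ⟨W, hW, hyW, hWo⟩ := Groth.Agent.CohTop.Spectral.exists_compact_nbhd (V := ⟨o, ho⟩) hyo
    exact hWo (hx ⟨W, hW, hyW⟩)
  have ht : Groth.Agent.CohTop.SpectralNbhd.Trace i :=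
    Groth.Agent.CohTop.SpectralNbhd.trace_of_family Topology.IsInducing.subtypeVal 𝒱 hc hdir
      (fun z k => hyi z k.1 k.2.2) hrange
  have hbase : ∀ U : Opens X, (∀ z, i z ∈ U) → ∃ V : Opens Y, y ∈ V ∧ (Opens.map f).obj V ≤ U :=
    fun U hU => by
      obtain ⟨k, hk⟩ := Groth.Agent.CohTop.SpectralNbhd.exists_member 𝒱 hc hdir ⊤ isCompact_univ U
        fun x _ hx => by
          obtain ⟨z, rfl⟩ := hrange x hx
          exact hU z
      exact ⟨k.1, k.2.2, fun x hx => hk ⟨trivial, hx⟩⟩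
  obtain ⟨e⟩ := Groth.Agent.CohTop.SpectralNbhd.nonempty_stalk_iso f y hyi ht hbase F p
  exact ⟨e.addCommGroupIsoToAddEquiv⟩

end Groth.Agent.S0884
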