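import Groth.Statements.S0885
import Mathlib
import Groth.Agent.CohTop.CechBasic

set_option autoImplicit false
universe u
open CategoryTheory
open CohTop

namespace Groth.Agent.S0885

open CategoryTheory CategoryTheory.Limits TopologicalSpace Opposite
open Groth.Agent.CohAff (res inter Cochain cd cd_apply cd_zero_apply res_res res_self inter_le le_inter inter_comp_le cmp cmp_apply cmp_bijective cmp_d mlCech)
open Groth.Agent.CohTop.CechBasic (augHom augHom_d cmp_augHom)

section
variable {X : TopCat.{u}} (P : TopCat.Presheaf AddCommGrpCat.{u} X) {ι : Type u} (U : ι → Opens X) (i : ι) (hi : U i = iSup U)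

theorem le_cons (hi : U i = iSup U) {n : ℕ} (x : Fin (n + 1) → ι) : inter U x ≤ inter U (Fin.cons i x : Fin (n + 2) → ι) :=
  le_inter fun a => by
    induction a using Fin.cases with
    | zero => rw [Fin.cons_zero, hi]; exact (inter_le U x 0).trans (le_iSup U (x 0))
    | succ a => rw [Fin.cons_succ]; exact inter_le U x a

/-- The contracting homotopy. -/
noncomputable def contr (n : ℕ) : Cochain P U (n + 1) →+ Cochain P U n :=
  AddMonoidHom.mk' (fun s x => res P (le_cons U i hi x) (s (Fin.cons i x))) fun s t => by
    funext x; simp only [Pi.add_apply, map_add]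

theorem res_congr {n : ℕ} (s : Cochain P U n) {x y : Fin (n + 1) → ι} (e : x = y) {W : Opens X}
    (hx : W ≤ inter U x) (hy : W ≤ inter U y) : res P hx (s x) = res P hy (s y) := by
  subst e; rfl

theorem contr_succ (n : ℕ) (s : Cochain P U (n + 1)) :
    cd P U n (contr P U i hi n s) + contr P U i hi (n + 1) (cd P U (n + 1) s) = s := by
  funext x
  rw [Pi.add_apply, cd_apply]
  change _ + res P (le_cons U i hi x) (cd P U (n + 1) s (Fin.cons i x)) = _
  rw [cd_apply, map_sum, Fin.sum_univ_succ (n := n + 2), add_left_comm, ← Finset.sum_add_distrib]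
  refine (congrArg₂ (fun p q => p + q) ?_ ?_).trans (add_zero (s x))
  · simp only [Fin.val_zero, pow_zero, one_smul, res_res]
    refine (res_congr P U s (x := (Fin.cons i x : Fin (n + 3) → ι) ∘ (0 : Fin (n + 3)).succAbove) (y := x) (by funext a; simp) _ le_rfl).trans (res_self _ _ _)
  · refine Finset.sum_eq_zero fun j _ => ?_
    rw [map_zsmul, res_res, Fin.val_succ, pow_succ, mul_smul, ← smul_add]
    change (-1 : ℤ) ^ (j : ℕ) • (res P _ (res P _ (s (Fin.cons i (x ∘ j.succAbove)))) + _) = 0
    rw [res_res, neg_one_smul]
    rw [res_congr P U s (x := (Fin.cons i x : Fin (n + 3) → ι) ∘ j.succ.succAbove) (y := Fin.cons i (x ∘ j.succAbove))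
      (by funext a; induction a using Fin.cases <;> simp [Fin.succ_succAbove_succ]) _ ((inter_comp_le U x j.succAbove).trans (le_cons U i hi _))]
    simp

theorem inter_const_ge (hi : U i = iSup U) : iSup U ≤ inter U (fun _ : Fin 1 => i) :=
  le_inter fun _ => hi.ge

theorem contr_zero (s : Cochain P U 0) (x : Fin 1 → ι) :
    contr P U i hi 0 (cd P U 0 s) x =
      s x - res P ((inter_le U x 0).trans (le_iSup U (x 0))) (res P (inter_const_ge U i hi) (s fun _ => i)) := by
  change res P (le_cons U i hi x) (cd P U 0 s (Fin.cons i x)) = _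
  rw [cd_zero_apply, map_sub, res_res, res_res, res_res]
  congr 1
  · exact (res_congr P U s (by funext a; fin_cases a; simp) _ le_rfl).trans (res_self _ _ _)
  · exact res_congr P U s (by funext a; fin_cases a; simp) _ _

end

open TopologicalSpace Opposite CategoryTheory.Limits in
/-- Let F be a presheaf of abelian groups on a topological space X and (U_i)_{i ∈ ι} a family of open
subsets with union U such that U_i = U for some index i. Then the Čech complex of F with respect to
the family (formed with all ordered tuples of indices) is homotopy equivalent to the complex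
consisting of F(U) placed in degree 0. (The published statement phrases this as contractibility of
the extended Čech complex; stated here as a homotopy equivalence with F(U) in degree zero.) -/
theorem result {X : TopCat.{u}} (F : (Opens X)ᵒᵖ ⥤ AddCommGrpCat.{u})
    {ι : Type u} (U : ι → Opens X) (i : ι) (hi : U i = iSup U) :
    Nonempty (HomotopyEquiv ((CochainComplex.single₀ AddCommGrpCat.{u}).obj (F.obj (op (iSup U))))
      ((cechComplexFunctor U).obj F)) := by
  let C := mlCech F U
  let E : ∀ n, C.X n ≅ AddCommGrpCat.of (Cochain F U n) := fun n =>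
    AddEquiv.toAddCommGrpIso (AddEquiv.ofBijective (cmp F U n) (cmp_bijective F U n))
  let h : ∀ n, C.X (n + 1) ⟶ C.X n := fun n => (E (n + 1)).hom ≫ AddCommGrpCat.ofHom (contr F U i hi n) ≫ (E n).inv
  have hcmp : ∀ n (s : C.X (n + 1)), cmp F U n ((h n).hom s) = contr F U i hi n (cmp F U (n + 1) s) := fun n s =>
    (AddEquiv.ofBijective (cmp F U n) (cmp_bijective F U n)).apply_symm_apply _
  let f0 : C.X 0 ⟶ F.obj (op (iSup U)) :=
    (E 0).hom ≫ AddCommGrpCat.ofHom ((res F (inter_const_ge U i hi)).comp (Pi.evalAddMonoidHom (fun x : Fin 1 → ι => (F.obj (op (inter U x)) : Type u)) fun _ => i))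
  let hom : (CochainComplex.single₀ AddCommGrpCat.{u}).obj (F.obj (op (iSup U))) ⟶ C :=
    (CochainComplex.fromSingle₀Equiv C _).symm ⟨augHom U F, augHom_d U F⟩
  let inv : C ⟶ (CochainComplex.single₀ AddCommGrpCat.{u}).obj (F.obj (op (iSup U))) :=
    (CochainComplex.toSingle₀Equiv C _).symm f0
  have hom0 : hom.f 0 = augHom U F := congrArg Subtype.val ((CochainComplex.fromSingle₀Equiv C (F.obj (op (iSup U)))).apply_symm_apply ⟨augHom U F, augHom_d U F⟩)
  have inv0 : inv.f 0 = f0 := (CochainComplex.toSingle₀Equiv C (F.obj (op (iSup U)))).apply_symm_apply f0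
  refine ⟨⟨hom, inv, Homotopy.ofEq ?_, Homotopy.symm ?_⟩⟩
  · apply HomologicalComplex.to_single_hom_ext
    rw [HomologicalComplex.comp_f, hom0, inv0, HomologicalComplex.id_f]
    ext g
    change res F _ (cmp F U 0 ((augHom U F).hom g) fun _ => i) = g
    exact (congrArg _ (congrFun (cmp_augHom U F g) _)).trans ((res_res _ _ _ _).trans (res_self _ _ _))
  · refine { hom := fun a b => if hab : b + 1 = a then (C.XIsoOfEq hab).inv ≫ h b else 0
             zero := fun a b hab => dif_neg hab
             comm := fun n => ?_ }
    cases n with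
    | zero =>
      rw [Homotopy.dNext_cochainComplex, Homotopy.prevD_zero_cochainComplex]
      simp only [dif_pos]
      ext s
      apply (cmp_bijective F U 0).1
      change cmp F U 0 s = cmp F U 0 ((h 0).hom ((C.d 0 1).hom s) + 0 + (hom.f 0).hom ((inv.f 0).hom s))
      rw [hom0, inv0, add_zero, map_add, hcmp, cmp_d]
      funext x
      rw [Pi.add_apply, contr_zero]
      erw [cmp_augHom]
      change _ = _ + res F _ (res F _ (cmp F U 0 s fun _ => i))
      exact (sub_add_cancel _ _).symm
    | succ n =>
      rw [Homotopy.dNext_cochainComplex, Homotopy.prevD_succ_cochainComplex]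
      simp only [dif_pos]
      ext s
      apply (cmp_bijective F U (n + 1)).1
      have hz : (inv ≫ hom).f (n + 1) = 0 :=
        (HomologicalComplex.comp_f _ _ _).trans (by rw [(HomologicalComplex.isZero_single_obj_X (ComplexShape.up ℕ) 0 (F.obj (op (iSup U))) (n + 1) (by omega)).eq_of_tgt (inv.f (n + 1)) 0, zero_comp])
      rw [hz]
      change cmp F U (n + 1) s = cmp F U (n + 1) ((h (n + 1)).hom ((C.d (n + 1) (n + 2)).hom s) + (C.d n (n + 1)).hom ((h n).hom s) + 0)
      rw [add_zero, map_add, hcmp, cmp_d, cmp_d, hcmp]
      exact ((add_comm _ _).trans (contr_succ F U i hi n _)).symm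

end Groth.Agent.S0885
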