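import Groth.Statements.S0894
import Groth.Prelude.Def_Hyper

set_option autoImplicit false
universe u
open CategoryTheory
open Hyper

namespace Groth.Agent.S0894

open Opposite in
/-- For a hypercovering K of an object X of a site with fibre products (a simplicial semi-representable
object over X; coskeleta are assumed to exist): (1) for each n the family K_n is a covering of X,
and (2) every face map d_i : K_{n+1} -> K_n is a covering morphism of semi-representable objects. -/
theorem result {C : Type u} [SmallCategory C] [Limits.HasPullbacks C]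
    (J : GrothendieckTopology C) (X : C) (K : SimplicialObject (Limits.FormalCoproduct.{u} (Over X)))
    [∀ (n : ℕ) (F : (SimplexCategory.Truncated n)ᵒᵖ ⥤ Limits.FormalCoproduct.{u} (Over X)),
      (SimplexCategory.Truncated.inclusion n).op.HasRightKanExtension F]
    (hK : Hyper.IsHypercovering J X K) :
    (∀ n : ℕ, Sieve.ofArrows (fun i => ((K.obj (op (SimplexCategory.mk n))).obj i).left)
      (fun i => ((K.obj (op (SimplexCategory.mk n))).obj i).hom) ∈ J X) ∧
    ∀ (n : ℕ) (i : Fin (n + 2)), Hyper.IsSRCovering (J.over X) (K.δ i) := by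
  obtain ⟨h0, -⟩ := hK
  refine ⟨fun n => J.superset_covering ?_ h0, fun n i j => ?_⟩
  · intro W g hg
    obtain ⟨a, k, hk⟩ := (Sieve.mem_ofArrows_iff _ _ _).1 hg
    let θ : SimplexCategory.mk n ⟶ SimplexCategory.mk 0 := SimplexCategory.const _ _ 0
    let s := K.map θ.op
    refine (Sieve.mem_ofArrows_iff _ _ _).2 ⟨s.f a, k ≫ (s.φ a).left, ?_⟩
    rw [hk, Category.assoc, Over.w]
  · refine (J.over X).superset_covering ?_ ((J.over X).top_mem _)
    have hs : ∃ s : K.obj (op (SimplexCategory.mk n)) ⟶ K.obj (op (SimplexCategory.mk (n + 1))),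
        s ≫ K.δ i = 𝟙 _ := by
      rcases Fin.eq_zero_or_eq_succ i with rfl | ⟨i, rfl⟩
      · exact ⟨K.σ 0, K.δ_comp_σ_self' rfl⟩
      · exact ⟨K.σ i, K.δ_comp_σ_succ' rfl⟩
    obtain ⟨s, hs⟩ := hs
    intro W g _
    refine (Sieve.mem_ofArrows_iff _ _ _).2 ⟨⟨s.f j, ?_⟩, g ≫ s.φ j, ?_⟩
    · exact congrFun (congrArg Limits.FormalCoproduct.Hom.f hs) j
    · have h := (Limits.FormalCoproduct.hom_ext_iff _ _).1 hs
      obtain ⟨hf, hφ⟩ := h
      rw [Category.assoc]
      refine (Category.comp_id g).symm.trans (congrArg (g ≫ ·) ?_)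
      have := hφ j
      simp only [Limits.FormalCoproduct.category_id_φ, Limits.FormalCoproduct.category_comp_φ, Category.assoc] at this
      exact this.symm

end Groth.Agent.S0894
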