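import Groth.Statements.S0897
import Groth.Agent.SiteCoh.CxLimSheaf

set_option autoImplicit false
universe u
open CategoryTheory
open CohTop

namespace Groth.Agent.S0897

open TopologicalSpace Opposite CategoryTheory.Limits in
/-- Abelian sheaves; conclusion stated as: H^m of the limit complex maps isomorphically onto H^m(F_{n₀})
by the projection: let (F_n) be an inverse system of complexes of abelian sheaves on X, m an
integer, B a basis of opens and n₀ an index such that for every U in B: (a) the systems of sections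
F_n^{m-2}(U) and F_n^{m-1}(U) have vanishing R^1 lim, (b) the system H^{m-1}(F_n(U)) of cohomology
groups of the complexes of sections has vanishing R^1 lim, and (c) H^m(F_n(U)) -> H^m(F_{n₀}(U)) is
an isomorphism for all n ≥ n₀. Then, with F = lim F_n the termwise limit, the map H^m(F) ->
H^m(F_{n₀}) of cohomology sheaves is an isomorphism. -/
theorem result {X : TopCat.{u}}
    (F : ℕ → CochainComplex (CohTop.Ab X) ℤ) (t : ∀ n, F (n + 1) ⟶ F n) (m : ℤ)
    (B : Set (Opens X)) (hB : Opens.IsBasis B) (n₀ : ℕ)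
    (ha : ∀ U ∈ B, ∀ j : ℤ, (j = m - 2 ∨ j = m - 1) →
      CohCx.LimOneIsZero (fun n => ((F n).X j).obj.obj (op U)) (fun n => (((t n).f j).hom.app (op U)).hom))
    (hb : ∀ U ∈ B, CohCx.LimOneIsZero
      (fun n => ((CohCx.sectCx (Opens.grothendieckTopology X) U).obj (F n)).homology (m - 1))
      (fun n => (HomologicalComplex.homologyMap ((CohCx.sectCx (Opens.grothendieckTopology X) U).map (t n))
        (m - 1)).hom))
    (hc : ∀ U ∈ B, ∀ k : ℕ, IsIso (HomologicalComplex.homologyMap
      ((CohCx.sectCx (Opens.grothendieckTopology X) U).map (CohCx.transition F t n₀ k)) m)) :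
    IsIso (HomologicalComplex.homologyMap (limit.π (CohCx.opSequence F t) (op n₀)) m) := by
  refine Groth.Agent.SiteCoh.CxLimSheaf.main F t m B (fun U => ?_) n₀ ha hb hc
  refine ⟨{V : Opens X // V ∈ B ∧ V ≤ U}, fun V => V.1, fun V => homOfLE V.2.2, ?_, fun V => V.2.1⟩
  intro x hx
  obtain ⟨V, hVB, hxV, hVU⟩ := Opens.isBasis_iff_nbhd.mp hB hx
  exact ⟨V, homOfLE hVU, (Sieve.mem_ofArrows_iff _ _ _).2 ⟨⟨V, hVB, hVU⟩, 𝟙 V, rfl⟩, hxV⟩

end Groth.Agent.S0897
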