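import Groth.Statements.S0898
-- import your own Groth.Agent.* helpers here

set_option autoImplicit false
universe u
open CategoryTheory
open Hyper

namespace Groth.Agent.S0898

open CategoryTheory.Limits in
/-- Parts (1) and (2), about covering morphisms between semi-representable objects (formal coproducts)
of a site: (1) the composite of two covering morphisms is a covering, and (2) for a site with fibre
products, the base change of a covering K -> L along any L' -> L (which exists) is a covering L' x_L
K -> L'. -/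
theorem result {C : Type u} [SmallCategory C] (J : GrothendieckTopology C) :
    (∀ {K L M : FormalCoproduct.{u} C} (f : K ⟶ L) (g : L ⟶ M),
      Hyper.IsSRCovering J f → Hyper.IsSRCovering J g → Hyper.IsSRCovering J (f ≫ g)) ∧
    (∀ [HasPullbacks C] {K L L' : FormalCoproduct.{u} C} (f : K ⟶ L) (g : L' ⟶ L),
      Hyper.IsSRCovering J f → HasPullback g f ∧ ∀ [HasPullback g f], Hyper.IsSRCovering J (pullback.fst g f)) := by
  refine ⟨fun {K L M} f g hf hg j => ?_, fun [HasPullbacks C] {K L L'} f g hf => ⟨inferInstance, fun [HasPullback g f] j => ?_⟩⟩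
  · refine J.transitive (hg j) _ fun W w hw => ?_
    obtain ⟨⟨l, hl⟩, k, rfl⟩ := (Sieve.mem_ofArrows_iff _ _ _).1 hw
    refine J.superset_covering ?_ (J.pullback_stable k (hf l))
    intro W' w' hw'
    obtain ⟨⟨i, hi⟩, k', hk'⟩ := (Sieve.mem_ofArrows_iff _ _ _).1 hw'
    subst hi
    subst hl
    refine (Sieve.mem_ofArrows_iff _ _ _).2 ⟨⟨i, rfl⟩, k', ?_⟩
    simp only [eqToHom_refl, Category.comp_id] at hk' ⊢
    rw [FormalCoproduct.category_comp_φ, ← Category.assoc w', hk', Category.assoc]
  · refine J.superset_covering ?_ (J.pullback_stable (g.φ j) (hf (g.f j)))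
    intro W w hw
    obtain ⟨⟨i, hi⟩, k, hk⟩ := (Sieve.mem_ofArrows_iff _ _ _).1 hw
    let a : (FormalCoproduct.incl C).obj W ⟶ L' := FormalCoproduct.Hom.fromIncl j w
    let b : (FormalCoproduct.incl C).obj W ⟶ K := FormalCoproduct.Hom.fromIncl i k
    have hab : a ≫ g = b ≫ f :=
      FormalCoproduct.hom_ext (funext fun _ => hi.symm) fun _ => by
        change (w ≫ g.φ j) ≫ eqToHom (congrArg L.obj hi.symm) = k ≫ f.φ i
        rw [hk, Category.assoc, Category.assoc, eqToHom_trans, eqToHom_refl, Category.comp_id]
    let l := pullback.lift a b hab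
    have hl : l ≫ pullback.fst g f = a := pullback.lift_fst _ _ _
    obtain ⟨h1, h2⟩ := (FormalCoproduct.hom_ext_iff _ _).1 hl
    refine (Sieve.mem_ofArrows_iff _ _ _).2 ⟨⟨l.f PUnit.unit, congrFun h1 PUnit.unit⟩, l.φ PUnit.unit, ?_⟩
    have := h2 PUnit.unit
    rw [FormalCoproduct.category_comp_φ] at this
    exact this.symm.trans (Category.assoc _ _ _)

end Groth.Agent.S0898
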