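import Groth.Statements.S0901
import Mathlib
import Groth.Agent.CohTop.CechBasic

set_option autoImplicit false
universe u
open CategoryTheory
open CohTop

namespace Groth.Agent.S0901

open CategoryTheory CategoryTheory.Limits TopologicalSpace Opposite
open Groth.Agent.CohAff (res inter Cochain cd cd_apply res_res res_self inter_le le_inter inter_comp_le mem_inter CechExact)

theorem gen_tuple {X : Type u} {ι : Type u} (U : ι → Set X) {W : Set X}
    (hW : TopologicalSpace.GenerateOpen (Set.range U) W) :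
    ∀ x ∈ W, (∃ i, x ∈ U i) → ∃ a : Σ p : ℕ, Fin (p + 1) → ι, (∀ j, x ∈ U (a.2 j)) ∧ (⋂ j, U (a.2 j)) ⊆ W := by
  induction hW with
  | basic s hs =>
    obtain ⟨i, rfl⟩ := hs
    exact fun x hx _ => ⟨⟨0, fun _ => i⟩, fun _ => hx, fun y hy => Set.mem_iInter.1 hy 0⟩
  | univ => exact fun x _ ⟨i, hi⟩ => ⟨⟨0, fun _ => i⟩, fun _ => hi, Set.subset_univ _⟩
  | inter s t _ _ hs ht =>
    intro x hx he
    obtain ⟨⟨p, a⟩, ha, ha'⟩ := hs x hx.1 he
    obtain ⟨⟨q, b⟩, hb, hb'⟩ := ht x hx.2 he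
    refine ⟨⟨p + (q + 1), fun j => Fin.append a b (j.cast (by omega))⟩, fun j => ?_, fun y hy => ⟨ha' ?_, hb' ?_⟩⟩
    · have key : ∀ j' : Fin ((p + 1) + (q + 1)), x ∈ U (Fin.append a b j') := fun j' => by
        induction j' using Fin.addCases with
        | left j => rw [Fin.append_left]; exact ha j
        | right j => rw [Fin.append_right]; exact hb j
      exact key _
    · refine Set.mem_iInter.2 fun j => ?_
      have := Set.mem_iInter.1 hy ((Fin.castAdd (q + 1) j).cast (show (p + 1) + (q + 1) = p + (q + 1) + 1 by omega))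
      simpa using this
    · refine Set.mem_iInter.2 fun j => ?_
      have := Set.mem_iInter.1 hy ((Fin.natAdd (p + 1) j).cast (show (p + 1) + (q + 1) = p + (q + 1) + 1 by omega))
      simpa using this
  | sUnion S _ ih =>
    intro x ⟨s, hs, hx⟩ he
    obtain ⟨a, ha, ha'⟩ := ih s hs x hx he
    exact ⟨a, ha, fun y hy => ⟨s, hs, ha' hy⟩⟩

theorem cechExact_of_surjective {X : TopCat.{u}} (F : CohTop.Ab X) {ι : Type u} (U : ι → Opens X)
    (h : ∀ (κ : Type u) (a : κ → Σ p : ℕ, Fin (p + 1) → ι),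
      Function.Surjective (F.obj.map (homOfLE
        (iSup_le fun k => (iInf_le _ ⟨0, Nat.succ_pos _⟩).trans (le_iSup U ((a k).2 ⟨0, Nat.succ_pos _⟩)) :
          (⨆ k, ⨅ j, U ((a k).2 j)) ≤ iSup U)).op)) (n : ℕ) : CechExact F.obj U n := by
  let Y : TopCat.{u} := @TopCat.of X (TopologicalSpace.generateFrom (Set.range fun i => (U i : Set X)))
  have hopen : ∀ i, @IsOpen _ (TopologicalSpace.generateFrom (Set.range fun i => (U i : Set X))) (U i : Set X) := fun i => TopologicalSpace.GenerateOpen.basic _ ⟨i, rfl⟩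
  let UY : ι → Opens Y := fun i => ⟨(U i : Set X), hopen i⟩
  have hcont : @Continuous _ _ inferInstance (TopologicalSpace.generateFrom (Set.range fun i => (U i : Set X))) (fun z : (iSup U : Opens X) => (z : X)) := by
    refine continuous_generateFrom_iff.2 ?_
    rintro _ ⟨i, rfl⟩
    exact (U i).isOpen.preimage continuous_subtype_val
  let f : TopCat.of (iSup U : Opens X) ⟶ Y := @TopCat.ofHom (iSup U : Opens X) X inferInstance (TopologicalSpace.generateFrom (Set.range fun i => (U i : Set X))) (@ContinuousMap.mk _ _ inferInstance (TopologicalSpace.generateFrom (Set.range fun i => (U i : Set X))) (fun z => (z : X)) hcont)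
  let img : Opens (TopCat.of (iSup U : Opens X)) ⥤ Opens X := (iSup U).isOpenEmbedding.isOpenMap.functor
  let φ : Opens Y → Opens X := fun W => img.obj ((Opens.map f).obj W)
  have hφ : ∀ {W : Opens Y} {x : X}, x ∈ φ W ↔ x ∈ (W : Set X) ∧ x ∈ iSup U := fun {W x} =>
    ⟨fun ⟨y, hy, e⟩ => e ▸ ⟨hy, y.2⟩, fun hx => ⟨⟨x, hx.2⟩, hx.1, rfl⟩⟩
  let G : CohTop.Ab Y := (CohTop.push f).obj ((CohTop.restrFunctor (iSup U)).obj F)
  haveI : TopCat.Sheaf.IsFlasque G := by
    constructor
    intro W W' i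
    rw [AddCommGrpCat.epi_iff_surjective]
    have hW : ∀ W : Opens Y, ∀ hle : φ W ≤ iSup U, Function.Surjective (res F.obj hle) := by
      intro W
      let κ := {a : Σ p : ℕ, Fin (p + 1) → ι // (⋂ j, (U (a.2 j) : Set X)) ⊆ (W : Set X)}
      have e : φ W = ⨆ k : κ, ⨅ j, U (k.1.2 j) := by
        refine le_antisymm (fun x hx => ?_) (iSup_le fun k x hx => ?_)
        · obtain ⟨hxW, hxU⟩ := hφ.1 hx
          obtain ⟨a, ha, ha'⟩ := gen_tuple (fun i => (U i : Set X)) W.isOpen x hxW (Opens.mem_iSup.1 hxU)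
          exact Opens.mem_iSup.2 ⟨⟨a, ha'⟩, (mem_inter (U := U) (x := a.2)).2 ha⟩
        · have hx' := (mem_inter (U := U) (x := k.1.2)).1 hx
          exact hφ.2 ⟨k.2 (Set.mem_iInter.2 hx'), Opens.mem_iSup.2 ⟨_, hx' 0⟩⟩
      intro hle s
      obtain ⟨t, ht⟩ := h κ (fun k => k.1) (res F.obj e.ge s)
      refine ⟨t, ?_⟩
      have := congrArg (res F.obj e.le) ht
      rw [res_res, res_self] at this
      exact (res_res F.obj _ e.le t).symm.trans (Eq.trans rfl this)
    have hWU : ∀ W, φ W ≤ iSup U := fun W x hx => (hφ.1 hx).2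
    intro s
    obtain ⟨t, ht⟩ := hW W'.unop (hWU _) s
    have hle : φ W'.unop ≤ φ W.unop := fun x hx => hφ.2 ⟨leOfHom i.unop (hφ.1 hx).1, (hφ.1 hx).2⟩
    refine ⟨res F.obj (hWU W.unop) t, ?_⟩
    exact (res_res F.obj (hWU W.unop) hle t).trans ht
  have hex := Groth.Agent.CohTop.CechBasic.flasque_cechExact n G UY
  intro s hs
  have e1 : ∀ {m : ℕ} (x : Fin (m + 1) → ι), φ (inter UY x) ≤ inter U x := fun {m} x =>
    le_inter fun a y hy => (mem_inter (U := UY) (x := x)).1 (hφ.1 hy).1 a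
  have e2 : ∀ {m : ℕ} (x : Fin (m + 1) → ι), inter U x ≤ φ (inter UY x) := fun {m} x y hy =>
    hφ.2 ⟨(mem_inter (U := UY) (x := x)).2 fun a => (mem_inter.1 hy a : _), Opens.mem_iSup.2 ⟨x 0, mem_inter.1 hy 0⟩⟩
  have hres : ∀ {W W' : Opens Y} (hle : W' ≤ W) (hle' : φ W' ≤ φ W) (a : F.obj.obj (op (φ W))),
      res G.obj hle a = res F.obj hle' a := fun _ _ _ => rfl
  have hmono : ∀ {W W' : Opens Y}, W' ≤ W → φ W' ≤ φ W := fun hle x hx => hφ.2 ⟨hle (hφ.1 hx).1, (hφ.1 hx).2⟩
  let s' : Cochain G.obj UY (n + 1) := fun x => res F.obj (e1 x) (s x)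
  obtain ⟨t', ht'⟩ := hex s' (by
    funext x
    have h0 : res F.obj (e1 x) (cd F.obj U (n + 1) s x) = 0 := by rw [hs]; exact map_zero _
    rw [cd_apply, map_sum] at h0
    refine Eq.trans ?_ h0
    rw [cd_apply]
    refine Finset.sum_congr rfl fun j _ => ?_
    rw [map_zsmul, res_res]
    exact congrArg (fun z => (-1 : ℤ) ^ (j : ℕ) • z)
      ((hres _ (hmono (inter_comp_le UY x _)) _).trans (res_res F.obj _ _ _)))
  refine ⟨fun x => res F.obj (e2 x) (t' x), funext fun x => ?_⟩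
  have h1 : res F.obj (e2 x) (cd G.obj UY n t' x) = res F.obj (e2 x) (res F.obj (e1 x) (s x)) :=
    congrArg (res F.obj (e2 x)) (congrFun ht' x)
  rw [res_res, res_self] at h1
  refine Eq.trans ?_ h1
  rw [cd_apply, cd_apply]
  refine ((congrArg (res F.obj (e2 x)) (show (∑ j : Fin (n + 2), (-1 : ℤ) ^ (j : ℕ) • res G.obj (inter_comp_le UY x j.succAbove) (t' (x ∘ j.succAbove))) =
    ∑ j : Fin (n + 2), (-1 : ℤ) ^ (j : ℕ) • res F.obj (hmono (inter_comp_le UY x j.succAbove)) (t' (x ∘ j.succAbove)) from rfl)).trans ?_).symm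
  rw [map_sum]
  refine Finset.sum_congr rfl fun j _ => ?_
  rw [map_zsmul]
  exact congrArg (fun z => (-1 : ℤ) ^ (j : ℕ) • z) ((res_res F.obj _ _ _).trans (res_res F.obj _ _ _).symm)

open TopologicalSpace Opposite CategoryTheory.Limits in
/-- Let F be an abelian sheaf on X and U_i a family of opens with union U. Assume that for every union
U' of opens of the form U_{i_0} ∩ ... ∩ U_{i_p} the restriction map F(U) -> F(U') is surjective.
Then the Cech cohomology of F with respect to the family vanishes in all positive degrees. -/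
theorem result {X : TopCat.{u}} (F : CohTop.Ab X)
    {ι : Type u} (U : ι → Opens X)
    (h : ∀ (κ : Type u) (a : κ → Σ p : ℕ, Fin (p + 1) → ι),
      Function.Surjective (F.obj.map (homOfLE
        (iSup_le fun k => (iInf_le _ ⟨0, Nat.succ_pos _⟩).trans (le_iSup U ((a k).2 ⟨0, Nat.succ_pos _⟩)) :
          (⨆ k, ⨅ j, U ((a k).2 j)) ≤ iSup U)).op)) (p : ℕ) :
    IsZero (CohTop.cechH F.obj U (p + 1)) := by
  exact (Groth.Agent.CohAff.isZero_homology_iff_cechExact F.obj U p).2 (cechExact_of_surjective F U h p)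

end Groth.Agent.S0901
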