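import Groth.Statements.S0905
import Groth.Agent.SiteCoh.Free
import Groth.Agent.SiteCoh.DimShift

set_option autoImplicit false
universe u
open CategoryTheory
open CohSite

namespace Groth.Agent.S0905

open Opposite CategoryTheory.Limits in
/-- Parts (1) and (2), for a weakly contractible object U of a site (one over which every epimorphism of
sheaves of sets is surjective on sections): (1) the functor F ↦ F(U) from abelian sheaves to abelian
groups preserves finite colimits (it is exact, finite limits being automatic), and (2) H^p(U, F) = 0
for every abelian sheaf F and every p > 0. (Part (3) about torsors is not included.) -/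
theorem result {C : Type u} [SmallCategory C] (J : GrothendieckTopology C)
    (U : C) (hU : CohSite.IsWeaklyContractible J U) :
    PreservesFiniteColimits (sheafToPresheaf J AddCommGrpCat.{u} ⋙ (evaluation Cᵒᵖ AddCommGrpCat.{u}).obj (op U)) ∧
    ∀ (F : Sheaf J AddCommGrpCat.{u}) (p : ℕ), Subsingleton (CohSite.HU F (p + 1) U) := by
  have hsurj : ∀ {A B : Sheaf J AddCommGrpCat.{u}} (g : A ⟶ B) [Epi g],
      Function.Surjective (g.hom.app (op U)) := by
    intro A B g _
    have h1 : Sheaf.IsLocallySurjective g := (Sheaf.isLocallySurjective_iff_epi' _ g).2 inferInstance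
    have : Sheaf.IsLocallySurjective ((sheafCompose J (forget AddCommGrpCat.{u})).map g) := by
      infer_instance
    exact hU _ _ ((sheafCompose J (forget AddCommGrpCat.{u})).map g) inferInstance
  refine ⟨?_, fun F p => ?_⟩
  · let G := sheafToPresheaf J AddCommGrpCat.{u} ⋙ (evaluation Cᵒᵖ AddCommGrpCat.{u}).obj (op U)
    have : G.Additive := { map_add := rfl }
    have : PreservesFiniteLimits G := comp_preservesFiniteLimits _ _
    have : G.PreservesEpimorphisms := ⟨fun {A B} g _ => (AddCommGrpCat.epi_iff_surjective _).2 (hsurj g)⟩
    have key : (∀ (S : ShortComplex (Sheaf J AddCommGrpCat.{u})), S.ShortExact →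
        (S.map G).Exact ∧ Epi (G.map S.g)) ↔ PreservesFiniteColimits G :=
      (Functor.preservesFiniteColimits_tfae G).out 0 3
    refine key.1 fun S hS => ⟨?_, ?_⟩
    · have := hS.mono_f
      exact (hS.exact.map_of_mono_of_preservesKernel G inferInstance inferInstance)
    · have := hS.epi_g
      exact (AddCommGrpCat.epi_iff_surjective _).2 (hsurj S.g)
  · induction p generalizing F with
    | zero =>
      have := (SiteCoh.DimShift.inj_shortExact F).epi_g
      refine SiteCoh.DimShift.subsingleton_one (SiteCoh.DimShift.inj_shortExact F) fun g => ?_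
      obtain ⟨x, hx⟩ := hsurj (SiteCoh.DimShift.inj F).g (SiteCoh.Free.sectionEquiv J U _ g)
      obtain ⟨a, rfl⟩ := (SiteCoh.Free.sectionEquiv J U _).surjective x
      exact ⟨a, (SiteCoh.Free.sectionEquiv J U _).injective ((SiteCoh.Free.sectionEquiv_comp J a _).trans hx)⟩
    | succ p ih => exact SiteCoh.DimShift.subsingleton_succ (SiteCoh.DimShift.inj_shortExact F) p (ih _)

end Groth.Agent.S0905
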