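import Groth.Statements.S0907
import Groth.Agent.HyperLib.GenFinite

set_option autoImplicit false
universe u
open CategoryTheory
open Hyper

namespace Groth.Agent.S0907

open TopologicalSpace Opposite CategoryTheory.Limits in
/-- Phrased in the site of opens of X, with X the top open: let B be a basis for the topology of X. Then
there is a hypercovering K of X such that every open occurring in every K_n belongs to B. -/
theorem result {X : TopCat.{u}} (B : Set (Opens X)) (hB : Opens.IsBasis B)
    [∀ (n : ℕ) (F : (SimplexCategory.Truncated n)ᵒᵖ ⥤ Limits.FormalCoproduct.{u} (Over (⊤ : Opens X))),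
      (SimplexCategory.Truncated.inclusion n).op.HasRightKanExtension F] :
    ∃ K : SimplicialObject (FormalCoproduct.{u} (Over (⊤ : Opens X))),
      Hyper.IsHypercovering (Opens.grothendieckTopology X) ⊤ K ∧
      ∀ (n : ℕ) (i : (K.obj (op (SimplexCategory.mk n))).I),
        ((K.obj (op (SimplexCategory.mk n))).obj i).left ∈ B := by
  have hc : HyperLib.GenFinite.Covers (fun W : Over (⊤ : Opens X) => W.left ∈ B)
      ((Opens.grothendieckTopology X).over ⊤) := fun W => by
    let R : Sieve W.left :=
      { arrows := fun V _ => ∃ b ∈ B, V ≤ b ∧ b ≤ W.left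
        downward_closed := by
          rintro V V' _ ⟨b, hb, h, h'⟩ g
          exact ⟨b, hb, (leOfHom g).trans h, h'⟩ }
    refine ⟨(Sieve.overEquiv W).symm R, GrothendieckTopology.overEquiv_symm_mem_over _ W _ ?_,
      fun W' g hg => ?_⟩
    · intro x hx
      obtain ⟨b, hb, hxb, hbW⟩ := Opens.isBasis_iff_nbhd.1 hB hx
      exact ⟨b, homOfLE hbW, ⟨b, hb, le_rfl, hbW⟩, hxb⟩
    · obtain ⟨b, hb, h, h'⟩ := (Sieve.overEquiv_symm_iff _ _).1 hg
      exact ⟨Over.mk (homOfLE (le_top : b ≤ ⊤)), Over.homMk (homOfLE h) (Subsingleton.elim _ _),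
        Over.homMk (homOfLE h') (Subsingleton.elim _ _), hb, Over.OverMorphism.ext (Subsingleton.elim _ _)⟩
  obtain ⟨K, hK, hB'⟩ := HyperLib.GenFinite.exists_hc _ hc
  exact ⟨K, HyperLib.Points.isHypercovering_of_hc hK, hB'⟩

end Groth.Agent.S0907
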