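import Groth.Statements.S0916
import Groth.Agent.KFlat.SchemeTor
import Groth.Agent.KFlat.FlatRes

open Groth.Agent.KFlat CategoryTheory.Limits

set_option autoImplicit false
universe u
open CategoryTheory
attribute [local instance] HasDerivedCategory.standard
open DCoh

namespace Groth.Agent.S0916

set_option maxHeartbeats 400000 in
open AlgebraicGeometry CategoryTheory.Limits in
/-- Flatness of an O_X-module F (all stalks flat) is equivalent to the following Tor-vanishing: for
every O_X-module G the sheaf Tor_1(F, G), i.e. H^{-1} of F ⊗^L G, vanishes; the existence of the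
derived tensor product with every G is assumed (hypothesis hL). -/
theorem result {X : Scheme.{u}} (F : X.Modules) (hL : ∀ G : X.Modules, DCoh.HasLTensorMod G) :
    FlatMod.IsFlat F ↔ ∀ (G : X.Modules) [DCoh.HasLTensorMod G],
      IsZero (DCoh.HD ((DCoh.LTensorMod G).obj (DCoh.inD X F)) (-1)) := by
  let F₀ := (HomologicalComplex.single X.Modules (ComplexShape.up ℤ) 0).obj F
  constructor
  · intro hF G _
    have hK : DCoh.IsKFlat F₀ := isKFlat_single (O := X.sheaf) (StalkTensor.tensorMono_of_flat hF) 0
    have h0 : IsZero (((LTensorMod.tmCx G).obj F₀).homology (-1)) :=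
      ShortComplex.isZero_homology_of_isZero_X₂ _ ((DCoh.tensorRightMod G).map_isZero
        (HomologicalComplex.isZero_single_obj_X (ComplexShape.up ℤ) 0 F (-1) (by omega)))
    let e : DerivedCategory.Q.obj F₀ ≅ DCoh.inD X F :=
      ((DerivedCategory.singleFunctorIsoCompQ X.Modules 0).app F).symm
    exact h0.of_iso ((DerivedCategory.homologyFunctor X.Modules (-1)).mapIso
      ((DCoh.LTensorMod G).mapIso e.symm) ≪≫ LTensorMod.hdIso G hK (-1))
  · intro h
    let e : DerivedCategory.Q.obj F₀ ≅ DCoh.inD X F :=
      ((DerivedCategory.singleFunctorIsoCompQ X.Modules 0).app F).symm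
    have hsz : ∀ i : ℤ, 0 < i → IsZero (F₀.homology i) := fun i hi =>
      ShortComplex.isZero_homology_of_isZero_X₂ _
        (HomologicalComplex.isZero_single_obj_X (ComplexShape.up ℤ) 0 F i (by omega))
    obtain ⟨P, g, hflat, hz, hg⟩ := FlatRes.exists_flatRes F₀ 0 hsz
    have hP : DCoh.IsKFlat P := isKFlat_of_flat_boundedAbove P 0 hz hflat
    have hex : ∀ G : X.Modules, ((LTensorMod.tmCx G).obj P).ExactAt (0 - 1) := fun G => by
      have := hL G
      rw [show (0 : ℤ) - 1 = -1 by omega, HomologicalComplex.exactAt_iff_isZero_homology]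
      let a := (DerivedCategory.homologyFunctor X.Modules (-1)).mapIso
          ((DCoh.LTensorMod G).mapIso (asIso (DerivedCategory.Q.map g) ≪≫ e))
      exact (h G).of_iso ((LTensorMod.hdIso G hP (-1)).symm ≪≫ a)
    have hc := SchemeTor.flat_cokernel hflat 0 hex
    have := P.isIso_homologyι 0 1 (by simp) ((hz 1 (by omega)).eq_of_tgt _ _)
    exact (FlatRes.flatP X).prop_of_iso
      (((P.opcyclesIsCokernel (0 - 1) 0 (by simp)).coconePointUniqueUpToIso
          (cokernelIsCokernel (P.d (0 - 1) 0))).symm ≪≫ (asIso (P.homologyι 0)).symm ≪≫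
        asIso (HomologicalComplex.homologyMap g 0) ≪≫
        (HomologicalComplex.singleObjHomologySelfIso (ComplexShape.up ℤ) 0 F)) hc

end Groth.Agent.S0916
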