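import Groth.Statements.S0919
import Mathlib.CategoryTheory.Adjunction.AdjointFunctorTheorems
import Mathlib.CategoryTheory.Abelian.GrothendieckCategory.EnoughInjectives
import Mathlib.CategoryTheory.Abelian.Subobject
-- import your own Groth.Agent.* helpers here

set_option autoImplicit false
universe v u
open CategoryTheory Opposite
open CohDer

namespace Groth.Agent.S0919

open CategoryTheory.Limits in
/-- Let A be a Grothendieck abelian category and F a contravariant functor from A to sets (a functor on
the opposite category). Then F is representable if and only if F turns all small colimits of A into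
limits, i.e. preserves small limits as a functor on the opposite category. -/
theorem result {A : Type u} [Category.{v} A] [Abelian A]
    [IsGrothendieckAbelian.{v} A] (F : Aᵒᵖ ⥤ Type v) :
    F.IsRepresentable ↔ PreservesLimitsOfSize.{v, v} F := by
  refine ⟨fun h => inferInstance, fun h => ?_⟩
  have : F.IsRightAdjoint := isRightAdjoint_of_preservesLimits_of_isCoseparating
    (P := ObjectProperty.singleton (op (separator A)))
    ((isCoseparator_op_iff _).2 (isSeparator_separator A)) F
  let adj := Adjunction.ofIsRightAdjoint F
  refine Functor.RepresentableBy.isRepresentable (Y := (F.leftAdjoint.obj PUnit).unop) ⟨fun {X} =>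
    ((opEquiv _ _).symm.trans ((adj.homEquiv PUnit (op X)).trans
      { toFun := fun g => g PUnit.unit
        invFun := fun x => TypeCat.ofHom (fun _ => x)
        left_inv := fun g => by ext ⟨⟩; rfl
        right_inv := fun x => rfl })), fun {X X'} f g => ?_⟩
  show (adj.homEquiv PUnit (op X)) (g.op ≫ f.op) PUnit.unit = _
  rw [Adjunction.homEquiv_naturality_right]
  rfl

end Groth.Agent.S0919
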