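import Groth.Statements.S0920
import Groth.Agent.KFlat.LTensorMod
import Groth.Agent.KFlat.Kflat2
import Groth.Agent.KFlat.Lpull

open Groth.Agent.KFlat Groth.Agent.KFlat.Pull

set_option autoImplicit false
universe u
open CategoryTheory
attribute [local instance] HasDerivedCategory.standard
open DCoh

namespace Groth.Agent.S0920

open AlgebraicGeometry in
/-- For f : X -> Y and E in D(O_Y) represented by a complex of flat modules vanishing outside [a, b],
the derived pullback Lf^* E (under its existence binder) has tor-amplitude in [a, b]. -/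
theorem result {X Y : Scheme.{u}} (f : X ⟶ Y) [DCoh.HasLpull f] (E : DCoh.D Y) (a b : ℤ)
    (hE : DCoh.HasFlatAmplitudeIn a b E) : DCoh.HasTorAmplitudeIn a b ((DCoh.Lpull f).obj E) := by
  obtain ⟨E₀, hv, hfl, ⟨e⟩⟩ := hE
  have hK : DCoh.IsKFlat E₀ := isKFlat_of_flat_boundedAbove E₀ b (fun q hq => hv q (Or.inr hq)) hfl
  intro F _ i hi
  let e' : (DCoh.Lpull f).obj E ≅ DerivedCategory.Q.obj ((pullCx f).obj E₀) :=
    (DCoh.Lpull f).mapIso e.symm ≪≫ @asIso _ _ _ _ ((toPull f).app E₀) (isIso_toPull f hK)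
  refine Limits.IsZero.of_iso ?_ ((DerivedCategory.homologyFunctor X.Modules i).mapIso
    ((DCoh.LTensorMod F).mapIso e') ≪≫ LTensorMod.hdIso F (isKFlat_pullCx f hK) i)
  rw [← HomologicalComplex.exactAt_iff_isZero_homology]
  exact ShortComplex.exact_of_isZero_X₂ _
    ((DCoh.tensorRightMod F).map_isZero ((Scheme.Modules.pullback f).map_isZero (hv i hi)))

end Groth.Agent.S0920
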