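import Groth.Statements.S0924
import Groth.Agent.PCohD.PerfTor
import Groth.Agent.PCohD.Summand
import Groth.Agent.S0912

set_option autoImplicit false
universe u
open CategoryTheory
attribute [local instance] HasDerivedCategory.standard
open DCoh

namespace Groth.Agent.S0924

open AlgebraicGeometry CategoryTheory.Limits in
/-- Perfectness of objects of D(O_X) passes to direct summands: K and L are perfect as soon as K ⊕ L is. -/
theorem result {X : Scheme.{u}} (K L : DCoh.D X) [HasBinaryBiproduct K L]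
    (h : DCoh.IsPerfect (K ⊞ L)) : DCoh.IsPerfect K ∧ DCoh.IsPerfect L := by
  have hpc : ∀ m, DCoh.IsPseudoCoherentD m K ∧ DCoh.IsPseudoCoherentD m L := fun m =>
    Groth.Agent.PCohD.pc_biprod (Groth.Agent.PCohD.pc_of_perfect h m)
  have key : ∀ {M : DCoh.D X} (i : M ⟶ K ⊞ L) (p : K ⊞ L ⟶ M), i ≫ p = 𝟙 M →
      (∀ m, DCoh.IsPseudoCoherentD m M) → DCoh.IsPerfect M := fun {M} i p hip hM => by
    refine Groth.Agent.PCohD.PerfTor.isPerfect_of_local fun x => ?_
    obtain ⟨U, j, hj, hx, E, hE, ⟨e⟩⟩ := (Groth.Agent.PerfTri.Perfect.near_iff _).mp h x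
    obtain ⟨a, b, hab, hfl⟩ := Groth.Agent.PCohD.PerfTor.exists_flatAmp hE e.symm
    refine ⟨U, j, hj, hx, Groth.Agent.PCohD.PerfTor.isPerfect_of_flatAmp
      ((Groth.Agent.S0912.result _ a b hab fun G => Groth.Agent.KFlat.LTensorMod.hasLTensorMod G).mp
        (Groth.Agent.KFlat.SchemeTor.torAmp_of_retract ((DCoh.restrictD j).map i)
          ((DCoh.restrictD j).map p) (by rw [← CategoryTheory.Functor.map_comp, hip, CategoryTheory.Functor.map_id])
          (Groth.Agent.KFlat.SchemeTor.torAmp_of_flatAmp hfl)))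
      (Groth.Agent.PCohD.pc_restrict j (hM (a - 1)))⟩
  exact ⟨key biprod.inl biprod.fst biprod.inl_fst fun m => (hpc m).1,
    key biprod.inr biprod.snd biprod.inr_snd fun m => (hpc m).2⟩

end Groth.Agent.S0924
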