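import Groth.Statements.S0925
import Mathlib
import Groth.Agent.H85.ClosedPush
import Groth.Agent.LocCohZW.Basic

set_option autoImplicit false
universe u
open CategoryTheory
open CohTop

namespace Groth.Agent.S0925

open CategoryTheory CategoryTheory.Limits TopologicalSpace Opposite

set_option synthInstance.maxHeartbeats 200000

open TopologicalSpace in
/-- For an open U of X with closed complement Z and an injective abelian sheaf I on X, the sheaf H_Z(I),
the sheaf on Z of sections of I supported in Z (pullback to Z of the kernel of I -> j_* j^{-1} I, j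
: U -> X), is an injective abelian sheaf on Z. -/
theorem result {X : TopCat.{u}} (U : Opens X) (I : CohTop.Ab X) [Injective I] :
    Injective (CohCx.HZ U I) := by
  have hi : Topology.IsInducing (CohCx.inclCompl U) := Topology.IsInducing.subtypeVal
  have hc : IsClosed (Set.range (CohCx.inclCompl U)) := by
    change IsClosed (Set.range (Subtype.val : ((U : Set X)ᶜ : Set X) → X))
    rw [Subtype.range_coe]; exact U.isOpen.isClosed_compl
  have hsupp : ∀ W : Opens X, (∀ z, CohCx.inclCompl U z ∉ W) → W ≤ U := fun W hW x hx => by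
    by_contra hxU
    exact hW ⟨x, hxU⟩ hx
  have hsub : ∀ W : Opens X, (∀ z, CohCx.inclCompl U z ∉ W) →
      Subsingleton ((CohCx.sectSupp U I).obj.obj (op W)) := by
    intro W hW
    refine subsingleton_of_forall_eq 0 fun t => ?_
    apply ((AddCommGrpCat.mono_iff_injective _).1 (LocCohZW.kerSeq_map_exact U I W).2)
    have h := (LocCohZW.secEquiv U I W t).2
    change _ = 0 at h
    rw [map_zero]
    have e : W ⊓ U = W := inf_eq_left.2 (hsupp W hW)
    refine ((LocCohZW.res_eq_zero_iff_of_le (F := I) inf_le_left le_rfl e _).1 h ▸ ?_)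
    change _ = (I.obj.map (𝟙 (op W))).hom _
    rw [I.obj.map_id]
    rfl
  obtain ⟨H, ⟨e⟩⟩ := H85.mem_essImage_push hi hc (CohCx.sectSupp U I) hsub
  let ff := H85.pushFullyFaithful hi
  let adj := TopCat.Sheaf.pullbackPushforwardAdjunction AddCommGrpCat.{u} (CohCx.inclCompl U)
  haveI hF1 : (TopCat.Sheaf.pushforward AddCommGrpCat.{u} (CohCx.inclCompl U)).Full := ff.full
  haveI hF2 : (TopCat.Sheaf.pushforward AddCommGrpCat.{u} (CohCx.inclCompl U)).Faithful := ff.faithful
  haveI : IsIso adj.counit := @Adjunction.counit_isIso_of_R_fully_faithful _ _ _ _ _ _ adj hF1 hF2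
  haveI : IsIso (adj.counit.app H) := @NatIso.isIso_app_of_isIso _ _ _ _ _ _ adj.counit _ H
  haveI hH : Injective H := by
    constructor
    intro A B f φ _
    haveI : (CohTop.push (CohCx.inclCompl U)).PreservesMonomorphisms :=
      Functor.preservesMonomorphisms_of_adjunction adj
    let f0 : (CohTop.push (CohCx.inclCompl U)).obj A ⟶ I :=
      (CohTop.push (CohCx.inclCompl U)).map f ≫ e.hom ≫ kernel.ι _
    let g := Injective.factorThru f0 ((CohTop.push (CohCx.inclCompl U)).map φ)
    have hg : g ≫ LocCohZW.unitU U I = 0 := by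
      apply Sheaf.hom_ext
      refine NatTrans.ext (funext fun V => ConcreteCategory.hom_ext _ _ fun s => ?_)
      change ((LocCohZW.ev V.unop).map (LocCohZW.unitU U I)).hom ((g.hom.app V).hom s) = 0
      rw [LocCohZW.unit_app_eq_zero_iff]
      refine (ConcreteCategory.congr_hom (g.hom.naturality (homOfLE (inf_le_left : V.unop ⊓ U ≤ V.unop)).op) s).symm.trans ?_
      have := H85.subsingleton_push_sections (i := CohCx.inclCompl U) B (V.unop ⊓ U) fun (z : ((U : Set X)ᶜ : Set X)) (hz : (z : X) ∈ V.unop ⊓ U) => z.2 hz.2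
      exact (congrArg (g.hom.app (op (V.unop ⊓ U))).hom (@Subsingleton.elim _ this _ 0)).trans (map_zero _)
    refine ⟨ff.preimage (kernel.lift _ g hg ≫ e.inv), ff.map_injective ?_⟩
    rw [Functor.map_comp, ff.map_preimage, ← cancel_mono e.hom, ← cancel_mono (kernel.ι (LocCohZW.unitU U I))]
    simp only [Category.assoc, Iso.inv_hom_id_assoc, kernel.lift_ι]
    exact Injective.comp_factorThru f0 _
  exact Injective.of_iso ((asIso (adj.counit.app H)).symm ≪≫ (CohTop.pull (CohCx.inclCompl U)).mapIso e) hH

end Groth.Agent.S0925
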