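import Groth.Statements.S0926
import Mathlib
import Groth.Agent.IrrFlasque.Basic

set_option autoImplicit false
universe u
open CategoryTheory
open CohTop

namespace Groth.Agent.S0926

open CategoryTheory CategoryTheory.Limits TopologicalSpace Opposite

theorem sections_zsmul {X : TopCat.{u}} {F G : CohTop.Ab X} (d : ℤ) (f : F ⟶ G) (V : (Opens X)ᵒᵖ) (a : F.obj.obj V) :
    ((d • f).hom.app V).hom a = d • (f.hom.app V).hom a := rfl

theorem injective_app {X : TopCat.{u}} {F G : CohTop.Ab X} (j : F ⟶ G) [Mono j] (V : (Opens X)ᵒᵖ) :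
    Function.Injective (j.hom.app V).hom := by
  have h : Mono ((sheafToPresheaf _ _).map j) := inferInstance
  exact (AddCommGrpCat.mono_iff_injective _).1 ((NatTrans.mono_iff_mono_app _).1 h V)

theorem main {X : TopCat.{u}} [IrreducibleSpace X] (H : CohTop.Ab X)
    (j : H ⟶ IrrFlasque.constFlasque (X := X) (ULift.{u} ℤ)) [Mono j] :
    ∃ (U : Opens X) (d : ℤ), U ≠ ⊥ ∧
      (∃ r : (CohTop.restrFunctor U).obj (IrrFlasque.constFlasque (X := X) (ULift.{u} ℤ)) ⟶ (CohTop.restrFunctor U).obj H,
        r ≫ (CohTop.restrFunctor U).map j = d • 𝟙 _) ∧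
      (∃ q : (CohTop.restrFunctor U).obj H ⟶ (CohTop.restrFunctor U).obj (IrrFlasque.constFlasque (X := X) (ULift.{u} ℤ)),
        d • q = (CohTop.restrFunctor U).map j) := by
  classical
  let C := IrrFlasque.constFlasque (X := X) (ULift.{u} ℤ)
  have hinj := fun V => injective_app j V
  have hne : ∀ {V W : Opens X}, V ≠ ⊥ → W ≠ ⊥ → V ⊓ W ≠ ⊥ := by
    intro V W hV hW h
    have hV' : (V : Set X).Nonempty := (Opens.ne_bot_iff_nonempty V).1 hV
    have hW' : (W : Set X).Nonempty := (Opens.ne_bot_iff_nonempty W).1 hW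
    obtain ⟨z, hz⟩ := nonempty_preirreducible_inter V.2 W.2 hV' hW'
    have : z ∈ (V ⊓ W : Opens X) := hz
    rw [h] at this
    exact this
  let S : AddSubgroup ℤ :=
    { carrier := {n | ∃ (V : Opens X) (_ : V ≠ ⊥) (s : H.obj.obj (op V)),
        ∀ x : V, ((j.hom.app (op V)).hom s).1 x = ULift.up n}
      zero_mem' := by
        refine ⟨⊤, ?_, 0, fun x => ?_⟩
        · rw [Opens.ne_bot_iff_nonempty]; exact Set.univ_nonempty
        · rw [map_zero]; rfl
      add_mem' := by
        rintro a b ⟨V, hV, s, hs⟩ ⟨W, hW, t, ht⟩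
        refine ⟨V ⊓ W, hne hV hW, H.obj.map (homOfLE inf_le_left).op s + H.obj.map (homOfLE inf_le_right).op t, fun x => ?_⟩
        rw [map_add]
        have e1 := ConcreteCategory.congr_hom (j.hom.naturality (homOfLE (inf_le_left : V ⊓ W ≤ V)).op) s
        have e2 := ConcreteCategory.congr_hom (j.hom.naturality (homOfLE (inf_le_right : V ⊓ W ≤ W)).op) t
        refine (congrArg₂ (fun p q => p + q) ((congrFun (congrArg Subtype.val e1) x).trans (hs ⟨x.1, x.2.1⟩))
          ((congrFun (congrArg Subtype.val e2) x).trans (ht ⟨x.1, x.2.2⟩)))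
      neg_mem' := by
        rintro a ⟨V, hV, s, hs⟩
        refine ⟨V, hV, -s, fun x => ?_⟩
        rw [map_neg]
        exact congrArg Neg.neg (hs x) }
  obtain ⟨d, hd⟩ := Int.subgroup_cyclic S
  have hdS : d ∈ S := hd ▸ AddSubgroup.subset_closure rfl
  obtain ⟨U, hU, s0, hs0⟩ := hdS
  refine ⟨U, d, hU, ?_, ?_⟩
  · -- lift `d • a`
    have ex : ∀ (V : Opens X) (hVU : V ≤ U) (a : C.obj.obj (op V)), ∃ s, (j.hom.app (op V)).hom s = d • a := by
      intro V hVU a
      rcases isEmpty_or_nonempty V with hV | ⟨⟨v⟩⟩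
      · exact ⟨0, Subtype.ext (funext fun x => hV.elim x)⟩
      · refine ⟨(a.1 v).down • H.obj.map (homOfLE hVU).op s0, Subtype.ext (funext fun x => ?_)⟩
        rw [map_zsmul]
        have e1 := ConcreteCategory.congr_hom (j.hom.naturality (homOfLE hVU).op) s0
        change (a.1 v).down • ((j.hom.app (op V)).hom _).1 x = d • a.1 x
        refine (congrArg (fun z => (a.1 v).down • z) ((congrFun (congrArg Subtype.val e1) x).trans (hs0 ⟨x.1, hVU x.2⟩))).trans ?_
        rw [a.2 x v]
        refine ULift.ext _ _ ?_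
        change (a.1 v).down * d = d * (a.1 v).down
        ring
    let img : Opens (TopCat.of U) ⥤ Opens X := U.isOpenEmbedding.isOpenMap.functor
    have himg : ∀ W, img.obj W ≤ U := fun W x ⟨y, _, hy⟩ => hy ▸ y.2
    choose r hr using fun (W : Opens (TopCat.of U)) (a : C.obj.obj (op (img.obj W))) => ex _ (himg W) a
    refine ⟨⟨{ app := fun W => AddCommGrpCat.ofHom (AddMonoidHom.mk' (r W.unop) fun a b => hinj _
                  ((hr _ _).trans ((smul_add d _ _).trans ((congrArg₂ (· + ·) (hr _ _).symm (hr _ _).symm).trans (map_add _ _ _).symm))))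
               naturality := fun W W' f => AddCommGrpCat.hom_ext (AddMonoidHom.ext fun a => hinj _ ?_) }⟩, ?_⟩
    · change (j.hom.app _).hom (r W'.unop (C.obj.map (img.map f.unop).op a)) =
        (j.hom.app _).hom (H.obj.map (img.map f.unop).op (r W.unop a))
      rw [hr]
      refine Eq.trans ?_ (ConcreteCategory.congr_hom (j.hom.naturality (img.map f.unop).op) (r W.unop a)).symm
      exact ((congrArg (C.obj.map (img.map f.unop).op).hom (hr W.unop a)).trans (map_zsmul _ _ _)).symm
    · apply Sheaf.hom_ext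
      refine NatTrans.ext (funext fun W => AddCommGrpCat.hom_ext (AddMonoidHom.ext fun a => ?_))
      exact hr W.unop a
  · -- divide by `d`
    have ex : ∀ (V : Opens X) (s : H.obj.obj (op V)), ∃ a : C.obj.obj (op V),
        d • a = (j.hom.app (op V)).hom s ∧ (d = 0 → a = 0) := by
      intro V s
      rcases isEmpty_or_nonempty V with hV | ⟨⟨v⟩⟩
      · exact ⟨0, Subtype.ext (funext fun x => hV.elim x), fun _ => rfl⟩
      · let n := (((j.hom.app (op V)).hom s).1 v).down
        have hn : n ∈ S := ⟨V, (Opens.ne_bot_iff_nonempty V).2 ⟨v.1, v.2⟩, s,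
          fun x => ((j.hom.app (op V)).hom s).2 x v⟩
        obtain ⟨m, hm⟩ : ∃ m : ℤ, m • d = n := AddSubgroup.mem_closure_singleton.1 (hd ▸ hn)
        by_cases h0 : d = 0
        · refine ⟨0, ?_, fun _ => rfl⟩
          refine Subtype.ext (funext fun x => ?_)
          rw [smul_zero, ((j.hom.app (op V)).hom s).2 x v]
          refine ULift.ext _ _ ?_
          change 0 = n
          rw [← hm, h0, smul_zero]
        · refine ⟨⟨fun _ => ULift.up m, fun _ _ => rfl⟩, Subtype.ext (funext fun x => ?_), fun h => absurd h h0⟩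
          rw [((j.hom.app (op V)).hom s).2 x v]
          refine ULift.ext _ _ ?_
          change d * m = n
          rw [← hm, smul_eq_mul, mul_comm]
    have uniq : ∀ (V : Opens X) (a b : C.obj.obj (op V)), (d = 0 → a = b) → d • a = d • b → a = b := by
      intro V a b h0 h
      by_cases hd0 : d = 0
      · exact h0 hd0
      · refine Subtype.ext (funext fun x => ULift.ext _ _ ?_)
        have := congrArg (fun z => (z.1 x).down) h
        exact mul_left_cancel₀ hd0 this
    choose q hq hq0 using ex
    let img : Opens (TopCat.of U) ⥤ Opens X := U.isOpenEmbedding.isOpenMap.functor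
    refine ⟨⟨{ app := fun W => AddCommGrpCat.ofHom (AddMonoidHom.mk' (q (img.obj W.unop)) fun a b =>
                  uniq _ _ _ (fun h => (hq0 _ _ h).trans ((congrArg₂ (· + ·) (hq0 _ _ h) (hq0 _ _ h)).trans (add_zero _)).symm)
                    ((hq _ _).trans ((map_add _ _ _).trans ((congrArg₂ (· + ·) (hq _ _).symm (hq _ _).symm).trans (smul_add d _ _).symm))))
               naturality := fun W W' f => AddCommGrpCat.hom_ext (AddMonoidHom.ext fun a => uniq _ _ _ (fun h => ?_) ?_) }⟩, ?_⟩
    · change q _ (H.obj.map (img.map f.unop).op a) = C.obj.map (img.map f.unop).op (q _ a)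
      exact (hq0 _ _ h).trans ((congrArg _ (hq0 _ _ h)).trans (map_zero _)).symm
    · change d • q _ (H.obj.map (img.map f.unop).op a) = d • C.obj.map (img.map f.unop).op (q _ a)
      exact (hq _ _).trans ((ConcreteCategory.congr_hom (j.hom.naturality (img.map f.unop).op) a).trans
        ((congrArg (C.obj.map (img.map f.unop).op).hom (hq _ a)).symm.trans (map_zsmul _ _ _)))
    · apply Sheaf.hom_ext
      refine NatTrans.ext (funext fun W => AddCommGrpCat.hom_ext (AddMonoidHom.ext fun a => ?_))
      exact hq (img.obj W.unop) a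

open TopologicalSpace CategoryTheory.Limits in
/-- Let X be an irreducible topological space and H an abelian subsheaf of the constant sheaf Z (given
by a monomorphism ι). Then there are a nonempty open U and an integer d such that over U the
subsheaf H coincides with the image of multiplication by d on the constant sheaf: the images of ι|_U
and of (d · id)|_U agree as subobjects of the constant sheaf on U. -/
theorem result {X : TopCat.{u}} [IrreducibleSpace X]
    (H : CohTop.Ab X) (ι : H ⟶ CohTop.const X (ULift.{u} ℤ)) [Mono ι] :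
    ∃ (U : Opens X) (d : ℤ), U ≠ ⊥ ∧
      imageSubobject ((CohTop.restrFunctor U).map ι) =
        imageSubobject ((CohTop.restrFunctor U).map (d • 𝟙 (CohTop.const X (ULift.{u} ℤ)))) := by
  haveI : Mono (ι ≫ (IrrFlasque.constIso (X := X) (ULift.{u} ℤ)).hom) := mono_comp _ _
  obtain ⟨U, d, hU, ⟨r, hr⟩, ⟨q, hq⟩⟩ := main H (ι ≫ (IrrFlasque.constIso (X := X) (ULift.{u} ℤ)).hom)
  refine ⟨U, d, hU, ?_⟩
  let R := CohTop.restrFunctor U
  let e := R.mapIso (IrrFlasque.constIso (X := X) (ULift.{u} ℤ))
  let a : R.obj H ⟶ R.obj (CohTop.const X (ULift.{u} ℤ)) := R.map ι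
  let b : R.obj (CohTop.const X (ULift.{u} ℤ)) ⟶ R.obj (CohTop.const X (ULift.{u} ℤ)) :=
    R.map (d • 𝟙 (CohTop.const X (ULift.{u} ℤ)))
  have hb : b = d • 𝟙 _ := by simp [b, Functor.map_zsmul]
  have hae : a ≫ e.hom = R.map (ι ≫ (IrrFlasque.constIso (X := X) (ULift.{u} ℤ)).hom) := (R.map_comp _ _).symm
  have h1 : (e.hom ≫ r) ≫ a = b := by
    rw [← cancel_mono e.hom, Category.assoc, Category.assoc, hae, hr, hb, Preadditive.comp_zsmul, Preadditive.zsmul_comp, Category.id_comp]
    exact congrArg (fun z => d • z) (Category.comp_id _)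
  have h2 : (q ≫ e.inv) ≫ b = a := by
    rw [← cancel_mono e.hom, hae, ← hq, hb]
    simp
  change imageSubobject a = imageSubobject b
  refine le_antisymm ?_ ?_
  · conv_lhs => rw [← h2]
    exact imageSubobject_comp_le _ _
  · conv_lhs => rw [← h1]
    exact imageSubobject_comp_le _ _

end Groth.Agent.S0926
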