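import Groth.Statements.S0929
import Groth.Agent.DHA.InjEmbedding
import Groth.Agent.ModShf.GrothAb
-- import your own Groth.Agent.* helpers here

set_option autoImplicit false
universe u
open CategoryTheory CategoryTheory.Limits
open CohDer

namespace Groth.Agent.S0929

/-- For a presheaf of rings O on a small category C, the category of presheaves of O-modules has
functorial injective embeddings (an endofunctor J with a natural transformation from the identity
whose components are monomorphisms into injective objects). -/
theorem result {C : Type u} [SmallCategory C]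
    (O : Cᵒᵖ ⥤ RingCat.{u}) :
    ∃ (J : PresheafOfModules.{u} O ⥤ PresheafOfModules.{u} O) (j : 𝟭 _ ⟶ J),
      ∀ F : PresheafOfModules.{u} O, Injective (J.obj F) ∧ Mono (j.app F) := by
  have : HasSeparator (PresheafOfModules.{u} O) :=
    ⟨⟨∐ ((yoneda ⋙ PresheafOfModules.free O).obj),
      (isSeparator_sigma _).2 (PresheafOfModules.freeYoneda.isSeparating O)⟩⟩
  have : IsGrothendieckAbelian.{u} (PresheafOfModules.{u} O) :=
    { hasFilteredColimitsOfSize := ⟨fun _ _ _ => inferInstance⟩
      ab5OfSize := ⟨fun _ _ _ => inferInstance⟩ }
  exact Groth.Agent.DHA.InjEmbedding.exists_functorial.{u} _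

end Groth.Agent.S0929
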