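import Groth.Statements.S0930
import Groth.Agent.EtSixLib.DerivedComp
import Groth.Agent.CohTop.Proper.Nbhd

set_option autoImplicit false
universe u
open CategoryTheory
attribute [local instance] HasDerivedCategory.standard
open CohTop

namespace Groth.Agent.S0930

/-- For continuous maps f : X -> Y and g : Y -> Z, the composite of the right derived functors Rf_* :
D^+(X) -> D^+(Y) and Rg_* : D^+(Y) -> D^+(Z) is isomorphic to R(g ∘ f)_* (existence of an
isomorphism of functors between bounded below derived categories). -/
theorem result {X Y Z : TopCat.{u}} (f : X ⟶ Y) (g : Y ⟶ Z) :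
    Nonempty ((CohTop.push f).rightDerivedFunctorPlus ⋙ (CohTop.push g).rightDerivedFunctorPlus ≅
      (CohTop.push (f ≫ g)).rightDerivedFunctorPlus) := by
  let θ : CohTop.push (f ≫ g) ≅ CohTop.push f ⋙ CohTop.push g :=
    NatIso.ofComponents (fun _ => Iso.refl _)
  let adj := TopCat.Sheaf.pullbackPushforwardAdjunction AddCommGrpCat.{u} f
  have hl : Limits.PreservesFiniteLimits (CohTop.pull f) := inferInstance
  have : (TopCat.Sheaf.pullback AddCommGrpCat.{u} f).PreservesMonomorphisms :=
    @preservesMonomorphisms_of_preservesLimitsOfShape _ _ _ _ (CohTop.pull f) (hl.preservesFiniteLimits _)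
  have := Groth.Agent.EtSixLib.isIso_rPlusDesc₂ (F := CohTop.push f) (G := CohTop.push g) θ.hom
    (fun I hI => @Injective.injective_of_adjoint _ _ _ _ _ _ this adj I hI)
  exact ⟨(asIso (EtSix.rPlusDesc₂ θ.hom)).symm⟩

end Groth.Agent.S0930
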