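import Groth.Statements.S0935
import Groth.Agent.KFlat.RPushTriangle

open CategoryTheory.Limits

set_option autoImplicit false
universe u
open CategoryTheory
attribute [local instance] HasDerivedCategory.standard
open DCoh

namespace Groth.Agent.S0935

open AlgebraicGeometry CategoryTheory.Limits in
/-- Let f : X → Y be a morphism of schemes and (K_n)_{n ≥ 0} an inverse system in D(O_X) with derived
limit L. Then Rf_*L is a derived limit of the system (Rf_*K_n). Here Rf_* is the total right derived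
functor of f_* under its existence binder, and the two countable products ∏ K_n and ∏ Rf_*K_n are
assumed to exist. (The published statement is for morphisms of ringed spaces; stated here for
schemes.) -/
theorem result {X Y : Scheme.{u}} (f : X ⟶ Y) [DCoh.HasRpush f]
    (K : ℕ → DCoh.D X) (t : ∀ n, K (n + 1) ⟶ K n) [HasProduct K] [HasProduct fun n => (DCoh.Rpush f).obj (K n)]
    (L : DCoh.D X) (hL : DCoh.IsRlim K t L) :
    DCoh.IsRlim (fun n => (DCoh.Rpush f).obj (K n)) (fun n => (DCoh.Rpush f).map (t n)) ((DCoh.Rpush f).obj L) := by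
  obtain ⟨a, c, hT⟩ := hL
  obtain ⟨δ, hδ⟩ := Groth.Agent.KFlat.RPushTriangle.distinguished_Rpush f _ hT
  have := Groth.Agent.KFlat.RPushTriangle.preservesProduct f K
  let R := DCoh.Rpush f
  let φ := PreservesProduct.iso R K
  have hπ : ∀ n, φ.hom ≫ Pi.π (fun n => R.obj (K n)) n = R.map (Pi.π K n) := fun n => by
    rw [PreservesProduct.iso_hom]
    exact piComparison_comp_π R K n
  refine ⟨R.map a ≫ φ.hom, φ.inv ≫ δ, Pretriangulated.isomorphic_distinguished _ hδ _ ?_⟩
  refine Pretriangulated.Triangle.isoMk _ _ (Iso.refl _) φ.symm φ.symm ?_ ?_ ?_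
  · change (R.map a ≫ φ.hom) ≫ φ.inv = 𝟙 _ ≫ R.map a
    simp
  · change Pi.lift (fun n => Pi.π (fun n => R.obj (K n)) n - Pi.π (fun n => R.obj (K n)) (n + 1) ≫ R.map (t n)) ≫
      φ.inv = φ.inv ≫ R.map (Pi.lift fun n => Pi.π K n - Pi.π K (n + 1) ≫ t n)
    rw [Iso.eq_inv_comp, ← Category.assoc, Iso.comp_inv_eq]
    refine Pi.hom_ext _ _ fun n => ?_
    rw [Category.assoc, Category.assoc, Pi.lift_π, hπ, ← R.map_comp, Pi.lift_π, R.map_sub, R.map_comp,
      Preadditive.comp_sub, ← Category.assoc, hπ, hπ]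
  · change (φ.inv ≫ δ) ≫ (𝟙 (R.obj L))⟦(1 : ℤ)⟧' = φ.inv ≫ δ
    exact (congrArg ((φ.inv ≫ δ) ≫ ·) (CategoryTheory.Functor.map_id _ _)).trans (Category.comp_id _)

end Groth.Agent.S0935
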