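import Groth.Statements.S0945
import Groth.Agent.PerfExt.Local
import Groth.Agent.PerfExt.Affine
import Groth.Agent.KFlat.ExtZero
import Groth.Agent.KFlat.ExtZeroTensor
import Groth.Agent.KFlat.StalkD

set_option autoImplicit false
universe u
open CategoryTheory
attribute [local instance] HasDerivedCategory.standard
open DCoh

attribute [-instance] CategoryTheory.ReflQuiver.toQuiver

namespace Groth.Agent.S0945

section Helpers

open AlgebraicGeometry CategoryTheory.Limits DerivedCategory Pretriangulated Groth.Agent.KFlat Groth.Agent.PerfExt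

variable {X : Scheme.{u}}

/-- restricting an extension by zero gives back the object -/
noncomputable def extRestrictIso (O : X.Opens) :
    CxOX.extZeroD O.ι ⋙ DCoh.restrictD O.ι ≅ 𝟭 (DCoh.D (O : Scheme.{u})) :=
  Localization.liftNatIso DerivedCategory.Q (HomologicalComplex.quasiIso (O : Scheme.{u}).Modules (ComplexShape.up ℤ))
    (DerivedCategory.Q ⋙ (CxOX.extZeroD O.ι ⋙ DCoh.restrictD O.ι)) DerivedCategory.Q _ (𝟭 _)
    ((Functor.associator _ _ _).symm ≪≫
      Functor.isoWhiskerRight (CxOX.extZero O.ι).mapDerivedCategoryFactors _ ≪≫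
      Functor.associator _ _ _ ≪≫
      Functor.isoWhiskerLeft _ (Scheme.Modules.restrictFunctor O.ι).mapDerivedCategoryFactors ≪≫
      (Functor.associator _ _ _).symm ≪≫
      Functor.isoWhiskerRight
        (RPushBase.mapCxComp _ _ _ ≪≫
          NatIso.mapHomologicalComplex (asIso (CxOX.extZeroAdj O.ι).unit).symm _ ≪≫
          Functor.mapHomologicalComplexIdIso _ _) _ ≪≫ Functor.leftUnitor _)

theorem isIso_unit (O : X.Opens) (G : DCoh.D (O : Scheme.{u})) :
    IsIso ((ExtZero.extZeroDAdj O).unit.app G) := by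
  have := (ExtZero.extZeroDAdj O).isIso_unit_of_iso (extRestrictIso O)
  infer_instance

/-- stalks of cohomology of an extension by zero vanish outside -/
theorem isZero_stalk_ext (O : X.Opens) (G : DCoh.D (O : Scheme.{u})) (i : ℤ) {y : X} (hy : y ∉ O) :
    IsZero ((DerSch.stalkFunctor X y).obj (DCoh.HD ((CxOX.extZeroD O.ι).obj G) i)) :=
  (ExtZeroTensor.isZero_stalk_extZero O _ hy).of_iso
    ((DerSch.stalkFunctor X y).mapIso ((MapHomology.iso (CxOX.extZero O.ι) i).app G))

/-- restriction of a transposed map is an isomorphism if the map is -/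
theorem isIso_restrict_transpose {O O' : X.Opens} (a : (O : Scheme.{u}) ⟶ (O' : Scheme.{u})) [IsOpenImmersion a]
    (ha : a ≫ O'.ι = O.ι) (G : DCoh.D (O : Scheme.{u})) (A : DCoh.D (O' : Scheme.{u}))
    (e : G ≅ (DCoh.restrictD a).obj A) :
    IsIso ((DCoh.restrictD O.ι).map (((ExtZero.extZeroDAdj O).homEquiv G ((CxOX.extZeroD O'.ι).obj A)).symm
      (e.hom ≫ (DCoh.restrictD a).map ((ExtZero.extZeroDAdj O').unit.app A) ≫
        (restrictDComp a O'.ι O.ι ha).hom.app _))) := by
  let adj := ExtZero.extZeroDAdj O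
  let x := e.hom ≫ (DCoh.restrictD a).map ((ExtZero.extZeroDAdj O').unit.app A) ≫
    (restrictDComp a O'.ι O.ι ha).hom.app ((CxOX.extZeroD O'.ι).obj A)
  have := isIso_unit O' A
  have := isIso_unit O G
  have hx : IsIso x := inferInstanceAs (IsIso (e.hom ≫ _ ≫ _))
  have h : adj.unit.app G ≫ (DCoh.restrictD O.ι).map ((adj.homEquiv G _).symm x) = x := by
    exact (adj.homEquiv_unit _ _ _).symm.trans ((adj.homEquiv G _).apply_symm_apply x)
  exact IsIso.of_isIso_fac_left h


theorem isIso_leg {C D : Type*} [Category C] [Category D] [Preadditive C] [Preadditive D] [HasShift C ℤ]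
    [HasShift D ℤ] [HasZeroObject C] [HasZeroObject D] [∀ n : ℤ, (shiftFunctor C n).Additive]
    [∀ n : ℤ, (shiftFunctor D n).Additive] [Pretriangulated C] [Pretriangulated D] (F : C ⥤ D) [F.CommShift ℤ]
    [F.IsTriangulated] {W P Q R : C} [HasBinaryBiproduct P Q] (u : W ⟶ P) (v : W ⟶ Q) (g : P ⊞ Q ⟶ R)
    (d : R ⟶ W⟦(1 : ℤ)⟧) (hT : Triangle.mk (biprod.lift u v) g d ∈ distinguishedTriangles) (hv : IsIso (F.map v)) :
    IsIso (F.map (biprod.inl ≫ g)) := by
  have hT' := F.map_distinguished _ hT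
  let T := F.mapTriangle.obj (Triangle.mk (biprod.lift u v) g d)
  have : IsIso (F.map v) := hv
  have : Mono T.mor₁ := by
    have : T.mor₁ ≫ F.map biprod.snd = F.map v := by
      change F.map (biprod.lift u v) ≫ F.map biprod.snd = _
      rw [← F.map_comp, biprod.lift_snd]
    refine ⟨fun p q hpq => (cancel_mono (F.map v)).1 ?_⟩
    rw [← this]
    exact (Category.assoc _ _ _).symm.trans ((congrArg (· ≫ F.map biprod.snd) hpq).trans (Category.assoc _ _ _))
  have h3 : T.mor₃ = 0 := Triangle.mor₃_eq_zero_of_mono₁ T hT' inferInstance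
  have hepi : Epi T.mor₂ := (Triangle.mor₃_eq_zero_iff_epi₂ T hT').1 h3
  refine ⟨?_⟩
  obtain ⟨r, hr⟩ : ∃ r, F.map biprod.fst - F.map biprod.snd ≫ inv (F.map v) ≫ F.map u = T.mor₂ ≫ r :=
    Triangle.yoneda_exact₂ T hT' _ (by
      change F.map (biprod.lift u v) ≫ _ = 0
      refine (Preadditive.comp_sub _ _ _).trans ?_
      rw [← Category.assoc, ← F.map_comp, ← F.map_comp, biprod.lift_fst, biprod.lift_snd,
        IsIso.hom_inv_id_assoc, sub_self])
  change F.map (biprod.fst : P ⊞ Q ⟶ P) - _ = F.map g ≫ r at hr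
  have hcomp : F.map (biprod.inl : P ⟶ P ⊞ Q) ≫ F.map g ≫ r = 𝟙 _ := by
    rw [← hr, Preadditive.comp_sub, ← Category.assoc, ← F.map_comp, ← F.map_comp, biprod.inl_fst, biprod.inl_snd,
      F.map_zero, zero_comp, sub_zero, F.map_id]
  refine ⟨r, by rw [F.map_comp, Category.assoc, hcomp], ?_⟩
  refine (cancel_epi T.mor₂).1 ?_
  change F.map g ≫ r ≫ F.map (biprod.inl ≫ g) = F.map g ≫ 𝟙 _
  rw [← Category.assoc, ← hr, Preadditive.sub_comp, ← F.map_comp, Category.assoc, Category.assoc, ← F.map_comp,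
    Category.comp_id]
  have h0 : F.map (biprod.lift u v) ≫ F.map g = 0 := comp_distTriang_mor_zero₁₂ _ hT'
  have hw : F.map (u ≫ biprod.inl ≫ g) = - (F.map v ≫ F.map (biprod.inr ≫ g)) := by
    rw [eq_neg_iff_add_eq_zero, ← F.map_comp, ← F.map_add]
    refine Eq.trans ?_ h0
    rw [← F.map_comp, biprod.lift_eq, Preadditive.add_comp, Category.assoc, Category.assoc]
  rw [hw, Preadditive.comp_neg, Preadditive.comp_neg, IsIso.inv_hom_id_assoc, sub_neg_eq_add, ← F.map_comp, ← F.map_add]
  exact congrArg F.map ((by rw [← Category.assoc, ← Category.assoc, ← Preadditive.add_comp, biprod.total, Category.id_comp]))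

theorem isIso_leg' {C D : Type*} [Category C] [Category D] [Preadditive C] [Preadditive D] [HasShift C ℤ]
    [HasShift D ℤ] [HasZeroObject C] [HasZeroObject D] [∀ n : ℤ, (shiftFunctor C n).Additive]
    [∀ n : ℤ, (shiftFunctor D n).Additive] [Pretriangulated C] [Pretriangulated D] (F : C ⥤ D) [F.CommShift ℤ]
    [F.IsTriangulated] {W P Q R : C} [HasBinaryBiproducts C] (u : W ⟶ P) (v : W ⟶ Q) (g : P ⊞ Q ⟶ R)
    (d : R ⟶ W⟦(1 : ℤ)⟧) (hT : Triangle.mk (biprod.lift u v) g d ∈ distinguishedTriangles) (hu : IsIso (F.map u)) :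
    IsIso (F.map (biprod.inr ≫ g)) := by
  let e := biprod.braiding Q P
  have hT2 : Triangle.mk (biprod.lift v u) (e.hom ≫ g) d ∈ distinguishedTriangles :=
    isomorphic_distinguished _ hT _ (Triangle.isoMk _ _ (Iso.refl _) e (Iso.refl _)
      (by change biprod.lift v u ≫ e.hom = 𝟙 _ ≫ biprod.lift u v; rw [Category.id_comp]; apply biprod.hom_ext <;> simp [e])
      (Category.comp_id _)
      (by change d ≫ (shiftFunctor C (1 : ℤ)).map (𝟙 W) = 𝟙 _ ≫ d; rw [CategoryTheory.Functor.map_id, Category.id_comp]; exact Category.comp_id _))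
  have h := isIso_leg F v u (e.hom ≫ g) d hT2 hu
  have he : biprod.inl ≫ e.hom ≫ g = biprod.inr ≫ g := by
    rw [← Category.assoc]
    congr 1
    apply biprod.hom_ext <;> simp [e]
  rwa [he] at h

end Helpers

open DerivedCategory Pretriangulated Groth.Agent.KFlat Groth.Agent.PerfExt in
open AlgebraicGeometry CategoryTheory.Limits in
/-- Schemes; existence part only — the compatibility of the glued object with the given isomorphism on U
∩ V and the extension of morphisms are not asserted: let X = U ∪ V be a union of two opens, A an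
object of D(O_U) and B an object of D(O_V) whose restrictions to U ∩ V are isomorphic. Then there is
an object F of D(O_X) with F|_U ≅ A and F|_V ≅ B. Restrictions on derived categories are defs2's
restrictD along the open immersions, each under its exactness binder. -/
theorem result {X : Scheme.{u}} (U V : X.Opens) (hUV : U ⊔ V = ⊤)
    [PreservesFiniteLimits (Scheme.Modules.restrictFunctor U.ι)]
    [PreservesFiniteLimits (Scheme.Modules.restrictFunctor V.ι)]
    [PreservesFiniteLimits (Scheme.Modules.restrictFunctor (X.homOfLE (inf_le_left : U ⊓ V ≤ U)))]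
    [PreservesFiniteLimits (Scheme.Modules.restrictFunctor (X.homOfLE (inf_le_right : U ⊓ V ≤ V)))]
    (A : DCoh.D (U : Scheme.{u})) (B : DCoh.D (V : Scheme.{u}))
    (c : (DCoh.restrictD (X.homOfLE (inf_le_left : U ⊓ V ≤ U))).obj A ≅
      (DCoh.restrictD (X.homOfLE (inf_le_right : U ⊓ V ≤ V))).obj B) :
    ∃ F : DCoh.D X, Nonempty ((DCoh.restrictD U.ι).obj F ≅ A) ∧ Nonempty ((DCoh.restrictD V.ι).obj F ≅ B) := by
  let W := U ⊓ V
  let a : (W : Scheme.{u}) ⟶ (U : Scheme.{u}) := X.homOfLE inf_le_left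
  let b : (W : Scheme.{u}) ⟶ (V : Scheme.{u}) := X.homOfLE inf_le_right
  let adj := ExtZero.extZeroDAdj W
  let AW := (DCoh.restrictD a).obj A
  let P := (CxOX.extZeroD U.ι).obj A
  let Q' := (CxOX.extZeroD V.ι).obj B
  let u : (CxOX.extZeroD W.ι).obj AW ⟶ P :=
    (adj.homEquiv AW P).symm ((Iso.refl AW).hom ≫ (DCoh.restrictD a).map ((ExtZero.extZeroDAdj U).unit.app A) ≫
      (restrictDComp a U.ι W.ι (Scheme.homOfLE_ι _ _)).hom.app _)
  let v : (CxOX.extZeroD W.ι).obj AW ⟶ Q' :=
    (adj.homEquiv AW Q').symm (c.hom ≫ (DCoh.restrictD b).map ((ExtZero.extZeroDAdj V).unit.app B) ≫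
      (restrictDComp b V.ι W.ι (Scheme.homOfLE_ι _ _)).hom.app _)
  have hu : IsIso ((DCoh.restrictD W.ι).map u) := isIso_restrict_transpose a _ AW A (Iso.refl AW)
  have hv : IsIso ((DCoh.restrictD W.ι).map v) := isIso_restrict_transpose b _ AW B c
  -- each leg becomes invertible on the other open
  have leg : ∀ (O O' : X.Opens) (_ : W = O ⊓ O') (R : DCoh.D (O' : Scheme.{u}))
      (f : (CxOX.extZeroD W.ι).obj AW ⟶ (CxOX.extZeroD O'.ι).obj R),
      IsIso ((DCoh.restrictD W.ι).map f) → IsIso ((DCoh.restrictD O.ι).map f) := by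
    intro O O' hW R f hf
    obtain ⟨C, g, d, hT⟩ := distinguished_cocone_triangle f
    let T := Triangle.mk f g d
    refine (Triangle.isZero₃_iff_isIso₁ _ ((DCoh.restrictD O.ι).map_distinguished _ hT)).1 ?_
    refine isZero_restrict_of_support O fun i y hy hyO => hy ?_
    have hCW : IsZero ((DCoh.restrictD W.ι).obj C) :=
      (Triangle.isZero₃_iff_isIso₁ _ ((DCoh.restrictD W.ι).map_distinguished _ hT)).2 hf
    by_cases hyW : y ∈ W
    · by_contra hne
      exact support_subset_of_isZero_restrict W hCW i hne hyW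
    · have hyO' : y ∉ O' := fun h => hyW (by rw [hW]; exact ⟨hyO, h⟩)
      have hex := (HomologySequence.exact₃ T hT i (i + 1) rfl).map (DerSch.stalkFunctor X y)
      exact ModuleCat.subsingleton_of_isZero (hex.isZero_of_both_zeros
        ((isZero_stalk_ext O' R i hyO').eq_of_src _ _)
        ((isZero_stalk_ext W AW (i + 1) hyW).eq_of_tgt _ _))
  have := HasBinaryBiproducts.of_hasBinaryProducts (C := DCoh.D X)
  obtain ⟨F, g, d, hT⟩ := distinguished_cocone_triangle (biprod.lift u (-v))
  refine ⟨F, ⟨?_⟩, ⟨?_⟩⟩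
  · have := leg U V rfl B v hv
    have := isIso_unit U A
    have h : IsIso ((DCoh.restrictD U.ι).map (biprod.inl ≫ g)) :=
      isIso_leg (DCoh.restrictD U.ι) u (-v) g d hT (by rw [Functor.map_neg]; exact ⟨-inv ((DCoh.restrictD U.ι).map v), by simp, by simp⟩)
    exact (asIso ((DCoh.restrictD U.ι).map (biprod.inl ≫ g))).symm ≪≫ (asIso ((ExtZero.extZeroDAdj U).unit.app A)).symm
  · have := leg V U (inf_comm _ _) A u hu
    have := isIso_unit V B
    have h : IsIso ((DCoh.restrictD V.ι).map (biprod.inr ≫ g)) :=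
      isIso_leg' (DCoh.restrictD V.ι) u (-v) g d hT inferInstance
    exact (asIso ((DCoh.restrictD V.ι).map (biprod.inr ≫ g))).symm ≪≫ (asIso ((ExtZero.extZeroDAdj V).unit.app B)).symm

end Groth.Agent.S0945
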