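import Groth.Statements.S0947
import Groth.Agent.CohTop.SpectralColimit

set_option autoImplicit false
universe u
open CategoryTheory
open CohTop

namespace Groth.Agent.S0947

open TopologicalSpace Opposite CategoryTheory.Limits in
/-- Let X be a spectral space, F an abelian sheaf on X, E ⊆ X a quasi-compact subset and W the set of
points of X specializing to some point of E. Then for every p the group H^p(W, F|_W) (cohomology of
the pullback of F to the subspace W) is isomorphic to the colimit of the groups H^p(U, F) over the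
quasi-compact open neighbourhoods U of E (existence of an isomorphism). -/
theorem result {X : TopCat.{u}} [SpectralSpace X] (E : Set X)
    (hE : IsCompact E) (F : CohTop.Ab X) (p : ℕ) :
    Nonempty ((colimit (ObjectProperty.ι (fun U : (Opens X)ᵒᵖ => E ⊆ (U.unop : Set X) ∧ IsCompact (U.unop : Set X)) ⋙
        (Sheaf.cohomologyPresheafFunctor (Opens.grothendieckTopology X) p).obj F) : AddCommGrpCat.{u}) ≃+
      CohTop.H ((CohTop.pull (TopCat.ofHom ⟨Subtype.val, continuous_subtype_val⟩ :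
        TopCat.of {x : X | ∃ e ∈ E, e ∈ closure {x}} ⟶ X)).obj F) p) := by
  let Z : TopCat.{u} := TopCat.of {x : X | ∃ e ∈ E, e ∈ closure {x}}
  let i : Z ⟶ X := TopCat.ofHom ⟨Subtype.val, continuous_subtype_val⟩
  let Q : ObjectProperty (Opens X)ᵒᵖ := fun U => E ⊆ (U.unop : Set X) ∧ IsCompact (U.unop : Set X)
  let κ := {V : Opens X // E ⊆ (V : Set X) ∧ IsCompact (V : Set X)}
  have : Nonempty κ := ⟨⟨⊤, Set.subset_univ _, isCompact_univ⟩⟩
  have hmem : ∀ (z : Z) (V : Opens X), E ⊆ (V : Set X) → i z ∈ V := fun z V hV => by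
    obtain ⟨e, he, hze⟩ := z.2
    exact (specializes_iff_mem_closure.2 hze).mem_open V.2 (hV he)
  have hrange : ∀ x, (∀ k : κ, x ∈ k.1) → x ∈ Set.range i := fun x hx => by
    refine ⟨⟨x, ?_⟩, rfl⟩
    by_contra hx'
    have hx'' : ∀ e ∈ E, e ∉ closure ({x} : Set X) := fun e he h => hx' ⟨e, he, h⟩
    choose W hWc heW hW using fun e : E =>
      Groth.Agent.CohTop.Spectral.exists_compact_nbhd
        (V := (⟨(closure {x})ᶜ, isClosed_closure.isOpen_compl⟩ : Opens X)) (x := e.1) (hx'' e.1 e.2)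
    obtain ⟨t, ht⟩ := hE.elim_finite_subcover (fun e => (W e : Set X)) (fun e => (W e).2)
      fun e he => Set.mem_iUnion.2 ⟨⟨e, he⟩, heW _⟩
    have hmem := hx ⟨⟨⋃ e ∈ t, (W e : Set X), isOpen_biUnion fun e _ => (W e).2⟩, ht,
      t.finite_toSet.isCompact_biUnion fun e _ => hWc e⟩
    obtain ⟨e, -, hxe⟩ := Set.mem_iUnion₂.1 hmem
    exact hW e hxe (subset_closure rfl)
  have hdir : ∀ a b : κ, ∃ c : κ, c.1 ≤ a.1 ⊓ b.1 := fun a b =>
    ⟨⟨a.1 ⊓ b.1, Set.subset_inter a.2.1 b.2.1,
      Groth.Agent.CohTop.Spectral.isCompact_inf a.2.2 b.2.2⟩, le_rfl⟩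
  have ht : Groth.Agent.CohTop.SpectralNbhd.Trace i :=
    Groth.Agent.CohTop.SpectralNbhd.trace_of_family Topology.IsInducing.subtypeVal
      (fun k : κ => k.1) (fun k => k.2.2) hdir (fun z k => hmem z k.1 k.2.1) hrange
  have : IsFiltered Q.FullSubcategory :=
    { cocone_objs := fun U V => ⟨⟨op (U.obj.unop ⊓ V.obj.unop), Set.subset_inter U.2.1 V.2.1,
        Groth.Agent.CohTop.Spectral.isCompact_inf U.2.2 V.2.2⟩,
        ObjectProperty.homMk (homOfLE inf_le_left).op, ObjectProperty.homMk (homOfLE inf_le_right).op,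
        trivial⟩
      cocone_maps := fun U V a b => ⟨V, 𝟙 V, ObjectProperty.hom_ext _ (Subsingleton.elim _ _)⟩
      nonempty := ⟨⟨op ⊤, Set.subset_univ _, isCompact_univ⟩⟩ }
  exact Groth.Agent.CohTop.SpectralColimit.nonempty_equiv (Q := Q) F p i
    (fun U z => hmem z U.obj.unop U.2.1) ht fun U hU => by
      obtain ⟨k, hk⟩ := Groth.Agent.CohTop.SpectralNbhd.exists_member (fun k : κ => k.1)
        (fun k => k.2.2) hdir ⊤ isCompact_univ U fun x _ hx => by
          obtain ⟨z, rfl⟩ := hrange x hx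
          exact hU z
      exact ⟨⟨op k.1, k.2⟩, fun x hx => hk ⟨trivial, hx⟩⟩

end Groth.Agent.S0947
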