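import Groth.Statements.S0950
import Groth.Agent.KFlat.Resolution

set_option autoImplicit false
universe u
open CategoryTheory
attribute [local instance] HasDerivedCategory.standard
open DCoh

namespace Groth.Agent.S0950

open AlgebraicGeometry in
/-- Let α : P -> Q be a quasi-isomorphism between K-flat complexes of O_X-modules. Then for every
complex F the induced map F ⊗ P -> F ⊗ Q is a quasi-isomorphism. -/
theorem result {X : Scheme.{u}} {P Q : CochainComplex X.Modules ℤ} (α : P ⟶ Q)
    [QuasiIso α] (hP : DCoh.IsKFlat P) (hQ : DCoh.IsKFlat Q) (F : CochainComplex X.Modules ℤ) :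
    QuasiIso ((DCoh.tensorCx.obj F).map α) := by
  exact @Groth.Agent.KFlat.quasiIso_tens_map _ _ _ X.sheaf P Q α (by assumption) hP hQ F

end Groth.Agent.S0950
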