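import Groth.Statements.S0960
import Groth.Agent.KFlat.PullTensor
import Groth.Agent.KFlat.LTensor
import Groth.Agent.KFlat.Lpull
import Groth.Agent.KFlat.Kflat2

open Groth.Agent.KFlat Groth.Agent.KFlat.Pull

set_option autoImplicit false
universe u
open CategoryTheory
attribute [local instance] HasDerivedCategory.standard
open DCoh

namespace Groth.Agent.S0960

open AlgebraicGeometry in
/-- Schemes; second factor given by a K-flat complex L, so that Lf^* L is the plain pullback f^* L: for
f : X -> Y, K in D(O_Y) and a K-flat complex L of O_Y-modules there is an isomorphism Lf^*(K ⊗^L L)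
≅ (Lf^* K) ⊗^L (f^* L). The derived functors are taken under their existence binders; the assertion
is the existence of an isomorphism for each K. -/
theorem result {X Y : Scheme.{u}} (f : X ⟶ Y) [DCoh.HasLpull f] (L : CochainComplex Y.Modules ℤ)
    (hL : DCoh.IsKFlat L) [DCoh.HasLTensorCx L] [DCoh.HasLTensorCx (((Scheme.Modules.pullback f).mapHomologicalComplex (ComplexShape.up ℤ)).obj L)] (K : DCoh.D Y) :
    Nonempty ((DCoh.Lpull f).obj ((DCoh.LTensorCx L).obj K) ≅
      (DCoh.LTensorCx (((Scheme.Modules.pullback f).mapHomologicalComplex (ComplexShape.up ℤ)).obj L)).obj ((DCoh.Lpull f).obj K)) := by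
  let K₀ := DerivedCategory.Q.objPreimage K
  let P := (resY Y).obj K₀
  have hP : DCoh.IsKFlat P := isKFlat_resY K₀
  have := quasiIso_resYπ K₀
  let eK : DerivedCategory.Q.obj P ≅ K :=
    asIso (DerivedCategory.Q.map ((resYπ Y).app K₀)) ≪≫ DerivedCategory.Q.objObjPreimageIso K
  let L' := ((Scheme.Modules.pullback f).mapHomologicalComplex (ComplexShape.up ℤ)).obj L
  let e₁ : (DCoh.LTensorCx L).obj K ≅ DerivedCategory.Q.obj ((DCoh.tensorCx.obj P).obj L) :=
    (DCoh.LTensorCx L).mapIso eK.symm ≪≫ @asIso _ _ _ _ ((LTensor.toTensor L).app P) (LTensor.isIso_toTensor L hP)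
  let e₂ : (DCoh.Lpull f).obj K ≅ DerivedCategory.Q.obj ((pullCx f).obj P) :=
    (DCoh.Lpull f).mapIso eK.symm ≪≫ @asIso _ _ _ _ ((toPull f).app P) (isIso_toPull f hP)
  exact ⟨(DCoh.Lpull f).mapIso e₁ ≪≫
    @asIso _ _ _ _ ((toPull f).app ((DCoh.tensorCx.obj P).obj L)) (isIso_toPull f (isKFlat_tensorCx hP hL)) ≪≫
    DerivedCategory.Q.mapIso (PullTensor.pullTensorCxIso f P L) ≪≫
    (@asIso _ _ _ _ ((LTensor.toTensor L').app ((pullCx f).obj P))
      (LTensor.isIso_toTensor L' (isKFlat_pullCx f hP))).symm ≪≫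
    (DCoh.LTensorCx L').mapIso e₂.symm⟩

end Groth.Agent.S0960
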