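import Groth.Statements.S0976
import Mathlib.CategoryTheory.Triangulated.Orthogonal
-- import your own Groth.Agent.* helpers here

set_option autoImplicit false
universe v u
open CategoryTheory
open CohDer

namespace Groth.Agent.S0976

open CategoryTheory.Pretriangulated in
/-- Let P be a triangulated subcategory of a triangulated category D (an object property containing
zero, stable under shifts, closed under extensions). Consider the class of objects X sitting in a
distinguished triangle A → X → B → A[1] with P A and B right orthogonal to P. This class is again
stable under shifts and closed under extensions, i.e. satisfies two-out-of-three in distinguished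
triangles. -/
theorem result {D : Type u} [Category.{v} D] [Preadditive D] [Limits.HasZeroObject D] [HasShift D ℤ]
    [∀ n : ℤ, (shiftFunctor D n).Additive] [Pretriangulated D] [IsTriangulated D]
    (P : ObjectProperty D) [P.IsTriangulated] :
    ObjectProperty.IsTriangulated (fun X : D => ∃ (A B : D) (f : A ⟶ X) (g : X ⟶ B) (h : B ⟶ (shiftFunctor D (1 : ℤ)).obj A),
      Triangle.mk f g h ∈ distinguishedTriangles ∧ P A ∧ P.rightOrthogonal B) := by
  let O := P.rightOrthogonal
  change (ObjectProperty.extensionProduct P O).IsTriangulated
  have hswap : ObjectProperty.extensionProduct O P ≤ ObjectProperty.extensionProduct P O := by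
    rintro X ⟨B, A, f, g, h, hT, hB, hA⟩
    have h0 : h = 0 := O.le_shift (1 : ℤ) _ hB h hA
    obtain ⟨e, -, -⟩ := exists_iso_binaryBiproduct_of_distTriang _ hT h0
    exact (ObjectProperty.extensionProduct P O).prop_of_iso (e ≪≫ Limits.biprod.braiding B A).symm
      ⟨A, B, _, _, _, binaryBiproductTriangle_distinguished A B, hA, hB⟩
  have hPP : ObjectProperty.extensionProduct P P ≤ P.isoClosure :=
    ObjectProperty.extensionProduct_le_of_isTriangulatedClosed₂' le_rfl le_rfl
  have hOO : ObjectProperty.extensionProduct O O ≤ O.isoClosure :=
    ObjectProperty.extensionProduct_le_of_isTriangulatedClosed₂' le_rfl le_rfl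
  have hMM : ObjectProperty.extensionProduct (ObjectProperty.extensionProduct P O)
      (ObjectProperty.extensionProduct P O) ≤ ObjectProperty.extensionProduct P O :=
    calc ObjectProperty.extensionProduct (ObjectProperty.extensionProduct P O)
          (ObjectProperty.extensionProduct P O)
        = ObjectProperty.extensionProduct P (ObjectProperty.extensionProduct
            (ObjectProperty.extensionProduct O P) O) := by
          simp only [ObjectProperty.extensionProduct_assoc]
      _ ≤ ObjectProperty.extensionProduct P (ObjectProperty.extensionProduct
            (ObjectProperty.extensionProduct P O) O) :=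
          ObjectProperty.monotone_extensionProduct_right _
            (ObjectProperty.monotone_extensionProduct_left _ hswap)
      _ = ObjectProperty.extensionProduct (ObjectProperty.extensionProduct P P)
            (ObjectProperty.extensionProduct O O) := by
          simp only [ObjectProperty.extensionProduct_assoc]
      _ ≤ ObjectProperty.extensionProduct P.isoClosure O.isoClosure :=
          (ObjectProperty.monotone_extensionProduct_left _ hPP).trans
            (ObjectProperty.monotone_extensionProduct_right _ hOO)
      _ = ObjectProperty.extensionProduct P O := by
          rw [ObjectProperty.extensionProduct_isoClosure_left,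
            ObjectProperty.extensionProduct_isoClosure_right]
  exact
    { exists_zero := ⟨_, Limits.isZero_zero D, by
        obtain ⟨Z, hZ, hPZ⟩ := P.exists_prop_of_containsZero
        exact ObjectProperty.le_extensionProduct_left O _ hPZ |> fun h =>
          (ObjectProperty.extensionProduct P O).prop_of_iso (hZ.iso (Limits.isZero_zero D)) h⟩
      ext₂' := fun T hT h₁ h₃ => ObjectProperty.le_isoClosure _ _
        (hMM _ ⟨_, _, T.mor₁, T.mor₂, T.mor₃, hT, h₁, h₃⟩) }

end Groth.Agent.S0976
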