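import Groth.Statements.S0982
import Groth.Agent.DHA.TruncHom
-- import your own Groth.Agent.* helpers here

set_option autoImplicit false
universe w v u
open CategoryTheory CategoryTheory.Limits
open CohDer

namespace Groth.Agent.S0982

/-- Let K : ℕ ⥤ CochainComplex A ℤ be a sequence of cochain maps K₀ → K₁ → K₂ → … in an abelian category
with Hⁱ(K₀) = 0 for i > 0 and such that for every j < n the map H⁻ʲ(Kⱼ) → H⁻ʲ(Kⱼ₊₁) is zero. Then in
the derived category the composite K₀ → Kₙ factors through the canonical truncation τ_{≤ -n}Kₙ → Kₙ. -/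
theorem result {A : Type u} [Category.{v} A] [Abelian A] [HasDerivedCategory.{w} A]
    (K : ℕ ⥤ CochainComplex A ℤ) (n : ℕ)
    (h0 : ∀ i : ℤ, 0 < i → IsZero ((K.obj 0).homology i))
    (hz : ∀ j : ℕ, j < n → HomologicalComplex.homologyMap (K.map (homOfLE (Nat.le_succ j))) (-(j : ℤ)) = 0) :
    ∃ φ : DerivedCategory.Q.obj (K.obj 0) ⟶ DerivedCategory.Q.obj ((K.obj n).truncLE (-(n : ℤ))),
      φ ≫ DerivedCategory.Q.map ((K.obj n).ιTruncLE (-(n : ℤ))) = DerivedCategory.Q.map (K.map (homOfLE (Nat.zero_le n))) := by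
  let Q := DerivedCategory.Q (C := A)
  suffices ∀ j : ℕ, j ≤ n → ∃ φ : Q.obj (K.obj 0) ⟶ Q.obj ((K.obj j).truncLE (-(j : ℤ))),
      φ ≫ Q.map ((K.obj j).ιTruncLE (-(j : ℤ))) = Q.map (K.map (homOfLE (Nat.zero_le j))) from
    this n le_rfl
  intro j
  induction j with
  | zero =>
    intro _
    have : (K.obj 0).IsLE (-((0 : ℕ) : ℤ)) := by
      rw [CochainComplex.isLE_iff]
      intro i hi
      replace hi : (0 : ℤ) < i := by simpa using hi
      rw [HomologicalComplex.exactAt_iff_isZero_homology]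
      exact h0 i hi
    have : IsIso (Q.map ((K.obj 0).ιTruncLE (-((0 : ℕ) : ℤ)))) :=
      (DerivedCategory.isIso_Q_map_iff_quasiIso (C := A) _).2 inferInstance
    exact ⟨inv (Q.map ((K.obj 0).ιTruncLE (-((0 : ℕ) : ℤ)))), (IsIso.inv_hom_id _).trans
      (by
        rw [show homOfLE (Nat.zero_le 0) = 𝟙 _ from rfl, K.map_id]
        exact (Q.map_id _).symm)⟩
  | succ j ih =>
    intro hj
    obtain ⟨φ, hφ⟩ := ih (by omega)
    obtain ⟨δ, hT⟩ := Groth.Agent.DHA.TruncHom.exists_truncTriangle (K.obj (j + 1))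
      (-((j + 1 : ℕ) : ℤ)) (-(j : ℤ)) (by omega)
    let ψ := φ ≫ Q.map ((K.obj j).ιTruncLE (-(j : ℤ))) ≫ Q.map (K.map (homOfLE (Nat.le_succ j)))
    have h1 : Q.map (((K.obj j).ιTruncLE (-(j : ℤ)) ≫ K.map (homOfLE (Nat.le_succ j))) ≫
        (K.obj (j + 1)).πTruncGE (-(j : ℤ))) = 0 :=
      Groth.Agent.DHA.TruncHom.eq_zero (-(j : ℤ)) _ (by
        rw [← Groth.Agent.DHA.TruncHom.homologyMap_eq_zero_iff, HomologicalComplex.homologyMap_comp,
          HomologicalComplex.homologyMap_comp, hz j (by omega), comp_zero, zero_comp])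
    obtain ⟨φ', hφ'⟩ := Pretriangulated.Triangle.coyoneda_exact₂ _ hT ψ (by
      show ψ ≫ Q.map ((K.obj (j + 1)).πTruncGE (-(j : ℤ))) = 0
      simp only [ψ, Category.assoc, ← Functor.map_comp]
      rw [← Category.assoc ((K.obj j).ιTruncLE (-(j : ℤ))), h1, comp_zero])
    refine ⟨φ', hφ'.symm.trans ?_⟩
    simp only [ψ, ← Category.assoc, hφ, ← Functor.map_comp, ← K.map_comp]
    rfl

end Groth.Agent.S0982
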