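import Groth.Statements.S0983


set_option autoImplicit false
universe v u
open CategoryTheory
open CohDer

namespace Groth.Agent.S0983

open CategoryTheory.Pretriangulated in
/-- In a triangulated category, a commutative square f ≫ v = u ≫ f' (with f : X ⟶ Y, f' : X' ⟶ Y', u : X
⟶ X', v : Y ⟶ Y') extends to a diagram with three distinguished rows (X, Y, Z), (X', Y', Z'), (X'',
Y'', Z'') and three distinguished columns (X, X', X''), (Y, Y', Y''), (Z, Z', Z''), in which all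
squares commute except the one formed by the third morphisms of the last row and last column, which
anticommutes; the fourth row and column are the shifts of the first ones. -/
theorem result {D : Type u} [Category.{v} D] [Preadditive D] [Limits.HasZeroObject D] [HasShift D ℤ]
    [∀ n : ℤ, (shiftFunctor D n).Additive] [Pretriangulated D] [IsTriangulated D]
    {X Y X' Y' : D} (f : X ⟶ Y) (f' : X' ⟶ Y') (u : X ⟶ X') (v : Y ⟶ Y') (comm : f ≫ v = u ≫ f') :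
    ∃ (Z Z' X'' Y'' Z'' : D) (g : Y ⟶ Z) (h : Z ⟶ (shiftFunctor D (1 : ℤ)).obj X)
      (g' : Y' ⟶ Z') (h' : Z' ⟶ (shiftFunctor D (1 : ℤ)).obj X')
      (f'' : X'' ⟶ Y'') (g'' : Y'' ⟶ Z'') (h'' : Z'' ⟶ (shiftFunctor D (1 : ℤ)).obj X'')
      (u' : X' ⟶ X'') (u'' : X'' ⟶ (shiftFunctor D (1 : ℤ)).obj X)
      (v' : Y' ⟶ Y'') (v'' : Y'' ⟶ (shiftFunctor D (1 : ℤ)).obj Y)
      (w : Z ⟶ Z') (w' : Z' ⟶ Z'') (w'' : Z'' ⟶ (shiftFunctor D (1 : ℤ)).obj Z),
      Triangle.mk f g h ∈ distinguishedTriangles ∧ Triangle.mk f' g' h' ∈ distinguishedTriangles ∧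
      Triangle.mk f'' g'' h'' ∈ distinguishedTriangles ∧
      Triangle.mk u u' u'' ∈ distinguishedTriangles ∧ Triangle.mk v v' v'' ∈ distinguishedTriangles ∧
      Triangle.mk w w' w'' ∈ distinguishedTriangles ∧
      g ≫ w = v ≫ g' ∧ h ≫ (shiftFunctor D (1 : ℤ)).map u = w ≫ h' ∧
      f' ≫ v' = u' ≫ f'' ∧ g' ≫ w' = v' ≫ g'' ∧ h' ≫ (shiftFunctor D (1 : ℤ)).map u' = w' ≫ h'' ∧
      f'' ≫ v'' = u'' ≫ (shiftFunctor D (1 : ℤ)).map f ∧ g'' ≫ w'' = v'' ≫ (shiftFunctor D (1 : ℤ)).map g ∧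
      h'' ≫ (shiftFunctor D (1 : ℤ)).map u'' = -(w'' ≫ (shiftFunctor D (1 : ℤ)).map h) := by
  obtain ⟨Z, g, h, h₁⟩ := distinguished_cocone_triangle f
  obtain ⟨Z', g', h', h₂⟩ := distinguished_cocone_triangle f'
  obtain ⟨X'', u', u'', h₃⟩ := distinguished_cocone_triangle u
  obtain ⟨Y'', v', v'', h₄⟩ := distinguished_cocone_triangle v
  obtain ⟨A, p, q, h₅⟩ := distinguished_cocone_triangle (f ≫ v)
  obtain ⟨a₁, b₁, p₁, p₂, p₃, p₄, m₁⟩ := Triangulated.someOctahedron rfl h₁ h₄ h₅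
  obtain ⟨a₂, b₂, r₁, r₂, r₃, r₄, m₂⟩ := Triangulated.someOctahedron comm.symm h₃ h₂ h₅
  obtain ⟨Z'', g'', h'', h₆⟩ := distinguished_cocone_triangle (a₂ ≫ b₁)
  have hrot : Triangle.mk b₁ (v'' ≫ (shiftFunctor D (1 : ℤ)).map g)
      (-(shiftFunctor D (1 : ℤ)).map a₁) ∈ distinguishedTriangles := rot_of_distTriang _ m₁
  obtain ⟨w', k, s₁, s₂, s₃, s₄, m₃⟩ :=
    Triangulated.someOctahedron (u₁₂ := a₂) (u₂₃ := b₁) rfl m₂ hrot h₆
  refine ⟨Z, Z', X'', Y'', Z'', g, h, g', h', a₂ ≫ b₁, g'', h'', u', u'', v', v'',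
    a₁ ≫ b₂, w', k, h₁, h₂, h₆, h₃, h₄, ?_, ?_, ?_, ?_, ?_, ?_, ?_, ?_, ?_⟩
  · rw [rotate_distinguished_triangle]
    refine isomorphic_distinguished _ m₃ _ (Triangle.isoMk _ _ (Iso.refl _) (Iso.refl _)
      (Iso.refl _) ?_ ?_ ?_)
    all_goals simp [Triangle.rotate, Triangle.mk]
  · rw [← Category.assoc, p₁, Category.assoc, r₃]
  · rw [← p₂, Category.assoc, Category.assoc, r₄]
  · rw [← p₃, ← Category.assoc, ← r₁, Category.assoc]
  · rw [← r₃, Category.assoc, s₁, ← Category.assoc, p₃]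
  · exact s₂.symm
  · rw [Category.assoc, ← p₄, ← Category.assoc, r₂]
  · exact s₃
  · rw [← r₂, ← p₂, Functor.map_comp, Functor.map_comp, ← Category.assoc, s₄,
      Preadditive.comp_neg, Preadditive.neg_comp, Category.assoc]

end Groth.Agent.S0983
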