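import Groth.Statements.S3201
import Groth.Agent.ResK0.Basic
import Mathlib.Algebra.Homology.DerivedCategory.FullyFaithful
import Mathlib.Algebra.BigOperators.Finprod
import Mathlib.Algebra.Ring.NegOnePow
import Mathlib.Data.Int.Interval

set_option autoImplicit false
universe w v u
open CategoryTheory CategoryTheory.Limits
open SGA6

namespace Groth.Agent.S3201

open CategoryTheory.Limits CategoryTheory.Pretriangulated DerivedCategory
open scoped ZeroObject

section
variable {C : Type u} [Category.{v} C] [Abelian C] [HasDerivedCategory.{w} C]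
  (P : ObjectProperty C) [P.IsClosedUnderIsomorphisms] [P.ContainsZero] [P.IsClosedUnderKernels]
  [P.IsClosedUnderCokernels] [P.IsClosedUnderExtensions]

omit [HasDerivedCategory.{w} C] [P.IsClosedUnderKernels] [P.IsClosedUnderCokernels] [P.IsClosedUnderExtensions] in
theorem cl_zero {Z : C} (hZ : IsZero Z) : KZero.clSub P Z = 0 := by
  have hP : P Z := P.prop_of_isZero hZ
  have hS : (ShortComplex.mk (𝟙 Z) (0 : Z ⟶ Z) (by simp)).ShortExact :=
    have : Epi (0 : Z ⟶ Z) := ⟨fun _ _ _ => hZ.eq_of_src _ _⟩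
    { exact := ShortComplex.exact_of_isZero_X₂ _ hZ
      mono_f := inferInstance
      epi_g := inferInstance }
  simpa using Groth.Agent.ResK0.Basic.clSub_add P hS hP hP hP

omit [HasDerivedCategory.{w} C] [P.IsClosedUnderKernels] [P.IsClosedUnderCokernels] [P.IsClosedUnderExtensions] in
theorem cl_iso {X Y : C} (e : X ≅ Y) (hX : P X) : KZero.clSub P X = KZero.clSub P Y := by
  have hS : (ShortComplex.mk (0 : (0 : C) ⟶ X) e.hom (by simp)).ShortExact :=
    have : Mono (0 : (0 : C) ⟶ X) := ⟨fun _ _ _ => (isZero_zero C).eq_of_tgt _ _⟩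
    { exact := by
        rw [ShortComplex.exact_iff_mono _ rfl]
        dsimp
        infer_instance
      mono_f := inferInstance
      epi_g := inferInstance }
  have := Groth.Agent.ResK0.Basic.clSub_add P hS (P.prop_zero) hX (P.prop_of_iso e hX)
  simpa [cl_zero P (isZero_zero C)] using this

omit [HasDerivedCategory.{w} C] [P.IsClosedUnderCokernels] [P.IsClosedUnderExtensions] in
theorem cl_kernel_eq {S : ShortComplex C} (hS : S.Exact) (h₁ : P S.X₁) (h₂ : P S.X₂) (h₃ : P S.X₃) :
    KZero.clSub P (kernel S.g) = KZero.clSub P S.X₁ - KZero.clSub P (kernel S.f) := by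
  let l : S.X₁ ⟶ kernel S.g := kernel.lift S.g S.f S.zero
  have : Epi l := by
    rw [epi_iff_surjective_up_to_refinements]
    intro Z z
    obtain ⟨Z', π, hπ, x, hx⟩ := hS.exact_up_to_refinements (z ≫ kernel.ι S.g) (by simp)
    exact ⟨Z', π, hπ, x, by ext; simpa [l] using hx⟩
  let e : kernel l ≅ kernel S.f :=
    (kernelCompMono l (kernel.ι S.g)).symm ≪≫ kernelIsoOfEq (kernel.lift_ι S.g S.f S.zero)
  have hS' := Groth.Agent.ResK0.Basic.clSub_add P (Groth.Agent.ResK0.Basic.shortExact_kernel l)
    (P.prop_of_iso e.symm (P.prop_kernel S.f h₁ h₂)) h₁ (P.prop_kernel S.g h₂ h₃)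
  rw [hS', cl_iso P e (P.prop_of_iso e.symm (P.prop_kernel S.f h₁ h₂))]
  abel

/-- The class of bounded objects with cohomology in `P`. -/
abbrev Pb : ObjectProperty (DerivedCategory C) := fun K =>
  (∀ i : ℤ, P ((DerivedCategory.homologyFunctor C i).obj K)) ∧
    ∃ a b : ℤ, (DerivedCategory.TStructure.t (C := C)).IsGE K a ∧ (DerivedCategory.TStructure.t (C := C)).IsLE K b

/-- Euler characteristic. -/
noncomputable def euler (K : DerivedCategory C) : KZero.K0sub P :=
  ∑ᶠ i : ℤ, (Int.negOnePow i : ℤ) • KZero.clSub P ((homologyFunctor C i).obj K)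

omit [P.IsClosedUnderKernels] [P.IsClosedUnderCokernels] [P.IsClosedUnderExtensions] in
theorem euler_eq_sum {K : DerivedCategory C} {a b : ℤ} [K.IsGE a] [K.IsLE b] {a' b' : ℤ}
    (ha : a' ≤ a) (hb : b < b') :
    euler P K = ∑ i ∈ Finset.Ico a' b', (Int.negOnePow i : ℤ) • KZero.clSub P ((homologyFunctor C i).obj K) := by
  refine finsum_eq_sum_of_support_subset _ fun i hi => ?_
  simp only [Finset.coe_Ico, Set.mem_Ico]
  by_contra h
  refine hi ?_
  show (Int.negOnePow i : ℤ) • _ = (0 : KZero.K0sub P)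
  have hz : IsZero ((homologyFunctor C i).obj K) := by
    rcases lt_or_ge i a with h' | h'
    · exact K.isZero_of_isGE a i h'
    · exact K.isZero_of_isLE b i (by omega)
  rw [cl_zero P hz, smul_zero]

omit [P.IsClosedUnderCokernels] [P.IsClosedUnderExtensions] in
theorem euler_add (T : Triangle (DerivedCategory C)) (hT : T ∈ distTriang _)
    (h₁ : Pb P T.obj₁) (h₂ : Pb P T.obj₂) (h₃ : Pb P T.obj₃) :
    euler P T.obj₂ = euler P T.obj₁ + euler P T.obj₃ := by
  obtain ⟨H₁, a₁, b₁, _, _⟩ := h₁
  obtain ⟨H₂, a₂, b₂, _, _⟩ := h₂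
  obtain ⟨H₃, a₃, b₃, _, _⟩ := h₃
  obtain ⟨a, ha⟩ : ∃ a, a = min a₁ (min a₂ a₃) - 1 := ⟨_, rfl⟩
  obtain ⟨n, hn⟩ : ∃ n : ℕ, n = (max b₁ (max b₂ b₃) + 2 - a).toNat := ⟨_, rfl⟩
  rw [euler_eq_sum P (K := T.obj₁) (a := a₁) (b := b₁) (a' := a) (b' := a + n) (by omega) (by omega),
    euler_eq_sum P (K := T.obj₂) (a := a₂) (b := b₂) (a' := a) (b' := a + n) (by omega) (by omega),
    euler_eq_sum P (K := T.obj₃) (a := a₃) (b := b₃) (a' := a) (b' := a + n) (by omega) (by omega)]
  let k : ℤ → KZero.K0sub P := fun i => KZero.clSub P (kernel ((homologyFunctor C i).map T.mor₁))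
  have hk : ∀ i, KZero.clSub P ((homologyFunctor C i).obj T.obj₂) =
      KZero.clSub P ((homologyFunctor C i).obj T.obj₁) + KZero.clSub P ((homologyFunctor C i).obj T.obj₃)
        - k i - k (i + 1) := by
    intro i
    have e2 := cl_kernel_eq P (HomologySequence.exact₂ T hT i) (H₁ i) (H₂ i) (H₃ i)
    have e3 := cl_kernel_eq P (HomologySequence.exact₃ T hT i (i + 1) rfl) (H₂ i) (H₃ i) (H₁ (i + 1))
    have e1 := cl_kernel_eq P (HomologySequence.exact₁ T hT i (i + 1) rfl) (H₃ i) (H₁ (i + 1)) (H₂ (i + 1))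
    dsimp only at e1 e2 e3
    simp only [k]
    rw [e1, e3, e2]
    abel
  have hzero : ∀ i, (i < a₁ ∨ b₁ < i) → k i = 0 := fun i hi => cl_zero P (by
    have hz : IsZero ((homologyFunctor C i).obj T.obj₁) := by
      rcases hi with h | h
      · exact T.obj₁.isZero_of_isGE a₁ i h
      · exact T.obj₁.isZero_of_isLE b₁ i h
    exact IsZero.of_mono (kernel.ι _) hz)
  have htel : ∀ m : ℕ, ∑ i ∈ Finset.Ico a (a + m), (Int.negOnePow i : ℤ) • (k i + k (i + 1)) =
      (Int.negOnePow a : ℤ) • k a - (Int.negOnePow (a + m) : ℤ) • k (a + m) := by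
    intro m
    induction m with
    | zero => simp
    | succ m ih =>
      rw [show a + ((m + 1 : ℕ) : ℤ) = a + m + 1 by omega,
        show Finset.Ico a (a + m + 1) = insert (a + (m : ℤ)) (Finset.Ico a (a + m)) by ext; simp; omega,
        Finset.sum_insert (by simp), ih, Int.negOnePow_succ, Units.val_neg, neg_smul, smul_add]
      abel
  have hs := htel n
  rw [hzero a (by omega), hzero (a + n) (by omega), smul_zero, smul_zero, sub_zero] at hs
  rw [← Finset.sum_add_distrib, eq_comm, ← sub_eq_zero, ← Finset.sum_sub_distrib, ← hs]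
  refine Finset.sum_congr rfl fun i _ => ?_
  rw [hk i, ← smul_add, ← smul_sub]
  congr 1
  abel

omit [P.IsClosedUnderKernels] [P.IsClosedUnderCokernels] [P.IsClosedUnderExtensions] in
theorem pb_single (n : ℤ) {X : C} (hX : P X) : Pb P ((singleFunctor C n).obj X) := by
  refine ⟨fun i => ?_, n, n, inferInstance, inferInstance⟩
  by_cases h : i = n
  · subst h
    exact P.prop_of_iso ((singleFunctorCompHomologyFunctorIso C i).app X).symm hX
  · refine P.prop_of_isZero ?_
    rcases lt_or_gt_of_ne h with h' | h'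
    · exact ((singleFunctor C n).obj X).isZero_of_isGE n i h'
    · exact ((singleFunctor C n).obj X).isZero_of_isLE n i h'

omit [P.IsClosedUnderCokernels] [P.IsClosedUnderExtensions] [P.IsClosedUnderKernels] [P.ContainsZero] [P.IsClosedUnderIsomorphisms] in
theorem clTr_add (T : Triangle (DerivedCategory C)) (hT : T ∈ distTriang _)
    (h₁ : Pb P T.obj₁) (h₂ : Pb P T.obj₂) (h₃ : Pb P T.obj₃) :
    KZero.clTr (Pb P) T.obj₂ = KZero.clTr (Pb P) T.obj₁ + KZero.clTr (Pb P) T.obj₃ := by
  simp only [KZero.clTr, dif_pos h₁, dif_pos h₂, dif_pos h₃, ← QuotientAddGroup.mk_add]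
  rw [QuotientAddGroup.eq_iff_sub_mem, sub_add_eq_sub_sub]
  exact AddSubgroup.subset_closure ⟨T, h₁, h₂, h₃, hT, rfl⟩

omit [P.IsClosedUnderKernels] [P.IsClosedUnderCokernels] [P.IsClosedUnderExtensions] in
theorem pb_zero {Z : DerivedCategory C} (hZ : IsZero Z) : Pb P Z := by
  refine ⟨fun i => P.prop_of_isZero (Functor.map_isZero _ hZ), 0, 0, ?_, ?_⟩
  · exact (isGE_iff Z 0).mpr fun i _ => Functor.map_isZero _ hZ
  · exact (isLE_iff Z 0).mpr fun i _ => Functor.map_isZero _ hZ

omit [P.IsClosedUnderKernels] [P.IsClosedUnderCokernels] [P.IsClosedUnderExtensions] in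
theorem pb_of_iso {K L : DerivedCategory C} (e : K ≅ L) (h : Pb P K) : Pb P L := by
  obtain ⟨h₁, a, b, _, _⟩ := h
  exact ⟨fun i => P.prop_of_iso ((homologyFunctor C i).mapIso e) (h₁ i), a, b,
    TStructure.t.isGE_of_iso e a, TStructure.t.isLE_of_iso e b⟩

omit [P.IsClosedUnderKernels] [P.IsClosedUnderCokernels] [P.IsClosedUnderExtensions] in
theorem clTr_zero {Z : DerivedCategory C} (hZ : IsZero Z) : KZero.clTr (Pb P) Z = 0 := by
  have h := clTr_add P _ (contractible_distinguished Z) (pb_zero P hZ) (pb_zero P hZ)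
    (pb_zero P (isZero_zero _))
  have h0 := clTr_add P _ (contractible_distinguished (0 : DerivedCategory C)) (pb_zero P (isZero_zero _))
    (pb_zero P (isZero_zero _)) (pb_zero P (isZero_zero _))
  change KZero.clTr (Pb P) (0 : DerivedCategory C) = KZero.clTr (Pb P) (0 : DerivedCategory C) + KZero.clTr (Pb P) (0 : DerivedCategory C) at h0
  have hz0 : KZero.clTr (Pb P) (0 : DerivedCategory C) = 0 := by simpa using h0
  have h' := clTr_add P _ (isomorphic_distinguished _ (contractible_distinguished (0 : DerivedCategory C))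
    (Triangle.mk (0 : Z ⟶ 0) (0 : (0 : DerivedCategory C) ⟶ 0) 0)
    (Triangle.isoMk _ _ (hZ.iso (isZero_zero _)) (Iso.refl _) (Iso.refl _)
      ((isZero_zero _).eq_of_tgt _ _) ((isZero_zero _).eq_of_tgt _ _) ((isZero_zero _).eq_of_src _ _)))
    (pb_zero P hZ) (pb_zero P (isZero_zero _)) (pb_zero P (isZero_zero _))
  change KZero.clTr (Pb P) (0 : DerivedCategory C) = KZero.clTr (Pb P) Z + KZero.clTr (Pb P) (0 : DerivedCategory C) at h'
  rw [hz0, add_zero] at h'
  exact h'.symm

omit [P.IsClosedUnderKernels] [P.IsClosedUnderCokernels] [P.IsClosedUnderExtensions] in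
theorem clTr_iso {K L : DerivedCategory C} (e : K ≅ L) (h : Pb P K) :
    KZero.clTr (Pb P) K = KZero.clTr (Pb P) L := by
  have hd : Triangle.mk e.hom (0 : L ⟶ 0) 0 ∈ distTriang (DerivedCategory C) :=
    isomorphic_distinguished _ (contractible_distinguished L) _
      (Triangle.isoMk _ _ e (Iso.refl _) (Iso.refl _) rfl ((isZero_zero _).eq_of_tgt _ _)
        ((isZero_zero _).eq_of_src _ _))
  have := clTr_add P _ hd h (pb_of_iso P e h) (pb_zero P (isZero_zero _))
  change KZero.clTr (Pb P) L = KZero.clTr (Pb P) K + KZero.clTr (Pb P) (0 : DerivedCategory C) at this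
  rw [clTr_zero P (isZero_zero _), add_zero] at this
  exact this.symm

omit [P.IsClosedUnderKernels] [P.IsClosedUnderCokernels] [P.IsClosedUnderExtensions] in
theorem clTr_single_succ (n : ℤ) {X : C} (hX : P X) :
    KZero.clTr (Pb P) ((singleFunctor C n).obj X) = - KZero.clTr (Pb P) ((singleFunctor C (n + 1)).obj X) := by
  let e := ((singleFunctors C).shiftIso 1 n (n + 1) (by omega)).app X
  have h1 : Pb P (((singleFunctor C (n + 1)).obj X)⟦(1 : ℤ)⟧) := pb_of_iso P e.symm (pb_single P n hX)
  have := clTr_add P _ (rot_of_distTriang _ (contractible_distinguished ((singleFunctor C (n + 1)).obj X)))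
    (pb_single P (n + 1) hX) (pb_zero P (isZero_zero _)) h1
  change KZero.clTr (Pb P) (0 : DerivedCategory C) = KZero.clTr (Pb P) ((singleFunctor C (n + 1)).obj X) +
    KZero.clTr (Pb P) (((singleFunctor C (n + 1)).obj X)⟦(1 : ℤ)⟧) at this
  have he : KZero.clTr (Pb P) (((singleFunctor C (n + 1)).obj X)⟦(1 : ℤ)⟧) = KZero.clTr (Pb P) ((singleFunctor C n).obj X) :=
    clTr_iso P e h1
  rw [clTr_zero P (isZero_zero _), he] at this
  rw [eq_neg_iff_add_eq_zero, add_comm]
  exact this.symm

omit [P.IsClosedUnderKernels] [P.IsClosedUnderCokernels] [P.IsClosedUnderExtensions] in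
theorem clTr_single (n : ℤ) {X : C} (hX : P X) : KZero.clTr (Pb P) ((singleFunctor C n).obj X) =
    (Int.negOnePow n : ℤ) • KZero.clTr (Pb P) ((singleFunctor C 0).obj X) := by
  induction n using Int.induction_on with
  | zero => simp
  | succ n ih =>
    rw [clTr_single_succ P n hX] at ih
    rw [Int.negOnePow_succ, Units.val_neg, neg_smul, ← ih, neg_neg]
  | pred n ih =>
    have h1 := clTr_single_succ P (-(n : ℤ) - 1) hX
    rw [sub_add_cancel, ih] at h1
    have h2 := Int.negOnePow_succ (-(n : ℤ) - 1)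
    rw [sub_add_cancel] at h2
    rw [h1, h2, Units.val_neg, neg_smul, neg_neg]

end

/-- Let C be an abelian category (with a derived category) and P a thick ('épaisse') class of objects of
C: a full subcategory closed under isomorphisms, containing zero, and closed under kernels,
cokernels and extensions. Let K₀(P) be the free abelian group on the objects of P modulo the short
exact sequences of C with terms in P, and D^b_P(C) the full triangulated subcategory of D(C) on
bounded objects all of whose cohomology objects lie in P. Then the homomorphism K₀(P) → K₀(D^b_P(C))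
induced by X ↦ X[0] is an isomorphism: there is an isomorphism of groups carrying the class of each
X in P to the class of X placed in degree 0. -/
theorem result {C : Type u} [Category.{v} C] [Abelian C] [HasDerivedCategory.{w} C]
    (P : ObjectProperty C) [P.IsClosedUnderIsomorphisms] [P.ContainsZero] [P.IsClosedUnderKernels] [P.IsClosedUnderCokernels] [P.IsClosedUnderExtensions] :
    ∃ φ : KZero.K0sub P ≃+ KZero.K0tr (fun K : DerivedCategory C =>
        (∀ i : ℤ, P ((DerivedCategory.homologyFunctor C i).obj K)) ∧ ∃ a b : ℤ, (DerivedCategory.TStructure.t (C := C)).IsGE K a ∧ (DerivedCategory.TStructure.t (C := C)).IsLE K b),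
      ∀ X : C, P X → φ (KZero.clSub P X) =
        KZero.clTr (fun K : DerivedCategory C => (∀ i : ℤ, P ((DerivedCategory.homologyFunctor C i).obj K)) ∧ ∃ a b : ℤ, (DerivedCategory.TStructure.t (C := C)).IsGE K a ∧ (DerivedCategory.TStructure.t (C := C)).IsLE K b)
          ((DerivedCategory.singleFunctor C 0).obj X) := by
  let ψ₀ : FreeAbelianGroup (Subtype P) →+ KZero.K0tr (Pb P) :=
    FreeAbelianGroup.lift fun X => KZero.clTr (Pb P) ((singleFunctor C 0).obj X.1)
  have hψ₀ : KZero.relSub P ≤ ψ₀.ker := by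
    rw [KZero.relSub, AddSubgroup.closure_le]
    rintro _ ⟨S, a, b, c, hS, rfl⟩
    simp only [SetLike.mem_coe, AddMonoidHom.mem_ker, map_sub, ψ₀, FreeAbelianGroup.lift_apply_of]
    have := clTr_add P _ hS.singleTriangle_distinguished (pb_single P 0 a) (pb_single P 0 b) (pb_single P 0 c)
    change KZero.clTr (Pb P) ((singleFunctor C 0).obj S.X₂) = KZero.clTr (Pb P) ((singleFunctor C 0).obj S.X₁) +
      KZero.clTr (Pb P) ((singleFunctor C 0).obj S.X₃) at this
    rw [this]
    abel
  let ψ : KZero.K0sub P →+ KZero.K0tr (Pb P) := QuotientAddGroup.lift _ ψ₀ hψ₀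
  let χ₀ : FreeAbelianGroup (Subtype (Pb P)) →+ KZero.K0sub P :=
    FreeAbelianGroup.lift fun K => euler P K.1
  have hχ₀ : KZero.relTr (Pb P) ≤ χ₀.ker := by
    rw [KZero.relTr, AddSubgroup.closure_le]
    rintro _ ⟨T, a, b, c, hT, rfl⟩
    simp only [SetLike.mem_coe, AddMonoidHom.mem_ker, map_sub, χ₀, FreeAbelianGroup.lift_apply_of]
    rw [euler_add P T hT a b c]
    abel
  let χ : KZero.K0tr (Pb P) →+ KZero.K0sub P := QuotientAddGroup.lift _ χ₀ hχ₀
  have hψcl : ∀ X, P X → ψ (KZero.clSub P X) = KZero.clTr (Pb P) ((singleFunctor C 0).obj X) := by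
    intro X hX
    simp only [KZero.clSub, dif_pos hX]
    show ψ₀ (.of _) = _
    simp [ψ₀]
  have hχψ : χ.comp ψ = AddMonoidHom.id _ := by
    refine QuotientAddGroup.addMonoidHom_ext _ (FreeAbelianGroup.lift_ext _ _ fun X => ?_)
    show χ (ψ₀ (.of X)) = QuotientAddGroup.mk (FreeAbelianGroup.of X)
    simp only [ψ₀, FreeAbelianGroup.lift_apply_of, KZero.clTr, dif_pos (pb_single P 0 X.2)]
    show χ₀ (.of _) = _
    simp only [χ₀, FreeAbelianGroup.lift_apply_of]
    rw [euler_eq_sum P (a := 0) (b := 0) (a' := 0) (b' := 1) le_rfl (by omega),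
      show Finset.Ico (0 : ℤ) 1 = {0} by ext; simp; omega, Finset.sum_singleton, Int.negOnePow_zero,
      Units.val_one, one_smul,
      show KZero.clSub P ((homologyFunctor C 0).obj ((singleFunctor C 0).obj X.1)) = KZero.clSub P X.1 from
        cl_iso P ((singleFunctorCompHomologyFunctorIso C 0).app X.1) ((pb_single P 0 X.2).1 0)]
    show KZero.clSub P X.1 = _
    simp only [KZero.clSub, dif_pos X.2]
  have key : ∀ (d : ℕ) (a : ℤ) (K : DerivedCategory C), Pb P K → K.IsGE a → K.IsLE (a + d) →
      ψ (euler P K) = KZero.clTr (Pb P) K := by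
    intro d
    induction d with
    | zero =>
      intro a K hK _ _
      have : K.IsLE a := TStructure.t.isLE_of_le K (a + (0 : ℕ)) a (by omega)
      obtain ⟨Y, ⟨e⟩⟩ := exists_iso_singleFunctor_obj_of_isGE_of_isLE K a
      have hY : P Y := P.prop_of_iso ((homologyFunctor C a).mapIso e ≪≫
        (singleFunctorCompHomologyFunctorIso C a).app Y) (hK.1 a)
      rw [euler_eq_sum P (a := a) (b := a) (a' := a) (b' := a + 1) le_rfl (by omega),
        show Finset.Ico a (a + 1) = {a} by ext; simp; omega, Finset.sum_singleton, map_zsmul,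
        hψcl _ (hK.1 a), clTr_iso P e hK, clTr_single P a hY]
      congr 1
      exact clTr_iso P ((singleFunctor C 0).mapIso ((homologyFunctor C a).mapIso e ≪≫
        (singleFunctorCompHomologyFunctorIso C a).app Y)) (pb_single P 0 (hK.1 a))
    | succ d ih =>
      intro a K hK _ _
      obtain ⟨X, Z, hX, hZ, f, g, h, hT⟩ := TStructure.t.exists_triangle K (a + d) (a + d + 1) rfl
      have hXle : X.IsLE (a + d) := ⟨hX⟩
      have hZge : Z.IsGE (a + d + 1) := ⟨hZ⟩
      have hXiso : ∀ i, i ≤ a + d → IsIso ((homologyFunctor C i).map f) := fun i hi => by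
        have z1 : IsZero ((homologyFunctor C (i - 1)).obj Z) := Z.isZero_of_isGE (a + d + 1) _ (by omega)
        have z2 : IsZero ((homologyFunctor C i).obj Z) := Z.isZero_of_isGE (a + d + 1) _ (by omega)
        have : Mono ((homologyFunctor C i).map f) :=
          (HomologySequence.mono_homologyMap_mor₁_iff _ hT (i - 1) i (by omega)).mpr (z1.eq_of_src _ _)
        have : Epi ((homologyFunctor C i).map f) :=
          (HomologySequence.epi_homologyMap_mor₁_iff _ hT i).mpr (z2.eq_of_tgt _ _)
        exact isIso_of_mono_of_epi _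
      have hXP : ∀ i, P ((homologyFunctor C i).obj X) := fun i => by
        by_cases hi : i ≤ a + d
        · have := hXiso i hi
          exact P.prop_of_iso (asIso ((homologyFunctor C i).map f)).symm (hK.1 i)
        · exact P.prop_of_isZero (X.isZero_of_isLE (a + d) i (by omega))
      have hXge : X.IsGE a := (isGE_iff X a).mpr fun i hi => by
        have := hXiso i (by omega)
        exact (K.isZero_of_isGE a i hi).of_iso (asIso ((homologyFunctor C i).map f))
      have hZiso : ∀ i, a + d + 1 ≤ i → IsIso ((homologyFunctor C i).map g) := fun i hi => by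
        have z1 : IsZero ((homologyFunctor C (i + 1)).obj X) := X.isZero_of_isLE (a + d) _ (by omega)
        have z2 : IsZero ((homologyFunctor C i).obj X) := X.isZero_of_isLE (a + d) _ (by omega)
        have : Epi ((homologyFunctor C i).map g) :=
          (HomologySequence.epi_homologyMap_mor₂_iff _ hT i (i + 1) rfl).mpr (z1.eq_of_tgt _ _)
        have : Mono ((homologyFunctor C i).map g) :=
          (HomologySequence.mono_homologyMap_mor₂_iff _ hT i).mpr (z2.eq_of_src _ _)
        exact isIso_of_mono_of_epi _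
      have hZP : ∀ i, P ((homologyFunctor C i).obj Z) := fun i => by
        by_cases hi : a + d + 1 ≤ i
        · have := hZiso i hi
          exact P.prop_of_iso (asIso ((homologyFunctor C i).map g)) (hK.1 i)
        · exact P.prop_of_isZero (Z.isZero_of_isGE (a + d + 1) i (by omega))
      have hZle : Z.IsLE (a + d + 1) := (isLE_iff Z _).mpr fun i hi => by
        have := hZiso i (by omega)
        exact (K.isZero_of_isLE (a + (d + 1 : ℕ)) i (by omega)).of_iso (asIso ((homologyFunctor C i).map g)).symm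
      have hX' : Pb P X := ⟨hXP, a, a + d, hXge, hXle⟩
      have hZ' : Pb P Z := ⟨hZP, _, _, hZge, hZle⟩
      have e1 := euler_add P _ hT hX' hK hZ'
      have e2 := clTr_add P _ hT hX' hK hZ'
      change euler P K = euler P X + euler P Z at e1
      change KZero.clTr (Pb P) K = KZero.clTr (Pb P) X + KZero.clTr (Pb P) Z at e2
      obtain ⟨Y, ⟨e⟩⟩ := exists_iso_singleFunctor_obj_of_isGE_of_isLE Z (a + d + 1)
      rw [e1, e2, map_add, ih a X hX' hXge hXle]
      congr 1
      have hY : P Y := P.prop_of_iso ((homologyFunctor C _).mapIso e ≪≫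
        (singleFunctorCompHomologyFunctorIso C _).app Y) (hZP _)
      rw [euler_eq_sum P (a := a + d + 1) (b := a + d + 1) (a' := a + d + 1) (b' := a + d + 1 + 1) le_rfl (by omega),
        show Finset.Ico (a + d + 1) (a + d + 1 + 1) = {a + d + 1} by ext; simp; omega, Finset.sum_singleton,
        map_zsmul, hψcl _ (hZP _), clTr_iso P e hZ', clTr_single P _ hY]
      congr 1
      exact clTr_iso P ((singleFunctor C 0).mapIso ((homologyFunctor C _).mapIso e ≪≫
        (singleFunctorCompHomologyFunctorIso C _).app Y)) (pb_single P 0 (hZP _))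
  have hψχ : ψ.comp χ = AddMonoidHom.id _ := by
    refine QuotientAddGroup.addMonoidHom_ext _ (FreeAbelianGroup.lift_ext _ _ fun K => ?_)
    show ψ (χ₀ (.of K)) = QuotientAddGroup.mk (FreeAbelianGroup.of K)
    obtain ⟨hP, a, b, ha, hb⟩ := K.2
    simp only [χ₀, FreeAbelianGroup.lift_apply_of]
    rw [key (b - a).toNat a K.1 K.2 ha (TStructure.t.isLE_of_le K.1 b _ (by omega))]
    simp only [KZero.clTr, dif_pos K.2]
  exact ⟨AddMonoidHom.toAddEquiv ψ χ hχψ hψχ, hψcl⟩


end Groth.Agent.S3201
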