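import Groth.Statements.S0987
import Groth.Agent.S3201

set_option autoImplicit false
universe w v u
open CategoryTheory CategoryTheory.Limits
open KZero

namespace Groth.Agent.S0987

instance topIso (A : Type u) [Category.{v} A] [Abelian A] : (⊤ : ObjectProperty A).IsClosedUnderIsomorphisms := ⟨fun _ _ => trivial⟩

instance topZero (A : Type u) [Category.{v} A] [Abelian A] : (⊤ : ObjectProperty A).ContainsZero :=
  ⟨⟨_, Limits.isZero_zero A, trivial⟩⟩

instance topKer (A : Type u) [Category.{v} A] [Abelian A] : (⊤ : ObjectProperty A).IsClosedUnderKernels :=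
  ⟨fun _ _ => trivial⟩

instance topCoker (A : Type u) [Category.{v} A] [Abelian A] : (⊤ : ObjectProperty A).IsClosedUnderCokernels :=
  ⟨fun _ _ => trivial⟩

instance topExt (A : Type u) [Category.{v} A] [Abelian A] : (⊤ : ObjectProperty A).IsClosedUnderExtensions :=
  ⟨fun _ _ _ => trivial⟩

/-- `K₀` of an abelian category as `K₀` of its full subcategory of all objects. -/
noncomputable def topEquiv (A : Type u) [Category.{v} A] [Abelian A] : KZero.K0 A ≃+ KZero.K0sub (⊤ : ObjectProperty A) :=
  AddMonoidHom.toAddEquiv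
    (QuotientAddGroup.map _ _ (FreeAbelianGroup.map fun X => (⟨X, trivial⟩ : Subtype (⊤ : ObjectProperty A))) (by
      refine (AddSubgroup.closure_le _).2 ?_
      rintro _ ⟨S, hS, rfl⟩
      refine AddSubgroup.subset_closure ⟨S, trivial, trivial, trivial, hS, ?_⟩
      simp only [map_sub, FreeAbelianGroup.map_of_apply]))
    (QuotientAddGroup.map _ _ (FreeAbelianGroup.map fun X : Subtype (⊤ : ObjectProperty A) => X.1) (by
      refine (AddSubgroup.closure_le _).2 ?_
      rintro _ ⟨S, _, _, _, hS, rfl⟩
      refine AddSubgroup.subset_closure ⟨S, hS, ?_⟩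
      simp only [map_sub, FreeAbelianGroup.map_of_apply]))
    (QuotientAddGroup.addMonoidHom_ext _ (FreeAbelianGroup.lift_ext _ _ fun X => rfl))
    (QuotientAddGroup.addMonoidHom_ext _ (FreeAbelianGroup.lift_ext _ _ fun X => rfl))

/-- For an abelian category A there is an isomorphism between K₀(A) and K₀ of the bounded derived
category D^b(A) (objects of D(A) with bounded cohomology, with the distinguished triangles of D(A))
which sends the class of an object X to the class of X placed in degree 0. -/
theorem result (A : Type u) [Category.{v} A] [Abelian A] [HasDerivedCategory.{w} A] :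
    ∃ φ : KZero.K0 A ≃+ KZero.K0tr (fun X : DerivedCategory A => ∃ a b : ℤ, X.IsGE a ∧ X.IsLE b),
      ∀ X : A, φ (KZero.cl X) =
        KZero.clTr (fun X : DerivedCategory A => ∃ a b : ℤ, X.IsGE a ∧ X.IsLE b) ((DerivedCategory.singleFunctor A 0).obj X) := by
  have hP : (fun X : DerivedCategory A => (∀ i : ℤ, (⊤ : ObjectProperty A) ((DerivedCategory.homologyFunctor A i).obj X)) ∧
      ∃ a b : ℤ, (DerivedCategory.TStructure.t (C := A)).IsGE X a ∧ (DerivedCategory.TStructure.t (C := A)).IsLE X b) =
      (fun X : DerivedCategory A => ∃ a b : ℤ, X.IsGE a ∧ X.IsLE b) :=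
    funext fun X => propext ⟨fun h => h.2, fun h => ⟨fun _ => trivial, h⟩⟩
  obtain ⟨φ, hφ⟩ : ∃ φ : KZero.K0sub (⊤ : ObjectProperty A) ≃+
      KZero.K0tr (fun X : DerivedCategory A => ∃ a b : ℤ, X.IsGE a ∧ X.IsLE b),
      ∀ X : A, (⊤ : ObjectProperty A) X → φ (KZero.clSub ⊤ X) =
        KZero.clTr (fun X : DerivedCategory A => ∃ a b : ℤ, X.IsGE a ∧ X.IsLE b) ((DerivedCategory.singleFunctor A 0).obj X) := by
    rw [← hP]
    exact Groth.Agent.S3201.result (⊤ : ObjectProperty A)
  refine ⟨(topEquiv A).trans φ, fun X => ?_⟩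
  rw [AddEquiv.trans_apply, ← hφ X trivial]
  congr 1
  rw [KZero.clSub, dif_pos (show (⊤ : ObjectProperty A) X from trivial)]
  rfl

end Groth.Agent.S0987
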