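import Groth.Statements.S0989
import Mathlib.Algebra.Homology.DerivedCategory.HomologySequence
-- import your own Groth.Agent.* helpers here

set_option autoImplicit false
universe w v u
open CategoryTheory CategoryTheory.Limits
open CohDer

namespace Groth.Agent.S0989

/-- Let P be a weak Serre class in an abelian category A: P is closed under isomorphisms, holds for a
zero object, and whenever X₀ → X₁ → X₂ → X₃ → X₄ is exact with P holding for X₀, X₁, X₃, X₄ it holds
for X₂. Then the class of objects of the derived category all of whose cohomology objects satisfy P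
is a triangulated subcategory (contains zero, stable under shifts, closed under extensions) which is
moreover closed under retracts (saturated). -/
theorem result {A : Type u} [Category.{v} A] [Abelian A] [HasDerivedCategory.{w} A]
    (P : ObjectProperty A) [P.IsClosedUnderIsomorphisms] (h0 : ∃ Z : A, IsZero Z ∧ P Z)
    (hP : ∀ S : ComposableArrows A 4, S.Exact → P (S.obj 0) → P (S.obj 1) → P (S.obj 3) → P (S.obj 4) → P (S.obj 2)) :
    ObjectProperty.IsTriangulated (fun X : DerivedCategory A => ∀ n : ℤ, P ((DerivedCategory.homologyFunctor A n).obj X)) ∧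
    ObjectProperty.IsStableUnderRetracts (fun X : DerivedCategory A => ∀ n : ℤ, P ((DerivedCategory.homologyFunctor A n).obj X)) := by
  obtain ⟨Z, hZ, hPZ⟩ := h0
  have hzero : ∀ Y : A, IsZero Y → P Y := fun Y hY => P.prop_of_iso (hZ.iso hY) hPZ
  let Q : ObjectProperty (DerivedCategory A) := fun X => ∀ n : ℤ, P ((DerivedCategory.homologyFunctor A n).obj X)
  have hiso : Q.IsClosedUnderIsomorphisms :=
    ⟨fun e h n => P.prop_of_iso ((DerivedCategory.homologyFunctor A n).mapIso e) (h n)⟩
  refine ⟨{
    exists_zero := ⟨_, isZero_zero _, fun n => hzero _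
      ((DerivedCategory.homologyFunctor A n).map_isZero (isZero_zero _))⟩
    isStableUnderShiftBy := fun a => ⟨fun X hX n =>
      P.prop_of_iso (((DerivedCategory.homologyFunctor A 0).shiftIso a n (a + n) rfl).app X).symm
        (hX (a + n))⟩
    ext₂' := fun T hT h₁ h₃ => ⟨_, fun n => ?_, ⟨Iso.refl _⟩⟩ }, ⟨fun {X Y} r hY n => ?_⟩⟩
  · let H := DerivedCategory.homologyFunctor A
    have e₁ := DerivedCategory.HomologySequence.exact₁ T hT (n - 1) n (by omega)
    have e₂ := DerivedCategory.HomologySequence.exact₂ T hT n
    have e₃ := DerivedCategory.HomologySequence.exact₃ T hT n (n + 1) rfl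
    refine hP (ComposableArrows.mk₄ (DerivedCategory.HomologySequence.δ T (n - 1) n (by omega))
      ((H n).map T.mor₁) ((H n).map T.mor₂) (DerivedCategory.HomologySequence.δ T n (n + 1) rfl))
      ?_ (h₃ _) (h₁ _) (h₃ _) (h₁ _)
    refine ComposableArrows.exact_of_δ₀ e₁.exact_toComposableArrows ?_
    refine ComposableArrows.exact_of_δ₀ e₂.exact_toComposableArrows ?_
    exact e₃.exact_toComposableArrows
  · let H := DerivedCategory.homologyFunctor A n
    let p := H.map r.r
    let i := H.map r.i
    have hip : i ≫ p = 𝟙 _ := by rw [← H.map_comp, r.retract, H.map_id]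
    have hex : (ShortComplex.mk (𝟙 _ - p ≫ i) p (by simp [hip])).Exact :=
      ShortComplex.exact_of_g_is_cokernel _ (CokernelCofork.IsColimit.ofπ _ _
        (fun k _ => i ≫ k)
        (fun k hk => by
          simp only [Preadditive.sub_comp, Category.id_comp, Category.assoc, sub_eq_zero] at hk
          exact hk.symm)
        (fun k _ m hm => by
          show m = i ≫ k
          rw [← hm]
          exact ((Category.assoc _ _ _).symm.trans ((congrArg (· ≫ m) hip).trans (Category.id_comp m))).symm))
    have hepi : Epi p := ⟨fun f g h => by simpa [reassoc_of% hip] using i ≫= h⟩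
    refine hP (ComposableArrows.mk₄ (𝟙 _ - p ≫ i) p (0 : H.obj X ⟶ Z) (0 : Z ⟶ Z))
      ?_ (hY n) (hY n) hPZ hPZ
    refine ComposableArrows.exact_of_δ₀ hex.exact_toComposableArrows ?_
    refine ComposableArrows.exact_of_δ₀ (ShortComplex.Exact.exact_toComposableArrows
      (S := ShortComplex.mk p (0 : H.obj X ⟶ Z) comp_zero)
      ((ShortComplex.exact_iff_epi _ rfl).2 hepi)) ?_
    exact ShortComplex.Exact.exact_toComposableArrows
      (S := ShortComplex.mk (0 : H.obj X ⟶ Z) (0 : Z ⟶ Z) comp_zero)
      (ShortComplex.exact_of_isZero_X₂ _ hZ)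

end Groth.Agent.S0989
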