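import Groth.Statements.S0993
import Groth.Agent.ResK0.Basic
import Mathlib.CategoryTheory.Abelian.SerreClass.Localization
import Mathlib.Algebra.Homology.ShortComplex.Abelian
import Mathlib.CategoryTheory.Limits.Preserves.Shapes.Kernels
import Mathlib.Tactic.LinearCombination
import Mathlib.Tactic.Abel
import Mathlib.Tactic.Ring

set_option autoImplicit false
universe v v' u u'
open CategoryTheory CategoryTheory.Limits
open KZero

namespace Groth.Agent.S0993

open CategoryTheory.Limits
open scoped ZeroObject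

section Classes

variable {C : Type u} [Category.{v} C] [Abelian C]

lemma cl_add {S : ShortComplex C} (hS : S.ShortExact) :
    KZero.cl S.X₂ = KZero.cl S.X₁ + KZero.cl S.X₃ := by
  simp only [KZero.cl, ← QuotientAddGroup.mk_add]
  rw [QuotientAddGroup.eq_iff_sub_mem, sub_add_eq_sub_sub]
  exact AddSubgroup.subset_closure ⟨S, hS, rfl⟩

lemma cl_zero {X : C} (hX : IsZero X) : KZero.cl X = 0 := by
  have hS : (ShortComplex.mk (0 : X ⟶ X) (0 : X ⟶ X) zero_comp).ShortExact :=
    { exact := ShortComplex.exact_of_isZero_X₂ _ hX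
      mono_f := ⟨fun _ _ _ => hX.eq_of_tgt _ _⟩
      epi_g := ⟨fun _ _ _ => hX.eq_of_src _ _⟩ }
  exact left_eq_add.1 (cl_add hS)

/-- The short exact sequence with a kernel. -/
lemma cl_epi {X Y : C} (p : X ⟶ Y) [Epi p] : KZero.cl X = KZero.cl (kernel p) + KZero.cl Y :=
  cl_add (Groth.Agent.ResK0.Basic.shortExact_kernel p)

lemma cl_iso {X Y : C} (e : X ≅ Y) : KZero.cl X = KZero.cl Y := by
  rw [cl_epi e.hom, cl_zero (isZero_kernel_of_mono e.hom), zero_add]

lemma cl_mono {X Y : C} (i : X ⟶ Y) [Mono i] : KZero.cl Y = KZero.cl X + KZero.cl (cokernel i) :=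
  cl_add (S := ShortComplex.mk i (cokernel.π i) (cokernel.condition i))
    { exact := ShortComplex.exact_of_g_is_cokernel _ (cokernelIsCokernel i)
      mono_f := ‹_›
      epi_g := inferInstanceAs (Epi (cokernel.π i)) }

lemma cl_image {X Y : C} (f : X ⟶ Y) :
    KZero.cl X = KZero.cl (kernel f) + KZero.cl (Abelian.image f) := by
  let S := ShortComplex.mk (kernel.ι f) (Abelian.factorThruImage f)
    (by rw [← cancel_mono (Abelian.image.ι f), Category.assoc, Abelian.image.fac, kernel.condition, zero_comp])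
  have hS : S.ShortExact :=
    { exact := by
        refine S.exact_of_f_is_kernel (KernelFork.IsLimit.ofι _ _ (fun {W} k hk ↦
          kernel.lift f k ?_) (fun k hk ↦ kernel.lift_ι _ _ _) fun k hk m hm ↦ ?_)
        · rw [← Abelian.image.fac f, reassoc_of% hk, zero_comp]
        · rw [← cancel_mono (kernel.ι f), kernel.lift_ι]
          exact hm
      mono_f := inferInstanceAs (Mono (kernel.ι f))
      epi_g := inferInstanceAs (Epi (Abelian.factorThruImage f)) }
  exact cl_add hS

lemma cl_cokernel {X Y : C} (f : X ⟶ Y) :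
    KZero.cl Y = KZero.cl (Abelian.image f) + KZero.cl (cokernel f) :=
  cl_add (S := ShortComplex.mk (Abelian.image.ι f) (cokernel.π f) (kernel.condition _))
    { exact := ShortComplex.exact_of_f_is_kernel _ (kernelIsKernel _)
      mono_f := inferInstanceAs (Mono (Abelian.image.ι f))
      epi_g := inferInstanceAs (Epi (cokernel.π f)) }

lemma cl_biprod (X Y : C) : KZero.cl (X ⊞ Y) = KZero.cl X + KZero.cl Y :=
  cl_add (ShortComplex.Splitting.ofHasBinaryBiproduct X Y).shortExact

lemma cl_homology (S : ShortComplex C) :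
    KZero.cl S.homology = KZero.cl (kernel S.g) - KZero.cl (Abelian.image S.f) := by
  let d := ShortComplex.LeftHomologyData.ofHasKernelOfHasCokernel S
  rw [cl_iso d.homologyIso]
  change KZero.cl (cokernel (kernel.lift S.g S.f S.zero)) = _
  set l := kernel.lift S.g S.f S.zero
  have hl : l ≫ kernel.ι S.g = S.f := kernel.lift_ι _ _ _
  have h1 := cl_image l
  have h2 := cl_image S.f
  have h3 : KZero.cl (kernel l) = KZero.cl (kernel S.f) :=
    cl_iso ((kernelCompMono l (kernel.ι S.g)).symm ≪≫ kernelIsoOfEq hl)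
  have h4 : KZero.cl (cokernel l) + KZero.cl (Abelian.image l) = KZero.cl (kernel S.g) := by
    rw [cl_cokernel l, add_comm]
  linear_combination (norm := abel) h4 + h1 - h2 + h3

end Classes

section Periodic

variable {C : Type u} [Category.{v} C] [Abelian C]

/-- The Heller map built from two short exact sequences. -/
noncomputable def G (X Y : C) (S T : ShortComplex C) :
    Y ⊞ (T.X₃ ⊞ (T.X₁ ⊞ S.X₂)) ⟶ X ⊞ (S.X₃ ⊞ (S.X₁ ⊞ T.X₂)) :=
  biprod.lift 0 (biprod.lift (biprod.snd ≫ biprod.snd ≫ biprod.snd ≫ S.g)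
    (biprod.lift 0 (biprod.snd ≫ biprod.snd ≫ biprod.fst ≫ T.f)))

lemma G_comp (X Y : C) (S T : ShortComplex C) : G X Y S T ≫ G Y X T S = 0 := by
  refine biprod.hom_ext _ _ (by simp [G]) (biprod.hom_ext _ _ ?_ (biprod.hom_ext _ _ (by simp [G]) ?_))
  · simp [G]
  · simp [G]

/-- The homology of the Heller maps. -/
theorem homology_G (X Y : C) {S T : ShortComplex C} (hS : S.ShortExact) (hT : T.ShortExact) :
    Nonempty ((ShortComplex.mk (G X Y S T) (G Y X T S) (G_comp X Y S T)).homology ≅ X) := by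
  have := hS.mono_f
  have := hS.epi_g
  have := hT.mono_f
  let Sc := ShortComplex.mk (G X Y S T) (G Y X T S) (G_comp X Y S T)
  let π : kernel (G Y X T S) ⟶ X := kernel.ι _ ≫ biprod.fst
  have hinl : (biprod.inl : X ⟶ X ⊞ (S.X₃ ⊞ (S.X₁ ⊞ T.X₂))) ≫ G Y X T S = 0 := by
    refine biprod.hom_ext _ _ (by simp [G]) (biprod.hom_ext _ _ ?_ (biprod.hom_ext _ _ ?_ ?_)) <;> simp [G]
  let sec : X ⟶ kernel (G Y X T S) := kernel.lift _ biprod.inl hinl
  have hsec : sec ≫ π = 𝟙 X := by simp [sec, π]
  have : Epi π := epi_of_epi_fac hsec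
  let l : (Y ⊞ (T.X₃ ⊞ (T.X₁ ⊞ S.X₂))) ⟶ kernel (G Y X T S) := kernel.lift _ (G X Y S T) (G_comp X Y S T)
  have hl : l ≫ π = 0 := by simp [l, π, G]
  have hex : (ShortComplex.mk l π hl).Exact := by
    rw [ShortComplex.exact_iff_exact_up_to_refinements]
    intro W z hz
    dsimp at z hz ⊢
    have hz1 : (z ≫ kernel.ι _) ≫ biprod.fst = 0 := by rw [Category.assoc]; exact hz
    have hz2 : (z ≫ kernel.ι _) ≫ G Y X T S = 0 := by rw [Category.assoc, kernel.condition, comp_zero]
    generalize hu : z ≫ kernel.ι _ = u at hz1 hz2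
    let c := u ≫ biprod.snd ≫ biprod.fst
    let a := u ≫ biprod.snd ≫ biprod.snd ≫ biprod.fst
    let b := u ≫ biprod.snd ≫ biprod.snd ≫ biprod.snd
    have ha : a ≫ S.f = 0 := by
      have := congrArg (fun t => t ≫ biprod.snd ≫ biprod.snd ≫ biprod.snd) hz2
      simpa [G, a] using this
    have ha' : a = 0 := by rw [← cancel_mono S.f, ha, zero_comp]
    have hb : b ≫ T.g = 0 := by
      have := congrArg (fun t => t ≫ biprod.snd ≫ biprod.fst) hz2
      simpa [G, b] using this
    obtain ⟨W₁, e₁, he₁, c', hc⟩ := surjective_up_to_refinements_of_epi S.g c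
    obtain ⟨W₂, e₂, he₂, b', hb'⟩ := hT.exact.exact_up_to_refinements b hb
    obtain ⟨W₃, r, hr, q, hrq⟩ : ∃ (W₃ : C) (r : W₃ ⟶ W₁) (_ : Epi r) (q : W₃ ⟶ W₂), r ≫ e₁ = q ≫ e₂ :=
      ⟨_, pullback.fst e₁ e₂, inferInstance, pullback.snd e₁ e₂, pullback.condition⟩
    refine ⟨W₃, r ≫ e₁, epi_comp _ _, biprod.lift 0 (biprod.lift 0 (biprod.lift (q ≫ b') (r ≫ c'))), ?_⟩
    rw [← cancel_mono (kernel.ι (G Y X T S))]
    simp only [l, Category.assoc, kernel.lift_ι, hu]
    refine biprod.hom_ext _ _ (by simp [G, hz1]) (biprod.hom_ext _ _ ?_ (biprod.hom_ext _ _ ?_ ?_))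
    · simp only [G, Category.assoc, biprod.lift_snd, biprod.lift_fst, biprod.lift_snd_assoc, biprod.lift_fst_assoc, ← hc]
      rfl
    · have : u ≫ biprod.snd ≫ biprod.snd ≫ biprod.fst = 0 := ha'
      simp [G, this]
    · simp only [G, Category.assoc, biprod.lift_snd, biprod.lift_fst, biprod.lift_snd_assoc, biprod.lift_fst_assoc, ← hb']
      rw [reassoc_of% hrq]
  let d : ShortComplex.LeftHomologyData Sc :=
    { K := kernel (G Y X T S)
      H := X
      i := kernel.ι _
      π := π
      wi := kernel.condition _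
      hi := kernelIsKernel _
      wπ := by
        change (kernelIsKernel (G Y X T S)).lift (KernelFork.ofι _ (G_comp X Y S T)) ≫ π = 0
        convert! hl
      hπ := by
        have h : (kernelIsKernel (G Y X T S)).lift (KernelFork.ofι _ (G_comp X Y S T)) = l := by
          rw [← cancel_mono (kernel.ι (G Y X T S))]
        exact IsColimit.ofIsoColimit hex.gIsCokernel (Cofork.ext (Iso.refl _) (by simp)) }
  exact ⟨d.homologyIso⟩

end Periodic

section Lists

variable {C : Type u} [Category.{v} C] [Abelian C]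

/-- Iterated sum of a list. -/
noncomputable def sumL : List C → C
  | [] => 0
  | X :: l => X ⊞ sumL l

/-- Sum of two lists. -/
noncomputable def appendIso : ∀ (l m : List C), sumL (l ++ m) ≅ sumL l ⊞ sumL m
  | [], m =>
    { hom := biprod.inr
      inv := biprod.snd
      hom_inv_id := biprod.inr_snd
      inv_hom_id := biprod.hom_ext _ _ ((isZero_zero C).eq_of_tgt _ _) (by simp) }
  | X :: l, m => biprod.mapIso (Iso.refl X) (appendIso l m) ≪≫ (biprod.associator X (sumL l) (sumL m)).symm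

lemma nonempty_sumL_iso {l m : List C} (h : l.Perm m) : Nonempty (sumL l ≅ sumL m) := by
  induction h with
  | nil => exact ⟨Iso.refl _⟩
  | cons x _ ih => exact ⟨biprod.mapIso (Iso.refl x) ih.some⟩
  | swap x y l =>
    exact ⟨(biprod.associator y x (sumL l)).symm ≪≫ biprod.mapIso (biprod.braiding y x) (Iso.refl _) ≪≫
      biprod.associator x y (sumL l)⟩
  | trans _ _ a b => exact ⟨a.some ≪≫ b.some⟩

lemma shortExact_biprod {S T : ShortComplex C} (hS : S.ShortExact) (hT : T.ShortExact) :
    (ShortComplex.mk (biprod.map S.f T.f) (biprod.map S.g T.g) (by ext <;> simp)).ShortExact := by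
  have := hS.mono_f
  have := hT.mono_f
  have := hS.epi_g
  have := hT.epi_g
  refine { exact := ?_, mono_f := ?_, epi_g := ?_ }
  · rw [ShortComplex.exact_iff_exact_up_to_refinements]
    intro W z hz
    dsimp at z hz ⊢
    have h1 : (z ≫ biprod.fst) ≫ S.g = 0 := by simpa using congrArg (fun t => t ≫ biprod.fst) hz
    have h2 : (z ≫ biprod.snd) ≫ T.g = 0 := by simpa using congrArg (fun t => t ≫ biprod.snd) hz
    obtain ⟨W₁, e₁, he₁, a, ha⟩ := hS.exact.exact_up_to_refinements _ h1
    obtain ⟨W₂, e₂, he₂, b, hb⟩ := hT.exact.exact_up_to_refinements (e₁ ≫ z ≫ biprod.snd)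
      (by rw [Category.assoc, h2, comp_zero])
    refine ⟨W₂, e₂ ≫ e₁, epi_comp _ _, biprod.lift (e₂ ≫ a) b, biprod.hom_ext _ _ ?_ ?_⟩
    · simp [ha]
    · simp [← hb]
  · dsimp
    refine Preadditive.mono_of_cancel_zero _ fun {W} z hz => biprod.hom_ext _ _ ?_ ?_
    · rw [← cancel_mono S.f]; simpa using congrArg (fun t => t ≫ biprod.fst) hz
    · rw [← cancel_mono T.f]; simpa using congrArg (fun t => t ≫ biprod.snd) hz
  · dsimp
    refine Preadditive.epi_of_cancel_zero _ fun {W} z hz => biprod.hom_ext' _ _ ?_ ?_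
    · rw [← cancel_epi S.g]; simpa using congrArg (fun t => biprod.inl ≫ t) hz
    · rw [← cancel_epi T.g]; simpa using congrArg (fun t => biprod.inr ≫ t) hz

lemma exists_sum_ses : ∀ (l : List (ShortComplex C)), (∀ S ∈ l, S.ShortExact) →
    ∃ S : ShortComplex C, S.ShortExact ∧ S.X₁ = sumL (l.map fun S => S.X₁) ∧
      S.X₂ = sumL (l.map fun S => S.X₂) ∧ S.X₃ = sumL (l.map fun S => S.X₃)
  | [], _ => ⟨ShortComplex.mk (𝟙 (0 : C)) 0 comp_zero,
      { exact := ShortComplex.exact_of_isZero_X₂ _ (isZero_zero C)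
        mono_f := inferInstanceAs (Mono (𝟙 (0 : C)))
        epi_g := ⟨fun _ _ _ => (isZero_zero C).eq_of_src _ _⟩ }, rfl, rfl, rfl⟩
  | S :: l, h => by
    obtain ⟨T, hT, e₁, e₂, e₃⟩ := exists_sum_ses l fun S hS => h S (List.mem_cons_of_mem _ hS)
    exact ⟨_, shortExact_biprod (h S List.mem_cons_self) hT, by simp [sumL, e₁], by simp [sumL, e₂], by simp [sumL, e₃]⟩

/-- Sum of the generators of a list. -/
def ofL (l : List C) : FreeAbelianGroup C := (l.map FreeAbelianGroup.of).sum

@[simp] lemma ofL_cons (X : C) (l : List C) : ofL (X :: l) = FreeAbelianGroup.of X + ofL l := List.sum_cons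
@[simp] lemma ofL_append (l m : List C) : ofL (l ++ m) = ofL l + ofL m := by simp [ofL]
@[simp] lemma ofL_nil : ofL ([] : List C) = 0 := rfl

lemma perm_of_ofL {l m : List C} (h : ofL l = ofL m) : l.Perm m := by
  classical
  rw [List.perm_iff_count]
  intro a
  let f : FreeAbelianGroup C →+ ℤ := FreeAbelianGroup.lift fun Z => if Z = a then 1 else 0
  have hf : ∀ l : List C, f (ofL l) = (l.count a : ℤ) := fun l => by
    induction l with
    | nil => simp
    | cons b l ih =>
      rw [ofL_cons, map_add, ih, List.count_cons, FreeAbelianGroup.lift_apply_of]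
      by_cases hb : b = a <;> simp [hb] <;> ring
  have := congrArg f h
  rw [hf, hf] at this
  exact_mod_cast this

/-- Elements of the relation subgroup. -/
lemma exists_lists {z : FreeAbelianGroup C} (hz : z ∈ KZero.relAb C) :
    ∃ l m : List (ShortComplex C), (∀ S ∈ l, S.ShortExact) ∧ (∀ S ∈ m, S.ShortExact) ∧
      z + ofL (l.map fun S => S.X₁) + ofL (l.map fun S => S.X₃) + ofL (m.map fun S => S.X₂) =
        ofL (l.map fun S => S.X₂) + ofL (m.map fun S => S.X₁) + ofL (m.map fun S => S.X₃) := by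
  induction hz using AddSubgroup.closure_induction with
  | mem x hx =>
    obtain ⟨S, hS, rfl⟩ := hx
    refine ⟨[S], [], by simpa using hS, by simp, ?_⟩
    simp; abel
  | zero => exact ⟨[], [], by simp, by simp, by simp⟩
  | add x y _ _ hx hy =>
    obtain ⟨l, m, hl, hm, e⟩ := hx
    obtain ⟨l', m', hl', hm', e'⟩ := hy
    refine ⟨l ++ l', m ++ m', ?_, ?_, ?_⟩
    · intro S hS; rcases List.mem_append.1 hS with h | h; exacts [hl S h, hl' S h]
    · intro S hS; rcases List.mem_append.1 hS with h | h; exacts [hm S h, hm' S h]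
    · simp only [List.map_append, ofL_append]
      have := congrArg₂ (· + ·) e e'
      linear_combination (norm := abel) this
  | neg x _ hx =>
    obtain ⟨l, m, hl, hm, e⟩ := hx
    exact ⟨m, l, hm, hl, by linear_combination (norm := abel) -e⟩

end Lists

/-- Let P be a Serre class in an abelian category A and L : A ⥤ Q an exact localization at the morphisms
with kernel and cokernel in P (a model of the quotient A/P). There are homomorphisms ι : K₀(P) →
K₀(A) and λ : K₀(A) → K₀(Q) given on classes of objects by the inclusion and by L; λ is surjective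
and its kernel is the image of ι (part (1)); and an element of K₀(P) lies in the kernel of ι exactly
when it has the form [H⁰] - [H¹] for a 2-periodic complex … → M → M → M → … with maps φ, ψ (φψ = 0 =
ψφ) on an object M of A whose two cohomology objects H⁰ = Ker ψ / Im φ and H¹ = Ker φ / Im ψ satisfy
P (part (2)). -/
theorem result {A : Type u} [Category.{v} A] [Abelian A] (P : ObjectProperty A) [P.IsSerreClass]
    {Q : Type u'} [Category.{v'} Q] [Abelian Q]
    (L : A ⥤ Q) [L.IsLocalization P.isoModSerre] [L.Additive] [PreservesFiniteLimits L] [PreservesFiniteColimits L] :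
    ∃ (ι : KZero.K0sub P →+ KZero.K0 A) (lam : KZero.K0 A →+ KZero.K0 Q),
      (∀ X : A, P X → ι (KZero.clSub P X) = KZero.cl X) ∧
      (∀ X : A, lam (KZero.cl X) = KZero.cl (L.obj X)) ∧
      Function.Surjective lam ∧ lam.ker = ι.range ∧
      ∀ x : KZero.K0sub P, ι x = 0 ↔
        ∃ (M : A) (φ ψ : M ⟶ M) (h₁ : φ ≫ ψ = 0) (h₂ : ψ ≫ φ = 0),
          P (ShortComplex.mk φ ψ h₁).homology ∧ P (ShortComplex.mk ψ φ h₂).homology ∧
          x = KZero.clSub P (ShortComplex.mk φ ψ h₁).homology - KZero.clSub P (ShortComplex.mk ψ φ h₂).homology := by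
  classical
  have := Localization.essSurj L P.isoModSerre
  let ι : KZero.K0sub P →+ KZero.K0 A := QuotientAddGroup.lift _ (FreeAbelianGroup.lift fun X => KZero.cl X.1) (by
    refine (AddSubgroup.closure_le _).2 ?_
    rintro _ ⟨S, h₁, h₂, h₃, hS, rfl⟩
    simp only [SetLike.mem_coe, AddMonoidHom.mem_ker, map_sub, FreeAbelianGroup.lift_apply_of]
    rw [cl_add hS]; abel)
  let lam : KZero.K0 A →+ KZero.K0 Q := QuotientAddGroup.lift _ (FreeAbelianGroup.lift fun X => KZero.cl (L.obj X)) (by
    refine (AddSubgroup.closure_le _).2 ?_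
    rintro _ ⟨S, hS, rfl⟩
    simp only [SetLike.mem_coe, AddMonoidHom.mem_ker, map_sub, FreeAbelianGroup.lift_apply_of]
    have h := cl_add (hS.map_of_exact L)
    change KZero.cl (L.obj S.X₂) = KZero.cl (L.obj S.X₁) + KZero.cl (L.obj S.X₃) at h
    rw [h]; abel)
  have hι : ∀ X, P X → ι (KZero.clSub P X) = KZero.cl X := fun X hX => by
    simp only [KZero.clSub, dif_pos hX]
    exact FreeAbelianGroup.lift_apply_of _ _
  have hlam : ∀ X, lam (KZero.cl X) = KZero.cl (L.obj X) := fun X => FreeAbelianGroup.lift_apply_of _ _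
  let c : A → KZero.K0 A ⧸ ι.range := fun X => QuotientAddGroup.mk (KZero.cl X)
  have hcP : ∀ X, P X → c X = 0 := fun X hX => (QuotientAddGroup.eq_zero_iff _).2 ⟨_, hι X hX⟩
  have hcS : ∀ {X Y : A} (f : X ⟶ Y), P.isoModSerre f → c X = c Y := fun {X Y} f hf => by
    have h1 : c X = c (kernel f) + c (Abelian.image f) := by simp only [c, cl_image f, QuotientAddGroup.mk_add]
    have h2 : c Y = c (Abelian.image f) + c (cokernel f) := by simp only [c, cl_cokernel f, QuotientAddGroup.mk_add]
    rw [h1, h2, hcP _ hf.1, hcP _ hf.2, zero_add, add_zero]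
  have hciso : ∀ {X Y : A}, (L.obj X ≅ L.obj Y) → c X = c Y := fun {X Y} e => by
    obtain ⟨φ, hφ⟩ := Localization.exists_leftFraction L P.isoModSerre e.hom
    have := Localization.inverts L P.isoModSerre φ.s φ.hs
    have hf : L.map φ.f = e.hom ≫ L.map φ.s := by
      rw [hφ, MorphismProperty.LeftFraction.map_comp_map_s]
    have : IsIso (L.map φ.f) := by rw [hf]; infer_instance
    have hmem : P.isoModSerre φ.f :=
      ⟨(ObjectProperty.SerreClassLocalization.mono_map_iff L P φ.f).1 inferInstance,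
        (ObjectProperty.SerreClassLocalization.epi_map_iff L P φ.f).1 inferInstance⟩
    exact (hcS _ hmem).trans (hcS _ φ.hs).symm
  let ν : KZero.K0 Q →+ KZero.K0 A ⧸ ι.range :=
    QuotientAddGroup.lift _ (FreeAbelianGroup.lift fun Z => c (L.objPreimage Z)) (by
    refine (AddSubgroup.closure_le _).2 ?_
    rintro _ ⟨S, hS, rfl⟩
    simp only [SetLike.mem_coe, AddMonoidHom.mem_ker, map_sub, FreeAbelianGroup.lift_apply_of]
    obtain ⟨φ, hφ⟩ := Localization.exists_rightFraction L P.isoModSerre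
      ((L.objObjPreimageIso S.X₂).hom ≫ S.g ≫ (L.objObjPreimageIso S.X₃).inv)
    have := Localization.inverts L P.isoModSerre φ.s φ.hs
    have := hS.epi_g
    have hf : L.map φ.f = L.map φ.s ≫ (L.objObjPreimageIso S.X₂).hom ≫ S.g ≫ (L.objObjPreimageIso S.X₃).inv := by
      rw [hφ, MorphismProperty.RightFraction.map_s_comp_map]
    have hepi : P (cokernel φ.f) :=
      (ObjectProperty.SerreClassLocalization.epi_map_iff L P φ.f).1 (by rw [hf]; infer_instance)
    have h2 : c (L.objPreimage S.X₂) = c (kernel φ.f) + c (Abelian.image φ.f) := by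
      rw [← hcS φ.s φ.hs]; simp only [c, cl_image φ.f, QuotientAddGroup.mk_add]
    have h3 : c (L.objPreimage S.X₃) = c (Abelian.image φ.f) := by
      have : c (L.objPreimage S.X₃) = c (Abelian.image φ.f) + c (cokernel φ.f) := by
        simp only [c, cl_cokernel φ.f, QuotientAddGroup.mk_add]
      rw [this, hcP _ hepi, add_zero]
    have e1 : L.obj (kernel φ.f) ≅ S.X₁ := PreservesKernel.iso L φ.f ≪≫
      kernel.mapIso _ _ (asIso (L.map φ.s) ≪≫ L.objObjPreimageIso S.X₂) (L.objObjPreimageIso S.X₃)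
        (by rw [hf]; simp) ≪≫
      IsLimit.conePointUniqueUpToIso (kernelIsKernel S.g) hS.fIsKernel
    have h1 : c (L.objPreimage S.X₁) = c (kernel φ.f) := hciso (L.objObjPreimageIso S.X₁ ≪≫ e1.symm)
    rw [h1, h2, h3]; abel)
  refine ⟨ι, lam, hι, hlam, fun y => ?_, le_antisymm (fun y hy => ?_) ?_, fun x => ⟨fun hx => ?_, ?_⟩⟩
  · induction y using QuotientAddGroup.induction_on with
    | _ z =>
      induction z using FreeAbelianGroup.induction_on with
      | zero => exact ⟨0, map_zero _⟩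
      | of Z => exact ⟨KZero.cl (L.objPreimage Z), (hlam _).trans (cl_iso (L.objObjPreimageIso Z))⟩
      | neg Z hZ => obtain ⟨a, ha⟩ := hZ; exact ⟨-a, by rw [map_neg, ha]; rfl⟩
      | add a b ha hb =>
        obtain ⟨a', ha⟩ := ha; obtain ⟨b', hb⟩ := hb
        exact ⟨a' + b', by rw [map_add, ha, hb]; rfl⟩
  · have hcomp : ν.comp lam = QuotientAddGroup.mk' ι.range := by
      refine QuotientAddGroup.addMonoidHom_ext _ (FreeAbelianGroup.lift_ext _ _ fun X => ?_)
      change ν (lam (KZero.cl X)) = c X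
      rw [hlam]
      exact (FreeAbelianGroup.lift_apply_of _ _).trans (hciso (L.objObjPreimageIso _))
    have := DFunLike.congr_fun hcomp y
    rw [AddMonoidHom.comp_apply, AddMonoidHom.mem_ker.1 hy, map_zero] at this
    exact (QuotientAddGroup.eq_zero_iff _).1 this.symm
  · rintro _ ⟨z, rfl⟩
    rw [AddMonoidHom.mem_ker]
    induction z using QuotientAddGroup.induction_on with
    | _ z =>
      induction z using FreeAbelianGroup.induction_on with
      | zero => exact (congrArg lam (map_zero ι)).trans (map_zero _)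
      | of X =>
        have h : KZero.clSub P X.1 = QuotientAddGroup.mk (FreeAbelianGroup.of X) := dif_pos X.2
        rw [← h, hι _ X.2, hlam]
        exact cl_zero ((ObjectProperty.SerreClassLocalization.isZero_obj_iff L P _).2 X.2)
      | neg z hz => rw [QuotientAddGroup.mk_neg, map_neg, map_neg, hz, neg_zero]
      | add a b ha hb => rw [QuotientAddGroup.mk_add, map_add, map_add, ha, hb, add_zero]
  · obtain ⟨X, Y, hX, hY, rfl⟩ : ∃ X Y, P X ∧ P Y ∧ x = KZero.clSub P X - KZero.clSub P Y := by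
      have h0 : P (0 : A) := P.prop_of_isZero (isZero_zero A)
      have hbi : ∀ {U V : A}, P U → P V → P (U ⊞ V) ∧ KZero.clSub P (U ⊞ V) = KZero.clSub P U + KZero.clSub P V := fun {U V} hU hV => by
        have hS := (ShortComplex.Splitting.ofHasBinaryBiproduct U V).shortExact
        have hUV : P (U ⊞ V) := P.prop_X₂_of_shortExact hS hU hV
        exact ⟨hUV, Groth.Agent.ResK0.Basic.clSub_add P hS hU hUV hV⟩
      have hc0 : KZero.clSub P (0 : A) = 0 := by
        refine left_eq_add.1 (Groth.Agent.ResK0.Basic.clSub_add P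
          (S := ShortComplex.mk (0 : (0 : A) ⟶ 0) (0 : (0 : A) ⟶ 0) zero_comp)
          { exact := ShortComplex.exact_of_isZero_X₂ _ (isZero_zero A)
            mono_f := ⟨fun _ _ _ => (isZero_zero A).eq_of_tgt _ _⟩
            epi_g := ⟨fun _ _ _ => (isZero_zero A).eq_of_src _ _⟩ } h0 h0 h0)
      clear hx
      induction x using QuotientAddGroup.induction_on with
      | _ z =>
        induction z using FreeAbelianGroup.induction_on with
        | zero => exact ⟨0, 0, h0, h0, by rw [sub_self]; rfl⟩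
        | of X => exact ⟨X.1, 0, X.2, h0, by rw [hc0, sub_zero, KZero.clSub, dif_pos X.2]⟩
        | neg z hz =>
          obtain ⟨U, V, hU, hV, e⟩ := hz
          exact ⟨V, U, hV, hU, by rw [QuotientAddGroup.mk_neg, e, neg_sub]⟩
        | add a b ha hb =>
          obtain ⟨U, V, hU, hV, e⟩ := ha
          obtain ⟨U', V', hU', hV', e'⟩ := hb
          refine ⟨U ⊞ U', V ⊞ V', (hbi hU hU').1, (hbi hV hV').1, ?_⟩
          rw [QuotientAddGroup.mk_add, e, e', (hbi hU hU').2, (hbi hV hV').2]; abel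
    rw [map_sub, hι X hX, hι Y hY, KZero.cl, KZero.cl, ← QuotientAddGroup.mk_sub, QuotientAddGroup.eq_zero_iff] at hx
    obtain ⟨l, m, hl, hm, e⟩ := exists_lists hx
    obtain ⟨S, hS, e₁, e₂, e₃⟩ := exists_sum_ses l hl
    obtain ⟨T, hT, f₁, f₂, f₃⟩ := exists_sum_ses m hm
    have hperm : (X :: ((l.map fun S => S.X₃) ++ ((l.map fun S => S.X₁) ++ (m.map fun S => S.X₂)))).Perm
        (Y :: ((m.map fun S => S.X₃) ++ ((m.map fun S => S.X₁) ++ (l.map fun S => S.X₂)))) := perm_of_ofL (by
      simp only [ofL_cons, ofL_append]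
      linear_combination (norm := abel) e)
    obtain ⟨θ₀⟩ := nonempty_sumL_iso hperm
    let θ : (X ⊞ (S.X₃ ⊞ (S.X₁ ⊞ T.X₂))) ≅ (Y ⊞ (T.X₃ ⊞ (T.X₁ ⊞ S.X₂))) :=
      biprod.mapIso (Iso.refl X) (biprod.mapIso (eqToIso e₃) (biprod.mapIso (eqToIso e₁) (eqToIso f₂) ≪≫
        (appendIso _ _).symm) ≪≫ (appendIso _ _).symm) ≪≫ θ₀ ≪≫
      biprod.mapIso (Iso.refl Y) (appendIso _ _ ≪≫ biprod.mapIso (eqToIso f₃.symm) (appendIso _ _ ≪≫
        biprod.mapIso (eqToIso f₁.symm) (eqToIso e₂.symm)))
    let φ := θ.hom ≫ G X Y S T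
    let ψ := G Y X T S ≫ θ.inv
    have h₁ : φ ≫ ψ = 0 := by simp [φ, ψ, reassoc_of% (G_comp X Y S T)]
    have h₂ : ψ ≫ φ = 0 := by simp [φ, ψ, G_comp Y X T S]
    let i₁ : ShortComplex.mk φ ψ h₁ ≅ ShortComplex.mk (G X Y S T) (G Y X T S) (G_comp X Y S T) :=
      ShortComplex.isoMk θ (Iso.refl _) θ (by simp [φ]) (by simp [ψ])
    let i₂ : ShortComplex.mk ψ φ h₂ ≅ ShortComplex.mk (G Y X T S) (G X Y S T) (G_comp Y X T S) :=
      ShortComplex.isoMk (Iso.refl _) θ (Iso.refl _) (by simp [ψ]) (by simp [φ])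
    let a := ShortComplex.homologyMapIso i₁ ≪≫ (homology_G X Y hS hT).some
    let b := ShortComplex.homologyMapIso i₂ ≪≫ (homology_G Y X hT hS).some
    have hiso : ∀ {U V : A}, (U ≅ V) → P V → P U ∧ KZero.clSub P U = KZero.clSub P V := fun {U V} e hV => by
      have hU : P U := P.prop_of_iso e.symm hV
      have hk := isZero_kernel_of_mono e.hom
      have hk0 : P (kernel e.hom) := P.prop_of_isZero hk
      have hk1 : KZero.clSub P (kernel e.hom) = 0 := left_eq_add.1 (Groth.Agent.ResK0.Basic.clSub_add P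
        (S := ShortComplex.mk (0 : kernel e.hom ⟶ kernel e.hom) (0 : kernel e.hom ⟶ kernel e.hom) zero_comp)
        { exact := ShortComplex.exact_of_isZero_X₂ _ hk
          mono_f := ⟨fun _ _ _ => hk.eq_of_tgt _ _⟩
          epi_g := ⟨fun _ _ _ => hk.eq_of_src _ _⟩ } hk0 hk0 hk0)
      have := Groth.Agent.ResK0.Basic.clSub_add P (Groth.Agent.ResK0.Basic.shortExact_kernel e.hom) hk0 hU hV
      exact ⟨hU, by rw [this, hk1, zero_add]⟩
    exact ⟨_, φ, ψ, h₁, h₂, (hiso a hX).1, (hiso b hY).1, by rw [(hiso a hX).2, (hiso b hY).2]⟩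
  · rintro ⟨M, φ, ψ, h₁, h₂, hP₁, hP₂, rfl⟩
    rw [map_sub, hι _ hP₁, hι _ hP₂, cl_homology, cl_homology]
    have a := cl_image φ
    have b := cl_image ψ
    change KZero.cl (kernel ψ) - KZero.cl (Abelian.image φ) - (KZero.cl (kernel φ) - KZero.cl (Abelian.image ψ)) = 0
    linear_combination (norm := abel) a - b


end Groth.Agent.S0993
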