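import Groth.Statements.S0996
import Groth.Agent.CohDerLib.Acyclic

set_option autoImplicit false
universe w w' v v' u u'
open CategoryTheory CategoryTheory.Limits
open CohDer

namespace Groth.Agent.S0996

/-- Leray's acyclicity lemma. Let F : C ⥤ D be a left exact additive functor between abelian categories,
with C having enough injectives. If K is a bounded below cochain complex in C all of whose terms are
right F-acyclic (RⁱF(Kᵐ) = 0 for i > 0), then the canonical map F(K) → RF(K) in the bounded below
derived category D⁺(D) is an isomorphism. -/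
theorem result {C : Type u} [Category.{v} C] [Abelian C] [HasDerivedCategory.{w} C] [EnoughInjectives C]
    {D : Type u'} [Category.{v'} D] [Abelian D] [HasDerivedCategory.{w'} D]
    (F : C ⥤ D) [F.Additive] [PreservesFiniteLimits F] (K : CochainComplex.Plus C)
    (hK : ∀ (m : ℤ) (i : ℕ), 0 < i → IsZero ((F.rightDerived i).obj (K.obj.X m))) :
    IsIso (F.rightDerivedFunctorPlusUnit.app ((HomotopyCategory.Plus.quotient C).obj K)) := by
  obtain ⟨n, hn⟩ := K.property
  have := hn
  obtain ⟨L, hL, i, hi⟩ := CochainComplex.Plus.exists_quasiIso_injective K n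
  let M := (InjectiveObject.ι C).mapCochainComplexPlus.obj L
  have : QuasiIso i.hom := hi
  let s := (HomotopyCategory.Plus.quotient C).map i
  have hinj : ∀ m, Injective (M.obj.X m) := fun m => (L.obj.X m).property
  obtain ⟨b, hb⟩ := M.property
  have := hb
  have : CochainComplex.IsStrictlyGE (CochainComplex.mappingCone i.hom) (min (n - 1) b) :=
    CochainComplex.isStrictlyGE_mappingCone i.hom n b _ (by omega) (by omega)
  have h1 := Groth.Agent.CohDerLib.Acyclic.quasiIso_map F i.hom hK
    (fun m => haveI := hinj m; Groth.Agent.CohDerLib.Acyclic.acy_of_injective _)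
    (Groth.Agent.CohDerLib.Acyclic.small_of_isStrictlyGE _ (min (n - 1) b))
  have hA : IsIso (DerivedCategory.Plus.Qh.map (F.mapHomotopyCategoryPlus.map s)) :=
    Localization.inverts DerivedCategory.Plus.Qh (HomotopyCategory.Plus.quasiIso D) _ h1
  have hB : IsIso (DerivedCategory.Plus.Qh.map s) :=
    Localization.inverts DerivedCategory.Plus.Qh (HomotopyCategory.Plus.quasiIso C) _
      ((HomotopyCategory.quotient_map_mem_quasiIso_iff i.hom).2 (by
        rw [HomologicalComplex.mem_quasiIso_iff]; infer_instance))
  have hI : IsIso (F.rightDerivedFunctorPlusUnit.app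
      ((HomotopyCategory.Plus.quotient C).obj M)) := by
    show IsIso (F.rightDerivedFunctorPlusUnit.app ((HomotopyCategory.Plus.quotient C).obj
      ((InjectiveObject.ι C).mapCochainComplexPlus.obj L)))
    infer_instance
  have e := F.rightDerivedFunctorPlusUnit.naturality s
  have : IsIso (F.rightDerivedFunctorPlus.map (DerivedCategory.Plus.Qh.map s)) :=
    Functor.map_isIso _ _
  have : IsIso ((DerivedCategory.Plus.Qh ⋙ F.rightDerivedFunctorPlus).map s) := this
  have : IsIso ((F.mapHomotopyCategoryPlus ⋙ DerivedCategory.Plus.Qh).map s) := hA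
  have h2 : IsIso (F.rightDerivedFunctorPlusUnit.app ((HomotopyCategory.Plus.quotient C).obj K) ≫
      (DerivedCategory.Plus.Qh ⋙ F.rightDerivedFunctorPlus).map s) := by
    rw [← e]
    infer_instance
  exact IsIso.of_isIso_comp_right _ ((DerivedCategory.Plus.Qh ⋙ F.rightDerivedFunctorPlus).map s)

end Groth.Agent.S0996
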