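import Groth.Statements.S10000
import Groth.Agent.AlgSp.LargeField
import Groth.Agent.AlgSp.Space
import Groth.Agent.AlgSp.FTPoints
import Groth.Agent.AlgSpB.Points
-- import your own Groth.Agent.* helpers here

set_option autoImplicit false
universe u
open CategoryTheory CategoryTheory.Limits AlgebraicGeometry
open AlgSp

set_option backward.isDefEq.respectTransparency.types false

namespace Groth.Agent.S10000

/-- For a morphism X ⟶ Y of algebraic spaces and an algebraically closed field k over S that is large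
compared with X, X(k) surjects onto |X| ×_{|Y|} Y(k): every pair of a point x of |X| and a k-valued
point of Y with the same image in |Y| comes from a k-valued point of X. (The published statement
measures largeness by a cardinal attached to X that bounds the residue fields of an etale atlas;
this row asks directly that every residue field of one surjective etale chart U of X have
cardinality smaller than that of k, which is how the bound enters the argument.) -/
theorem result {S : Scheme.{u}} {X Y : AlgSp.Space S} (f : X ⟶ Y)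
    {U : Over S} (a : (AlgSp.yon S).obj U ⟶ X.obj) (ha : AlgSp.RepWith @Etale a) (has : AlgSp.RepWith @Surjective a)
    (ybar : AlgSp.FieldPt Y.obj) (hy : ybar.IsGeometric)
    (hk : ∀ u : ↥U.left, Cardinal.mk ↥(U.left.residueField u) < Cardinal.mk ybar.K)
    (x : AlgSp.Points X.obj) (hx : AlgSp.Points.map f.hom x = AlgSp.Points.mk ybar) :
    ∃ xbar : (AlgSp.yon S).obj ybar.pt ⟶ X.obj, xbar ≫ f.hom = ybar.toHom ∧
      AlgSp.Points.ofPt xbar (IsLocalRing.closedPoint ybar.K) = x := by
  have : IsAlgClosed ybar.K := hy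
  obtain ⟨u, rfl⟩ := Groth.Agent.AlgSpB.surjective_ofPt has x
  obtain ⟨V, p, hp, hps⟩ := Y.property.atlas
  obtain ⟨P, t, s, sqP⟩ := Groth.Agent.AlgSp.exists_isPullback_yon Y.property.diag p ybar.toHom
  have : Etale s.left := hp.2 _ _ _ sqP
  have : Surjective s.left := hps.2 _ _ _ sqP
  let z : ↥(Spec (CommRingCat.of ybar.K)) := IsLocalRing.closedPoint ybar.K
  obtain ⟨z', -⟩ := s.left.surjective z
  have : Nonempty ↥P.left := ⟨z'⟩
  have hls : LocallyOfFiniteType s.left := inferInstance
  obtain ⟨σ, hσ⟩ := Groth.Agent.AlgSp.FTPoints.exists_section_of_isAlgClosed (k := ybar.K) s.left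
  let σ' : ybar.pt ⟶ P := Over.homMk σ (by rw [← Over.w s, reassoc_of% hσ])
  have hσ' : σ' ≫ s = 𝟙 _ := Over.OverMorphism.ext hσ
  let β : ybar.pt ⟶ V := σ' ≫ t
  have hβ : (AlgSp.yon S).map β ≫ p = ybar.toHom := by
    rw [Functor.map_comp, Category.assoc, sqP.w, ← Functor.map_comp_assoc, hσ']
    simp
  obtain ⟨W, q₁, q₂, sqW⟩ := Groth.Agent.AlgSp.exists_isPullback_yon Y.property.diag (a ≫ f.hom) p
  have : Etale q₁.left := hp.2 _ _ _ sqW.flip
  have he : AlgSp.Points.ofPt (a ≫ f.hom) u = AlgSp.Points.ofPt p (β.left z) := by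
    rw [← AlgSp.Points.map_ofPt, hx, ← Groth.Agent.AlgSpB.ofPt_map_comp, hβ, AlgSp.Points.ofPt_toHom]
  obtain ⟨w, hw₁, hw₂⟩ := (Groth.Agent.AlgSpB.ofPt_eq_ofPt_iff sqW u (β.left z)).1 he
  have hcard : Cardinal.mk ↥(W.left.residueField w) < Cardinal.mk ybar.K :=
    Groth.Agent.AlgSp.LargeField.card_residueField_lt q₁.left w (by rw [hw₁]; exact hk u)
  let g : Spec (W.left.residueField w) ⟶ V.left := W.left.fromSpecResidueField w ≫ q₂.left
  obtain ⟨φ, hφ⟩ : ∃ φ : V.left.residueField (β.left z) ⟶ W.left.residueField w,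
      Spec.map φ ≫ V.left.fromSpecResidueField (β.left z) = g := by
    rw [← hw₂]
    exact ⟨q₂.left.residueFieldMap w, q₂.left.SpecMap_residueFieldMap_fromSpecResidueField w⟩
  obtain ⟨ψ, hψ⟩ : ∃ ψ : V.left.residueField (β.left z) ⟶ CommRingCat.of ybar.K,
      Spec.map ψ ≫ V.left.fromSpecResidueField (β.left z) = β.left :=
    ⟨_, Scheme.descResidueField_stalkClosedPointTo_fromSpecResidueField ybar.K V.left β.left⟩
  obtain ⟨θ, hθ⟩ := Groth.Agent.AlgSp.LargeField.exists_ringHom φ.hom ψ.hom hcard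
  let l₀ : Spec (CommRingCat.of ybar.K) ⟶ W.left := Spec.map (CommRingCat.ofHom θ) ≫ W.left.fromSpecResidueField w
  have hl₀ : l₀ ≫ q₂.left = β.left := by
    have h1 : φ ≫ CommRingCat.ofHom θ = ψ := CommRingCat.hom_ext hθ
    rw [← hψ, ← h1, Spec.map_comp]
    exact (Category.assoc _ _ _).trans ((congrArg (fun k => Spec.map (CommRingCat.ofHom θ) ≫ k) hφ).symm.trans
      (Category.assoc _ _ _).symm)
  let l : ybar.pt ⟶ W := Over.homMk l₀ (by rw [← Over.w q₂, reassoc_of% hl₀]; exact Over.w β)
  have hl : l ≫ q₂ = β := Over.OverMorphism.ext hl₀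
  refine ⟨(AlgSp.yon S).map (l ≫ q₁) ≫ a, ?_, ?_⟩
  · rw [Category.assoc, Functor.map_comp, Category.assoc, sqW.w, ← Functor.map_comp_assoc, hl, hβ]
  · refine (Groth.Agent.AlgSpB.ofPt_map_comp _ a _).trans (congrArg (AlgSp.Points.ofPt a) ?_)
    rw [Over.comp_left, Scheme.Hom.comp_apply, ← hw₁]
    refine congrArg q₁.left ?_
    exact (Scheme.Hom.comp_apply _ _ _).trans (Scheme.fromSpecResidueField_apply _ _)

end Groth.Agent.S10000
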