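import Groth.Statements.S10003
import Groth.Agent.AlgSp.IdealRep
-- import your own Groth.Agent.* helpers here

set_option autoImplicit false
universe u
open CategoryTheory CategoryTheory.Limits AlgebraicGeometry Opposite
open AlgSp

set_option backward.isDefEq.respectTransparency.types false

namespace Groth.Agent.S10003

/-- For a quasi-compact morphism f : X ⟶ Y of algebraic spaces that is representable by schemes, the
sheaf of ideals Ker(O_Y ⟶ f_* O_X) (the kernel family on affine etale charts of Y) is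
quasi-coherent, and the scheme theoretic image of f is exactly the closed subspace it cuts out. (The
published statement is for an arbitrary quasi-compact morphism of algebraic spaces; f_* O_X on the
small etale site with scheme charts is available only for representable f, the case stated.) -/
theorem result {S : Scheme.{u}} {X Y : AlgSp.Space S} (f : X ⟶ Y)
    (hf : AlgSp.Representable f.hom) (hqc : AlgSp.IsQuasiCompactMor f.hom) :
    (AlgSp.idealOfRep hf).IsQCoh ∧
      ∀ (Z : AlgSp.Space S) (i : Z ⟶ Y), AlgSp.IsSchImage f.hom i.hom ↔ AlgSp.IsCutOutBy (AlgSp.idealOfRep hf) i.hom := by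
  have hq := (Groth.Agent.AlgSp.repWith_quasiCompact_iff Y.property f.hom hf).2 hqc
  refine ⟨Groth.Agent.AlgSp.IdealRep.isQCoh_idealOfRep_qc hf hq, fun Z i =>
    ⟨fun h => Groth.Agent.AlgSp.IdealRep.isCutOutBy_of_isSchImage X.property Y.property hf hq h, fun h => ?_⟩⟩
  obtain ⟨Z', i', -, hi'⟩ := Groth.Agent.AlgSp.SchImage.exists_isSchImage X.property Y.property f.hom
  have h' := Groth.Agent.AlgSp.IdealRep.isCutOutBy_of_isSchImage X.property Y.property hf hq hi'
  obtain ⟨k, hk⟩ := (Groth.Agent.AlgSp.IdealEtLib.le_iff_factor Y.property h h').1 fun _ _ => le_rfl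
  obtain ⟨k', hk'⟩ := (Groth.Agent.AlgSp.IdealEtLib.le_iff_factor Y.property h' h).1 fun _ _ => le_rfl
  obtain ⟨-, ⟨g, hg⟩, hmin⟩ := hi'
  refine ⟨h.1, ⟨g ≫ k, by rw [Category.assoc, hk, hg]⟩, fun Z₂ i₂ hZ₂ hi₂ hf₂ => ?_⟩
  obtain ⟨l, hl⟩ := hmin i₂ hZ₂ hi₂ hf₂
  exact ⟨k' ≫ l, by rw [Category.assoc, hl, hk']⟩

end Groth.Agent.S10003
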