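import Groth.Statements.S10005
import Groth.Agent.AlgSp.LimSepAbs
-- import your own Groth.Agent.* helpers here

set_option autoImplicit false
universe u
open CategoryTheory CategoryTheory.Limits AlgebraicGeometry
open AlgSp

set_option backward.isDefEq.respectTransparency.types false

namespace Groth.Agent.S10005

/-- Let `S` be a quasi-separated scheme and `X` the limit, in fppf sheaves over `S`, of a cofiltered
system `(X_i)` of quasi-compact algebraic spaces over `S`, each quasi-separated over `S`, whose
transition maps are affine. If `X` is separated over `S`, then `X_i` is separated over `S` for some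
`i`. (The published statement uses absolute separatedness and quasi-separatedness and puts no
condition on `S`; this row assumes `S` quasi-separated and takes both notions over `S`, which gives
the same quasi-separatedness and, when `S` is separated, the same separatedness.) -/
theorem result (S : Scheme.{u}) [QuasiSeparatedSpace S] {I : Type u} [SmallCategory I] [IsCofiltered I]
    (D : I ⥤ AlgSp.Sp S) (hD : ∀ i, AlgSp.IsAlgSpace (D.obj i))
    (hDa : ∀ (i j : I) (φ : i ⟶ j), AlgSp.IsAffineMor (D.map φ))
    (hqc : ∀ i, AlgSp.IsQuasiCompactSp (D.obj i)) (hqs : ∀ i, AlgSp.IsQuasiSeparatedSp (D.obj i))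
    (c : Cone D) (hc : IsLimit c)
    (hX : AlgSp.IsSeparatedSp c.pt) : ∃ i, AlgSp.IsSeparatedSp (D.obj i) := by
  obtain ⟨i₀⟩ := IsCofiltered.nonempty (C := I)
  let hT := Groth.Agent.AlgSp.LimSepAbs.isTerminalBase (S := S)
  let t : D ⟶ (Functor.const I).obj ((yon S).obj (Over.mk (𝟙 S))) :=
    { app := fun i => hT.from (D.obj i)
      naturality := fun i j a => hT.hom_ext _ _ }
  obtain ⟨i, h⟩ := Groth.Agent.AlgSp.LimSep.exists_separated t (IsAlgSpace.yon_obj _)
    Groth.Agent.AlgSp.LimSepAbs.isQuasiSeparatedSp_base hD hDa hqc hqs c hc (hT.from c.pt)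
    (fun i => hT.hom_ext _ _) ((Groth.Agent.AlgSp.LimSepAbs.diag_prop_iff _ _ hT _).2 hX)
  exact ⟨i, (Groth.Agent.AlgSp.LimSepAbs.diag_prop_iff _ _ hT _).1 h⟩

end Groth.Agent.S10005
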