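import Groth.Statements.S10008
import Groth.Agent.AlgSp.LimSp
import Groth.Agent.AlgSp.QCMor
import Groth.Agent.AlgSpB.Points
-- import your own Groth.Agent.* helpers here

set_option autoImplicit false
universe u
open CategoryTheory CategoryTheory.Limits AlgebraicGeometry
open AlgSp

set_option backward.isDefEq.respectTransparency.types false

namespace Groth.Agent.S10008

/-- Let `X` be the limit, in fppf sheaves over `S`, of a cofiltered system `(X_i)` of algebraic spaces
over `S` whose transition maps are affine. If every `X_i` is quasi-compact and has at least one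
point, then `X` has a point. -/
theorem result (S : Scheme.{u}) {I : Type u} [SmallCategory I] [IsCofiltered I]
    (D : I ⥤ AlgSp.Sp S) (hD : ∀ i, AlgSp.IsAlgSpace (D.obj i))
    (hDa : ∀ (i j : I) (φ : i ⟶ j), AlgSp.IsAffineMor (D.map φ))
    (c : Cone D) (hc : IsLimit c)
    (hqc : ∀ i, AlgSp.IsQuasiCompactSp (D.obj i)) (hne : ∀ i, Nonempty (AlgSp.Points (D.obj i))) :
    Nonempty (AlgSp.Points c.pt) := by
  obtain ⟨i₀⟩ := IsCofiltered.nonempty (C := I)
  obtain ⟨Z, g, hge, hgs, hZ⟩ := hqc i₀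
  obtain ⟨L, l, q, ⟨hL⟩, -, -, -, -⟩ := Groth.Agent.AlgSp.LimSp.exists_isPullback hDa g c hc
  let F := Groth.Agent.AlgSp.LimSp.sys hDa g ⋙ Over.forget S
  have : ∀ {j k : Over i₀} (a : j ⟶ k), IsAffineHom (F.map a) := fun a =>
    Groth.Agent.AlgSp.LimSp.isAffineHom_sys hDa g a
  have key : ∀ {A B : Scheme.{u}} (m : A ⟶ B), IsAffineHom m → CompactSpace B → CompactSpace A :=
    fun m _ _ => QuasiCompact.compactSpace_of_compactSpace m
  have : ∀ j, CompactSpace (F.obj j) := fun j =>
    key (Groth.Agent.AlgSp.LimSp.sysSnd hDa g j).left (Groth.Agent.AlgSp.LimSp.isAffineHom_sysSnd hDa g j) hZ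
  have : ∀ j, Nonempty (F.obj j) := fun j => by
    obtain ⟨y⟩ := hne j.left
    obtain ⟨z, hz⟩ := Groth.Agent.AlgSpB.surjective_ofPt hgs (AlgSp.Points.map (D.map j.hom) y)
    rw [AlgSp.Points.ofPt_eq_map_ofScheme] at hz
    obtain ⟨w, -, -⟩ := Groth.Agent.AlgSpB.exists_of_isPullback
      ((Groth.Agent.AlgSp.LimSp.repWith_map hDa j.hom).1.isPullback g) y (AlgSp.Points.ofScheme Z z) hz.symm
    exact ⟨AlgSp.Points.toScheme _ w⟩
  obtain ⟨x⟩ := Scheme.nonempty_of_isLimit F _ hL
  exact ⟨AlgSp.Points.ofPt l x⟩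

end Groth.Agent.S10008
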