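import Groth.Statements.S10023
import Groth.Agent.S10048
import Groth.Agent.AlgSp.LimRebase
import Groth.Agent.LimLib.Proper
import Groth.Agent.AlgSp.ProperSub
import Groth.Agent.AlgSpD.ProperMor

set_option autoImplicit false
set_option backward.isDefEq.respectTransparency false
set_option backward.isDefEq.respectTransparency.types false

universe u
open CategoryTheory CategoryTheory.Limits AlgebraicGeometry
open AlgSp

namespace Groth.Agent.S10023

open Groth.Agent.AlgSp in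
theorem repWith_isProper {S' : Scheme.{u}} {X Y : AlgSp.Space S'} {f : X.obj ⟶ Y.obj} (hr : Representable f)
    (hf : IsProperMor f) : RepWith @IsProper f :=
  ⟨hr, fun U V g fst snd sq =>
    { toIsSeparated := ((repWith_diagonal_iff_of_representable @IsClosedImmersion @IsSeparated
          (fun h => (isSeparated_iff h).symm) X.property hr).1 hf.1).2 g fst snd sq
      toUniversallyClosed := ((repWith_universallyClosed_iff f hr).2 hf.2.2).2 g fst snd sq
      toLocallyOfFiniteType := (AlgSpCov.repWith_of_locP AlgSpCov.etaleLocal_locallyOfFiniteType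
        X.property Y.property hr hf.2.1.1).2 g fst snd sq }⟩

/-- Let `S` be a quasi-separated scheme and `B` the limit, in fppf sheaves over `S`, of a cofiltered
system `(B_i)` of algebraic spaces over `S` whose transition maps are affine; fix an index `i₀` such
that `B_{i₀}` is quasi-compact and quasi-separated over `S`, and a morphism `f₀ : X₀ ⟶ Y₀` of
algebraic spaces over `B_{i₀}` whose source and target are quasi-compact and quasi-separated over
`S`. Write `f_i` (for `i` mapping to `i₀`) and `f` for the base changes of `f₀` to `B_i` and to `B`,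
given by pullback squares. If `f` is proper and `f₀` locally of finite type, then for some `i`
mapping to `i₀` every such base change `f_i` is proper. (The published statement allows any base
scheme and uses absolute quasi-separatedness; this row assumes the base quasi-separated, over which
quasi-separatedness relative to the base is the absolute notion.) -/
theorem result (S : Scheme.{u}) [QuasiSeparatedSpace S] {I : Type u} [SmallCategory I] [IsCofiltered I]
    (D : I ⥤ AlgSp.Sp S) (hD : ∀ i, AlgSp.IsAlgSpace (D.obj i))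
    (hDa : ∀ (i j : I) (φ : i ⟶ j), AlgSp.IsAffineMor (D.map φ))
    (c : Cone D) (hc : IsLimit c) (i₀ : I)
    (hBqc : AlgSp.IsQuasiCompactSp (D.obj i₀)) (hBqs : AlgSp.IsQuasiSeparatedSp (D.obj i₀))
    (X₀ Y₀ : AlgSp.Space S) (f₀ : X₀.obj ⟶ Y₀.obj) (b₀ : Y₀.obj ⟶ D.obj i₀)
    (hXqc : AlgSp.IsQuasiCompactSp X₀.obj) (hXqs : AlgSp.IsQuasiSeparatedSp X₀.obj)
    (hYqc : AlgSp.IsQuasiCompactSp Y₀.obj) (hYqs : AlgSp.IsQuasiSeparatedSp Y₀.obj)
    (X Y : AlgSp.Sp S) (f : X ⟶ Y) (pY : Y ⟶ Y₀.obj) (qY : Y ⟶ c.pt)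
    (hY : IsPullback pY qY b₀ (c.π.app i₀)) (pX : X ⟶ X₀.obj) (hX : IsPullback pX f f₀ pY)
    (hf : AlgSp.IsProperMor f) (hf₀ : AlgSp.LocP @LocallyOfFiniteType f₀) :
    ∃ (i : I) (φ : i ⟶ i₀), ∀ (Xi Yi : AlgSp.Sp S) (fi : Xi ⟶ Yi) (pYi : Yi ⟶ Y₀.obj) (qYi : Yi ⟶ D.obj i)
      (_ : IsPullback pYi qYi b₀ (D.map φ)) (pXi : Xi ⟶ X₀.obj) (_ : IsPullback pXi fi f₀ pYi),
      AlgSp.IsProperMor fi := by
  obtain ⟨i₁, φ₁, h₁⟩ := Groth.Agent.AlgSp.LimRepApp.descend_separated hDa hc X₀.property Y₀.property f₀ b₀ hXqc hXqs hYqs hY hX hf.1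
  let Y₁ := pullback b₀ (D.map φ₁)
  let X₁ := pullback f₀ (pullback.fst b₀ (D.map φ₁))
  let f₁ : X₁ ⟶ Y₁ := pullback.snd f₀ (pullback.fst b₀ (D.map φ₁))
  have sqY₁ := IsPullback.of_hasPullback b₀ (D.map φ₁)
  have sqX₁ := IsPullback.of_hasPullback f₀ (pullback.fst b₀ (D.map φ₁))
  have hsep : IsSeparatedMor f₁ := h₁ X₁ Y₁ f₁ _ _ sqY₁ _ sqX₁
  have hY₁a : IsAlgSpace Y₁ := Groth.Agent.AlgSp.isAlgSpace_of_isPullback' (hD i₀) Y₀.property (hD i₁) sqY₁
  have hX₁a : IsAlgSpace X₁ := Groth.Agent.AlgSp.isAlgSpace_of_isPullback' Y₀.property X₀.property hY₁a sqX₁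
  let X₁s : AlgSp.Space S := ⟨X₁, hX₁a⟩
  let Y₁s : AlgSp.Space S := ⟨Y₁, hY₁a⟩
  have ha : RepWith @IsAffineHom (pullback.fst b₀ (D.map φ₁)) :=
    MorphismProperty.of_isPullback sqY₁.flip (Groth.Agent.AlgSp.LimSp.repWith_map hDa φ₁)
  obtain ⟨hY₁qc, hY₁qs⟩ := Groth.Agent.AlgSpSpec.qcqs_of_affine hY₁a Y₀.property ha hYqc hYqs
  obtain ⟨hX₁qc, hX₁qs⟩ := Groth.Agent.AlgSpSpec.qcqs_of_affine hX₁a X₀.property
    (MorphismProperty.of_isPullback sqX₁.flip ha) hXqc hXqs
  have hft₁ : LocP @LocallyOfFiniteType f₁ :=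
    Groth.Agent.AlgSpCov.locP_baseChange Groth.Agent.AlgSpCov.etaleLocal_locallyOfFiniteType X₀.property
      Y₀.property sqX₁ hf₀
  obtain ⟨U, p, hp, hps, -⟩ := id hX₁qc
  obtain ⟨Z, g, hgfin, hgs, hgfp, -⟩ := Groth.Agent.S10048.result S X₁s hX₁qc hX₁qs U p hp hps
  let Zs : AlgSp.Space S := ⟨(yon S).obj Z, IsAlgSpace.yon_obj Z⟩
  have hg : IsProperMor g := ((Groth.Agent.AlgSpD.isFiniteMor_iff_proper (X := Zs) (Y := X₁s) g).1 hgfin).2
  let h := g ≫ f₁
  have hhr : Representable h := hY₁a.representable_from_yon h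
  have hhsep : RepWith @IsSeparated h := (Groth.Agent.AlgSp.repWith_diagonal_iff_of_representable
    @IsClosedImmersion @IsSeparated (fun h => (isSeparated_iff h).symm) Zs.property hhr).1
    (Groth.Agent.AlgSpD.isSeparatedMor_comp hg.1 hsep)
  have hhqc : RepWith @QuasiCompact h := (Groth.Agent.AlgSp.repWith_quasiCompact_iff hY₁a h hhr).2
    (Groth.Agent.AlgSp.isQuasiCompactMor_comp Zs.property hX₁a hY₁a hg.2.1.2
      (Groth.Agent.AlgSp.isQuasiCompactMor_of_quasiCompactSp hX₁a hY₁a f₁ hX₁qc hY₁qs))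
  have hhft : RepWith @LocallyOfFiniteType h := Groth.Agent.AlgSpCov.repWith_of_locP
    Groth.Agent.AlgSpCov.etaleLocal_locallyOfFiniteType Zs.property hY₁a hhr
    (Groth.Agent.AlgSpCov.locP_comp Groth.Agent.AlgSpCov.etaleLocal_locallyOfFiniteType hX₁a hY₁a hg.2.1.1 hft₁)
  obtain ⟨u, v, hu, hv⟩ := Groth.Agent.AlgSp.LimRebase.exists_transfer (C := Sp S) (c.w φ₁) hY hX
  have hXa : IsAlgSpace X := Groth.Agent.AlgSp.isAlgSpace_of_isPullback' Y₀.property X₀.property
    (Groth.Agent.AlgSp.isAlgSpace_of_isPullback' (hD i₀) Y₀.property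
      (Groth.Agent.AlgSp.LimSp.isAlgSpace_pt hDa hD c hc) hY) hX
  have hYa : IsAlgSpace Y := Groth.Agent.AlgSp.isAlgSpace_of_isPullback' (hD i₀) Y₀.property
    (Groth.Agent.AlgSp.LimSp.isAlgSpace_pt hDa hD c hc) hY
  have sqZ := IsPullback.of_hasPullback g v
  have hZXa : IsAlgSpace (pullback g v) := Groth.Agent.AlgSp.isAlgSpace_of_isPullback' hX₁a Zs.property hXa sqZ
  have sqh : IsPullback (pullback.fst g v) (pullback.snd g v ≫ f) h u := sqZ.paste_vert hv
  have hprop : IsProperMor (pullback.snd g v ≫ f) := Groth.Agent.AlgSpD.isProperMor_comp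
    (X := ⟨_, hZXa⟩) (Y := ⟨_, hXa⟩) (Z := ⟨_, hYa⟩)
    (Groth.Agent.AlgSpD.isProperMor_baseChange Zs.property hX₁a sqZ hg) hf
  have hrepl : RepWith @IsProper (pullback.snd g v ≫ f) := repWith_isProper (X := ⟨_, hZXa⟩) (Y := ⟨_, hYa⟩)
    ((MorphismProperty.of_isPullback (P := (RepWith @QuasiCompact : MorphismProperty (Sp S))) sqh hhqc).1) hprop
  obtain ⟨i, φ, hi⟩ := Groth.Agent.AlgSp.LimRep.descend_rep Groth.Agent.LimLib.descends_isProper hDa c hc i₁ h
    (pullback.snd b₀ (D.map φ₁)) hY₁qc hhr hhqc hhsep hhft _ u qY hu _ sqh hrepl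
  refine ⟨i, φ ≫ φ₁, fun Xi Yi fi pYi qYi hYi pXi hXi => ?_⟩
  obtain ⟨ui, vi, hui, hvi⟩ := Groth.Agent.AlgSp.LimRebase.exists_transfer (C := Sp S) (D.map_comp φ φ₁).symm hYi hXi
  have hYia := Groth.Agent.AlgSp.isAlgSpace_of_isPullback' (hD i₀) Y₀.property (hD i) hYi
  have hXia := Groth.Agent.AlgSp.isAlgSpace_of_isPullback' Y₀.property X₀.property hYia hXi
  refine ⟨Groth.Agent.AlgSp.repWith_diagonal_baseChange hvi hsep,
    ⟨Groth.Agent.AlgSpCov.locP_baseChange Groth.Agent.AlgSpCov.etaleLocal_locallyOfFiniteType hX₁a hY₁a hvi hft₁,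
      Groth.Agent.AlgSp.isQuasiCompactMor_baseChange hvi
        (Groth.Agent.AlgSp.isQuasiCompactMor_of_quasiCompactSp hX₁a hY₁a f₁ hX₁qc hY₁qs)⟩, ?_⟩
  have sqZi := IsPullback.of_hasPullback g vi
  have sqhi : IsPullback (pullback.fst g vi) (pullback.snd g vi ≫ fi) h ui := sqZi.paste_vert hvi
  obtain ⟨W, W', r, s, h', hre, hrs, sqr, hpr⟩ := hi _ ui qYi hui _ sqhi
  refine Groth.Agent.AlgSp.isUnivClosedMor_of_surjective_triangle (pullback.snd g vi) fi
    (Groth.Agent.AlgSp.surjective_map_of_isPullback sqZi hgs) ?_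
  exact Groth.Agent.AlgSp.isUnivClosedMor_of_chart _ r sqr hYia (IsAlgSpace.yon_obj W) hre hrs
    (Groth.Agent.AlgSp.isUnivClosedMor_of_repWith ((repWith_yon_map_iff _ h').2
      (inferInstanceAs (UniversallyClosed h'.left))))

end Groth.Agent.S10023
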