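import Groth.Statements.S10024
import Groth.Agent.AlgSp.LimLP
import Groth.Agent.AlgSp.LimLPCrit
-- import your own Groth.Agent.* helpers here

set_option autoImplicit false
universe u
open CategoryTheory CategoryTheory.Limits AlgebraicGeometry
open AlgSp

set_option backward.isDefEq.respectTransparency.types false

namespace Groth.Agent.S10024

/-- A morphism `f : X ⟶ Y` of algebraic spaces over `S` is locally of finite presentation if and only if
it is limit preserving as a transformation of functors (relatively limit preserving: every fibre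
functor over a scheme turns directed limits of affine schemes into colimits). -/
theorem result (S : Scheme.{u}) {X Y : AlgSp.Space S} (f : X ⟶ Y) :
    AlgSp.LocP @LocallyOfFinitePresentation f.hom ↔ AlgSp.IsRelLimitPreserving f.hom.hom := by
  refine ⟨fun hf => AlgSpB.isRelLimitPreserving_iff.2 (AlgSp.LimLP.relLP_of_locP X.property Y.property f.hom hf),
    fun h => AlgSp.LimLPCrit.locP_of_lifts f.hom ?_⟩
  intro I _ _ D c hc hD hT x i y w
  let e := fun (T : Over S) (F : AlgSp.Sp S) =>
    GrothendieckTopology.uliftYonedaEquiv.{u + 1} (AlgSp.J S) (X := T) (F := F)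
  obtain ⟨j, φ, xj, h1, h2⟩ := (AlgSpB.isRelLimitPreserving_iff.1 h D c hc hD hT).1 i (e _ _ y) (e _ _ x)
    (((GrothendieckTopology.uliftYonedaEquiv_comp (AlgSp.J S) x f.hom).symm.trans (congrArg (e _ _) w)).trans
      (GrothendieckTopology.uliftYonedaEquiv_naturality (AlgSp.J S) y (c.π.app i)).symm)
  refine ⟨j, φ, (e _ _).symm xj, (e _ _).injective ?_, (e _ _).injective ?_⟩
  · refine ((GrothendieckTopology.uliftYonedaEquiv_naturality (AlgSp.J S) ((e _ _).symm xj) (c.π.app j)).symm).trans ?_
    rw [Equiv.apply_symm_apply]
    exact h2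
  · refine (GrothendieckTopology.uliftYonedaEquiv_comp (AlgSp.J S) ((e _ _).symm xj) f.hom).trans ?_
    rw [Equiv.apply_symm_apply]
    exact h1.trans (GrothendieckTopology.uliftYonedaEquiv_naturality (AlgSp.J S) y (D.map φ))

end Groth.Agent.S10024
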