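import Groth.Statements.S10036
import Groth.Agent.AlgSpSpec.Hull
import Groth.Agent.AlgSpSpec.Approx
import Groth.Agent.AlgSpSpec.Stages
import Groth.Agent.AlgSpSpec.Tail
import Groth.Agent.AlgSp.AffineMor
import Groth.Agent.AlgSp.LimOpen
import Groth.Agent.AlgSp.LimImm
import Groth.Agent.ConsPairLib.QuasiAffine
import Groth.Agent.AlgSpD.ProperMor
-- import your own Groth.Agent.* helpers here

set_option autoImplicit false
set_option backward.isDefEq.respectTransparency false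
set_option backward.isDefEq.respectTransparency.types false
universe u
open CategoryTheory CategoryTheory.Limits AlgebraicGeometry
open AlgSp

namespace Groth.Agent.S10036

/-- Let `f : X ⟶ Y`, a morphism of algebraic spaces over `S`, be quasi-affine and locally of finite
type; suppose the target `Y` is quasi-compact and quasi-separated over `S`. Then `f` factors as a
closed immersion `X ⟶ X'` followed by a morphism `X' ⟶ Y` of finite presentation. (The published
statement allows any base scheme and uses absolute quasi-separatedness; this row assumes the base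
quasi-separated, over which quasi-separatedness relative to the base is the absolute notion.) -/
theorem result (S : Scheme.{u}) [QuasiSeparatedSpace S]
    {X Y : AlgSp.Space S} (f : X ⟶ Y) (hft : AlgSp.LocP @LocallyOfFiniteType f.hom) (hqa : AlgSp.IsQuasiAffineMor f.hom) (hYqc : AlgSp.IsQuasiCompactSp Y.obj) (hYqs : AlgSp.IsQuasiSeparatedSp Y.obj) :
    ∃ (X' : AlgSp.Space S) (i : X ⟶ X') (f' : X' ⟶ Y), i ≫ f' = f ∧
      AlgSp.RepWith @IsClosedImmersion i.hom ∧ AlgSp.IsFinitePresentationMor f'.hom := by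
  have hrq : AlgSp.RepWith Groth.Agent.ConsPairLib.qaMor f.hom :=
    Groth.Agent.AlgSp.repWith_of_affine_baseChange f.hom fun Z hZ g Q fst' snd' sq' => by
      obtain ⟨W, i, fst'', sW, hW⟩ := hqa hZ g
      rw [← sq'.isoIsPullback_hom_snd _ _ sW]
      refine (MorphismProperty.cancel_left_of_respectsIso _ _ _).2 ((AlgSp.repWith_yon_map_iff _ i).2 ?_)
      exact (HasAffineProperty.iff_of_isAffine (P := Groth.Agent.ConsPairLib.qaMor)).2 hW
  have hfq : AlgSp.IsQuasiCompactMor f.hom :=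
    Groth.Agent.AlgSp.isQuasiCompactMor_of_repWith Y.property
      (Groth.Agent.AlgSp.repWith_mono (fun g hg => hg.1) hrq)
  have hXqc : AlgSp.IsQuasiCompactSp X.obj :=
    hfq Y.property hYqc (𝟙 Y.obj) (𝟙 X.obj) f.hom (IsPullback.of_horiz_isIso ⟨by simp⟩)
  obtain ⟨U₀, p₀, hp₀, hp₀s, hU₀⟩ := hYqc
  obtain ⟨E₀, hs₀⟩ : ∃ E₀ : Groth.Agent.AlgSpSpec.Aff Y.obj, AlgSp.RepWith @Surjective E₀.E.obj.hom := by
    have := Groth.Agent.AlgSpB.compactSpace_points_of_isQuasiCompactSp ⟨U₀, p₀, hp₀, hp₀s, hU₀⟩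
    obtain ⟨Z, e, hZ, hge, hgs⟩ := Groth.Agent.AlgSpB.exists_affine_chart_of_compactSpace hp₀ hp₀s
    exact ⟨⟨⟨CostructuredArrow.mk ((yon S).map e ≫ p₀), hge⟩, hZ⟩, hgs⟩
  obtain ⟨W, θ, ν, hθν, hW, hθ, hν⟩ := Groth.Agent.AlgSpSpec.exists_affine_hull hqa hrq.1 E₀ hs₀
  obtain ⟨B, hdir, hne, ⟨hlim⟩⟩ := Groth.Agent.AlgSpSpec.exists_limit_affine (f := ν)
    ((Groth.Agent.AlgSp.isAffineMor_iff _).2 hν) ⟨U₀, p₀, hp₀, hp₀s, hU₀⟩ hYqs
    (Good := fun _ _ => True) (fun _ n => ⟨n, le_rfl, trivial⟩)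
  have : IsDirectedOrder _ := hdir
  have := hne
  let D := B.system (fun _ => True)
  have hD : ∀ a, AlgSp.IsAlgSpace (D.obj a) := fun a => Groth.Agent.AlgSpSpec.Basic.isAlgSpace_Z a.unop.1
  have hDa : ∀ a b (φ : a ⟶ b), AlgSp.IsAffineMor (D.map φ) := fun _ _ φ =>
    Groth.Agent.AlgSpSpec.affine_systemMap φ
  have hqcqs := fun a => Groth.Agent.AlgSpSpec.qcqs_of_affine (hD a) Y.property
    (Groth.Agent.AlgSpSpec.Basic.repWith_str_affine a.unop.1) ⟨U₀, p₀, hp₀, hp₀s, hU₀⟩ hYqs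
  let c := B.systemCone (fun _ => True)
  let t := B.systemT (fun _ => True)
  have htc : ∀ a, c.π.app a ≫ t.app a = ν := fun a => by
    change Groth.Agent.AlgSpSpec.Basic.toZ a.unop.1 ≫ Groth.Agent.AlgSpSpec.Basic.inc a.unop.1 ≫
      B.base a.unop.1.1 = ν
    rw [← Category.assoc, Groth.Agent.AlgSpSpec.Basic.toZ_inc, B.θW_base]
  obtain ⟨i, Ui, ji, q, hji, hUqc, sq⟩ := Groth.Agent.AlgSp.LimOpen.exists_open_stage hD hDa
    (fun a => (hqcqs a).1) (fun a => (hqcqs a).2) c hlim θ hθ hXqc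
  let D' := Groth.Agent.AlgSpSpec.Tail.sys D ji
  let top : Over i := Over.mk (𝟙 i)
  have hD'r : ∀ (a b : Over i) (φ : a ⟶ b), AlgSp.RepWith @IsAffineHom (D'.map φ) := fun a b φ =>
    MorphismProperty.of_isPullback (Groth.Agent.AlgSpSpec.Tail.isPullback_map D ji φ)
      ((Groth.Agent.AlgSp.isAffineMor_iff _).1 (hDa _ _ φ.left))
  have hfst : ∀ a : Over i, AlgSp.RepWith @IsOpenImmersion ((Groth.Agent.AlgSpSpec.Tail.toSys D ji).app a) :=
    fun a => MorphismProperty.of_isPullback (IsPullback.of_hasPullback (D.map a.hom) ji).flip hji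
  have hD' : ∀ a : Over i, AlgSp.IsAlgSpace (D'.obj a) := fun a =>
    Groth.Agent.AlgSp.isAlgSpace_of_representable _ (hfst a).1 (hD a.left)
  obtain ⟨π', ⟨hc'⟩, hπ'⟩ := Groth.Agent.AlgSpSpec.Tail.exists_limitCone D ji c hlim sq
  let t' : D' ⟶ (Functor.const (Over i)).obj Y.obj :=
    Groth.Agent.AlgSpSpec.Tail.toSys D ji ≫ Functor.whiskerLeft (Over.forget i) t
  have htc' : ∀ a : Over i, π'.app a ≫ t'.app a = f.hom := fun a => by
    change π'.app a ≫ (Groth.Agent.AlgSpSpec.Tail.toSys D ji).app a ≫ t.app a.left = f.hom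
    rw [← Category.assoc, hπ', ← hθν]
    exact (Category.assoc _ _ _).trans (congrArg (θ ≫ ·) (htc a.left))
  have hqc' : AlgSp.IsQuasiCompactSp (D'.obj top) := by
    have hs : IsIso (pullback.snd (D.map top.hom) ji) := Groth.Agent.AlgSpSpec.Tail.isIso_snd_top D ji
    exact Groth.Agent.AlgSp.isQuasiCompactMor_of_repWith (Groth.Agent.AlgSp.isAlgSpace_of_representable ji hji.1 (hD i))
      (Groth.Agent.AlgSpB.repWith_of_isIso (P := @QuasiCompact) (pullback.snd (D.map top.hom) ji))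
      (Groth.Agent.AlgSp.isAlgSpace_of_representable ji hji.1 (hD i)) hUqc (𝟙 Ui) (𝟙 _) (pullback.snd (D.map top.hom) ji)
      (IsPullback.of_horiz_isIso ⟨(Category.id_comp _).trans (Category.comp_id _).symm⟩)
  obtain ⟨a₀, ha₀⟩ := Groth.Agent.AlgSp.LimImm.eventually_closedImmersion
    (fun a b φ => (Groth.Agent.AlgSp.isAffineMor_iff _).2 (hD'r a b φ)) (c := Cone.mk X.obj π') Y.obj Y.property t' hD'
    hc' top hqc' X.obj X.property (𝟙 X.obj) (Groth.Agent.AlgSpB.repWith_of_isIso (𝟙 X.obj))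
    (by rw [Category.id_comp, show (Cone.mk X.obj π').π.app top ≫ t'.app top = f.hom from htc' top]; exact hft)
  have hcl : AlgSp.RepWith @IsClosedImmersion (π'.app a₀) := by
    have h := ha₀ a₀ (𝟙 a₀)
    rwa [Category.id_comp] at h
  have hqcX' : AlgSp.IsQuasiCompactSp (D'.obj a₀) :=
    Groth.Agent.AlgSp.isQuasiCompactMor_of_repWith (hD' top)
      (Groth.Agent.AlgSp.repWith_mono (fun g (_ : IsAffineHom g) => (inferInstance : QuasiCompact g))
        (hD'r a₀ top (Over.homMk a₀.hom (Category.comp_id _))))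
      (hD' top) hqc' (𝟙 _) (𝟙 _) _ (IsPullback.of_horiz_isIso ⟨(Category.id_comp _).trans (Category.comp_id _).symm⟩)
  have hlfp : AlgSp.RepWith @LocallyOfFinitePresentation (t'.app a₀) :=
    Groth.Agent.AlgSpCov.repWith_comp
      (Groth.Agent.AlgSp.repWith_mono (fun g (_ : IsOpenImmersion g) => (inferInstance : LocallyOfFinitePresentation g))
        (hfst a₀))
      (Groth.Agent.AlgSpSpec.Basic.repWith_str_lfp a₀.left.unop.1)
  refine ⟨⟨D'.obj a₀, hD' a₀⟩, ObjectProperty.homMk (π'.app a₀), ObjectProperty.homMk (t'.app a₀),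
    ObjectProperty.hom_ext _ (htc' a₀), hcl,
    Groth.Agent.AlgSpCov.locP_of_repWith Groth.Agent.AlgSpCov.etaleLocal_locallyOfFinitePresentation hlfp,
    Groth.Agent.AlgSp.isQuasiCompactMor_of_quasiCompactSp (hD' a₀) Y.property _ hqcX' hYqs,
    Groth.Agent.AlgSp.isQuasiSeparatedMor_of_sep (Groth.Agent.AlgSpD.isSeparatedMor_comp ?_
      (Groth.Agent.AlgSpSpec.isSeparatedMor_of_affine (hD a₀.left)
        (Groth.Agent.AlgSpSpec.Basic.repWith_str_affine a₀.left.unop.1)))⟩
  have := Groth.Agent.AlgSpB.mono_of_isOpenImmersion (hfst a₀)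
  exact Groth.Agent.AlgSpB.repWith_of_isIso _

end Groth.Agent.S10036
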