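import Groth.Statements.S10043
import Groth.Agent.AlgSpB.Chev.Main

set_option autoImplicit false
set_option backward.isDefEq.respectTransparency false
set_option backward.isDefEq.respectTransparency.types false

universe u
open CategoryTheory CategoryTheory.Limits AlgebraicGeometry
open AlgSp

namespace Groth.Agent.S10043

/-- Let `f : X ⟶ Y` be a finite and surjective morphism of algebraic spaces over `S` with `X` an affine
scheme. Then `Y` is an affine scheme. -/
theorem result (S : Scheme.{u}) {X Y : AlgSp.Space S} (f : X ⟶ Y)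
    (hfin : AlgSp.IsFiniteMor f.hom) (hsurj : AlgSp.IsSurjectiveMor f.hom) (hX : ∃ (T : Over S), IsAffine T.left ∧ Nonempty ((AlgSp.yon S).obj T ≅ X.obj)) :
    ∃ (T : Over S), IsAffine T.left ∧ Nonempty ((AlgSp.yon S).obj T ≅ Y.obj) := by
  obtain ⟨T, hT, ⟨e⟩⟩ := hX
  have hi : AlgSp.RepWith @IsIntegralHom f.hom :=
    Groth.Agent.AlgSp.repWith_mono (fun g (hg : IsFinite g) => (inferInstance : IsIntegralHom g))
      ((Groth.Agent.AlgSpD.isFiniteMor_iff _).1 hfin)
  exact Groth.Agent.AlgSpB.Chev.exists_affine_of_integral' Y (e.hom ≫ f.hom)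
    ((MorphismProperty.cancel_left_of_respectsIso _ e.hom _).2 hi)
    ((MorphismProperty.cancel_left_of_respectsIso _ e.hom _).2
      ((Groth.Agent.AlgSp.repWith_surjective_iff f.hom hi.1).2 hsurj))

end Groth.Agent.S10043
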