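import Groth.Statements.S10044
import Groth.Agent.AlgSpB.Chev.Main

set_option autoImplicit false
set_option backward.isDefEq.respectTransparency false
set_option backward.isDefEq.respectTransparency.types false

universe u
open CategoryTheory CategoryTheory.Limits AlgebraicGeometry
open AlgSp

namespace Groth.Agent.S10044

/-- Let `f : X ⟶ Y` be a surjective and universally closed morphism of algebraic spaces over `S` with
`X` an affine scheme. Then `Y` is an affine scheme. -/
theorem result (S : Scheme.{u}) {X Y : AlgSp.Space S} (f : X ⟶ Y)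
    (hsurj : AlgSp.IsSurjectiveMor f.hom) (huc : AlgSp.IsUnivClosedMor f.hom) (hX : ∃ (T : Over S), IsAffine T.left ∧ Nonempty ((AlgSp.yon S).obj T ≅ X.obj)) :
    ∃ (T : Over S), IsAffine T.left ∧ Nonempty ((AlgSp.yon S).obj T ≅ Y.obj) := by
  obtain ⟨T, hT, ⟨e⟩⟩ := hX
  have hr : AlgSp.Representable (e.hom ≫ f.hom) := Y.property.representable_from_yon _
  refine Groth.Agent.AlgSpB.Chev.exists_affine_of_univClosed Y (e.hom ≫ f.hom)
    ((Groth.Agent.AlgSp.repWith_universallyClosed_iff _ hr).2 ?_)
    ((Groth.Agent.AlgSp.repWith_surjective_iff _ hr).2 fun y => ?_)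
  · refine Groth.Agent.AlgSp.isUnivClosedMor_comp X.property Y.property ?_ huc
    intro P P' hP w fst snd sq
    have : IsIso snd := sq.isIso_snd_of_isIso
    exact ({ toFun := AlgSp.Points.map snd
             invFun := AlgSp.Points.map (inv snd)
             left_inv := fun x => by rw [← AlgSp.Points.map_comp, IsIso.hom_inv_id, AlgSp.Points.map_id]
             right_inv := fun x => by rw [← AlgSp.Points.map_comp, IsIso.inv_hom_id, AlgSp.Points.map_id]
             continuous_toFun := AlgSp.Points.continuous_map _
             continuous_invFun := AlgSp.Points.continuous_map _ } : _ ≃ₜ _).isClosedMap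
  · obtain ⟨x, rfl⟩ := hsurj y
    exact ⟨Points.map e.inv x, by rw [← Points.map_comp, e.inv_hom_id_assoc]⟩

end Groth.Agent.S10044
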