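import Groth.Statements.S10046
import Groth.Agent.AlgSpB.Chev.Main
import Groth.Agent.AlgSpB.OpenGlue
import Groth.Agent.AlgSp.LimOpen

set_option autoImplicit false
set_option backward.isDefEq.respectTransparency false
set_option backward.isDefEq.respectTransparency.types false

universe u
open CategoryTheory CategoryTheory.Limits AlgebraicGeometry
open AlgSp

namespace Groth.Agent.S10046

open Groth.Agent.AlgSp in
theorem exists_scheme (S : Scheme.{u}) (Y : AlgSp.Space S) (T : Over S) (i : (AlgSp.yon S).obj T ⟶ Y.obj)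
    (hi : AlgSp.RepWith @IsIntegralHom i) (hinj : Function.Injective (AlgSp.Points.ofPt i))
    (his : AlgSp.RepWith @Surjective i) : ∃ T' : Over S, Nonempty ((AlgSp.yon S).obj T' ≅ Y.obj) := by
  have huc : AlgSp.RepWith @UniversallyClosed i :=
    repWith_mono (fun g (hg : IsIntegralHom g) => (inferInstance : UniversallyClosed g)) hi
  have hsp : ∀ y, ∃ t, AlgSp.Points.ofPt i t = y := fun y => AlgSpB.surjective_ofPt his y
  have key : ∀ t : ↥T.left, ∃ (V : Over S) (k : (AlgSp.yon S).obj V ⟶ Y.obj), AlgSp.RepWith @IsOpenImmersion k ∧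
      AlgSp.Points.ofPt i t ∈ Set.range (AlgSp.Points.map k) := by
    intro t
    obtain ⟨O, hO, ht, -⟩ := exists_isAffineOpen_mem_and_subset (x := t) (U := ⊤) trivial
    let D : Set (AlgSp.Points Y.obj) := AlgSp.Points.map i '' (AlgSp.Points.toScheme T ⁻¹' (O : Set ↥T.left)ᶜ)
    have hD : IsClosed D := isClosedMap_map_of_repWith huc _
      (O.isOpen.isClosed_compl.preimage (AlgSp.Points.schemeHomeo T).symm.continuous)
    have hpre : ∀ a : ↥T.left, AlgSp.Points.ofPt i a ∈ Dᶜ ↔ a ∈ O := by
      intro a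
      constructor
      · intro ha
        by_contra h
        exact ha ⟨AlgSp.Points.ofScheme T a, by simpa [AlgSp.Points.toScheme_ofScheme] using h,
          (AlgSp.Points.ofPt_eq_map_ofScheme _ _).symm⟩
      · rintro ha ⟨x, hx, e⟩
        refine hx ?_
        have : AlgSp.Points.ofPt i (AlgSp.Points.toScheme T x) = AlgSp.Points.ofPt i a := by
          rw [← e, AlgSp.Points.ofPt_eq_map_ofScheme, AlgSp.Points.ofScheme_toScheme]
        rwa [hinj this]
    obtain ⟨U₀, jV, hj, hjr⟩ := AlgSpB.exists_openSubspace Y hD.isOpen_compl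
    obtain ⟨W, a, b, sq⟩ : ∃ (W : Over S) (a : W ⟶ T) (b : (AlgSp.yon S).obj W ⟶ U₀.obj),
        IsPullback b ((AlgSp.yon S).map a) jV.hom i := ⟨_, _, _, hj.1.isPullback i⟩
    have : IsOpenImmersion a.left := hj.2 _ _ _ sq
    have hr : a.left.opensRange = O := by
      ext z
      change z ∈ Set.range a.left ↔ z ∈ O
      constructor
      · rintro ⟨w, rfl⟩
        refine (hpre _).1 (hjr.le ⟨AlgSp.Points.ofPt b w, ?_⟩)
        rw [AlgSp.Points.map_ofPt, sq.w, AlgSpB.ofPt_map_comp]
      · intro hz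
        obtain ⟨u, hu⟩ := hjr.ge ((hpre z).2 hz)
        obtain ⟨w, -, hw⟩ := AlgSpB.exists_of_isPullback sq u (AlgSp.Points.ofScheme T z)
          (hu.trans (AlgSp.Points.ofPt_eq_map_ofScheme _ _))
        refine ⟨AlgSp.Points.toScheme W w, ?_⟩
        have := congrArg (AlgSp.Points.toScheme T) hw
        rw [AlgSp.Points.toScheme_ofScheme] at this
        rw [← this]
        conv_rhs => rw [← AlgSp.Points.ofScheme_toScheme W w, ← AlgSp.Points.ofPt_eq_map_ofScheme]
        exact (AlgSp.Points.toScheme_ofPt a _).symm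
    have : IsAffine W.left := by
      have h : IsAffineOpen a.left.opensRange := hr.symm ▸ hO
      have : IsAffine a.left.opensRange.toScheme := h
      exact IsAffine.of_isIso a.left.isoOpensRange.hom
    obtain ⟨V, hV, ⟨e⟩⟩ := AlgSpB.Chev.exists_affine_of_integral' U₀ b
      (MorphismProperty.of_isPullback sq.flip hi) (MorphismProperty.of_isPullback sq.flip his)
    refine ⟨V, e.hom ≫ jV.hom, (MorphismProperty.cancel_left_of_respectsIso _ e.hom _).2 hj, ?_⟩
    obtain ⟨u, hu⟩ := hjr.ge ((hpre t).2 ht)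
    exact ⟨AlgSp.Points.map e.inv u, by rw [← AlgSp.Points.map_comp, e.inv_hom_id_assoc, hu]⟩
  choose V k hk hy using key
  exact AlgSpB.exists_iso_yon_of_openCover Y.property (ι := ↥T.left) V k hk fun y => by
    obtain ⟨t, rfl⟩ := hsp y
    exact ⟨t, hy t⟩

/-- Let `f : X ⟶ Y`, a morphism of algebraic spaces over `S`, be integral and induce a bijection on
points. Then `X` is representable by a scheme over `S` exactly when `Y` is. -/
theorem result (S : Scheme.{u}) {X Y : AlgSp.Space S} (f : X ⟶ Y)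
    (hint : AlgSp.IsIntegralMor f.hom) (hbij : Function.Bijective (AlgSp.Points.map f.hom)) :
    X.obj.obj.IsRepresentable ↔ Y.obj.obj.IsRepresentable := by
  have hi : AlgSp.RepWith @IsIntegralHom f.hom := (Groth.Agent.AlgSpD.isIntegralMor_iff _).1 hint
  constructor
  · intro hX
    obtain ⟨T, ⟨e⟩⟩ := Groth.Agent.AlgSpB.exists_iso_of_isRepresentable hX
    have hei : AlgSp.RepWith @IsIntegralHom (e.hom ≫ f.hom) :=
      (MorphismProperty.cancel_left_of_respectsIso _ e.hom _).2 hi
    obtain ⟨T', ⟨e'⟩⟩ := exists_scheme S Y T (e.hom ≫ f.hom) hei (fun a b h => by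
        rw [← AlgSp.Points.map_ofPt, ← AlgSp.Points.map_ofPt] at h
        have h' := congrArg (AlgSp.Points.map e.inv) (hbij.1 h)
        rw [AlgSp.Points.map_ofPt, AlgSp.Points.map_ofPt, e.hom_inv_id] at h'
        exact (AlgSp.Points.toScheme_ofScheme T a).symm.trans
          ((congrArg (AlgSp.Points.toScheme T) h').trans (AlgSp.Points.toScheme_ofScheme T b)))
      ((MorphismProperty.cancel_left_of_respectsIso _ e.hom _).2
        ((Groth.Agent.AlgSp.repWith_surjective_iff _ hi.1).2 hbij.2))
    exact Groth.Agent.AlgSpB.isRepresentable_of_iso e'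
  · intro hY
    obtain ⟨T, ⟨e⟩⟩ := Groth.Agent.AlgSpB.exists_iso_of_isRepresentable hY
    have sq := hi.1.isPullback e.hom
    have : IsIso (hi.1.fst e.hom) := sq.isIso_fst_of_isIso
    exact Groth.Agent.AlgSpB.isRepresentable_of_iso (asIso (hi.1.fst e.hom))

end Groth.Agent.S10046
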