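import Groth.Statements.S10047
import Groth.Agent.AlgSpB.Art.ClosedImmThick
import Groth.Agent.AlgSpCov.ThickTopo
import Groth.Agent.AlgSpCov.ThickCharts
import Groth.Agent.AlgSpCov.LocPBasic
import Groth.Agent.AlgSpCov.Listed
import Groth.Agent.AlgSpB.Bootstrap
import Groth.Agent.AlgSpB.LqfSep
import Groth.Agent.AlgSp.LqfDiscrete
import Groth.Agent.AlgSp.UnivInj
import Groth.Agent.AlgSp.NormQf
import Mathlib.AlgebraicGeometry.ZariskisMainTheorem

set_option autoImplicit false
set_option backward.isDefEq.respectTransparency false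
set_option backward.isDefEq.respectTransparency.types false

universe u
open CategoryTheory CategoryTheory.Limits AlgebraicGeometry
open AlgSp

namespace Groth.Agent.S10047

open Groth.Agent

/-- A finitely presented nil closed subscheme is cut out by nilpotent ideals on affine opens. -/
theorem isNilpotent_ker {V V' : Scheme.{u}} (ι : V' ⟶ V) [IsClosedImmersion ι] [Surjective ι]
    [LocallyOfFinitePresentation ι] {W : V.Opens} (hW : IsAffineOpen W) :
    IsNilpotent (RingHom.ker (ι.app W).hom) := by
  have h := ι.finitePresentation_appLE hW (hW.preimage ι) le_rfl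
  rw [Scheme.Hom.appLE_eq_app] at h
  algebraize [(ι.app W).hom]
  have hfg : (RingHom.ker (ι.app W).hom).FG :=
    Algebra.FinitePresentation.ker_fG_of_surjective (Algebra.ofId Γ(V, W) Γ(V', ι ⁻¹ᵁ W))
      (ι.app_surjective W hW)
  exact (hfg.isNilpotent_iff_le_nilradical).2 fun a ha =>
    AlgSpB.Art.isNilpotent_of_mem_ker ι hW ha

/-- Let `f : X ⟶ B` and `g : B' ⟶ B` be morphisms of algebraic spaces over `S` with `g` a closed
immersion inducing a bijection on points, and suppose the base change `X ×_B B' ⟶ B'` is a closed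
immersion. If `f` is of finite type or `g` is of finite presentation, then `f` is a closed
immersion. -/
theorem result (S : Scheme.{u}) {X B B' : AlgSp.Space S}
    (f : X ⟶ B) (g : B' ⟶ B) (hg : AlgSp.RepWith @IsClosedImmersion g.hom)
    (hbij : Function.Bijective (AlgSp.Points.map g.hom))
    (X' : AlgSp.Sp S) (fst : X' ⟶ X.obj) (snd : X' ⟶ B'.obj) (hX' : IsPullback fst snd f.hom g.hom)
    (hsnd : AlgSp.RepWith @IsClosedImmersion snd)
    (hor : AlgSp.IsFiniteTypeMor f.hom ∨ AlgSp.IsFinitePresentationMor g.hom) :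
    AlgSp.RepWith @IsClosedImmersion f.hom := by
  have hmono : Mono snd := AlgSpB.mono_of_isClosedImmersion hsnd
  have hX'a : AlgSp.IsAlgSpace X' := AlgSp.isAlgSpace_of_isPullback' B.property X.property B'.property hX'
  have hgs : AlgSp.RepWith @Surjective g.hom := (AlgSp.repWith_surjective_iff g.hom hg.1).2 hbij.2
  have htg : AlgSp.IsThickMor g.hom := AlgSp.repWith_inf hg hgs
  have hti : AlgSp.IsThickMor fst :=
    MorphismProperty.of_isPullback (P := AlgSp.RepWith (S := S) AlgSp.thick) hX'.flip htg
  have w : fst ≫ f.hom = snd ≫ g.hom := hX'.w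
  have hsep : AlgSp.IsSeparatedMor f.hom := (AlgSpCov.ThickTopo.separated_iff hX'a X.property B'.property
    B.property hti htg w).1 (AlgSpB.isSeparatedMor_of_mono snd)
  have huc : AlgSp.IsUnivClosedMor f.hom := (AlgSpCov.ThickTopo.univClosed_iff hX'a X.property B'.property
    B.property hti htg w).1 (AlgSp.isUnivClosedMor_of_repWith (AlgSp.repWith_mono
      (fun h (hh : IsClosedImmersion h) => (inferInstance : UniversallyClosed h)) hsnd))
  have hui : AlgSp.IsUnivInjectiveMor f.hom := (AlgSpCov.ThickTopo.univInjective_iff hX'a X.property B'.property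
    B.property hti htg w).1 ((AlgSp.univInjective_tfae hX'a snd).1.1
      ((AlgSp.repWith_universallyInjective_iff hX'a snd hsnd.1).1 (AlgSp.repWith_mono
        (fun h (hh : IsClosedImmersion h) => (inferInstance : UniversallyInjective h)) hsnd)))
  have hqc : AlgSp.IsQuasiCompactMor f.hom := (AlgSpCov.ThickTopo.quasiCompact_iff hX'a X.property B'.property
    B.property hti htg w).1 (AlgSp.isQuasiCompactMor_of_repWith B'.property (AlgSp.repWith_mono
      (fun h (hh : IsClosedImmersion h) => (inferInstance : QuasiCompact h)) hsnd))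
  have hlft : AlgSp.LocP @LocallyOfFiniteType f.hom := by
    rcases hor with h | h
    · exact h.1
    intro U V a b k ha hb hk
    have hgl : AlgSp.RepWith @LocallyOfFinitePresentation g.hom :=
      AlgSpCov.repWith_of_locP AlgSpCov.etaleLocal_locallyOfFinitePresentation B'.property B.property hg.1 h.1
    obtain ⟨V', iV, bV, sV⟩ := hg.1 b
    have : IsClosedImmersion iV.left := hg.2 _ _ _ sV
    have : Surjective iV.left := hgs.2 _ _ _ sV
    have : LocallyOfFinitePresentation iV.left := hgl.2 _ _ _ sV
    obtain ⟨U', iU, aU, sU⟩ := hti.1 a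
    have hbV : AlgSp.RepWith @Etale bV := MorphismProperty.of_isPullback sV.flip hb
    have haU : AlgSp.RepWith @Etale aU := MorphismProperty.of_isPullback sU.flip ha
    obtain ⟨k', hk'⟩ := (AlgSp.yon S).map_surjective (sV.lift (aU ≫ snd) ((AlgSp.yon S).map (iU ≫ k))
      (by rw [Category.assoc, ← w, reassoc_of% sU.w, hk, Functor.map_comp, Category.assoc]))
    have hk'' : k' ≫ iV = iU ≫ k := (AlgSp.yon S).map_injective (by rw [Functor.map_comp, hk', sV.lift_snd])
    have hl' : LocallyOfFiniteType k'.left :=
      AlgSpCov.locP_of_repWith AlgSpCov.etaleLocal_locallyOfFiniteType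
        (AlgSp.repWith_mono (fun h (hh : IsClosedImmersion h) => (inferInstance : LocallyOfFiniteType h)) hsnd)
        aU bV k' haU hbV (by rw [hk', sV.lift_fst])
    have sc : IsPullback iU.left k'.left k.left iV.left := by
      have s1 : IsPullback ((AlgSp.yon S).map iU) ((AlgSp.yon S).map k') ((AlgSp.yon S).map k)
          ((AlgSp.yon S).map iV) := by
        have outer := sU.flip.paste_vert hX'
        rw [← sV.lift_fst (aU ≫ snd) ((AlgSp.yon S).map (iU ≫ k))
          (by rw [Category.assoc, ← w, reassoc_of% sU.w, hk, Functor.map_comp, Category.assoc]), ← hk', hk] at outer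
        exact IsPullback.of_bot outer (by rw [← Functor.map_comp, ← Functor.map_comp, hk'']) sV.flip
      exact AlgSpCov.isPullback_left s1
    have : IsClosedImmersion iU.left := (hti.2 _ _ _ sU).1
    have : Surjective iU.left := (hti.2 _ _ _ sU).2
    have : LocallyOfFinitePresentation iU.left :=
      MorphismProperty.of_isPullback (P := @LocallyOfFinitePresentation) sc.flip ‹_›
    exact AlgSpCov.ThickCharts.locallyOfFiniteType_of_nilpotent_top (fun W hW => isNilpotent_ker iU.left hW) sc
  have hqf : AlgSp.LocP (@LocallyQuasiFinite ⊓ @LocallyOfFiniteType) f.hom := by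
    refine AlgSp.locP_lqf_of_discrete_fibres X.property B.property f.hom hlft fun k _ str y P p₁ p₂ sq => ?_
    have hinj := hui (AlgSp.IsAlgSpace.yon_obj _) y p₁ p₂ sq
    have : Subsingleton (AlgSp.Points P) := ⟨fun x x' => hinj ((AlgSp.Points.schemeEquiv _).symm.injective
      (@Subsingleton.elim _ (inferInstanceAs (Subsingleton (PrimeSpectrum k))) _ _))⟩
    infer_instance
  have hrep := AlgSpB.representable_of_lqf_sep X.property B.property f.hom hqf hsep
  refine ⟨hrep, fun T V b fT h sT => ?_⟩
  have hh' : LocallyQuasiFinite h.left ∧ LocallyOfFiniteType h.left := AlgSp.locP_yon_map (AlgSpCov.locP_baseChange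
    (AlgSpCov.etaleLocal_locallyQuasiFinite.inf AlgSpCov.etaleLocal_locallyOfFiniteType)
    X.property B.property sT hqf)
  have := hh'.1
  have := hh'.2
  have : IsSeparated h.left :=
    (AlgSp.isSeparatedMor_yon_map_iff h).1 (AlgSp.isSeparatedMor_baseChange' sT hsep)
  have : QuasiCompact h.left := (AlgSp.repWith_yon_map_iff _ _).1
    ((AlgSp.repWith_quasiCompact_iff (AlgSp.IsAlgSpace.yon_obj _) _ (AlgSp.representable_yon_map h)).2
      (AlgSp.isQuasiCompactMor_baseChange sT hqc))
  have : UniversallyClosed h.left := (AlgSp.repWith_yon_map_iff _ _).1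
    ((AlgSp.repWith_universallyClosed_iff _ (AlgSp.representable_yon_map h)).2
      (AlgSp.isUnivClosedMor_baseChange sT huc))
  have : IsProper h.left := ⟨⟩
  have : IsFinite h.left := IsFinite.of_isProper_of_locallyQuasiFinite h.left
  obtain ⟨V', iV, bV, sV⟩ := hg.1 b
  have : IsClosedImmersion iV.left := hg.2 _ _ _ sV
  have : Surjective iV.left := hgs.2 _ _ _ sV
  obtain ⟨T', h', fT', sT'⟩ := hsnd.1 bV
  have : IsClosedImmersion h'.left := hsnd.2 _ _ _ sT'
  have sP := sT'.paste_vert sV
  obtain ⟨iT, hiT⟩ := (AlgSp.yon S).map_surjective (sT.lift (fT' ≫ fst) ((AlgSp.yon S).map (h' ≫ iV))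
    (by rw [Category.assoc, w, reassoc_of% sT'.w, Functor.map_comp, Category.assoc, sV.w]))
  have hiT' : iT ≫ h = h' ≫ iV := (AlgSp.yon S).map_injective (by rw [Functor.map_comp, hiT, sT.lift_snd])
  have s1 : IsPullback ((AlgSp.yon S).map iT) ((AlgSp.yon S).map h') ((AlgSp.yon S).map h) ((AlgSp.yon S).map iV) := by
    have outer : IsPullback (fT' ≫ fst) ((AlgSp.yon S).map h') f.hom ((AlgSp.yon S).map iV ≫ b) := by
      have := sT'.paste_horiz hX'
      rwa [sV.w] at this
    rw [show fT' ≫ fst = (AlgSp.yon S).map iT ≫ fT from by rw [hiT, sT.lift_fst]] at outer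
    exact IsPullback.of_right outer (by rw [← Functor.map_comp, ← Functor.map_comp, hiT']) sT
  have sl : IsPullback iT.left h'.left h.left iV.left := AlgSpCov.isPullback_left s1
  exact @AlgSpB.Art.isClosedImmersion_of_finite _ _ _ _ iV.left iT.left h'.left h.left sl _ _ _ _

end Groth.Agent.S10047
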