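import Groth.Statements.S10049
import Groth.Agent.AlgSpB.Art.ClosedChain
import Groth.Agent.AlgSp.Space

set_option autoImplicit false
set_option backward.isDefEq.respectTransparency false
set_option backward.isDefEq.respectTransparency.types false

universe u
open CategoryTheory CategoryTheory.Limits AlgebraicGeometry
open AlgSp

namespace Groth.Agent.S10049

open Groth.Agent Groth.Agent.AlgSp.CartierDesc

/-- Transport of representability along an isomorphism. -/
theorem rep_of_iso {S : Scheme.{u}} {F G : AlgSp.Sp S} (e : F ≅ G) (h : F.obj.IsRepresentable) :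
    G.obj.IsRepresentable := by
  obtain ⟨T, ⟨ε⟩⟩ := AlgSpB.exists_iso_of_isRepresentable h
  exact AlgSpB.isRepresentable_of_iso (ε ≪≫ e)

/-- Closed subspaces including one another are isomorphic. -/
theorem exists_iso {S : Scheme.{u}} {F Z Z' : AlgSp.Sp S} {i : Z ⟶ F} {i' : Z' ⟶ F} [Mono i] [Mono i']
    (h : ∃ k : Z ⟶ Z', k ≫ i' = i) (h' : ∃ k : Z' ⟶ Z, k ≫ i = i') : ∃ e : Z ≅ Z', e.hom ≫ i' = i := by
  obtain ⟨k, hk⟩ := h
  obtain ⟨k', hk'⟩ := h'
  exact ⟨⟨k, k', by rw [← cancel_mono i, Category.assoc, hk', hk, Category.id_comp],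
    by rw [← cancel_mono i', Category.assoc, hk, hk', Category.id_comp]⟩, hk⟩

/-- Let `X` be an algebraic space, quasi-compact and quasi-separated over the scheme `S`, which is not a
scheme. Then there is a closed subspace `Z ⊂ X` which is not a scheme such that every proper closed
subspace `Z' ⊊ Z` is a scheme. (The published statement allows any base scheme and uses absolute
quasi-separatedness; this row assumes the base quasi-separated, over which quasi-separatedness
relative to the base is the absolute notion.) -/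
theorem result (S : Scheme.{u}) [QuasiSeparatedSpace S]
    (X : AlgSp.Space S) (hXqc : AlgSp.IsQuasiCompactSp X.obj) (hXqs : AlgSp.IsQuasiSeparatedSp X.obj) (hX : ¬ X.obj.obj.IsRepresentable) :
    ∃ (Z : AlgSp.Space S) (i : Z ⟶ X), AlgSp.RepWith @IsClosedImmersion i.hom ∧ ¬ Z.obj.obj.IsRepresentable ∧
      ∀ (Z' : AlgSp.Space S) (i' : Z' ⟶ Z), AlgSp.RepWith @IsClosedImmersion i'.hom → ¬ IsIso i' → Z'.obj.obj.IsRepresentable := by
  obtain ⟨U, p, hp, hps⟩ := X.property.atlas
  obtain ⟨R, t, s, sqR⟩ := AlgSp.exists_isPullback_yon X.property.diag p p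
  choose Z i fst hZ hi sq using fun (I : {I : U.left.IdealSheafData // I.comap t.left = I.comap s.left}) =>
    AlgSp.ClosedSub.exists_closed hp hps sqR I.1 I.2
  have := fun I => AlgSpB.mono_of_isClosedImmersion (hi I)
  let P : Set {I : U.left.IdealSheafData // I.comap t.left = I.comap s.left} := {I | ¬ (Z I).obj.IsRepresentable}
  have hbot : ⟨⊥, by rw [Scheme.IdealSheafData.comap_bot, Scheme.IdealSheafData.comap_bot]⟩ ∈ P := by
    intro h
    let I₀ : {I : U.left.IdealSheafData // I.comap t.left = I.comap s.left} :=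
      ⟨⊥, by rw [Scheme.IdealSheafData.comap_bot, Scheme.IdealSheafData.comap_bot]⟩
    obtain ⟨k, hk⟩ := (AlgSp.ClosedSub.exists_factor_iff (hi I₀) (sq I₀) (𝟙 X.obj) p hp hps (𝟙 U)
      (by simp)).2 (bot_le (α := U.left.IdealSheafData))
    obtain ⟨e, -⟩ := exists_iso (i := i I₀) (i' := 𝟙 X.obj) ⟨i I₀, Category.comp_id _⟩ ⟨k, hk⟩
    exact hX (rep_of_iso e h)
  have hchain : ∀ C ⊆ P, IsChain (· ≤ ·) C → ∀ y ∈ C, ∃ ub ∈ P, ∀ z ∈ C, z ≤ ub := by
    intro C hCP hC y hy
    let T := Subtype.val '' C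
    have hsup : (sSup T).comap t.left = (sSup T).comap s.left := by
      rw [(Scheme.IdealSheafData.map_gc t.left).l_sSup, (Scheme.IdealSheafData.map_gc s.left).l_sSup]
      exact iSup_congr fun J => iSup_congr fun hJ => by
        obtain ⟨J', -, rfl⟩ := hJ
        exact J'.2
    refine ⟨⟨sSup T, hsup⟩, fun hrep => ?_, fun z hz => le_sSup (α := U.left.IdealSheafData) ⟨z, hz, rfl⟩⟩
    have : Nonempty (↥C)ᵒᵈ := ⟨OrderDual.toDual ⟨y, hy⟩⟩
    have : IsDirectedOrder ((↥C)ᵒᵈ)ᵒᵈ := ⟨fun a b => by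
      rcases hC.total (a.ofDual.ofDual).2 (b.ofDual.ofDual).2 with h | h
      · exact ⟨b, h, le_refl b⟩
      · exact ⟨a, le_refl a, h⟩⟩
    obtain ⟨j, hj⟩ := AlgSpB.Art.exists_scheme_of_iInter X.property hXqc hXqs (J := (↥C)ᵒᵈ)
      (fun j => Z j.ofDual.1) (fun j => i j.ofDual.1) (fun j => hi _)
      (fun {a b} hab => (AlgSp.ClosedSub.exists_le_iff (hi _) hp hps (sq _) (sq _)).2 hab)
      (i ⟨sSup T, hsup⟩) (hi _)
      (fun j => (AlgSp.ClosedSub.exists_le_iff (hi _) hp hps (sq _) (sq _)).2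
        (le_sSup ⟨_, j.ofDual.2, rfl⟩))
      (fun T' f hf => by
        obtain ⟨W, a, m, sW⟩ := AlgSp.exists_isPullback_yon X.property.diag f p
        have ha : AlgSp.RepWith @Etale ((AlgSp.yon S).map a) := MorphismProperty.of_isPullback sW.flip hp
        have has : AlgSp.RepWith @Surjective ((AlgSp.yon S).map a) := MorphismProperty.of_isPullback sW.flip hps
        refine (AlgSp.ClosedSub.exists_factor_iff (hi _) (sq _) f _ ha has m sW.w).2 (sSup_le ?_)
        rintro _ ⟨z, hz, rfl⟩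
        exact (AlgSp.ClosedSub.exists_factor_iff (hi z) (sq z) f _ ha has m sW.w).1 (hf (OrderDual.toDual ⟨z, hz⟩)))
      hrep
    exact hCP j.ofDual.2 hj
  obtain ⟨M, -, hM⟩ := zorn_le_nonempty₀ P hchain _ hbot
  refine ⟨⟨Z M, hZ M⟩, ObjectProperty.homMk (i M), hi M, hM.prop, fun Z' i' hi' hiso => ?_⟩
  by_contra hrep
  let i'' : Z'.obj ⟶ X.obj := i'.hom ≫ i M
  have hi'' : AlgSp.RepWith @IsClosedImmersion i'' :=
    MorphismProperty.comp_mem (AlgSp.RepWith (S := S) @IsClosedImmersion) _ _ hi' (hi M)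
  have := AlgSpB.mono_of_isClosedImmersion hi''
  obtain ⟨I', fst', sq'⟩ := exists_ideal hi'' p
  let M' : {I : U.left.IdealSheafData // I.comap t.left = I.comap s.left} :=
    ⟨I', AlgSp.ClosedSub.comap_eq_comap hi'' sqR.w sq'⟩
  have hMM' : M ≤ M' := (AlgSp.ClosedSub.exists_le_iff (hi M) hp hps sq' (sq M)).1 ⟨i'.hom, rfl⟩
  obtain ⟨e, -⟩ := exists_iso (i := i M') (i' := i'')
    ((AlgSp.ClosedSub.exists_le_iff hi'' hp hps (sq M') sq').2 le_rfl)
    ((AlgSp.ClosedSub.exists_le_iff (hi M') hp hps sq' (sq M')).2 le_rfl)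
  have hM'P : M' ∈ P := fun h => hrep (rep_of_iso e h)
  obtain ⟨k, hk⟩ := (AlgSp.ClosedSub.exists_le_iff hi'' hp hps (sq M) sq').2 (hM.le_of_ge hM'P hMM')
  have := AlgSpB.mono_of_isClosedImmersion hi'
  have hk' : k ≫ i'.hom = 𝟙 _ := (cancel_mono (i M)).1 (by rw [Category.assoc, Category.id_comp]; exact hk)
  refine hiso ⟨ObjectProperty.homMk k, ObjectProperty.hom_ext _ ((cancel_mono i'.hom).1 ?_), ObjectProperty.hom_ext _ hk'⟩
  show (i'.hom ≫ k) ≫ i'.hom = 𝟙 _ ≫ i'.hom
  rw [Category.assoc, hk', Category.comp_id, Category.id_comp]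

end Groth.Agent.S10049
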