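import Groth.Statements.S10051
import Groth.Agent.AlgSp.ResOpen
import Groth.Agent.AlgSp.LimSepAbs
import Groth.Agent.AlgSp.NormCoprod
import Groth.Agent.LimLib.StalkSystem

set_option autoImplicit false
set_option backward.isDefEq.respectTransparency false
set_option backward.isDefEq.respectTransparency.types false

universe u
open CategoryTheory CategoryTheory.Limits AlgebraicGeometry
open AlgSp

namespace Groth.Agent.S10051

attribute [local instance] CategoryTheory.isConnected_of_hasTerminal

open Groth.Agent.AlgSp in
/-- An affine scheme is a quasi-separated space over any base. -/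
theorem isQuasiSeparatedSp_affine {S : Scheme.{u}} (Z : Over S) [IsAffine Z.left] :
    AlgSp.IsQuasiSeparatedSp ((AlgSp.yon S).obj Z) := by
  refine (LimSepAbs.diag_prop_iff @QuasiCompact _ LimSepAbs.isTerminalBase (LimSepAbs.isTerminalBase.from _)).1 ?_
  obtain ⟨m, hm⟩ := (yon S).map_surjective (LimSepAbs.isTerminalBase.from ((yon S).obj Z))
  rw [← hm]
  have hq : RepWith @QuasiSeparated ((yon S).map m) :=
    (repWith_yon_map_iff _ m).2 (inferInstance : QuasiSeparated m.left)
  exact (Groth.Agent.AlgSp.repWith_diagonal_iff_of_representable @QuasiCompact @QuasiSeparated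
      (fun h => (quasiSeparated_iff h).symm) (IsAlgSpace.yon_obj _) hq.1).2 hq

/-- Let `X` be an algebraic space whose structure morphism to the scheme `S` is quasi-compact and
quasi-separated. If for every `x ∈ |X|` with image `s ∈ S` the base change `X ×_S Spec(O_{S,s})` is
a scheme, then `X` is a scheme. -/
theorem result (S : Scheme.{u}) (X : AlgSp.Space S)
    (q : X.obj ⟶ (AlgSp.yon S).obj (Over.mk (𝟙 S))) (hqc : AlgSp.IsQuasiCompactMor q) (hqs : AlgSp.IsQuasiSeparatedMor q)
    (h : ∀ x : AlgSp.Points X.obj, ∀ (P : AlgSp.Sp S) (fst : P ⟶ X.obj)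
      (snd : P ⟶ (AlgSp.yon S).obj (Over.mk (S.fromSpecStalk ((AlgSp.Points.schemeHomeo (Over.mk (𝟙 S))).symm (AlgSp.Points.map q x))))),
      IsPullback fst snd q ((AlgSp.yon S).map (Over.homMk (S.fromSpecStalk _))) → P.obj.IsRepresentable) :
    X.obj.obj.IsRepresentable := by
  classical
  let T₁ : Over S := Over.mk (𝟙 S)
  have H : ∀ x : Points X.obj, ∃ (V : Over S) (j : (yon S).obj V ⟶ X.obj),
      RepWith @IsOpenImmersion j ∧ x ∈ Set.range (Points.map j) := by
    intro x
    let s := (Points.schemeHomeo T₁).symm (Points.map q x)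
    obtain ⟨K⟩ := Groth.Agent.LimLib.nonempty_stalkSystem S s
    obtain ⟨j₀⟩ := IsCofiltered.nonempty (C := K.Jᵒᵖ)
    let top : ∀ j : Over j₀, Over.mk (K.ι.app j.left) ⟶ T₁ := fun j => Over.homMk (K.ι.app j.left)
    have hιn : ∀ {j k} (e : j ⟶ k), K.D.map e ≫ K.ι.app k = K.ι.app j := fun e =>
      (K.ι.naturality e).trans (Category.comp_id _)
    let DT : Over j₀ ⥤ Over S :=
      { obj := fun j => Over.mk (K.ι.app j.left), map := fun e => Over.homMk (K.D.map e.left) (hιn e.left)
        map_id := fun j => Over.OverMorphism.ext (K.D.map_id j.left)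
        map_comp := fun e e' => Over.OverMorphism.ext (K.D.map_comp e.left e'.left) }
    let R : Over S := Over.mk (S.fromSpecStalk s)
    let σ : R ⟶ T₁ := Over.homMk (S.fromSpecStalk s)
    let πT : ∀ j, R ⟶ DT.obj j := fun j => Over.homMk (K.π.app j.left) (K.fac j.left)
    let cT : Cone DT := Cone.mk R
      { app := πT
        naturality := fun j k e => Over.OverMorphism.ext (K.π.naturality e.left) }
    have hcT : IsLimit ((yon S).mapCone cT) := by
      have : IsLimit ((Over.forget S).mapCone cT) :=
        (Functor.Initial.isLimitWhiskerEquiv (Over.forget j₀) _).symm K.isLimit.some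
      have : IsLimit cT := isLimitOfReflects (Over.forget S) this
      exact isLimitOfPreserves _ this
    have hπσ : ∀ j, πT j ≫ top j = σ := fun j => Over.OverMorphism.ext (K.fac j.left)
    have htop : ∀ {j k} (e : j ⟶ k), DT.map e ≫ top k = top j := fun e => Over.OverMorphism.ext (hιn e.left)
    let D : Over j₀ ⥤ Sp S :=
      { obj := fun j => pullback q ((yon S).map (top j))
        map := fun {j k} e => pullback.lift (pullback.fst _ _) (pullback.snd _ _ ≫ (yon S).map (DT.map e))
          (by rw [Category.assoc, ← Functor.map_comp, htop, pullback.condition])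
        map_id := fun j => pullback.hom_ext (by simp) (by
          rw [pullback.lift_snd, Category.id_comp, DT.map_id, (yon S).map_id, Category.comp_id])
        map_comp := fun e e' => pullback.hom_ext (by simp) (by simp) }
    have hD : ∀ j, IsAlgSpace (D.obj j) := fun j => Groth.Agent.AlgSp.isAlgSpace_pullback
      (IsAlgSpace.yon_obj T₁) X.property (IsAlgSpace.yon_obj _) q _
    have haff : ∀ j, IsAffine (DT.obj j).left := fun j => K.isAffine j.left
    have hDa : ∀ j k (e : j ⟶ k), IsAffineMor (D.map e) := fun j k e => by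
      have sqe : IsPullback (D.map e) (pullback.snd q ((yon S).map (top j))) (pullback.snd q ((yon S).map (top k)))
          ((yon S).map (DT.map e)) := by
        refine IsPullback.of_right ?_ (pullback.lift_snd _ _ _) (IsPullback.of_hasPullback q ((yon S).map (top k)))
        rw [pullback.lift_fst, ← Functor.map_comp, htop]
        exact IsPullback.of_hasPullback q ((yon S).map (top j))
      have := haff j
      have := haff k
      exact (Groth.Agent.AlgSp.isAffineMor_iff _).2 (MorphismProperty.of_isPullback sqe.flip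
        ((repWith_yon_map_iff @IsAffineHom (DT.map e)).2 (inferInstance : IsAffineHom (DT.map e).left)))
    have hDqc : ∀ j, IsQuasiCompactSp (D.obj j) := fun j => by
      have := haff j
      exact hqc (IsAlgSpace.yon_obj _) (Groth.Agent.AlgSp.isQuasiCompactSp_yon (DT.obj j)) _ _ _
        (IsPullback.of_hasPullback q ((yon S).map (top j)))
    have hDqs : ∀ j, IsQuasiSeparatedSp (D.obj j) := fun j => by
      have := haff j
      exact Groth.Agent.AlgSp.LimAffine.isQuasiSeparatedSp_of_mor _
        (Groth.Agent.AlgSp.isQuasiSeparatedMor_baseChange' (IsPullback.of_hasPullback q ((yon S).map (top j))) hqs)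
        (isQuasiSeparatedSp_affine (DT.obj j))
    let P := pullback q ((yon S).map σ)
    let c : Cone D := Cone.mk P
      { app := fun j => pullback.lift (pullback.fst _ _) (pullback.snd _ _ ≫ (yon S).map (πT j))
          (by rw [Category.assoc, ← Functor.map_comp, hπσ]; exact pullback.condition)
        naturality := fun j k e => by
          have e' : πT j ≫ DT.map e = πT k := cT.w e
          refine pullback.hom_ext ?_ ?_
          · simp [D]
          · simp [D, ← Functor.map_comp, e'] }
    have hex : ∀ t : Cone D, ∃ l : t.pt ⟶ P, (∀ j, l ≫ c.π.app j = t.π.app j) ∧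
        ∀ l' : t.pt ⟶ P, (∀ j, l' ≫ c.π.app j = t.π.app j) → l' = l := by
      intro t
      obtain ⟨j₁⟩ := IsCofiltered.nonempty (C := Over j₀)
      let l₁ := t.π.app j₁ ≫ pullback.fst q ((yon S).map (top j₁))
      have hl₁ : ∀ j, t.π.app j ≫ pullback.fst q ((yon S).map (top j)) = l₁ := fun j => by
        obtain ⟨m, a, b, -⟩ := IsCofilteredOrEmpty.cone_objs j j₁
        dsimp only [l₁]
        rw [← t.w a, ← t.w b, Category.assoc, Category.assoc, pullback.lift_fst, pullback.lift_fst]
      let t₂ : Cone (DT ⋙ yon S) := Cone.mk t.pt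
        { app := fun j => t.π.app j ≫ pullback.snd q ((yon S).map (top j))
          naturality := fun j k e => by
            dsimp
            rw [Category.id_comp, ← t.w e, Category.assoc, Category.assoc]
            exact congrArg (t.π.app j ≫ ·) (pullback.lift_snd _ _ _) }
      have hw : l₁ ≫ q = hcT.lift t₂ ≫ (yon S).map σ := by
        rw [← hπσ j₁, Functor.map_comp]
        dsimp only [l₁]
        rw [Category.assoc, pullback.condition, ← Category.assoc, ← Category.assoc]
        exact congrArg (fun k => k ≫ (yon S).map (top j₁)) (hcT.fac t₂ j₁).symm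
      refine ⟨pullback.lift l₁ (hcT.lift t₂) hw, fun j => pullback.hom_ext ?_ ?_,
        fun l' hl' => pullback.hom_ext ?_ (hcT.hom_ext fun j => ?_)⟩
      · rw [Category.assoc, pullback.lift_fst, pullback.lift_fst, hl₁]
      · rw [Category.assoc, pullback.lift_snd, pullback.lift_snd_assoc]
        exact hcT.fac t₂ j
      · rw [pullback.lift_fst, ← hl₁ j₁, ← hl' j₁, Category.assoc, pullback.lift_fst]
      · rw [pullback.lift_snd]
        refine Eq.trans ?_ (hcT.fac t₂ j).symm
        change (l' ≫ pullback.snd _ _) ≫ (yon S).map (πT j) = t.π.app j ≫ _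
        rw [← hl' j, Category.assoc, Category.assoc, pullback.lift_snd]
    choose l hl hluniq using hex
    have hg : IsOpenImmersion (K.ι.app j₀) := K.isOpenImmersion j₀
    obtain ⟨j, hj⟩ := Groth.Agent.AlgSp.ResOpen.exists_scheme_stage (K.ι.app j₀) hD hDa hDqc hDqs (c := c)
      { lift := l, fac := hl, uniq := hluniq }
      (fun j => pullback.snd q ((yon S).map (top j)) ≫
        (yon S).map (Over.homMk (K.D.map j.hom) (hιn j.hom))) (h x P _ _ (IsPullback.of_hasPullback q ((yon S).map σ)))
    obtain ⟨V, ⟨e⟩⟩ := Groth.Agent.AlgSpB.exists_iso_of_isRepresentable hj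
    have hoi : IsOpenImmersion (top j).left := K.isOpenImmersion j.left
    refine ⟨V, e.hom ≫ pullback.fst q ((yon S).map (top j)),
      (MorphismProperty.cancel_left_of_respectsIso (RepWith @IsOpenImmersion) _ _).2
        (MorphismProperty.of_isPullback (IsPullback.of_hasPullback q ((yon S).map (top j))).flip
          ((repWith_yon_map_iff @IsOpenImmersion (top j)).2 hoi)), ?_⟩
    obtain ⟨z, hz⟩ := K.mem j.left
    obtain ⟨p, hp, -⟩ := Groth.Agent.AlgSpB.exists_of_isPullback (IsPullback.of_hasPullback q ((yon S).map (top j))) x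
      (Points.schemeHomeo (DT.obj j) z) (by
        rw [Points.map_yon_map_apply, show (top j).left z = s from hz]
        exact ((Points.schemeHomeo T₁).apply_symm_apply _).symm)
    exact ⟨Points.map e.inv p, by rw [← Points.map_comp, e.inv_hom_id_assoc, hp]⟩
  obtain ⟨X', j, hj, hrep, huniv⟩ := Groth.Agent.AlgSpB.exists_largest_open_subscheme X
  have hsurj : Set.univ ⊆ Set.range (Points.map j.hom) := by
    intro x _
    obtain ⟨V, i, hi, hx⟩ := H x
    obtain ⟨k, hk⟩ := huniv ⟨(yon S).obj V, IsAlgSpace.yon_obj V⟩ (ObjectProperty.homMk i) hi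
      (Groth.Agent.AlgSpB.isRepresentable_of_iso (Iso.refl _))
    exact Groth.Agent.AlgSpB.range_map_subset_of_factor k.hom (congrArg (·.hom) hk) hx
  have := Groth.Agent.AlgSpB.mono_of_isOpenImmersion hj
  obtain ⟨k, hk⟩ := (Groth.Agent.AlgSpB.exists_factor_isOpenImmersion_iff hj (𝟙 X.obj)).2
    (fun y _ => hsurj (Set.mem_univ y))
  have : IsIso j.hom := ⟨k, (cancel_mono j.hom).1 (by rw [Category.assoc, hk, Category.id_comp, Category.comp_id]), hk⟩
  obtain ⟨T, ⟨ε⟩⟩ := Groth.Agent.AlgSpB.exists_iso_of_isRepresentable hrep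
  exact Groth.Agent.AlgSpB.isRepresentable_of_iso (ε ≪≫ asIso j.hom)

end Groth.Agent.S10051
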