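import Groth.Statements.S10052
import Groth.Agent.AlgSpB.Art.ClosedChain

set_option autoImplicit false
set_option backward.isDefEq.respectTransparency false
set_option backward.isDefEq.respectTransparency.types false

universe u
open CategoryTheory CategoryTheory.Limits AlgebraicGeometry
open AlgSp

namespace Groth.Agent.S10052

open Groth.Agent

/-- A scheme over `Spec A` factors through the closed subscheme of `I` iff `I` maps to zero. -/
theorem exists_lift_iff {A : CommRingCat.{u}} (I : Ideal A) (T : Over (Spec A)) :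
    Nonempty (T ⟶ Over.mk (Spec.map (CommRingCat.ofHom (Ideal.Quotient.mk I)))) ↔
      I ≤ RingHom.ker ((Scheme.ΓSpecIso A).inv ≫ T.hom.appTop).hom := by
  constructor
  · rintro ⟨l⟩
    have e : (Scheme.ΓSpecIso A).inv ≫ T.hom.appTop = CommRingCat.ofHom (Ideal.Quotient.mk I) ≫
        (Scheme.ΓSpecIso (CommRingCat.of (A ⧸ I))).inv ≫ l.left.appTop := by
      rw [← Over.w l]
      show (Scheme.ΓSpecIso A).inv ≫ (l.left ≫ Spec.map _).appTop = _
      rw [Scheme.Hom.comp_appTop, Scheme.ΓSpecIso_inv_naturality_assoc]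
      rfl
    intro a ha
    rw [RingHom.mem_ker, e, CommRingCat.hom_comp, RingHom.comp_apply]
    simp [Ideal.Quotient.eq_zero_iff_mem.2 ha]
  · intro h
    let ψ := (Scheme.ΓSpecIso A).inv ≫ T.hom.appTop
    refine ⟨Over.homMk (T.left.toSpecΓ ≫ Spec.map (CommRingCat.ofHom (Ideal.Quotient.lift I ψ.hom fun a ha => h ha))) ?_⟩
    show (T.left.toSpecΓ ≫ Spec.map _) ≫ Spec.map _ = T.hom
    rw [Category.assoc, ← Spec.map_comp]
    have : CommRingCat.ofHom (Ideal.Quotient.mk I) ≫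
        CommRingCat.ofHom (Ideal.Quotient.lift I ψ.hom fun a ha => h ha) = ψ := by ext a; rfl
    rw [this, Spec.map_comp, ← Scheme.toSpecΓ_naturality_assoc, toSpecΓ_SpecMap_ΓSpecIso_inv, Category.comp_id]

/-- Let `X` be an algebraic space over `Spec A` with quasi-compact and quasi-separated structure
morphism. If `X` is not a scheme, there is an ideal `I ⊂ A` such that `X_{A/I}` is not a scheme but
`X_{A/I'}` is a scheme for every ideal `I'` strictly containing `I`. -/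
theorem result (A : CommRingCat.{u}) (X : AlgSp.Space (Spec A))
    (q : X.obj ⟶ (AlgSp.yon (Spec A)).obj (Over.mk (𝟙 (Spec A))))
    (hqc : AlgSp.IsQuasiCompactMor q) (hqs : AlgSp.IsQuasiSeparatedMor q) (hX : ¬ X.obj.obj.IsRepresentable) :
    ∃ I : Ideal A,
      (∀ (P : AlgSp.Sp (Spec A)) (fst : P ⟶ X.obj)
        (snd : P ⟶ (AlgSp.yon (Spec A)).obj (Over.mk (Spec.map (CommRingCat.ofHom (Ideal.Quotient.mk I))))),
        IsPullback fst snd q ((AlgSp.yon (Spec A)).map (Over.homMk (Spec.map (CommRingCat.ofHom (Ideal.Quotient.mk I))))) →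
          ¬ P.obj.IsRepresentable) ∧
      ∀ I' : Ideal A, I < I' →
        ∀ (P : AlgSp.Sp (Spec A)) (fst : P ⟶ X.obj)
          (snd : P ⟶ (AlgSp.yon (Spec A)).obj (Over.mk (Spec.map (CommRingCat.ofHom (Ideal.Quotient.mk I'))))),
          IsPullback fst snd q ((AlgSp.yon (Spec A)).map (Over.homMk (Spec.map (CommRingCat.ofHom (Ideal.Quotient.mk I'))))) →
            P.obj.IsRepresentable := by
  classical
  let T₁ : Over (Spec A) := Over.mk (𝟙 (Spec A))
  let cI : Ideal A → Over (Spec A) := fun I => Over.mk (Spec.map (CommRingCat.ofHom (Ideal.Quotient.mk I)))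
  let ιI : ∀ I, cI I ⟶ T₁ := fun I => Over.homMk (Spec.map (CommRingCat.ofHom (Ideal.Quotient.mk I)))
  let Z : Ideal A → AlgSp.Sp (Spec A) := fun I => pullback q ((AlgSp.yon (Spec A)).map (ιI I))
  let i : ∀ I, Z I ⟶ X.obj := fun I => pullback.fst _ _
  have hi : ∀ I, AlgSp.RepWith @IsClosedImmersion (i I) := fun I => by
    refine MorphismProperty.of_isPullback (IsPullback.of_hasPullback q ((AlgSp.yon (Spec A)).map (ιI I))).flip
      ((AlgSp.repWith_yon_map_iff _ (ιI I)).2 ?_)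
    exact IsClosedImmersion.spec_of_surjective _ Ideal.Quotient.mk_surjective
  have hone : ∀ {T : Over (Spec A)} (u v : T ⟶ T₁), u = v := fun u v => Over.OverMorphism.ext
    ((Category.comp_id u.left).symm.trans ((Over.w u).trans ((Over.w v).symm.trans (Category.comp_id v.left))))
  have hfac : ∀ (I : Ideal A) (T : Over (Spec A)) (f : (AlgSp.yon (Spec A)).obj T ⟶ X.obj),
      (∃ k, k ≫ i I = f) ↔ I ≤ RingHom.ker ((Scheme.ΓSpecIso A).inv ≫ T.hom.appTop).hom := by
    intro I T f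
    rw [← exists_lift_iff]
    constructor
    · rintro ⟨k, -⟩
      exact ⟨((AlgSp.yon (Spec A)).map_surjective (k ≫ pullback.snd _ _)).choose⟩
    · rintro ⟨l⟩
      obtain ⟨u, hu⟩ := (AlgSp.yon (Spec A)).map_surjective (f ≫ q)
      exact ⟨pullback.lift f ((AlgSp.yon (Spec A)).map l) (by
        rw [← hu, ← Functor.map_comp, hone u (l ≫ ιI I)]), pullback.lift_fst _ _ _⟩
  have hX_qc : AlgSp.IsQuasiCompactSp X.obj :=
    have : CompactSpace T₁.left := inferInstanceAs (CompactSpace (Spec A))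
    hqc (AlgSp.IsAlgSpace.yon_obj T₁) (AlgSp.isQuasiCompactSp_yon T₁) (𝟙 _) (𝟙 _) q (IsPullback.id_horiz q)
  have : QuasiSeparatedSpace T₁.left := inferInstanceAs (QuasiSeparatedSpace (Spec A))
  have hX_qs : AlgSp.IsQuasiSeparatedSp X.obj :=
    AlgSp.LimAffine.isQuasiSeparatedSp_of_mor q hqs (AlgSp.LimAffineMor.isQuasiSeparatedSp_yon T₁)
  have hle : ∀ {I J : Ideal A}, J ≤ I → ∃ k : Z I ⟶ Z J, k ≫ i J = i I := by
    intro I J hJI
    have := AlgSpB.mono_of_isClosedImmersion (hi J)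
    refine AlgSpB.Art.exists_factor_of_yon (i I) fun T g => (hfac J T _).2 (hJI.trans ((hfac I T _).1 ⟨g, rfl⟩))
  let P : Set (Ideal A) := {I | ¬ (Z I).obj.IsRepresentable}
  have hbot : (⊥ : Ideal A) ∈ P := by
    intro h
    have := AlgSpB.mono_of_isClosedImmersion (hi ⊥)
    obtain ⟨k, hk⟩ := AlgSpB.Art.exists_factor_of_yon (i := i ⊥) (𝟙 X.obj) fun T g => by
      obtain ⟨k, hk⟩ := (hfac ⊥ T g).2 bot_le
      exact ⟨k, by rw [hk, Category.comp_id]⟩
    have : IsIso (i ⊥) := ⟨k, (cancel_mono (i ⊥)).1 (by rw [Category.assoc, hk, Category.id_comp, Category.comp_id]), hk⟩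
    obtain ⟨T, ⟨ε⟩⟩ := AlgSpB.exists_iso_of_isRepresentable h
    exact hX (AlgSpB.isRepresentable_of_iso (ε ≪≫ asIso (i ⊥)))
  have hchain : ∀ C ⊆ P, IsChain (· ≤ ·) C → ∀ y ∈ C, ∃ ub ∈ P, ∀ z ∈ C, z ≤ ub := by
    intro C hCP hC y hy
    refine ⟨sSup C, fun hrep => ?_, fun z hz => le_sSup hz⟩
    have : Nonempty (↥C)ᵒᵈ := ⟨OrderDual.toDual ⟨y, hy⟩⟩
    have : IsDirectedOrder ((↥C)ᵒᵈ)ᵒᵈ := ⟨fun a b => by
      rcases hC.total (a.ofDual.ofDual).2 (b.ofDual.ofDual).2 with h | h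
      · exact ⟨b, h, le_refl b⟩
      · exact ⟨a, le_refl a, h⟩⟩
    obtain ⟨j, hj⟩ := AlgSpB.Art.exists_scheme_of_iInter X.property hX_qc hX_qs (J := (↥C)ᵒᵈ)
      (fun j => Z j.ofDual.1) (fun j => i j.ofDual.1) (fun j => hi _) (fun {a b} hab => hle hab)
      (i (sSup C)) (hi _) (fun j => hle (le_sSup j.ofDual.2))
      (fun T f hf => (hfac _ T f).2 (sSup_le fun z hz => (hfac z T f).1 (hf (OrderDual.toDual ⟨z, hz⟩))))
      hrep
    exact hCP j.ofDual.2 hj
  obtain ⟨M, -, hM⟩ := zorn_le_nonempty₀ P hchain _ hbot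
  refine ⟨M, fun Q f g sq h => hM.prop ?_, fun I' hI' Q f g sq => ?_⟩
  · obtain ⟨T, ⟨ε⟩⟩ := AlgSpB.exists_iso_of_isRepresentable h
    exact AlgSpB.isRepresentable_of_iso (ε ≪≫ sq.isoPullback)
  · by_contra h
    refine hI'.not_ge (hM.le_of_ge (fun h' => h ?_) hI'.le)
    obtain ⟨T, ⟨ε⟩⟩ := AlgSpB.exists_iso_of_isRepresentable h'
    exact AlgSpB.isRepresentable_of_iso (ε ≪≫ sq.isoPullback.symm)

end Groth.Agent.S10052
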