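import Groth.Statements.S10054
import Groth.Agent.AlgSpB.Art.DVRThrough
import Groth.Agent.AlgSpB.Art.AffineSpaceClosed
import Groth.Agent.AlgSp.NoethFib
import Groth.Agent.AlgSpCov.Listed
import Groth.Agent.AlgSpCov.LocP
import Groth.Agent.SchPoints.Basic
import Mathlib.RingTheory.PowerSeries.Inverse

set_option autoImplicit false
set_option backward.isDefEq.respectTransparency false
set_option backward.isDefEq.respectTransparency.types false

universe u
open CategoryTheory CategoryTheory.Limits AlgebraicGeometry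
open AlgSp

namespace Groth.Agent.S10054

open Groth.Agent

/-- Let `f : X ⟶ Y` be a morphism of finite type of algebraic spaces over `S` with `Y` locally
Noetherian, and `y ∈ |Y|` a point lying in the closure of `f`'s image on points. Then one can find a
discrete valuation ring `A` with fraction field `K` and a commutative square `Spec K ⟶ X`, `Spec A ⟶
Y` (over `f` and `Spec K ⟶ Spec A`) sending the closed point of `Spec A` to `y`. (The refinement
that the `K`-point may be taken at a codimension-0 point with `K` a residue field of an etale chart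
is not included.) -/
theorem result (S : Scheme.{u}) {X Y : AlgSp.Space S} (f : X ⟶ Y)
    (hft : AlgSp.IsFiniteTypeMor f.hom) (hY : AlgSp.IsLocNoethSp Y.obj) (y : AlgSp.Points Y.obj)
    (hy : y ∈ closure (Set.range (AlgSp.Points.map f.hom))) :
    ∃ (A : Type u) (_ : CommRing A) (_ : IsDomain A) (_ : IsDiscreteValuationRing A)
      (a : Spec (CommRingCat.of A) ⟶ S)
      (α : (AlgSp.yon S).obj (Over.mk a) ⟶ Y.obj)
      (κ : (AlgSp.yon S).obj (Over.mk (Spec.map (CommRingCat.ofHom (algebraMap A (FractionRing A))) ≫ a)) ⟶ X.obj),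
      κ ≫ f.hom = (AlgSp.yon S).map (Over.homMk (Spec.map (CommRingCat.ofHom (algebraMap A (FractionRing A))))) ≫ α ∧
      AlgSp.Points.map α (AlgSp.Points.schemeEquiv (Over.mk a) (IsLocalRing.closedPoint A)) = y := by
  obtain ⟨V, p, hp, hps⟩ := Y.property.atlas
  obtain ⟨v₀, rfl⟩ := AlgSpB.surjective_ofPt hps y
  obtain ⟨O, hO, hvO, -⟩ := exists_isAffineOpen_mem_and_subset (x := v₀) (U := ⊤) trivial
  let VO : Over S := Over.mk (O.ι ≫ V.hom)
  let ιO : VO ⟶ V := Over.homMk O.ι rfl
  have : IsAffine VO.left := hO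
  have : Etale ιO.left := inferInstanceAs (Etale O.ι)
  let b : (AlgSp.yon S).obj VO ⟶ Y.obj := (AlgSp.yon S).map ιO ≫ p
  have hb : AlgSp.RepWith @Etale b := AlgSpB.repWith_etale_map_comp ιO hp
  let v : VO.left := ⟨v₀, hvO⟩
  have hv : AlgSp.Points.ofPt b v = AlgSp.Points.ofPt p v₀ := AlgSpB.ofPt_map_comp ιO p v
  have := AlgSp.isLocallyNoetherian_of_etale_chart b hb hY
  have := AlgSpB.compactSpace_points_of_isQuasiCompactSp (hft.2 (AlgSp.IsAlgSpace.yon_obj VO)
    (AlgSp.isQuasiCompactSp_yon VO) b _ _ (IsPullback.of_hasPullback f.hom b))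
  obtain ⟨T₀, a₀, ha₀, has₀⟩ := (AlgSp.isAlgSpace_pullback Y.property X.property
    (AlgSp.IsAlgSpace.yon_obj VO) f.hom b).atlas
  obtain ⟨T, e, hT, ha, has⟩ := AlgSpB.exists_affine_chart_of_compactSpace ha₀ has₀
  generalize (AlgSp.yon S).map e ≫ a₀ = a at ha has
  obtain ⟨q, hq⟩ := (AlgSp.yon S).map_surjective (a ≫ pullback.snd f.hom b)
  have : LocallyOfFiniteType q.left := AlgSpCov.chart_of_locP AlgSpCov.etaleLocal_locallyOfFiniteType
    X.property Y.property hft.1 b (IsPullback.of_hasPullback f.hom b) ha q hq.symm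
  have : IsAffine T.left := hT
  have hcl : v ∈ closure (Set.range q.left) := by
    rw [mem_closure_iff]
    intro U hU hvU
    obtain ⟨_, ⟨u, huU, rfl⟩, x, hx⟩ := mem_closure_iff.1 hy _ (AlgSpB.isOpenMap_ofPt hb U hU) ⟨v, hvU, hv⟩
    obtain ⟨d, hd1, hd2⟩ := AlgSpB.exists_of_isPullback (IsPullback.of_hasPullback f.hom b) x
      (AlgSp.Points.schemeEquiv VO u) (hx.trans (AlgSp.Points.ofPt_eq_map_ofScheme b u))
    obtain ⟨t, rfl⟩ := AlgSpB.surjective_ofPt has d
    refine ⟨u, huU, t, ?_⟩
    rw [AlgSp.Points.map_ofPt, ← hq, AlgSp.Points.ofPt_eq_map_ofScheme] at hd2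
    exact (AlgSp.Points.schemeEquiv VO).injective ((AlgSp.Points.map_yon_map_apply q t).symm.trans hd2)
  obtain ⟨t, ht⟩ := SchPoints.exists_specializes_of_mem_closure_range q.left hcl
  have key : ∃ (A : Type u) (_ : CommRing A) (_ : IsDomain A) (_ : IsDiscreteValuationRing A)
      (x : Spec (CommRingCat.of (FractionRing A)) ⟶ T.left) (y : Spec (CommRingCat.of A) ⟶ VO.left),
      x ≫ q.left = Spec.map (CommRingCat.ofHom (algebraMap A (FractionRing A))) ≫ y ∧
        y (IsLocalRing.closedPoint A) = v := by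
    by_cases hne : q.left t = v
    · let K : Type u := T.left.residueField t
      let yA : Spec (CommRingCat.of (PowerSeries K)) ⟶ T.left :=
        Spec.map (CommRingCat.ofHom (PowerSeries.C (R := K))) ≫ T.left.fromSpecResidueField t
      refine ⟨PowerSeries K, inferInstance, inferInstance, inferInstance,
        Spec.map (CommRingCat.ofHom (algebraMap _ (FractionRing (PowerSeries K)))) ≫ yA, yA ≫ q.left,
        by rw [Category.assoc], ?_⟩
      rw [← hne]
      simp only [yA, Scheme.Hom.comp_apply]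
      erw [Scheme.fromSpecResidueField_apply]
    · obtain ⟨A, _, _, _, x, y, h1, h2, -⟩ := AlgSpB.Art.exists_dvr_through q.left t v ht hne
      exact ⟨A, inferInstance, inferInstance, inferInstance, x, y, h1, h2⟩
  obtain ⟨A, iA, iD, iV, x, y, hxy, hy'⟩ := key
  let cA : Over S := Over.mk (y ≫ VO.hom)
  let iy : cA ⟶ VO := Over.homMk y rfl
  let cK : Over S := Over.mk (Spec.map (CommRingCat.ofHom (algebraMap A (FractionRing A))) ≫ y ≫ VO.hom)
  let ix : cK ⟶ T := Over.homMk x (by
    show x ≫ T.hom = _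
    rw [← Over.w q, reassoc_of% hxy]; rfl)
  have hj : ix ≫ q = (Over.homMk (Spec.map (CommRingCat.ofHom (algebraMap A (FractionRing A)))) rfl : cK ⟶ cA) ≫ iy :=
    Over.OverMorphism.ext hxy
  refine ⟨A, iA, iD, iV, y ≫ VO.hom, (AlgSp.yon S).map iy ≫ b,
    (AlgSp.yon S).map ix ≫ a ≫ pullback.fst f.hom b, ?_, ?_⟩
  · rw [Category.assoc, Category.assoc, pullback.condition, ← reassoc_of% hq, ← Functor.map_comp_assoc, hj,
      Functor.map_comp_assoc]
  · rw [AlgSp.Points.map_comp]
    erw [AlgSp.Points.map_yon_map_apply iy (IsLocalRing.closedPoint A)]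
    rw [show iy.left (IsLocalRing.closedPoint A) = v from hy']
    exact (AlgSp.Points.ofPt_eq_map_ofScheme b v).symm.trans hv

end Groth.Agent.S10054
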