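import Groth.Statements.S10055
import Groth.Agent.AlgSpB.Open
import Groth.Agent.AlgSp.Basic
import Mathlib.AlgebraicGeometry.Morphisms.ClosedImmersion

set_option autoImplicit false
set_option backward.isDefEq.respectTransparency false
set_option backward.isDefEq.respectTransparency.types false
universe u
open CategoryTheory CategoryTheory.Limits AlgebraicGeometry
open AlgSp

namespace Groth.Agent.S10055

open Groth.Agent.AlgSp

/-- Let `(X_i) ⟶ (Y_i)` be a morphism of cofiltered systems of algebraic spaces over `S`, both with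
affine transition morphisms, with every `X_i ⟶ Y_i` a closed immersion. Then the induced morphism of
limits (in fppf sheaves) `lim X_i ⟶ lim Y_i` is a closed immersion. -/
theorem result (S : Scheme.{u}) {I : Type u} [SmallCategory I] [IsCofiltered I]
    (DX DY : I ⥤ AlgSp.Sp S) (hDX : ∀ i, AlgSp.IsAlgSpace (DX.obj i)) (hDY : ∀ i, AlgSp.IsAlgSpace (DY.obj i))
    (hXa : ∀ (i j : I) (φ : i ⟶ j), AlgSp.IsAffineMor (DX.map φ)) (hYa : ∀ (i j : I) (φ : i ⟶ j), AlgSp.IsAffineMor (DY.map φ))
    (τ : DX ⟶ DY) (hτ : ∀ i, AlgSp.RepWith @IsClosedImmersion (τ.app i))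
    (cX : Cone DX) (hcX : IsLimit cX) (cY : Cone DY) (hcY : IsLimit cY)
    (g : cX.pt ⟶ cY.pt) (hg : ∀ i, g ≫ cY.π.app i = cX.π.app i ≫ τ.app i) :
    AlgSp.RepWith @IsClosedImmersion g := by
  have hmτ : ∀ i, Mono (τ.app i) := fun i => Groth.Agent.AlgSpB.mono_of_isClosedImmersion (hτ i)
  have key : ∀ (T : Over S) (y : (AlgSp.yon S).obj T ⟶ cY.pt), ∃ (W : Over S)
      (fst : (AlgSp.yon S).obj W ⟶ cX.pt) (snd : W ⟶ T),
      IsPullback fst ((AlgSp.yon S).map snd) g y ∧ IsClosedImmersion snd.left := by
    intro T y
    let Ti : I → Over S := fun i => (hτ i).1.pullback (y ≫ cY.π.app i)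
    let ti : ∀ i, Ti i ⟶ T := fun i => (hτ i).1.snd (y ≫ cY.π.app i)
    have hti : ∀ i, IsClosedImmersion (ti i).left := fun i => (hτ i).2 _ _ _ ((hτ i).1.isPullback _)
    let 𝓘 : T.left.IdealSheafData := ⨆ i, (ti i).left.ker
    let W : Over S := Over.mk (𝓘.subschemeι ≫ T.hom)
    let snd : W ⟶ T := Over.homMk 𝓘.subschemeι rfl
    have hsnd : IsClosedImmersion snd.left := inferInstanceAs (IsClosedImmersion 𝓘.subschemeι)
    -- `h_W` factors through every level
    have hlift : ∀ i, ∃ x : (AlgSp.yon S).obj W ⟶ DX.obj i,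
        x ≫ τ.app i = (AlgSp.yon S).map snd ≫ y ≫ cY.π.app i := by
      intro i
      have := hti i
      have hle : (ti i).left.ker ≤ 𝓘.subschemeι.ker := by
        rw [Scheme.IdealSheafData.ker_subschemeι]; exact le_iSup (fun i => (ti i).left.ker) i
      let l : W ⟶ Ti i := Over.homMk (IsClosedImmersion.lift (ti i).left 𝓘.subschemeι hle) (by
        change _ = 𝓘.subschemeι ≫ T.hom
        rw [← Over.w (ti i), IsClosedImmersion.lift_fac_assoc])
      have hl : l ≫ ti i = snd := Over.OverMorphism.ext (IsClosedImmersion.lift_fac _ _ _)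
      refine ⟨(AlgSp.yon S).map l ≫ (hτ i).1.fst _, ?_⟩
      rw [Category.assoc, ((hτ i).1.isPullback _).w, ← Functor.map_comp_assoc, hl]
    choose x hx using hlift
    let cW : Cone DX :=
      { pt := (AlgSp.yon S).obj W
        π :=
          { app := x
            naturality := fun i j φ => by
              change 𝟙 _ ≫ x j = x i ≫ DX.map φ
              rw [Category.id_comp]
              have := hmτ j
              rw [← cancel_mono (τ.app j), hx, Category.assoc, τ.naturality, reassoc_of% (hx i)]
              simp [cY.w φ] } }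
    let fst : (AlgSp.yon S).obj W ⟶ cX.pt := hcX.lift cW
    have hfst : ∀ i, fst ≫ cX.π.app i = x i := fun i => hcX.fac cW i
    have w : fst ≫ g = (AlgSp.yon S).map snd ≫ y := hcY.hom_ext fun i => by
      rw [Category.assoc, hg, ← Category.assoc, hfst, hx, Category.assoc]
    have hmg : Mono g := ⟨fun a b e => hcX.hom_ext fun i => by
      have := hmτ i
      rw [← cancel_mono (τ.app i), Category.assoc, Category.assoc, ← hg, reassoc_of% e]⟩
    have hms : Mono snd := (Over.forget S).mono_of_mono_map (inferInstanceAs (Mono 𝓘.subschemeι))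
    refine ⟨W, fst, snd, ?_, hsnd⟩
    -- universal property, tested on schemes
    have hiso : IsIso (pullback.lift fst ((AlgSp.yon S).map snd) w :
        (AlgSp.yon S).obj W ⟶ pullback g y) := by
      refine Groth.Agent.AlgSpB.isIso_of_forall_yon _ fun T' z => ?_
      obtain ⟨a, ha⟩ := (AlgSp.yon S).map_surjective (z ≫ pullback.snd g y)
      have hker : 𝓘 ≤ a.left.ker := iSup_le fun i => by
        obtain ⟨m, hm1, hm2⟩ := ((hτ i).1.isPullback (y ≫ cY.π.app i)).exists_lift
          (z ≫ pullback.fst g y ≫ cX.π.app i) ((AlgSp.yon S).map a) (by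
            rw [ha, Category.assoc, Category.assoc, Category.assoc, ← hg, pullback.condition_assoc])
        obtain ⟨m, rfl⟩ := (AlgSp.yon S).map_surjective m
        rw [← Functor.map_comp] at hm2
        rw [← (AlgSp.yon S).map_injective hm2, Over.comp_left]
        exact Scheme.Hom.le_ker_comp _ _
      let b : T' ⟶ W := Over.homMk (IsClosedImmersion.lift 𝓘.subschemeι a.left
        (by rw [Scheme.IdealSheafData.ker_subschemeι]; exact hker)) (by
          change _ ≫ 𝓘.subschemeι ≫ T.hom = _
          rw [IsClosedImmersion.lift_fac_assoc, Over.w])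
      have hb : b ≫ snd = a := Over.OverMorphism.ext (IsClosedImmersion.lift_fac _ _ _)
      refine ⟨(AlgSp.yon S).map b, ?_, fun c hc => ?_⟩
      · apply pullback.hom_ext
        · rw [← cancel_mono g]
          simp only [Category.assoc, pullback.lift_fst, w]
          rw [← Functor.map_comp_assoc, hb, ha, Category.assoc, pullback.condition]
        · simp only [Category.assoc, pullback.lift_snd]
          rw [← Functor.map_comp, hb, ha]
      · obtain ⟨c, rfl⟩ := (AlgSp.yon S).map_surjective c
        congr 1
        rw [← cancel_mono snd, hb]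
        apply (AlgSp.yon S).map_injective
        have := congrArg (fun k => k ≫ pullback.snd _ _) hc
        simp only [Category.assoc, pullback.lift_snd] at this
        rw [Functor.map_comp, this, ha]
    exact (IsPullback.of_hasPullback g y).of_iso
      (asIso (pullback.lift fst ((AlgSp.yon S).map snd) w)).symm (Iso.refl _) (Iso.refl _) (Iso.refl _)
      (by simp) (by simp) (by simp) (by simp)
  exact MorphismProperty.relative.of_exists fun T y =>
    let ⟨W, fst, snd, h1, h2⟩ := key T y
    ⟨W, fst, snd, h1, h2⟩

end Groth.Agent.S10055
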