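import Groth.Statements.S10064
import Groth.Agent.AlgSpB.Art.DVRSquare
import Groth.Agent.S10290
import Groth.Agent.S9213

set_option autoImplicit false
set_option backward.isDefEq.respectTransparency false
set_option backward.isDefEq.respectTransparency.types false

universe u
open CategoryTheory CategoryTheory.Limits AlgebraicGeometry
open AlgSp

namespace Groth.Agent.S10064

/-- Let `f : X ⟶ Y` be quasi-separated and locally of finite type with `Y` locally Noetherian. Then `f`
is separated if and only if every valuative test square for `f` whose valuation ring is a discrete
valuation ring admits at most one dotted arrow. (The published statement also lists the uniqueness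
part of the valuative criterion, over arbitrary valuation rings, as an equivalent condition, and a
refinement to squares hitting a codimension-0 point; neither is included in this row.) -/
theorem result (S : Scheme.{u}) {X Y : AlgSp.Space S} (f : X ⟶ Y)
    (hqs : AlgSp.IsQuasiSeparatedMor f.hom) (hft : AlgSp.LocP @LocallyOfFiniteType f.hom) (hY : AlgSp.IsLocNoethSp Y.obj) :
    AlgSp.IsSeparatedMor f.hom ↔ ∀ sq : AlgSp.ValSq f.hom, IsDiscreteValuationRing sq.A → sq.HasUniq := by
  refine ⟨fun h sq _ => Groth.Agent.S10290.result f h sq, fun h => ?_⟩
  refine Groth.Agent.AlgSpB.Art.isSeparatedMor_of_diag_charts f hqs hft hY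
    fun V W g fst snd hV hN hg sqW hl hm hq => (Groth.Agent.S9213.result snd.left).2 fun A _ _ _ x y hxy => ?_
  have := hm
  exact Groth.Agent.AlgSpB.Art.exists_lift_of_uniq sqW A x y hxy fun str iK bot comm _ l l' h1 h2 h3 h4 =>
    h { A := A, K := FractionRing A, str := str, top := (AlgSp.yon S).map iK ≫ fst, bot := bot, comm := comm }
      ‹IsDiscreteValuationRing A› l l' h1 h2 h3 h4

end Groth.Agent.S10064
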