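import Groth.Statements.S10065
import Groth.Agent.S10064
import Groth.Agent.AlgSpB.Art.DVRUnivClosed
import Groth.Agent.AlgSpB.Art.DVRProperLift

set_option autoImplicit false
set_option backward.isDefEq.respectTransparency false
set_option backward.isDefEq.respectTransparency.types false

universe u
open CategoryTheory CategoryTheory.Limits AlgebraicGeometry
open AlgSp

namespace Groth.Agent.S10065

/-- Let `f : X ⟶ Y` be quasi-separated and of finite type with `Y` locally Noetherian. Then `f` is
proper if and only if every valuative test square for `f` whose valuation ring is a discrete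
valuation ring admits exactly one dotted arrow (a lift `Spec A ⟶ X`, with no extension of `A`). (The
published statement also lists as equivalent conditions the valuative criterion and the same
unique-lift condition over arbitrary valuation rings, and a refinement to squares hitting a
codimension-0 point; this row states only the discrete valuation ring form.) -/
theorem result (S : Scheme.{u}) {X Y : AlgSp.Space S} (f : X ⟶ Y)
    (hqs : AlgSp.IsQuasiSeparatedMor f.hom) (hft : AlgSp.IsFiniteTypeMor f.hom) (hY : AlgSp.IsLocNoethSp Y.obj) :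
    AlgSp.IsProperMor f.hom ↔ ∀ sq : AlgSp.ValSq f.hom, IsDiscreteValuationRing sq.A → sq.HasLift ∧ sq.HasUniq := by
  refine ⟨fun h sq hsq => ⟨Groth.Agent.AlgSpB.Art.hasLift_of_isProperMor f h sq,
    (Groth.Agent.S10064.result S f hqs hft.1 hY).1 h.1 sq hsq⟩, fun h => ⟨?_, hft, ?_⟩⟩
  · exact (Groth.Agent.S10064.result S f hqs hft.1 hY).2 fun sq hsq => (h sq hsq).2
  · refine Groth.Agent.AlgSpB.Art.isUnivClosedMor_of_dvr_liftExt f hft hY fun sq hsq => ?_
    obtain ⟨l, hl1, hl2⟩ := (h sq hsq).1
    refine ⟨{ A' := sq.A, K' := sq.K, φ := RingHom.id _, ψ := RingHom.id _, comm := rfl,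
              isLocalHom := ⟨fun _ h => h⟩ }, ?_⟩
    have hid : Spec.map (CommRingCat.ofHom (RingHom.id sq.A)) = 𝟙 _ := Spec.map_id _
    let e : Over.mk (Spec.map (CommRingCat.ofHom (RingHom.id sq.A)) ≫ sq.str) ⟶ sq.ptA :=
      Over.homMk (Spec.map (CommRingCat.ofHom (RingHom.id sq.A))) rfl
    refine ⟨(AlgSp.yon S).map e ≫ l, ?_, ?_⟩
    · rw [← hl1, ← Functor.map_comp_assoc, ← Functor.map_comp_assoc]
      congr 2
      apply Over.OverMorphism.ext
      simp [e, AlgSp.ValSq.j]
    · rw [Category.assoc, hl2]

end Groth.Agent.S10065
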