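import Groth.Statements.S10066
import Groth.Agent.AlgSpB.GenEtCover.Main
import Groth.Agent.S10068
import Groth.Agent.AlgSpSpec.Approx

set_option autoImplicit false
set_option backward.isDefEq.respectTransparency false
set_option backward.isDefEq.respectTransparency.types false

universe u
open CategoryTheory CategoryTheory.Limits AlgebraicGeometry
open AlgSp

namespace Groth.Agent.S10066

/-- Let `X` be an algebraic space, quasi-compact and quasi-separated over the scheme `S`, whose space of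
points `|X|` has only finitely many irreducible components, and `V ⟶ X` a surjective etale morphism
from a scheme. Then there are a scheme `Y`, a finite surjective morphism `g : Y ⟶ X` of finite
presentation which is finite etale over some quasi-compact dense open subspace `U ⊂ X`, and for
every point of `Y` an open neighbourhood whose map to `X` factors through `V`. (Part (1) of the
published statement, the existence of such `Y ⟶ X` and `U`, is the case where `V` is an etale atlas
of `X`.) (The published statement allows any base scheme and uses absolute quasi-separatedness; this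
row assumes the base quasi-separated, over which quasi-separatedness relative to the base is the
absolute notion.) -/
theorem result (S : Scheme.{u}) [QuasiSeparatedSpace S]
    (X : AlgSp.Space S) (hXqc : AlgSp.IsQuasiCompactSp X.obj) (hXqs : AlgSp.IsQuasiSeparatedSp X.obj)
    (hirr : (irreducibleComponents (AlgSp.Points X.obj)).Finite)
    (V : Over S) (p : (AlgSp.yon S).obj V ⟶ X.obj) (hpe : AlgSp.RepWith @Etale p) (hps : AlgSp.RepWith @Surjective p) :
    ∃ (Y : Over S) (g : (AlgSp.yon S).obj Y ⟶ X.obj) (U : AlgSp.Space S) (j : U ⟶ X),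
      AlgSp.IsFiniteMor g ∧ AlgSp.IsSurjectiveMor g ∧ AlgSp.IsFinitePresentationMor g ∧
      AlgSp.RepWith @IsOpenImmersion j.hom ∧ AlgSp.IsQuasiCompactSp U.obj ∧ Dense (Set.range (AlgSp.Points.map j.hom)) ∧
      (∀ (P : AlgSp.Sp S) (fst : P ⟶ (AlgSp.yon S).obj Y) (snd : P ⟶ U.obj), IsPullback fst snd g j.hom →
        AlgSp.IsFiniteMor snd ∧ AlgSp.IsEtaleMor snd) ∧
      ∀ y : ↥Y.left, ∃ (W : Y.left.Opens), y ∈ W ∧
        ∃ k : Over.mk (W.ι ≫ Y.hom) ⟶ V, (AlgSp.yon S).map k ≫ p = (AlgSp.yon S).map (Over.homMk W.ι) ≫ g := by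
  obtain ⟨Y₀, g₀, W, j, hg₀, hg₀s, hj, hW, hjd, het, hl⟩ :=
    Groth.Agent.AlgSpB.GenEtCover.exists_cover X hXqc hXqs hirr p hpe hps
  let Ys : AlgSp.Space S := ⟨(yon S).obj Y₀, IsAlgSpace.yon_obj Y₀⟩
  let Ws : AlgSp.Space S := ⟨(yon S).obj W, IsAlgSpace.yon_obj W⟩
  have hjr : AlgSp.RepWith @IsOpenImmersion (ObjectProperty.homMk j : Ws ⟶ X).hom := hj
  obtain ⟨P₀, a₀, b₀, sq₀⟩ := Groth.Agent.AlgSpB.exists_pullback_yon hg₀.1 j
  obtain ⟨hbf, hbe⟩ := het _ _ _ sq₀
  have hP₀ : IsAlgSpace ((yon S).obj P₀) := IsAlgSpace.yon_obj P₀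
  have hbfin : AlgSp.IsFiniteMor ((yon S).map b₀) := (Groth.Agent.AlgSpD.isFiniteMor_iff _).2 hbf
  have hbfp : AlgSp.IsFinitePresentationMor ((yon S).map b₀) :=
    Groth.Agent.AlgSpSpec.isFinitePresentationMor_of_affine hP₀ Ws.property
      (Groth.Agent.AlgSp.repWith_mono (fun g (hg : IsFinite g) => (inferInstance : IsAffineHom g)) hbf)
      (Groth.Agent.AlgSp.repWith_mono (fun g (hg : Etale g) => (inferInstance : LocallyOfFinitePresentation g)) hbe)
  obtain ⟨I, _, hdir, _, D, t, c, hc, e, hD, hDa, ht, hcomp, hiso⟩ := Groth.Agent.S10068.result S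
    (X := Ys) (Y := X) (ObjectProperty.homMk g₀) ((Groth.Agent.AlgSpD.isIntegralMor_iff g₀).2 hg₀) hXqc hXqs
    Ws (ObjectProperty.homMk j) hjr (Groth.Agent.AlgSp.isQuasiCompactSp_yon W) _ _ _ sq₀ hbfin hbfp
  have : IsDirectedOrder I := hdir
  have hfa : ∀ i, RepWith @IsAffineHom (t.app i) := fun i => Groth.Agent.AlgSp.repWith_mono
    (fun g (hg : IsFinite g) => (inferInstance : IsAffineHom g))
    ((Groth.Agent.AlgSpD.isFiniteMor_iff _).1 (ht i).1)
  have hqcqs := fun i => Groth.Agent.AlgSpSpec.qcqs_of_affine (hD i) X.property (hfa i) hXqc hXqs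
  have hcomp' : ∀ i, c.π.app i ≫ t.app i = e.hom ≫ g₀ := fun i => by
    have := hcomp i
    rwa [← cancel_epi e.inv, e.inv_hom_id_assoc]
  obtain ⟨i, Y, ε, hY⟩ := Groth.Agent.AlgSpB.SchStage.exists_stage p hpe hD hDa (fun i => (hqcqs i).1)
    (fun i => (hqcqs i).2) t hc e (g₀ := g₀) hcomp' hl
  refine ⟨Y, ε.hom ≫ t.app i, Ws, ObjectProperty.homMk j, ?_, ?_, ?_, hjr,
    Groth.Agent.AlgSp.isQuasiCompactSp_yon W, ?_, ?_, fun y => ?_⟩
  · exact (Groth.Agent.AlgSpD.isFiniteMor_iff _).2
      ((MorphismProperty.cancel_left_of_respectsIso _ ε.hom _).2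
        ((Groth.Agent.AlgSpD.isFiniteMor_iff _).1 (ht i).1))
  · intro x
    obtain ⟨y, hy⟩ := (Groth.Agent.AlgSp.repWith_surjective_iff g₀ hg₀s.1).1 hg₀s x
    refine ⟨Points.map (e.inv ≫ c.π.app i ≫ ε.inv) y, ?_⟩
    rw [← Points.map_comp, Category.assoc, Category.assoc, ε.inv_hom_id_assoc]
    exact (congrArg (fun m => Points.map m y) (hcomp i)).trans hy
  · obtain ⟨h1, h2, h3⟩ := (ht i).2
    exact Groth.Agent.AlgSpSpec.isFinitePresentationMor_of_affine (IsAlgSpace.yon_obj Y) X.property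
      ((MorphismProperty.cancel_left_of_respectsIso _ ε.hom _).2 (hfa i))
      ((MorphismProperty.cancel_left_of_respectsIso _ ε.hom _).2
        (Groth.Agent.AlgSpCov.repWith_of_locP Groth.Agent.AlgSpCov.etaleLocal_locallyOfFinitePresentation
          (hD i) X.property (hfa i).1 h1))
  · refine hjd.mono ?_
    rintro _ ⟨w, rfl⟩
    exact ⟨Points.ofScheme W w, (Points.ofPt_eq_map_ofScheme j w).symm⟩
  · intro P fst snd sq
    have sqi : IsPullback (fst ≫ ε.hom) snd (t.app i) j := by
      refine sq.of_iso (Iso.refl _) ε (Iso.refl _) (Iso.refl _) ?_ ?_ ?_ ?_ <;> simp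
    let k : (yon S).obj P₀ ⟶ P := sqi.lift ((yon S).map a₀ ≫ e.inv ≫ c.π.app i) ((yon S).map b₀) (by
      rw [Category.assoc, Category.assoc, hcomp i]; exact sq₀.w)
    have : IsIso k := hiso i P _ snd sqi k (sqi.lift_fst _ _ _) (sqi.lift_snd _ _ _)
    have hk : snd = inv k ≫ (yon S).map b₀ := by rw [IsIso.eq_inv_comp]; exact sqi.lift_snd _ _ _
    rw [hk]
    refine ⟨(Groth.Agent.AlgSpD.isFiniteMor_iff _).2 ((MorphismProperty.cancel_left_of_respectsIso _ _ _).2 hbf),
      fun U φ hφ => (repWith_isMultiplicative (S := S) @Etale).comp_mem _ _ hφ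
        ((MorphismProperty.cancel_left_of_respectsIso _ _ _).2 hbe)⟩
  · obtain ⟨W', hy, k, hk⟩ := hY y
    exact ⟨W', hy, k, hk⟩

end Groth.Agent.S10066
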