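import Groth.Statements.S1007
import Groth.Agent.KFlat.DerivedLimit
import Groth.Agent.KFlat.QCohAcy


set_option autoImplicit false
universe u
open CategoryTheory CategoryTheory.Limits AlgebraicGeometry
attribute [local instance] HasDerivedCategory.standard
open Perf

namespace Groth.Agent.S1007

/-- Let X be a scheme and E an object of D(O_X) with quasi-coherent cohomology sheaves. Then the
canonical map from E to the derived limit of its truncations τ_{≥ -n}E is an isomorphism; concretely
(granted the countable product of the truncations exists in D(O_X), which holds): the map E ⟶ ∏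
τ_{≥-n}E with components the truncation morphisms, followed by 'identity minus transition', extends
to a distinguished triangle E ⟶ ∏ τ_{≥-n}E ⟶ ∏ τ_{≥-n}E ⟶ E[1]. -/
theorem result (X : Scheme.{u}) (E : DCoh.D X) (hE : DCoh.IsQCohD E)
    [HasProduct (fun n : ℕ => ((DerivedCategory.TStructure.t : CategoryTheory.Triangulated.TStructure (DCoh.D X)).truncGE (-(n : ℤ))).obj E)] :
    ∃ c : (∏ᶜ fun n : ℕ => ((DerivedCategory.TStructure.t : CategoryTheory.Triangulated.TStructure (DCoh.D X)).truncGE (-(n : ℤ))).obj E) ⟶ E⟦(1 : ℤ)⟧,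
      CategoryTheory.Pretriangulated.Triangle.mk
        (Pi.lift fun n : ℕ => ((DerivedCategory.TStructure.t : CategoryTheory.Triangulated.TStructure (DCoh.D X)).truncGEπ (-(n : ℤ))).app E)
        (Pi.lift fun n : ℕ => Pi.π (fun n : ℕ => ((DerivedCategory.TStructure.t : CategoryTheory.Triangulated.TStructure (DCoh.D X)).truncGE (-(n : ℤ))).obj E) n -
          Pi.π (fun n : ℕ => ((DerivedCategory.TStructure.t : CategoryTheory.Triangulated.TStructure (DCoh.D X)).truncGE (-(n : ℤ))).obj E) (n + 1) ≫
            ((DerivedCategory.TStructure.t : CategoryTheory.Triangulated.TStructure (DCoh.D X)).natTransTruncGEOfLE (-((n + 1 : ℕ) : ℤ)) (-(n : ℤ)) (Int.neg_le_neg (Int.ofNat_le.mpr (Nat.le_succ n)))).app E)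
        c ∈ CategoryTheory.Pretriangulated.distinguishedTriangles := by
  have hP : ∀ (U : X.affineOpens) (j : ℤ),
      Groth.Agent.KFlat.TruncHom.Acy (Groth.Agent.KFlat.QCohAcy.free U.1)
        ((DerivedCategory.homologyFunctor X.Modules j).obj E) := fun U j =>
    Groth.Agent.KFlat.QCohAcy.acy_free U.2 (Groth.Agent.KFlat.QCohAcy.good_of_qcoh _ (hE j))
  exact Groth.Agent.KFlat.DerivedLimit.exists_triangle (E := E)
    (P₀ := fun U : X.affineOpens => Groth.Agent.KFlat.QCohAcy.free U.1)
    (fun f h => Groth.Agent.KFlat.QCohAcy.eq_zero_of_free_comp f h) hP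

end Groth.Agent.S1007
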