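import Groth.Statements.S10070
import Groth.Agent.AlgSpB.Art.DVRSquare
import Groth.Agent.AlgSp.PointsMor

set_option autoImplicit false
set_option backward.isDefEq.respectTransparency false
set_option backward.isDefEq.respectTransparency.types false

universe u
open CategoryTheory CategoryTheory.Limits AlgebraicGeometry
open AlgSp

namespace Groth.Agent.S10070

/-- Let `h : U ⟶ X`, `f : X ⟶ Y` be morphisms of algebraic spaces over `S` with `Y` locally Noetherian,
`f` locally of finite type and quasi-separated, `h` of finite type and `|h|` with dense image. If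
every valuative test square for `h ≫ f` over a discrete valuation ring admits at most one dotted
arrow `Spec A ⟶ X` (compatible with `Spec K ⟶ U ⟶ X` and with `Spec A ⟶ Y`), then `f` is separated. -/
theorem result (S : Scheme.{u}) {U X Y : AlgSp.Space S} (h : U ⟶ X) (f : X ⟶ Y) (hY : AlgSp.IsLocNoethSp Y.obj)
    (hflt : AlgSp.LocP @LocallyOfFiniteType f.hom) (hfqs : AlgSp.IsQuasiSeparatedMor f.hom) (hh : AlgSp.IsFiniteTypeMor h.hom) (hdense : Dense (Set.range (AlgSp.Points.map h.hom)))
    (hval : ∀ sq : AlgSp.ValSq (h.hom ≫ f.hom), IsDiscreteValuationRing sq.A →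
      ∀ l l' : (AlgSp.yon S).obj sq.ptA ⟶ X.obj, (AlgSp.yon S).map sq.j ≫ l = sq.top ≫ h.hom ∧ l ≫ f.hom = sq.bot → (AlgSp.yon S).map sq.j ≫ l' = sq.top ≫ h.hom ∧ l' ≫ f.hom = sq.bot → l = l') :
    AlgSp.IsSeparatedMor f.hom := by
  refine Groth.Agent.AlgSpB.Art.isSeparatedMor_of_diag_charts f hfqs hflt hY
    fun V W g fst snd hV hN hg sqW hl hm hq => ?_
  have := hm
  have : CompactSpace W.left := QuasiCompact.compactSpace_of_compactSpace snd.left
  have hfe : AlgSp.RepWith @Etale fst := MorphismProperty.of_isPullback sqW.flip hg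
  have hQ := hh.2 (AlgSp.IsAlgSpace.yon_obj W) (Groth.Agent.AlgSp.isQuasiCompactSp_yon W) fst
    (pullback.fst h.hom fst) (pullback.snd h.hom fst) (IsPullback.of_hasPullback _ _)
  have := Groth.Agent.AlgSpB.compactSpace_points_of_isQuasiCompactSp hQ
  obtain ⟨T₀, a₀, ha₀, has₀⟩ := (Groth.Agent.AlgSp.isAlgSpace_pullback X.property U.property
    (AlgSp.IsAlgSpace.yon_obj W) h.hom fst).atlas
  obtain ⟨T, e, hT, ha, has⟩ := Groth.Agent.AlgSpB.exists_affine_chart_of_compactSpace ha₀ has₀
  generalize (AlgSp.yon S).map e ≫ a₀ = a at ha has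
  obtain ⟨tW, htW⟩ := (AlgSp.yon S).map_surjective (a ≫ pullback.snd h.hom fst)
  let aU := a ≫ pullback.fst h.hom fst
  have haU : AlgSp.RepWith @Etale aU := (AlgSp.RepWith @Etale : MorphismProperty (AlgSp.Sp S)).comp_mem _ _ ha
    (MorphismProperty.of_isPullback (IsPullback.of_hasPullback h.hom fst).flip hfe)
  have hwU : aU ≫ h.hom = (AlgSp.yon S).map tW ≫ fst := by
    rw [htW, Category.assoc, Category.assoc, pullback.condition]
  have : LocallyOfFiniteType tW.left := hh.1 aU fst tW haU hfe hwU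
  have : IsSeparated (snd.left ≫ terminal.from V.left) := inferInstance
  have : QuasiCompact (tW.left ≫ snd.left ≫ terminal.from V.left) := inferInstance
  have : QuasiCompact tW.left := QuasiCompact.of_comp tW.left (snd.left ≫ terminal.from V.left)
  have hd : DenseRange tW.left := by
    refine Dense.mono ?_ (hdense.preimage (Groth.Agent.AlgSpB.isOpenMap_ofPt hfe))
    rintro w ⟨z, hz⟩
    obtain ⟨p, hp1, hp2⟩ := Groth.Agent.AlgSpB.exists_of_isPullback (IsPullback.of_hasPullback h.hom fst).flip
      (AlgSp.Points.schemeHomeo W w) z (by rw [hz, AlgSp.Points.ofPt_eq_map_ofScheme]; rfl)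
    obtain ⟨t, rfl⟩ := Groth.Agent.AlgSpB.surjective_ofPt has p
    refine ⟨t, (AlgSp.Points.schemeHomeo W).injective ?_⟩
    rw [← hp1, AlgSp.Points.map_ofPt, ← htW]
    exact (Groth.Agent.AlgSpB.ofPt_map_comp tW (𝟙 _) t).symm.trans (by rw [Category.comp_id])
  refine UniversallyClosed.of_valuativeCriterion _
    (Groth.Agent.LimLib.DVR.existence_of_dense snd.left tW.left hd fun A _ _ _ x y hxy => ?_)
  refine Groth.Agent.AlgSpB.Art.exists_lift_of_uniq sqW A (x ≫ tW.left) y ((Category.assoc _ _ _).trans hxy)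
    fun str iK bot comm hiK l l' h1 h2 h3 h4 => ?_
  let xT : Over.mk (Spec.map (CommRingCat.ofHom (algebraMap A (FractionRing A))) ≫ str) ⟶ T :=
    Over.homMk x (by rw [← Over.w tW, ← Category.assoc, ← hiK, Over.w iK])
  have hxT : xT ≫ tW = iK := Over.OverMorphism.ext hiK.symm
  have htop : ((AlgSp.yon S).map xT ≫ aU) ≫ h.hom = (AlgSp.yon S).map iK ≫ fst := by
    rw [Category.assoc, hwU, ← Functor.map_comp_assoc, hxT]
  exact hval { A := A, K := FractionRing A, str := str, top := (AlgSp.yon S).map xT ≫ aU, bot := bot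
               comm := (Category.assoc _ _ _).symm.trans ((congrArg (fun k => k ≫ f.hom) htop).trans comm) }
    ‹IsDiscreteValuationRing A› l l' ⟨h1.trans htop.symm, h2⟩ ⟨h3.trans htop.symm, h4⟩

end Groth.Agent.S10070
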