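import Groth.Statements.S10071
import Groth.Agent.AlgSpB.Art.DVRRefinedMain
import Groth.Agent.AlgSp.LocPFin
import Groth.Agent.AlgSp.Diag
import Groth.Agent.AlgSp.QCMor
import Groth.Agent.AlgSpCov.LocPBasic
import Groth.Agent.AlgSpB.Bootstrap
import Mathlib.AlgebraicGeometry.ZariskisMainTheorem

set_option autoImplicit false
set_option backward.isDefEq.respectTransparency false
set_option backward.isDefEq.respectTransparency.types false

universe u
open CategoryTheory CategoryTheory.Limits AlgebraicGeometry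
open AlgSp

namespace Groth.Agent.S10071

open Groth.Agent

/-- Let `h : U ⟶ X`, `f : X ⟶ Y` be morphisms of algebraic spaces over `S` with `Y` locally Noetherian,
`f` and `h` of finite type, `f` quasi-separated and `|h|` with dense image. If every valuative test
square for `h ≫ f` over a discrete valuation ring admits exactly one dotted arrow `Spec A ⟶ X`
(compatible with `Spec K ⟶ U ⟶ X` and with `Spec A ⟶ Y`), then `f` is proper. -/
theorem result (S : Scheme.{u}) {U X Y : AlgSp.Space S} (h : U ⟶ X) (f : X ⟶ Y) (hY : AlgSp.IsLocNoethSp Y.obj)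
    (hft : AlgSp.IsFiniteTypeMor f.hom) (hfqs : AlgSp.IsQuasiSeparatedMor f.hom) (hh : AlgSp.IsFiniteTypeMor h.hom) (hdense : Dense (Set.range (AlgSp.Points.map h.hom)))
    (hval : ∀ sq : AlgSp.ValSq (h.hom ≫ f.hom), IsDiscreteValuationRing sq.A →
      ∃! l : (AlgSp.yon S).obj sq.ptA ⟶ X.obj, (AlgSp.yon S).map sq.j ≫ l = sq.top ≫ h.hom ∧ l ≫ f.hom = sq.bot) :
    AlgSp.IsProperMor f.hom := by
  have hlft := AlgSpCov.etaleLocal_locallyOfFiniteType.{u}
  have hfs : AlgSp.IsSeparatedMor f.hom := by
    have hXX := AlgSp.isAlgSpace_pullback Y.property X.property X.property f.hom f.hom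
    let XX : AlgSp.Space S := ⟨pullback f.hom f.hom, hXX⟩
    let Δ : X ⟶ XX := ObjectProperty.homMk (pullback.diagonal f.hom)
    obtain ⟨hΔr, hΔl, hΔm, -, -⟩ := AlgSp.diagonal_props X.property f.hom
    have hfst : AlgSp.LocP @LocallyOfFiniteType (pullback.fst f.hom f.hom) :=
      AlgSpCov.locP_baseChange hlft X.property Y.property (IsPullback.of_hasPullback f.hom f.hom).flip hft.1
    have hN : AlgSp.IsLocNoethSp XX.obj := AlgSp.isLocNoethSp_of_lft hXX X.property _ hfst
      (AlgSp.isLocNoethSp_of_lft X.property Y.property f.hom hft.1 hY)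
    have hΔft : AlgSp.IsFiniteTypeMor Δ.hom :=
      ⟨AlgSpCov.locP_of_repWith hlft hΔl, AlgSp.isQuasiCompactMor_of_repWith hXX hfqs⟩
    have : Mono Δ.hom := inferInstanceAs (Mono (pullback.diagonal f.hom))
    have huc := AlgSpB.Art.isUnivClosedMor_of_refined h Δ hN (AlgSpB.isSeparatedMor_of_mono _) hΔft hh hdense
      fun sq hsq => ?_
    · have hu := (AlgSp.repWith_universallyClosed_iff _ hΔr).2 huc
      refine ⟨hΔr, fun U V g fst snd sqd => ?_⟩
      have : UniversallyClosed snd.left := hu.2 g fst snd sqd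
      have : LocallyOfFiniteType snd.left := hΔl.2 g fst snd sqd
      have : Mono snd.left := hΔm.2 g fst snd sqd
      exact (IsClosedImmersion.iff_isProper_and_mono snd.left).2 ⟨⟨⟩, inferInstance⟩
    let bot := sq.bot
    let sq' : AlgSp.ValSq (h.hom ≫ f.hom) :=
      { A := sq.A, K := sq.K, str := sq.str, top := sq.top, bot := bot ≫ pullback.fst f.hom f.hom ≫ f.hom
        comm := by
          have e := congrArg (fun k => k ≫ pullback.fst f.hom f.hom ≫ f.hom) sq.comm
          simpa [Δ, bot] using e }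
    have e1 : (AlgSp.yon S).map sq.j ≫ bot ≫ pullback.fst f.hom f.hom = sq.top ≫ h.hom := by
      have e := congrArg (fun k => k ≫ pullback.fst f.hom f.hom) sq.comm
      simpa [Δ, bot] using e.symm
    have e2 : (AlgSp.yon S).map sq.j ≫ bot ≫ pullback.snd f.hom f.hom = sq.top ≫ h.hom := by
      have e := congrArg (fun k => k ≫ pullback.snd f.hom f.hom) sq.comm
      simpa [Δ, bot] using e.symm
    obtain ⟨l, -, hl⟩ := hval sq' hsq
    have h1 : bot ≫ pullback.fst f.hom f.hom = l := hl _ ⟨e1, Category.assoc _ _ _⟩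
    have h2 : bot ≫ pullback.snd f.hom f.hom = l := hl _ ⟨e2, by rw [Category.assoc, ← pullback.condition]⟩
    refine ⟨l, h1 ▸ e1, ?_⟩
    apply pullback.hom_ext
    · simp [Δ, ← h1]; rfl
    · simp [Δ, ← h2]; rfl
  exact ⟨hfs, hft, AlgSpB.Art.isUnivClosedMor_of_refined h f hY hfs hft hh hdense fun sq hsq =>
    (hval sq hsq).exists⟩

end Groth.Agent.S10071
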