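import Groth.Statements.S10072
import Groth.Agent.AlgSp.QCMor
import Groth.Agent.AlgSpB.Charts
import Groth.Agent.AlgSpB.Open
import Groth.Agent.LimLib.FPSystem
import Groth.Agent.LimTop.Basic
import Groth.Agent.AlgSpCov.Listed
import Mathlib.AlgebraicGeometry.Fiber

set_option autoImplicit false
set_option backward.isDefEq.respectTransparency false
set_option backward.isDefEq.respectTransparency.types false

universe u
open CategoryTheory CategoryTheory.Limits AlgebraicGeometry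
open AlgSp

namespace Groth.Agent.S10072

open Groth.Agent.AlgSpB (ofPt_map_comp surjective_ofPt exists_of_isPullback isOpenMap_ofPt)

/-- An affine etale chart through a given point. -/
theorem exists_chart {S : Scheme.{u}} {F : AlgSp.Sp S} (hF : AlgSp.IsAlgSpace F) (x : AlgSp.Points F) :
    ∃ (U : Over S) (p : (AlgSp.yon S).obj U ⟶ F) (u : ↥U.left), IsAffine U.left ∧ AlgSp.RepWith @Etale p ∧
      AlgSp.Points.ofPt p u = x := by
  obtain ⟨V, p, hp, hps⟩ := hF.atlas
  obtain ⟨v, hv⟩ := surjective_ofPt hps x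
  obtain ⟨_, ⟨O, hO, rfl⟩, hvO, -⟩ := V.left.isBasis_affineOpens.exists_subset_of_mem_open
    (Set.mem_univ v) isOpen_univ
  let U : Over S := Over.mk (Scheme.Opens.ι O ≫ V.hom)
  let j : U ⟶ V := Over.homMk (Scheme.Opens.ι O) rfl
  have : Etale j.left := inferInstanceAs (Etale (Scheme.Opens.ι O))
  exact ⟨U, (AlgSp.yon S).map j ≫ p, ⟨v, hvO⟩, hO, Groth.Agent.AlgSpB.repWith_etale_map_comp j hp,
    (ofPt_map_comp j p _).trans hv⟩

/-- Let `f : X ⟶ Y` be quasi-compact, `g : Z ⟶ Y` a morphism of algebraic spaces over `S`, `P = X ×_Y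
Z`, `z ∈ |Z|` and `T ⊂ |P|` closed with `z` not in the image of `T`. Then there are an affine etale
neighbourhood `(V, v) ⟶ (Z, z)`, an affine scheme `Z'` with `b : Z' ⟶ Y` locally of finite
presentation and `a : V ⟶ Z'` over `Y`, and for every fibre product `P' = X ×_Y Z'` a closed `T' ⊂
|P'|` whose image in `|Z'|` misses `a(v)` and which contains the image of the inverse image of `T`
in `|X ×_Y V|`. (The variant with `V` an open neighbourhood when `Z` is a scheme is not included.) -/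
theorem result (S : Scheme.{u}) {X Y Z : AlgSp.Space S} (f : X ⟶ Y) (g : Z ⟶ Y)
    (hf : AlgSp.IsQuasiCompactMor f.hom)
    (P : AlgSp.Sp S) (p₁ : P ⟶ X.obj) (p₂ : P ⟶ Z.obj) (hP : IsPullback p₁ p₂ f.hom g.hom)
    (z : AlgSp.Points Z.obj) (T : Set (AlgSp.Points P)) (hT : IsClosed T) (hz : z ∉ AlgSp.Points.map p₂ '' T) :
    ∃ (V : Over S) (_ : IsAffine V.left) (e : (AlgSp.yon S).obj V ⟶ Z.obj) (_ : AlgSp.RepWith @Etale e) (v : ↥V.left)
      (_ : AlgSp.Points.map e (AlgSp.Points.schemeEquiv V v) = z)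
      (Z' : Over S) (_ : IsAffine Z'.left) (b : (AlgSp.yon S).obj Z' ⟶ Y.obj) (_ : AlgSp.LocP @LocallyOfFinitePresentation b)
      (a : V ⟶ Z') (_ : (AlgSp.yon S).map a ≫ b = e ≫ g.hom),
      ∀ (P' : AlgSp.Sp S) (q₁ : P' ⟶ X.obj) (q₂ : P' ⟶ (AlgSp.yon S).obj Z'), IsPullback q₁ q₂ f.hom b →
        ∃ T' : Set (AlgSp.Points P'), IsClosed T' ∧
          AlgSp.Points.schemeEquiv Z' (a.left v) ∉ AlgSp.Points.map q₂ '' T' ∧
          ∀ (PV : AlgSp.Sp S) (r₁ : PV ⟶ X.obj) (r₂ : PV ⟶ (AlgSp.yon S).obj V), IsPullback r₁ r₂ f.hom (e ≫ g.hom) →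
            ∀ (κ₁ : PV ⟶ P) (κ₂ : PV ⟶ P'), κ₁ ≫ p₁ = r₁ → κ₁ ≫ p₂ = r₂ ≫ e → κ₂ ≫ q₁ = r₁ → κ₂ ≫ q₂ = r₂ ≫ (AlgSp.yon S).map a →
              ∀ w : AlgSp.Points PV, AlgSp.Points.map κ₁ w ∈ T → AlgSp.Points.map κ₂ w ∈ T' := by
  classical
  -- charts
  obtain ⟨W, pW, w, hWa, hpW, hw⟩ := exists_chart Y.property (Points.map g.hom z)
  let Q := pullback g.hom pW
  obtain ⟨zq, hzq, -⟩ := exists_of_isPullback (IsPullback.of_hasPullback g.hom pW) z (Points.ofScheme W w)
    (hw.symm.trans (Points.ofPt_eq_map_ofScheme pW w))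
  obtain ⟨V, pV, v, hVa, hpV, hv⟩ := exists_chart
    (Groth.Agent.AlgSp.isAlgSpace_pullback Y.property Z.property (IsAlgSpace.yon_obj W) g.hom pW) zq
  let e := pV ≫ pullback.fst g.hom pW
  have he : RepWith @Etale e :=
    MorphismProperty.comp_mem (RepWith @Etale) _ _ hpV (MorphismProperty.pullback_fst _ _ hpW)
  have hev : Points.map e (Points.schemeEquiv V v) = z := by
    change Points.map e (Points.ofScheme V v) = z
    rw [← Points.ofPt_eq_map_ofScheme, ← Points.map_ofPt, hv]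
    exact hzq
  obtain ⟨a₀, ha₀⟩ := (yon S).map_surjective (pV ≫ pullback.snd g.hom pW)
  have he' : (yon S).map a₀ ≫ pW = e ≫ g.hom := by
    rw [ha₀, Category.assoc, Category.assoc, pullback.condition]
  let PW := pullback f.hom pW
  have hPW : IsAlgSpace PW :=
    Groth.Agent.AlgSp.isAlgSpace_pullback Y.property X.property (IsAlgSpace.yon_obj W) f.hom pW
  have := Groth.Agent.AlgSp.compactSpace_points (hf (IsAlgSpace.yon_obj W)
    (Groth.Agent.AlgSp.isQuasiCompactSp_yon W) pW _ _ (IsPullback.of_hasPullback f.hom pW))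
  obtain ⟨A, pA, hpA, hpAs⟩ := hPW.atlas
  obtain ⟨U, jA, hUa, hrU, hrUs⟩ := Groth.Agent.AlgSpB.exists_affine_chart_of_compactSpace hpA hpAs
  let rU := (yon S).map jA ≫ pA
  obtain ⟨h, hh⟩ := (yon S).map_surjective (rU ≫ pullback.snd f.hom pW)
  -- the approximation
  obtain ⟨K⟩ := Groth.Agent.LimLib.nonempty_fpSystem a₀.left
  obtain ⟨hKc⟩ := K.isLimit_cone
  have : IsAffine K.cone.pt := hVa
  obtain ⟨k, hk⟩ := Scheme.exists_isAffine_of_isLimit K.sch K.cone hKc
  let g₀ := pullback.snd h.left (K.D.obj k).hom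
  let qY : pullback g₀ (K.cone.π.app k) ⟶ pullback h.left (K.D.obj k).hom := pullback.fst _ _
  let UV₀ := pullback g₀ (K.cone.π.app k)
  have hY : IsPullback qY (pullback.snd g₀ (K.cone.π.app k)) g₀ (K.cone.π.app k) := IsPullback.of_hasPullback _ _
  let F := Groth.Agent.LimLib.bcDiag K.sch k g₀
  let cU := Groth.Agent.LimLib.bcCone hY
  have hcU : IsLimit cU := Groth.Agent.LimLib.isLimitBcCone hKc hY
  have : IsAffineHom h.left := inferInstance
  have : QuasiCompact g₀ := inferInstance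
  have : ∀ {i j : Over k} (b : i ⟶ j), IsAffineHom (F.map b) := fun b => inferInstance
  let UV : Over S := Over.mk (pullback.snd g₀ (K.cone.π.app k) ≫ V.hom)
  let sV : UV ⟶ V := Over.homMk (pullback.snd g₀ (K.cone.π.app k))
  have hKW : ∀ j, K.cone.π.app j ≫ (K.D.obj j).hom = a₀.left := fun j => Over.w (K.π.app j)
  have hwU : (qY ≫ pullback.fst h.left (K.D.obj k).hom) ≫ h.left = sV.left ≫ a₀.left := by
    rw [Category.assoc, pullback.condition, ← Category.assoc, hY.w, Category.assoc, hKW]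
    rfl
  let sU : UV ⟶ U := Over.homMk (qY ≫ pullback.fst h.left (K.D.obj k).hom) (by
    change _ = sV.left ≫ V.hom
    rw [← Over.w h, ← Category.assoc, hwU, Category.assoc, Over.w a₀])
  have hsUV : sU ≫ h = sV ≫ a₀ := Over.OverMorphism.ext hwU
  let κ := hP.lift ((yon S).map sU ≫ rU ≫ pullback.fst f.hom pW) ((yon S).map sV ≫ e) (by
    simp only [Category.assoc]
    rw [pullback.condition, ← Category.assoc rU, ← hh, ← he', ← Functor.map_comp_assoc, hsUV,
      Functor.map_comp_assoc])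
  let E : Set cU.pt := Points.ofPt κ ⁻¹' T
  have hE : IsOpen Eᶜ := (Points.isOpen_iff.1 hT.isOpen_compl) UV κ
  have hFE : sV.left ⁻¹' {v} ⊆ Eᶜ := fun x hx hxE => hz ⟨_, hxE, by
    rw [Points.map_ofPt, hP.lift_snd, ofPt_map_comp, show sV.left x = v from hx,
      Points.ofPt_eq_map_ofScheme]
    exact hev⟩
  -- the fibre lies in an open of a stage
  have hcomp : IsCompact (sV.left ⁻¹' {v}) := by
    have : QuasiCompact sV.left := inferInstanceAs (QuasiCompact (pullback.snd g₀ (K.cone.π.app k)))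
    exact sV.left.isCompact_preimage_singleton v
  have hnh : ∀ x : {x // x ∈ sV.left ⁻¹' {v}}, ∃ (j : Over k) (O : (F.obj j).Opens),
      cU.π.app j x.1 ∈ O ∧ cU.π.app j ⁻¹' (O : Set (F.obj j)) ⊆ Eᶜ := fun x => by
    obtain ⟨j, -, O, -, hxO, hO⟩ := Groth.Agent.LimTop.exists_nhd hcU (Over.mk (𝟙 k)) hE (hFE x.2)
    exact ⟨j, O, hxO, hO⟩
  choose jx Ox hxO hO using hnh
  obtain ⟨t, ht⟩ := hcomp.elim_finite_subcover (fun x => (cU.π.app (jx x) ⁻¹' ((Ox x : (F.obj (jx x)).Opens) : Set (F.obj (jx x)))))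
    (fun x => (Ox x).2.preimage (cU.π.app (jx x)).continuous)
    (fun x hx => Set.mem_iUnion.2 ⟨⟨x, hx⟩, hxO ⟨x, hx⟩⟩)
  obtain ⟨j, hj⟩ := IsCofiltered.inf_objs_exists (insert (Over.mk (𝟙 k)) (t.image jx))
  have φ : ∀ x ∈ t, j ⟶ jx x := fun x hx => (hj (Finset.mem_insert_of_mem (Finset.mem_image_of_mem _ hx))).some
  let O : (F.obj j).Opens := ⨆ x : {x // x ∈ t}, F.map (φ x.1 x.2) ⁻¹ᵁ Ox x.1
  have hπ : ∀ {i : Over k} (b : j ⟶ i) (x : cU.pt), F.map b (cU.π.app j x) = cU.π.app i x := fun b x =>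
    (Groth.Agent.LimTop.π_apply cU b x :)
  have hOF : ∀ x ∈ sV.left ⁻¹' {v}, cU.π.app j x ∈ O := fun x hx => by
    obtain ⟨y, hy, hxy⟩ := Set.mem_iUnion₂.1 (ht hx)
    refine TopologicalSpace.Opens.mem_iSup.2 ⟨⟨y, hy⟩, ?_⟩
    change F.map (φ y hy) (cU.π.app j x) ∈ Ox y
    rw [hπ]
    exact hxy
  have hOE : ∀ x, cU.π.app j x ∈ O → x ∉ E := fun x hx => by
    obtain ⟨y, hy⟩ := TopologicalSpace.Opens.mem_iSup.1 hx
    refine hO y.1 (?_ : cU.π.app (jx y.1) x ∈ Ox y.1)
    rw [← hπ (φ y.1 y.2)]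
    exact hy
  -- the model
  have hja : IsAffine (K.sch.obj j.left) := @isAffine_of_isAffineHom _ _ (K.sch.map j.hom) inferInstance hk
  let Z' : Over S := Over.mk ((K.D.obj j.left).hom ≫ W.hom)
  let zW : Z' ⟶ W := Over.homMk (K.D.obj j.left).hom
  let a : V ⟶ Z' := Over.homMk (K.cone.π.app j.left) (by
    change K.cone.π.app j.left ≫ (K.D.obj j.left).hom ≫ W.hom = V.hom
    rw [← Category.assoc, hKW, Over.w a₀])
  let Uj : Over S := Over.mk ((pullback.snd g₀ (K.sch.map j.hom)) ≫ Z'.hom)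
  let sZ : Uj ⟶ Z' := Over.homMk (pullback.snd g₀ (K.sch.map j.hom))
  have hsZ : IsPullback (pullback.fst g₀ (K.sch.map j.hom) ≫ pullback.fst h.left (K.D.obj k).hom) sZ.left
      h.left zW.left := by
    have := (IsPullback.of_hasPullback g₀ (K.sch.map j.hom)).paste_horiz
      (IsPullback.of_hasPullback h.left (K.D.obj k).hom)
    have e' : K.sch.map j.hom ≫ (K.D.obj k).hom = zW.left := Over.w (K.D.map j.hom)
    rw [e'] at this
    exact this
  let sUj : Uj ⟶ U := Over.homMk (pullback.fst g₀ (K.sch.map j.hom) ≫ pullback.fst h.left (K.D.obj k).hom) (by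
    change _ = sZ.left ≫ zW.left ≫ W.hom
    rw [← Over.w h, ← Category.assoc, hsZ.w, Category.assoc])
  have sqU : IsPullback sUj sZ h zW := IsPullback.of_map (Over.forget S) (Over.OverMorphism.ext hsZ.w) hsZ
  let πj : UV ⟶ Uj := Over.homMk (cU.π.app j) (by
    change cU.π.app j ≫ pullback.snd g₀ (K.sch.map j.hom) ≫ (K.D.obj j.left).hom ≫ W.hom = sV.left ≫ V.hom
    exact ((Category.assoc _ _ _).symm.trans
      (congrArg (· ≫ (K.D.obj j.left).hom ≫ W.hom) (Groth.Agent.LimLib.isPullback_bcCone hY j).w)).trans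
      ((Category.assoc _ _ _).trans (congrArg (sV.left ≫ ·) (Over.w a))))
  have sqV : IsPullback πj sV sZ a :=
    IsPullback.of_map (Over.forget S) (Over.OverMorphism.ext (Groth.Agent.LimLib.isPullback_bcCone hY j).w)
      (Groth.Agent.LimLib.isPullback_bcCone hY j)
  have hb : RepWith @LocallyOfFinitePresentation ((yon S).map zW ≫ pW) :=
    MorphismProperty.comp_mem (RepWith @LocallyOfFinitePresentation) _ _
      ((repWith_yon_map_iff _ zW).2 (K.lfp j.left))
      (Groth.Agent.AlgSp.repWith_mono (fun g (hg : Etale g) => (inferInstance : LocallyOfFinitePresentation g)) hpW)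
  have hab : (yon S).map a ≫ (yon S).map zW ≫ pW = e ≫ g.hom := by
    rw [← Functor.map_comp_assoc, ← he']
    congr 2
    exact Over.OverMorphism.ext (hKW j.left)
  refine ⟨V, hVa, e, he, v, hev, Z', hja, _,
    AlgSpCov.locP_of_repWith AlgSpCov.etaleLocal_locallyOfFinitePresentation hb, a, hab, ?_⟩
  intro P' q₁ q₂ sq'
  -- the chart of the base change
  let k' : P' ⟶ PW := pullback.lift q₁ (q₂ ≫ (yon S).map zW) (by rw [Category.assoc]; exact sq'.w)
  have sqP : IsPullback k' q₂ (pullback.snd f.hom pW) ((yon S).map zW) :=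
    IsPullback.of_right (by rw [pullback.lift_fst]; exact sq') (pullback.lift_snd _ _ _)
      (IsPullback.of_hasPullback f.hom pW)
  have sqU' := sqU.map (yon S)
  rw [hh] at sqU'
  let π' : (yon S).obj Uj ⟶ P' := sqP.lift ((yon S).map sUj ≫ rU) ((yon S).map sZ)
    (by rw [Category.assoc]; exact sqU'.w)
  have sqπ : IsPullback ((yon S).map sUj) π' rU k' :=
    IsPullback.of_bot (by rw [sqP.lift_snd]; exact sqU') (sqP.lift_fst _ _ _).symm sqP
  have hπ'e : RepWith @Etale π' := MorphismProperty.of_isPullback sqπ hrU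
  have hπ's : RepWith @Surjective π' := MorphismProperty.of_isPullback sqπ hrUs
  refine ⟨(Points.ofPt π' '' (O : Set (F.obj j)))ᶜ, (isOpenMap_ofPt hπ'e _ O.2).isClosed_compl, ?_, ?_⟩
  · rintro ⟨x', hx', hx'v⟩
    obtain ⟨uj, rfl⟩ := surjective_ofPt hπ's x'
    rw [Points.map_ofPt, sqP.lift_snd] at hx'v
    have huj : sZ.left uj = a.left v := by
      rw [← Points.toScheme_ofPt sZ uj, hx'v]
      exact Points.toScheme_ofScheme _ _
    obtain ⟨u, hu1, hu2⟩ := Scheme.exists_preimage_of_isPullback (sqV.map (Over.forget S)) uj v huj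
    exact hx' ⟨uj, hu1 ▸ hOF u hu2, rfl⟩
  · intro PV r₁ r₂ sqPV κ₁ κ₂ h11 h12 h21 h22 x hx
    rintro ⟨uj, hujO, huj⟩
    have sqPV' : IsPullback κ₂ r₂ q₂ ((yon S).map a) := by
      refine IsPullback.of_right ?_ h22 sq'
      rw [h21, hab]
      exact sqPV
    have sqV' := sqV.map (yon S)
    rw [← show π' ≫ q₂ = (yon S).map sZ from sqP.lift_snd _ _ _] at sqV'
    let πV : (yon S).obj UV ⟶ PV := sqPV'.lift ((yon S).map πj ≫ π') ((yon S).map sV)
      (by rw [Category.assoc]; exact sqV'.w)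
    have sqπV : IsPullback ((yon S).map πj) πV π' κ₂ :=
      IsPullback.of_bot (by rw [sqPV'.lift_snd]; exact sqV') (sqPV'.lift_fst _ _ _).symm sqPV'
    obtain ⟨u, hu1, hu2⟩ := exists_of_isPullback sqπV (Points.ofScheme Uj uj) x
      ((Points.ofPt_eq_map_ofScheme π' uj).symm.trans huj)
    rw [← Points.ofScheme_toScheme UV u, ← Points.ofPt_eq_map_ofScheme] at hu1 hu2
    have e1 : πj.left (Points.toScheme UV u) = uj := by
      rw [← Points.toScheme_ofPt, hu1]
      exact Points.toScheme_ofScheme _ _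
    have hκ : πV ≫ κ₁ = κ := by
      refine hP.hom_ext ?_ ?_
      · rw [Category.assoc, h11, ← h21, ← Category.assoc, sqPV'.lift_fst, Category.assoc, hP.lift_fst]
        have e4 : π' ≫ q₁ = (yon S).map sUj ≫ rU ≫ pullback.fst f.hom pW := by
          rw [← show k' ≫ pullback.fst f.hom pW = q₁ from pullback.lift_fst _ _ _, ← Category.assoc,
            ← sqπ.w, Category.assoc]
        rw [e4, ← Functor.map_comp_assoc]
        congr 2
        refine Over.OverMorphism.ext ?_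
        change cU.π.app j ≫ pullback.fst g₀ (K.sch.map j.hom) ≫ _ = qY ≫ _
        rw [← Category.assoc]
        exact congrArg (· ≫ pullback.fst h.left (K.D.obj k).hom) (pullback.lift_fst _ _ _)
      · rw [Category.assoc, h12, ← Category.assoc, sqPV'.lift_snd, hP.lift_snd]
    refine hOE _ (show πj.left (Points.toScheme UV u) ∈ O from e1.symm ▸ hujO) ?_
    change Points.ofPt κ _ ∈ T
    rw [← hκ, ← Points.map_ofPt, hu2]
    exact hx

end Groth.Agent.S10072
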