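import Groth.Statements.S10073
import Groth.Agent.AlgSpB.LimClosedSys
import Groth.Agent.AlgSp.LimImm
import Groth.Agent.AlgSp.IdealRep
import Mathlib.AlgebraicGeometry.AffineTransitionLimit

set_option autoImplicit false
set_option backward.isDefEq.respectTransparency false
set_option backward.isDefEq.respectTransparency.types false

universe u
open CategoryTheory CategoryTheory.Limits AlgebraicGeometry
open AlgSp

namespace Groth.Agent.S10073

open Groth.Agent.AlgSp (LimSp.sys LimImm.isPullback_stage)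
open Groth.Agent.AlgSp.CartierDesc (subOver subι)

set_option maxHeartbeats 1000000 in
/-- Let `B = lim B_i` be a cofiltered limit (in fppf sheaves over `S`) of Noetherian algebraic spaces
(quasi-compact and quasi-separated over `S`, locally Noetherian) whose transition maps are affine,
`X ⟶ B` quasi-separated of finite type, and `X ⟶ W` over `B ⟶ B_i` with `W ⟶ B_i` of finite type and
`X ⟶ B ×_{B_i} W` a closed immersion. For `i'` over `i` write `X_{i'}` for the scheme-theoretic
image of `X` in `B_{i'} ×_{B_i} W`, with the induced transition maps. Then `X = lim_{i'} X_{i'}`: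
the cone of maps `X ⟶ X_{i'}` is a limit cone. (The published statement allows any base scheme and
uses absolute quasi-separatedness; this row assumes the base quasi-separated, over which
quasi-separatedness relative to the base is the absolute notion.) -/
theorem result (S : Scheme.{u}) [QuasiSeparatedSpace S] {I : Type u} [SmallCategory I] [IsCofiltered I]
    (D : I ⥤ AlgSp.Sp S) (hD : ∀ i, AlgSp.IsAlgSpace (D.obj i))
    (hDa : ∀ (i j : I) (φ : i ⟶ j), AlgSp.IsAffineMor (D.map φ))
    (hqc : ∀ i, AlgSp.IsQuasiCompactSp (D.obj i)) (hqs : ∀ i, AlgSp.IsQuasiSeparatedSp (D.obj i))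
    (c : Cone D) (hc : IsLimit c)
    (hln : ∀ i, AlgSp.IsLocNoethSp (D.obj i))
    (X : AlgSp.Space S) (a : X.obj ⟶ c.pt) (hXqs : AlgSp.IsQuasiSeparatedMor a) (hXft : AlgSp.IsFiniteTypeMor a)
    (i : I) (W : AlgSp.Space S) (w : W.obj ⟶ D.obj i) (hw : AlgSp.IsFiniteTypeMor w) (b : X.obj ⟶ W.obj)
    (hb : b ≫ w = a ≫ c.π.app i)
    (hci : ∀ (P : AlgSp.Sp S) (fst : P ⟶ c.pt) (snd : P ⟶ W.obj), IsPullback fst snd (c.π.app i) w →
      ∀ k : X.obj ⟶ P, k ≫ fst = a → k ≫ snd = b → AlgSp.RepWith @IsClosedImmersion k)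
    (DP : Over i ⥤ AlgSp.Sp S) (π₁ : DP ⟶ Over.forget i ⋙ D) (π₂ : DP ⟶ (Functor.const (Over i)).obj W.obj)
    (hDP : ∀ i' : Over i, IsPullback (π₁.app i') (π₂.app i') (D.map i'.hom) w)
    (DX : Over i ⥤ AlgSp.Sp S) (hDX : ∀ i', AlgSp.IsAlgSpace (DX.obj i')) (ε : DX ⟶ DP)
    (ξ : (Functor.const (Over i)).obj X.obj ⟶ DX)
    (hξ : ∀ i' : Over i, ξ.app i' ≫ ε.app i' ≫ π₁.app i' = a ≫ c.π.app i'.left ∧ ξ.app i' ≫ ε.app i' ≫ π₂.app i' = b)
    (himg : ∀ i' : Over i, AlgSp.IsSchImage (ξ.app i' ≫ ε.app i') (ε.app i')) :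
    Nonempty (IsLimit (Cone.mk X.obj ξ)) := by
  let P := pullback (c.π.app i) w
  let pP : (Functor.const (Over i)).obj P ⟶ DP :=
    { app := fun j => (hDP j).lift (pullback.fst _ _ ≫ c.π.app j.left) (pullback.snd _ _)
        (by rw [Category.assoc, c.w]; exact pullback.condition)
      naturality := fun j k φ => by
        refine (hDP k).hom_ext ?_ ?_
        · have e := π₁.naturality φ
          dsimp at e ⊢
          rw [Category.id_comp, IsPullback.lift_fst, Category.assoc, e, IsPullback.lift_fst_assoc, Category.assoc,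
            c.w]
        · have e := π₂.naturality φ
          dsimp at e ⊢
          rw [Category.id_comp, IsPullback.lift_snd, Category.assoc, e, Category.comp_id, IsPullback.lift_snd] }
  let c' : Cone DP := Cone.mk P pP
  have hcD : IsLimit (c.whisker (Over.forget i)) := (Functor.Initial.isLimitWhiskerEquiv _ c).symm hc
  let top : Over i := Over.mk (𝟙 i)
  have hex : ∀ s : Cone DP, ∃ l : s.pt ⟶ P, (∀ j, l ≫ pP.app j = s.π.app j) ∧
      ∀ l' : s.pt ⟶ P, (∀ j, l' ≫ pP.app j = s.π.app j) → l' = l := by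
    intro s
    let s₁ : Cone (Over.forget i ⋙ D) := (Cone.postcompose π₁).obj s
    let l₂ := s.π.app top ≫ π₂.app top
    have hl₂ : ∀ j, s.π.app j ≫ π₂.app j = l₂ := fun j => by
      have e := π₂.naturality (Over.homMk j.hom : j ⟶ top)
      dsimp at e
      rw [Category.comp_id] at e
      dsimp only [l₂]
      rw [← s.w (Over.homMk j.hom : j ⟶ top), Category.assoc]
      exact (congrArg (s.π.app j ≫ ·) e).symm
    have hl₁ : hcD.lift s₁ ≫ c.π.app i = l₂ ≫ w := by
      refine (hcD.fac s₁ top).trans ?_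
      have h0 : π₁.app top = π₂.app top ≫ w := by
        refine (Category.comp_id _).symm.trans (Eq.trans ?_ (hDP top).w)
        exact congrArg (π₁.app top ≫ ·) (D.map_id i).symm
      change s.π.app top ≫ π₁.app top = _
      rw [h0, ← Category.assoc]
    refine ⟨pullback.lift _ _ hl₁, fun j => (hDP j).hom_ext ?_ ?_, fun l' hl' => pullback.hom_ext ?_ ?_⟩
    · rw [Category.assoc, IsPullback.lift_fst, pullback.lift_fst_assoc]
      exact hcD.fac s₁ j
    · rw [Category.assoc, IsPullback.lift_snd, pullback.lift_snd]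
      exact (hl₂ j).symm
    · rw [pullback.lift_fst]
      refine hcD.hom_ext fun j => ?_
      rw [hcD.fac s₁ j]
      change (l' ≫ pullback.fst _ _) ≫ c.π.app j.left = s.π.app j ≫ π₁.app j
      rw [← hl' j, Category.assoc, Category.assoc, IsPullback.lift_fst]
    · rw [pullback.lift_snd, ← hl₂ top, ← hl' top, Category.assoc, IsPullback.lift_snd]
  choose lift hlift huniq using hex
  have hc' : IsLimit c' := { lift := lift, fac := hlift, uniq := huniq }
  have hDPa : ∀ j k (φ : j ⟶ k), IsAffineMor (DP.map φ) := by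
    intro j k φ
    have e2 := π₂.naturality φ
    dsimp at e2
    rw [Category.comp_id] at e2
    have e1 := π₁.naturality φ
    dsimp at e1
    have sqφ : IsPullback (π₁.app j) (DP.map φ) (D.map φ.left) (π₁.app k) := by
      refine IsPullback.of_bot (v₂₁ := π₂.app k) (v₂₂ := D.map k.hom) ?_ e1.symm (hDP k)
      rw [e2, ← D.map_comp, Over.w φ]
      exact hDP j
    exact (Groth.Agent.AlgSp.isAffineMor_iff _).2 (MorphismProperty.of_isPullback sqφ
      ((Groth.Agent.AlgSp.isAffineMor_iff _).1 (hDa _ _ φ.left)))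
  have hDPs : ∀ j, IsAlgSpace (DP.obj j) := fun j =>
    Groth.Agent.AlgSp.isAlgSpace_of_isPullback' (hD i) (hD j.left) W.property (hDP j)
  let kX : X.obj ⟶ P := pullback.lift a b hb.symm
  have hkX : RepWith @IsClosedImmersion kX :=
    hci P _ _ (IsPullback.of_hasPullback _ _) kX (pullback.lift_fst _ _ _) (pullback.lift_snd _ _ _)
  have hk : ∀ j, ξ.app j ≫ ε.app j = kX ≫ pP.app j := fun j => (hDP j).hom_ext
    (by rw [Category.assoc, Category.assoc, (hξ j).1, IsPullback.lift_fst, pullback.lift_fst_assoc])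
    (by rw [Category.assoc, Category.assoc, (hξ j).2, IsPullback.lift_snd, pullback.lift_snd])
  refine Groth.Agent.AlgSpB.LimClosedSys.nonempty_isLimit (D := DP) (c := c') hDPs hDPa hc' kX hkX ε
    (fun j => (himg j).1) ξ hk ?_
  intro i₀ U g hg hU L l q hL hq hqs hl sq _ _ K fstK sqK f hf
  obtain ⟨hL⟩ := hL
  let F := LimSp.sys hDPa g ⋙ Over.forget S
  have : ∀ {a b : Over i₀} (φ : a ⟶ b), IsAffineHom (F.map φ) := fun φ =>
    Groth.Agent.AlgSp.LimSp.isAffineHom_sys hDPa g φ
  have : ∀ j, CompactSpace (F.obj j) := fun j => inferInstanceAs (CompactSpace ((LimSp.sys hDPa g).obj j).left)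
  have : ∀ j, QuasiSeparatedSpace (F.obj j) := fun j =>
    inferInstanceAs (QuasiSeparatedSpace ((LimSp.sys hDPa g).obj j).left)
  obtain ⟨j, f', hf'⟩ : ∃ (j : Over i₀) (f' : Γ(((LimSp.sys hDPa g).obj j).left, ⊤)),
      f = (L.π.app j).left.appTop f' := exists_appTop_π_eq_of_isLimit F _ hL f
  let fst := (Groth.Agent.AlgSp.LimSp.sysFst hDPa g).app j
  have hfst : RepWith @Etale fst :=
    MorphismProperty.of_isPullback ((Groth.Agent.AlgSp.LimSp.repWith_map hDPa j.hom).1.isPullback g).flip hg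
  obtain ⟨K', fst', sq'⟩ := Groth.Agent.AlgSp.CartierDesc.exists_ideal (himg j.left).1 fst
  refine ⟨j, K', fst', f', sq', ?_, hf'.symm⟩
  let φ := ξ.app j.left ≫ ε.app j.left
  have hφ : RepWith @IsAffineHom φ := by
    dsimp only [φ]
    rw [hk]
    exact MorphismProperty.comp_mem (RepWith @IsAffineHom) _ _
      (Groth.Agent.AlgSp.repWith_mono (fun g (hg : IsClosedImmersion g) => (inferInstance : IsAffineHom g)) hkX)
      ((Groth.Agent.AlgSp.isAffineMor_iff _).1 (Groth.Agent.AlgSp.LimSp.isAffineMor_π hDPa c' hc' j.left))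
  have hφq : RepWith @QuasiCompact φ :=
    Groth.Agent.AlgSp.repWith_mono (fun g (hg : IsAffineHom g) => (inferInstance : QuasiCompact g)) hφ
  obtain ⟨hi', hI⟩ := Groth.Agent.AlgSp.IdealRep.isCutOutBy_of_isSchImage X.property (hDPs _) hφ.1 hφq (himg j.left)
  let E : EtOver (DP.obj j.left) := EtOver.mk fst hfst
  have hE : IsAffine E.obj.left.left := inferInstanceAs (IsAffine ((LimSp.sys hDPa g).obj j).left)
  rw [Groth.Agent.AlgSp.IdealEtLib.ideal_top_eq hi' E hE sq', hI]
  have sqk := LimImm.isPullback_stage hDPa hqs hl sq j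
  have sqj : IsPullback fstK ((yon S).map (subι L.pt K ≫ L.π.app j)) φ fst := by
    dsimp only [φ]
    rw [hk, Functor.map_comp]
    exact sqK.paste_vert sqk
  obtain ⟨r, hr⟩ := (yon S).map_surjective (sqj.lift _ _ (hφ.1.w fst))
  have hrm : r ≫ subι L.pt K ≫ L.π.app j = EtOver.bcπ hφ.1 E :=
    (yon S).map_injective (by rw [Functor.map_comp, hr, sqj.lift_snd])
  change (EtOver.bcπ hφ.1 E).left.appTop.hom f' = 0
  rw [← hrm, Over.comp_left, Over.comp_left, Scheme.Hom.comp_appTop, Scheme.Hom.comp_appTop,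
    CategoryTheory.comp_apply, CategoryTheory.comp_apply]
  have h0 : K.subschemeι.appTop f = 0 :=
    RingHom.mem_ker.1 ((K.ker_subschemeι_app ⟨⊤, isAffineOpen_top _⟩).ge hf)
  exact (congrArg _ ((congrArg _ hf'.symm).trans h0)).trans (map_zero _)

end Groth.Agent.S10073
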