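import Groth.Statements.S10074
import Groth.Agent.S10073
import Groth.Agent.AlgSp.LimLPSp
import Groth.Agent.AlgSp.LimMono
import Groth.Agent.AlgSp.LocPFin
import Groth.Agent.AlgSp.QCMor
import Groth.Agent.AlgSp.LimAffine

set_option autoImplicit false
set_option backward.isDefEq.respectTransparency false
set_option backward.isDefEq.respectTransparency.types false

universe u
open CategoryTheory CategoryTheory.Limits AlgebraicGeometry
open AlgSp

namespace Groth.Agent.S10074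

open Groth.Agent.AlgSpB

attribute [local instance] CategoryTheory.isConnected_of_hasTerminal

/-- A map into a closed subspace is affine if it is so into the ambient space. -/
theorem affine_cancel_mono {S : Scheme.{u}} {F G H : Sp S} (f : F ⟶ G) (g : G ⟶ H) [Mono g]
    (h : RepWith @IsAffineHom (f ≫ g)) : RepWith @IsAffineHom f := by
  refine MorphismProperty.of_isPullback (P := RepWith @IsAffineHom) (f' := 𝟙 F) (f := g) (g := f ≫ g) ?_ h
  exact IsPullback.of_isLimit' ⟨by simp⟩ (PullbackCone.IsLimit.mk _ (fun s => s.fst)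
    (fun s => Category.comp_id _) (fun s => (cancel_mono g).1 (by simpa using s.condition))
    (fun s m h1 _ => by simpa using h1))

/-- The source of an affine morphism to a quasi-compact quasi-separated space is one. -/
theorem qcqs_of_affine {S : Scheme.{u}} {F G : Sp S} (hF : IsAlgSpace F) (hG : IsAlgSpace G) (f : F ⟶ G)
    (hf : RepWith @IsAffineHom f) (hc : IsQuasiCompactSp G) (hs : IsQuasiSeparatedSp G) :
    IsQuasiCompactSp F ∧ IsQuasiSeparatedSp F :=
  ⟨Groth.Agent.AlgSp.isQuasiCompactMor_of_repWith hG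
      (Groth.Agent.AlgSp.repWith_mono (fun g hg => (have : IsAffineHom g := hg; inferInstance : QuasiCompact g)) hf)
      hG hc (𝟙 G) (𝟙 F) f (IsPullback.of_horiz_isIso ⟨by simp⟩),
    Groth.Agent.AlgSp.LimAffine.isQuasiSeparatedSp_of_mor f (Groth.Agent.AlgSp.repWith_mono
      (fun g hg => (have : IsClosedImmersion g := hg; inferInstance : QuasiCompact g))
      (Groth.Agent.AlgSp.LimMono.diagonal_of_isAffineMor hF ((Groth.Agent.AlgSp.isAffineMor_iff f).2 hf))) hs⟩

/-- Let `B = lim B_i` be a cofiltered limit (in fppf sheaves over `S`) of Noetherian algebraic spaces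
(quasi-compact and quasi-separated over `S`, locally Noetherian) whose transition maps are affine,
`f : X ⟶ Y` a morphism over `B` between algebraic spaces each of finite type and quasi-separated
over `B`, and `X ⟶ W` over `B_{i₁}`, `Y ⟶ V` over `B_{i₂}` good diagrams (`W ⟶ B_{i₁}` and `V ⟶
B_{i₂}` of finite presentation, `X ⟶ B ×_{B_{i₁}} W` and `Y ⟶ B ×_{B_{i₂}} V` closed immersions)
with their systems of scheme-theoretic images `(X_i)`, `(Y_i)`. Then for some `i₀` over `i₁`, `i₂`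
there is a morphism of systems `(f_i : X_i ⟶ Y_i)_{i ≥ i₀}` over `(B_i)` with `f = lim f_i`
(compatible with `X ⟶ X_i`, `Y ⟶ Y_i`), and any two such families agree for all `i` over some index.
(The published statement takes `W` and `V` only of finite type over `B_{i₁}`, `B_{i₂}`; this row
takes them of finite presentation, which its proof uses.) (The published statement allows any base
scheme and uses absolute quasi-separatedness; this row assumes the base quasi-separated, over which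
quasi-separatedness relative to the base is the absolute notion.) -/
theorem result (S : Scheme.{u}) [QuasiSeparatedSpace S] {I : Type u} [SmallCategory I] [IsCofiltered I]
    (D : I ⥤ AlgSp.Sp S) (hD : ∀ i, AlgSp.IsAlgSpace (D.obj i))
    (hDa : ∀ (i j : I) (φ : i ⟶ j), AlgSp.IsAffineMor (D.map φ))
    (hqc : ∀ i, AlgSp.IsQuasiCompactSp (D.obj i)) (hqs : ∀ i, AlgSp.IsQuasiSeparatedSp (D.obj i))
    (c : Cone D) (hc : IsLimit c)
    (hln : ∀ i, AlgSp.IsLocNoethSp (D.obj i))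
    (X Y : AlgSp.Space S) (aX : X.obj ⟶ c.pt) (aY : Y.obj ⟶ c.pt) (f : X.obj ⟶ Y.obj) (hf : f ≫ aY = aX)
    (hXqs : AlgSp.IsQuasiSeparatedMor aX) (hXft : AlgSp.IsFiniteTypeMor aX)
    (hYqs : AlgSp.IsQuasiSeparatedMor aY) (hYft : AlgSp.IsFiniteTypeMor aY)
    (i₁ : I) (W : AlgSp.Space S) (w : W.obj ⟶ D.obj i₁) (hw : AlgSp.IsFinitePresentationMor w) (bX : X.obj ⟶ W.obj)
    (hbX : bX ≫ w = aX ≫ c.π.app i₁)
    (hciX : ∀ (P : AlgSp.Sp S) (fst : P ⟶ c.pt) (snd : P ⟶ W.obj), IsPullback fst snd (c.π.app i₁) w →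
      ∀ k : X.obj ⟶ P, k ≫ fst = aX → k ≫ snd = bX → AlgSp.RepWith @IsClosedImmersion k)
    (PX : Over i₁ ⥤ AlgSp.Sp S) (PXπ₁ : PX ⟶ Over.forget i₁ ⋙ D) (PXπ₂ : PX ⟶ (Functor.const (Over i₁)).obj W.obj)
    (hPX : ∀ i' : Over i₁, IsPullback (PXπ₁.app i') (PXπ₂.app i') (D.map i'.hom) w)
    (DX : Over i₁ ⥤ AlgSp.Sp S) (hDX : ∀ i', AlgSp.IsAlgSpace (DX.obj i')) (εX : DX ⟶ PX)
    (ξX : (Functor.const (Over i₁)).obj X.obj ⟶ DX)
    (hξX : ∀ i' : Over i₁, ξX.app i' ≫ εX.app i' ≫ PXπ₁.app i' = aX ≫ c.π.app i'.left ∧ ξX.app i' ≫ εX.app i' ≫ PXπ₂.app i' = bX)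
    (himgX : ∀ i' : Over i₁, AlgSp.IsSchImage (ξX.app i' ≫ εX.app i') (εX.app i'))
    (i₂ : I) (V : AlgSp.Space S) (v : V.obj ⟶ D.obj i₂) (hv : AlgSp.IsFinitePresentationMor v) (bY : Y.obj ⟶ V.obj)
    (hbY : bY ≫ v = aY ≫ c.π.app i₂)
    (hciY : ∀ (P : AlgSp.Sp S) (fst : P ⟶ c.pt) (snd : P ⟶ V.obj), IsPullback fst snd (c.π.app i₂) v →
      ∀ k : Y.obj ⟶ P, k ≫ fst = aY → k ≫ snd = bY → AlgSp.RepWith @IsClosedImmersion k)
    (PY : Over i₂ ⥤ AlgSp.Sp S) (PYπ₁ : PY ⟶ Over.forget i₂ ⋙ D) (PYπ₂ : PY ⟶ (Functor.const (Over i₂)).obj V.obj)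
    (hPY : ∀ i' : Over i₂, IsPullback (PYπ₁.app i') (PYπ₂.app i') (D.map i'.hom) v)
    (DY : Over i₂ ⥤ AlgSp.Sp S) (hDY : ∀ i', AlgSp.IsAlgSpace (DY.obj i')) (εY : DY ⟶ PY)
    (ξY : (Functor.const (Over i₂)).obj Y.obj ⟶ DY)
    (hξY : ∀ i' : Over i₂, ξY.app i' ≫ εY.app i' ≫ PYπ₁.app i' = aY ≫ c.π.app i'.left ∧ ξY.app i' ≫ εY.app i' ≫ PYπ₂.app i' = bY)
    (himgY : ∀ i' : Over i₂, AlgSp.IsSchImage (ξY.app i' ≫ εY.app i') (εY.app i')) :
    ∃ (i₀ : I) (φ₁ : i₀ ⟶ i₁) (φ₂ : i₀ ⟶ i₂) (fam : Over.map φ₁ ⋙ DX ⟶ Over.map φ₂ ⋙ DY),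
      (∀ i' : Over i₀, ξX.app ((Over.map φ₁).obj i') ≫ fam.app i' = f ≫ ξY.app ((Over.map φ₂).obj i')) ∧
        (∀ i' : Over i₀, fam.app i' ≫ εY.app ((Over.map φ₂).obj i') ≫ PYπ₁.app ((Over.map φ₂).obj i') =
          εX.app ((Over.map φ₁).obj i') ≫ PXπ₁.app ((Over.map φ₁).obj i')) ∧
      ∀ gam : Over.map φ₁ ⋙ DX ⟶ Over.map φ₂ ⋙ DY,
        (∀ i' : Over i₀, ξX.app ((Over.map φ₁).obj i') ≫ gam.app i' = f ≫ ξY.app ((Over.map φ₂).obj i')) ∧
        (∀ i' : Over i₀, gam.app i' ≫ εY.app ((Over.map φ₂).obj i') ≫ PYπ₁.app ((Over.map φ₂).obj i') =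
          εX.app ((Over.map φ₁).obj i') ≫ PXπ₁.app ((Over.map φ₁).obj i')) →
        ∃ (j₀ : I) (ψ : j₀ ⟶ i₀), ∀ j : Over j₀, fam.app ((Over.map ψ).obj j) = gam.app ((Over.map ψ).obj j) := by
  obtain ⟨hLimX⟩ := Groth.Agent.S10073.result S D hD hDa hqc hqs c hc hln X aX hXqs hXft i₁ W w
    ⟨fun U V a b h ha hb e => (have : LocallyOfFinitePresentation h.left := hw.1 a b h ha hb e; inferInstance),
      hw.2.1⟩
    bX hbX hciX PX PXπ₁ PXπ₂ hPX DX hDX εX ξX hξX himgX
  obtain ⟨hWqc, hWqs, -⟩ := Groth.Agent.AlgSp.noetherian_of_fp W.property (hD i₁) w hw ⟨hqc i₁, hqs i₁, hln i₁⟩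
  have hmX : ∀ k, Mono (εX.app k) := fun k => mono_of_isClosedImmersion (himgX k).1
  have hmY : ∀ k, Mono (εY.app k) := fun k => mono_of_isClosedImmersion (himgY k).1
  have hci2a : ∀ {F G : Sp S} {g : F ⟶ G}, RepWith @IsClosedImmersion g → RepWith @IsAffineHom g := fun h =>
    Groth.Agent.AlgSp.repWith_mono (fun g hg => (have : IsClosedImmersion g := hg; inferInstance : IsAffineHom g)) h
  have hPXs : ∀ k, IsAlgSpace (PX.obj k) := fun k =>
    Groth.Agent.AlgSp.isAlgSpace_of_isPullback' (hD i₁) (hD k.left) W.property (hPX k)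
  have hPXa : ∀ {j k : Over i₁} (φ : j ⟶ k), RepWith @IsAffineHom (PX.map φ) := fun {j k} φ => by
    have e2 := PXπ₂.naturality φ
    dsimp at e2
    rw [Category.comp_id] at e2
    have e1 := PXπ₁.naturality φ
    dsimp at e1
    have sqφ : IsPullback (PXπ₁.app j) (PX.map φ) (D.map φ.left) (PXπ₁.app k) := by
      refine IsPullback.of_bot (v₂₁ := PXπ₂.app k) (v₂₂ := D.map k.hom) ?_ e1.symm (hPX k)
      rw [e2, ← D.map_comp, Over.w φ]
      exact hPX j
    exact MorphismProperty.of_isPullback sqφ ((Groth.Agent.AlgSp.isAffineMor_iff _).1 (hDa _ _ φ.left))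
  have hDXa : ∀ (j k : Over i₁) (φ : j ⟶ k), IsAffineMor (DX.map φ) := fun j k φ => by
    refine (Groth.Agent.AlgSp.isAffineMor_iff _).2 ?_
    have := hmX k
    refine affine_cancel_mono (DX.map φ) (εX.app k) ?_
    rw [εX.naturality φ]
    exact MorphismProperty.comp_mem _ _ _ (hci2a (himgX j).1) (hPXa φ)
  have hDXq : ∀ k, IsQuasiCompactSp (DX.obj k) ∧ IsQuasiSeparatedSp (DX.obj k) := fun k =>
    qcqs_of_affine (hDX k) W.property (εX.app k ≫ PXπ₂.app k)
      (MorphismProperty.comp_mem _ _ _ (hci2a (himgX k).1)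
        (MorphismProperty.of_isPullback (hPX k) ((Groth.Agent.AlgSp.isAffineMor_iff _).1 (hDa _ _ k.hom))))
      hWqc hWqs
  obtain ⟨i₃, α, β, -⟩ : ∃ (i₃ : I) (_ : i₃ ⟶ i₁) (_ : i₃ ⟶ i₂), True :=
    ⟨_, IsCofiltered.minToLeft i₁ i₂, IsCofiltered.minToRight i₁ i₂, trivial⟩
  let k₃ : Over i₁ := Over.mk α
  obtain ⟨j, φ, x', hx', hx'v⟩ := Groth.Agent.AlgSp.LimLP.exists_stage_sp (X := V.obj) (Y := D.obj i₂)
    V.property (hD i₂) (f := v) hv.1 hDX hDXa (fun k => (hDXq k).1) hLimX (fun k => (hDXq k).2)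
    (i := k₃) (εX.app k₃ ≫ PXπ₁.app k₃ ≫ D.map β) (f ≫ bY) (by
      refine Eq.trans ?_ (congrArg (· ≫ D.map β) (hξX k₃).1.symm) |>.trans ?_
      · dsimp
        rw [Category.assoc, hbY, ← Category.assoc, hf, Category.assoc]
        exact congrArg (aX ≫ ·) (c.w β).symm
      · simp only [Category.assoc]
        done)
  dsimp at hx'
  let φ₁ : j.left ⟶ i₁ := j.hom
  let φ₂ : j.left ⟶ i₂ := φ.left ≫ β
  let μ : ∀ i' : Over j.left, (Over.map φ₁).obj i' ⟶ j := fun i' => Over.homMk i'.hom rfl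
  have hx'π : ∀ i' : Over j.left,
      (εX.app ((Over.map φ₁).obj i') ≫ PXπ₁.app ((Over.map φ₁).obj i')) ≫ D.map ((Over.map φ₂).obj i').hom =
        (DX.map (μ i') ≫ x') ≫ v := fun i' => by
    have e1 := PXπ₁.naturality (μ i' ≫ φ)
    dsimp at e1
    have e2 := εX.naturality (μ i' ≫ φ)
    rw [Category.assoc (DX.map (μ i')), hx'v, ← DX.map_comp_assoc, ← Category.assoc (DX.map (μ i' ≫ φ)), e2
      ]
    simp only [Category.assoc]
    rw [reassoc_of% e1, ← D.map_comp]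
    simp [μ, φ₂]
  let g : ∀ i' : Over j.left, DX.obj ((Over.map φ₁).obj i') ⟶ PY.obj ((Over.map φ₂).obj i') := fun i' =>
    (hPY _).lift (εX.app ((Over.map φ₁).obj i') ≫ PXπ₁.app ((Over.map φ₁).obj i')) (DX.map (μ i') ≫ x') (hx'π i')
  have hg₁ : ∀ i', g i' ≫ PYπ₁.app _ = εX.app ((Over.map φ₁).obj i') ≫ PXπ₁.app _ := fun i' =>
    (hPY _).lift_fst _ _ _
  have hg₂ : ∀ i', g i' ≫ PYπ₂.app _ = DX.map (μ i') ≫ x' := fun i' => (hPY _).lift_snd _ _ _
  have hξnat : ∀ {a b : Over i₁} (θ : a ⟶ b), ξX.app a ≫ DX.map θ = ξX.app b := fun {a b} θ =>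
    (ξX.naturality θ).symm.trans (Category.id_comp _)
  have hξg : ∀ i', ξX.app _ ≫ g i' = f ≫ ξY.app ((Over.map φ₂).obj i') ≫ εY.app _ := fun i' => by
    refine (hPY _).hom_ext ?_ ?_
    · refine (Category.assoc _ _ _).trans ((congrArg (ξX.app _ ≫ ·) (hg₁ i')).trans ((hξX _).1.trans ?_))
      simp only [Category.assoc]
      rw [(hξY _).1, ← Category.assoc, hf]
      rfl
    · refine (Category.assoc _ _ _).trans ((congrArg (ξX.app _ ≫ ·) (hg₂ i')).trans ?_)
      simp only [Category.assoc]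
      rw [← Category.assoc, hξnat, (hξY _).2]
      exact hx'
  have hfac : ∀ i', ∃ m : DX.obj ((Over.map φ₁).obj i') ⟶ DY.obj ((Over.map φ₂).obj i'),
      m ≫ εY.app _ = g i' := fun i' => by
    let o₁ := (Over.map φ₁).obj i'
    let o₂ := (Over.map φ₂).obj i'
    have hz : RepWith @IsClosedImmersion (pullback.snd (εY.app o₂) (g i')) :=
      MorphismProperty.of_isPullback (IsPullback.of_hasPullback (εY.app o₂) (g i')) (himgY o₂).1
    have hPYs : IsAlgSpace (PY.obj o₂) :=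
      Groth.Agent.AlgSp.isAlgSpace_of_isPullback' (hD i₂) (hD o₂.left) V.property (hPY o₂)
    obtain ⟨k, hk⟩ := (himgX o₁).2.2 (pullback.snd (εY.app o₂) (g i') ≫ εX.app o₁)
      (Groth.Agent.AlgSp.isAlgSpace_of_isPullback' hPYs (hDY o₂) (hDX o₁) (IsPullback.of_hasPullback _ _))
      (MorphismProperty.comp_mem _ _ _ hz (himgX o₁).1)
      ⟨pullback.lift (f ≫ ξY.app o₂) (ξX.app o₁) (by rw [Category.assoc]; exact (hξg i').symm), by
        rw [pullback.lift_snd_assoc]⟩
    have := hmX o₁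
    have hk' : k ≫ pullback.snd (εY.app o₂) (g i') = 𝟙 _ := (cancel_mono (εX.app o₁)).1 (by
      rw [Category.assoc, hk, Category.id_comp])
    exact ⟨k ≫ pullback.fst _ _, by rw [Category.assoc, pullback.condition, ← Category.assoc, hk', Category.id_comp]⟩
  choose m hm using hfac
  let fam : Over.map φ₁ ⋙ DX ⟶ Over.map φ₂ ⋙ DY :=
    { app := m
      naturality := fun a b θ => by
        have := hmY ((Over.map φ₂).obj b)
        rw [← cancel_mono (εY.app ((Over.map φ₂).obj b))]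
        dsimp
        rw [Category.assoc, hm, Category.assoc, εY.naturality, ← Category.assoc, hm]
        refine (hPY _).hom_ext ?_ ?_
        · have e1 := PXπ₁.naturality ((Over.map φ₁).map θ)
          have e2 := PYπ₁.naturality ((Over.map φ₂).map θ)
          have e3 := εX.naturality ((Over.map φ₁).map θ)
          dsimp at e1 e2
          rw [Category.assoc, Category.assoc, hg₁, e2, ← Category.assoc (g a), hg₁, ← Category.assoc, e3,
            Category.assoc, e1, Category.assoc]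
        · have e2 := PYπ₂.naturality ((Over.map φ₂).map θ)
          dsimp at e2
          rw [Category.comp_id] at e2
          rw [Category.assoc, Category.assoc, hg₂, e2, hg₂, ← DX.map_comp_assoc]
          congr 2
          exact Over.OverMorphism.ext (Over.w θ) }
  refine ⟨j.left, φ₁, φ₂, fam, fun i' => ?_, fun i' => ?_, ?_⟩
  · have := hmY ((Over.map φ₂).obj i')
    rw [← cancel_mono (εY.app ((Over.map φ₂).obj i'))]
    dsimp [fam]
    rw [Category.assoc, hm, Category.assoc]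
    exact hξg i'
  · dsimp [fam]
    rw [← Category.assoc, hm]
    exact hg₁ i'
  rintro gam ⟨hgam₁, hgam₂⟩
  let top : Over j.left := Over.mk (𝟙 j.left)
  let g₁ := m top ≫ εY.app ((Over.map φ₂).obj top) ≫ PYπ₂.app ((Over.map φ₂).obj top)
  let g₂ := gam.app top ≫ εY.app ((Over.map φ₂).obj top) ≫ PYπ₂.app ((Over.map φ₂).obj top)
  have hfam₁ : ξX.app ((Over.map φ₁).obj top) ≫ m top = f ≫ ξY.app ((Over.map φ₂).obj top) := by
    have := hmY ((Over.map φ₂).obj top)
    rw [← cancel_mono (εY.app ((Over.map φ₂).obj top)), Category.assoc, hm, Category.assoc]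
    exact hξg top
  obtain ⟨k, ψ, hψ⟩ := Groth.Agent.AlgSp.LimLP.exists_eq_stage_sp (X := V.obj) (Y := D.obj i₂)
    V.property (hD i₂) (f := v) hv.1 hDXa (fun k => (hDXq k).1) hLimX g₁ g₂
    (by
      have e := (hPY ((Over.map φ₂).obj top)).w
      simp only [g₁, g₂, Category.assoc]
      rw [← e, ← Category.assoc (εY.app _), ← Category.assoc (m top), ← Category.assoc (m top), hm, hg₁,
        ← Category.assoc (gam.app top)]
      refine congrArg (· ≫ D.map _) ?_
      exact (hgam₂ top).symm)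
    (by
      dsimp [g₁, g₂]
      rw [reassoc_of% hfam₁, ← Category.assoc _ (gam.app top), hgam₁ top]
      simp)
  refine ⟨k.left, ψ.left, fun i' => ?_⟩
  let o : Over j.left := (Over.map ψ.left).obj i'
  let θ : o ⟶ top := Over.homMk o.hom (Category.comp_id _)
  have := hmY ((Over.map φ₂).obj o)
  rw [← cancel_mono (εY.app ((Over.map φ₂).obj o))]
  refine (hPY _).hom_ext ?_ ?_
  · rw [Category.assoc, Category.assoc]
    exact (show m o ≫ εY.app _ ≫ PYπ₁.app _ = _ by rw [← Category.assoc, hm]; exact hg₁ o).trans (hgam₂ o).symm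
  · have e2 := PYπ₂.naturality ((Over.map φ₂).map θ)
    dsimp at e2
    rw [Category.comp_id] at e2
    have key : ∀ G : Over.map φ₁ ⋙ DX ⟶ Over.map φ₂ ⋙ DY,
        (G.app o ≫ εY.app ((Over.map φ₂).obj o)) ≫ PYπ₂.app _ =
          DX.map ((Over.map φ₁).map θ) ≫ G.app top ≫ εY.app _ ≫ PYπ₂.app _ := fun G => by
      have eG := G.naturality θ
      dsimp at eG
      rw [reassoc_of% eG, εY.naturality_assoc, e2, Category.assoc]
    rw [key fam, key gam]
    change DX.map _ ≫ g₁ = DX.map _ ≫ g₂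
    let δ : (Over.map φ₁).obj o ⟶ k := Over.homMk i'.hom (by
      change i'.hom ≫ k.hom = (i'.hom ≫ ψ.left) ≫ φ₁
      rw [Category.assoc]
      refine congrArg (i'.hom ≫ ·) ?_
      refine (Over.w ψ).symm.trans ?_
      simp [top])
    have eδ : (Over.map φ₁).map θ = δ ≫ ψ := Over.OverMorphism.ext rfl
    rw [eδ, DX.map_comp, Category.assoc, Category.assoc, hψ]

end Groth.Agent.S10074
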