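import Groth.Statements.S10075
import Groth.Agent.AlgSpB.LimClosedSys
import Groth.Agent.AlgSp.SchImageRep
import Groth.Agent.AlgSp.LimPoints
import Mathlib.AlgebraicGeometry.AffineTransitionLimit

set_option autoImplicit false
set_option backward.isDefEq.respectTransparency false
set_option backward.isDefEq.respectTransparency.types false

universe u
open CategoryTheory CategoryTheory.Limits AlgebraicGeometry
open AlgSp

namespace Groth.Agent.S10075

open Groth.Agent.AlgSp (LimSp.sys LimPoints.topology_eq LimImm.isPullback_stage SchImageRep.isReduced_chart)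
open Groth.Agent.AlgSp.CartierDesc (subOver subι)

/-- A section of an ideal with reduced subscheme is one vanishing at every point of the support. -/
theorem mem_ideal_iff {X : Scheme.{u}} [IsAffine X] (K : X.IdealSheafData) [IsReduced K.subscheme]
    (f : Γ(X, ⊤)) :
    f ∈ K.ideal ⟨⊤, isAffineOpen_top X⟩ ↔ ∀ z ∈ Set.range K.subschemeι, z ∉ X.basicOpen f := by
  rw [← K.ker_subschemeι_app, RingHom.mem_ker]
  constructor
  · rintro h _ ⟨w, rfl⟩ hw
    change w ∈ K.subschemeι ⁻¹ᵁ X.basicOpen f at hw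
    rw [Scheme.preimage_basicOpen, h, Scheme.basicOpen_zero] at hw
    exact hw
  · intro h
    refine eq_zero_of_basicOpen_eq_bot _ ?_
    rw [← Scheme.preimage_basicOpen]
    ext w
    exact ⟨fun hw => (h _ ⟨w, rfl⟩ hw).elim, fun hw => hw.elim⟩

/-- Let `X` be the limit, in fppf sheaves over `S`, of a cofiltered system `(X_i)` of decent algebraic
spaces over `S` with affine transition morphisms, and `x ∈ |X|` with images `x_i ∈ |X_i|`. Then the
closure of `x` is the limit of the closures of the `x_i` as sets, and, endowing these closures with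
their reduced induced subspace structures `Z ⊂ X`, `Z_i ⊂ X_i` (with the induced maps), `Z = lim
Z_i` as algebraic spaces. -/
theorem result (S : Scheme.{u}) {I : Type u} [SmallCategory I] [IsCofiltered I]
    (D : I ⥤ AlgSp.Sp S) (hD : ∀ i, AlgSp.IsAlgSpace (D.obj i))
    (hDa : ∀ (i j : I) (φ : i ⟶ j), AlgSp.IsAffineMor (D.map φ))
    (c : Cone D) (hc : IsLimit c)
    (hdec : ∀ i, AlgSp.IsDecent (D.obj i))
    (x : AlgSp.Points c.pt) :
    closure {x} = {x' | ∀ i, AlgSp.Points.map (c.π.app i) x' ∈ closure {AlgSp.Points.map (c.π.app i) x}} ∧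
    ∀ (Z : AlgSp.Space S) (zι : Z.obj ⟶ c.pt) (_ : AlgSp.IsRedInduced (closure {x}) zι)
      (DZ : I ⥤ AlgSp.Sp S) (_ : ∀ i, AlgSp.IsAlgSpace (DZ.obj i)) (ι : DZ ⟶ D)
      (_ : ∀ i, AlgSp.IsRedInduced (closure {AlgSp.Points.map (c.π.app i) x}) (ι.app i))
      (ξ : (Functor.const I).obj Z.obj ⟶ DZ) (_ : ∀ i, ξ.app i ≫ ι.app i = zι ≫ c.π.app i),
      Nonempty (IsLimit (Cone.mk Z.obj ξ)) := by
  constructor
  · refine Set.Subset.antisymm (fun x' hx' i => ?_) fun x' hx' => ?_
    · exact map_mem_closure (Points.continuous_map _) hx' fun y hy => congrArg _ hy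
    · rw [← specializes_iff_mem_closure, specializes_iff_pure]
      have e : nhds x' = @nhds _ (⨅ i, TopologicalSpace.induced (Points.map (c.π.app i))
          (Points.topologicalSpace (D.obj i))) x' :=
        congrArg (fun t => @nhds _ t x') (LimPoints.topology_eq hD hDa hc)
      rw [e, nhds_iInf]
      refine le_iInf fun i => ?_
      rw [nhds_induced, ← Filter.map_le_iff_le_comap, Filter.map_pure, ← specializes_iff_pure,
        specializes_iff_mem_closure]
      exact hx' i
  intro Z zι hzι DZ hDZ ι hι ξ hξ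
  refine Groth.Agent.AlgSpB.LimClosedSys.nonempty_isLimit hD hDa hc zι hzι.1 ι (fun i => (hι i).1) ξ hξ ?_
  intro i₀ U g hg hU L l q hL hq hqs hl sq _ _ K fstK sqK f hf
  obtain ⟨hL⟩ := hL
  let F := LimSp.sys hDa g ⋙ Over.forget S
  have : ∀ {a b : Over i₀} (φ : a ⟶ b), IsAffineHom (F.map φ) := fun φ =>
    Groth.Agent.AlgSp.LimSp.isAffineHom_sys hDa g φ
  have : ∀ j, CompactSpace (F.obj j) := fun j => inferInstanceAs (CompactSpace ((LimSp.sys hDa g).obj j).left)
  have : ∀ j, QuasiSeparatedSpace (F.obj j) := fun j =>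
    inferInstanceAs (QuasiSeparatedSpace ((LimSp.sys hDa g).obj j).left)
  obtain ⟨j, f', hf'⟩ : ∃ (j : Over i₀) (f' : Γ(((LimSp.sys hDa g).obj j).left, ⊤)),
      f = (L.π.app j).left.appTop f' := exists_appTop_π_eq_of_isLimit F _ hL f
  let fst := (Groth.Agent.AlgSp.LimSp.sysFst hDa g).app j
  have hfst : RepWith @Etale fst :=
    MorphismProperty.of_isPullback ((Groth.Agent.AlgSp.LimSp.repWith_map hDa j.hom).1.isPullback g).flip hg
  obtain ⟨K', fst', sq'⟩ := Groth.Agent.AlgSp.CartierDesc.exists_ideal (hι j.left).1 fst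
  refine ⟨j, K', fst', f', sq', ?_, hf'.symm⟩
  have hK' : IsReduced K'.subscheme := SchImageRep.isReduced_chart (hDZ _) (hι j.left).2.2 fst'
    (MorphismProperty.of_isPullback sq'.flip hfst)
  have hle : RepWith @Etale l := MorphismProperty.of_isPullback sq.flip hg
  have hKr : IsReduced K.subscheme := SchImageRep.isReduced_chart Z.property hzι.2.2 fstK
    (MorphismProperty.of_isPullback sqK.flip hle)
  refine (mem_ideal_iff K' f').2 fun z hz hzf => ?_
  have hz' : Points.ofPt fst z ∈ closure {Points.map (c.π.app j.left) x} := by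
    rw [← (hι j.left).2.1]
    exact (Groth.Agent.AlgSpB.range_snd_eq sq').le hz
  obtain ⟨_, ⟨a, ha, rfl⟩, hax⟩ := mem_closure_iff.1 hz' _
    (Groth.Agent.AlgSpB.isOpenMap_ofPt hfst _ (((LimSp.sys hDa g).obj j).left.basicOpen f').2) ⟨z, hzf, rfl⟩
  have sqk := LimImm.isPullback_stage hDa hqs hl sq j
  obtain ⟨b, hb1, hb2⟩ := Groth.Agent.AlgSpB.exists_of_isPullback sqk x
    (Points.ofScheme ((LimSp.sys hDa g).obj j) a) (hax.symm.trans (Points.ofPt_eq_map_ofScheme fst a))
  rw [← Points.ofScheme_toScheme L.pt b, ← Points.ofPt_eq_map_ofScheme] at hb1 hb2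
  let b' := Points.toScheme L.pt b
  have e2 : (L.π.app j).left b' = a := by
    rw [← Points.toScheme_ofPt, hb2]
    exact Points.toScheme_ofScheme _ a
  have hbK : b' ∈ Set.range K.subschemeι := by
    refine (Groth.Agent.AlgSpB.range_snd_eq sqK).ge ?_
    rw [Set.mem_preimage]
    rw [hzι.2.1, hb1]
    exact subset_closure rfl
  refine (mem_ideal_iff K f).1 hf b' hbK ?_
  rw [hf']
  change b' ∈ L.pt.left.basicOpen ((L.π.app j).left.appTop f')
  refine (Scheme.preimage_basicOpen (L.π.app j).left f').le ?_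
  change (L.π.app j).left b' ∈ ((LimSp.sys hDa g).obj j).left.basicOpen f'
  rw [e2]
  exact ha

end Groth.Agent.S10075
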