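import Groth.Statements.S10076
import Groth.Agent.AlgSpB.AffEmb.Space
import Groth.Agent.AlgSp.LocPFin
import Groth.Agent.AlgSp.NoethFib
import Groth.Agent.AlgSp.GenFiniteSch
import Groth.Agent.AlgSp.QCMor
import Groth.Agent.AlgSpB.Art.GenericScheme
import Groth.Agent.S10200
import Groth.Agent.S2081
import Groth.Agent.S9682

set_option autoImplicit false
set_option backward.isDefEq.respectTransparency false
set_option backward.isDefEq.respectTransparency.types false

universe u
open CategoryTheory CategoryTheory.Limits AlgebraicGeometry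
open AlgSp

namespace Groth.Agent.S10076

open Groth.Agent.AlgSpB

/-- The pair of projections of a fibre product over a sheaf is a monomorphism. -/
theorem mono_pairHom {S : Scheme.{u}} {F : Sp S} {U V W : Over S} {a : (yon S).obj U ⟶ F} {b : (yon S).obj V ⟶ F}
    {fst : W ⟶ U} {snd : W ⟶ V} (h : IsPullback ((yon S).map fst) ((yon S).map snd) a b) : Mono (pairHom fst snd) := by
  refine ⟨fun {T} g₁ g₂ e => ?_⟩
  have e1 : g₁ ≫ fst.left = g₂ ≫ fst.left := by simpa using congrArg (· ≫ pullback.fst U.hom V.hom) e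
  have e2 : g₁ ≫ snd.left = g₂ ≫ snd.left := by simpa using congrArg (· ≫ pullback.snd U.hom V.hom) e
  let T' : Over S := Over.mk (g₁ ≫ W.hom)
  let k₁ : T' ⟶ W := Over.homMk g₁ rfl
  let k₂ : T' ⟶ W := Over.homMk g₂ (by
    change g₂ ≫ W.hom = g₁ ≫ W.hom
    rw [← Over.w fst, reassoc_of% e1])
  have h1 : k₁ ≫ fst = k₂ ≫ fst := Over.OverMorphism.ext e1
  have h2 : k₁ ≫ snd = k₂ ≫ snd := Over.OverMorphism.ext e2
  have hk : (yon S).map k₁ = (yon S).map k₂ := h.hom_ext
    (by rw [← Functor.map_comp, ← Functor.map_comp, h1]) (by rw [← Functor.map_comp, ← Functor.map_comp, h2])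
  exact congrArg (fun k : T' ⟶ W => k.left) ((yon S).map_injective hk)

/-- Let `X` be a Noetherian algebraic space over `S` (quasi-compact and quasi-separated over `S`,
locally Noetherian) and `f : Y ⟶ X` of finite presentation. Then there are a dense open subspace `V
⊂ Y`, an `n`, and an immersion `V ⟶ 𝐀^n_X = X ×_S 𝐀^n_S` over `X`. (The published statement allows
any base scheme and uses absolute quasi-separatedness; this row assumes the base quasi-separated,
over which quasi-separatedness relative to the base is the absolute notion.) -/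
theorem result (S : Scheme.{u}) [QuasiSeparatedSpace S]
    {Y X : AlgSp.Space S} (f : Y ⟶ X) (hf : AlgSp.IsFinitePresentationMor f.hom)
    (hXqc : AlgSp.IsQuasiCompactSp X.obj) (hXqs : AlgSp.IsQuasiSeparatedSp X.obj) (hXln : AlgSp.IsLocNoethSp X.obj) :
    ∃ (V : AlgSp.Space S) (j : V ⟶ Y) (n : ℕ)
      (i : V.obj ⟶ X.obj ⨯ (AlgSp.yon S).obj (Over.mk (𝔸(ULift.{u} (Fin n); S) ↘ S))),
      AlgSp.RepWith @IsOpenImmersion j.hom ∧ Dense (Set.range (AlgSp.Points.map j.hom)) ∧
      i ≫ prod.fst = j.hom ≫ f.hom ∧ AlgSp.RepWith @IsImmersion i := by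
  obtain ⟨hYqc, hYqs, hYln⟩ := Groth.Agent.AlgSp.noetherian_of_fp Y.property X.property f.hom hf ⟨hXqc, hXqs, hXln⟩
  obtain ⟨Y₀, j₀, hj₀, hrep, hd₀, -⟩ := Groth.Agent.S10200.result Y ⟨PUnit, fun _ => Y, fun _ => 𝟙 Y,
    ⟨fun _ => (RepWith _).id_mem _, fun y => ⟨PUnit.unit, y, Points.map_id y⟩⟩, fun _ => hYqs⟩
  obtain ⟨T, ⟨rT⟩⟩ := hrep.has_representation
  let eT := isoOfRepresentableBy rT
  let jT : (yon S).obj T ⟶ Y.obj := eT.hom ≫ j₀.hom
  have hjT : RepWith @IsOpenImmersion jT := MorphismProperty.RespectsIso.precomp _ eT.hom _ hj₀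
  have hjTe : RepWith @Etale jT :=
    Groth.Agent.AlgSp.repWith_mono (fun g hg => (have : IsOpenImmersion g := hg; inferInstance : Etale g)) hjT
  have hdT : DenseRange (Points.ofPt jT) := by
    refine hd₀.mono ?_
    rintro _ ⟨y, rfl⟩
    obtain ⟨t, ht⟩ := surjective_ofPt (a := 𝟙 ((yon S).obj T)) (repWith_id _ T) (Points.map eT.inv y)
    refine ⟨t, ?_⟩
    rw [← Category.id_comp jT, ← Points.map_ofPt, ht, ← Points.map_comp]
    simp [jT]
  have : IsLocallyNoetherian T.left := Groth.Agent.AlgSp.isLocallyNoetherian_of_etale_chart jT hjTe hYln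
  -- the scheme part is noetherian
  have : CompactSpace T.left := by
    have := Groth.Agent.AlgSp.compactSpace_points hYqc
    obtain ⟨A, c, hc, hcs⟩ := Y.property.atlas
    obtain ⟨A', g, hA', hae, has⟩ := exists_affine_chart_of_compactSpace hc hcs
    have := Groth.Agent.AlgSp.isLocallyNoetherian_of_etale_chart _ hae hYln
    obtain ⟨R, r₁, r₂, sR⟩ := exists_pullback_yon hjT.1 ((yon S).map g ≫ c)
    have : IsOpenImmersion r₂.left := hjT.2 _ _ _ sR
    have : Surjective r₁.left := has.2 _ _ _ sR.flip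
    have : IsAffine A'.left := hA'
    have : IsNoetherian A'.left := { }
    have : CompactSpace R.left :=
      ⟨r₂.left.isOpenEmbedding.isEmbedding.isInducing.isCompact_iff.2
        (TopologicalSpace.NoetherianSpace.isCompact _)⟩
    exact ⟨r₁.left.surjective.range_eq ▸ isCompact_range r₁.left.continuous⟩
  have : IsNoetherian T.left := ⟨⟩
  have hTfin : {v : ↥T.left | closure {v} ∈ irreducibleComponents (T.left : Type u)}.Finite :=
    Groth.Agent.AlgSp.finite_generic_of_irreducibleComponents (AlgebraicGeometry.finite_irreducibleComponents_of_isNoetherian)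
  obtain ⟨W, hW, hWgen⟩ := Groth.Agent.AlgSpB.Art.exists_affine_of_generic T.left _ hTfin fun x hx z hzx =>
    (((Groth.Agent.FlatMor.GenericPts.closure_mem_irreducibleComponents_iff x).1 hx z hzx).antisymm hzx).eq.symm
  have hWd : Dense (W : Set T.left) := fun t => by
    obtain ⟨η, hη, hηt⟩ := Groth.Agent.FlatMor.GenericPts.exists_generic_specializes t
    exact closure_mono (Set.singleton_subset_iff.2 (hWgen hη)) hηt.mem_closure
  have : IsAffine (W : Scheme.{u}) := hW
  let U : Over S := Over.mk (W.ι ≫ T.hom)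
  have : IsAffine U.left := hW
  let ιU : U ⟶ T := Over.homMk W.ι rfl
  let g₀ : (yon S).obj U ⟶ X.obj := (yon S).map ιU ≫ jT ≫ f.hom
  -- a chart of the image
  obtain ⟨V, a, hV, ha, hKa⟩ := Groth.Agent.AlgSp.LimImm.exists_affine_chart_of_isCompact X.property
    (isCompact_range (Points.continuous_ofPt g₀))
  have : IsAffine V.left := hV
  obtain ⟨Q, q₁, q₂, h0⟩ := exists_pullback_yon (X.property.representable_from_yon g₀) a
  have : Etale q₁.left := ha.2 _ _ _ h0.flip
  have : QuasiCompact (pairHom q₁ q₂) := prop_pairHom hXqs h0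
  have : QuasiCompact V.hom := QuasiCompact.of_comp V.hom (terminal.from S)
  have : IsSeparated V.hom := IsSeparated.of_comp V.hom (terminal.from S)
  have eq₁ : pairHom q₁ q₂ ≫ pullback.fst U.hom V.hom = q₁.left := pullback.lift_fst _ _ _
  have : QuasiCompact q₁.left := eq₁ ▸ inferInstance
  have : CompactSpace (W : Scheme.{u}) := isCompact_iff_compactSpace.1 hW.isCompact
  have : IsNoetherian U.left := { toIsLocallyNoetherian := inferInstanceAs (IsLocallyNoetherian (W : Scheme.{u})) }
  have : IsLocallyNoetherian Q.left := LocallyOfFiniteType.isLocallyNoetherian q₁.left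
  have : CompactSpace Q.left := QuasiCompact.compactSpace_of_compactSpace q₁.left
  have : IsNoetherian Q.left := ⟨⟩
  have := locallyQuasiFinite_of_etale q₁.left
  obtain ⟨O₁, hO₁d, hfin⟩ := Groth.Agent.S2081.result q₁.left AlgebraicGeometry.finite_irreducibleComponents_of_isNoetherian
    AlgebraicGeometry.finite_irreducibleComponents_of_isNoetherian (fun x => ⟨fun hx =>
      Groth.Agent.FlatMor.GenericPts.generic_of_generalizingMap (Flat.generalizingMap (f := q₁.left)) q₁.left.continuous hx,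
      fun hx => (Groth.Agent.S9682.result q₁.left _ hx).1.2 (fun y _ => q₁.left.quasiFiniteAt y) x rfl⟩)
  have : CompactSpace (O₁ : Scheme.{u}) := isCompact_iff_compactSpace.1 (TopologicalSpace.NoetherianSpace.isCompact _)
  have : IsNoetherian (O₁ : Scheme.{u}) := { }
  have hUfin := Groth.Agent.AlgSp.finite_generic_of_irreducibleComponents (V := (O₁ : Scheme.{u}))
    AlgebraicGeometry.finite_irreducibleComponents_of_isNoetherian
  obtain ⟨O, hO, hOgen⟩ := Groth.Agent.AlgSpB.Art.exists_affine_of_generic (O₁ : Scheme.{u}) _ hUfin fun x hx z hzx =>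
    (((Groth.Agent.FlatMor.GenericPts.closure_mem_irreducibleComponents_iff x).1 hx z hzx).antisymm hzx).eq.symm
  have hOd : Dense (O : Set (O₁ : Scheme.{u})) := fun t => by
    obtain ⟨η, hη, hηt⟩ := Groth.Agent.FlatMor.GenericPts.exists_generic_specializes t
    exact closure_mono (Set.singleton_subset_iff.2 (hOgen hη)) hηt.mem_closure
  let O' : U.left.Opens := O₁.ι ''ᵁ O
  have hO' : IsAffineOpen O' := hO.image_of_isOpenImmersion O₁.ι
  let U' : Over S := Over.mk (O'.ι ≫ U.hom)
  have : IsAffine U'.left := hO'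
  let ιO : U' ⟶ U := Over.homMk O'.ι rfl
  obtain ⟨Q', r₁, r₂, h1⟩ := exists_pullback_yon (X.property.representable_from_yon ((yon S).map ιO ≫ g₀)) a
  let l := h0.lift ((yon S).map r₁ ≫ (yon S).map ιO) ((yon S).map r₂) (by rw [Category.assoc, h1.w])
  obtain ⟨l', hl'⟩ := (yon S).map_surjective l
  have hs0 : IsPullback l ((yon S).map r₁) ((yon S).map q₁) ((yon S).map ιO) :=
    IsPullback.of_right (h₁₂ := (yon S).map q₂) (v₁₃ := a) (h₂₂ := g₀)
      (by rw [h0.lift_snd]; exact h1.flip) (h0.lift_fst _ _ _) h0.flip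
  rw [← hl'] at hs0
  have hs := (IsPullback.of_map (yon S) ((yon S).map_injective
    (by rw [Functor.map_comp, Functor.map_comp]; exact hs0.w)) hs0).map (Over.forget S)
  have hle : O' ≤ O₁ := by
    rw [← O₁.opensRange_ι]; exact Scheme.Hom.image_le_opensRange _ _
  have : IsFinite r₁.left := Groth.Agent.AlgSp.isFinite_of_restrict_le q₁.left O' r₁.left l'.left O₁ hle hfin hs
  have : CompactSpace Q'.left := QuasiCompact.compactSpace_of_compactSpace r₁.left
  have := mono_pairHom h1
  have er₁ : pairHom r₁ r₂ ≫ pullback.fst U'.hom V.hom = r₁.left := pullback.lift_fst _ _ _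
  have : IsProper (pairHom r₁ r₂ ≫ pullback.fst U'.hom V.hom) := by rw [er₁]; infer_instance
  have : IsProper (pairHom r₁ r₂) := IsProper.of_comp _ (pullback.fst U'.hom V.hom)
  have : IsClosedImmersion (pairHom r₁ r₂) := (IsClosedImmersion.iff_isProper_and_mono _).2 ⟨inferInstance, inferInstance⟩
  let j' : (yon S).obj U' ⟶ Y.obj := (yon S).map (ιO ≫ ιU) ≫ jT
  have hopen : RepWith @IsOpenImmersion j' :=
    MorphismProperty.comp_mem _ _ _ ((repWith_yon_map_iff _ _).2
      (inferInstanceAs (IsOpenImmersion (O'.ι ≫ W.ι)))) hjT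
  have hr₁ : RepWith @Etale ((yon S).map r₁ ≫ j') :=
    MorphismProperty.comp_mem _ _ _ ((repWith_yon_map_iff _ _).2 (ha.2 _ _ _ h1.flip))
      (Groth.Agent.AlgSp.repWith_mono (fun g hg => (have : IsOpenImmersion g := hg; inferInstance : Etale g)) hopen)
  have : LocallyOfFiniteType r₂.left := by
    have := hf.1 _ _ r₂ hr₁ ha (by simpa [j', g₀] using h1.w)
    infer_instance
  have hKa' : Set.range (Points.ofPt ((yon S).map ιO ≫ g₀)) ⊆ Set.range (Points.ofPt a) := by
    rintro _ ⟨u, rfl⟩
    rw [ofPt_map_comp]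
    exact hKa ⟨_, rfl⟩
  obtain ⟨n, i, hi, himm⟩ := Groth.Agent.AlgSpB.AffEmb.exists_immersion_affineSpace X _ a ha hKa' h1
  refine ⟨⟨(yon S).obj U', IsAlgSpace.yon_obj U'⟩, ObjectProperty.homMk j', n, i, hopen, ?_,
    by simpa [j', g₀] using hi, himm⟩
  have hd1 : Dense ((W.ι '' (O' : Set U.left)) : Set T.left) := by
    refine DenseRange.dense_image ?_ W.ι.continuous ?_
    · rw [DenseRange, show Set.range W.ι = (W : Set T.left) from W.range_ι]; exact hWd
    · change Dense (O₁.ι '' (O : Set (O₁ : Scheme.{u})))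
      refine DenseRange.dense_image ?_ O₁.ι.continuous hOd
      rw [DenseRange, show Set.range O₁.ι = (O₁ : Set U.left) from O₁.range_ι]; exact hO₁d
  refine (hdT.dense_image (Points.continuous_ofPt jT) hd1).mono ?_
  rintro _ ⟨_, ⟨u, hu, rfl⟩, rfl⟩
  refine ⟨Points.ofPt (𝟙 _) (⟨u, hu⟩ : O'), ?_⟩
  change Points.map j' _ = _
  rw [Points.map_ofPt, Category.id_comp, ofPt_map_comp]
  rfl

end Groth.Agent.S10076
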