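import Groth.Statements.S10077
import Groth.Agent.AlgSp.LimLPSp
import Groth.Agent.AlgSp.LimLPSquare
import Groth.Agent.AlgSp.LimLPCrit
import Groth.Agent.AlgSp.LimAffineMor
-- import your own Groth.Agent.* helpers here

set_option autoImplicit false
universe u
open CategoryTheory CategoryTheory.Limits AlgebraicGeometry
open AlgSp

set_option backward.isDefEq.respectTransparency.types false

namespace Groth.Agent.S10077

/-- A morphism `f : X ⟶ Y` of algebraic spaces over `S` is locally of finite presentation if and only if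
for every directed limit `T = lim T_i` of algebraic spaces over `S`, each quasi-compact and
quasi-separated over `S`, with affine transition maps, the square formed by `colim Mor(T_i, X) →
Mor(T, X)`, `colim Mor(T_i, Y) → Mor(T, Y)` and composition with `f` is cartesian in sets. (The
published statement allows any base scheme and uses absolute quasi-separatedness; this row assumes
the base quasi-separated, over which quasi-separatedness relative to the base is the absolute
notion.) -/
theorem result (S : Scheme.{u}) [QuasiSeparatedSpace S]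
    {X Y : AlgSp.Space S} (f : X ⟶ Y) :
    AlgSp.LocP @LocallyOfFinitePresentation f.hom ↔
      ∀ ⦃I : Type u⦄ [SmallCategory I] [IsCofiltered I] (D : I ⥤ AlgSp.Sp S),
        (∀ i, AlgSp.IsAlgSpace (D.obj i)) → (∀ (i j : I) (φ : i ⟶ j), AlgSp.IsAffineMor (D.map φ)) →
        (∀ i, AlgSp.IsQuasiCompactSp (D.obj i)) → (∀ i, AlgSp.IsQuasiSeparatedSp (D.obj i)) →
        ∀ (c : Cone D) (_ : IsLimit c),
          IsPullback (colimMap (Functor.whiskerLeft D.op (yoneda.map f.hom)))
            (colimit.desc (D.op ⋙ yoneda.obj X.obj) ((yoneda.obj X.obj).mapCocone c.op))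
            (colimit.desc (D.op ⋙ yoneda.obj Y.obj) ((yoneda.obj Y.obj).mapCocone c.op))
            ((yoneda.map f.hom).app (Opposite.op c.pt)) := by
  refine ⟨fun hf I _ _ D hD hDa hqc hqs c hc => ?_, fun h => AlgSp.LimLPCrit.locP_of_lifts f.hom ?_⟩
  · refine AlgSp.LimLPSquare.isPullback_of_elementwise.{u + 1} (yoneda.map f.hom) c (fun i y x w => ?_)
      (fun i x x' hxf hπ => ?_)
    · obtain ⟨j, φ, x', h1, h2⟩ := AlgSp.LimLP.exists_stage_sp X.property Y.property hf hD hDa hqc hc hqs y x w
      exact ⟨j, φ, x', h2, h1⟩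
    · exact AlgSp.LimLP.exists_eq_stage_sp X.property Y.property hf hDa hqc hc x x' hxf hπ
  · intro I _ _ D c hc hD hT x i y w
    obtain ⟨hc'⟩ := AlgSp.LimLP.isLimit_yon hc
    have sq := h (D ⋙ AlgSp.yon S) (fun j => AlgSp.IsAlgSpace.yon_obj (D.obj j))
      (AlgSp.LimLP.isAffineMor_yon_map hD)
      (fun j => have := hD j; have : CompactSpace (D.obj j).left := inferInstance
                AlgSp.isQuasiCompactSp_yon (D.obj j))
      (fun j => have := hD j; AlgSp.LimAffineMor.isQuasiSeparatedSp_yon (D.obj j)) _ hc'
    obtain ⟨j, φ, x', h1, h2⟩ :=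
      AlgSp.LimLPSquare.exists_of_isPullback.{u + 1} (yoneda.map f.hom) ((AlgSp.yon S).mapCone c) sq i y x w
    exact ⟨j, φ, x', h2, h1⟩

end Groth.Agent.S10077
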