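import Groth.Statements.S10085
import Groth.Agent.AlgSpB.SubQC.Supported
import Groth.Agent.AlgSpB.Points
import Groth.Agent.AlgSp.QCMor

set_option autoImplicit false
set_option backward.isDefEq.respectTransparency false
set_option backward.isDefEq.respectTransparency.types false

universe u
open CategoryTheory CategoryTheory.Limits AlgebraicGeometry Opposite
open AlgSp

namespace Groth.Agent.S10085

open Opposite in
/-- The complement of a quasi-compact open subspace is cut out on affine objects by finitely generated ideals. -/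
theorem hasFG {S : Scheme.{u}} (X : AlgSp.Space S) (U : AlgSp.Space S) (j : U ⟶ X)
    (hj : AlgSp.RepWith @IsOpenImmersion j.hom) (hjqc : AlgSp.IsQuasiCompactMor j.hom)
    (T : Set (AlgSp.Points X.obj)) (hT : T = (Set.range (AlgSp.Points.map j.hom))ᶜ) :
    Groth.Agent.AlgSpB.SubQC.HasFG X.obj T := by
  intro W hW
  let p := W.obj.hom
  obtain ⟨V, fst, snd, sq⟩ : ∃ (V : Over S) (fst : (AlgSp.yon S).obj V ⟶ U.obj) (snd : V ⟶ W.obj.left),
      IsPullback fst ((AlgSp.yon S).map snd) j.hom p :=
    ⟨_, _, _, hj.1.isPullback p⟩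
  have : IsOpenImmersion snd.left := hj.2 p fst snd sq
  have hc : CompactSpace V.left := by
    have := Groth.Agent.AlgSp.compactSpace_points
      (hjqc (AlgSp.IsAlgSpace.yon_obj W.obj.left) (Groth.Agent.AlgSp.isQuasiCompactSp_yon W.obj.left) p _ _ sq)
    exact Groth.Agent.AlgSp.compactSpace_of_yon V
  have hpre : Groth.Agent.AlgSpB.SubQC.preT W T = (Set.range snd.left)ᶜ := by
    ext w
    rw [hT]
    change AlgSp.Points.ofPt p w ∈ (Set.range (AlgSp.Points.map j.hom))ᶜ ↔ _
    simp only [Set.mem_compl_iff]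
    refine not_congr ⟨?_, ?_⟩
    · rintro ⟨z, hz⟩
      rw [AlgSp.Points.ofPt_eq_map_ofScheme] at hz
      obtain ⟨v, -, hv⟩ := Groth.Agent.AlgSpB.exists_of_isPullback sq z _ hz
      refine ⟨AlgSp.Points.toScheme _ v, ?_⟩
      have h1 := AlgSp.Points.ofPt_eq_map_ofScheme ((AlgSp.yon S).map snd) (AlgSp.Points.toScheme _ v)
      rw [AlgSp.Points.ofScheme_toScheme, hv] at h1
      have h2 := congrArg (AlgSp.Points.toScheme W.obj.left) h1
      rw [AlgSp.Points.toScheme_ofPt, AlgSp.Points.toScheme_ofScheme] at h2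
      exact h2
    · rintro ⟨v, rfl⟩
      refine ⟨AlgSp.Points.ofPt fst v, ?_⟩
      rw [AlgSp.Points.map_ofPt, sq.w, Groth.Agent.AlgSpB.ofPt_map_comp]
  let e := W.obj.left.left.isoSpec
  obtain ⟨I, hI, hIe⟩ := PrimeSpectrum.isCompact_isOpen_iff_ideal.1
    (⟨isCompact_range (snd.left ≫ e.hom).continuous, (snd.left ≫ e.hom).isOpenEmbedding.isOpen_range⟩ :
      IsCompact (Set.range (snd.left ≫ e.hom) : Set (PrimeSpectrum Γ(W.obj.left.left, ⊤))) ∧ _)
  refine ⟨I, hI, ?_⟩
  have h2 : PrimeSpectrum.zeroLocus (I : Set Γ(W.obj.left.left, ⊤)) = (Set.range (snd.left ≫ e.hom))ᶜ := by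
    rw [← hIe, compl_compl]
  change W.obj.left.left.zeroLocus (U := ⊤) (I : Set Γ(W.obj.left.left, ⊤)) = _
  rw [hpre, ← Scheme.isoSpec_inv_image_zeroLocus, h2]
  ext w
  constructor
  · rintro ⟨q, hq, rfl⟩ ⟨v, hv⟩
    refine hq ⟨v, ?_⟩
    rw [Scheme.Hom.comp_apply, hv, ← Scheme.Hom.comp_apply, Iso.inv_hom_id]
    rfl
  · intro hw
    refine ⟨e.hom w, ?_, by rw [← Scheme.Hom.comp_apply, Iso.hom_inv_id]; rfl⟩
    rintro ⟨v, hv⟩
    exact hw ⟨v, e.hom.isOpenEmbedding.injective ((Scheme.Hom.comp_apply _ _ _).symm.trans hv)⟩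

/-- Let `X` be an algebraic space over a scheme `S`, `j : U ⟶ X` an open subspace whose inclusion is
quasi-compact, `T` the closed subset of points of `X` complementary to the image of `U`, and `F` a
quasi-coherent `O_X`-module on the small etale site of `X`. Then, first, on every affine object `W ⟶
X` of the site the inverse image of `T` is the zero locus of a finitely generated ideal of the
global functions on `W`; second, the subsheaf of sections of `F` supported on `T` is a
quasi-coherent submodule: there is a monomorphism `F' ⟶ F` with `F'` quasi-coherent whose image over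
every affine object `W` is the set of sections `x` of `F` over `W` whose support (the zero locus of
the annihilator ideal of `x` in the global functions on `W`) lies in the inverse image of `T`, and
is also, for any finitely generated ideal `I` of the functions on `W` with zero locus the inverse
image of `T`, the set of sections of `F` over `W` annihilated by some power of `I`. -/
theorem result {S : Scheme.{u}} (X : AlgSp.Space S)
    (U : AlgSp.Space S) (j : U ⟶ X) (hj : AlgSp.RepWith @IsOpenImmersion j.hom)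
    (hjqc : AlgSp.IsQuasiCompactMor j.hom)
    (T : Set (AlgSp.Points X.obj)) (hT : T = (Set.range (AlgSp.Points.map j.hom))ᶜ)
    (F : AlgSp.ModEt X.obj) [F.IsQuasicoherent] :
    (∀ (W : AlgSp.EtOver X.obj), IsAffine W.obj.left.left →
      ∃ I : Ideal Γ(W.obj.left.left, ⊤), I.FG ∧
        W.obj.left.left.zeroLocus (U := ⊤) (I : Set Γ(W.obj.left.left, ⊤)) =
          {w | AlgSp.Points.ofPt W.obj.hom w ∈ T}) ∧
    ∃ (F' : AlgSp.ModEt X.obj) (ι : F' ⟶ F), Mono ι ∧ F'.IsQuasicoherent ∧
      (∀ (W : AlgSp.EtOver X.obj), IsAffine W.obj.left.left →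
        Set.range (ι.val.app (op W)).hom =
          {x : AlgSp.sectModEt F W | W.obj.left.left.zeroLocus (U := ⊤)
              ((AlgSp.annSect x : Ideal Γ(W.obj.left.left, ⊤)) : Set Γ(W.obj.left.left, ⊤)) ⊆
            {w | AlgSp.Points.ofPt W.obj.hom w ∈ T}}) ∧
      ∀ (W : AlgSp.EtOver X.obj), IsAffine W.obj.left.left →
        ∀ I : Ideal Γ(W.obj.left.left, ⊤), I.FG →
          W.obj.left.left.zeroLocus (U := ⊤) (I : Set Γ(W.obj.left.left, ⊤)) =
            {w | AlgSp.Points.ofPt W.obj.hom w ∈ T} →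
          Set.range (ι.val.app (op W)).hom =
            {x : AlgSp.sectModEt F W | ∃ n : ℕ, ∀ a ∈ I ^ n, (AlgSp.upΓ W a) • x = 0} := by
  have hfg := hasFG X U j hj hjqc T hT
  let P := Groth.Agent.AlgSpB.SubQC.supported F T hfg
  exact ⟨hfg, P.mod, P.ι, inferInstance, Groth.Agent.AlgSpB.SubQC.isQuasicoherent_supported hfg,
    fun W hW => (Groth.Agent.AlgSpB.SubQC.range_ι P W).trans
      (Set.ext fun s => Groth.Agent.AlgSpB.SubQC.mem_supported_iff_subset hfg hW s),
    fun W hW I hI e => (Groth.Agent.AlgSpB.SubQC.range_ι P W).trans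
      (Set.ext fun s => Groth.Agent.AlgSpB.SubQC.mem_supported_iff hfg hW hI e s)⟩

end Groth.Agent.S10085
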