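import Groth.Statements.S10087
import Groth.Agent.AlgSpB.SubQC.Extend

set_option autoImplicit false
set_option backward.isDefEq.respectTransparency false
set_option backward.isDefEq.respectTransparency.types false

universe u
open CategoryTheory CategoryTheory.Limits AlgebraicGeometry Opposite
open AlgSp

namespace Groth.Agent.S10087

/-- Let `S` be a quasi-separated scheme, `X` an algebraic space over `S`, quasi-compact and
quasi-separated over `S`, `j : U ⟶ X` a quasi-compact open subspace, `F` a quasi-coherent
`O_X`-module on the small etale site of `X` and `G ⟶ j^*F` a quasi-coherent submodule of finite type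
of the restriction of `F` to `U`. Then `G` is the restriction of a quasi-coherent submodule `G' ⟶ F`
of finite type: there is an isomorphism `j^*G' ≅ G` compatible with the two inclusions. (The
published statement allows any base scheme and uses absolute quasi-separatedness; this row assumes
the base quasi-separated, over which quasi-separatedness relative to the base is the absolute
notion.) -/
theorem result {S : Scheme.{u}} [QuasiSeparatedSpace ↥S] (X : AlgSp.Space S)
    (hqc : AlgSp.IsQuasiCompactSp X.obj) (hqs : AlgSp.IsQuasiSeparatedSp X.obj)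
    (U : AlgSp.Space S) (j : U ⟶ X) (hj : AlgSp.RepWith @IsOpenImmersion j.hom)
    (hU : AlgSp.IsQuasiCompactSp U.obj)
    [(SheafOfModules.pushforward.{u + 1} (AlgSp.bcRingHom hj.1)).IsRightAdjoint]
    (F : AlgSp.ModEt X.obj) [F.IsQuasicoherent]
    (G : AlgSp.ModEt U.obj) (g : G ⟶ (AlgSp.pullModEt hj.1).obj F) [Mono g]
    [G.IsQuasicoherent] [G.IsFiniteType] :
    ∃ (G' : AlgSp.ModEt X.obj) (g' : G' ⟶ F), Mono g' ∧ G'.IsQuasicoherent ∧ G'.IsFiniteType ∧
      ∃ e : (AlgSp.pullModEt hj.1).obj G' ≅ G, e.hom ≫ g = (AlgSp.pullModEt hj.1).map g' := by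
  let θ := Groth.Agent.AlgSpB.SubQC.pullIso hj
  let gR : G ⟶ (Groth.Agent.AlgSpB.SubQC.Res hj).obj F := g ≫ θ.hom.app F
  have : Mono gR := mono_comp _ _
  obtain ⟨J, hJ, hfg, e, he⟩ := Groth.Agent.AlgSpB.SubQC.exists_extension hj gR hqc hqs hU
  refine ⟨J.mod, J.ι, inferInstance, Groth.Agent.AlgSpB.SubQC.isQuasicoherent_of_gen hJ,
    Groth.Agent.AlgSpB.SubQC.isFiniteType_mod hJ hfg, θ.app J.mod ≪≫ e, ?_⟩
  rw [← cancel_mono (θ.hom.app F), Iso.trans_hom, Iso.app_hom, Category.assoc, Category.assoc]
  exact (congrArg (θ.hom.app J.mod ≫ ·) he).trans (θ.hom.naturality J.ι).symm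

end Groth.Agent.S10087
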