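import Groth.Statements.S10088
import Groth.Agent.AlgSpB.Strata88.Pieces
import Groth.Agent.AlgSpB.Strata88.Cover
import Groth.Agent.S10048

set_option autoImplicit false
set_option backward.isDefEq.respectTransparency false
set_option backward.isDefEq.respectTransparency.types false
universe u
open CategoryTheory CategoryTheory.Limits AlgebraicGeometry Opposite
open AlgSp

namespace Groth.Agent.S10088

open Groth.Agent.AlgSp Groth.Agent.AlgSpB Groth.Agent.AlgSpB.Strata88

/-- Let `S` be a quasi-separated scheme and `X` an algebraic space over `S`, quasi-compact and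
quasi-separated over `S`. Then there are `t ≥ 0` and closed subspaces `Z_0, …, Z_t` of `X`, each of
finite presentation over `X`, with `|Z_0| ⊇ |Z_1| ⊇ ⋯ ⊇ |Z_t|`, `Z_0 ⟶ X` a thickening and `Z_t`
empty, and for every `k < t` a scheme `Y_k` with a finite surjective morphism `Y_k ⟶ Z_k` of finite
presentation which is finite etale over the open subspace of `Z_k` with points `|Z_k| ∖ |Z_{k+1}|`.
(The inclusions among the `Z_k` are recorded on points.) (The published statement allows any base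
scheme and uses absolute quasi-separatedness; this row assumes the base quasi-separated, over which
quasi-separatedness relative to the base is the absolute notion.) -/
theorem result (S : Scheme.{u}) [QuasiSeparatedSpace ↥S]
    (X : AlgSp.Space S) (hXqc : AlgSp.IsQuasiCompactSp X.obj) (hXqs : AlgSp.IsQuasiSeparatedSp X.obj) :
    ∃ (t : ℕ) (Z : Fin (t + 1) → AlgSp.Space S) (z : ∀ k, Z k ⟶ X),
      (∀ k, AlgSp.RepWith @IsClosedImmersion (z k).hom ∧ AlgSp.IsFinitePresentationMor (z k).hom) ∧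
      (∀ k l : Fin (t + 1), k ≤ l →
        Set.range (AlgSp.Points.map (z l).hom) ⊆ Set.range (AlgSp.Points.map (z k).hom)) ∧
      AlgSp.IsThickMor (z 0).hom ∧ IsEmpty (AlgSp.Points (Z (Fin.last t)).obj) ∧
      ∀ k : Fin t, ∃ (Y : Over S) (g : (AlgSp.yon S).obj Y ⟶ (Z k.castSucc).obj),
        AlgSp.IsFiniteMor g ∧ AlgSp.IsSurjectiveMor g ∧ AlgSp.IsFinitePresentationMor g ∧
        ∀ (W : AlgSp.Space S) (j : W ⟶ Z k.castSucc), AlgSp.RepWith @IsOpenImmersion j.hom →
          Set.range (AlgSp.Points.map (j ≫ z k.castSucc).hom) =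
            Set.range (AlgSp.Points.map (z k.castSucc).hom) \ Set.range (AlgSp.Points.map (z k.succ).hom) →
          ∀ (P : AlgSp.Sp S) (fst : P ⟶ (AlgSp.yon S).obj Y) (snd : P ⟶ W.obj), IsPullback fst snd g j.hom →
            AlgSp.IsFiniteMor snd ∧ AlgSp.IsEtaleMor snd := by
  obtain ⟨V, r, hV, hr, hrs⟩ := Groth.Agent.AlgSpEN.exists_affine_atlas X hXqc
  obtain ⟨M, O, hO, hcov, hgood⟩ := exists_opens X hXqs r hr hrs
  let G : ℕ → Set (Points X.obj) := fun l => ⋃ m ∈ Finset.range l, O m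
  have hGo : ∀ l, IsOpen (G l) := fun l => isOpen_biUnion fun m _ => (hO m).1
  have hGc : ∀ l, IsCompact (G l) := fun l => (Finset.range l).isCompact_biUnion fun m _ => (hO m).2
  have hGm : ∀ {a b : ℕ}, a ≤ b → G a ⊆ G b := fun h =>
    Set.biUnion_subset_biUnion_left (fun m hm => Finset.mem_range.2 ((Finset.mem_range.1 hm).trans_le h))
  choose Z z hz hzfp hzr using fun k : Fin (M + 1) => exists_closed_fp X hXqc hXqs (hGo k) (hGc k)
  refine ⟨M, Z, z, fun k => ⟨hz k, hzfp k⟩, fun k l hkl => ?_, ⟨(hz 0).1, fun A Q t q s sq => ⟨(hz 0).2 t q s sq, ?_⟩⟩,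
    ⟨fun x => ?_⟩, fun k => ?_⟩
  · rw [hzr, hzr]
    exact Set.compl_subset_compl.2 (hGm hkl)
  · refine ((repWith_surjective_iff (z 0).hom (hz 0).1).2 fun x => ?_).2 t q s sq
    exact (hzr 0).ge (show x ∉ G ((0 : Fin (M + 1)) : ℕ) by simp [G])
  · have h := (hzr (Fin.last M)).le ⟨x, rfl⟩
    exact h (show _ ∈ G M from hcov.ge (Set.mem_univ _))
  let Zk := Z k.castSucc
  let zk : Zk ⟶ X := z k.castSucc
  have hzk : RepWith @IsClosedImmersion zk.hom := hz _
  have hzkr : Set.range (Points.map zk.hom) = (G k)ᶜ := hzr _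
  have : Mono zk.hom := mono_of_isClosedImmersion hzk
  have hzi := injective_map_of_mono zk.hom
  have hdiff : Set.range (Points.map zk.hom) \ Set.range (Points.map (z k.succ).hom) =
      Set.range (Points.map zk.hom) ∩ O k := by
    rw [hzr k.succ, hzkr]
    ext x
    simp only [Set.mem_diff, Set.mem_compl_iff, not_not, Set.mem_inter_iff, G, Fin.val_succ,
      Finset.range_add_one, Finset.set_biUnion_insert, Set.mem_union]
    tauto
  obtain ⟨hZqc, hZqs⟩ := Groth.Agent.AlgSpSpec.qcqs_of_affine Zk.property X.property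
    (repWith_mono (fun g (hg : IsClosedImmersion g) => (inferInstance : IsAffineHom g)) hzk) hXqc hXqs
  let Gk : Set (Points Zk.obj) := Points.map zk.hom ⁻¹' O k
  have hGko : IsOpen Gk := (hO k).1.preimage (Points.continuous_map _)
  obtain ⟨W₀, jW, hjW, hjWr⟩ := exists_openSubspace Zk hGko
  obtain ⟨⟨T, hT, ⟨ε⟩⟩, hfin⟩ := hgood k k.2 Zk zk hzk (fun m hm => by
    rw [hzkr]
    exact Set.disjoint_compl_left_iff_subset.2 (Set.subset_biUnion_of_mem (u := O) (Finset.mem_range.2 hm)))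
    W₀ jW hjW (by
      ext x
      constructor
      · rintro ⟨w, rfl⟩
        rw [show (jW ≫ zk).hom = jW.hom ≫ zk.hom from rfl, Points.map_comp]
        exact ⟨⟨_, rfl⟩, hjWr.le ⟨w, rfl⟩⟩
      · rintro ⟨⟨y, rfl⟩, hy⟩
        obtain ⟨w, rfl⟩ := hjWr.ge hy
        exact ⟨w, Points.map_comp _ _ _⟩)
  obtain ⟨E₁, p₁, q₁, sq₁⟩ : ∃ (E₁ : Over S) (p₁ : E₁ ⟶ V) (q₁ : (yon S).obj E₁ ⟶ Zk.obj),
      IsPullback q₁ ((yon S).map p₁) zk.hom r :=
    ⟨_, _, _, hzk.1.isPullback r⟩
  have : IsClosedImmersion p₁.left := hzk.2 _ _ _ sq₁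
  have : IsAffine E₁.left := isAffine_of_isAffineHom p₁.left
  let j : (yon S).obj T ⟶ Zk.obj := ε.hom ≫ jW.hom
  have hj : RepWith @IsOpenImmersion j := (MorphismProperty.cancel_left_of_respectsIso _ ε.hom _).2 hjW
  obtain ⟨Y₁, g₁, hg₁, hg₁', hgr, het⟩ := exists_cover_open Zk hZqc hZqs q₁
    (MorphismProperty.of_isPullback sq₁.flip hr) (MorphismProperty.of_isPullback sq₁.flip hrs) j hj
    (fun Q fst snd sq => by
      have sq' := sq.paste_horiz sq₁.flip
      exact (MorphismProperty.cancel_right_of_respectsIso _ snd ε.hom).1 (hfin Q (fst ≫ (yon S).map p₁)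
        (snd ≫ ε.hom) (sq'.of_iso (Iso.refl _) (Iso.refl _) ε (Iso.refl _) (by simp) (by simp) (by simp)
          (by simp [j]))))
  have hjr : Set.range (Points.ofPt j) = Gk := by
    rw [show Gk = Set.range (Points.map jW.hom) from hjWr.symm]
    ext x
    constructor
    · rintro ⟨t, rfl⟩
      exact ⟨Points.ofPt ε.hom t, Points.map_ofPt _ _ _⟩
    · rintro ⟨w, rfl⟩
      refine ⟨Points.toScheme T (Points.map ε.inv w), ?_⟩
      rw [Points.ofPt_eq_map_ofScheme, Points.ofScheme_toScheme, ← Points.map_comp]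
      simp [j]
  have hGkc : IsCompact Gk := hjr ▸ isCompact_range (Points.continuous_ofPt j)
  obtain ⟨Z', z', hz', hz'fp, hz'r⟩ := exists_closed_fp Zk hZqc hZqs hGko hGkc
  have haff' : RepWith @IsAffineHom z'.hom :=
    repWith_mono (fun g (hg : IsClosedImmersion g) => (inferInstance : IsAffineHom g)) hz'
  obtain ⟨hqc', hqs'⟩ := Groth.Agent.AlgSpSpec.qcqs_of_affine Z'.property Zk.property haff' hZqc hZqs
  obtain ⟨U₂, p₂, -, hp₂, hp₂s⟩ := Groth.Agent.AlgSpEN.exists_affine_atlas Z' hqc'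
  obtain ⟨Y₂, g₂, hg₂f, hg₂s, hg₂p, -⟩ := Groth.Agent.S10048.result S Z' hqc' hqs' U₂ p₂ hp₂ hp₂s
  have hg₂ : RepWith @IsFinite g₂ := (Groth.Agent.AlgSpD.isFiniteMor_iff _).1 hg₂f
  have hg₂' : RepWith @LocallyOfFinitePresentation g₂ := Groth.Agent.AlgSpCov.repWith_of_locP
    Groth.Agent.AlgSpCov.etaleLocal_locallyOfFinitePresentation (IsAlgSpace.yon_obj Y₂) Z'.property hg₂.1 hg₂p.1
  obtain ⟨Y, g, i₁, i₂, hi₁, hcompl, e₁, e₂, hgf, hgl⟩ := exists_union g₁ (g₂ ≫ z'.hom) hg₁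
    ((repWith_isMultiplicative (S := S) @IsFinite).comp_mem _ _ hg₂
      (repWith_mono (fun g (hg : IsClosedImmersion g) => (inferInstance : IsFinite g)) hz')) hg₁'
    (Groth.Agent.AlgSpCov.repWith_comp hg₂'
      (Groth.Agent.AlgSpCov.repWith_of_locP Groth.Agent.AlgSpCov.etaleLocal_locallyOfFinitePresentation
        Z'.property Zk.property hz'.1 hz'fp.1))
  refine ⟨Y, g, (Groth.Agent.AlgSpD.isFiniteMor_iff _).2 hgf, fun x => ?_,
    Groth.Agent.AlgSpSpec.isFinitePresentationMor_of_affine (IsAlgSpace.yon_obj Y) Zk.property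
      (repWith_mono (fun g (hg : IsFinite g) => (inferInstance : IsAffineHom g)) hgf) hgl,
    fun W j' hj' hr' P fst snd sq => ?_⟩
  · by_cases hx : x ∈ Gk
    · obtain ⟨y, hy⟩ := hgr (hjr.ge hx)
      exact ⟨Points.map ((yon S).map i₁) y, by rw [← Points.map_comp, e₁, hy]⟩
    · obtain ⟨w, hw⟩ := hz'r.ge hx
      obtain ⟨y, hy⟩ := hg₂s w
      exact ⟨Points.map ((yon S).map i₂) y, by rw [← Points.map_comp, e₂, Points.map_comp, hy, hw]⟩
  have hr'' : Set.range (Points.map j'.hom) = Gk := by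
    have h : Set.range (Points.map (j' ≫ zk).hom) = Set.range (Points.map zk.hom) ∩ O k := hr'.trans hdiff
    ext x
    constructor
    · rintro ⟨w, rfl⟩
      have := (h.le ⟨w, rfl⟩).2
      rwa [show (j' ≫ zk).hom = j'.hom ≫ zk.hom from rfl, Points.map_comp] at this
    · intro hx
      obtain ⟨w, hw⟩ := h.ge ⟨⟨x, rfl⟩, hx⟩
      exact ⟨w, hzi (by rw [← Points.map_comp]; exact hw)⟩
  have hjrange : Set.range (Points.map j) = Gk := by
    rw [← hjr]
    ext x
    constructor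
    · rintro ⟨y, rfl⟩
      exact ⟨Points.toScheme T y, by rw [Points.ofPt_eq_map_ofScheme, Points.ofScheme_toScheme]⟩
    · rintro ⟨t, rfl⟩
      exact ⟨_, (Points.ofPt_eq_map_ofScheme _ _).symm⟩
  have : Mono j'.hom := mono_of_isOpenImmersion hj'
  have : Mono j := mono_of_isOpenImmersion hj
  obtain ⟨θ₁, hθ₁⟩ := (exists_factor_isOpenImmersion_iff hj j'.hom).2 (by rw [hr'', hjrange])
  obtain ⟨θ₂, hθ₂⟩ := (exists_factor_isOpenImmersion_iff hj' j).2 (by rw [hr'', hjrange])
  let θ : W.obj ≅ (yon S).obj T :=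
    ⟨θ₁, θ₂, (cancel_mono j'.hom).1 (by rw [Category.assoc, hθ₂, hθ₁, Category.id_comp]),
      (cancel_mono j).1 (by rw [Category.assoc, hθ₁, hθ₂, Category.id_comp])⟩
  have sqT : IsPullback fst (snd ≫ θ.hom) g j :=
    sq.of_iso (Iso.refl _) (Iso.refl _) θ (Iso.refl _) (by simp) (by simp) (by simp) (by simp [θ, hθ₁])
  obtain ⟨P₀, c, ν, sq₀⟩ := exists_pullback_yon hgf.1 j
  have hc : Set.range c.left ⊆ Set.range i₁.left := by
    rintro _ ⟨a, rfl⟩
    rcases hcompl.codisjoint.top_le (Set.mem_univ (c.left a)) with h | ⟨b, hb⟩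
    · exact h
    exfalso
    have h1 : Points.ofPt ((yon S).map c ≫ g) a ∈ Gk := by
      rw [sq₀.w, ofPt_map_comp]
      exact hjr.le ⟨_, rfl⟩
    have h2 : Points.ofPt ((yon S).map c ≫ g) a ∈ Gkᶜ := by
      rw [ofPt_map_comp, ← hb, ← ofPt_map_comp, e₂, ← hz'r]
      exact ⟨Points.ofPt g₂ b, Points.map_ofPt _ _ _⟩
    exact h2 h1
  let c₁ : P₀ ⟶ Y₁ := Over.homMk (IsOpenImmersion.lift i₁.left c.left hc) (by
    rw [← Over.w i₁, IsOpenImmersion.lift_fac_assoc, Over.w c])
  have hc₁ : c₁ ≫ i₁ = c := by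
    ext1
    exact IsOpenImmersion.lift_fac _ _ _
  have : Mono i₁ := by
    have : Mono i₁.left := inferInstance
    exact Over.mono_of_mono_left i₁
  have sqi : IsPullback ((yon S).map c₁) (𝟙 _) ((yon S).map i₁) ((yon S).map c) := by
    have h1 : IsPullback ((yon S).map c₁) (𝟙 ((yon S).obj P₀)) (𝟙 _) ((yon S).map c₁) := IsPullback.of_id_snd
    have h2 : IsPullback (𝟙 _) (𝟙 _) ((yon S).map i₁) ((yon S).map i₁) := IsKernelPair.id_of_mono _
    simpa [← Functor.map_comp, hc₁] using h1.paste_horiz h2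
  have sq₁' : IsPullback ((yon S).map c₁) ((yon S).map ν) g₁ j := by
    rw [← e₁]
    simpa using sqi.paste_vert sq₀
  obtain ⟨hνf, hνe⟩ := het _ _ _ sq₁'
  have e : snd = (sqT.isoIsPullback _ _ sq₀).hom ≫ (yon S).map ν ≫ θ.inv := by
    rw [← Category.assoc, IsPullback.isoIsPullback_hom_snd, Category.assoc, θ.hom_inv_id, Category.comp_id]
  rw [e]
  have : IsIso θ.inv := Iso.isIso_inv θ
  exact ⟨(Groth.Agent.AlgSpD.isFiniteMor_iff _).2 ((MorphismProperty.cancel_left_of_respectsIso _ _ _).2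
      ((MorphismProperty.cancel_right_of_respectsIso _ _ _).2 hνf)),
    Groth.Agent.AlgSpCov.isEtaleMor_of_repWith ((MorphismProperty.cancel_left_of_respectsIso _ _ _).2
      ((MorphismProperty.cancel_right_of_respectsIso _ _ _).2 hνe))⟩

end Groth.Agent.S10088
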