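import Groth.Statements.S10096
import Groth.Agent.AlgSpB.Points
import Groth.Agent.AlgSp.Basic

set_option autoImplicit false
universe u
open CategoryTheory CategoryTheory.Limits AlgebraicGeometry
open AlgSp

namespace Groth.Agent.S10096

open Groth.Agent.AlgSp (yEquiv)

/-- Let `a : F ⟶ G` be a map of fppf sheaves of sets over `S` that is flat, surjective, locally of
finite presentation and representable by algebraic spaces (every base change `h_U ×_G F ⟶ h_U` to a
scheme is such a morphism of algebraic spaces). Then `a` is surjective as a map of sheaves (an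
epimorphism of fppf sheaves). -/
theorem result (S : Scheme.{u}) (F G : AlgSp.Sp S) (a : F ⟶ G)
    (ha : AlgSp.RepBySpWith (AlgSp.IsSurjectiveMor ⊓ AlgSp.LocP @Flat ⊓ AlgSp.LocP @LocallyOfFinitePresentation) a.hom) :
    Epi a := by
  have : Sheaf.IsLocallySurjective a := by
    refine Groth.Agent.AlgSp.isLocallySurjective_of_fppf_lift a fun U g => ?_
    have sq := IsPullback.of_hasPullback a g
    obtain ⟨_, hA, ⟨hs, hfl⟩, hlfp⟩ := ha g.hom _ _ (sq.map (sheafToPresheaf (AlgSp.J S) (Type (u + 1))))
    have hA' : AlgSp.IsAlgSpace (pullback a g) := hA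
    obtain ⟨V, p, hpe, hps⟩ := hA'.atlas
    let k : V ⟶ U := (AlgSp.yon S).preimage (p ≫ pullback.snd a g)
    have hk : (AlgSp.yon S).map k = p ≫ pullback.snd a g := Functor.map_preimage _ _
    have hid : AlgSp.RepWith @Etale (𝟙 ((AlgSp.yon S).obj U)) := (AlgSp.repWith_isMultiplicative (S := S) @Etale).id_mem _
    refine ⟨V, k, p ≫ pullback.fst a g, hfl p (𝟙 _) k hpe hid ?_, ⟨fun x => ?_⟩,
      hlfp p (𝟙 _) k hpe hid ?_, by rw [Category.assoc, pullback.condition, hk, Category.assoc]⟩
    · rw [hk, Category.comp_id]; rfl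
    · obtain ⟨y, hy⟩ := hs (AlgSp.Points.ofScheme U x)
      obtain ⟨v, rfl⟩ := Groth.Agent.AlgSpB.surjective_ofPt hps y
      refine ⟨v, ?_⟩
      have := congrArg (AlgSp.Points.toScheme U) hy
      erw [AlgSp.Points.map_ofPt, ← hk, AlgSp.Points.toScheme_ofPt, AlgSp.Points.toScheme_ofScheme] at this
      exact this
    · rw [hk, Category.comp_id]; rfl
  exact Sheaf.epi_of_isLocallySurjective a

end Groth.Agent.S10096
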