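import Groth.Statements.S10101
import Groth.Agent.AlgSpB.Bootstrap

set_option autoImplicit false
universe u
open CategoryTheory CategoryTheory.Limits AlgebraicGeometry
open AlgSp

namespace Groth.Agent.S10101

/-- Let `F` be an fppf sheaf of sets over `S` and `X ⟶ F` a map from an algebraic space that is
surjective, etale and representable by algebraic spaces. It follows that `F` is an algebraic space.
(The published statement also gives an equivalent set of conditions in which the diagonal of `F` is
representable by algebraic spaces; this row uses the form with the map representable by algebraic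
spaces.) -/
theorem result (S : Scheme.{u}) (F : AlgSp.Sp S) (X : AlgSp.Space S)
    (p : X.obj ⟶ F) (hp : AlgSp.RepBySpWith (AlgSp.IsSurjectiveMor ⊓ AlgSp.IsEtaleMor) p.hom) :
    AlgSp.IsAlgSpace F := by
  obtain ⟨U, q, hq, hqs⟩ := X.property.atlas
  obtain ⟨hc, he⟩ := Groth.Agent.AlgSpB.atlas_comp q hq hqs p.hom hp
  have key : ∀ (P : MorphismProperty Scheme.{u}) [P.IsStableUnderBaseChange],
      (∀ ⦃T : Over S⦄ (x : (AlgSp.pyon S).obj T ⟶ F.obj), P (hc.snd x).left) → AlgSp.RepWith P (q ≫ p) := by
    intro P _ hP
    have : P.RespectsIso := MorphismProperty.IsStableUnderBaseChange.respectsIso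
    refine MorphismProperty.relative.of_exists fun T g => ?_
    refine ⟨hc.pullback g.hom, ObjectProperty.homMk (hc.fst g.hom), hc.snd g.hom, ?_, hP g.hom⟩
    exact IsPullback.of_map_of_faithful (sheafToPresheaf (AlgSp.J S) (Type (u + 1))) (hc.isPullback g.hom)
  exact Groth.Agent.AlgSp.isAlgSpace_of_etale_surjective (q ≫ p) (key @Etale fun T x => (he x).1)
    (key @Surjective fun T x => (he x).2)

end Groth.Agent.S10101
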