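import Groth.Statements.S10105
import Groth.Agent.AlgSpB.Art.Descend

set_option autoImplicit false
set_option backward.isDefEq.respectTransparency false
set_option backward.isDefEq.respectTransparency.types false

universe u
open CategoryTheory CategoryTheory.Limits AlgebraicGeometry
open AlgSp

namespace Groth.Agent.S10105

/-- Let `F` be an fppf sheaf of sets over `S` and `{S_i ⟶ S}` an fppf covering. If every `h_{S_i} × F`
is an algebraic space and the coproduct `∐ h_{S_i} × F` (in sheaves) is an algebraic space, then `F`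
is an algebraic space: being an algebraic space is fppf local on the base. -/
theorem result (S : Scheme.{u}) (F : AlgSp.Sp S) {ι : Type u} (Si : ι → Over S)
    (hfl : ∀ i, Flat (Si i).hom) (hfp : ∀ i, LocallyOfFinitePresentation (Si i).hom)
    (hsurj : ∀ x : ↥S, ∃ (i : ι) (y : ↥(Si i).left), (Si i).hom.base y = x)
    (halg : ∀ i, AlgSp.IsAlgSpace ((AlgSp.yon S).obj (Si i) ⨯ F))
    (c : Cofan (fun i => (AlgSp.yon S).obj (Si i) ⨯ F)) (hc : IsColimit c) (hcop : AlgSp.IsAlgSpace c.pt) :
    AlgSp.IsAlgSpace F := by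
  let T : Over S := Over.mk (𝟙 S)
  have hT : IsTerminal ((AlgSp.yon S).obj T) := IsTerminal.isTerminalObj (AlgSp.yon S) T Over.mkIdTerminal
  let g : ∀ i, (AlgSp.yon S).obj (Si i) ⟶ (AlgSp.yon S).obj T := fun i =>
    (AlgSp.yon S).map (Over.homMk (Si i).hom (Category.comp_id _))
  refine Groth.Agent.AlgSpB.Art.isAlgSpace_of_fppfCover (AlgSp.IsAlgSpace.yon_obj T) (fun i => (AlgSp.yon S).obj (Si i))
    (fun i => AlgSp.IsAlgSpace.yon_obj _) g (fun i => ?_) (fun i => ?_) (fun x => ?_) (hT.from F) fun i => ?_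
  · exact Groth.Agent.AlgSpCov.locP_of_repWith Groth.Agent.AlgSpCov.etaleLocal_flat
      ((AlgSp.repWith_yon_map_iff _ _).2 (hfl i))
  · exact Groth.Agent.AlgSpCov.locP_of_repWith Groth.Agent.AlgSpCov.etaleLocal_locallyOfFinitePresentation
      ((AlgSp.repWith_yon_map_iff _ _).2 (hfp i))
  · obtain ⟨s, rfl⟩ := Groth.Agent.AlgSpB.surjective_ofPt
      (Groth.Agent.AlgSpB.repWith_of_isIso (P := @Surjective) (𝟙 ((AlgSp.yon S).obj T))) x
    obtain ⟨i, y, rfl⟩ := hsurj s
    refine ⟨i, AlgSp.Points.ofPt (𝟙 _) y, ?_⟩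
    rw [AlgSp.Points.map_ofPt, Category.id_comp, ← Category.comp_id (g i)]
    exact Groth.Agent.AlgSpB.ofPt_map_comp _ _ _
  · exact (halg i).of_iso ((prod.braiding _ _).trans
      (IsPullback.isoPullback (IsPullback.of_is_product (prodIsProd F ((AlgSp.yon S).obj (Si i))) hT)) |>.trans
      (pullback.congrHom (hT.hom_ext _ _) (hT.hom_ext _ _)))

end Groth.Agent.S10105
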