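import Groth.Statements.S10108
import Groth.Agent.AlgSpB.EtaleSheaf

set_option autoImplicit false
universe u
open CategoryTheory CategoryTheory.Limits AlgebraicGeometry
open AlgSp

namespace Groth.Agent.S10108

/-- A presheaf of sets on schemes over `S` which is a sheaf for the etale topology, has diagonal
representable by schemes, and receives a representable surjective etale map from a scheme over `S`,
is an algebraic space (in particular an fppf sheaf): algebraic spaces defined with the etale
topology are the same as with the fppf topology. -/
theorem result (S : Scheme.{u}) (F : AlgSp.PSp S)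
    (h1 : Presheaf.IsSheaf (QuotSh.J Scheme.etalePrecoverage S) F)
    (h2 : (AlgSp.pyon S).relativelyRepresentable (Limits.diag F))
    (U : Over S) (p : (AlgSp.pyon S).obj U ⟶ F)
    (h3 : (MorphismProperty.inverseImage @Etale (Over.forget S)).relative (AlgSp.pyon S) p ∧
      (MorphismProperty.inverseImage @Surjective (Over.forget S)).relative (AlgSp.pyon S) p) :
    AlgSp.IsAlgSpaceP F := by
  exact Groth.Agent.AlgSpB.isAlgSpaceP_of_etaleSheaf F h1 U p h3.1.1 fun T x =>
    ⟨h3.1.2 _ _ _ (h3.1.1.isPullback x), h3.2.2 _ _ _ (h3.1.1.isPullback x)⟩

end Groth.Agent.S10108
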