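import Groth.Statements.S10112
import Groth.Agent.AlgSpB.Art.FreeAction

set_option autoImplicit false
set_option backward.isDefEq.respectTransparency false
set_option backward.isDefEq.respectTransparency.types false

universe u
open CategoryTheory CategoryTheory.Limits AlgebraicGeometry MonoidalCategory
open AlgSp

namespace Groth.Agent.S10112

/-- Let `G` be a group algebraic space over an algebraic space `B`, flat and locally of finite
presentation over `B`, acting freely on an algebraic space `X` over `B`. Then `X/G` is an algebraic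
space, the quotient map `X ⟶ X/G` is flat, surjective and locally of finite presentation, and `(g,
x) ↦ (g x, x)` is an isomorphism `G ×_B X ⟶ X ×_{X/G} X`, so that `X` is an fppf `G`-torsor over
`X/G`. -/
theorem result (S : Scheme.{u}) (B : AlgSp.Sp S) (hB : AlgSp.IsAlgSpace B)
    (G X : Over B) [GrpObj G] (hG : AlgSp.IsAlgSpace G.left) (hX : AlgSp.IsAlgSpace X.left)
    (a : AlgSp.GAction G X) (ha : a.IsFree)
    (hfl : AlgSp.LocP @Flat G.hom ∧ AlgSp.LocP @LocallyOfFinitePresentation G.hom) :
    AlgSp.IsAlgSpace a.quot ∧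
      (AlgSp.IsSurjectiveMor a.quotπ ∧ AlgSp.LocP @Flat a.quotπ ∧ AlgSp.LocP @LocallyOfFinitePresentation a.quotπ) ∧
      IsIso (pullback.lift a.act.left (CartesianMonoidalCategory.snd G X).left
        (AlgSp.quotSp_condition (CartesianMonoidalCategory.snd G X).left a.act.left).symm :
          (G ⊗ X).left ⟶ pullback a.quotπ a.quotπ) := by
  have he := Groth.Agent.AlgSpB.Art.isEqvRelSp_of_free a ha
  have hR : AlgSp.IsAlgSpace (G ⊗ X).left := Groth.Agent.AlgSp.isAlgSpace_pullback hB hG hX G.hom X.hom
  have hs : ∀ (P : MorphismProperty Scheme.{u}) [P.IsStableUnderBaseChange], Groth.Agent.AlgSpCov.EtaleLocal P →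
      AlgSp.LocP P G.hom → AlgSp.LocP P (CartesianMonoidalCategory.snd G X).left := fun P _ hP h =>
    Groth.Agent.AlgSpCov.locP_baseChange hP hG hB (IsPullback.of_hasPullback G.hom X.hom) h
  have := Groth.Agent.AlgSpB.epi_quotSpπ (CartesianMonoidalCategory.snd G X).left a.act.left
  have : Sheaf.IsLocallySurjective (AlgSp.quotSpπ (CartesianMonoidalCategory.snd G X).left a.act.left) :=
    (Sheaf.isLocallySurjective_iff_epi _).2 inferInstance
  have sq := Groth.Agent.AlgSpB.isPullback_quotSpπ he
  have hf := hs @Flat Groth.Agent.AlgSpCov.etaleLocal_flat hfl.1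
  have hl := hs @LocallyOfFinitePresentation Groth.Agent.AlgSpCov.etaleLocal_locallyOfFinitePresentation hfl.2
  have hq : AlgSp.IsAlgSpace a.quot := Groth.Agent.AlgSpB.Art.isAlgSpace_of_kernelPair_flat hX hR _ sq hf hl
  refine ⟨hq, ⟨Groth.Agent.AlgSpB.surjective_map_of_isLocallySurjective
    (AlgSp.quotSpπ (CartesianMonoidalCategory.snd G X).left a.act.left),
    Groth.Agent.AlgSpB.quotSpπ_flat_lfp hR hX he hq Groth.Agent.AlgSpCov.etaleLocal_flat hf,
    Groth.Agent.AlgSpB.quotSpπ_flat_lfp hR hX he hq
      Groth.Agent.AlgSpCov.etaleLocal_locallyOfFinitePresentation hl⟩, ?_⟩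
  exact inferInstanceAs (IsIso sq.isoPullback.hom)

end Groth.Agent.S10112
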