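import Groth.Statements.S10114
import Groth.Agent.AlgSpB.QuotRel

set_option autoImplicit false
set_option backward.isDefEq.respectTransparency false
universe u
open CategoryTheory CategoryTheory.Limits AlgebraicGeometry
open AlgSp

namespace Groth.Agent.S10114

/-- Let `s, t : R ⟶ U` be a pre-equivalence relation of algebraic spaces, `g : U' ⟶ U` a morphism of
algebraic spaces and `s', t' : R' ⟶ U'` the restriction of the pre-relation along `g` (so `R' = (U'
× U') ×_{U × U} R`). Then the induced map of quotient sheaves `U'/R' ⟶ U/R` is injective, and it is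
an isomorphism when `g` is a surjection of sheaves. -/
theorem result (S : Scheme.{u}) (R U R' U' : AlgSp.Sp S)
    (hR : AlgSp.IsAlgSpace R) (hU : AlgSp.IsAlgSpace U) (hR' : AlgSp.IsAlgSpace R') (hU' : AlgSp.IsAlgSpace U')
    (s t : R ⟶ U) (hpre : AlgSp.IsPreEqvRelSp s t) (g : U' ⟶ U) (s' t' : R' ⟶ U') (r : R' ⟶ R)
    (hsq : IsPullback (prod.lift t' s') r (prod.map g g) (prod.lift t s))
    (ψ : AlgSp.quotSp s' t' ⟶ AlgSp.quotSp s t) (hψ : AlgSp.quotSpπ s' t' ≫ ψ = g ≫ AlgSp.quotSpπ s t) :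
    Mono ψ ∧ (Epi g → IsIso ψ) := by
  have hψ' : AlgSp.quotSpπ s' t' ≫ ψ = g ≫ AlgSp.quotSpπ s t ≫ 𝟙 _ := by rw [Category.comp_id, hψ]
  have hm : Mono ψ := Groth.Agent.AlgSpB.mono_of_rel_lift hpre (𝟙 _) g ψ hψ' fun T a b r h1 h2 => by
    have w : r ≫ prod.lift t s = prod.lift a b ≫ prod.map g g := by ext <;> simp [h1, h2]
    refine ⟨hsq.lift (prod.lift a b) r (by rw [w]), ?_, ?_⟩
    · have := congrArg (fun k => k ≫ prod.fst) (hsq.lift_fst (prod.lift a b) r (by rw [w]))
      simpa using this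
    · have := congrArg (fun k => k ≫ prod.snd) (hsq.lift_fst (prod.lift a b) r (by rw [w]))
      simpa using this
  refine ⟨hm, fun hg => ?_⟩
  have := Groth.Agent.AlgSpB.epi_quotSpπ s t
  have : Epi (AlgSp.quotSpπ s' t' ≫ ψ) := by rw [hψ]; infer_instance
  have : Epi ψ := epi_of_epi (AlgSp.quotSpπ s' t') ψ
  exact isIso_of_mono_of_epi ψ

end Groth.Agent.S10114
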