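import Groth.Statements.S10115
import Groth.Agent.AlgSpB.QuotRel
import Groth.Agent.AlgSpB.Gpd

set_option autoImplicit false
set_option backward.isDefEq.respectTransparency false
universe u
open CategoryTheory CategoryTheory.Limits AlgebraicGeometry
open AlgSp AlgSp.GroupoidSp

namespace Groth.Agent.S10115

/-- For a groupoid `(U, R, s, t, c)` in algebraic spaces over `B`, let `(U', R', s', t', c')` be its
restriction along a morphism `g : U' ⟶ U` over `B`. Then `U'/R' ⟶ U/R` is injective; if the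
composite `h : U' ×_{g, U, t} R ⟶ R ⟶ U` of the projection with `s` is a surjection of fppf sheaves
(for instance if `g` is), then it is bijective. -/
theorem result (S : Scheme.{u}) (B : AlgSp.Sp S) (hB : AlgSp.IsAlgSpace B)
    (G G' : AlgSp.GroupoidSp B) (hU : AlgSp.IsAlgSpace G.U) (hR : AlgSp.IsAlgSpace G.R)
    (hU' : AlgSp.IsAlgSpace G'.U) (hR' : AlgSp.IsAlgSpace G'.R) (φ : AlgSp.GroupoidSp.Hom G' G)
    (hφ : φ.IsRestriction) (ψ : G'.quot ⟶ G.quot) (hψ : G'.quotπ ≫ ψ = φ.fU ≫ G.quotπ) :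
    Mono ψ ∧ (Epi (pullback.snd φ.fU G.t ≫ G.s) → IsIso ψ) := by
  have hψ' : G'.quotπ ≫ ψ = φ.fU ≫ G.quotπ ≫ 𝟙 _ := by rw [Category.comp_id, hψ]
  have hm : Mono ψ := Groth.Agent.AlgSpB.mono_of_rel_lift
      (Groth.Agent.AlgSpB.Gpd.isPreEqvRel G) (𝟙 _) φ.fU ψ hψ' fun T a b r h1 h2 => by
    have hab : a ≫ G'.pU = b ≫ G'.pU := by
      rw [← φ.fU_over, ← reassoc_of% h1, ← reassoc_of% h2, G.t_over, G.s_over]
    have w : r ≫ G.j = pullback.lift a b hab ≫ φ.prodMap := by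
      apply pullback.hom_ext <;> simp [AlgSp.GroupoidSp.Hom.prodMap, h1, h2]
    refine ⟨hφ.lift r (pullback.lift a b hab) w, ?_, ?_⟩
    · rw [← AlgSp.GroupoidSp.j_fst G', ← Category.assoc, hφ.lift_snd, pullback.lift_fst]
    · rw [← AlgSp.GroupoidSp.j_snd G', ← Category.assoc, hφ.lift_snd, pullback.lift_snd]
  refine ⟨hm, fun hg => ?_⟩
  have : Epi G.quotπ := Groth.Agent.AlgSpB.epi_quotSpπ G.s G.t
  have e : (pullback.snd φ.fU G.t ≫ G.s) ≫ G.quotπ =
      (pullback.fst φ.fU G.t ≫ G'.quotπ) ≫ ψ := by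
    rw [Category.assoc, Category.assoc, hψ, reassoc_of% pullback.condition (f := φ.fU) (g := G.t)]
    congr 1
    exact AlgSp.quotSp_condition G.s G.t
  have : Epi ((pullback.fst φ.fU G.t ≫ G'.quotπ) ≫ ψ) := by rw [← e]; exact epi_comp' hg ‹_›
  have : Epi ψ := epi_of_epi (pullback.fst φ.fU G.t ≫ G'.quotπ) ψ
  exact isIso_of_mono_of_epi ψ

end Groth.Agent.S10115
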