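import Groth.Statements.S10117
import Groth.Agent.AlgSp.Basic
import Mathlib.CategoryTheory.Monoidal.Cartesian.Grp
import Groth.Prelude.Def_AlgSpGpd

set_option autoImplicit false
set_option backward.isDefEq.respectTransparency false
universe u
open CategoryTheory CategoryTheory.Limits AlgebraicGeometry MonoidalCategory MonObj
open AlgSp AlgSp.GAction

namespace Groth.Agent.S10117

open CartesianMonoidalCategory in
theorem act_mul {S : Scheme.{u}} {B : AlgSp.Sp S} {G X : Over B} [GrpObj G] (a : AlgSp.GAction G X)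
    {W : Over B} (g h : W ⟶ G) (x : W ⟶ X) :
    lift (lift g h ≫ μ[G]) x ≫ a.act = lift g (lift h x ≫ a.act) ≫ a.act := by
  have := lift (lift g h) x ≫= a.mul_act
  simpa using this

open CartesianMonoidalCategory in
theorem act_one {S : Scheme.{u}} {B : AlgSp.Sp S} {G X : Over B} [GrpObj G] (a : AlgSp.GAction G X)
    {W : Over B} (x : W ⟶ X) : lift (toUnit _ ≫ η[G]) x ≫ a.act = x := by
  have := lift (toUnit _) x ≫= a.one_act
  simpa using this

/-- If a group algebraic space `G` over `B` acts freely on an algebraic space `X` over `B`, then `G ×_B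
X ⟶ X ×_B X`, `(g, x) ↦ (g x, x)`, is a monomorphism. (The published statement is an equivalence;
this row states only the direction from free to monomorphism.) -/
theorem result (S : Scheme.{u}) (B : AlgSp.Sp S) (hB : AlgSp.IsAlgSpace B)
    (G X : Over B) [GrpObj G] (hG : AlgSp.IsAlgSpace G.left) (hX : AlgSp.IsAlgSpace X.left)
    (a : AlgSp.GAction G X) (ha : a.IsFree) :
    Mono (CartesianMonoidalCategory.lift a.act (CartesianMonoidalCategory.snd G X)).left := by
  refine Groth.Agent.AlgSp.mono_of_yon _ fun T a₁ a₂ e => ?_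
  have e' := congrArg (fun k => k ≫ (CartesianMonoidalCategory.fst X X).left) e
  have e'' := congrArg (fun k => k ≫ (CartesianMonoidalCategory.snd X X).left) e
  simp only [Category.assoc, ← Over.comp_left, CartesianMonoidalCategory.lift_fst,
    CartesianMonoidalCategory.lift_snd] at e' e''
  let β := a₁ ≫ (G ⊗ X).hom
  have hβ : a₂ ≫ (G ⊗ X).hom = β := by
    have h0 : a₁ ≫ (CartesianMonoidalCategory.snd G X).left ≫ X.hom =
        a₂ ≫ (CartesianMonoidalCategory.snd G X).left ≫ X.hom := by
      rw [← Category.assoc, e'', Category.assoc]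
    simpa only [Over.w, β] using h0.symm
  let m₁ : Over.mk β ⟶ G ⊗ X := Over.homMk a₁ rfl
  let m₂ : Over.mk β ⟶ G ⊗ X := Over.homMk a₂ hβ
  let g₁ := m₁ ≫ CartesianMonoidalCategory.fst G X
  let g₂ := m₂ ≫ CartesianMonoidalCategory.fst G X
  let x := m₁ ≫ CartesianMonoidalCategory.snd G X
  have hx : m₂ ≫ CartesianMonoidalCategory.snd G X = x := Over.OverMorphism.ext e''.symm
  have h1 : m₁ = CartesianMonoidalCategory.lift g₁ x :=
    CartesianMonoidalCategory.hom_ext _ _ (by simp [g₁]) (by simp [x])
  have h2 : m₂ = CartesianMonoidalCategory.lift g₂ x :=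
    CartesianMonoidalCategory.hom_ext _ _ (by simp [g₂]) (by simp [← hx])
  have ha' : CartesianMonoidalCategory.lift g₁ x ≫ a.act =
      CartesianMonoidalCategory.lift g₂ x ≫ a.act := by
    rw [← h1, ← h2]; exact Over.OverMorphism.ext e'
  let k := CartesianMonoidalCategory.lift (g₂ ≫ GrpObj.inv) g₁ ≫ μ[G]
  have hk : CartesianMonoidalCategory.lift k x ≫ a.act = x := by
    rw [act_mul, ha', ← act_mul, GrpObj.lift_comp_inv_left, act_one]
  have hk' := ha β k x hk
  have : g₁ = g₂ := by
    let _ : Group (Over.mk β ⟶ G) := CategoryTheory.Hom.group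
    have h3 : g₂⁻¹ * g₁ = 1 := hk'
    exact (inv_mul_eq_one.1 h3).symm
  have : m₁ = m₂ := by rw [h1, h2, this]
  exact congrArg CommaMorphism.left this

end Groth.Agent.S10117
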