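import Groth.Statements.S10121
import Groth.Agent.AlgSpB.Points
import Groth.Prelude.Def_AlgSpGpd

set_option autoImplicit false
set_option backward.isDefEq.respectTransparency false
universe u
open CategoryTheory CategoryTheory.Limits AlgebraicGeometry
open AlgSp

namespace Groth.Agent.S10121

/-- For a pre-equivalence relation `s, t : R ⟶ U` of algebraic spaces, the relation on points of `U`
given by `x ∼ y` when some point `r` of `R` has `t(r) = x` and `s(r) = y` is an equivalence relation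
on `|U|`. -/
theorem result (S : Scheme.{u}) (R U : AlgSp.Sp S)
    (hR : AlgSp.IsAlgSpace R) (hU : AlgSp.IsAlgSpace U) (s t : R ⟶ U) (h : AlgSp.IsPreEqvRelSp s t) :
    _root_.Equivalence (fun x y : AlgSp.Points U =>
      ∃ r : AlgSp.Points R, AlgSp.Points.map t r = x ∧ AlgSp.Points.map s r = y) := by
  refine ⟨fun x => ?_, ?_, ?_⟩
  · obtain ⟨p, hp⟩ := Groth.Agent.AlgSpB.exists_eq_ofPt_toHom x
    obtain ⟨r, h1, h2⟩ := (h p.pt).refl p.toHom
    exact ⟨AlgSp.Points.ofPt r (IsLocalRing.closedPoint p.K),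
      by rw [AlgSp.Points.map_ofPt, h1, hp], by rw [AlgSp.Points.map_ofPt, h2, hp]⟩
  · rintro x y ⟨r, h1, h2⟩
    obtain ⟨p, hp⟩ := Groth.Agent.AlgSpB.exists_eq_ofPt_toHom r
    obtain ⟨r', h3, h4⟩ := (h p.pt).symm ⟨p.toHom, rfl, rfl⟩
    refine ⟨AlgSp.Points.ofPt r' (IsLocalRing.closedPoint p.K), ?_, ?_⟩
    · rw [AlgSp.Points.map_ofPt, h3, ← AlgSp.Points.map_ofPt, hp, h2]
    · rw [AlgSp.Points.map_ofPt, h4, ← AlgSp.Points.map_ofPt, hp, h1]
  · rintro x y z ⟨r, h1, h2⟩ ⟨r', h3, h4⟩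
    obtain ⟨q, hq1, hq2⟩ := Groth.Agent.AlgSpB.exists_of_isPullback
      (IsPullback.of_hasPullback s t) r r' (h2.trans h3.symm)
    obtain ⟨p, hp⟩ := Groth.Agent.AlgSpB.exists_eq_ofPt_toHom q
    obtain ⟨r'', h5, h6⟩ := (h p.pt).trans ⟨p.toHom ≫ pullback.fst s t, rfl, rfl⟩
      ⟨p.toHom ≫ pullback.snd s t, by rw [Category.assoc, Category.assoc, pullback.condition], rfl⟩
    refine ⟨AlgSp.Points.ofPt r'' (IsLocalRing.closedPoint p.K), ?_, ?_⟩
    · rw [AlgSp.Points.map_ofPt, h5, ← AlgSp.Points.map_ofPt, ← AlgSp.Points.map_ofPt, hp, hq1, h1]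
    · rw [AlgSp.Points.map_ofPt, h6, ← AlgSp.Points.map_ofPt, ← AlgSp.Points.map_ofPt, hp, hq2, h4]

end Groth.Agent.S10121
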