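import Groth.Statements.S10122
import Groth.Agent.AlgSpB.UnitSep

set_option autoImplicit false
set_option backward.isDefEq.respectTransparency false
set_option backward.isDefEq.respectTransparency.types false
universe u
open CategoryTheory CategoryTheory.Limits AlgebraicGeometry
open AlgSp AlgSp.GroupoidSp

namespace Groth.Agent.S10122

/-- Let `(U, R, s, t, c)` be a groupoid in algebraic spaces over `B` with stabilizer `G ⟶ U` and unit
section `e : U ⟶ G`. Then (1) `j : R ⟶ U ×_B U` is separated iff `G ⟶ U` is separated iff `e` is a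
closed immersion; (3) `j` is quasi-separated iff `G ⟶ U` is quasi-separated iff `e` is
quasi-compact; (2) if `j` or `G ⟶ U` is locally separated then `e` is an immersion. The unit section
is written as any morphism `U ⟶ G` lifting the identity `e : U ⟶ R` of the groupoid. (The published
part (2) is a three-way equivalence; this row states only that `j` locally separated, or `G ⟶ U`
locally separated, implies that `e` is an immersion.) -/
theorem result (S : Scheme.{u}) (B : AlgSp.Sp S) (hB : AlgSp.IsAlgSpace B)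
    (G : AlgSp.GroupoidSp B) (hU : AlgSp.IsAlgSpace G.U) (hR : AlgSp.IsAlgSpace G.R)
    (eG : G.U ⟶ G.stabilizer) (heG : eG ≫ G.stabilizerι = G.e) :
    ((AlgSp.IsSeparatedMor G.j ↔ AlgSp.IsSeparatedMor G.stabilizerToU) ∧
        (AlgSp.IsSeparatedMor G.j ↔ AlgSp.RepWith @IsClosedImmersion eG)) ∧
      ((AlgSp.IsQuasiSeparatedMor G.j ↔ AlgSp.IsQuasiSeparatedMor G.stabilizerToU) ∧
        (AlgSp.IsQuasiSeparatedMor G.j ↔ AlgSp.IsQuasiCompactMor eG)) ∧
      ((AlgSp.IsLocallySeparatedMor G.j → AlgSp.RepWith @IsImmersion eG) ∧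
        (AlgSp.IsLocallySeparatedMor G.stabilizerToU → AlgSp.RepWith @IsImmersion eG)) := by
  have hst : AlgSp.IsAlgSpace G.stabilizer :=
    Groth.Agent.AlgSp.isAlgSpace_pullback
      (Groth.Agent.AlgSp.isAlgSpace_pullback hB hU hU G.pU G.pU) hR hU G.j G.diag
  have k := fun (Q : MorphismProperty (AlgSp.Sp S)) [Q.IsStableUnderBaseChange] =>
    Groth.Agent.AlgSpB.diagonal_j_iff (Q := Q) G eG heG
  have hrep : AlgSp.Representable eG :=
    (k AlgSp.Representable).2.1 (Groth.Agent.AlgSp.diagonal_props hR G.j).1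
  have hq := Groth.Agent.AlgSp.repWith_quasiCompact_iff hst eG hrep
  refine ⟨k (AlgSp.RepWith @IsClosedImmersion), ⟨(k (AlgSp.RepWith @QuasiCompact)).1,
    (k (AlgSp.RepWith @QuasiCompact)).2.trans hq⟩, (k (AlgSp.RepWith @IsImmersion)).2.1, fun h =>
      (k (AlgSp.RepWith @IsImmersion)).2.1 ((k (AlgSp.RepWith @IsImmersion)).1.2 h)⟩

end Groth.Agent.S10122
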