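import Groth.Statements.S10123
import Groth.Agent.AlgSpB.Restrict
import Groth.Agent.AlgSpCov.Listed

set_option autoImplicit false
set_option backward.isDefEq.respectTransparency false
set_option backward.isDefEq.respectTransparency.types false
universe u
open CategoryTheory CategoryTheory.Limits AlgebraicGeometry
open AlgSp AlgSp.GroupoidSp

namespace Groth.Agent.S10123

open Groth.Agent.AlgSpCov

theorem key {S : Scheme.{u}} {B : AlgSp.Sp S} {G G' : AlgSp.GroupoidSp B} {P : MorphismProperty Scheme.{u}}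
    (hP : Standard P) (hU : AlgSp.IsAlgSpace G.U) (hR : AlgSp.IsAlgSpace G.R)
    (hU' : AlgSp.IsAlgSpace G'.U) (φ : AlgSp.GroupoidSp.Hom G' G)
    (hφ : φ.IsRestriction) (hs : AlgSp.LocP P G.s) (ht : AlgSp.LocP P G.t) (hf : AlgSp.LocP P φ.fU) :
    AlgSp.LocP P G'.s ∧ AlgSp.LocP P G'.t := by
  have := hP.bc
  have := hP.comp
  have hp := fun (g : G.R ⟶ G.U) => Groth.Agent.AlgSp.isAlgSpace_pullback hU hU' hR φ.fU g
  exact ⟨locP_baseChange hP.etaleLocal (hp G.t) hU
      (Groth.Agent.AlgSpB.Restrict.isPullback_s φ hφ) (locP_comp hP.etaleLocal hR hU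
        (locP_baseChange hP.etaleLocal hU' hU (IsPullback.of_hasPullback φ.fU G.t) hf) hs),
    locP_baseChange hP.etaleLocal (hp G.s) hU
      (Groth.Agent.AlgSpB.Restrict.isPullback_t φ hφ) (locP_comp hP.etaleLocal hR hU
        (locP_baseChange hP.etaleLocal hU' hU (IsPullback.of_hasPullback φ.fU G.s) hf) ht)⟩

/-- Let `(U', R', s', t', c')` be the restriction of a groupoid in algebraic spaces `(U, R, s, t, c)`
over `B` along `g : U' ⟶ U`. If `s, t, g` are locally of finite type (resp. locally of finite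
presentation, resp. flat) then so are `s', t'`. -/
theorem result (S : Scheme.{u}) (B : AlgSp.Sp S) (hB : AlgSp.IsAlgSpace B)
    (G G' : AlgSp.GroupoidSp B) (hU : AlgSp.IsAlgSpace G.U) (hR : AlgSp.IsAlgSpace G.R)
    (hU' : AlgSp.IsAlgSpace G'.U) (hR' : AlgSp.IsAlgSpace G'.R) (φ : AlgSp.GroupoidSp.Hom G' G)
    (hφ : φ.IsRestriction) :
    (AlgSp.LocP @LocallyOfFiniteType G.s → AlgSp.LocP @LocallyOfFiniteType G.t →
        AlgSp.LocP @LocallyOfFiniteType φ.fU →
        AlgSp.LocP @LocallyOfFiniteType G'.s ∧ AlgSp.LocP @LocallyOfFiniteType G'.t) ∧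
      (AlgSp.LocP @LocallyOfFinitePresentation G.s → AlgSp.LocP @LocallyOfFinitePresentation G.t →
        AlgSp.LocP @LocallyOfFinitePresentation φ.fU →
        AlgSp.LocP @LocallyOfFinitePresentation G'.s ∧ AlgSp.LocP @LocallyOfFinitePresentation G'.t) ∧
      (AlgSp.LocP @Flat G.s → AlgSp.LocP @Flat G.t → AlgSp.LocP @Flat φ.fU →
        AlgSp.LocP @Flat G'.s ∧ AlgSp.LocP @Flat G'.t) := by
  exact ⟨key standard_locallyOfFiniteType hU hR hU' φ hφ,
    key standard_locallyOfFinitePresentation hU hR hU' φ hφ, key standard_flat hU hR hU' φ hφ⟩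

end Groth.Agent.S10123
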