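import Groth.Statements.S10124
import Groth.Agent.AlgSpB.Gpd

set_option autoImplicit false
set_option backward.isDefEq.respectTransparency false
universe u
open CategoryTheory CategoryTheory.Limits AlgebraicGeometry
open AlgSp AlgSp.GroupoidSp

namespace Groth.Agent.S10124

open Groth.Agent.AlgSpB in
theorem exists_fibreMap {S : Scheme.{u}} {B : AlgSp.Sp S} (G : AlgSp.GroupoidSp B) {Z : AlgSp.Sp S}
    (r r' : Z ⟶ G.R) (h : r ≫ G.t = r' ≫ G.t) :
    ∃ f : pullback (r ≫ G.s) G.s ⟶ pullback (r' ≫ G.s) G.s,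
      f ≫ pullback.fst _ _ = pullback.fst _ _ ∧
      ∃ hc hc', f ≫ pullback.snd _ _ =
        Gpd.comp (Gpd.comp (pullback.snd _ _) ((pullback.fst (r ≫ G.s) G.s ≫ r) ≫ G.i) hc)
          (pullback.fst _ _ ≫ r') hc' := by
  have hc : pullback.snd (r ≫ G.s) G.s ≫ G.s =
      ((pullback.fst (r ≫ G.s) G.s ≫ r) ≫ G.i) ≫ G.t := by
    simp [G.i_t, pullback.condition]
  have hc' : Gpd.comp _ _ hc ≫ G.s = (pullback.fst (r ≫ G.s) G.s ≫ r') ≫ G.t := by
    rw [Gpd.comp_s, Category.assoc, G.i_s, Category.assoc, Category.assoc, h]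
  refine ⟨pullback.lift (pullback.fst _ _)
    (Gpd.comp (Gpd.comp _ _ hc) (pullback.fst _ _ ≫ r') hc') ?_, pullback.lift_fst _ _ _,
    hc, hc', pullback.lift_snd _ _ _⟩
  rw [Gpd.comp_s, Category.assoc]

open Groth.Agent.AlgSpB in
theorem fibreMap_inv {S : Scheme.{u}} {B : AlgSp.Sp S} (G : AlgSp.GroupoidSp B) {Z : AlgSp.Sp S}
    (r r' : Z ⟶ G.R) (f : pullback (r ≫ G.s) G.s ⟶ pullback (r' ≫ G.s) G.s)
    (f' : pullback (r' ≫ G.s) G.s ⟶ pullback (r ≫ G.s) G.s)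
    (hf : f ≫ pullback.fst _ _ = pullback.fst _ _) (hf' : f' ≫ pullback.fst _ _ = pullback.fst _ _)
    {a b} (e : f ≫ pullback.snd _ _ =
        Gpd.comp (Gpd.comp (pullback.snd _ _) ((pullback.fst (r ≫ G.s) G.s ≫ r) ≫ G.i) a)
          (pullback.fst _ _ ≫ r') b)
    {a' b'} (e' : f' ≫ pullback.snd _ _ =
        Gpd.comp (Gpd.comp (pullback.snd _ _) ((pullback.fst (r' ≫ G.s) G.s ≫ r') ≫ G.i) a')
          (pullback.fst _ _ ≫ r) b') : f ≫ f' = 𝟙 _ := by
  apply pullback.hom_ext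
  · rw [Category.assoc, hf', hf, Category.id_comp]
  · rw [Category.assoc, e', Category.id_comp, Gpd.map_comp]
    refine (Gpd.comp_congr (h := _) (α' := Gpd.comp (pullback.snd _ _)
      ((pullback.fst (r ≫ G.s) G.s ≫ r) ≫ G.i) a) ?_ ((Category.assoc _ _ _).symm.trans (congrArg (· ≫ r) hf))).trans
      (Gpd.inv_right_cancel _ _ ?_)
    · rw [Gpd.map_comp]
      refine (Gpd.comp_congr (h := _) e ?_).trans (Gpd.right_inv_cancel _ _ b)
      rw [← Category.assoc, reassoc_of% hf, Category.assoc]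
    · rw [← pullback.condition, Category.assoc]

/-- Let `(U, R, s, t, c)` be a groupoid in algebraic spaces over `B`, `K` a field and `r, r' : Spec K ⟶
R` with `t ∘ r = t ∘ r'`; put `u = s ∘ r`, `u' = s ∘ r'`. Then the fibres `Spec K ×_{u, U, s} R` and
`Spec K ×_{u', U, s} R` are isomorphic as spaces over `Spec K` (existence of an isomorphism over
`Spec K`). -/
theorem result (S : Scheme.{u}) (B : AlgSp.Sp S) (hB : AlgSp.IsAlgSpace B)
    (G : AlgSp.GroupoidSp B) (hU : AlgSp.IsAlgSpace G.U) (hR : AlgSp.IsAlgSpace G.R)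
    (K : Type u) [Field K] (σ : Spec (CommRingCat.of K) ⟶ S)
    (r r' : (AlgSp.yon S).obj (Over.mk σ) ⟶ G.R) (h : r ≫ G.t = r' ≫ G.t) :
    Nonempty (Over.mk (pullback.fst (r ≫ G.s) G.s) ≅ Over.mk (pullback.fst (r' ≫ G.s) G.s)) := by
  obtain ⟨f, hf, a, b, e⟩ := exists_fibreMap G r r' h
  obtain ⟨f', hf', a', b', e'⟩ := exists_fibreMap G r' r h.symm
  exact ⟨Over.isoMk ⟨f, f', fibreMap_inv G r r' f f' hf hf' e e',
    fibreMap_inv G r' r f' f hf' hf e' e⟩ hf⟩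

end Groth.Agent.S10124
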