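import Groth.Statements.S10125
import Groth.Agent.AlgSpB.OverField
import Mathlib.CategoryTheory.Monoidal.Cartesian.Grp

set_option autoImplicit false
set_option backward.isDefEq.respectTransparency false
set_option backward.isDefEq.respectTransparency.types false
universe u
open CategoryTheory CategoryTheory.Limits AlgebraicGeometry MonoidalCategory MonObj
open AlgSp

namespace Groth.Agent.S10125

open MonoidalCategory CartesianMonoidalCategory MonObj

theorem shear {S : Scheme.{u}} {B : AlgSp.Sp S} (G : Over B) [GrpObj G] :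
    IsPullback (μ[G]).left (CartesianMonoidalCategory.snd G G).left G.hom G.hom := by
  have hm : (fst G G * snd G G : G ⊗ G ⟶ G) = μ[G] := by rw [Hom.mul_def, lift_fst_snd, Category.id_comp]
  let θ : G ⊗ G ⟶ G ⊗ G := lift μ[G] (snd G G)
  let θ' : G ⊗ G ⟶ G ⊗ G := lift (fst G G * (snd G G)⁻¹) (snd G G)
  have h1 : θ ≫ θ' = 𝟙 _ := by
    apply CartesianMonoidalCategory.hom_ext
    · rw [Category.assoc, lift_fst, MonObj.comp_mul, GrpObj.comp_inv, lift_fst, lift_snd, ← hm,
        mul_inv_cancel_right, Category.id_comp]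
    · simp [θ, θ']
  have h2 : θ' ≫ θ = 𝟙 _ := by
    apply CartesianMonoidalCategory.hom_ext
    · rw [Category.assoc, lift_fst, ← hm, MonObj.comp_mul, lift_fst, lift_snd, inv_mul_cancel_right,
        Category.id_comp]
    · simp [θ, θ']
  let e : (G ⊗ G).left ≅ pullback G.hom G.hom :=
    ⟨θ.left, θ'.left, by rw [← Over.comp_left, h1]; rfl, by rw [← Over.comp_left, h2]; rfl⟩
  refine IsPullback.of_iso_pullback
    ⟨(Over.w (μ[G])).trans (Over.w (snd G G)).symm⟩ e ?_ ?_
  · change θ.left ≫ (fst G G).left = _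
    rw [← Over.comp_left, lift_fst]
  · change θ.left ≫ (snd G G).left = _
    rw [← Over.comp_left, lift_snd]

/-- For a group algebraic space `G` over a field `k`, the multiplication `m` of `G`, a morphism `G ×_k G
⟶ G`, is both flat and universally open. (The published situation allows any base scheme `S` with
`k` a field over `S`; this row takes `S = Spec k`.) -/
theorem result (k : Type u) [Field k]
    (G : Over ((AlgSp.yon (Spec (CommRingCat.of k))).obj (Over.mk (𝟙 _)))) [GrpObj G]
    (hG : AlgSp.IsAlgSpace G.left) :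
    AlgSp.LocP @Flat (μ[G]).left ∧ AlgSp.IsUnivOpenMor (μ[G]).left := by
  have hB : AlgSp.IsAlgSpace ((AlgSp.yon (Spec (CommRingCat.of k))).obj (Over.mk (𝟙 _))) :=
    AlgSp.IsAlgSpace.yon_obj _
  exact ⟨Groth.Agent.AlgSpCov.locP_baseChange Groth.Agent.AlgSpCov.etaleLocal_flat hG hB (shear G).flip
      (Groth.Agent.AlgSpB.locP_flat_to_field (Iso.refl _) G.hom),
    Groth.Agent.AlgSpCov.univSp_baseChange (shear G).flip
      (Groth.Agent.AlgSpB.isUnivOpenMor_to_field hG (Iso.refl _) G.hom)⟩

end Groth.Agent.S10125
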