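import Groth.Statements.S10127
import Mathlib.CategoryTheory.Monoidal.Cartesian.Grp
import Groth.Agent.AlgSpB.Art.SecClosed

set_option autoImplicit false
set_option backward.isDefEq.respectTransparency false
set_option backward.isDefEq.respectTransparency.types false

universe u
open CategoryTheory CategoryTheory.Limits AlgebraicGeometry MonoidalCategory MonObj
open AlgSp

namespace Groth.Agent.S10127

/-- A group algebraic space over a field `k` which is a decent algebraic space is separated. (The
published situation allows any base scheme `S` with `k` a field over `S`; this row takes `S = Spec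
k`.) -/
theorem result (k : Type u) [Field k]
    (G : Over ((AlgSp.yon (Spec (CommRingCat.of k))).obj (Over.mk (𝟙 _)))) [GrpObj G]
    (hG : AlgSp.IsAlgSpace G.left) (hd : AlgSp.IsDecent G.left) : AlgSp.IsSeparatedSp G.left := by
  have hη : AlgSp.RepWith @IsClosedImmersion η[G].left :=
    Groth.Agent.AlgSpB.Art.isClosedImmersion_section ⟨G.left, hG⟩ hd _ G.hom η[G].left (Over.w η[G])
  let φ : G ⊗ G ⟶ G := CartesianMonoidalCategory.fst G G * (CartesianMonoidalCategory.snd G G)⁻¹
  let δ : G ⟶ G ⊗ G := CartesianMonoidalCategory.lift (𝟙 G) (𝟙 G)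
  have sq : IsPullback (CartesianMonoidalCategory.toUnit G) δ η[G] φ := by
    have h1 : ∀ {Z : Over _} (f : Z ⟶ 𝟙_ _), f ≫ η[G] = 1 := fun f => by
      rw [MonObj.one_eq_one, MonObj.comp_one]
    have hφ : ∀ {Z : Over _} (a b : Z ⟶ G), CartesianMonoidalCategory.lift a b ≫ φ = a * b⁻¹ := fun a b => by
      simp only [φ, MonObj.comp_mul, GrpObj.comp_inv, CartesianMonoidalCategory.lift_fst, CartesianMonoidalCategory.lift_snd]
    refine IsPullback.of_isLimit' ⟨by rw [h1, hφ]; exact (mul_inv_cancel _).symm⟩
      (PullbackCone.IsLimit.mk _ (fun z => z.snd ≫ CartesianMonoidalCategory.snd G G)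
        (fun z => CartesianMonoidalCategory.toUnit_unique _ _) (fun z => ?_) fun z m _ hm => ?_)
    · have hz : z.snd ≫ φ = 1 := z.condition.symm.trans (h1 _)
      simp only [φ, MonObj.comp_mul, GrpObj.comp_inv] at hz
      apply CartesianMonoidalCategory.hom_ext
      · rw [Category.assoc, CartesianMonoidalCategory.lift_fst, Category.comp_id]
        exact (mul_inv_eq_one.1 hz).symm
      · rw [Category.assoc, CartesianMonoidalCategory.lift_snd, Category.comp_id]
    · rw [← hm, Category.assoc, CartesianMonoidalCategory.lift_snd, Category.comp_id]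
  have hδ : AlgSp.RepWith @IsClosedImmersion δ.left :=
    MorphismProperty.of_isPullback (sq.map (Over.forget _)) hη
  let m : pullback G.hom G.hom ⟶ G.left ⨯ G.left := prod.lift (pullback.fst _ _) (pullback.snd _ _)
  have hm : AlgSp.RepWith @IsClosedImmersion m := MorphismProperty.of_isPullback
    (AlgSp.isPullback_diag_prodMap G.hom (IsPullback.of_hasPullback G.hom G.hom))
    (Groth.Agent.AlgSpB.Art.isSeparatedSp_field (𝟙 _))
  have e : Limits.diag G.left = δ.left ≫ m := by
    apply prod.hom_ext
    · rw [Category.assoc, prod.lift_fst, prod.lift_fst]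
      exact (congrArg (·.left) (CartesianMonoidalCategory.lift_fst (𝟙 G) (𝟙 G))).symm
    · rw [Category.assoc, prod.lift_snd, prod.lift_snd]
      exact (congrArg (·.left) (CartesianMonoidalCategory.lift_snd (𝟙 G) (𝟙 G))).symm
  rw [AlgSp.IsSeparatedSp, e]
  exact (AlgSp.RepWith @IsClosedImmersion : MorphismProperty (AlgSp.Sp _)).comp_mem δ.left m hδ hm

end Groth.Agent.S10127
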