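import Groth.Statements.S9972
import Groth.Agent.AlgSp.SchImage
import Groth.Agent.AlgSpB.Open
-- import your own Groth.Agent.* helpers here

set_option autoImplicit false
universe u
open CategoryTheory CategoryTheory.Limits AlgebraicGeometry
open AlgSp

set_option backward.isDefEq.respectTransparency.types false

namespace Groth.Agent.S9972

/-- Two morphisms to an algebraic space separated over B that agree on an open subspace whose scheme
theoretic closure is everything are equal. -/
theorem result {S : Scheme.{u}} {U X Y B : AlgSp.Space S} (q : Y ⟶ B)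
    (hq : AlgSp.IsSeparatedMor q.hom) (f g : X ⟶ Y) (hfg : f ≫ q = g ≫ q) (j : U ⟶ X)
    (hj : AlgSp.RepWith @IsOpenImmersion j.hom) (hcl : AlgSp.IsSchImage j.hom (𝟙 X.obj)) (heq : j ≫ f = j ≫ g) :
    f = g := by
  let l : X.obj ⟶ pullback q.hom q.hom := pullback.lift f.hom g.hom (congrArg (fun k => k.hom) hfg)
  let d := pullback.diagonal q.hom
  let e : pullback d l ⟶ X.obj := pullback.snd d l
  have he : AlgSp.RepWith @IsClosedImmersion e := MorphismProperty.pullback_snd d l hq
  have := Groth.Agent.AlgSpB.mono_of_isClosedImmersion he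
  have hE : AlgSp.IsAlgSpace (pullback d l) :=
    Groth.Agent.AlgSpB.isAlgSpace_of_mono_representable X.property e he.1
  have hj' : ∃ f'' : U.obj ⟶ pullback d l, f'' ≫ e = j.hom := by
    refine ⟨pullback.lift (j.hom ≫ f.hom) j.hom ?_, pullback.lift_snd _ _ _⟩
    have hh : j.hom ≫ f.hom = j.hom ≫ g.hom := congrArg (fun k => k.hom) heq
    apply pullback.hom_ext
    · rw [Category.assoc, Category.assoc, Category.assoc, pullback.diagonal_fst, Category.comp_id,
        show l ≫ pullback.fst q.hom q.hom = f.hom from pullback.lift_fst _ _ _]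
    · rw [Category.assoc, Category.assoc, Category.assoc, pullback.diagonal_snd, Category.comp_id,
        show l ≫ pullback.snd q.hom q.hom = g.hom from pullback.lift_snd _ _ _]
      exact hh
  obtain ⟨k, hk⟩ := hcl.2.2 e hE he hj'
  have h1 : (k ≫ pullback.fst d l) ≫ d = l := by
    rw [Category.assoc, pullback.condition, ← Category.assoc, hk, Category.id_comp]
  have hf' := congrArg (fun k => k ≫ pullback.fst q.hom q.hom) h1
  have hg' := congrArg (fun k => k ≫ pullback.snd q.hom q.hom) h1
  simp only [d, l, Category.assoc, pullback.diagonal_fst, pullback.diagonal_snd, Category.comp_id, pullback.lift_fst,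
    pullback.lift_snd] at hf' hg'
  exact ObjectProperty.hom_ext _ (hf'.symm.trans hg')

end Groth.Agent.S9972
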