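import Groth.Statements.S9973
import Groth.Agent.AlgSp.SchDense
-- import your own Groth.Agent.* helpers here

set_option autoImplicit false
universe u
open CategoryTheory CategoryTheory.Limits AlgebraicGeometry
open AlgSp

set_option backward.isDefEq.respectTransparency.types false

namespace Groth.Agent.S9973

/-- The inverse image of a quasi-compact scheme theoretically dense open under a flat morphism of
algebraic spaces is scheme theoretically dense. -/
theorem result {S : Scheme.{u}} {X Y V V' : AlgSp.Space S} (f : X ⟶ Y)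
    (hf : AlgSp.LocP @Flat f.hom) (j : V ⟶ Y) (hj : AlgSp.IsSchDense j.hom) (hjq : AlgSp.IsQuasiCompactMor j.hom)
    (fst : V' ⟶ V) (jX : V' ⟶ X) (sq : IsPullback fst.hom jX.hom j.hom f.hom) : AlgSp.IsSchDense jX.hom := by
  obtain ⟨U₀, a₀, ha, has⟩ := X.property.atlas
  obtain ⟨V₀, φ, W, fstW, hφ, hφs, sqW, hd⟩ := hj.2
  obtain ⟨R, s₀, t, hR⟩ := Groth.Agent.AlgSp.exists_isPullback_yon Y.property.diag (a₀ ≫ f.hom) φ
  have he : Etale s₀.left := hφ.2 _ _ s₀ hR.flip
  have hes : Surjective s₀.left := hφs.2 _ _ s₀ hR.flip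
  have hmap : AlgSp.RepWith @Etale ((AlgSp.yon S).map s₀) := (AlgSp.repWith_yon_map_iff _ _).2 he
  have hmaps : AlgSp.RepWith @Surjective ((AlgSp.yon S).map s₀) := (AlgSp.repWith_yon_map_iff _ _).2 hes
  have hc := MorphismProperty.comp_mem (AlgSp.RepWith @Etale) _ _ hmap ha
  have : Flat t.left := hf _ φ t hc hφ (by rw [Category.assoc, hR.w])
  have hq : QuasiCompact W.ι :=
    ((Groth.Agent.AlgSp.repWith_quasiCompact_iff Y.property j.hom hj.1.1).2 hjq).2 φ _ _ sqW
  refine Groth.Agent.AlgSp.SchDense.isSchDense_of_chart (MorphismProperty.of_isPullback sq hj.1)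
    ((AlgSp.yon S).map s₀ ≫ a₀) hc (MorphismProperty.comp_mem (AlgSp.RepWith @Surjective) _ _ hmaps has)
    (t.left ⁻¹ᵁ W) ?_ (Groth.Agent.AlgSp.SchDense.preimage_of_quasiCompact t.left W hd)
  change t.left ⁻¹' (W : Set V₀.left) = _
  rw [Groth.Agent.AlgSp.SchDense.coe_eq_preimage sqW, ← Groth.Agent.AlgSp.SchDense.preimage_ofPt_comp, ← hR.w,
    ← Category.assoc]
  ext x
  simp only [Set.mem_preimage]
  rw [← AlgSp.Points.map_ofPt ((AlgSp.yon S).map s₀ ≫ a₀) f.hom x]
  constructor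
  · rintro ⟨v, hv⟩
    obtain ⟨p, -, hp⟩ := Groth.Agent.AlgSpB.exists_of_isPullback sq v (AlgSp.Points.ofPt ((AlgSp.yon S).map s₀ ≫ a₀) x)
      hv
    exact ⟨p, hp⟩
  · rintro ⟨p, hp⟩
    refine ⟨AlgSp.Points.map fst.hom p, ?_⟩
    rw [← AlgSp.Points.map_comp, sq.w, AlgSp.Points.map_comp, hp]

end Groth.Agent.S9973
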