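import Groth.Statements.S10129
import Groth.Agent.AlgSpB.Bootstrap2
import Groth.Agent.AlgSp.QCMor
import Groth.Agent.AlgSpCov.LocP
import Groth.Agent.S9969
import Groth.Agent.S9972
import Groth.Agent.S9973

set_option autoImplicit false
set_option backward.isDefEq.respectTransparency false
set_option backward.isDefEq.respectTransparency.types false

universe u
open CategoryTheory CategoryTheory.Limits AlgebraicGeometry
open AlgSp

namespace Groth.Agent.S10129

variable {S' : Scheme.{u}}

theorem locSurj_of_flat_lfp_surj {X Z : AlgSp.Sp S'} (hX : AlgSp.IsAlgSpace X) (hZ : AlgSp.IsAlgSpace Z)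
    (g : X ⟶ Z) (hs : AlgSp.IsSurjectiveMor g) (hf : AlgSp.LocP @Flat g)
    (hp : AlgSp.LocP @LocallyOfFinitePresentation g) : Sheaf.IsLocallySurjective g := by
  obtain ⟨V, b, hb, hbs⟩ := hZ.atlas
  obtain ⟨U, c, hc, hcs⟩ :=
    (Groth.Agent.AlgSp.isAlgSpace_pullback hZ hX (AlgSp.IsAlgSpace.yon_obj V) g b).atlas
  obtain ⟨h, hh⟩ := (AlgSp.yon S').map_surjective (c ≫ pullback.snd g b)
  have ha : AlgSp.RepWith @Etale (c ≫ pullback.fst g b) :=
    (AlgSp.RepWith @Etale : MorphismProperty (AlgSp.Sp S')).comp_mem _ _ hc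
      (MorphismProperty.of_isPullback (IsPullback.of_hasPullback g b).flip hb)
  have w : (c ≫ pullback.fst g b) ≫ g = (AlgSp.yon S').map h ≫ b := by
    rw [hh, Category.assoc, Category.assoc, pullback.condition]
  have : Surjective h.left := ⟨fun v => by
    obtain ⟨x, hx⟩ := hs (AlgSp.Points.ofPt b v)
    obtain ⟨z, -, hz⟩ := Groth.Agent.AlgSpB.exists_of_isPullback (IsPullback.of_hasPullback g b) x
      (AlgSp.Points.ofPt (𝟙 _) v) (by rw [hx, AlgSp.Points.map_ofPt, Category.id_comp])
    obtain ⟨u, rfl⟩ := Groth.Agent.AlgSpB.surjective_ofPt hcs z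
    refine ⟨u, ?_⟩
    rw [AlgSp.Points.map_ofPt, ← hh] at hz
    have := congrArg (AlgSp.Points.toScheme V) hz
    rw [← Category.comp_id ((AlgSp.yon S').map h), Groth.Agent.AlgSpB.ofPt_map_comp,
      ← (AlgSp.yon S').map_id] at this
    simpa [AlgSp.Points.toScheme_ofPt] using this⟩
  have : Flat h.left := hf _ b h ha hb w
  have : LocallyOfFinitePresentation h.left := hp _ b h ha hb w
  have := Groth.Agent.AlgSp.isLocallySurjective_of_etale_surjective b hb hbs
  have := Groth.Agent.AlgSpB.locSurj_yon h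
  have : Sheaf.IsLocallySurjective ((c ≫ pullback.fst g b) ≫ g) := by
    rw [w]; exact Sheaf.isLocallySurjective_comp _ _
  exact Presheaf.isLocallySurjective_of_isLocallySurjective_fac (AlgSp.J S')
    (f₁ := (c ≫ pullback.fst g b).hom) (f₂ := g.hom) (f₃ := ((c ≫ pullback.fst g b) ≫ g).hom) rfl

/-- Consider morphisms `g : X ⟶ Z` and `f : X ⟶ Y` of algebraic spaces over `B`, with `Y ⟶ B` separated
and `g` surjective, flat and locally of finite presentation, and let `V ⊂ Z` be a scheme
theoretically dense open subspace with `V ⟶ Z` quasi-compact such that `f` restricted to `g⁻¹(V)`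
factors through `g⁻¹(V) ⟶ V`. Then `f` factors through `g`. (The published statement does not ask
the open immersion `V ⟶ Z` to be quasi-compact; the published proof pulls the scheme theoretic
density of `V` back along a flat morphism by a lemma that requires it, so this row assumes it.) -/
theorem result (S : Scheme.{u}) (B : AlgSp.Sp S) (hB : AlgSp.IsAlgSpace B)
    (X Y Z : AlgSp.Space S) (pX : X.obj ⟶ B) (pY : Y.obj ⟶ B) (pZ : Z.obj ⟶ B)
    (f : X.obj ⟶ Y.obj) (g : X.obj ⟶ Z.obj) (hf : f ≫ pY = pX) (hg : g ≫ pZ = pX)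
    (hY : AlgSp.IsSeparatedMor pY)
    (hgs : AlgSp.IsSurjectiveMor g) (hgf : AlgSp.LocP @Flat g) (hgp : AlgSp.LocP @LocallyOfFinitePresentation g)
    (V : AlgSp.Sp S) (v : V ⟶ Z.obj) (hv : AlgSp.IsSchDense v) (hvq : AlgSp.IsQuasiCompactMor v)
    (hfac : ∃ φ : V ⟶ Y.obj, pullback.fst g v ≫ f = pullback.snd g v ≫ φ) :
    ∃ h : Z.obj ⟶ Y.obj, g ≫ h = f := by
  obtain ⟨φ, hφ⟩ := hfac
  have := locSurj_of_flat_lfp_surj X.property Z.property g hgs hgf hgp
  have : Epi g := Sheaf.epi_of_isLocallySurjective g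
  have : IsRegularEpi g := IsRegularEpiCategory.regularEpiOfEpi g
  have sq := IsPullback.of_hasPullback g g
  obtain ⟨hcol⟩ := Groth.Agent.AlgSp.isColimit_of_isPullback g sq
  suffices e : pullback.fst g g ≫ f = pullback.snd g g ≫ f from
    ⟨_, (Cofork.IsColimit.desc' hcol f e).2⟩
  let E : AlgSp.Space S := ⟨pullback g g,
    Groth.Agent.AlgSp.isAlgSpace_pullback Z.property X.property X.property g g⟩
  let eZ : E.obj ⟶ Z.obj := pullback.fst g g ≫ g
  have heZ : AlgSp.LocP @Flat eZ :=
    Groth.Agent.AlgSpCov.locP_comp Groth.Agent.AlgSpCov.etaleLocal_flat X.property Z.property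
      (Groth.Agent.AlgSpCov.locP_baseChange Groth.Agent.AlgSpCov.etaleLocal_flat X.property Z.property
        sq.flip hgf) hgf
  have := Groth.Agent.AlgSpB.mono_of_isOpenImmersion hv.1
  let Vs : AlgSp.Space S := ⟨V, Groth.Agent.AlgSpB.isAlgSpace_of_mono_representable Z.property v hv.1.1⟩
  let Vp : AlgSp.Space S := ⟨pullback v eZ,
    Groth.Agent.AlgSp.isAlgSpace_pullback Z.property Vs.property E.property v eZ⟩
  let fstV : Vp ⟶ Vs := ObjectProperty.homMk (pullback.fst v eZ)
  let jX : Vp ⟶ E := ObjectProperty.homMk (pullback.snd v eZ)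
  have sqV : IsPullback fstV.hom jX.hom v eZ := IsPullback.of_hasPullback v eZ
  have hd : AlgSp.IsSchDense jX.hom := Groth.Agent.S9973.result (X := E) (Y := Z) (ObjectProperty.homMk eZ) heZ
    (V := Vs) (ObjectProperty.homMk v) hv hvq fstV jX sqV
  have him := (Groth.Agent.S9969.result jX hd.1
    (Groth.Agent.AlgSp.isQuasiCompactMor_baseChange sqV hvq)).1 hd
  obtain ⟨u₁, hu₁, hu₁'⟩ := (IsPullback.of_hasPullback g v).exists_lift (jX.hom ≫ pullback.fst g g) fstV.hom
    (by rw [Category.assoc]; exact sqV.w.symm)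
  obtain ⟨u₂, hu₂, hu₂'⟩ := (IsPullback.of_hasPullback g v).exists_lift (jX.hom ≫ pullback.snd g g) fstV.hom
    (by rw [Category.assoc, ← pullback.condition]; exact sqV.w.symm)
  have e₁ : jX.hom ≫ pullback.fst g g ≫ f = fstV.hom ≫ φ := by
    rw [← Category.assoc, ← hu₁, Category.assoc, hφ, reassoc_of% hu₁']
  have e₂ : jX.hom ≫ pullback.snd g g ≫ f = fstV.hom ≫ φ := by
    rw [← Category.assoc, ← hu₂, Category.assoc, hφ, reassoc_of% hu₂']
  have key := Groth.Agent.S9972.result (B := ⟨B, hB⟩) (X := E) (Y := Y) (U := Vp) (ObjectProperty.homMk pY) hY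
    (ObjectProperty.homMk (pullback.fst g g ≫ f)) (ObjectProperty.homMk (pullback.snd g g ≫ f))
    (ObjectProperty.hom_ext _ (by
      show (pullback.fst g g ≫ f) ≫ pY = (pullback.snd g g ≫ f) ≫ pY
      rw [Category.assoc, Category.assoc, hf, ← hg, pullback.condition_assoc]))
    jX hd.1 him (ObjectProperty.hom_ext _ (e₁.trans e₂.symm))
  exact congrArg (fun k => k.hom) key

end Groth.Agent.S10129
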