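import Groth.Statements.S1013
import Groth.Agent.GammaLib.HocolimPC
-- import your own Groth.Agent.* helpers here

set_option autoImplicit false
universe u
open CategoryTheory CategoryTheory.Limits AlgebraicGeometry
attribute [local instance] HasDerivedCategory.standard
open Perf

attribute [-instance] CategoryTheory.ReflQuiver.toQuiver

namespace Groth.Agent.S1013

/-- Let the scheme X be quasi-compact and quasi-separated and K ∈ D(O_X). Assuming countable direct sums
exist in D(O_X) (they do), K is pseudo-coherent (m-pseudo-coherent for every m) if and only if K is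
a homotopy colimit of a sequence of perfect objects Kₙ whose structure maps Kₙ ⟶ K induce
isomorphisms τ_{≥ -n}Kₙ ⟶ τ_{≥ -n}K for every n. -/
theorem result (X : Scheme.{u}) [CompactSpace ↥X] [QuasiSeparatedSpace ↥X]
    [HasColimitsOfShape (Discrete ℕ) (DCoh.D X)] (K : DCoh.D X) :
    (∀ m : ℤ, DCoh.IsPseudoCoherentD m K) ↔
    ∃ (E : ℕ → DCoh.D X) (f : ∀ n, E n ⟶ E (n + 1)) (i : ∀ n, E n ⟶ K),
      (∀ n, DCoh.IsPerfect (E n)) ∧ DerLim.IsHocolim E f K i ∧
      ∀ n : ℕ, IsIso (((DerivedCategory.TStructure.t : CategoryTheory.Triangulated.TStructure (DCoh.D X)).truncGE (-(n : ℤ))).map (i n)) := by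
  refine ⟨fun h => ?_, fun ⟨E, f, i, hE, _, hi⟩ m => GammaLib.HocolimPC.pc_of_system E i hE hi m⟩
  obtain ⟨E, f, i, hE, -, hf, hi⟩ := GammaLib.HocolimPC.exists_system (W := (⊥ : X.Opens)) (by simp) h
    (GammaLib.HocolimPC.isZero_restrict_of_supp _ fun _ _ _ => by simp)
  exact ⟨E, f, i, hE, GammaLib.HocolimPC.isHocolim_of_iso_eventually E f i hf hi,
    GammaLib.HocolimPC.isIso_truncGE i hi⟩

end Groth.Agent.S1013
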