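import Groth.Statements.S10132
import Groth.Agent.AlgSpB.OverField
import Groth.Agent.AlgSpB.Restrict

set_option autoImplicit false
set_option backward.isDefEq.respectTransparency false
set_option backward.isDefEq.respectTransparency.types false
universe u
open CategoryTheory CategoryTheory.Limits AlgebraicGeometry
open AlgSp AlgSp.GroupoidSp

namespace Groth.Agent.S10132

open Groth.Agent.AlgSpB

/-- Let `(U, R, s, t, c)` be a groupoid in algebraic spaces over `B` whose object space is `U = Spec k`,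
let `k ⊂ k'` be a field extension and `(U', R', s', t', c')` the restriction along `Spec k' ⟶ Spec
k`. Then `s, t, s', t'`, `Spec k' ⟶ Spec k` and `R' ⟶ R` are surjective, flat and universally open,
and `R' ⟶ R` is moreover affine. (The published statement lists every arrow of the restriction
diagram; this row omits the six arrows through `R ×_{s,U} U'` and `U' ×_{U,t} R`, each a base change
of `s`, `t` or `Spec k' ⟶ Spec k`.) -/
theorem result (S : Scheme.{u}) (B : AlgSp.Sp S) (hB : AlgSp.IsAlgSpace B)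
    (G G' : AlgSp.GroupoidSp B) (hR : AlgSp.IsAlgSpace G.R) (hR' : AlgSp.IsAlgSpace G'.R)
    (k k' : Type u) [Field k] [Field k'] [Algebra k k'] (σ : Spec (CommRingCat.of k) ⟶ S)
    (eU : G.U ≅ ((AlgSp.yon S).obj (Over.mk σ)))
    (eU' : G'.U ≅ ((AlgSp.yon S).obj (Over.mk (Spec.map (CommRingCat.ofHom (algebraMap k k')) ≫ σ))))
    (φ : AlgSp.GroupoidSp.Hom G' G) (hφ : φ.IsRestriction)
    (hfU : φ.fU = eU'.hom ≫ (AlgSp.yon S).map (Over.homMk (Spec.map (CommRingCat.ofHom (algebraMap k k'))) rfl :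
      Over.mk (Spec.map (CommRingCat.ofHom (algebraMap k k')) ≫ σ) ⟶ Over.mk σ) ≫ eU.inv) :
    (∀ f ∈ [G.s, G.t], AlgSp.IsSurjectiveMor f ∧ AlgSp.LocP @Flat f ∧ AlgSp.IsUnivOpenMor f) ∧
      (∀ f ∈ [G'.s, G'.t], AlgSp.IsSurjectiveMor f ∧ AlgSp.LocP @Flat f ∧ AlgSp.IsUnivOpenMor f) ∧
      (AlgSp.IsSurjectiveMor φ.fU ∧ AlgSp.LocP @Flat φ.fU ∧ AlgSp.IsUnivOpenMor φ.fU) ∧
      (AlgSp.IsSurjectiveMor φ.fR ∧ AlgSp.LocP @Flat φ.fR ∧ AlgSp.IsUnivOpenMor φ.fR ∧ AlgSp.IsAffineMor φ.fR) := by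
  have hU : AlgSp.IsAlgSpace G.U := (AlgSp.IsAlgSpace.yon_obj _).of_iso eU.symm
  have hU' : AlgSp.IsAlgSpace G'.U := (AlgSp.IsAlgSpace.yon_obj _).of_iso eU'.symm
  have hfl := Groth.Agent.AlgSpCov.etaleLocal_flat
  have k1 : ∀ (X : AlgSp.Sp S), AlgSp.IsAlgSpace X → ∀ (f : X ⟶ G.U),
      AlgSp.LocP @Flat f ∧ AlgSp.IsUnivOpenMor f := fun X hX f =>
    ⟨locP_flat_to_field eU f, isUnivOpenMor_to_field hX eU f⟩
  have k2 : ∀ (f : G'.R ⟶ G'.U),
      AlgSp.LocP @Flat f ∧ AlgSp.IsUnivOpenMor f := fun f =>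
    ⟨locP_flat_to_field eU' f, isUnivOpenMor_to_field hR' eU' f⟩
  have hs : AlgSp.IsSurjectiveMor φ.fU := by
    intro y
    obtain ⟨x⟩ : Nonempty ↥(Over.mk (Spec.map (CommRingCat.ofHom (algebraMap k k')) ≫ σ)).left :=
      inferInstanceAs (Nonempty (PrimeSpectrum k'))
    refine ⟨AlgSp.Points.ofPt eU'.inv x, ?_⟩
    have key : ∀ a b : AlgSp.Points ((AlgSp.yon S).obj (Over.mk σ)), a = b := fun a b =>
      (AlgSp.Points.schemeHomeo _).symm.injective
        ((inferInstance : Subsingleton (PrimeSpectrum k)).elim _ _)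
    calc AlgSp.Points.map φ.fU (AlgSp.Points.ofPt eU'.inv x)
        = AlgSp.Points.map eU.inv (AlgSp.Points.map eU.hom
            (AlgSp.Points.map φ.fU (AlgSp.Points.ofPt eU'.inv x))) := by
          rw [← AlgSp.Points.map_comp, eU.hom_inv_id, AlgSp.Points.map_id]
      _ = AlgSp.Points.map eU.inv (AlgSp.Points.map eU.hom y) := congrArg _ (key _ _)
      _ = y := by rw [← AlgSp.Points.map_comp, eU.hom_inv_id, AlgSp.Points.map_id]
  have : IsAffine (Over.mk (Spec.map (CommRingCat.ofHom (algebraMap k k')) ≫ σ)).left :=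
    inferInstanceAs (IsAffine (Spec (CommRingCat.of k')))
  have : IsAffine (Over.mk σ).left := inferInstanceAs (IsAffine (Spec (CommRingCat.of k)))
  have ha : AlgSp.IsAffineMor φ.fU := isAffineMor_of_affine eU' eU φ.fU
  obtain ⟨hff, hfo⟩ := k1 _ hU' φ.fU
  have hp : AlgSp.IsAlgSpace (pullback φ.fU G.t) := Groth.Agent.AlgSp.isAlgSpace_pullback hU hU' hR φ.fU G.t
  have sq1 := (Groth.Agent.AlgSpB.Restrict.isPullback_s φ hφ).flip
  have sq2 := IsPullback.of_hasPullback φ.fU G.t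
  have e : φ.fR = pullback.lift G'.t φ.fR φ.comm_t.symm ≫ pullback.snd φ.fU G.t :=
    (pullback.lift_snd _ _ _).symm
  refine ⟨?_, ?_, ⟨hs, hff, hfo⟩, ?_, ?_, ?_, ?_⟩
  · intro f hf
    simp only [List.mem_cons, List.not_mem_nil, or_false] at hf
    rcases hf with rfl | rfl
    exacts [⟨isSurjectiveMor_of_section _ G.e G.e_s, k1 _ hR _⟩,
      ⟨isSurjectiveMor_of_section _ G.e G.e_t, k1 _ hR _⟩]
  · intro f hf
    simp only [List.mem_cons, List.not_mem_nil, or_false] at hf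
    rcases hf with rfl | rfl
    exacts [⟨isSurjectiveMor_of_section _ G'.e G'.e_s, k2 _⟩,
      ⟨isSurjectiveMor_of_section _ G'.e G'.e_t, k2 _⟩]
  · intro y
    obtain ⟨a, rfl⟩ := Groth.Agent.AlgSp.surjective_map_of_isPullback sq2 hs y
    obtain ⟨b, rfl⟩ := Groth.Agent.AlgSp.surjective_map_of_isPullback sq1 hs a
    exact ⟨b, by rw [← AlgSp.Points.map_comp, ← e]⟩
  · rw [e]
    exact Groth.Agent.AlgSpCov.locP_comp hfl hp hR
      (Groth.Agent.AlgSpCov.locP_baseChange hfl hU' hU sq1 hff)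
      (Groth.Agent.AlgSpCov.locP_baseChange hfl hU' hU sq2 hff)
  · rw [e]
    exact univOpen_comp hp hR (Groth.Agent.AlgSpCov.univSp_baseChange sq1 hfo)
      (Groth.Agent.AlgSpCov.univSp_baseChange sq2 hfo)
  · rw [e]
    exact isAffineMor_comp (isAffineMor_baseChange sq1 ha) (isAffineMor_baseChange sq2 ha)

end Groth.Agent.S10132
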