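import Groth.Statements.S10133
import Groth.Agent.AlgSpB.GrpUnibranch.Branches

set_option autoImplicit false
set_option backward.isDefEq.respectTransparency false
set_option backward.isDefEq.respectTransparency.types false

universe u
open CategoryTheory CategoryTheory.Limits AlgebraicGeometry MonoidalCategory MonObj
open AlgSp

namespace Groth.Agent.S10133

open MonoidalCategory CartesianMonoidalCategory in
open scoped MonObj in
/-- The groupoid with one object of a group space. -/
noncomputable def toGroupoid {S : Scheme.{u}} (G : Over ((AlgSp.yon S).obj (Over.mk (𝟙 S)))) [GrpObj G] :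
    AlgSp.GroupoidSp ((AlgSp.yon S).obj (Over.mk (𝟙 S))) where
  U := (AlgSp.yon S).obj (Over.mk (𝟙 S))
  R := G.left
  pU := 𝟙 _
  pR := G.hom
  s := G.hom
  t := G.hom
  e := (1 : Over.mk (𝟙 ((AlgSp.yon S).obj (Over.mk (𝟙 S)))) ⟶ G).left
  i := (𝟙 G)⁻¹.left
  c := (Over.homMk (U := Over.mk (pullback.fst G.hom G.hom ≫ G.hom)) (pullback.fst G.hom G.hom) rfl *
    Over.homMk (V := G) (pullback.snd G.hom G.hom) (pullback.condition.symm)).left
  s_over := Category.comp_id _
  t_over := Category.comp_id _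
  comp_s α β h := by
    rw [Category.assoc, Over.w]
    change pullback.lift α β h ≫ pullback.fst G.hom G.hom ≫ G.hom = _
    rw [pullback.lift_fst_assoc, h]
  comp_t α β h := by
    rw [Category.assoc, Over.w]
    change pullback.lift α β h ≫ pullback.fst G.hom G.hom ≫ G.hom = _
    rw [pullback.lift_fst_assoc]
  assoc {T} α β gm h₁ h₂ := by
    have key : ∀ (a b : Over.mk (α ≫ G.hom) ⟶ G) (a' b' : T ⟶ G.left) (h : a' ≫ G.hom = b' ≫ G.hom),
        a.left = a' → b.left = b' → pullback.lift a' b' h ≫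
          (Over.homMk (U := Over.mk (pullback.fst G.hom G.hom ≫ G.hom)) (pullback.fst G.hom G.hom) rfl *
            Over.homMk (V := G) (pullback.snd G.hom G.hom) (pullback.condition.symm)).left = (a * b).left := by
      intro a b a' b' h ea eb
      let f : Over.mk (α ≫ G.hom) ⟶ Over.mk (pullback.fst G.hom G.hom ≫ G.hom) := Over.homMk (pullback.lift a' b' h)
        (by simp only [Over.mk_hom, pullback.lift_fst_assoc]; rw [← ea, Over.w]; rfl)
      change (f ≫ _).left = _
      rw [MonObj.comp_mul]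
      congr 2 <;> (apply Over.OverMorphism.ext; simp [f, ea, eb, pullback.lift_fst, pullback.lift_snd])
    let a : Over.mk (α ≫ G.hom) ⟶ G := Over.homMk α rfl
    let b : Over.mk (α ≫ G.hom) ⟶ G := Over.homMk β h₁.symm
    let c : Over.mk (α ≫ G.hom) ⟶ G := Over.homMk gm (h₂.symm.trans h₁.symm)
    refine (key (a * b) c _ _ _ (key a b α β h₁ rfl rfl).symm rfl).trans ?_
    refine Eq.trans ?_ (key a (b * c) _ _ _ rfl (key b c β gm h₂ rfl rfl).symm).symm
    rw [_root_.mul_assoc]
  e_s := Over.w _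
  e_t := Over.w _
  comp_e {T} α := by
    let a : Over.mk (α ≫ G.hom) ⟶ G := Over.homMk α rfl
    let f : Over.mk (α ≫ G.hom) ⟶ Over.mk (𝟙 ((AlgSp.yon S).obj (Over.mk (𝟙 S)))) :=
      Over.homMk (α ≫ G.hom) (Category.comp_id _)
    let g : Over.mk (α ≫ G.hom) ⟶ Over.mk (pullback.fst G.hom G.hom ≫ G.hom) :=
      Over.homMk (pullback.lift α (α ≫ G.hom ≫ (1 : Over.mk (𝟙 ((AlgSp.yon S).obj (Over.mk (𝟙 S)))) ⟶ G).left)
        (by rw [Category.assoc, Category.assoc, Over.w]; exact (congrArg (α ≫ ·) (Category.comp_id G.hom)).symm))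
        (by simp only [Over.mk_hom, pullback.lift_fst_assoc])
    change (g ≫ _).left = _
    have h₁ : g ≫ Over.homMk (pullback.fst G.hom G.hom) rfl = a := Over.OverMorphism.ext (by simp [g, a, pullback.lift_fst])
    have h₂ : g ≫ Over.homMk (V := G) (pullback.snd G.hom G.hom) (pullback.condition.symm) = f ≫ 1 :=
      Over.OverMorphism.ext (by simp only [g, f, Over.comp_left, Over.homMk_left, pullback.lift_snd, Category.assoc])
    rw [MonObj.comp_mul, h₁, h₂, MonObj.comp_one, _root_.mul_one]
    rfl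
  e_comp {T} α := by
    let a : Over.mk (α ≫ G.hom) ⟶ G := Over.homMk α rfl
    let f : Over.mk (α ≫ G.hom) ⟶ Over.mk (𝟙 ((AlgSp.yon S).obj (Over.mk (𝟙 S)))) :=
      Over.homMk (α ≫ G.hom) (Category.comp_id _)
    let g : Over.mk (α ≫ G.hom) ⟶ Over.mk (pullback.fst G.hom G.hom ≫ G.hom) :=
      Over.homMk (pullback.lift (α ≫ G.hom ≫ (1 : Over.mk (𝟙 ((AlgSp.yon S).obj (Over.mk (𝟙 S)))) ⟶ G).left) α
        (by rw [Category.assoc, Category.assoc, Over.w]; exact congrArg (α ≫ ·) (Category.comp_id G.hom)))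
        (by simp only [Over.mk_hom, pullback.lift_fst_assoc]; rw [Category.assoc, Category.assoc, Over.w]
            exact congrArg (α ≫ ·) (Category.comp_id G.hom))
    change (g ≫ _).left = _
    have h₁ : g ≫ Over.homMk (pullback.fst G.hom G.hom) rfl = f ≫ 1 :=
      Over.OverMorphism.ext (by simp only [g, f, Over.comp_left, Over.homMk_left, pullback.lift_fst, Category.assoc])
    have h₂ : g ≫ Over.homMk (V := G) (pullback.snd G.hom G.hom) (pullback.condition.symm) = a :=
      Over.OverMorphism.ext (by simp [g, a, pullback.lift_snd])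
    rw [MonObj.comp_mul, h₁, h₂, MonObj.comp_one, _root_.one_mul]
    rfl
  i_s := Over.w _
  i_t := Over.w _
  comp_i {T} α := by
    let a : Over.mk (α ≫ G.hom) ⟶ G := Over.homMk α rfl
    let g : Over.mk (α ≫ G.hom) ⟶ Over.mk (pullback.fst G.hom G.hom ≫ G.hom) :=
      Over.homMk (pullback.lift α (α ≫ (𝟙 G)⁻¹.left) (by rw [Category.assoc, Over.w]))
        (by simp only [Over.mk_hom, pullback.lift_fst_assoc])
    let f : Over.mk (α ≫ G.hom) ⟶ Over.mk (𝟙 ((AlgSp.yon S).obj (Over.mk (𝟙 S)))) :=
      Over.homMk (α ≫ G.hom) (Category.comp_id _)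
    change (g ≫ _).left = _
    have h₁ : g ≫ Over.homMk (pullback.fst G.hom G.hom) rfl = a := Over.OverMorphism.ext (by simp [g, a, pullback.lift_fst])
    have h₂ : g ≫ Over.homMk (V := G) (pullback.snd G.hom G.hom) (pullback.condition.symm) = a ≫ (𝟙 G)⁻¹ :=
      Over.OverMorphism.ext (by simp [g, a, pullback.lift_snd])
    rw [MonObj.comp_mul, h₁, h₂, GrpObj.comp_inv, Category.comp_id, mul_inv_cancel,
      ← MonObj.comp_one f]
    exact Category.assoc α G.hom _
  i_comp {T} α := by
    let a : Over.mk (α ≫ G.hom) ⟶ G := Over.homMk α rfl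
    let g : Over.mk (α ≫ G.hom) ⟶ Over.mk (pullback.fst G.hom G.hom ≫ G.hom) :=
      Over.homMk (pullback.lift (α ≫ (𝟙 G)⁻¹.left) α (by rw [Category.assoc, Over.w]))
        (by simp only [Over.mk_hom, pullback.lift_fst_assoc]; rw [Category.assoc, Over.w])
    let f : Over.mk (α ≫ G.hom) ⟶ Over.mk (𝟙 ((AlgSp.yon S).obj (Over.mk (𝟙 S)))) :=
      Over.homMk (α ≫ G.hom) (Category.comp_id _)
    change (g ≫ _).left = _
    have h₁ : g ≫ Over.homMk (pullback.fst G.hom G.hom) rfl = a ≫ (𝟙 G)⁻¹ :=
      Over.OverMorphism.ext (by simp [g, a, pullback.lift_fst])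
    have h₂ : g ≫ Over.homMk (V := G) (pullback.snd G.hom G.hom) (pullback.condition.symm) = a :=
      Over.OverMorphism.ext (by simp [g, a, pullback.lift_snd])
    rw [MonObj.comp_mul, h₁, h₂, GrpObj.comp_inv, Category.comp_id, inv_mul_cancel,
      ← MonObj.comp_one f]
    exact Category.assoc α G.hom _

/-- A group algebraic space over a field is geometrically unibranch. (The published situation allows any
base scheme `S` with `k` a field over `S`; this row takes `S = Spec k`.) -/
theorem result (k : Type u) [Field k]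
    (G : Over ((AlgSp.yon (Spec (CommRingCat.of k))).obj (Over.mk (𝟙 _)))) [GrpObj G] (hG : AlgSp.IsAlgSpace G.left) (x : AlgSp.Points G.left) :
    AlgSp.HasAt (fun U u => Brnch.numGeomBranchesAt U u = 1) G.left x := by
  exact Groth.Agent.AlgSpB.GrpUnibranch.hasAt_unibranch (toGroupoid G) hG (𝟙 _) (Iso.refl _) x

end Groth.Agent.S10133
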