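import Groth.Statements.S10136
import Groth.Agent.AlgSpB.Art.GroupLocus
import Groth.Agent.FibSemi.Basic
import Groth.Agent.S5792
import Groth.Agent.AlgSpB.Bootstrap

set_option autoImplicit false
set_option backward.isDefEq.respectTransparency false
set_option backward.isDefEq.respectTransparency.types false

universe u
open CategoryTheory CategoryTheory.Limits AlgebraicGeometry MonoidalCategory MonObj
open AlgSp

namespace Groth.Agent.S10136

theorem fibreDimAt_of_subsingleton {U V : Scheme.{u}} [Subsingleton ↥V] (h : U ⟶ V) (u : ↥U) :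
    FlatMor.fibreDimAt h u = FlatMor.localDim ↥U u := by
  rw [Groth.Agent.FibSemi.fibreDimAt_eq]
  let e : (h ⁻¹' {h u} : Set ↥U) ≃ₜ ↥U :=
    (Homeomorph.setCongr (Set.eq_univ_of_forall fun x => show h x = h u from Subsingleton.elim _ _)).trans
      (Homeomorph.Set.univ ↥U)
  refine le_antisymm ?_ ?_
  · exact Groth.Agent.FibSemi.localDim_homeo e.symm u
  · exact Groth.Agent.FibSemi.localDim_homeo e ⟨u, rfl⟩

/-- For a group algebraic space `G` locally of finite type over a field `k`, `dim_g(G) = dim(G)` for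
every point `g` of `G`. (The published situation allows any base scheme `S` with `k` a field over
`S`; this row takes `S = Spec k`.) -/
theorem result (k : Type u) [Field k]
    (G : Over ((AlgSp.yon (Spec (CommRingCat.of k))).obj (Over.mk (𝟙 _)))) [GrpObj G] (hG : AlgSp.IsAlgSpace G.left)
    (hlft : AlgSp.LocP @LocallyOfFiniteType G.hom) (g : AlgSp.Points G.left) :
    AlgSp.HasAt (fun V v => FlatMor.localDim ↥V v = AlgSp.dim G.left) G.left g := by
  let T : Over (Spec (CommRingCat.of k)) := Over.mk (𝟙 _)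
  have : Subsingleton ↥T.left := inferInstanceAs (Subsingleton (PrimeSpectrum k))
  let Q : WithBot ℕ∞ → ∀ (U V : Scheme.{u}), (U ⟶ V) → ↥U → Prop := fun d _ _ h u => FlatMor.fibreDimAt h u = d
  have hQ : ∀ d, Groth.Agent.AlgSpB.Art.BCProp (fun U V h => ∀ u, Q d U V h u) (Q d) := fun d =>
    { inv := Groth.Agent.AlgSpD.morEtaleInv_fibreDimAt d
      bc := fun X Y X' Y' f _ g g' f' sq x' => by
        show FlatMor.fibreDimAt f' x' = d ↔ _
        rw [Groth.Agent.AlgSpD.fibreDimAt_of_isPullback f sq x']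
      iff := fun U V h _ => Iff.rfl }
  have hT : AlgSp.IsAlgSpace ((AlgSp.yon (Spec (CommRingCat.of k))).obj T) := AlgSp.IsAlgSpace.yon_obj T
  have key : ∀ (U : Over (Spec (CommRingCat.of k))) (a : (AlgSp.yon _).obj U ⟶ G.left),
      AlgSp.RepWith @Etale a → ∀ (u : ↥U.left) (d : WithBot ℕ∞),
        AlgSp.HasAtMor (Q d) G.hom (AlgSp.Points.ofPt a u) ↔ FlatMor.localDim ↥U.left u = d := by
    intro U a ha u d
    obtain ⟨h, hh⟩ := (AlgSp.yon (Spec (CommRingCat.of k))).map_surjective (a ≫ G.hom)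
    have := Groth.Agent.AlgSpD.hasAtMor_iff_chart (hQ d).inv (X := ⟨G.left, hG⟩) (Y := ⟨_, hT⟩)
      (ObjectProperty.homMk G.hom) ha (Groth.Agent.AlgSpB.repWith_of_isIso (P := @Etale) (𝟙 _))
      (by rw [hh, Category.comp_id]; rfl) u
    refine this.trans ?_
    show FlatMor.fibreDimAt h.left u = d ↔ _
    rw [fibreDimAt_of_subsingleton]
  obtain ⟨A, p, hp, hps⟩ := hG.atlas
  let e₀ := AlgSp.Points.ofPt η[G].left (IsLocalRing.closedPoint k)
  obtain ⟨u₀, hu₀⟩ := Groth.Agent.AlgSpB.surjective_ofPt hps e₀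
  have hconst : ∀ (U : Over (Spec (CommRingCat.of k))) (a : (AlgSp.yon _).obj U ⟶ G.left),
      AlgSp.RepWith @Etale a → ∀ u : ↥U.left,
        FlatMor.localDim ↥U.left u = FlatMor.localDim ↥A.left u₀ := by
    intro U a ha u
    have hpt : ∀ x : AlgSp.Points G.left, AlgSp.Points.map η[G].left (AlgSp.Points.map G.hom x) = e₀ := by
      intro x
      obtain ⟨s, hs⟩ := Groth.Agent.AlgSpB.surjective_ofPt
        (Groth.Agent.AlgSpB.repWith_of_isIso (P := @Surjective) (𝟙 ((AlgSp.yon _).obj T))) (AlgSp.Points.map G.hom x)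
      rw [← hs, AlgSp.Points.map_ofPt, Category.id_comp]
      exact congrArg (AlgSp.Points.ofPt η[G].left) (Subsingleton.elim _ _)
    rw [← key U a ha u]
    rw [Groth.Agent.AlgSpB.Art.hasAtMor_iff_unit (hQ _) hT hG hlft, hpt, ← hu₀, key A p hp u₀]
  have hdim : AlgSp.dim G.left = FlatMor.localDim ↥A.left u₀ := by
    refine le_antisymm (iSup_le fun U => iSup_le fun a => iSup_le fun ha => ?_)
      (le_iSup_of_le A (le_iSup_of_le p (le_iSup_of_le hp ?_)))
    · rw [Groth.Agent.S5792.result]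
      exact iSup_le fun u => (hconst U a ha u).le
    · rw [Groth.Agent.S5792.result]
      exact le_iSup (fun u => FlatMor.localDim ↥A.left u) u₀
  obtain ⟨u, hu⟩ := Groth.Agent.AlgSpB.surjective_ofPt hps g
  exact ⟨A, p, u, hp, hu, (hconst A p hp u).trans hdim.symm⟩

end Groth.Agent.S10136
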