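import Groth.Statements.S10137
import Groth.Agent.AlgSpB.GpdDim.Basic
import Groth.Agent.S10135
import Groth.Agent.S5792
import Groth.Agent.AlgSpD.EtaleTop

set_option autoImplicit false
set_option backward.isDefEq.respectTransparency false
set_option backward.isDefEq.respectTransparency.types false

universe u
open CategoryTheory CategoryTheory.Limits AlgebraicGeometry
open AlgSp AlgSp.GroupoidSp

namespace Groth.Agent.S10137

/-- For a groupoid in algebraic spaces `(U, R, s, t, c)` over `B` with `U = Spec k` and `s, t` locally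
of finite type, the stabilizer group algebraic space `G = Spec k ×_{Δ, Spec k ×_B Spec k, (t, s)} R`
satisfies `dim(R) = dim(G)`. -/
theorem result (S : Scheme.{u}) (B : AlgSp.Sp S) (hB : AlgSp.IsAlgSpace B)
    (G : AlgSp.GroupoidSp B) (hR : AlgSp.IsAlgSpace G.R) (k : Type u) [Field k]
    (σ : Spec (CommRingCat.of k) ⟶ S) (eU : G.U ≅ (AlgSp.yon S).obj (Over.mk σ))
    (hs : AlgSp.LocP @LocallyOfFiniteType G.s) (ht : AlgSp.LocP @LocallyOfFiniteType G.t) :
    AlgSp.dim G.R = AlgSp.dim G.stabilizer := by
  let T : Over S := Over.mk σ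
  have : Subsingleton ↥T.left := inferInstanceAs (Subsingleton (PrimeSpectrum k))
  have hU : IsAlgSpace G.U := (IsAlgSpace.yon_obj T).of_iso eU.symm
  have hdiag := Groth.Agent.AlgSp.diagonal_props hU G.pU
  have hd : G.diag = pullback.diagonal G.pU := rfl
  have hι : RepWith (@LocallyQuasiFinite ⊓ @LocallyOfFiniteType) G.stabilizerι := by
    refine MorphismProperty.of_isPullback (IsPullback.of_hasPullback G.j G.diag).flip ?_
    rw [hd]
    exact hdiag.2.2.2.2
  have hιm : RepWith (MorphismProperty.monomorphisms Scheme.{u}) G.stabilizerι := by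
    refine MorphismProperty.of_isPullback (IsPullback.of_hasPullback G.j G.diag).flip ?_
    rw [hd]
    exact hdiag.2.2.1
  refine le_antisymm ?_ ?_
  · let e₀ := Points.ofPt (eU.inv ≫ G.e) (IsLocalRing.closedPoint k)
    obtain ⟨W, a, w, ha, hw, hdim⟩ := Groth.Agent.S10135.result S B hB G hR k σ eU hs ht e₀
    rw [← hdim]
    -- the structure maps
    obtain ⟨hS, hhS⟩ := (yon S).map_surjective (a ≫ G.s ≫ eU.hom)
    obtain ⟨hT, hhT⟩ := (yon S).map_surjective (a ≫ G.t ≫ eU.hom)
    have hlft : LocallyOfFiniteType hS.left := hs a eU.inv hS ha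
      (Groth.Agent.AlgSpB.repWith_of_isIso (P := @Etale) eU.inv)
      (by rw [hhS, Category.assoc, Category.assoc, Iso.hom_inv_id, Category.comp_id])
    have hNW : IsLocallyNoetherian W.left :=
      have : IsLocallyNoetherian T.left := inferInstanceAs (IsLocallyNoetherian (Spec (CommRingCat.of k)))
      LocallyOfFiniteType.isLocallyNoetherian hS.left
    obtain ⟨V, hV, hwV, hmin⟩ := Groth.Agent.AlgSpB.GpdDim.exists_affine_nhd w
    refine le_trans (iInf_le_of_le ⟨V, hwV⟩ (le_of_eq
      (IsHomeomorph.topologicalKrullDim_eq _ (V.ι.isEmbedding.toHomeomorph.trans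
        (Homeomorph.setCongr V.range_ι)).isHomeomorph).symm)) ?_
    have hdimV : topologicalKrullDim (V : Scheme.{u}) = ringKrullDim Γ(W.left, V) := by
      rw [← PrimeSpectrum.topologicalKrullDim_eq_ringKrullDim]
      exact IsHomeomorph.topologicalKrullDim_eq _ (Scheme.homeoOfIso hV.isoSpec).isHomeomorph
    rw [hdimV]
    refine Groth.Agent.AlgSpB.GpdDim.ringKrullDim_le_of_minimal fun P hP => ?_
    have hPp : P.IsPrime := Ideal.minimalPrimes_isPrime hP
    -- a field valued point over the unit
    obtain ⟨L, fL, gL, sqL⟩ := Groth.Agent.AlgSpB.exists_pullback_yon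
      ((⟨G.R, hR⟩ : Space S).property.representable_from_yon a) (eU.inv ≫ G.e)
    obtain ⟨z, hz, -⟩ := (Groth.Agent.AlgSpB.ofPt_eq_ofPt_iff' sqL w (IsLocalRing.closedPoint k)).1 hw
    replace hz : fL.left z = w := by
      rw [← Points.toScheme_ofPt, hz]
      exact Points.toScheme_ofScheme _ _
    have hst : fL ≫ hS = fL ≫ hT := (yon S).map_injective (by
      rw [Functor.map_comp, Functor.map_comp, hhS, hhT, reassoc_of% sqL.w, reassoc_of% sqL.w, reassoc_of% G.e_s,
        reassoc_of% G.e_t])
    let z' : Spec (L.left.residueField z) ⟶ L.left := L.left.fromSpecResidueField z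
    let x := z' ≫ fL.left
    have hx : ∀ p, x p = w := fun p => by
      rw [Scheme.Hom.comp_apply, Scheme.fromSpecResidueField_apply, hz]
    let x' := IsOpenImmersion.lift hV.fromSpec x (by
      rintro _ ⟨p, rfl⟩
      rw [hx, hV.range_fromSpec]
      exact hwV)
    obtain ⟨θ, hθ⟩ := Spec.map_surjective x'
    have hx' : Spec.map θ ≫ hV.fromSpec = x := by rw [hθ]; exact IsOpenImmersion.lift_fac _ _ _
    obtain ⟨ψs, hψs⟩ := Spec.map_surjective (hV.fromSpec ≫ hS.left)
    obtain ⟨ψt, hψt⟩ := Spec.map_surjective (hV.fromSpec ≫ hT.left)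
    have hθst : ψs ≫ θ = ψt ≫ θ := Spec.map_injective (by
      rw [Spec.map_comp, Spec.map_comp, hψs, hψt, ← Category.assoc, ← Category.assoc, hx']
      exact (Category.assoc _ _ _).trans ((congrArg (z' ≫ ·) (congrArg CommaMorphism.left hst)).trans
        (Category.assoc _ _ _).symm))
    have hker : P ≤ RingHom.ker θ.hom := by
      let p₀ : ↥(Spec (L.left.residueField z)) := IsLocalRing.closedPoint (L.left.residueField z)
      have e : Spec.map θ p₀ = hV.primeIdealOf ⟨w, hwV⟩ := by
        apply hV.fromSpec.isOpenEmbedding.injective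
        rw [← Scheme.Hom.comp_apply, hx', hx, hV.fromSpec_primeIdealOf]
      intro b hb
      have hb' : b ∈ (Spec.map θ p₀).asIdeal := by rw [e]; exact hmin P hP hb
      change θ.hom b ∈ IsLocalRing.maximalIdeal (L.left.residueField z) at hb'
      rwa [IsLocalRing.maximalIdeal_eq_bot, Ideal.mem_bot] at hb'
    let mk : Γ(W.left, V) ⟶ CommRingCat.of (Γ(W.left, V) ⧸ P) := CommRingCat.ofHom (Ideal.Quotient.mk P)
    let : Algebra k (Γ(W.left, V) ⧸ P) := (ψs ≫ mk).hom.toAlgebra
    let : Algebra k (L.left.residueField z) := (ψs ≫ θ).hom.toAlgebra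
    have : Algebra.FiniteType k (Γ(W.left, V) ⧸ P) := by
      have h1 : LocallyOfFiniteType (Spec.map ψs) := by rw [hψs]; infer_instance
      have h2 : ψs.hom.FiniteType := (HasRingHomProperty.Spec_iff (P := @LocallyOfFiniteType)).1 h1
      exact (RingHom.FiniteType.of_surjective _ Ideal.Quotient.mk_surjective).comp h2
    let ε : (Γ(W.left, V) ⧸ P) →ₐ[k] L.left.residueField z :=
      { Ideal.Quotient.lift P θ.hom hker with commutes' := fun c => rfl }
    have key : ψt ≫ mk = ψs ≫ mk := by
      ext c
      exact Groth.Agent.AlgSpB.GpdDim.eq_algebraMap k _ (ψt ≫ mk).hom ε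
        (fun x => (RingHom.congr_fun (congrArg CommRingCat.Hom.hom hθst) x).symm) c
    let γ := Spec.map mk ≫ hV.fromSpec
    let Z : Over S := Over.mk (γ ≫ W.hom)
    let γ' : Z ⟶ W := Over.homMk γ
    have hγ : γ' ≫ hT = γ' ≫ hS := Over.OverMorphism.ext (by
      change (Spec.map mk ≫ hV.fromSpec) ≫ hT.left = (Spec.map mk ≫ hV.fromSpec) ≫ hS.left
      rw [Category.assoc, Category.assoc, ← hψs, ← hψt, ← Spec.map_comp, ← Spec.map_comp, key])
    let φ : (yon S).obj Z ⟶ G.stabilizer := pullback.lift ((yon S).map γ' ≫ a) ((yon S).map γ' ≫ a ≫ G.s) (by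
      apply pullback.hom_ext
      · rw [Category.assoc, Category.assoc, G.j_fst, Category.assoc]
        rw [show G.diag ≫ pullback.fst G.pU G.pU = 𝟙 _ from pullback.lift_fst _ _ _, Category.comp_id]
        rw [← cancel_mono eU.hom]
        simp only [Category.assoc]
        rw [← hhT, ← hhS, ← Functor.map_comp, ← Functor.map_comp, hγ]
      · rw [Category.assoc, Category.assoc, G.j_snd, Category.assoc,
          show G.diag ≫ pullback.snd G.pU G.pU = 𝟙 _ from pullback.lift_snd _ _ _, Category.comp_id])
    have sqW := hιm.1.isPullback a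
    obtain ⟨φ', hφ'⟩ := (yon S).map_surjective (sqW.lift φ ((yon S).map γ') (pullback.lift_fst _ _ _))
    have hφγ : φ' ≫ hιm.1.snd a = γ' := (yon S).map_injective (by rw [Functor.map_comp, hφ', sqW.lift_snd])
    have hst' : RepWith @Etale (hιm.1.fst a) := MorphismProperty.of_isPullback sqW.flip ha
    refine le_trans ?_ (le_iSup_of_le _ (le_iSup_of_le _ (le_iSup_of_le hst' le_rfl)))
    rw [← PrimeSpectrum.topologicalKrullDim_eq_ringKrullDim]
    have hcl : IsClosedImmersion (Spec.map mk) := IsClosedImmersion.spec_of_surjective _ Ideal.Quotient.mk_surjective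
    have hemb : Topology.IsEmbedding γ'.left := (hV.fromSpec.isOpenEmbedding.isEmbedding.comp (Spec.map mk).isEmbedding :)
    rw [← hφγ, Over.comp_left, Scheme.Hom.comp_base, TopCat.coe_comp] at hemb
    exact (Topology.IsEmbedding.of_comp φ'.left.continuous (hιm.1.snd a).left.continuous hemb).isInducing.topologicalKrullDim_le
  · obtain ⟨A, p, hp, hps⟩ := hR.atlas
    refine iSup_le fun V => iSup_le fun b => iSup_le fun hb => ?_
    obtain ⟨Q, f, h, sq⟩ := Groth.Agent.AlgSpB.exists_pullback_yon
      ((⟨G.R, hR⟩ : Space S).property.representable_from_yon (b ≫ G.stabilizerι)) p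
    have : Etale f.left := hp.2 _ _ _ sq.flip
    have : Surjective f.left := hps.2 _ _ _ sq.flip
    have sqA := hι.1.isPullback p
    obtain ⟨m, hm⟩ := (yon S).map_surjective (sqA.lift ((yon S).map f ≫ b) ((yon S).map h)
      ((Category.assoc _ _ _).trans sq.w))
    have hmh : m ≫ hι.1.snd p = h := (yon S).map_injective (by rw [Functor.map_comp, hm, sqA.lift_snd])
    have sqm : IsPullback ((yon S).map f) ((yon S).map m) b (hι.1.fst p) := by
      refine IsPullback.of_bot ?_ (by rw [hm, sqA.lift_fst]) sqA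
      rw [← Functor.map_comp, hmh]
      exact sq
    have : Etale m.left := hb.2 _ _ _ sqm
    have hq : LocallyQuasiFinite (hι.1.snd p).left := (hι.2 _ _ _ sqA).1
    have hh : LocallyQuasiFinite h.left := by
      have := Groth.Agent.AlgSpD.locallyQuasiFinite_of_etale m.left
      rw [← hmh, Over.comp_left]
      infer_instance
    exact ((Groth.Agent.AlgSpD.topologicalKrullDim_le_of_surjective_etale f.left).trans
      (Groth.Agent.AlgSpD.topologicalKrullDim_le_of_lqf h.left)).trans (le_iSup_of_le A (le_iSup₂_of_le p hp le_rfl))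

end Groth.Agent.S10137
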