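import Groth.Statements.S10139
import Groth.Agent.AlgSpB.Art.Wrap

set_option autoImplicit false
set_option backward.isDefEq.respectTransparency false
set_option backward.isDefEq.respectTransparency.types false

universe u
open CategoryTheory CategoryTheory.Limits AlgebraicGeometry
open AlgSp

namespace Groth.Agent.S10139

/-- Take an equivalence relation `j : R ⟶ U ×_S U` of schemes over `S`, with `s, t` flat and locally of
finite presentation. Then there exist an equivalence relation `j' : R' ⟶ U' ×_S U'` on schemes over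
`S` with `s', t'` flat, locally of finite presentation and locally quasi-finite, and a morphism `U'
⟶ U` mapping `R'` into `R` which induces an isomorphism of fppf quotient sheaves `U'/R' ⟶ U/R`. -/
theorem result (S : Scheme.{u}) {R U : Over S} (s t : R ⟶ U)
    (h : AlgSp.IsEqvRel s t) [Flat s.left] [LocallyOfFinitePresentation s.left]
    [Flat t.left] [LocallyOfFinitePresentation t.left] :
    ∃ (R' U' : Over S) (s' t' : R' ⟶ U') (g : U' ⟶ U) (r : R' ⟶ R)
      (ψ : QuotSh.quot Scheme.fppfPrecoverage s' t' ⟶ QuotSh.quot Scheme.fppfPrecoverage s t),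
      AlgSp.IsEqvRel s' t' ∧ r ≫ s = s' ≫ g ∧ r ≫ t = t' ≫ g ∧
      Flat s'.left ∧ LocallyOfFinitePresentation s'.left ∧ LocallyQuasiFinite s'.left ∧
      Flat t'.left ∧ LocallyOfFinitePresentation t'.left ∧ LocallyQuasiFinite t'.left ∧
      QuotSh.quotπ Scheme.fppfPrecoverage s' t' ≫ ψ = QuotSh.repMap Scheme.fppfPrecoverage g ≫ QuotSh.quotπ Scheme.fppfPrecoverage s t ∧ IsIso ψ := by
  obtain ⟨hd, hp, hsu⟩ := Groth.Agent.AlgSpB.Art.cover_yπ h
  obtain ⟨W, g, h1, h2, h3⟩ := Groth.Agent.AlgSpB.Art.exists_lqf_cover hd hp hsu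
  let c := (AlgSp.yon S).map g ≫ Groth.Agent.AlgSp.yπ s t
  obtain ⟨R', t', s', sq⟩ := Groth.Agent.AlgSpB.exists_pullback_yon h1.1 c
  have hE : AlgSp.IsEqvRel s' t' := Groth.Agent.AlgSpB.isEqvRel_of_isPullback sq
  obtain ⟨r, hr1, hr2⟩ := (Groth.Agent.AlgSp.isPullback_yπ s t h).exists_lift
    ((AlgSp.yon S).map (t' ≫ g)) ((AlgSp.yon S).map (s' ≫ g)) (by
      simp only [Functor.map_comp, Category.assoc]
      exact sq.w)
  obtain ⟨r, rfl⟩ := (AlgSp.yon S).map_surjective r
  rw [← Functor.map_comp] at hr1 hr2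
  have := Groth.Agent.AlgSp.isLocallySurjective_yπ s' t'
  have : Sheaf.IsLocallySurjective c := Groth.Agent.AlgSp.isLocallySurjective_of_repWith c
    (Groth.Agent.AlgSp.repWith_mono (fun _ hf => hf.1) h1)
    (Groth.Agent.AlgSp.repWith_mono (fun _ hf => hf.2) h1) h3
  obtain ⟨hA⟩ := Groth.Agent.AlgSp.isColimit_of_isPullback _ (Groth.Agent.AlgSp.isPullback_yπ s' t' hE)
  obtain ⟨hB⟩ := Groth.Agent.AlgSp.isColimit_of_isPullback c sq
  let e := hA.coconePointUniqueUpToIso hB
  have he : Groth.Agent.AlgSp.yπ s' t' ≫ e.hom = c :=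
    IsColimit.comp_coconePointUniqueUpToIso_hom hA hB WalkingParallelPair.one
  refine ⟨R', W, s', t', g, r, e.hom, hE, (AlgSp.yon S).map_injective hr2, (AlgSp.yon S).map_injective hr1,
    (h1.2 _ _ _ sq).1, (h1.2 _ _ _ sq).2, h2.2 _ _ _ sq, (h1.2 _ _ _ sq.flip).1, (h1.2 _ _ _ sq.flip).2,
    h2.2 _ _ _ sq.flip, ?_, inferInstanceAs (IsIso e.hom)⟩
  rw [← cancel_epi (QuotSh.repIsoUliftYoneda Scheme.fppfPrecoverage W).inv, ← Category.assoc, he,
    ← Category.assoc, Groth.Agent.AlgSp.repMap_repIso, Category.assoc]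

end Groth.Agent.S10139
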