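import Groth.Statements.S10140
import Groth.Agent.GrpdLib.Descend
import Groth.Agent.GrpdLib.SubGrpd
import Groth.Agent.GrpdLib.FiniteInAffine
import Groth.Agent.GrpdLib.FppfQuot
import Groth.Agent.GrpdLib.QuotEquiv
import Groth.Agent.GrpdLib.QuotAffine

set_option autoImplicit false
universe u
open CategoryTheory CategoryTheory.Limits AlgebraicGeometry
open Grpd

namespace Groth.Agent.S10140

/-- Let `(U, R, s, t, c)` be a groupoid scheme over `S` with `U` affine and `j : R ⟶ U ×_S U` separated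
and locally quasi-finite, and let `P ⟶ R` be a monomorphism such that `(U, P, s|_P, t|_P, c|_P)` is
a groupoid scheme, `s|_P, t|_P` are finite locally free and `j|_P` is a monomorphism. Then `U/P` is
represented by an affine scheme `Ū`, the quotient map `U ⟶ Ū` is finite locally free with `P = U ×_Ū
U`, and `R` is the restriction along `U ⟶ Ū` of a groupoid scheme `(Ū, R̄, s̄, t̄, c̄)`. -/
theorem result (S : Scheme.{u}) (G : Grpd.GroupoidScheme S) [IsAffine G.U]
    [IsSeparated G.j] [LocallyQuasiFinite G.j] [LocallyOfFiniteType G.j]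
    (P : Scheme.{u}) (ιP : P ⟶ G.R) [Mono ιP]
    (he : ∃ eP : G.U ⟶ P, eP ≫ ιP = G.e) (hi : ∃ iP : P ⟶ P, iP ≫ ιP = ιP ≫ G.i)
    (hc : ∃ cP : pullback (ιP ≫ G.s) (ιP ≫ G.t) ⟶ P,
      cP ≫ ιP = pullback.map (ιP ≫ G.s) (ιP ≫ G.t) G.s G.t ιP ιP (𝟙 G.U) (Category.comp_id _) (Category.comp_id _) ≫ G.c)
    [IsFinite (ιP ≫ G.s)] [Flat (ιP ≫ G.s)] [LocallyOfFinitePresentation (ιP ≫ G.s)]
    [IsFinite (ιP ≫ G.t)] [Flat (ιP ≫ G.t)] [LocallyOfFinitePresentation (ιP ≫ G.t)] [Mono (ιP ≫ G.j)] :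
    ∃ (H : Grpd.GroupoidScheme S) (φ : Grpd.GroupoidScheme.Hom G H),
      IsAffine H.U ∧
      QuotSh.IsQuotient Scheme.fppfPrecoverage
        (Over.homMk (ιP ≫ G.s) ((Category.assoc _ _ _).trans (congrArg (ιP ≫ ·) G.s_over)) :
          (Over.mk (ιP ≫ G.pR) : Over S) ⟶ Over.mk G.pU)
        (Over.homMk (ιP ≫ G.t) ((Category.assoc _ _ _).trans (congrArg (ιP ≫ ·) G.t_over)) :
          (Over.mk (ιP ≫ G.pR) : Over S) ⟶ Over.mk G.pU)
        (Over.homMk φ.fU φ.fU_over : Over.mk G.pU ⟶ Over.mk H.pU) ∧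
      IsFinite φ.fU ∧ Flat φ.fU ∧ LocallyOfFinitePresentation φ.fU ∧
      IsPullback (ιP ≫ G.t) (ιP ≫ G.s) φ.fU φ.fU ∧
      IsPullback φ.fR G.j H.j
        (pullback.map G.pU G.pU H.pU H.pU φ.fU φ.fU (𝟙 S)
          ((Category.comp_id _).trans φ.fU_over.symm) ((Category.comp_id _).trans φ.fU_over.symm)) := by
  obtain ⟨eP, heP⟩ := he
  obtain ⟨iP, hiP⟩ := hi
  obtain ⟨cP, hcP⟩ := hc
  let Gp := GrpdLib.subGrpd G ιP eP iP cP heP hiP hcP
  have : IsAffine Gp.U := ‹IsAffine G.U›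
  have hfs : IsFinite Gp.s := ‹IsFinite (ιP ≫ G.s)›
  have hfls : Flat Gp.s := ‹Flat (ιP ≫ G.s)›
  have hfps : LocallyOfFinitePresentation Gp.s := ‹LocallyOfFinitePresentation (ιP ≫ G.s)›
  have hft : IsFinite Gp.t := ‹IsFinite (ιP ≫ G.t)›
  have hflt : Flat Gp.t := ‹Flat (ιP ≫ G.t)›
  have hfpt : LocallyOfFinitePresentation Gp.t := ‹LocallyOfFinitePresentation (ιP ≫ G.t)›
  have : IsAffine Gp.R := isAffine_of_isAffineHom Gp.s
  have hjP : Gp.j = ιP ≫ G.j := by
    apply pullback.hom_ext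
    · exact (GrpdLib.j_fst Gp).trans
        (((congrArg (ιP ≫ ·) (GrpdLib.j_fst G)).symm).trans (Category.assoc _ _ _).symm)
    · exact (GrpdLib.j_snd Gp).trans
        (((congrArg (ιP ≫ ·) (GrpdLib.j_snd G)).symm).trans (Category.assoc _ _ _).symm)
  have : Mono Gp.j := by rw [hjP]; exact ‹Mono (ιP ≫ G.j)›
  -- the quotient of the objects
  have hA := GrpdLib.isAffQuot_toQuot Gp
  obtain ⟨hqfin, hqfl, hqfp⟩ := GrpdLib.finLocFree_toQuot Gp
  obtain ⟨m, hm⟩ := hA.exists_desc Gp.pU (Gp.t_over.trans Gp.s_over.symm)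
  have hpb : IsPullback (ιP ≫ G.t) (ιP ≫ G.s) Gp.toQuot Gp.toQuot := GrpdLib.isPullback_toQuot Gp
  let K : GrpdLib.KerData G :=
    { B := Spec (CommRingCat.of Gp.invariants)
      q := Gp.toQuot
      m := m
      q_over := hm
      finite := hqfin
      flat := hqfl
      lfp := hqfp
      surj := ⟨hA.surj⟩
      ω := fun a b h => hpb.lift a b h ≫ ιP
      ω_t := fun a b h => by rw [Category.assoc]; exact hpb.lift_fst a b h
      ω_s := fun a b h => by rw [Category.assoc]; exact hpb.lift_snd a b h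
      ω_comp := fun a b c h h' => by
        have e : hpb.lift a b h ≫ ιP ≫ G.s = hpb.lift b c h' ≫ ιP ≫ G.t := by
          rw [hpb.lift_snd, hpb.lift_fst]
        refine ((GrpdLib.lift_cP G ιP cP hcP _ _ e).symm).trans ?_
        congr 1
        apply hpb.hom_ext
        · rw [hpb.lift_fst]
          exact (GrpdLib.comp_t Gp _ _ e).trans (hpb.lift_fst _ _ _)
        · rw [hpb.lift_snd]
          exact (GrpdLib.comp_s Gp _ _ e).trans (hpb.lift_snd _ _ _)
      ω_nat := fun f a b h => by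
        rw [← Category.assoc]
        congr 1
        apply hpb.hom_ext
        · rw [Category.assoc, hpb.lift_fst, hpb.lift_fst]
        · rw [Category.assoc, hpb.lift_snd, hpb.lift_snd] }
  -- orbits lie in affines
  have hO : GrpdLib.OrbitsInAffines K.E := by
    intro x
    let g : pullback G.pU G.pU ⟶ pullback (G.pU ≫ terminal.from S) (G.pU ≫ terminal.from S) :=
      pullback.mapDesc G.pU G.pU (terminal.from S)
    have : IsImmersion g := inferInstance
    have : IsAffine (pullback (G.pU ≫ terminal.from S) (G.pU ≫ terminal.from S)) := inferInstance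
    have : IsSeparated (G.j ≫ g) := inferInstance
    have : LocallyQuasiFinite (G.j ≫ g) := inferInstance
    have : LocallyOfFiniteType (G.j ≫ g) := inferInstance
    have hfin : (K.E.t '' (K.E.s ⁻¹' {x})).Finite :=
      (IsFinite.finite_preimage_singleton K.E.s x).image _
    obtain ⟨V, hV, hFV⟩ := GrpdLib.exists_affine_of_finite_of_lqf (X := G.R) (G.j ≫ g) hfin
    exact ⟨V, hV, fun r hr => hFV ⟨r, hr, rfl⟩⟩
  refine ⟨K.bar hO, K.toBar hO, inferInstanceAs (IsAffine (Spec (CommRingCat.of Gp.invariants))),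
    ?_, hqfin, hqfl, hqfp, hpb, K.isPullback_toBar hO⟩
  let q' : (Over.mk G.pU : Over S) ⟶ Over.mk (K.bar hO).pU := Over.homMk Gp.toQuot hm
  have : Flat q'.left := hqfl
  have : LocallyOfFinitePresentation q'.left := hqfp
  have : Surjective q'.left := ⟨hA.surj⟩
  exact GrpdLib.isQuotient_of_isPullback _ _ q' hpb

end Groth.Agent.S10140
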