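import Groth.Statements.S10141
import Groth.Agent.AlgSpB.Art.Restriction

set_option autoImplicit false
set_option backward.isDefEq.respectTransparency false
set_option backward.isDefEq.respectTransparency.types false

universe u
open CategoryTheory CategoryTheory.Limits AlgebraicGeometry
open AlgSp

namespace Groth.Agent.S10141

/-- Let `(U, R, s, t, c)` be a groupoid scheme over `S` and `g : U' ⟶ U` a morphism such that the
composite `h : U' ×_{g, U, t} R ⟶ R ⟶ U` of the projection with `s` has open image `W ⊂ U` and `h :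
U' ×_{g, U, t} R ⟶ W` is a surjection of fppf sheaves. Then for the restriction `R' = R|_{U'}` the
map of fppf quotient sheaves `U'/R' ⟶ U/R` is representable and an open immersion. -/
theorem result (S : Scheme.{u}) (G : Grpd.GroupoidScheme S)
    (U' : Scheme.{u}) (g : U' ⟶ G.U) (W : G.U.Opens)
    (hW : (W : Set ↥G.U) = Set.range ⇑(pullback.snd g G.t ≫ G.s))
    (hlift : pullback g G.t ⟶ ↑W) (hh : hlift ≫ W.ι = pullback.snd g G.t ≫ G.s)
    (hsurj : Sheaf.IsLocallySurjective ((AlgSp.yon S).map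
      (Over.homMk hlift ((Category.assoc _ _ _).symm.trans (congrArg (· ≫ G.pU) hh)) :
        Over.mk ((pullback.snd g G.t ≫ G.s) ≫ G.pU) ⟶ Over.mk (W.ι ≫ G.pU))))
    (R' : Over S) (s' t' : R' ⟶ Over.mk (g ≫ G.pU)) (r : R' ⟶ Over.mk G.pR)
    (hsq : IsPullback (prod.lift t' s') r
      (prod.map (Over.homMk g rfl : Over.mk (g ≫ G.pU) ⟶ Over.mk G.pU) (Over.homMk g rfl : Over.mk (g ≫ G.pU) ⟶ Over.mk G.pU))
      (prod.lift (Over.homMk G.t G.t_over : Over.mk G.pR ⟶ Over.mk G.pU) (Over.homMk G.s G.s_over : Over.mk G.pR ⟶ Over.mk G.pU)))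
    (ψ : QuotSh.quot Scheme.fppfPrecoverage s' t' ⟶
      QuotSh.quot Scheme.fppfPrecoverage (Over.homMk G.s G.s_over : Over.mk G.pR ⟶ Over.mk G.pU) (Over.homMk G.t G.t_over : Over.mk G.pR ⟶ Over.mk G.pU))
    (hψ : QuotSh.quotπ Scheme.fppfPrecoverage s' t' ≫ ψ =
      QuotSh.repMap Scheme.fppfPrecoverage (Over.homMk g rfl : Over.mk (g ≫ G.pU) ⟶ Over.mk G.pU) ≫ QuotSh.quotπ Scheme.fppfPrecoverage _ _) :
    AlgSp.RepWith @IsOpenImmersion ψ := by
  let gO : Over.mk (g ≫ G.pU) ⟶ Over.mk G.pU := Over.homMk g rfl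
  let sO : Over.mk G.pR ⟶ Over.mk G.pU := Over.homMk G.s G.s_over
  let tO : Over.mk G.pR ⟶ Over.mk G.pU := Over.homMk G.t G.t_over
  refine Groth.Agent.AlgSpB.Art.repWith_isOpenImmersion_restriction sO tO
    (Groth.Agent.AlgSpB.Art.isPreEqvRelSp_grpd G) gO W ?_ ?_ ?_ s' t' r hsq ψ ?_
  · rintro ρ ⟨u', hu'⟩
    change G.s ρ ∈ (W : Set ↥G.U)
    rw [hW]
    obtain ⟨z, -, hz⟩ := Scheme.Pullback.exists_preimage_pullback (f := g) (g := G.t) u' ρ hu'
    exact ⟨z, by rw [Scheme.Hom.comp_apply, hz]⟩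
  · intro T a ha
    let i : Over.mk (W.ι ≫ G.pU) ⟶ Over.mk G.pU := Over.homMk W.ι rfl
    have : IsOpenImmersion i.left := inferInstanceAs (IsOpenImmersion W.ι)
    obtain ⟨aW, haW⟩ := Groth.Agent.AlgSpB.Art.exists_lift_of_forall_mem i a fun x => by
      change a.left x ∈ Set.range W.ι
      rw [Scheme.Opens.range_ι]
      exact ha x
    let hl : Over.mk ((pullback.snd g G.t ≫ G.s) ≫ G.pU) ⟶ Over.mk (W.ι ≫ G.pU) :=
      Over.homMk hlift ((Category.assoc _ _ _).symm.trans (congrArg (· ≫ G.pU) hh))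
    have : Sheaf.IsLocallySurjective ((AlgSp.yon S).map hl) := hsurj
    refine ⟨_, Presheaf.imageSieve_mem (J := AlgSp.J S) ((AlgSp.yon S).map hl).hom
      (Groth.Agent.AlgSp.yEquiv ((AlgSp.yon S).map aW)), ?_⟩
    rintro T' f ⟨z, hz⟩
    obtain ⟨z', hz'⟩ := (AlgSp.yon S).map_surjective (Groth.Agent.AlgSp.yEquiv.symm z)
    have e : z' ≫ hl = f ≫ aW := by
      apply (AlgSp.yon S).map_injective
      rw [Functor.map_comp, Functor.map_comp, hz']
      apply Groth.Agent.AlgSp.yEquiv.injective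
      rw [Groth.Agent.AlgSp.yEquiv_comp, Equiv.apply_symm_apply, Groth.Agent.AlgSp.yEquiv_map]
      exact hz
    have he : z'.left ≫ pullback.snd g G.t ≫ G.s = f.left ≫ a.left := by
      have e' : z'.left ≫ hlift = f.left ≫ aW.left := congrArg (fun k => k.left) e
      calc z'.left ≫ pullback.snd g G.t ≫ G.s = z'.left ≫ hlift ≫ W.ι := congrArg (z'.left ≫ ·) hh.symm
        _ = (z'.left ≫ hlift) ≫ W.ι := (Category.assoc _ _ _).symm
        _ = (f.left ≫ aW.left) ≫ W.ι := congrArg (· ≫ W.ι) e'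
        _ = f.left ≫ aW.left ≫ W.ι := Category.assoc _ _ _
        _ = f.left ≫ a.left := congrArg (f.left ≫ ·) (congrArg (fun k => k.left) haW)
    have hpR : (z'.left ≫ pullback.snd g G.t) ≫ G.pR = T'.hom := by
      rw [← Over.w z']
      simp only [Over.mk_hom, Category.assoc, G.s_over]
    refine ⟨Over.homMk (z'.left ≫ pullback.fst g G.t) (by
        show (z'.left ≫ pullback.fst g G.t) ≫ g ≫ G.pU = T'.hom
        rw [← hpR, ← G.t_over]
        simp only [Category.assoc, pullback.condition_assoc]),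
      Over.homMk (z'.left ≫ pullback.snd g G.t) hpR, ?_, ?_⟩
    · apply Over.OverMorphism.ext
      simp only [gO, tO, Over.comp_left, Over.homMk_left, Category.assoc, pullback.condition]
    · exact Over.OverMorphism.ext ((Category.assoc _ _ _).trans he)
  · intro u hu
    change u ∈ (W : Set ↥G.U) at hu
    rw [hW] at hu
    obtain ⟨z, rfl⟩ := hu
    refine ⟨(pullback.snd g G.t) z, (pullback.fst g G.t) z, ?_, (Scheme.Hom.comp_apply _ _ _).symm⟩
    change G.t ((pullback.snd g G.t) z) = g ((pullback.fst g G.t) z)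
    rw [← Scheme.Hom.comp_apply, ← Scheme.Hom.comp_apply, pullback.condition]
  · simp only [Groth.Agent.AlgSp.yπ, Category.assoc, hψ]
    rw [← Category.assoc, Groth.Agent.AlgSp.repMap_repIso, Category.assoc]

end Groth.Agent.S10141
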