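import Groth.Statements.S10142
import Groth.Agent.AlgSpB.Gpd

set_option autoImplicit false
set_option backward.isDefEq.respectTransparency false
universe u
open CategoryTheory CategoryTheory.Limits AlgebraicGeometry
open AlgSp AlgSp.GroupoidSp

namespace Groth.Agent.S10142

/-- For a groupoid in algebraic spaces `(U, R, s, t, c, e, i)` over `B`: the square with sides `c : R
×_{s,U,t} R ⟶ R`, `pr_1 : R ×_{s,U,t} R ⟶ R`, `s` and `s` is cartesian, and the morphism `R
×_{t,U,t} R ⟶ R ×_{s,U,t} R`, `(α, β) ↦ (α, i(α) ∘ β)`, is an isomorphism whose composite with `c`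
is the second projection `pr_1 : R ×_{t,U,t} R ⟶ R`. (The published statement also lists the square
formed by `pr_0`, `pr_1`, `s`, `t`, which is cartesian by definition of the fibre product.) -/
theorem result (S : Scheme.{u}) (B : AlgSp.Sp S) (hB : AlgSp.IsAlgSpace B)
    (G : AlgSp.GroupoidSp B) (hU : AlgSp.IsAlgSpace G.U) (hR : AlgSp.IsAlgSpace G.R) :
    IsPullback G.c (pullback.snd G.s G.t) G.s G.s ∧
      ∀ φ : pullback G.t G.t ⟶ pullback G.s G.t,
        φ ≫ pullback.fst G.s G.t = pullback.fst G.t G.t →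
        φ ≫ pullback.snd G.s G.t =
          pullback.lift (pullback.fst G.t G.t ≫ G.i) (pullback.snd G.t G.t)
            ((Category.assoc _ _ _).trans ((congrArg (pullback.fst G.t G.t ≫ ·) G.i_s).trans pullback.condition)) ≫ G.c →
        IsIso φ ∧ φ ≫ G.c = pullback.snd G.t G.t := by
  refine ⟨Groth.Agent.AlgSpB.Gpd.isPullback_comp_snd G, fun φ h1 h2 => ?_⟩
  have hc : φ ≫ G.c = pullback.snd G.t G.t := by
    rw [Groth.Agent.AlgSpB.Gpd.c_eq, Groth.Agent.AlgSpB.Gpd.map_comp]
    exact (Groth.Agent.AlgSpB.Gpd.comp_congr (h := _) h1 h2).trans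
      (Groth.Agent.AlgSpB.Gpd.left_inv_cancel _ _ pullback.condition)
  have hw : pullback.fst G.s G.t ≫ G.t = G.c ≫ G.t := by
    rw [Groth.Agent.AlgSpB.Gpd.c_eq, Groth.Agent.AlgSpB.Gpd.comp_t]
  refine ⟨⟨pullback.lift (pullback.fst G.s G.t) G.c hw, ?_, ?_⟩, hc⟩
  · apply pullback.hom_ext
    · rw [Category.assoc, pullback.lift_fst, h1, Category.id_comp]
    · rw [Category.assoc, pullback.lift_snd, hc, Category.id_comp]
  · apply pullback.hom_ext
    · rw [Category.assoc, h1, pullback.lift_fst, Category.id_comp]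
    · rw [Category.assoc, h2, Category.id_comp]
      change _ ≫ Groth.Agent.AlgSpB.Gpd.comp _ _ _ = _
      rw [Groth.Agent.AlgSpB.Gpd.map_comp]
      refine (Groth.Agent.AlgSpB.Gpd.comp_congr (h := _) (pullback.lift_fst_assoc _ _ _ _)
        ((pullback.lift_snd _ _ _).trans (Groth.Agent.AlgSpB.Gpd.c_eq G))).trans ?_
      exact Groth.Agent.AlgSpB.Gpd.inv_left_cancel _ _ pullback.condition

end Groth.Agent.S10142
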