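import Groth.Statements.S10145
import Groth.Agent.AlgSpB.Gpd

set_option autoImplicit false
set_option backward.isDefEq.respectTransparency false
universe u
open CategoryTheory CategoryTheory.Limits AlgebraicGeometry
open AlgSp AlgSp.GroupoidSp

namespace Groth.Agent.S10145

open Groth.Agent.AlgSpB in
theorem translation_iso {S : Scheme.{u}} {B : AlgSp.Sp S} (G : AlgSp.GroupoidSp B)
    (a : G.U ⟶ G.R) (ha : a ≫ G.s = 𝟙 G.U) (q : G.U ⟶ G.U) (hq : (a ≫ G.t) ≫ q = 𝟙 _)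
    (hq' : q ≫ a ≫ G.t = 𝟙 _) (h : (G.t ≫ a) ≫ G.s = 𝟙 G.R ≫ G.t) :
    IsIso (Gpd.comp (G.t ≫ a) (𝟙 G.R) h) := by
  have h' : (((G.t ≫ q) ≫ a) ≫ G.i) ≫ G.s = 𝟙 G.R ≫ G.t := by
    simp [G.i_s, hq']
  refine ⟨Gpd.comp (((G.t ≫ q) ≫ a) ≫ G.i) (𝟙 _) h', ?_, ?_⟩
  · rw [Gpd.map_comp]
    refine (Gpd.comp_congr (h := _) ?_ (Category.comp_id _)).trans (Gpd.inv_left_cancel _ _ h)
    have e : Gpd.comp (G.t ≫ a) (𝟙 G.R) h ≫ G.t ≫ q = G.t := by
      rw [← Category.assoc, Gpd.comp_t]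
      simp only [Category.assoc] at hq ⊢
      rw [hq, Category.comp_id]
    simpa only [Category.assoc] using congrArg (fun k => k ≫ a ≫ G.i) e
  · rw [Gpd.map_comp]
    refine (Gpd.comp_congr (h := _) ?_ (Category.comp_id _)).trans
      (Gpd.left_inv_cancel ((G.t ≫ q) ≫ a) (𝟙 _) ?_)
    · have e : Gpd.comp (((G.t ≫ q) ≫ a) ≫ G.i) (𝟙 G.R) h' ≫ G.t = G.t ≫ q := by
        rw [Gpd.comp_t, Category.assoc, G.i_t, Category.assoc, ha, Category.comp_id]
      rw [← Category.assoc, e, Category.assoc]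
    · simp [hq']

/-- Let `(U, R, s, t, c)` be a groupoid in algebraic spaces over `B` whose object space is `U = Spec k`,
and let `r : Spec k ⟶ R` be such that `s ∘ r` and `t ∘ r` are automorphisms of `Spec k`; write `a =
r ∘ (s ∘ r)⁻¹`, so that `s ∘ a = id` and `t ∘ a` is an automorphism. Then `R ⟶ R`, `f ↦ c(a ∘ t ∘ f,
f)`, is an automorphism of `R` mapping `e` to `a` (the point `r`). -/
theorem result (S : Scheme.{u}) (B : AlgSp.Sp S) (hB : AlgSp.IsAlgSpace B)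
    (G : AlgSp.GroupoidSp B) (hR : AlgSp.IsAlgSpace G.R) (k : Type u) [Field k]
    (σ : Spec (CommRingCat.of k) ⟶ S) (eU : G.U ≅ (AlgSp.yon S).obj (Over.mk σ))
    (a : G.U ⟶ G.R) (ha : a ≫ G.s = 𝟙 G.U) [IsIso (a ≫ G.t)] :
    IsIso (pullback.lift (G.t ≫ a) (𝟙 G.R) (((Category.assoc _ _ _).trans (congrArg (G.t ≫ ·) ha)).trans ((Category.comp_id _).trans (Category.id_comp _).symm)) ≫ G.c) ∧
      G.e ≫ (pullback.lift (G.t ≫ a) (𝟙 G.R) (((Category.assoc _ _ _).trans (congrArg (G.t ≫ ·) ha)).trans ((Category.comp_id _).trans (Category.id_comp _).symm)) ≫ G.c) = a := by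
  constructor
  · exact translation_iso G a ha (inv (a ≫ G.t)) (IsIso.hom_inv_id _) (IsIso.inv_hom_id _) _
  · change G.e ≫ Groth.Agent.AlgSpB.Gpd.comp _ _ _ = _
    rw [Groth.Agent.AlgSpB.Gpd.map_comp]
    refine (Groth.Agent.AlgSpB.Gpd.comp_congr (h := _)
      ((reassoc_of% G.e_t) a) ?_).trans (G.comp_e a)
    rw [Category.comp_id, reassoc_of% ha]

end Groth.Agent.S10145
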