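import Groth.Statements.S10146
import Groth.Agent.AlgSpB.Art.BigField
import Groth.Agent.AlgSpB.Points
import Groth.Agent.AlgSpB.Bootstrap

set_option autoImplicit false
set_option backward.isDefEq.respectTransparency false
set_option backward.isDefEq.respectTransparency.types false

universe u
open CategoryTheory CategoryTheory.Limits AlgebraicGeometry
open AlgSp AlgSp.GroupoidSp

namespace Groth.Agent.S10146

/-- Let `(U, R, s, t, c)` be a groupoid in algebraic spaces over `B` whose object space is `U = Spec k`.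
For every point `r` of `R` there are an algebraically closed field extension `k'` of `k` and, on the
restriction `(U', R', s', t', c')` along `Spec k' ⟶ Spec k`, a morphism `r' : Spec k' ⟶ R'` mapping
to `r` in `R` such that `s' ∘ r'` and `t' ∘ r'` are automorphisms of `Spec k'`. -/
theorem result (S : Scheme.{u}) (B : AlgSp.Sp S) (hB : AlgSp.IsAlgSpace B)
    (G : AlgSp.GroupoidSp B) (hR : AlgSp.IsAlgSpace G.R) (k : Type u) [Field k]
    (σ : Spec (CommRingCat.of k) ⟶ S) (eU : G.U ≅ (AlgSp.yon S).obj (Over.mk σ)) (r : AlgSp.Points G.R) :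
    ∃ (k' : Type u) (_ : Field k') (_ : Algebra k k'), IsAlgClosed k' ∧
      ∀ (G' : AlgSp.GroupoidSp B) (φ : AlgSp.GroupoidSp.Hom G' G), φ.IsRestriction → AlgSp.IsAlgSpace G'.R →
        ∀ (eU' : G'.U ≅ (AlgSp.yon S).obj (Over.mk (Spec.map (CommRingCat.ofHom (algebraMap k k')) ≫ σ))),
          φ.fU = eU'.hom ≫ (AlgSp.yon S).map (Over.homMk (Spec.map (CommRingCat.ofHom (algebraMap k k'))) rfl :
            Over.mk (Spec.map (CommRingCat.ofHom (algebraMap k k')) ≫ σ) ⟶ Over.mk σ) ≫ eU.inv →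
          ∃ r' : G'.U ⟶ G'.R, (∀ x : AlgSp.Points G'.U, AlgSp.Points.map (r' ≫ φ.fR) x = r) ∧
            IsIso (r' ≫ G'.s) ∧ IsIso (r' ≫ G'.t) := by
  obtain ⟨x, hx⟩ := Groth.Agent.AlgSpB.exists_eq_ofPt_toHom r
  obtain ⟨a, ha⟩ := (AlgSp.yon S).map_surjective (x.toHom ≫ G.t ≫ eU.hom)
  obtain ⟨b, hb⟩ := (AlgSp.yon S).map_surjective (x.toHom ≫ G.s ≫ eU.hom)
  obtain ⟨α, hα⟩ := Spec.map_surjective (R := CommRingCat.of k) (S := CommRingCat.of x.K) a.left
  obtain ⟨β, hβ⟩ := Spec.map_surjective (R := CommRingCat.of k) (S := CommRingCat.of x.K) b.left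
  obtain ⟨K, hKf, j, hKa, τ, hτ⟩ := Groth.Agent.AlgSpB.Art.exists_big_field α.hom β.hom
  let _ : Algebra k K := (j.comp α.hom).toAlgebra
  refine ⟨K, hKf, inferInstance, hKa, fun G' φ hφ _ eU' hfU => ?_⟩
  let ι : Spec (CommRingCat.of K) ⟶ Spec (CommRingCat.of k) := Spec.map (CommRingCat.ofHom (algebraMap k K))
  let U' : Over S := Over.mk (ι ≫ σ)
  let q : U' ⟶ Over.mk σ := Over.homMk ι rfl
  let J : Spec (CommRingCat.of K) ⟶ Spec (CommRingCat.of x.K) := Spec.map (CommRingCat.ofHom j)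
  have hJa : J ≫ a.left = ι := by
    change J ≫ a.left = Spec.map (CommRingCat.ofHom (j.comp α.hom))
    rw [← hα, CommRingCat.ofHom_comp, Spec.map_comp]
    rfl
  let c : U' ⟶ x.pt := Over.homMk J (by
    change J ≫ x.pt.hom = ι ≫ σ
    rw [← Over.w a, ← hJa]
    exact (Category.assoc _ _ _).symm)
  have hcq : c ≫ a = q := Over.OverMorphism.ext hJa
  let T : Spec (CommRingCat.of K) ⟶ Spec (CommRingCat.of K) := Spec.map (CommRingCat.ofHom (τ : K →+* K))
  have hT : T ≫ ι = J ≫ b.left := by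
    change T ≫ Spec.map (CommRingCat.ofHom (j.comp α.hom)) = J ≫ b.left
    rw [← hβ, ← Spec.map_comp, ← Spec.map_comp, ← CommRingCat.ofHom_comp, hτ, CommRingCat.ofHom_comp]
    rfl
  let S' : U' ⟶ U' := Over.homMk T (by
    change T ≫ ι ≫ σ = ι ≫ σ
    rw [reassoc_of% hT]
    exact (congrArg (J ≫ ·) (Over.w b)).trans (Over.w c))
  have : IsIso S' := by
    have : IsIso T := ⟨Spec.map (CommRingCat.ofHom (τ.symm : K →+* K)),
      by rw [← Spec.map_comp, ← CommRingCat.ofHom_comp]; simp,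
      by rw [← Spec.map_comp, ← CommRingCat.ofHom_comp]; simp⟩
    have : IsIso ((Over.forget S).map S') := ‹IsIso T›
    exact isIso_of_reflects_iso S' (Over.forget S)
  have hcs : S' ≫ q = c ≫ b := Over.OverMorphism.ext hT
  have hf : φ.fU = eU'.hom ≫ (AlgSp.yon S).map q ≫ eU.inv := hfU
  let ρ : G'.U ⟶ G.R := eU'.hom ≫ (AlgSp.yon S).map c ≫ x.toHom
  let xs : G'.U ⟶ G'.U := eU'.hom ≫ (AlgSp.yon S).map S' ≫ eU'.inv
  have ht : ρ ≫ G.t = 𝟙 G'.U ≫ φ.fU := by
    rw [← cancel_mono eU.hom]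
    simp only [ρ, Category.assoc, ← ha, hf, Category.id_comp, Iso.inv_hom_id, Category.comp_id,
      ← Functor.map_comp, hcq]
  have hs : ρ ≫ G.s = xs ≫ φ.fU := by
    rw [← cancel_mono eU.hom]
    simp only [ρ, xs, Category.assoc, ← hb, hf, Iso.inv_hom_id, Iso.inv_hom_id_assoc, Category.comp_id,
      ← Functor.map_comp, hcs]
  have hw : 𝟙 G'.U ≫ G'.pU = xs ≫ G'.pU := by
    have e1 : (ρ ≫ G.t) ≫ G.pU = (ρ ≫ G.s) ≫ G.pU := by
      rw [Category.assoc ρ G.t, Category.assoc ρ G.s, G.t_over, G.s_over]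
    rw [ht, hs, Category.assoc, Category.assoc, φ.fU_over] at e1
    exact e1
  obtain ⟨r', h1, h2⟩ := hφ.exists_lift ρ (pullback.lift (𝟙 _) xs hw) (by
    apply pullback.hom_ext
    · simp only [AlgSp.GroupoidSp.Hom.prodMap, pullback.map, Category.assoc, AlgSp.GroupoidSp.j_fst,
        pullback.lift_fst, pullback.lift_fst_assoc]
      exact ht
    · simp only [AlgSp.GroupoidSp.Hom.prodMap, pullback.map, Category.assoc, AlgSp.GroupoidSp.j_snd,
        pullback.lift_snd, pullback.lift_snd_assoc]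
      exact hs)
  have h3 : r' ≫ G'.t = 𝟙 _ := by
    rw [← AlgSp.GroupoidSp.j_fst, reassoc_of% h2, pullback.lift_fst]
  have h4 : r' ≫ G'.s = xs := by
    rw [← AlgSp.GroupoidSp.j_snd, reassoc_of% h2, pullback.lift_snd]
  refine ⟨r', fun y => ?_, h4 ▸ inferInstanceAs (IsIso xs), h3 ▸ inferInstanceAs (IsIso (𝟙 G'.U))⟩
  obtain ⟨z, hz⟩ := Groth.Agent.AlgSpB.surjective_ofPt
    (Groth.Agent.AlgSpB.repWith_of_isIso (P := @Surjective) eU'.inv) y
  rw [h1, ← hz, AlgSp.Points.map_ofPt]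
  simp only [ρ, Iso.inv_hom_id_assoc]
  rw [Groth.Agent.AlgSpB.ofPt_map_comp]
  exact hx _

end Groth.Agent.S10146
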