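import Groth.Statements.S10148
import Groth.Agent.LinTopLib.Series
import Mathlib.RingTheory.Henselian
import Mathlib.Algebra.Polynomial.Identities
import Mathlib.Topology.Algebra.Polynomial

set_option autoImplicit false
universe u
open LinTop

namespace Groth.Agent.S10148

open Groth.Agent.LinTopLib Filter Topology

/-- Let A be a weakly admissible topological ring (linearly topologized, Hausdorff and complete, having
a weak ideal of definition) and let I be a weak ideal of definition of A, that is, an open ideal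
consisting of topologically nilpotent elements. Then (A, I) is a henselian pair. -/
theorem result
    (A : Type u) [CommRing A] [UniformSpace A] [IsUniformAddGroup A] [IsTopologicalRing A]
    (hA : LinTop.IsWeaklyAdmissible A) (I : Ideal A) (hI : LinTop.IsWeakIdealOfDefinition A I) :
    HenselianRing A I := by
  haveI := hA.1.1
  haveI := hA.2.1
  haveI := hA.2.2
  have hjac := le_jacobson_of_topNilp hI.2
  refine @HenselianRing.mk A _ I hjac ?_
  intro f _ a₀ ha₀ hu
  have hIc := isClosed_of_isOpen hI.1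
  let x := f.eval a₀
  -- derivative stays invertible modulo the ideal
  have hder : ∀ a, a - a₀ ∈ I → IsUnit (f.derivative.eval a) := by
    intro a ha
    obtain ⟨b, hb⟩ := Ideal.Quotient.mk_surjective (hu.unit⁻¹ : (A ⧸ I)ˣ).1
    have e : Ideal.Quotient.mk I (f.derivative.eval a * b) = 1 := by
      rw [map_mul, hb, Ideal.Quotient.eq.2]
      · exact hu.mul_val_inv
      · exact I.mem_of_dvd (Polynomial.sub_dvd_eval_sub a a₀ _) ha
    rw [← map_one (Ideal.Quotient.mk I), Ideal.Quotient.eq] at e
    have := Ideal.mem_jacobson_bot.1 (hjac e) 1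
    rw [mul_one, sub_add_cancel] at this
    exact isUnit_of_mul_isUnit_left this
  have step : ∀ (n : ℕ) (a : A), a - a₀ ∈ I → x ^ (n + 1) ∣ f.eval a →
      ∃ d, x ^ (n + 1) ∣ d ∧ a + d - a₀ ∈ I ∧ x ^ (n + 2) ∣ f.eval (a + d) := by
    intro n a ha hdvd
    obtain ⟨u, hu'⟩ := hder a ha
    have hd : x ^ (n + 1) ∣ -(↑u⁻¹ * f.eval a) := (hdvd.mul_left _).neg_right
    refine ⟨_, hd, ?_, ?_⟩
    · have : -(↑u⁻¹ * f.eval a) ∈ I := I.mem_of_dvd ((dvd_pow_self x n.succ_ne_zero).trans hd) ha₀
      simpa [add_sub_right_comm] using I.add_mem ha this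
    · obtain ⟨z, hz⟩ := Polynomial.binomExpansion f a (-(↑u⁻¹ * f.eval a))
      rw [hz, ← hu', mul_neg, Units.mul_inv_cancel_left, add_neg_cancel, zero_add]
      refine Dvd.dvd.mul_left ?_ z
      refine dvd_trans ?_ (pow_dvd_pow_of_dvd hd 2)
      rw [← pow_mul]
      exact pow_dvd_pow x (by omega)
  choose! d hd hdI hdx using step
  let a : ℕ → A := fun n => Nat.rec a₀ (fun n a => a + d n a) n
  have ha : ∀ n, a n - a₀ ∈ I ∧ x ^ (n + 1) ∣ f.eval (a n) := by
    intro n
    induction n with
    | zero => exact ⟨by simp [a], by simp [a, x]⟩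
    | succ n ih => exact ⟨hdI n _ ih.1 ih.2, hdx n _ ih.1 ih.2⟩
  have hsmall : ∀ c : ℕ → A, (∀ n, x ^ (n + 1) ∣ c n) → Tendsto c atTop (𝓝 0) := by
    intro c hc U hU
    obtain ⟨W, hW, hWU⟩ := exists_open_ideal hU
    obtain ⟨m, hm⟩ := (isTopologicallyNilpotent_iff x).1 (hI.2 x ha₀) W hW
    change ∀ᶠ n in atTop, c n ∈ U
    filter_upwards [eventually_ge_atTop m] with n hn
    exact hWU (W.mem_of_dvd ((pow_dvd_pow x (by omega : m ≤ n + 1)).trans (hc n)) hm)
  obtain ⟨s, hs⟩ := summable_of_tendsto (hsmall (fun n => d n (a n))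
    fun n => hd n _ (ha n).1 (ha n).2)
  have hsum : ∀ n, ∑ k ∈ Finset.range n, d k (a k) = a n - a₀ := by
    intro n
    induction n with
    | zero => simp [a]
    | succ n ih =>
      rw [Finset.sum_range_succ, ih]
      change _ = a n + d n (a n) - a₀
      abel
  have hlim : Tendsto (fun n => a n - a₀) atTop (𝓝 s) :=
    hs.tendsto_sum_nat.congr hsum
  refine ⟨s + a₀, ?_, by simpa using hIc.mem_of_tendsto hlim (Eventually.of_forall fun n => (ha n).1)⟩
  have h1 : Tendsto a atTop (𝓝 (s + a₀)) := by simpa using hlim.add_const a₀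
  exact tendsto_nhds_unique ((f.continuous.tendsto _).comp h1) (hsmall _ fun n => (ha n).2)

end Groth.Agent.S10148
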