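import Groth.Statements.S10151
import Groth.Agent.LinTopLib.Basic

set_option autoImplicit false
universe u v w
open LinTop

namespace Groth.Agent.S10151

open Groth.Agent.LinTopLib Filter Topology

/-- Given linearly topologized rings A, B, C and continuous ring maps ψ : B → C and φ : A → B, tautness
of the composite A → C implies that ψ is taut. -/
theorem result
    (A : Type u) [CommRing A] [TopologicalSpace A] [IsTopologicalRing A] [IsLinearTopology A A]
    (B : Type v) [CommRing B] [TopologicalSpace B] [IsTopologicalRing B] [IsLinearTopology B B]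
    (C : Type w) [CommRing C] [TopologicalSpace C] [IsTopologicalRing C] [IsLinearTopology C C]
    (φ : A →+* B) (ψ : B →+* C) (hφ : Continuous φ) (hψ : Continuous ψ)
    (h : LinTop.IsTaut (ψ.comp φ)) : LinTop.IsTaut ψ := by
  refine (isTaut_iff ψ).2 ⟨hψ, fun J hJ => ?_⟩
  exact isOpen_of_le (I := ((J.comap φ).map (ψ.comp φ)).closure) (J := (J.map ψ).closure)
    (ideal_closure_mono (by rw [← Ideal.map_map]; exact Ideal.map_mono Ideal.map_comap_le))
    (h.2.1 _ (hJ.preimage hφ))

end Groth.Agent.S10151
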