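import Groth.Statements.S10152
import Groth.Agent.LinTopLib.Basic

set_option autoImplicit false
universe u v
open LinTop

namespace Groth.Agent.S10152

open Groth.Agent.LinTopLib Filter Topology

/-- Let φ : A → B be a taut homomorphism of linearly topologized rings. If A has a countable fundamental
system of open ideals, then so does B (equivalently, the neighbourhood filters of 0 are countably
generated). -/
theorem result
    (A : Type u) [CommRing A] [TopologicalSpace A] [IsTopologicalRing A] [IsLinearTopology A A]
    (B : Type v) [CommRing B] [TopologicalSpace B] [IsTopologicalRing B] [IsLinearTopology B B]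
    (φ : A →+* B) (hφ : LinTop.IsTaut φ) (hA : (nhds (0 : A)).IsCountablyGenerated) :
    (nhds (0 : B)).IsCountablyGenerated := by
  have := hA
  obtain ⟨b, hb⟩ := (𝓝 (0 : A)).exists_antitone_basis
  choose J hJ hJb using fun n => exists_open_ideal (hb.mem n)
  refine Filter.HasCountableBasis.isCountablyGenerated
    (ι := ℕ) (p := fun _ => True) (s := fun n => ((Ideal.map φ (J n)).closure : Set B))
    ⟨⟨fun U => ⟨fun hU => ?_, fun ⟨n, _, hn⟩ => ?_⟩⟩, Set.to_countable _⟩
  · obtain ⟨I, hI, hIU⟩ := hφ.2.2 U hU
    obtain ⟨n, hn⟩ := hb.mem_iff.1 (mem_nhds_zero hI)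
    exact ⟨n, trivial, fun x hx => hIU (ideal_closure_mono (Ideal.map_mono ((hJb n).trans hn)) hx)⟩
  · exact mem_of_superset (mem_nhds_zero (I := (Ideal.map φ (J n)).closure) (hφ.2.1 _ (hJ n))) hn

end Groth.Agent.S10152
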