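import Groth.Statements.S10155
import Groth.Agent.LinTopLib.Completion
import Groth.Agent.LinTopLib.Series
import Mathlib.Topology.Algebra.IsUniformGroup.Basic

set_option autoImplicit false
universe u v
open LinTop

namespace Groth.Agent.S10155

open Groth.Agent.LinTopLib Filter Topology

/-- Let φ : A → B be a taut homomorphism of linearly topologized rings with dense image. Assume A is
Hausdorff and complete with a countable fundamental system of open ideals and B is Hausdorff. Then φ
is surjective and open, so that B is the quotient of A by the closed ideal ker φ with the quotient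
topology, and B is complete. -/
theorem result
    (A : Type u) [CommRing A] [UniformSpace A] [IsUniformAddGroup A] [IsTopologicalRing A]
    [IsLinearTopology A A] [T2Space A] [CompleteSpace A] (hA : (nhds (0 : A)).IsCountablyGenerated)
    (B : Type v) [CommRing B] [UniformSpace B] [IsUniformAddGroup B] [IsTopologicalRing B]
    [IsLinearTopology B B] [T2Space B]
    (φ : A →+* B) (hφ : LinTop.IsTaut φ) (hd : DenseRange φ) :
    Function.Surjective φ ∧ IsOpenQuotientMap φ ∧ CompleteSpace B := by
  haveI := hA
  haveI := IsUniformAddGroup.uniformity_countably_generated (α := A)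
  obtain ⟨V, hV⟩ := (nhds (0 : A)).exists_antitone_basis
  choose J hJo hJV using fun n => exists_open_ideal (hV.mem n)
  have key : ∀ I : Ideal A, IsOpen (I : Set A) → closure (φ '' I) ⊆ φ '' I := by
    intro I hI b hb
    obtain ⟨K, hK0, hKo, hKI, hKsmall⟩ : ∃ K : ℕ → Ideal A, K 0 = I ∧
        (∀ n, IsOpen (K n : Set A)) ∧ (∀ n, K n ≤ I) ∧
        ∀ U ∈ 𝓝 (0 : A), ∀ᶠ n in atTop, (K n : Set A) ⊆ U := by
      refine ⟨fun n => Nat.rec I (fun m _ => I ⊓ J m) n, rfl, ?_, ?_, fun U hU => ?_⟩
      · rintro (_ | n)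
        · exact hI
        · exact hI.inter (hJo n)
      · rintro (_ | n)
        · exact le_rfl
        · exact inf_le_left
      · obtain ⟨N, -, hN⟩ := hV.toHasBasis.mem_iff.1 hU
        filter_upwards [eventually_ge_atTop (N + 1)] with n hn
        obtain ⟨m, rfl⟩ : ∃ m, n = m + 1 := ⟨n - 1, by omega⟩
        exact fun a ha => hN (hV.antitone (by omega : N ≤ m) (hJV _ ha.2))
    have step : ∀ n : ℕ, ∀ c : B, c ∈ closure (φ '' K n) →
        ∃ a ∈ K n, c - φ a ∈ closure (φ '' K (n + 1)) := by
      intro n c hc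
      have ho : closure (φ '' K (n + 1)) ∈ 𝓝 (0 : B) := by
        rw [closure_image_eq_of_denseRange φ hd]
        exact (hφ.2.1 _ (hKo _)).mem_nhds (subset_closure (Ideal.zero_mem _))
      have : {y : B | c - y ∈ closure (φ '' K (n + 1))} ∈ 𝓝 c :=
        (Continuous.tendsto' (by fun_prop) c (0 : B) (sub_self c) :
          Tendsto (fun y => c - y) (𝓝 c) (𝓝 0)) ho
      obtain ⟨_, hy, a, ha, rfl⟩ := mem_closure_iff_nhds.1 hc _ this
      exact ⟨a, ha, hy⟩
    choose f hfK hf using step
    let c : (n : ℕ) → {c : B // c ∈ closure (φ '' K n)} := fun n =>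
      Nat.rec ⟨b, by rw [hK0]; exact hb⟩ (fun n p => ⟨p.1 - φ (f n p.1 p.2), hf n p.1 p.2⟩) n
    let a : ℕ → A := fun n => f n (c n).1 (c n).2
    have haK : ∀ n, a n ∈ K n := fun n => hfK n _ _
    have hsum : ∀ n, φ (∑ k ∈ Finset.range n, a k) = b - (c n).1 := by
      intro n
      induction n with
      | zero => simp [c]
      | succ n ih =>
        rw [Finset.sum_range_succ, map_add, ih]
        change _ = b - ((c n).1 - φ (a n))
        abel
    have hsm : Summable a := summable_of_tendsto (fun U hU => by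
      change ∀ᶠ n in atTop, a n ∈ U
      filter_upwards [hKsmall U hU] with n hn using hn (haK n))
    obtain ⟨x, hx⟩ := hsm
    have hlim := hx.tendsto_sum_nat
    refine ⟨x, (isClosed_of_isOpen hI).mem_of_tendsto hlim
      (Eventually.of_forall fun n => I.sum_mem fun k _ => hKI k (haK k)), ?_⟩
    have hc : Tendsto (fun n => (c n).1) atTop (𝓝 0) := by
      intro U hU
      obtain ⟨W, hW, hWU⟩ := exists_open_ideal hU
      have hpre : φ ⁻¹' W ∈ 𝓝 (0 : A) := (hW.preimage hφ.1).mem_nhds (by simp)
      change ∀ᶠ n in atTop, (c n).1 ∈ U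
      filter_upwards [hKsmall _ hpre] with n hn
      exact hWU (closure_minimal (Set.image_subset_iff.2 hn) (isClosed_of_isOpen hW) (c n).2)
    refine tendsto_nhds_unique ((hφ.1.tendsto x).comp hlim) ?_
    simpa [Function.comp_def, hsum] using (tendsto_const_nhds (x := b)).sub hc
  have hopen : ∀ I : Ideal A, IsOpen (I : Set A) → IsOpen (φ '' I) := fun I hI => by
    rw [subset_antisymm subset_closure (key I hI), closure_image_eq_of_denseRange φ hd]
    exact hφ.2.1 I hI
  have hsurj : Function.Surjective φ := fun b => by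
    have hb : b ∈ closure (φ '' ((⊤ : Ideal A) : Set A)) := by
      rw [Submodule.top_coe, Set.image_univ]
      exact hd b
    obtain ⟨a, -, ha⟩ := key ⊤ (by simp) hb
    exact ⟨a, ha⟩
  have hmap : IsOpenMap φ := by
    refine IsOpenMap.of_nhds_le fun x U hU => ?_
    have hpre : (fun z => x + z) ⁻¹' (φ ⁻¹' U) ∈ 𝓝 (0 : A) :=
      (Continuous.tendsto' (by fun_prop) (0 : A) x (add_zero x)) hU
    obtain ⟨I, hI, hIU⟩ := exists_open_ideal hpre
    refine mem_of_superset (((hopen I hI).preimage
      (by fun_prop : Continuous fun y : B => y - φ x)).mem_nhds ⟨0, I.zero_mem, by simp⟩) ?_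
    rintro y ⟨z, hz, hzy⟩
    have := hIU hz
    simp only [Set.mem_preimage, map_add, hzy, add_sub_cancel] at this
    exact this
  have hq : IsOpenQuotientMap φ := ⟨hsurj, hφ.1, hmap⟩
  refine ⟨hsurj, hq, ?_⟩
  let N : AddSubgroup A := φ.toAddMonoidHom.ker
  letI : UniformSpace (A ⧸ N) := IsTopologicalAddGroup.rightUniformSpace (A ⧸ N)
  haveI : IsUniformAddGroup (A ⧸ N) := isUniformAddGroup_of_addCommGroup
  haveI : CompleteSpace (A ⧸ N) := QuotientAddGroup.completeSpace_right A N
  let e : A ⧸ N ≃+ B := QuotientAddGroup.quotientKerEquivOfSurjective φ.toAddMonoidHom hsurj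
  have he : Continuous e :=
    (QuotientAddGroup.isQuotientMap_mk N).continuous_iff.2 hφ.1
  have he' : Continuous e.symm := by
    refine hq.isQuotientMap.continuous_iff.2 ?_
    have : e.symm ∘ φ = ((↑) : A → A ⧸ N) := funext fun a => e.symm_apply_eq.2 rfl
    rw [this]
    exact continuous_quotient_mk'
  exact ((⟨e.toEquiv, uniformContinuous_addMonoidHom_of_continuous (f := e.toAddMonoidHom) he,
    uniformContinuous_addMonoidHom_of_continuous (f := e.symm.toAddMonoidHom) he'⟩ :
      (A ⧸ N) ≃ᵤ B).completeSpace_iff).1 inferInstance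

end Groth.Agent.S10155
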