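import Groth.Statements.S10156
import Groth.Agent.LinTopLib.Basic

set_option autoImplicit false
universe u v w
open LinTop

namespace Groth.Agent.S10156

open Groth.Agent.LinTopLib Filter Topology

/-- Given pre-adic rings A, B, C and continuous ring maps ψ : B → C and φ : A → B, adicness of the
composite A → C implies that ψ is adic. -/
theorem result
    (A : Type u) [CommRing A] [TopologicalSpace A] [IsTopologicalRing A] (hA : LinTop.IsPreadic A)
    (B : Type v) [CommRing B] [TopologicalSpace B] [IsTopologicalRing B] (hB : LinTop.IsPreadic B)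
    (C : Type w) [CommRing C] [TopologicalSpace C] [IsTopologicalRing C] (hC : LinTop.IsPreadic C)
    (φ : A →+* B) (ψ : B →+* C) (hφ : Continuous φ) (hψ : Continuous ψ)
    (h : LinTop.IsAdicHom (ψ.comp φ)) : LinTop.IsAdicHom ψ := by
  have := isLinearTopology_of_isPreadic hA
  have := isLinearTopology_of_isPreadic hB
  have := isLinearTopology_of_isPreadic hC
  obtain ⟨J₀, hJ₀'⟩ := hB
  have hJ₀ := isIdealOfDefinition_of_isAdic hJ₀'
  obtain ⟨I, hI, hadic⟩ := h
  obtain ⟨n, hn, hsub⟩ := hI.2 _ ((hJ₀.1.preimage hφ).mem_nhds (by simp))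
  have hle : (I.map φ) ^ n ≤ J₀ := by
    rw [← Ideal.map_pow, Ideal.map_le_iff_le_comap]
    exact hsub
  have hJ := exists_idealOfDefinition_ge hJ₀ hn hle
  refine ⟨_, hJ, isAdic_iff.2 ⟨fun m => ?_, fun s hs => ?_⟩⟩
  · refine isOpen_of_le (Ideal.pow_right_mono ?_ m) ((isAdic_iff.1 hadic).1 m)
    rw [← Ideal.map_map]
    exact Ideal.map_mono le_sup_right
  · obtain ⟨W, hW, hWs⟩ := exists_open_ideal hs
    obtain ⟨m, _, hm⟩ := hJ.2 _ ((hW.preimage hψ).mem_nhds (by simp))
    refine ⟨m, fun x hx => hWs ?_⟩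
    rw [← Ideal.map_pow] at hx
    exact Ideal.map_le_iff_le_comap.2 hm hx

end Groth.Agent.S10156
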