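import Groth.Statements.S10158
import Groth.Agent.LinTopLib.Series

set_option autoImplicit false
universe u v
open LinTop

namespace Groth.Agent.S10158

open Groth.Agent.LinTopLib Filter Topology

/-- Let φ : A → B be a taut homomorphism of linearly topologized rings. Assume A is pre-adic with a
finitely generated ideal of definition I and B is Hausdorff and complete. Then the topology of B is
the φ(I)B-adic topology; in particular B is adic with a finitely generated ideal of definition and φ
is adic. -/
theorem result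
    (A : Type u) [CommRing A] [TopologicalSpace A] [IsTopologicalRing A] (hA : LinTop.IsPreadic A)
    (I : Ideal A) (hI : LinTop.IsIdealOfDefinition A I) (hfg : I.FG)
    (B : Type v) [CommRing B] [UniformSpace B] [IsUniformAddGroup B] [IsTopologicalRing B]
    [IsLinearTopology B B] [T2Space B] [CompleteSpace B]
    (φ : A →+* B) (hφ : LinTop.IsTaut φ) :
    IsAdic (I.map φ) := by
  have hadic : IsAdic I := by
    obtain ⟨J, hJ⟩ := hA
    obtain ⟨m, _, hm⟩ := (isIdealOfDefinition_of_isAdic hJ).2 _ (mem_nhds_zero hI.1)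
    refine isAdic_iff.2 ⟨fun n => isOpen_of_le ?_ ((isAdic_iff.1 hJ).1 (m * n)), fun s hs => ?_⟩
    · rw [pow_mul]
      exact Ideal.pow_right_mono hm n
    · obtain ⟨n, _, hn⟩ := hI.2 s hs
      exact ⟨n, hn⟩
  refine isAdic_of_closure (hfg.map φ) (fun n => ?_) fun U hU => ?_
  · rw [← Ideal.map_pow]
    exact hφ.2.1 _ ((isAdic_iff.1 hadic).1 n)
  · obtain ⟨L, hL, hLU⟩ := hφ.2.2 U hU
    obtain ⟨n, _, hn⟩ := hI.2 _ (mem_nhds_zero hL)
    refine ⟨n, fun x hx => hLU ?_⟩
    rw [← Ideal.map_pow] at hx
    exact ideal_closure_mono (Ideal.map_mono hn) hx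

end Groth.Agent.S10158
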