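import Groth.Statements.S10159
import Groth.Agent.LinTopLib.Basic

set_option autoImplicit false
universe u
open LinTop

namespace Groth.Agent.S10159

open Groth.Agent.LinTopLib Filter Topology

/-- For a ring A carrying a linear topology, the following four conditions are equivalent: (1) A is
weakly pre-adic; (2) there exist a pre-adic topological ring A' and a taut continuous ring
homomorphism A' → A (A' is taken in the universe of A, which suffices since A with an adic topology
serves); (3) A has an ideal of definition, and for at least one ideal of definition I every closure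
cl(I^n) with n ≥ 1 is open; (4) A has an ideal of definition, and for each of its ideals of
definition I every closure cl(I^n) with n ≥ 1 is open. -/
theorem result
    (A : Type u) [CommRing A] [TopologicalSpace A] [IsTopologicalRing A] [IsLinearTopology A A] :
    List.TFAE [LinTop.IsWeaklyPreadic A,
      ∃ (A' : Type u) (_ : CommRing A') (_ : TopologicalSpace A') (_ : IsTopologicalRing A')
        (φ : A' →+* A), LinTop.IsPreadic A' ∧ LinTop.IsTaut φ,
      LinTop.IsPreadmissible A ∧ ∃ I : Ideal A, LinTop.IsIdealOfDefinition A I ∧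
        ∀ n : ℕ, 0 < n → IsOpen (closure ((I ^ n : Ideal A) : Set A)),
      LinTop.IsPreadmissible A ∧ ∀ I : Ideal A, LinTop.IsIdealOfDefinition A I →
        ∀ n : ℕ, 0 < n → IsOpen (closure ((I ^ n : Ideal A) : Set A))] := by
  tfae_have 1 → 2 := by
    rintro ⟨-, I, ho, hb⟩
    have key : ∀ (A' : Type u) [CommRing A'] [TopologicalSpace A'] [IsTopologicalRing A'] (φ : A' →+* A)
        (I' : Ideal A'), IsAdic I' → I'.map φ = I → LinTop.IsTaut φ := by
      intro A' _ _ _ φ I' hI' hm
      obtain ⟨ho', hb'⟩ := isAdic_iff.1 hI'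
      refine (isTaut_iff φ).2 ⟨continuous_of_continuousAt_zero φ ?_, fun L hL => ?_⟩
      · intro U hU
        obtain ⟨n, hn⟩ := hb U (by simpa using hU)
        refine mem_map.2 (mem_of_superset ((ho' n).mem_nhds (I' ^ n).zero_mem) fun x hx => hn ?_)
        rw [← hm, ← Ideal.map_pow]
        exact subset_closure (Ideal.mem_map_of_mem φ hx)
      · obtain ⟨n, hn⟩ := hb' _ (hL.mem_nhds L.zero_mem)
        refine isOpen_of_le (I := (I ^ n).closure) (J := (L.map φ).closure) (ideal_closure_mono ?_) (ho n)
        rw [← hm, ← Ideal.map_pow]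
        exact Ideal.map_mono hn
    exact ⟨A, inferInstance, I.adicTopology, (I.ringFilterBasis).isTopologicalRing, RingHom.id A,
      ⟨I, rfl⟩, @key A _ I.adicTopology (I.ringFilterBasis).isTopologicalRing (RingHom.id A) I rfl
        (Ideal.map_id I)⟩
  tfae_have 2 → 3 := by
    rintro ⟨A', _, _, _, φ, ⟨I', hI'⟩, hφ⟩
    have hd := isIdealOfDefinition_closure_map hφ (isIdealOfDefinition_of_isAdic hI')
    refine ⟨⟨inferInstance, _, hd⟩, _, hd, fun n _ => ?_⟩
    refine isOpen_of_le (I := ((I' ^ n).map φ).closure) (J := ((I'.map φ).closure ^ n).closure)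
      (ideal_closure_mono ?_) (hφ.2.1 _ ((isAdic_iff.1 hI').1 n))
    rw [Ideal.map_pow]
    exact Ideal.pow_right_mono (le_ideal_closure _) n
  tfae_have 3 → 4 := by
    rintro ⟨h, I, hI, ho⟩
    refine ⟨h, fun J hJ n hn => ?_⟩
    obtain ⟨m, hm, hmJ⟩ := hI.2 _ (mem_nhds_zero hJ.1)
    refine isOpen_of_le (I := (I ^ (m * n)).closure) (J := (J ^ n).closure)
      (ideal_closure_mono ?_) (ho _ (Nat.mul_pos hm hn))
    rw [pow_mul]
    exact Ideal.pow_right_mono hmJ n
  tfae_have 4 → 1 := by
    rintro ⟨⟨-, I, hI⟩, h⟩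
    refine ⟨inferInstance, I, fun n => ?_, fun U hU => ?_⟩
    · rcases n with _ | n
      · simp
      · exact h I hI _ n.succ_pos
    · obtain ⟨W, hW, hWU⟩ := exists_open_ideal hU
      obtain ⟨n, _, hn⟩ := hI.2 _ (mem_nhds_zero hW)
      exact ⟨n, fun x hx => hWU (ideal_closure_le hn hW hx)⟩
  tfae_finish

end Groth.Agent.S10159
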