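import Groth.Statements.S1016
import Groth.Agent.PerfExt.Compact

set_option autoImplicit false
universe u
open CategoryTheory CategoryTheory.Limits AlgebraicGeometry
attribute [local instance] HasDerivedCategory.standard
open Perf

attribute [-instance] CategoryTheory.ReflQuiver.toQuiver

namespace Groth.Agent.S1016

/-- Let X be a quasi-compact and quasi-separated scheme and T ⊆ X a closed subset whose complement is
quasi-compact and nonempty (the case T = X is stated separately). Let K ∈ D(O_X) have quasi-coherent
cohomology sheaves supported on T. Then K is compact in D_{QCoh,T}(O_X) (with respect to small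
direct sums of objects with quasi-coherent cohomology supported on T) if and only if K is a perfect
object of D(O_X). -/
theorem result (X : Scheme.{u}) [CompactSpace ↥X] [QuasiSeparatedSpace ↥X]
    (T : Set X) (hT : IsClosed T) (hTc : IsCompact Tᶜ) (hTne : Tᶜ.Nonempty)
    (K : DCoh.D X) (hK : DCoh.IsQCohD K) (hKT : ∀ i : ℤ, CohB1.support (DCoh.HD K i) ⊆ T) :
    PerfAux.IsCompactObjRel.{u} (fun L : DCoh.D X => DCoh.IsQCohD L ∧ ∀ i : ℤ, CohB1.support (DCoh.HD L i) ⊆ T) K ↔
      DCoh.IsPerfect K := by
  open Groth.Agent CategoryTheory.Limits AlgebraicGeometry in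
  let W : X.Opens := ⟨Tᶜ, hT.isOpen_compl⟩
  have hKW : IsZero ((DCoh.restrictD W.ι).obj K) :=
    PerfExt.isZero_restrict_of_support W fun k x hx hxW => hxW (hKT k hx)
  refine ⟨fun h => PerfExt.isPerfect_of_compact hK (PerfExt.finSum_of_supported W hTc hKW fun ι E hE c hc => ?_),
    fun h ι E _ hE => ?_⟩
  · have : HasCoproduct E := HasColimit.mk ⟨c, hc⟩
    refine (PerfExt.finSum_of_bijective E (h ι E fun i => ⟨(hE i).1, fun k x hx => ?_⟩)).of_cofan
      (coproductIsCoproduct E) hc
    exact not_not.1 (PerfExt.support_subset_of_isZero_restrict W (hE i).2 k hx)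
  · exact PerfExt.bijective_of_finSum E (coproductIsCoproduct E)
      (PerfExt.finSum_of_isPerfect h E (fun i => (hE i).1) _ (coproductIsCoproduct E))

end Groth.Agent.S1016
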