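import Groth.Statements.S10160
import Groth.Agent.LinTopLib.Basic

set_option autoImplicit false
universe u
open LinTop

namespace Groth.Agent.S10160

open Groth.Agent.LinTopLib Filter Topology

/-- A weakly adic topological ring is admissible and has a countable fundamental system of open ideals. -/
theorem result
    (A : Type u) [CommRing A] [UniformSpace A] [IsUniformAddGroup A] [IsTopologicalRing A] (hA : LinTop.IsWeaklyAdic A) :
    LinTop.IsAdmissible A ∧ (nhds (0 : A)).IsCountablyGenerated := by
  obtain ⟨⟨hl, I, ho, hb⟩, ht, hc⟩ := hA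
  refine ⟨⟨⟨hl, I.closure, by simpa using ho 1, fun U hU => ?_⟩, ht, hc⟩, ?_⟩
  · obtain ⟨n, hn⟩ := hb U hU
    exact ⟨n + 1, n.succ_pos, fun x hx => hn
      (ideal_closure_mono (Ideal.pow_le_pow_right n.le_succ) (closure_pow_le I (n + 1) hx))⟩
  · refine Filter.HasCountableBasis.isCountablyGenerated
      (ι := ℕ) (p := fun _ => True) (s := fun n => closure ((I ^ n : Ideal A) : Set A))
      ⟨⟨fun U => ⟨fun hU => ?_, fun ⟨n, _, hn⟩ => ?_⟩⟩, Set.to_countable _⟩
    · obtain ⟨n, hn⟩ := hb U hU
      exact ⟨n, trivial, hn⟩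
    · exact mem_of_superset ((ho n).mem_nhds (subset_closure (I ^ n).zero_mem)) hn

end Groth.Agent.S10160
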