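import Groth.Statements.S10161
import Groth.Agent.LinTopLib.Completion

set_option autoImplicit false
universe u
open LinTop

namespace Groth.Agent.S10161

open Groth.Agent.LinTopLib Filter Topology

/-- The (separated) completion of a weakly pre-adic linearly topologized ring is weakly adic. -/
theorem result
    (A : Type u) [CommRing A] [UniformSpace A] [IsUniformAddGroup A] [IsTopologicalRing A] [IsLinearTopology A A] (hA : LinTop.IsWeaklyPreadic A) :
    LinTop.IsWeaklyAdic (UniformSpace.Completion A) := by
  haveI := isLinearTopology_completion (A := A)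
  obtain ⟨-, I, hI, hIb⟩ := hA
  refine ⟨⟨inferInstance, I.map (UniformSpace.Completion.coeRingHom : A →+* _), fun n => ?_,
    fun U hU => ?_⟩, inferInstance, inferInstance⟩
  · rw [← Ideal.map_pow]
    exact isOpen_closure_map_coe ((hI n).mem_nhds (subset_closure (Ideal.zero_mem _)))
  · obtain ⟨V, hV, hVU⟩ := exists_closure_coe_image_subset hU
    obtain ⟨n, hn⟩ := hIb V hV
    refine ⟨n, ?_⟩
    rw [← Ideal.map_pow, closure_map_coe]
    exact hVU _ (subset_closure.trans hn)

end Groth.Agent.S10161
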