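import Groth.Statements.S10162
import Groth.Agent.LinTopLib.Completion

set_option autoImplicit false
universe u
open LinTop

namespace Groth.Agent.S10162

open Groth.Agent.LinTopLib Filter Topology

/-- For a linearly topologized ring A, the canonical map from A to its (separated) completion is taut. -/
theorem result
    (A : Type u) [CommRing A] [UniformSpace A] [IsUniformAddGroup A] [IsTopologicalRing A] [IsLinearTopology A A] :
    LinTop.IsTaut (UniformSpace.Completion.coeRingHom : A →+* UniformSpace.Completion A) := by
  haveI := isLinearTopology_completion (A := A)
  exact (isTaut_iff _).2 ⟨UniformSpace.Completion.continuous_coe A, fun I hI =>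
    isOpen_closure_map_coe (Filter.mem_of_superset (mem_nhds_zero hI) subset_closure)⟩

end Groth.Agent.S10162
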