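import Groth.Statements.S10164
import Groth.Agent.LinTopLib.Series

set_option autoImplicit false
universe u
open LinTop

namespace Groth.Agent.S10164

open Groth.Agent.LinTopLib Filter Topology

/-- Let A be weakly adic and I an ideal of definition of A with I/I₂ finitely generated, where I₂
denotes the closure of I^2 (here: I maps onto a finitely generated ideal of A/I₂). Then A is adic,
and some finitely generated ideal of A is an ideal of definition. -/
theorem result
    (A : Type u) [CommRing A] [UniformSpace A] [IsUniformAddGroup A] [IsTopologicalRing A] (hA : LinTop.IsWeaklyAdic A)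
    (I : Ideal A) (hI : LinTop.IsIdealOfDefinition A I)
    (hfg : (I.map (Ideal.Quotient.mk ((I ^ 2).closure))).FG) :
    LinTop.IsAdicRing A ∧ ∃ J : Ideal A, LinTop.IsIdealOfDefinition A J ∧ J.FG := by
  obtain ⟨⟨hl, I', ho', hb'⟩, ht, hc⟩ := hA
  obtain ⟨T, hT⟩ := hfg
  choose lift hlift using fun y : A ⧸ (I ^ 2).closure =>
    Ideal.Quotient.mk_surjective (I := (I ^ 2).closure) y
  classical
  obtain ⟨T', hT'I, hT'⟩ : ∃ T' : Finset A, (∀ a ∈ T', a ∈ I ⊔ (I ^ 2).closure) ∧
      (Ideal.span (T' : Set A)).map (Ideal.Quotient.mk (I ^ 2).closure) =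
        I.map (Ideal.Quotient.mk (I ^ 2).closure) := by
    refine ⟨T.image lift, fun a ha => ?_, ?_⟩
    · obtain ⟨y, hy, rfl⟩ := Finset.mem_image.1 ha
      have hyI : y ∈ I.map (Ideal.Quotient.mk (I ^ 2).closure) := hT ▸ Ideal.subset_span hy
      rw [← hlift y, ← Ideal.mem_comap,
        Ideal.comap_map_of_surjective _ Ideal.Quotient.mk_surjective] at hyI
      simpa [← RingHom.ker_eq_comap_bot, Ideal.mk_ker] using hyI
    · rw [Ideal.map_span, ← hT, Finset.coe_image, ← Set.image_comp]
      simp [Function.comp_def, hlift]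
  have hle2 : (I ^ 2).closure ≤ I :=
    ideal_closure_le (Ideal.pow_le_self two_ne_zero) hI.1
  let I₀ := Ideal.span (T' : Set A)
  have hI₀ : I₀ ≤ I := Ideal.span_le.2 fun a ha => (sup_le le_rfl hle2) (hT'I a ha)
  have hkey : I ≤ I₀ ⊔ (I ^ 2).closure := by
    have h := (Ideal.le_comap_map (f := Ideal.Quotient.mk (I ^ 2).closure) (I := I))
    rw [← hT', Ideal.comap_map_of_surjective _ Ideal.Quotient.mk_surjective,
      ← RingHom.ker_eq_comap_bot, Ideal.mk_ker] at h
    exact h
  have hmul : ∀ (P Q : Ideal A), P * Q.closure ≤ (P * Q).closure := fun P Q =>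
    (Ideal.mul_mono_left (le_ideal_closure P)).trans (closure_mul_le P Q)
  have hstep : ∀ n, I ^ n ≤ I₀ ^ n ⊔ (I ^ (n + 1)).closure := by
    intro n
    induction n with
    | zero => simp
    | succ n ih =>
      calc I ^ (n + 1) = I ^ n * I := pow_succ _ _
        _ ≤ (I₀ ^ n ⊔ (I ^ (n + 1)).closure) * I := Ideal.mul_mono_left ih
        _ ≤ I₀ ^ (n + 1) ⊔ (I ^ (n + 1 + 1)).closure := by
          rw [Ideal.sup_mul]
          refine sup_le ((Ideal.mul_mono_right hkey).trans ?_) ?_
          · rw [Ideal.mul_sup, ← pow_succ]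
            refine sup_le le_sup_left (le_trans ?_ le_sup_right)
            refine (hmul _ _).trans (ideal_closure_mono ?_)
            refine (Ideal.mul_mono_left (Ideal.pow_right_mono hI₀ n)).trans ?_
            rw [← pow_add]
          · refine le_trans ?_ le_sup_right
            rw [mul_comm]
            refine (hmul _ _).trans (ideal_closure_mono ?_)
            rw [← pow_succ']
  have hclosed : ∀ n, (I ^ n).closure ≤ (I₀ ^ n).closure := by
    intro n
    refine fun x hx => closure_minimal (fun y hy => ?_) isClosed_closure hx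
    have hy' : ∀ k, I ^ n ≤ I₀ ^ n ⊔ (I ^ (n + k)).closure := by
      intro k
      induction k with
      | zero => exact le_sup_of_le_right (le_ideal_closure _)
      | succ k ih =>
        refine ih.trans (sup_le le_sup_left fun z hz => ?_)
        have hop : IsOpen ((I₀ ^ n ⊔ (I ^ (n + (k + 1))).closure : Ideal A) : Set A) := by
          refine isOpen_of_le le_sup_right ?_
          obtain ⟨m, hm⟩ := isTopologicallyNilpotent_iff (A := A) 0 |>.mp IsTopologicallyNilpotent.zero I hI.1
          obtain ⟨j, hj⟩ := hb' _ (mem_nhds_zero hI.1)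
          refine isOpen_of_le (I := (I' ^ (j * (n + (k + 1)))).closure) (ideal_closure_mono ?_) (ho' _)
          rw [pow_mul]
          exact Ideal.pow_right_mono (fun a ha => hj (subset_closure ha)) _
        refine closure_minimal ?_ (isClosed_of_isOpen hop) hz
        exact SetLike.coe_subset_coe.2 ((hstep (n + k)).trans
          (sup_le_sup (Ideal.pow_le_pow_right (Nat.le_add_right n k)) le_rfl))
    refine (mem_closure_ideal_iff _ y).2 fun W hW => ?_
    obtain ⟨m, _, hm⟩ := hI.2 _ (mem_nhds_zero hW)
    exact sup_le_sup le_rfl (ideal_closure_le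
      ((Ideal.pow_le_pow_right (Nat.le_add_left m n)).trans hm) hW) (hy' m hy)
  have hopen : ∀ n, IsOpen ((I ^ n).closure : Set A) := fun n => by
    obtain ⟨j, hj⟩ := hb' _ (mem_nhds_zero hI.1)
    refine isOpen_of_le (I := (I' ^ (j * n)).closure) (ideal_closure_mono ?_) (ho' _)
    rw [pow_mul]
    exact Ideal.pow_right_mono (fun a ha => hj (subset_closure ha)) _
  have hadic : IsAdic I₀ := isAdic_of_closure ⟨T', rfl⟩
    (fun n => isOpen_of_le (I := (I ^ n).closure) (J := (I₀ ^ n).closure) (hclosed n) (hopen n))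
    fun U hU => by
      obtain ⟨W, hW, hWU⟩ := exists_open_ideal hU
      obtain ⟨m, _, hm⟩ := hI.2 _ (mem_nhds_zero hW)
      exact ⟨m, fun x hx => hWU (ideal_closure_le ((Ideal.pow_right_mono hI₀ m).trans hm) hW hx)⟩
  exact ⟨⟨⟨I₀, hadic⟩, ht, hc⟩, I₀, isIdealOfDefinition_of_isAdic hadic, ⟨T', rfl⟩⟩

end Groth.Agent.S10164
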