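import Groth.Statements.S10165
import Groth.Agent.LinTopLib.Basic

set_option autoImplicit false
universe u v
open LinTop

namespace Groth.Agent.S10165

open Groth.Agent.LinTopLib Filter Topology

/-- Let φ : A → B be a taut homomorphism of linearly topologized rings. If A is weakly pre-adic, then B
is weakly pre-adic. -/
theorem result
    (A : Type u) [CommRing A] [TopologicalSpace A] [IsTopologicalRing A] [IsLinearTopology A A]
    (B : Type v) [CommRing B] [TopologicalSpace B] [IsTopologicalRing B] [IsLinearTopology B B]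
    (φ : A →+* B) (hφ : LinTop.IsTaut φ) (hA : LinTop.IsWeaklyPreadic A) :
    LinTop.IsWeaklyPreadic B := by
  obtain ⟨-, I, ho, hb⟩ := hA
  refine ⟨inferInstance, I.map φ, fun n => ?_, fun U hU => ?_⟩
  · rw [← Ideal.map_pow]
    refine isOpen_of_le (I := ((I ^ n).closure.map φ).closure) (J := ((I ^ n).map φ).closure)
      (fun x hx => ?_) (hφ.2.1 _ (ho n))
    refine closure_minimal ?_ isClosed_closure hx
    exact SetLike.coe_subset_coe.2 (show (I ^ n).closure.map φ ≤ ((I ^ n).map φ).closure from
      Ideal.map_le_iff_le_comap.2 fun a ha =>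
        map_mem_closure hφ.1 ha fun b hb => Ideal.mem_map_of_mem φ hb)
  · obtain ⟨L, hL, hLU⟩ := hφ.2.2 U hU
    obtain ⟨n, hn⟩ := hb _ (mem_nhds_zero hL)
    refine ⟨n, fun x hx => hLU ?_⟩
    rw [← Ideal.map_pow] at hx
    exact ideal_closure_mono (Ideal.map_mono fun a ha => hn (subset_closure ha)) hx

end Groth.Agent.S10165
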