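import Groth.Statements.S10166
import Groth.Agent.LinTopLib.Basic

set_option autoImplicit false
universe u v
open LinTop

namespace Groth.Agent.S10166

open Groth.Agent.LinTopLib Filter Topology

/-- Let φ : A → B be a taut homomorphism of linearly topologized rings such that for every open ideal I
of A, with J the closure of φ(I)B, the induced map A/I → B/J is faithfully flat. If B has a
countable fundamental system of open ideals, then so does A. -/
theorem result
    (A : Type u) [CommRing A] [TopologicalSpace A] [IsTopologicalRing A] [IsLinearTopology A A]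
    (B : Type v) [CommRing B] [TopologicalSpace B] [IsTopologicalRing B] [IsLinearTopology B B]
    (φ : A →+* B) (hφ : LinTop.IsTautFFlat φ) (hB : (nhds (0 : B)).IsCountablyGenerated) :
    (nhds (0 : A)).IsCountablyGenerated := by
  have := hB
  obtain ⟨b, hb⟩ := (𝓝 (0 : B)).exists_antitone_basis
  choose J hJ hJb using fun n => exists_open_ideal (hb.mem n)
  refine Filter.HasCountableBasis.isCountablyGenerated
    (ι := ℕ) (p := fun _ => True) (s := fun n => ((J n).comap φ : Set A))
    ⟨⟨fun U => ⟨fun hU => ?_, fun ⟨n, _, hn⟩ => ?_⟩⟩, Set.to_countable _⟩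
  · obtain ⟨I, hI, hIU⟩ := exists_open_ideal hU
    obtain ⟨n, hn⟩ := hb.mem_iff.1 (mem_nhds_zero (I := (I.map φ).closure) (hφ.1.2.1 I hI))
    refine ⟨n, trivial, fun x hx => hIU ?_⟩
    change x ∈ I
    rw [← comap_closure_map hφ hI]
    exact hn (hJb n hx)
  · exact mem_of_superset (((hJ n).preimage hφ.1.1).mem_nhds (by simp)) hn

end Groth.Agent.S10166
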