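import Groth.Statements.S10168
import Groth.Agent.LinTopLib.Basic

set_option autoImplicit false
universe u v
open LinTop

namespace Groth.Agent.S10168

open Groth.Agent.LinTopLib Filter Topology

/-- Let φ : A → B be a taut homomorphism of linearly topologized rings such that for every open ideal I
of A, with J the closure of φ(I)B, the induced map A/I → B/J is faithfully flat. If B is
pre-admissible, then A is pre-admissible. -/
theorem result
    (A : Type u) [CommRing A] [TopologicalSpace A] [IsTopologicalRing A] [IsLinearTopology A A]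
    (B : Type v) [CommRing B] [TopologicalSpace B] [IsTopologicalRing B] [IsLinearTopology B B]
    (φ : A →+* B) (hφ : LinTop.IsTautFFlat φ) (hB : LinTop.IsPreadmissible B) :
    LinTop.IsPreadmissible A := by
  obtain ⟨-, J, hJ⟩ := hB
  refine ⟨inferInstance, J.comap φ, hJ.1.preimage hφ.1.1, fun U hU => ?_⟩
  obtain ⟨W, hW, hWU⟩ := exists_open_ideal hU
  obtain ⟨n, hn, hsub⟩ := hJ.2 _ (mem_nhds_zero (I := (W.map φ).closure) (hφ.1.2.1 W hW))
  refine ⟨n, hn, fun x hx => hWU ?_⟩
  change x ∈ W
  rw [← comap_closure_map hφ hW]
  exact hsub (Ideal.le_comap_pow φ n hx)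

end Groth.Agent.S10168
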