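import Groth.Statements.S10169
import Groth.Agent.LinTopLib.Basic

set_option autoImplicit false
universe u v
open LinTop

namespace Groth.Agent.S10169

open Groth.Agent.LinTopLib Filter Topology

/-- Let φ : A → B be a taut homomorphism of linearly topologized rings such that for every open ideal I
of A the induced ring map A/I → B/J, where J denotes the closure of φ(I)B, is faithfully flat. Weak
pre-adicness then descends: when B is weakly pre-adic, A is as well. -/
theorem result
    (A : Type u) [CommRing A] [TopologicalSpace A] [IsTopologicalRing A] [IsLinearTopology A A]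
    (B : Type v) [CommRing B] [TopologicalSpace B] [IsTopologicalRing B] [IsLinearTopology B B]
    (φ : A →+* B) (hφ : LinTop.IsTautFFlat φ) (hB : LinTop.IsWeaklyPreadic B) :
    LinTop.IsWeaklyPreadic A := by
  obtain ⟨-, JB, hob, hbb⟩ := hB
  have hJ : LinTop.IsIdealOfDefinition B JB.closure := by
    refine ⟨by simpa using hob 1, fun U hU => ?_⟩
    obtain ⟨n, hn⟩ := hbb U hU
    exact ⟨n + 1, n.succ_pos, fun x hx => hn
      (ideal_closure_mono (Ideal.pow_le_pow_right n.le_succ) (closure_pow_le JB (n + 1) hx))⟩
  let I := JB.closure.comap φ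
  have hIo : IsOpen (I : Set A) := hJ.1.preimage hφ.1.1
  refine ⟨inferInstance, I, fun n => ?_, fun U hU => ?_⟩
  · obtain ⟨m, _, hm⟩ := hJ.2 _ (mem_nhds_zero (I := (I.map φ).closure) (hφ.1.2.1 I hIo))
    have hle : (JB.closure ^ (m * n)).closure ≤ ((I ^ n).map φ).closure := by
      intro x hx
      refine closure_minimal (SetLike.coe_subset_coe.2 ?_) isClosed_closure hx
      rw [pow_mul, Ideal.map_pow]
      exact (Ideal.pow_right_mono hm n).trans (closure_pow_le _ n)
    exact isOpen_of_le (I := (JB.closure ^ (m * n)).closure.comap φ) (J := (I ^ n).closure)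
      (comap_le_closure hφ (I ^ n) hle)
      ((isOpen_of_le (I := (JB ^ (m * n)).closure) (J := (JB.closure ^ (m * n)).closure)
        (ideal_closure_mono (Ideal.pow_right_mono (le_ideal_closure _) _)) (hob _)).preimage hφ.1.1)
  · obtain ⟨W, hW, hWU⟩ := exists_open_ideal hU
    obtain ⟨n, _, hsub⟩ := hJ.2 _ (mem_nhds_zero (I := (W.map φ).closure) (hφ.1.2.1 W hW))
    refine ⟨n, fun x hx => hWU (ideal_closure_le ?_ hW hx)⟩
    exact (Ideal.le_comap_pow φ n).trans ((Ideal.comap_mono hsub).trans (comap_closure_map hφ hW).le)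

end Groth.Agent.S10169
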