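import Groth.Statements.S10170
import Groth.Agent.LinTopLib.Series
import Mathlib.RingTheory.Nakayama

set_option autoImplicit false
universe u v
open LinTop

namespace Groth.Agent.S10170

open Groth.Agent.LinTopLib Filter Topology

/-- Let φ : A → B be a taut homomorphism of linearly topologized rings such that for every open ideal I
of A the induced ring map A/I → B/J, where J denotes the closure of φ(I)B, is faithfully flat.
Suppose A is Hausdorff and complete, and B is adic with some finitely generated ideal of definition.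
Then A is adic, and some finitely generated ideal of A is an ideal of definition. -/
theorem result
    (A : Type u) [CommRing A] [UniformSpace A] [IsUniformAddGroup A] [IsTopologicalRing A] [IsLinearTopology A A] [T2Space A] [CompleteSpace A]
    (B : Type v) [CommRing B] [UniformSpace B] [IsUniformAddGroup B] [IsTopologicalRing B] (hB : LinTop.IsAdicRing B)
    (hJ : ∃ J : Ideal B, LinTop.IsIdealOfDefinition B J ∧ J.FG)
    (φ : A →+* B) (hφ : LinTop.IsTautFFlat φ) :
    LinTop.IsAdicRing A ∧ ∃ I : Ideal A, LinTop.IsIdealOfDefinition A I ∧ I.FG := by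
  obtain ⟨hBp, htB, hcB⟩ := hB
  have := isLinearTopology_of_isPreadic hBp
  obtain ⟨J, hJ, hJfg⟩ := hJ
  have hJadic : IsAdic J := by
    obtain ⟨J', hJ'⟩ := hBp
    obtain ⟨m, _, hm⟩ := (isIdealOfDefinition_of_isAdic hJ').2 _ (mem_nhds_zero hJ.1)
    refine isAdic_iff.2 ⟨fun n => isOpen_of_le ?_ ((isAdic_iff.1 hJ').1 (m * n)), fun s hs => ?_⟩
    · rw [pow_mul]
      exact Ideal.pow_right_mono hm n
    · obtain ⟨n, _, hn⟩ := hJ.2 s hs
      exact ⟨n, hn⟩
  have hJo := (isAdic_iff.1 hJadic).1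
  let I := J.comap φ
  have hIo : IsOpen (I : Set A) := hJ.1.preimage hφ.1.1
  have hIJ : (I.map φ).closure ≤ J := ideal_closure_le Ideal.map_comap_le hJ.1
  obtain ⟨m, _, hm⟩ := hJ.2 _ (mem_nhds_zero (I := (I.map φ).closure) (hφ.1.2.1 I hIo))
  obtain ⟨S, hS⟩ := Submodule.FG.pow hJfg m
  classical
  have hfin : ∀ b ∈ J ^ m, ∃ F : Finset A, (F : Set A) ⊆ I ∧
      b ∈ (Ideal.span (F : Set A)).map φ ⊔ J ^ (m + 1) := by
    intro b hb
    obtain ⟨y, hy, z, hz, rfl⟩ := Submodule.mem_sup.1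
      ((mem_closure_ideal_iff _ b).1 (hm hb) _ (hJo (m + 1)))
    obtain ⟨F, hF, hyF⟩ : ∃ F : Finset B, (F : Set B) ⊆ φ '' I ∧ y ∈ Ideal.span (F : Set B) :=
      Submodule.mem_span_finite_of_mem_span (hy : y ∈ Ideal.span (φ '' I))
    obtain ⟨F', hF', rfl⟩ := Finset.subset_set_image_iff.1 hF
    refine ⟨F', hF', Submodule.add_mem _ (Ideal.mem_sup_left ?_) (Ideal.mem_sup_right hz)⟩
    rw [Ideal.map_span]
    rwa [Finset.coe_image] at hyF
  choose! F hF hbF using hfin
  let I₀ := Ideal.span ((S.biUnion F : Finset A) : Set A)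
  have hI₀ : I₀ ≤ I := Ideal.span_le.2 fun a ha => by
    obtain ⟨b, hb, hab⟩ := Finset.mem_biUnion.1 ha
    exact hF b (hS ▸ Ideal.subset_span hb) hab
  have hkey : J ^ m ≤ I₀.map φ ⊔ J • J ^ m := by
    refine hS.ge.trans (Submodule.span_le.2 fun b hb => ?_)
    rw [SetLike.mem_coe, smul_eq_mul, ← pow_succ']
    have h1 : (Ideal.span (F b : Set A)).map φ ≤ I₀.map φ :=
      Ideal.map_mono (Ideal.span_mono fun a ha => Finset.mem_biUnion.2 ⟨b, hb, ha⟩)
    exact SetLike.le_def.1 (sup_le_sup_right h1 _) (hbF b (hS ▸ Ideal.subset_span hb))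
  have hJm : J ^ m ≤ I₀.map φ := Submodule.le_of_le_smul_of_le_jacobson_bot (Submodule.FG.pow hJfg m)
    (le_jacobson_of_topNilp (isWeakIdealOfDefinition_of_isIdealOfDefinition hJ).2) hkey
  have hfg₀ : I₀.FG := ⟨_, rfl⟩
  have hadic : IsAdic I₀ := by
    refine isAdic_of_closure hfg₀ (fun n => ?_) fun U hU => ?_
    · refine isOpen_of_le (I := (J ^ (m * n)).comap φ) (J := (I₀ ^ n).closure)
        (comap_le_closure hφ _ ?_) ((hJo _).preimage hφ.1.1)
      rw [pow_mul, Ideal.map_pow]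
      exact (Ideal.pow_right_mono hJm n).trans (le_ideal_closure _)
    · obtain ⟨W, hW, hWU⟩ := exists_open_ideal hU
      obtain ⟨n, _, hsub⟩ := hJ.2 _ (mem_nhds_zero (I := (W.map φ).closure) (hφ.1.2.1 W hW))
      refine ⟨n, fun x hx => hWU (ideal_closure_le ?_ hW hx)⟩
      exact (Ideal.pow_right_mono hI₀ n).trans ((Ideal.le_comap_pow φ n).trans
        ((Ideal.comap_mono hsub).trans (comap_closure_map hφ hW).le))
  exact ⟨⟨⟨I₀, hadic⟩, ‹_›, ‹_›⟩, I₀, isIdealOfDefinition_of_isAdic hadic, hfg₀⟩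

end Groth.Agent.S10170
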