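import Groth.Statements.S10171
import Groth.Agent.LinTopLib.Group

set_option autoImplicit false
universe u v
open LinTop

namespace Groth.Agent.S10171

open Groth.Agent.LinTopLib Filter Topology

/-- Let M be a linearly topologized module over a ring R and N a submodule. Write M^ for the separated
completion of M and (M/N)^ for that of M/N (quotient topology, additive uniform structure). Then the
kernel of the induced map M^ → (M/N)^ is the closure of the image of N in M^; that closure is the
completion of N, so this is the exactness of 0 → N^ → M^ → (M/N)^ at M^. -/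
theorem result
    {R : Type u} [Ring R] {M : Type v} [AddCommGroup M] [Module R M] [UniformSpace M]
    [IsUniformAddGroup M] [IsLinearTopology R M] (N : Submodule R M) :
    (@UniformSpace.Completion.map M _ (M ⧸ N.toAddSubgroup)
        (IsTopologicalAddGroup.rightUniformSpace (M ⧸ N.toAddSubgroup))
        (QuotientAddGroup.mk' N.toAddSubgroup)) ⁻¹' {0} =
      closure (Set.range (fun n : N => ((n : M) : UniformSpace.Completion M))) := by
  haveI := nonarchimedean_of_linear (R := R) (M := M)
  letI : UniformSpace (M ⧸ N.toAddSubgroup) := IsTopologicalAddGroup.rightUniformSpace _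
  haveI : IsUniformAddGroup (M ⧸ N.toAddSubgroup) := isUniformAddGroup_of_addCommGroup
  refine (completion_ker (QuotientAddGroup.mk' N.toAddSubgroup) continuous_quotient_mk'
    QuotientAddGroup.isOpenMap_coe).trans ?_
  congr 1
  ext y
  constructor
  · rintro ⟨m, hm, rfl⟩
    exact ⟨⟨m, (QuotientAddGroup.eq_zero_iff m).1 hm⟩, rfl⟩
  · rintro ⟨n, rfl⟩
    exact ⟨n, (QuotientAddGroup.eq_zero_iff (n : M)).2 n.2, rfl⟩

end Groth.Agent.S10171
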