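import Groth.Statements.S10173
import Groth.Agent.LinTopLib.AdicModule

set_option autoImplicit false
universe u v
open LinTop

namespace Groth.Agent.S10173

open Groth.Agent.LinTopLib Filter Topology

/-- Let R be a commutative ring, I a finitely generated ideal and M a topological R-module (additive
uniform structure, each scalar acting uniformly continuously) having an open submodule M' whose
topology is the I-adic one, i.e. the I^n M' are open in M and form a fundamental system of
neighbourhoods of 0. Then the separated completion M^ has an open submodule whose topology is I-adic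
in the same sense, and for every n ≥ 1 the map M → M^/I^n M^ is surjective with kernel I^n M,
identifying M^/I^n M^ with M/I^n M. -/
theorem result
    {R : Type u} [CommRing R] (I : Ideal R) (hI : I.FG)
    {M : Type v} [AddCommGroup M] [Module R M] [UniformSpace M] [IsUniformAddGroup M]
    [UniformContinuousConstSMul R M]
    (M' : Submodule R M) (hopen : ∀ n : ℕ, IsOpen ((I ^ n • M' : Submodule R M) : Set M))
    (hbasis : ∀ U ∈ nhds (0 : M), ∃ n : ℕ, ((I ^ n • M' : Submodule R M) : Set M) ⊆ U) :
    (∃ M'' : Submodule R (UniformSpace.Completion M),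
        (∀ n : ℕ, IsOpen ((I ^ n • M'' : Submodule R (UniformSpace.Completion M)) :
          Set (UniformSpace.Completion M))) ∧
        ∀ U ∈ nhds (0 : UniformSpace.Completion M), ∃ n : ℕ,
          ((I ^ n • M'' : Submodule R (UniformSpace.Completion M)) :
            Set (UniformSpace.Completion M)) ⊆ U) ∧
      ∀ n : ℕ, 0 < n →
        Function.Surjective ((QuotientAddGroup.mk' (I ^ n • ⊤ : Submodule R (UniformSpace.Completion M)).toAddSubgroup).comp
          (UniformSpace.Completion.toCompl : M →+ UniformSpace.Completion M)) ∧
        ((QuotientAddGroup.mk' (I ^ n • ⊤ : Submodule R (UniformSpace.Completion M)).toAddSubgroup).comp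
          (UniformSpace.Completion.toCompl : M →+ UniformSpace.Completion M)).ker = (I ^ n • ⊤ : Submodule R M).toAddSubgroup := by
  refine ⟨⟨closureCoe M', fun n => ?_, fun U hU => ?_⟩, fun n _ => ⟨?_, ?_⟩⟩
  · rw [pow_smul_closureCoe hopen hbasis hI n]
    exact isOpen_closureCoe (hopen n)
  · obtain ⟨W, hW, hWc, hWU⟩ := exists_mem_nhds_isClosed_subset hU
    obtain ⟨n, hn⟩ := hbasis _ ((UniformSpace.Completion.continuous_coe M).continuousAt.preimage_mem_nhds
      (x := (0 : M)) (t := W) (by rwa [UniformSpace.Completion.coe_zero]))
    refine ⟨n, ?_⟩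
    rw [pow_smul_closureCoe hopen hbasis hI n]
    exact (closure_minimal (Set.image_subset_iff.2 hn) hWc).trans hWU
  · intro q
    obtain ⟨y, rfl⟩ := QuotientAddGroup.mk'_surjective _ q
    obtain ⟨m, hm⟩ := exists_sub_mem_closureCoe (hopen n) y
    rw [← pow_smul_closureCoe hopen hbasis hI n] at hm
    refine ⟨m, ?_⟩
    change QuotientAddGroup.mk (m : UniformSpace.Completion M) = QuotientAddGroup.mk y
    refine QuotientAddGroup.eq.2 ?_
    rw [neg_add_eq_sub]
    exact Submodule.smul_mono le_rfl le_top hm
  · have hkey : ∀ y ∈ (I ^ n • ⊤ : Submodule R (UniformSpace.Completion M)),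
        ∃ v ∈ (I ^ n • ⊤ : Submodule R M), y - (v : UniformSpace.Completion M) ∈ closureCoe (I ^ n • M') := by
      intro y hy
      refine Submodule.smul_induction_on hy (fun a ha z _ => ?_) (fun y z hy hz => ?_)
      · obtain ⟨u, hu⟩ := exists_sub_mem_closureCoe (hopen n) z
        refine ⟨a • u, Submodule.smul_mem_smul ha trivial, ?_⟩
        rw [UniformSpace.Completion.coe_smul, ← smul_sub]
        exact Submodule.smul_mem _ a hu
      · obtain ⟨v, hv, hv'⟩ := hy
        obtain ⟨w, hw, hw'⟩ := hz
        refine ⟨v + w, add_mem hv hw, ?_⟩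
        rw [UniformSpace.Completion.coe_add, add_sub_add_comm]
        exact add_mem hv' hw'
    ext m
    rw [AddMonoidHom.mem_ker]
    change QuotientAddGroup.mk (m : UniformSpace.Completion M) = 0 ↔ m ∈ (I ^ n • ⊤ : Submodule R M)
    rw [QuotientAddGroup.eq_zero_iff, Submodule.mem_toAddSubgroup]
    refine ⟨fun h => ?_, fun h => ?_⟩
    · obtain ⟨v, hv, hv'⟩ := hkey _ h
      rw [← UniformSpace.Completion.coe_sub] at hv'
      simpa using add_mem (Submodule.smul_mono le_rfl le_top (mem_of_coe_mem_closureCoe (hopen n) hv')) hv
    · refine Submodule.smul_induction_on h (fun a ha z _ => ?_) (fun y z hy hz => ?_)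
      · rw [UniformSpace.Completion.coe_smul]
        exact Submodule.smul_mem_smul ha trivial
      · rw [UniformSpace.Completion.coe_add]
        exact add_mem hy hz

end Groth.Agent.S10173
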