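import Groth.Statements.S10182
import Groth.Agent.AlgSpB.Diag

set_option autoImplicit false
set_option backward.isDefEq.respectTransparency false
universe u
open CategoryTheory CategoryTheory.Limits AlgebraicGeometry Topology TopologicalSpace
open AlgSp

namespace Groth.Agent.S10182

/-- Let X be an algebraic space over a scheme S, U a scheme over S whose underlying scheme is
quasi-separated, p : h_U ⟶ X representable etale and surjective, and R a scheme over S with h_R =
h_U ×_X h_U. If one of the two projections R ⟶ U is quasi-compact, then X is quasi-separated over S.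
(The published statement concludes absolute quasi-separatedness, i.e. over the integers; this row
concludes quasi-separatedness of the diagonal over S, which the same argument gives and which the
absolute notion implies.) -/
theorem result {S : Scheme.{u}} (X : AlgSp.Space S) {R U : Over S}
    (p : (AlgSp.yon S).obj U ⟶ X.obj) (hp : AlgSp.RepWith @Etale p) (hs : AlgSp.RepWith @Surjective p)
    [QuasiSeparatedSpace ↥U.left] (s t : R ⟶ U)
    (hR : IsPullback ((AlgSp.yon S).map t) ((AlgSp.yon S).map s) p p) [QuasiCompact t.left] :
    AlgSp.IsQuasiSeparatedSp X.obj := by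
  refine Groth.Agent.AlgSpB.repWith_diag X fun V W a b fst snd _ h => ?_
  obtain ⟨Ta, ua, qa, ha⟩ := Groth.Agent.AlgSpB.exists_pullback_yon hp.1 a
  obtain ⟨Tb, ub, qb, hb⟩ := Groth.Agent.AlgSpB.exists_pullback_yon hp.1 b
  obtain ⟨W', f', g', h'⟩ := Groth.Agent.AlgSpB.exists_pullback_yon
    (X.property.representable_from_yon ((AlgSp.yon S).map qa ≫ a)) ((AlgSp.yon S).map qb ≫ b)
  have h'' := h'
  rw [← ha.w, ← hb.w] at h''
  obtain ⟨q, hq⟩ := Groth.Agent.AlgSpB.isPullback_pairHom h qa qb h'
  obtain ⟨r, hr⟩ := Groth.Agent.AlgSpB.isPullback_pairHom hR ua ub h''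
  have : QuasiCompact (Groth.Agent.AlgSpB.pairHom t s) := by
    have : QuasiCompact (Groth.Agent.AlgSpB.pairHom t s ≫ pullback.fst U.hom U.hom) := by
      rw [pullback.lift_fst]; infer_instance
    exact QuasiCompact.of_comp _ (pullback.fst U.hom U.hom)
  have : QuasiCompact (Groth.Agent.AlgSpB.pairHom f' g') :=
    MorphismProperty.of_isPullback (P := @QuasiCompact) hr inferInstance
  have : Surjective qa.left := hs.2 _ _ _ ha
  have : Surjective qb.left := hs.2 _ _ _ hb
  have : Etale qa.left := hp.2 _ _ _ ha
  have : Etale qb.left := hp.2 _ _ _ hb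
  have hs' : Surjective (pullback.map Ta.hom Tb.hom V.hom V.hom qa.left qb.left (𝟙 S)
      (by simp) (by simp)) :=
    MorphismProperty.pullbackMap (P := @Surjective) ‹_› ‹_› (by simp) (by simp)
  have he : Etale (pullback.map Ta.hom Tb.hom V.hom V.hom qa.left qb.left (𝟙 S)
      (by simp) (by simp)) :=
    MorphismProperty.pullbackMap (P := @Etale) ‹_› ‹_› (by simp) (by simp)
  exact Groth.Agent.AlgSpB.quasiCompact_of_isPullback hq (Scheme.Hom.isOpenMap _)

end Groth.Agent.S10182
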