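import Groth.Statements.S10183
import Groth.Agent.AlgSpB.Charts

set_option autoImplicit false
universe u
open CategoryTheory CategoryTheory.Limits AlgebraicGeometry Topology TopologicalSpace
open AlgSp

namespace Groth.Agent.S10183

/-- Let X be an algebraic space over a scheme S, a : h_U ⟶ X a representable etale map from a scheme U
over S, and R a scheme over S with h_R = h_U ×_X h_U whose two projections s, t : R ⟶ U are
quasi-compact (for instance if a is quasi-compact). Then the maps |U| → |X| and |R| → |X| have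
finite fibres. -/
theorem result {S : Scheme.{u}} (X : AlgSp.Space S) {R U : Over S}
    (a : (AlgSp.yon S).obj U ⟶ X.obj) (ha : AlgSp.RepWith @Etale a) (s t : R ⟶ U)
    (hR : IsPullback ((AlgSp.yon S).map t) ((AlgSp.yon S).map s) a a)
    [QuasiCompact s.left] [QuasiCompact t.left] (x : AlgSp.Points X.obj) :
    (AlgSp.Points.ofPt a ⁻¹' {x}).Finite ∧
      (AlgSp.Points.ofPt ((AlgSp.yon S).map t ≫ a) ⁻¹' {x}).Finite := by
  have h1 : (AlgSp.Points.ofPt a ⁻¹' {x}).Finite := by
    rcases (AlgSp.Points.ofPt a ⁻¹' {x}).eq_empty_or_nonempty with e | ⟨u₀, hu₀⟩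
    · rw [e]; exact Set.finite_empty
    · have : Etale s.left := ha.2 _ _ _ hR
      have := Groth.Agent.AlgSpB.locallyQuasiFinite_of_etale s.left
      refine ((s.left.finite_preimage_singleton u₀).image t.left).subset fun u hu => ?_
      obtain ⟨r, hr1, hr2⟩ :=
        (Groth.Agent.AlgSpB.ofPt_eq_ofPt_iff hR u u₀).1 (hu.trans hu₀.symm)
      exact ⟨r, hr2, hr1⟩
  refine ⟨h1, ?_⟩
  have : Etale t.left := ha.2 _ _ _ hR.flip
  have := Groth.Agent.AlgSpB.locallyQuasiFinite_of_etale t.left
  refine (t.left.finite_preimage h1).subset fun r hr => ?_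
  rw [Set.mem_preimage, Groth.Agent.AlgSpB.ofPt_map_comp] at hr
  exact hr

end Groth.Agent.S10183
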