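import Groth.Statements.S10188
import Groth.Agent.AlgSpB.Charts

set_option autoImplicit false
set_option backward.isDefEq.respectTransparency false
universe u
open CategoryTheory CategoryTheory.Limits AlgebraicGeometry Topology TopologicalSpace
open AlgSp

namespace Groth.Agent.S10188

/-- Let P be a property of schemes that is local in the etale topology (for every scheme V and every
etale covering family of V, V has P if and only if all members have P), and let X be an algebraic
space over a scheme S. Then X has P etale locally (some surjective etale chart from a scheme with P)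
if and only if every scheme admitting a representable etale map to X has P. -/
theorem result {S : Scheme.{u}} (P : Scheme.{u} → Prop)
    (hP : ∀ (V : Scheme.{u}) (𝒰 : Scheme.Cover.{u} (Scheme.precoverage @Etale) V), P V ↔ ∀ i, P (𝒰.X i))
    (X : AlgSp.Space S) :
    AlgSp.EtaleLocally P X.obj ↔
      ∀ (U : Over S) (a : (AlgSp.yon S).obj U ⟶ X.obj), AlgSp.RepWith @Etale a → P U.left := by
  constructor
  · rintro ⟨U₀, p, hp, hs, hP₀⟩ U a ha
    obtain ⟨W, f₁, f₂, h⟩ := Groth.Agent.AlgSpB.exists_pullback_yon hp.1 a
    have he₂ : Etale f₂.left := hp.2 _ _ _ h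
    have he₁ : Etale f₁.left := ha.2 _ _ _ h.flip
    have hs₂ : Surjective f₂.left := hs.2 _ _ _ h
    let 𝒰 : Scheme.Cover.{u} (Scheme.precoverage @Etale) U₀.left :=
      { I₀ := ULift.{u} Bool
        X := fun i => cond i.down W.left U₀.left
        f := fun i => match i with | ⟨true⟩ => f₁.left | ⟨false⟩ => 𝟙 _
        mem₀ := by
          rw [Scheme.presieve₀_mem_precoverage_iff]
          refine ⟨fun x => ⟨⟨false⟩, x, rfl⟩, fun i => ?_⟩
          rcases i with ⟨_ | _⟩
          · exact MorphismProperty.id_mem _ _
          · exact he₁ }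
    have hW : P W.left := (hP _ 𝒰).1 hP₀ ⟨true⟩
    let 𝒱 : Scheme.Cover.{u} (Scheme.precoverage @Etale) U.left :=
      { I₀ := PUnit
        X := fun _ => W.left
        f := fun _ => f₂.left
        mem₀ := by
          rw [Scheme.presieve₀_mem_precoverage_iff]
          exact ⟨fun x => ⟨⟨⟩, f₂.left.surjective x⟩, fun _ => he₂⟩ }
    exact (hP _ 𝒱).2 fun _ => hW
  · intro h
    obtain ⟨U, p, hp, hs⟩ := X.property.atlas
    exact ⟨U, p, hp, hs, h U p hp⟩

end Groth.Agent.S10188
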