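import Groth.Statements.S10191
import Groth.Agent.AlgSpB.Open

set_option autoImplicit false
set_option backward.isDefEq.respectTransparency false
universe u
open CategoryTheory CategoryTheory.Limits AlgebraicGeometry Topology TopologicalSpace
open AlgSp

namespace Groth.Agent.S10191

/-- Let i : Z ⟶ X be an immersion of algebraic spaces over a scheme S (a morphism representable by
immersions of schemes). Then |i| : |Z| → |X| is a homeomorphism onto its image, and this image is a
locally closed subset of |X|. -/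
theorem result {S : Scheme.{u}} {Z X : AlgSp.Space S} (i : Z ⟶ X)
    (hi : AlgSp.RepWith @IsImmersion i.hom) :
    IsEmbedding (AlgSp.Points.map i.hom) ∧ IsLocallyClosed (Set.range (AlgSp.Points.map i.hom)) := by
  have := Groth.Agent.AlgSpB.mono_of_isImmersion hi
  obtain ⟨U, p, hp, hs⟩ := X.property.atlas
  obtain ⟨W, snd, fst, sq⟩ := hi.1 p
  have : IsImmersion snd.left := hi.2 _ _ _ sq
  have hq := Groth.Agent.AlgSpB.isOpenQuotientMap_ofPt hp hs
  refine ⟨⟨?_, Groth.Agent.AlgSpB.injective_map_of_mono i.hom⟩, ?_⟩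
  · rw [isInducing_iff_nhds]
    intro z
    refine le_antisymm (((AlgSp.Points.continuous_map i.hom).tendsto z).le_comap) ?_
    intro V' hV'
    obtain ⟨V, hVV', hV, hzV⟩ := mem_nhds_iff.1 hV'
    obtain ⟨O, hO, hOV⟩ := snd.left.isEmbedding.isInducing.isOpen_iff.1
      (hV.preimage (AlgSp.Points.continuous_ofPt fst))
    have key : ∀ z' u, AlgSp.Points.map i.hom z' = AlgSp.Points.ofPt p u →
        ∃ w, snd.left w = u ∧ AlgSp.Points.ofPt fst w = z' := by
      intro z' u e
      rw [AlgSp.Points.ofPt_eq_map_ofScheme] at e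
      obtain ⟨q, hq1, hq2⟩ := Groth.Agent.AlgSpB.exists_of_isPullback sq z' _ e
      refine ⟨AlgSp.Points.toScheme W q, ?_, ?_⟩
      · rw [← AlgSp.Points.toScheme_ofPt, AlgSp.Points.ofPt_eq_map_ofScheme,
          AlgSp.Points.ofScheme_toScheme, hq2, AlgSp.Points.toScheme_ofScheme]
      · rw [AlgSp.Points.ofPt_eq_map_ofScheme, AlgSp.Points.ofScheme_toScheme, hq1]
    obtain ⟨u, hu⟩ := hq.surjective (AlgSp.Points.map i.hom z)
    obtain ⟨w, rfl, hw⟩ := key z u hu.symm
    refine ⟨AlgSp.Points.ofPt p '' O, (hq.isOpenMap _ hO).mem_nhds ⟨snd.left w, ?_, hu⟩, ?_⟩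
    · have : w ∈ AlgSp.Points.ofPt fst ⁻¹' V := by rw [Set.mem_preimage, hw]; exact hzV
      rw [← hOV] at this
      exact this
    · rintro z' ⟨u', hu', e'⟩
      obtain ⟨w', rfl, hw'⟩ := key z' u' e'.symm
      apply hVV'
      have : w' ∈ snd.left ⁻¹' O := hu'
      rw [hOV, Set.mem_preimage, hw'] at this
      exact this
  · have h : IsLocallyClosed (AlgSp.Points.ofPt p ⁻¹' Set.range (AlgSp.Points.map i.hom)) := by
      rw [← Groth.Agent.AlgSpB.range_snd_eq sq]
      exact snd.left.isLocallyClosed_range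
    rw [isLocallyClosed_iff_isOpen_coborder] at h ⊢
    rw [← hq.isQuotientMap.isOpen_preimage, coborder, Set.preimage_compl, Set.preimage_sdiff,
      hq.isOpenMap.preimage_closure_eq_closure_preimage hq.continuous]
    exact h

end Groth.Agent.S10191
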