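import Groth.Statements.S10194
import Groth.Agent.AlgSpB.Open

set_option autoImplicit false
set_option backward.isDefEq.respectTransparency false
universe u
open CategoryTheory CategoryTheory.Limits AlgebraicGeometry Topology TopologicalSpace
open AlgSp

namespace Groth.Agent.S10194

/-- Let X, Y be algebraic spaces over a scheme S and j : X' ⟶ X an open subspace (a morphism
representable by open immersions). Then a morphism f : Y ⟶ X factors through X' if and only if
|f|(|Y|) is contained in |X'|. -/
theorem result {S : Scheme.{u}} {X X' Y : AlgSp.Space S}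
    (j : X' ⟶ X) (hj : AlgSp.RepWith @IsOpenImmersion j.hom) (f : Y ⟶ X) :
    (∃ g : Y ⟶ X', g ≫ j = f) ↔
      Set.range (AlgSp.Points.map f.hom) ⊆ Set.range (AlgSp.Points.map j.hom) := by
  rw [← Groth.Agent.AlgSpB.exists_factor_isOpenImmersion_iff hj f.hom]
  exact ⟨fun ⟨g, hg⟩ => ⟨g.hom, by rw [← hg]; rfl⟩,
    fun ⟨g, hg⟩ => ⟨ObjectProperty.homMk g, ObjectProperty.hom_ext _ hg⟩⟩

end Groth.Agent.S10194
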