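import Groth.Statements.S10203
import Groth.Agent.AlgSpB.Charts

set_option autoImplicit false
set_option backward.isDefEq.respectTransparency false
universe u
open CategoryTheory CategoryTheory.Limits AlgebraicGeometry Topology TopologicalSpace
open AlgSp

namespace Groth.Agent.S10203

/-- If X is a quasi-compact, locally Noetherian algebraic space over a scheme S, then |X| is a
Noetherian topological space. -/
theorem result {S : Scheme.{u}} (X : AlgSp.Space S)
    (hqc : AlgSp.IsQuasiCompactSp X.obj) (hX : AlgSp.IsLocNoethSp X.obj) :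
    NoetherianSpace (AlgSp.Points X.obj) := by
  have := Groth.Agent.AlgSpB.compactSpace_points_of_isQuasiCompactSp hqc
  obtain ⟨U, p, hp, hs, hU⟩ := hX
  let W : U.left.affineOpens → Set (AlgSp.Points X.obj) :=
    fun V => AlgSp.Points.ofPt p '' (V.1 : Set ↥U.left)
  have hWc : (Set.univ : Set (AlgSp.Points X.obj)) ⊆ ⋃ V, W V := by
    intro x _
    obtain ⟨u, rfl⟩ := Groth.Agent.AlgSpB.surjective_ofPt hs x
    obtain ⟨V, hV, hu, -⟩ := exists_isAffineOpen_mem_and_subset (x := u) (U := ⊤) trivial
    exact Set.mem_iUnion.2 ⟨⟨V, hV⟩, u, hu, rfl⟩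
  obtain ⟨t, ht⟩ := isCompact_univ.elim_finite_subcover W
    (fun V => Groth.Agent.AlgSpB.isOpenMap_ofPt hp _ V.1.isOpen) hWc
  have hN : ∀ i : t, NoetherianSpace (W i.1) := by
    intro i
    have := IsLocallyNoetherian.component_noetherian i.1
    have : NoetherianSpace ↥(i.1.1 : Set ↥U.left) := noetherianSpace_of_isAffineOpen i.1.1 i.1.2
    have := NoetherianSpace.range (α := ↥(i.1.1 : Set ↥U.left))
      (fun v => AlgSp.Points.ofPt p v.1)
      ((AlgSp.Points.continuous_ofPt p).comp continuous_subtype_val)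
    change NoetherianSpace ↥(AlgSp.Points.ofPt p '' _)
    rwa [Set.image_eq_range]
  have := NoetherianSpace.iUnion (fun i : t => W i.1)
  rw [← noetherian_univ_iff]
  have e : (⋃ i : t, W i.1) = Set.univ := by
    refine Set.eq_univ_of_forall fun x => ?_
    obtain ⟨i, hi⟩ := Set.mem_iUnion.1 (ht (Set.mem_univ x))
    obtain ⟨hit, hx⟩ := Set.mem_iUnion.1 hi
    exact Set.mem_iUnion.2 ⟨⟨i, hit⟩, hx⟩
  rw [← e]
  infer_instance

end Groth.Agent.S10203
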