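import Groth.Statements.S10210
import Groth.Agent.AlgSpCov.Listed
import Groth.Prelude.Def_AlgSpEt

set_option autoImplicit false
set_option backward.isDefEq.respectTransparency false
universe u
open CategoryTheory CategoryTheory.Limits AlgebraicGeometry Topology TopologicalSpace
open AlgSp

namespace Groth.Agent.S10210

/-- Let X, Y, Z be algebraic spaces over a scheme S, g : X ⟶ Z and h : Y ⟶ Z etale morphisms and f : X ⟶
Y a morphism with f ≫ h = g. Then f is etale. -/
theorem result {S : Scheme.{u}} {X Y Z : AlgSp.Space S} (f : X ⟶ Y) (h : Y ⟶ Z) (g : X ⟶ Z)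
    (w : f ≫ h = g) (hg : AlgSp.IsEtaleMor g.hom) (hh : AlgSp.IsEtaleMor h.hom) :
    AlgSp.IsEtaleMor f.hom := by
  rw [Groth.Agent.AlgSpCov.isEtaleMor_iff_locP_etale X.property Y.property]
  intro U V a b m ha hb hw
  have hg' : AlgSp.RepWith @Etale (a ≫ g.hom) := hg a ha
  have hb' : AlgSp.RepWith @Etale (b ≫ h.hom) := hh b hb
  have e : (AlgSp.yon S).map m ≫ b ≫ h.hom = a ≫ g.hom := by
    rw [← reassoc_of% hw, ← w]
    rfl
  exact AlgSp.EtOver.etale_left
    (AlgSp.EtOver.homMk (E := AlgSp.EtOver.mk _ hg') (E' := AlgSp.EtOver.mk _ hb') m e)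

end Groth.Agent.S10210
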