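import Groth.Statements.S10212
import Groth.Agent.AlgSpCov.Listed

set_option autoImplicit false
set_option backward.isDefEq.respectTransparency false
universe u
open CategoryTheory CategoryTheory.Limits AlgebraicGeometry Topology TopologicalSpace
open AlgSp

namespace Groth.Agent.S10212

/-- Let X be an algebraic space over a scheme S, χ : U ⟶ U' a surjective etale morphism of schemes over
S and φ' : h_{U'} ⟶ X a map such that the composite h_χ ≫ φ' : h_U ⟶ X is (representable and) etale.
Then φ' is etale. -/
theorem result {S : Scheme.{u}} (X : AlgSp.Space S) {U U' : Over S}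
    (χ : U ⟶ U') [Etale χ.left] [Surjective χ.left] (φ' : (AlgSp.yon S).obj U' ⟶ X.obj)
    (h : AlgSp.RepWith @Etale ((AlgSp.yon S).map χ ≫ φ')) :
    AlgSp.RepWith @Etale φ' := by
  refine ⟨X.property.representable_from_yon φ', fun T W g fst snd sq => ?_⟩
  obtain ⟨fst, rfl⟩ := (AlgSp.yon S).map_surjective fst
  have sq0 := IsPullback.of_hasPullback χ fst
  have sq1 := sq0.map (AlgSp.yon S)
  have sq2 := sq1.paste_vert sq
  rw [← Functor.map_comp] at sq2
  have h2 : Etale (pullback.snd χ fst ≫ snd).left := h.2 _ _ _ sq2
  have hb := (sq0.map (Over.forget S))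
  have he : Etale (pullback.snd χ fst).left :=
    MorphismProperty.of_isPullback (P := @Etale) hb ‹Etale χ.left›
  have hsu : Surjective (pullback.snd χ fst).left :=
    MorphismProperty.of_isPullback (P := @Surjective) hb ‹Surjective χ.left›
  exact Groth.Agent.AlgSpCov.etaleLocal_etale.ofPrecomp _ _ he hsu h2

end Groth.Agent.S10212
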