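import Groth.Statements.S10213
import Groth.Agent.AlgSpB.Charts

set_option autoImplicit false
set_option backward.isDefEq.respectTransparency false
universe u
open CategoryTheory CategoryTheory.Limits AlgebraicGeometry Topology TopologicalSpace
open AlgSp

namespace Groth.Agent.S10213

/-- For an algebraic space X over a scheme S there is a surjective etale map h_U ⟶ X where U is a
disjoint union of affine schemes, each of which maps into an affine open of S. -/
theorem result {S : Scheme.{u}} (X : AlgSp.Space S) :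
    ∃ (ι : Type u) (V : ι → Scheme.{u}) (_ : ∀ i, IsAffine (V i)) (q : (∐ V) ⟶ S)
      (p : (AlgSp.yon S).obj (Over.mk q) ⟶ X.obj),
      AlgSp.RepWith @Etale p ∧ AlgSp.RepWith @Surjective p ∧
        ∀ i, ∃ W : S.Opens, IsAffineOpen W ∧ ∀ v : ↥(V i), (Sigma.ι V i ≫ q) v ∈ W := by
  obtain ⟨U, p, hp, hs⟩ := X.property.atlas
  have H : ∀ u : ↥U.left, ∃ V : U.left.Opens, IsAffineOpen V ∧ u ∈ V ∧
      ∃ W : S.Opens, IsAffineOpen W ∧ V ≤ U.hom ⁻¹ᵁ W := by
    intro u
    obtain ⟨W, hW, hu, -⟩ := exists_isAffineOpen_mem_and_subset (x := U.hom u) (U := ⊤) trivial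
    obtain ⟨V, hV, huV, hVW⟩ :=
      exists_isAffineOpen_mem_and_subset (x := u) (U := U.hom ⁻¹ᵁ W) hu
    exact ⟨V, hV, huV, W, hW, hVW⟩
  choose V hV hu W hW hVW using H
  let Y : ↥U.left → Scheme.{u} := fun u => (V u : Scheme.{u})
  let q : (∐ Y) ⟶ U.left := Sigma.desc fun u => (V u).ι
  have hq : Etale q :=
    IsZariskiLocalAtSource.sigmaDesc (P := @Etale) fun u => (inferInstance : Etale (V u).ι)
  let g : Over.mk (q ≫ U.hom) ⟶ U := Over.homMk q rfl
  have : Etale g.left := hq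
  have he := Groth.Agent.AlgSpB.repWith_etale_map_comp g hp
  refine ⟨↥U.left, Y, hV, q ≫ U.hom, _, he,
    Groth.Agent.AlgSpB.repWith_surjective_of_surjective_ofPt he.1 fun x => ?_, fun u => ?_⟩
  · obtain ⟨u, rfl⟩ := Groth.Agent.AlgSpB.surjective_ofPt hs x
    refine ⟨Sigma.ι Y u ⟨u, hu u⟩, ?_⟩
    rw [Groth.Agent.AlgSpB.ofPt_map_comp]
    congr 1
    change q (Sigma.ι Y u ⟨u, hu u⟩) = u
    rw [← Scheme.Hom.comp_apply, Sigma.ι_desc]
    rfl
  · refine ⟨W u, hW u, fun v => ?_⟩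
    rw [← Category.assoc, Sigma.ι_desc]
    exact hVW u v.2

end Groth.Agent.S10213
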