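import Groth.Statements.S10214
import Groth.Agent.AlgSpB.Open

set_option autoImplicit false
set_option backward.isDefEq.respectTransparency false
universe u
open CategoryTheory CategoryTheory.Limits AlgebraicGeometry Topology TopologicalSpace
open AlgSp

namespace Groth.Agent.S10214

/-- Every algebraic space X over a scheme S has a Zariski covering by open subspaces X_i such that each
X_i has a surjective etale map from an affine scheme; moreover the affine schemes may be taken to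
map into affine opens of S. -/
theorem result {S : Scheme.{u}} (X : AlgSp.Space S) :
    ∃ (ι : Type u) (Xi : ι → AlgSp.Space S) (j : ∀ i, Xi i ⟶ X),
      AlgSp.IsZarCover (fun i => (Xi i).obj) (fun i => (j i).hom) ∧
        ∀ i, ∃ (U : Over S) (p : (AlgSp.yon S).obj U ⟶ (Xi i).obj), IsAffine U.left ∧
          AlgSp.RepWith @Etale p ∧ AlgSp.RepWith @Surjective p ∧
          ∃ W : S.Opens, IsAffineOpen W ∧ ∀ v : ↥U.left, U.hom v ∈ W := by
  obtain ⟨U, p, hp, hs⟩ := X.property.atlas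
  have H : ∀ u : ↥U.left, ∃ V : U.left.Opens, IsAffineOpen V ∧ u ∈ V ∧
      ∃ W : S.Opens, IsAffineOpen W ∧ V ≤ U.hom ⁻¹ᵁ W := by
    intro u
    obtain ⟨W, hW, hu, -⟩ := exists_isAffineOpen_mem_and_subset (x := U.hom u) (U := ⊤) trivial
    obtain ⟨V, hV, huV, hVW⟩ :=
      exists_isAffineOpen_mem_and_subset (x := u) (U := U.hom ⁻¹ᵁ W) hu
    exact ⟨V, hV, huV, W, hW, hVW⟩
  choose V hV hu W hW hVW using H
  let g : ∀ u, Over.mk ((V u).ι ≫ U.hom) ⟶ U := fun u => Over.homMk (V u).ι rfl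
  have he : ∀ u, AlgSp.RepWith @Etale ((AlgSp.yon S).map (g u) ≫ p) := fun u =>
    have : Etale (g u).left := (inferInstance : Etale (V u).ι)
    Groth.Agent.AlgSpB.repWith_etale_map_comp (g u) hp
  choose Xi j hj hrange using fun u => Groth.Agent.AlgSpB.exists_openSubspace X
    (W := Set.range (AlgSp.Points.ofPt ((AlgSp.yon S).map (g u) ≫ p)))
    (Groth.Agent.AlgSpB.isOpenMap_ofPt (he u)).isOpen_range
  refine ⟨↥U.left, Xi, j, ⟨hj, fun x => ?_⟩, fun u => ?_⟩
  · obtain ⟨u, rfl⟩ := Groth.Agent.AlgSpB.surjective_ofPt hs x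
    refine ⟨u, (hrange u).ge ⟨⟨u, hu u⟩, ?_⟩⟩
    rw [Groth.Agent.AlgSpB.ofPt_map_comp]
    rfl
  · obtain ⟨a', -, h1, h2⟩ :=
      Groth.Agent.AlgSpB.exists_chart_into_subspace (he u) (hj u) (hrange u)
    exact ⟨_, a', hV u, h1, h2, W u, hW u, fun v => hVW u v.2⟩

end Groth.Agent.S10214
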