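import Groth.Statements.S10217
import Groth.Agent.AlgSpB.FieldPoints

set_option autoImplicit false
set_option backward.isDefEq.respectTransparency false
universe u
open CategoryTheory CategoryTheory.Limits AlgebraicGeometry Topology TopologicalSpace
open AlgSp

namespace Groth.Agent.S10217

/-- Let X be an algebraic space over a scheme S and x̄ a geometric point of X. Then the category of
etale neighbourhoods of x̄ (schemes etale over X with a lift of x̄) is cofiltered: it is nonempty,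
any two neighbourhoods are dominated by a third, and any two morphisms between neighbourhoods are
equalised by a morphism from a further neighbourhood. -/
theorem result {S : Scheme.{u}} (X : AlgSp.Space S) (p : AlgSp.FieldPt X.obj) (hp : p.IsGeometric) :
    IsCofiltered (AlgSp.EtNbhd p) := by
  have : Nonempty (AlgSp.EtNbhd p) := by
    obtain ⟨U, a, ha, has⟩ := X.property.atlas
    obtain ⟨t, ht⟩ := Groth.Agent.AlgSpB.surjective_ofPt has (AlgSp.Points.mk p)
    obtain ⟨c, hc, -⟩ := Groth.Agent.AlgSpB.exists_lift_geometric ha p hp t ht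
    exact ⟨⟨AlgSp.EtOver.mk a ha, ⟨c, hc⟩⟩⟩
  refine { cone_objs := fun E₁ E₂ => ?_, cone_maps := fun {E E'} f g => ?_, nonempty := this }
  · let P := AlgSp.EtOver.prodObj E₁.1 E₂.1
    have hw : (AlgSp.yon S).map E₂.2.1 ≫ E₂.1.obj.hom = (AlgSp.yon S).map E₁.2.1 ≫ E₁.1.obj.hom :=
      E₂.2.2.trans E₁.2.2.symm
    let u : p.pt ⟶ P.obj.left := E₂.1.property.1.lift' E₂.2.1 E₁.2.1 hw
    have hu : (AlgSp.yon S).map u ≫ P.obj.hom = p.toHom := by
      change (AlgSp.yon S).map u ≫ (AlgSp.yon S).map _ ≫ E₁.1.obj.hom = _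
      rw [← Category.assoc, ← Functor.map_comp]
      simp only [u, Functor.relativelyRepresentable.lift'_snd]
      exact E₁.2.2
    refine ⟨⟨P, ⟨u, hu⟩⟩, CategoryOfElements.homMk _ _ (AlgSp.EtOver.prodFst E₁.1 E₂.1) ?_,
      CategoryOfElements.homMk _ _ (AlgSp.EtOver.prodSnd E₁.1 E₂.1) ?_, trivial⟩
    · exact Subtype.ext (Functor.relativelyRepresentable.lift'_snd _ _ _ _)
    · exact Subtype.ext (Functor.relativelyRepresentable.lift'_fst _ _ _ _)
  · let L : E.1 ⟶ AlgSp.EtOver.prodObj E'.1 E'.1 :=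
      BinaryFan.IsLimit.lift' (AlgSp.EtOver.prodIsLimit E'.1 E'.1) f.1 g.1 |>.1
    have hL1 : L ≫ AlgSp.EtOver.prodFst E'.1 E'.1 = f.1 :=
      (BinaryFan.IsLimit.lift' (AlgSp.EtOver.prodIsLimit E'.1 E'.1) f.1 g.1).2.1
    have hL2 : L ≫ AlgSp.EtOver.prodSnd E'.1 E'.1 = g.1 :=
      (BinaryFan.IsLimit.lift' (AlgSp.EtOver.prodIsLimit E'.1 E'.1) f.1 g.1).2.2
    let D : E'.1 ⟶ AlgSp.EtOver.prodObj E'.1 E'.1 :=
      BinaryFan.IsLimit.lift' (AlgSp.EtOver.prodIsLimit E'.1 E'.1) (𝟙 _) (𝟙 _) |>.1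
    have hD1 : D ≫ AlgSp.EtOver.prodFst E'.1 E'.1 = 𝟙 _ :=
      (BinaryFan.IsLimit.lift' (AlgSp.EtOver.prodIsLimit E'.1 E'.1) (𝟙 E'.1) (𝟙 _)).2.1
    have hD2 : D ≫ AlgSp.EtOver.prodSnd E'.1 E'.1 = 𝟙 _ :=
      (BinaryFan.IsLimit.lift' (AlgSp.EtOver.prodIsLimit E'.1 E'.1) (𝟙 E'.1) (𝟙 _)).2.2
    let Q := AlgSp.EtOver.pullbackObj L D
    let πQ := AlgSp.EtOver.pullbackFst L D
    have hπ : πQ ≫ f.1 = πQ ≫ g.1 := by
      rw [← hL1, ← hL2, ← Category.assoc, ← Category.assoc, AlgSp.EtOver.pullback_condition,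
        Category.assoc, Category.assoc, hD1, hD2]
    have hf : E.2.1 ≫ f.1.hom.left = E'.2.1 := congrArg Subtype.val f.2
    have hg : E.2.1 ≫ g.1.hom.left = E'.2.1 := congrArg Subtype.val g.2
    have key : E.2.1 ≫ L.hom.left = E'.2.1 ≫ D.hom.left := by
      refine Functor.relativelyRepresentable.hom_ext' E'.1.property.1 ?_ ?_
      · rw [Category.assoc, Category.assoc]
        change E.2.1 ≫ (L ≫ AlgSp.EtOver.prodSnd E'.1 E'.1).hom.left =
          E'.2.1 ≫ (D ≫ AlgSp.EtOver.prodSnd E'.1 E'.1).hom.left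
        rw [hL2, hD2, hg]
        exact (Category.comp_id _).symm
      · rw [Category.assoc, Category.assoc]
        change E.2.1 ≫ (L ≫ AlgSp.EtOver.prodFst E'.1 E'.1).hom.left =
          E'.2.1 ≫ (D ≫ AlgSp.EtOver.prodFst E'.1 E'.1).hom.left
        rw [hL1, hD1, hf]
        exact (Category.comp_id _).symm
    let u : p.pt ⟶ Q.obj.left := pullback.lift E.2.1 E'.2.1 key
    have hu : (AlgSp.yon S).map u ≫ Q.obj.hom = p.toHom := by
      change (AlgSp.yon S).map u ≫ (AlgSp.yon S).map _ ≫ E.1.obj.hom = _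
      rw [← Category.assoc, ← Functor.map_comp]
      simp only [u, pullback.lift_fst]
      exact E.2.2
    refine ⟨⟨Q, ⟨u, hu⟩⟩, CategoryOfElements.homMk _ _ πQ (Subtype.ext (pullback.lift_fst _ _ _)), ?_⟩
    exact Subtype.ext hπ

end Groth.Agent.S10217
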