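import Groth.Statements.S10218
import Groth.Agent.AlgSpB.FieldPoints

set_option autoImplicit false
set_option backward.isDefEq.respectTransparency false
universe u
open CategoryTheory CategoryTheory.Limits AlgebraicGeometry Topology TopologicalSpace
open AlgSp

namespace Groth.Agent.S10218

/-- Let X be an algebraic space over a scheme S, x̄ a geometric point of X, (U, ū) an etale
neighbourhood of x̄ and {U_i ⟶ U} an etale covering of U in the small etale site of X. Then for some
index i the point x̄ lifts to U_i compatibly, that is, (U_i, ū_i) ⟶ (U, ū) is a morphism of etale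
neighbourhoods for a suitable lift ū_i. -/
theorem result {S : Scheme.{u}} (X : AlgSp.Space S) (p : AlgSp.FieldPt X.obj) (hp : p.IsGeometric)
    (N : AlgSp.EtNbhd p) {ι : Type u} (Ui : ι → AlgSp.EtOver X.obj) (g : ∀ i, Ui i ⟶ N.1)
    (hcov : Presieve.ofArrows Ui g ∈ AlgSp.etPre X.obj N.1) :
    ∃ (i : ι) (ui : (AlgSp.FieldPt.liftsTo p).obj (Ui i)), (AlgSp.FieldPt.liftsTo p).map (g i) ui = N.2 := by
  have hs := (AlgSp.ofArrows_mem_etPre_iff Ui g).1 hcov
  obtain ⟨i, w, hw⟩ := hs (N.2.1.left (IsLocalRing.closedPoint p.K))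
  have he : AlgSp.RepWith @Etale ((AlgSp.yon S).map (g i).hom.left) :=
    (AlgSp.repWith_yon_map_iff _ _).2 (AlgSp.EtOver.etale_left (g i))
  let q : AlgSp.FieldPt ((AlgSp.yon S).obj N.1.obj.left) :=
    ⟨p.K, p.str, ⟨N.2.1⟩⟩
  have hq : q.toHom = (AlgSp.yon S).map N.2.1 := by
    apply (AlgSp.J S).uliftYonedaEquiv.injective
    rw [AlgSp.FieldPt.uliftYonedaEquiv_toHom, GrothendieckTopology.uliftYonedaEquiv_uliftYoneda_map]
  have hpt : AlgSp.Points.ofPt ((AlgSp.yon S).map (g i).hom.left) w = AlgSp.Points.mk q := by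
    rw [← AlgSp.Points.ofPt_toHom q (IsLocalRing.closedPoint p.K), hq]
    have e1 := AlgSp.Points.toScheme_ofPt (g i).hom.left w
    have e2 := AlgSp.Points.toScheme_ofPt N.2.1 (IsLocalRing.closedPoint p.K)
    refine (AlgSp.Points.schemeEquiv N.1.obj.left).symm.injective ?_
    exact e1.trans (hw.trans e2.symm)
  obtain ⟨c, hc, -⟩ := Groth.Agent.AlgSpB.exists_lift_geometric he q hp w hpt
  have hc' : c ≫ (g i).hom.left = N.2.1 := (AlgSp.yon S).map_injective (by
    rw [Functor.map_comp, hc, hq])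
  refine ⟨i, ⟨c, ?_⟩, Subtype.ext hc'⟩
  rw [← AlgSp.EtOver.w (g i), ← Category.assoc, ← Functor.map_comp, hc']
  exact N.2.2

end Groth.Agent.S10218
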