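import Groth.Statements.S1022
import Groth.Agent.CohDerLib.QC.PerfBound

set_option autoImplicit false
universe u
open CategoryTheory CategoryTheory.Limits AlgebraicGeometry
attribute [local instance] HasDerivedCategory.standard
open Perf

namespace Groth.Agent.S1022

/-- Let the scheme X be quasi-compact and quasi-separated, P a perfect object of D(O_X), E ∈ D_QCoh(O_X)
and a ∈ ℤ. Then the morphisms P[-i] ⟶ E vanish for all large i if and only if the morphisms P[-i] ⟶
τ_{≥ a}E vanish for all large i. -/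
theorem result (X : Scheme.{u}) [CompactSpace ↥X] [QuasiSeparatedSpace ↥X]
    (P : DCoh.D X) (hP : DCoh.IsPerfect P) (E : DCoh.D X) (hE : DCoh.IsQCohD E) (a : ℤ) :
    (∃ N : ℤ, ∀ i : ℤ, N ≤ i → ∀ φ : P⟦-i⟧ ⟶ E, φ = 0) ↔
    (∃ N : ℤ, ∀ i : ℤ, N ≤ i → ∀ φ : P⟦-i⟧ ⟶ ((DerivedCategory.TStructure.t : CategoryTheory.Triangulated.TStructure (DCoh.D X)).truncGE a).obj E, φ = 0) := by
  obtain ⟨d, hd⟩ := Groth.Agent.CohDerLib.QC.exists_vanD_perfect hP
  let t := (DerivedCategory.TStructure.t : CategoryTheory.Triangulated.TStructure (DCoh.D X))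
  have key : ∀ i : ℤ, a - 1 + d < i → ((∀ φ : P⟦-i⟧ ⟶ E, φ = 0) ↔
      ∀ φ : P⟦-i⟧ ⟶ (t.truncGE a).obj E, φ = 0) := fun i hi => by
    rw [Groth.Agent.CohDerLib.QC.subsingleton_shift_iff, Groth.Agent.CohDerLib.QC.subsingleton_shift_iff]
    have : ((t.truncLT a).obj E).IsLE (a - 1) := inferInstance
    have hq := Groth.Agent.CohDerLib.QC.isQCohD_truncLT hE a
    exact Groth.Agent.CohDerLib.QC.subsingleton_iff_of_triangle _ (t.triangleLTGE_distinguished a E) P i
      (Groth.Agent.CohDerLib.QC.subsingleton_hom_shift_of_isLE (E := (t.truncLT a).obj E) hd hq (a - 1) i (by omega))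
      (Groth.Agent.CohDerLib.QC.subsingleton_hom_shift_of_isLE (E := (t.truncLT a).obj E) hd hq (a - 1) (i + 1) (by omega))
  constructor
  · rintro ⟨N, hN⟩
    exact ⟨max N (a + d), fun i hi => (key i (by omega)).1 (hN i (by omega))⟩
  · rintro ⟨N, hN⟩
    exact ⟨max N (a + d), fun i hi => (key i (by omega)).2 (hN i (by omega))⟩

end Groth.Agent.S1022
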