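import Groth.Statements.S10223
import Groth.Agent.AlgSpD.StalkStrict

set_option autoImplicit false
universe u
open CategoryTheory CategoryTheory.Limits AlgebraicGeometry Topology TopologicalSpace
open AlgSp

namespace Groth.Agent.S10223

universe v w

theorem henselian_of_ringEquiv {R : Type v} {R' : Type w} [CommRing R] [CommRing R'] [HenselianLocalRing R]
    (e : R ≃+* R') : HenselianLocalRing R' :=
  { e.isLocalRing with
    is_henselian := fun f hf a₀ h₀ h₁ => by
      haveI := e.isLocalRing
      have hf' : (f.map e.symm.toRingHom).Monic := hf.map _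
      have hev : ∀ (g : Polynomial R'), (g.map e.symm.toRingHom).eval (e.symm a₀) = e.symm (g.eval a₀) :=
        fun g => by
          rw [Polynomial.eval_map]
          exact (Polynomial.eval₂_at_apply e.symm.toRingHom a₀)
      obtain ⟨a, ha, hd⟩ := HenselianLocalRing.is_henselian (f.map e.symm.toRingHom) hf' (e.symm a₀)
        (by
          rw [hev, IsLocalRing.mem_maximalIdeal, mem_nonunits_iff]
          intro hu
          exact h₀ (by simpa using hu.map e))
        (by rw [Polynomial.derivative_map, hev]; exact h₁.map e.symm)
      refine ⟨e a, ?_, ?_⟩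
      · show f.eval (e a) = 0
        apply e.symm.injective
        rw [map_zero, ← show (f.map e.symm.toRingHom).eval (e.symm (e a)) = e.symm (f.eval (e a)) by
          rw [Polynomial.eval_map]; exact Polynomial.eval₂_at_apply e.symm.toRingHom (e a)]
        simpa using ha
      · rw [IsLocalRing.mem_maximalIdeal, mem_nonunits_iff] at hd ⊢
        intro hu
        exact hd (by simpa using hu.map e.symm) }

theorem sepClosed_residue_of_ringEquiv {R : Type v} {R' : Type w} [CommRing R] [CommRing R'] [IsLocalRing R]
    [IsLocalRing R'] [IsSepClosed (IsLocalRing.ResidueField R)] (e : R ≃+* R') :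
    IsSepClosed (IsLocalRing.ResidueField R') := by
  let φ := IsLocalRing.ResidueField.mapEquiv e
  refine IsSepClosed.of_exists_root _ fun f _ hirr hsep => ?_
  obtain ⟨x, hx⟩ := IsSepClosed.exists_root (f.map φ.symm.toRingHom)
    (fun h => (Polynomial.degree_pos_of_irreducible hirr).ne'
      ((f.degree_map φ.symm.toRingHom).symm.trans h))
    ((Polynomial.separable_map _).2 hsep)
  refine ⟨φ x, ?_⟩
  rw [Polynomial.IsRoot.def, Polynomial.eval_map] at hx
  apply φ.symm.injective
  rw [map_zero, ← hx]
  show φ.symm.toRingHom (f.eval (φ x)) = _
  rw [← Polynomial.eval₂_at_apply]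
  simp


/-- Let X be an algebraic space over a scheme S and x̄ a geometric point of X. Then the etale local ring
of X at x̄ (the stalk at x̄ of the structure sheaf of the small etale site) is a strictly henselian
local ring. (The published statement identifies this ring with the strict henselisation of the local
ring of any etale neighbourhood (U, ū) at the image point of ū; this row records the resulting
property of the ring, not the identification.) -/
theorem result {S : Scheme.{u}} (X : AlgSp.Space S) (p : AlgSp.FieldPt X.obj)
    (hp : p.IsGeometric) :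
    IsLocalRing ↥(AlgSp.OEtStalk p) ∧ EtCoh.IsStrictlyHenselianLocalRing ↥(AlgSp.OEtStalk p) := by
  obtain ⟨U, a, u, ha, hu⟩ := Groth.Agent.AlgSpD.exists_chart X (AlgSp.Points.mk p)
  obtain ⟨R, _, hl, _, _, -, hR, ⟨e⟩⟩ := Groth.Agent.AlgSpD.exists_strictHens X p hp ha hu
  obtain ⟨hh, hs⟩ := hR
  haveI := hh
  haveI := hs
  haveI := e.isLocalRing
  exact ⟨e.isLocalRing, henselian_of_ringEquiv e, sepClosed_residue_of_ringEquiv e⟩

end Groth.Agent.S10223
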