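import Groth.Statements.S10224
import Groth.Agent.AlgSpD.StalkStrict
import Groth.Agent.S0541

set_option autoImplicit false
universe u
open CategoryTheory CategoryTheory.Limits AlgebraicGeometry Topology TopologicalSpace
open AlgSp

namespace Groth.Agent.S10224

/-- Let X be an algebraic space over a scheme S, x̄ a geometric point of X lying over x ∈ |X|, and d ∈
{0, 1, 2, …, ∞}. Then the local ring of X at x has dimension d (that is, for some etale chart h_U ⟶
X and some point u of U over x the local ring of U at u has dimension d) if and only if the etale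
local ring of X at x̄ has dimension d. In particular the latter does not depend on the geometric
point over x. -/
theorem result {S : Scheme.{u}} (X : AlgSp.Space S) (p : AlgSp.FieldPt X.obj)
    (hp : p.IsGeometric) (d : ℕ∞) :
    AlgSp.HasAt (fun U u => ringKrullDim ↥(U.presheaf.stalk u) = (d : WithBot ℕ∞)) X.obj (AlgSp.Points.mk p) ↔
      ringKrullDim ↥(AlgSp.OEtStalk p) = (d : WithBot ℕ∞) := by
  open Groth.Agent in
  have key : ∀ (U : Over S) (a : (AlgSp.yon S).obj U ⟶ X.obj) (u : ↥U.left), AlgSp.RepWith @Etale a →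
      AlgSp.Points.ofPt a u = AlgSp.Points.mk p →
      ringKrullDim ↥(U.left.presheaf.stalk u) = ringKrullDim ↥(AlgSp.OEtStalk p) := fun U a u ha hu => by
    obtain ⟨R, _, _, _, _, _, -, ⟨e⟩⟩ := AlgSpD.exists_strictHens X p hp ha hu
    rw [← ringKrullDim_eq_of_ringEquiv e]
    exact (Groth.Agent.S0541.result ↥(U.left.presheaf.stalk u) R).symm
  refine ⟨fun ⟨U, a, u, ha, hu, h⟩ => (key U a u ha hu).symm.trans h, fun h => ?_⟩
  obtain ⟨U, a, u, ha, hu⟩ := AlgSpD.exists_chart X (AlgSp.Points.mk p)
  exact ⟨U, a, u, ha, hu, (key U a u ha hu).trans h⟩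

end Groth.Agent.S10224
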