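import Groth.Statements.S10227
import Groth.Agent.AlgSpD.StalkStrict

set_option autoImplicit false
universe u
open CategoryTheory CategoryTheory.Limits AlgebraicGeometry Topology TopologicalSpace
open AlgSp

namespace Groth.Agent.S10227

/-- (1) ⇔ (4) ⇔ (5): let X be an algebraic space over a scheme S and x ∈ |X|. The following are
equivalent: for every scheme U, every etale h_U ⟶ X and every point u of U over x, the local ring of
U at u has a unique minimal prime; for every such (U, u), the local ring of U at u is geometrically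
unibranch; for every geometric point x̄ over x, the etale local ring of X at x̄ has a unique minimal
prime. -/
theorem result {S : Scheme.{u}} (X : AlgSp.Space S) (x : AlgSp.Points X.obj) :
    ((∀ (U : Over S) (a : (AlgSp.yon S).obj U ⟶ X.obj) (u : ↥U.left),
        AlgSp.RepWith @Etale a → AlgSp.Points.ofPt a u = x → CAlgX.HasUniqueMinimalPrime ↥(U.left.presheaf.stalk u)) ↔
      (∀ (U : Over S) (a : (AlgSp.yon S).obj U ⟶ X.obj) (u : ↥U.left),
        AlgSp.RepWith @Etale a → AlgSp.Points.ofPt a u = x → CAlg2.IsGeomUnibranch ↥(U.left.presheaf.stalk u))) ∧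
    ((∀ (U : Over S) (a : (AlgSp.yon S).obj U ⟶ X.obj) (u : ↥U.left),
        AlgSp.RepWith @Etale a → AlgSp.Points.ofPt a u = x → CAlgX.HasUniqueMinimalPrime ↥(U.left.presheaf.stalk u)) ↔
      ∀ p : AlgSp.FieldPt X.obj, p.IsGeometric → AlgSp.Points.mk p = x →
        CAlgX.HasUniqueMinimalPrime ↥(AlgSp.OEtStalk p)) := by
  open Groth.Agent in
  obtain ⟨p₀, hp₀, hpx⟩ := AlgSpD.exists_geometric_rep X x
  refine ⟨⟨fun h U a u ha hu => ?_, fun h U a u ha hu => ?_⟩, ⟨fun h p hp hpx => ?_, fun h U a u ha hu => ?_⟩⟩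
  · rw [← Hens.numGeomBranches_eq_one_iff]
    refine le_antisymm (AlgSpD.numGeomBranchesAt_le X ha hu fun V b v hb hv => ?_) ?_
    · exact (AlgSpD.hasUniqueMinimalPrime_iff.1 (h V b v hb hv)).le
    · exact (AlgSpD.hasUniqueMinimalPrime_iff.1 (h U a u ha hu)).ge.trans
        (AlgSpD.encard_minimalPrimes_le_numGeomBranchesAt u)
  · rw [AlgSpD.hasUniqueMinimalPrime_iff, ← Hens.encard_components_eq]
    exact (Hens.isGeomUnibranch_stalk_iff _ u).1 (h U a u ha hu) _ (𝟙 _) u
      (Hens.isEtaleNbhd_id _ u).etale rfl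
  · obtain ⟨U, a, u, ha, hu⟩ := AlgSpD.exists_chart X x
    rw [AlgSpD.hasUniqueMinimalPrime_iff, ← AlgSpD.numGeomBranchesAt_eq X p hp ha (hu.trans hpx.symm)]
    refine le_antisymm (AlgSpD.numGeomBranchesAt_le X ha hu fun V b v hb hv => ?_) ?_
    · exact (AlgSpD.hasUniqueMinimalPrime_iff.1 (h V b v hb hv)).le
    · exact (AlgSpD.hasUniqueMinimalPrime_iff.1 (h U a u ha hu)).ge.trans
        (AlgSpD.encard_minimalPrimes_le_numGeomBranchesAt u)
  · have h1 : Brnch.numGeomBranchesAt U.left u = 1 := by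
      rw [AlgSpD.numGeomBranchesAt_eq X p₀ hp₀ ha (hu.trans hpx.symm)]
      exact AlgSpD.hasUniqueMinimalPrime_iff.1 (h p₀ hp₀ hpx)
    rw [AlgSpD.hasUniqueMinimalPrime_iff]
    exact le_antisymm ((AlgSpD.encard_minimalPrimes_le_numGeomBranchesAt u).trans h1.le)
      ((Hens.one_le_encard_components u).trans (Hens.encard_components_eq u).le)

end Groth.Agent.S10227
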