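import Groth.Statements.S10228
import Groth.Agent.AlgSp.Coprod
import Groth.Agent.AlgSp.QCMor

set_option autoImplicit false
universe u
open CategoryTheory CategoryTheory.Limits AlgebraicGeometry Topology TopologicalSpace
open AlgSp

namespace Groth.Agent.S10228

/-- An algebraic space that is the coproduct of finitely many quasi-compact algebraic spaces is
quasi-compact: if X_i (i in a finite type) are quasi-compact algebraic spaces over a scheme S and
the underlying sheaf of the algebraic space X is a coproduct of the underlying sheaves of the X_i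
(given by a colimit cofan of fppf sheaves whose cone point is the sheaf of X), then X is
quasi-compact. -/
theorem result {S : Scheme.{u}} {ι : Type u} [Finite ι] (Xi : ι → AlgSp.Space S)
    (X : AlgSp.Space S) (c : Cofan fun i => (Xi i).obj) (hc : IsColimit c) (hX : c.pt = X.obj)
    (hqc : ∀ i, AlgSp.IsQuasiCompactSp (Xi i).obj) :
    AlgSp.IsQuasiCompactSp X.obj := by
  refine AlgSp.isQuasiCompactSp_of_compactSpace X.property ?_
  rw [← hX]
  have hsurj : ∀ x : AlgSp.Points c.pt, ∃ i, x ∈ Set.range (AlgSp.Points.map (c.inj i)) := by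
    intro x
    obtain ⟨q, rfl⟩ := AlgSp.Points.mk_surjective x
    obtain ⟨R, hR, h⟩ := AlgSp.exists_cover_lift_cofan hc q.toHom
    obtain ⟨κ, Y, g, rfl⟩ := R.exists_eq_ofArrows
    replace hR := (Scheme.ofArrows_mem_precoverage_iff _).1 hR
    obtain ⟨k, w, hw⟩ := hR.1 (IsLocalRing.closedPoint q.K)
    obtain ⟨i, l, hl⟩ := h (g k) ⟨k⟩
    refine ⟨i, AlgSp.Points.ofPt l w, ?_⟩
    rw [AlgSp.Points.map_ofPt, hl, AlgSpB.ofPt_map_comp]
    exact AlgSp.Points.ofPt_toHom q _
  refine ⟨?_⟩
  have e : (Set.univ : Set (AlgSp.Points c.pt)) = ⋃ i, Set.range (AlgSp.Points.map (c.inj i)) :=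
    (Set.eq_univ_of_forall fun x => Set.mem_iUnion.2 (hsurj x)).symm
  rw [e]
  refine isCompact_iUnion fun i => ?_
  have := AlgSp.compactSpace_points (hqc i)
  exact isCompact_range (AlgSp.Points.continuous_map _)

end Groth.Agent.S10228
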