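import Groth.Statements.S10229
import Groth.Agent.AlgSpD.EtPointClassify
-- import your own Groth.Agent.* helpers here

set_option autoImplicit false
universe u
open CategoryTheory CategoryTheory.Limits AlgebraicGeometry Topology TopologicalSpace
open AlgSp

namespace Groth.Agent.S10229

/-- Let X be an algebraic space over a scheme S and let P be a point of the small etale topos of X,
given as a point of the site X_etale (a fibre functor). Then there is a geometric point x̄ of X such
that the stalk functor of P on sheaves of sets is isomorphic to the stalk functor F ↦ F_x̄. -/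
theorem result {S : Scheme.{u}} (X : AlgSp.Space S)
    (P : GrothendieckTopology.Point.{u} (AlgSp.etTop X.obj)) :
    ∃ p : AlgSp.FieldPt X.obj, p.IsGeometric ∧
      Nonempty (P.sheafFiber (A := Type (u + 1)) ≅ AlgSp.stalkEtFunctor (Type (u + 1)) p) := by
  obtain ⟨p, hp, ⟨e⟩⟩ := Groth.Agent.AlgSpD.EtPointClassify.exists_geometric P
  refine ⟨p, hp, ⟨?_⟩⟩
  have : (CategoryOfElements.map e.hom).IsEquivalence :=
    Functor.IsEquivalence.mk' (CategoryOfElements.map e.inv)
      (NatIso.ofComponents (fun t => CategoryOfElements.isoMk _ _ (Iso.refl _) (by
        simp [CategoryOfElements.map]; rfl)) (fun f => CategoryOfElements.ext _ _ _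
          ((Category.comp_id _).trans (Category.id_comp _).symm)))
      (NatIso.ofComponents (fun t => CategoryOfElements.isoMk _ _ (Iso.refl _) (by
        simp [CategoryOfElements.map]; rfl)) (fun f => CategoryOfElements.ext _ _ _
          ((Category.comp_id _).trans (Category.id_comp _).symm)))
  exact (Functor.isoWhiskerLeft (sheafToPresheaf (AlgSp.etTop X.obj) (Type (u + 1)) ⋙
    (Functor.whiskeringLeft _ _ (Type (u + 1))).obj (AlgSp.EtNbhd.toEtOver p).op)
    (Functor.Final.colimIso (E := Type (u + 1)) (CategoryOfElements.map e.hom).op) :)

end Groth.Agent.S10229
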