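import Groth.Statements.S1023
import Groth.Agent.CohDerLib.QC.PerfBound

set_option autoImplicit false
universe u
open CategoryTheory CategoryTheory.Limits AlgebraicGeometry
attribute [local instance] HasDerivedCategory.standard
open Perf

namespace Groth.Agent.S1023

/-- Let the scheme X be quasi-compact and quasi-separated, P a perfect object of D(O_X), E ∈ D_QCoh(O_X)
and a ∈ ℤ. Then the morphisms P[-i] ⟶ E vanish for all sufficiently negative i if and only if the
morphisms P[-i] ⟶ τ_{≤ a}E vanish for all sufficiently negative i. -/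
theorem result (X : Scheme.{u}) [CompactSpace ↥X] [QuasiSeparatedSpace ↥X]
    (P : DCoh.D X) (hP : DCoh.IsPerfect P) (E : DCoh.D X) (hE : DCoh.IsQCohD E) (a : ℤ) :
    (∃ N : ℤ, ∀ i : ℤ, i ≤ N → ∀ φ : P⟦-i⟧ ⟶ E, φ = 0) ↔
    (∃ N : ℤ, ∀ i : ℤ, i ≤ N → ∀ φ : P⟦-i⟧ ⟶ ((DerivedCategory.TStructure.t : CategoryTheory.Triangulated.TStructure (DCoh.D X)).truncLE a).obj E, φ = 0) := by
  obtain ⟨c, hc⟩ := Groth.Agent.CohDerLib.QC.exists_isLE_perfect hP
  let t := (DerivedCategory.TStructure.t : CategoryTheory.Triangulated.TStructure (DCoh.D X))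
  have key : ∀ i : ℤ, i < a + 1 - c → ((∀ φ : P⟦-i⟧ ⟶ E, φ = 0) ↔
      ∀ φ : P⟦-i⟧ ⟶ (t.truncLE a).obj E, φ = 0) := fun i hi => by
    rw [Groth.Agent.CohDerLib.QC.subsingleton_shift_iff, Groth.Agent.CohDerLib.QC.subsingleton_shift_iff]
    have : ((t.truncGE (a + 1)).obj E).IsGE (a + 1) := inferInstance
    exact (Groth.Agent.CohDerLib.QC.subsingleton_iff_of_triangle' _ (t.triangleLTGE_distinguished (a + 1) E) P i
      (Groth.Agent.CohDerLib.QC.subsingleton_hom_shift_of_isGE (E := (t.truncGE (a + 1)).obj E) c (a + 1) i (by omega))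
      (Groth.Agent.CohDerLib.QC.subsingleton_hom_shift_of_isGE (E := (t.truncGE (a + 1)).obj E) c (a + 1) (i - 1) (by omega))).symm
  constructor
  · rintro ⟨N, hN⟩
    exact ⟨min N (a - c), fun i hi => (key i (by omega)).1 (hN i (by omega))⟩
  · rintro ⟨N, hN⟩
    exact ⟨min N (a - c), fun i hi => (key i (by omega)).2 (hN i (by omega))⟩

end Groth.Agent.S1023
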