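import Groth.Statements.S10230
import Groth.Agent.AlgSpD.StalkSupport
import Groth.Agent.AlgSpD.DecentCrit
-- import your own Groth.Agent.* helpers here

set_option autoImplicit false
universe u
open CategoryTheory CategoryTheory.Limits AlgebraicGeometry Topology TopologicalSpace
open AlgSp

namespace Groth.Agent.S10230

/-- Let X be an algebraic space over a scheme S and F a subsheaf of the final object of the small etale
topos of X, i.e. a sheaf of sets all of whose section sets have at most one element. Then there is a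
unique open W of |X| with F = h_W: for every U etale over X, F(U) is nonempty if and only if U ⟶ X
maps |U| into W. -/
theorem result {S : Scheme.{u}} (X : AlgSp.Space S)
    (F : AlgSp.EtSh X.obj (Type (u + 1))) (hF : ∀ E : AlgSp.EtOver X.obj, Subsingleton (F.obj.obj (Opposite.op E))) :
    ∃! W : Set (AlgSp.Points X.obj), IsOpen W ∧
      ∀ E : AlgSp.EtOver X.obj, Nonempty (F.obj.obj (Opposite.op E)) ↔ Set.range (AlgSp.Points.ofPt E.obj.hom) ⊆ W := by
  open Groth.Agent in
  let W : Set (AlgSp.Points X.obj) :=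
    ⋃ (E : AlgSp.EtOver X.obj) (_ : Nonempty (F.obj.obj (Opposite.op E))), Set.range (AlgSp.Points.ofPt E.obj.hom)
  have hWo : IsOpen W := isOpen_iUnion fun E => isOpen_iUnion fun _ => (AlgSpB.isOpenMap_ofPt E.property).isOpen_range
  refine ⟨W, ⟨hWo, fun E => ⟨fun h x hx => Set.mem_iUnion₂.2 ⟨E, h, hx⟩, fun hE => ?_⟩⟩, ?_⟩
  · let T : Sieve E :=
      { arrows := fun Y _ => Nonempty (F.obj.obj (Opposite.op Y))
        downward_closed := fun {Y Z} {f} h g => h.map (F.obj.map g.op) }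
    have hT : T ∈ AlgSp.etTop X.obj E := by
      rw [AlgSpD.mem_etTop_iff]
      intro z
      obtain ⟨E', hE', z', hz'⟩ := Set.mem_iUnion₂.1 (hE ⟨z, rfl⟩)
      obtain ⟨q, hq, l, hl, hqm⟩ := AlgSpD.exists_geometric_lift X E z
      obtain ⟨c, hc, -⟩ := AlgSpB.exists_lift_geometric E'.property q hq z' (hz'.trans hqm.symm)
      obtain ⟨k, f, g, -⟩ := AlgSpD.etNbhd_cone_objs X q ⟨E, l⟩ ⟨E', ⟨c, hc⟩⟩
      refine ⟨k.1, f.val, hE'.map (F.obj.map g.val.op), k.2.1.left (IsLocalRing.closedPoint q.K), ?_⟩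
      exact (congrArg (fun m : q.pt ⟶ E.obj.left => m.left (IsLocalRing.closedPoint q.K))
        (congrArg Subtype.val f.property)).trans hl
    let fam : Presieve.FamilyOfElements F.obj T.arrows := fun Y f hf => Classical.choice hf
    obtain ⟨t, -, -⟩ := ((isSheaf_iff_isSheaf_of_type _ _).1 F.property) T hT fam
      (fun Y₁ Y₂ Z g₁ g₂ f₁ f₂ _ _ _ => @Subsingleton.elim _ (hF Z) _ _)
    exact ⟨t⟩
  · rintro W' ⟨hW'o, hW'⟩
    ext x
    constructor
    · intro hx
      obtain ⟨U₀, a, u, ha, rfl⟩ := AlgSpD.exists_chart X x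
      let O : U₀.left.Opens := ⟨AlgSp.Points.ofPt a ⁻¹' W', hW'o.preimage (AlgSp.Points.continuous_ofPt a)⟩
      let E : AlgSp.EtOver X.obj := AlgSp.EtOver.mk _ (AlgSpD.repWith_etale_restrict a ha O)
      have hE : Set.range (AlgSp.Points.ofPt E.obj.hom) ⊆ W' := by
        rintro _ ⟨w, rfl⟩
        exact (AlgSpD.ofPt_restrict a O w).symm ▸ (w.2 : AlgSp.Points.ofPt a (O.ι w) ∈ W')
      exact Set.mem_iUnion₂.2 ⟨E, (hW' E).2 hE, (⟨u, hx⟩ : ↥O.toScheme), AlgSpD.ofPt_restrict a O _⟩
    · intro hx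
      obtain ⟨E, hE, hxE⟩ := Set.mem_iUnion₂.1 hx
      exact (hW' E).1 hE hxE

end Groth.Agent.S10230
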