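import Groth.Statements.S10232
import Groth.Agent.AlgSpD.StalkStrict
import Groth.Agent.S2743
import Groth.Agent.S0540

set_option autoImplicit false
universe u
open CategoryTheory CategoryTheory.Limits AlgebraicGeometry Topology TopologicalSpace
open AlgSp

namespace Groth.Agent.S10232

/-- Let X be an algebraic space over a scheme S and x ∈ |X|. Then X is regular at x (for some etale
chart h_U ⟶ X and some point u of U over x, the local ring of U at u is regular) if and only if the
etale local ring of X at x̄ is regular for every geometric point x̄ lying over x, if and only if it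
is regular for some geometric point x̄ lying over x. -/
theorem result {S : Scheme.{u}} (X : AlgSp.Space S) (x : AlgSp.Points X.obj) :
    (AlgSp.HasAt (fun U u => IsRegularLocalRing ↥(U.presheaf.stalk u)) X.obj x ↔
      ∀ p : AlgSp.FieldPt X.obj, p.IsGeometric → AlgSp.Points.mk p = x → IsRegularLocalRing ↥(AlgSp.OEtStalk p)) ∧
    (AlgSp.HasAt (fun U u => IsRegularLocalRing ↥(U.presheaf.stalk u)) X.obj x ↔
      ∃ p : AlgSp.FieldPt X.obj, p.IsGeometric ∧ AlgSp.Points.mk p = x ∧ IsRegularLocalRing ↥(AlgSp.OEtStalk p)) := by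
  open Groth.Agent in
  have key : ∀ (p : AlgSp.FieldPt X.obj), p.IsGeometric → ∀ (U : Over S) (a : (AlgSp.yon S).obj U ⟶ X.obj)
      (u : ↥U.left), AlgSp.RepWith @Etale a → AlgSp.Points.ofPt a u = AlgSp.Points.mk p →
      (IsRegularLocalRing ↥(U.left.presheaf.stalk u) ↔ IsRegularLocalRing ↥(AlgSp.OEtStalk p)) :=
    fun p hp U a u ha hu => by
      obtain ⟨R, _, _, _, _, _, -, ⟨e⟩⟩ := AlgSpD.exists_strictHens X p hp ha hu
      constructor
      · intro h
        haveI := h
        haveI := (Groth.Agent.S2743.result ↥(U.left.presheaf.stalk u) R).2 h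
        exact IsRegularLocalRing.of_ringEquiv e
      · intro h
        haveI := h
        haveI hR : IsRegularLocalRing R := IsRegularLocalRing.of_ringEquiv e.symm
        haveI : IsNoetherianRing ↥(U.left.presheaf.stalk u) :=
          (Groth.Agent.S0540.result ↥(U.left.presheaf.stalk u) R).2 inferInstance
        exact (Groth.Agent.S2743.result ↥(U.left.presheaf.stalk u) R).1 hR
  obtain ⟨p₀, hp₀, hpx⟩ := AlgSpD.exists_geometric_rep X x
  obtain ⟨U, a, u, ha, hu⟩ := AlgSpD.exists_chart X x
  refine ⟨⟨?_, fun h => ?_⟩, ⟨?_, ?_⟩⟩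
  · rintro ⟨V, b, v, hb, hv, h⟩ p hp hpx'
    exact (key p hp V b v hb (hv.trans hpx'.symm)).1 h
  · exact ⟨U, a, u, ha, hu, (key p₀ hp₀ U a u ha (hu.trans hpx.symm)).2 (h p₀ hp₀ hpx)⟩
  · rintro ⟨V, b, v, hb, hv, h⟩
    exact ⟨p₀, hp₀, hpx, (key p₀ hp₀ V b v hb (hv.trans hpx.symm)).1 h⟩
  · rintro ⟨p, hp, hpx', h⟩
    exact ⟨U, a, u, ha, hu, (key p hp U a u ha (hu.trans hpx'.symm)).2 h⟩

end Groth.Agent.S10232
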