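import Groth.Statements.S10233
import Groth.Agent.AlgSp.DescentImm
import Groth.Agent.AlgSp.AffineMor
import Groth.Agent.AlgSp.DescentSubsheaf
import Groth.Agent.AlgSpB.Open
-- import your own Groth.Agent.* helpers here

set_option autoImplicit false
universe u
open CategoryTheory CategoryTheory.Limits AlgebraicGeometry Topology TopologicalSpace
open AlgSp

namespace Groth.Agent.S10233

set_option backward.isDefEq.respectTransparency false

/-- Let X be an algebraic space over a scheme S with a presentation (U, R, s, t, p), and let i' : Z' ⟶ U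
be an immersion of schemes that is R-invariant, meaning that one locally closed subscheme R' of R is
at the same time the inverse image of Z' under s and under t. Then Z' descends to a locally closed
subspace of X: there is a morphism of algebraic spaces i : Z ⟶ X representable by immersions
together with a map h_{Z'} ⟶ Z making h_{Z'} the fibre product Z ×_X h_U; moreover i is a closed
(resp. open) immersion when i' is. -/
theorem result {S : Scheme.{u}} (X : AlgSp.Space S) {R U : Over S} (s t : R ⟶ U)
    (p : (AlgSp.yon S).obj U ⟶ X.obj) (hp : AlgSp.IsPresentation s t p)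
    {Z' R' : Scheme.{u}} (i' : Z' ⟶ U.left) [IsImmersion i'] (k : R' ⟶ R.left) (s' t' : R' ⟶ Z')
    (hs : IsPullback k s' s.left i') (ht : IsPullback k t' t.left i') :
    ∃ (Z : AlgSp.Space S) (i : Z ⟶ X) (q : (AlgSp.yon S).obj (Over.mk (i' ≫ U.hom)) ⟶ Z.obj),
      AlgSp.RepWith @IsImmersion i.hom ∧
      IsPullback q ((AlgSp.yon S).map (Over.homMk i' rfl : Over.mk (i' ≫ U.hom) ⟶ U)) i.hom p ∧
      (IsClosedImmersion i' → AlgSp.RepWith @IsClosedImmersion i.hom) ∧
      (IsOpenImmersion i' → AlgSp.RepWith @IsOpenImmersion i.hom) := by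
  let iO : Over.mk (i' ≫ U.hom) ⟶ U := Over.homMk i' rfl
  let f := (AlgSp.yon S).map iO ≫ p
  have : Mono iO := (Over.forget S).mono_of_mono_map (inferInstanceAs (Mono i'))
  have hpl : Sheaf.IsLocallySurjective p :=
    Groth.Agent.AlgSp.isLocallySurjective_of_etale_surjective p hp.etale hp.surjective
  let e := Sheaf.toImage f
  let m := Sheaf.imageι f
  have he : Sheaf.IsLocallySurjective e := (Sheaf.isLocallySurjective_iff_epi _).2 inferInstance
  have hem : e ≫ m = (AlgSp.yon S).map iO ≫ p := Sheaf.toImage_ι f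
  let c := pullback.lift (f := m) (g := p) e ((AlgSp.yon S).map iO) hem
  have hcm : Mono c := by
    have : Mono (c ≫ pullback.snd m p) := by rw [pullback.lift_snd]; infer_instance
    exact mono_of_mono c (pullback.snd m p)
  have hcs : Sheaf.IsLocallySurjective c := by
    refine ⟨fun {T} x => ?_⟩
    refine (AlgSp.J S).superset_covering ?_ (Presheaf.imageSieve_mem (J := AlgSp.J S) e.hom
      (AlgSp.yEquiv (AlgSp.yEquiv.symm x ≫ pullback.fst m p)))
    rintro V g ⟨a, ha⟩
    have hx : AlgSp.yEquiv.symm ((pullback m p).obj.map g.op x) =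
        (AlgSp.yon S).map g ≫ AlgSp.yEquiv.symm x := by
      apply AlgSp.yEquiv.injective
      rw [Equiv.apply_symm_apply, AlgSp.yEquiv_map, Equiv.apply_symm_apply]
    have ha' : AlgSp.yEquiv.symm a ≫ e =
        (AlgSp.yon S).map g ≫ AlgSp.yEquiv.symm x ≫ pullback.fst m p := by
      apply AlgSp.yEquiv.injective
      rw [AlgSp.yEquiv_comp, AlgSp.yEquiv_map, Equiv.apply_symm_apply]
      exact ha
    obtain ⟨b, hb⟩ := (AlgSp.yon S).map_surjective (AlgSp.yEquiv.symm a)
    obtain ⟨y, hy⟩ := (AlgSp.yon S).map_surjective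
      ((AlgSp.yon S).map g ≫ AlgSp.yEquiv.symm x ≫ pullback.snd m p)
    -- the point of `R` under the two lifts
    have hbm : (AlgSp.yon S).map (b ≫ iO) ≫ p = (AlgSp.yon S).map y ≫ p := by
      rw [Functor.map_comp, Category.assoc, ← hem, ← Category.assoc, hb, ha', hy]
      simp only [Category.assoc, pullback.condition]
    obtain ⟨r, hr⟩ := (AlgSp.yon S).map_surjective (hp.isPullback.lift _ _ hbm)
    have hrt : r ≫ t = b ≫ iO := (AlgSp.yon S).map_injective (by
      rw [Functor.map_comp, hr, hp.isPullback.lift_fst])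
    have hrs : r ≫ s = y := (AlgSp.yon S).map_injective (by
      rw [Functor.map_comp, hr, hp.isPullback.lift_snd])
    let l := ht.lift r.left b.left (congrArg (fun z : V ⟶ U => z.left) hrt)
    let b' : V ⟶ Over.mk (i' ≫ U.hom) := Over.homMk (l ≫ s') (by
      change (l ≫ s') ≫ i' ≫ U.hom = V.hom
      rw [Category.assoc, ← reassoc_of% hs.w, ht.lift_fst_assoc, ← Over.w r, ← Over.w s])
    have hb' : b' ≫ iO = y := by
      ext1
      change (l ≫ s') ≫ i' = y.left
      rw [Category.assoc, ← hs.w, ht.lift_fst_assoc, ← hrs]; rfl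
    refine ⟨AlgSp.yEquiv ((AlgSp.yon S).map b'), ?_⟩
    change c.hom.app _ _ = (pullback m p).obj.map g.op x
    rw [← AlgSp.yEquiv_comp]
    apply AlgSp.yEquiv.symm.injective
    rw [Equiv.symm_apply_apply, hx]
    apply pullback.hom_ext
    · rw [Category.assoc, pullback.lift_fst, Category.assoc, ← cancel_mono m]
      simp only [Category.assoc]
      rw [hem, pullback.condition, ← Category.assoc, ← Functor.map_comp, hb', hy]
      simp only [Category.assoc]
    · rw [Category.assoc, pullback.lift_snd, Category.assoc, ← Functor.map_comp, hb', hy]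
  have : Epi c := (Sheaf.isLocallySurjective_iff_epi _).1 hcs
  have : IsIso c := isIso_of_mono_of_epi c
  have sq : IsPullback e ((AlgSp.yon S).map iO) m p :=
    IsPullback.of_iso_pullback ⟨hem⟩ (asIso c) (pullback.lift_fst _ _ _) (pullback.lift_snd _ _ _)
  have himm : AlgSp.RepWith @IsImmersion m := Groth.Agent.AlgSp.repWith_isImmersion_of_baseChange m p sq
    ((AlgSp.repWith_yon_map_iff _ iO).2 ‹IsImmersion i'›)
  refine ⟨⟨Sheaf.image f, Groth.Agent.AlgSpB.isAlgSpace_of_mono_representable X.property m himm.1⟩,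
    ObjectProperty.homMk m, e, himm, sq, fun h => ?_, fun h => ?_⟩
  · exact Groth.Agent.AlgSp.repWith_isClosedImmersion_of_baseChange m p sq
      ((AlgSp.repWith_yon_map_iff _ iO).2 h)
  · exact Groth.Agent.AlgSp.repWith_isOpenImmersion_of_baseChange m p sq
      ((AlgSp.repWith_yon_map_iff _ iO).2 h)

end Groth.Agent.S10233
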