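import Groth.Statements.S10235
import Groth.Agent.GrpdLib.FppfQuot
import Groth.Agent.S5690
import Groth.Agent.S4086

set_option autoImplicit false
universe u
open CategoryTheory CategoryTheory.Limits AlgebraicGeometry Topology TopologicalSpace
open AlgSp

namespace Groth.Agent.S10235

set_option backward.isDefEq.respectTransparency false
open Groth.Agent

/-- Let (U, R, s, t, c) be a groupoid scheme over a scheme S whose source and target maps s, t : R ⟶ U
are finite locally free and whose map j = (t, s) is an equivalence relation, and suppose that in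
each nonempty closed subset of U one can find a point u such that some affine open of U contains the
whole equivalence class t(s⁻¹{u}) of u. Then there are a scheme M over S and a finite locally free
morphism U ⟶ M over S such that the square with the two maps t, s : R ⟶ U over U ⟶ M is cartesian (R
= U ×_M U) and U ⟶ M exhibits h_M as the quotient of h_U by the pair h_R ⇉ h_U in the category of
fppf sheaves. -/
theorem result {S : Scheme.{u}} (G : Grpd.GroupoidScheme S)
    (hs : Mor2.IsFinLocFree G.s) (ht : Mor2.IsFinLocFree G.t)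
    (heq : AlgSp.IsEqvRel (Over.homMk G.s G.s_over : Over.mk G.pR ⟶ Over.mk G.pU) (Over.homMk G.t G.t_over : Over.mk G.pR ⟶ Over.mk G.pU))
    (h3 : ∀ Z : Set ↥G.U, IsClosed Z → Z.Nonempty →
      ∃ u ∈ Z, ∃ W : G.U.Opens, IsAffineOpen W ∧ ∀ r : ↥G.R, G.s r = u → G.t r ∈ W) :
    ∃ (M : Over S) (m : Over.mk G.pU ⟶ M), Mor2.IsFinLocFree m.left ∧ IsPullback G.t G.s m.left m.left ∧
      QuotSh.IsQuotient Scheme.fppfPrecoverage (Over.homMk G.s G.s_over : Over.mk G.pR ⟶ Over.mk G.pU) (Over.homMk G.t G.t_over : Over.mk G.pR ⟶ Over.mk G.pU) m := by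
  obtain ⟨h1, h2, h3'⟩ := hs
  have haff : ∀ x : ↥G.U, ∃ V : G.U.Opens, IsAffineOpen V ∧ G.t.base '' (G.s.base ⁻¹' {x}) ⊆ (V : Set ↥G.U) := by
    intro x
    obtain ⟨u, hu, W, hW, hrW⟩ := h3 (closure {x}) isClosed_closure ⟨x, subset_closure rfl⟩
    refine ⟨W, hW, ?_⟩
    rintro _ ⟨r, hr, rfl⟩
    have hcl : IsClosed (G.s '' closure {r}) := G.s.isClosedMap _ isClosed_closure
    have hsub : closure ({x} : Set ↥G.U) ⊆ G.s '' closure {r} :=
      hcl.closure_subset_iff.2 (Set.singleton_subset_iff.2 ⟨r, subset_closure rfl, hr⟩)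
    obtain ⟨r', hr', hru⟩ := hsub hu
    exact ((specializes_iff_mem_closure.2 hr').map G.t.continuous).mem_open W.2 (hrW r' hru)
  have : Mono G.j := ⟨fun {T} a b e => by
    have et : a ≫ G.t = b ≫ G.t := by
      simpa [Grpd.GroupoidScheme.j] using congrArg (· ≫ pullback.fst G.pU G.pU) e
    have es : a ≫ G.s = b ≫ G.s := by
      simpa [Grpd.GroupoidScheme.j] using congrArg (· ≫ pullback.snd G.pU G.pU) e
    let T' : Over S := Over.mk (a ≫ G.pR)
    let a' : T' ⟶ Over.mk G.pR := Over.homMk a rfl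
    let b' : T' ⟶ Over.mk G.pR := Over.homMk b (by
      show b ≫ G.pR = a ≫ G.pR
      rw [← G.t_over, reassoc_of% et])
    exact congrArg (fun k : T' ⟶ Over.mk G.pR => k.left)
      (heq.injective T' a' b' (Over.OverMorphism.ext et) (Over.OverMorphism.ext es))⟩
  obtain ⟨Y, q, w, ⟨hc⟩, -, -, hsurj, -, -⟩ := S5690.result G haff
  obtain ⟨hpb, hq⟩ := S4086.result S G ⟨h1, h2, h3'⟩ haff Y q w.symm
    (IsColimit.ofIsoColimit (Cofork.IsColimit.mk _ (fun c => hc.desc (Cofork.ofπ c.π c.condition.symm))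
      (fun c => hc.fac (Cofork.ofπ c.π c.condition.symm) WalkingParallelPair.one)
      (fun c m hm => hc.hom_ext (Cofork.coequalizer_ext _ (hm.trans
        (hc.fac (Cofork.ofπ c.π c.condition.symm) WalkingParallelPair.one).symm)))) (Iso.refl _))
  obtain ⟨m₀, hm₀⟩ := Cofork.IsColimit.desc' hc G.pU (G.s_over.trans G.t_over.symm)
  let M : Over S := Over.mk m₀
  let m : Over.mk G.pU ⟶ M := Over.homMk q hm₀
  obtain ⟨hq1, hq2, hq3⟩ := hq
  have : Flat m.left := hq2
  have : LocallyOfFinitePresentation m.left := hq3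
  have : Surjective m.left := hsurj
  exact ⟨M, m, ⟨hq1, hq2, hq3⟩, hpb, GrpdLib.isQuotient_of_isPullback _ _ m hpb⟩

end Groth.Agent.S10235
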