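import Groth.Statements.S10239
import Groth.Agent.AlgSpD.StalkStrict

set_option autoImplicit false
universe u
open CategoryTheory CategoryTheory.Limits AlgebraicGeometry Topology TopologicalSpace
open AlgSp

namespace Groth.Agent.S10239

/-- (1) ⇔ (4) ⇔ (5): let X be an algebraic space over a scheme S, x ∈ |X| and n ≥ 1 an integer. The
following are equivalent: (1) for every scheme U, etale h_U ⟶ X and u ∈ U over x the local ring of U
at u has at most n minimal primes, and for some such (U, u) exactly n; (4) for every such (U, u) the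
number of geometric branches of U at u is n; (5) for every geometric point x̄ over x the etale local
ring of X at x̄ has exactly n minimal primes. -/
theorem result {S : Scheme.{u}} (X : AlgSp.Space S) (x : AlgSp.Points X.obj)
    (n : ℕ) (hn : 1 ≤ n) :
    (((∀ (U : Over S) (a : (AlgSp.yon S).obj U ⟶ X.obj) (u : ↥U.left),
        AlgSp.RepWith @Etale a → AlgSp.Points.ofPt a u = x → (minimalPrimes ↥(U.left.presheaf.stalk u)).encard ≤ n) ∧
        AlgSp.HasAt (fun U u => (minimalPrimes ↥(U.presheaf.stalk u)).encard = n) X.obj x) ↔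
      (∀ (U : Over S) (a : (AlgSp.yon S).obj U ⟶ X.obj) (u : ↥U.left),
        AlgSp.RepWith @Etale a → AlgSp.Points.ofPt a u = x → Brnch.numGeomBranchesAt U.left u = n)) ∧
    ((∀ (U : Over S) (a : (AlgSp.yon S).obj U ⟶ X.obj) (u : ↥U.left),
        AlgSp.RepWith @Etale a → AlgSp.Points.ofPt a u = x → Brnch.numGeomBranchesAt U.left u = n) ↔
      ∀ p : AlgSp.FieldPt X.obj, p.IsGeometric → AlgSp.Points.mk p = x →
        (minimalPrimes ↥(AlgSp.OEtStalk p)).encard = n) := by
  open Groth.Agent in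
  obtain ⟨p₀, hp₀, hpx⟩ := AlgSpD.exists_geometric_rep X x
  refine ⟨⟨fun ⟨hle, V, b, v, hb, hv, hn'⟩ U a u ha hu => ?_, fun h => ?_⟩, ⟨fun h p hp hpx' => ?_, fun h U a u ha hu => ?_⟩⟩
  · refine le_antisymm (AlgSpD.numGeomBranchesAt_le X ha hu hle) ?_
    rw [AlgSpD.numGeomBranchesAt_eq X p₀ hp₀ ha (hu.trans hpx.symm),
      ← AlgSpD.numGeomBranchesAt_eq X p₀ hp₀ hb (hv.trans hpx.symm), ← hn']
    exact AlgSpD.encard_minimalPrimes_le_numGeomBranchesAt v
  · refine ⟨fun U a u ha hu => (AlgSpD.encard_minimalPrimes_le_numGeomBranchesAt u).trans (h U a u ha hu).le, ?_⟩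
    by_contra hne
    obtain ⟨U, a, u, ha, hu⟩ := AlgSpD.exists_chart X x
    have hlt : Brnch.numGeomBranchesAt U.left u ≤ ((n - 1 : ℕ) : ℕ∞) := by
      refine AlgSpD.numGeomBranchesAt_le X ha hu fun V b v hb hv => ?_
      have h1 : (minimalPrimes ↥(V.left.presheaf.stalk v)).encard ≤ (n : ℕ∞) :=
        (AlgSpD.encard_minimalPrimes_le_numGeomBranchesAt v).trans (h V b v hb hv).le
      obtain ⟨m, hm, hmn⟩ := ENat.le_coe_iff.1 h1
      have : m ≠ n := fun hm' => hne ⟨V, b, v, hb, hv, hm.trans (by rw [hm'])⟩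
      rw [hm]
      exact_mod_cast (by omega : m ≤ n - 1)
    rw [h U a u ha hu] at hlt
    have : n ≤ n - 1 := by exact_mod_cast hlt
    omega
  · obtain ⟨U, a, u, ha, hu⟩ := AlgSpD.exists_chart X x
    rw [← AlgSpD.numGeomBranchesAt_eq X p hp ha (hu.trans hpx'.symm)]
    exact h U a u ha hu
  · rw [AlgSpD.numGeomBranchesAt_eq X p₀ hp₀ ha (hu.trans hpx.symm)]
    exact h p₀ hp₀ hpx

end Groth.Agent.S10239
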