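import Groth.Statements.S10242
import Groth.Agent.AlgSp.SchImageRep
import Mathlib.AlgebraicGeometry.Properties

set_option autoImplicit false
universe u
open CategoryTheory CategoryTheory.Limits AlgebraicGeometry Topology TopologicalSpace
open AlgSp

namespace Groth.Agent.S10242

/-- Let X be a reduced algebraic space over a scheme S. Then the ring of global sections of the
structure sheaf of X (on the small etale site) is reduced, and if a global section f satisfies X =
V(f), meaning that its restriction to every scheme U etale over X has empty non-vanishing locus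
D(f|_U), then f = 0. -/
theorem result {S : Scheme.{u}} (X : AlgSp.Space S) (hX : AlgSp.IsReducedSp X.obj) :
    _root_.IsReduced ↥(AlgSp.gsectEt (AlgSp.OEt X.obj)) ∧
      ∀ f : ↥(AlgSp.gsectEt (AlgSp.OEt X.obj)),
        (∀ E : AlgSp.EtOver X.obj,
            E.obj.left.left.basicOpen ((limit.π (AlgSp.OEt X.obj).obj (Opposite.op E)) f).down = ⊥) →
          f = 0 := by
  have hred : ∀ E : AlgSp.EtOver X.obj, AlgebraicGeometry.IsReduced E.obj.left.left := fun E =>
    Groth.Agent.AlgSp.SchImageRep.isReduced_chart X.property hX E.obj.hom E.property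
  refine ⟨⟨fun f ⟨n, hn⟩ => ?_⟩, fun f hf => ?_⟩
  · refine Concrete.limit_ext _ _ _ fun j => ?_
    have : AlgebraicGeometry.IsReduced (Opposite.unop ((Over.forget S).op.obj ((AlgSp.EtOver.forget X.obj).op.obj j))) :=
      hred j.unop
    have h1 : ((limit.π (AlgSp.OEt X.obj).obj j) f) ^ n = 0 := by rw [← map_pow, hn, map_zero]
    rw [map_zero]
    apply ULift.down_injective
    exact eq_zero_of_pow_eq_zero (congrArg ULift.down h1)
  · refine Concrete.limit_ext _ _ _ fun j => ?_
    have : AlgebraicGeometry.IsReduced (Opposite.unop ((Over.forget S).op.obj ((AlgSp.EtOver.forget X.obj).op.obj j))) :=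
      hred j.unop
    rw [map_zero]
    apply ULift.down_injective
    exact AlgebraicGeometry.eq_zero_of_basicOpen_eq_bot _ (hf j.unop)

end Groth.Agent.S10242
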