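import Groth.Statements.S10245
import Groth.Agent.GrpdLib.FppfQuot
import Groth.Agent.GrpdLib.FiniteInAffine
import Groth.Agent.AlgSp.Quot
import Groth.Agent.AlgSpB.KernelPairGrpd
import Groth.Agent.S5690
import Groth.Agent.S4086
-- import your own Groth.Agent.* helpers here

set_option autoImplicit false
universe u
open CategoryTheory CategoryTheory.Limits MonoidalCategory CartesianMonoidalCategory MonObj AlgebraicGeometry Topology TopologicalSpace
open AlgSp

namespace Groth.Agent.S10245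

set_option backward.isDefEq.respectTransparency false
open Groth.Agent

variable {S : Scheme.{u}} {G X : Over S} [GrpObj G] (a : AlgGrp.Action G X)

theorem one_act_pts {T : Over S} (x : T ⟶ X) : lift (1 : T ⟶ G) x ≫ a.act = x := by
  have h : lift (1 : T ⟶ G) x = lift (toUnit T) x ≫ (η[G] ▷ X) := by
    rw [lift_whiskerRight, Hom.one_def]
  rw [h, Category.assoc, a.one_act, leftUnitor_hom, lift_snd]

theorem mul_act_pts {T : Over S} (g h : T ⟶ G) (x : T ⟶ X) :
    lift (g * h) x ≫ a.act = lift g (lift h x ≫ a.act) ≫ a.act := by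
  have h1 : lift (g * h) x = lift (lift g h) x ≫ (μ[G] ▷ X) := by
    rw [lift_whiskerRight, Hom.mul_def]
  rw [h1, Category.assoc, a.mul_act, lift_lift_associator_hom_assoc, lift_whiskerLeft_assoc]

theorem isEqvRel_of_free
    (hfree : ∀ (T : Over S) (g : T ⟶ G) (x : T ⟶ X), lift g x ≫ a.act = x → g = toUnit T ≫ η[G]) :
    AlgSp.IsEqvRel (snd G X) a.act := by
  constructor
  · intro T r r' ht hs
    obtain ⟨g, x, rfl⟩ : ∃ (g : T ⟶ G) (x : T ⟶ X), r = lift g x :=
      ⟨r ≫ fst _ _, r ≫ snd _ _, by apply CartesianMonoidalCategory.hom_ext <;> simp⟩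
    obtain ⟨g', x', rfl⟩ : ∃ (g : T ⟶ G) (x : T ⟶ X), r' = lift g x :=
      ⟨r' ≫ fst _ _, r' ≫ snd _ _, by apply CartesianMonoidalCategory.hom_ext <;> simp⟩
    rw [lift_snd, lift_snd] at hs
    subst hs
    have h1 := hfree T (g'⁻¹ * g) x (by
      rw [mul_act_pts, ht, ← mul_act_pts, inv_mul_cancel, one_act_pts])
    rw [← Hom.one_def, inv_mul_eq_one] at h1
    rw [h1]
  · intro T
    refine ⟨fun x => ⟨lift 1 x, one_act_pts a x, lift_snd _ _⟩, ?_, ?_⟩
    · rintro x y ⟨r, ht, hs⟩
      obtain ⟨g, z, rfl⟩ : ∃ (g : T ⟶ G) (z : T ⟶ X), r = lift g z :=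
        ⟨r ≫ fst _ _, r ≫ snd _ _, by apply CartesianMonoidalCategory.hom_ext <;> simp⟩
      rw [lift_snd] at hs
      subst hs
      refine ⟨lift g⁻¹ x, ?_, lift_snd _ _⟩
      rw [← ht, ← mul_act_pts, inv_mul_cancel, one_act_pts]
    · rintro x y w ⟨r, ht, hs⟩ ⟨r', ht', hs'⟩
      obtain ⟨g, z, rfl⟩ : ∃ (g : T ⟶ G) (z : T ⟶ X), r = lift g z :=
        ⟨r ≫ fst _ _, r ≫ snd _ _, by apply CartesianMonoidalCategory.hom_ext <;> simp⟩
      obtain ⟨h, z', rfl⟩ : ∃ (g : T ⟶ G) (z : T ⟶ X), r' = lift g z :=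
        ⟨r' ≫ fst _ _, r' ≫ snd _ _, by apply CartesianMonoidalCategory.hom_ext <;> simp⟩
      rw [lift_snd] at hs hs'
      subst hs hs'
      refine ⟨lift (g * h) z', ?_, lift_snd _ _⟩
      rw [mul_act_pts, ht', ht]

/-- Let G ⟶ S be a finite locally free group scheme over a scheme S acting on a scheme X over S by a : G
×_S X ⟶ X, freely on T-valued points for every S-scheme T. Assume one of the following: the
structure morphism X ⟶ S is affine; X admits an open immersion into some affine scheme; G ⟶ S is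
radicial (universally injective). Then the fppf quotient sheaf X/G is a scheme M: there is q : X ⟶ M
over S exhibiting h_M as the quotient of h_X by the projection and the action G ×_S X ⇉ X in fppf
sheaves; moreover the square formed by the action, the projection and q is cartesian (G ×_S X ≅ X
×_M X) and X ⟶ M has sections fppf locally on M, so that X ⟶ X/G is an fppf G-torsor. (The published
statement also allows X ⟶ S quasi-affine, projective or quasi-projective, or X an open subscheme of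
Proj of a graded ring; those cases are not covered by this row.) -/
theorem result {S : Scheme.{u}} (G X : Over S) [GrpObj G]
    (a : AlgGrp.Action G X) (hG : Mor2.IsFinLocFree G.hom)
    (hfree : ∀ (T : Over S) (g : T ⟶ G) (x : T ⟶ X), lift g x ≫ a.act = x → g = toUnit T ≫ η[G])
    (h3 : IsAffineHom X.hom ∨ (∃ (R : CommRingCat.{u}) (i : X.left ⟶ Spec R), IsOpenImmersion i) ∨
      UniversallyInjective G.hom) :
    ∃ (M : Over S) (q : X ⟶ M), QuotSh.IsQuotient Scheme.fppfPrecoverage (snd G X) a.act q ∧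
      IsPullback a.act.left (snd G X).left q.left q.left ∧
      NonAbH1.IsLocallyTrivialFor Scheme.fppfPrecoverage (Over.mk q.left) := by
  have heq := isEqvRel_of_free a hfree
  let sq := Groth.Agent.AlgSp.isPullback_yπ (snd G X) a.act heq
  let Γ := AlgSpB.kpGrpd sq
  obtain ⟨hG1, hG2, hG3⟩ := hG
  have hs : Mor2.IsFinLocFree (snd G X).left :=
    ⟨MorphismProperty.pullback_snd G.hom X.hom hG1, MorphismProperty.pullback_snd G.hom X.hom hG2,
      MorphismProperty.pullback_snd G.hom X.hom hG3⟩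
  have h1 : IsFinite Γ.s := hs.1
  have h2 : Flat Γ.s := hs.2.1
  have h3' : LocallyOfFinitePresentation Γ.s := hs.2.2
  have : Mono Γ.j := AlgSpB.mono_kpGrpd_j sq
  have hover : ∀ r : Γ.R, X.hom (Γ.t r) = X.hom (Γ.s r) := fun r => by
    show (a.act.left ≫ X.hom) r = ((snd G X).left ≫ X.hom) r
    rw [Over.w, Over.w]
  have haff : ∀ x : ↥Γ.U, ∃ V : Γ.U.Opens, IsAffineOpen V ∧
      Γ.t.base '' (Γ.s.base ⁻¹' {x}) ⊆ (V : Set ↥Γ.U) := by
    intro x
    have hfin : (Γ.t.base '' (Γ.s.base ⁻¹' {x})).Finite :=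
      (Γ.s.finite_preimage_singleton x).image _
    rcases h3 with hX | ⟨A, i, hi⟩ | hGu
    · obtain ⟨W, hW, hxW, -⟩ := exists_isAffineOpen_mem_and_subset (x := X.hom x) (U := ⊤) trivial
      refine ⟨X.hom ⁻¹ᵁ W, hW.preimage X.hom, ?_⟩
      rintro _ ⟨r, hr, rfl⟩
      show X.hom (Γ.t r) ∈ W
      rw [hover, show Γ.s r = x from hr]
      exact hxW
    · obtain ⟨f, hf, hfF⟩ := GrpdLib.exists_basicOpen_le_of_finite (isAffineOpen_top (Spec A))
        (U := i.opensRange) (hfin.image i)
        (by rintro _ ⟨y, -, rfl⟩; exact ⟨y, rfl⟩) (fun _ _ => trivial)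
      exact ⟨i ⁻¹ᵁ (Spec A).basicOpen f,
        ((isAffineOpen_top _).basicOpen f).preimage_of_isOpenImmersion _ hf,
        fun y hy => hfF ⟨y, hy, rfl⟩⟩
    · obtain ⟨W, hW, hxW, -⟩ := exists_isAffineOpen_mem_and_subset (x := x) (U := ⊤) trivial
      refine ⟨W, hW, ?_⟩
      rintro _ ⟨r, hr, rfl⟩
      have : UniversallyInjective (snd G X).left := MorphismProperty.pullback_snd G.hom X.hom hGu
      have hinj : Function.Injective Γ.s := Scheme.Hom.injective (snd G X).left
      have he : Γ.s (Γ.e x) = x := by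
        rw [← Scheme.Hom.comp_apply, Γ.e_s]; rfl
      have he' : Γ.t (Γ.e x) = x := by
        rw [← Scheme.Hom.comp_apply, Γ.e_t]; rfl
      rw [hinj ((show Γ.s r = x from hr).trans he.symm), he']
      exact hxW
  obtain ⟨Y, q, w, ⟨hc⟩, -, -, hsurj, -, -⟩ := S5690.result Γ haff
  obtain ⟨hpb, hq⟩ := S4086.result S Γ ⟨h1, h2, h3'⟩ haff Y q w.symm
    (IsColimit.ofIsoColimit (Cofork.IsColimit.mk _ (fun c => hc.desc (Cofork.ofπ c.π c.condition.symm))
      (fun c => hc.fac (Cofork.ofπ c.π c.condition.symm) WalkingParallelPair.one)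
      (fun c m hm => hc.hom_ext (Cofork.coequalizer_ext _ (hm.trans
        (hc.fac (Cofork.ofπ c.π c.condition.symm) WalkingParallelPair.one).symm)))) (Iso.refl _))
  obtain ⟨m₀, hm₀⟩ := Cofork.IsColimit.desc' hc Γ.pU (Γ.s_over.trans Γ.t_over.symm)
  let M : Over S := Over.mk m₀
  let m : X ⟶ M := Over.homMk q hm₀
  obtain ⟨hq1, hq2, hq3⟩ := hq
  have : Flat m.left := hq2
  have : LocallyOfFinitePresentation m.left := hq3
  have : Surjective m.left := hsurj
  refine ⟨M, m, GrpdLib.isQuotient_of_isPullback _ _ m hpb, hpb, Presieve.singleton m.left,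
    m.left.singleton_mem_fppfPrecoverage, ?_⟩
  intro W f hf
  cases hf
  exact ⟨𝟙 _, Category.id_comp _⟩

end Groth.Agent.S10245
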