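import Groth.Statements.S10246
import Groth.Agent.AlgSp.InfSpace
import Groth.Agent.AlgSpB.Points
-- import your own Groth.Agent.* helpers here

set_option autoImplicit false
universe u
open CategoryTheory CategoryTheory.Limits AlgebraicGeometry Topology TopologicalSpace
open AlgSp

namespace Groth.Agent.S10246

set_option backward.isDefEq.respectTransparency false

theorem exists_toAffine {W V : Scheme.{u}} [IsAffine V] (ψ : Γ(V, ⊤) ⟶ Γ(W, ⊤)) :
    ∃ g : W ⟶ V, g.appTop = ψ := by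
  refine ⟨W.toSpecΓ ≫ Spec.map ψ ≫ V.isoSpec.inv, ?_⟩
  rw [Scheme.Hom.comp_appTop, Scheme.Hom.comp_appTop, Scheme.toSpecΓ_appTop, Category.assoc,
    Scheme.ΓSpecIso_naturality, ← Category.assoc]
  simp [Scheme.isoSpec]

/-- Let X be an algebraic space over a terminal base scheme (so that morphisms over the base are all
morphisms) and T an affine scheme. Then f ↦ f♯ is a bijection from morphisms X ⟶ T to ring maps Γ(T,
O_T) ⟶ Γ(X, O_X), where Γ(X, O_X) is the ring of global sections of the structure sheaf on the small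
etale site and f♯ is characterised by: for every scheme U etale over X, following f♯ by the
restriction Γ(X, O_X) ⟶ Γ(U, O_U) gives the map on global sections of the induced morphism U ⟶ T. -/
theorem result {S : Scheme.{u}} (hS : IsTerminal S) (X : AlgSp.Space S)
    (T : Over S) [IsAffine T.left] (φ : Γ(T.left, ⊤) →+* ↥(AlgSp.gsectEt (AlgSp.OEt X.obj))) :
    ∃! f : X.obj ⟶ (AlgSp.yon S).obj T,
      ∀ (E : AlgSp.EtOver X.obj) (r : Γ(T.left, ⊤)),
        ((limit.π (AlgSp.OEt X.obj).obj (Opposite.op E)) (φ r)).down =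
          ((AlgSp.yon S).preimage (E.obj.hom ≫ f)).left.appTop r := by
  let ψ : ∀ E : AlgSp.EtOver X.obj, Γ(T.left, ⊤) ⟶ Γ(E.obj.left.left, ⊤) := fun E =>
    CommRingCat.ofHom ((ULift.ringEquiv.toRingHom).comp
      ((limit.π (AlgSp.OEt X.obj).obj (Opposite.op E)).hom.comp φ))
  choose gl hgl using fun E : AlgSp.EtOver X.obj => exists_toAffine (ψ E)
  let g : ∀ E : AlgSp.EtOver X.obj, E.obj.left ⟶ T := fun E => Over.homMk (gl E) (hS.hom_ext _ _)
  have hnat : ∀ {E' E : AlgSp.EtOver X.obj} (k : E' ⟶ E), k.hom.left ≫ g E = g E' := by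
    intro E' E k
    refine Over.OverMorphism.ext (ext_of_isAffine ?_)
    change (k.hom.left.left ≫ gl E).appTop = (gl E').appTop
    rw [Scheme.Hom.comp_appTop, hgl, hgl]
    ext r
    exact congrArg ULift.down
      (ConcreteCategory.congr_hom (limit.w (AlgSp.OEt X.obj).obj k.op) (φ r))
  obtain ⟨U, p, hp, hps⟩ := X.property.atlas
  let EU : AlgSp.EtOver X.obj := AlgSp.EtOver.mk p hp
  -- compatibility over any chart
  have hover : ∀ (E : AlgSp.EtOver X.obj) (Z : Over S) (a : Z ⟶ E.obj.left) (b : Z ⟶ U),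
      (AlgSp.yon S).map a ≫ E.obj.hom = (AlgSp.yon S).map b ≫ p → a ≫ g E = b ≫ g EU := by
    intro E Z a b hab
    obtain ⟨R, f₁, f₂, sq⟩ := Groth.Agent.AlgSpB.exists_pullback_yon E.property.1 p
    have : Etale f₁.left := hp.2 _ _ _ sq.flip
    let ER : AlgSp.EtOver X.obj := AlgSp.EtOver.mk ((AlgSp.yon S).map f₁ ≫ E.obj.hom)
      ((AlgSp.RepWith _).comp_mem _ _ ((AlgSp.repWith_yon_map_iff _ _).2 ‹_›) E.property)
    let k₁ : ER ⟶ E := AlgSp.EtOver.homMk f₁ rfl
    let k₂ : ER ⟶ EU := AlgSp.EtOver.homMk f₂ sq.w.symm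
    obtain ⟨l, hl⟩ := (AlgSp.yon S).map_surjective (sq.lift _ _ hab)
    have h1 : l ≫ f₁ = a := (AlgSp.yon S).map_injective (by rw [Functor.map_comp, hl, sq.lift_fst])
    have h2 : l ≫ f₂ = b := (AlgSp.yon S).map_injective (by rw [Functor.map_comp, hl, sq.lift_snd])
    have e1 : f₁ ≫ g E = g ER := hnat k₁
    have e2 : f₂ ≫ g EU = g ER := hnat k₂
    rw [← h1, ← h2, Category.assoc, Category.assoc, e1, e2]
  obtain ⟨f, hf⟩ := Groth.Agent.AlgSp.InfSpace.exists_desc hp hps ((AlgSp.yon S).map (g EU)) fun Z a b hab => by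
    obtain ⟨a', rfl⟩ := (AlgSp.yon S).map_surjective a
    obtain ⟨b', rfl⟩ := (AlgSp.yon S).map_surjective b
    rw [← Functor.map_comp, ← Functor.map_comp, hover EU Z a' b' hab]
  have hfE : ∀ E : AlgSp.EtOver X.obj, E.obj.hom ≫ f = (AlgSp.yon S).map (g E) := by
    intro E
    obtain ⟨R, f₁, f₂, sq⟩ := Groth.Agent.AlgSpB.exists_pullback_yon E.property.1 p
    have : Etale f₁.left := hp.2 _ _ _ sq.flip
    have : Surjective f₁.left := hps.2 _ _ _ sq.flip
    refine Groth.Agent.AlgSp.InfSpace.hom_ext_cover_sp (p := (AlgSp.yon S).map f₁)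
      ((AlgSp.repWith_yon_map_iff _ _).2 ‹_›) ((AlgSp.repWith_yon_map_iff _ _).2 ‹_›) ?_
    rw [← Category.assoc, sq.w, Category.assoc, hf, ← Functor.map_comp, ← Functor.map_comp,
      hover E R f₁ f₂ sq.w]
  refine ⟨f, fun E r => ?_, fun f' hf' => ?_⟩
  · rw [hfE E, Functor.preimage_map]
    exact (ConcreteCategory.congr_hom (hgl E) r).symm
  · refine Groth.Agent.AlgSp.InfSpace.hom_ext_cover_sp hp hps ?_
    rw [hf, ← Functor.map_preimage (AlgSp.yon S) (p ≫ f')]
    congr 1
    refine Over.OverMorphism.ext (ext_of_isAffine ?_)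
    change ((AlgSp.yon S).preimage (EU.obj.hom ≫ f')).left.appTop = (gl EU).appTop
    rw [hgl]
    ext r
    exact (hf' EU r).symm

end Groth.Agent.S10246
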