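import Groth.Statements.S10247
import Groth.Agent.AlgSpD.EtSite

set_option autoImplicit false
universe u
open CategoryTheory CategoryTheory.Limits AlgebraicGeometry Topology TopologicalSpace
open AlgSp

namespace Groth.Agent.S10247

theorem mem_basicOpen_or (Y : Scheme.{u}) (s : Γ(Y, ⊤)) (x : ↥Y) :
    x ∈ Y.basicOpen s ∨ x ∈ Y.basicOpen (1 - s) := by
  rw [Scheme.mem_basicOpen_top, Scheme.mem_basicOpen_top, map_sub, map_one]
  exact IsLocalRing.isUnit_or_isUnit_one_sub_self _

/-- Let X be an algebraic space over a scheme S. Together with its structure sheaf O_X, the small etale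
site of X is a locally ringed site: for every scheme U etale over X and every global function f on U
there is a covering sieve of U in the small etale site along each of whose arrows f or 1 - f pulls
back to a unit, and whenever 0 = 1 holds in the ring of global functions of U the empty sieve covers
U. -/
theorem result {S : Scheme.{u}} (X : AlgSp.Space S) :
    ModSite.IsLocallyRinged (AlgSp.etTop X.obj) (AlgSp.OEt X.obj) := by
  constructor
  · intro E f
    let T : Sieve E :=
      { arrows := fun V g => IsUnit (((AlgSp.OEt X.obj).obj.map g.op).hom f) ∨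
          IsUnit (((AlgSp.OEt X.obj).obj.map g.op).hom (1 - f))
        downward_closed := fun {V W g} hg h => by
          simp only [op_comp, Functor.map_comp, CommRingCat.hom_comp, RingHom.comp_apply]
          exact hg.imp (fun h' => h'.map _) (fun h' => h'.map _) }
    refine ⟨T, (AlgSpD.mem_etTop_iff T).2 fun x => ?_, fun V g hg => hg⟩
    -- restriction to an open where `s` is a unit
    have key : ∀ s : (AlgSp.OEt X.obj).obj.obj (Opposite.op E), x ∈ E.obj.left.left.basicOpen s.down →
        ∃ (E' : AlgSp.EtOver X.obj) (g : E' ⟶ E), IsUnit (((AlgSp.OEt X.obj).obj.map g.op).hom s) ∧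
          x ∈ Set.range g.hom.left.left := by
      intro s hx
      let W := E.obj.left.left.basicOpen s.down
      let j : Over.mk (W.ι ≫ E.obj.left.hom) ⟶ E.obj.left := Over.homMk W.ι rfl
      refine ⟨AlgSp.EtOver.mk ((AlgSp.yon S).map j ≫ E.obj.hom) ((AlgSp.RepWith _).comp_mem _ _
        ((AlgSp.repWith_yon_map_iff _ _).2 (inferInstanceAs (Etale W.ι))) E.property),
        AlgSp.EtOver.homMk j rfl, ?_, ⟨⟨x, hx⟩, rfl⟩⟩
      have h : IsUnit (W.ι.appTop.hom s.down) := by
        refine RingedSpace.isUnit_of_isUnit_germ _ _ _ fun z hz => ?_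
        refine (Scheme.mem_basicOpen _ _ z hz).1 ?_
        rw [← Scheme.preimage_basicOpen_top]
        exact z.2
      exact h.map (ULift.ringEquiv.symm : _ ≃+* ULift.{u + 1} Γ((W.toScheme), ⊤))
    rcases mem_basicOpen_or E.obj.left.left f.down x with hx | hx
    · obtain ⟨E', g, h1, h2⟩ := key f hx
      exact ⟨E', g, Or.inl h1, h2⟩
    · obtain ⟨E', g, h1, h2⟩ := key (1 - f) hx
      exact ⟨E', g, Or.inr h1, h2⟩
  · intro E h
    refine (AlgSpD.mem_etTop_iff _).2 fun x => ?_
    have h' : (0 : Γ(E.obj.left.left, ⊤)) = 1 := congrArg ULift.down h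
    have := congrArg (E.obj.left.left.presheaf.germ ⊤ x trivial).hom h'
    rw [map_zero, map_one] at this
    exact absurd this zero_ne_one

end Groth.Agent.S10247
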