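import Groth.Statements.S1025
import Groth.Agent.CBC.Nhd

import Groth.Agent.CBC.Deg0Thms

set_option autoImplicit false
universe u
open CategoryTheory AlgebraicGeometry
open Perf

namespace Groth.Agent.S1025

/-- Let f : X ⟶ S be proper and of finite presentation and F an O_X-module of finite presentation which
is flat over S. For each i the function s ↦ dim_{κ(s)} Hⁱ(X_s, F_s) (cohomology of the pullback of F
to the scheme-theoretic fibre) is upper semicontinuous: for every n the set of points where it is <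
n is open. -/
theorem result {X S : Scheme.{u}} (f : X ⟶ S) [IsProper f] [LocallyOfFinitePresentation f]
    (F : X.Modules) (hF : CohB1.IsFP F) (hflat : FlatMod.IsFlatOver f F) (i n : ℕ) :
    IsOpen {s : S | PerfAux.betti f F s i < n} := by
  haveI : F.IsQuasicoherent := CBC.isQuasicoherent_of_fp hF
  refine isOpen_iff_forall_mem_open.2 fun s hs => ?_
  obtain ⟨N, hsN⟩ := CBC.exists_nhd hF hflat s
  have := (N.w i).fp
  obtain ⟨O, hO, hOo, hxO⟩ := eventually_nhds_iff.1
    (CBC.kerRank_le_eventually (N.w i).u (N.hV.primeIdealOf ⟨s, hsN⟩))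
  refine ⟨N.hV.fromSpec '' O, ?_, N.hV.fromSpec.isOpenEmbedding.isOpenMap O hOo,
    ⟨_, hxO, N.hV.fromSpec_primeIdealOf ⟨s, hsN⟩⟩⟩
  rintro _ ⟨x, hx, rfl⟩
  have hs' : CohIII.fiberRank f F i s < n := hs
  rw [CBC.fiberRank_eq N.hV s hsN N.D (N.w i)] at hs'
  change CohIII.fiberRank f F i (CBC.pt N.hV x) < n
  rw [← CBC.kerRank_pt N.hV N.D (N.w i)]
  exact (hO x hx).trans_lt hs' 

end Groth.Agent.S1025
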