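import Groth.Statements.S10250
import Groth.Agent.AlgSpD.HasAt

set_option autoImplicit false
universe u
open CategoryTheory CategoryTheory.Limits AlgebraicGeometry Topology TopologicalSpace
open AlgSp

namespace Groth.Agent.S10250

/-- Let f : X ⟶ Y be an etale and surjective morphism of algebraic spaces over a scheme S. Then X and Y
have the same dimension (the dimension of an algebraic space being the supremum of the Krull
dimensions of the schemes etale over it). -/
theorem result {S : Scheme.{u}} {X Y : AlgSp.Space S} (f : X ⟶ Y)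
    (hf : AlgSp.IsEtaleMor f.hom) (hs : AlgSp.IsSurjectiveMor f.hom) :
    AlgSp.dim X.obj = AlgSp.dim Y.obj := by
  refine le_antisymm (iSup_le fun U => iSup_le fun a => iSup_le fun ha =>
    le_iSup_of_le U (le_iSup₂_of_le (a ≫ f.hom) (hf a ha) le_rfl)) ?_
  refine iSup_le fun V => iSup_le fun b => iSup_le fun hb => ?_
  obtain ⟨U₀, a₀, ha₀, has₀⟩ := X.property.atlas
  obtain ⟨R, p, h, sq⟩ := AlgSpB.exists_pullback_yon (Y.property.representable_from_yon (a₀ ≫ f.hom)) b
  have : Etale h.left := (hf a₀ ha₀).2 _ _ _ sq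
  have : Etale p.left := hb.2 _ _ _ sq.flip
  have : Surjective h.left := ⟨fun v => by
    obtain ⟨x, hx⟩ := hs (AlgSp.Points.ofPt b v)
    obtain ⟨u, rfl⟩ := AlgSpB.surjective_ofPt has₀ x
    rw [AlgSp.Points.map_ofPt] at hx
    obtain ⟨r, -, hr⟩ := (AlgSpB.ofPt_eq_ofPt_iff sq u v).1 hx
    exact ⟨r, hr⟩⟩
  exact (AlgSpD.topologicalKrullDim_le_of_surjective_etale h.left).trans
    (le_iSup_of_le R (le_iSup₂_of_le _ (AlgSpB.repWith_etale_map_comp p ha₀) le_rfl))

end Groth.Agent.S10250
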