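import Groth.Statements.S10252
import Groth.Agent.AlgSpD.EtaleRes
-- import your own Groth.Agent.* helpers here

set_option autoImplicit false
universe u
open CategoryTheory CategoryTheory.Limits AlgebraicGeometry Topology TopologicalSpace
open AlgSp

namespace Groth.Agent.S10252

set_option backward.isDefEq.respectTransparency false
set_option backward.isDefEq.respectTransparency.types false

/-- Exactness clause, for a representable etale morphism: let f : X ⟶ Y be a representable etale
morphism of algebraic spaces over a scheme S. Then the pullback functor f^* from O_Y-modules to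
O_X-modules on the small etale sites is exact: it preserves finite limits (finite colimits being
preserved because it is a left adjoint). (The published statement is for every etale morphism of
algebraic spaces and also identifies f^* with restriction along the functor (U ⟶ X) ↦ (U ⟶ X ⟶ Y);
this row records exactness for representable f, where f^* is the left adjoint of the direct image V
↦ (V ×_Y X).) -/
theorem result {S : Scheme.{u}} {X Y : AlgSp.Space S} (f : X ⟶ Y)
    (hrep : AlgSp.Representable f.hom) (hf : AlgSp.IsEtaleMor f.hom)
    [(SheafOfModules.pushforward.{u + 1} (AlgSp.bcRingHom hrep)).IsRightAdjoint] :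
    PreservesFiniteLimits (AlgSp.pullModEt hrep) := by
  have : PreservesFiniteLimits
      ((Groth.Agent.AlgSpD.EtaleRes.post hf).sheafPushforwardContinuous AddCommGrpCat.{u + 1}
        (AlgSp.etTop X.obj) (AlgSp.etTop Y.obj)) := by
    have : PreservesFiniteLimits ((Groth.Agent.AlgSpD.EtaleRes.post hf).sheafPushforwardContinuous AddCommGrpCat.{u + 1}
        (AlgSp.etTop X.obj) (AlgSp.etTop Y.obj) ⋙ sheafToPresheaf (AlgSp.etTop X.obj) AddCommGrpCat.{u + 1}) :=
      inferInstanceAs (PreservesFiniteLimits (sheafToPresheaf (AlgSp.etTop Y.obj) AddCommGrpCat.{u + 1} ⋙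
        (Functor.whiskeringLeft _ _ _).obj (Groth.Agent.AlgSpD.EtaleRes.post hf).op))
    exact ⟨fun J _ _ => preservesLimitsOfShape_of_reflects_of_preserves _ (sheafToPresheaf (AlgSp.etTop X.obj) AddCommGrpCat.{u + 1})⟩
  have : PreservesFiniteLimits (Groth.Agent.AlgSpD.EtaleRes.Res hf ⋙ SheafOfModules.toSheaf _) :=
    inferInstanceAs (PreservesFiniteLimits (SheafOfModules.toSheaf (AlgSp.OEtRing Y.obj) ⋙
      (Groth.Agent.AlgSpD.EtaleRes.post hf).sheafPushforwardContinuous AddCommGrpCat.{u + 1}
        (AlgSp.etTop X.obj) (AlgSp.etTop Y.obj)))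
  have : PreservesFiniteLimits (Groth.Agent.AlgSpD.EtaleRes.Res hf) :=
    ⟨fun J _ _ => preservesLimitsOfShape_of_reflects_of_preserves _ (SheafOfModules.toSheaf _)⟩
  exact preservesFiniteLimits_of_natIso (Groth.Agent.AlgSpD.EtaleRes.pullIso hrep hf).symm

end Groth.Agent.S10252
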