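import Groth.Statements.S10256
import Groth.Agent.AlgSpD.StalkSupport
-- import your own Groth.Agent.* helpers here

set_option autoImplicit false
universe u
open CategoryTheory CategoryTheory.Limits AlgebraicGeometry Topology TopologicalSpace
open AlgSp

namespace Groth.Agent.S10256

/-- Let X be an algebraic space over a scheme S, F an abelian sheaf on the small etale site of X and x ∈
|X|. Then x lies in the support of F, in the sense that the stalk F_x̄ is nonzero for some geometric
point x̄ over x, if and only if x is the image of a point u of some U etale over X lying in the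
support of some section σ ∈ F(U), i.e. such that σ does not restrict to zero on any V ⟶ U whose
image contains u. (The published definition of the support allows any, equivalently some, geometric
point over x; this row uses the existential form and does not assert that the two readings agree.) -/
theorem result {S : Scheme.{u}} (X : AlgSp.Space S) (F : AlgSp.AbEt X.obj)
    (x : AlgSp.Points X.obj) :
    (∃ p : AlgSp.FieldPt X.obj, p.IsGeometric ∧ AlgSp.Points.mk p = x ∧ ¬ IsZero (AlgSp.stalkEt p F)) ↔
      ∃ (U : AlgSp.EtOver X.obj) (σ : ↥(F.obj.obj (Opposite.op U))) (u : ↥U.obj.left.left),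
        AlgSp.Points.ofPt U.obj.hom u = x ∧
          ∀ (V : AlgSp.EtOver X.obj) (φ : V ⟶ U), (F.obj.map φ.op).hom σ = 0 →
            u ∉ Set.range (fun v => φ.hom.left.left v) := by
  open Groth.Agent in
  constructor
  · rintro ⟨q, hq, rfl, h⟩
    obtain ⟨U, l, σ, hσ⟩ := (AlgSpD.not_isZero_stalk_iff F q hq).1 h
    refine ⟨U, σ, l.1.left (IsLocalRing.closedPoint q.K), AlgSpD.ofPt_lift q l, fun V φ h0 hu => hσ ?_⟩
    exact (AlgSpD.mem_vanishLocus_iff F σ q hq l).2 ((AlgSpD.map_eq_zero_iff_subset F σ φ).1 h0 hu)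
  · rintro ⟨U, σ, u, rfl, hu⟩
    obtain ⟨q, hq, l, hl, hqm⟩ := AlgSpD.exists_geometric_lift X U u
    refine ⟨q, hq, hqm, (AlgSpD.not_isZero_stalk_iff F q hq).2 ⟨U, l, σ, fun h0 => ?_⟩⟩
    have hm := (AlgSpD.mem_vanishLocus_iff F σ q hq l).1 h0
    obtain ⟨V, g, hg, w, hw⟩ : ∃ (V : AlgSp.EtOver X.obj) (g : V ⟶ U) (_ : (F.obj.map g.op).hom σ = 0),
        l.1.left (IsLocalRing.closedPoint q.K) ∈ Set.range g.hom.left.left := by
      obtain ⟨V, hV⟩ := Set.mem_iUnion.1 hm
      obtain ⟨g, hg'⟩ := Set.mem_iUnion.1 hV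
      obtain ⟨hg, hw⟩ := Set.mem_iUnion.1 hg'
      exact ⟨V, g, hg, hw⟩
    exact hu V g hg ⟨w, hw.trans hl⟩

end Groth.Agent.S10256
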