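import Groth.Statements.S10257
import Groth.Agent.AlgSpD.StalkSupport
-- import your own Groth.Agent.* helpers here

set_option autoImplicit false
universe u
open CategoryTheory CategoryTheory.Limits AlgebraicGeometry Topology TopologicalSpace
open AlgSp

namespace Groth.Agent.S10257

/-- Let X be an algebraic space over a scheme S and O' a sheaf of commutative rings on the small etale
site of X. Then the support of O', the set of points x ∈ |X| such that the stalk O'_x̄ is not the
zero ring for some geometric point x̄ over x, is closed in |X|. (The published definition of the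
support allows any, equivalently some, geometric point over x; this row uses the existential form
and does not assert that the two readings agree.) -/
theorem result {S : Scheme.{u}} (X : AlgSp.Space S)
    (O' : AlgSp.EtSh X.obj CommRingCat.{u + 1}) :
    IsClosed {x : AlgSp.Points X.obj |
      ∃ p : AlgSp.FieldPt X.obj, p.IsGeometric ∧ AlgSp.Points.mk p = x ∧ Nontrivial ↥(AlgSp.stalkEt p O')} := by
  open Groth.Agent in
  rw [← isOpen_compl_iff, isOpen_iff_forall_mem_open]
  intro x hx
  obtain ⟨U₀, a, u, ha, rfl⟩ := AlgSpD.exists_chart X x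
  let E₀ : AlgSp.EtOver X.obj := AlgSp.EtOver.mk a ha
  obtain ⟨q, hq, l, -, hqm⟩ := AlgSpD.exists_geometric_lift X E₀ u
  have h1 : ¬ Nontrivial ↥(AlgSp.stalkEt q O') := fun h => hx ⟨q, hq, hqm, h⟩
  rw [AlgSpD.nontrivial_stalk_iff O' q hq] at h1
  push Not at h1
  obtain ⟨U, lU, hU⟩ := h1
  refine ⟨Set.range (AlgSp.Points.ofPt U.obj.hom), ?_, ?_, ?_⟩
  · rintro _ ⟨w, rfl⟩ ⟨q', hq', hq'm, hn⟩
    obtain ⟨c, hc, -⟩ := AlgSpB.exists_lift_geometric U.property q' hq' w hq'm.symm
    exact not_nontrivial_iff_subsingleton.2 hU ((AlgSpD.nontrivial_stalk_iff O' q' hq').1 hn U ⟨c, hc⟩)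
  · exact (AlgSpB.isOpenMap_ofPt U.property).isOpen_range
  · exact ⟨lU.1.left (IsLocalRing.closedPoint q.K), (AlgSpD.ofPt_lift q lU).trans hqm⟩

end Groth.Agent.S10257
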