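import Groth.Statements.S10261
import Groth.Agent.AlgSpCov.EtaleMono
import Groth.Agent.AlgSp.UnivInj
import Groth.Agent.AlgSpB.Diag

set_option autoImplicit false
universe u
open CategoryTheory CategoryTheory.Limits AlgebraicGeometry
open AlgSp

namespace Groth.Agent.S10261

set_option backward.isDefEq.respectTransparency false
open Groth.Agent.AlgSpCov

/-- An etale and universally injective morphism of algebraic spaces is an open immersion. -/
theorem result {S : Scheme.{u}} {X Y : AlgSp.Space S}
    (f : X ⟶ Y) (het : AlgSp.IsEtaleMor f.hom) (hinj : AlgSp.IsUnivInjectiveMor f.hom) :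
    AlgSp.RepWith @IsOpenImmersion f.hom := by
  have sq := IsPullback.of_hasPullback f.hom f.hom
  have hP := AlgSp.isAlgSpace_pullback Y.property X.property X.property f.hom f.hom
  have hfst : AlgSp.IsEtaleMor (pullback.fst f.hom f.hom) :=
    (isEtaleMor_iff_locP_etale hP X.property).2
      (locP_baseChange etaleLocal_etale X.property Y.property sq.flip (locP_etale_of_isEtaleMor het))
  have hd : AlgSp.IsEtaleMor (pullback.diagonal f.hom) := by
    refine (isEtaleMor_iff_locP_etale X.property hP).2 fun U V a b h ha hb w => ?_
    refine (repWith_yon_map_iff _ _).1 (repWith_etale_cancel _ (b ≫ pullback.fst f.hom f.hom) (hfst b hb) ?_)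
    rw [← Category.assoc, ← w, Category.assoc, pullback.diagonal_fst, Category.comp_id]
    exact ha
  have hs := (AlgSp.univInjective_tfae X.property f.hom).2.1 hinj
  have : IsIso (pullback.diagonal f.hom) := isIso_of_mono_isEtaleMor X.property _ hd hs
  have : Mono f.hom := (pullback.isIso_diagonal_iff f.hom).1 ‹_›
  exact repWith_isOpenImmersion_of_mono_isEtaleMor X.property Y.property f.hom het

end Groth.Agent.S10261
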