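import Groth.Statements.S10263
import Groth.Agent.AlgSpCov.Listed
import Groth.Agent.AlgSp.LocPFin

set_option autoImplicit false
universe u
open CategoryTheory CategoryTheory.Limits AlgebraicGeometry
open AlgSp

namespace Groth.Agent.S10263

/-- If the composite X -> Y -> Z is unramified then X -> Y is unramified. -/
theorem result {S : Scheme.{u}} {X Y Z : AlgSp.Space S} (f : X ⟶ Y) (g : Y ⟶ Z)
    (h : AlgSp.LocP (@LocallyOfFiniteType ⊓ @FormallyUnramified) (f ≫ g).hom) :
    AlgSp.LocP (@LocallyOfFiniteType ⊓ @FormallyUnramified) f.hom :=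
  Groth.Agent.AlgSp.locP_of_comp (Q := ⊤) (AlgSpCov.standard_unramified).etaleLocal
    (fun _ _ _ e h' he _ => have : LocallyOfFiniteType (e ≫ h') := he.1
      have : FormallyUnramified (e ≫ h') := he.2
      ⟨locallyOfFiniteType_of_comp e h', FormallyUnramified.of_comp e h'⟩)
    Z.property f.hom g.hom h (fun _ _ _ _ _ _ _ _ => trivial)

end Groth.Agent.S10263
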