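import Groth.Statements.S10265
import Groth.Agent.AlgSpCov.Listed

set_option autoImplicit false
universe u
open CategoryTheory CategoryTheory.Limits AlgebraicGeometry
open AlgSp

namespace Groth.Agent.S10265

/-- Whenever a morphism of algebraic spaces is etale, it is, etale locally on both source and target,
smooth, flat, unramified, locally quasi-finite, locally of finite type and locally of finite
presentation. -/
theorem result {S : Scheme.{u}} {X Y : AlgSp.Space S} (f : X ⟶ Y) (hf : AlgSp.IsEtaleMor f.hom) :
    AlgSp.LocP (@LocallyQuasiFinite ⊓ @LocallyOfFiniteType) f.hom ∧ AlgSp.LocP @Smooth f.hom ∧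
    AlgSp.LocP @Flat f.hom ∧ AlgSp.LocP @LocallyOfFinitePresentation f.hom ∧
    AlgSp.LocP @LocallyOfFiniteType f.hom ∧ AlgSp.LocP (@LocallyOfFiniteType ⊓ @FormallyUnramified) f.hom := by
  have h : AlgSp.LocP @Etale f.hom := AlgSpCov.locP_etale_of_isEtaleMor hf
  have H : ∀ {P : MorphismProperty Scheme.{u}}, AlgSpCov.Standard P → AlgSp.LocP P f.hom :=
    fun hP _ _ a b h' ha hb w => hP.of_etale _ (h a b h' ha hb w)
  exact ⟨H AlgSpCov.standard_locallyQuasiFinite, H AlgSpCov.standard_smooth, H AlgSpCov.standard_flat,
    H AlgSpCov.standard_locallyOfFinitePresentation, H AlgSpCov.standard_locallyOfFiniteType,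
    H AlgSpCov.standard_unramified⟩

end Groth.Agent.S10265
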