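import Groth.Statements.S10269
import Groth.Agent.AlgSpD.IntegralMor

set_option autoImplicit false
universe u
open CategoryTheory CategoryTheory.Limits AlgebraicGeometry
open AlgSp

namespace Groth.Agent.S10269

/-- A finite morphism of algebraic spaces is integral; an integral morphism locally of finite type is
finite. -/
theorem result {S : Scheme.{u}} {X Y : AlgSp.Space S} (f : X ⟶ Y) :
    (AlgSp.IsFiniteMor f.hom → AlgSp.IsIntegralMor f.hom) ∧
    (AlgSp.IsIntegralMor f.hom → AlgSp.LocP @LocallyOfFiniteType f.hom → AlgSp.IsFiniteMor f.hom) := by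
  exact ⟨fun h => ((AlgSpD.isFiniteMor_iff_integral f.hom).1 h).1, fun h h' => (AlgSpD.isFiniteMor_iff_integral f.hom).2 ⟨h, h'⟩⟩

end Groth.Agent.S10269
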