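import Groth.Statements.S10281
import Groth.Agent.AlgSp.SchImageRep
import Groth.Agent.AlgSp.ProperSub
import Groth.Agent.AlgSpB.Open

set_option autoImplicit false
universe u
open CategoryTheory CategoryTheory.Limits AlgebraicGeometry
open AlgSp

namespace Groth.Agent.S10281

/-- The scheme theoretic image of a space proper over B in a space separated and locally of finite type
over B is proper over B, and the source surjects onto it. -/
theorem result {S : Scheme.{u}} {X Y Z B : AlgSp.Space S} (h : X ⟶ Y) (f : X ⟶ B)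
    (g : Y ⟶ B) (comm : h ≫ g = f) (hf : AlgSp.IsProperMor f.hom) (hg : AlgSp.IsSeparatedMor g.hom)
    (hg' : AlgSp.LocP @LocallyOfFiniteType g.hom) (i : Z ⟶ Y) (hZ : AlgSp.IsSchImage h.hom i.hom)
    (h' : X ⟶ Z) (fac : h' ≫ i = h) :
    AlgSp.IsProperMor (i ≫ g).hom ∧ AlgSp.IsSurjectiveMor h'.hom := by
  have hsep : AlgSp.IsQuasiSeparatedMor g.hom :=
    Groth.Agent.AlgSp.repWith_mono (Q := @QuasiCompact)
      (fun k hk => have : IsClosedImmersion k := hk; inferInstance) hg
  have e : h.hom ≫ g.hom = f.hom := by rw [← comm]; rfl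
  have e' : h'.hom ≫ i.hom = h.hom := by rw [← fac]; rfl
  have hqc : AlgSp.IsQuasiCompactMor h.hom :=
    Groth.Agent.AlgSp.isQuasiCompactMor_of_comp X.property Y.property B.property h.hom g.hom (e ▸ hf.2.1.2) hsep
  have hhc : AlgSp.IsUnivClosedMor h.hom :=
    Groth.Agent.AlgSp.isUnivClosedMor_of_comp X.property Y.property B.property h.hom g.hom (e ▸ hf.2.2) hg
  have hi := hZ.1
  have hip := Groth.Agent.AlgSp.isProperMor_of_isClosedImmersion Y.property hi
  have hsub := Groth.Agent.AlgSp.SchImageRep.range_subset_closure X.property Y.property Z.property (Or.inl hqc) hZ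
  rw [(Groth.Agent.AlgSp.range_map_subset_isClosed Y.property hhc).closure_eq] at hsub
  have : Mono i.hom := Groth.Agent.AlgSpB.mono_of_isClosedImmersion hi
  have hs : AlgSp.IsSurjectiveMor h'.hom := by
    intro z
    obtain ⟨x, hx⟩ := hsub ⟨z, rfl⟩
    exact ⟨x, Groth.Agent.AlgSpB.injective_map_of_mono i.hom (by rw [← AlgSp.Points.map_comp, e', hx])⟩
  have hh' : AlgSp.IsUnivClosedMor h'.hom :=
    Groth.Agent.AlgSp.isUnivClosedMor_of_comp X.property Z.property Y.property h'.hom i.hom (e'.symm ▸ hhc) hip.1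
  have etri : h'.hom ≫ (i ≫ g).hom = f.hom := by
    rw [show (i ≫ g).hom = i.hom ≫ g.hom from rfl, ← Category.assoc, e', e]
  refine ⟨⟨?_, ⟨?_, ?_⟩, ?_⟩, hs⟩
  · exact (Groth.Agent.AlgSp.separation_of_surjective_univClosed X.property Z.property B.property h'.hom f.hom
      (i ≫ g).hom etri hs hh').2 hf.1
  · exact Groth.Agent.StFib.good_lft.comp Z.property Y.property B.property i.hom g.hom hip.2.1.1 hg'
  · exact Groth.Agent.AlgSp.isQuasiCompactMor_of_surjective_triangle Z.property B.property h'.hom (i ≫ g).hom hs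
      (etri.symm ▸ hf.2.1.2)
  · exact Groth.Agent.AlgSp.isUnivClosedMor_of_surjective_triangle h'.hom (i ≫ g).hom hs (etri.symm ▸ hf.2.2)

end Groth.Agent.S10281
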