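import Groth.Statements.S10282
import Groth.Agent.AlgSpB.Points
import Groth.Prelude.Def_AlgSpMor5
import Mathlib.AlgebraicGeometry.ValuativeCriterion

set_option autoImplicit false
universe u
open CategoryTheory CategoryTheory.Limits AlgebraicGeometry
open AlgSp

namespace Groth.Agent.S10282

set_option backward.isDefEq.respectTransparency false

open Groth.Agent in
/-- A lift after extension gives a lift for a representable morphism. -/
theorem hasLift_of_representable {S : Scheme.{u}} {F G : AlgSp.Sp S} (f : F ⟶ G) (hf : AlgSp.Representable f)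
    (sq : AlgSp.ValSq f) (h : sq.HasLiftExt) : sq.HasLift := by
  obtain ⟨e, l, hl₁, hl₂⟩ := h
  obtain ⟨P, p, q, sP⟩ := hf sq.bot
  let jO : e.ptK' ⟶ e.ptA' := Over.homMk (Spec.map (CommRingCat.ofHom (algebraMap e.A' e.K'))) rfl
  let φO : e.ptA' ⟶ sq.ptA := Over.homMk (Spec.map (CommRingCat.ofHom e.φ)) rfl
  let ψO : e.ptK' ⟶ sq.ptK := Over.homMk (Spec.map (CommRingCat.ofHom e.ψ)) (by
    change Spec.map _ ≫ Spec.map _ ≫ _ = Spec.map _ ≫ Spec.map _ ≫ _
    rw [← Spec.map_comp_assoc, ← Spec.map_comp_assoc, ← CommRingCat.ofHom_comp, ← CommRingCat.ofHom_comp, e.comm])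
  obtain ⟨η, hη⟩ := (AlgSp.yon S).map_surjective (sP.lift sq.top ((AlgSp.yon S).map sq.j) sq.comm)
  obtain ⟨m, hm⟩ := (AlgSp.yon S).map_surjective (sP.lift l ((AlgSp.yon S).map φO) hl₂)
  have hηp : η ≫ p = sq.j := (AlgSp.yon S).map_injective (by rw [Functor.map_comp, hη, sP.lift_snd])
  have hmp : m ≫ p = φO := (AlgSp.yon S).map_injective (by rw [Functor.map_comp, hm, sP.lift_snd])
  have hjψ : jO ≫ φO = ψO ≫ sq.j := by
    ext1
    change Spec.map _ ≫ Spec.map _ = Spec.map _ ≫ Spec.map _
    rw [← Spec.map_comp, ← Spec.map_comp, ← CommRingCat.ofHom_comp, ← CommRingCat.ofHom_comp, e.comm]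
  have hcomp : jO ≫ m = ψO ≫ η := (AlgSp.yon S).map_injective (by
    apply sP.hom_ext
    · simp only [Functor.map_comp, Category.assoc, hm, hη, sP.lift_fst]
      exact hl₁
    · simp only [← Functor.map_comp, Category.assoc, hmp, hηp, hjψ])
  -- an affine neighbourhood of the image of the closed point
  obtain ⟨W, hW, hc, -⟩ := exists_isAffineOpen_mem_and_subset
    (x := m.left (IsLocalRing.closedPoint e.A')) (U := ⊤) trivial
  have hall : ∀ x, m.left x ∈ W := fun x =>
    ((IsLocalRing.specializes_closedPoint (R := e.A') x).map m.left.continuous).mem_open W.isOpen hc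
  have hmr : Set.range m.left ⊆ Set.range hW.fromSpec := by
    rw [hW.range_fromSpec]; exact Set.range_subset_iff.2 hall
  have hηr : Set.range η.left ⊆ Set.range hW.fromSpec := by
    rw [hW.range_fromSpec]
    refine Set.range_subset_iff.2 fun x => ?_
    have : x = ψO.left (IsLocalRing.closedPoint e.K') := Subsingleton.elim (α := PrimeSpectrum sq.K) _ _
    rw [this, ← Scheme.Hom.comp_apply, ← Over.comp_left, ← hcomp, Over.comp_left, Scheme.Hom.comp_apply]
    exact hall _
  let ρ : Γ(P.left, W) ⟶ CommRingCat.of sq.K := Spec.preimage (IsOpenImmersion.lift hW.fromSpec η.left hηr)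
  let ρ' : Γ(P.left, W) ⟶ CommRingCat.of e.A' := Spec.preimage (IsOpenImmersion.lift hW.fromSpec m.left hmr)
  have hρ : Spec.map ρ ≫ hW.fromSpec = η.left := by rw [Spec.map_preimage, IsOpenImmersion.lift_fac]
  have hρ' : Spec.map ρ' ≫ hW.fromSpec = m.left := by rw [Spec.map_preimage, IsOpenImmersion.lift_fac]
  have hρρ' : ρ' ≫ CommRingCat.ofHom (algebraMap e.A' e.K') = ρ ≫ CommRingCat.ofHom e.ψ := Spec.map_injective (by
    rw [← cancel_mono hW.fromSpec, Spec.map_comp, Spec.map_comp, Category.assoc, Category.assoc, hρ, hρ']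
    exact congrArg (fun k => k.left) hcomp)
  have hcA : ∀ x : sq.A, algebraMap e.A' e.K' (e.φ x) = e.ψ (algebraMap sq.A sq.K x) :=
    fun x => RingHom.congr_fun e.comm x
  have hmem : ∀ x, ρ.hom x ∈ Set.range (algebraMap sq.A sq.K) := by
    intro x
    rcases ValuationRing.isInteger_or_isInteger sq.A (ρ.hom x) with h | h
    · exact h
    · obtain ⟨a, ha⟩ := h
      by_cases h0 : ρ.hom x = 0
      · exact ⟨0, by rw [map_zero, h0]⟩
      have h1 : e.φ a * ρ'.hom x = 1 := IsFractionRing.injective e.A' e.K' (by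
        have : algebraMap e.A' e.K' (ρ'.hom x) = e.ψ (ρ.hom x) := congr($hρρ' x)
        rw [map_mul, hcA, ha, this, ← map_mul, inv_mul_cancel₀ h0, map_one, map_one])
      have := e.isLocalHom
      obtain ⟨b, rfl⟩ := isUnit_of_map_unit e.φ a (IsUnit.of_mul_eq_one _ h1)
      refine ⟨(b⁻¹ : sq.Aˣ), ?_⟩
      rw [map_units_inv, ha, inv_inv]
  let ρ₀ : Γ(P.left, W) ⟶ CommRingCat.of sq.A := CommRingCat.ofHom
    { toFun := fun x => (hmem x).choose
      map_one' := IsFractionRing.injective sq.A sq.K (by rw [(hmem 1).choose_spec, map_one, map_one])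
      map_mul' := fun x y => IsFractionRing.injective sq.A sq.K (by
        rw [(hmem (x * y)).choose_spec, map_mul, map_mul, (hmem x).choose_spec, (hmem y).choose_spec])
      map_zero' := IsFractionRing.injective sq.A sq.K (by rw [(hmem 0).choose_spec, map_zero, map_zero])
      map_add' := fun x y => IsFractionRing.injective sq.A sq.K (by
        rw [(hmem (x + y)).choose_spec, map_add, map_add, (hmem x).choose_spec, (hmem y).choose_spec]) }
  have hρ₀ : ρ₀ ≫ CommRingCat.ofHom (algebraMap sq.A sq.K) = ρ :=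
    CommRingCat.hom_ext (RingHom.ext fun x => (hmem x).choose_spec)
  let g : CommRingCat.of sq.A ⟶ Γ(P.left, W) := Spec.preimage (hW.fromSpec ≫ p.left)
  have hg : Spec.map g = hW.fromSpec ≫ p.left := Spec.map_preimage _
  have hid : Spec.map ρ₀ ≫ hW.fromSpec ≫ p.left = 𝟙 _ := by
    have : g ≫ ρ₀ = 𝟙 _ := by
      have : (g ≫ ρ₀) ≫ CommRingCat.ofHom (algebraMap sq.A sq.K) = CommRingCat.ofHom (algebraMap sq.A sq.K) := by
        rw [Category.assoc, hρ₀]
        refine Spec.map_injective ?_
        rw [Spec.map_comp, hg, ← Category.assoc, hρ]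
        exact congrArg (fun k => k.left) hηp
      ext x
      exact IsFractionRing.injective sq.A sq.K congr($this x)
    rw [← hg, ← Spec.map_comp, this, Spec.map_id]
  let σ : sq.ptA ⟶ P := Over.homMk (Spec.map ρ₀ ≫ hW.fromSpec) (by
    change (Spec.map ρ₀ ≫ hW.fromSpec) ≫ P.hom = sq.str
    rw [← Over.w p]
    have := congrArg (· ≫ sq.str) hid
    simp only [Category.assoc, Category.id_comp] at this ⊢
    exact this)
  have hσj : sq.j ≫ σ = η := by
    ext1
    change Spec.map _ ≫ Spec.map ρ₀ ≫ hW.fromSpec = η.left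
    rw [← Spec.map_comp_assoc, hρ₀, hρ]
  have hσp : σ ≫ p = 𝟙 _ := Over.OverMorphism.ext ((Category.assoc _ _ _).trans hid)
  refine ⟨(AlgSp.yon S).map σ ≫ q, ?_, ?_⟩
  · rw [← Functor.map_comp_assoc, hσj, hη, sP.lift_fst]
  · rw [Category.assoc, sP.w, ← Functor.map_comp_assoc, hσp, CategoryTheory.Functor.map_id, Category.id_comp]

/-- For a representable morphism of algebraic spaces the existence part of the valuative criterion with
extensions allowed is equivalent to the one without extensions. -/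
theorem result {S : Scheme.{u}} {X Y : AlgSp.Space S} (f : X ⟶ Y)
    (hf : AlgSp.Representable f.hom) : AlgSp.ExistVC f.hom ↔ AlgSp.ExistVCStrict f.hom := by
  refine ⟨fun h sq => ?_, fun h sq => ?_⟩
  · exact hasLift_of_representable f.hom hf sq (h sq)
  · obtain ⟨l, h₁, h₂⟩ := h sq
    have hw : sq.str = Spec.map (CommRingCat.ofHom (RingHom.id sq.A)) ≫ sq.str := by
      rw [CommRingCat.ofHom_id, Spec.map_id, Category.id_comp]
    have : IsLocalHom (RingHom.id sq.A) := isLocalHom_id _
    let e : sq.DomExt := { A' := sq.A, K' := sq.K, φ := RingHom.id _, ψ := RingHom.id _, comm := rfl, isLocalHom := this }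
    let i : e.ptA' ⟶ sq.ptA := Over.homMk (Spec.map (CommRingCat.ofHom e.φ)) rfl
    refine ⟨e, (AlgSp.yon S).map i ≫ l, ?_, ?_⟩
    · rw [← h₁, ← Functor.map_comp_assoc, ← Functor.map_comp_assoc]
      congr 2
      ext1
      change Spec.map _ ≫ Spec.map _ = Spec.map _ ≫ Spec.map _
      rw [← Spec.map_comp, ← Spec.map_comp]
      congr 1
    · rw [Category.assoc, h₂]

end Groth.Agent.S10282
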