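import Groth.Statements.S10285
import Groth.Agent.AlgSpD.SepLift

set_option autoImplicit false
universe u
open CategoryTheory CategoryTheory.Limits AlgebraicGeometry
open AlgSp

namespace Groth.Agent.S10285

/-- For a separated morphism of algebraic spaces the two forms of the existence part of the valuative
criterion (with and without extensions) agree. -/
theorem result {S : Scheme.{u}} {X Y : AlgSp.Space S} (f : X ⟶ Y)
    (hf : AlgSp.IsSeparatedMor f.hom) : AlgSp.ExistVC f.hom ↔ AlgSp.ExistVCStrict f.hom := by
  refine ⟨fun h sq => ?_, fun h sq => ?_⟩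
  · obtain ⟨e, he⟩ := h sq
    exact Groth.Agent.AlgSpD.hasLift_of_domExt f hf sq e he
  · obtain ⟨l, h₁, h₂⟩ := h sq
    have hw : sq.str = Spec.map (CommRingCat.ofHom (RingHom.id sq.A)) ≫ sq.str := by
      rw [CommRingCat.ofHom_id, Spec.map_id, Category.id_comp]
    have : IsLocalHom (RingHom.id sq.A) := isLocalHom_id _
    let e : sq.DomExt := { A' := sq.A, K' := sq.K, φ := RingHom.id _, ψ := RingHom.id _, comm := rfl, isLocalHom := this }
    let i : e.ptA' ⟶ sq.ptA := Over.homMk (Spec.map (CommRingCat.ofHom e.φ)) rfl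
    refine ⟨e, (AlgSp.yon S).map i ≫ l, ?_, ?_⟩
    · rw [← h₁, ← Functor.map_comp_assoc, ← Functor.map_comp_assoc]
      congr 2
      ext1
      change Spec.map _ ≫ Spec.map _ = Spec.map _ ≫ Spec.map _
      rw [← Spec.map_comp, ← Spec.map_comp]
      congr 1
    · rw [Category.assoc, h₂]

end Groth.Agent.S10285
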