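import Groth.Statements.S10287
-- import your own Groth.Agent.* helpers here

set_option autoImplicit false
universe u
open CategoryTheory CategoryTheory.Limits AlgebraicGeometry
open AlgSp

namespace Groth.Agent.S10287

/-- Composing two successive extensions, with all data as variables. -/
theorem glue {S : Scheme.{u}} {X Y Z : AlgSp.Sp S} (f : X ⟶ Y) (g : Y ⟶ Z) {A B C K L M : CommRingCat.{u}}
    {a : A ⟶ K} {b : B ⟶ L} {c : C ⟶ M} (φ : A ⟶ B) (φ' : B ⟶ C) (ψ : K ⟶ L) (ψ' : L ⟶ M)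
    (hψ : φ ≫ b = a ≫ ψ) (hψ' : φ' ≫ c = b ≫ ψ') (str : Spec A ⟶ S)
    (top : (AlgSp.yon S).obj (Over.mk (Spec.map a ≫ str)) ⟶ X)
    (bot : (AlgSp.yon S).obj (Over.mk str) ⟶ Z)
    (l₁ : (AlgSp.yon S).obj (Over.mk (Spec.map φ ≫ str)) ⟶ Y)
    (l₂ : (AlgSp.yon S).obj (Over.mk (Spec.map φ' ≫ Spec.map φ ≫ str)) ⟶ X)
    {w₃ : Spec.map ψ' ≫ Spec.map b ≫ Spec.map φ ≫ str = Spec.map c ≫ Spec.map φ' ≫ Spec.map φ ≫ str}
    {w₄ : Spec.map ψ ≫ Spec.map a ≫ str = Spec.map b ≫ Spec.map φ ≫ str}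
    (hl₂ : (AlgSp.yon S).map (Over.homMk (Spec.map c) rfl :
          Over.mk (Spec.map c ≫ Spec.map φ' ≫ Spec.map φ ≫ str) ⟶ Over.mk (Spec.map φ' ≫ Spec.map φ ≫ str)) ≫ l₂ =
        (AlgSp.yon S).map (Over.homMk (Spec.map ψ') (by exact w₃) :
          Over.mk (Spec.map c ≫ Spec.map φ' ≫ Spec.map φ ≫ str) ⟶ Over.mk (Spec.map b ≫ Spec.map φ ≫ str)) ≫
        (AlgSp.yon S).map (Over.homMk (Spec.map ψ) (by exact w₄) :
          Over.mk (Spec.map b ≫ Spec.map φ ≫ str) ⟶ Over.mk (Spec.map a ≫ str)) ≫ top)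
    (hl₂' : l₂ ≫ f = (AlgSp.yon S).map (Over.homMk (Spec.map φ') rfl :
          Over.mk (Spec.map φ' ≫ Spec.map φ ≫ str) ⟶ Over.mk (Spec.map φ ≫ str)) ≫ l₁)
    (hl₁' : l₁ ≫ g = (AlgSp.yon S).map (Over.homMk (Spec.map φ) rfl :
          Over.mk (Spec.map φ ≫ str) ⟶ Over.mk str) ≫ bot) :
    ∃ l : (AlgSp.yon S).obj (Over.mk (Spec.map (φ ≫ φ') ≫ str)) ⟶ X,
      (AlgSp.yon S).map (Over.homMk (Spec.map c) rfl :
          Over.mk (Spec.map c ≫ Spec.map (φ ≫ φ') ≫ str) ⟶ Over.mk (Spec.map (φ ≫ φ') ≫ str)) ≫ l =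
        (AlgSp.yon S).map (Over.homMk (Spec.map (ψ ≫ ψ')) (by
            change Spec.map _ ≫ Spec.map _ ≫ str = Spec.map _ ≫ Spec.map _ ≫ str
            rw [← Spec.map_comp_assoc, ← Spec.map_comp_assoc, ← Category.assoc, ← hψ, Category.assoc,
              ← hψ', Category.assoc]) :
          Over.mk (Spec.map c ≫ Spec.map (φ ≫ φ') ≫ str) ⟶ Over.mk (Spec.map a ≫ str)) ≫ top ∧
      l ≫ f ≫ g = (AlgSp.yon S).map (Over.homMk (Spec.map (φ ≫ φ')) rfl :
          Over.mk (Spec.map (φ ≫ φ') ≫ str) ⟶ Over.mk str) ≫ bot := by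
  let i : Over.mk (Spec.map (φ ≫ φ') ≫ str) ⟶ Over.mk (Spec.map φ' ≫ Spec.map φ ≫ str) :=
    Over.homMk (𝟙 _) (by
      change 𝟙 _ ≫ (Spec.map _ ≫ Spec.map _ ≫ str) = _
      rw [Category.id_comp, ← Spec.map_comp_assoc]; rfl)
  let j : Over.mk (Spec.map c ≫ Spec.map (φ ≫ φ') ≫ str) ⟶ Over.mk (Spec.map c ≫ Spec.map φ' ≫ Spec.map φ ≫ str) :=
    Over.homMk (𝟙 _) (by
      change 𝟙 _ ≫ (Spec.map _ ≫ Spec.map _ ≫ Spec.map _ ≫ str) = _
      rw [Category.id_comp, ← Spec.map_comp_assoc φ φ']; rfl)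
  refine ⟨(AlgSp.yon S).map i ≫ l₂, ?_, ?_⟩
  · rw [← Functor.map_comp_assoc,
      show (Over.homMk (Spec.map c) rfl : Over.mk (Spec.map c ≫ Spec.map (φ ≫ φ') ≫ str) ⟶ Over.mk (Spec.map (φ ≫ φ') ≫ str)) ≫ i
        = j ≫ (Over.homMk (Spec.map c) rfl : Over.mk (Spec.map c ≫ Spec.map φ' ≫ Spec.map φ ≫ str) ⟶ Over.mk (Spec.map φ' ≫ Spec.map φ ≫ str)) from Over.OverMorphism.ext (by simp [i, j]),
      Functor.map_comp_assoc, hl₂, ← Functor.map_comp_assoc, ← Functor.map_comp_assoc]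
    congr 2
    exact Over.OverMorphism.ext (by simp [j])
  · rw [Category.assoc, reassoc_of% hl₂', hl₁', ← Functor.map_comp_assoc, ← Functor.map_comp_assoc]
    congr 2
    exact Over.OverMorphism.ext (by simp [i])

/-- The criteria compose, for sheaves. -/
theorem comp_sheaves {S : Scheme.{u}} {X Y Z : AlgSp.Sp S} (f : X ⟶ Y) (g : Y ⟶ Z) :
    (AlgSp.ExistVC f → AlgSp.ExistVC g → AlgSp.ExistVC (f ≫ g)) ∧
    (AlgSp.UniqVC f → AlgSp.UniqVC g → AlgSp.UniqVC (f ≫ g)) := by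
  refine ⟨fun hf hg sq => ?_, fun hf hg sq l l' h1 h2 h1' h2' => ?_⟩
  · let sg : AlgSp.ValSq g :=
      { A := sq.A, K := sq.K, str := sq.str, top := sq.top ≫ f, bot := sq.bot
        comm := by rw [Category.assoc]; exact sq.comm }
    obtain ⟨e, l₁, hl₁, hl₁'⟩ := hg sg
    let sf : AlgSp.ValSq f :=
      { A := e.A', K := e.K', str := Spec.map (CommRingCat.ofHom e.φ) ≫ sq.str
        top := (AlgSp.yon S).map (Over.homMk (Spec.map (CommRingCat.ofHom e.ψ)) (by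
          change Spec.map _ ≫ Spec.map _ ≫ _ = Spec.map _ ≫ Spec.map _ ≫ _
          rw [← Spec.map_comp_assoc, ← Spec.map_comp_assoc, ← CommRingCat.ofHom_comp,
            ← CommRingCat.ofHom_comp, e.comm]) : e.ptK' ⟶ sq.ptK) ≫ sq.top
        bot := l₁
        comm := by rw [Category.assoc]; exact hl₁.symm }
    obtain ⟨e', l₂, hl₂, hl₂'⟩ := hf sf
    refine ⟨{ A' := e'.A', K' := e'.K', φ := e'.φ.comp e.φ, ψ := e'.ψ.comp e.ψ
              comm := ?_, isLocalHom := ?_ }, ?_⟩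
    · rw [← RingHom.comp_assoc, e'.comm, RingHom.comp_assoc, e.comm, RingHom.comp_assoc]
    · have := e.isLocalHom
      have := e'.isLocalHom
      exact RingHom.isLocalHom_comp _ _
    · exact glue f g (CommRingCat.ofHom e.φ) (CommRingCat.ofHom e'.φ) (CommRingCat.ofHom e.ψ)
        (CommRingCat.ofHom e'.ψ) (congrArg CommRingCat.ofHom e.comm) (congrArg CommRingCat.ofHom e'.comm)
        sq.str sq.top sq.bot l₁ l₂ hl₂ hl₂' hl₁'
  · let sg : AlgSp.ValSq g :=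
      { A := sq.A, K := sq.K, str := sq.str, top := sq.top ≫ f, bot := sq.bot
        comm := by rw [Category.assoc]; exact sq.comm }
    have h : l ≫ f = l' ≫ f := hg sg _ _
      (by rw [← Category.assoc]; exact congrArg (· ≫ f) h1) (by rw [Category.assoc]; exact h2)
      (by rw [← Category.assoc]; exact congrArg (· ≫ f) h1') (by rw [Category.assoc]; exact h2')
    let sf : AlgSp.ValSq f :=
      { A := sq.A, K := sq.K, str := sq.str, top := sq.top, bot := l ≫ f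
        comm := by rw [← Category.assoc]; exact congrArg (· ≫ f) h1.symm }
    exact hf sf l l' h1 rfl h1' h.symm

/-- The existence and uniqueness parts of the valuative criterion are stable under composition. -/
theorem result {S : Scheme.{u}} {X Y Z : AlgSp.Space S} (f : X ⟶ Y) (g : Y ⟶ Z) :
    (AlgSp.ExistVC f.hom → AlgSp.ExistVC g.hom → AlgSp.ExistVC (f ≫ g).hom) ∧
    (AlgSp.UniqVC f.hom → AlgSp.UniqVC g.hom → AlgSp.UniqVC (f ≫ g).hom) :=
  comp_sheaves f.hom g.hom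

end Groth.Agent.S10287
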