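import Groth.Statements.S10289
import Groth.Agent.AlgSpD.ExistVC
import Groth.Agent.AlgSpD.QsDecent

set_option autoImplicit false
universe u
open CategoryTheory CategoryTheory.Limits AlgebraicGeometry
open AlgSp

namespace Groth.Agent.S10289

/-- A quasi-separated universally closed morphism of algebraic spaces meets the existence half of the
valuative criterion. -/
theorem result {S : Scheme.{u}} {X Y : AlgSp.Space S} (f : X ⟶ Y)
    (hqs : AlgSp.IsQuasiSeparatedMor f.hom) (hc : AlgSp.IsUnivClosedMor f.hom) : AlgSp.ExistVC f.hom := by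
  intro sq
  have hT : AlgSp.IsAlgSpace ((AlgSp.yon S).obj sq.ptA) := AlgSp.IsAlgSpace.yon_obj _
  -- restrict to the square's valuation ring, whose spectrum is affine
  refine Groth.Agent.AlgSpD.existVC_square f hc sq ?_
  have : IsAffine sq.ptA.left := inferInstanceAs (IsAffine (Spec _))
  exact Groth.Agent.AlgSpD.isDecent_of_isQuasiSeparatedMor
    ⟨pullback f.hom sq.bot, AlgSp.isAlgSpace_pullback Y.property X.property hT _ _⟩ (pullback.snd f.hom sq.bot)
    (Groth.Agent.AlgSp.isQuasiSeparatedMor_baseChange' (IsPullback.of_hasPullback _ _) hqs)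

end Groth.Agent.S10289
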