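import Groth.Statements.S7142
import Groth.Agent.DRing.Devissage
import Groth.Agent.DRing.Perfect
import Groth.Agent.ResK0.Basic
import Mathlib.Algebra.Homology.DerivedCategory.SingleTriangle
import Mathlib.Algebra.BigOperators.Finprod
import Mathlib.Algebra.Ring.NegOnePow
import Mathlib.Data.Int.Interval

set_option autoImplicit false
universe u
open CategoryTheory CategoryTheory.Limits
attribute [local instance] HasDerivedCategory.standard
open KZero

namespace Groth.Agent.S7142

open CategoryTheory.Limits CategoryTheory.Pretriangulated DerivedCategory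
open scoped ZeroObject
open Groth.Agent.DRing Groth.Agent.DRing.DBasic

section

variable {R : Type u} [CommRing R]

/-- Finite projective modules. -/
abbrev FP : ObjectProperty (ModuleCat.{u} R) := fun M => Module.Finite R M ∧ Module.Projective R M

/-- The class of a finite projective module. -/
noncomputable abbrev clP (M : ModuleCat.{u} R) : KZero.K0sub (FP (R := R)) := KZero.clSub FP M

lemma fp_of_iso {M N : ModuleCat.{u} R} (e : M ≅ N) (h : FP M) : FP N :=
  have := h.1
  have := h.2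
  ⟨Module.Finite.equiv e.toLinearEquiv, Module.Projective.of_equiv e.toLinearEquiv⟩

lemma fp_zero {M : ModuleCat.{u} R} (h : IsZero M) : FP M :=
  have := ModuleCat.subsingleton_of_isZero h
  ⟨inferInstance, Trunc.projective_of_isZero h⟩

lemma clP_zero {M : ModuleCat.{u} R} (h : IsZero M) : clP M = 0 :=
  left_eq_add.1 (Groth.Agent.ResK0.Basic.clSub_add FP
    (S := ShortComplex.mk (0 : M ⟶ M) (0 : M ⟶ M) zero_comp)
    { exact := ShortComplex.exact_of_isZero_X₂ _ h
      mono_f := ⟨fun _ _ _ => h.eq_of_tgt _ _⟩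
      epi_g := ⟨fun _ _ _ => h.eq_of_src _ _⟩ } (fp_zero h) (fp_zero h) (fp_zero h))

lemma clP_iso {M N : ModuleCat.{u} R} (e : M ≅ N) (h : FP M) : clP M = clP N := by
  have := Groth.Agent.ResK0.Basic.clSub_add FP (Groth.Agent.ResK0.Basic.shortExact_kernel e.hom)
    (fp_zero (isZero_kernel_of_mono e.hom)) h (fp_of_iso e h)
  change clP M = clP (kernel e.hom) + clP N at this
  rw [this, clP_zero (isZero_kernel_of_mono e.hom), zero_add]

lemma fp_biprod {M N : ModuleCat.{u} R} (hM : FP M) (hN : FP N) : FP (M ⊞ N) := by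
  have := hM.1
  have := hM.2
  have := hN.1
  have := hN.2
  exact fp_of_iso (ModuleCat.biprodIsoProd M N).symm
    ⟨inferInstanceAs (Module.Finite R (M × N)), inferInstanceAs (Module.Projective R (M × N))⟩

/-- Euler characteristic of a complex. -/
noncomputable def χ (E : DRing.Cx R) : KZero.K0sub (FP (R := R)) :=
  ∑ᶠ i : ℤ, (Int.negOnePow i : ℤ) • clP (E.X i)

lemma χ_eq_sum {E : DRing.Cx R} {a b : ℤ} (h : DRing.VanishesOutside E a b) (s : Finset ℤ)
    (hs : Finset.Icc a b ⊆ s) : χ E = ∑ i ∈ s, (Int.negOnePow i : ℤ) • clP (E.X i) := by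
  refine finsum_eq_sum_of_support_subset _ fun i hi => ?_
  by_contra hne
  refine hi ?_
  show (Int.negOnePow i : ℤ) • clP (E.X i) = 0
  rw [clP_zero (h i (by
    by_contra hc
    push Not at hc
    exact hne (hs (Finset.mem_Icc.2 hc)))), smul_zero]

/-- A bounded complex of finite projectives. -/
def Good (E : DRing.Cx R) : Prop :=
  (∃ a b : ℤ, DRing.VanishesOutside E a b) ∧ DRing.TermwiseFiniteProjective E

lemma χ_acyclic {E : DRing.Cx R} (hE : Good E) (hac : ∀ i, IsZero (E.homology i)) : χ E = 0 := by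
  obtain ⟨⟨a, b, hb⟩, hf⟩ := hE
  let Z : ℤ → ModuleCat.{u} R := fun i => ModuleCat.of R (LinearMap.ker (E.d i (i + 1)).hom)
  let g : ∀ i j : ℤ, i + 1 = j → (E.X i →ₗ[R] Z j) := fun i j hij => (E.d i j).hom.codRestrict _ fun x => by
    rw [LinearMap.mem_ker]
    exact Homology.d_d i j (j + 1) x
  have hsurj : ∀ i j (hij : i + 1 = j), Function.Surjective (g i j hij) := fun i j hij => by
    rintro ⟨z, hz⟩
    obtain ⟨w, hw⟩ := (Homology.exactAt_iff_forall j i hij).1 ((E.exactAt_iff_isZero_homology j).2 (hac j)) z hz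
    exact ⟨w, Subtype.ext hw⟩
  have hker : ∀ i, LinearMap.ker (g i (i + 1) rfl) = LinearMap.ker (E.d i (i + 1)).hom := fun i =>
    LinearMap.ker_codRestrict _ _ _
  have hstep : ∀ i, FP (Z (i + 1)) → FP (Z i) ∧ clP (E.X i) = clP (Z i) + clP (Z (i + 1)) := fun i hi => by
    have := hi.2
    obtain ⟨s, hs⟩ := Module.projective_lifting_property (g i (i + 1) rfl) LinearMap.id (hsurj i (i + 1) rfl)
    let p : E.X i →ₗ[R] Z i := (LinearMap.id - s.comp (g i (i + 1) rfl)).codRestrict _ fun x => by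
      rw [← hker i, LinearMap.mem_ker, LinearMap.sub_apply, map_sub, LinearMap.id_apply, LinearMap.comp_apply,
        show g i (i + 1) rfl (s (g i (i + 1) rfl x)) = g i (i + 1) rfl x from LinearMap.congr_fun hs _, sub_self]
    have hp : p.comp (LinearMap.ker (E.d i (i + 1)).hom).subtype = LinearMap.id :=
      LinearMap.ext fun x => Subtype.ext (by
        have hx : g i (i + 1) rfl (x : E.X i) = 0 := by rw [← LinearMap.mem_ker, hker i]; exact x.2
        change (x : E.X i) - s (g i (i + 1) rfl (x : E.X i)) = x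
        rw [hx, map_zero, sub_zero])
    have := (hf i).1
    have := (hf i).2
    have hZ : FP (Z i) := ⟨Module.Finite.of_surjective p (fun x => ⟨x, LinearMap.congr_fun hp x⟩),
      Module.Projective.of_split _ p hp⟩
    let S : ShortComplex (ModuleCat.{u} R) := ShortComplex.mk
      (ModuleCat.ofHom (LinearMap.ker (E.d i (i + 1)).hom).subtype : Z i ⟶ E.X i)
      (ModuleCat.ofHom (g i (i + 1) rfl) : E.X i ⟶ Z (i + 1)) (by
        ext x
        exact x.2)
    have hS : S.ShortExact :=
      { exact := (ShortComplex.ShortExact.moduleCat_exact_iff_function_exact S).2 (LinearMap.exact_iff.2 (by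
          change LinearMap.ker (g i (i + 1) rfl) = LinearMap.range (LinearMap.ker (E.d i (i + 1)).hom).subtype
          rw [hker i, Submodule.range_subtype]))
        mono_f := (ModuleCat.mono_iff_injective _).2 (Submodule.injective_subtype _)
        epi_g := (ModuleCat.epi_iff_surjective _).2 (hsurj i (i + 1) rfl) }
    exact ⟨hZ, Groth.Agent.ResK0.Basic.clSub_add FP hS hZ (hf i) hi⟩
  have hzero : ∀ i, (i < a ∨ b < i) → IsZero (Z i) := fun i hi => by
    have := ModuleCat.subsingleton_of_isZero (hb i hi)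
    exact ModuleCat.isZero_of_subsingleton _
  have hZfp : ∀ i, FP (Z i) := by
    have : ∀ (n : ℕ) i, b + 1 ≤ i + (n : ℤ) → FP (Z i) := fun n => by
      induction n with
      | zero => exact fun i hi => fp_zero (hzero i (Or.inr (by omega)))
      | succ n ih => exact fun i hi => (hstep i (ih (i + 1) (by omega))).1
    exact fun i => this (b + 1 - i).toNat i (by omega)
  have htel : ∀ m : ℕ, ∑ i ∈ Finset.Ico (a - 1) (a - 1 + m), (Int.negOnePow i : ℤ) • (clP (Z i) + clP (Z (i + 1))) =
      (Int.negOnePow (a - 1) : ℤ) • clP (Z (a - 1)) - (Int.negOnePow (a - 1 + m) : ℤ) • clP (Z (a - 1 + m)) := by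
    intro m
    induction m with
    | zero => simp
    | succ m ih =>
      rw [show a - 1 + ((m + 1 : ℕ) : ℤ) = a - 1 + m + 1 by omega,
        show Finset.Ico (a - 1) (a - 1 + m + 1) = insert (a - 1 + (m : ℤ)) (Finset.Ico (a - 1) (a - 1 + m)) by ext; simp only [Finset.mem_Ico, Finset.mem_insert]; omega,
        Finset.sum_insert (by simp), ih, Int.negOnePow_succ, Units.val_neg, neg_smul, smul_add]
      abel
  obtain ⟨n, hn⟩ : ∃ n : ℕ, n = (b + 3 - a).toNat := ⟨_, rfl⟩
  rw [χ_eq_sum hb (Finset.Ico (a - 1) (a - 1 + n)) (fun i hi => by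
    rw [Finset.mem_Icc] at hi; rw [Finset.mem_Ico]; omega)]
  rw [Finset.sum_congr rfl fun i _ => by rw [(hstep i (hZfp (i + 1))).2], htel n,
    clP_zero (hzero (a - 1) (Or.inl (by omega))), clP_zero (hzero (a - 1 + n) (by omega)), smul_zero, smul_zero, sub_self]

lemma good_cone {E F : DRing.Cx R} (f : E ⟶ F) (hE : Good E) (hF : Good F) :
    Good (CochainComplex.mappingCone f) ∧ χ (CochainComplex.mappingCone f) = χ F - χ E := by
  obtain ⟨⟨a, b, hb⟩, hEf⟩ := hE
  obtain ⟨⟨a', b', hb'⟩, hFf⟩ := hF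
  have hvan : DRing.VanishesOutside (CochainComplex.mappingCone f) (min (a - 1) a') (max (b - 1) b') := fun i hi =>
    (CochainComplex.mappingCone.isZero_X_iff f i).2 ⟨hb (i + 1) (by omega), hb' i (by omega)⟩
  have hX : ∀ i, FP ((CochainComplex.mappingCone f).X i) ∧
      clP ((CochainComplex.mappingCone f).X i) = clP (E.X (i + 1)) + clP (F.X i) := fun i => by
    have hbi := fp_biprod (hEf (i + 1)) (hFf i)
    let e := HomologicalComplex.homotopyCofiber.XIsoBiprod f i (i + 1) rfl
    refine ⟨fp_of_iso e.symm hbi, ?_⟩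
    refine (clP_iso e.symm hbi).symm.trans ?_
    exact Groth.Agent.ResK0.Basic.clSub_add FP
      (ShortComplex.Splitting.ofHasBinaryBiproduct (E.X (i + 1)) (F.X i)).shortExact (hEf (i + 1)) hbi (hFf i)
  refine ⟨⟨⟨_, _, hvan⟩, fun i => (hX i).1⟩, ?_⟩
  let s := Finset.Icc (min (a - 1) a' - 1) (max (b - 1) b' + 1)
  have hs1 : χ F = ∑ i ∈ s, (Int.negOnePow i : ℤ) • clP (F.X i) :=
    χ_eq_sum hb' s (fun i hi => by simp only [s, Finset.mem_Icc] at hi ⊢; omega)
  have hs2 : χ E = ∑ i ∈ s, -((Int.negOnePow i : ℤ) • clP (E.X (i + 1))) := by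
    rw [χ_eq_sum hb (s.map (addRightEmbedding 1)) (fun i hi => by
      rw [Finset.mem_map]
      simp only [s, Finset.mem_Icc] at hi ⊢
      exact ⟨i - 1, by omega, by simp⟩), Finset.sum_map]
    exact Finset.sum_congr rfl fun i _ => by
      rw [addRightEmbedding_apply, Int.negOnePow_succ, Units.val_neg, neg_smul]
  rw [χ_eq_sum hvan s (fun i hi => by simp only [s, Finset.mem_Icc] at hi ⊢; omega), hs1, hs2,
    Finset.sum_neg_distrib, sub_neg_eq_add, ← Finset.sum_add_distrib]
  exact Finset.sum_congr rfl fun i _ => by rw [(hX i).2, smul_add, add_comm]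

lemma isKProjective_of_good {E : DRing.Cx R} (hE : Good E) : E.IsKProjective := by
  obtain ⟨⟨a, b, hb⟩, hf⟩ := hE
  exact isKProjective_of_projective E b (fun i hi => hb i (Or.inr hi)) fun i => (hf i).2

lemma χ_congr {E F : DRing.Cx R} (hE : Good E) (hF : Good F) (e : DRing.toD E ≅ DRing.toD F) : χ E = χ F := by
  have := isKProjective_of_good hE
  obtain ⟨f, hf⟩ := exists_Q_map_eq (L := F) e.hom
  obtain ⟨hG, hχ⟩ := good_cone f hE hF
  have hz : IsZero (DRing.toD (CochainComplex.mappingCone f)) :=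
    Triangle.isZero₃_of_isIso₁ _ (DerivedCategory.mappingCone_triangle_distinguished f)
      (by change IsIso (Q.map f); rw [hf]; infer_instance)
  rw [χ_acyclic hG fun i => ((HF i).map_isZero hz).of_iso (hIso _ i).symm] at hχ
  exact (sub_eq_zero.1 hχ.symm).symm

/-- A chosen representative. -/
lemma exists_rep {K : Dual.D R} (h : DRing.IsPerfect R K) :
    ∃ E : DRing.Cx R, Good E ∧ Nonempty (DRing.toD E ≅ K) := by
  obtain ⟨E, a, b, hv, hf, he⟩ := h
  exact ⟨E, ⟨⟨a, b, hv⟩, hf⟩, he⟩

lemma perfect_of_good {E : DRing.Cx R} (hE : Good E) : DRing.IsPerfect R (DRing.toD E) := by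
  obtain ⟨⟨a, b, hv⟩, hf⟩ := hE
  exact ⟨E, a, b, hv, hf, ⟨Iso.refl _⟩⟩

/-- The class of a perfect object. -/
noncomputable abbrev cT (K : Dual.D R) : KZero.K0tr (fun K : Dual.D R => DRing.IsPerfect R K) :=
  KZero.clTr (fun K : Dual.D R => DRing.IsPerfect R K) K

lemma cT_add {T : Triangle (Dual.D R)} (hT : T ∈ distinguishedTriangles) (h₁ : DRing.IsPerfect R T.obj₁)
    (h₂ : DRing.IsPerfect R T.obj₂) (h₃ : DRing.IsPerfect R T.obj₃) : cT T.obj₂ = cT T.obj₁ + cT T.obj₃ := by
  simp only [cT, KZero.clTr, dif_pos h₁, dif_pos h₂, dif_pos h₃, ← QuotientAddGroup.mk_add]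
  rw [QuotientAddGroup.eq_iff_sub_mem, sub_add_eq_sub_sub]
  exact AddSubgroup.subset_closure ⟨T, h₁, h₂, h₃, hT, rfl⟩

lemma cT_zero_obj : cT (0 : Dual.D R) = 0 := by
  have hz : DRing.IsPerfect R (0 : Dual.D R) := Perfect.perfect_of_isZero (isZero_zero _)
  exact left_eq_add.1 (cT_add (contractible_distinguished (0 : Dual.D R)) hz hz hz)

lemma cT_zero {K : Dual.D R} (h : IsZero K) : cT K = 0 := by
  have hT : Triangle.mk (0 : K ⟶ K) (0 : K ⟶ K) (0 : K ⟶ (shiftFunctor (Dual.D R) (1 : ℤ)).obj K) ∈ distinguishedTriangles :=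
    isomorphic_distinguished _ (contractible_distinguished (0 : Dual.D R)) _
      (Triangle.isoMk _ _ h.isoZero h.isoZero h.isoZero (h.eq_of_src _ _) (h.eq_of_src _ _) (h.eq_of_src _ _))
  exact left_eq_add.1 (cT_add hT (Perfect.perfect_of_isZero h) (Perfect.perfect_of_isZero h) (Perfect.perfect_of_isZero h))

lemma cT_iso {K L : Dual.D R} (e : K ≅ L) (h : DRing.IsPerfect R K) : cT L = cT K := by
  obtain ⟨Z, g, δ, hT⟩ := distinguished_cocone_triangle e.hom
  have hz : IsZero Z := Triangle.isZero₃_of_isIso₁ _ hT (inferInstanceAs (IsIso e.hom))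
  have h1 : cT L = cT K + cT Z := cT_add hT h (Perfect.perfect_of_iso e h) (Perfect.perfect_of_isZero hz)
  rw [h1, cT_zero hz, add_zero]

lemma cT_shift_one {K : Dual.D R} (h : DRing.IsPerfect R K) :
    cT ((shiftFunctor (Dual.D R) (1 : ℤ)).obj K) = - cT K := by
  have h1 : cT (0 : Dual.D R) = cT K + cT ((shiftFunctor (Dual.D R) (1 : ℤ)).obj K) :=
    cT_add (rot_of_distTriang _ (contractible_distinguished K)) h
      (Perfect.perfect_of_isZero (isZero_zero _)) (Perfect.perfect_shift h 1)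
  rw [cT_zero_obj] at h1
  exact eq_neg_of_add_eq_zero_right h1.symm

lemma cT_shift {K : Dual.D R} (h : DRing.IsPerfect R K) (n : ℤ) :
    cT ((shiftFunctor (Dual.D R) n).obj K) = (Int.negOnePow n : ℤ) • cT K := by
  induction n using Int.induction_on with
  | zero => simp [cT_iso ((shiftFunctorZero (Dual.D R) ℤ).app K).symm h]
  | succ n ih =>
    have e := (shiftFunctorAdd' (Dual.D R) (n : ℤ) 1 ((n : ℤ) + 1) rfl).app K
    rw [← cT_iso e (Perfect.perfect_shift h _), Int.negOnePow_succ, Units.val_neg, neg_smul, ← ih]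
    exact cT_shift_one (Perfect.perfect_shift h _)
  | pred n ih =>
    have e := (shiftFunctorAdd' (Dual.D R) (-(n : ℤ) - 1) 1 (-(n : ℤ)) (by ring)).app K
    have h2 := Int.negOnePow_succ (-(n : ℤ) - 1)
    rw [sub_add_cancel] at h2
    rw [h2, Units.val_neg, neg_smul] at ih
    have h3 : cT ((shiftFunctor (Dual.D R) (-(n : ℤ))).obj K) =
        - cT ((shiftFunctor (Dual.D R) (-(n : ℤ) - 1)).obj K) :=
      (cT_iso e (Perfect.perfect_shift h _)).symm.trans (cT_shift_one (Perfect.perfect_shift h _))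
    rw [h3] at ih
    exact neg_injective ih

lemma good_single {M : ModuleCat.{u} R} (h : FP M) (n : ℤ) :
    Good (PC.sgl n M) ∧ χ (PC.sgl n M) = (Int.negOnePow n : ℤ) • clP M := by
  have hv : DRing.VanishesOutside (PC.sgl n M) n n := fun i hi =>
    HomologicalComplex.isZero_single_obj_X _ _ _ i (by omega)
  refine ⟨⟨⟨n, n, hv⟩, fun i => ?_⟩, ?_⟩
  · by_cases hi : i = n
    · subst hi
      exact fp_of_iso (HomologicalComplex.singleObjXSelf (ComplexShape.up ℤ) i M).symm h
    · exact fp_zero (hv i (by omega))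
  · rw [χ_eq_sum hv {n} (fun i hi => by rw [Finset.mem_Icc] at hi; rw [Finset.mem_singleton]; omega),
      Finset.sum_singleton, clP_iso (HomologicalComplex.singleObjXSelf (ComplexShape.up ℤ) n M)
        (fp_of_iso (HomologicalComplex.singleObjXSelf (ComplexShape.up ℤ) n M).symm h)]

lemma sgl_iso (M : ModuleCat.{u} R) :
    Nonempty (DRing.toD (PC.sgl 0 M) ≅ (DerivedCategory.singleFunctor (ModuleCat.{u} R) 0).obj M) :=
  ⟨((singleFunctorIsoCompQ (ModuleCat.{u} R) 0).app M).symm⟩

end

/-- Let R be a ring. There is an isomorphism K₀(R) ≅ K₀(D_perf(R)) between the Grothendieck group of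
finite projective R-modules and that of the triangulated category of perfect objects of D(R),
sending the class of a finite projective module M to the class of M placed in degree 0; under its
inverse the class of a bounded complex M^• of finite projective modules (vanishing outside [a, b])
goes to Σ_i (-1)^i [M^i]. -/
theorem result (R : Type u) [CommRing R] :
    ∃ φ : KZero.K0sub (fun M : ModuleCat.{u} R => Module.Finite R M ∧ Module.Projective R M) ≃+
        KZero.K0tr (fun K : Dual.D R => DRing.IsPerfect R K),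
      (∀ (M : Type u) [AddCommGroup M] [Module R M], Module.Finite R M → Module.Projective R M →
        φ (KZero.clSub (fun M : ModuleCat.{u} R => Module.Finite R M ∧ Module.Projective R M) (ModuleCat.of R M)) =
          KZero.clTr (fun K : Dual.D R => DRing.IsPerfect R K) (Dual.inD R M)) ∧
      ∀ (E : DRing.Cx R) (a b : ℤ), DRing.VanishesOutside E a b → DRing.TermwiseFiniteProjective E →
        φ.symm (KZero.clTr (fun K : Dual.D R => DRing.IsPerfect R K) (DRing.toD E)) =
          (Finset.Icc a b).sum (fun i => (i.negOnePow : ℤ) •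
            KZero.clSub (fun M : ModuleCat.{u} R => Module.Finite R M ∧ Module.Projective R M) (E.X i)) := by
  classical
  let ψ₀ : FreeAbelianGroup (Subtype fun K : Dual.D R => DRing.IsPerfect R K) →+ KZero.K0sub (FP (R := R)) :=
    FreeAbelianGroup.lift fun K => χ (exists_rep K.2).choose
  have hψ₀ : ∀ {K : Dual.D R} (hK : DRing.IsPerfect R K) {E : DRing.Cx R}, Good E → (DRing.toD E ≅ K) →
      ψ₀ (FreeAbelianGroup.of ⟨K, hK⟩) = χ E := fun {K} hK {E} hE e => by
    simp only [ψ₀, FreeAbelianGroup.lift_apply_of]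
    obtain ⟨hG, he⟩ := (exists_rep hK).choose_spec
    exact χ_congr hG hE (he.some ≪≫ e.symm)
  let ψ : KZero.K0tr (fun K : Dual.D R => DRing.IsPerfect R K) →+ KZero.K0sub (FP (R := R)) :=
    QuotientAddGroup.lift _ ψ₀ (by
    refine (AddSubgroup.closure_le _).2 ?_
    rintro _ ⟨T, h₁, h₂, h₃, hT, rfl⟩
    rw [SetLike.mem_coe, AddMonoidHom.mem_ker, map_sub, map_sub]
    obtain ⟨E₁, hE₁, ⟨e₁⟩⟩ := exists_rep h₁
    obtain ⟨E₂, hE₂, ⟨e₂⟩⟩ := exists_rep h₂
    have := isKProjective_of_good hE₁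
    obtain ⟨f, hf⟩ := exists_Q_map_eq (L := E₂) (e₁.hom ≫ T.mor₁ ≫ e₂.inv)
    obtain ⟨hG, hχ⟩ := good_cone f hE₁ hE₂
    have e := isoTriangleOfIso₁₂ _ T (DerivedCategory.mappingCone_triangle_distinguished f) hT e₁ e₂
      (by change Q.map f ≫ e₂.hom = e₁.hom ≫ T.mor₁; rw [hf]; simp)
    rw [hψ₀ h₂ hE₂ e₂, hψ₀ h₁ hE₁ e₁, hψ₀ h₃ hG (Triangle.π₃.mapIso e), hχ]
    abel)
  let φ₀ : FreeAbelianGroup (Subtype (FP (R := R))) →+ KZero.K0tr (fun K : Dual.D R => DRing.IsPerfect R K) :=
    FreeAbelianGroup.lift fun M => cT (Dual.inD R M.1)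
  have hperf : ∀ M : ModuleCat.{u} R, FP M → DRing.IsPerfect R ((DerivedCategory.singleFunctor (ModuleCat.{u} R) 0).obj M) :=
    fun M hM => Perfect.perfect_of_iso (sgl_iso M).some (perfect_of_good (good_single hM 0).1)
  let φ : KZero.K0sub (FP (R := R)) →+ KZero.K0tr (fun K : Dual.D R => DRing.IsPerfect R K) :=
    QuotientAddGroup.lift _ φ₀ (by
    refine (AddSubgroup.closure_le _).2 ?_
    rintro _ ⟨S, h₁, h₂, h₃, hS, rfl⟩
    simp only [SetLike.mem_coe, AddMonoidHom.mem_ker, map_sub, φ₀, FreeAbelianGroup.lift_apply_of]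
    have h := cT_add hS.singleTriangle_distinguished (hperf _ h₁) (hperf _ h₂) (hperf _ h₃)
    change cT (Dual.inD R S.X₂) = cT (Dual.inD R S.X₁) + cT (Dual.inD R S.X₃) at h
    rw [h]
    abel)
  have hφcl : ∀ M : ModuleCat.{u} R, FP M → φ (clP M) = cT ((DerivedCategory.singleFunctor (ModuleCat.{u} R) 0).obj M) :=
    fun M hM => by
      simp only [clP, KZero.clSub, dif_pos hM]
      exact FreeAbelianGroup.lift_apply_of _ _
  have hψcl : ∀ {K : Dual.D R}, DRing.IsPerfect R K → ∀ {E : DRing.Cx R}, Good E → (DRing.toD E ≅ K) →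
      ψ (cT K) = χ E := fun {K} hK {E} hE e => by
    simp only [cT, KZero.clTr, dif_pos hK]
    exact hψ₀ hK hE e
  have hψφ : ψ.comp φ = AddMonoidHom.id _ := by
    refine QuotientAddGroup.addMonoidHom_ext _ (FreeAbelianGroup.lift_ext _ _ fun M => ?_)
    show ψ (φ₀ (.of M)) = QuotientAddGroup.mk (FreeAbelianGroup.of M)
    simp only [φ₀, FreeAbelianGroup.lift_apply_of]
    rw [hψcl (hperf M.1 M.2) (good_single M.2 0).1 (sgl_iso M.1).some, (good_single M.2 0).2,
      Int.negOnePow_zero, Units.val_one, one_smul]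
    exact dif_pos M.2
  have hφψ : φ.comp ψ = AddMonoidHom.id _ := by
    refine QuotientAddGroup.addMonoidHom_ext _ (FreeAbelianGroup.lift_ext _ _ fun K => ?_)
    let Φ : Dual.D R → Prop := fun L => DRing.IsPerfect R L ∧ φ (ψ (cT L)) = cT L
    have hiso : ∀ {L L' : Dual.D R}, (L ≅ L') → Φ L → Φ L' := fun e h =>
      ⟨Perfect.perfect_of_iso e h.1, by rw [cT_iso e h.1]; exact h.2⟩
    have hzero : ∀ L : Dual.D R, IsZero L → Φ L := fun L h =>
      ⟨Perfect.perfect_of_isZero h, by rw [cT_zero h, map_zero, map_zero]⟩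
    have hmid : ∀ T : Triangle (Dual.D R), T ∈ distinguishedTriangles → Φ T.obj₁ → Φ T.obj₃ → Φ T.obj₂ :=
      fun T hT h₁ h₃ => by
        have h₂ := (Perfect.perfect_two_of_three hT).2.1 h₁.1 h₃.1
        exact ⟨h₂, by rw [cT_add hT h₁.1 h₂ h₃.1, map_add, map_add, h₁.2, h₃.2]⟩
    obtain ⟨E, ⟨⟨a, b, hv⟩, hf⟩, ⟨e⟩⟩ := exists_rep K.2
    have hE : Φ (DRing.toD E) := Devissage.of_terms Φ hiso hzero hmid E hv fun i => by
      refine ⟨perfect_of_good (good_single (hf i) i).1, ?_⟩
      rw [hψcl (perfect_of_good (good_single (hf i) i).1) (good_single (hf i) i).1 (Iso.refl _),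
        (good_single (hf i) i).2, map_zsmul, hφcl _ (hf i),
        cT_iso (PC.inDShiftIso (E.X i) i) (Perfect.perfect_shift (hperf _ (hf i)) _),
        cT_shift (hperf _ (hf i)), Int.negOnePow_neg]
    have hK := (hiso e hE).2
    have hcl : cT K.1 = QuotientAddGroup.mk (FreeAbelianGroup.of K) := dif_pos K.2
    show φ (ψ (QuotientAddGroup.mk (FreeAbelianGroup.of K))) = QuotientAddGroup.mk (FreeAbelianGroup.of K)
    rw [← hcl]
    exact hK
  refine ⟨AddMonoidHom.toAddEquiv φ ψ hψφ hφψ, fun M _ _ h₁ h₂ => hφcl (ModuleCat.of R M) ⟨h₁, h₂⟩, fun E a b hv hf => ?_⟩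
  have hE : Good E := ⟨⟨a, b, hv⟩, hf⟩
  exact (hψcl (perfect_of_good hE) hE (Iso.refl _)).trans (χ_eq_sum hv _ subset_rfl)


end Groth.Agent.S7142
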