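import Groth.Statements.S1029
import Groth.Agent.S7142
import Groth.Agent.S0997
import Groth.Agent.S1105
import Groth.Agent.KFlat.K0Transfer
import Groth.Agent.KFlat.TildeExact
import Groth.Agent.PerfExt.Affine
import Groth.Agent.PerfTri.Perfect

set_option autoImplicit false
universe u
open CategoryTheory CategoryTheory.Limits AlgebraicGeometry
attribute [local instance] HasDerivedCategory.standard
open KZero
open scoped ZeroObject

namespace Groth.Agent.S1029

/-- Let A be a ring and X = Spec A. There is an isomorphism from K₀(A) (free abelian group on finite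
projective A-modules modulo short exact sequences of such) to K₀(X) = K₀(D_perf(O_X)) (free abelian
group on perfect objects of D(O_X) modulo distinguished triangles among them) sending the class of M
to the class of M~ placed in degree 0. -/
theorem result (A : Type u) [CommRing A] :
    ∃ φ : KZero.K0sub (fun M : ModuleCat.{u} A => Module.Finite A M ∧ Module.Projective A M) ≃+
        KZero.K0tr (fun K : DCoh.D (Spec (CommRingCat.of A)) => DCoh.IsPerfect K),
      ∀ (M : ModuleCat.{u} A), Module.Finite A M → Module.Projective A M →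
        φ (KZero.clSub (fun M : ModuleCat.{u} A => Module.Finite A M ∧ Module.Projective A M) M) =
          KZero.clTr (fun K : DCoh.D (Spec (CommRingCat.of A)) => DCoh.IsPerfect K) (DCoh.inD (Spec (CommRingCat.of A)) (tilde M)) := by
  haveI := Groth.Agent.KFlat.TildeExact.preservesFiniteLimits_tilde (CommRingCat.of A)
  obtain ⟨hf, hfa, hess⟩ := Groth.Agent.S0997.result (CommRingCat.of A)
  haveI := hf
  haveI := hfa
  let P' : ObjectProperty (DCoh.D (Spec (CommRingCat.of A))) := fun K => DCoh.IsPerfect K
  haveI : P'.IsClosedUnderIsomorphisms := ⟨fun e h => Groth.Agent.PerfTri.Perfect.isPerfect_of_iso e h⟩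
  let P : ObjectProperty (Dual.D A) := fun K => DRing.IsPerfect A K
  have hP : ∀ M : Dual.D A, P' ((DCoh.tildeD (CommRingCat.of A)).obj M) ↔ P M := fun M => Groth.Agent.S1105.result A M
  obtain ⟨ψ, hψ⟩ := Groth.Agent.KFlat.K0Transfer.exists_equiv (DCoh.tildeD (CommRingCat.of A)) hP
    (fun Y hY => (hess Y).1 (Groth.Agent.PerfExt.isQCohD_of_isPerfect hY))
    ((hP _).1 (Groth.Agent.PerfTri.Perfect.isPerfect_zero (Functor.map_isZero _ (isZero_zero _))))
  obtain ⟨φ, hφ, -⟩ := Groth.Agent.S7142.result A
  haveI : (tilde.functor (CommRingCat.of A)).Additive :=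
    (inferInstance : ∀ R : CommRingCat.{u}, (tilde.functor R).Additive) (CommRingCat.of A)
  haveI : PreservesFiniteColimits (tilde.functor (CommRingCat.of A)) :=
    (inferInstance : ∀ R : CommRingCat.{u}, PreservesFiniteColimits (tilde.functor R)) (CommRingCat.of A)
  refine ⟨φ.trans ψ, fun M h₁ h₂ => ?_⟩
  have e : (DCoh.tildeD (CommRingCat.of A)).obj (Dual.inD A M) ≅ DCoh.inD (Spec (CommRingCat.of A)) (tilde M) :=
    ((tilde.functor (CommRingCat.of A)).mapDerivedCategorySingleFunctor 0).app _
  have hp : P (Dual.inD A M) := Groth.Agent.DRing.Perfect.perfect_of_iso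
    (Groth.Agent.S7142.sgl_iso M).some
    (Groth.Agent.S7142.perfect_of_good (Groth.Agent.S7142.good_single ⟨h₁, h₂⟩ 0).1)
  change ψ (φ _) = _
  rw [show φ (KZero.clSub _ M) = _ from hφ M h₁ h₂, hψ _ hp]
  exact Groth.Agent.KFlat.K0Transfer.clTr_iso (P := P')
    (Groth.Agent.PerfTri.Perfect.isPerfect_zero (isZero_zero _)) e ((hP _).2 hp)
    (Groth.Agent.PerfTri.Perfect.isPerfect_of_iso e ((hP _).2 hp))

end Groth.Agent.S1029
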