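import Groth.Statements.S10291
import Groth.Agent.AlgSp.Diag
import Mathlib.AlgebraicGeometry.ValuativeCriterion
import Mathlib.AlgebraicGeometry.ZariskisMainTheorem

set_option autoImplicit false
universe u
open CategoryTheory CategoryTheory.Limits AlgebraicGeometry
open AlgSp

namespace Groth.Agent.S10291

set_option backward.isDefEq.respectTransparency false

/-- A quasi-separated morphism of algebraic spaces satisfying the uniqueness part of the valuative
criterion is separated. -/
theorem result {S : Scheme.{u}} {X Y : AlgSp.Space S} (f : X ⟶ Y)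
    (hqs : AlgSp.IsQuasiSeparatedMor f.hom) (hu : AlgSp.UniqVC f.hom) : AlgSp.IsSeparatedMor f.hom := by
  obtain ⟨hrep, hl, hm, -⟩ := Groth.Agent.AlgSp.diagonal_props X.property f.hom
  refine ⟨hrep, fun V W g fst snd sqW => ?_⟩
  have : LocallyOfFiniteType snd.left := hl.2 _ _ _ sqW
  have : Mono snd.left := hm.2 _ _ _ sqW
  have : QuasiCompact snd.left := hqs.2 _ _ _ sqW
  have : UniversallyClosed snd.left := by
    refine UniversallyClosed.of_valuativeCriterion _ fun c => ?_
    let cA : Over S := Over.mk (c.i₂ ≫ V.hom)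
    let i₂ : cA ⟶ V := Over.homMk c.i₂ rfl
    let cK : Over S := Over.mk (Spec.map (CommRingCat.ofHom (algebraMap c.R c.K)) ≫ c.i₂ ≫ V.hom)
    let i₁ : cK ⟶ W := Over.homMk c.i₁ (by
      show c.i₁ ≫ W.hom = _
      rw [← Over.w snd, reassoc_of% c.commSq.w]; rfl)
    let j : cK ⟶ cA := Over.homMk (Spec.map (CommRingCat.ofHom (algebraMap c.R c.K))) rfl
    have hij : i₁ ≫ snd = j ≫ i₂ := Over.OverMorphism.ext c.commSq.w
    let sq : AlgSp.ValSq f.hom :=
      { A := c.R, K := c.K, str := c.i₂ ≫ V.hom, top := (AlgSp.yon S).map i₁ ≫ fst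
        bot := (AlgSp.yon S).map i₂ ≫ g ≫ pullback.fst f.hom f.hom ≫ f.hom
        comm := by
          show ((AlgSp.yon S).map i₁ ≫ fst) ≫ f.hom = (AlgSp.yon S).map j ≫ _
          rw [← Functor.map_comp_assoc, ← hij, Functor.map_comp_assoc, ← reassoc_of% sqW.w,
            pullback.diagonal_fst_assoc, Category.assoc] }
    have e := hu sq ((AlgSp.yon S).map i₂ ≫ g ≫ pullback.fst f.hom f.hom)
      ((AlgSp.yon S).map i₂ ≫ g ≫ pullback.snd f.hom f.hom) (by
        show (AlgSp.yon S).map j ≫ _ = (AlgSp.yon S).map i₁ ≫ fst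
        rw [← Functor.map_comp_assoc, ← hij, Functor.map_comp_assoc, ← reassoc_of% sqW.w,
          pullback.diagonal_fst, Category.comp_id]) (by simp [sq]) (by
        show (AlgSp.yon S).map j ≫ _ = (AlgSp.yon S).map i₁ ≫ fst
        rw [← Functor.map_comp_assoc, ← hij, Functor.map_comp_assoc, ← reassoc_of% sqW.w,
          pullback.diagonal_snd, Category.comp_id]) (by simp [sq, pullback.condition])
    obtain ⟨m, hm'⟩ := (AlgSp.yon S).map_surjective (sqW.lift ((AlgSp.yon S).map i₂ ≫ g ≫ pullback.fst f.hom f.hom)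
      ((AlgSp.yon S).map i₂) (by
        apply pullback.hom_ext
        · simp
        · simpa using e))
    have hms : m ≫ snd = i₂ := (AlgSp.yon S).map_injective (by rw [Functor.map_comp, hm', sqW.lift_snd])
    exact ⟨⟨⟨m.left, by rw [← cancel_mono snd.left, Category.assoc, ← Over.comp_left, hms]; exact c.commSq.w.symm,
      by rw [← Over.comp_left, hms]; rfl⟩⟩⟩
  exact (IsClosedImmersion.iff_isProper_and_mono snd.left).2 ⟨⟨⟩, inferInstance⟩

end Groth.Agent.S10291
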