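import Groth.Statements.S10292
import Groth.Agent.AlgSpD.ExistVC
import Groth.Agent.AlgSpCov.LocP
import Groth.Agent.AlgSp.PointsMor

set_option autoImplicit false
universe u
open CategoryTheory CategoryTheory.Limits AlgebraicGeometry
open AlgSp

namespace Groth.Agent.S10292

set_option backward.isDefEq.respectTransparency false

/-- Along a flat morphism of algebraic spaces, a morphism from the spectrum of a valuation ring to the
target whose closed point is hit lifts to the source after an extension of valuation rings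
(injective and local). -/
theorem result {S : Scheme.{u}} {X Y : AlgSp.Space S} (f : X ⟶ Y)
    (hf : AlgSp.LocP @Flat f.hom) (A : Type u) [CommRing A] [IsDomain A] [ValuationRing A]
    (str : Spec (.of A) ⟶ S) (b : (AlgSp.yon S).obj (Over.mk str) ⟶ Y.obj)
    (hb : AlgSp.Points.ofPt b (IsLocalRing.closedPoint A) ∈ Set.range (AlgSp.Points.map f.hom)) :
    ∃ (A' : Type u) (_ : CommRing A') (_ : IsDomain A') (_ : ValuationRing A') (φ : A →+* A'),
      Function.Injective φ ∧ IsLocalHom φ ∧
      ∃ l : (AlgSp.yon S).obj (Over.mk (Spec.map (CommRingCat.ofHom φ) ≫ str)) ⟶ X.obj,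
        l ≫ f.hom = (AlgSp.yon S).map (Over.homMk (Spec.map (CommRingCat.ofHom φ)) rfl :
          Over.mk (Spec.map (CommRingCat.ofHom φ) ≫ str) ⟶ Over.mk str) ≫ b := by
  have hT : AlgSp.IsAlgSpace ((AlgSp.yon S).obj (Over.mk str)) := AlgSp.IsAlgSpace.yon_obj _
  let Z : AlgSp.Space S := ⟨pullback f.hom b, AlgSp.isAlgSpace_pullback Y.property X.property hT _ _⟩
  let π : Z.obj ⟶ (AlgSp.yon S).obj (Over.mk str) := pullback.snd f.hom b
  let T : Over S := Over.mk str
  let c : ↥T.left := IsLocalRing.closedPoint A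
  have sq := IsPullback.of_hasPullback f.hom b
  obtain ⟨z, hz⟩ : ∃ z, AlgSp.Points.map π z = AlgSp.Points.ofScheme T c := by
    have h1 : AlgSp.Points.ofScheme T c ∈ AlgSp.Points.map b ⁻¹' (AlgSp.Points.map f.hom '' Set.univ) := by
      rw [Set.mem_preimage, Set.image_univ, ← AlgSp.Points.ofPt_eq_map_ofScheme]; exact hb
    rw [Groth.Agent.AlgSp.preimage_image_map sq] at h1
    obtain ⟨z, -, hz⟩ := h1
    exact ⟨z, hz⟩
  obtain ⟨U, a, ha, has⟩ := Z.property.atlas
  obtain ⟨u, rfl⟩ := Groth.Agent.AlgSpB.surjective_ofPt has z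
  let g : U ⟶ T := (AlgSp.yon S).preimage (a ≫ π)
  have hg : (AlgSp.yon S).map g = a ≫ π := Functor.map_preimage _ _
  have : Flat g.left := Groth.Agent.AlgSpCov.chart_of_locP Groth.Agent.AlgSpCov.etaleLocal_flat
    X.property Y.property hf b sq ha g hg.symm
  have hgu : g.left u = c := by
    rw [AlgSp.Points.map_ofPt, ← hg, ← Category.comp_id ((AlgSp.yon S).map g),
      Groth.Agent.AlgSpB.ofPt_map_comp, AlgSp.Points.ofPt_eq_map_ofScheme, AlgSp.Points.map_id] at hz
    exact (AlgSp.Points.schemeHomeo T).injective hz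
  let η₀ : ↥T.left := (⟨⊥, Ideal.isPrime_bot⟩ : PrimeSpectrum A)
  obtain ⟨v, hv, hv2⟩ := Flat.generalizingMap g.left (show η₀ ⤳ g.left u by
    rw [hgu]; exact IsLocalRing.specializes_closedPoint (R := A) η₀)
  let L : Type u := U.left.residueField v
  let r : Spec (CommRingCat.of L) ⟶ U.left := U.left.fromSpecResidueField v
  have hr : r (IsLocalRing.closedPoint L) = v := Scheme.fromSpecResidueField_apply _ _
  obtain ⟨B, m, hm, hmu⟩ := Groth.Agent.AlgSpD.exists_valuation_extension r u (by rw [hr]; exact hv)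
  let φ : CommRingCat.of A ⟶ CommRingCat.of B := Spec.preimage (m ≫ g.left)
  have hφ : Spec.map φ = m ≫ g.left := Spec.map_preimage _
  have hinj : Function.Injective φ.hom := by
    have e : Spec.map (φ ≫ CommRingCat.ofHom (algebraMap B L)) (IsLocalRing.closedPoint L) = η₀ := by
      rw [Spec.map_comp, hφ, ← Category.assoc, hm, Scheme.Hom.comp_apply, hr]
      exact hv2
    have hk : (IsLocalRing.closedPoint L).asIdeal = ⊥ := IsLocalRing.maximalIdeal_eq_bot
    have h0 := congrArg PrimeSpectrum.asIdeal e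
    change Ideal.comap (φ ≫ CommRingCat.ofHom (algebraMap B L)).hom (IsLocalRing.closedPoint L).asIdeal = ⊥ at h0
    rw [hk] at h0
    intro x y hxy
    have hmem : x - y ∈ Ideal.comap (φ ≫ CommRingCat.ofHom (algebraMap B L)).hom ⊥ := by
      rw [Ideal.mem_comap, Ideal.mem_bot, CommRingCat.hom_comp, RingHom.comp_apply, map_sub, hxy, sub_self,
        map_zero]
    rw [h0, Ideal.mem_bot, sub_eq_zero] at hmem
    exact hmem
  have hloc : IsLocalHom φ.hom := by
    rw [IsLocalRing.isLocalHom_iff_comap_closedPoint]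
    change Spec.map φ (IsLocalRing.closedPoint B) = c
    rw [hφ, Scheme.Hom.comp_apply, hmu]
    exact hgu
  let mO : Over.mk (Spec.map (CommRingCat.ofHom φ.hom) ≫ str) ⟶ U := Over.homMk m (by
    change m ≫ U.hom = Spec.map φ ≫ str
    rw [hφ, Category.assoc, ← Over.w g]; rfl)
  refine ⟨B, inferInstance, inferInstance, inferInstance, φ.hom, hinj, hloc,
    (AlgSp.yon S).map mO ≫ a ≫ pullback.fst f.hom b, ?_⟩
  rw [Category.assoc, Category.assoc, pullback.condition, ← Category.assoc a, ← hg, ← Functor.map_comp_assoc]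
  congr 2
  ext1
  exact hφ.symm

end Groth.Agent.S10292
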