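import Groth.Statements.S10296
import Groth.Agent.AlgSp.NormUniv

set_option backward.isDefEq.respectTransparency.types false

set_option autoImplicit false
universe u
open CategoryTheory CategoryTheory.Limits AlgebraicGeometry
open AlgSp

namespace Groth.Agent.S10296

/-- The induced morphism from the normalization of X in Y to any integral Z -> X through which Y -> X
factors is the normalization of Z in Y. -/
theorem result {S : Scheme.{u}} {Y X X' Z : AlgSp.Space S} (f : Y ⟶ X)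
    (hqc : AlgSp.IsQuasiCompactMor f.hom) (hqs : AlgSp.IsQuasiSeparatedMor f.hom) (ν : X' ⟶ X) (f' : Y ⟶ X')
    (hn : AlgSp.IsRelNormalization f.hom ν.hom f'.hom) (π : Z ⟶ X) (hπ : AlgSp.IsIntegralMor π.hom) (g : Y ⟶ Z)
    (hg : g ≫ π = f) (h : X' ⟶ Z) (h1 : f' ≫ h = g) (h2 : h ≫ π = ν) :
    AlgSp.IsRelNormalization g.hom h.hom f'.hom := by
  have e1 : f'.hom ≫ h.hom = g.hom := congrArg (fun φ => φ.hom) h1
  have e2 : h.hom ≫ π.hom = ν.hom := congrArg (fun φ => φ.hom) h2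
  refine ⟨e1, ?_, fun W hW π' g' hπ' hg' => ?_⟩
  · rw [Groth.Agent.AlgSpD.isIntegralMor_iff]
    refine Groth.Agent.AlgSp.repWith_isIntegralHom_of_comp h.hom π.hom ?_
      ((Groth.Agent.AlgSpD.isIntegralMor_iff _).1 hπ)
    rw [e2]
    exact (Groth.Agent.AlgSpD.isIntegralMor_iff _).1 hn.2.1
  have hc : AlgSp.IsIntegralMor (π' ≫ π.hom) := (Groth.Agent.AlgSpD.isIntegralMor_iff _).2
    (MorphismProperty.comp_mem _ _ _ ((Groth.Agent.AlgSpD.isIntegralMor_iff _).1 hπ')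
      ((Groth.Agent.AlgSpD.isIntegralMor_iff _).1 hπ))
  have hgf : g.hom ≫ π.hom = f.hom := congrArg (fun φ => φ.hom) hg
  obtain ⟨k, ⟨hk1, hk2⟩, hu⟩ := hn.2.2 hW (π' ≫ π.hom) g' hc (by rw [← Category.assoc, hg', hgf])
  refine ⟨k, ⟨hk1, ?_⟩, fun k' hk' => hu k' ⟨hk'.1, by rw [reassoc_of% hk'.2, e2]⟩⟩
  exact Groth.Agent.AlgSp.relNorm_hom_ext hn Z.property hπ (by rw [Category.assoc, hk2]) e2
    (by rw [reassoc_of% hk1, hg', e1])

end Groth.Agent.S10296
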