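import Groth.Statements.S10299
import Groth.Agent.AlgSpD.NormFinite
-- import your own Groth.Agent.* helpers here

set_option autoImplicit false
universe u
open CategoryTheory CategoryTheory.Limits AlgebraicGeometry
open AlgSp

set_option backward.isDefEq.respectTransparency.types false

namespace Groth.Agent.S10299

/-- Over a Nagata algebraic space, the normalization of the target in a reduced source of finite type
and quasi-separated over it is finite. -/
theorem result {S : Scheme.{u}} {X Y Y' : AlgSp.Space S} (f : X ⟶ Y)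
    (hY : AlgSp.EtaleLocally (fun U => ∀ V : U.Opens, IsAffineOpen V → CAlg.IsNagata ↑Γ(U, V)) Y.obj)
    (hqs : AlgSp.IsQuasiSeparatedMor f.hom) (hft : AlgSp.IsFiniteTypeMor f.hom)
    (hX : AlgSp.EtaleLocally (fun U => IsReduced U) X.obj) (ν : Y' ⟶ Y) (f' : X ⟶ Y')
    (hn : AlgSp.IsRelNormalization f.hom ν.hom f'.hom) : AlgSp.IsFiniteMor ν.hom := by
  obtain ⟨V, p, hp, hps, hN⟩ := hY
  have hν := (AlgSpD.isIntegralMor_iff ν.hom).1 hn.2.1
  obtain ⟨W, fst, i, sq⟩ : ∃ (W : Over S) (fst : (AlgSp.yon S).obj W ⟶ Y'.obj) (i : W ⟶ V),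
      IsPullback fst ((AlgSp.yon S).map i) ν.hom p := ⟨_, _, _, hν.1.isPullback p⟩
  have hfin : IsFinite i.left := by
    refine (IsZariskiLocalAtTarget.iff_of_iSup_eq_top (P := @IsFinite)
      (fun O : V.left.affineOpens => (O : V.left.Opens)) (iSup_affineOpens_eq_top V.left)).2 fun O => ?_
    have hO : IsAffineOpen O.1 := O.2
    let h : Spec Γ(V.left, O.1) ⟶ S := hO.fromSpec ≫ V.hom
    let j : Over.mk h ⟶ V := Over.homMk hO.fromSpec rfl
    have : IsOpenImmersion j.left := inferInstanceAs (IsOpenImmersion hO.fromSpec)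
    have sj := IsPullback.of_hasPullback i j
    have hb : AlgSp.RepWith @Etale ((AlgSp.yon S).map j ≫ p) := AlgSpB.repWith_etale_map_comp j hp
    have hi1 : IsFinite (pullback.snd i j).left := AlgSpD.NormFinite.isFinite_of_affine_chart hn hqs hft hX
      (hN O.1 hO) h ((AlgSp.yon S).map j ≫ p) hb ((sj.map (AlgSp.yon S)).paste_horiz sq)
    have sl : IsPullback (pullback.fst i j).left (pullback.snd i j).left i.left hO.fromSpec :=
      sj.map (Over.forget S)
    have sr := (isPullback_morphismRestrict i.left O.1).flip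
    have sl' : IsPullback (sl.lift (i.left ⁻¹ᵁ O.1).ι ((i.left ∣_ O.1) ≫ hO.isoSpec.hom)
        (by rw [Category.assoc, hO.isoSpec_hom_fromSpec, morphismRestrict_ι])) (i.left ∣_ O.1)
        (pullback.snd i j).left hO.isoSpec.hom := by
      refine IsPullback.of_right ?_ (sl.lift_snd _ _ _) sl
      rw [sl.lift_fst, hO.isoSpec_hom_fromSpec]
      exact sr
    exact MorphismProperty.of_isPullback sl' hi1
  refine (AlgSpD.isFiniteMor_iff ν.hom).2 ?_
  exact AlgSpD.repWith_descend (P := @IsFinite) (fun g (hg : IsFinite g) => inferInstance) ν.hom p hp hps sq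
    ((AlgSp.repWith_yon_map_iff _ _).2 hfin)

end Groth.Agent.S10299
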