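import Groth.Statements.S10301
import Groth.Agent.AlgSp.UnivInj
import Groth.Agent.AlgSp.Space

set_option autoImplicit false
universe u
open CategoryTheory CategoryTheory.Limits AlgebraicGeometry
open AlgSp

namespace Groth.Agent.S10301

/-- For a representable morphism of algebraic spaces, being a universal homeomorphism in the
representable sense agrees with inducing homeomorphisms on points after every base change. -/
theorem result {S : Scheme.{u}} {X Y : AlgSp.Space S} (f : X ⟶ Y)
    (hf : AlgSp.Representable f.hom) :
    AlgSp.RepWith FlatMor.IsUnivHomeo f.hom ↔ AlgSp.IsUnivHomeoMor f.hom := by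
  refine ⟨fun h => ?_, fun h => ⟨hf, (Groth.Agent.AlgSp.universally_of_points hf
    (Q := topologically (fun g => IsHomeomorph g)) (fun φ hφ => ?_) h).2⟩⟩
  · have hinj : AlgSp.IsUnivInjectiveMor f.hom :=
      (Groth.Agent.AlgSp.univInjective_tfae X.property f.hom).1.1
        ((Groth.Agent.AlgSp.repWith_universallyInjective_iff X.property f.hom hf).1
          (Groth.Agent.AlgSp.repWith_mono (Q := @UniversallyInjective)
            (fun g hg => ⟨MorphismProperty.universally_mono (fun A B k hk => hk.bijective.injective) _ hg⟩) h))
    have hopen : AlgSp.IsUnivOpenMor f.hom :=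
      Groth.Agent.AlgSp.isUnivOpenMor_of_repWith (Groth.Agent.AlgSp.repWith_mono (Q := @UniversallyOpen)
        (fun g hg => ⟨MorphismProperty.universally_mono (fun A B k hk => hk.isOpenMap) _ hg⟩) h)
    intro Z Z' hZ g fst snd sq
    have h' := MorphismProperty.of_isPullback sq h
    refine ⟨AlgSp.Points.continuous_map snd, hopen hZ g fst snd sq, hinj hZ g fst snd sq, ?_⟩
    exact (Groth.Agent.AlgSp.repWith_surjective_iff snd h'.1).1
      (Groth.Agent.AlgSp.repWith_mono (Q := @Surjective)
        (fun g hg => ⟨(MorphismProperty.universally_le _ _ hg).bijective.surjective⟩) h')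
  · rw [AlgSp.Points.map_yon_map_eq] at hφ
    have h1 := ((AlgSp.Points.schemeHomeo _).symm.isHomeomorph.comp
      (hφ.comp (AlgSp.Points.schemeHomeo _).isHomeomorph))
    show IsHomeomorph φ.left
    simpa [Function.comp_def] using h1

end Groth.Agent.S10301
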