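import Groth.Statements.S10302
import Groth.Agent.AlgSpD.HasAt

set_option autoImplicit false
universe u
open CategoryTheory CategoryTheory.Limits AlgebraicGeometry
open AlgSp

namespace Groth.Agent.S10302

/-- A flat morphism of algebraic spaces maps points of codimension 0 to points of codimension 0. -/
theorem result {S : Scheme.{u}} {X Y : AlgSp.Space S} (f : X ⟶ Y) (hf : AlgSp.LocP @Flat f.hom)
    (x : AlgSp.Points X.obj) (hx : AlgSp.HasAt (fun U u => ringKrullDim ↥(U.presheaf.stalk u) = 0) X.obj x) :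
    AlgSp.HasAt (fun U u => ringKrullDim ↥(U.presheaf.stalk u) = 0) Y.obj (AlgSp.Points.map f.hom x) := by
  obtain ⟨U, a, u, ha, rfl, hu⟩ := hx
  obtain ⟨V, b, v, hb, hv⟩ := AlgSpD.exists_chart Y (AlgSp.Points.map f.hom (AlgSp.Points.ofPt a u))
  obtain ⟨R, p, h, r, hR, hp, w, hr, hr'⟩ := AlgSpD.exists_diagram_over f ha u hb hv
  have : Flat h.left := hf _ b h hR hb w
  refine ⟨V, b, v, hb, hv, le_antisymm ?_ ?_⟩
  · refine ((hr' ▸ AlgSpD.ringKrullDim_stalk_apply_le h.left r).trans_eq ?_)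
    rw [← AlgSpD.ringKrullDim_stalk_eq p.left r, hr]
    exact hu
  · exact ringKrullDim_nonneg_of_nontrivial

end Groth.Agent.S10302
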