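import Groth.Statements.S10303
import Groth.Agent.AlgSpD.LocFinComp
import Groth.Agent.AlgSpD.HasAt
import Groth.Agent.AlgSpCov.LocP
-- import your own Groth.Agent.* helpers here

set_option autoImplicit false
universe u
open CategoryTheory CategoryTheory.Limits AlgebraicGeometry
open AlgSp

namespace Groth.Agent.S10303

set_option backward.isDefEq.respectTransparency false

/-- If Y has an etale surjective chart whose quasi-compact opens have finitely many irreducible
components and f : X -> Y is flat and locally of finite type, then X has such a chart too. -/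
theorem result {S : Scheme.{u}} {X Y : AlgSp.Space S} (f : X ⟶ Y)
    (hf : AlgSp.LocP @Flat f.hom) (hf' : AlgSp.LocP @LocallyOfFiniteType f.hom)
    (hY : AlgSp.EtaleLocally (fun U => ∀ W : U.Opens, IsCompact (W : Set ↥U) → (irreducibleComponents ↥W).Finite) Y.obj) :
    AlgSp.EtaleLocally (fun U => ∀ W : U.Opens, IsCompact (W : Set ↥U) → (irreducibleComponents ↥W).Finite) X.obj := by
  obtain ⟨V, b, hb, hbs, hV⟩ := hY
  obtain ⟨U, a, ha, has⟩ := X.property.atlas
  obtain ⟨R, p, h, sq⟩ := Groth.Agent.AlgSpB.exists_pullback_yon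
    (Y.property.representable_from_yon (a ≫ f.hom)) b
  have hp : Etale p.left := hb.2 _ _ _ sq.flip
  have hps : Surjective p.left := hbs.2 _ _ _ sq.flip
  have hRa : AlgSp.RepWith @Etale ((AlgSp.yon S).map p ≫ a) :=
    Groth.Agent.AlgSpCov.repWith_comp ((AlgSp.repWith_yon_map_iff _ p).2 hp) ha
  have hRs : AlgSp.RepWith @Surjective ((AlgSp.yon S).map p ≫ a) :=
    Groth.Agent.AlgSpCov.repWith_comp ((AlgSp.repWith_yon_map_iff _ p).2 hps) has
  have hc : ((AlgSp.yon S).map p ≫ a) ≫ f.hom = (AlgSp.yon S).map h ≫ b := by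
    rw [Category.assoc]; exact sq.w
  have : Flat h.left := hf _ b h hRa hb hc
  have : LocallyOfFiniteType h.left := hf' _ b h hRa hb hc
  exact ⟨R, _, hRa, hRs, Groth.Agent.AlgSpD.LocFinComp.lfic_of_flat_lft h.left hV⟩

end Groth.Agent.S10303
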