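import Groth.Statements.S10304
import Groth.Agent.AlgSpD.LocFinComp
import Groth.Agent.AlgSpD.HasAt
import Groth.Agent.AlgSp.Codim0
import Groth.Agent.AlgSpCov.LocP
import Groth.Agent.AlgSp.QCMor
-- import your own Groth.Agent.* helpers here

set_option autoImplicit false
universe u
open CategoryTheory CategoryTheory.Limits AlgebraicGeometry
open AlgSp

namespace Groth.Agent.S10304

set_option backward.isDefEq.respectTransparency false

/-- Equivalent forms of the condition that the schemes etale over X have locally finitely many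
irreducible components: one etale surjective chart, every etale chart, finiteness of codimension-0
points of quasi-compact spaces etale over X, finiteness of irreducible components of such spaces. -/
theorem result {S : Scheme.{u}} (X : AlgSp.Space S) :
    (AlgSp.EtaleLocally (fun U => ∀ W : U.Opens, IsCompact (W : Set ↥U) → (irreducibleComponents ↥W).Finite) X.obj ↔
      ∀ (U : Over S) (a : (AlgSp.yon S).obj U ⟶ X.obj), AlgSp.RepWith @Etale a →
        ∀ W : U.left.Opens, IsCompact (W : Set ↥U.left) → (irreducibleComponents ↥W).Finite) ∧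
    (AlgSp.EtaleLocally (fun U => ∀ W : U.Opens, IsCompact (W : Set ↥U) → (irreducibleComponents ↥W).Finite) X.obj ↔
      ∀ (Y : AlgSp.Space S) (g : Y ⟶ X), AlgSp.IsEtaleMor g.hom → AlgSp.IsQuasiCompactSp Y.obj →
        {y : AlgSp.Points Y.obj |
          AlgSp.HasAt (fun U u => ringKrullDim ↥(U.presheaf.stalk u) = 0) Y.obj y}.Finite) ∧
    (AlgSp.EtaleLocally (fun U => ∀ W : U.Opens, IsCompact (W : Set ↥U) → (irreducibleComponents ↥W).Finite) X.obj ↔
      ∀ (Y : AlgSp.Space S) (g : Y ⟶ X), AlgSp.IsEtaleMor g.hom → AlgSp.IsQuasiCompactSp Y.obj →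
        (irreducibleComponents (AlgSp.Points Y.obj)).Finite) := by
  have all_of_one : AlgSp.EtaleLocally (fun U => Groth.Agent.AlgSpD.LocFinComp.LFIC U) X.obj →
      ∀ (U : Over S) (a : (AlgSp.yon S).obj U ⟶ X.obj), AlgSp.RepWith @Etale a →
        Groth.Agent.AlgSpD.LocFinComp.LFIC U.left := by
    rintro ⟨V, b, hb, hbs, hV⟩ U a ha
    obtain ⟨R, p, h, sq⟩ := Groth.Agent.AlgSpB.exists_pullback_yon ha.1 b
    have : Etale p.left := hb.2 _ _ _ sq.flip
    have hps : Surjective p.left := hbs.2 _ _ _ sq.flip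
    have : Etale h.left := ha.2 _ _ _ sq
    exact Groth.Agent.AlgSpD.LocFinComp.lfic_of_etale_surjective p.left hps.surj
      (Groth.Agent.AlgSpD.LocFinComp.lfic_of_flat_lft h.left hV)
  -- the codimension zero points of a quasi-compact space etale over `X`
  have chartY : (∀ (U : Over S) (a : (AlgSp.yon S).obj U ⟶ X.obj), AlgSp.RepWith @Etale a →
        Groth.Agent.AlgSpD.LocFinComp.LFIC U.left) →
      ∀ (Y : AlgSp.Space S) (g : Y ⟶ X), AlgSp.IsEtaleMor g.hom → AlgSp.IsQuasiCompactSp Y.obj →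
        ∃ (V : Over S) (b : (AlgSp.yon S).obj V ⟶ Y.obj), AlgSp.RepWith @Etale b ∧
          Function.Surjective (AlgSp.Points.ofPt b) ∧
          (irreducibleComponents (V.left : Type u)).Finite := by
    intro h Y g hg hqc
    obtain ⟨V, b, hb, hbs, hV⟩ := hqc
    have hfin := h V _ (hg b hb) ⊤ (isCompact_univ (X := (V.left : Type u)))
    rw [Groth.Agent.AlgSpD.LocFinComp.finite_iff_genIn] at hfin
    exact ⟨V, b, hb, Groth.Agent.AlgSpB.surjective_ofPt hbs,
      Groth.Agent.AlgSp.finite_irreducibleComponents_of_generic (hfin.subset fun v hv => ⟨trivial, hv⟩)⟩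
  -- quasi-compact opens of a chart
  have openY : ∀ (U : Over S) (a : (AlgSp.yon S).obj U ⟶ X.obj), AlgSp.RepWith @Etale a →
      ∀ W : U.left.Opens, IsCompact (W : Set ↥U.left) →
        ∃ (T : Over S) (g : (⟨(AlgSp.yon S).obj T, AlgSp.IsAlgSpace.yon_obj T⟩ : AlgSp.Space S) ⟶ X),
          AlgSp.IsEtaleMor g.hom ∧ AlgSp.IsQuasiCompactSp ((AlgSp.yon S).obj T) ∧ T.left = W.toScheme := by
    intro U a ha W hW
    let i : Over.mk (W.ι ≫ U.hom) ⟶ U := Over.homMk W.ι rfl
    have : CompactSpace ↥(Over.mk (W.ι ≫ U.hom)).left := isCompact_iff_compactSpace.1 hW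
    have hiE : Etale i.left := inferInstanceAs (Etale W.ι)
    have hia : AlgSp.RepWith @Etale ((AlgSp.yon S).map i ≫ a) :=
      Groth.Agent.AlgSpCov.repWith_comp ((AlgSp.repWith_yon_map_iff _ i).2 hiE) ha
    exact ⟨_, ObjectProperty.homMk ((AlgSp.yon S).map i ≫ a),
      fun V φ hφ => Groth.Agent.AlgSpCov.repWith_comp hφ hia,
      Groth.Agent.AlgSp.isQuasiCompactSp_yon _, rfl⟩
  refine ⟨⟨all_of_one, fun h => ?_⟩, ⟨fun h Y g hg hqc => ?_, fun h => ?_⟩, ⟨fun h Y g hg hqc => ?_, fun h => ?_⟩⟩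
  · obtain ⟨U, a, ha, has⟩ := X.property.atlas
    exact ⟨U, a, ha, has, h U a ha⟩
  · obtain ⟨V, b, hb, hbs, hV⟩ := chartY (all_of_one h) Y g hg hqc
    refine ((Groth.Agent.AlgSp.finite_generic_of_irreducibleComponents hV).image
      (AlgSp.Points.ofPt b)).subset ?_
    intro y hy
    obtain ⟨v, rfl⟩ := hbs y
    exact ⟨v, (Groth.Agent.AlgSp.codim0_iff_chart hb v).1 hy, rfl⟩
  · obtain ⟨U, a, ha, has⟩ := X.property.atlas
    refine ⟨U, a, ha, has, fun W hW => ?_⟩
    obtain ⟨T, g, hg, hqc, hT⟩ := openY U a ha W hW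
    have h1 := h _ g hg hqc
    have hinj : Function.Injective (AlgSp.Points.ofPt (𝟙 ((AlgSp.yon S).obj T))) :=
      (AlgSp.Points.schemeHomeo T).injective
    have h2 : (irreducibleComponents (T.left : Type u)).Finite := by
      refine Groth.Agent.AlgSp.finite_irreducibleComponents_of_generic ((h1.preimage hinj.injOn).subset ?_)
      exact fun v hv => (Groth.Agent.AlgSp.codim0_iff_chart (AlgSp.repWith_id _ T) v).2 hv
    rw [hT] at h2
    exact h2
  · obtain ⟨V, b, hb, hbs, hV⟩ := chartY (all_of_one h) Y g hg hqc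
    exact Groth.Agent.AlgSpD.LocFinComp.finite_irreducibleComponents_of_surjective
      (AlgSp.Points.continuous_ofPt b) hbs hV
  · obtain ⟨U, a, ha, has⟩ := X.property.atlas
    refine ⟨U, a, ha, has, fun W hW => ?_⟩
    obtain ⟨T, g, hg, hqc, hT⟩ := openY U a ha W hW
    have h2 : (irreducibleComponents (T.left : Type u)).Finite :=
      Groth.Agent.AlgSpD.LocFinComp.finite_irreducibleComponents_of_surjective
        (AlgSp.Points.schemeHomeo T).symm.continuous (AlgSp.Points.schemeHomeo T).symm.surjective (h _ g hg hqc)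
    rw [hT] at h2
    exact h2

end Groth.Agent.S10304
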