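import Groth.Statements.S9699
import Groth.Agent.GrpScheme.Syntomic.Algebra
import Mathlib.AlgebraicGeometry.Morphisms.Smooth

set_option autoImplicit false
universe u
open CategoryTheory CategoryTheory.Limits AlgebraicGeometry
open Synt

namespace Groth.Agent.S9699

/-- A smooth morphism of schemes is syntomic (flat, locally of finite presentation, with local complete
intersection fibres, in the affine-local sense of Synt.IsSyntomicMor). -/
theorem result {X S : Scheme.{u}} (f : X ⟶ S) [Smooth f] :
    Synt.IsSyntomicMor f := by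
  intro x
  obtain ⟨V, hV, hxV, -⟩ := exists_isAffineOpen_mem_and_subset (x := f x) (U := ⊤) trivial
  obtain ⟨U, hU, hxU, hUV⟩ := exists_isAffineOpen_mem_and_subset (x := x) (U := f ⁻¹ᵁ V) hxV
  refine ⟨⟨U, hU⟩, ⟨V, hV⟩, hUV, hxU, ?_⟩
  let R := Γ(S, V)
  let A := Γ(X, U)
  letI : Algebra R A := (f.appLE V U hUV).hom.toAlgebra
  haveI hs : Algebra.Smooth R A := f.smooth_appLE hV hU hUV
  haveI : Algebra.FinitePresentation R A := Algebra.Smooth.finitePresentation
  refine ⟨(f.smooth_appLE hV hU hUV).flat, inferInstance, fun p => ?_⟩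
  haveI : Algebra.Smooth p.asIdeal.ResidueField (p.asIdeal.Fiber A) :=
    inferInstanceAs (Algebra.Smooth p.asIdeal.ResidueField (TensorProduct R p.asIdeal.ResidueField A))
  haveI : Algebra.FinitePresentation p.asIdeal.ResidueField (p.asIdeal.Fiber A) := Algebra.Smooth.finitePresentation
  haveI : Algebra.FiniteType p.asIdeal.ResidueField (p.asIdeal.Fiber A) := Algebra.FiniteType.of_finitePresentation
  exact GrpScheme.Syntomic.Algebra.isLCIOver p.asIdeal.ResidueField (p.asIdeal.Fiber A)

end Groth.Agent.S9699
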