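import Groth.Statements.S10308
import Groth.Agent.AlgSpD.RelDim
import Groth.Agent.AlgSpB.Points
import Groth.Agent.FlatMisc.FibreDimScheme
-- import your own Groth.Agent.* helpers here

set_option autoImplicit false
universe u
open CategoryTheory CategoryTheory.Limits AlgebraicGeometry
open AlgSp

namespace Groth.Agent.S10308

open Groth.Agent
set_option backward.isDefEq.respectTransparency false

/-- For f locally of finite type, the locus of points where the relative dimension of f is at most n is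
open. -/
theorem result {S : Scheme.{u}} {X Y : AlgSp.Space S} (f : X ⟶ Y)
    (hf : AlgSp.LocP @LocallyOfFiniteType f.hom) (n : ℕ) :
    IsOpen {x : AlgSp.Points X.obj |
      AlgSp.HasAtMor (fun _ _ h u => FlatMor.fibreDimAt h u ≤ (n : WithBot ℕ∞)) f.hom x} := by
  have hQ : AlgSpD.MorEtaleInv.{u} (fun _ _ h u => FlatMor.fibreDimAt h u ≤ (n : WithBot ℕ∞)) :=
    fun _ _ _ _ p q h' h _ _ w u => by
      show FlatMor.fibreDimAt h' u ≤ _ ↔ FlatMor.fibreDimAt h (p u) ≤ _
      rw [AlgSpD.fibreDimAt_inv p q h' h w u]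
  rw [isOpen_iff_forall_mem_open]
  intro x hx
  obtain ⟨U, V, a, b, h, u, ha, hb, w, rfl⟩ := AlgSpD.exists_diagram f x
  haveI : LocallyOfFiniteType h.left := hf a b h ha hb w
  refine ⟨AlgSp.Points.ofPt a '' {u | FlatMor.fibreDimAt h.left u ≤ n}, ?_, ?_, u,
    (AlgSpD.hasAtMor_iff_chart hQ f ha hb w u).1 hx, rfl⟩
  · rintro _ ⟨z, hz, rfl⟩
    exact (AlgSpD.hasAtMor_iff_chart hQ f ha hb w z).2 hz
  · exact AlgSpB.isOpenMap_ofPt ha _ (FlatMisc.FibreDimScheme.isOpen_fibreDimAt_le h.left n)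

end Groth.Agent.S10308
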