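import Groth.Statements.S10309
import Groth.Agent.AlgSpD.RelDim
import Groth.Agent.AlgSpB.Points
import Groth.Agent.EquidimPt.Retro
-- import your own Groth.Agent.* helpers here

set_option autoImplicit false
universe u
open CategoryTheory CategoryTheory.Limits AlgebraicGeometry
open AlgSp

namespace Groth.Agent.S10309

open Groth.Agent
set_option backward.isDefEq.respectTransparency false

/-- For f locally of finite presentation, the locus where the relative dimension is at most n is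
retrocompact in |X|. -/
theorem result {S : Scheme.{u}} {X Y : AlgSp.Space S} (f : X ⟶ Y)
    (hf : AlgSp.LocP @LocallyOfFinitePresentation f.hom) (n : ℕ) (V : Set (AlgSp.Points X.obj))
    (hV : IsOpen V) (hVc : IsCompact V) :
    IsCompact (V ∩ {x : AlgSp.Points X.obj |
      AlgSp.HasAtMor (fun _ _ h u => FlatMor.fibreDimAt h u ≤ (n : WithBot ℕ∞)) f.hom x}) := by
  have hQ : AlgSpD.MorEtaleInv.{u} (fun _ _ h u => FlatMor.fibreDimAt h u ≤ (n : WithBot ℕ∞)) :=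
    fun _ _ _ _ p q h' h _ _ w u => by
      show FlatMor.fibreDimAt h' u ≤ _ ↔ FlatMor.fibreDimAt h (p u) ≤ _
      rw [AlgSpD.fibreDimAt_inv p q h' h w u]
  have key : ∀ x ∈ V, ∃ O : Set (AlgSp.Points X.obj), IsOpen O ∧ x ∈ O ∧ O ⊆ V ∧
      IsCompact (O ∩ {x : AlgSp.Points X.obj |
        AlgSp.HasAtMor (fun _ _ h u => FlatMor.fibreDimAt h u ≤ (n : WithBot ℕ∞)) f.hom x}) := fun x hx => by
    obtain ⟨U, W, a, b, h, u, ha, hb, w, rfl⟩ := AlgSpD.exists_diagram f x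
    haveI : LocallyOfFinitePresentation h.left := hf a b h ha hb w
    obtain ⟨A, hA, huA, hAV⟩ := exists_isAffineOpen_mem_and_subset (x := u)
      (U := ⟨AlgSp.Points.ofPt a ⁻¹' V, (AlgSp.Points.isOpen_iff.1 hV) U a⟩) hx
    have hset : AlgSp.Points.ofPt a '' (A : Set U.left) ∩ {x : AlgSp.Points X.obj |
        AlgSp.HasAtMor (fun _ _ h u => FlatMor.fibreDimAt h u ≤ (n : WithBot ℕ∞)) f.hom x} =
        AlgSp.Points.ofPt a '' ((A : Set U.left) ∩ {z | FlatMor.fibreDimAt h.left z ≤ n}) := by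
      ext p
      constructor
      · rintro ⟨⟨z, hz, rfl⟩, hp⟩
        exact ⟨z, ⟨hz, (AlgSpD.hasAtMor_iff_chart hQ f ha hb w z).1 hp⟩, rfl⟩
      · rintro ⟨z, ⟨hz, hp⟩, rfl⟩
        exact ⟨⟨z, hz, rfl⟩, (AlgSpD.hasAtMor_iff_chart hQ f ha hb w z).2 hp⟩
    refine ⟨AlgSp.Points.ofPt a '' (A : Set U.left), AlgSpB.isOpenMap_ofPt ha _ A.isOpen, ⟨u, huA, rfl⟩,
      Set.image_subset_iff.2 hAV, ?_⟩
    rw [hset]
    have hc := EquidimPt.isRetrocompact_le h.left n hA.isCompact A.isOpen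
    rw [Set.inter_comm]
    exact hc.image (AlgSp.Points.continuous_ofPt a)
  choose O hO hxO hOV hOc using key
  obtain ⟨t, ht⟩ := hVc.elim_finite_subcover (fun x : V => O x.1 x.2) (fun x => hO x.1 x.2)
    fun x hx => Set.mem_iUnion.2 ⟨⟨x, hx⟩, hxO x hx⟩
  have heq : V ∩ {x : AlgSp.Points X.obj |
        AlgSp.HasAtMor (fun _ _ h u => FlatMor.fibreDimAt h u ≤ (n : WithBot ℕ∞)) f.hom x} =
      ⋃ x ∈ t, (O x.1 x.2 ∩ {x : AlgSp.Points X.obj |
        AlgSp.HasAtMor (fun _ _ h u => FlatMor.fibreDimAt h u ≤ (n : WithBot ℕ∞)) f.hom x}) := by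
    ext z
    simp only [Set.mem_inter_iff, Set.mem_iUnion]
    constructor
    · rintro ⟨h2, h1⟩
      obtain ⟨x, hx⟩ := Set.mem_iUnion.1 (ht h2)
      obtain ⟨hxt, hzx⟩ := Set.mem_iUnion.1 hx
      exact ⟨x, hxt, hzx, h1⟩
    · rintro ⟨x, -, hz, h1⟩
      exact ⟨hOV _ _ hz, h1⟩
  rw [heq]
  exact t.finite_toSet.isCompact_biUnion fun x _ => hOc x.1 x.2

end Groth.Agent.S10309
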