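import Groth.Statements.S1031
import Groth.Agent.DHA.BiprodTriangle
-- import your own Groth.Agent.* helpers here

set_option autoImplicit false
universe v u
open CategoryTheory
open CohDer

namespace Groth.Agent.S1031


section Helpers

open CategoryTheory.Limits Pretriangulated ObjectProperty

set_option linter.unusedSectionVars false

variable {D : Type u} [Category.{v} D] [Preadditive D] [Limits.HasZeroObject D] [HasShift D ℤ]
  [∀ n : ℤ, (shiftFunctor D n).Additive] [Pretriangulated D] [IsTriangulated D]

/-- closed under binary biproducts -/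
def BinClosed (P : ObjectProperty D) : Prop := ∀ X Y : D, P X → P Y → P (X ⊞ Y)

lemma BinClosed.extensionProduct {P Q : ObjectProperty D} (hP : BinClosed P) (hQ : BinClosed Q) :
    BinClosed (ObjectProperty.extensionProduct P Q) := by
  rintro X X' ⟨A, B, f, g, h, hT, hA, hB⟩ ⟨A', B', f', g', h', hT', hA', hB'⟩
  exact ⟨_, _, _, _, _, DHA.BiprodTriangle.sum_distinguished hT hT',
    hP _ _ hA hA', hQ _ _ hB hB'⟩

lemma BinClosed.extensionProductIter {P : ObjectProperty D} (hP : BinClosed P) (n : ℕ) :
    BinClosed (P.extensionProductIter n) := by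
  induction n with
  | zero => exact hP
  | succ n ih => rw [extensionProductIter_succ]; exact hP.extensionProduct ih

lemma BinClosed.retractClosure {P : ObjectProperty D} (hP : BinClosed P) :
    BinClosed P.retractClosure := by
  rintro X X' ⟨Y, hY, ⟨r⟩⟩ ⟨Y', hY', ⟨r'⟩⟩
  exact ⟨Y ⊞ Y', hP _ _ hY hY', ⟨biprod.map r.i r'.i, biprod.map r.r r'.r,
    biprod.hom_ext _ _ (by simp) (by simp)⟩⟩

lemma shiftStable_retractClosure {P : ObjectProperty D} [P.IsStableUnderShift ℤ] :
    P.retractClosure.IsStableUnderShift ℤ where
  isStableUnderShiftBy a := ⟨fun X ⟨Y, hY, ⟨r⟩⟩ =>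
    ⟨_, P.le_shift a _ hY, ⟨r.map (shiftFunctor D a)⟩⟩⟩

lemma binClosed_binaryProductsClosure (P : ObjectProperty D) :
    BinClosed P.binaryProductsClosure := fun X Y hX hY =>
  P.binaryProductsClosure.prop_of_iso (biprod.isoProd X Y).symm
    (P.binaryProductsClosure.prop_prod X Y hX hY)

lemma iter_iter (P : ObjectProperty D) (n : ℕ) : ∀ m : ℕ,
    ∃ N, (P.extensionProductIter n).extensionProductIter m = P.extensionProductIter N
  | 0 => ⟨n, rfl⟩
  | m + 1 => by
    obtain ⟨N, hN⟩ := iter_iter P n m
    refine ⟨n + 1 + N, ?_⟩
    rw [extensionProductIter_succ, hN, ← P.extensionProductIter_add (n' := n) rfl]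

lemma iter_le {P Q : ObjectProperty D} {n : ℕ} (h : P ≤ Q.triangEnvelopeIter n) (m : ℕ) :
    ∃ N, P.triangEnvelopeIter m ≤ Q.triangEnvelopeIter N := by
  let B := (Q.shiftClosure ℤ).binaryProductsClosure.retractClosure
  have : ((Q.shiftClosure ℤ).binaryProductsClosure).IsStableUnderShift ℤ := inferInstance
  have : B.IsStableUnderShift ℤ := shiftStable_retractClosure
  have hL : BinClosed (Q.triangEnvelopeIter n) :=
    ((binClosed_binaryProductsClosure _).retractClosure.extensionProductIter n).retractClosure
  have : (Q.triangEnvelopeIter n).IsStableUnderShift ℤ := shiftStable_retractClosure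
  have hbase : (P.shiftClosure ℤ).binaryProductsClosure.retractClosure ≤
      Q.triangEnvelopeIter n := by
    have : (Q.triangEnvelopeIter n).IsClosedUnderBinaryProducts := ⟨by
      rintro X ⟨h⟩
      let e := (IsLimit.conePointUniqueUpToIso h.isLimit
        ((IsLimit.postcomposeHomEquiv (diagramIsoPair h.diag).symm _).symm
          (BinaryBiproduct.isLimit _ _)))
      exact (Q.triangEnvelopeIter n).prop_of_iso e.symm
        (hL _ _ (h.prop_diag_obj ⟨.left⟩) (h.prop_diag_obj ⟨.right⟩))⟩
    rw [retractClosure_le_iff]
    exact limitsClosure_le ((shiftClosure_le_iff _ _).2 h)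
  obtain ⟨N, hN⟩ := iter_iter B n m
  refine ⟨N, (monotone_retractClosure (monotone_extensionProductIter hbase m)).trans ?_⟩
  rw [retractClosure_extensionProductIter_retractClosure, hN]

end Helpers

/-- Let D be a triangulated category admitting a strong generator G (every object is reached from G by
shifts, finite sums, summands and a uniformly bounded number of extensions). Then every classical
generator E of D (every object reached from E with some finite number of extensions) is itself a
strong generator. -/
theorem result {D : Type u} [Category.{v} D] [Preadditive D] [Limits.HasZeroObject D] [HasShift D ℤ]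
    [∀ n : ℤ, (shiftFunctor D n).Additive] [Pretriangulated D] [IsTriangulated D]
    (G E : D) (hG : ObjectProperty.IsStrongTriangulatedGenerator (fun X : D => X = G))
    (hE : ObjectProperty.IsClassicalTriangulatedGenerator (fun X : D => X = E)) :
    ObjectProperty.IsStrongTriangulatedGenerator (fun X : D => X = E) := by
  obtain ⟨m, hm⟩ := hG
  obtain ⟨n, hn⟩ := (ObjectProperty.prop_triangEnvelope_iff _ G).1
    (by rw [show ObjectProperty.triangEnvelope (fun X : D => X = E) = ⊤ from hE]; trivial)
  obtain ⟨N, hN⟩ := iter_le (P := fun X : D => X = G) (Q := fun X : D => X = E) (n := n)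
    (by rintro X rfl; exact hn) m
  exact ⟨N, eq_top_iff.2 (hm ▸ hN)⟩

end Groth.Agent.S1031
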