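import Groth.Statements.S10310
import Groth.Agent.AlgSpD.RelDim

set_option autoImplicit false
universe u
open CategoryTheory CategoryTheory.Limits AlgebraicGeometry
open AlgSp

namespace Groth.Agent.S10310

set_option backward.isDefEq.respectTransparency false
open Groth.Agent

/-- A morphism locally of finite type is locally quasi-finite if and only if it has relative dimension 0
at every point. -/
theorem result {S : Scheme.{u}} {X Y : AlgSp.Space S} (f : X ⟶ Y)
    (hf : AlgSp.LocP @LocallyOfFiniteType f.hom) :
    AlgSp.LocP (@LocallyQuasiFinite ⊓ @LocallyOfFiniteType) f.hom ↔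
      ∀ x : AlgSp.Points X.obj, AlgSp.HasAtMor (fun _ _ h u => FlatMor.fibreDimAt h u = 0) f.hom x := by
  constructor
  · intro h x
    obtain ⟨U, V, a, b, h', u, ha, hb, w, rfl⟩ := AlgSpD.exists_diagram f x
    obtain ⟨_, _⟩ := h a b h' ha hb w
    refine (AlgSpD.hasAtMor_iff_chart (AlgSpD.morEtaleInv_fibreDimAt 0) f ha hb w u).2 ?_
    obtain ⟨n, m, h1, -, h2, h3⟩ := AlgSpD.exists_fibre_dims h'.left u
    rw [AlgSpD.resTrdeg_eq_zero_of_lqf] at h1
    rw [show m = 0 by exact_mod_cast h1.symm, add_zero] at h3
    have : (0 : WithBot ℕ∞) = (n : WithBot ℕ∞) := by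
      rw [← h2]
      rw [ringKrullDim_stalk_eq_coheight, Order.coheight_eq_zero.2 fun z hz => ?_]
      · rfl
      · exact (Specializes.eq (x := z) (y := h'.left.asFiber u) hz).le
    rw [h3, ← this]
  · intro h U V a b h' ha hb w
    have hl := hf a b h' ha hb w
    refine ⟨?_, hl⟩
    have key : ∀ u : ↥U.left, FlatMor.fibreDimAt h'.left u = 0 := fun u =>
      (AlgSpD.hasAtMor_iff_chart (AlgSpD.morEtaleInv_fibreDimAt 0) f ha hb w u).1 (h _)
    rw [locallyQuasiFinite_iff_isDiscrete_preimage_singleton]
    intro v
    have : ∀ z : h'.left.fiber v, Order.coheight z = 0 := fun z => by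
      obtain ⟨u, hu⟩ : ∃ u, u = h'.left.fiberι v z := ⟨_, rfl⟩
      have hv : h'.left u = v := by
        have := Set.mem_range_self (f := h'.left.fiberι v) z
        rwa [Scheme.Hom.range_fiberι, ← hu] at this
      subst hv
      obtain rfl : z = h'.left.asFiber u :=
        (h'.left.fiberι _).isEmbedding.injective (by rw [← hu, h'.left.fiberι_asFiber])
      obtain ⟨n, m, -, -, h2, h3⟩ := AlgSpD.exists_fibre_dims h'.left u
      rw [key u] at h3
      have : n + m = 0 := by exact_mod_cast h3.symm
      rw [ringKrullDim_stalk_eq_coheight, show n = 0 by omega] at h2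
      exact_mod_cast h2
    have hK : topologicalKrullDim (h'.left.fiber v) ≤ 0 := by
      rw [topologicalKrullDim, Order.krullDim_eq_of_orderIso irreducibleSetEquivPoints,
        Order.krullDim_nonpos_iff_forall_isMax]
      exact fun z => Order.coheight_eq_zero.1 (this z)
    have : LocallyOfFiniteType (h'.left.fiberToSpecResidueField v) :=
      MorphismProperty.pullback_snd _ _ inferInstance
    have := LocallyOfFiniteType.isLocallyNoetherian (h'.left.fiberToSpecResidueField v)
    have := IsLocallyArtinian.of_topologicalKrullDim_le_zero (X := h'.left.fiber v) hK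
    have : DiscreteTopology ↥(h'.left ⁻¹' {v}) := (h'.left.fiberHomeo v).symm.isEmbedding.discreteTopology
    exact ⟨this⟩

end Groth.Agent.S10310
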