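import Groth.Statements.S10311
import Groth.Agent.AlgSpD.FibreDimBC
import Groth.Agent.AlgSpD.RelDim
import Groth.Agent.AlgSpD.BaseChangeChart

set_option autoImplicit false
universe u
open CategoryTheory CategoryTheory.Limits AlgebraicGeometry
open AlgSp

namespace Groth.Agent.S10311

set_option backward.isDefEq.respectTransparency false
open Groth.Agent

/-- The relative dimension at a point of a morphism locally of finite type is preserved by base change. -/
theorem result {S : Scheme.{u}} {X Y Y' X' : AlgSp.Space S} (f : X ⟶ Y) (g : Y' ⟶ Y)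
    (g' : X' ⟶ X) (f' : X' ⟶ Y') (sq : IsPullback g'.hom f'.hom f.hom g.hom)
    (hf : AlgSp.LocP @LocallyOfFiniteType f.hom) (x' : AlgSp.Points X'.obj) (d : WithBot ℕ∞)
    (hd : AlgSp.HasAtMor (fun _ _ h u => FlatMor.fibreDimAt h u = d) f.hom (AlgSp.Points.map g'.hom x')) :
    AlgSp.HasAtMor (fun _ _ h u => FlatMor.fibreDimAt h u = d) f'.hom x' := by
  obtain ⟨U, V, V', W, a, b, c, d', h, h', k, fst, r, ha, hb, hc, hd', w, w', hpb, hr₁, hr₂⟩ :=
    AlgSpD.exists_baseChange_diagram f g g' f' sq x'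
  have := hf a b h ha hb w
  rw [← hr₂, AlgSpD.hasAtMor_iff_chart (AlgSpD.morEtaleInv_fibreDimAt d) f ha hb w] at hd
  refine ⟨W, V', d', c, h', r, hd', hc, w', hr₁, ?_⟩
  show FlatMor.fibreDimAt h'.left r = d
  rw [AlgSpD.fibreDimAt_of_isPullback h.left hpb r]
  exact hd

end Groth.Agent.S10311
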