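import Groth.Statements.S10312
import Groth.Agent.AlgSpD.UnrLocus
import Groth.Agent.AlgSpD.BaseChangeChart
import Groth.Agent.S9697

set_option autoImplicit false
universe u
open CategoryTheory CategoryTheory.Limits AlgebraicGeometry
open AlgSp

namespace Groth.Agent.S10312

set_option backward.isDefEq.respectTransparency false
open Groth.Agent

/-- For X -> Y over Z with X -> Z locally of finite type, the locus where X -> Y is unramified is an
open subset of |X| whose formation commutes with base change along any Z' -> Z. -/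
theorem result {S : Scheme.{u}} {X Y Z Z' Y' X' : AlgSp.Space S} (f : X ⟶ Y)
    (p : X ⟶ Z) (q : Y ⟶ Z) (comm : f ≫ q = p) (hp : AlgSp.LocP @LocallyOfFiniteType p.hom) (g : Z' ⟶ Z)
    (a : Y' ⟶ Y) (q' : Y' ⟶ Z') (sq1 : IsPullback a.hom q'.hom q.hom g.hom)
    (b : X' ⟶ X) (f' : X' ⟶ Y') (sq2 : IsPullback b.hom f'.hom f.hom a.hom) :
    IsOpen {x : AlgSp.Points X.obj | AlgSp.HasAtMor (fun U _ h u => ∃ W : U.Opens, u ∈ W ∧ LocallyOfFiniteType (W.ι ≫ h) ∧ FormallyUnramified (W.ι ≫ h)) f.hom x} ∧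
    {x' : AlgSp.Points X'.obj | AlgSp.HasAtMor (fun U _ h u => ∃ W : U.Opens, u ∈ W ∧ LocallyOfFiniteType (W.ι ≫ h) ∧ FormallyUnramified (W.ι ≫ h)) f'.hom x'} =
      AlgSp.Points.map b.hom ⁻¹' {x : AlgSp.Points X.obj | AlgSp.HasAtMor (fun U _ h u => ∃ W : U.Opens, u ∈ W ∧ LocallyOfFiniteType (W.ι ≫ h) ∧ FormallyUnramified (W.ι ≫ h)) f.hom x} := by
  have hf : AlgSp.LocP @LocallyOfFiniteType f.hom := AlgSpD.locP_lft_of_comp f q (by rw [comm]; exact hp)
  refine ⟨AlgSpD.isOpen_unrNear f.hom, Set.ext fun x' => ?_⟩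
  obtain ⟨U, V, V', W, aU, bV, c, d, h, h', k, fst, r, ha, hb, hc, hd, w, w', hpb, hr₁, hr₂⟩ :=
    AlgSpD.exists_baseChange_diagram f a b f' sq2 x'
  have := hf aU bV h ha hb w
  have : LocallyOfFiniteType h'.left := MorphismProperty.of_isPullback hpb this
  show AlgSp.HasAtMor AlgSpD.UnrNear f'.hom x' ↔ AlgSp.HasAtMor AlgSpD.UnrNear f.hom _
  rw [← hr₂, ← hr₁, AlgSpD.hasAtMor_iff_chart AlgSpD.morEtaleInv_unrNear f ha hb w,
    AlgSpD.hasAtMor_iff_chart AlgSpD.morEtaleInv_unrNear f' hd hc w']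
  let e := hpb.isoPullback
  have he : e.hom ≫ pullback.snd h.left k.left = h'.left := hpb.isoPullback_hom_snd
  have hw : e.hom ≫ pullback.snd h.left k.left = h'.left ≫ 𝟙 _ := by rw [Category.comp_id, he]
  have hinv := AlgSpD.morEtaleInv_unrNear e.hom (𝟙 _) h'.left (pullback.snd h.left k.left)
    inferInstance inferInstance hw.symm r
  rw [hinv, AlgSpD.unrNear_iff, AlgSpD.unrNear_iff, S9697.result h.left k.left (e.hom r),
    ← Scheme.Hom.comp_apply, hpb.isoPullback_hom_fst]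

end Groth.Agent.S10312
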