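import Groth.Statements.S10313
import Groth.Agent.AlgSpD.LqfLocus
import Groth.Agent.S9389
import Groth.Agent.AlgSpCov.Listed

set_option autoImplicit false
universe u
open CategoryTheory CategoryTheory.Limits AlgebraicGeometry
open AlgSp

namespace Groth.Agent.S10313

set_option backward.isDefEq.respectTransparency false
open Groth.Agent

/-- For f locally of finite type there is an open subspace of X on which f is locally quasi-finite,
outside of which the relative dimension is at least 1, and whose formation commutes with base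
change. -/
theorem result {S : Scheme.{u}} {X Y : AlgSp.Space S} (f : X ⟶ Y)
    (hf : AlgSp.LocP @LocallyOfFiniteType f.hom) :
    ∃ (X' : AlgSp.Space S) (j : X' ⟶ X), AlgSp.RepWith @IsOpenImmersion j.hom ∧
      AlgSp.LocP (@LocallyQuasiFinite ⊓ @LocallyOfFiniteType) (j ≫ f).hom ∧
      (∀ x : AlgSp.Points X.obj, x ∉ Set.range (AlgSp.Points.map j.hom) →
        AlgSp.HasAtMor (fun _ _ h u => 1 ≤ FlatMor.fibreDimAt h u) f.hom x) ∧
      ∀ (Y'' X'' : AlgSp.Space S) (g : Y'' ⟶ Y) (b : X'' ⟶ X) (f'' : X'' ⟶ Y''),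
        IsPullback b.hom f''.hom f.hom g.hom → ∀ x'' : AlgSp.Points X''.obj,
          AlgSp.Points.map b.hom x'' ∈ Set.range (AlgSp.Points.map j.hom) ↔ AlgSp.HasAtMor (fun U _ h u => ∃ W : U.Opens, u ∈ W ∧ LocallyQuasiFinite (W.ι ≫ h) ∧ LocallyOfFiniteType (W.ι ≫ h)) f''.hom x'' := by
  obtain ⟨X', j, hj, hl, hr⟩ := AlgSpD.exists_lqf_open f hf
  refine ⟨X', j, hj, hl, fun x hx => ?_, fun Y'' X'' g b f'' sq x'' => ?_⟩
  · obtain ⟨U, V, a, c, h, u, ha, hc, w, rfl⟩ := AlgSpD.exists_diagram f x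
    have := hf a c h ha hc w
    rw [hr] at hx
    refine ⟨U, V, a, c, h, u, ha, hc, w, rfl, ?_⟩
    obtain ⟨n, m, -, -, -, h3⟩ := AlgSpD.exists_fibre_dims h.left u
    have hne : n + m ≠ 0 := fun e =>
      hx ⟨U, V, a, c, h, u, ha, hc, w, rfl, by rw [AlgSpD.DimZeroAt, h3, e]; rfl⟩
    rw [h3]
    exact_mod_cast Nat.pos_of_ne_zero hne
  · have hf'' : AlgSp.LocP @LocallyOfFiniteType f''.hom :=
      AlgSpCov.locP_baseChange AlgSpCov.etaleLocal_locallyOfFiniteType X.property Y.property sq hf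
    refine Iff.trans ?_ (AlgSpD.hasAtMor_lqfNear_iff f''.hom hf'' x'').symm
    rw [hr]
    obtain ⟨U, V, V', W, a, c, c', d, h, h', k, fst, r, ha, hc, hc', hd, w, w', hp, hr₁, hr₂⟩ :=
      AlgSpD.exists_baseChange_diagram f g b f'' sq x''
    have := hf a c h ha hc w
    have := hf'' d c' h' hd hc' w'
    show AlgSp.HasAtMor _ f.hom _ ↔ _
    rw [← hr₂, ← hr₁, AlgSpD.hasAtMor_iff_chart (AlgSpD.morEtaleInv_fibreDimAt 0) f ha hc w,
      AlgSpD.hasAtMor_iff_chart (AlgSpD.morEtaleInv_fibreDimAt 0) f'' hd hc' w',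
      ← AlgSpD.quasiFiniteAt_iff_fibreDimAt_eq_zero, ← AlgSpD.quasiFiniteAt_iff_fibreDimAt_eq_zero]
    exact (Set.ext_iff.1 (S9389.result h.left k.left fst.left h'.left hp) r).symm

end Groth.Agent.S10313
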