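import Groth.Statements.S10314
import Groth.Agent.EquidimPt.LocalDim
import Groth.Agent.AlgSp.NoethFib
import Groth.Agent.AlgSpD.RelDim
-- import your own Groth.Agent.* helpers here

set_option autoImplicit false
universe u
open CategoryTheory CategoryTheory.Limits AlgebraicGeometry
open AlgSp

namespace Groth.Agent.S10314

open Groth.Agent
set_option backward.isDefEq.respectTransparency false

/-- For a flat morphism locally of finite type of relative dimension d between locally Noetherian
algebraic spaces, the dimension of X at a point equals the dimension of Y at the image point plus d. -/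
theorem result {S : Scheme.{u}} {X Y : AlgSp.Space S} (f : X ⟶ Y)
    (hX : AlgSp.IsLocNoethSp X.obj) (hY : AlgSp.IsLocNoethSp Y.obj) (hf : AlgSp.LocP @Flat f.hom)
    (hf' : AlgSp.LocP @LocallyOfFiniteType f.hom) (d : ℕ)
    (hd : ∀ x : AlgSp.Points X.obj, AlgSp.HasAtMor (fun _ _ h u => FlatMor.fibreDimAt h u = (d : WithBot ℕ∞)) f.hom x)
    (x : AlgSp.Points X.obj) (dX dY : WithBot ℕ∞) (hx : AlgSp.HasAt (fun U u => FlatMor.localDim ↥U u = dX) X.obj x)
    (hy : AlgSp.HasAt (fun U u => FlatMor.localDim ↥U u = dY) Y.obj (AlgSp.Points.map f.hom x)) :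
    dX = dY + (d : WithBot ℕ∞) := by
  obtain ⟨U, V, a, b, h, u, ha, hb, w, rfl⟩ := AlgSpD.exists_diagram f x
  haveI := AlgSp.isLocallyNoetherian_of_etale_chart a ha hX
  haveI := AlgSp.isLocallyNoetherian_of_etale_chart b hb hY
  rw [AlgSpD.hasAt_iff_chart (AlgSpD.localDim_invariant dX) ha u] at hx
  rw [AlgSp.Points.map_ofPt, w, AlgSpB.ofPt_map_comp, AlgSpD.hasAt_iff_chart (AlgSpD.localDim_invariant dY) hb _] at hy
  haveI : Flat h.left := hf a b h ha hb w
  haveI : LocallyOfFiniteType h.left := hf' a b h ha hb w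
  rw [← hx, ← hy]
  exact EquidimPt.localDim_eq_add_of_flat h.left u d ⊤ trivial fun z _ =>
    (AlgSpD.hasAtMor_iff_chart (AlgSpD.morEtaleInv_fibreDimAt _) f ha hb w z).1 (hd _)

end Groth.Agent.S10314
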