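import Groth.Statements.S10315
import Groth.Agent.EquidimPt.LocalDim
import Groth.Agent.AlgSp.NoethFib
import Groth.Agent.AlgSpD.RelDim
-- import your own Groth.Agent.* helpers here

set_option autoImplicit false
universe u
open CategoryTheory CategoryTheory.Limits AlgebraicGeometry
open AlgSp

namespace Groth.Agent.S10315

open Groth.Agent
set_option backward.isDefEq.respectTransparency false

/-- For a smooth morphism of locally Noetherian algebraic spaces, the dimension of X at x is the
dimension of Y at the image of x plus the relative dimension of f at x. -/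
theorem result {S : Scheme.{u}} {X Y : AlgSp.Space S} (f : X ⟶ Y)
    (hX : AlgSp.IsLocNoethSp X.obj) (hY : AlgSp.IsLocNoethSp Y.obj) (hf : AlgSp.LocP @Smooth f.hom)
    (x : AlgSp.Points X.obj) (d dX dY : WithBot ℕ∞)
    (hd : AlgSp.HasAtMor (fun _ _ h u => FlatMor.fibreDimAt h u = d) f.hom x)
    (hx : AlgSp.HasAt (fun U u => FlatMor.localDim ↥U u = dX) X.obj x)
    (hy : AlgSp.HasAt (fun U u => FlatMor.localDim ↥U u = dY) Y.obj (AlgSp.Points.map f.hom x)) :
    dX = dY + d := by
  obtain ⟨U, V, a, b, h, u, ha, hb, w, rfl⟩ := AlgSpD.exists_diagram f x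
  haveI := AlgSp.isLocallyNoetherian_of_etale_chart a ha hX
  haveI := AlgSp.isLocallyNoetherian_of_etale_chart b hb hY
  rw [AlgSpD.hasAt_iff_chart (AlgSpD.localDim_invariant dX) ha u] at hx
  rw [AlgSp.Points.map_ofPt, w, AlgSpB.ofPt_map_comp, AlgSpD.hasAt_iff_chart (AlgSpD.localDim_invariant dY) hb _] at hy
  rw [AlgSpD.hasAtMor_iff_chart (AlgSpD.morEtaleInv_fibreDimAt d) f ha hb w u] at hd
  haveI : Smooth h.left := hf a b h ha hb w
  obtain ⟨O, n, huO, hn⟩ := EquidimPt.exists_nhd_smooth h.left u
  rw [← hx, ← hy, ← hd, hn u huO]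
  exact EquidimPt.localDim_eq_add_of_flat h.left u n O huO hn

end Groth.Agent.S10315
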