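import Groth.Statements.S10317
import Groth.Agent.AlgSp.NormUniv
import Groth.Agent.AlgSp.SchImageRep
import Groth.Agent.AlgSp.Codim0
import Groth.Agent.AlgSpD.IntegralMor
import Groth.Agent.AlgSpD.RefinedVC
import Groth.Agent.S9964

set_option autoImplicit false
universe u
open CategoryTheory CategoryTheory.Limits AlgebraicGeometry
open AlgSp

namespace Groth.Agent.S10317

set_option backward.isDefEq.respectTransparency false
open Groth.Agent

/-- A codimension-0 point of the normalization X' of X in Y is the image of a codimension-0 point of Y.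
(The published statement is phrased for a morphism of schemes; this row states it for a
quasi-compact quasi-separated morphism of algebraic spaces.) -/
theorem result {S : Scheme.{u}} {Y X X' : AlgSp.Space S} (f : Y ⟶ X)
    (hqc : AlgSp.IsQuasiCompactMor f.hom) (hqs : AlgSp.IsQuasiSeparatedMor f.hom) (ν : X' ⟶ X) (f' : Y ⟶ X')
    (hn : AlgSp.IsRelNormalization f.hom ν.hom f'.hom) (x' : AlgSp.Points X'.obj) (hx' : AlgSp.HasAt (fun U u => ringKrullDim ↥(U.presheaf.stalk u) = 0) X'.obj x') :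
    ∃ y : AlgSp.Points Y.obj, AlgSp.HasAt (fun U u => ringKrullDim ↥(U.presheaf.stalk u) = 0) Y.obj y ∧ AlgSp.Points.map f'.hom y = x' := by
  have hν := (AlgSpD.isIntegralMor_iff _).1 hn.2.1
  have hνq : AlgSp.IsQuasiSeparatedMor ν.hom := by
    refine AlgSp.repWith_mono (Q := @QuasiCompact) (fun k hk => have : IsClosedImmersion k := hk; inferInstance) ?_
    exact (AlgSp.repWith_diagonal_iff_of_representable @IsClosedImmersion @IsSeparated
      (fun h => ⟨fun hh => ⟨hh⟩, fun hh => hh.1⟩) X'.property hν.1).2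
        (AlgSp.repWith_mono (Q := @IsSeparated) (fun k (hk : IsIntegralHom k) => (inferInstance : IsSeparated k)) hν)
  have hf'q : AlgSp.IsQuasiCompactMor f'.hom :=
    AlgSp.isQuasiCompactMor_of_comp Y.property X'.property X.property f'.hom ν.hom (hn.1.symm ▸ hqc) hνq
  -- the normalization map is dominant
  obtain ⟨Z, i, hZ⟩ := S9964.result f'
  obtain ⟨g, hg⟩ := hZ.2.1
  have hiν : AlgSp.IsIntegralMor (i.hom ≫ ν.hom) := (AlgSpD.isIntegralMor_iff _).2
    (MorphismProperty.comp_mem _ _ _ (AlgSp.repWith_mono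
      (fun φ (hφ : IsClosedImmersion φ) => (inferInstance : IsIntegralHom φ)) hZ.1) hν)
  obtain ⟨k, ⟨hk1, hk2⟩, -⟩ := hn.2.2 Z.property (i.hom ≫ ν.hom) g hiν (by rw [reassoc_of% hg, hn.1])
  have hki : k ≫ i.hom = 𝟙 X'.obj := AlgSp.relNorm_hom_ext hn X'.property hn.2.1
    (by rw [Category.assoc, hk2]) (Category.id_comp _) (by rw [reassoc_of% hk1, hg, Category.comp_id])
  have hdense : DenseRange (AlgSp.Points.map f'.hom) := by
    intro z
    refine AlgSp.SchImageRep.range_subset_closure Y.property X'.property Z.property (Or.inl hf'q) hZ ?_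
    exact ⟨AlgSp.Points.map k z, by rw [← AlgSp.Points.map_comp, hki, AlgSp.Points.map_id]⟩
  -- an affine chart through the point
  obtain ⟨R, str, a, t, ha, rfl⟩ := AlgSpD.exists_affine_chart_at X'.property x'
  let T : Over S := Over.mk str
  have : IsAffine T.left := inferInstanceAs (IsAffine (Spec R))
  rw [AlgSp.codim0_iff_chart ha] at hx'
  have sqP := IsPullback.of_hasPullback f'.hom a
  have hP : AlgSp.IsAlgSpace (pullback f'.hom a) :=
    AlgSp.isAlgSpace_pullback X'.property Y.property (AlgSp.IsAlgSpace.yon_obj _) _ _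
  have := AlgSp.compactSpace_points (hf'q (AlgSp.IsAlgSpace.yon_obj _) (AlgSp.isQuasiCompactSp_yon T) a _ _ sqP)
  obtain ⟨U₁, p₁, hp₁, hp₁s⟩ := hP.atlas
  obtain ⟨V, j, hV, hqe, hqs⟩ := AlgSpB.exists_affine_chart_of_compactSpace hp₁ hp₁s
  let q : (AlgSp.yon S).obj V ⟶ pullback f'.hom a := (AlgSp.yon S).map j ≫ p₁
  have hfst : AlgSp.RepWith @Etale (pullback.fst f'.hom a) := MorphismProperty.of_isPullback sqP.flip ha
  have hb : AlgSp.RepWith @Etale (q ≫ pullback.fst f'.hom a) := AlgSpCov.repWith_comp hqe hfst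
  let h : V ⟶ T := (AlgSp.yon S).preimage (q ≫ pullback.snd f'.hom a)
  have hh : (AlgSp.yon S).map h = q ≫ pullback.snd f'.hom a := Functor.map_preimage _ _
  have hmap : ∀ v, AlgSp.Points.map f'.hom (AlgSp.Points.ofPt (q ≫ pullback.fst f'.hom a) v) =
      AlgSp.Points.ofPt a (h.left v) := fun v => by
    rw [AlgSp.Points.map_ofPt, Category.assoc, pullback.condition, ← Category.assoc, ← hh,
      AlgSpB.ofPt_map_comp]
  have hrange : Set.range h.left = AlgSp.Points.ofPt a ⁻¹' Set.range (AlgSp.Points.map f'.hom) := by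
    have e : ∀ x, AlgSp.Points.map (pullback.snd f'.hom a) (AlgSp.Points.ofPt q x) =
        AlgSp.Points.schemeHomeo T (h.left x) := fun x => by
      rw [AlgSp.Points.map_ofPt, ← hh]; exact AlgSpD.ofPt_yon_map _ _
    ext y
    have h1 : y ∈ AlgSp.Points.ofPt a ⁻¹' Set.range (AlgSp.Points.map f'.hom) ↔
        AlgSp.Points.schemeHomeo T y ∈ AlgSp.Points.map (pullback.snd f'.hom a) '' Set.univ := by
      rw [← Set.preimage_univ (f := AlgSp.Points.map (pullback.fst f'.hom a)), ← AlgSp.preimage_image_map sqP,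
        Set.image_univ, Set.mem_preimage, Set.mem_preimage, AlgSp.Points.ofPt_eq_map_ofScheme]
      rfl
    rw [h1]
    constructor
    · rintro ⟨x, rfl⟩
      exact ⟨AlgSp.Points.ofPt q x, trivial, e x⟩
    · rintro ⟨z, -, hz⟩
      obtain ⟨x, rfl⟩ := AlgSpB.surjective_ofPt hqs z
      exact ⟨x, (AlgSp.Points.schemeHomeo T).injective ((e x).symm.trans hz)⟩
  have hdenseh : DenseRange h.left := by
    rw [DenseRange, hrange]
    exact hdense.preimage (AlgSpB.isOpenMap_ofPt ha)
  have : IsAffine V.left := hV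
  obtain ⟨v, hv⟩ := AlgSpD.exists_specializes_of_dense (V.left.isoSpec.inv ≫ h.left)
    (by
      refine hdenseh.mono ?_
      rintro _ ⟨x, rfl⟩
      exact ⟨V.left.isoSpec.hom x, by rw [← Scheme.Hom.comp_apply, Iso.hom_inv_id_assoc]; rfl⟩) t
  let v₁ : ↥V.left := V.left.isoSpec.inv v
  have hv₁ : h.left v₁ ⤳ t := by rw [← Scheme.Hom.comp_apply]; exact hv
  obtain ⟨Z₀, hZ₀, hv₀⟩ : ∃ Z₀ ∈ irreducibleComponents (V.left : Type u), v₁ ∈ Z₀ :=
    ⟨_, irreducibleComponent_mem_irreducibleComponents v₁, mem_irreducibleComponent⟩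
  obtain ⟨v₀, hgen⟩ := QuasiSober.sober hZ₀.1 (isClosed_of_mem_irreducibleComponents _ hZ₀)
  have hv₀v : v₀ ⤳ v₁ := hgen.specializes hv₀
  have hc₀ : closure {v₀} ∈ irreducibleComponents (V.left : Type u) := by rw [hgen.def]; exact hZ₀
  have heq : h.left v₀ = t := by
    have hsp : h.left v₀ ⤳ t := (hv₀v.map h.left.continuous).trans hv₁
    have hcl : closure {t} ⊆ closure {h.left v₀} := closure_minimal
      (Set.singleton_subset_iff.2 hsp.mem_closure) isClosed_closure
    have := hx'.2 isIrreducible_singleton.closure hcl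
    exact (specializes_iff_mem_closure.2 (this (subset_closure rfl)) |>.antisymm hsp).eq.symm
  refine ⟨AlgSp.Points.ofPt (q ≫ pullback.fst f'.hom a) v₀, (AlgSp.codim0_iff_chart hb v₀).2 hc₀, ?_⟩
  rw [hmap, heq]

end Groth.Agent.S10317
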