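import Groth.Statements.S10318
import Groth.Agent.AlgSpD.RelDim

set_option autoImplicit false
universe u
open CategoryTheory CategoryTheory.Limits AlgebraicGeometry
open AlgSp

namespace Groth.Agent.S10318

set_option backward.isDefEq.respectTransparency false
open Groth.Agent

/-- Over a Jacobson algebraic space, a finite type point of a space locally of finite type over it has
transcendence degree 0 over its image. -/
theorem result {S : Scheme.{u}} {X Y : AlgSp.Space S} (f : X ⟶ Y)
    (hf : AlgSp.LocP @LocallyOfFiniteType f.hom) (hY : AlgSp.EtaleLocally (fun U => JacobsonSpace ↥U) Y.obj)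
    (x : AlgSp.Points X.obj) (hx : AlgSp.HasAt (fun U u => IsClosed ({u} : Set ↥U)) X.obj x) :
    AlgSp.HasAtMor (fun _ _ h u => Dual3.resTrdeg h u = 0) f.hom x := by
  obtain ⟨U, a, u, ha, rfl, hu⟩ := hx
  obtain ⟨V, b, v, hb, hv⟩ := AlgSpD.exists_chart Y (AlgSp.Points.map f.hom (AlgSp.Points.ofPt a u))
  obtain ⟨R, p, h, r, hpa, hp, hw, hr, -⟩ := AlgSpD.exists_diagram_over f ha u hb hv
  have := hf _ b h hpa hb hw
  refine ⟨R, V, _, b, h, r, hpa, hb, hw, by rw [AlgSpB.ofPt_map_comp, hr], ?_⟩
  refine AlgSpD.resTrdeg_eq_zero_of_isClosed h.left r ?_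
  have := AlgSpD.locallyQuasiFinite_of_etale p.left
  have hru : IsClosed ({r} : Set ↥R.left) := by
    have hF : IsClosed (p.left ⁻¹' {u}) := hu.preimage p.left.continuous
    have hd : _root_.IsDiscrete (p.left ⁻¹' {u}) := p.left.isDiscrete_preimage_singleton u
    have := hd.to_subtype
    have h0 : IsClosed ({⟨r, hr⟩} : Set ↥(p.left ⁻¹' {u})) := isClosed_discrete _
    simpa using hF.isClosedEmbedding_subtypeVal.isClosedMap _ h0
  have := hru.preimage (h.left.fiberι (h.left r)).continuous
  convert this
  ext z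
  simp only [Set.mem_singleton_iff, Set.mem_preimage]
  exact ⟨fun e => by rw [e, h.left.fiberι_asFiber], fun e => (h.left.fiberι _).isEmbedding.injective
    (e.trans (h.left.fiberι_asFiber r).symm)⟩

end Groth.Agent.S10318
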