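import Groth.Statements.S10319
import Groth.Agent.AlgSpD.RelDim

set_option autoImplicit false
universe u
open CategoryTheory CategoryTheory.Limits AlgebraicGeometry
open AlgSp

namespace Groth.Agent.S10319

set_option backward.isDefEq.respectTransparency false
open Groth.Agent

/-- Transcendence degrees at a point add up along a composition of morphisms locally of finite type. -/
theorem result {S : Scheme.{u}} {X Y Z : AlgSp.Space S} (f : X ⟶ Y) (g : Y ⟶ Z)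
    (hf : AlgSp.LocP @LocallyOfFiniteType f.hom) (hg : AlgSp.LocP @LocallyOfFiniteType g.hom)
    (x : AlgSp.Points X.obj) (r₁ r₂ : Cardinal.{u})
    (h1 : AlgSp.HasAtMor (fun _ _ h u => Dual3.resTrdeg h u = r₁) f.hom x)
    (h2 : AlgSp.HasAtMor (fun _ _ h u => Dual3.resTrdeg h u = r₂) g.hom (AlgSp.Points.map f.hom x)) :
    AlgSp.HasAtMor (fun _ _ h u => Dual3.resTrdeg h u = r₁ + r₂) (f ≫ g).hom x := by
  obtain ⟨U₀, V₀, a₀, b, h₀, u₀, ha₀, hb, w₀, rfl⟩ := AlgSpD.exists_diagram f x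
  obtain ⟨W, c, z, hc, hz⟩ := AlgSpD.exists_chart Z (AlgSp.Points.map g.hom (AlgSp.Points.ofPt b (h₀.left u₀)))
  obtain ⟨V, q, k, v, hqb, hq, wk, hv, -⟩ := AlgSpD.exists_diagram_over g hb (h₀.left u₀) hc hz
  have hmap : AlgSp.Points.ofPt ((AlgSp.yon S).map q ≫ b) v = AlgSp.Points.map f.hom (AlgSp.Points.ofPt a₀ u₀) := by
    rw [AlgSp.Points.map_ofPt, w₀, AlgSpB.ofPt_map_comp, AlgSpB.ofPt_map_comp, hv]
  obtain ⟨U, p, h, u, ha, hp, w, hu, huv⟩ := AlgSpD.exists_diagram_over f ha₀ u₀ hqb hmap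
  have hx : AlgSp.Points.ofPt ((AlgSp.yon S).map p ≫ a₀) u = AlgSp.Points.ofPt a₀ u₀ := by
    rw [AlgSpB.ofPt_map_comp, hu]
  have hy : AlgSp.Points.map f.hom (AlgSp.Points.ofPt a₀ u₀) =
      AlgSp.Points.ofPt ((AlgSp.yon S).map q ≫ b) (h.left u) := by rw [huv, hmap]
  have wc : ((AlgSp.yon S).map p ≫ a₀) ≫ (f ≫ g).hom = (AlgSp.yon S).map (h ≫ k) ≫ c := by
    show ((AlgSp.yon S).map p ≫ a₀) ≫ f.hom ≫ g.hom = _
    rw [← Category.assoc, w, Category.assoc, wk, Functor.map_comp, Category.assoc]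
  rw [hy, AlgSpD.hasAtMor_iff_chart (AlgSpD.morEtaleInv_resTrdeg r₂) g hqb hc wk] at h2
  rw [← hx, AlgSpD.hasAtMor_iff_chart (AlgSpD.morEtaleInv_resTrdeg r₁) f ha hqb w] at h1
  rw [← hx, AlgSpD.hasAtMor_iff_chart (AlgSpD.morEtaleInv_resTrdeg _) (f ≫ g) ha hc wc, Over.comp_left,
    AlgSpD.resTrdeg_comp, h1, h2]

end Groth.Agent.S10319
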