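import Groth.Statements.S1032
import Groth.Agent.DTrunc.RightDerived
-- import your own Groth.Agent.* helpers here

set_option autoImplicit false
universe w v v' u u'
open CategoryTheory CategoryTheory.Limits
open CohDer

namespace Groth.Agent.S1032

/-- Let A be an abelian category in which every cochain complex admits a quasi-isomorphism to a
K-injective complex, and let F be an exact functor from the homotopy category K(A) to a
pretriangulated category. Then F has a right derived functor RF with respect to quasi-isomorphisms
(defined on D(A)), and the canonical map F(I) ⟶ RF(I) is an isomorphism for every K-injective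
complex I. -/
theorem result {A : Type u} [Category.{v} A] [Abelian A] [HasDerivedCategory.{w} A]
    (hKinj : ∀ K : CochainComplex A ℤ, ∃ (I : CochainComplex A ℤ) (f : K ⟶ I), I.IsKInjective ∧ QuasiIso f)
    {D' : Type u'} [Category.{v'} D'] [Preadditive D'] [Limits.HasZeroObject D'] [HasShift D' ℤ]
    [∀ n : ℤ, (shiftFunctor D' n).Additive] [Pretriangulated D']
    [IsTriangulated D']
    (F : HomotopyCategory A (ComplexShape.up ℤ) ⥤ D') [F.CommShift ℤ] [F.IsTriangulated] :
    F.HasRightDerivedFunctor (HomotopyCategory.quasiIso A (ComplexShape.up ℤ)) ∧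
    ∀ [F.HasRightDerivedFunctor (HomotopyCategory.quasiIso A (ComplexShape.up ℤ))] (I : CochainComplex A ℤ), I.IsKInjective →
      IsIso ((F.totalRightDerivedUnit DerivedCategory.Qh (HomotopyCategory.quasiIso A (ComplexShape.up ℤ))).app
        ((HomotopyCategory.quotient A (ComplexShape.up ℤ)).obj I)) := by
  have h : Groth.Agent.DTrunc.RightDerived.HasEnough DerivedCategory.Qh F := fun X => by
    obtain ⟨K, rfl⟩ := HomotopyCategory.quotient_obj_surjective X
    obtain ⟨I, s, hI, hs⟩ := hKinj K
    exact ⟨_, (HomotopyCategory.quotient _ _).map s,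
      Groth.Agent.DTrunc.RightDerived.isGood_quotient F I,
      (NatIso.isIso_map_iff (DerivedCategory.quotientCompQhIso A) s).2 inferInstance⟩
  refine ⟨h.hasRightDerivedFunctor (HomotopyCategory.quasiIso A (ComplexShape.up ℤ)), ?_⟩
  intro _ I hI
  exact h.isIso_app (W := HomotopyCategory.quasiIso A (ComplexShape.up ℤ)) _ _
    (Groth.Agent.DTrunc.RightDerived.isGood_quotient F I)

end Groth.Agent.S1032
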