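import Groth.Statements.S10320
import Groth.Agent.AlgSpD.RelDim

set_option autoImplicit false
universe u
open CategoryTheory CategoryTheory.Limits AlgebraicGeometry
open AlgSp

namespace Groth.Agent.S10320

set_option backward.isDefEq.respectTransparency false
open Groth.Agent

/-- For f locally of finite type, the relative dimension of f at x equals the dimension of the local
ring of the fibre at x plus the transcendence degree of x over its image. -/
theorem result {S : Scheme.{u}} {X Y : AlgSp.Space S} (f : X ⟶ Y)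
    (hf : AlgSp.LocP @LocallyOfFiniteType f.hom) (x : AlgSp.Points X.obj) (d e : WithBot ℕ∞) (r : Cardinal.{u})
    (hd : AlgSp.HasAtMor (fun _ _ h u => FlatMor.fibreDimAt h u = d) f.hom x)
    (he : AlgSp.HasAtMor (fun _ _ h u => ringKrullDim ↥((h.fiber (h u)).presheaf.stalk (h.asFiber u)) = e) f.hom x)
    (hr : AlgSp.HasAtMor (fun _ _ h u => Dual3.resTrdeg h u = r) f.hom x) :
    d = e + ((Cardinal.toENat r : ℕ∞) : WithBot ℕ∞) := by
  obtain ⟨U, V, a, b, h, u, ha, hb, w, rfl⟩ := AlgSpD.exists_diagram f x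
  have := hf a b h ha hb w
  rw [AlgSpD.hasAtMor_iff_chart (AlgSpD.morEtaleInv_fibreDimAt d) f ha hb w] at hd
  rw [AlgSpD.hasAtMor_iff_chart (AlgSpD.morEtaleInv_fibreStalkDim e) f ha hb w] at he
  rw [AlgSpD.hasAtMor_iff_chart (AlgSpD.morEtaleInv_resTrdeg r) f ha hb w] at hr
  obtain ⟨n, m, h1, -, h2, h3⟩ := AlgSpD.exists_fibre_dims h.left u
  rw [← hd, ← he, ← hr, h1, h2, h3]
  simp

end Groth.Agent.S10320
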