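import Groth.Statements.S10321
import Groth.Agent.AlgSpB.LqfSep
import Groth.Agent.AlgSpB.Open
-- import your own Groth.Agent.* helpers here

set_option autoImplicit false
universe u
open CategoryTheory CategoryTheory.Limits AlgebraicGeometry
open AlgSp

set_option backward.isDefEq.respectTransparency.types false

namespace Groth.Agent.S10321

/-- Let X be separated and locally quasi-finite over an affine scheme T, let T' -> T be etale with T'
affine, and let V' be an open subspace of T' ×_T X that is quasi-affine over T'. Then V' maps onto a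
quasi-compact open subspace of X that is itself a scheme. -/
theorem result {S : Scheme.{u}} {T T' : Over S} [IsAffine T.left]
    [IsAffine T'.left] (e : T' ⟶ T) [Etale e.left] {X P V' : AlgSp.Space S} (f : X ⟶ (AlgSp.ofScheme S).obj T)
    (hsep : AlgSp.IsSeparatedMor f.hom) (hqf : AlgSp.LocP (@LocallyQuasiFinite ⊓ @LocallyOfFiniteType) f.hom)
    (p1 : P ⟶ (AlgSp.ofScheme S).obj T') (p2 : P ⟶ X)
    (sq : IsPullback p2.hom p1.hom f.hom ((AlgSp.yon S).map e)) (j : V' ⟶ P)
    (hj : AlgSp.RepWith @IsOpenImmersion j.hom) (hqa : AlgSp.IsQuasiAffineMor (j ≫ p1).hom) :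
    ∃ (W : Over S) (i : (AlgSp.yon S).obj W ⟶ X.obj), AlgSp.RepWith @IsOpenImmersion i ∧ CompactSpace ↥W.left ∧
      Set.range (AlgSp.Points.map i) = Set.range (AlgSp.Points.map (j ≫ p2).hom) := by
  obtain ⟨X₀, ⟨eX'⟩⟩ := AlgSpB.exists_iso_of_lqf_sep X.property f.hom hqf hsep
  let eX := eX'.symm
  obtain ⟨W', w', v, sV, hW'⟩ := hqa (show IsAffine T'.left from inferInstance) (𝟙 _)
  have : IsIso v :=
    have := IsIso.id ((AlgSp.yon S).obj T')
    @IsPullback.isIso_fst_of_isIso _ _ _ _ _ _ _ _ _ _ sV (IsIso.id _)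
  have hpe : AlgSp.RepWith @Etale ((AlgSp.yon S).map e) := (AlgSp.repWith_yon_map_iff _ _).2 inferInstance
  have hm : AlgSp.RepWith @Etale (v ≫ (j ≫ p2).hom ≫ eX.hom) := by
    refine (MorphismProperty.cancel_left_of_respectsIso _ _ _).2 ((MorphismProperty.cancel_right_of_respectsIso _ _ _).2 ?_)
    have hje : AlgSp.RepWith @Etale j.hom :=
      ⟨hj.1, fun {U V} a b s t => have : IsOpenImmersion s.left := hj.2 a b s t; (inferInstance : Etale s.left)⟩
    exact (AlgSp.RepWith _).comp_mem _ _ hje (MorphismProperty.of_isPullback sq.flip hpe)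
  obtain ⟨m, hmm⟩ := (AlgSp.yon S).map_surjective (v ≫ (j ≫ p2).hom ≫ eX.hom)
  have : Etale m.left := (AlgSp.repWith_yon_map_iff _ m).1 (hmm ▸ hm)
  have : CompactSpace W'.left := inferInstance
  let O : X₀.left.Opens := ⟨Set.range m.left, m.left.isOpenMap.isOpen_range⟩
  let ιO : Over.mk (O.ι ≫ X₀.hom) ⟶ X₀ := Over.homMk O.ι rfl
  refine ⟨Over.mk (O.ι ≫ X₀.hom), (AlgSp.yon S).map ιO ≫ eX.inv,
    (MorphismProperty.cancel_right_of_respectsIso _ _ _).2
      ((AlgSp.repWith_yon_map_iff _ ιO).2 (inferInstanceAs (IsOpenImmersion O.ι))),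
    isCompact_iff_compactSpace.1 (isCompact_range m.left.continuous), ?_⟩
  have key : ∀ {A : Over S} (q : A ⟶ X₀), Set.range (AlgSp.Points.map ((AlgSp.yon S).map q ≫ eX.inv)) =
      (fun x => AlgSp.Points.map eX.inv (AlgSp.Points.ofScheme X₀ x)) '' Set.range q.left := fun {A} q => by
    ext z
    constructor
    · rintro ⟨a, rfl⟩
      obtain ⟨a, rfl⟩ := (AlgSp.Points.schemeHomeo A).surjective a
      refine ⟨_, ⟨a, rfl⟩, ?_⟩
      rw [AlgSp.Points.map_comp]
      exact congrArg (AlgSp.Points.map eX.inv) (AlgSp.Points.map_yon_map_apply q a).symm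
    · rintro ⟨_, ⟨a, rfl⟩, rfl⟩
      refine ⟨AlgSp.Points.ofScheme A a, ?_⟩
      rw [AlgSp.Points.map_comp]
      exact congrArg (AlgSp.Points.map eX.inv) (AlgSp.Points.map_yon_map_apply q a)
  rw [key ιO, show Set.range ιO.left = Set.range m.left from Scheme.Opens.range_ι O, ← key m, hmm]
  simp only [Category.assoc, Iso.hom_inv_id, Category.comp_id]
  ext z
  constructor
  · rintro ⟨a, rfl⟩
    exact ⟨AlgSp.Points.map v a, (AlgSp.Points.map_comp _ _ _).symm⟩
  · rintro ⟨b, rfl⟩
    refine ⟨AlgSp.Points.map (inv v) b, ?_⟩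
    rw [← AlgSp.Points.map_comp, IsIso.inv_hom_id_assoc]

end Groth.Agent.S10321
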