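import Groth.Statements.S10323
import Groth.Agent.AlgSpD.DimFormula

set_option autoImplicit false
universe u
open CategoryTheory CategoryTheory.Limits AlgebraicGeometry
open AlgSp

namespace Groth.Agent.S10323

/-- For Y locally Noetherian and f locally of finite type, the dimension of the local ring of X at x is
at most the dimension of the local ring of Y at the image point plus E minus the transcendence
degree of x over its image, where E bounds the transcendence degrees of the codimension-0 points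
specializing to x. -/
theorem result {S : Scheme.{u}} {X Y : AlgSp.Space S} (f : X ⟶ Y)
    (hY : AlgSp.IsLocNoethSp Y.obj) (hf : AlgSp.LocP @LocallyOfFiniteType f.hom) (x : AlgSp.Points X.obj)
    (E : Cardinal.{u})
    (hE : ∀ ξ : AlgSp.Points X.obj, ξ ⤳ x → AlgSp.HasAt (fun U u => ringKrullDim ↥(U.presheaf.stalk u) = 0) X.obj ξ →
      ∀ s : Cardinal.{u}, AlgSp.HasAtMor (fun _ _ h u => Dual3.resTrdeg h u = s) f.hom ξ → s ≤ E)
    (a b : WithBot ℕ∞) (r : Cardinal.{u})
    (ha : AlgSp.HasAt (fun U u => ringKrullDim ↥(U.presheaf.stalk u) = a) X.obj x)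
    (hb : AlgSp.HasAt (fun U u => ringKrullDim ↥(U.presheaf.stalk u) = b) Y.obj (AlgSp.Points.map f.hom x))
    (hr : AlgSp.HasAtMor (fun _ _ h u => Dual3.resTrdeg h u = r) f.hom x) :
    a + ((Cardinal.toENat r : ℕ∞) : WithBot ℕ∞) ≤ b + ((Cardinal.toENat E : ℕ∞) : WithBot ℕ∞) := by
  revert a b r ha hb hr
  intro a₀ b₀ r ha hb hr
  obtain ⟨U, V, a, b, h, u, hau, hbv, w, rfl⟩ := Groth.Agent.AlgSpD.exists_diagram f x
  have key := Groth.Agent.AlgSpD.dim_stalk_add_resTrdeg_le_chart f hY hf hau hbv w u E hE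
  rw [Groth.Agent.AlgSpD.hasAt_iff_chart (Groth.Agent.AlgSpD.stalkDim_invariant a₀) hau u] at ha
  rw [AlgSp.Points.map_ofPt, w, Groth.Agent.AlgSpB.ofPt_map_comp,
    Groth.Agent.AlgSpD.hasAt_iff_chart (Groth.Agent.AlgSpD.stalkDim_invariant b₀) hbv] at hb
  rw [Groth.Agent.AlgSpD.hasAtMor_iff_chart (Groth.Agent.AlgSpD.morEtaleInv_resTrdeg r) f hau hbv w] at hr
  rw [← ha, ← hb, ← hr]
  exact key

end Groth.Agent.S10323
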