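import Groth.Statements.S10326
import Groth.Agent.AlgSpB.Charts

set_option autoImplicit false
universe u
open CategoryTheory CategoryTheory.Limits AlgebraicGeometry
open AlgSp

namespace Groth.Agent.S10326

/-- Every scheme etale over a locally Noetherian algebraic space has quasi-compact opens with finitely
many irreducible components. -/
theorem result {S : Scheme.{u}} (X : AlgSp.Space S)
    (hX : AlgSp.IsLocNoethSp X.obj) (U : Over S) (a : (AlgSp.yon S).obj U ⟶ X.obj) (ha : AlgSp.RepWith @Etale a)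
    (W : U.left.Opens) (hW : IsCompact (W : Set ↥U.left)) : (irreducibleComponents ↥W).Finite := by
  obtain ⟨U₀, p, hp, hs, hN⟩ := hX
  obtain ⟨R, f₁, f₂, sq⟩ := AlgSpB.exists_pullback_yon hp.1 a
  have : Etale f₁.left := ha.2 _ _ _ sq.flip
  have : Etale f₂.left := hp.2 _ _ _ sq
  have : Surjective f₂.left := hs.2 _ _ _ sq
  have := LocallyOfFiniteType.isLocallyNoetherian f₁.left
  have hcov : (W : Set ↥U.left) ⊆ ⋃ A : {A : R.left.affineOpens // f₂.left '' (A.1 : Set ↥R.left) ⊆ W},
      f₂.left '' (A.1.1 : Set ↥R.left) := by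
    intro v hv
    obtain ⟨r, rfl⟩ := f₂.left.surjective v
    obtain ⟨A, hA, hrA, hAW⟩ := exists_isAffineOpen_mem_and_subset (x := r) (U := f₂.left ⁻¹ᵁ W) hv
    exact Set.mem_iUnion.2 ⟨⟨⟨A, hA⟩, Set.image_subset_iff.2 hAW⟩, r, hrA, rfl⟩
  obtain ⟨t, ht⟩ := hW.elim_finite_subcover _ (fun A => f₂.left.isOpenMap _ A.1.1.isOpen) hcov
  have hN : TopologicalSpace.NoetherianSpace ↥(W : Set ↥U.left) := by
    have e : (W : Set ↥U.left) = ⋃ A : ↥t, f₂.left '' (A.1.1.1 : Set ↥R.left) := Set.Subset.antisymm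
      (fun v hv => let ⟨A, hA, h⟩ := Set.mem_iUnion₂.1 (ht hv); Set.mem_iUnion.2 ⟨⟨A, hA⟩, h⟩)
      (Set.iUnion_subset fun A => A.1.2)
    rw [e]
    have : ∀ A : ↥t, TopologicalSpace.NoetherianSpace ↥(f₂.left '' (A.1.1.1 : Set ↥R.left)) := fun A => by
      have := IsLocallyNoetherian.component_noetherian A.1.1
      have : TopologicalSpace.NoetherianSpace ↥(A.1.1.1 : Set ↥R.left) := noetherianSpace_of_isAffineOpen _ A.1.1.2
      have := TopologicalSpace.NoetherianSpace.range (α := ↥(A.1.1.1 : Set ↥R.left)) (fun v => f₂.left v.1)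
        (f₂.left.continuous.comp continuous_subtype_val)
      rwa [Set.image_eq_range]
    exact TopologicalSpace.NoetherianSpace.iUnion _
  exact TopologicalSpace.NoetherianSpace.finite_irreducibleComponents

end Groth.Agent.S10326
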