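import Groth.Statements.S9354
import Groth.Agent.EquidimPt.Basic
-- import your own Groth.Agent.* helpers here

set_option autoImplicit false
universe u
open FibDim

namespace Groth.Agent.S9354

section
open Groth.Agent IsLocalRing AlgebraicGeometry CategoryTheory

/-- Dimension of the fibre of a flat map in a tower of local rings. -/
theorem dim_tower {A B : Type u} [CommRing A] [CommRing B] [IsLocalRing A]
    [IsLocalRing B] [Algebra A B] [IsLocalHom (algebraMap A B)] [Module.Flat A B]
    (I : Ideal A) (hI : I ≠ ⊤) [IsNoetherianRing (A ⧸ I)] [IsNoetherianRing (B ⧸ I.map (algebraMap A B))] :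
    ringKrullDim (B ⧸ I.map (algebraMap A B)) =
      ringKrullDim (A ⧸ I) + ringKrullDim (B ⧸ (maximalIdeal A).map (algebraMap A B)) := by
  have hIm : I ≤ maximalIdeal A := le_maximalIdeal hI
  have hJ : I.map (algebraMap A B) ≠ ⊤ :=
    ne_top_of_le_ne_top (maximalIdeal.isMaximal B).ne_top
      ((Ideal.map_mono hIm).trans (map_maximalIdeal_le (algebraMap A B)))
  haveI : Nontrivial (A ⧸ I) := Ideal.Quotient.nontrivial_iff.2 hI
  haveI : Nontrivial (B ⧸ I.map (algebraMap A B)) := Ideal.Quotient.nontrivial_iff.2 hJ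
  haveI : IsLocalRing (A ⧸ I) := IsLocalRing.of_surjective' (Ideal.Quotient.mk _) Ideal.Quotient.mk_surjective
  haveI : IsLocalRing (B ⧸ I.map (algebraMap A B)) :=
    IsLocalRing.of_surjective' (Ideal.Quotient.mk _) Ideal.Quotient.mk_surjective
  haveI : Module.Flat (A ⧸ I) (B ⧸ I.map (algebraMap A B)) :=
    Module.Flat.of_linearEquiv (Algebra.TensorProduct.quotIdealMapEquivQuotTensor B I).toLinearEquiv
  haveI : IsLocalHom (algebraMap (A ⧸ I) (B ⧸ I.map (algebraMap A B))) := ⟨fun a ha => by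
    obtain ⟨a, rfl⟩ := Ideal.Quotient.mk_surjective a
    by_contra hna
    have hmem : a ∈ maximalIdeal A := fun hu => hna (hu.map _)
    have hmB : algebraMap A B a ∈ maximalIdeal B := map_maximalIdeal_le (algebraMap A B) (Ideal.mem_map_of_mem _ hmem)
    haveI : IsLocalHom (Ideal.Quotient.mk (I.map (algebraMap A B))) :=
      IsLocalHom.of_surjective _ Ideal.Quotient.mk_surjective
    exact hmB (isUnit_of_map_unit (Ideal.Quotient.mk (I.map (algebraMap A B))) _ ha)⟩
  rw [Dim.ringKrullDim_eq_add_fibre (A ⧸ I) (B ⧸ I.map (algebraMap A B))]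
  congr 1
  have hm : maximalIdeal (A ⧸ I) = (maximalIdeal A).map (Ideal.Quotient.mk I) :=
    (IsLocalRing.eq_maximalIdeal (Ideal.IsMaximal.map_of_surjective_of_ker_le
      Ideal.Quotient.mk_surjective (by rw [Ideal.mk_ker]; exact hIm))).symm
  have hc : (algebraMap (A ⧸ I) (B ⧸ I.map (algebraMap A B))).comp (Ideal.Quotient.mk I) =
      (Ideal.Quotient.mk (I.map (algebraMap A B))).comp (algebraMap A B) := rfl
  rw [hm, Ideal.map_map, hc, ← Ideal.map_map]
  exact ringKrullDim_eq_of_ringEquiv (DoubleQuot.quotQuotEquivQuotOfLE (Ideal.map_mono hIm))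

/-- Transcendence degrees add up along a composite. -/
theorem trdeg_comp {X Y S : Scheme.{u}} (f : X ⟶ Y) (g : Y ⟶ S) (x : X) {a b c : ℕ}
    (ha : @Algebra.trdeg (Y.residueField (f x)) (X.residueField x) _ _ (f.residueFieldMap x).hom.toAlgebra = a)
    (hb : @Algebra.trdeg (S.residueField (g (f x))) (Y.residueField (f x)) _ _
      (g.residueFieldMap (f x)).hom.toAlgebra = b)
    (hc : @Algebra.trdeg (S.residueField ((f ≫ g) x)) (X.residueField x) _ _
      ((f ≫ g).residueFieldMap x).hom.toAlgebra = c) : c = a + b := by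
  letI := (f.residueFieldMap x).hom.toAlgebra
  letI := (g.residueFieldMap (f x)).hom.toAlgebra
  letI i3 : Algebra (S.residueField (g (f x))) (X.residueField x) :=
    ((f ≫ g).residueFieldMap x).hom.toAlgebra
  haveI : IsScalarTower (S.residueField (g (f x))) (Y.residueField (f x)) (X.residueField x) :=
    IsScalarTower.of_algebraMap_eq' (by
      show ((f ≫ g).residueFieldMap x).hom = (f.residueFieldMap x).hom.comp (g.residueFieldMap (f x)).hom
      rw [Scheme.residueFieldMap_comp]
      rfl)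
  haveI : FaithfulSMul (S.residueField (g (f x))) (Y.residueField (f x)) :=
    (faithfulSMul_iff_algebraMap_injective _ _).2 (RingHom.injective _)
  haveI : FaithfulSMul (Y.residueField (f x)) (X.residueField x) :=
    (faithfulSMul_iff_algebraMap_injective _ _).2 (RingHom.injective _)
  have e := trdeg_add_eq (S.residueField (g (f x))) (Y.residueField (f x)) (A := X.residueField x)
  rw [ha, hb] at e
  have e' : ((b : Cardinal.{u}) + a) = c := e.trans hc
  have e'' : b + a = c := by exact_mod_cast e'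
  omega

theorem dim_fibre_comp {X Y S : Scheme.{u}} (f : X ⟶ Y) (g : Y ⟶ S) (x : X)
    [LocallyOfFiniteType f] [LocallyOfFiniteType g]
    (hflat : (f.stalkMap x).hom.Flat) :
    ringKrullDim (((f ≫ g).fiber ((f ≫ g) x)).presheaf.stalk ((f ≫ g).asFiber x)) =
      ringKrullDim ((g.fiber (g (f x))).presheaf.stalk (g.asFiber (f x))) +
      ringKrullDim ((f.fiber (f x)).presheaf.stalk (f.asFiber x)) := by
  obtain ⟨e₁⟩ := FlatMor.FibreStalk.exists_fibre_stalk_equiv (f ≫ g) x
  obtain ⟨e₂⟩ := FlatMor.FibreStalk.exists_fibre_stalk_equiv g (f x)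
  haveI : IsLocallyNoetherian ((f ≫ g).fiber ((f ≫ g) x)) :=
    LocallyOfFiniteType.isLocallyNoetherian ((f ≫ g).fiberToSpecResidueField _)
  haveI : IsLocallyNoetherian (g.fiber (g (f x))) :=
    LocallyOfFiniteType.isLocallyNoetherian (g.fiberToSpecResidueField _)
  haveI hA : IsNoetherianRing (Y.presheaf.stalk (f x) ⧸
      (maximalIdeal (S.presheaf.stalk (g (f x)))).map (g.stalkMap (f x)).hom) :=
    isNoetherianRing_of_ringEquiv _ e₂.symm
  rw [← ringKrullDim_eq_of_ringEquiv e₁, ← ringKrullDim_eq_of_ringEquiv e₂, DimOpen.ringKrullDim_fibre_stalk f x]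
  letI := (f.stalkMap x).hom.toAlgebra
  haveI : IsLocalHom (algebraMap (Y.presheaf.stalk (f x)) (X.presheaf.stalk x)) :=
    inferInstanceAs (IsLocalHom (f.stalkMap x).hom)
  haveI : Module.Flat (Y.presheaf.stalk (f x)) (X.presheaf.stalk x) := hflat
  have hmap : (maximalIdeal (S.presheaf.stalk ((f ≫ g) x))).map ((f ≫ g).stalkMap x).hom =
      ((maximalIdeal (S.presheaf.stalk (g (f x)))).map (g.stalkMap (f x)).hom).map (f.stalkMap x).hom := by
    rw [Scheme.Hom.stalkMap_comp, Ideal.map_map]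
    rfl
  haveI hB : IsNoetherianRing (X.presheaf.stalk x ⧸
      ((maximalIdeal (S.presheaf.stalk (g (f x)))).map (g.stalkMap (f x)).hom).map (f.stalkMap x).hom) :=
    isNoetherianRing_of_ringEquiv _ (e₁.symm.trans (Ideal.quotEquivOfEq hmap))
  rw [ringKrullDim_eq_of_ringEquiv (Ideal.quotEquivOfEq hmap)]
  exact dim_tower _ (ne_top_of_le_ne_top (maximalIdeal.isMaximal _).ne_top
    (map_maximalIdeal_le (g.stalkMap (f x)).hom))

end

open Groth.Agent AlgebraicGeometry CategoryTheory in
/-- Let f : X → Y and g : Y → S be locally of finite type, x ∈ X, y = f x, s = g y. Then dim_x(X_s) ≤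
dim_x(X_y) + dim_y(Y_s), with equality when O_{X,x} is flat over O_{Y,y}. (The published statement
also gives equality when O_{X_s,x} is flat over O_{Y_s,y}; this row asserts equality only when
O_{X,x} is flat over O_{Y,y}.) -/
theorem result {X Y S : Scheme.{u}} (f : X ⟶ Y) (g : Y ⟶ S) [LocallyOfFiniteType f] [LocallyOfFiniteType g] (x : X) :
    FlatMor.fibreDimAt (f ≫ g) x ≤ FlatMor.fibreDimAt f x + FlatMor.fibreDimAt g (f.base x) ∧
      ((f.stalkMap x).hom.Flat →
        FlatMor.fibreDimAt (f ≫ g) x = FlatMor.fibreDimAt f x + FlatMor.fibreDimAt g (f.base x)) := by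
  obtain ⟨nf, tf, hnf, -, -, hrf, hfd⟩ := EquidimPt.fibre_facts f x
  obtain ⟨ng, tg, hng, -, -, hrg, hgd⟩ := EquidimPt.fibre_facts g (f x)
  obtain ⟨n, t, hn, -, -, hr, hd⟩ := EquidimPt.fibre_facts (f ≫ g) x
  refine ⟨?_, fun hflat => ?_⟩
  · obtain ⟨c, hcx, -, -, -, -, e', -, -, hdx, hc, -⟩ := FibSemi.exists_max_fibre (f ≫ g) x
    obtain ⟨nf', tf', -, -, -, hrf', hfd'⟩ := EquidimPt.fibre_facts f c
    obtain ⟨ng', tg', -, -, -, hrg', hgd'⟩ := EquidimPt.fibre_facts g (f c)
    obtain ⟨n', t', -, -, ht', hr', -⟩ := EquidimPt.fibre_facts (f ≫ g) c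
    have hte : e' = t' := Nat.cast_inj.mp (hc.symm.trans ht')
    have hsum := trdeg_comp f g c hrf' hrg' hr'
    have h1 := EquidimPt.fibreDimAt_mono f hcx
    have h2 := EquidimPt.fibreDimAt_mono g (hcx.map f.continuous)
    rw [hfd', hfd] at h1
    rw [hgd', hgd] at h2
    have h1' : nf' + tf' ≤ nf + tf := Nat.cast_le.mp h1
    have h2' : ng' + tg' ≤ ng + tg := Nat.cast_le.mp h2
    rw [hdx, hfd, hgd, ← Nat.cast_add, Nat.cast_le]
    omega
  · have hsum := trdeg_comp f g x hrf hrg hr
    have hdim := dim_fibre_comp f g x hflat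
    rw [hn, hng, hnf, ← Nat.cast_add] at hdim
    have hdim' : n = ng + nf := Nat.cast_inj.mp hdim
    rw [hd, hfd, hgd, ← Nat.cast_add, Nat.cast_inj]
    omega

end Groth.Agent.S9354
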