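import Groth.Statements.S10328
import Groth.Agent.AlgSpD.RelDim
import Groth.Agent.S9354
-- import your own Groth.Agent.* helpers here

set_option autoImplicit false
universe u
open CategoryTheory CategoryTheory.Limits AlgebraicGeometry
open AlgSp

namespace Groth.Agent.S10328

open Groth.Agent
set_option backward.isDefEq.respectTransparency false

/-- The relative dimension of a composite at a point is at most the sum of the relative dimensions, with
equality when the first morphism is flat at the point. (The published part (2) allows more generally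
flatness of a fibre of X -> Y over a field point of Z; only the case f flat at x is stated.) -/
theorem result {S : Scheme.{u}} {X Y Z : AlgSp.Space S} (f : X ⟶ Y) (g : Y ⟶ Z)
    (hf : AlgSp.LocP @LocallyOfFiniteType f.hom) (hg : AlgSp.LocP @LocallyOfFiniteType g.hom)
    (x : AlgSp.Points X.obj) (a b : WithBot ℕ∞)
    (ha : AlgSp.HasAtMor (fun _ _ h u => FlatMor.fibreDimAt h u = a) f.hom x)
    (hb : AlgSp.HasAtMor (fun _ _ h u => FlatMor.fibreDimAt h u = b) g.hom (AlgSp.Points.map f.hom x)) :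
    AlgSp.HasAtMor (fun _ _ h u => FlatMor.fibreDimAt h u ≤ a + b) (f ≫ g).hom x ∧
    (AlgSp.IsFlatAtMor f.hom x → AlgSp.HasAtMor (fun _ _ h u => FlatMor.fibreDimAt h u = a + b) (f ≫ g).hom x) := by
  obtain ⟨U₀, a₀, u₀, ha₀, rfl⟩ := AlgSpD.exists_chart X x
  obtain ⟨V, W, a₁, c, k, v, hbV, hcW, wg, hv⟩ := AlgSpD.exists_diagram g (AlgSp.Points.map f.hom (AlgSp.Points.ofPt a₀ u₀))
  obtain ⟨R, p, h, r, hpa, -, wf, hr, hhr⟩ := AlgSpD.exists_diagram_over f ha₀ u₀ hbV hv
  have hx : AlgSp.Points.ofPt ((AlgSp.yon S).map p ≫ a₀) r = AlgSp.Points.ofPt a₀ u₀ := by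
    rw [AlgSpB.ofPt_map_comp, hr]
  rw [← hx, AlgSpD.hasAtMor_iff_chart (AlgSpD.morEtaleInv_fibreDimAt a) f hpa hbV wf] at ha
  rw [← hv, AlgSpD.hasAtMor_iff_chart (AlgSpD.morEtaleInv_fibreDimAt b) g hbV hcW wg] at hb
  haveI : LocallyOfFiniteType h.left := hf _ a₁ h hpa hbV wf
  haveI : LocallyOfFiniteType k.left := hg a₁ c k hbV hcW wg
  have hw : ((AlgSp.yon S).map p ≫ a₀) ≫ (f ≫ g).hom = (AlgSp.yon S).map (h ≫ k) ≫ c := by
    show _ ≫ f.hom ≫ g.hom = _
    rw [← Category.assoc, wf, Category.assoc, wg, Functor.map_comp, Category.assoc]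
  obtain ⟨h1, h2⟩ := S9354.result h.left k.left r
  rw [← hhr] at hb
  subst ha hb
  exact ⟨⟨R, W, _, c, h ≫ k, r, hpa, hcW, hw, hx, h1⟩, fun hfl =>
    ⟨R, W, _, c, h ≫ k, r, hpa, hcW, hw, hx, h2 (hfl _ a₁ h r hpa hbV wf hx)⟩⟩

end Groth.Agent.S10328
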