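import Groth.Statements.S10329
import Groth.Agent.AlgSpD.LqfLocus
import Groth.Agent.S9389
import Groth.Agent.AlgSpCov.Listed

set_option autoImplicit false
universe u
open CategoryTheory CategoryTheory.Limits AlgebraicGeometry
open AlgSp

namespace Groth.Agent.S10329

set_option backward.isDefEq.respectTransparency false
open Groth.Agent

/-- If the fibre of a morphism locally of finite type has dimension 0 at a point, then the morphism is
locally quasi-finite on some open subspace containing the image of that point. -/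
theorem result {S : Scheme.{u}} {X Y F : AlgSp.Space S} (f : X ⟶ Y)
    (hf : AlgSp.LocP @LocallyOfFiniteType f.hom) (k : Type u) [Field k] (str : Spec (.of k) ⟶ S)
    (y : (AlgSp.yon S).obj (Over.mk str) ⟶ Y.obj) (p : F ⟶ X) (q : F.obj ⟶ (AlgSp.yon S).obj (Over.mk str))
    (sq : IsPullback p.hom q f.hom y) (z : AlgSp.Points F.obj)
    (hz : AlgSp.HasAt (fun U u => FlatMor.localDim ↥U u = 0) F.obj z) :
    ∃ (X' : AlgSp.Space S) (j : X' ⟶ X), AlgSp.RepWith @IsOpenImmersion j.hom ∧
      AlgSp.Points.map p.hom z ∈ Set.range (AlgSp.Points.map j.hom) ∧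
      AlgSp.LocP (@LocallyQuasiFinite ⊓ @LocallyOfFiniteType) (j ≫ f).hom := by
  obtain ⟨X', j, hj, hl, hr⟩ := AlgSpD.exists_lqf_open f hf
  refine ⟨X', j, hj, ?_, hl⟩
  let P : AlgSp.Space S := ⟨_, AlgSp.IsAlgSpace.yon_obj (Over.mk str)⟩
  let y' : P ⟶ Y := ObjectProperty.homMk y
  let q' : F ⟶ P := ObjectProperty.homMk q
  obtain ⟨U, V, V', W, a, c, c', d, h, h', k, fst, r, ha, hc, hc', hd, w, w', hp, rfl, hr₂⟩ :=
    AlgSpD.exists_baseChange_diagram f y' p q' sq z
  have := hf a c h ha hc w
  have : LocallyOfFiniteType h'.left := MorphismProperty.of_isPullback hp this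
  obtain ⟨e, he⟩ := (AlgSp.yon S).map_surjective c'
  have : Etale e.left := (AlgSp.repWith_yon_map_iff _ _).1 (he ▸ hc')
  have := AlgSpD.locallyQuasiFinite_of_etale e.left
  have hz' : FlatMor.localDim ↥W.left r = 0 :=
    (AlgSpD.hasAt_iff_chart (AlgSpD.localDim_invariant 0) hd r).1 hz
  have : LocallyOfFiniteType (h'.left ≫ e.left) := inferInstance
  have : IsLocallyNoetherian (Over.mk str).left := inferInstanceAs (IsLocallyNoetherian (Spec (.of _)))
  have : IsLocallyNoetherian W.left := LocallyOfFiniteType.isLocallyNoetherian (h'.left ≫ e.left)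
  have hopen : IsOpen ({r} : Set ↥W.left) := (S9798.result W.left r).1 hz'
  have hq : h'.left.QuasiFiniteAt r := by
    rw [Scheme.Hom.quasiFiniteAt_iff_isOpen_singleton_asFiber]
    convert hopen.preimage (h'.left.fiberι (h'.left r)).continuous
    ext t
    simp only [Set.mem_singleton_iff, Set.mem_preimage]
    exact ⟨fun e => by rw [e, h'.left.fiberι_asFiber], fun e => (h'.left.fiberι _).isEmbedding.injective
      (e.trans (h'.left.fiberι_asFiber r).symm)⟩
  rw [hr]
  show AlgSp.HasAtMor _ f.hom (AlgSp.Points.map p.hom _)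
  rw [← hr₂, AlgSpD.hasAtMor_iff_chart (AlgSpD.morEtaleInv_fibreDimAt 0) f ha hc w,
    ← AlgSpD.quasiFiniteAt_iff_fibreDimAt_eq_zero]
  exact (Set.ext_iff.1 (S9389.result h.left k.left fst.left h'.left hp) r).1 hq

end Groth.Agent.S10329
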