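import Groth.Statements.S1033
import Mathlib.Algebra.Homology.DerivedCategory.Ext.ExactSequences
import Mathlib.Algebra.Homology.DerivedCategory.Fractions
-- import your own Groth.Agent.* helpers here

set_option autoImplicit false
universe w v u
open CategoryTheory CategoryTheory.Abelian
open CohDer

namespace Groth.Agent.S1033


open CategoryTheory.Limits Abelian in
/-- positive degree Ext classes are killed by some epimorphism -/
lemma exists_epi_comp_eq_zero {A : Type u} [Category.{v} A] [Abelian A] [HasExt.{w} A]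
    {B C : A} {n : ℕ} (hn : n ≠ 0) (x : Ext B C n) :
    ∃ (B' : A) (p : B' ⟶ B), Epi p ∧ (Ext.mk₀ p).comp x (zero_add n) = 0 := by
  let := HasDerivedCategory.standard A
  let e := ((DerivedCategory.singleFunctors A).shiftIso (n : ℤ) (-(n : ℤ)) 0 (by omega)).app C
  let S := (HomologicalComplex.single A (ComplexShape.up ℤ) 0).obj B
  let T := (HomologicalComplex.single A (ComplexShape.up ℤ) (-(n : ℤ))).obj C
  let f : DerivedCategory.Q.obj S ⟶ DerivedCategory.Q.obj T := x.hom ≫ e.hom
  have : CochainComplex.IsStrictlyLE S 0 :=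
    CochainComplex.isStrictlyLE_of_le ((CochainComplex.singleFunctor A 0).obj B) 0 0 le_rfl
  obtain ⟨K, hK, s, hs, g, hg⟩ := DerivedCategory.right_fac_of_isStrictlyLE f 0
  rw [DerivedCategory.isIso_Q_map_iff_quasiIso] at hs
  have hd : K.d 0 1 = 0 := (K.isZero_of_isStrictlyLE 0 1 (by omega)).eq_of_tgt _ _
  have : IsIso (S.iCycles 0) := S.isIso_iCycles 0 1 (by simp) (by
    exact (HomologicalComplex.isZero_single_obj_X (ComplexShape.up ℤ) 0 B 1 (by omega)).eq_of_tgt _ _)
  have : IsIso (S.homologyπ 0) := S.isIso_homologyπ (-1) 0 (by simp) (by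
    exact (HomologicalComplex.isZero_single_obj_X (ComplexShape.up ℤ) 0 B (-1) (by omega)).eq_of_src _ _)
  have hepi : Epi (s.f 0) := by
    have h₁ : Epi (HomologicalComplex.cyclesMap s 0 ≫ S.homologyπ 0) := by
      rw [← HomologicalComplex.homologyπ_naturality]
      infer_instance
    have h₂ : Epi (HomologicalComplex.cyclesMap s 0) := by
      have : HomologicalComplex.cyclesMap s 0 =
          (HomologicalComplex.cyclesMap s 0 ≫ S.homologyπ 0) ≫ inv (S.homologyπ 0) := by simp
      rw [this]
      exact epi_comp _ _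
    have h₃ : Epi (K.iCycles 0 ≫ s.f 0) := by
      rw [← HomologicalComplex.cyclesMap_i]
      exact epi_comp _ _
    exact epi_of_epi (K.iCycles 0) _
  let p : K.X 0 ⟶ B := s.f 0 ≫ (HomologicalComplex.singleObjXSelf (ComplexShape.up ℤ) 0 B).hom
  refine ⟨K.X 0, p, epi_comp _ _, ?_⟩
  let j : (HomologicalComplex.single A (ComplexShape.up ℤ) 0).obj (K.X 0) ⟶ K :=
    HomologicalComplex.mkHomFromSingle (𝟙 _) (fun k hk => by
      obtain rfl : k = 1 := by simp [ComplexShape.up] at hk; omega
      rw [hd, comp_zero])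
  have hj : j ≫ s = (HomologicalComplex.single A (ComplexShape.up ℤ) 0).map p := by
    apply HomologicalComplex.from_single_hom_ext
    simp [j, p, HomologicalComplex.single_map_f_self, S]
  have hjg : j ≫ g = 0 := HomologicalComplex.from_single_hom_ext
    ((HomologicalComplex.isZero_single_obj_X (ComplexShape.up ℤ) (-(n : ℤ)) C 0 (by omega)).eq_of_tgt _ _)
  ext
  rw [Ext.comp_hom, Ext.mk₀_hom, ShiftedHom.mk₀_comp, Ext.zero_hom, ← cancel_mono e.hom, zero_comp,
    Category.assoc]
  show DerivedCategory.Q.map ((HomologicalComplex.single A (ComplexShape.up ℤ) 0).map p) ≫ f = 0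
  rw [← hj, hg, Functor.map_comp, Category.assoc, IsIso.hom_inv_id_assoc, ← Functor.map_comp, hjg,
    Functor.map_zero]

/-- Let A be an abelian category (with Ext groups in some universe) and p ≥ 0. If Extᵖ(B, C) = 0 for all
objects B, C, then Extⁱ(B, C) = 0 for all i ≥ p and all B, C. -/
theorem result {A : Type u} [Category.{v} A] [Abelian A] [HasExt.{w} A] (p : ℕ)
    (h : ∀ (B C : A) (x : Ext B C p), x = 0) (i : ℕ) (hi : p ≤ i) (B C : A) (x : Ext B C i) : x = 0 := by
  induction i generalizing B C with
  | zero => obtain rfl : p = 0 := Nat.le_zero.1 hi; exact h B C x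
  | succ i ih =>
    rcases Nat.lt_or_ge i p with hlt | hge
    · obtain rfl : p = i + 1 := by omega
      exact h B C x
    · obtain ⟨B', q, hq, hx⟩ := exists_epi_comp_eq_zero (by omega) x
      obtain ⟨y, hy⟩ := Abelian.Ext.contravariant_sequence_exact₃
        (S := ShortComplex.mk (Limits.kernel.ι q) q (Limits.kernel.condition q))
        { exact := ShortComplex.exact_kernel q } C x hx (n₀ := i) (by omega)
      rw [← hy, ih hge _ _ y, Abelian.Ext.comp_zero]

end Groth.Agent.S1033
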