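import Groth.Statements.S10332
import Groth.Agent.AlgSpD.IntClosureEt
-- import your own Groth.Agent.* helpers here

set_option autoImplicit false
universe u
open CategoryTheory CategoryTheory.Limits AlgebraicGeometry Opposite
open AlgSp

namespace Groth.Agent.S10332

set_option backward.isDefEq.respectTransparency false
set_option backward.isDefEq.respectTransparency.types false

/-- For an algebraic space X over S and a quasi-coherent sheaf of O_X-algebras A on the small etale site
of X (a sheaf of commutative rings A with O_X -> A, quasi-coherent as an O_X-module), there is a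
quasi-coherent O_X-subalgebra A' of A whose sections over every affine object U of the site are
exactly the elements of A(U) integral over O_X(U). -/
theorem result {S : Scheme.{u}} (X : AlgSp.Space S)
    (A : AlgSp.EtSh X.obj CommRingCat.{u + 1}) (φ : AlgSp.OEt X.obj ⟶ A)
    [((SheafOfModules.restrictScalars
        ((sheafCompose (AlgSp.etTop X.obj) (forget₂ CommRingCat.{u + 1} RingCat.{u + 1})).map φ)).obj
      (SheafOfModules.unit
        ((sheafCompose (AlgSp.etTop X.obj) (forget₂ CommRingCat.{u + 1} RingCat.{u + 1})).obj A))).IsQuasicoherent] :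
    ∃ (A' : AlgSp.EtSh X.obj CommRingCat.{u + 1}) (ι : A' ⟶ A) (φ' : AlgSp.OEt X.obj ⟶ A'),
      φ' ≫ ι = φ ∧ (∀ E : AlgSp.EtOver X.obj, Function.Injective (ι.hom.app (op E))) ∧
      (∀ E : AlgSp.EtOver X.obj, IsAffine E.obj.left.left → ∀ x : A.obj.obj (op E),
        x ∈ Set.range (ι.hom.app (op E)) ↔ (φ.hom.app (op E)).hom.IsIntegralElem x) ∧
      ((SheafOfModules.restrictScalars
          ((sheafCompose (AlgSp.etTop X.obj) (forget₂ CommRingCat.{u + 1} RingCat.{u + 1})).map φ')).obj
        (SheafOfModules.unit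
          ((sheafCompose (AlgSp.etTop X.obj) (forget₂ CommRingCat.{u + 1} RingCat.{u + 1})).obj A'))).IsQuasicoherent := by
  refine ⟨Groth.Agent.AlgSpD.IntClosureEt.intSheaf A φ, Groth.Agent.AlgSpD.IntClosureEt.incl A φ,
    Groth.Agent.AlgSpD.IntClosureEt.strHom A φ, Groth.Agent.AlgSpD.IntClosureEt.strHom_incl A φ,
    fun E => Subtype.val_injective, fun E hE x => ?_, Groth.Agent.AlgSpD.IntClosureEt.isQuasicoherent_intSheaf A φ⟩
  have hmem := Groth.Agent.AlgSpD.IntClosureEt.mem_intSub_iff_affine A φ (E := E) (x := x)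
  have hint : (Groth.Agent.AlgSpD.IntClosureEt.str A φ E).IsIntegralElem x ↔
      (φ.hom.app (op E)).hom.IsIntegralElem x := by
    refine ⟨fun h => ?_, fun h => ?_⟩
    · obtain ⟨p, hp, hp0⟩ := h
      refine ⟨p.map (ULift.ringEquiv (R := Groth.Agent.AlgSpQC.gr E)).symm.toRingHom, hp.map _, ?_⟩
      refine (Polynomial.eval₂_map (ULift.ringEquiv (R := Groth.Agent.AlgSpQC.gr E)).symm.toRingHom _ x).trans ?_
      exact hp0
    · obtain ⟨p, hp, hp0⟩ := h
      refine ⟨p.map (ULift.ringEquiv (R := Groth.Agent.AlgSpQC.gr E)).toRingHom, hp.map _, ?_⟩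
      rw [Polynomial.eval₂_map]
      exact hp0
  rw [← hint, ← hmem]
  exact ⟨by rintro ⟨y, rfl⟩; exact y.2, fun h => ⟨⟨x, h⟩, rfl⟩⟩

end Groth.Agent.S10332
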