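import Groth.Statements.S10333
import Groth.Agent.AlgSp.NormUniv
import Groth.Agent.S10192
import Groth.Agent.S10193

set_option backward.isDefEq.respectTransparency.types false

set_option autoImplicit false
universe u
open CategoryTheory CategoryTheory.Limits AlgebraicGeometry
open AlgSp

namespace Groth.Agent.S10333

/-- Let f : Y -> X be a morphism of algebraic spaces over S that is quasi-compact and quasi-separated,
and X' -> X the normalization of X in Y (an integral morphism through which f factors, initial among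
such factorizations). If Y is reduced then X' is reduced. -/
theorem result {S : Scheme.{u}} {Y X X' : AlgSp.Space S} (f : Y ⟶ X)
    (hqc : AlgSp.IsQuasiCompactMor f.hom) (hqs : AlgSp.IsQuasiSeparatedMor f.hom) (ν : X' ⟶ X) (f' : Y ⟶ X')
    (hn : AlgSp.IsRelNormalization f.hom ν.hom f'.hom) (hY : AlgSp.IsReducedSp Y.obj) :
    AlgSp.IsReducedSp X'.obj := by
  obtain ⟨Z, i, hi, hrange, hZ⟩ := Groth.Agent.S10192.result X' Set.univ isClosed_univ
  obtain ⟨g, hg⟩ := (Groth.Agent.S10193.result i hi hY f').2 (hrange ▸ Set.subset_univ _)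
  have hg' : g.hom ≫ i.hom = f'.hom := congrArg (fun φ => φ.hom) hg
  have hiν : AlgSp.IsIntegralMor (i.hom ≫ ν.hom) := (Groth.Agent.AlgSpD.isIntegralMor_iff _).2
    (MorphismProperty.comp_mem _ _ _ (Groth.Agent.AlgSp.repWith_mono
      (fun φ (hφ : IsClosedImmersion φ) => (inferInstance : IsIntegralHom φ)) hi) ((Groth.Agent.AlgSpD.isIntegralMor_iff _).1 hn.2.1))
  obtain ⟨k, ⟨hk1, hk2⟩, -⟩ := hn.2.2 Z.property (i.hom ≫ ν.hom) g.hom hiν (by rw [reassoc_of% hg', hn.1])
  have hki : k ≫ i.hom = 𝟙 X'.obj := Groth.Agent.AlgSp.relNorm_hom_ext hn X'.property hn.2.1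
    (by rw [Category.assoc, hk2]) (Category.id_comp _) (by rw [reassoc_of% hk1, hg', Category.comp_id])
  have := Groth.Agent.AlgSpB.mono_of_isClosedImmersion hi
  have hik : i.hom ≫ k = 𝟙 Z.obj := by rw [← cancel_mono i.hom, Category.assoc, hki, Category.comp_id, Category.id_comp]
  have : IsIso i.hom := ⟨k, hik, hki⟩
  obtain ⟨U, p, hp, hps, hU⟩ := hZ
  exact ⟨U, p ≫ i.hom, (MorphismProperty.cancel_right_of_respectsIso _ _ _).2 hp,
    (MorphismProperty.cancel_right_of_respectsIso _ _ _).2 hps, hU⟩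

end Groth.Agent.S10333
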