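import Groth.Statements.S10334
import Groth.Agent.AlgSpD.IntegralUI
-- import your own Groth.Agent.* helpers here

set_option autoImplicit false
universe u
open CategoryTheory CategoryTheory.Limits AlgebraicGeometry Opposite
open AlgSp

set_option backward.isDefEq.respectTransparency.types false

namespace Groth.Agent.S10334

/-- Let f : Y -> X be an integral, universally injective morphism of algebraic spaces over S. A sheaf of
sets on the small etale site of X is isomorphic to a pushforward f_*F if and only if its value is a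
one-element set on every etale scheme over X whose image misses f(|Y|); an abelian sheaf is
isomorphic to a pushforward if and only if its value is zero on every such scheme. (The published
statement says 'restriction to the complement of f(|Y|) is a final object' and 'support contained in
f(|Y|)'; both conditions are written out on the etale schemes over the complement.) -/
theorem result {S : Scheme.{u}} {Y X : AlgSp.Space S} (f : Y ⟶ X)
    (hi : AlgSp.RepWith @IsIntegralHom f.hom) (hu : AlgSp.IsUnivInjectiveMor f.hom) :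
    (∀ G : AlgSp.EtSh X.obj (Type (u + 1)),
      (AlgSp.pushEt hi.1 (Type (u + 1))).essImage G ↔
        ∀ E : AlgSp.EtOver X.obj,
          Disjoint (Set.range (AlgSp.Points.map E.obj.hom)) (Set.range (AlgSp.Points.map f.hom)) →
            Nonempty (Unique (G.obj.obj (op E)))) ∧
    (∀ G : AlgSp.AbEt X.obj,
      (AlgSp.pushEt hi.1 AddCommGrpCat.{u + 1}).essImage G ↔
        ∀ E : AlgSp.EtOver X.obj,
          Disjoint (Set.range (AlgSp.Points.map E.obj.hom)) (Set.range (AlgSp.Points.map f.hom)) →
            Subsingleton ↥(G.obj.obj (op E))) := by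
  refine ⟨fun G => ⟨?_, fun h => ?_⟩, fun G => ⟨?_, fun h => ?_⟩⟩
  · rintro ⟨F, ⟨e⟩⟩ E hE
    have := (AlgSpD.IntegralUI.disjoint_iff_isEmpty hi E).1 hE
    have hs := (isSheaf_iff_isSheaf_of_type _ _).1 F.property (⊥ : Sieve ((EtOver.bc hi.1).obj E))
      ((AlgSpD.mem_etTop_iff _).2 fun x => isEmptyElim x)
    obtain ⟨t, -, ht⟩ := hs (fun _ _ hg => hg.elim) (fun _ _ _ _ _ _ _ h₁ => h₁.elim)
    let u : Unique (((pushEt hi.1 (Type (u + 1))).obj F).obj.obj (op E)) :=
      { default := t, uniq := fun t' => ht t' fun _ _ hg => hg.elim }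
    exact ⟨@Equiv.unique _ _ u (((sheafToPresheaf _ _).mapIso e).app (op E)).toEquiv.symm⟩
  · refine AlgSpD.IntegralUI.mem_essImage_pushEt X.property hi hu G ((isSheaf_iff_isSheaf_of_type _ _).2 ?_)
    exact AlgSpD.IntegralUI.isSheaf_inducedTopology X.property hi hu G.obj
      ((isSheaf_iff_isSheaf_of_type _ _).1 G.property)
      fun E hE => h E ((AlgSpD.IntegralUI.disjoint_iff_isEmpty hi E).2 hE)
  · rintro ⟨F, ⟨e⟩⟩ E hE
    have := (AlgSpD.IntegralUI.disjoint_iff_isEmpty hi E).1 hE
    have := AlgSpEN.PushIntegral.sect_subsingleton_of_isEmpty F ((EtOver.bc hi.1).obj E)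
    exact @Equiv.subsingleton _ _ (((sheafToPresheaf _ _).mapIso e).symm.app (op E)).addCommGroupIsoToAddEquiv.toEquiv this
  · refine AlgSpD.IntegralUI.mem_essImage_pushEt X.property hi hu G
      ((Presheaf.isSheaf_iff_isSheaf_forget _ _ (forget AddCommGrpCat.{u + 1})).2 ((isSheaf_iff_isSheaf_of_type _ _).2 ?_))
    refine AlgSpD.IntegralUI.isSheaf_inducedTopology X.property hi hu (G.obj ⋙ forget AddCommGrpCat.{u + 1})
      (AlgSpEN.PushIntegral.isSheaf_forget G) fun E hE => ?_
    have := h E ((AlgSpD.IntegralUI.disjoint_iff_isEmpty hi E).2 hE)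
    exact ⟨{ default := (0 : G.obj.obj (op E)), uniq := fun a => @Subsingleton.elim _ this a _ }⟩

end Groth.Agent.S10334
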