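import Groth.Statements.S10335
import Groth.Agent.AlgSpD.FibreBC

set_option autoImplicit false
universe u
open CategoryTheory CategoryTheory.Limits AlgebraicGeometry
open AlgSp

namespace Groth.Agent.S10335

/-- In a base change square of algebraic spaces with f : X -> Y locally of finite type and f' : X' -> Y'
its base change along g : Y' -> Y, take a point x' of X' over x. The fibre of f' has a local ring at
x' whose dimension exceeds the corresponding dimension for the fibre of f at x by exactly the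
transcendence degree of x over f(x) minus that of x' over f'(x'), and this excess is never negative;
and for x in X and y' in Y' over the same point of Y some x' over both has excess zero. All four
quantities are read on some chart diagram through the point. -/
theorem result {S : Scheme.{u}} {X Y Y' X' : AlgSp.Space S} (f : X ⟶ Y) (g : Y' ⟶ Y)
    (g' : X' ⟶ X) (f' : X' ⟶ Y') (sq : IsPullback g'.hom f'.hom f.hom g.hom)
    (hf : AlgSp.LocP @LocallyOfFiniteType f.hom) :
    (∀ (x' : AlgSp.Points X'.obj) (e e' : WithBot ℕ∞) (r r' : Cardinal.{u}),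
      AlgSp.HasAtMor (fun _ _ h u => ringKrullDim ↥((h.fiber (h u)).presheaf.stalk (h.asFiber u)) = e) f.hom
          (AlgSp.Points.map g'.hom x') →
      AlgSp.HasAtMor (fun _ _ h u => Dual3.resTrdeg h u = r) f.hom (AlgSp.Points.map g'.hom x') →
      AlgSp.HasAtMor (fun _ _ h u => ringKrullDim ↥((h.fiber (h u)).presheaf.stalk (h.asFiber u)) = e') f'.hom x' →
      AlgSp.HasAtMor (fun _ _ h u => Dual3.resTrdeg h u = r') f'.hom x' →
        e' + ((Cardinal.toENat r' : ℕ∞) : WithBot ℕ∞) = e + ((Cardinal.toENat r : ℕ∞) : WithBot ℕ∞) ∧ e ≤ e') ∧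
    (∀ (x : AlgSp.Points X.obj) (y' : AlgSp.Points Y'.obj) (e : WithBot ℕ∞),
      AlgSp.Points.map f.hom x = AlgSp.Points.map g.hom y' →
      AlgSp.HasAtMor (fun _ _ h u => ringKrullDim ↥((h.fiber (h u)).presheaf.stalk (h.asFiber u)) = e) f.hom x →
        ∃ x' : AlgSp.Points X'.obj, AlgSp.Points.map g'.hom x' = x ∧ AlgSp.Points.map f'.hom x' = y' ∧
          AlgSp.HasAtMor (fun _ _ h u => ringKrullDim ↥((h.fiber (h u)).presheaf.stalk (h.asFiber u)) = e)
            f'.hom x') := by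
  refine ⟨fun x' e e' r r' he hr he' hr' => ?_, fun x y' e hxy he => ?_⟩
  · obtain ⟨U, V, V', W, a, b, c, d, h, h', k, fst, p, ha, hb, hc, hd, w, w', hp, hp₁, hp₂⟩ :=
      Groth.Agent.AlgSpD.exists_baseChange_diagram f g g' f' sq x'
    have := hf a b h ha hb w
    have : LocallyOfFiniteType h'.left := MorphismProperty.of_isPullback hp inferInstance
    rw [← hp₂, Groth.Agent.AlgSpD.hasAtMor_iff_chart (Groth.Agent.AlgSpD.morEtaleInv_fibreStalkDim e) f ha hb w] at he
    rw [← hp₂, Groth.Agent.AlgSpD.hasAtMor_iff_chart (Groth.Agent.AlgSpD.morEtaleInv_resTrdeg r) f ha hb w] at hr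
    rw [← hp₁, Groth.Agent.AlgSpD.hasAtMor_iff_chart (Groth.Agent.AlgSpD.morEtaleInv_fibreStalkDim e') f' hd hc w'] at he'
    rw [← hp₁, Groth.Agent.AlgSpD.hasAtMor_iff_chart (Groth.Agent.AlgSpD.morEtaleInv_resTrdeg r') f' hd hc w'] at hr'
    obtain ⟨n, m, h1, -, h2, h3⟩ := Groth.Agent.AlgSpD.exists_fibre_dims h.left (fst.left p)
    obtain ⟨n', m', h1', -, h2', h3'⟩ := Groth.Agent.AlgSpD.exists_fibre_dims h'.left p
    have hd' := Groth.Agent.AlgSpD.fibreDimAt_of_isPullback h.left hp p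
    rw [h3, h3'] at hd'
    refine ⟨?_, he ▸ he' ▸ (Groth.Agent.AlgSpD.fibreStalkDim_baseChange h.left hp).1 p⟩
    rw [← he, ← he', ← hr, ← hr', h1, h1', h2, h2', map_natCast, map_natCast]
    exact_mod_cast hd'
  · obtain ⟨V, b, v, hb, hv⟩ := Groth.Agent.AlgSpD.exists_chart Y (AlgSp.Points.map f.hom x)
    obtain ⟨U₀, a₀, u₀, ha₀, rfl⟩ := Groth.Agent.AlgSpD.exists_chart X x
    obtain ⟨U, pU, h, u, ha, -, hw, hu, huv⟩ := Groth.Agent.AlgSpD.exists_diagram_over f ha₀ u₀ hb hv
    obtain ⟨V₀, c₀, v₀, hc₀, rfl⟩ := Groth.Agent.AlgSpD.exists_chart Y' y'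
    obtain ⟨V', pV, k, v', hc, -, wg, hv', hkv⟩ :=
      Groth.Agent.AlgSpD.exists_diagram_over g hc₀ v₀ hb (hv.trans hxy)
    obtain ⟨d, hd, hd1, hd2⟩ := Groth.Agent.AlgSpD.repWith_etale_lift sq ha hb hc hw wg (IsPullback.of_hasPullback h k)
    have hp : IsPullback (pullback.fst h k).left (pullback.snd h k).left h.left k.left :=
      (IsPullback.of_hasPullback h k).map (Over.forget S)
    have := hf _ b h ha hb hw
    have hxu : AlgSp.Points.ofPt ((AlgSp.yon S).map pU ≫ a₀) u = AlgSp.Points.ofPt a₀ u₀ := by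
      rw [Groth.Agent.AlgSpB.ofPt_map_comp, hu]
    rw [← hxu, Groth.Agent.AlgSpD.hasAtMor_iff_chart (Groth.Agent.AlgSpD.morEtaleInv_fibreStalkDim e) f ha hb hw] at he
    obtain ⟨r, hr1, hr2, hr3⟩ :=
      (Groth.Agent.AlgSpD.fibreStalkDim_baseChange h.left hp).2 u v' (huv.trans hkv.symm)
    refine ⟨AlgSp.Points.ofPt d r, ?_, ?_,
      (Groth.Agent.AlgSpD.hasAtMor_iff_chart (Groth.Agent.AlgSpD.morEtaleInv_fibreStalkDim e) f' hd hc hd2 r).2
        (hr3.trans he)⟩
    · rw [AlgSp.Points.map_ofPt, hd1, Groth.Agent.AlgSpB.ofPt_map_comp, ← hxu]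
      exact congrArg _ hr1
    · rw [AlgSp.Points.map_ofPt, hd2, Groth.Agent.AlgSpB.ofPt_map_comp]
      exact (congrArg _ hr2).trans ((Groth.Agent.AlgSpB.ofPt_map_comp pV c₀ v').trans (congrArg _ hv'))

end Groth.Agent.S10335
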