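import Groth.Statements.S10347
import Groth.Agent.AlgSpD.HasAt

set_option autoImplicit false
universe u
open CategoryTheory CategoryTheory.Limits AlgebraicGeometry Topology TopologicalSpace
open AlgSp

namespace Groth.Agent.S10347

/-- For a locally quasi-finite morphism f : X ⟶ Y of algebraic spaces over a scheme S (locally
quasi-finite and locally of finite type, etale locally on source and target), dim X ≤ dim Y. -/
theorem result {S : Scheme.{u}} {X Y : AlgSp.Space S} (f : X ⟶ Y)
    (hf : AlgSp.LocP (@LocallyQuasiFinite ⊓ @LocallyOfFiniteType) f.hom) :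
    AlgSp.dim X.obj ≤ AlgSp.dim Y.obj := by
  obtain ⟨V, b, hb, hbs⟩ := Y.property.atlas
  refine iSup_le fun U => iSup_le fun a => iSup_le fun ha => ?_
  obtain ⟨R, p, h, sq⟩ := AlgSpB.exists_pullback_yon (Y.property.representable_from_yon (a ≫ f.hom)) b
  have : Etale p.left := hb.2 _ _ _ sq.flip
  have : Surjective p.left := hbs.2 _ _ _ sq.flip
  have : LocallyQuasiFinite h.left := (hf _ b h (AlgSpB.repWith_etale_map_comp p ha) hb
    ((Category.assoc _ _ _).trans sq.w)).1
  exact ((AlgSpD.topologicalKrullDim_le_of_surjective_etale p.left).trans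
    (AlgSpD.topologicalKrullDim_le_of_lqf h.left)).trans (le_iSup_of_le V (le_iSup₂_of_le b hb le_rfl))

end Groth.Agent.S10347
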