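import Groth.Statements.S10349
import Groth.Agent.AlgSpD.SinglePoint
import Groth.Agent.AlgSp.SchImageRep
-- import your own Groth.Agent.* helpers here

set_option autoImplicit false
universe u
open CategoryTheory CategoryTheory.Limits AlgebraicGeometry Topology TopologicalSpace
open AlgSp

namespace Groth.Agent.S10349

/-- Let S be a scheme, X a decent algebraic space over S, k a field over S and p : h_{Spec k} ⟶ X a
surjective etale map. Then X ≅ h_{Spec k'} for a field k' over S, and p corresponds to a finite
etale morphism Spec k ⟶ Spec k' over S, so that k is a finite separable extension of k'. -/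
theorem result {S : Scheme.{u}} (X : AlgSp.Space S)
    (hX : AlgSp.IsDecent X.obj) (k : Type u) [Field k] (str : Spec (CommRingCat.of k) ⟶ S)
    (p : (AlgSp.yon S).obj (Over.mk str) ⟶ X.obj) (hp : AlgSp.RepWith @Etale p) (hs : AlgSp.RepWith @Surjective p) :
    ∃ (k' : Type u) (_ : Field k') (str' : Spec (CommRingCat.of k') ⟶ S)
      (e : (AlgSp.yon S).obj (Over.mk str') ≅ X.obj) (c : Over.mk str ⟶ Over.mk str'),
      (AlgSp.yon S).map c ≫ e.hom = p ∧ IsFinite c.left ∧ Etale c.left := by
  open Groth.Agent in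
  have hpt : ∀ y : AlgSp.Points X.obj, ∃ z : ↥(Over.mk str).left, AlgSp.Points.ofPt p z = y := by
    intro y
    obtain ⟨z, hz⟩ := (AlgSp.isOpenQuotientMap_map hp hs).surjective y
    refine ⟨AlgSp.Points.toScheme (Over.mk str) z, ?_⟩
    rw [AlgSp.Points.ofPt_eq_map_ofScheme, AlgSp.Points.ofScheme_toScheme]
    exact hz
  have : Subsingleton ↥(Over.mk str).left := inferInstanceAs (Subsingleton (PrimeSpectrum k))
  have : Nonempty ↥(Over.mk str).left := inferInstanceAs (Nonempty (PrimeSpectrum k))
  have : Subsingleton (AlgSp.Points X.obj) := ⟨fun y y' => by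
    obtain ⟨z, rfl⟩ := hpt y
    obtain ⟨z', rfl⟩ := hpt y'
    rw [Subsingleton.elim z z']⟩
  have : Nonempty (AlgSp.Points X.obj) := ⟨AlgSp.Points.ofPt p (Classical.arbitrary _)⟩
  obtain ⟨M, ⟨e⟩⟩ := Groth.Agent.AlgSpB.exists_iso_of_isRepresentable
    (Groth.Agent.AlgSpD.isRepresentable_of_subsingleton X hX)
  obtain ⟨c, hc⟩ := (AlgSp.yon S).map_surjective (p ≫ e.inv)
  have hce : AlgSp.RepWith @Etale ((AlgSp.yon S).map c) := by
    rw [hc]; exact (MorphismProperty.cancel_right_of_respectsIso _ _ _).2 hp
  have hcs : AlgSp.RepWith @Surjective ((AlgSp.yon S).map c) := by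
    rw [hc]; exact (MorphismProperty.cancel_right_of_respectsIso _ _ _).2 hs
  have he : Etale c.left := (AlgSp.repWith_yon_map_iff _ _).1 hce
  have hsj : Surjective c.left := (AlgSp.repWith_yon_map_iff _ _).1 hcs
  have : AlgebraicGeometry.IsReduced (Over.mk str).left :=
    inferInstanceAs (AlgebraicGeometry.IsReduced (Spec (CommRingCat.of k)))
  have : AlgebraicGeometry.IsReduced M.left := Groth.Agent.AlgSp.SchImageRep.isReduced_of_flat_surjective c.left
  have : Subsingleton ↥M.left := ⟨fun a b => by
    obtain ⟨a', rfl⟩ := c.left.surjective a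
    obtain ⟨b', rfl⟩ := c.left.surjective b
    rw [Subsingleton.elim a' b']⟩
  have : Nonempty ↥M.left := ⟨c.left (Classical.arbitrary _)⟩
  have : IsIntegral M.left := (isIntegral_iff_irreducibleSpace_and_isReduced _).mpr
    ⟨⟨inferInstance⟩, inferInstance⟩
  have : IsAffine M.left := inferInstance
  let K : Type u := Γ(M.left, ⊤)
  let fK : Field K := (isField_of_isIntegral_of_subsingleton M.left).toField
  let str' : Spec (CommRingCat.of K) ⟶ S := M.left.isoSpec.inv ≫ M.hom
  let i : M ≅ Over.mk str' := Over.isoMk M.left.isoSpec (by simp [str'])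
  refine ⟨K, fK, str', (AlgSp.yon S).mapIso i.symm ≪≫ e, c ≫ i.hom, ?_, ?_, ?_⟩
  · simp only [Functor.map_comp, Iso.trans_hom, Functor.mapIso_hom, Iso.symm_hom, Category.assoc,
      Iso.map_hom_inv_id_assoc]
    rw [hc, Category.assoc, e.inv_hom_id, Category.comp_id]
  · rw [Over.comp_left]
    have : IsAffine (Over.mk str).left := inferInstanceAs (IsAffine (Spec (CommRingCat.of k)))
    have : LocallyQuasiFinite c.left := Groth.Agent.AlgSpD.locallyQuasiFinite_of_etale c.left
    have : IsFinite c.left := IsFinite.of_locallyQuasiFinite c.left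
    infer_instance
  · rw [Over.comp_left]
    infer_instance

end Groth.Agent.S10349
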