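import Groth.Statements.S10360
import Groth.Agent.AlgSpD.DecentCrit

set_option autoImplicit false
universe u
open CategoryTheory CategoryTheory.Limits AlgebraicGeometry Topology TopologicalSpace
open AlgSp

namespace Groth.Agent.S10360

/-- (1) ⇔ (4): for an algebraic space X over a scheme S and x ∈ |X|, the fibres over x of |U| → |X| and
|U ×_X U| → |X| are finite for every etale h_U ⟶ X with U affine, if and only if x is represented by
a monomorphism Spec k ⟶ X which is representable quasi-compact. -/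
theorem result {S : Scheme.{u}} (X : AlgSp.Space S)
    (x : AlgSp.Points X.obj) :
    (∀ (U : Over S) (φ : (AlgSp.yon S).obj U ⟶ X.obj), IsAffine U.left → AlgSp.RepWith @Etale φ →
        ∀ (R : Over S) (s t : R ⟶ U), IsPullback ((AlgSp.yon S).map t) ((AlgSp.yon S).map s) φ φ →
          (AlgSp.Points.ofPt φ ⁻¹' {x}).Finite ∧ (AlgSp.Points.ofPt ((AlgSp.yon S).map t ≫ φ) ⁻¹' {x}).Finite) ↔
      ∃ p : AlgSp.FieldPt X.obj, AlgSp.Points.mk p = x ∧ Mono p.toHom ∧ AlgSp.RepWith @QuasiCompact p.toHom := by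
  constructor
  · intro H
    obtain ⟨U, a, u, hU, ha, hu⟩ := AlgSpD.exists_affine_chart X x
    obtain ⟨R, t, s, hR⟩ := AlgSpB.exists_pullback_yon (X.property.representable_from_yon a) a
    obtain ⟨p, hp, hm, -⟩ := AlgSpD.exists_mono_of_chart X a ha s t hR u
      ((H U a hU ha R s t hR).2.subset fun r hr => by
        rw [Set.mem_preimage, AlgSpB.ofPt_map_comp, hr.2]; exact hu)
    refine ⟨p, hp.trans hu, hm, AlgSpD.repWith_quasiCompact_of_finite' X p hm fun V b hV hb => ?_⟩
    obtain ⟨R', t', s', hR'⟩ := AlgSpB.exists_pullback_yon (X.property.representable_from_yon b) b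
    rw [hp, hu]
    exact (H V b hV hb R' s' t' hR').1
  · rintro ⟨p, rfl, hm, hq⟩ U φ hU hφ R s t hR
    have : CompactSpace ↥U.left := inferInstance
    have h1 := AlgSpD.finite_preimage_of_qc_point p hq φ hφ
    refine ⟨h1, (h1.biUnion fun v hv => h1.biUnion fun w hw =>
      AlgSpD.finite_pairs_of_mono X p hm φ hφ s t hR hv hw).subset fun r hr => ?_⟩
    rw [Set.mem_preimage, AlgSpB.ofPt_map_comp] at hr
    have hs : s.left r ∈ AlgSp.Points.ofPt φ ⁻¹' {AlgSp.Points.mk p} :=
      ((AlgSpB.ofPt_eq_ofPt_iff hR (t.left r) (s.left r)).2 ⟨r, rfl, rfl⟩).symm.trans hr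
    exact Set.mem_iUnion₂.2 ⟨_, hs, Set.mem_iUnion₂.2 ⟨_, hr, rfl, rfl⟩⟩

end Groth.Agent.S10360
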