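import Groth.Statements.S10352
import Groth.Agent.S10360

set_option autoImplicit false
universe u
open CategoryTheory CategoryTheory.Limits AlgebraicGeometry Topology TopologicalSpace
open AlgSp

namespace Groth.Agent.S10352

/-- Let S be a scheme, X and Y algebraic spaces over S, and f : X ⟶ Y an etale morphism. If Y is decent
then X is decent. -/
theorem result {S : Scheme.{u}} {X Y : AlgSp.Space S} (f : X ⟶ Y)
    (hf : AlgSp.IsEtaleMor f.hom) (hY : AlgSp.IsDecent Y.obj) : AlgSp.IsDecent X.obj := by
  intro x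
  refine (S10360.result X x).1 fun U φ hU hφ R s t hR => ?_
  obtain ⟨R', t', s', hR'⟩ := AlgSpB.exists_pullback_yon (Y.property.representable_from_yon (φ ≫ f.hom))
    (φ ≫ f.hom)
  obtain ⟨h1, h2⟩ := (S10360.result Y (AlgSp.Points.map f.hom x)).2
    (hY (AlgSp.Points.map f.hom x)) U (φ ≫ f.hom) hU (hf φ hφ) R' s' t' hR'
  obtain ⟨l, hl⟩ := (AlgSp.yon S).map_surjective (hR'.lift ((AlgSp.yon S).map t) ((AlgSp.yon S).map s)
    (by rw [← Category.assoc, hR.w, Category.assoc]))
  have hlt : l ≫ t' = t := (AlgSp.yon S).map_injective (by rw [Functor.map_comp, hl, hR'.lift_fst])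
  have hls : l ≫ s' = s := (AlgSp.yon S).map_injective (by rw [Functor.map_comp, hl, hR'.lift_snd])
  have : Mono l := ⟨fun {W} a b e => (AlgSp.yon S).map_injective (hR.hom_ext
    (by rw [← Functor.map_comp, ← Functor.map_comp, ← hlt, ← Category.assoc, ← Category.assoc, e])
    (by rw [← Functor.map_comp, ← Functor.map_comp, ← hls, ← Category.assoc, ← Category.assoc, e]))⟩
  refine ⟨h1.subset fun v hv => ?_, (h2.preimage l.left.injective.injOn).subset fun r hr => ?_⟩
  · have := congrArg (AlgSp.Points.map f.hom) hv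
    rwa [AlgSp.Points.map_ofPt] at this
  · have := congrArg (AlgSp.Points.map f.hom) hr
    rw [AlgSp.Points.map_ofPt, Category.assoc, AlgSpB.ofPt_map_comp] at this
    rw [Set.mem_preimage, Set.mem_preimage, AlgSpB.ofPt_map_comp]
    have e : t'.left (l.left r) = t.left r := congrArg (fun m : R ⟶ U => m.left r) hlt
    rw [e]; exact this

end Groth.Agent.S10352
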