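import Groth.Statements.S10353
import Groth.Agent.AlgSpD.DenseMain

set_option autoImplicit false
universe u
open CategoryTheory CategoryTheory.Limits AlgebraicGeometry Topology TopologicalSpace
open AlgSp

namespace Groth.Agent.S10353

/-- Let X be an algebraic space over a scheme S and suppose there is a finite, etale, surjective map h_U
⟶ X from a scheme U. Then some dense open subspace of X is a scheme: an open subspace X' ⟶ X with
representable underlying sheaf and |X'| dense in |X|. -/
theorem result {S : Scheme.{u}} (X : AlgSp.Space S)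
    {U : Over S} (a : (AlgSp.yon S).obj U ⟶ X.obj) (hf : AlgSp.RepWith @IsFinite a) (he : AlgSp.RepWith @Etale a)
    (hs : AlgSp.RepWith @Surjective a) :
    ∃ (X' : AlgSp.Space S) (j : X' ⟶ X), AlgSp.RepWith @IsOpenImmersion j.hom ∧ X'.obj.obj.IsRepresentable ∧
      Dense (Set.range (AlgSp.Points.map j.hom)) := by
  open Groth.Agent in
  refine AlgSpD.exists_dense_scheme X fun Ω hΩo ⟨x, hx⟩ => ?_
  obtain ⟨u, rfl⟩ := AlgSpB.surjective_ofPt hs x
  obtain ⟨W, hW, huW, hr⟩ := AlgSpD.exists_affine_restrict X a he Ω hΩo u hx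
  refine ⟨_, (show IsAffine W.toScheme from hW), ⟨(⟨u, huW⟩ : ↥W)⟩, _, AlgSpD.repWith_etale_restrict a he W, hr,
    fun q hq => ?_⟩
  let ι : Over.mk (W.ι ≫ U.hom) ⟶ U := Over.homMk W.ι rfl
  have hfl : Finite (AlgSpD.Lifts X a q) := by
    obtain ⟨P, fst, snd, sq⟩ := AlgSpB.exists_pullback_yon hf.1 q.toHom
    have : IsFinite snd.left := hf.2 _ _ _ sq
    have : Etale snd.left := he.2 _ _ _ sq
    have := AlgSpD.subsingleton_pt q
    have : Finite ↥P.left := by
      rw [← Set.finite_univ_iff]
      exact (snd.left.finite_preimage_singleton (IsLocalRing.closedPoint q.K)).subset fun z _ => Subsingleton.elim _ _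
    have hl : ∀ c : AlgSpD.Lifts X a q, ∃ e : q.pt ⟶ P, e ≫ snd = 𝟙 _ ∧ e ≫ fst = c.1 := fun c => by
      obtain ⟨e, he'⟩ := (AlgSp.yon S).map_surjective (sq.lift ((AlgSp.yon S).map c.1) (𝟙 _)
        (c.2.trans (Category.id_comp _).symm))
      exact ⟨e, (AlgSp.yon S).map_injective (by rw [Functor.map_comp, he', sq.lift_snd, CategoryTheory.Functor.map_id]),
        (AlgSp.yon S).map_injective (by rw [Functor.map_comp, he', sq.lift_fst])⟩
    choose e he1 he2 using hl
    refine Finite.of_injective (fun c => (e c).left (IsLocalRing.closedPoint q.K)) fun c d hcd => ?_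
    have : e c = e d := Over.OverMorphism.ext
      (EtaleSite.section_ext snd.left (e c).left (e d).left (congrArg CommaMorphism.left (he1 c))
        (congrArg CommaMorphism.left (he1 d)) (IsLocalRing.closedPoint q.K) hcd)
    exact Subtype.ext (by rw [← he2 c, ← he2 d, this])
  refine Finite.of_injective (fun c => (⟨c.1 ≫ ι, by rw [Functor.map_comp, Category.assoc]; exact c.2⟩ :
    AlgSpD.Lifts X a q)) fun c d e => Subtype.ext ?_
  have : Mono ι.left := inferInstanceAs (Mono W.ι)
  have : Mono ι := Functor.mono_of_mono_map (Over.forget S) this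
  exact (cancel_mono ι).1 (congrArg Subtype.val e)

end Groth.Agent.S10353
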