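import Groth.Statements.S10357
import Groth.Agent.AlgSpD.DecentPoint

set_option autoImplicit false
universe u
open CategoryTheory CategoryTheory.Limits AlgebraicGeometry Topology TopologicalSpace
open AlgSp

namespace Groth.Agent.S10357

/-- Let S be a scheme, X a decent algebraic space over S, and Spec k ⟶ X a morphism over S from the
spectrum of a field whose image in S is a closed point s with k algebraic over κ(s). Then the image
point of |X| is closed. Here Spec k ⟶ S is written as Spec k ⟶ Spec κ(s) ⟶ S for a ring map φ : κ(s)
→ k, integral since k is algebraic over κ(s). -/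
theorem result {S : Scheme.{u}} (X : AlgSp.Space S)
    (hX : AlgSp.IsDecent X.obj) (s : ↥S) (hs : IsClosed ({s} : Set ↥S)) (k : Type u) [Field k]
    (φ : S.residueField s ⟶ CommRingCat.of k) (hφ : φ.hom.IsIntegral)
    (p : (AlgSp.yon S).obj (Over.mk (Spec.map φ ≫ S.fromSpecResidueField s)) ⟶ X.obj)
    (t : ↥(Spec (CommRingCat.of k))) :
    IsClosed ({AlgSp.Points.ofPt p t} : Set (AlgSp.Points X.obj)) := by
  let r : AlgSp.FieldPt X.obj := { K := k, str := Spec.map φ ≫ S.fromSpecResidueField s,
                                   val := (AlgSp.J S).uliftYonedaEquiv p }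
  have hr : r.toHom = p := Equiv.symm_apply_apply _ p
  have : IsClosedImmersion (S.fromSpecResidueField s) := IsClosedImmersion.of_isPreimmersion _ (by
    rw [Scheme.range_fromSpecResidueField]; exact hs)
  have : IsIntegralHom (Spec.map φ) := IsIntegralHom.SpecMap_iff.2 hφ
  have := AlgSpD.isClosed_singleton_of_integral X hX r
    (inferInstanceAs (IsIntegralHom (Spec.map φ ≫ S.fromSpecResidueField s)))
  rwa [← AlgSp.Points.ofPt_toHom r t, hr] at this

end Groth.Agent.S10357
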