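import Groth.Statements.S10358
import Groth.Agent.AlgSpD.DecentPoint

set_option autoImplicit false
universe u
open CategoryTheory CategoryTheory.Limits AlgebraicGeometry Topology TopologicalSpace
open AlgSp

namespace Groth.Agent.S10358

/-- Let S be a scheme, X a decent algebraic space over S, and Spec k ⟶ X a morphism over S from the
spectrum of a field whose image in S is a closed point s with k finite over κ(s) (Spec k ⟶ S written
through a ring map φ : κ(s) → k). Then Spec k ⟶ X is finite; if moreover φ is bijective (k = κ(s))
it is a closed immersion. -/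
theorem result {S : Scheme.{u}} (X : AlgSp.Space S)
    (hX : AlgSp.IsDecent X.obj) (s : ↥S) (hs : IsClosed ({s} : Set ↥S)) (k : Type u) [Field k]
    (φ : S.residueField s ⟶ CommRingCat.of k) (hφ : φ.hom.Finite)
    (p : (AlgSp.yon S).obj (Over.mk (Spec.map φ ≫ S.fromSpecResidueField s)) ⟶ X.obj) :
    AlgSp.RepWith @IsFinite p ∧
      (Function.Bijective φ.hom → AlgSp.RepWith @IsClosedImmersion p) := by
  let r : AlgSp.FieldPt X.obj := { K := k, str := Spec.map φ ≫ S.fromSpecResidueField s,
                                   val := (AlgSp.J S).uliftYonedaEquiv p }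
  have hr : r.toHom = p := Equiv.symm_apply_apply _ p
  have : IsClosedImmersion (S.fromSpecResidueField s) := IsClosedImmersion.of_isPreimmersion _ (by
    rw [Scheme.range_fromSpecResidueField]; exact hs)
  have : IsFinite (Spec.map φ) := (IsFinite.SpecMap_iff _).2 hφ
  have hint := AlgSpD.isClosed_singleton_of_integral X hX r
    (inferInstanceAs (IsIntegralHom (Spec.map φ ≫ S.fromSpecResidueField s)))
  obtain ⟨q, hq, hm, hqc⟩ := hX (AlgSp.Points.mk r)
  rw [← hq] at hint
  have hci := AlgSpD.isClosedImmersion_of_isClosed X q hm hqc hint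
  obtain ⟨c, hc⟩ := AlgSpD.exists_factor_of_mono X q r hm hq.symm
  have hsep : IsSeparated q.str := IsSeparated.of_comp q.str (terminal.from S)
  have hw : c.left ≫ q.str = Spec.map φ ≫ S.fromSpecResidueField s := Over.w c
  rw [← hr, ← hc]
  refine ⟨?_, fun hb => ?_⟩
  · have : IsFinite (c.left ≫ q.str) := by rw [hw]; infer_instance
    exact (AlgSp.RepWith _).comp_mem _ _ ((AlgSp.repWith_yon_map_iff _ _).2 (IsFinite.of_comp c.left q.str))
      (Groth.Agent.AlgSp.repWith_mono (Q := @IsFinite) (fun g hg => (have : IsClosedImmersion g := hg; inferInstance)) hci)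
  · have : IsIso (Spec.map φ) := by
      have : IsIso φ := (ConcreteCategory.isIso_iff_bijective φ).2 hb
      infer_instance
    have : IsClosedImmersion (c.left ≫ q.str) := by rw [hw]; infer_instance
    exact (AlgSp.RepWith _).comp_mem _ _
      ((AlgSp.repWith_yon_map_iff _ _).2 (IsClosedImmersion.of_comp c.left q.str)) hci

end Groth.Agent.S10358
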