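import Groth.Statements.S10366
import Groth.Agent.AlgSpD.OnePoint
-- import your own Groth.Agent.* helpers here

set_option autoImplicit false
universe u
open CategoryTheory CategoryTheory.Limits AlgebraicGeometry Topology TopologicalSpace
open AlgSp

namespace Groth.Agent.S10366

/-- (1) ⇔ (2): an algebraic space Z over a scheme S is reduced with |Z| a single point if and only if
there is a surjective flat morphism Spec k ⟶ Z from the spectrum of a field. -/
theorem result {S : Scheme.{u}} (Z : AlgSp.Space S) :
    (AlgSp.EtaleLocally (fun U => IsReduced U) Z.obj ∧ Nonempty (AlgSp.Points Z.obj) ∧ Subsingleton (AlgSp.Points Z.obj)) ↔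
      ∃ (k : Type u) (_ : Field k) (str : Spec (CommRingCat.of k) ⟶ S) (p : (AlgSp.yon S).obj (Over.mk str) ⟶ Z.obj),
        AlgSp.LocP @Flat p ∧ AlgSp.IsSurjectiveMor p := by
  open Groth.Agent in
  constructor
  · rintro ⟨hr, hn, hs⟩
    have := hn
    have := hs
    obtain ⟨k, hk, str, q, ⟨-, hf, hq⟩, -⟩ := (AlgSpD.redZeroDimSp_of_isReduced Z hr).exists_lft_point
    exact ⟨k, hk, str, q, hf, hq⟩
  · rintro ⟨k, hk, str, p, hpf, hps⟩
    exact ⟨(AlgSpD.redZeroDimSp_of_flat_surjective Z p hpf hps).etaleLocally_reduced,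
      AlgSpD.subsingleton_of_surjective Z p hps⟩

end Groth.Agent.S10366
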