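import Groth.Statements.S10371
import Groth.Agent.AlgSpD.OnePoint
-- import your own Groth.Agent.* helpers here

set_option autoImplicit false
universe u
open CategoryTheory CategoryTheory.Limits AlgebraicGeometry Topology TopologicalSpace
open AlgSp

namespace Groth.Agent.S10371

/-- Two monomorphisms Z ⟶ X, Z' ⟶ X of algebraic spaces over a scheme S with image {x} in |X|, whose
sources admit a locally finitely presented, flat, surjective morphism from the spectrum of a field,
are isomorphic over X. -/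
theorem result {S : Scheme.{u}} (X : AlgSp.Space S) (x : AlgSp.Points X.obj)
    {Z Z' : AlgSp.Space S} (i : Z ⟶ X) (i' : Z' ⟶ X) [Mono i.hom] [Mono i'.hom]
    (hi : Set.range (AlgSp.Points.map i.hom) = {x}) (hi' : Set.range (AlgSp.Points.map i'.hom) = {x})
    (hZ : ∃ (k : Type u) (_ : Field k) (str : Spec (CommRingCat.of k) ⟶ S) (p : (AlgSp.yon S).obj (Over.mk str) ⟶ Z.obj),
        AlgSp.LocP @LocallyOfFinitePresentation p ∧ AlgSp.LocP @Flat p ∧ AlgSp.IsSurjectiveMor p)
    (hZ' : ∃ (k : Type u) (_ : Field k) (str : Spec (CommRingCat.of k) ⟶ S) (p : (AlgSp.yon S).obj (Over.mk str) ⟶ Z'.obj),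
        AlgSp.LocP @LocallyOfFinitePresentation p ∧ AlgSp.LocP @Flat p ∧ AlgSp.IsSurjectiveMor p) :
    ∃ e : Z' ≅ Z, e.hom ≫ i = i' := by
  open Groth.Agent in
  let P : AlgSp.Space S := ⟨pullback i.hom i'.hom,
    AlgSp.isAlgSpace_pullback X.property Z.property Z'.property i.hom i'.hom⟩
  have : Nonempty (AlgSp.Points P.obj) := by
    obtain ⟨a, ha⟩ : x ∈ Set.range (AlgSp.Points.map i.hom) := by rw [hi]; rfl
    obtain ⟨b, hb⟩ : x ∈ Set.range (AlgSp.Points.map i'.hom) := by rw [hi']; rfl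
    obtain ⟨y, -, -⟩ := AlgSpB.exists_of_isPullback (IsPullback.of_hasPullback i.hom i'.hom) a b (ha.trans hb.symm)
    exact ⟨y⟩
  obtain ⟨k, hk, str, p, hpl, hpf, hps⟩ := hZ
  obtain ⟨k', hk', str', p', hpl', hpf', hps'⟩ := hZ'
  have h1 : IsIso (pullback.fst i.hom i'.hom) :=
    AlgSpD.isIso_of_mono_to_fppf_point (Z' := P) (pullback.fst i.hom i'.hom) p hpl hpf hps
  have h2 : IsIso (pullback.snd i.hom i'.hom) :=
    AlgSpD.isIso_of_mono_to_fppf_point (Z' := P) (pullback.snd i.hom i'.hom) p' hpl' hpf' hps'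
  refine ⟨ObjectProperty.isoMk _ ((asIso (pullback.snd i.hom i'.hom)).symm ≪≫ asIso (pullback.fst i.hom i'.hom)), ?_⟩
  apply ObjectProperty.hom_ext
  simp [pullback.condition]

end Groth.Agent.S10371
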