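import Groth.Statements.S10374
import Groth.Agent.AlgSpEN.Field
import Groth.Agent.AlgSpD.DecentPoint
import Groth.Agent.AlgSpD.DecentCrit
import Groth.Agent.AlgSpCov.ElemNbhd
import Groth.Agent.S10340
-- import your own Groth.Agent.* helpers here

set_option autoImplicit false
universe u
open CategoryTheory CategoryTheory.Limits AlgebraicGeometry Topology TopologicalSpace
open AlgSp

set_option backward.isDefEq.respectTransparency.types false

namespace Groth.Agent.S10374

/-- Let S be a scheme and X a decent algebraic space over S. Every point x ∈ |X| admits an etale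
neighbourhood (U, u) ⟶ (X, x) which is elementary, with U an affine scheme and u the only point of U
over x; being elementary means that Spec κ(u) ⟶ X is a monomorphism, equivalently that the residue
field of X at x maps isomorphically to κ(u). -/
theorem result {S : Scheme.{u}} (X : AlgSp.Space S) (hX : AlgSp.IsDecent X.obj)
    (x : AlgSp.Points X.obj) :
    ∃ (U : Over S) (a : (AlgSp.yon S).obj U ⟶ X.obj) (u : ↥U.left), IsAffine U.left ∧
      AlgSp.IsElemEtaleNbhd a u x ∧ AlgSp.Points.ofPt a ⁻¹' {x} = {u} := by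
  obtain ⟨p, hp, hm, hq⟩ := hX x
  obtain ⟨Z, b, g, hZ, hb, hgb⟩ := AlgSpEN.exists_affine_chart_field X.property p.str p.toHom
  let u : ↥Z.left := g.left (IsLocalRing.closedPoint p.K)
  let q := AlgSp.FieldPt.ofPt b u
  obtain ⟨β, hβ⟩ := AlgSp.exists_fac_residueField (L := p.K) g.left u
    (congrArg (fun w => g.left w) (@Subsingleton.elim _ (inferInstanceAs (Subsingleton (PrimeSpectrum p.K))) _ _))
  let d : p.pt ⟶ q.pt := Over.homMk (Spec.map β) (by
    change Spec.map β ≫ Z.left.fromSpecResidueField u ≫ Z.hom = p.str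
    rw [reassoc_of% hβ]
    exact Over.w g)
  have hd : (AlgSp.yon S).map d ≫ q.toHom = p.toHom := by
    rw [AlgSp.FieldPt.toHom_ofPt, ← Category.assoc, ← Functor.map_comp, ← hgb]
    congr 2
    exact Over.OverMorphism.ext hβ
  have hux : AlgSp.Points.ofPt b u = x := by
    rw [← hp, ← AlgSp.Points.ofPt_toHom p (IsLocalRing.closedPoint p.K), ← hgb, AlgSpB.ofPt_map_comp]
  obtain ⟨c, hc⟩ := AlgSpD.exists_factor_of_mono X p q hm (hux.trans hp.symm)
  have hdc : d ≫ c = 𝟙 _ := (AlgSp.yon S).map_injective (by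
    rw [Functor.map_comp, CategoryTheory.Functor.map_id, ← cancel_mono p.toHom, Category.assoc, hc, hd, Category.id_comp])
  have : Mono q.toHom := by
    have hsp : Spec.map β ≫ c.left = 𝟙 _ := congrArg CommaMorphism.left hdc
    have hs : Function.Surjective β.hom := fun r => by
      obtain ⟨φ, hφ⟩ : ∃ φ : CommRingCat.of p.K ⟶ Z.left.residueField u, Spec.map φ = c.left :=
        ⟨Spec.preimage c.left, Spec.map_preimage _⟩
      have h1 : φ ≫ β = 𝟙 _ := Spec.map_injective (by rw [Spec.map_comp, hφ, hsp, Spec.map_id])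
      exact ⟨φ r, congrArg (fun k : CommRingCat.of p.K ⟶ CommRingCat.of p.K => k r) h1⟩
    have : IsIso β := (ConcreteCategory.isIso_iff_bijective _).2 ⟨β.hom.injective, hs⟩
    have : IsIso d := by
      have : IsIso ((Over.forget S).map d) := inferInstanceAs (IsIso (Spec.map β))
      exact isIso_of_reflects_iso d (Over.forget S)
    have e : c = inv d := IsIso.eq_inv_of_hom_inv_id hdc
    rw [← hc, e]
    exact mono_comp _ _
  have hfib : (AlgSp.Points.ofPt b ⁻¹' {x}).Finite := by
    have : CompactSpace ↥Z.left := inferInstance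
    exact hp ▸ AlgSpD.finite_preimage_of_qc_point p hq b hb
  let E : Set ↥Z.left := AlgSp.Points.ofPt b ⁻¹' {x} \ {u}
  have hE : E.Finite := hfib.subset Set.sdiff_subset
  have huE : u ∉ ⋃ e ∈ E, closure {e} := fun h => by
    obtain ⟨e, he, hue⟩ := Set.mem_iUnion₂.1 h
    exact he.2 (S10340.result X hX b hb u e (hux.trans (Set.mem_singleton_iff.1 he.1).symm)
      (specializes_iff_mem_closure.2 hue)).symm
  obtain ⟨W, hW, huW, hWE⟩ := exists_isAffineOpen_mem_and_subset (x := u)
    (U := (⟨(⋃ e ∈ E, closure {e})ᶜ, (hE.isClosed_biUnion fun _ _ => isClosed_closure).isOpen_compl⟩ : Z.left.Opens)) huE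
  let ιW : Over.mk (W.ι ≫ Z.hom) ⟶ Z := Over.homMk W.ι rfl
  refine ⟨Over.mk (W.ι ≫ Z.hom), (AlgSp.yon S).map ιW ≫ b, (⟨u, huW⟩ : ↥W.toScheme), hW, ?_, ?_⟩
  · refine AlgSpCov.ElemNbhd.elem_comp ⟨hb, hux, this⟩ ιW _ ?_
    exact ⟨inferInstanceAs (Etale W.ι), rfl,
      ConcreteCategory.bijective_of_isIso (W.ι.residueFieldMap (⟨u, huW⟩ : ↥W.toScheme))⟩
  · ext w
    rw [Set.mem_preimage, Set.mem_singleton_iff, Set.mem_singleton_iff, AlgSpB.ofPt_map_comp]
    refine ⟨fun hw => W.ι.isOpenEmbedding.injective ?_, fun hw => hw ▸ hux⟩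
    by_contra hne
    exact hWE w.2 (Set.mem_iUnion₂.2 ⟨W.ι w, ⟨hw, hne⟩, subset_closure rfl⟩)

end Groth.Agent.S10374
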