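import Groth.Statements.S10376
import Groth.Agent.AlgSp.NormUniv
import Groth.Agent.S10295
import Groth.Agent.AlgSp.QCMor
import Groth.Agent.AlgSp.Diag
import Groth.Agent.AlgSpCov.Instances
import Groth.Agent.AlgSpB.Open
import Groth.Agent.AlgSpD.IntegralMor
-- import your own Groth.Agent.* helpers here

set_option autoImplicit false
universe u
open CategoryTheory CategoryTheory.Limits AlgebraicGeometry Topology TopologicalSpace
open AlgSp

namespace Groth.Agent.S10376

set_option backward.isDefEq.respectTransparency false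

/-- Let S be a scheme, Y and V algebraic spaces over S, j : V ⟶ Y a quasi-compact open immersion, and π
: Z ⟶ V an integral morphism. Then one can find an integral morphism ν : Y' ⟶ Y for which Z is
isomorphic over V to the preimage in Y' of V: there is j' : Z ⟶ Y' making the square (j', π, ν, j)
cartesian. -/
theorem result {S : Scheme.{u}} {V Y Z : AlgSp.Space S} (j : V ⟶ Y)
    (hj : AlgSp.RepWith @IsOpenImmersion j.hom) (hjq : AlgSp.IsQuasiCompactMor j.hom) (π : Z ⟶ V)
    (hπ : AlgSp.IsIntegralMor π.hom) :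
    ∃ (Y' : AlgSp.Space S) (ν : Y' ⟶ Y) (j' : Z ⟶ Y'), AlgSp.IsIntegralMor ν.hom ∧
      IsPullback j'.hom π.hom ν.hom j.hom := by
  have hπi := (Groth.Agent.AlgSpD.isIntegralMor_iff _).1 hπ
  have hfqs : AlgSp.RepWith @QuasiSeparated (π ≫ j).hom :=
    Groth.Agent.AlgSpCov.repWith_comp
      (Groth.Agent.AlgSp.repWith_mono (Q := @QuasiSeparated)
        (fun k (hk : IsIntegralHom k) => (inferInstance : QuasiSeparated k)) hπi)
      (Groth.Agent.AlgSp.repWith_mono (Q := @QuasiSeparated)
        (fun k (hk : IsOpenImmersion k) => (inferInstance : QuasiSeparated k)) hj)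
  have hfq : AlgSp.IsQuasiSeparatedMor (π ≫ j).hom :=
    (Groth.Agent.AlgSp.repWith_diagonal_iff_of_representable @QuasiCompact @QuasiSeparated
      (fun h => (quasiSeparated_iff _).symm) Z.property hfqs.1).2 hfqs
  have hfc : AlgSp.IsQuasiCompactMor (π ≫ j).hom :=
    Groth.Agent.AlgSp.isQuasiCompactMor_comp Z.property V.property Y.property
      (Groth.Agent.AlgSp.isQuasiCompactMor_of_repWith V.property (Groth.Agent.AlgSp.repWith_mono
        (Q := @QuasiCompact) (fun k (hk : IsIntegralHom k) => (inferInstance : QuasiCompact k)) hπi)) hjq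
  obtain ⟨X', ν, f', hn⟩ := Groth.Agent.S10295.result (π ≫ j) hfc hfq
  have : Mono j.hom := Groth.Agent.AlgSpB.mono_of_isOpenImmersion hj
  have hjs : AlgSp.LocP @Smooth j.hom := Groth.Agent.AlgSpCov.locP_of_repWith Groth.Agent.AlgSpCov.etaleLocal_smooth
    (Groth.Agent.AlgSp.repWith_mono (Q := @Smooth)
      (fun k (hk : IsOpenImmersion k) => (inferInstance : Smooth k)) hj)
  have sX := IsPullback.of_hasPullback ν.hom j.hom
  have hX₁ : AlgSp.IsAlgSpace (pullback ν.hom j.hom) :=
    Groth.Agent.AlgSp.isAlgSpace_pullback Y.property X'.property V.property _ _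
  have hw : f'.hom ≫ ν.hom = π.hom ≫ j.hom := hn.1
  have sF : IsPullback (𝟙 Z.obj) π.hom (π ≫ j).hom j.hom :=
    IsPullback.of_isLimit' ⟨Category.id_comp _⟩ (PullbackCone.IsLimit.mk _ (fun s => s.fst)
      (fun s => Category.comp_id _) (fun s => (cancel_mono j.hom).1 (by
        rw [Category.assoc]; exact s.condition))
      (fun s m h₁ _ => (Category.comp_id m).symm.trans h₁))
  have hn₁ := Groth.Agent.AlgSp.relNorm_smooth_baseChange Z.property Y.property X'.property V.property hX₁
    hfc hfq hn hjs sF sX (f₁' := pullback.lift f'.hom π.hom hw) (pullback.lift_snd _ _ _)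
    ((pullback.lift_fst _ _ _).trans (Category.id_comp _).symm)
  have hself : AlgSp.IsRelNormalization π.hom π.hom (𝟙 Z.obj) :=
    ⟨Category.id_comp _, hπ, fun W _ π' g _ hg => ⟨g, ⟨Category.id_comp _, hg⟩,
      fun h hh => (Category.id_comp h).symm.trans hh.1⟩⟩
  obtain ⟨e, he1, he2⟩ := Groth.Agent.AlgSp.relNorm_iso hself Z.property hX₁ hn₁
  rw [Category.id_comp] at he1
  refine ⟨X', ν, f', hn.2.1, IsPullback.of_iso_pullback ⟨hw⟩ e ?_ ?_⟩
  · rw [he1, pullback.lift_fst]
  · rw [he1, pullback.lift_snd]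

end Groth.Agent.S10376
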