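import Groth.Statements.S10377
import Groth.Agent.S10338
import Groth.Agent.S10339
import Groth.Agent.S10350
import Groth.Agent.AlgSp.QCMor
import Groth.Agent.AlgSpD.RefinedVC
import Mathlib.Topology.Spectral.ConstructibleTopology
import Mathlib.Topology.Constructible
-- import your own Groth.Agent.* helpers here

set_option autoImplicit false
universe u
open CategoryTheory CategoryTheory.Limits AlgebraicGeometry Topology TopologicalSpace
open AlgSp

namespace Groth.Agent.S10377

open Topology TopologicalSpace
set_option backward.isDefEq.respectTransparency false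

/-- Constructible sets are clopen in the constructible topology. -/
theorem isClopen_of_isConstructible {X : Type*} [TopologicalSpace X] [CompactSpace X] {E : Set X}
    (h : IsConstructible E) : @IsClopen X (constructibleTopology X) E := by
  induction h using IsConstructible.empty_union_induction with
  | open_retrocompact U hUo hUc =>
    have hc : IsCompact U := by simpa using hUc isCompact_univ isOpen_univ
    exact ⟨(@isOpen_compl_iff X U (constructibleTopology X)).1 ((show IsCompact Uᶜᶜ by rwa [compl_compl]).isOpen_constructibleTopology_of_isClosed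
      hUo.isClosed_compl), hc.isOpen_constructibleTopology_of_isOpen hUo⟩
  | union s hs t ht ihs iht => exact @IsClopen.union X (constructibleTopology X) _ _ ihs iht
  | compl s hs ihs => exact @IsClopen.compl X (constructibleTopology X) _ ihs

/-- A clopen set of a compact space is a finite union of finite intersections of subbasic sets. -/
theorem induction_of_isClopen {X : Type*} [τ : TopologicalSpace X] [CompactSpace X] {B : Set (Set X)}
    (hB : τ = TopologicalSpace.generateFrom B) (P : Set X → Prop)
    (hinter : ∀ F : Set (Set X), F.Finite → F ⊆ B → P (⋂₀ F))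
    (hunion : ∀ (t : Set (Set X)) (f : Set X → Set X), t.Finite → (∀ i ∈ t, P (f i)) → P (⋃ i ∈ t, f i))
    (E : Set X) (h : IsClopen E) : P E := by
  have hb := TopologicalSpace.isTopologicalBasis_of_subbasis hB
  obtain ⟨C, hC, rfl⟩ := hb.open_eq_sUnion h.2
  obtain ⟨t, htC, hti, hsub'⟩ := (h.1.isCompact).elim_finite_subcover_image (b := C) (c := id)
    (fun i hi => hb.isOpen (hC hi)) (by rw [Set.sUnion_eq_biUnion]; rfl)
  have e : ⋃₀ C = ⋃ i ∈ t, id i := (hsub'.antisymm (Set.iUnion₂_subset fun i hi =>
    Set.subset_sUnion_of_mem (htC hi)))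
  rw [e]
  refine hunion t id hti fun i hi => ?_
  obtain ⟨F, ⟨hF, hFs⟩, rfl⟩ := hC (htC hi)
  exact hinter F hF hFs

/-- Sets clopen in the constructible topology of a spectral space are constructible. -/
theorem isConstructible_of_isClopen {X : Type*} [TopologicalSpace X] [CompactSpace X]
    [QuasiSeparatedSpace X] [QuasiSober X] [PrespectralSpace X] {E : Set X}
    (h : @IsClopen X (constructibleTopology X) E) : IsConstructible E := by
  have hcomp : @CompactSpace X (constructibleTopology X) := by
    have h0 : CompactSpace (WithConstructibleTopology X) := inferInstance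
    exact @Function.Surjective.compactSpace _ X _ (constructibleTopology X) _
      (WithTopology.continuous_ofTopology _) h0 (WithTopology.ofTopology_surjective (constructibleTopology X))
  have hsub : ∀ s ∈ constructibleTopologySubbasis X, IsConstructible s := by
    have ho : ∀ s : Set X, IsOpen s → IsCompact s → IsConstructible s := fun s h1 h2 =>
      IsRetrocompact.isConstructible h1
        (fun t ht1 ht2 => QuasiSeparatedSpace.inter_isCompact _ _ h1 h2 ht2 ht1)
    rintro s (⟨h1, h2⟩ | ⟨h1, h2⟩)
    · exact ho s h1 h2
    · exact compl_compl s ▸ (ho _ h1.isOpen_compl h2).compl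
  exact @induction_of_isClopen X (constructibleTopology X) hcomp _ rfl IsConstructible
    (fun F hF hFs => by
      rw [Set.sInter_eq_biInter]
      exact IsConstructible.biInter hF fun j hj => hsub j (hFs hj))
    (fun t f ht hf => IsConstructible.biUnion ht hf) E h

/-- Constructibility descends along surjective spectral maps of spectral spaces. -/
theorem isConstructible_of_preimage {U W : Type*} [TopologicalSpace U] [TopologicalSpace W]
    [CompactSpace U] [QuasiSeparatedSpace U] [QuasiSober U] [PrespectralSpace U]
    [CompactSpace W] [QuasiSeparatedSpace W] [QuasiSober W] [PrespectralSpace W] [T0Space W]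
    {f : U → W} (hc : Continuous f) (hs : Function.Surjective f)
    (hq : ∀ K, IsOpen K → IsCompact K → IsCompact (f ⁻¹' K)) {E : Set W} (hE : IsConstructible (f ⁻¹' E)) :
    IsConstructible E := by
  have hcl := isClopen_of_isConstructible hE
  have hcl' := isClopen_of_isConstructible hE.compl
  refine isConstructible_of_isClopen ?_
  have hU : @CompactSpace U (constructibleTopology U) := by
    have h0 : CompactSpace (WithConstructibleTopology U) := inferInstance
    exact @Function.Surjective.compactSpace _ U _ (constructibleTopology U) _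
      (WithTopology.continuous_ofTopology _) h0 (WithTopology.ofTopology_surjective (constructibleTopology U))
  have hcont : @Continuous U W (constructibleTopology U) (constructibleTopology W) f := by
    rw [continuous_generateFrom_iff]
    rintro s (⟨h1, h2⟩ | ⟨h1, h2⟩)
    · exact (hq s h1 h2).isOpen_constructibleTopology_of_isOpen (h1.preimage hc)
    · exact (show IsCompact (f ⁻¹' s)ᶜ from hq _ h1.isOpen_compl h2).isOpen_constructibleTopology_of_isClosed
        (h1.preimage hc)
  have h2 : @T2Space W (constructibleTopology W) := by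
    refine @T2Space.mk W (constructibleTopology W) fun x y hxy => ?_
    have key : ∀ a b : W, ¬ a ⤳ b → ∃ u v, IsOpen[constructibleTopology W] u ∧
        IsOpen[constructibleTopology W] v ∧ b ∈ u ∧ a ∈ v ∧ Disjoint u v := fun a b hab => by
      obtain ⟨O, hO, hbO, haO⟩ := not_specializes_iff_exists_open.1 hab
      obtain ⟨K, ⟨hKo, hKc⟩, hbK, hKO⟩ :=
        (PrespectralSpace.isTopologicalBasis (X := W)).exists_subset_of_mem_open hbO hO
      exact ⟨K, Kᶜ, hKc.isOpen_constructibleTopology_of_isOpen hKo,
        (show IsCompact Kᶜᶜ by rwa [compl_compl]).isOpen_constructibleTopology_of_isClosed hKo.isClosed_compl,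
        hbK, fun h => haO (hKO h), disjoint_compl_right⟩
    by_cases hs' : x ⤳ y
    · obtain ⟨u, v, h1, h2, h3, h4, h5⟩ := key y x fun h => hxy (hs'.antisymm h).eq
      exact ⟨u, v, h1, h2, h3, h4, h5⟩
    · obtain ⟨u, v, h1, h2, h3, h4, h5⟩ := key x y hs'
      exact ⟨v, u, h2, h1, h4, h3, h5.symm⟩
  let _ := constructibleTopology U
  let _ := constructibleTopology W
  have i1 := (hcl.1.isCompact.image hcont).isClosed
  have i2 := (hcl'.1.isCompact.image hcont).isClosed
  rw [Set.image_preimage_eq E hs] at i1
  rw [← Set.preimage_compl, Set.image_preimage_eq Eᶜ hs] at i2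
  exact ⟨i1, isClosed_compl_iff.1 i2⟩

/-- Let S be a scheme with quasi-separated underlying space, X an algebraic space over S which is
quasi-separated over S, and E ⊆ |X|. Then E is etale locally constructible (its inverse image in
every scheme etale over X is locally constructible) exactly when E, as a subset of the topological
space |X|, is locally constructible. (The published statement assumes X quasi-separated in the
absolute sense; this row assumes S has quasi-separated underlying space and X quasi-separated over
S, which together imply it.) -/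
theorem result {S : Scheme.{u}} [QuasiSeparatedSpace ↥S]
    (X : AlgSp.Space S) (hX : AlgSp.IsQuasiSeparatedSp X.obj) (E : Set (AlgSp.Points X.obj)) :
    (∀ (U : Over S) (a : (AlgSp.yon S).obj U ⟶ X.obj), AlgSp.RepWith @Etale a →
        IsLocallyConstructible (AlgSp.Points.ofPt a ⁻¹' E)) ↔
      IsLocallyConstructible E := by
  have hd : AlgSp.IsDecent X.obj := Groth.Agent.S10350.result X hX
  have : QuasiSober (AlgSp.Points X.obj) := Groth.Agent.S10339.result X hd
  have : T0Space (AlgSp.Points X.obj) := Groth.Agent.S10338.result X hd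
  have hpre : ∀ (U : Over S) [IsAffine U.left] (a : (AlgSp.yon S).obj U ⟶ X.obj)
      (K : Set (AlgSp.Points X.obj)), IsOpen K → IsCompact K → IsCompact (AlgSp.Points.ofPt a ⁻¹' K) := by
    intro U _ a K hK hKc
    have hqm : AlgSp.IsQuasiCompactMor a := Groth.Agent.AlgSp.isQuasiCompactMor_of_quasiCompactSp
      (AlgSp.IsAlgSpace.yon_obj U) X.property a (Groth.Agent.AlgSp.isQuasiCompactSp_yon U) hX
    have := Groth.Agent.AlgSp.isCompact_preimage X.property a hqm K hK hKc
    rw [show AlgSp.Points.ofPt a = AlgSp.Points.map a ∘ AlgSp.Points.schemeHomeo U from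
      funext fun u => AlgSp.Points.ofPt_eq_map_ofScheme a u, Set.preimage_comp]
    exact (AlgSp.Points.schemeHomeo U).isCompact_preimage.2 this
  constructor
  · intro h x
    obtain ⟨R, str, a, v, ha, hv⟩ := Groth.Agent.AlgSpD.exists_affine_chart_at X.property x
    have : IsAffine (Over.mk str).left := inferInstanceAs (IsAffine (Spec R))
    have hac : Continuous (AlgSp.Points.ofPt a) := AlgSp.Points.continuous_ofPt a
    let W : Set (AlgSp.Points X.obj) := Set.range (AlgSp.Points.ofPt a)
    have hWo : IsOpen W := (Groth.Agent.AlgSpB.isOpenMap_ofPt ha).isOpen_range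
    have hWc : IsCompact W := isCompact_range hac
    refine ⟨W, hWo.mem_nhds ⟨v, hv⟩, hWo, ?_⟩
    let g : ↥(Over.mk str).left → W := Set.rangeFactorization (AlgSp.Points.ofPt a)
    have hgc : Continuous g := hac.subtype_mk _
    have hgs : Function.Surjective g := Set.rangeFactorization_surjective
    have : CompactSpace W := isCompact_iff_compactSpace.1 hWc
    have : QuasiSober W := hWo.isOpenEmbedding_subtypeVal.quasiSober
    have hval : ∀ K : Set W, IsOpen K → IsCompact K →
        IsOpen (Subtype.val '' K) ∧ IsCompact (Subtype.val '' K) ∧ g ⁻¹' K = AlgSp.Points.ofPt a ⁻¹' (Subtype.val '' K) :=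
      fun K hK hKc => ⟨hWo.isOpenEmbedding_subtypeVal.isOpenMap _ hK, hKc.image continuous_subtype_val, by
        conv_lhs => rw [← Set.preimage_image_eq K Subtype.val_injective]
        rfl⟩
    have hgq : ∀ K : Set W, IsOpen K → IsCompact K → IsCompact (g ⁻¹' K) := fun K hK hKc => by
      obtain ⟨h1, h2, h3⟩ := hval K hK hKc
      rw [h3]
      exact hpre _ a _ h1 h2
    have : QuasiSeparatedSpace W := ⟨fun K L hK hKc hL hLc => by
      rw [← Set.image_preimage_eq (K ∩ L) hgs]
      exact (QuasiSeparatedSpace.inter_isCompact _ _ (hK.preimage hgc) (hgq K hK hKc) (hL.preimage hgc)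
        (hgq L hL hLc)).image hgc⟩
    have : PrespectralSpace W := ⟨TopologicalSpace.isTopologicalBasis_of_isOpen_of_nhds
      (fun _ h => h.1) fun y O hy hO => by
        obtain ⟨u, rfl⟩ := hgs y
        obtain ⟨V, ⟨hV1, hV2⟩, huV, hVO⟩ := (PrespectralSpace.isTopologicalBasis
          (X := ↥(Over.mk str).left)).exists_subset_of_mem_open (show u ∈ g ⁻¹' O from hy) (hO.preimage hgc)
        refine ⟨g '' V, ⟨?_, hV2.image hgc⟩, ⟨u, huV, rfl⟩, Set.image_subset_iff.2 hVO⟩
        rw [hWo.isOpenEmbedding_subtypeVal.isOpen_iff_image_isOpen, Set.image_image]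
        exact Groth.Agent.AlgSpB.isOpenMap_ofPt ha _ hV1⟩
    exact isConstructible_of_preimage hgc hgs hgq
      (show IsConstructible (AlgSp.Points.ofPt a ⁻¹' E) from (h _ a ha).isConstructible)
  · intro h U a ha u
    obtain ⟨W₀, hW₀, hW₀o, hE₀⟩ := h (AlgSp.Points.ofPt a u)
    obtain ⟨U₀, p, hp, hps⟩ := X.property.atlas
    obtain ⟨W, hWo, hWc, huW, hWW⟩ := Groth.Agent.AlgSpB.exists_isOpen_isCompact_nhd hp hps
      (AlgSp.Points.ofPt a u) W₀ hW₀o (mem_of_mem_nhds hW₀)
    let ι₀ : W → W₀ := Set.inclusion hWW
    have hι : IsOpenEmbedding ι₀ := ⟨IsEmbedding.inclusion hWW, by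
      rw [Set.range_inclusion]; exact hWo.preimage continuous_subtype_val⟩
    have hE : IsConstructible (ι₀ ⁻¹' ((Subtype.val : W₀ → _) ⁻¹' E)) := hE₀.preimage_of_isOpenEmbedding hι
    obtain ⟨O, hO, huO, hOW⟩ := exists_isAffineOpen_mem_and_subset (x := u)
      (U := ⟨AlgSp.Points.ofPt a ⁻¹' W, hWo.preimage (AlgSp.Points.continuous_ofPt a)⟩) huW
    refine ⟨O, O.2.mem_nhds huO, O.2, ?_⟩
    let j : Over.mk (O.ι ≫ U.hom) ⟶ U := Over.homMk O.ι rfl
    have : IsAffine (Over.mk (O.ι ≫ U.hom)).left := hO
    let a' := (AlgSp.yon S).map j ≫ a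
    have ha' : ∀ z, AlgSp.Points.ofPt a' z = AlgSp.Points.ofPt a (O.ι z) := fun z =>
      Groth.Agent.AlgSpB.ofPt_map_comp j a z
    let g : ↥O.toScheme → W := fun z => ⟨AlgSp.Points.ofPt a (O.ι z), hOW z.2⟩
    have hgc : Continuous g :=
      ((AlgSp.Points.continuous_ofPt a).comp O.ι.continuous).subtype_mk _
    have : CompactSpace W := isCompact_iff_compactSpace.1 hWc
    have hO' : CompactSpace ↥O.toScheme := inferInstanceAs (CompactSpace (Over.mk (O.ι ≫ U.hom)).left)
    show IsConstructible (g ⁻¹' ((Subtype.val : W → _) ⁻¹' E))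
    refine hE.preimage hgc fun s hso hsc => ?_
    have hsc' : IsCompact s := by simpa using hsc isCompact_univ isOpen_univ
    have h3 : g ⁻¹' s = AlgSp.Points.ofPt a' ⁻¹' (Subtype.val '' s) := by
      ext z
      show g z ∈ s ↔ AlgSp.Points.ofPt a' z ∈ Subtype.val '' s
      rw [ha']
      exact (Subtype.val_injective.mem_set_image (s := s) (a := g z)).symm
    have hc : IsCompact (g ⁻¹' s) := by
      rw [h3]
      exact hpre _ a' _ (hWo.isOpenEmbedding_subtypeVal.isOpenMap _ hso) (hsc'.image continuous_subtype_val)
    intro K hK1 hK2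
    have hq2 : QuasiSeparatedSpace ↥O.toScheme :=
      inferInstanceAs (QuasiSeparatedSpace (Over.mk (O.ι ≫ U.hom)).left)
    exact @QuasiSeparatedSpace.inter_isCompact _ _ hq2 _ _ (hso.preimage hgc) hc hK2 hK1

end Groth.Agent.S10377
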