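import Groth.Statements.S10389
import Groth.Agent.AlgSpD.DecentPoint
import Mathlib.AlgebraicGeometry.Artinian
-- import your own Groth.Agent.* helpers here

set_option autoImplicit false
universe u
open CategoryTheory CategoryTheory.Limits AlgebraicGeometry Topology TopologicalSpace
open AlgSp

namespace Groth.Agent.S10389

/-- Let W = X ×_Y Z be a fibre product of algebraic spaces over a scheme S with projections p, q, and
let x ∈ |X|, z ∈ |Z| lie over the same point y ∈ |Y|. If y is represented by a monomorphism Spec k ⟶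
Y from the spectrum of a field and g : Z ⟶ Y is quasi-finite at z, then the set of points of |W|
mapping to x and to z is finite. (Special case: Y decent and g etale.) -/
theorem result {S : Scheme.{u}} {X Y Z W : AlgSp.Space S} (f : X ⟶ Y)
    (g : Z ⟶ Y) (p : W ⟶ X) (q : W ⟶ Z) (hW : IsPullback p.hom q.hom f.hom g.hom) (x : AlgSp.Points X.obj)
    (z : AlgSp.Points Z.obj) (hxz : AlgSp.Points.map f.hom x = AlgSp.Points.map g.hom z)
    (hy : ∃ r : AlgSp.FieldPt Y.obj, AlgSp.Points.mk r = AlgSp.Points.map g.hom z ∧ Mono r.toHom)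
    (hg : AlgSp.HasAtMor (fun U _ h u => ∃ W : U.Opens, u ∈ W ∧ LocallyQuasiFinite (W.ι ≫ h) ∧ LocallyOfFiniteType (W.ι ≫ h)) g.hom z) :
    {w : AlgSp.Points W.obj | AlgSp.Points.map p.hom w = x ∧ AlgSp.Points.map q.hom w = z}.Finite := by
  open Groth.Agent in
  obtain ⟨r, hr, hm⟩ := hy
  have := hm
  obtain ⟨qx, rfl⟩ := AlgSp.Points.mk_surjective x
  obtain ⟨cx', hcx'⟩ := AlgSpD.exists_factor_of_mono Y r (qx.map f.hom) hm
    (show AlgSp.Points.mk (qx.map f.hom) = AlgSp.Points.mk r by rw [← AlgSp.Points.map_mk, hxz, ← hr])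
  obtain ⟨cx, hcx⟩ : ∃ cx : qx.pt ⟶ r.pt, (AlgSp.yon S).map cx ≫ r.toHom = qx.toHom ≫ f.hom :=
    ⟨cx', hcx'.trans (AlgSp.FieldPt.toHom_map f.hom qx)⟩
  obtain ⟨U, V, a, b, h, u, ha, hb, hsq, hu, W₀, huW, hlqf, -⟩ := hg
  have hv : AlgSp.Points.ofPt b (h.left u) = AlgSp.Points.mk r := by
    rw [hr, ← hu, AlgSp.Points.map_ofPt, hsq]
    exact (AlgSpB.ofPt_map_comp h b u).symm
  obtain ⟨cv, hcvfin, hcv⟩ := AlgSpD.exists_finite_factor_of_chart Y r hm b hb (h.left u) hv
  let d : (AlgSp.FieldPt.ofPt a u).pt ⟶ (AlgSp.FieldPt.ofPt b (h.left u)).pt :=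
    Over.homMk (Spec.map (h.left.residueFieldMap u)) (by
      show Spec.map (h.left.residueFieldMap u) ≫ V.left.fromSpecResidueField (h.left u) ≫ V.hom =
        U.left.fromSpecResidueField u ≫ U.hom
      rw [← Category.assoc, Scheme.Hom.SpecMap_residueFieldMap_fromSpecResidueField, Category.assoc, Over.w h])
  let ju : (AlgSp.FieldPt.ofPt a u).pt ⟶ U := Over.homMk (U.left.fromSpecResidueField u) rfl
  let jv : (AlgSp.FieldPt.ofPt b (h.left u)).pt ⟶ V := Over.homMk (V.left.fromSpecResidueField (h.left u)) rfl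
  have hd : d ≫ jv = ju ≫ h := Over.OverMorphism.ext (Scheme.Hom.SpecMap_residueFieldMap_fromSpecResidueField _ _)
  have hdlqf : LocallyQuasiFinite d.left := by
    let k : Spec (U.left.residueField u) ⟶ W₀.toScheme :=
      IsOpenImmersion.lift W₀.ι (U.left.fromSpecResidueField u) (by
        refine (Scheme.range_fromSpecResidueField (X := U.left) u).le.trans ?_
        rintro _ ⟨rfl⟩
        exact ⟨⟨u, huW⟩, rfl⟩)
    have hk : k ≫ W₀.ι = U.left.fromSpecResidueField u := IsOpenImmersion.lift_fac _ _ _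
    have : IsPreimmersion k := by
      have : IsPreimmersion (k ≫ W₀.ι) := by rw [hk]; exact inferInstance
      exact IsPreimmersion.of_comp k W₀.ι
    have : LocallyQuasiFinite (d.left ≫ jv.left) := by
      have := hlqf
      have h3 : LocallyQuasiFinite (k ≫ W₀.ι ≫ h.left) := inferInstance
      have e : d.left ≫ jv.left = k ≫ W₀.ι ≫ h.left := by
        rw [← Over.comp_left, hd, Over.comp_left]
        show U.left.fromSpecResidueField u ≫ h.left = _
        rw [← hk]
        exact Category.assoc _ _ _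
      rw [e]
      exact h3
    exact LocallyQuasiFinite.of_comp d.left jv.left
  let cu : (AlgSp.FieldPt.ofPt a u).pt ⟶ r.pt := d ≫ cv
  have : LocallyQuasiFinite cu.left := by
    rw [Over.comp_left]
    have := hcvfin
    infer_instance
  have hfin0 : Finite ↥(AlgSp.FieldPt.ofPt a u).pt.left :=
    inferInstanceAs (Finite (PrimeSpectrum (AlgSp.FieldPt.ofPt a u).K))
  have : QuasiCompact cu.left := AlgSpD.quasiCompact_of_finite _
  have : IsLocallyArtinian r.pt.left := Scheme.isLocallyArtinianScheme_Spec.2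
    (inferInstanceAs (IsArtinianRing r.K))
  have : IsFinite cu.left := IsFinite.of_locallyQuasiFinite _
  have hcu : (AlgSp.yon S).map cu ≫ r.toHom = (AlgSp.FieldPt.ofPt a u).toHom ≫ g.hom := by
    rw [Functor.map_comp, Category.assoc, hcv, AlgSp.FieldPt.toHom_ofPt, AlgSp.FieldPt.toHom_ofPt, Category.assoc, hsq]
    show (AlgSp.yon S).map d ≫ (AlgSp.yon S).map jv ≫ b = (AlgSp.yon S).map ju ≫ _
    rw [← Category.assoc, ← Functor.map_comp, hd, Functor.map_comp, Category.assoc]
  -- the finite scheme covering the fibre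
  have eE := IsPullback.of_hasPullback cx cu
  obtain ⟨e, he1, he2⟩ := hW.exists_lift ((AlgSp.yon S).map (pullback.fst cx cu) ≫ qx.toHom)
    ((AlgSp.yon S).map (pullback.snd cx cu) ≫ (AlgSp.FieldPt.ofPt a u).toHom) (by
      rw [Category.assoc, ← hcx, Category.assoc, ← hcu, ← Category.assoc, ← Category.assoc,
        ← Functor.map_comp, ← Functor.map_comp, pullback.condition])
  have : Finite ↥(pullback cx cu).left := by
    have eL : IsPullback (pullback.fst cx cu).left (pullback.snd cx cu).left cx.left cu.left :=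
      eE.map (Over.forget S)
    have : IsFinite (pullback.fst cx cu).left := MorphismProperty.of_isPullback eL.flip ‹IsFinite cu.left›
    have : Subsingleton ↥qx.pt.left := inferInstanceAs (Subsingleton (PrimeSpectrum qx.K))
    rw [← Set.finite_univ_iff]
    exact ((pullback.fst cx cu).left.finite_preimage_singleton (IsLocalRing.closedPoint qx.K)).subset
      fun z _ => Subsingleton.elim _ _
  refine (Set.finite_range (AlgSp.Points.ofPt e)).subset ?_
  rintro w ⟨hwx, hwz⟩
  have hP1 := IsPullback.of_hasPullback p.hom qx.toHom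
  obtain ⟨w1, hw1, -⟩ := AlgSpB.exists_of_isPullback hP1 w
    (AlgSp.Points.ofScheme qx.pt (IsLocalRing.closedPoint qx.K))
    (by rw [hwx, ← AlgSp.Points.ofPt_eq_map_ofScheme, AlgSp.Points.ofPt_toHom])
  have hP2 := IsPullback.of_hasPullback (pullback.fst p.hom qx.toHom ≫ q.hom) (AlgSp.FieldPt.ofPt a u).toHom
  obtain ⟨w2, hw2, -⟩ := AlgSpB.exists_of_isPullback hP2 w1
    (AlgSp.Points.ofScheme (AlgSp.FieldPt.ofPt a u).pt (IsLocalRing.closedPoint (AlgSp.FieldPt.ofPt a u).K))
    (by rw [AlgSp.Points.map_comp, hw1, hwz, ← AlgSp.Points.ofPt_eq_map_ofScheme, AlgSp.Points.ofPt_toHom]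
        exact hu.symm)
  obtain ⟨ω, rfl⟩ := AlgSp.Points.mk_surjective w2
  obtain ⟨α, hα⟩ := (AlgSp.yon S).map_surjective (ω.toHom ≫ pullback.fst _ _ ≫ pullback.snd p.hom qx.toHom)
  obtain ⟨β, hβ⟩ := (AlgSp.yon S).map_surjective
    (ω.toHom ≫ pullback.snd (pullback.fst p.hom qx.toHom ≫ q.hom) (AlgSp.FieldPt.ofPt a u).toHom)
  let τ : (AlgSp.yon S).obj ω.pt ⟶ W.obj := ω.toHom ≫ pullback.fst _ _ ≫ pullback.fst p.hom qx.toHom
  have h1 : τ ≫ p.hom = (AlgSp.yon S).map α ≫ qx.toHom := by
    simp only [τ, hα, Category.assoc, pullback.condition]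
  have h2 : τ ≫ q.hom = (AlgSp.yon S).map β ≫ (AlgSp.FieldPt.ofPt a u).toHom := by
    simp only [τ, hβ, Category.assoc]
    rw [← pullback.condition]
  have hab : α ≫ cx = β ≫ cu := by
    apply (AlgSp.yon S).map_injective
    rw [← cancel_mono r.toHom, Functor.map_comp, Functor.map_comp, Category.assoc, Category.assoc, hcx, hcu]
    calc (AlgSp.yon S).map α ≫ qx.toHom ≫ f.hom
        = (τ ≫ p.hom) ≫ f.hom := by rw [h1]; exact (Category.assoc _ _ _).symm
      _ = (τ ≫ q.hom) ≫ g.hom := (Category.assoc _ _ _).trans ((congrArg (τ ≫ ·) hW.w).trans (Category.assoc _ _ _).symm)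
      _ = (AlgSp.yon S).map β ≫ (AlgSp.FieldPt.ofPt a u).toHom ≫ g.hom := by rw [h2]; exact Category.assoc _ _ _
  let l : ω.pt ⟶ pullback cx cu := pullback.lift α β hab
  have hl : (AlgSp.yon S).map l ≫ e = τ := by
    apply hW.hom_ext
    · rw [Category.assoc, he1, ← Category.assoc, ← Functor.map_comp, pullback.lift_fst, h1]
    · rw [Category.assoc, he2, ← Category.assoc, ← Functor.map_comp, pullback.lift_snd, h2]
  refine ⟨l.left (IsLocalRing.closedPoint ω.K), ?_⟩
  rw [← AlgSpB.ofPt_map_comp, hl, ← hw1, ← hw2, ← AlgSp.Points.map_comp]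
  show AlgSp.Points.ofPt (ω.toHom ≫ _) _ = _
  rw [← AlgSp.Points.map_ofPt, AlgSp.Points.ofPt_toHom]

end Groth.Agent.S10389
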