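import Groth.Statements.S10391
import Groth.Agent.AlgSpD.FieldBase
import Groth.Agent.S10345
import Groth.Agent.S10346
import Groth.Agent.S10404

set_option autoImplicit false
universe u
open CategoryTheory CategoryTheory.Limits AlgebraicGeometry Topology TopologicalSpace
open AlgSp

namespace Groth.Agent.S10391

set_option backward.isDefEq.respectTransparency false
open Groth.Agent

/-- Let k be a field, X an algebraic space over k which is locally of finite type, and x ∈ |X|. The
conditions (2) x is closed in |X| and has no proper generization, (3) x is an isolated point of |X|,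
(4) dim_x(X) = 0 are equivalent; if X is decent they are also equivalent to (1) dim_x(|X|) = 0. (The
equivalence with quasi-finiteness of X → Spec k at x is not part of this row.) -/
theorem result (k : Type u) [Field k] (X : AlgSp.Space (Spec (CommRingCat.of k)))
    (p : X.obj ⟶ (AlgSp.yon (Spec (CommRingCat.of k))).obj (Over.mk (𝟙 _))) (hp : AlgSp.LocP @LocallyOfFiniteType p) (x : AlgSp.Points X.obj) :
    (IsOpen ({x} : Set (AlgSp.Points X.obj)) ↔
        (IsClosed ({x} : Set (AlgSp.Points X.obj)) ∧ ∀ x' : AlgSp.Points X.obj, x' ⤳ x → x' = x)) ∧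
      (IsOpen ({x} : Set (AlgSp.Points X.obj)) ↔ AlgSp.HasAt (fun U u => FlatMor.localDim ↥U u = 0) X.obj x) ∧
      (AlgSp.IsDecent X.obj →
        (FlatMor.localDim (AlgSp.Points X.obj) x = 0 ↔ IsOpen ({x} : Set (AlgSp.Points X.obj)))) := by
  have hN := AlgSpD.isLocNoethSp_of_field p hp
  obtain ⟨U, a, u, ha, rfl⟩ := AlgSpD.exists_chart X x
  have := AlgSpD.locallyOfFiniteType_chart p hp ha
  have := LocallyOfFiniteType.isLocallyNoetherian U.hom
  have h2 : IsOpen ({AlgSp.Points.ofPt a u} : Set (AlgSp.Points X.obj)) ↔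
      AlgSp.HasAt (fun U u => FlatMor.localDim ↥U u = 0) X.obj (AlgSp.Points.ofPt a u) := by
    rw [AlgSpD.hasAt_iff_chart (AlgSpD.localDim_invariant 0) ha, S9798.result U.left u]
    exact ⟨fun h => (AlgSpD.isOpen_fibre_point_of_isOpen p hp ha h).1, AlgSpD.isOpen_of_isOpen_fibre_point ha⟩
  refine ⟨⟨fun h => ⟨AlgSpD.isClosed_of_isOpen_point p hp ha h, fun x' hx' => ?_⟩, fun ⟨hc, hg⟩ => ?_⟩, h2,
    fun hX => ?_⟩
  · exact Set.mem_singleton_iff.1 (hx'.mem_open h rfl)
  · refine AlgSpD.isOpen_of_isOpen_fibre_point ha (EtStruct.isOpen_singleton_of_forall_specializes u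
      (fun y hy => (S10342.result X hN a ha u y (hg _ (hy.map (AlgSp.Points.continuous_ofPt a))).symm hy).symm) ?_)
    rw [← closure_subset_iff_isClosed]
    intro v hv
    have hvF : v ∈ AlgSp.Points.ofPt a ⁻¹' {AlgSp.Points.ofPt a u} :=
      (hc.preimage (AlgSp.Points.continuous_ofPt a)).closure_subset_iff.2 (Set.singleton_subset_iff.2 rfl) hv
    exact S10342.result X hN a ha v u hvF (specializes_iff_mem_closure.2 hv)
  · rw [← S10346.result X hX a ha u, h2, AlgSpD.hasAt_iff_chart (AlgSpD.localDim_invariant 0) ha]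

end Groth.Agent.S10391
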