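import Groth.Statements.S10392
import Groth.Agent.AlgSpD.FieldBase
import Groth.Agent.S10345
import Groth.Agent.S10346
import Groth.Agent.S10404
import Mathlib.AlgebraicGeometry.Artinian

set_option autoImplicit false
universe u
open CategoryTheory CategoryTheory.Limits AlgebraicGeometry Topology TopologicalSpace
open AlgSp

namespace Groth.Agent.S10392

set_option backward.isDefEq.respectTransparency false
open Groth.Agent

/-- Let k be a field and X a nonempty algebraic space over k which is locally of finite type. Then (2)
|X| is discrete if and only if (4) dim X = 0, and these imply (3) dim |X| = 0; if X is decent then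
(3) implies (2) and (1) |X| finite implies (4). (The published statement asserts (2) ⇔ (3) ⇔ (4) for
every such X and does not exclude the empty space; for the quotient of the affine line over a field
of characteristic zero by the translation action of the integers, |X| is an infinite set with the
indiscrete topology, so (3) holds while (2) and (4) fail, and for the empty space (2) holds while
dim X = ⊥. The equivalence with local quasi-finiteness of X → Spec k is not part of this row.) -/
theorem result (k : Type u) [Field k] (X : AlgSp.Space (Spec (CommRingCat.of k)))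
    (p : X.obj ⟶ (AlgSp.yon (Spec (CommRingCat.of k))).obj (Over.mk (𝟙 _))) (hp : AlgSp.LocP @LocallyOfFiniteType p) [Nonempty (AlgSp.Points X.obj)] :
    (DiscreteTopology (AlgSp.Points X.obj) ↔ AlgSp.dim X.obj = 0) ∧
      (DiscreteTopology (AlgSp.Points X.obj) → topologicalKrullDim (AlgSp.Points X.obj) = 0) ∧
      (AlgSp.IsDecent X.obj → topologicalKrullDim (AlgSp.Points X.obj) = 0 → DiscreteTopology (AlgSp.Points X.obj)) ∧
      (AlgSp.IsDecent X.obj → Finite (AlgSp.Points X.obj) → AlgSp.dim X.obj = 0) := by
  have hdisc : DiscreteTopology (AlgSp.Points X.obj) ↔ AlgSp.dim X.obj = 0 := by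
    constructor
    · intro hd
      refine le_antisymm (iSup_le fun U => iSup_le fun a => iSup_le fun ha => ?_) ?_
      · have : DiscreteTopology ↥U.left := discreteTopology_iff_isOpen_singleton.2 fun u =>
          (AlgSpD.isOpen_fibre_point_of_isOpen p hp ha (isOpen_discrete _)).1
        exact topologicalKrullDim_zero_of_discreteTopology _
      · obtain ⟨x⟩ := ‹Nonempty (AlgSp.Points X.obj)›
        obtain ⟨U, a, u, ha, -⟩ := AlgSpD.exists_chart X x
        have : Nonempty (TopologicalSpace.IrreducibleCloseds ↥U.left) :=
          ⟨⟨closure {u}, isIrreducible_singleton.closure, isClosed_closure⟩⟩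
        exact le_trans Order.krullDim_nonneg (le_iSup_of_le U (le_iSup_of_le a (le_iSup_of_le ha le_rfl)))
    · intro hd
      rw [discreteTopology_iff_isOpen_singleton]
      intro x
      obtain ⟨U, a, u, ha, rfl⟩ := AlgSpD.exists_chart X x
      have := AlgSpD.locallyOfFiniteType_chart p hp ha
      have := LocallyOfFiniteType.isLocallyNoetherian U.hom
      have hU : topologicalKrullDim ↥U.left ≤ 0 :=
        hd ▸ le_iSup_of_le U (le_iSup_of_le a (le_iSup_of_le ha le_rfl))
      have := IsLocallyArtinian.of_topologicalKrullDim_le_zero (X := U.left) hU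
      exact AlgSpD.isOpen_of_isOpen_fibre_point ha (isOpen_discrete _)
  refine ⟨hdisc, fun h => ?_, fun hX h => hdisc.2 ((S10345.result X hX).symm.trans h), fun hX _ => hdisc.1 ?_⟩
  · refine le_antisymm (topologicalKrullDim_zero_of_discreteTopology _) ?_
    obtain ⟨x⟩ := ‹Nonempty (AlgSp.Points X.obj)›
    have : Nonempty (TopologicalSpace.IrreducibleCloseds (AlgSp.Points X.obj)) :=
      ⟨⟨closure {x}, isIrreducible_singleton.closure, isClosed_closure⟩⟩
    exact Order.krullDim_nonneg
  · obtain ⟨U, a, ha, hs⟩ := X.property.atlas
    have := AlgSpD.locallyOfFiniteType_chart p hp ha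
    have : JacobsonSpace ↥U.left := LocallyOfFiniteType.jacobsonSpace U.hom
    have := (S10404.result X hX).1 ⟨U, a, ha, hs, this⟩
    infer_instance

end Groth.Agent.S10392
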