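import Groth.Statements.S10395
import Groth.Agent.AlgSpD.DecentDim
import Groth.Agent.AlgSpD.SoberTop
import Groth.Agent.AlgSpD.DecentCrit
import Groth.Agent.S10344

set_option autoImplicit false
universe u
open CategoryTheory CategoryTheory.Limits AlgebraicGeometry Topology TopologicalSpace
open AlgSp

namespace Groth.Agent.S10395

set_option backward.isDefEq.respectTransparency false
open Groth.Agent

/-- (1) ⇔ (2) ⇔ (3): let S be a scheme, X a decent algebraic space over S, and (Y, y) ⟶ (X, x) an etale
morphism of pointed algebraic spaces. Then the point y is a generic point of some irreducible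
component of |Y| if and only if the point x is a generic point of some irreducible component of |X|. -/
theorem result {S : Scheme.{u}} {X Y : AlgSp.Space S}
    (hX : AlgSp.IsDecent X.obj) (f : Y ⟶ X) (hf : AlgSp.IsEtaleMor f.hom) (y : AlgSp.Points Y.obj) :
    (∃ T ∈ irreducibleComponents (AlgSp.Points Y.obj), IsGenericPoint y T) ↔
      (∃ T ∈ irreducibleComponents (AlgSp.Points X.obj), IsGenericPoint (AlgSp.Points.map f.hom y) T) := by
  have hT0 := S10338.result X hX
  obtain ⟨U, a, u, hU, ha, rfl⟩ := AlgSpD.exists_affine_chart Y y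
  have haf := hf a ha
  constructor
  · intro hy
    rw [AlgSpD.isGenericPoint_component_iff] at hy ⊢
    rw [Order.coheight_eq_zero] at hy ⊢
    intro s hs
    have := S10339.result X hX
    obtain ⟨ξ, hξ⟩ := QuasiSober.sober s.2 s.3
    have hsp : ξ ⤳ AlgSp.Points.map f.hom (AlgSp.Points.ofPt a u) := hξ.specializes (hs (subset_closure rfl))
    rw [AlgSp.Points.map_ofPt] at hsp
    obtain ⟨v, hv, hav⟩ := AlgSpD.exists_lift_of_specializes X hX _ haf u ξ hsp
    have h' : AlgSpD.pointClosure (AlgSp.Points.ofPt a v) ≤ AlgSpD.pointClosure (AlgSp.Points.ofPt a u) :=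
      hy (specializes_iff_closure_subset.1 (hv.map (AlgSp.Points.continuous_ofPt a)))
    have h2 := (specializes_iff_closure_subset.2 h').map (AlgSp.Points.continuous_map f.hom)
    rw [AlgSp.Points.map_ofPt a f.hom v, hav] at h2
    show s.carrier ⊆ closure _
    rw [← hξ.def]
    exact specializes_iff_closure_subset.1 h2
  · intro hy
    rw [AlgSpD.isGenericPoint_component_iff] at hy ⊢
    rw [Order.coheight_eq_zero] at hy ⊢
    intro s hs
    have hfin : ∀ η, (AlgSp.Points.ofPt a ⁻¹' {η}).Finite := fun η => by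
      obtain ⟨p, hp, -, hq⟩ := hX (AlgSp.Points.map f.hom η)
      refine (AlgSpD.finite_preimage_of_qc_point p hq _ haf).subset fun v (hv : _ = η) => ?_
      show AlgSp.Points.ofPt (a ≫ f.hom) v = _
      rw [← AlgSp.Points.map_ofPt, hv, hp]
    obtain ⟨η, hη⟩ := AlgSpD.exists_closure_singleton_eq (AlgSp.Points.ofPt a) (AlgSp.Points.continuous_ofPt a)
      (AlgSpB.isOpenMap_ofPt ha) hfin s.2 s.3 ⟨_, hs (subset_closure rfl), u, rfl⟩
    have hsp : η ⤳ AlgSp.Points.ofPt a u := IsGenericPoint.specializes hη (hs (subset_closure rfl))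
    obtain ⟨v, hv, rfl⟩ := AlgSpD.exists_specializes_of_isOpenMap _ (AlgSpB.isOpenMap_ofPt ha) u η (hfin η) hsp
    have h1 : AlgSp.Points.map f.hom (AlgSp.Points.ofPt a v) ⤳ AlgSp.Points.map f.hom (AlgSp.Points.ofPt a u) :=
      hsp.map (AlgSp.Points.continuous_map f.hom)
    have h2 := h1.antisymm (specializes_iff_closure_subset.2 (hy (b := AlgSpD.pointClosure _) (specializes_iff_closure_subset.1 h1)))
    have h3 := h2.eq
    rw [AlgSp.Points.map_ofPt, AlgSp.Points.map_ofPt] at h3
    have : u = v := S10340.result X hX _ haf u v h3.symm hv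
    subst this
    show s.carrier ⊆ closure _
    rw [hη]

end Groth.Agent.S10395
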