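import Groth.Statements.S10396
import Groth.Agent.AlgSpD.DecentDim
import Groth.Agent.S10344

set_option autoImplicit false
universe u
open CategoryTheory CategoryTheory.Limits AlgebraicGeometry Topology TopologicalSpace
open AlgSp

namespace Groth.Agent.S10396

set_option backward.isDefEq.respectTransparency false
open Groth.Agent

/-- Let S be a scheme, X a decent algebraic space over S, and T ⊆ |X| an irreducible closed subset with
generic point ξ. Then codim(T, |X|) equals the dimension of the local ring at ξ of X, read on any
etale chart (U, u) ⟶ (X, ξ) as the Krull dimension of O_{U,u}. -/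
theorem result {S : Scheme.{u}} (X : AlgSp.Space S)
    (hX : AlgSp.IsDecent X.obj) (T : TopologicalSpace.IrreducibleCloseds (AlgSp.Points X.obj)) (ξ : AlgSp.Points X.obj)
    (hξ : IsGenericPoint ξ (T : Set (AlgSp.Points X.obj))) {U : Over S} (a : (AlgSp.yon S).obj U ⟶ X.obj)
    (ha : AlgSp.RepWith @Etale a) (u : ↥U.left) (hu : AlgSp.Points.ofPt a u = ξ) :
    (Order.coheight T : WithBot ℕ∞) = ringKrullDim ↥(U.left.presheaf.stalk u) := by
  subst hu
  rw [show T = AlgSpD.pointClosure (AlgSp.Points.ofPt a u) from
      TopologicalSpace.IrreducibleCloseds.ext hξ.def.symm,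
    AlgSpD.coheight_pointClosure_ofPt X hX a ha, ringKrullDim_stalk_eq_coheight]

end Groth.Agent.S10396
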