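import Groth.Statements.S10402
import Groth.Agent.AlgSpD.DecentJacobson
import Groth.Agent.AlgSpCov.LocPBasic
import Groth.Agent.AlgSpCov.Instances
-- import your own Groth.Agent.* helpers here

set_option autoImplicit false
universe u
open CategoryTheory CategoryTheory.Limits AlgebraicGeometry Topology TopologicalSpace
open AlgSp

namespace Groth.Agent.S10402

/-- Let S be a scheme and X a Jacobson algebraic space over S. Fix a finite type point x of |X|, and let
g : W ⟶ X be locally of finite type, where W is a scheme. If x lies in the image of |W| → |X|, then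
some closed point of W is mapped to x. -/
theorem result {S : Scheme.{u}} (X : AlgSp.Space S) (hX : AlgSp.EtaleLocally (fun U => JacobsonSpace ↥U) X.obj)
    (x : AlgSp.Points X.obj) (hx : AlgSp.HasAt (fun U u => IsClosed ({u} : Set ↥U)) X.obj x) {W : Over S} (g : (AlgSp.yon S).obj W ⟶ X.obj)
    (hg : AlgSp.LocP @LocallyOfFiniteType g) (hxW : x ∈ Set.range (AlgSp.Points.ofPt g)) :
    ∃ w : ↥W.left, IsClosed ({w} : Set ↥W.left) ∧ AlgSp.Points.ofPt g w = x := by
  open Groth.Agent in
  obtain ⟨U₀, p₀, hp₀, hs₀, hJ⟩ := hX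
  obtain ⟨V, b, v, hb, hv, hcl⟩ := hx
  have key : ∀ u : ↥U₀.left, AlgSp.Points.ofPt p₀ u = x → IsClosed ({u} : Set ↥U₀.left) := by
    intro u hu
    obtain ⟨R, p, q, r, -, hp, hq, hr, hr'⟩ := AlgSpD.exists_common_chart hb hp₀ (hv.trans hu.symm)
    rw [← hr] at hcl
    have h1 := AlgSpD.isClosed_singleton_of_etale p.left hcl
    have h2 := q.left.closePoints_subset_preimage_closedPoints h1
    rwa [Set.mem_preimage, hr', mem_closedPoints_iff] at h2
  obtain ⟨P, fst, snd, sq⟩ := AlgSpB.exists_pullback_yon (X.property.representable_from_yon g) p₀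
  have hl : AlgSp.RepWith @LocallyOfFiniteType g :=
    AlgSpCov.repWith_of_locP AlgSpCov.etaleLocal_locallyOfFiniteType (AlgSp.IsAlgSpace.yon_obj W)
      X.property (X.property.representable_from_yon g) hg
  have : LocallyOfFiniteType snd.left := hl.2 _ _ _ sq
  have : Etale fst.left := hp₀.2 _ _ _ sq.flip
  have : Surjective fst.left := hs₀.2 _ _ _ sq.flip
  have : JacobsonSpace ↥P.left := LocallyOfFiniteType.jacobsonSpace snd.left
  have hov : ∀ z, AlgSp.Points.ofPt g (fst.left z) = AlgSp.Points.ofPt p₀ (snd.left z) := fun z =>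
    (AlgSpB.ofPt_eq_ofPt_iff sq _ _).2 ⟨z, rfl, rfl⟩
  obtain ⟨w₀, hw₀⟩ := hxW
  obtain ⟨z₀, hz₀⟩ := fst.left.surjective w₀
  have hne : (snd.left ⁻¹' {snd.left z₀}).Nonempty := ⟨z₀, rfl⟩
  have hx₀ : AlgSp.Points.ofPt p₀ (snd.left z₀) = x := by rw [← hov, hz₀, hw₀]
  obtain ⟨z, hz, hzc⟩ := (jacobsonSpace_iff_locallyClosed.1 ‹JacobsonSpace ↥P.left›) _ hne
    ((key _ hx₀).preimage snd.left.continuous).isLocallyClosed
  have hxz : AlgSp.Points.ofPt g (fst.left z) = x := by
    rw [hov, show snd.left z = snd.left z₀ from hz, hx₀]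
  have hall : ∀ z', fst.left z' = fst.left z → IsClosed ({z'} : Set ↥P.left) := by
    intro z' e
    obtain ⟨r, hr1, hr2⟩ := Scheme.Pullback.exists_preimage_pullback z z' (f := fst.left) (g := fst.left) e.symm
    have : Etale (pullback.fst fst.left fst.left) := inferInstance
    have h1 := AlgSpD.isClosed_singleton_of_etale (pullback.fst fst.left fst.left) (r := r) (by rw [hr1]; exact hzc)
    have h2 := (pullback.snd fst.left fst.left).closePoints_subset_preimage_closedPoints h1
    rwa [Set.mem_preimage, hr2, mem_closedPoints_iff] at h2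
  refine ⟨fst.left z, closure_subset_iff_isClosed.1 fun w hw => ?_, hxz⟩
  obtain ⟨z', rfl⟩ := fst.left.surjective w
  obtain ⟨z'', hz'', hz''w⟩ := Flat.generalizingMap fst.left (specializes_iff_mem_closure.2 hw)
  have : z' = z'' := hz''.mem_closed (hall z'' hz''w) rfl
  rw [this]
  exact hz''w

end Groth.Agent.S10402
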