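import Groth.Statements.S10403
import Groth.Agent.AlgSpD.DecentJacobson

set_option autoImplicit false
universe u
open CategoryTheory CategoryTheory.Limits AlgebraicGeometry Topology TopologicalSpace
open AlgSp

namespace Groth.Agent.S10403

open Groth.Agent

/-- For a decent Jacobson algebraic space X over a scheme S, the finite type points of |X| are exactly
the closed points. -/
theorem result {S : Scheme.{u}} (X : AlgSp.Space S) (hd : AlgSp.IsDecent X.obj)
    (hX : AlgSp.EtaleLocally (fun U => JacobsonSpace ↥U) X.obj) (x : AlgSp.Points X.obj) :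
    AlgSp.HasAt (fun U u => IsClosed ({u} : Set ↥U)) X.obj x ↔ IsClosed ({x} : Set (AlgSp.Points X.obj)) := by
  obtain ⟨U, a, ha, hs, hJ⟩ := hX
  refine ⟨fun h => AlgSpD.isClosed_of_hasAt X hd U a ha hs h, fun h => ?_⟩
  obtain ⟨u, rfl⟩ := AlgSpB.surjective_ofPt hs x
  exact ⟨U, a, u, ha, rfl, AlgSpD.isClosed_singleton_of_isClosed X hd a ha u h⟩

end Groth.Agent.S10403
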