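import Groth.Statements.S3433
import Groth.Agent.Goldman.Topology

set_option autoImplicit false
universe u
open EGA43

namespace Groth.Agent.S3433

/-- Let A be a Noetherian local ring with maximal ideal m and let Y be the punctured spectrum Spec A ∖
{m}. Then Y is a Jacobson space, and a point p of Y is closed in Y if and only if dim A/p = 1. -/
theorem result (A : Type u) [CommRing A] [IsNoetherianRing A] [IsLocalRing A] :
    JacobsonSpace ↥({IsLocalRing.closedPoint A}ᶜ : Set (PrimeSpectrum A)) ∧
      ∀ p : ↥({IsLocalRing.closedPoint A}ᶜ : Set (PrimeSpectrum A)),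
        IsClosed ({p} : Set ↥({IsLocalRing.closedPoint A}ᶜ : Set (PrimeSpectrum A))) ↔
          ringKrullDim (A ⧸ p.1.asIdeal) = 1 := by
  have hc : IsClosed ({IsLocalRing.closedPoint A} : Set (PrimeSpectrum A)) := by
    rw [PrimeSpectrum.isClosed_singleton_iff_isMaximal]
    exact IsLocalRing.maximalIdeal.isMaximal A
  have hspec : ∀ t : PrimeSpectrum A, t ⤳ IsLocalRing.closedPoint A := fun t =>
    (PrimeSpectrum.le_iff_specializes t _).mp (IsLocalRing.le_maximalIdeal t.2.ne_top)
  refine ⟨Groth.Agent.Goldman.jacobsonSpace_compl _ hc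
    (fun Z hZ hne => Groth.Agent.Goldman.exists_isLocallyClosed_singleton (TopologicalSpace.NoetherianSpace.isCompact Z) hne hZ)
    (fun z hz t w h1 h2 => (Groth.Agent.Goldman.eq_or_eq_of_isLocallyClosed_singleton hz h1 h2).imp id Or.inl)
    ?_, fun p => ?_⟩
  · rintro Z hZ ⟨t, ht⟩
    exact ⟨_, (hspec t).mem_closed hZ ht, rfl⟩
  have hp : p.1.asIdeal ≠ IsLocalRing.maximalIdeal A := fun h => p.2 (PrimeSpectrum.ext h)
  constructor
  · intro hcl
    have hdimle : Ring.KrullDimLE 1 (A ⧸ p.1.asIdeal) := by
      refine Ring.KrullDimLE.mk₁' fun P hPb hP => ?_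
      let q : PrimeSpectrum A := ⟨P.comap (Ideal.Quotient.mk p.1.asIdeal), inferInstance⟩
      by_cases hq : q = IsLocalRing.closedPoint A
      · rw [← Ideal.map_comap_of_surjective _ Ideal.Quotient.mk_surjective P,
          show P.comap (Ideal.Quotient.mk p.1.asIdeal) = IsLocalRing.maximalIdeal A from
            congrArg PrimeSpectrum.asIdeal hq]
        refine (Ideal.map_eq_top_or_isMaximal_of_surjective _ Ideal.Quotient.mk_surjective
          (IsLocalRing.maximalIdeal.isMaximal A)).resolve_left fun e => hP.ne_top ?_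
        rw [← Ideal.map_comap_of_surjective _ Ideal.Quotient.mk_surjective P,
          show P.comap (Ideal.Quotient.mk p.1.asIdeal) = IsLocalRing.maximalIdeal A from
            congrArg PrimeSpectrum.asIdeal hq, e]
      · exfalso
        have hpq : p.1 ⤳ q := (PrimeSpectrum.le_iff_specializes p.1 q).mp fun a ha => by
          show Ideal.Quotient.mk p.1.asIdeal a ∈ P
          rw [Ideal.Quotient.eq_zero_iff_mem.mpr ha]; exact zero_mem _
        have hpq' : p ⤳ ⟨q, hq⟩ := Topology.IsInducing.subtypeVal.specializes_iff.mp hpq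
        have := hpq'.mem_closed hcl rfl
        apply hPb
        rw [← Ideal.map_comap_of_surjective _ Ideal.Quotient.mk_surjective P,
          show P.comap (Ideal.Quotient.mk p.1.asIdeal) = p.1.asIdeal from
            congrArg (fun x : ↥({IsLocalRing.closedPoint A}ᶜ : Set (PrimeSpectrum A)) => x.1.asIdeal) this,
          Ideal.map_quotient_self]
    refine le_antisymm (by exact_mod_cast Ring.krullDimLE_iff.mp hdimle) ?_
    have hne : (IsLocalRing.maximalIdeal A).map (Ideal.Quotient.mk p.1.asIdeal) ≠ ⊤ := fun e => by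
      have := congrArg (Ideal.comap (Ideal.Quotient.mk p.1.asIdeal)) e
      rw [Ideal.comap_map_of_surjective _ Ideal.Quotient.mk_surjective, ← RingHom.ker_eq_comap_bot,
        Ideal.mk_ker, sup_eq_left.mpr (IsLocalRing.le_maximalIdeal p.1.2.ne_top), Ideal.comap_top] at this
      exact (IsLocalRing.maximalIdeal.isMaximal A).ne_top this
    refine le_trans ?_ (Ideal.height_le_ringKrullDim_of_ne_top hne)
    haveI : ((IsLocalRing.maximalIdeal A).map (Ideal.Quotient.mk p.1.asIdeal)).IsPrime :=
      Ideal.map_isPrime_of_surjective Ideal.Quotient.mk_surjective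
        (by rw [Ideal.mk_ker]; exact IsLocalRing.le_maximalIdeal p.1.2.ne_top)
    exact_mod_cast ENat.one_le_iff_ne_zero.mpr fun e => hp (le_antisymm
      (IsLocalRing.le_maximalIdeal p.1.2.ne_top) (by
        have := Ideal.height_eq_zero_iff_eq_bot.mp e
        rwa [Ideal.map_eq_bot_iff_le_ker, Ideal.mk_ker] at this))
  · intro hdim
    haveI : Ring.KrullDimLE 1 (A ⧸ p.1.asIdeal) := Ring.krullDimLE_iff.mpr (by exact_mod_cast hdim.le)
    rw [← closure_subset_iff_isClosed]
    intro q hq
    have hpq : p.1.asIdeal ≤ q.1.asIdeal := (PrimeSpectrum.le_iff_specializes p.1 q.1).mpr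
      ((specializes_iff_mem_closure.mpr hq).map continuous_subtype_val)
    by_contra hne
    haveI : (q.1.asIdeal.map (Ideal.Quotient.mk p.1.asIdeal)).IsPrime :=
      Ideal.map_isPrime_of_surjective Ideal.Quotient.mk_surjective (by rwa [Ideal.mk_ker])
    have hb : q.1.asIdeal.map (Ideal.Quotient.mk p.1.asIdeal) ≠ ⊥ := fun e => hne (Subtype.ext (PrimeSpectrum.ext (le_antisymm
      (by rwa [Ideal.map_eq_bot_iff_le_ker, Ideal.mk_ker] at e) hpq)))
    have hmax := Ideal.IsPrime.isMaximal_of_ne_bot this hb
    have := Ideal.comap_isMaximal_of_surjective (K := q.1.asIdeal.map (Ideal.Quotient.mk p.1.asIdeal)) _ Ideal.Quotient.mk_surjective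
    rw [Ideal.comap_map_of_surjective _ Ideal.Quotient.mk_surjective, ← RingHom.ker_eq_comap_bot,
      Ideal.mk_ker, sup_eq_left.mpr hpq] at this
    exact q.2 (PrimeSpectrum.ext (IsLocalRing.eq_maximalIdeal this))

end Groth.Agent.S3433
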