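import Groth.Statements.S10405
import Groth.Agent.AlgSpD.PuncturedTop
import Groth.Agent.AlgSpD.DecentDim
import Groth.Agent.AlgSpD.DecentCrit
import Groth.Agent.S3433
-- import your own Groth.Agent.* helpers here

set_option autoImplicit false
universe u
open CategoryTheory CategoryTheory.Limits AlgebraicGeometry Topology TopologicalSpace
open AlgSp

namespace Groth.Agent.S10405

/-- Let S be a scheme, X an algebraic space over S which is decent and locally Noetherian, and x ∈ |X|.
Then the set W of proper generizations of x (points x' ≠ x with x' ⤳ x), with the topology induced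
from |X|, is a topological space which is Noetherian, spectral, sober and Jacobson. -/
theorem result {S : Scheme.{u}} (X : AlgSp.Space S)
    (hd : AlgSp.IsDecent X.obj) (hN : AlgSp.IsLocNoethSp X.obj) (x : AlgSp.Points X.obj) :
    NoetherianSpace {x' : AlgSp.Points X.obj // x' ⤳ x ∧ x' ≠ x} ∧
      SpectralSpace {x' : AlgSp.Points X.obj // x' ⤳ x ∧ x' ≠ x} ∧
      QuasiSober {x' : AlgSp.Points X.obj // x' ⤳ x ∧ x' ≠ x} ∧
      JacobsonSpace {x' : AlgSp.Points X.obj // x' ⤳ x ∧ x' ≠ x} := by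
  open Groth.Agent in
  obtain ⟨U₀, p₀, hp, hps, hNU⟩ := hN
  obtain ⟨u₀, hu₀⟩ := AlgSpB.surjective_ofPt hps x
  obtain ⟨A, hA, huA, -⟩ := exists_isAffineOpen_mem_and_subset (x := u₀) (U := ⊤) trivial
  let U : Over S := Over.mk (A.ι ≫ U₀.hom)
  let a : (AlgSp.yon S).obj U ⟶ X.obj := (AlgSp.yon S).map (Over.homMk A.ι rfl : U ⟶ U₀) ≫ p₀
  have ha : AlgSp.RepWith @Etale a := AlgSpD.repWith_etale_restrict p₀ hp A
  let u : ↥U.left := (⟨u₀, huA⟩ : ↥A.toScheme)
  have hu : AlgSp.Points.ofPt a u = x := by rw [← hu₀]; exact AlgSpD.ofPt_restrict p₀ A _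
  have : CompactSpace ↥U.left := isCompact_iff_compactSpace.1 hA.isCompact
  have : IsLocallyNoetherian U.left := inferInstanceAs (IsLocallyNoetherian A.toScheme)
  have : T0Space (AlgSp.Points X.obj) := S10338.result X hd
  have : QuasiSober (AlgSp.Points X.obj) := S10339.result X hd
  let O := U.left.presheaf.stalk u
  let W := {x' : AlgSp.Points X.obj // x' ⤳ x ∧ x' ≠ x}
  let P := ↥({IsLocalRing.closedPoint O}ᶜ : Set (PrimeSpectrum O))
  let φ : PrimeSpectrum O → ↥U.left := fun z => U.left.fromSpecStalk u z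
  have hφc : Continuous φ := (U.left.fromSpecStalk u).continuous
  have hφe : IsEmbedding φ := (U.left.fromSpecStalk u).isEmbedding
  have hφs : ∀ z, φ z ⤳ u := fun z => (Scheme.range_fromSpecStalk (X := U.left) (x := u)).le ⟨z, rfl⟩
  have hφu : φ (IsLocalRing.closedPoint O) = u := Scheme.fromSpecStalk_closedPoint
  have hπ : ∀ z : P, AlgSp.Points.ofPt a (φ z.1) ⤳ x ∧ AlgSp.Points.ofPt a (φ z.1) ≠ x := fun z => by
    refine ⟨hu ▸ (hφs z.1).map (AlgSp.Points.continuous_ofPt a), fun e => z.2 ?_⟩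
    exact hφe.injective ((S10340.result X hd a ha u (φ z.1) (hu.trans e.symm) (hφs z.1)).symm.trans hφu.symm)
  let π : P → W := fun z => ⟨_, hπ z⟩
  have hπc : Continuous π :=
    ((AlgSp.Points.continuous_ofPt a).comp (hφc.comp continuous_subtype_val)).subtype_mk _
  have hgen : ∀ v : ↥U.left, v ⤳ u → AlgSp.Points.ofPt a v ≠ x →
      ∃ z : P, φ z.1 = v := by
    intro v hv hne
    obtain ⟨z, hz⟩ := (Scheme.range_fromSpecStalk (X := U.left) (x := u)).ge hv
    refine ⟨⟨z, fun e => hne ?_⟩, hz⟩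
    rw [← hz, show z = IsLocalRing.closedPoint O from e]
    exact (congrArg (AlgSp.Points.ofPt a) hφu).trans hu
  have hπs : Function.Surjective π := by
    rintro ⟨x', hx', hne⟩
    obtain ⟨v, hv, hv'⟩ := AlgSpD.exists_lift_of_specializes X hd a ha u x' (hu.symm ▸ hx')
    obtain ⟨z, hz⟩ := hgen v hv (hv'.symm ▸ hne)
    exact ⟨z, Subtype.ext (show AlgSp.Points.ofPt a (φ z.1) = x' by rw [hz, hv'])⟩
  have hl : ∀ (q : P) (w : W), w ⤳ π q → ∃ p, p ⤳ q ∧ π p = w := by
    rintro q ⟨x', hx', hne⟩ h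
    obtain ⟨v, hv, hv'⟩ := AlgSpD.exists_lift_of_specializes X hd a ha (φ q.1) x'
      (h.map continuous_subtype_val)
    obtain ⟨z, hz⟩ := hgen v (hv.trans (hφs q.1)) (hv'.symm ▸ hne)
    refine ⟨z, ?_, Subtype.ext (show AlgSp.Points.ofPt a (φ z.1) = x' by rw [hz, hv'])⟩
    exact Topology.IsInducing.subtypeVal.specializes_iff.1 (hφe.isInducing.specializes_iff.1 (hz ▸ hv))
  have hf : ∀ w, (π ⁻¹' {w}).Finite := by
    intro w
    obtain ⟨p, hpw, -, hq⟩ := hd w.1
    refine ((AlgSpD.finite_preimage_of_qc_point p hq a ha).preimage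
      ((hφe.injective.comp Subtype.val_injective).injOn)).subset fun z hz => ?_
    exact (congrArg Subtype.val hz).trans hpw.symm
  have hJ : JacobsonSpace P := (S3433.result O).1
  have hn : NoetherianSpace W := noetherianSpace_of_surjective π hπc hπs
  have hq : QuasiSober W := ⟨fun {Z} hZi hZc => by
    have h' : IsIrreducible (Subtype.val '' Z : Set (AlgSp.Points X.obj)) :=
      hZi.image _ continuous_subtype_val.continuousOn
    obtain ⟨η, hη⟩ := QuasiSober.sober h'.closure isClosed_closure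
    obtain ⟨w, hw⟩ := hZi.1
    have hηw : η ⤳ w.1 := hη.specializes (subset_closure ⟨w, hw, rfl⟩)
    have hηW : η ⤳ x ∧ η ≠ x := ⟨hηw.trans w.2.1, fun e => w.2.2 (w.2.1.antisymm (e ▸ hηw)).eq⟩
    refine ⟨⟨η, hηW⟩, ?_⟩
    show closure _ = Z
    have hind : IsInducing (Subtype.val : W → AlgSp.Points X.obj) := ⟨rfl⟩
    rw [hind.closure_eq_preimage_closure_image, Set.image_singleton, hη.def]
    exact (hind.closure_eq_preimage_closure_image Z).symm.trans hZc.closure_eq⟩
  exact ⟨hn, { }, hq, AlgSpD.jacobsonSpace_of_surjective π hπc hπs hf hl⟩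

end Groth.Agent.S10405
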