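import Groth.Statements.S10406
import Groth.Agent.AlgSp.PointsMor
import Mathlib.AlgebraicGeometry.Morphisms.Finite

set_option autoImplicit false
universe u
open CategoryTheory CategoryTheory.Limits AlgebraicGeometry Topology TopologicalSpace
open AlgSp

namespace Groth.Agent.S10406

open Groth.Agent in
/-- A finite morphism is closed on points. -/
theorem isClosedMap_of_finite {S : Scheme.{u}} {F G : AlgSp.Sp S} (f : F ⟶ G) (hf : AlgSp.IsFiniteMor f) :
    IsClosedMap (AlgSp.Points.map f) := by
  intro C hC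
  refine AlgSp.isClosed_iff_affine.2 fun T hT g => ?_
  obtain ⟨W, i, fst, sq, -, hi⟩ := hf hT g
  rw [AlgSp.ofPt_preimage_eq, AlgSp.preimage_image_map sq]
  exact ((AlgSp.isClosedMap_map_iff_of_schemes i).2 i.left.isClosedMap _
    (hC.preimage (AlgSp.Points.continuous_map fst))).preimage (AlgSp.Points.schemeHomeo T).continuous

/-- Let S be a scheme, Y and X decent, locally Noetherian algebraic spaces over S, and f : Y ⟶ X a
surjective finite morphism, and let δ : |X| → ℤ be a function. Suppose δ ∘ |f| is a dimension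
function on |Y| (it decreases strictly along nontrivial specializations and by exactly one along
immediate specializations). Then δ is a dimension function on |X|. -/
theorem result {S : Scheme.{u}} {X Y : AlgSp.Space S} (f : Y ⟶ X)
    (hf : AlgSp.IsFiniteMor f.hom) (hs : AlgSp.IsSurjectiveMor f.hom) (hX : AlgSp.IsDecent X.obj)
    (hY : AlgSp.IsDecent Y.obj) (hXN : AlgSp.IsLocNoethSp X.obj) (hYN : AlgSp.IsLocNoethSp Y.obj)
    (δ : AlgSp.Points X.obj → ℤ)
    (hδ : (∀ a b : AlgSp.Points Y.obj, a ⤳ b → a ≠ b → (δ ∘ AlgSp.Points.map f.hom) b < (δ ∘ AlgSp.Points.map f.hom) a ∧ ((∀ c : AlgSp.Points Y.obj, a ⤳ c → c ⤳ b → c = a ∨ c = b) → (δ ∘ AlgSp.Points.map f.hom) a = (δ ∘ AlgSp.Points.map f.hom) b + 1))) :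
    (∀ a b : AlgSp.Points X.obj, a ⤳ b → a ≠ b → δ b < δ a ∧ ((∀ c : AlgSp.Points X.obj, a ⤳ c → c ⤳ b → c = a ∨ c = b) → δ a = δ b + 1)) := by
  intro a b hab hne
  obtain ⟨a', rfl⟩ := hs a
  obtain ⟨b', hab', rfl⟩ := (isClosedMap_of_finite f.hom hf).specializingMap hab
  have hne' : a' ≠ b' := fun e => hne (congrArg _ e)
  refine ⟨(hδ a' b' hab' hne').1, fun himm => (hδ a' b' hab' hne').2 fun c hac hcb => ?_⟩
  rcases himm (AlgSp.Points.map f.hom c) (hac.map (AlgSp.Points.continuous_map f.hom))
    (hcb.map (AlgSp.Points.continuous_map f.hom)) with e | e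
  · left
    by_contra hca
    have h1 := (hδ a' c hac (Ne.symm hca)).1
    simp only [Function.comp_apply, e, lt_self_iff_false] at h1
  · right
    by_contra hcb'
    have h1 := (hδ c b' hcb hcb').1
    simp only [Function.comp_apply, e, lt_self_iff_false] at h1

end Groth.Agent.S10406
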