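import Groth.Statements.S10407
import Groth.Agent.AlgSpD.Relation

set_option autoImplicit false
universe u
open CategoryTheory CategoryTheory.Limits AlgebraicGeometry Topology TopologicalSpace
open AlgSp

namespace Groth.Agent.S10407

/-- (1) ⇒ (4): let X be an algebraic space over a scheme S, φ : U ⟶ X etale with U a scheme, and u, u' ∈
U points over the same x ∈ |X| such that, with R = U ×_X U, the map |R| → |U| ×_{|X|} |U| has finite
fibre over (u, u'). Then x is represented by a monomorphism Spec k ⟶ X with k a field. -/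
theorem result {S : Scheme.{u}} (X : AlgSp.Space S) {U : Over S}
    (φ : (AlgSp.yon S).obj U ⟶ X.obj) (hφ : AlgSp.RepWith @Etale φ) (u u' : ↥U.left)
    (he : AlgSp.Points.ofPt φ u = AlgSp.Points.ofPt φ u')
    (hfin : ∀ (R : Over S) (s t : R ⟶ U), IsPullback ((AlgSp.yon S).map t) ((AlgSp.yon S).map s) φ φ →
          {r : ↥R.left | s.left r = u ∧ t.left r = u'}.Finite) :
    ∃ p : AlgSp.FieldPt X.obj, AlgSp.Points.mk p = AlgSp.Points.ofPt φ u ∧ Mono p.toHom := by
  obtain ⟨R, t, s, hR⟩ := AlgSpB.exists_pullback_yon (X.property.representable_from_yon φ) φ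
  obtain ⟨r, hrt, hrs⟩ := (AlgSpB.ofPt_eq_ofPt_iff hR u' u).1 he.symm
  let q := AlgSp.FieldPt.ofPt ((AlgSp.yon S).map t ≫ φ) r
  let i : q.pt ⟶ U := Over.homMk (R.left.fromSpecResidueField r) rfl ≫ s
  let j : q.pt ⟶ U := Over.homMk (R.left.fromSpecResidueField r) rfl ≫ t
  have : IsPreimmersion (R.left.fromSpecResidueField r) := inferInstance
  have hs : Etale s.left := hφ.2 _ _ _ hR
  have ht : Etale t.left := hφ.2 _ _ _ hR.flip
  have := AlgSpD.locallyQuasiFinite_of_etale s.left
  have := AlgSpD.locallyQuasiFinite_of_etale t.left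
  have : LocallyQuasiFinite i.left :=
    inferInstanceAs (LocallyQuasiFinite (R.left.fromSpecResidueField r ≫ s.left))
  have : LocallyQuasiFinite j.left :=
    inferInstanceAs (LocallyQuasiFinite (R.left.fromSpecResidueField r ≫ t.left))
  have hj : (AlgSp.yon S).map j ≫ φ = q.toHom := by
    rw [Functor.map_comp, Category.assoc]
    exact (AlgSp.FieldPt.toHom_ofPt _ r).symm
  have hi : (AlgSp.yon S).map i ≫ φ = q.toHom := by
    rw [← hj, Functor.map_comp, Functor.map_comp, Category.assoc, Category.assoc, hR.w]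
  obtain ⟨p, hp, hm, -⟩ := AlgSpD.exists_mono_of_lifts X q φ hφ s t hR i j hi hj
    (u := u) (v := u') (fun k => (congrArg s.left (Scheme.fromSpecResidueField_apply r k)).trans hrs)
    (fun k => (congrArg t.left (Scheme.fromSpecResidueField_apply r k)).trans hrt) (hfin R s t hR)
  refine ⟨p, hp.trans ?_, hm⟩
  change AlgSp.Points.ofPt ((AlgSp.yon S).map t ≫ φ) r = _
  rw [AlgSpB.ofPt_map_comp, hrt, he]

end Groth.Agent.S10407
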