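import Groth.Statements.S10409
import Groth.Agent.AlgSpD.MonoPoint
-- import your own Groth.Agent.* helpers here

set_option autoImplicit false
universe u
open CategoryTheory CategoryTheory.Limits AlgebraicGeometry Topology TopologicalSpace
open AlgSp

set_option backward.isDefEq.respectTransparency false

namespace Groth.Agent.S10409

open Groth.Agent

/-- (3) ⇔ (4): for an algebraic space X over a scheme S and x ∈ |X|, there is a monomorphism Spec k ⟶ X
representing x if and only if there is a morphism Spec k' ⟶ X representing x whose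
self-fibre-product has etale and quasi-compact projections to Spec k'. -/
theorem result {S : Scheme.{u}} (X : AlgSp.Space S)
    (x : AlgSp.Points X.obj) :
    (∃ p : AlgSp.FieldPt X.obj, AlgSp.Points.mk p = x ∧ Mono p.toHom) ↔
      ∃ q : AlgSp.FieldPt X.obj, AlgSp.Points.mk q = x ∧
        ∀ (P : AlgSp.Sp S) (fst snd : P ⟶ (AlgSp.yon S).obj q.pt), IsPullback fst snd q.toHom q.toHom →
          AlgSp.RepWith @Etale fst ∧ AlgSp.RepWith @QuasiCompact fst := by
  constructor
  · rintro ⟨p, hp, hm⟩
    refine ⟨p, hp, fun P fst snd sq => ?_⟩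
    have := hm
    have h1 : fst = snd := (cancel_mono p.toHom).1 sq.w
    have : IsIso fst := by
      refine ⟨sq.lift (𝟙 _) (𝟙 _) rfl, sq.hom_ext ?_ ?_, sq.lift_fst _ _ _⟩
      · rw [Category.assoc, sq.lift_fst, Category.comp_id, Category.id_comp]
      · rw [Category.assoc, sq.lift_snd, Category.comp_id, Category.id_comp, h1]
    exact ⟨(AlgSp.RepWith @Etale).of_isIso fst, (AlgSp.RepWith @QuasiCompact).of_isIso fst⟩
  · rintro ⟨q, hq, h⟩
    obtain ⟨R, t, s, sq⟩ := AlgSpB.exists_pullback_yon (X.property.representable_from_yon q.toHom) q.toHom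
    obtain ⟨h1, h2⟩ := h _ _ _ sq.flip
    have : Etale s.left := (AlgSp.repWith_yon_map_iff _ _).1 h1
    have : QuasiCompact s.left := (AlgSp.repWith_yon_map_iff _ _).1 h2
    have : IsLocallyArtinian q.pt.left := inferInstanceAs (IsLocallyArtinian (Spec (CommRingCat.of q.K)))
    have := AlgSpD.locallyQuasiFinite_of_etale s.left
    obtain ⟨p, hp, hm, -⟩ := AlgSpD.exists_mono_of_isFinite X q s t sq (IsFinite.of_locallyQuasiFinite _)
    exact ⟨p, hp.trans hq, hm⟩

end Groth.Agent.S10409
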