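import Groth.Statements.S1041
import Groth.Agent.PerfExt.Supp
import Groth.Agent.CohDev.Loc

set_option autoImplicit false
universe u
open CategoryTheory CategoryTheory.Limits AlgebraicGeometry
attribute [local instance] HasDerivedCategory.standard
open Perf

attribute [-instance] CategoryTheory.ReflQuiver.toQuiver

namespace Groth.Agent.S1041

section
open CategoryTheory.Limits AlgebraicGeometry
theorem subsingleton_stalk {Y : Scheme.{u}} {M : Y.Modules} {U : Y.Opens} (h : IsZero (M.restrict U.ι))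
    {y : Y} (hy : y ∈ U) : Subsingleton (M.presheaf.stalk y) := by
  refine subsingleton_of_forall_eq 0 fun t => ?_
  obtain ⟨W, hyW, s, rfl⟩ := M.presheaf.exists_germ_eq t
  let W' : U.toScheme.Opens := U.ι ⁻¹ᵁ W
  have h1 : ∀ z : Γ(M.restrict U.ι, W'), z = 0 := fun z =>
    congr($(congrArg (fun φ => Scheme.Modules.Hom.app φ W') ((IsZero.iff_id_eq_zero _).1 h)) z)
  have hy' : y ∈ U.ι ''ᵁ W' := ⟨⟨y, hy⟩, hyW, rfl⟩
  have hle : U.ι ''ᵁ W' ≤ W := by
    rintro _ ⟨z, hz, rfl⟩; exact hz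
  rw [← M.presheaf.germ_res_apply (homOfLE hle) y hy' s]
  exact (congrArg _ (h1 (M.presheaf.map (homOfLE hle).op s))).trans (map_zero _)

end

/-- Let X be an affine scheme, T ⊆ X a closed subset with quasi-compact complement, U a quasi-compact
open and F a perfect object of D(O_U) whose cohomology sheaves are supported on T ∩ U. Then F ⊕ F[1]
extends to X as a perfect complex whose cohomology sheaves are supported on T (through a
representing complex restricted termwise; the binary direct sum in D(O_U) is assumed to exist, which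
it does). -/
theorem result (X : Scheme.{u}) [IsAffine X] (T : Set X) (hT : IsClosed T) (hTc : IsCompact Tᶜ)
    (U : X.Opens) (hU : IsCompact (U : Set X))
    (F : DCoh.D (U : Scheme.{u})) (hF : DCoh.IsPerfect F)
    (hFT : ∀ i : ℤ, CohB1.support (DCoh.HD F i) ⊆ {x : ↥(U : Scheme.{u}) | U.ι.base x ∈ T}) [HasBinaryBiproduct F (F⟦(1 : ℤ)⟧)] :
    ∃ G : CochainComplex X.Modules ℤ, DCoh.IsPerfect (DCoh.toD X G) ∧ (∀ i : ℤ, CohB1.support (DCoh.HD (DCoh.toD X G) i) ⊆ T) ∧
      Nonempty (DerivedCategory.Q.obj ((DCoh.restrictCx U).obj G) ≅ F ⊞ F⟦(1 : ℤ)⟧) := by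
  open Groth.Agent CategoryTheory.Limits AlgebraicGeometry in
  let W : X.Opens := ⟨Tᶜ, hT.isOpen_compl⟩
  have hFW : IsZero ((DCoh.restrictD (U.ι ⁻¹ᵁ W).ι).obj F) := by
    have hh : ∀ i, IsZero ((DerivedCategory.homologyFunctor _ i).obj
        ((DCoh.restrictD (U.ι ⁻¹ᵁ W).ι).obj F)) := fun i => by
      refine (CohDev.isZero_restrict_of_support (U.ι ⁻¹ᵁ W).ι (M := DCoh.HD F i) ?_).of_iso
        (CohDerLib.Kosz.homologyRestrictIso (U.ι ⁻¹ᵁ W) F i)
      intro z hz
      rw [Scheme.Opens.range_ι]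
      exact fun hzV => hzV (hFT i hz)
    have : IsIso (0 : (DCoh.restrictD (U.ι ⁻¹ᵁ W).ι).obj F ⟶ (DCoh.restrictD (U.ι ⁻¹ᵁ W).ι).obj F) := by
      rw [DerivedCategory.isIso_iff]
      exact fun i => isIso_of_isInitial (hh i).isInitial (hh i).isInitial _
    rw [IsZero.iff_id_eq_zero]
    exact (cancel_epi (0 : (DCoh.restrictD (U.ι ⁻¹ᵁ W).ι).obj F ⟶ _)).1 (by simp)
  obtain ⟨M, hM, hz, ⟨e⟩⟩ := PerfExt.thomason_supp U hU W hTc F hF hFW
  let R := (PerfExt.T X).obj M
  let eR : DCoh.toD X (DerivedCategory.Q.objPreimage R) ≅ R := DerivedCategory.Q.objObjPreimageIso R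
  refine ⟨DerivedCategory.Q.objPreimage R,
    PerfTri.Perfect.isPerfect_of_iso eR.symm ((PerfExt.isPerfect_T_iff X M).2 hM), fun i x hx => ?_,
    ⟨(PerfTri.Perfect.restrQ U.ι _).symm ≪≫ (DCoh.restrictD U.ι).mapIso eR ≪≫ e⟩⟩
  by_contra hxT
  refine hx (subsingleton_stalk (U := W) ?_ hxT)
  exact (((DerivedCategory.homologyFunctor _ i).map_isZero (hz.of_iso ((DCoh.restrictD W.ι).mapIso eR)))).of_iso
    (CohDerLib.Kosz.homologyRestrictIso W _ i).symm

end Groth.Agent.S1041
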