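import Groth.Statements.S10410
import Groth.Agent.AlgSpD.MonoPoint
import Groth.Agent.AlgSpD.DecentCrit
import Groth.Agent.AlgSpB.Open
-- import your own Groth.Agent.* helpers here

set_option autoImplicit false
universe u
open CategoryTheory CategoryTheory.Limits AlgebraicGeometry Topology TopologicalSpace
open AlgSp

set_option backward.isDefEq.respectTransparency false

namespace Groth.Agent.S10410

open Groth.Agent

/-- Let X be an algebraic space over a scheme S, x ∈ |X|, and φ : U ⟶ X etale with U a scheme. Then x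
lies in the image of |U| and the fibres of |U| → |X| and |U ×_X U| → |X| over x are finite, if and
only if x is represented by a monomorphism Spec k ⟶ X such that Spec k ×_X U is a nonempty scheme
finite over k. -/
theorem result {S : Scheme.{u}} (X : AlgSp.Space S) (x : AlgSp.Points X.obj)
    {U : Over S} (φ : (AlgSp.yon S).obj U ⟶ X.obj) (hφ : AlgSp.RepWith @Etale φ) :
    (x ∈ Set.range (AlgSp.Points.ofPt φ) ∧ (AlgSp.Points.ofPt φ ⁻¹' {x}).Finite ∧
        ∀ (R : Over S) (s t : R ⟶ U), IsPullback ((AlgSp.yon S).map t) ((AlgSp.yon S).map s) φ φ →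
          (AlgSp.Points.ofPt ((AlgSp.yon S).map t ≫ φ) ⁻¹' {x}).Finite) ↔
      ∃ p : AlgSp.FieldPt X.obj, AlgSp.Points.mk p = x ∧ Mono p.toHom ∧
        ∀ (T : Over S) (c : T ⟶ p.pt) (snd : (AlgSp.yon S).obj T ⟶ (AlgSp.yon S).obj U),
          IsPullback ((AlgSp.yon S).map c) snd p.toHom φ → Nonempty ↥T.left ∧ IsFinite c.left := by
  constructor
  · rintro ⟨⟨u, hu⟩, hfin, hR⟩
    obtain ⟨R, t, s, sq⟩ := AlgSpB.exists_pullback_yon hφ.1 φ
    obtain ⟨p, hp, hm, -⟩ := AlgSpD.exists_mono_of_chart X φ hφ s t sq u ((hR R s t sq).subset fun r hr => by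
      show AlgSp.Points.ofPt _ r = x
      rw [AlgSpB.ofPt_map_comp, hr.2, hu])
    refine ⟨p, hp.trans hu, hm, fun T c snd sqT => ?_⟩
    obtain ⟨snd', rfl⟩ := (AlgSp.yon S).map_surjective snd
    have := hm
    have : Mono ((AlgSp.yon S).map snd') := MorphismProperty.of_isPullback
      (P := MorphismProperty.monomorphisms _) sqT ‹Mono p.toHom›
    have hinj : Function.Injective snd'.left := fun a b e => by
      have := AlgSpB.injective_map_of_mono ((AlgSp.yon S).map snd')
      have h2 := @this (AlgSp.Points.ofScheme T a) (AlgSp.Points.ofScheme T b) (by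
        rw [← AlgSp.Points.ofPt_eq_map_ofScheme, ← AlgSp.Points.ofPt_eq_map_ofScheme,
          ← Category.comp_id ((AlgSp.yon S).map snd'), AlgSpB.ofPt_map_comp, AlgSpB.ofPt_map_comp, e])
      simpa using congrArg (AlgSp.Points.toScheme T) h2
    have hsub : Set.range snd'.left ⊆ AlgSp.Points.ofPt φ ⁻¹' {x} := by
      rintro _ ⟨z, rfl⟩
      show AlgSp.Points.ofPt φ (snd'.left z) = x
      rw [← AlgSpB.ofPt_map_comp, ← sqT.w, AlgSpB.ofPt_map_comp, AlgSp.Points.ofPt_toHom, hp.trans hu]
    have : Finite ↥T.left := by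
      have := (hfin.subset hsub).to_subtype
      exact Finite.of_injective (Set.rangeFactorization snd'.left)
        (fun a b e => hinj (congrArg Subtype.val e))
    have : Etale c.left := hφ.2 _ _ _ sqT.flip
    have : QuasiCompact c.left := AlgSpD.quasiCompact_of_finite _
    have : IsLocallyArtinian p.pt.left := inferInstanceAs (IsLocallyArtinian (Spec (CommRingCat.of p.K)))
    have := AlgSpD.locallyQuasiFinite_of_etale c.left
    refine ⟨?_, IsFinite.of_locallyQuasiFinite _⟩
    obtain ⟨w, -, -⟩ := (AlgSpB.ofPt_eq_ofPt_iff sqT (IsLocalRing.closedPoint p.K) u).1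
      (by rw [AlgSp.Points.ofPt_toHom, hp])
    exact ⟨w⟩
  · rintro ⟨p, hp, hm, h⟩
    obtain ⟨T, c, d, sqT⟩ := AlgSpB.exists_pullback_yon (X.property.representable_from_yon p.toHom) φ
    obtain ⟨⟨w⟩, hfinite⟩ := h T c _ sqT
    have : CompactSpace ↥p.pt.left := inferInstanceAs (CompactSpace (PrimeSpectrum p.K))
    have : CompactSpace ↥T.left := QuasiCompact.compactSpace_of_compactSpace c.left
    have : IsLocallyArtinian p.pt.left := inferInstanceAs (IsLocallyArtinian (Spec (CommRingCat.of p.K)))
    have : IsLocallyArtinian T.left := IsLocallyArtinian.of_locallyQuasiFinite c.left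
    have : Finite ↥T.left := finite_of_compact_of_discrete
    refine ⟨⟨d.left w, ?_⟩, (Set.finite_range d.left).subset fun v hv => ?_, fun R s t sq => ?_⟩
    · rw [← AlgSpB.ofPt_map_comp, ← sqT.w, AlgSpB.ofPt_map_comp, AlgSp.Points.ofPt_toHom, hp]
    · obtain ⟨z, -, hz⟩ := (AlgSpB.ofPt_eq_ofPt_iff sqT (IsLocalRing.closedPoint p.K) v).1
        (by rw [AlgSp.Points.ofPt_toHom, hp]; exact hv.symm)
      exact ⟨z, hz⟩
    · let Q : Over S := Over.mk (pullback.fst c.left c.left ≫ T.hom)
      let a₁ : Q ⟶ T := Over.homMk (pullback.fst c.left c.left) rfl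
      let a₂ : Q ⟶ T := Over.homMk (pullback.snd c.left c.left) (by
        show pullback.snd c.left c.left ≫ T.hom = pullback.fst c.left c.left ≫ T.hom
        rw [← Over.w c, ← pullback.condition_assoc])
      have sqQ : IsPullback a₁ a₂ c c :=
        IsPullback.of_map (Over.forget S) (Over.OverMorphism.ext pullback.condition)
          (IsPullback.of_hasPullback c.left c.left)
      have : CompactSpace ↥Q.left := QuasiCompact.compactSpace_of_compactSpace (pullback.fst c.left c.left)
      have : IsLocallyArtinian Q.left := IsLocallyArtinian.of_locallyQuasiFinite (pullback.fst c.left c.left)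
      have : Finite ↥Q.left := finite_of_compact_of_discrete
      let m := sq.lift ((AlgSp.yon S).map (a₁ ≫ d)) ((AlgSp.yon S).map (a₂ ≫ d)) (by
        rw [Functor.map_comp, Functor.map_comp, Category.assoc, Category.assoc, ← sqT.w,
          ← Category.assoc, ← Category.assoc, ← Functor.map_comp, ← Functor.map_comp, sqQ.w])
      obtain ⟨m', hm'⟩ := (AlgSp.yon S).map_surjective m
      refine (Set.finite_range m'.left).subset fun r hr => ?_
      obtain ⟨P, e, f, sqP⟩ := AlgSpB.exists_pullback_yon (X.property.representable_from_yon p.toHom)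
        ((AlgSp.yon S).map t ≫ φ)
      obtain ⟨z, -, hz⟩ := (AlgSpB.ofPt_eq_ofPt_iff sqP (IsLocalRing.closedPoint p.K) r).1
        (by rw [AlgSp.Points.ofPt_toHom, hp]; exact hr.symm)
      let l₁ := sqT.lift ((AlgSp.yon S).map e) ((AlgSp.yon S).map (f ≫ t))
        (by rw [Functor.map_comp, Category.assoc]; exact sqP.w)
      let l₂ := sqT.lift ((AlgSp.yon S).map e) ((AlgSp.yon S).map (f ≫ s))
        (by rw [Functor.map_comp, Category.assoc, ← sq.w]; exact sqP.w)
      let l := (sqQ.map (AlgSp.yon S)).lift l₁ l₂ (by rw [sqT.lift_fst, sqT.lift_fst])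
      obtain ⟨l', hl'⟩ := (AlgSp.yon S).map_surjective l
      have key : l' ≫ m' = f := by
        apply (AlgSp.yon S).map_injective
        apply sq.hom_ext
        · rw [Functor.map_comp, hl', hm', Category.assoc, sq.lift_fst, Functor.map_comp,
            (sqQ.map (AlgSp.yon S)).lift_fst_assoc, sqT.lift_snd, Functor.map_comp]
        · rw [Functor.map_comp, hl', hm', Category.assoc, sq.lift_snd, Functor.map_comp,
            (sqQ.map (AlgSp.yon S)).lift_snd_assoc, sqT.lift_snd, Functor.map_comp]
      exact ⟨l'.left z, (Scheme.Hom.comp_apply _ _ _).symm.trans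
        ((congrArg (fun g : P ⟶ R => g.left z) key).trans hz)⟩

end Groth.Agent.S10410
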