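import Groth.Statements.S10412
import Groth.Agent.AlgSpB.Open
import Groth.Agent.AlgSpCov.Sheaf
import Groth.Agent.AlgSp.Space
import Groth.Agent.AlgSp.FppfLocal2
-- import your own Groth.Agent.* helpers here

set_option autoImplicit false
universe u
open CategoryTheory CategoryTheory.Limits AlgebraicGeometry Topology TopologicalSpace
open AlgSp

set_option backward.isDefEq.respectTransparency false

namespace Groth.Agent.S10412

open Groth.Agent

/-- For an algebraic space X over a scheme S the following are equivalent: (1) X has a Zariski covering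
by open subspaces X_i, each X_i admitting a surjective, etale and quasi-compact morphism U_i ⟶ X_i
with U_i a scheme; (2) there are etale morphisms U_i ⟶ X from schemes, jointly surjective, such that
for each i both projection morphisms from U_i ×_X U_i to U_i are quasi-compact. -/
theorem result {S : Scheme.{u}} (X : AlgSp.Space S) :
    (∃ (ι : Type u) (Xi : ι → AlgSp.Space S) (j : ∀ i, Xi i ⟶ X) (U : ι → Over S)
        (a : ∀ i, (AlgSp.yon S).obj (U i) ⟶ (Xi i).obj),
        AlgSp.IsZarCover (fun i => (Xi i).obj) (fun i => (j i).hom) ∧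
          ∀ i, AlgSp.RepWith @Etale (a i) ∧ AlgSp.RepWith @Surjective (a i) ∧ AlgSp.RepWith @QuasiCompact (a i)) ↔
      ∃ (ι : Type u) (U : ι → Over S) (φ : ∀ i, (AlgSp.yon S).obj (U i) ⟶ X.obj),
        (∀ i, AlgSp.RepWith @Etale (φ i)) ∧
          (∀ x : AlgSp.Points X.obj, ∃ (i : ι) (v : ↥(U i).left), AlgSp.Points.ofPt (φ i) v = x) ∧
          ∀ (i : ι) (R : Over S) (s t : R ⟶ U i), IsPullback ((AlgSp.yon S).map t) ((AlgSp.yon S).map s) (φ i) (φ i) →
            QuasiCompact s.left ∧ QuasiCompact t.left := by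
  constructor
  · rintro ⟨ι, Xi, j, U, a, hj, h⟩
    refine ⟨ι, U, fun i => a i ≫ (j i).hom, fun i => ?_, fun x => ?_, fun i R s t sq => ?_⟩
    · refine AlgSpCov.repWith_comp (h i).1 ?_
      exact Groth.Agent.AlgSp.repWith_mono (Q := @Etale) (fun f hf => by
        have : IsOpenImmersion f := hf; infer_instance) (hj.1 i)
    · obtain ⟨i, y, rfl⟩ := hj.2 x
      obtain ⟨v, rfl⟩ := AlgSpB.surjective_ofPt (h i).2.1 y
      exact ⟨i, v, (AlgSp.Points.map_ofPt _ _ _).symm⟩
    · have : Mono (j i).hom := AlgSpB.mono_of_isOpenImmersion (hj.1 i)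
      have sq' : IsPullback ((AlgSp.yon S).map t) ((AlgSp.yon S).map s) (a i) (a i) := by
        refine IsPullback.of_isLimit' ⟨(cancel_mono (j i).hom).1 (by simpa using sq.w)⟩
          (PullbackCone.IsLimit.mk _ (fun c => sq.lift c.fst c.snd (by rw [← Category.assoc, ← Category.assoc, c.condition]))
            (fun c => sq.lift_fst _ _ _) (fun c => sq.lift_snd _ _ _)
            (fun c m h1 h2 => sq.hom_ext (h1.trans (sq.lift_fst _ _ _).symm) (h2.trans (sq.lift_snd _ _ _).symm)))
      exact ⟨(h i).2.2.2 _ _ _ sq', (h i).2.2.2 _ _ _ sq'.flip⟩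
  · rintro ⟨ι, U, φ, hφ, hcov, hqc⟩
    choose Xi j hj hjr using fun i => AlgSpB.exists_openSubspace X
      (W := Set.range (AlgSp.Points.ofPt (φ i))) (AlgSpB.isOpenMap_ofPt (hφ i)).isOpen_range
    choose a ha using fun i => AlgSpB.exists_lift_yon_of_isOpenImmersion (hj i) (φ i) (hjr i).ge
    have hm := fun i => AlgSpB.mono_of_isOpenImmersion (hj i)
    have hae : ∀ i, AlgSp.RepWith @Etale (a i) := fun i => AlgSpCov.repWith_etale_cancel (a i) (j i).hom
      (Groth.Agent.AlgSp.repWith_mono (Q := @Etale) (fun f hf => by have : IsOpenImmersion f := hf; infer_instance) (hj i))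
      (by rw [ha]; exact hφ i)
    have has : ∀ i, AlgSp.RepWith @Surjective (a i) := fun i =>
      AlgSpB.repWith_surjective_of_surjective_ofPt (hae i).1 (fun y => by
        obtain ⟨v, hv⟩ : AlgSp.Points.map (j i).hom y ∈ Set.range (AlgSp.Points.ofPt (φ i)) :=
          (hjr i).subset ⟨y, rfl⟩
        refine ⟨v, AlgSpB.injective_map_of_mono (j i).hom ?_⟩
        rw [AlgSp.Points.map_ofPt, ha]
        exact hv)
    refine ⟨ι, Xi, j, U, a, ⟨hj, fun x => ?_⟩, fun i => ⟨hae i, has i, ?_⟩⟩
    · obtain ⟨i, v, rfl⟩ := hcov x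
      exact ⟨i, AlgSp.Points.ofPt (a i) v, by rw [AlgSp.Points.map_ofPt, ha]⟩
    · obtain ⟨R, t, s, sq⟩ := AlgSpB.exists_pullback_yon (hφ i).1 (φ i)
      have := hm i
      have sq' : IsPullback ((AlgSp.yon S).map t) ((AlgSp.yon S).map s) (a i) (a i) := by
        have sqj : IsPullback ((AlgSp.yon S).map t) ((AlgSp.yon S).map s) (a i ≫ (j i).hom) (a i ≫ (j i).hom) := by
          rw [ha]; exact sq
        refine IsPullback.of_isLimit' ⟨(cancel_mono (j i).hom).1 (by simpa using sqj.w)⟩
          (PullbackCone.IsLimit.mk _ (fun c => sqj.lift c.fst c.snd (by rw [← Category.assoc, ← Category.assoc, c.condition]))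
            (fun c => sqj.lift_fst _ _ _) (fun c => sqj.lift_snd _ _ _)
            (fun c m h1 h2 => sqj.hom_ext (h1.trans (sqj.lift_fst _ _ _).symm) (h2.trans (sqj.lift_snd _ _ _).symm)))
      have := Groth.Agent.AlgSp.isLocallySurjective_of_etale_surjective (a i) (hae i) (has i)
      exact Groth.Agent.AlgSp.repWith_of_isPullback_of_isLocallySurjective (a i) (hae i).1 (a i) _ _ sq' @QuasiCompact
        ((AlgSp.repWith_yon_map_iff _ _).2 (hqc i R s t sq).1)

end Groth.Agent.S10412
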