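import Groth.Statements.S10413
import Groth.Agent.AlgSpB.Points
-- import your own Groth.Agent.* helpers here

set_option autoImplicit false
set_option backward.isDefEq.respectTransparency.types false
universe u
open CategoryTheory CategoryTheory.Limits AlgebraicGeometry Topology TopologicalSpace
open AlgSp

namespace Groth.Agent.S10413

/-- Let S be a scheme, X and Y algebraic spaces over S, and X ⟶ Y a representable morphism. If every
point of Y can be represented by a monomorphism into Y from the spectrum of a field, then every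
point of X can likewise be represented by such a monomorphism into X. -/
theorem result {S : Scheme.{u}} {X Y : AlgSp.Space S} (f : X ⟶ Y) (hf : AlgSp.Representable f.hom)
    (hY : ∀ y : AlgSp.Points Y.obj, ∃ q : AlgSp.FieldPt Y.obj, AlgSp.Points.mk q = y ∧ Mono q.toHom)
    (x : AlgSp.Points X.obj) : ∃ p : AlgSp.FieldPt X.obj, AlgSp.Points.mk p = x ∧ Mono p.toHom := by
  obtain ⟨q, hq, hqm⟩ := hY (AlgSp.Points.map f.hom x)
  obtain ⟨T, snd, fst, hT⟩ := hf q.toHom
  obtain ⟨z, hz, -⟩ := AlgSpB.exists_of_isPullback hT x
    (AlgSp.Points.ofScheme q.pt (IsLocalRing.closedPoint q.K)) (by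
      rw [← AlgSp.Points.ofPt_eq_map_ofScheme, AlgSp.Points.ofPt_toHom, hq])
  obtain ⟨t, rfl⟩ := (AlgSp.Points.schemeHomeo T).surjective z
  refine ⟨AlgSp.FieldPt.ofPt fst t, (AlgSp.Points.ofPt_eq_map_ofScheme fst t).trans hz, ?_⟩
  rw [AlgSp.FieldPt.toHom_ofPt]
  have : Mono fst := MorphismProperty.of_isPullback (P := MorphismProperty.monomorphisms _) hT.flip (MorphismProperty.monomorphisms.infer_property q.toHom)
  let i : Over.mk (T.left.fromSpecResidueField t ≫ T.hom) ⟶ T := Over.homMk (T.left.fromSpecResidueField t) rfl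
  have : Mono i := (Over.forget S).mono_of_mono_map (inferInstanceAs (Mono (T.left.fromSpecResidueField t)))
  have : Mono ((AlgSp.yon S).map i) := (AlgSp.yon S).map_mono i
  exact mono_comp ((AlgSp.yon S).map i) _

end Groth.Agent.S10413
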