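import Groth.Statements.S10414
import Groth.Agent.AlgSpD.OnePoint
import Groth.Agent.AlgSpB.Open
-- import your own Groth.Agent.* helpers here

set_option autoImplicit false
universe u
open CategoryTheory CategoryTheory.Limits AlgebraicGeometry Topology TopologicalSpace
open AlgSp

set_option backward.isDefEq.respectTransparency false

namespace Groth.Agent.S10414

open Groth.Agent

/-- Let S be a scheme, X an algebraic space over S, x ∈ |X|, and Z_x ⟶ X the residual space of x (a
monomorphism with image {x} from a space which admits a locally finitely presented, flat, surjective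
morphism whose source is the spectrum of a field). Then Z_x is isomorphic to Spec k' for some field
k' if and only if the point x is represented by some monomorphism Spec k ⟶ X. (The decent case, in
which the right side holds at every point, is not part of this row.) -/
theorem result {S : Scheme.{u}} (X : AlgSp.Space S) (x : AlgSp.Points X.obj)
    {Z : AlgSp.Space S} (i : Z ⟶ X) [Mono i.hom] (hi : Set.range (AlgSp.Points.map i.hom) = {x})
    (hZ : ∃ (k : Type u) (_ : Field k) (str : Spec (CommRingCat.of k) ⟶ S) (p : (AlgSp.yon S).obj (Over.mk str) ⟶ Z.obj),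
        AlgSp.LocP @LocallyOfFinitePresentation p ∧ AlgSp.LocP @Flat p ∧ AlgSp.IsSurjectiveMor p) :
    (∃ (k : Type u) (_ : Field k) (str : Spec (CommRingCat.of k) ⟶ S), Nonempty (Z.obj ≅ (AlgSp.yon S).obj (Over.mk str))) ↔
      ∃ p : AlgSp.FieldPt X.obj, AlgSp.Points.mk p = x ∧ Mono p.toHom := by
  constructor
  · rintro ⟨k, _, str, ⟨e⟩⟩
    let s : ↥(Over.mk str).left := IsLocalRing.closedPoint k
    let q : AlgSp.FieldPt X.obj := ⟨k, str, (AlgSp.J S).uliftYonedaEquiv (e.inv ≫ i.hom)⟩
    have hq : q.toHom = e.inv ≫ i.hom := (AlgSp.J S).uliftYonedaEquiv.symm_apply_apply _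
    refine ⟨q, ?_, ?_⟩
    · have h1 : AlgSp.Points.map i.hom (AlgSp.Points.ofPt e.inv s) ∈ ({x} : Set _) := hi.subset ⟨_, rfl⟩
      rw [AlgSp.Points.map_ofPt, ← hq, AlgSp.Points.ofPt_toHom] at h1
      exact h1
    · rw [hq]
      exact mono_comp _ _
  · rintro ⟨p, hp, hm⟩
    obtain ⟨k, _, str, π, hπl, hπf, hπs⟩ := hZ
    let P : AlgSp.Space S := ⟨pullback i.hom p.toHom,
      Groth.Agent.AlgSp.isAlgSpace_pullback X.property Z.property (AlgSp.IsAlgSpace.yon_obj _) i.hom p.toHom⟩
    obtain ⟨z, hz⟩ : x ∈ Set.range (AlgSp.Points.map i.hom) := hi.symm ▸ rfl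
    let s : ↥p.pt.left := IsLocalRing.closedPoint p.K
    have : Nonempty (AlgSp.Points P.obj) := by
      obtain ⟨w, -, -⟩ := AlgSpB.exists_of_isPullback (IsPullback.of_hasPullback i.hom p.toHom) z
        (AlgSp.Points.ofScheme p.pt s)
        (by rw [← AlgSp.Points.ofPt_eq_map_ofScheme, AlgSp.Points.ofPt_toHom, hp]; exact hz)
      exact ⟨w⟩
    have : Mono p.toHom := hm
    have h1 : IsIso (pullback.snd i.hom p.toHom) := AlgSpD.isIso_of_mono_to_field P (pullback.snd i.hom p.toHom)
    have h2 : IsIso (pullback.fst i.hom p.toHom) :=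
      AlgSpD.isIso_of_mono_to_fppf_point (Z' := P) (pullback.fst i.hom p.toHom) π hπl hπf hπs
    exact ⟨p.K, inferInstance, p.str,
      ⟨(asIso (pullback.fst i.hom p.toHom)).symm ≪≫ asIso (pullback.snd i.hom p.toHom)⟩⟩

end Groth.Agent.S10414
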