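import Groth.Statements.S10416
import Groth.Agent.ResFactor.Space
import Groth.Agent.AlgSpB.RedInduced
import Groth.Agent.AlgSp.SchImageRep
import Groth.Agent.AlgSpB.Open
-- import your own Groth.Agent.* helpers here

set_option autoImplicit false
universe u
open CategoryTheory CategoryTheory.Limits AlgebraicGeometry Topology TopologicalSpace
open AlgSp

set_option backward.isDefEq.respectTransparency false

namespace Groth.Agent.S10416

open Groth.Agent

/-- Let S be a scheme, X a locally Noetherian algebraic space over S, x ∈ |X|, and i : Z_x ⟶ X the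
residual space at x. Then x is closed in |X| if and only if i is a closed immersion. -/
theorem result {S : Scheme.{u}} {X Z : AlgSp.Space S}
    (hX : AlgSp.IsLocNoethSp X.obj) (x : AlgSp.Points X.obj) (i : Z ⟶ X) [Mono i.hom]
    (hi : Set.range (AlgSp.Points.map i.hom) = {x}) (hZ : ∃ (k : Type u) (_ : Field k) (str : Spec (CommRingCat.of k) ⟶ S) (p : (AlgSp.yon S).obj (Over.mk str) ⟶ Z.obj),
        AlgSp.LocP @LocallyOfFinitePresentation p ∧ AlgSp.LocP @Flat p ∧ AlgSp.IsSurjectiveMor p) :
    IsClosed ({x} : Set (AlgSp.Points X.obj)) ↔ AlgSp.RepWith @IsClosedImmersion i.hom := by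
  constructor
  · intro hx
    obtain ⟨Z', j, hZ', hj, hjr, hred⟩ := AlgSpB.exists_redInduced X.property {x} hx
    let Z'' : AlgSp.Space S := ⟨Z', hZ'⟩
    let j' : Z'' ⟶ X := ObjectProperty.homMk j
    have : Mono j := AlgSpB.mono_of_isClosedImmersion hj
    obtain ⟨h, hh⟩ := ResFactor.exists_factor j' x (fun y => hjr.subset ⟨y, rfl⟩) hred hX i
      (hi.symm ▸ Set.mem_singleton x)
    have hh' : h.hom ≫ i.hom = j := congrArg (fun k => k.hom) hh
    have : Mono (h.hom ≫ i.hom) := by rw [hh']; infer_instance
    have : Mono h.hom := mono_of_mono h.hom i.hom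
    have : Nonempty (AlgSp.Points Z''.obj) := by
      obtain ⟨y, -⟩ : x ∈ Set.range (AlgSp.Points.map j) := hjr.symm ▸ Set.mem_singleton x
      exact ⟨y⟩
    obtain ⟨k, _, str, p, hpl, hpf, hps⟩ := hZ
    have : IsIso h.hom := AlgSpD.isIso_of_mono_to_fppf_point (Z' := Z'') h.hom p hpl hpf hps
    rw [show i.hom = inv h.hom ≫ j by rw [← hh', IsIso.inv_hom_id_assoc]]
    exact (MorphismProperty.cancel_left_of_respectsIso (AlgSp.RepWith @IsClosedImmersion) _ _).2 hj
  · intro h
    rw [← hi]
    exact Groth.Agent.AlgSp.SchImageRep.isClosed_range X.property h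

end Groth.Agent.S10416
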