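import Groth.Statements.S10417
import Groth.Agent.AlgSpB.Art.GroupLocus
import Groth.Agent.AlgSp.QfPoint
import Groth.Agent.AlgSpD.LqfLocus
-- import your own Groth.Agent.* helpers here

set_option autoImplicit false
universe u
open CategoryTheory CategoryTheory.Limits AlgebraicGeometry Topology TopologicalSpace
open AlgSp

set_option backward.isDefEq.respectTransparency false

namespace Groth.Agent.S10417

open Groth.Agent

/-- Let W = X ×_Y Z be a fibre product of algebraic spaces over a scheme S with projections p, q and let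
x ∈ |X|, z ∈ |Z| lie over the same point of |Y|. If f : X ⟶ Y is of finite type and quasi-finite at
x, then the set of points of |W| mapping to x and to z is finite. -/
theorem result {S : Scheme.{u}} {X Y Z W : AlgSp.Space S} (f : X ⟶ Y)
    (g : Z ⟶ Y) (p : W ⟶ X) (q : W ⟶ Z) (hW : IsPullback p.hom q.hom f.hom g.hom) (x : AlgSp.Points X.obj)
    (z : AlgSp.Points Z.obj) (hxz : AlgSp.Points.map f.hom x = AlgSp.Points.map g.hom z)
    (hft : AlgSp.IsFiniteTypeMor f.hom) (hf : AlgSp.HasAtMor (fun U _ h u => ∃ W : U.Opens, u ∈ W ∧ LocallyQuasiFinite (W.ι ≫ h) ∧ LocallyOfFiniteType (W.ι ≫ h)) f.hom x) :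
    {w : AlgSp.Points W.obj | AlgSp.Points.map p.hom w = x ∧ AlgSp.Points.map q.hom w = z}.Finite := by
  obtain ⟨t, rfl⟩ := AlgSp.Points.mk_surjective z
  have : IsAffine t.pt.left := inferInstanceAs (IsAffine (Spec (CommRingCat.of t.K)))
  let g' : (AlgSp.yon S).obj t.pt ⟶ Y.obj := t.toHom ≫ g.hom
  have sq := IsPullback.of_hasPullback f.hom g'
  obtain ⟨U, a, h, -, ha, has, hah, hl, hqc⟩ :=
    Groth.Agent.AlgSp.exists_affine_chart_over X.property Y.property hft g' sq
  let l : pullback f.hom g' ⟶ W.obj := hW.lift (pullback.fst f.hom g') (pullback.snd f.hom g' ≫ t.toHom)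
    (by rw [Category.assoc]; exact sq.w)
  have sl : IsPullback l (pullback.snd f.hom g') q.hom t.toHom :=
    IsPullback.of_right (by rw [hW.lift_fst]; exact sq) (hW.lift_snd _ _ _) hW
  let pt := IsLocalRing.closedPoint t.K
  refine ((Groth.Agent.AlgSp.finite_qfAt_preimage h.left pt).image
    fun u => AlgSp.Points.map l (AlgSp.Points.ofPt a u)).subset ?_
  rintro w ⟨hw1, hw2⟩
  obtain ⟨r, hr, -⟩ := AlgSpB.exists_of_isPullback sl w (AlgSp.Points.ofScheme t.pt pt)
    (by rw [← AlgSp.Points.ofPt_eq_map_ofScheme, AlgSp.Points.ofPt_toHom, hw2])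
  obtain ⟨u, rfl⟩ := AlgSpB.surjective_ofPt has r
  refine ⟨u, ⟨@Subsingleton.elim _ (inferInstanceAs (Subsingleton (PrimeSpectrum t.K))) _ _, ?_⟩, hr⟩
  have hP := Groth.Agent.AlgSp.isAlgSpace_of_isPullback' Y.property X.property (AlgSp.IsAlgSpace.yon_obj _) sq
  have h0 : AlgSp.HasAtMor AlgSpD.DimZeroAt (pullback.snd f.hom g') (AlgSp.Points.ofPt a u) := by
    rw [AlgSpB.Art.hasAtMor_baseChange AlgSpB.Art.bcProp_lqf X.property Y.property (AlgSp.IsAlgSpace.yon_obj _)
      hft.1 sq]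
    have e : AlgSp.Points.map (pullback.fst f.hom g') (AlgSp.Points.ofPt a u) = x := by
      rw [← hw1, ← hr, ← AlgSp.Points.map_comp, hW.lift_fst]
    rw [e]
    exact (AlgSpD.hasAtMor_lqfNear_iff f.hom hft.1 x).1 hf
  have hid : AlgSp.RepWith @Etale (𝟙 ((AlgSp.yon S).obj t.pt)) := AlgSp.repWith_id _ _
  exact (AlgSpD.quasiFiniteAt_iff_fibreDimAt_eq_zero h.left u).2
    ((AlgSpD.hasAtMor_iff_chart (AlgSpD.morEtaleInv_fibreDimAt 0)
      (ObjectProperty.homMk (pullback.snd f.hom g') :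
        (⟨_, hP⟩ : AlgSp.Space S) ⟶ ⟨_, AlgSp.IsAlgSpace.yon_obj t.pt⟩)
      ha hid (by rw [Category.comp_id]; exact hah) u).1 h0)

end Groth.Agent.S10417
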