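import Groth.Statements.S10418
import Groth.Agent.AlgSpEN.StrataSq
-- import your own Groth.Agent.* helpers here

set_option autoImplicit false
set_option backward.isDefEq.respectTransparency false
set_option backward.isDefEq.respectTransparency.types false
universe u
open CategoryTheory CategoryTheory.Limits AlgebraicGeometry Topology TopologicalSpace
open AlgSp

namespace Groth.Agent.S10418

/-- Let S be a scheme and X an algebraic space over S which is quasi-compact. There are open subspaces X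
= U_1 ⊇ U_2 ⊇ U_3 ⊇ ⋯ such that (1) with T_p = U_p ∖ U_{p+1} (reduced induced subspace structure)
there is a separated scheme V_p with a surjective etale f_p : V_p ⟶ U_p for which the map f_p⁻¹(T_p)
⟶ T_p is an isomorphism, and (2) every x ∈ |X| admitting a representative given by a quasi-compact
morphism from the spectrum of a field lies in T_p for some p. -/
theorem result {S : Scheme.{u}} (X : AlgSp.Space S)
    (hX : AlgSp.IsQuasiCompactSp X.obj) :
    ∃ (Uo : ℕ → AlgSp.Space S) (j : ∀ p, Uo p ⟶ X) (k : ∀ p, Uo (p + 1) ⟶ Uo p)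
      (T : ℕ → AlgSp.Space S) (i : ∀ p, T p ⟶ Uo p),
      (∀ p, AlgSp.RepWith @IsOpenImmersion (j p).hom) ∧ (∀ p, k p ≫ j p = j (p + 1)) ∧ IsIso (j 1) ∧
      (∀ p, AlgSp.IsRedInduced (Set.range (AlgSp.Points.map (k p).hom))ᶜ (i p).hom) ∧
      (∀ p, 1 ≤ p → ∃ (V : Over S) (f : (AlgSp.yon S).obj V ⟶ (Uo p).obj), V.left.IsSeparated ∧
        AlgSp.RepWith @Etale f ∧ AlgSp.RepWith @Surjective f ∧
        ∀ (P : AlgSp.Sp S) (fst : P ⟶ (T p).obj) (snd : P ⟶ (AlgSp.yon S).obj V),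
          IsPullback fst snd (i p).hom f → IsIso fst) ∧
      (∀ x : AlgSp.Points X.obj, (∃ q : AlgSp.FieldPt X.obj, AlgSp.Points.mk q = x ∧ AlgSp.RepWith @QuasiCompact q.toHom) →
        ∃ p, 1 ≤ p ∧ x ∈ Set.range (AlgSp.Points.map ((i p) ≫ (j p)).hom)) := by
  obtain ⟨U, p, hU, hp, hs⟩ := Groth.Agent.AlgSpEN.exists_affine_atlas X hX
  have := hU
  obtain ⟨Uo, j, k, T, i, hj, hk, hr, hi, hV⟩ := Groth.Agent.AlgSpEN.exists_filtration p hp hs
  refine ⟨Uo, j, k, T, i, hj, hk, Groth.Agent.AlgSpEN.isIso_of_range_eq_univ _ (hj 1)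
    ((hr 1).trans (Groth.Agent.AlgSpEN.tupleLocus_one hs)), hi, fun m hm => ?_, ?_⟩
  · obtain ⟨V, f, hsep, -, he, hf, hiso⟩ := hV m hm
    exact ⟨V, f, hsep, he, hf, hiso⟩
  rintro x ⟨q, rfl, hq⟩
  classical
  obtain ⟨R, fst, snd, sq⟩ := Groth.Agent.AlgSpB.exists_pullback_yon hq.1 p
  have : QuasiCompact snd.left := hq.2 _ _ _ sq
  have : CompactSpace R.left := QuasiCompact.compactSpace_of_compactSpace snd.left
  obtain ⟨N, hN⟩ := Groth.Agent.AlgSpEN.exists_bound_tupleLocus X.property hp q.toHom snd fst sq.flip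
  have hex : ∃ n, AlgSp.Points.mk q ∉ Groth.Agent.AlgSpEN.tupleLocus p (n + 1) :=
    ⟨N, AlgSp.Points.ofPt_toHom q (IsLocalRing.closedPoint q.K) ▸ hN (IsLocalRing.closedPoint q.K)⟩
  obtain ⟨n, hout, hmin⟩ : ∃ n, AlgSp.Points.mk q ∉ Groth.Agent.AlgSpEN.tupleLocus p (n + 1) ∧
      AlgSp.Points.mk q ∈ Groth.Agent.AlgSpEN.tupleLocus p n := by
    refine ⟨Nat.find hex, Nat.find_spec hex, ?_⟩
    rcases h : Nat.find hex with _ | n
    · rw [Groth.Agent.AlgSpEN.tupleLocus_zero hs]; trivial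
    · exact not_not.1 (Nat.find_min hex (h ▸ Nat.lt_succ_self n))
  obtain _ | n := n
  · exact absurd ((Groth.Agent.AlgSpEN.tupleLocus_one hs).symm ▸ Set.mem_univ _) hout
  refine ⟨n + 1, Nat.le_add_left 1 n, ?_⟩
  obtain ⟨y, hy⟩ := (hr (n + 1)).ge hmin
  have hy2 : y ∉ Set.range (AlgSp.Points.map (k (n + 1)).hom) := by
    rintro ⟨z, rfl⟩
    exact hout ((hr (n + 2)).le ⟨z, by rw [← hy, ← hk (n + 1)]; exact AlgSp.Points.map_comp _ _ _⟩)
  obtain ⟨t, ht⟩ := (hi (n + 1)).2.1.ge hy2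
  exact ⟨t, (AlgSp.Points.map_comp _ _ _).trans ((congrArg _ ht).trans hy)⟩

end Groth.Agent.S10418
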