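import Groth.Statements.S10422
import Groth.Prelude.Def_AlgSp2
import Mathlib.LinearAlgebra.TensorProduct.Finiteness
import Mathlib.LinearAlgebra.Dimension.Constructions
-- import your own Groth.Agent.* helpers here

set_option autoImplicit false
universe u
open Topology TopologicalSpace TensorProduct
open AlgSp

namespace Groth.Agent.S10422

/-- Finitely many field extensions of `k` embed compatibly in one field. -/
lemma exists_common_field (k : Type u) [Field k] {ι : Type} (K : ι → Type u) [∀ n, Field (K n)]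
    [∀ n, Algebra k (K n)] (s : Finset ι) :
    ∃ (Ω : Type u) (_ : Field Ω) (φ : k →+* Ω), ∀ n ∈ s, ∃ σ : K n →+* Ω, σ.comp (algebraMap k (K n)) = φ := by
  classical
  induction s using Finset.induction_on with
  | empty => exact ⟨k, inferInstance, RingHom.id k, fun n hn => absurd hn (Finset.notMem_empty n)⟩
  | @insert a s has ih =>
    obtain ⟨Ω, _, φ, h⟩ := ih
    obtain ⟨Ω', _, i₁, i₂, hi⟩ := AlgSp.FieldPt.exists_amalgamation φ (algebraMap k (K a))
    refine ⟨Ω', inferInstance, i₁.comp φ, fun n hn => ?_⟩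
    rcases Finset.mem_insert.1 hn with rfl | hn
    · exact ⟨i₂, hi.symm⟩
    · obtain ⟨σ, hσ⟩ := h n hn
      exact ⟨i₁.comp σ, by rw [RingHom.comp_assoc, hσ]⟩

/-- Let A be a ring, k a field, (p_n) a sequence of primes of A which are pairwise distinct, and k →
κ(p_n) field embeddings. Then the closure in Spec(A ⊗ A) of the image of ∐_{n ≠ m} Spec(κ(p_n) ⊗_k
κ(p_m)) meets the diagonal. Here κ(p_n) is any A-algebra K_n which is a field whose structure map
has kernel p_n and whose elements are quotients of images of elements of A. -/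
theorem result (A : Type u) [CommRing A] (k : Type u) [Field k]
    (p : ℕ → PrimeSpectrum A) (hp : Function.Injective p) (K : ℕ → Type u) [∀ n, Field (K n)]
    [∀ n, Algebra A (K n)] [∀ n, Algebra k (K n)]
    (hker : ∀ n, RingHom.ker (algebraMap A (K n)) = (p n).asIdeal)
    (hfrac : ∀ n (x : K n), ∃ a b : A, algebraMap A (K n) b ≠ 0 ∧ x * algebraMap A (K n) b = algebraMap A (K n) a) :
    (closure (⋃ (n : ℕ) (m : ℕ) (_ : n ≠ m),
        Set.range (PrimeSpectrum.comap
          (Algebra.TensorProduct.lift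
            ((Algebra.TensorProduct.includeLeft (R := k) (S := ℤ) (A := K n) (B := K m)).toRingHom.toIntAlgHom.comp
              (Algebra.ofId A (K n)).toRingHom.toIntAlgHom)
            ((Algebra.TensorProduct.includeRight (R := k) (A := K n) (B := K m)).toRingHom.toIntAlgHom.comp
              (Algebra.ofId A (K m)).toRingHom.toIntAlgHom)
            (fun _ _ => Commute.all _ _)).toRingHom)) ∩
      Set.range (PrimeSpectrum.comap (Algebra.TensorProduct.lmul' (S := A) ℤ).toRingHom)).Nonempty := by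
  classical
  let C : Ideal A :=
    { carrier := {g | ∃ N : ℕ, ∀ n, N ≤ n → g ∈ (p n).asIdeal}
      add_mem' := fun ⟨N, hN⟩ ⟨M, hM⟩ => ⟨max N M, fun n hn =>
        add_mem (hN n (le_trans (le_max_left _ _) hn)) (hM n (le_trans (le_max_right _ _) hn))⟩
      zero_mem' := ⟨0, fun n _ => zero_mem _⟩
      smul_mem' := fun c _ ⟨N, hN⟩ => ⟨N, fun n hn => Ideal.mul_mem_left _ c (hN n hn)⟩ }
  have hC : C ≠ ⊤ := fun h => by
    obtain ⟨N, hN⟩ : (1 : A) ∈ C := h ▸ Submodule.mem_top
    exact (p N).isPrime.ne_top ((Ideal.eq_top_iff_one _).2 (hN N le_rfl))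
  obtain ⟨q, hq, hCq⟩ := C.exists_le_maximal hC
  refine ⟨PrimeSpectrum.comap (Algebra.TensorProduct.lmul' (S := A) ℤ).toRingHom ⟨q, hq.isPrime⟩, ?_, _, rfl⟩
  rw [PrimeSpectrum.isTopologicalBasis_basic_opens.mem_closure_iff]
  rintro _ ⟨f, rfl⟩ hf
  obtain ⟨s, rfl⟩ := TensorProduct.exists_finset f
  by_contra hne
  rw [Set.not_nonempty_iff_eq_empty, Set.eq_empty_iff_forall_notMem] at hne
  set g : A := ∑ i ∈ s, i.1 * i.2 with hg
  have hgq : g ∉ q := by
    simpa [hg, map_sum] using hf
  have hinf : {n | g ∉ (p n).asIdeal}.Infinite := by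
    intro hfin
    obtain ⟨N, hN⟩ := hfin.bddAbove
    exact hgq (hCq ⟨N + 1, fun n hn => by_contra fun h => by
      have := hN h
      omega⟩)
  obtain ⟨T, hT, hTc⟩ := hinf.exists_subset_card_eq (s.card + 1)
  obtain ⟨Ω, _, φ, hσ⟩ := exists_common_field k K T
  choose σ hσ using hσ
  let v : ↥T → ↥s → Ω := fun n i => σ n n.2 (algebraMap A (K n) i.1.1)
  let w : ↥T → ↥s → Ω := fun n i => σ n n.2 (algebraMap A (K n) i.1.2)
  have hdiag : ∀ n, ∑ i, v n i * w n i ≠ 0 := fun n => by
    have h1 : ∑ i, v n i * w n i = σ n n.2 (algebraMap A (K n) g) := by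
      rw [hg, map_sum, map_sum, Finset.univ_eq_attach]
      rw [← Finset.sum_attach s fun i => σ n n.2 (algebraMap A (K n) (i.1 * i.2))]
      exact Finset.sum_congr rfl fun i _ => by simp [v, w]
    rw [h1, ne_eq, map_eq_zero_iff _ (σ n n.2).injective, ← RingHom.mem_ker, hker]
    exact hT n.2
  have hoff : ∀ n m, n ≠ m → ∑ i, v n i * w m i = 0 := fun n m hnm => by
    letI := φ.toAlgebra
    let a : K n →ₐ[k] Ω := { σ n n.2 with commutes' := fun r => RingHom.congr_fun (hσ n n.2) r }
    let b : K m →ₐ[k] Ω := { σ m m.2 with commutes' := fun r => RingHom.congr_fun (hσ m m.2) r }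
    let χ := Algebra.TensorProduct.lift a b (fun _ _ => Commute.all _ _)
    by_contra hne0
    let Q : PrimeSpectrum (TensorProduct k (K n) (K m)) :=
      ⟨RingHom.ker χ.toRingHom, RingHom.ker_isPrime _⟩
    refine hne _ ⟨?_, Set.mem_iUnion.2 ⟨n.1, Set.mem_iUnion.2 ⟨m.1, Set.mem_iUnion.2
      ⟨fun h => hnm (Subtype.ext h), Q, rfl⟩⟩⟩⟩
    change _ ∉ Ideal.comap _ (RingHom.ker χ.toRingHom)
    rw [Ideal.mem_comap, RingHom.mem_ker, map_sum, map_sum]
    rw [Finset.univ_eq_attach] at hne0
    rw [← Finset.sum_attach]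
    convert hne0 using 4 with i
    simp [χ, a, b, v, w]
  have hli : LinearIndependent Ω v := by
    rw [Fintype.linearIndependent_iff]
    intro c hc n
    have h1 : ∑ i, (∑ m, c m • v m) i * w n i = 0 := by rw [hc]; simp
    simp only [Finset.sum_apply, Pi.smul_apply, smul_eq_mul, Finset.sum_mul] at h1
    rw [Finset.sum_comm] at h1
    simp_rw [mul_assoc, ← Finset.mul_sum] at h1
    rw [Finset.sum_eq_single n (fun m _ hmn => by rw [hoff m n hmn, mul_zero])
      (fun h => absurd (Finset.mem_univ n) h)] at h1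
    exact (mul_eq_zero.1 h1).resolve_right (hdiag n)
  have := hli.fintype_card_le_finrank
  rw [Fintype.card_coe, Module.finrank_pi, Fintype.card_coe] at this
  omega

end Groth.Agent.S10422
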