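import Groth.Statements.S10423
import Groth.Agent.AlgSpD.DecentMor
import Groth.Agent.AlgSpD.DecentCrit
import Groth.Agent.AlgSp.LimAffineMor
import Groth.Agent.AlgSp.LimAffine
import Groth.Agent.AlgSp.NormCoprod
-- import your own Groth.Agent.* helpers here

set_option autoImplicit false
universe u
open CategoryTheory CategoryTheory.Limits AlgebraicGeometry Topology TopologicalSpace
open AlgSp

set_option backward.isDefEq.respectTransparency false

namespace Groth.Agent.S10423

open Groth.Agent

/-- A morphism of algebraic spaces over a scheme S which is representable, or which is quasi-separated,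
is decent (all its base changes to schemes are decent algebraic spaces). The implications through
reasonable and very reasonable morphisms are not part of this row. -/
theorem result {S : Scheme.{u}} {X Y : AlgSp.Space S} (f : X ⟶ Y) :
    (AlgSp.Representable f.hom → AlgSp.IsDecentMor f.hom) ∧
      (AlgSp.IsQuasiSeparatedMor f.hom → AlgSp.IsDecentMor f.hom) := by
  have key : ∀ (P : AlgSp.Space S), AlgSp.IsQuasiSeparatedSp P.obj → AlgSp.IsDecent P.obj := by
    intro P hP x
    obtain ⟨q, rfl⟩ := AlgSp.Points.mk_surjective x
    exact AlgSpD.exists_qc_mono_of_qc P q (AlgSpD.repWith_quasiCompact_of_qs P hP q)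
  constructor
  · intro hf T F' g fst snd sq
    have hs : AlgSp.Representable snd := MorphismProperty.of_isPullback sq hf
    refine AlgSpD.isDecent_of_representable snd hs fun y => ?_
    let t := AlgSp.Points.toScheme T y
    refine ⟨AlgSp.FieldPt.ofPt (𝟙 _) t, AlgSp.Points.ofScheme_toScheme T y, ?_, ?_⟩
    · rw [AlgSp.FieldPt.toHom_ofPt, Category.comp_id]
      have : Mono (T.left.fromSpecResidueField t) := inferInstance
      let c : (Over.mk (T.left.fromSpecResidueField t ≫ T.hom) : Over S) ⟶ T :=
        Over.homMk (T.left.fromSpecResidueField t) rfl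
      have : Mono c := Functor.mono_of_mono_map (Over.forget S) this
      exact inferInstanceAs (Mono ((AlgSp.yon S).map c))
    · rw [AlgSp.FieldPt.toHom_ofPt, Category.comp_id]
      refine (AlgSp.repWith_yon_map_iff _ _).2 ?_
      change QuasiCompact (T.left.fromSpecResidueField t)
      exact AlgSpD.quasiCompact_of_finite _
  · intro hf
    refine AlgSpD.isDecentMor_of_affine f.hom fun Z g P fst snd hZ sq => ?_
    have hsp : AlgSp.IsAlgSpace P :=
      Groth.Agent.AlgSp.isAlgSpace_of_isPullback' Y.property X.property (AlgSp.IsAlgSpace.yon_obj Z) sq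
    refine key ⟨P, hsp⟩ (Groth.Agent.AlgSp.LimAffine.isQuasiSeparatedSp_of_mor snd ?_
      ?_)
    · exact Groth.Agent.AlgSp.isQuasiSeparatedMor_baseChange' sq hf
    · let hT := Groth.Agent.AlgSp.LimSepAbs.isTerminalBase (S := S)
      refine (Groth.Agent.AlgSp.LimSepAbs.diag_prop_iff @QuasiCompact _ hT (hT.from _)).1 ?_
      obtain ⟨m, hm⟩ := (AlgSp.yon S).map_surjective (hT.from ((AlgSp.yon S).obj Z))
      rw [← hm]
      refine (AlgSp.repWith_diagonal_yon_map_iff @QuasiCompact m).2 ?_
      have : QuasiSeparatedSpace Z.left := inferInstance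
      have : QuasiSeparated m.left := QuasiSeparated.of_quasiSeparatedSpace _
      exact (quasiSeparated_iff m.left).1 this

end Groth.Agent.S10423
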