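import Groth.Statements.S10426
import Groth.Agent.AlgSpCov.UnivBddOps
-- import your own Groth.Agent.* helpers here

set_option autoImplicit false
universe u
open CategoryTheory CategoryTheory.Limits AlgebraicGeometry Topology TopologicalSpace
open AlgSp

set_option backward.isDefEq.respectTransparency false

namespace Groth.Agent.S10426

open Groth.Agent

/-- Let S be a scheme, X and Y algebraic spaces over S, and g : Y ⟶ X a representable morphism; let U be
a scheme, f : U ⟶ X a morphism, and f′ : U ×_X Y ⟶ Y its base change. Assume the image of |U| → |X|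
is contained in the image of |Y| → |X| and that f′ has universally bounded fibres. Then the morphism
f also has universally bounded fibres. -/
theorem result {S : Scheme.{u}} {X Y : AlgSp.Space S} (g : Y ⟶ X)
    (hg : AlgSp.Representable g.hom) {U V : Over S} (f : (AlgSp.yon S).obj U ⟶ X.obj)
    (fst : (AlgSp.yon S).obj V ⟶ (AlgSp.yon S).obj U) (f' : (AlgSp.yon S).obj V ⟶ Y.obj) (h : IsPullback fst f' f g.hom)
    (him : Set.range (AlgSp.Points.ofPt f) ⊆ Set.range (AlgSp.Points.map g.hom)) (hf' : W4dec.HasUnivBddFibres f') :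
    W4dec.HasUnivBddFibres f := by
  obtain ⟨n, hn⟩ := hf'
  refine ⟨n, fun q T c snd sq => ?_⟩
  obtain ⟨snd', rfl⟩ := (AlgSp.yon S).map_surjective snd
  by_cases hq : IsEmpty ↥T.left
  · exact AlgSpCov.UnivBddOps.bdd_of_empty c.left n
  obtain ⟨s⟩ := not_isEmpty_iff.1 hq
  have hx : AlgSp.Points.ofPt q.toHom (c.left s) ∈ Set.range (AlgSp.Points.map g.hom) := by
    rw [← AlgSpB.ofPt_map_comp, sq.w, AlgSpB.ofPt_map_comp]
    exact him ⟨_, rfl⟩
  obtain ⟨y, hy⟩ := hx
  obtain ⟨Z, zq, zy, sqZ⟩ := hg q.toHom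
  rw [AlgSp.Points.ofPt_eq_map_ofScheme] at hy
  obtain ⟨z, -, -⟩ := AlgSpB.exists_of_isPullback sqZ y (AlgSp.Points.ofScheme q.pt (c.left s)) hy
  let t := AlgSp.Points.toScheme Z z
  let G : Over.mk (Z.left.fromSpecResidueField t ≫ Z.hom) ⟶ Z := Over.homMk (Z.left.fromSpecResidueField t) rfl
  refine AlgSpCov.UnivBddOps.bdd_of_field_bc c.left (G.left ≫ zq.left) ?_
  have hZ : ((AlgSp.yon S).map G ≫ zy) ≫ g.hom = (AlgSp.yon S).map (G ≫ zq) ≫ q.toHom := by
    rw [Category.assoc, Functor.map_comp, Category.assoc, sqZ.w]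
  let T' : Over S := Over.mk (pullback.snd c.left (G.left ≫ zq.left) ≫ (Z.left.fromSpecResidueField t ≫ Z.hom))
  let c' : T' ⟶ Over.mk (Z.left.fromSpecResidueField t ≫ Z.hom) :=
    Over.homMk (pullback.snd c.left (G.left ≫ zq.left)) rfl
  let pr : T' ⟶ T := Over.homMk (pullback.fst c.left (G.left ≫ zq.left)) (by
    show pullback.fst c.left (G.left ≫ zq.left) ≫ T.hom =
      pullback.snd c.left (G.left ≫ zq.left) ≫ (Z.left.fromSpecResidueField t ≫ Z.hom)
    rw [← Over.w c, pullback.condition_assoc, Category.assoc, Over.w zq]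
    rfl)
  have sq' : IsPullback pr c' c (G ≫ zq) :=
    IsPullback.of_map (Over.forget S) (Over.OverMorphism.ext pullback.condition)
      (IsPullback.of_hasPullback c.left (G.left ≫ zq.left))
  have big := (sq'.map (AlgSp.yon S)).paste_horiz sq.flip
  rw [← hZ] at big
  let l := h.lift ((AlgSp.yon S).map pr ≫ (AlgSp.yon S).map snd')
    ((AlgSp.yon S).map c' ≫ ((AlgSp.yon S).map G ≫ zy)) (by rw [big.w]; simp only [Category.assoc])
  have hl : IsPullback l ((AlgSp.yon S).map c') f' ((AlgSp.yon S).map G ≫ zy) := by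
    refine IsPullback.of_right ?_ (h.lift_snd _ _ _) h
    rw [h.lift_fst]
    exact big
  have hb := AlgSpCov.UnivBddOps.bdd_of_sq hn hl
  obtain ⟨h1, h2⟩ := hb _ (𝟙 _)
  have : IsFinite c'.left := (MorphismProperty.cancel_left_of_respectsIso @IsFinite _ c'.left).1
    (by rw [show pullback.fst c'.left (𝟙 _) ≫ c'.left = pullback.snd c'.left (𝟙 _) from
      pullback.condition.trans (Category.comp_id _)]; exact h1)
  refine ⟨this, fun v => ?_⟩
  have := AlgSpCov.RankBound.flat_over_field c'.left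
  exact le_of_eq_of_le (Scheme.Hom.finrank_pullback_snd c'.left (𝟙 _) v).symm (h2 v)

end Groth.Agent.S10426
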