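import Groth.Statements.S10427
import Groth.Agent.AlgSpCov.UnivBddOps
-- import your own Groth.Agent.* helpers here

set_option autoImplicit false
universe u
open CategoryTheory CategoryTheory.Limits AlgebraicGeometry Topology TopologicalSpace
open AlgSp

set_option backward.isDefEq.respectTransparency false

namespace Groth.Agent.S10427

open Groth.Agent

/-- Let X be an algebraic space over a scheme S and U ⟶ V ⟶ X with U, V schemes, U ⟶ V surjective and
flat. If U ⟶ X has universally bounded fibres, then so does V ⟶ X. -/
theorem result {S : Scheme.{u}} (X : AlgSp.Space S) {U V : Over S} (f : U ⟶ V)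
    [Surjective f.left] [Flat f.left] (h : (AlgSp.yon S).obj V ⟶ X.obj) (hg : W4dec.HasUnivBddFibres ((AlgSp.yon S).map f ≫ h)) :
    W4dec.HasUnivBddFibres h := by
  obtain ⟨n, hn⟩ := hg
  refine ⟨n, fun q T c snd sq => ?_⟩
  obtain ⟨snd', rfl⟩ := (AlgSp.yon S).map_surjective snd
  let T' : Over S := Over.mk (pullback.fst snd'.left f.left ≫ T.hom)
  let p : T' ⟶ T := Over.homMk (pullback.fst snd'.left f.left) rfl
  let r : T' ⟶ U := Over.homMk (pullback.snd snd'.left f.left) (by
    show pullback.snd snd'.left f.left ≫ U.hom = pullback.fst snd'.left f.left ≫ T.hom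
    rw [← Over.w f, ← pullback.condition_assoc, Over.w snd'])
  have sq' : IsPullback p r snd' f :=
    IsPullback.of_map (Over.forget S) (Over.OverMorphism.ext pullback.condition)
      (IsPullback.of_hasPullback snd'.left f.left)
  have big := (sq'.map (AlgSp.yon S)).paste_horiz sq
  rw [← Functor.map_comp] at big
  obtain ⟨h1, h2⟩ := hn q T' (p ≫ c) _ big
  have : Surjective p.left := MorphismProperty.pullback_fst (P := @Surjective) _ _ inferInstance
  have : Flat p.left := MorphismProperty.pullback_fst (P := @Flat) _ _ inferInstance
  exact AlgSpCov.UnivBddOps.bdd_of_surjective_flat p.left c.left ⟨h1, h2⟩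

end Groth.Agent.S10427
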