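import Groth.Statements.S10430
import Groth.Agent.AlgSpCov.UnivBddOps
import Groth.Agent.AlgSpD.DecentCrit
import Groth.Agent.AlgSpD.MonoPoint
-- import your own Groth.Agent.* helpers here

set_option autoImplicit false
universe u
open CategoryTheory CategoryTheory.Limits AlgebraicGeometry Topology TopologicalSpace
open AlgSp

set_option backward.isDefEq.respectTransparency false

namespace Groth.Agent.S10430

open Groth.Agent

/-- If every etale morphism U ⟶ X from an affine scheme to the algebraic space X has universally bounded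
fibres, then X is decent. -/
theorem result {S : Scheme.{u}} (X : AlgSp.Space S)
    (h : ∀ (U : Over S) (φ : (AlgSp.yon S).obj U ⟶ X.obj), IsAffine U.left → AlgSp.RepWith @Etale φ → W4dec.HasUnivBddFibres φ) :
    AlgSp.IsDecent X.obj := by
  intro x
  obtain ⟨U, a, u, hU, ha, hu⟩ := AlgSpD.exists_affine_chart X x
  obtain ⟨n, hn⟩ := h U a hU ha
  obtain ⟨R, t, s, hR⟩ := AlgSpB.exists_pullback_yon (X.property.representable_from_yon a) a
  have hb := AlgSpCov.UnivBddOps.bdd_of_sq hn hR
  obtain ⟨p, hp, hm, -⟩ := AlgSpD.exists_mono_of_chart X a ha s t hR u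
    ((AlgSpCov.UnivBddOps.finite_fibre_of_bdd hb u).subset fun r hr => hr.1)
  refine ⟨p, hp.trans hu, hm, AlgSpD.repWith_quasiCompact_of_finite' X p hm fun V b hV hbe => ?_⟩
  obtain ⟨m, hm'⟩ := h V b hV hbe
  exact Set.finite_of_encard_le_coe (AlgSpCov.encard_fibre_le (X.property.representable_from_yon b) hm' _)

end Groth.Agent.S10430
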