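import Groth.Statements.S10431
import Groth.Agent.AlgSpCov.BddCharts
import Groth.Agent.AlgSpD.DecentCrit
-- import your own Groth.Agent.* helpers here

set_option autoImplicit false
universe u
open CategoryTheory CategoryTheory.Limits AlgebraicGeometry Topology TopologicalSpace
open AlgSp

set_option backward.isDefEq.respectTransparency false

namespace Groth.Agent.S10431

open Groth.Agent

/-- Let S be a scheme, X and Y algebraic spaces over S, and X ⟶ Y a representable morphism. If every
etale morphism from an affine scheme to Y has universally bounded fibres, then so does every etale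
morphism from an affine scheme to X. -/
theorem result {S : Scheme.{u}} {X Y : AlgSp.Space S} (f : X ⟶ Y)
    (hf : AlgSp.Representable f.hom)
    (hY : ∀ (V : Over S) (ψ : (AlgSp.yon S).obj V ⟶ Y.obj), IsAffine V.left → AlgSp.RepWith @Etale ψ → W4dec.HasUnivBddFibres ψ)
    (U : Over S) (φ : (AlgSp.yon S).obj U ⟶ X.obj) (hU : IsAffine U.left) (hφ : AlgSp.RepWith @Etale φ) :
    W4dec.HasUnivBddFibres φ := by
  have : IsAffine U.left := hU
  choose V b v hV hb hv using fun y => AlgSpD.exists_affine_chart Y (AlgSp.Points.map f.hom y)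
  choose W c a hsq using fun y => hf (b y)
  refine AlgSpCov.BddCharts.hasUnivBdd_of_family X W a
    (fun y => AlgSpCov.repWith_bc (hsq y).flip (hb y)) (fun y => ?_)
    (fun y => ?_) φ hφ
  · have e := (hv y).symm
    rw [AlgSp.Points.ofPt_eq_map_ofScheme] at e
    obtain ⟨z, hz, -⟩ := AlgSpB.exists_of_isPullback (hsq y) y (AlgSp.Points.ofScheme (V y) (v y)) e
    exact ⟨y, AlgSp.Points.toScheme (W y) z, by
      rw [AlgSp.Points.ofPt_eq_map_ofScheme, AlgSp.Points.ofScheme_toScheme, hz]⟩
  · obtain ⟨n, hn⟩ := hY (V y) (b y) (hV y) (hb y)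
    exact ⟨n, AlgSpCov.BddCharts.degFibresLE_bc (hsq y).flip hn⟩

end Groth.Agent.S10431
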