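import Groth.Statements.S10432
import Groth.Agent.S10426
import Groth.Agent.AlgSpB.Open
-- import your own Groth.Agent.* helpers here

set_option autoImplicit false
universe u
open CategoryTheory CategoryTheory.Limits AlgebraicGeometry Topology TopologicalSpace
open AlgSp

set_option backward.isDefEq.respectTransparency false

namespace Groth.Agent.S10432

open Groth.Agent

/-- Let X be an algebraic space over a scheme S with a Zariski covering by open subspaces X_i ⟶ X such
that every etale morphism from an affine scheme to X_i has universally bounded fibres. Then every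
etale morphism from an affine scheme to X has universally bounded fibres. -/
theorem result {S : Scheme.{u}} (X : AlgSp.Space S) {ι : Type u}
    (Xi : ι → AlgSp.Space S) (j : ∀ i, Xi i ⟶ X) (hj : AlgSp.IsZarCover (fun i => (Xi i).obj) (fun i => (j i).hom))
    (h : ∀ (i : ι) (V : Over S) (ψ : (AlgSp.yon S).obj V ⟶ (Xi i).obj), IsAffine V.left → AlgSp.RepWith @Etale ψ → W4dec.HasUnivBddFibres ψ)
    (U : Over S) (φ : (AlgSp.yon S).obj U ⟶ X.obj) (hU : IsAffine U.left) (hφ : AlgSp.RepWith @Etale φ) :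
    W4dec.HasUnivBddFibres φ := by
  classical
  have : IsAffine U.left := hU
  have key : ∀ u : ↥U.left, ∃ (O : U.left.Opens) (n : ℕ), u ∈ O ∧
      W4dec.DegFibresLE n ((AlgSp.yon S).map (Over.homMk O.ι rfl : Over.mk (O.ι ≫ U.hom) ⟶ U) ≫ φ) := by
    intro u
    obtain ⟨i, y, hy⟩ := hj.2 (AlgSp.Points.ofPt φ u)
    obtain ⟨W, m, s, sqW⟩ := AlgSpB.exists_pullback_yon (X.property.representable_from_yon φ) φ
    obtain ⟨Q, q, c, sqQ⟩ := (hj.1 i).1 φ
    have hq : IsOpenImmersion q.left := (hj.1 i).2 _ _ _ sqQ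
    rw [AlgSp.Points.ofPt_eq_map_ofScheme] at hy
    obtain ⟨z, -, hz⟩ := AlgSpB.exists_of_isPullback sqQ y (AlgSp.Points.ofScheme U u) hy
    have hzu : q.left (AlgSp.Points.toScheme Q z) = u := by
      rw [← AlgSp.Points.toScheme_ofPt, AlgSp.Points.ofPt_eq_map_ofScheme, AlgSp.Points.ofScheme_toScheme, hz,
        AlgSp.Points.toScheme_ofScheme]
    obtain ⟨O, hO, huO, hOq⟩ := exists_isAffineOpen_mem_and_subset (x := u) (U := q.left.opensRange) ⟨_, hzu⟩
    let l : O.toScheme ⟶ Q.left := IsOpenImmersion.lift q.left O.ι (by rw [Scheme.Opens.range_ι]; exact hOq)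
    have hlq : l ≫ q.left = O.ι := IsOpenImmersion.lift_fac _ _ _
    let OV : Over S := Over.mk (O.ι ≫ U.hom)
    let L : OV ⟶ Q := Over.homMk l (by
      show l ≫ Q.hom = O.ι ≫ U.hom
      rw [← Over.w q, reassoc_of% hlq])
    have : IsOpenImmersion (l ≫ q.left) := hlq ▸ inferInstance
    have : IsOpenImmersion L.left := IsOpenImmersion.of_comp l q.left
    have hc : AlgSp.RepWith @Etale c := AlgSpCov.repWith_bc sqQ.flip hφ
    have hψ : AlgSp.RepWith @Etale ((AlgSp.yon S).map L ≫ c) := AlgSpB.repWith_etale_map_comp L hc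
    have hO' : IsAffine OV.left := hO
    obtain ⟨n, hn⟩ := h i OV _ hO' hψ
    have hm : Mono (j i).hom := Groth.Agent.AlgSpB.mono_of_isOpenImmersion (hj.1 i)
    have hsq : IsPullback (𝟙 _) ((AlgSp.yon S).map L ≫ c) (((AlgSp.yon S).map L ≫ c) ≫ (j i).hom) (j i).hom := by
      refine IsPullback.of_isLimit' ⟨Category.id_comp _⟩ (PullbackCone.IsLimit.mk _ (fun s => s.fst)
        (fun s => Category.comp_id _) (fun s => ?_) (fun s m h1 _ => by simpa using h1))
      apply (cancel_mono (j i).hom).1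
      simpa only [Category.assoc] using s.condition
    obtain ⟨n', hn'⟩ := S10426.result (j i) (hj.1 i).1 _ (𝟙 _) _ hsq (by
      rintro _ ⟨v, rfl⟩
      exact ⟨_, AlgSp.Points.map_ofPt _ _ _⟩) ⟨n, hn⟩
    refine ⟨O, n', huO, ?_⟩
    have e : (AlgSp.yon S).map (Over.homMk O.ι rfl : OV ⟶ U) ≫ φ = ((AlgSp.yon S).map L ≫ c) ≫ (j i).hom := by
      rw [Category.assoc, sqQ.w, ← Category.assoc, ← Functor.map_comp]
      congr 2
      exact Over.OverMorphism.ext hlq.symm
    rw [e]
    exact hn'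
  choose O n huO hn using key
  obtain ⟨t, ht⟩ := isCompact_univ.elim_finite_subcover (fun u => (O u : Set ↥U.left)) (fun u => (O u).2)
    fun u _ => Set.mem_iUnion.2 ⟨u, huO u⟩
  refine ⟨∑ u : t, n u.1, fun q T c snd sq => ?_⟩
  obtain ⟨snd', rfl⟩ := (AlgSp.yon S).map_surjective snd
  refine AlgSpCov.RankBound.bdd_of_cover c.left (fun u : t => snd'.left ⁻¹ᵁ O u.1) ?_ _ fun u => ?_
  · refine TopologicalSpace.Opens.ext (Set.eq_univ_of_forall fun x : ↥T.left => ?_)
    obtain ⟨u, hu, hx⟩ := Set.mem_iUnion₂.1 (ht (Set.mem_univ (snd'.left x)))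
    exact TopologicalSpace.Opens.mem_iSup.2 ⟨⟨u, hu⟩, hx⟩
  · let T' : Over S := Over.mk ((snd'.left ⁻¹ᵁ O u.1).ι ≫ T.hom)
    let p : T' ⟶ T := Over.homMk (snd'.left ⁻¹ᵁ O u.1).ι rfl
    let r : T' ⟶ Over.mk ((O u.1).ι ≫ U.hom) := Over.homMk (snd'.left ∣_ O u.1) (by
      show (snd'.left ∣_ O u.1) ≫ (O u.1).ι ≫ U.hom = (snd'.left ⁻¹ᵁ O u.1).ι ≫ T.hom
      rw [morphismRestrict_ι_assoc, Over.w snd'])
    have sq' : IsPullback p r snd' (Over.homMk (O u.1).ι rfl) :=
      IsPullback.of_map (Over.forget S) (Over.OverMorphism.ext (morphismRestrict_ι snd'.left (O u.1)).symm)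
        (isPullback_morphismRestrict snd'.left (O u.1)).flip
    have big := (sq'.map (AlgSp.yon S)).paste_horiz sq
    rw [← Functor.map_comp] at big
    exact hn u.1 q T' (p ≫ c) _ big

end Groth.Agent.S10432
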