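import Groth.Statements.S10433
import Groth.Agent.AlgSpCov.DegreeStrata
-- import your own Groth.Agent.* helpers here

set_option autoImplicit false
universe u
open CategoryTheory CategoryTheory.Limits AlgebraicGeometry Topology TopologicalSpace
open AlgSp

set_option backward.isDefEq.respectTransparency false

namespace Groth.Agent.S10433

open Groth.Agent Groth.Agent.AlgSpCov

/-- Let S be a scheme, X an algebraic space over S, W a scheme over S, and W ⟶ X a morphism which is
flat, separated, locally of finite presentation and locally quasi-finite, with universally bounded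
fibres. Then X has closed subspaces, each reduced, ∅ = Z_{-1} ⊆ Z_0 ⊆ ⋯ ⊆ Z_n with |Z_n| = |X| such
that, putting X_r = Z_r ∖ Z_{r-1}, for every morphism g : T ⟶ X the second projection W ×_X T ⟶ T is
a finite locally free morphism of degree r exactly when g(|T|) ⊆ |X_r|. (Indexing: Zs 0 = Z_{-1}, Zs
(r+1) = Z_r.) -/
theorem result {S : Scheme.{u}} (X : AlgSp.Space S) {W : Over S}
    (w : (AlgSp.yon S).obj W ⟶ X.obj) (hfl : AlgSp.RepWith @Flat w) (hfp : AlgSp.RepWith @LocallyOfFinitePresentation w)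
    (hsep : AlgSp.RepWith @IsSeparated w) (hqf : AlgSp.RepWith @LocallyQuasiFinite w) (hb : W4dec.HasUnivBddFibres w) :
    ∃ (n : ℕ) (Zs : ℕ → AlgSp.Space S) (i : ∀ r, Zs r ⟶ X),
      (∀ r, AlgSp.IsRedInduced (Set.range (AlgSp.Points.map (i r).hom)) (i r).hom) ∧
      IsEmpty (AlgSp.Points (Zs 0).obj) ∧ Set.range (AlgSp.Points.map (i (n + 1)).hom) = Set.univ ∧
      (∀ r, Set.range (AlgSp.Points.map (i r).hom) ⊆ Set.range (AlgSp.Points.map (i (r + 1)).hom)) ∧
      ∀ (r : ℕ) (T : AlgSp.Space S) (g : T ⟶ X) (P : AlgSp.Sp S) (fst : P ⟶ (AlgSp.yon S).obj W) (snd : P ⟶ T.obj),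
        IsPullback fst snd w g.hom →
          (AlgSp.IsFinLocFreeOfDegMor r snd ↔
            Set.range (AlgSp.Points.map g.hom) ⊆
              Set.range (AlgSp.Points.map (i (r + 1)).hom) \ Set.range (AlgSp.Points.map (i r).hom)) := by
  obtain ⟨n, hn⟩ := hb
  obtain ⟨d, hdn, hd0, hdc, hd⟩ := DegStrata.exists_degree hfl hfp hsep hqf hn
  choose Z i hZ hi using fun r : ℕ =>
    AlgSpB.exists_redInduced X.property {x | d x ≤ (r : ℤ) - 1} (hdc _)
  let Zs : ℕ → AlgSp.Space S := fun r => ⟨Z r, hZ r⟩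
  let I : ∀ r, Zs r ⟶ X := fun r => ObjectProperty.homMk (i r)
  have hr : ∀ r, Set.range (AlgSp.Points.map (I r).hom) = {x | d x ≤ (r : ℤ) - 1} := fun r => (hi r).2.1
  refine ⟨n, Zs, I, fun r => ?_, ?_, ?_, fun r => ?_, ?_⟩
  · refine ⟨(hi r).1, rfl, (hi r).2.2⟩
  · refine ⟨fun z => ?_⟩
    have h := (hr 0).subset ⟨z, rfl⟩
    have := hd0 (AlgSp.Points.map (I 0).hom z)
    simp only [Set.mem_ofPred_eq] at h
    omega
  · rw [hr]
    exact Set.eq_univ_of_forall fun x => by
      have := hdn x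
      simp only [Set.mem_ofPred_eq]
      push_cast
      omega
  · rw [hr, hr]
    intro x hx
    simp only [Set.mem_ofPred_eq] at hx ⊢
    push_cast
    omega
  intro r T g P fst snd sq
  have hset : Set.range (AlgSp.Points.map (I (r + 1)).hom) \ Set.range (AlgSp.Points.map (I r).hom) =
      {x | d x = r} := by
    rw [hr, hr]
    ext x
    simp only [Set.mem_sdiff, Set.mem_ofPred_eq]
    push_cast
    omega
  rw [hset]
  have hsndR : AlgSp.Representable snd := (AlgSpCov.repWith_bc sq hfl).1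
  constructor
  · rintro h _ ⟨y, rfl⟩
    obtain ⟨U, a, u, ha, rfl⟩ := AlgSpD.exists_chart T y
    obtain ⟨Q, π, f, sq'⟩ := hsndR a
    have big := sq'.paste_horiz sq
    obtain ⟨i1, i2, i3, i4, i5⟩ := DegStrata.good hfl hfp hsep hqf hn big
    have hfin : ∀ u, (π.left ⁻¹' {u}).Finite := fun u => (i5.finite_and_le u).1
    rw [Set.mem_ofPred_eq, AlgSp.Points.map_ofPt, hd U Q _ _ π big u]
    exact (DegStrata.finLocFreeOfDeg_iff hfin r).1 (h.2 _ _ _ sq') u
  · intro h
    refine ⟨hsndR, fun U Q t f π sq' => ?_⟩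
    have big := sq'.paste_horiz sq
    obtain ⟨i1, i2, i3, i4, i5⟩ := DegStrata.good hfl hfp hsep hqf hn big
    have hfin : ∀ u, (π.left ⁻¹' {u}).Finite := fun u => (i5.finite_and_le u).1
    refine (DegStrata.finLocFreeOfDeg_iff hfin r).2 fun u => ?_
    rw [← hd U Q _ _ π big u]
    exact h ⟨AlgSp.Points.ofPt t u, AlgSp.Points.map_ofPt t g.hom u⟩

end Groth.Agent.S10433
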