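import Groth.Statements.S1044
import Groth.Agent.CohDerLib.Kosz.Geom
import Groth.Agent.DTrunc.DerivedPushAdj
import Groth.Agent.KFlat.FlatPull

set_option autoImplicit false
universe u
open CategoryTheory CategoryTheory.Limits AlgebraicGeometry
attribute [local instance] HasDerivedCategory.standard
open Perf
-- elaborate the statement with the same instances as the frozen one
attribute [-instance] CategoryTheory.ReflQuiver.toQuiver

namespace Groth.Agent.S1044

/-- Let A be a ring, f₁, …, f_r elements of A, X = Spec A, U ⊆ X the open complement of V(f₁, …, f_r)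
with inclusion j, and K the perfect object of D(O_X) associated with the Koszul complex on f₁, …,
f_r. Assuming Rj_* exists (and tilde is recorded as exact), for E ∈ D(O_X) with quasi-coherent
cohomology sheaves the following are equivalent: E is of the form Rj_*M for some M ∈ D_QCoh(O_U)
(equivalently E = Rj_*(E|_U)); every morphism K[n] ⟶ E, n ∈ ℤ, is zero. -/
theorem result (A : Type u) [CommRing A] (fs : List A) [PreservesFiniteLimits (tilde.functor (CommRingCat.of A))]
    [DCoh.HasRpush (LocCoh.puncturedOpen A (Ideal.span {a | a ∈ fs})).ι]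
    (E : DCoh.D (Spec (CommRingCat.of A))) (hE : DCoh.IsQCohD E) :
    (∃ M : DCoh.D (LocCoh.puncturedOpen A (Ideal.span {a | a ∈ fs}) : Scheme.{u}), DCoh.IsQCohD M ∧
        Nonempty (E ≅ (DCoh.Rpush (LocCoh.puncturedOpen A (Ideal.span {a | a ∈ fs})).ι).obj M)) ↔
    ∀ (n : ℤ) (φ : ((DCoh.tildeD (CommRingCat.of A)).obj (DerivedCategory.Q.obj (Koszul.koszul A fs)))⟦n⟧ ⟶ E), φ = 0 := by
  let U := Groth.Agent.CohDerLib.Kosz.U fs
  obtain ⟨adj⟩ : Nonempty (DCoh.restrictD U.ι ⊣ DCoh.Rpush U.ι) :=
    Groth.Agent.DTrunc.DerivedPushAdj.nonempty_adjunction (DCoh.Rpush U.ι)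
      ((DCoh.pushKh U.ι).totalRightDerivedUnit DerivedCategory.Qh
        (HomotopyCategory.quasiIso (U : Scheme.{u}).Modules (ComplexShape.up ℤ)))
      (Scheme.Modules.restrictAdjunction U.ι)
  constructor
  · rintro ⟨M, -, ⟨e⟩⟩ n φ
    refine (cancel_mono e.hom).1 ?_
    rw [zero_comp]
    exact Groth.Agent.CohDerLib.Kosz.hom_to_Rpush_eq_zero fs adj n M _
  · intro h
    obtain ⟨T, hT, hN, hC, hhom, hiso⟩ := Groth.Agent.CohDerLib.Kosz.exists_model fs adj E hE
    have : IsIso (adj.unit.app E) := by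
      rw [DerivedCategory.isIso_iff]
      intro i
      exact (hiso i).2 (Groth.Agent.CohDerLib.Kosz.isIso_of_orth_le fs T hT hN hC (i + 1)
        (fun n _ => (hhom (-n)).1 (h (-n))) i (by omega))
    exact ⟨_, Groth.Agent.CohDerLib.Kosz.isQCohD_restrictD _ hE, ⟨asIso (adj.unit.app E)⟩⟩

end Groth.Agent.S1044
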