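import Groth.Statements.S10441
import Groth.Agent.AlgSpCov.ElemNbhdCofiltered
-- import your own Groth.Agent.* helpers here

set_option autoImplicit false
universe u
open CategoryTheory CategoryTheory.Limits AlgebraicGeometry Topology TopologicalSpace
open AlgSp

set_option backward.isDefEq.respectTransparency false

namespace Groth.Agent.S10441

open Groth.Agent

/-- For a decent algebraic space X over a scheme S and x ∈ |X|, fix an elementary etale neighbourhood
(U₀, u₀) of (X, x) and a henselization R of O_{U₀, u₀} (a model of the henselian local ring at x).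
The following are equivalent: (1) O_{U, u} has exactly one minimal prime whenever (U, u) is an
elementary etale neighbourhood of (X, x); (2) a unique irreducible component of U passes through u
for all such (U, u); (3) O_{U, u} is unibranch for all such (U, u); (4) R has exactly one minimal
prime. -/
theorem result {S : Scheme.{u}} (X : AlgSp.Space S)
    (hX : AlgSp.IsDecent X.obj) (x : AlgSp.Points X.obj) {U₀ : Over S}
    (a₀ : (AlgSp.yon S).obj U₀ ⟶ X.obj) (u₀ : ↥U₀.left) (h₀ : AlgSp.IsElemEtaleNbhd a₀ u₀ x)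
    (R : Type u) [CommRing R] [IsLocalRing R] [Algebra ↥(U₀.left.presheaf.stalk u₀) R]
    [IsLocalHom (algebraMap ↥(U₀.left.presheaf.stalk u₀) R)] [Hensel.IsHenselization ↥(U₀.left.presheaf.stalk u₀) R] :
    ((∀ (U : Over S) (a : (AlgSp.yon S).obj U ⟶ X.obj) (u : ↥U.left), AlgSp.IsElemEtaleNbhd a u x →
        CAlgX.HasUniqueMinimalPrime ↥(U.left.presheaf.stalk u)) ↔
      (∀ (U : Over S) (a : (AlgSp.yon S).obj U ⟶ X.obj) (u : ↥U.left), AlgSp.IsElemEtaleNbhd a u x →
        {Z : Set ↥U.left | Z ∈ irreducibleComponents ↥U.left ∧ u ∈ Z}.encard = 1)) ∧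
    ((∀ (U : Over S) (a : (AlgSp.yon S).obj U ⟶ X.obj) (u : ↥U.left), AlgSp.IsElemEtaleNbhd a u x →
        {Z : Set ↥U.left | Z ∈ irreducibleComponents ↥U.left ∧ u ∈ Z}.encard = 1) ↔
      (∀ (U : Over S) (a : (AlgSp.yon S).obj U ⟶ X.obj) (u : ↥U.left), AlgSp.IsElemEtaleNbhd a u x →
        CAlg2.IsUnibranch ↥(U.left.presheaf.stalk u))) ∧
    ((∀ (U : Over S) (a : (AlgSp.yon S).obj U ⟶ X.obj) (u : ↥U.left), AlgSp.IsElemEtaleNbhd a u x →
        CAlg2.IsUnibranch ↥(U.left.presheaf.stalk u)) ↔ CAlgX.HasUniqueMinimalPrime R) := by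
  have huniq : ∀ (A : Type u) [CommRing A], CAlgX.HasUniqueMinimalPrime A ↔ (minimalPrimes A).encard = 1 :=
    fun A _ => by
      rw [Set.encard_eq_one]
      exact ⟨fun ⟨P, hP, hu⟩ => ⟨P, Set.eq_singleton_iff_unique_mem.2 ⟨hP, hu⟩⟩,
        fun ⟨P, hP⟩ => ⟨P, by rw [hP]; exact Set.mem_singleton P, fun Q hQ => by rw [hP] at hQ; exact hQ⟩⟩
  have hnb : ∀ (U : Scheme.{u}) (u : U),
      (CAlg2.IsUnibranch ↥(U.presheaf.stalk u) ↔ Brnch.numBranchesAt U u = 1) := fun U u =>
    (Hens.numBranches_eq_one_iff (A := ↥(U.presheaf.stalk u))).symm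
  refine ⟨?_, ?_, ?_⟩
  · refine forall_congr' fun U => forall_congr' fun a => forall_congr' fun u => imp_congr_right fun _ => ?_
    rw [huniq, Hens.encard_components_eq]
  · refine ⟨fun h U a u hu => ?_, fun h U a u hu => ?_⟩
    · refine (Hens.isUnibranch_stalk_iff U.left u).2 fun W g w hw => ?_
      exact h (Over.mk (g ≫ U.hom)) _ w
        (AlgSpCov.ElemNbhd.elem_comp hu (Over.homMk g rfl : Over.mk (g ≫ U.hom) ⟶ U) w hw)
    · exact (Hens.isUnibranch_stalk_iff U.left u).1 (h U a u hu) U.left (𝟙 _) u (Hens.isEtaleNbhd_id _ u)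
  · have hR : (minimalPrimes R).encard = Brnch.numBranchesAt U₀.left u₀ := by
      rw [← ENat.card_coe_set_eq]
      exact S9237.result ↥(U₀.left.presheaf.stalk u₀) R
    rw [huniq, hR]
    refine ⟨fun h => (hnb _ _).1 (h U₀ a₀ u₀ h₀), fun h U a u hu => (hnb _ _).2 ?_⟩
    rw [AlgSpCov.ElemNbhd.numBranchesAt_eq X.property hu h₀, h]

end Groth.Agent.S10441
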