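import Groth.Statements.S10442
import Groth.Agent.AlgSpCov.ElemNbhdCofiltered
-- import your own Groth.Agent.* helpers here

set_option autoImplicit false
universe u
open CategoryTheory CategoryTheory.Limits AlgebraicGeometry Topology TopologicalSpace
open AlgSp

set_option backward.isDefEq.respectTransparency false

namespace Groth.Agent.S10442

open Groth.Agent

/-- For a decent algebraic space X over a scheme S, x ∈ |X| and n ≥ 1, fix an elementary etale
neighbourhood (U₀, u₀) of (X, x) and a henselization R of O_{U₀, u₀} (a model of the henselian local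
ring at x). The following are equivalent: (1) over all elementary etale neighbourhoods (U, u) of (X,
x), O_{U, u} has at most n minimal primes, with the value n attained; (2) the same for the number of
irreducible components of U through u; (3) the same for the branch number of U at u; (4) R has
exactly n minimal primes. -/
theorem result {S : Scheme.{u}} (X : AlgSp.Space S)
    (hX : AlgSp.IsDecent X.obj) (x : AlgSp.Points X.obj) (n : ℕ) (hn : 1 ≤ n) {U₀ : Over S}
    (a₀ : (AlgSp.yon S).obj U₀ ⟶ X.obj) (u₀ : ↥U₀.left) (h₀ : AlgSp.IsElemEtaleNbhd a₀ u₀ x)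
    (R : Type u) [CommRing R] [IsLocalRing R] [Algebra ↥(U₀.left.presheaf.stalk u₀) R]
    [IsLocalHom (algebraMap ↥(U₀.left.presheaf.stalk u₀) R)] [Hensel.IsHenselization ↥(U₀.left.presheaf.stalk u₀) R] :
    (((∀ (U : Over S) (a : (AlgSp.yon S).obj U ⟶ X.obj) (u : ↥U.left), AlgSp.IsElemEtaleNbhd a u x →
        (minimalPrimes ↥(U.left.presheaf.stalk u)).encard ≤ n) ∧
      (∃ (U : Over S) (a : (AlgSp.yon S).obj U ⟶ X.obj) (u : ↥U.left), AlgSp.IsElemEtaleNbhd a u x ∧
        (minimalPrimes ↥(U.left.presheaf.stalk u)).encard = n)) ↔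
     ((∀ (U : Over S) (a : (AlgSp.yon S).obj U ⟶ X.obj) (u : ↥U.left), AlgSp.IsElemEtaleNbhd a u x →
        {Z : Set ↥U.left | Z ∈ irreducibleComponents ↥U.left ∧ u ∈ Z}.encard ≤ n) ∧
      (∃ (U : Over S) (a : (AlgSp.yon S).obj U ⟶ X.obj) (u : ↥U.left), AlgSp.IsElemEtaleNbhd a u x ∧
        {Z : Set ↥U.left | Z ∈ irreducibleComponents ↥U.left ∧ u ∈ Z}.encard = n))) ∧
    (((∀ (U : Over S) (a : (AlgSp.yon S).obj U ⟶ X.obj) (u : ↥U.left), AlgSp.IsElemEtaleNbhd a u x →
        {Z : Set ↥U.left | Z ∈ irreducibleComponents ↥U.left ∧ u ∈ Z}.encard ≤ n) ∧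
      (∃ (U : Over S) (a : (AlgSp.yon S).obj U ⟶ X.obj) (u : ↥U.left), AlgSp.IsElemEtaleNbhd a u x ∧
        {Z : Set ↥U.left | Z ∈ irreducibleComponents ↥U.left ∧ u ∈ Z}.encard = n)) ↔
     ((∀ (U : Over S) (a : (AlgSp.yon S).obj U ⟶ X.obj) (u : ↥U.left), AlgSp.IsElemEtaleNbhd a u x →
        Brnch.numBranchesAt U.left u ≤ n) ∧
      (∃ (U : Over S) (a : (AlgSp.yon S).obj U ⟶ X.obj) (u : ↥U.left), AlgSp.IsElemEtaleNbhd a u x ∧
        Brnch.numBranchesAt U.left u = n))) ∧
    (((∀ (U : Over S) (a : (AlgSp.yon S).obj U ⟶ X.obj) (u : ↥U.left), AlgSp.IsElemEtaleNbhd a u x →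
        Brnch.numBranchesAt U.left u ≤ n) ∧
      (∃ (U : Over S) (a : (AlgSp.yon S).obj U ⟶ X.obj) (u : ↥U.left), AlgSp.IsElemEtaleNbhd a u x ∧
        Brnch.numBranchesAt U.left u = n)) ↔
     (minimalPrimes R).encard = n) := by
  classical
  have hR : (minimalPrimes R).encard = Brnch.numBranchesAt U₀.left u₀ := by
    rw [← ENat.card_coe_set_eq]
    exact S9237.result ↥(U₀.left.presheaf.stalk u₀) R
  have hle : ∀ (U : Over S) (a : (AlgSp.yon S).obj U ⟶ X.obj) (u : ↥U.left), AlgSp.IsElemEtaleNbhd a u x →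
      {Z : Set ↥U.left | Z ∈ irreducibleComponents ↥U.left ∧ u ∈ Z}.encard ≤ Brnch.numBranchesAt U₀.left u₀ := by
    intro U a u hu
    rw [← AlgSpCov.ElemNbhd.numBranchesAt_eq X.property hu h₀, Hens.numBranchesAt_eq_iSup]
    exact le_iSup_of_le U.left (le_iSup_of_le (𝟙 _) (le_iSup_of_le u
      (le_iSup_of_le (Hens.isEtaleNbhd_id _ u) le_rfl)))
  have hmain : ((∀ (U : Over S) (a : (AlgSp.yon S).obj U ⟶ X.obj) (u : ↥U.left), AlgSp.IsElemEtaleNbhd a u x →
        {Z : Set ↥U.left | Z ∈ irreducibleComponents ↥U.left ∧ u ∈ Z}.encard ≤ n) ∧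
      (∃ (U : Over S) (a : (AlgSp.yon S).obj U ⟶ X.obj) (u : ↥U.left), AlgSp.IsElemEtaleNbhd a u x ∧
        {Z : Set ↥U.left | Z ∈ irreducibleComponents ↥U.left ∧ u ∈ Z}.encard = n)) ↔
      Brnch.numBranchesAt U₀.left u₀ = n := by
    constructor
    · rintro ⟨h, U, a, u, hu, hn'⟩
      refine le_antisymm ?_ (hn' ▸ hle U a u hu)
      rw [Hens.numBranchesAt_eq_iSup]
      exact iSup_le fun W => iSup_le fun g => iSup_le fun w => iSup_le fun hw => h (Over.mk (g ≫ U₀.hom)) _ w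
        (AlgSpCov.ElemNbhd.elem_comp h₀ (Over.homMk g rfl : Over.mk (g ≫ U₀.hom) ⟶ U₀) w hw)
    · intro h
      refine ⟨fun U a u hu => h ▸ hle U a u hu, ?_⟩
      by_contra hne
      push Not at hne
      have hb : Brnch.numBranchesAt U₀.left u₀ ≤ ((n - 1 : ℕ) : ℕ∞) := by
        rw [Hens.numBranchesAt_eq_iSup]
        refine iSup_le fun W => iSup_le fun g => iSup_le fun w => iSup_le fun hw => ?_
        have hu := AlgSpCov.ElemNbhd.elem_comp h₀ (Over.homMk g rfl : Over.mk (g ≫ U₀.hom) ⟶ U₀) w hw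
        obtain ⟨m, hm⟩ := ENat.ne_top_iff_exists.1
          (ne_top_of_le_ne_top (ENat.coe_ne_top n) (h ▸ hle (Over.mk (g ≫ U₀.hom)) _ w hu))
        have h1 := h ▸ hle (Over.mk (g ≫ U₀.hom)) _ w hu
        have h2 := hne (Over.mk (g ≫ U₀.hom)) _ w hu
        change {Z : Set ↥W | Z ∈ irreducibleComponents ↥W ∧ w ∈ Z}.encard ≠ _ at h2
        change (m : ℕ∞) = {Z : Set ↥W | Z ∈ irreducibleComponents ↥W ∧ w ∈ Z}.encard at hm
        change {Z : Set ↥W | Z ∈ irreducibleComponents ↥W ∧ w ∈ Z}.encard ≤ _ at h1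
        rw [← hm] at h1 h2 ⊢
        norm_cast at h1 h2 ⊢
        omega
      rw [h] at hb
      norm_cast at hb
      omega
  have hnum : ((∀ (U : Over S) (a : (AlgSp.yon S).obj U ⟶ X.obj) (u : ↥U.left), AlgSp.IsElemEtaleNbhd a u x →
        Brnch.numBranchesAt U.left u ≤ n) ∧
      (∃ (U : Over S) (a : (AlgSp.yon S).obj U ⟶ X.obj) (u : ↥U.left), AlgSp.IsElemEtaleNbhd a u x ∧
        Brnch.numBranchesAt U.left u = n)) ↔ Brnch.numBranchesAt U₀.left u₀ = n := by
    constructor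
    · rintro ⟨-, U, a, u, hu, hn'⟩
      rw [← AlgSpCov.ElemNbhd.numBranchesAt_eq X.property hu h₀, hn']
    · exact fun h => ⟨fun U a u hu => (AlgSpCov.ElemNbhd.numBranchesAt_eq X.property hu h₀).trans h |>.le,
        U₀, a₀, u₀, h₀, h⟩
  refine ⟨?_, hmain.trans hnum.symm, hnum.trans (by rw [hR])⟩
  refine and_congr (forall_congr' fun U => forall_congr' fun a => forall_congr' fun u => imp_congr_right fun _ => ?_)
    (exists_congr fun U => exists_congr fun a => exists_congr fun u => and_congr_right fun _ => ?_)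
  · rw [Hens.encard_components_eq]
  · rw [Hens.encard_components_eq]

end Groth.Agent.S10442
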