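import Groth.Statements.S10444
import Groth.Agent.AlgSpD.PointFibre


set_option autoImplicit false
set_option backward.isDefEq.respectTransparency false
universe u
open CategoryTheory CategoryTheory.Limits AlgebraicGeometry Topology TopologicalSpace
open AlgSp
open Groth.Agent.AlgSpD

namespace Groth.Agent.S10444

/-- Take f : X ⟶ Y locally of finite type between algebraic spaces over a scheme S, a field-valued point
Spec k ⟶ Y whose class y ∈ |Y| lies in the image of |f|, the fibre product X_k = Spec k ×_Y X, and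
the fibre F = |f|⁻¹(y) ⊆ |X| with the induced topology. Numbering the conditions (1) F finite, (2) F
discrete, (3) dim F = 0, (4) |X_k| finite, (5) |X_k| discrete, (6) dim |X_k| = 0, (7) dim X_k = 0,
(8) f quasi-finite at all points over y: (5) ⇔ (7) ⇔ (8); (5) ⇒ (6), with the converse when X_k is
decent; (4) ⇒ (5) when X_k is decent; (4) ⇒ (1); (2) ⇒ (3); if Y is decent then (2) ⇔ (5); if X and
Y are decent then (3) ⇒ (2) and (1) ⇒ (2). (The published statement asserts (5) ⇔ (6) for every f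
and (2) ⇔ (3) whenever Y is decent, and does not exclude an empty fibre; for the quotient of the
affine line over a field of characteristic zero by an infinite cyclic group of translations, mapping
to the point, the space of points is infinite and indiscrete, so (3) and (6) hold while (2) and (5)
fail, and for y outside the image (5) holds while (6) and (7) fail; hence the decency hypotheses on
those two converses and the hypothesis that y is in the image. Finiteness of |X_k| for an arbitrary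
field k in the class of y is not derived here from (1).) -/
theorem result {S : Scheme.{u}} {X Y : AlgSp.Space S} (f : X ⟶ Y)
    (hf : AlgSp.LocP @LocallyOfFiniteType f.hom) (r : AlgSp.FieldPt Y.obj)
    (hy : AlgSp.Points.mk r ∈ Set.range (AlgSp.Points.map f.hom)) (Xk : AlgSp.Space S) (fst : Xk ⟶ X)
    (snd : Xk.obj ⟶ (AlgSp.yon S).obj r.pt) (hsq : IsPullback fst.hom snd f.hom r.toHom) :
    (DiscreteTopology (AlgSp.Points Xk.obj) ↔ AlgSp.dim Xk.obj = 0) ∧
    (AlgSp.dim Xk.obj = 0 ↔
      ∀ x : AlgSp.Points X.obj, AlgSp.Points.map f.hom x = AlgSp.Points.mk r → AlgSp.HasAtMor (fun U _ h u => ∃ W : U.Opens, u ∈ W ∧ LocallyQuasiFinite (W.ι ≫ h) ∧ LocallyOfFiniteType (W.ι ≫ h)) f.hom x) ∧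
    (DiscreteTopology (AlgSp.Points Xk.obj) → topologicalKrullDim (AlgSp.Points Xk.obj) = 0) ∧
    (AlgSp.IsDecent Xk.obj → topologicalKrullDim (AlgSp.Points Xk.obj) = 0 →
      DiscreteTopology (AlgSp.Points Xk.obj)) ∧
    (AlgSp.IsDecent Xk.obj → Finite (AlgSp.Points Xk.obj) → DiscreteTopology (AlgSp.Points Xk.obj)) ∧
    (Finite (AlgSp.Points Xk.obj) → (AlgSp.Points.map f.hom ⁻¹' {AlgSp.Points.mk r}).Finite) ∧
    (DiscreteTopology ↥(AlgSp.Points.map f.hom ⁻¹' {AlgSp.Points.mk r}) → topologicalKrullDim ↥(AlgSp.Points.map f.hom ⁻¹' {AlgSp.Points.mk r}) = 0) ∧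
    (AlgSp.IsDecent Y.obj → (DiscreteTopology ↥(AlgSp.Points.map f.hom ⁻¹' {AlgSp.Points.mk r}) ↔ DiscreteTopology (AlgSp.Points Xk.obj))) ∧
    (AlgSp.IsDecent Y.obj → AlgSp.IsDecent X.obj →
      (topologicalKrullDim ↥(AlgSp.Points.map f.hom ⁻¹' {AlgSp.Points.mk r}) = 0 → DiscreteTopology ↥(AlgSp.Points.map f.hom ⁻¹' {AlgSp.Points.mk r})) ∧
        ((AlgSp.Points.map f.hom ⁻¹' {AlgSp.Points.mk r}).Finite → DiscreteTopology ↥(AlgSp.Points.map f.hom ⁻¹' {AlgSp.Points.mk r}))) := by
  have c := PointFibre.conds_fibre f hf r Xk fst snd hsq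
  have hsurj : ∀ x : AlgSp.Points X.obj, AlgSp.Points.map f.hom x = AlgSp.Points.mk r →
      ∃ z : AlgSp.Points Xk.obj, AlgSp.Points.map fst.hom z = x := fun x hx => by
    obtain ⟨t⟩ : Nonempty ↥r.pt.left := ⟨IsLocalRing.closedPoint r.K⟩
    obtain ⟨z, hz, -⟩ := Groth.Agent.AlgSpB.exists_of_isPullback hsq x (AlgSp.Points.ofScheme r.pt t)
      (by rw [hx, ← AlgSp.Points.ofPt_eq_map_ofScheme, AlgSp.Points.ofPt_toHom])
    exact ⟨z, hz⟩
  have hmap : ∀ z : AlgSp.Points Xk.obj, AlgSp.Points.map f.hom (AlgSp.Points.map fst.hom z) = AlgSp.Points.mk r := fun z => by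
    rw [← AlgSp.Points.map_comp, hsq.w, AlgSp.Points.map_comp, ← AlgSp.Points.ofScheme_toScheme r.pt (AlgSp.Points.map snd z),
      ← AlgSp.Points.ofPt_eq_map_ofScheme, AlgSp.Points.ofPt_toHom]
  obtain ⟨x₀, hx₀⟩ := hy
  obtain ⟨z₀, -⟩ := hsurj x₀ hx₀
  have : Nonempty (AlgSp.Points Xk.obj) := ⟨z₀⟩
  have hdisc : DiscreteTopology (AlgSp.Points Xk.obj) ↔
      ∀ x : AlgSp.Points X.obj, AlgSp.Points.map f.hom x = AlgSp.Points.mk r →
        AlgSp.HasAtMor Groth.Agent.AlgSpD.LqfNear f.hom x := by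
    rw [discreteTopology_iff_isOpen_singleton]
    refine ⟨fun h x hx => ?_, fun h z => (c z).qf.2 (h _ (hmap z))⟩
    obtain ⟨z, rfl⟩ := hsurj x hx
    exact (c z).qf.1 (h z)
  have hdim : DiscreteTopology (AlgSp.Points Xk.obj) ↔ AlgSp.dim Xk.obj = 0 :=
    PointFibre.discrete_iff_dim Xk fun z => (c z).dim
  have hp : AlgSp.LocP @LocallyOfFiniteType snd :=
    Groth.Agent.AlgSpCov.locP_baseChange Groth.Agent.AlgSpCov.etaleLocal_locallyOfFiniteType X.property Y.property hsq hf
  refine ⟨hdim, hdim.symm.trans hdisc, fun h => PointFibre.krullDim_eq_zero, fun hd h => ?_, fun hd h => ?_,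
    fun h => ?_, fun h => ?_, fun hY => ?_, fun hY hX => ?_⟩
  · exact discreteTopology_iff_isOpen_singleton.2 fun z => ((c z).decent hd).1 (PointFibre.localDim_eq_zero h z)
  · exact PointFibre.discrete_of_finite (K := r.K) snd hp hd
  · exact (Set.finite_range (AlgSp.Points.map fst.hom)).subset fun x hx => hsurj x hx
  · have : Nonempty ↥(AlgSp.Points.map f.hom ⁻¹' {AlgSp.Points.mk r}) := ⟨⟨x₀, hx₀⟩⟩
    exact PointFibre.krullDim_eq_zero
  · obtain ⟨r0, X0, fst0, snd0, e, sq0, he, -⟩ := PointFibre.exists_homeo f hY (AlgSp.Points.mk r)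
    refine Iff.trans ?_ hdisc.symm
    have c0 := PointFibre.conds_fibre f hf r0 X0 fst0 snd0 sq0
    rw [discreteTopology_iff_isOpen_singleton]
    refine ⟨fun h x hx => ?_, fun h w => ?_⟩
    · have := (c0 (e.symm ⟨x, hx⟩)).qf.1 ((PointFibre.isOpen_singleton_iff e _).1 (h _))
      rwa [← he, e.apply_symm_apply] at this
    · rw [← e.apply_symm_apply w, PointFibre.isOpen_singleton_iff, (c0 _).qf, ← he, e.apply_symm_apply]
      exact h _ w.2
  · obtain ⟨r0, X0, fst0, snd0, e, sq0, he, hd⟩ := PointFibre.exists_homeo f hY (AlgSp.Points.mk r)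
    have hp0 : AlgSp.LocP @LocallyOfFiniteType snd0 :=
      Groth.Agent.AlgSpCov.locP_baseChange Groth.Agent.AlgSpCov.etaleLocal_locallyOfFiniteType X.property Y.property sq0 hf
    refine ⟨fun h => discreteTopology_iff_isOpen_singleton.2 fun w => ?_, fun h => ?_⟩
    · have c0 := PointFibre.conds_fibre f hf r0 X0 fst0 snd0 sq0 (e.symm w)
      rw [← e.apply_symm_apply w, PointFibre.isOpen_singleton_iff]
      refine (c0.decent (hd hX)).1 ?_
      rw [← Groth.Agent.EtaleDev.localDim_eq_of_homeo e, e.apply_symm_apply]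
      exact PointFibre.localDim_eq_zero h w
    · have := h.to_subtype
      have : Finite (AlgSp.Points X0.obj) := Finite.of_equiv _ e.symm.toEquiv
      have := PointFibre.discrete_of_finite (K := r0.K) snd0 hp0 (hd hX)
      exact e.symm.isEmbedding.discreteTopology

end Groth.Agent.S10444
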