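import Groth.Statements.S10445
import Groth.Agent.AlgSpD.PointFibre


set_option autoImplicit false
set_option backward.isDefEq.respectTransparency false
universe u
open CategoryTheory CategoryTheory.Limits AlgebraicGeometry Topology TopologicalSpace
open AlgSp
open Groth.Agent.AlgSpD

namespace Groth.Agent.S10445

/-- Take f : X ⟶ Y locally of finite type between algebraic spaces over a scheme S, a field-valued point
Spec k ⟶ Y with class y, the fibre product X_k = Spec k ×_Y X, x ∈ |X| over y, x̃ ∈ |X_k| over x,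
and F = |f|⁻¹(y) with the induced topology. Numbering the conditions (1) dim_x F = 0, (2) x isolated
in F, (3) x closed in F with no proper generization in F, (4) dim_{x̃} |X_k| = 0, (5) x̃ isolated in
|X_k|, (6) x̃ closed in |X_k| with no proper generization, (7) dim_{x̃}(X_k) = 0 (local dimension of
an etale chart), (8) f quasi-finite at x: (5) ⇔ (6) ⇔ (7) ⇔ (8); (4) ⇔ (5) when X_k is decent; (2) ⇔
(5) and (3) ⇔ (6) when Y is decent; (1) ⇔ (2) when X and Y are decent. -/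
theorem result {S : Scheme.{u}} {X Y : AlgSp.Space S} (f : X ⟶ Y)
    (hf : AlgSp.LocP @LocallyOfFiniteType f.hom) (r : AlgSp.FieldPt Y.obj) (Xk : AlgSp.Space S) (fst : Xk ⟶ X)
    (snd : Xk.obj ⟶ (AlgSp.yon S).obj r.pt) (hsq : IsPullback fst.hom snd f.hom r.toHom)
    (x : AlgSp.Points X.obj) (hx : x ∈ (AlgSp.Points.map f.hom ⁻¹' {AlgSp.Points.mk r})) (xt : AlgSp.Points Xk.obj)
    (hxt : AlgSp.Points.map fst.hom xt = x) :
    ((IsOpen ({xt} : Set (AlgSp.Points Xk.obj)) ↔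
      IsClosed ({xt} : Set (AlgSp.Points Xk.obj)) ∧ ∀ x' : AlgSp.Points Xk.obj, x' ⤳ xt → x' = xt) ∧
    (IsOpen ({xt} : Set (AlgSp.Points Xk.obj)) ↔ AlgSp.HasAt (fun U u => FlatMor.localDim ↥U u = 0) Xk.obj xt) ∧
    (AlgSp.HasAt (fun U u => FlatMor.localDim ↥U u = 0) Xk.obj xt ↔ AlgSp.HasAtMor (fun U _ h u => ∃ W : U.Opens, u ∈ W ∧ LocallyQuasiFinite (W.ι ≫ h) ∧ LocallyOfFiniteType (W.ι ≫ h)) f.hom x) ∧
    (AlgSp.IsDecent Xk.obj →
      (FlatMor.localDim (AlgSp.Points Xk.obj) xt = 0 ↔ IsOpen ({xt} : Set (AlgSp.Points Xk.obj)))) ∧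
    (AlgSp.IsDecent Y.obj →
      (IsOpen ({(⟨x, hx⟩ : ↥(AlgSp.Points.map f.hom ⁻¹' {AlgSp.Points.mk r}))} : Set ↥(AlgSp.Points.map f.hom ⁻¹' {AlgSp.Points.mk r})) ↔ IsOpen ({xt} : Set (AlgSp.Points Xk.obj))) ∧
      ((IsClosed ({(⟨x, hx⟩ : ↥(AlgSp.Points.map f.hom ⁻¹' {AlgSp.Points.mk r}))} : Set ↥(AlgSp.Points.map f.hom ⁻¹' {AlgSp.Points.mk r})) ∧ ∀ x' : ↥(AlgSp.Points.map f.hom ⁻¹' {AlgSp.Points.mk r}), x' ⤳ (⟨x, hx⟩ : ↥(AlgSp.Points.map f.hom ⁻¹' {AlgSp.Points.mk r})) → x' = (⟨x, hx⟩ : ↥(AlgSp.Points.map f.hom ⁻¹' {AlgSp.Points.mk r}))) ↔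
        IsClosed ({xt} : Set (AlgSp.Points Xk.obj)) ∧ ∀ x' : AlgSp.Points Xk.obj, x' ⤳ xt → x' = xt)) ∧
    (AlgSp.IsDecent Y.obj → AlgSp.IsDecent X.obj →
      (FlatMor.localDim ↥(AlgSp.Points.map f.hom ⁻¹' {AlgSp.Points.mk r}) (⟨x, hx⟩ : ↥(AlgSp.Points.map f.hom ⁻¹' {AlgSp.Points.mk r})) = 0 ↔ IsOpen ({(⟨x, hx⟩ : ↥(AlgSp.Points.map f.hom ⁻¹' {AlgSp.Points.mk r}))} : Set ↥(AlgSp.Points.map f.hom ⁻¹' {AlgSp.Points.mk r}))))) := by
  obtain rfl := hxt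
  have c := PointFibre.conds_fibre f hf r Xk fst snd hsq xt
  have key : AlgSp.IsDecent Y.obj → ∃ (X0 : AlgSp.Space S) (e : AlgSp.Points X0.obj ≃ₜ ↥(AlgSp.Points.map f.hom ⁻¹' {AlgSp.Points.mk r}))
      (z : AlgSp.Points X0.obj), e z = ⟨_, hx⟩ ∧
      PointFibre.Conds X0 (AlgSp.HasAtMor Groth.Agent.AlgSpD.LqfNear f.hom (AlgSp.Points.map fst.hom xt)) z ∧
      (AlgSp.IsDecent X.obj → AlgSp.IsDecent X0.obj) := fun hY => by
    obtain ⟨r0, X0, fst0, snd0, e, sq0, he, hd⟩ := PointFibre.exists_homeo f hY (AlgSp.Points.mk r)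
    refine ⟨X0, e, e.symm ⟨_, hx⟩, e.apply_symm_apply _, ?_, hd⟩
    have := PointFibre.conds_fibre f hf r0 X0 fst0 snd0 sq0 (e.symm ⟨_, hx⟩)
    rwa [← he, e.apply_symm_apply] at this
  refine ⟨c.closed, c.dim, c.dim.symm.trans c.qf, c.decent, fun hY => ?_, fun hY hX => ?_⟩
  · obtain ⟨X0, e, z, hz, c0, -⟩ := key hY
    have h1 := PointFibre.isOpen_singleton_iff e z
    have h2 := PointFibre.isClosed_singleton_iff e z
    rw [hz] at h1 h2
    exact ⟨h1.trans (c0.qf.trans c.qf.symm),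
      h2.trans (c0.closed.symm.trans (c0.qf.trans (c.qf.symm.trans c.closed)))⟩
  · obtain ⟨X0, e, z, hz, c0, hd⟩ := key hY
    rw [← hz, Groth.Agent.EtaleDev.localDim_eq_of_homeo e z, c0.decent (hd hX)]
    exact (PointFibre.isOpen_singleton_iff e z).symm

end Groth.Agent.S10445
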