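import Groth.Statements.S10446
import Groth.Agent.S10398
import Groth.Agent.AlgSp.QfPoint
import Groth.Agent.AlgSp.QCMor
import Groth.Agent.AlgSp.Presheaf
import Groth.Agent.AlgSpD.DecentCrit
import Groth.Agent.AlgSpD.LqfLocus
import Groth.Agent.AlgSpD.ProperMor
import Groth.Agent.AlgSp.LimImm2
import Groth.Agent.AlgSpB.Open
-- import your own Groth.Agent.* helpers here

set_option autoImplicit false
universe u
open CategoryTheory CategoryTheory.Limits AlgebraicGeometry Topology TopologicalSpace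
open AlgSp

set_option backward.isDefEq.respectTransparency false

namespace Groth.Agent.S10446

open Groth.Agent

variable {S : Scheme.{u}}

theorem finite_preimage_of_qs (X : AlgSp.Space S) (hX : AlgSp.IsQuasiSeparatedSp X.obj) {U : Over S}
    [CompactSpace ↥U.left] (a : (AlgSp.yon S).obj U ⟶ X.obj) (ha : AlgSp.RepWith @Etale a)
    {F : Set (AlgSp.Points X.obj)} (hF : F.Finite) : (AlgSp.Points.ofPt a ⁻¹' F).Finite :=
  hF.preimage' fun x _ => by
    induction x using Quotient.inductionOn with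
    | h q => exact AlgSpD.finite_preimage_of_qc_point q (AlgSpD.repWith_quasiCompact_of_qs X hX q) a ha

/-- A finite fibre consists of quasi-finite points. -/
theorem qf_of_finite_fibre {X Y : AlgSp.Space S} (f : X ⟶ Y) (hft : AlgSp.LocP @LocallyOfFiniteType f.hom)
    (hX : AlgSp.IsQuasiSeparatedSp X.obj) {x : AlgSp.Points X.obj} {y : AlgSp.Points Y.obj}
    (hxy : AlgSp.Points.map f.hom x = y) (hfin : (AlgSp.Points.map f.hom ⁻¹' {y}).Finite) :
    AlgSp.HasAtMor AlgSpD.LqfNear f.hom x := by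
  obtain ⟨V, b, v, hb, hv⟩ := AlgSpD.exists_chart Y y
  obtain ⟨U₀, a₀, u₀, hU₀, ha₀, rfl⟩ := AlgSpD.exists_affine_chart X x
  obtain ⟨U, p, h, u, ha, hp, w, hu, huv⟩ := AlgSpD.exists_diagram_over f ha₀ u₀ hb (hv.trans hxy.symm)
  have hlh := hft _ b h ha hb w
  refine (AlgSpD.hasAtMor_lqfNear_iff f.hom hft _).2 ?_
  refine ⟨U, V, _, b, h, u, ha, hb, w, by rw [AlgSpB.ofPt_map_comp, hu], ?_⟩
  change FlatMor.fibreDimAt h.left u = 0
  rw [← AlgSpD.quasiFiniteAt_iff_fibreDimAt_eq_zero, Scheme.Hom.quasiFiniteAt_iff_isOpen_singleton_asFiber]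
  obtain ⟨O, hO, huO, -⟩ := exists_isAffineOpen_mem_and_subset (x := u) (U := ⊤) trivial
  let U' : Over S := Over.mk (O.ι ≫ U.hom)
  have : IsAffine U'.left := hO
  have hfin' := finite_preimage_of_qs X hX _ (AlgSpD.repWith_etale_restrict _ ha O) hfin
  have hsub : ((O : Set ↥U.left) ∩ h.left ⁻¹' {v}).Finite := by
    refine (hfin'.image fun z : ↥O.toScheme => O.ι z).subset ?_
    rintro z ⟨hzO, hzv⟩
    refine ⟨⟨z, hzO⟩, ?_, rfl⟩
    show AlgSp.Points.map f.hom _ = y
    rw [AlgSpD.ofPt_restrict, AlgSp.Points.map_ofPt, w, AlgSpB.ofPt_map_comp]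
    show AlgSp.Points.ofPt b (h.left z) = y
    rw [show h.left z = v from hzv]
    exact hv
  let W : (h.left.fiber (h.left u)).Opens := h.left.fiberι (h.left u) ⁻¹ᵁ O
  have huW : h.left.asFiber u ∈ W := by
    show h.left.fiberι _ (h.left.asFiber u) ∈ O
    rw [h.left.fiberι_asFiber]; exact huO
  have hWfin : (W : Set ↥(h.left.fiber (h.left u))).Finite := by
    refine (hsub.preimage (h.left.fiberι _).isEmbedding.injective.injOn).subset fun z hz => ⟨hz, ?_⟩
    have hz' := Set.mem_range_self (f := h.left.fiberι (h.left u)) z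
    rw [Scheme.Hom.range_fiberι] at hz'
    exact (Set.mem_singleton_iff.1 hz').trans huv
  have : Finite ↥W.toScheme := hWfin.to_subtype
  have : LocallyOfFiniteType (h.left.fiberToSpecResidueField (h.left u)) :=
    MorphismProperty.of_isPullback (IsPullback.of_hasPullback h.left (V.left.fromSpecResidueField (h.left u))) hlh
  have hJk : JacobsonSpace ↥(Spec (V.left.residueField (h.left u))) := inferInstance
  have : JacobsonSpace ↥W.toScheme :=
    LocallyOfFiniteType.jacobsonSpace (W.ι ≫ h.left.fiberToSpecResidueField (h.left u))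
  let z : ↥W.toScheme := ⟨h.left.asFiber u, huW⟩
  have hz := W.ι.isOpenEmbedding.isOpenMap _ (isOpen_discrete ({z} : Set ↥W.toScheme))
  rwa [Set.image_singleton] at hz

/-- A finite morphism has finite fibres. -/
theorem finite_fibre_of_isFiniteMor {X Y : AlgSp.Space S} (f : X ⟶ Y) (hf : AlgSp.IsFiniteMor f.hom)
    (y : AlgSp.Points Y.obj) : (AlgSp.Points.map f.hom ⁻¹' {y}).Finite := by
  obtain ⟨V, b, v, hV, hb, rfl⟩ := AlgSpD.exists_affine_chart Y y
  obtain ⟨W, i, fst, sq, -, hi⟩ := hf hV b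
  refine ((i.left.finite_preimage_singleton v).image fun w => AlgSp.Points.ofPt fst w).subset fun x hx => ?_
  obtain ⟨z, hz1, hz2⟩ := AlgSpB.exists_of_isPullback sq x (AlgSp.Points.ofScheme V v)
    ((Set.mem_singleton_iff.1 hx).trans (AlgSp.Points.ofPt_eq_map_ofScheme _ _))
  refine ⟨AlgSp.Points.toScheme W z, ?_, ?_⟩
  · show i.left (AlgSp.Points.toScheme W z) = v
    rw [← AlgSp.Points.toScheme_ofPt, AlgSp.Points.ofPt_eq_map_ofScheme, AlgSp.Points.ofScheme_toScheme, hz2,
      AlgSp.Points.toScheme_ofScheme]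
  · show AlgSp.Points.ofPt fst _ = x
    rw [AlgSp.Points.ofPt_eq_map_ofScheme, AlgSp.Points.ofScheme_toScheme, hz1]

/-- An isomorphism is quasi-compact. -/
theorem repWith_qc_of_isIso {F G : AlgSp.Sp S} (d : F ⟶ G) [IsIso d] : AlgSp.RepWith @QuasiCompact d := by
  refine ⟨Functor.relativelyRepresentable.of_isIso (F := AlgSp.yon S) _, fun _ _ g fst snd sq => ?_⟩
  have : IsIso ((AlgSp.yon S).map snd) := sq.isIso_snd_of_isIso
  have : IsIso snd := isIso_of_reflects_iso _ (AlgSp.yon S)
  have : IsIso snd.left := inferInstanceAs (IsIso ((Over.forget S).map snd))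
  exact (inferInstance : QuasiCompact snd.left)

/-- A monomorphism is quasi-separated. -/
theorem isQuasiSeparatedMor_comp_mono {F G H : AlgSp.Sp S} (j : F ⟶ G) [Mono j] (g : G ⟶ H)
    (hg : AlgSp.IsQuasiSeparatedMor g) : AlgSp.IsQuasiSeparatedMor (j ≫ g) := by
  refine MorphismProperty.comp_mem (AlgSp.RepWith (S := S) @QuasiCompact).diagonal j g ?_ hg
  have : IsIso (pullback.diagonal j) := (pullback.isIso_diagonal_iff j).2 inferInstance
  exact repWith_qc_of_isIso _

/-- Quasi-separation passes to the source of a quasi-separated morphism. -/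
theorem qsSp_of_mor {X Y : AlgSp.Sp S} (f : X ⟶ Y) (hf : AlgSp.IsQuasiSeparatedMor f)
    (hY : AlgSp.IsQuasiSeparatedSp Y) : AlgSp.IsQuasiSeparatedSp X := by
  have h2 : AlgSp.RepWith @QuasiCompact (prod.lift (pullback.fst f f) (pullback.snd f f)) :=
    MorphismProperty.of_isPullback (Groth.Agent.AlgSp.isPullback_lift_diag (IsPullback.of_hasPullback f f)) hY
  have e : Limits.diag X = pullback.diagonal f ≫ prod.lift (pullback.fst f f) (pullback.snd f f) := by
    apply prod.hom_ext <;> simp [prod.lift_fst, prod.lift_snd]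
  change AlgSp.RepWith @QuasiCompact (Limits.diag X)
  rw [e]
  exact (AlgSp.RepWith _).comp_mem _ _ hf h2

/-- (1) ⇔ (3): let S be a scheme with quasi-separated underlying space, f : X ⟶ Y a quasi-separated
morphism of algebraic spaces over S that is locally of finite type, with Y quasi-separated over S,
and y ∈ |Y| a point of codimension 0. Then |f|⁻¹(y) is finite if and only if f restricts to a finite
morphism X' ⟶ Y' between an open subspace X' of X containing the whole fibre |f|⁻¹(y) and an open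
subspace Y' of Y through y. (The published statement assumes Y quasi-separated in the absolute
sense; this row assumes S has quasi-separated underlying space and Y quasi-separated over S. Its
condition on the finiteness of |Spec k ×_Y X| is not part of this row.) -/
theorem result {S : Scheme.{u}} [QuasiSeparatedSpace ↥S] {X Y : AlgSp.Space S}
    (f : X ⟶ Y) (hqs : AlgSp.IsQuasiSeparatedMor f.hom) (hft : AlgSp.LocP @LocallyOfFiniteType f.hom)
    (hY : AlgSp.IsQuasiSeparatedSp Y.obj) (y : AlgSp.Points Y.obj)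
    (hy : AlgSp.HasAt (fun U u => ringKrullDim ↥(U.presheaf.stalk u) = 0) Y.obj y) :
    (AlgSp.Points.map f.hom ⁻¹' {y}).Finite ↔
      ∃ (X' Y' : AlgSp.Space S) (i : X' ⟶ X) (j : Y' ⟶ Y) (f' : X' ⟶ Y'), AlgSp.RepWith @IsOpenImmersion i.hom ∧
        AlgSp.RepWith @IsOpenImmersion j.hom ∧ f' ≫ j = i ≫ f ∧ y ∈ Set.range (AlgSp.Points.map j.hom) ∧
          AlgSp.Points.map f.hom ⁻¹' {y} ⊆ Set.range (AlgSp.Points.map i.hom) ∧ AlgSp.IsFiniteMor f'.hom := by
  have hX := qsSp_of_mor f.hom hqs hY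
  constructor
  · intro hfin
    obtain ⟨Z, a, hZ, ha, haK⟩ := Groth.Agent.AlgSp.LimImm.exists_affine_chart_of_isCompact X.property hfin.isCompact
    obtain ⟨X1, i, hi, hir⟩ := Groth.Agent.AlgSpB.exists_openSubspace X
      (Groth.Agent.AlgSpB.isOpenMap_ofPt ha).isOpen_range
    have hsub : AlgSp.Points.map f.hom ⁻¹' {y} ⊆ Set.range (AlgSp.Points.map i.hom) := hir ▸ haK
    have : Mono i.hom := Groth.Agent.AlgSpB.mono_of_isOpenImmersion hi
    have hlft : AlgSp.LocP @LocallyOfFiniteType (i ≫ f).hom := by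
      intro U V a b h ha hb w
      have haj : AlgSp.RepWith @Etale (a ≫ i.hom) := AlgSpCov.repWith_comp ha
        (Groth.Agent.AlgSp.repWith_mono (Q := @Etale) (fun g (hg : IsOpenImmersion g) => (inferInstance : Etale g)) hi)
      exact hft _ b h haj hb (by rw [Category.assoc]; exact w)
    have hX1 : AlgSp.IsQuasiSeparatedSp X1.obj := qsSp_of_mor i.hom (by
      have : IsIso (pullback.diagonal i.hom) := (pullback.isIso_diagonal_iff i.hom).2 inferInstance
      exact repWith_qc_of_isIso _) hX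
    obtain ⟨a', -, ha', ha's⟩ := Groth.Agent.AlgSpB.exists_chart_into_subspace ha hi hir
    have hX1c : AlgSp.IsQuasiCompactSp X1.obj := ⟨_, a', ha', ha's, inferInstance⟩
    have hqf : ∀ x : AlgSp.Points X1.obj, AlgSp.Points.map (i ≫ f).hom x = y →
        AlgSp.HasAtMor AlgSpD.LqfNear (i ≫ f).hom x := fun x hx => by
      refine qf_of_finite_fibre (i ≫ f) hlft hX1 hx ?_
      refine (hfin.preimage (AlgSpB.injective_map_of_mono i.hom).injOn).subset fun z hz => ?_
      show AlgSp.Points.map f.hom (AlgSp.Points.map i.hom z) = y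
      rw [← AlgSp.Points.map_comp]; exact hz
    obtain ⟨Y', X', j, fst, snd, hj, hyj, sq, hfst⟩ := S10398.result (i ≫ f)
      (isQuasiSeparatedMor_comp_mono i.hom f.hom hqs)
      ⟨hlft, Groth.Agent.AlgSp.isQuasiCompactMor_of_quasiCompactSp X1.property Y.property _ hX1c hY⟩ y hy hqf
    refine ⟨X', Y', snd ≫ i, j, fst, ?_, hj, ?_, hyj, ?_, hfst⟩
    · exact (AlgSp.RepWith _).comp_mem _ _ (MorphismProperty.of_isPullback sq hj) hi
    · apply ObjectProperty.hom_ext
      simpa [Category.assoc] using sq.w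
    · intro x hx
      obtain ⟨x1, rfl⟩ := hsub hx
      obtain ⟨y', hy'⟩ := hyj
      obtain ⟨z, -, hz⟩ := AlgSpB.exists_of_isPullback sq y' x1 (by
        rw [hy']; exact ((AlgSp.Points.map_comp i.hom f.hom x1).trans hx).symm)
      exact ⟨z, by rw [← hz]; exact AlgSp.Points.map_comp _ _ _⟩
  · rintro ⟨X', Y', i, j, f', hi, hj, e, ⟨y', rfl⟩, hsub, hf'⟩
    refine ((finite_fibre_of_isFiniteMor f' hf' y').image (AlgSp.Points.map i.hom)).subset fun x hx => ?_
    obtain ⟨x', rfl⟩ := hsub hx
    have : Mono j.hom := Groth.Agent.AlgSpB.mono_of_isOpenImmersion hj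
    refine ⟨x', AlgSpB.injective_map_of_mono j.hom ?_, rfl⟩
    have e' : f'.hom ≫ j.hom = i.hom ≫ f.hom := congrArg (fun g => g.hom) e
    rw [← AlgSp.Points.map_comp, e', AlgSp.Points.map_comp]
    exact hx

end Groth.Agent.S10446
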