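import Groth.Statements.S10447
import Groth.Agent.DecCat.Space
-- import your own Groth.Agent.* helpers here

set_option autoImplicit false
universe u
open CategoryTheory CategoryTheory.Limits AlgebraicGeometry Topology TopologicalSpace
open AlgSp

set_option backward.isDefEq.respectTransparency false

namespace Groth.Agent.S10447

open Groth.Agent

/-- Let S be a locally Noetherian scheme whose local rings are universally catenary, and X a decent
algebraic space over S with locally finite type structure morphism X ⟶ S. Then the space of points
|X| is catenary (bounded chains of irreducible closed subsets between any two, and all saturated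
chains between the same two of equal length). -/
theorem result {S : Scheme.{u}} [IsLocallyNoetherian S]
    (hS : ∀ s : ↥S, CAlg.IsUniversallyCatenary ↥(S.presheaf.stalk s)) (X : AlgSp.Space S)
    (hX : AlgSp.IsDecent X.obj) (p : X.obj ⟶ (AlgSp.yon S).obj (Over.mk (𝟙 S)))
    (hp : AlgSp.LocP @LocallyOfFiniteType p) :
    W4stk3decentspacesp2.IsCatenarySpace (AlgSp.Points X.obj) := by
  obtain ⟨h1, h2⟩ := DecCat.cat_points X hS hX p hp
  intro T T' hTT'
  refine ⟨h1 T T' hTT', fun s t hs0 hs1 ht0 ht1 hs ht => h2 s t (hs0.trans ht0.symm) (hs1.trans ht1.symm) hs ht⟩

end Groth.Agent.S10447
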