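import Groth.Statements.S10448
import Groth.Agent.AlgSpCov.IntegralDim
import Groth.Agent.AlgSpD.IntegralMor
import Groth.Agent.AlgSpB.Points
import Groth.Agent.AlgSp.Space
-- import your own Groth.Agent.* helpers here

set_option autoImplicit false
universe u
open CategoryTheory CategoryTheory.Limits AlgebraicGeometry Topology TopologicalSpace
open AlgSp

set_option backward.isDefEq.respectTransparency false

namespace Groth.Agent.S10448

open Groth.Agent

/-- For an integral morphism f : X ⟶ Y of algebraic spaces over a scheme S, the dimension of X is at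
most the dimension of Y. -/
theorem result {S : Scheme.{u}} {X Y : AlgSp.Space S} (f : X ⟶ Y)
    (hf : AlgSp.IsIntegralMor f.hom) : AlgSp.dim X.obj ≤ AlgSp.dim Y.obj := by
  obtain ⟨hr, hint⟩ := (AlgSpD.isIntegralMor_iff f.hom).1 hf
  obtain ⟨V, b, hb, hbs⟩ := Y.property.atlas
  refine iSup_le fun U => iSup_le fun a => iSup_le fun ha => ?_
  obtain ⟨R, p, h, sq⟩ := AlgSpB.exists_pullback_yon (Y.property.representable_from_yon (a ≫ f.hom)) b
  have : Etale p.left := hb.2 _ _ _ sq.flip
  have : Surjective p.left := hbs.2 _ _ _ sq.flip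
  obtain ⟨Q, q, c, sqQ⟩ := hr b
  have hq : IsIntegralHom q.left := hint _ _ _ sqQ
  let l := sqQ.lift ((AlgSp.yon S).map p ≫ a) ((AlgSp.yon S).map h) (by rw [Category.assoc, sq.w])
  obtain ⟨l', hl⟩ := (AlgSp.yon S).map_surjective l
  have hsq2 : IsPullback ((AlgSp.yon S).map p) ((AlgSp.yon S).map l') a c := by
    refine IsPullback.of_bot ?_ (by rw [hl, sqQ.lift_fst]) sqQ
    rw [hl, sqQ.lift_snd]
    exact sq
  have : Etale l'.left := ha.2 _ _ _ hsq2
  have e : h.left = l'.left ≫ q.left := by
    rw [← Over.comp_left]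
    exact congrArg CommaMorphism.left ((AlgSp.yon S).map_injective (by rw [Functor.map_comp, hl, sqQ.lift_snd]))
  have hm : StrictMono (h.left : R.left → V.left) := by
    intro x y hxy
    rw [e, Scheme.Hom.comp_apply, Scheme.Hom.comp_apply]
    have := AlgSpD.locallyQuasiFinite_of_etale l'.left
    exact AlgSpCov.IntegralDim.strictMono_of_isIntegralHom q.left
      (AlgSpD.strictMono_of_locallyQuasiFinite l'.left hxy)
  exact ((AlgSpD.topologicalKrullDim_le_of_surjective_etale p.left).trans
    (AlgSpCov.IntegralDim.topologicalKrullDim_le_of_strictMono h.left hm)).trans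
      (le_iSup_of_le V (le_iSup₂_of_le b hb le_rfl))

end Groth.Agent.S10448
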