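import Groth.Statements.S10449
import Groth.Agent.AlgSpCov.IntegralDim
import Groth.Agent.AlgSpD.IntegralMor
import Groth.Agent.AlgSpB.Points
import Groth.Agent.AlgSp.Space
-- import your own Groth.Agent.* helpers here

set_option autoImplicit false
universe u
open CategoryTheory CategoryTheory.Limits AlgebraicGeometry Topology TopologicalSpace
open AlgSp

set_option backward.isDefEq.respectTransparency false

namespace Groth.Agent.S10449

open Groth.Agent

/-- For an integral surjective morphism f : X ⟶ Y of algebraic spaces over a scheme S, the dimension of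
Y is at most the dimension of X (together with the inequality dim X ≤ dim Y, which holds for every
integral morphism, the two dimensions are equal). -/
theorem result {S : Scheme.{u}} {X Y : AlgSp.Space S} (f : X ⟶ Y)
    (hf : AlgSp.IsIntegralMor f.hom) (hs : AlgSp.IsSurjectiveMor f.hom) :
    AlgSp.dim Y.obj ≤ AlgSp.dim X.obj := by
  obtain ⟨hr, hint⟩ := (AlgSpD.isIntegralMor_iff f.hom).1 hf
  refine iSup_le fun V => iSup_le fun b => iSup_le fun hb => ?_
  obtain ⟨Q, q, c, sqQ⟩ := hr b
  have : IsIntegralHom q.left := hint _ _ _ sqQ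
  have hc : AlgSp.RepWith @Etale c := AlgSpCov.repWith_bc sqQ.flip hb
  have : Surjective q.left := ⟨fun v => by
    obtain ⟨x, hx⟩ := hs (AlgSp.Points.ofPt b v)
    rw [AlgSp.Points.ofPt_eq_map_ofScheme] at hx
    obtain ⟨z, -, hz⟩ := AlgSpB.exists_of_isPullback sqQ x _ hx
    refine ⟨AlgSp.Points.toScheme Q z, ?_⟩
    rw [← AlgSp.Points.toScheme_ofPt, AlgSp.Points.ofPt_eq_map_ofScheme, AlgSp.Points.ofScheme_toScheme, hz,
      AlgSp.Points.toScheme_ofScheme]⟩
  exact (AlgSpCov.IntegralDim.topologicalKrullDim_le_of_closed_surjective q.left q.left.isClosedMap).trans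
    (le_iSup_of_le Q (le_iSup₂_of_le c hc le_rfl))

end Groth.Agent.S10449
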