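import Groth.Statements.S1045
import Groth.Agent.CohDerLib.Kosz.Geom

set_option autoImplicit false
universe u
open CategoryTheory CategoryTheory.Limits AlgebraicGeometry
attribute [local instance] HasDerivedCategory.standard
open Perf

attribute [-instance] CategoryTheory.ReflQuiver.toQuiver

namespace Groth.Agent.S1045

open DerivedCategory Pretriangulated Groth.Agent.CohDerLib.Kosz Groth.Agent.KFlat Groth.Agent.KFlat.TruncHom

variable {A : Type u} [CommRing A]

/-- maps into objects that are torsion in the range of the Koszul complex are torsion -/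
theorem hom_tors_range (l : List A) (C : DerivedCategory (ModuleCat.{u} A)) (g : A) (n : ℤ)
    (hC : ∀ m : ℤ, -n - (l.length : ℤ) ≤ m → m ≤ -n →
      ∀ x : (homologyFunctor (ModuleCat.{u} A) m).obj C, ∃ k : ℕ, g ^ k • x = 0)
    (φ : (KD l)⟦n⟧ ⟶ C) : ∃ k : ℕ, g ^ k • φ = 0 := by
  induction l generalizing n with
  | nil =>
    obtain ⟨k, hk⟩ := hC (-n) (by simp) le_rfl
      ((Φ (ModuleCat.of A A) (-n) C ((nilIso n).inv ≫ φ)).hom (1 : A))
    refine ⟨k, (cancel_epi (nilIso n).inv).1 ?_⟩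
    rw [comp_zero]
    refine eq_zero_of_Φ_apply _ ?_
    rw [Linear.comp_smul, Φ_apply, homology_smul, Linear.comp_smul]
    exact hk
  | cons f l ih =>
    simp only [List.length_cons, Nat.cast_succ] at hC
    obtain ⟨k, hk⟩ := ih n (fun m h h' => hC m (by omega) h') (m₂ f l n ≫ φ)
    obtain ⟨ψ, hψ⟩ := exists_factor₃ (g ^ k • φ) (by rw [Linear.comp_smul]; exact hk)
    obtain ⟨j, hj⟩ := ih (n + 1) (fun m h h' => hC m (by omega) (by omega)) ψ
    refine ⟨j + k, ?_⟩
    rw [pow_add, mul_smul, hψ, ← Linear.comp_smul, hj, comp_zero]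

/-- the degree zero inclusion -/
noncomputable def unit : (l : List A) → ((KD ([] : List A))⟦(0 : ℤ)⟧ ⟶ (KD l)⟦(0 : ℤ)⟧)
  | [] => 𝟙 _
  | f :: l => unit l ≫ m₂ f l 0

theorem smul_m₂ (f : A) (l : List A) : f • m₂ f l 0 = 0 := by
  have h : (triS f l 0).mor₁ ≫ (triS f l 0).mor₂ = 0 := comp_distTriang_mor_zero₁₂ _ (triS_dist f l 0)
  have h' := (congrArg (fun φ : (KD l)⟦(0 : ℤ)⟧ ⟶ (KD l)⟦(0 : ℤ)⟧ => φ ≫ m₂ f l 0) (triS_mor₁ f l 0)).symm.trans h
  rw [Linear.units_smul_comp, Linear.smul_comp, Category.id_comp, Int.negOnePow_zero, one_smul] at h'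
  exact h'

theorem trans_exp (l : List A) (e e' : ℕ) (h : e ≤ e') :
    ∃ r : (KD (l.map fun a => a ^ e'))⟦(0 : ℤ)⟧ ⟶ (KD (l.map fun a => a ^ e))⟦(0 : ℤ)⟧,
      unit (l.map fun a => a ^ e') ≫ r = unit (l.map fun a => a ^ e) := by
  induction l with
  | nil => exact ⟨𝟙 _, Category.comp_id _⟩
  | cons f l ih =>
    obtain ⟨r, hr⟩ := ih
    have h0 : f ^ e' • (r ≫ m₂ (f ^ e) (l.map fun a => a ^ e) 0) = 0 := by
      rw [← Linear.comp_smul, show f ^ e' = f ^ (e' - e) * f ^ e by rw [← pow_add, Nat.sub_add_cancel h],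
        mul_smul, smul_m₂, smul_zero, comp_zero]
    obtain ⟨γ, hγ⟩ := exists_factor₂ _ h0
    refine ⟨γ, ?_⟩
    change (unit (l.map fun a => a ^ e') ≫ m₂ (f ^ e') _ 0) ≫ γ = unit (l.map fun a => a ^ e) ≫ m₂ (f ^ e) _ 0
    rw [Category.assoc, ← hγ, ← Category.assoc, hr]

theorem exists_factor (l : List A) (M : DerivedCategory (ModuleCat.{u} A))
    (hM : ∀ g ∈ l, ∀ m : ℤ, -(l.length : ℤ) < m → m ≤ 0 →
      ∀ x : (homologyFunctor (ModuleCat.{u} A) m).obj M, ∃ k : ℕ, g ^ k • x = 0)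
    (φ : (KD ([] : List A))⟦(0 : ℤ)⟧ ⟶ M) :
    ∃ (e : ℕ) (ψ : (KD (l.map fun a => a ^ e))⟦(0 : ℤ)⟧ ⟶ M), unit (l.map fun a => a ^ e) ≫ ψ = φ := by
  induction l with
  | nil => exact ⟨0, φ, Category.id_comp φ⟩
  | cons f l ih =>
    simp only [List.length_cons, Nat.cast_succ] at hM
    obtain ⟨e, ψ, hψ⟩ := ih fun g hg m h h' => hM g (List.mem_cons_of_mem _ hg) m (by omega) h'
    obtain ⟨N, hN⟩ := hom_tors_range (l.map fun a => a ^ e) M f 0 (fun m h h' => hM f List.mem_cons_self m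
      (by simp only [List.length_map] at h; omega) (by omega)) ψ
    obtain ⟨r, hr⟩ := trans_exp l e (max e N) (le_max_left _ _)
    have h0 : f ^ max e N • (r ≫ ψ) = 0 := by
      rw [← Linear.comp_smul, show f ^ max e N = f ^ (max e N - N) * f ^ N by
        rw [← pow_add, Nat.sub_add_cancel (le_max_right e N)], mul_smul, hN, smul_zero, comp_zero]
    obtain ⟨γ, hγ⟩ := exists_factor₂ _ h0
    refine ⟨max e N, γ, ?_⟩
    change (unit (l.map fun a => a ^ max e N) ≫ m₂ (f ^ max e N) _ 0) ≫ γ = φ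
    rw [Category.assoc, ← hγ, ← Category.assoc, hr, hψ]

/-- Let A be a ring, f₁, …, f_r elements of A, X = Spec A and U ⊆ X the open complement of V(f₁, …,
f_r). Let E ∈ D(O_X) have quasi-coherent cohomology sheaves with Hⁱ(E)|_U = 0 for -r < i ≤ 0. Then
(tilde being recorded as exact) every morphism s : O_X ⟶ E in D(O_X) factors as O_X ⟶ K_e ⟶ E for
some e ≥ 0, where K_e is the object of D(O_X) associated with the Koszul complex on f₁^e, …, f_r^e. -/
theorem result (A : Type u) [CommRing A] (fs : List A) [PreservesFiniteLimits (tilde.functor (CommRingCat.of A))]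
    (E : DCoh.D (Spec (CommRingCat.of A))) (hE : DCoh.IsQCohD E)
    (hU : ∀ i : ℤ, -(fs.length : ℤ) < i → i ≤ 0 → IsZero ((DCoh.HD E i).restrict (LocCoh.puncturedOpen A (Ideal.span {a | a ∈ fs})).ι))
    (s : DCoh.inD (Spec (CommRingCat.of A)) (Coh.structureModule (Spec (CommRingCat.of A))) ⟶ E) :
    ∃ (e : ℕ) (ψ : (DCoh.tildeD (CommRingCat.of A)).obj (DerivedCategory.Q.obj (Koszul.koszul A (fs.map (fun a => a ^ e)))) ⟶ E)
      (t : DCoh.inD (Spec (CommRingCat.of A)) (Coh.structureModule (Spec (CommRingCat.of A))) ⟶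
        (DCoh.tildeD (CommRingCat.of A)).obj (DerivedCategory.Q.obj (Koszul.koszul A (fs.map (fun a => a ^ e))))),
      t ≫ ψ = s := by
  obtain ⟨M, ⟨eM⟩⟩ := TildeD.exists_iso_of_isQCohD (R := CommRingCat.of A) E hE
  have : (DCoh.tildeD (CommRingCat.of A)).Full := (TildeD.full_faithful (R := CommRingCat.of A)).1
  have : (tilde.functor (CommRingCat.of A)).Additive :=
    (inferInstance : ∀ R : CommRingCat.{u}, (tilde.functor R).Additive) (CommRingCat.of A)
  have : PreservesFiniteColimits (tilde.functor (CommRingCat.of A)) :=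
    (inferInstance : ∀ R : CommRingCat.{u}, PreservesFiniteColimits (tilde.functor R)) (CommRingCat.of A)
  let a : DCoh.inD (Spec (CommRingCat.of A)) (Coh.structureModule (Spec (CommRingCat.of A))) ≅
      (DCoh.tildeD (CommRingCat.of A)).obj ((KD ([] : List A))⟦(0 : ℤ)⟧) :=
    (DerivedCategory.singleFunctor (Spec (CommRingCat.of A)).Modules 0).mapIso (tildeSelf (R := CommRingCat.of A)).symm ≪≫
      (((tilde.functor (CommRingCat.of A)).mapDerivedCategorySingleFunctor 0).app (ModuleCat.of A A)).symm ≪≫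
      (DCoh.tildeD (CommRingCat.of A)).mapIso (nilIso 0).symm
  obtain ⟨φ, hφ⟩ := (DCoh.tildeD (CommRingCat.of A)).map_surjective (a.inv ≫ s ≫ eM.inv)
  obtain ⟨e, ψ, hψ⟩ := exists_factor fs M (fun g hg m h h' x =>
    tors_of_isZero_restrict fs
      (((hU m h h').of_iso ((Scheme.Modules.restrictFunctor (U fs).ι).mapIso
        (((DerivedCategory.homologyFunctor _ m).mapIso eM.symm) ≪≫
          homologyTildeIso (R := CommRingCat.of A) M m).symm))) hg x) φ
  let z := (shiftFunctorZero (DerivedCategory (ModuleCat.{u} A)) ℤ).app (KD (fs.map fun a => a ^ e))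
  refine ⟨e, (DCoh.tildeD (CommRingCat.of A)).map (z.inv ≫ ψ) ≫ eM.hom,
    a.hom ≫ (DCoh.tildeD (CommRingCat.of A)).map (unit (fs.map fun a => a ^ e) ≫ z.hom), ?_⟩
  rw [Category.assoc, ← Functor.map_comp_assoc, Category.assoc, Iso.hom_inv_id_assoc, hψ, hφ]
  simp

end Groth.Agent.S1045
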