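import Groth.Statements.S10482
import Groth.Agent.AlgSpD.FieldBase
import Groth.Agent.AlgSpD.EtaleTop
import Mathlib.AlgebraicGeometry.Artinian
-- import your own Groth.Agent.* helpers here

set_option autoImplicit false
universe u
open CategoryTheory CategoryTheory.Limits AlgebraicGeometry Topology TopologicalSpace
open AlgSp

set_option backward.isDefEq.respectTransparency false

namespace Groth.Agent.S10482

open Groth.Agent

/-- (1) ⇔ (2): let k be a field and X an algebraic space over k. Then X is locally quasi-finite over k
if and only if X is locally of finite type over k of dimension at most 0. (The published statement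
says dimension 0; dimension at most 0 is used so that the empty space, whose dimension is the bottom
element, is covered by both sides.) -/
theorem result (k : Type u) [Field k] (X : AlgSp.Space (Spec (CommRingCat.of k))) (p : X.obj ⟶ (AlgSp.yon (Spec (CommRingCat.of k))).obj (Over.mk (𝟙 _))) :
    AlgSp.LocP (@LocallyQuasiFinite ⊓ @LocallyOfFiniteType : MorphismProperty Scheme.{u}) p ↔ AlgSp.LocP @LocallyOfFiniteType p ∧ AlgSp.dim X.obj ≤ 0 := by
  have hlqf : ∀ (U : Over (Spec (CommRingCat.of k))), LocallyOfFiniteType U.hom →
      topologicalKrullDim ↥U.left ≤ 0 → LocallyQuasiFinite U.hom := by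
    intro U _ hd
    have := LocallyOfFiniteType.isLocallyNoetherian U.hom
    have := IsLocallyArtinian.of_topologicalKrullDim_le_zero hd
    rw [locallyQuasiFinite_iff_isDiscrete_preimage_singleton]
    exact fun y => IsDiscrete.mono (isDiscrete_univ_iff.2 inferInstance) (Set.subset_univ _)
  constructor
  · intro h
    refine ⟨fun U V a b g ha hb e => (h a b g ha hb e).2, iSup_le fun U => iSup_le fun a => iSup_le fun ha => ?_⟩
    obtain ⟨g, hg⟩ := (AlgSp.yon (Spec (CommRingCat.of k))).map_surjective (a ≫ p)
    have hid : AlgSp.RepWith @Etale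
        ((AlgSp.yon (Spec (CommRingCat.of k))).map (𝟙 (Over.mk (𝟙 (Spec (CommRingCat.of k)))))) :=
      (AlgSp.repWith_yon_map_iff _ _).2 (inferInstanceAs (Etale (𝟙 (Spec (CommRingCat.of k)))))
    obtain ⟨h1, -⟩ := h a _ g ha hid (by rw [CategoryTheory.Functor.map_id, Category.comp_id, hg])
    have : LocallyQuasiFinite g.left := h1
    refine (AlgSpD.topologicalKrullDim_le_of_lqf g.left).trans ?_
    exact topologicalKrullDim_zero_of_discreteTopology (PrimeSpectrum k)
  · rintro ⟨hft, hd⟩ U V a b g ha hb e
    have : LocallyOfFiniteType g.left := hft a b g ha hb e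
    have h1 := AlgSpD.locallyOfFiniteType_chart p hft ha
    have : LocallyQuasiFinite U.hom := hlqf U h1 (le_trans (le_iSup_of_le U (le_iSup_of_le a (le_iSup (fun _ : AlgSp.RepWith @Etale a => topologicalKrullDim ↥U.left) ha))) hd)
    have : LocallyQuasiFinite (g.left ≫ V.hom) := (Over.w g).symm ▸ this
    exact ⟨LocallyQuasiFinite.of_comp g.left V.hom, inferInstance⟩

end Groth.Agent.S10482
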