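import Groth.Statements.S10451
import Groth.Agent.DimZeroSp.Basic
import Groth.Agent.S10482
import Groth.Agent.AlgSpCov.LqfField.Basic
-- import your own Groth.Agent.* helpers here

set_option autoImplicit false
universe u
open CategoryTheory CategoryTheory.Limits AlgebraicGeometry Topology TopologicalSpace
open AlgSp

set_option backward.isDefEq.respectTransparency false

namespace Groth.Agent.S10451

open Groth.Agent

/-- Let k be a field and X an algebraic space locally of finite type over k with dim X = 0. Then X is a
separated scheme and every quasi-compact open of X is affine. -/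
theorem result (k : Type u) [Field k]
    (X : AlgSp.Space (Spec (CommRingCat.of k))) (p : X.obj ⟶ (AlgSp.yon (Spec (CommRingCat.of k))).obj (Over.mk (𝟙 _)))
    (hp : AlgSp.LocP @LocallyOfFiniteType p) (hd : AlgSp.dim X.obj = 0) :
    ∃ (U : Over (Spec (CommRingCat.of k))) (_ : (AlgSp.yon (Spec (CommRingCat.of k))).obj U ≅ X.obj), U.left.IsSeparated ∧
      ∀ V : U.left.Opens, IsCompact (V : Set ↥U.left) → IsAffineOpen V := by
  have hl := (S10482.result k X p).2 ⟨hp, hd.le⟩
  obtain ⟨U, e, h1, h2⟩ := AlgSpCov.LqfField.exists_iso_yon_of_lqf p hl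
  haveI := h1
  haveI := h2
  haveI := AlgSpCov.LqfField.discreteTopology_of_lqf (U := U)
  exact ⟨U, e, DimZeroSp.separated_and_affine U.left⟩

end Groth.Agent.S10451
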