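import Groth.Statements.S10454
import Groth.Agent.AlgSpB.CodimOne.Main
import Groth.Agent.AlgSpB.OpenGlue

set_option autoImplicit false
universe u
open CategoryTheory CategoryTheory.Limits AlgebraicGeometry Topology TopologicalSpace
open AlgSp

namespace Groth.Agent.S10454

/-- Let X be a separated, locally Noetherian algebraic space over a separated scheme S and x a point of
X whose local ring has dimension at most 1. Then some open subspace of X containing x is a scheme.
(The published statement allows any base scheme S and takes X separated in the absolute sense; this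
row asks S to be separated and X separated over S, which together imply absolute separatedness.) -/
theorem result {S : Scheme.{u}} [S.IsSeparated]
    (X : AlgSp.Space S) (hsep : AlgSp.IsSeparatedSp X.obj) (hN : AlgSp.IsLocNoethSp X.obj)
    (x : AlgSp.Points X.obj) (hx : AlgSp.HasAt (fun U u => ringKrullDim ↥(U.presheaf.stalk u) ≤ 1) X.obj x) :
    ∃ (X' : AlgSp.Space S) (j : X' ⟶ X), AlgSp.RepWith @IsOpenImmersion j.hom ∧
      X'.obj.obj.IsRepresentable ∧ x ∈ Set.range (AlgSp.Points.map j.hom) := by
  obtain ⟨T, j, -, hj, h⟩ := Groth.Agent.AlgSpB.CodimOne.exists_affine X hsep hN {x}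
    (fun y hy => by rw [Finset.mem_singleton] at hy; exact hy ▸ hx)
  obtain ⟨t, ht⟩ := h x (Finset.mem_singleton_self x)
  refine ⟨⟨(AlgSp.yon S).obj T, AlgSp.IsAlgSpace.yon_obj T⟩, ObjectProperty.homMk j, hj, ?_, ?_⟩
  · exact Groth.Agent.AlgSpB.isRepresentable_of_iso (Iso.refl ((AlgSp.yon S).obj T))
  · exact ⟨AlgSp.Points.ofScheme T t, (AlgSp.Points.ofPt_eq_map_ofScheme j t).symm.trans ht⟩

end Groth.Agent.S10454
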