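import Groth.Statements.S10496
import Groth.Agent.AlgSpB.RedInduced
import Groth.Agent.AlgSpD.Decent
import Groth.Agent.S10191
-- import your own Groth.Agent.* helpers here

set_option autoImplicit false
universe u
open CategoryTheory CategoryTheory.Limits AlgebraicGeometry Topology TopologicalSpace
open AlgSp

set_option backward.isDefEq.respectTransparency false

namespace Groth.Agent.S10496

open Groth.Agent

/-- Let X be a decent algebraic space over a scheme S. For every irreducible closed subset T of |X|
there is an integral closed subspace Z of X with |Z| = T. -/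
theorem result {S : Scheme.{u}} (X : AlgSp.Space S)
    (hX : AlgSp.IsDecent X.obj) (T : Set (AlgSp.Points X.obj)) (hT : IsClosed T) (hTi : IsIrreducible T) :
    ∃ (Z : AlgSp.Space S) (i : Z ⟶ X), AlgSp.RepWith @IsClosedImmersion i.hom ∧ AlgSp.IsIntegralSp Z.obj ∧
      Set.range (AlgSp.Points.map i.hom) = T := by
  obtain ⟨Z, i, hZ, hc, hr, hred⟩ := AlgSpB.exists_redInduced X.property T hT
  refine ⟨⟨Z, hZ⟩, ObjectProperty.homMk i, hc, ⟨hred, AlgSpD.isDecent_of_representable i hc.1 hX, ?_⟩, hr⟩
  have hemb := (Groth.Agent.S10191.result (Z := (⟨Z, hZ⟩ : AlgSp.Space S)) (ObjectProperty.homMk i)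
    (Groth.Agent.AlgSp.repWith_mono (Q := @IsImmersion) (fun f (h : IsClosedImmersion f) => inferInstance) hc)).1
  let e := hemb.toHomeomorph
  have hT' : IsIrreducible (Set.range (AlgSp.Points.map i)) := hr ▸ hTi
  have := isIrreducible_iff_irreducibleSpace.1 hT'
  rw [irreducibleSpace_def]
  have h := (@IrreducibleSpace.isIrreducible_univ _ _ this).image e.symm e.symm.continuous.continuousOn
  rwa [Set.image_univ, e.symm.surjective.range_eq] at h

end Groth.Agent.S10496
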