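import Groth.Statements.S10458
import Groth.Agent.S10496
import Groth.Agent.S10394
import Groth.Agent.S10381
import Groth.Agent.S10423
import Groth.Agent.S10338
import Groth.Agent.S10339
import Groth.Agent.S10485
import Groth.Agent.S10398
import Groth.Agent.AlgSp.ProperSub
import Groth.Agent.AlgSp.QCMor
import Groth.Agent.AlgSpD.ProperMor

set_option backward.isDefEq.respectTransparency false

set_option autoImplicit false
universe u
open CategoryTheory CategoryTheory.Limits AlgebraicGeometry Topology TopologicalSpace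
open AlgSp

namespace Groth.Agent.S10458

/-- Suppose f : X ⟶ Y is a morphism of algebraic spaces over a scheme S that is proper and surjective,
with Y integral. Then there is an integral closed subspace X' of X such that the restriction X' ⟶ Y
is an alteration: proper and dominant with X' integral, and finite over some nonempty open subspace
of Y. -/
theorem result {S : Scheme.{u}} {X Y : AlgSp.Space S} (f : X ⟶ Y)
    (hf : AlgSp.IsProperMor f.hom) (hs : AlgSp.IsSurjectiveMor f.hom) (hY : AlgSp.IsIntegralSp Y.obj) :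
    ∃ (X' : AlgSp.Space S) (i : X' ⟶ X), AlgSp.RepWith @IsClosedImmersion i.hom ∧ AlgSp.IsIntegralSp X'.obj ∧
      AlgSp.IsProperMor (i ≫ f).hom ∧ AlgSp.IsDominantMor (i ≫ f).hom ∧
      ∃ (V : AlgSp.Space S) (j : V ⟶ Y), AlgSp.RepWith @IsOpenImmersion j.hom ∧ Nonempty (AlgSp.Points V.obj) ∧
        ∀ (P : AlgSp.Space S) (fst : P ⟶ V) (snd : P ⟶ X'), IsPullback fst.hom snd.hom j.hom (i ≫ f).hom →
          AlgSp.IsFiniteMor fst.hom := by
  obtain ⟨-, hYd, hYi⟩ := id hY
  have hfs : AlgSp.IsQuasiSeparatedMor f.hom := Groth.Agent.AlgSp.repWith_mono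
    (fun g (hg : IsClosedImmersion g) => (inferInstance : QuasiCompact g)) hf.1
  have hXd : AlgSp.IsDecent X.obj := Groth.Agent.S10381.result f ((Groth.Agent.S10423.result f).2 hfs) hYd
  have := Groth.Agent.S10338.result X hXd
  have := Groth.Agent.S10339.result X hXd
  have := Groth.Agent.S10338.result Y hYd
  have := Groth.Agent.S10339.result Y hYd
  obtain ⟨y, hy⟩ := QuasiSober.sober (IrreducibleSpace.isIrreducible_univ (AlgSp.Points Y.obj)) isClosed_univ
  obtain ⟨q, hq, -, -⟩ := hYd y
  -- the fibre over the generic point is quasi-compact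
  have sq := IsPullback.of_hasPullback f.hom q.toHom
  have : CompactSpace ↥q.pt.left := inferInstanceAs (CompactSpace (PrimeSpectrum q.K))
  have := Groth.Agent.AlgSp.compactSpace_points (hf.2.1.2 (AlgSp.IsAlgSpace.yon_obj q.pt)
    (Groth.Agent.AlgSp.isQuasiCompactSp_yon q.pt) q.toHom _ _ sq)
  have hqr : Set.range (AlgSp.Points.map q.toHom) = {y} := by
    ext z
    constructor
    · rintro ⟨w, rfl⟩
      obtain ⟨w, rfl⟩ := (AlgSp.Points.schemeHomeo q.pt).surjective w
      exact ((AlgSp.Points.ofPt_eq_map_ofScheme _ _).symm.trans (AlgSp.Points.ofPt_toHom q w)).trans hq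
    · rintro rfl
      exact ⟨AlgSp.Points.ofScheme q.pt (IsLocalRing.closedPoint q.K),
        ((AlgSp.Points.ofPt_eq_map_ofScheme _ _).symm.trans (AlgSp.Points.ofPt_toHom q _)).trans hq⟩
  let F : Set (AlgSp.Points X.obj) := AlgSp.Points.map f.hom ⁻¹' {y}
  have hF : IsCompact F := by
    have e : F = Set.range (AlgSp.Points.map (pullback.fst f.hom q.toHom)) := by
      rw [Groth.Agent.AlgSp.range_map_of_isPullback sq.flip, hqr]
    rw [e]
    exact isCompact_range (AlgSp.Points.continuous_map _)
  have : CompactSpace F := isCompact_iff_compactSpace.1 hF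
  obtain ⟨x₀, hx₀⟩ := hs y
  have : Nonempty F := ⟨⟨x₀, hx₀⟩⟩
  obtain ⟨⟨x, hxy⟩, -, hxc⟩ := IsClosed.exists_closed_singleton (isClosed_univ (X := F)) Set.univ_nonempty
  -- its closure
  obtain ⟨X', i, hi, hX'i, hir⟩ := Groth.Agent.S10496.result X hXd (closure {x}) isClosed_closure
    (isIrreducible_singleton.closure)
  have := Groth.Agent.S10338.result X' hX'i.2.1
  have := Groth.Agent.S10339.result X' hX'i.2.1
  have hip : AlgSp.IsProperMor i.hom := Groth.Agent.AlgSp.isProperMor_of_isClosedImmersion X.property hi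
  have hp : AlgSp.IsProperMor (i ≫ f).hom :=
    Groth.Agent.AlgSpD.isProperMor_comp (X := X') (Y := X) (Z := Y) hip hf
  have hemb : Topology.IsClosedEmbedding (AlgSp.Points.map i.hom) := by
    have := Groth.Agent.AlgSpB.mono_of_isClosedImmersion hi
    exact Topology.IsClosedEmbedding.of_continuous_injective_isClosedMap (AlgSp.Points.continuous_map _)
      (Groth.Agent.AlgSpB.injective_map_of_mono i.hom)
      (Groth.Agent.AlgSp.isClosedMap_map_of_repWith (Groth.Agent.AlgSp.repWith_mono
        (fun g (hg : IsClosedImmersion g) => (inferInstance : UniversallyClosed g)) hi))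
  obtain ⟨x', hx'⟩ : x ∈ Set.range (AlgSp.Points.map i.hom) := by rw [hir]; exact subset_closure rfl
  have hgen : IsGenericPoint x' (Set.univ : Set (AlgSp.Points X'.obj)) := by
    rw [isGenericPoint_def, hemb.isInducing.closure_eq_preimage_closure_image, Set.image_singleton, hx', ← hir,
      Set.preimage_range]
  have huniq : ∀ z, AlgSp.Points.map (i ≫ f).hom z = y → z = x' := by
    intro z hz
    apply hemb.injective
    rw [hx']
    have h1 : AlgSp.Points.map i.hom z ∈ closure {x} := hir ▸ Set.mem_range_self z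
    have h2 : (⟨AlgSp.Points.map i.hom z, by
        show AlgSp.Points.map f.hom _ = y
        rw [← AlgSp.Points.map_comp]; exact hz⟩ : F) ∈ closure ({⟨x, hxy⟩} : Set F) := by
      rw [closure_subtype, Set.image_singleton]
      exact h1
    rw [hxc.closure_eq, Set.mem_singleton_iff] at h2
    exact congrArg Subtype.val h2
  have hfx' : AlgSp.Points.map (i ≫ f).hom x' = y := by
    show AlgSp.Points.map (i.hom ≫ f.hom) x' = y
    rw [AlgSp.Points.map_comp, hx']
    exact hxy
  have hdom : AlgSp.IsDominantMor (i ≫ f).hom := fun z =>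
    closure_mono (s := {y}) (Set.singleton_subset_iff.2 (Set.mem_range.2 ⟨x', hfx'⟩)) (hy.def.ge (Set.mem_univ z))
  refine ⟨X', i, hi, hX'i, hp, hdom, ?_⟩
  -- finiteness over a neighbourhood of the generic point
  have hqf := (Groth.Agent.S10485.result hX'i hY (i ≫ f) hp.2.1.1 hdom x' hgen y hy).2 huniq
  have hu : (Set.univ : Set (AlgSp.Points Y.obj)) ∈ irreducibleComponents (AlgSp.Points Y.obj) :=
    ⟨IrreducibleSpace.isIrreducible_univ _, fun _ _ _ => Set.subset_univ _⟩
  have hy0 := (Groth.Agent.S10394.result Y hYd y).1 ⟨Set.univ, hu, hy⟩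
  obtain ⟨V, P₀, j, fst₀, snd₀, hj, hyV, sq₀, hfin⟩ := Groth.Agent.S10398.result (i ≫ f)
    (Groth.Agent.AlgSp.repWith_mono (fun g (hg : IsClosedImmersion g) => (inferInstance : QuasiCompact g)) hp.1)
    hp.2.1 y hy0 (fun z hz => by rw [huniq z hz]; exact hqf)
  obtain ⟨v, -⟩ := hyV
  refine ⟨V, j, hj, ⟨v⟩, fun P fst snd sqP => ?_⟩
  rw [Groth.Agent.AlgSpD.isFiniteMor_iff] at hfin ⊢
  rw [← sqP.isoIsPullback_hom_fst _ _ sq₀]
  exact (MorphismProperty.cancel_left_of_respectsIso _ _ _).2 hfin

end Groth.Agent.S10458
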