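import Groth.Statements.S10459
import Groth.Agent.AlgSpCov.DimBound.Sch
import Groth.Agent.AlgSpCov.IntegralSp.Generic
import Groth.Agent.DimIneq.Basic
-- import your own Groth.Agent.* helpers here

set_option autoImplicit false
universe u
open CategoryTheory CategoryTheory.Limits AlgebraicGeometry Topology TopologicalSpace
open AlgSp

set_option backward.isDefEq.respectTransparency false

namespace Groth.Agent.S10459

open Groth.Agent

/-- Let f : X ⟶ Y be a dominant morphism locally of finite type between integral algebraic spaces over a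
scheme S, with Y locally Noetherian, and let r be the transcendence degree of the generic point of X
over its image (the generic point of Y). Then dim X ≤ dim Y + r. -/
theorem result {S : Scheme.{u}} {X Y : AlgSp.Space S} (f : X ⟶ Y)
    (hY : AlgSp.IsLocNoethSp Y.obj) (hXi : AlgSp.IsIntegralSp X.obj) (hYi : AlgSp.IsIntegralSp Y.obj)
    (hd : AlgSp.IsDominantMor f.hom) (hft : AlgSp.LocP @LocallyOfFiniteType f.hom)
    (x : AlgSp.Points X.obj) (hx : IsGenericPoint x (Set.univ : Set (AlgSp.Points X.obj))) (r : ℕ)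
    (hr : AlgSp.HasAtMor (fun _ _ h u => Dual3.resTrdeg h u = (r : Cardinal.{u})) f.hom x) :
    AlgSp.dim X.obj ≤ AlgSp.dim Y.obj + ((r : ℕ∞) : WithBot ℕ∞) := by
  refine iSup_le fun U => iSup_le fun a => iSup_le fun ha => ?_
  rw [DimIneq.topologicalKrullDim_eq_iSup_stalk U.left]
  refine iSup_le fun u => ?_
  obtain ⟨V, b, v, hb, hv⟩ := AlgSpD.exists_chart Y (AlgSp.Points.map f.hom (AlgSp.Points.ofPt a u))
  obtain ⟨R, p, h, t, hpa, hp, w, ht, htv⟩ := AlgSpD.exists_diagram_over f ha u hb hv
  have := hp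
  haveI : LocallyOfFiniteType h.left := hft _ b h hpa hb w
  haveI := Groth.Agent.AlgSp.isLocallyNoetherian_of_etale_chart b hb hY
  rw [← ht, AlgSpD.ringKrullDim_stalk_eq p.left t]
  refine le_trans (AlgSpCov.DimBound.stalkDim_le_add h.left t r fun ξ _ hξ => ?_) ?_
  · have hcl : closure {ξ} ∈ irreducibleComponents (R.left : Type u) :=
      (FlatMor.GenericPts.closure_mem_irreducibleComponents_iff ξ).2 fun z hz => specializes_of_eq (hξ z hz).symm
    have e : AlgSp.Points.ofPt ((AlgSp.yon S).map p ≫ a) ξ = x :=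
      (AlgSpCov.IntegralSp.hasAt_zero_iff hXi hx _).1 ((Groth.Agent.AlgSp.codim0_iff_chart hpa ξ).2 hcl)
    rw [← e] at hr
    exact le_of_eq ((AlgSpD.hasAtMor_iff_chart (AlgSpD.morEtaleInv_resTrdeg _) f hpa hb w ξ).1 hr)
  · refine add_le_add ?_ le_rfl
    refine le_trans ?_ (le_iSup_of_le V (le_iSup_of_le b (le_iSup (fun _ : AlgSp.RepWith @Etale b => topologicalKrullDim ↥V.left) hb)))
    rw [DimIneq.topologicalKrullDim_eq_iSup_stalk V.left]
    exact le_iSup (fun v : ↥V.left => ringKrullDim ↥(V.left.presheaf.stalk v)) (h.left t)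

end Groth.Agent.S10459
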