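import Groth.Statements.S1046
import Groth.Agent.RDPlus.Basic
import Groth.Agent.KFlat.MVTriangle
import Groth.Agent.CohDerLib.QC.QFlasque
import Groth.Agent.CohDerLib.QC.PushQCoh
import Groth.Agent.QCohD.DQ
import Groth.Agent.CohBase.TorBC.Induction

set_option autoImplicit false
universe u
open CategoryTheory CategoryTheory.Limits AlgebraicGeometry
attribute [local instance] HasDerivedCategory.standard
open Perf

namespace Groth.Agent.S1046

open CategoryTheory.Pretriangulated Groth.Agent.KFlat Groth.Agent.KFlat.RPush Groth.Agent.KFlat.WeakKInj TopologicalSpace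

variable {X : Scheme.{u}} (U : X.Opens)

/-- For injective modules the restriction map is an epimorphism. -/
theorem epi_η {F : X.Modules} (hF : Injective F) : Epi ((MVSheaf.η U).app F) := by
  refine MVSheaf.epi_of_surjective (U := (⊤ : X.Opens)) (V := (⊤ : X.Opens)) (by simp) _ fun O _ => ?_
  have := Groth.Agent.ModShf.isFlasque_toAb_of_injective F hF
  exact (AddCommGrpCat.epi_iff_surjective _).1
    (TopCat.Presheaf.IsFlasque.epi (F := (Coh.toAb F).obj) (homOfLE (U.ι.image_preimage_le O)).op)

/-- Sections with support, on complexes. -/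
noncomputable abbrev Γc : CochainComplex X.Modules ℤ ⥤ CochainComplex X.Modules ℤ :=
  (DCoh.gammaZ U.ι).mapHomologicalComplex (ComplexShape.up ℤ)

/-- The inclusion of the sections with support. -/
noncomputable def incl (I : CochainComplex X.Modules ℤ) : (Γc U).obj I ⟶ I where
  f n := kernel.ι ((MVSheaf.η U).app (I.X n))
  comm' i j _ := (kernel.lift_ι _ _ _).symm

/-- The sequence of sections with support. -/
noncomputable def supSeq (I : CochainComplex X.Modules ℤ) : ShortComplex (CochainComplex X.Modules ℤ) :=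
  ShortComplex.mk (incl U I) (MVTriangle.ηc U I)
    (HomologicalComplex.hom_ext _ _ fun n => kernel.condition ((MVSheaf.η U).app (I.X n)))

theorem shortExact_supSeq (I : CochainComplex X.Modules ℤ) (hI : ∀ n, Injective (I.X n)) :
    (supSeq U I).ShortExact :=
  HomologicalComplex.shortExact_of_degreewise_shortExact _ fun n =>
    { exact := ShortComplex.exact_of_f_is_kernel _ (kernelIsKernel ((MVSheaf.η U).app (I.X n)))
      mono_f := inferInstanceAs (Mono (kernel.ι ((MVSheaf.η U).app (I.X n))))
      epi_g := epi_η U (hI n) }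

theorem isQCohD_Γc [QuasiCompact U.ι] (I : CochainComplex X.Modules ℤ) [I.IsKInjective]
    (hI : ∀ n, Injective (I.X n)) (hq : DCoh.IsQCohD (DerivedCategory.Q.obj I : DCoh.D X)) :
    DCoh.IsQCohD (DerivedCategory.Q.obj ((Γc U).obj I) : DCoh.D X) := by
  let T := DerivedCategory.triangleOfSES (shortExact_supSeq U I hI)
  have hT : T ∈ distinguishedTriangles := DerivedCategory.triangleOfSES_distinguished _
  have h₃ : DCoh.IsQCohD T.obj₃ := CohDerLib.QC.isQCohD_iso (MVTriangle.rcIso I U).symm
    (CohDerLib.QC.isQCohD_Rpush U.ι _ (CohBase.TorBC.isQCohD_restrictD U hq))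
  exact ObjectProperty.ext_of_isTriangulatedClosed₂ (DCoh.IsQCohD (X := X)) T.invRotate
    (inv_rot_of_distTriang _ hT) (CohDerLib.QC.isQCohD_shift h₃ (-1)) hq

theorem isZero_restrict_gammaZ (F : X.Modules) :
    IsZero ((Scheme.Modules.restrictFunctor U.ι).obj ((DCoh.gammaZ U.ι).obj F)) := by
  have := MVSheaf.isIso_restrict_η (le_refl U) F
  exact (isZero_kernel_of_mono ((Scheme.Modules.restrictFunctor U.ι).map ((MVSheaf.η U).app F))).of_iso
    (PreservesKernel.iso (Scheme.Modules.restrictFunctor U.ι) ((MVSheaf.η U).app F))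

theorem notMem_support {M : X.Modules} (h : IsZero ((Scheme.Modules.restrictFunctor U.ι).obj M)) {x : X}
    (hx : x ∈ U) : x ∉ CohB1.support M := by
  refine fun hs => hs (subsingleton_of_forall_eq 0 fun t => ?_)
  obtain ⟨W, hxW, m, rfl⟩ := M.presheaf.exists_germ_eq (x := x) t
  have hUW : U.ι ''ᵁ (U.ι ⁻¹ᵁ W) = U ⊓ W := by
    rw [Scheme.Hom.image_preimage_eq_opensRange_inf, Scheme.Opens.opensRange_ι]
  have hmem : x ∈ U.ι ''ᵁ (U.ι ⁻¹ᵁ W) := hUW.ge ⟨hx, hxW⟩
  have h0 : M.presheaf.map (homOfLE (U.ι.image_preimage_le W)).op m = 0 :=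
    (congr($((IsZero.iff_id_eq_zero _).1 h).app (U.ι ⁻¹ᵁ W)
      (show Γ(M.restrict U.ι, U.ι ⁻¹ᵁ W) from M.presheaf.map (homOfLE (U.ι.image_preimage_le W)).op m)) :)
  rw [← M.presheaf.germ_res_apply (homOfLE (U.ι.image_preimage_le W)) x hmem m, h0, map_zero]

/-- Let U ⊆ X be an open subscheme with quasi-compact inclusion and T = X ∖ U. Assuming O_X-modules have
enough injectives (true, not recorded), for every bounded below E ∈ D(O_X) with quasi-coherent
cohomology sheaves, the derived sections with support RΓ_T(E) (right derived functor of F ↦ ker(F →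
j_*(F|_U))) has quasi-coherent cohomology sheaves, all supported on T. -/
theorem result (X : Scheme.{u}) (U : X.Opens) [QuasiCompact U.ι] [EnoughInjectives X.Modules]
    (E : DerivedCategory.Plus X.Modules) (hE : DCoh.IsQCohD E.obj) :
    DCoh.IsQCohD ((DCoh.RgammaZPlus U.ι).obj E).obj ∧
    ∀ i : ℤ, CohB1.support (DCoh.HD ((DCoh.RgammaZPlus U.ι).obj E).obj i) ⊆ (U : Set X)ᶜ := by
  obtain ⟨a, ha⟩ := E.2
  have : DerivedCategory.IsGE E.obj a := ha
  have : DerivedCategory.Plus.IsGE E a := (E.isGE_ι_obj_iff a).1 (by assumption)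
  obtain ⟨L, hL, ⟨e⟩⟩ := DerivedCategory.Plus.exists_injective_nonempty_iso E a
  have : L.obj.IsStrictlyGE a := hL
  let I : CochainComplex X.Modules ℤ := ((InjectiveObject.ι X.Modules).mapHomologicalComplex (ComplexShape.up ℤ)).obj L.obj
  have hI : ∀ n, Injective (I.X n) := fun n => (L.obj.X n).property
  have : I.IsKInjective := CochainComplex.isKInjective_of_injective I a
  let eR : ((DCoh.RgammaZPlus U.ι).obj E).obj ≅ DerivedCategory.Q.obj ((Γc U).obj I) :=
    (DerivedCategory.Plus.ι).mapIso ((DCoh.RgammaZPlus U.ι).mapIso e.symm ≪≫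
      ((Groth.Agent.RDPlus.Basic.injIso (DCoh.gammaZ U.ι)).app
        ((HomotopyCategory.Plus.quotient _).obj L)).symm) ≪≫
      (DerivedCategory.quotientCompQhIso X.Modules).app _
  have hq : DCoh.IsQCohD (DerivedCategory.Q.obj I : DCoh.D X) :=
    CohDerLib.QC.isQCohD_iso ((DerivedCategory.Plus.ι).mapIso e).symm hE
  refine ⟨CohDerLib.QC.isQCohD_iso eR.symm (isQCohD_Γc U I hI hq), fun i x hx hxU => ?_⟩
  refine notMem_support U ?_ hxU hx
  refine IsZero.of_iso ?_ ((Scheme.Modules.restrictFunctor U.ι).mapIso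
    ((DerivedCategory.homologyFunctor X.Modules i).mapIso eR ≪≫
      (DerivedCategory.homologyFunctorFactors X.Modules i).app _) ≪≫
    ((((Γc U).obj I).sc i).mapHomologyIso (Scheme.Modules.restrictFunctor U.ι)).symm)
  exact (HomologicalComplex.exactAt_iff_isZero_homology
    (((Scheme.Modules.restrictFunctor U.ι).mapHomologicalComplex _).obj ((Γc U).obj I)) i).1
    (ShortComplex.exact_of_isZero_X₂ _ (isZero_restrict_gammaZ U (I.X i)))

end Groth.Agent.S1046
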