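import Groth.Statements.S10460
import Groth.Agent.S10459
import Groth.Agent.AlgSpCov.DimBound.Proper
-- import your own Groth.Agent.* helpers here

set_option autoImplicit false
universe u
open CategoryTheory CategoryTheory.Limits AlgebraicGeometry Topology TopologicalSpace
open AlgSp

namespace Groth.Agent.S10460

/-- Let f : X ⟶ Y be a proper dominant morphism between integral algebraic spaces over a scheme S, with
Y locally Noetherian, and let r be the transcendence degree of the generic point of X over the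
generic point of Y. Then dim X = dim Y + r. -/
theorem result {S : Scheme.{u}} {X Y : AlgSp.Space S} (f : X ⟶ Y)
    (hY : AlgSp.IsLocNoethSp Y.obj) (hXi : AlgSp.IsIntegralSp X.obj) (hYi : AlgSp.IsIntegralSp Y.obj)
    (hd : AlgSp.IsDominantMor f.hom) (hp : AlgSp.IsProperMor f.hom)
    (x : AlgSp.Points X.obj) (hx : IsGenericPoint x (Set.univ : Set (AlgSp.Points X.obj))) (r : ℕ)
    (hr : AlgSp.HasAtMor (fun _ _ h u => Dual3.resTrdeg h u = (r : Cardinal.{u})) f.hom x) :
    AlgSp.dim X.obj = AlgSp.dim Y.obj + ((r : ℕ∞) : WithBot ℕ∞) := by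
  refine le_antisymm (Groth.Agent.S10459.result f hY hXi hYi hd hp.2.1.1 x hx r hr) ?_
  have hfx : IsGenericPoint (AlgSp.Points.map f.hom x) (Set.univ : Set (AlgSp.Points Y.obj)) := by
    refine Set.eq_univ_of_univ_subset ?_
    rw [← Dense.closure_eq (s := Set.range (AlgSp.Points.map f.hom)) hd]
    refine closure_minimal ?_ isClosed_closure
    rintro _ ⟨z, rfl⟩
    exact specializes_iff_mem_closure.1 ((hx.specializes trivial).map (AlgSp.Points.continuous_map f.hom))
  have key := fun (V : Over S) (b : (AlgSp.yon S).obj V ⟶ Y.obj) (hb : AlgSp.RepWith @Etale b) (l : LTSeries ↥V.left) =>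
    Groth.Agent.AlgSpCov.DimBound.dim_add_le f hXi.2.1 hYi.2.1 hp.2.1.1 hp.2.2 hx hfx r hr b hb l
  obtain ⟨V₀, b₀, v₀, hb₀, -⟩ := Groth.Agent.AlgSpD.exists_chart Y (AlgSp.Points.map f.hom x)
  have h0 := key V₀ b₀ hb₀ (RelSeries.singleton _ v₀)
  generalize AlgSp.dim X.obj = c at key h0 ⊢
  cases c with
  | bot => simp at h0
  | coe c =>
    cases c with
    | top => exact le_top
    | coe n =>
      have hrn : r ≤ n := le_trans (Nat.le_add_left _ _) (show _ + r ≤ n by exact_mod_cast h0)
      have hY' : AlgSp.dim Y.obj ≤ ((n - r : ℕ) : WithBot ℕ∞) := iSup_le fun V => iSup_le fun b => iSup_le fun hb => by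
        rw [show topologicalKrullDim ↥V.left = Order.krullDim ↥V.left from
          Order.krullDim_eq_of_orderIso irreducibleSetEquivPoints]
        refine iSup_le fun l => ?_
        have h1 : l.length + r ≤ n := by exact_mod_cast key V b hb l
        exact_mod_cast (show l.length ≤ n - r by omega)
      refine (add_le_add hY' le_rfl).trans ?_
      show ((n - r : ℕ) : WithBot ℕ∞) + (((r : ℕ) : ℕ∞) : WithBot ℕ∞) ≤ (((n : ℕ) : ℕ∞) : WithBot ℕ∞)
      rw [show (((r : ℕ) : ℕ∞) : WithBot ℕ∞) = (r : WithBot ℕ∞) from rfl, ← Nat.cast_add]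
      exact Nat.cast_le.2 (show n - r + r ≤ n by omega)

end Groth.Agent.S10460
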