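import Groth.Statements.S10461
import Groth.Agent.AlgSpB.GrpField.FibreCover
import Mathlib.RingTheory.Spectrum.Prime.Homeomorph

set_option autoImplicit false
set_option backward.isDefEq.respectTransparency false
set_option backward.isDefEq.respectTransparency.types false

universe u
open CategoryTheory CategoryTheory.Limits AlgebraicGeometry Topology TopologicalSpace
open AlgSp

namespace Groth.Agent.S10461

/-- Let k be a field, X an algebraic space over k and k'/k a purely inseparable field extension. If
X_{k'} is a scheme, then X is a scheme. -/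
theorem result (k : Type u) [Field k] (X : AlgSp.Space (Spec (CommRingCat.of k)))
    (k' : Type u) [Field k'] [Algebra k k'] [IsPurelyInseparable k k']
    (h : (X.obj ⨯ (AlgSp.yon (Spec (CommRingCat.of k))).obj (Over.mk (Spec.map (CommRingCat.ofHom (algebraMap k k'))))).obj.IsRepresentable) : X.obj.obj.IsRepresentable := by
  let S := Spec (CommRingCat.of k)
  refine Groth.Agent.AlgSpB.GrpField.isRepresentable_of_forall_nhd X fun x => ?_
  obtain ⟨T, ⟨e⟩⟩ := Groth.Agent.AlgSpB.exists_iso_of_isRepresentable h
  obtain ⟨p, hp⟩ := Groth.Agent.AlgSpB.exists_eq_ofPt_toHom x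
  obtain ⟨κ, hκ⟩ := Spec.map_surjective (R := CommRingCat.of k) (S := CommRingCat.of p.K) p.str
  let : Algebra k p.K := κ.hom.toAlgebra
  let i : Groth.Agent.AlgSpB.GrpField.extObj k p.K ⟶ p.pt := Over.homMk (𝟙 _) (by
    change _ ≫ p.str = _
    rw [Category.id_comp, ← hκ]; rfl)
  have : Algebra.IsAlgebraic k k' := inferInstance
  obtain ⟨Ro, hR, rL, gF, -, -, hr, hsurj⟩ :=
    Groth.Agent.AlgSpB.GrpField.exists_fibre_cover k' p.K X ((yon S).map i ≫ p.toHom)
  have hx : Points.ofPt ((yon S).map i ≫ p.toHom) (IsLocalRing.closedPoint p.K) = x := by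
    rw [Groth.Agent.AlgSpB.ofPt_map_comp, hp]
  rw [hx] at hr hsurj
  have hs : Subsingleton Ro.left := by
    have h1 := PrimeSpectrum.isHomeomorph_comap_of_isPurelyInseparable k k' p.K
    have : Subsingleton (PrimeSpectrum (TensorProduct k k' p.K)) :=
      ((PrimeSpectrum.comapEquiv (Algebra.TensorProduct.comm k k' p.K).toRingEquiv).toEquiv.subsingleton_congr).2
        h1.bijective.injective.subsingleton
    have : Subsingleton (Spec (CommRingCat.of (TensorProduct k k' p.K))) := this
    exact hR.inv.homeomorph.injective.subsingleton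
  obtain ⟨r⟩ : Nonempty Ro.left := ⟨hR.hom (Classical.arbitrary (PrimeSpectrum (TensorProduct k k' p.K)))⟩
  have huniq : ∀ f, Points.map prod.fst f = x → f = Points.ofPt gF r := fun f hf => by
    obtain ⟨r', rfl⟩ := hsurj f hf
    rw [Subsingleton.elim r' r]
  obtain ⟨W, hW, hrW, -⟩ := exists_isAffineOpen_mem_and_subset
    (x := Points.toScheme T (Points.map e.inv (Points.ofPt gF r))) (U := ⊤) trivial
  exact Groth.Agent.AlgSpB.GrpField.exists_scheme_nhd_of_finite X e x
    ((Set.finite_singleton (Points.ofPt gF r)).subset fun f hf => huniq f hf) W hW fun f hf => huniq f hf ▸ hrW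

end Groth.Agent.S10461
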