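import Groth.Statements.S10468
import Groth.Agent.AlgSpCov.GeomConn.Field
-- import your own Groth.Agent.* helpers here

set_option autoImplicit false
universe u
open CategoryTheory CategoryTheory.Limits AlgebraicGeometry Topology TopologicalSpace
open AlgSp

set_option backward.isDefEq.respectTransparency false

namespace Groth.Agent.S10468

open Groth.Agent

/-- Let k be a field with separable algebraic closure k̄ and X an algebraic space over k. Then X is
geometrically connected if and only if X_{k̄} is connected. -/
theorem result (k : Type u) [Field k] (X : AlgSp.Space (Spec (CommRingCat.of k)))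
    (kbar : Type u) [Field kbar] [Algebra k kbar] [IsSepClosure k kbar] :
    (∀ (K : Type u) [Field K] [Algebra k K], ConnectedSpace (AlgSp.Points (X.obj ⨯ (AlgSp.yon (Spec (CommRingCat.of k))).obj (Over.mk (Spec.map (CommRingCat.ofHom (algebraMap k K))))))) ↔ ConnectedSpace (AlgSp.Points (X.obj ⨯ (AlgSp.yon (Spec (CommRingCat.of k))).obj (Over.mk (Spec.map (CommRingCat.ofHom (algebraMap k kbar)))))) := by
  refine ⟨fun h => h kbar, fun h K _ _ => ?_⟩
  have : IsSepClosed kbar := IsSepClosure.sep_closed k
  exact AlgSpCov.GeomConn.connectedSpace_of_sepClosed X kbar K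

end Groth.Agent.S10468
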