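import Groth.Statements.S1047
import Groth.Agent.DRing.PCTools
import Mathlib.RingTheory.Finiteness.Basic

set_option autoImplicit false
universe u
open CategoryTheory CategoryTheory.Limits
attribute [local instance] HasDerivedCategory.standard
open Perf

namespace Groth.Agent.S1047

open CategoryTheory.Pretriangulated DerivedCategory Groth.Agent.DRing

variable {A : Type u} [CommRing A] {R : Type u} [Ring R] [Algebra A R]

theorem finiteFree_iso {M N : ModuleCat.{u} R} (e : M ≅ N) (h : Module.Finite R M ∧ Module.Free R M) :
    Module.Finite R N ∧ Module.Free R N :=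
  ⟨have := h.1; Module.Finite.equiv e.toLinearEquiv, have := h.2; Module.Free.of_equiv e.toLinearEquiv⟩

theorem finiteFree_zero {M : ModuleCat.{u} R} (h : IsZero M) : Module.Finite R M ∧ Module.Free R M := by
  have := ModuleCat.subsingleton_of_isZero h
  exact ⟨inferInstance, Module.Free.of_subsingleton R M⟩

theorem finiteFree_sum {M N : ModuleCat.{u} R} (hM : Module.Finite R M ∧ Module.Free R M)
    (hN : Module.Finite R N ∧ Module.Free R N) :
    Module.Finite R (M ⊞ N : ModuleCat.{u} R) ∧ Module.Free R (M ⊞ N : ModuleCat.{u} R) := by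
  obtain ⟨_, _⟩ := hM
  obtain ⟨_, _⟩ := hN
  exact finiteFree_iso (ModuleCat.biprodIsoProd M N).symm
    ⟨inferInstanceAs (Module.Finite R (M × N)), inferInstanceAs (Module.Free R (M × N))⟩

theorem finiteFree_res [Module.Finite A R] [Module.Free A R] {M : ModuleCat.{u} R}
    (h : Module.Finite R M ∧ Module.Free R M) :
    Module.Finite A ((ModuleCat.restrictScalars.{u} (algebraMap A R)).obj M) ∧ Module.Free A ((ModuleCat.restrictScalars.{u} (algebraMap A R)).obj M) := by
  let : Module A M := Module.compHom M (algebraMap A R)
  have : IsScalarTower A R M := IsScalarTower.of_algebraMap_smul fun _ _ => rfl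
  have := h.1
  have := h.2
  exact ⟨show Module.Finite A M from Module.Finite.trans R M, show Module.Free A M from Module.Free.trans (R := A) (S := R)⟩

theorem finite_of_res {M : ModuleCat.{u} R} (h : Module.Finite A ((ModuleCat.restrictScalars.{u} (algebraMap A R)).obj M)) : Module.Finite R M := by
  let : Module A M := Module.compHom M (algebraMap A R)
  have : IsScalarTower A R M := IsScalarTower.of_algebraMap_smul fun _ _ => rfl
  have : Module.Finite A M := h
  exact Module.Finite.of_restrictScalars_finite A R M

/-- A finite homology module is covered by cycles from a finite free module. -/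
theorem exists_cover (K : CochainComplex (ModuleCat.{u} R) ℤ) (i j k : ℤ) (hij : j + 1 = i) (hik : i + 1 = k)
    (hfin : Module.Finite R (K.homology i)) :
    ∃ (F : ModuleCat.{u} R) (g : F ⟶ K.X i), (Module.Finite R F ∧ Module.Free R F) ∧
      g ≫ K.d i k = 0 ∧
      ∀ z, Homology.IsCyc K i z → ∃ (f : F) (w : K.X j), g.hom f + (K.d j i).hom w = z := by
  subst hik
  let cl : LinearMap.ker (K.d i (i + 1)).hom →ₗ[R] K.homology i :=
    { toFun := fun z => Homology.cls z.1 z.2
      map_add' := fun z w => Homology.cls_add z.2 w.2
      map_smul' := fun r z => Homology.cls_smul z.2 r }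
  have hcl : Function.Surjective cl := fun x => by
    obtain ⟨z, hz, rfl⟩ := Homology.cls_surjective x
    exact ⟨⟨z, hz⟩, rfl⟩
  obtain ⟨n, q, hq⟩ := Module.Finite.exists_fin' R (K.homology i)
  obtain ⟨l, hl⟩ := Module.projective_lifting_property cl q hcl
  refine ⟨ModuleCat.of R (Fin n → R),
    ModuleCat.ofHom ((LinearMap.ker (K.d i (i + 1)).hom).subtype.comp l),
    ⟨inferInstanceAs (Module.Finite R (Fin n → R)), inferInstanceAs (Module.Free R (Fin n → R))⟩,
    ModuleCat.hom_ext (LinearMap.ext fun x => (l x).2), fun z hz => ?_⟩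
  obtain ⟨f, hf⟩ := hq (Homology.cls z hz)
  have : Homology.cls (l f).1 (l f).2 = Homology.cls z hz := (LinearMap.congr_fun hl f).trans hf
  obtain ⟨w, hw⟩ := (Homology.cls_eq_iff j hij (l f).2 hz).1 this
  refine ⟨f, -w, ?_⟩
  rw [map_neg, hw]
  change (l f).1 + -((l f).1 - z) = z
  abel

/-- Let A be a commutative ring and R an A-algebra, not necessarily commutative, whose underlying
A-module is finite free. Restriction of scalars being exact (carried as instance hypotheses), if an
object M of D(R) becomes pseudo-coherent in D(A) after restriction of scalars (isomorphic to a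
bounded above complex of finite free A-modules), then M is represented by a bounded above complex of
finite free R-modules. (The source phrases this for right modules; we use left modules, which is the
same statement for the opposite algebra.) -/
theorem result (A : Type u) [CommRing A] (R : Type u) [Ring R] [Algebra A R]
    [Module.Finite A R] [Module.Free A R]
    [PreservesFiniteLimits (ModuleCat.restrictScalars.{u} (algebraMap A R))] [PreservesFiniteColimits (ModuleCat.restrictScalars.{u} (algebraMap A R))]
    (M : DerivedCategory (ModuleCat.{u} R))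
    (hM : DRing.IsPseudoCoherent' A (((ModuleCat.restrictScalars.{u} (algebraMap A R)).mapDerivedCategory).obj M)) :
    ∃ (F : CochainComplex (ModuleCat.{u} R) ℤ) (b : ℤ), (∀ i : ℤ, b < i → IsZero (F.X i)) ∧
      (∀ i : ℤ, Module.Finite R (F.X i) ∧ Module.Free R (F.X i)) ∧ Nonempty (DerivedCategory.Q.obj F ≅ M) := by
  let P := Q.objPreimage M
  let φ := ModuleCat.restrictScalars.{u} (algebraMap A R)
  let φc := φ.mapHomologicalComplex (ComplexShape.up ℤ)
  let eM : Q.obj P ≅ M := Q.objObjPreimageIso M
  let hres : ∀ (C : CochainComplex (ModuleCat.{u} R) ℤ) (i : ℤ), (φc.obj C).homology i ≅ φ.obj (C.homology i) :=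
    fun C i => (C.sc i).mapHomologyIso φ
  have hexact : ∀ (C : CochainComplex (ModuleCat.{u} R) ℤ) (i : ℤ),
      C.ExactAt i ↔ Subsingleton (Dual.HD A (Q.obj (φc.obj C)) i) := fun C i => by
    rw [HomologicalComplex.exactAt_iff_isZero_homology, DBasic.subsingleton_HD_toD_iff]
    refine ⟨fun h => (φ.map_isZero h).of_iso (hres C i), fun h => ?_⟩
    rw [IsZero.iff_id_eq_zero]
    exact φ.map_injective ((h.of_iso (hres C i).symm).eq_of_src _ _)
  have hP : ∀ m, DRing.IsPseudoCoherent A m (Q.obj (φc.obj P)) := fun m =>
    PC.pc_of_iso ((φ.mapDerivedCategory.mapIso eM).symm ≪≫ φ.mapDerivedCategoryFactors.app P)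
      ((PC.pc'_iff _).1 hM m)
  obtain ⟨b, hb⟩ := PC.pc_boundedAbove (hP 0)
  obtain ⟨E, π, hEb, hEf, hπ⟩ := BARes.exists_resolution (K := P)
    (C := fun M => Module.Finite R M ∧ Module.Free R M) (b := b) (fun i hi => (hexact P i).2 (hb i hi))
    (fun e h => finiteFree_iso e h) (fun M hM => finiteFree_zero hM)
    (fun M N hM hN => finiteFree_sum hM hN) (fun m E α hm hE hf hex => by
      have hT := DerivedCategory.mappingCone_triangle_distinguished (φc.map α)
      have h2 : DRing.IsPseudoCoherent A (m - 1) (Q.obj (CochainComplex.mappingCone (φc.map α))) :=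
        PC.pc_cone hT (PC.pc_of_bounded (a := m) (b := b) (fun i hi => φ.map_isZero (hE i hi))
          (fun i => finiteFree_res (hf i)) _) (hP _)
      let eC : φc.obj (CochainComplex.mappingCone α) ≅ CochainComplex.mappingCone (φc.map α) :=
        CochainComplex.mappingCone.mapHomologicalComplexIso α φ
      have h3 : DRing.IsPseudoCoherent A (m - 1) (Q.obj (φc.obj (CochainComplex.mappingCone α))) :=
        PC.pc_of_iso (Q.mapIso eC.symm) h2
      have := PC.finite_top h3 fun i hi => (hexact _ i).1 (hex i (by omega))
      have h4 : Module.Finite A (φ.obj ((CochainComplex.mappingCone α).homology (m - 1))) :=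
        Module.Finite.equiv (DBasic.hIso (φc.obj (CochainComplex.mappingCone α)) (m - 1) ≪≫
          hres (CochainComplex.mappingCone α) (m - 1)).toLinearEquiv
      exact exists_cover _ (m - 1) (m - 2) m (by omega) (by omega) (finite_of_res h4))
  have := (DerivedCategory.isIso_Q_map_iff_quasiIso (φ := π)).2 hπ
  exact ⟨E, b, hEb, hEf, ⟨asIso (Q.map π) ≪≫ eM⟩⟩

end Groth.Agent.S1047
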