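import Groth.Statements.S10475
import Groth.Agent.GeomRedSp.Basic
-- import your own Groth.Agent.* helpers here

set_option autoImplicit false
universe u
open CategoryTheory CategoryTheory.Limits AlgebraicGeometry Topology TopologicalSpace
open AlgSp

set_option backward.isDefEq.respectTransparency false

namespace Groth.Agent.S10475

open Groth.Agent

/-- Let k be a perfect field and X a reduced algebraic space over k. Then X is geometrically reduced
over k (geometrically reduced at every point). -/
theorem result (k : Type u) [Field k] [PerfectField k]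
    (X : AlgSp.Space (Spec (CommRingCat.of k))) (hX : AlgSp.EtaleLocally (fun U => IsReduced U) X.obj) (x : AlgSp.Points X.obj) :
    (∃ (U : Over (Spec (CommRingCat.of k))) (a : (AlgSp.yon (Spec (CommRingCat.of k))).obj U ⟶ X.obj) (u : ↥U.left),
      AlgSp.RepWith @Etale a ∧ AlgSp.Points.ofPt a u = x ∧ FBase.IsGeomReducedAt U.hom u) := by
  obtain ⟨U, a, u, ha, rfl⟩ := AlgSpD.exists_chart X x
  refine ⟨U, a, u, ha, rfl, ?_⟩
  obtain ⟨U₀, a₀, ha₀, has, hr⟩ := hX
  obtain ⟨u₀, hu₀⟩ := AlgSpB.surjective_ofPt has (AlgSp.Points.ofPt a u)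
  obtain ⟨W, p, q, w, -, hp, hq, hwp, hwq⟩ := AlgSpD.exists_common_chart ha₀ ha hu₀
  have : AlgebraicGeometry.IsReduced U₀.left := hr
  have hred : _root_.IsReduced (U.left.presheaf.stalk u) := by
    rw [← hwq]
    exact (AlgSpD.isReduced_stalk_iff q.left w).1 ((AlgSpD.isReduced_stalk_iff p.left w).2 inferInstance)
  let : U.left.Over (Spec (CommRingCat.of k)) := ⟨U.hom⟩
  exact GeomLoc.isGeomReducedAt_of_perfectField u

end Groth.Agent.S10475
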