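import Groth.Statements.S10476
import Groth.Agent.GeomRedSp.Basic
-- import your own Groth.Agent.* helpers here

set_option autoImplicit false
universe u
open CategoryTheory CategoryTheory.Limits AlgebraicGeometry Topology TopologicalSpace
open AlgSp

set_option backward.isDefEq.respectTransparency false

namespace Groth.Agent.S10476

open Groth.Agent

/-- (1) ⇔ (2): let k be a field of characteristic p > 0 and X an algebraic space over k. Then X is
geometrically reduced over k exactly when X_K is reduced for all field extensions K of k. -/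
theorem result (k : Type u) [Field k] (p : ℕ) [Fact p.Prime] [CharP k p]
    (X : AlgSp.Space (Spec (CommRingCat.of k))) :
    (∀ x : AlgSp.Points X.obj, (∃ (U : Over (Spec (CommRingCat.of k))) (a : (AlgSp.yon (Spec (CommRingCat.of k))).obj U ⟶ X.obj) (u : ↥U.left),
      AlgSp.RepWith @Etale a ∧ AlgSp.Points.ofPt a u = x ∧ FBase.IsGeomReducedAt U.hom u)) ↔
      ∀ (K : Type u) [Field K] [Algebra k K], AlgSp.EtaleLocally (fun U => IsReduced U) (X.obj ⨯ (AlgSp.yon (Spec (CommRingCat.of k))).obj (Over.mk (Spec.map (CommRingCat.ofHom (algebraMap k K))))) := by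
  obtain ⟨U, a, ha, hs⟩ := X.property.atlas
  refine (GeomRedSp.forall_gr_iff ha hs).trans ⟨fun h K _ _ => ?_, fun h u K _ _ x' _ => ?_⟩
  · obtain ⟨W, p, q, d, hd, sqs, -, sq⟩ := GeomRedSp.exists_prodChart
      (T := Over.mk (Spec.map (CommRingCat.ofHom (algebraMap k K)))) ha
    refine (GeomRedSp.etaleLocally_isReduced_iff hd (AlgSpCov.repWith_bc sq hs)).2 ?_
    exact (GeomRedSp.isReduced_stalk_bc_iff K p q sqs).2 fun y => h _ K y rfl
  · obtain ⟨W, p, q, d, hd, sqs, -, sq⟩ := GeomRedSp.exists_prodChart
      (T := Over.mk (Spec.map (CommRingCat.ofHom (algebraMap k K)))) ha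
    exact (GeomRedSp.isReduced_stalk_bc_iff K p q sqs).1
      ((GeomRedSp.etaleLocally_isReduced_iff hd (AlgSpCov.repWith_bc sq hs)).1 (h K)) x'

end Groth.Agent.S10476
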