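import Groth.Statements.S10477
import Groth.Agent.GeomRedSp.Basic
import Groth.Agent.S2521
-- import your own Groth.Agent.* helpers here

set_option autoImplicit false
universe u
open CategoryTheory CategoryTheory.Limits AlgebraicGeometry Topology TopologicalSpace
open AlgSp

set_option backward.isDefEq.respectTransparency false

namespace Groth.Agent.S10477

open Groth.Agent

/-- (6) ⇒ (2): let k be a field of characteristic p > 0 with algebraic closure k̄ and X an algebraic
space over k. If X_{k̄} is reduced, then X_K is reduced for every field extension K of k. -/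
theorem result (k : Type u) [Field k] (p : ℕ) [Fact p.Prime] [CharP k p]
    (X : AlgSp.Space (Spec (CommRingCat.of k))) (kbar : Type u) [Field kbar] [Algebra k kbar] [IsAlgClosure k kbar]
    (h : AlgSp.EtaleLocally (fun U => IsReduced U) (X.obj ⨯ (AlgSp.yon (Spec (CommRingCat.of k))).obj (Over.mk (Spec.map (CommRingCat.ofHom (algebraMap k kbar))))))
    (K : Type u) [Field K] [Algebra k K] : AlgSp.EtaleLocally (fun U => IsReduced U) (X.obj ⨯ (AlgSp.yon (Spec (CommRingCat.of k))).obj (Over.mk (Spec.map (CommRingCat.ofHom (algebraMap k K))))) := by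
  obtain ⟨U, a, ha, hs⟩ := X.property.atlas
  have : IsAlgClosed kbar := IsAlgClosure.isAlgClosed k
  obtain ⟨W₀, p₀, q₀, d₀, hd₀, sqs₀, -, sq₀⟩ := GeomRedSp.exists_prodChart
      (T := Over.mk (Spec.map (CommRingCat.ofHom (algebraMap k kbar)))) ha
  have h0 := (GeomRedSp.isReduced_stalk_bc_iff kbar p₀ q₀ sqs₀).1
      ((GeomRedSp.etaleLocally_isReduced_iff hd₀ (AlgSpCov.repWith_bc sq₀ hs)).1 h)
  obtain ⟨W, p, q, d, hd, sqs, -, sq⟩ := GeomRedSp.exists_prodChart
      (T := Over.mk (Spec.map (CommRingCat.ofHom (algebraMap k K)))) ha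
  refine (GeomRedSp.etaleLocally_isReduced_iff hd (AlgSpCov.repWith_bc sq hs)).2 ?_
  refine (GeomRedSp.isReduced_stalk_bc_iff K p q sqs).2 fun y => ?_
  have hsur : Surjective (Spec.map (CommRingCat.ofHom (algebraMap k kbar))) :=
    ⟨fun x => ⟨IsLocalRing.closedPoint kbar, Subsingleton.elim _ _⟩⟩
  have : Surjective (FBase.bcπ U.hom kbar) :=
    MorphismProperty.pullback_fst (P := @Surjective) U.hom _ hsur
  obtain ⟨z, hz⟩ := (FBase.bcπ U.hom kbar).surjective ((FBase.bcπ U.hom K) y)
  exact S2521.result (Ω := kbar) U.hom _ z hz (h0 z) K y rfl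

end Groth.Agent.S10477
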