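import Groth.Statements.S10479
import Groth.Agent.GeomRedSp.Basic
-- import your own Groth.Agent.* helpers here

set_option autoImplicit false
universe u
open CategoryTheory CategoryTheory.Limits AlgebraicGeometry Topology TopologicalSpace
open AlgSp

set_option backward.isDefEq.respectTransparency false

namespace Groth.Agent.S10479

open Groth.Agent

/-- Let k be a field, X an algebraic space over k, K/k a field extension, x a point of X and x' a point
of X_K lying over x. Then X is geometrically reduced at x (over k) if and only if X_K is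
geometrically reduced at x' (over K). -/
theorem result (k : Type u) [Field k] (X : AlgSp.Space (Spec (CommRingCat.of k))) (K : Type u) [Field K] [Algebra k K]
    (x : AlgSp.Points X.obj) (x' : AlgSp.Points (X.obj ⨯ (AlgSp.yon (Spec (CommRingCat.of k))).obj (Over.mk (Spec.map (CommRingCat.ofHom (algebraMap k K))))))
    (hx' : AlgSp.Points.map (Limits.prod.fst : (X.obj ⨯ (AlgSp.yon (Spec (CommRingCat.of k))).obj (Over.mk (Spec.map (CommRingCat.ofHom (algebraMap k K))))) ⟶ X.obj) x' = x) :
    (∃ (U : Over (Spec (CommRingCat.of k))) (a : (AlgSp.yon (Spec (CommRingCat.of k))).obj U ⟶ X.obj) (u : ↥U.left),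
      AlgSp.RepWith @Etale a ∧ AlgSp.Points.ofPt a u = x ∧ FBase.IsGeomReducedAt U.hom u) ↔
      ∃ (U' : Over (Spec (CommRingCat.of k))) (a' : (AlgSp.yon (Spec (CommRingCat.of k))).obj U' ⟶ (X.obj ⨯ (AlgSp.yon (Spec (CommRingCat.of k))).obj (Over.mk (Spec.map (CommRingCat.ofHom (algebraMap k K))))))
        (q : U' ⟶ Over.mk (Spec.map (CommRingCat.ofHom (algebraMap k K)))) (u' : ↥U'.left),
        AlgSp.RepWith @Etale a' ∧ a' ≫ Limits.prod.snd = (AlgSp.yon (Spec (CommRingCat.of k))).map q ∧
          AlgSp.Points.ofPt a' u' = x' ∧ FBase.IsGeomReducedAt q.left u' := by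
  obtain ⟨U, a, u, ha, hu⟩ := AlgSpD.exists_chart X x
  obtain ⟨W, p, q, d, hd, sqs, hdq, sq⟩ := GeomRedSp.exists_prodChart
      (T := Over.mk (Spec.map (CommRingCat.ofHom (algebraMap k K)))) ha
  obtain ⟨w, hw, hwx⟩ := GeomRedSp.exists_point_prodChart sq u x' (hx'.trans hu.symm)
  have key := GeomRedSp.isGeomReducedAt_tower_iff K p q sqs w
  rw [hw] at key
  refine (?_ : GeomRedSp.GR x ↔ _)
  rw [← hu, GeomRedSp.gr_iff_chart ha u, key]
  refine ⟨fun h => ⟨W, d, q, w, hd, hdq, hwx, h⟩, ?_⟩
  rintro ⟨U', a', q', u', ha', hq', e, h⟩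
  obtain ⟨R, r, s, z, hR, hr, hs', hz1, hz2⟩ := AlgSpD.exists_common_chart ha' hd (e.trans hwx.symm)
  have hqq : r ≫ q' = s ≫ q := by
    apply (AlgSp.yon _).map_injective
    rw [Functor.map_comp, Functor.map_comp, ← hq', ← hdq, ← Category.assoc, ← Category.assoc, hR.w]
  have hq2 : r.left ≫ q'.left = s.left ≫ q.left := congrArg CommaMorphism.left hqq
  rw [← hz2]
  rw [← hz1] at h
  exact (GeomRedSp.isGeomReducedAt_etale_iff (k := K) s.left q.left (s.left ≫ q.left) rfl z).1
    (hq2 ▸ (GeomRedSp.isGeomReducedAt_etale_iff (k := K) r.left q'.left (r.left ≫ q'.left) rfl z).2 h)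

end Groth.Agent.S10479
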