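import Groth.Statements.S10480
import Groth.Agent.GeomRedSp.Basic
-- import your own Groth.Agent.* helpers here

set_option autoImplicit false
universe u
open CategoryTheory CategoryTheory.Limits AlgebraicGeometry Topology TopologicalSpace
open AlgSp

set_option backward.isDefEq.respectTransparency false

namespace Groth.Agent.S10480

open Groth.Agent

/-- Let k be a field and f : X ⟶ Y a surjective etale morphism of algebraic spaces over k. Then X is
geometrically reduced over k if and only if Y is geometrically reduced over k. -/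
theorem result (k : Type u) [Field k] {X Y : AlgSp.Space (Spec (CommRingCat.of k))} (f : X ⟶ Y)
    (he : AlgSp.IsEtaleMor f.hom) (hs : AlgSp.IsSurjectiveMor f.hom) :
    (∀ x : AlgSp.Points X.obj, (∃ (U : Over (Spec (CommRingCat.of k))) (a : (AlgSp.yon (Spec (CommRingCat.of k))).obj U ⟶ X.obj) (u : ↥U.left),
      AlgSp.RepWith @Etale a ∧ AlgSp.Points.ofPt a u = x ∧ FBase.IsGeomReducedAt U.hom u)) ↔
      ∀ y : AlgSp.Points Y.obj, (∃ (U : Over (Spec (CommRingCat.of k))) (a : (AlgSp.yon (Spec (CommRingCat.of k))).obj U ⟶ Y.obj) (u : ↥U.left),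
      AlgSp.RepWith @Etale a ∧ AlgSp.Points.ofPt a u = y ∧ FBase.IsGeomReducedAt U.hom u) := by
  have key : ∀ x : AlgSp.Points X.obj, GeomRedSp.GR x ↔ GeomRedSp.GR (AlgSp.Points.map f.hom x) := by
    intro x
    obtain ⟨U, a, u, ha, rfl⟩ := AlgSpD.exists_chart X x
    rw [AlgSp.Points.map_ofPt, GeomRedSp.gr_iff_chart ha, GeomRedSp.gr_iff_chart (he a ha)]
  refine ⟨fun h y => ?_, fun h x => (key x).2 (h _)⟩
  obtain ⟨x, rfl⟩ := hs y
  exact (key x).1 (h x)

end Groth.Agent.S10480
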