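import Groth.Statements.S10481
import Groth.Agent.GeomRedSp.Basic
-- import your own Groth.Agent.* helpers here

set_option autoImplicit false
universe u
open CategoryTheory CategoryTheory.Limits AlgebraicGeometry Topology TopologicalSpace
open AlgSp

set_option backward.isDefEq.respectTransparency false

namespace Groth.Agent.S10481

open Groth.Agent

/-- Let k be a field, f : X ⟶ Y a morphism of algebraic spaces over k and x a point of X at which f is
etale. Then X is geometrically reduced at x if and only if Y is geometrically reduced at the image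
of x. -/
theorem result (k : Type u) [Field k] {X Y : AlgSp.Space (Spec (CommRingCat.of k))} (f : X ⟶ Y)
    (x : AlgSp.Points X.obj)
    (he : AlgSp.HasAtMor (fun U _ h u => ∃ W : U.Opens, u ∈ W ∧ Etale (W.ι ≫ h)) f.hom x) :
    (∃ (U : Over (Spec (CommRingCat.of k))) (a : (AlgSp.yon (Spec (CommRingCat.of k))).obj U ⟶ X.obj) (u : ↥U.left),
      AlgSp.RepWith @Etale a ∧ AlgSp.Points.ofPt a u = x ∧ FBase.IsGeomReducedAt U.hom u) ↔ (∃ (U : Over (Spec (CommRingCat.of k))) (a : (AlgSp.yon (Spec (CommRingCat.of k))).obj U ⟶ Y.obj) (u : ↥U.left),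
      AlgSp.RepWith @Etale a ∧ AlgSp.Points.ofPt a u = (AlgSp.Points.map f.hom x) ∧ FBase.IsGeomReducedAt U.hom u) := by
  obtain ⟨U, V, a, b, g, u, ha, hb, w, hu, W, huW, hW⟩ := he
  subst hu
  refine (GeomRedSp.gr_iff_chart ha u).trans ?_
  refine Iff.trans ?_ (Iff.symm (show GeomRedSp.GR (AlgSp.Points.map f.hom (AlgSp.Points.ofPt a u)) ↔
      FBase.IsGeomReducedAt V.hom (g.left u) from ?_))
  · have h1 := GeomRedSp.isGeomReducedAt_etale_iff W.ι U.hom (W.ι ≫ U.hom) rfl ⟨u, huW⟩
    have h2 := GeomRedSp.isGeomReducedAt_etale_iff (W.ι ≫ g.left) V.hom (W.ι ≫ U.hom)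
      (by rw [Category.assoc, Over.w g]) ⟨u, huW⟩
    exact h1.symm.trans h2
  · rw [AlgSp.Points.map_ofPt, w, AlgSpB.ofPt_map_comp, GeomRedSp.gr_iff_chart hb]

end Groth.Agent.S10481
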