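import Groth.Statements.S10483
import Groth.Agent.AlgSpCov.LqfField.Basic
import Groth.Agent.AlgSpCov.LocPBasic
import Groth.Agent.AlgSpCov.Listed
-- import your own Groth.Agent.* helpers here

set_option autoImplicit false
universe u
open CategoryTheory CategoryTheory.Limits AlgebraicGeometry Topology TopologicalSpace
open AlgSp

set_option backward.isDefEq.respectTransparency false

namespace Groth.Agent.S10483

open Groth.Agent

/-- (1) ⇔ (5): let k be a field and X an algebraic space over k. Then X is locally quasi-finite over k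
if and only if X decomposes as a disjoint union of spectra of finite-dimensional Artinian local
k-algebras: X is a scheme every point of which has an affine open neighbourhood with Artinian local
coordinate ring, finite over k. -/
theorem result (k : Type u) [Field k] (X : AlgSp.Space (Spec (CommRingCat.of k))) (p : X.obj ⟶ (AlgSp.yon (Spec (CommRingCat.of k))).obj (Over.mk (𝟙 _))) :
    AlgSp.LocP (@LocallyQuasiFinite ⊓ @LocallyOfFiniteType : MorphismProperty Scheme.{u}) p ↔
      ∃ (U : Over (Spec (CommRingCat.of k))) (_ : (AlgSp.yon (Spec (CommRingCat.of k))).obj U ≅ X.obj), ∀ u : ↥U.left, ∃ V : U.left.Opens,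
        u ∈ V ∧ IsAffineOpen V ∧ IsArtinianRing ↥Γ(U.left, V) ∧ IsLocalRing ↥Γ(U.left, V) ∧
          IsFinite (V.ι ≫ U.hom) := by
  constructor
  · intro hp
    obtain ⟨U, e, h1, h2⟩ := AlgSpCov.LqfField.exists_iso_yon_of_lqf p hp
    exact ⟨U, e, fun u => AlgSpCov.LqfField.exists_local_artinian u⟩
  · rintro ⟨U, e, H⟩
    choose V hV hVa hA hL hF using H
    have hcov : TopologicalSpace.IsOpenCover V := TopologicalSpace.IsOpenCover.mk
      (eq_top_iff.mpr fun x _ => TopologicalSpace.Opens.mem_iSup.mpr ⟨x, hV x⟩)
    have h1 : LocallyQuasiFinite U.hom := IsZariskiLocalAtSource.of_openCover (P := @LocallyQuasiFinite)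
      (U.left.openCoverOfIsOpenCover V hcov) fun i => have := hF i; (inferInstanceAs (LocallyQuasiFinite ((V i).ι ≫ U.hom)))
    have h2 : LocallyOfFiniteType U.hom := IsZariskiLocalAtSource.of_openCover (P := @LocallyOfFiniteType)
      (U.left.openCoverOfIsOpenCover V hcov) fun i => have := hF i; (inferInstanceAs (LocallyOfFiniteType ((V i).ι ≫ U.hom)))
    obtain ⟨g, hg⟩ := (AlgSp.yon (Spec (CommRingCat.of k))).map_surjective (e.hom ≫ p)
    have hgl : g.left = U.hom := by simpa using Over.w g
    have hP := AlgSpCov.standard_locallyQuasiFinite.{u}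
    have := hP.comp
    have := hP.bc
    refine AlgSpCov.locP_of_repWith hP.etaleLocal ?_
    rw [← (AlgSp.RepWith _).cancel_left_of_respectsIso e.hom p, ← hg]
    exact (AlgSp.repWith_yon_map_iff _ _).2 (hgl ▸ ⟨h1, h2⟩)

end Groth.Agent.S10483
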