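import Groth.Statements.S10484
import Groth.Agent.AlgSpCov.LqfField.Mono
import Groth.Agent.S10393
-- import your own Groth.Agent.* helpers here

set_option autoImplicit false
universe u
open CategoryTheory CategoryTheory.Limits AlgebraicGeometry Topology TopologicalSpace
open AlgSp

set_option backward.isDefEq.respectTransparency false

namespace Groth.Agent.S10484

open Groth.Agent

/-- For a field k, local quasi-finiteness over k passes from the target Y of a monomorphism f : X ⟶ Y of
algebraic spaces over k to its source X. -/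
theorem result (k : Type u) [Field k] {X Y : AlgSp.Space (Spec (CommRingCat.of k))} (f : X ⟶ Y)
    [Mono f.hom] (q : Y.obj ⟶ (AlgSp.yon (Spec (CommRingCat.of k))).obj (Over.mk (𝟙 _))) (hq : AlgSp.LocP (@LocallyQuasiFinite ⊓ @LocallyOfFiniteType : MorphismProperty Scheme.{u}) q) :
    AlgSp.LocP (@LocallyQuasiFinite ⊓ @LocallyOfFiniteType : MorphismProperty Scheme.{u}) (f.hom ≫ q) := by
  obtain ⟨U, e, h1, h2⟩ := AlgSpCov.LqfField.exists_iso_yon_of_lqf q hq
  have : LocallyQuasiFinite U.hom := h1
  have : DiscreteTopology ↥U.left := AlgSpCov.LqfField.discreteTopology_of_lqf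
  let f' : X ⟶ (AlgSp.ofScheme (Spec (CommRingCat.of k))).obj U := ObjectProperty.homMk (f.hom ≫ e.inv)
  have : Mono f'.hom := inferInstanceAs (Mono (f.hom ≫ e.inv))
  obtain ⟨M, ⟨e'⟩⟩ := AlgSpB.exists_iso_of_isRepresentable (S10393.result U X f')
  obtain ⟨g, hg⟩ := (AlgSp.yon (Spec (CommRingCat.of k))).map_surjective (e'.hom ≫ f.hom ≫ e.inv)
  have : Mono ((AlgSp.yon (Spec (CommRingCat.of k))).map g) := hg ▸ inferInstance
  have : Mono g := Functor.mono_of_mono_map (AlgSp.yon (Spec (CommRingCat.of k))) this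
  have : Mono g.left := inferInstanceAs (Mono ((Over.forget _).map g))
  obtain ⟨h3, h4⟩ := AlgSpCov.LqfField.lqf_of_mono g.left U.hom
  rw [Over.w g] at h3 h4
  obtain ⟨l, hl⟩ := (AlgSp.yon (Spec (CommRingCat.of k))).map_surjective (e'.hom ≫ f.hom ≫ q)
  have hll : l.left = M.hom := by simpa using Over.w l
  have hP := AlgSpCov.standard_locallyQuasiFinite.{u}
  have := hP.comp
  have := hP.bc
  refine AlgSpCov.locP_of_repWith hP.etaleLocal ?_
  rw [← (AlgSp.RepWith _).cancel_left_of_respectsIso e'.hom (f.hom ≫ q), ← hl]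
  exact (AlgSp.repWith_yon_map_iff _ _).2 (hll ▸ ⟨h3, h4⟩)

end Groth.Agent.S10484
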