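import Groth.Statements.S10490
import Groth.Agent.S1550
import Groth.Agent.AlgSpD.DecentCrit
-- import your own Groth.Agent.* helpers here

set_option autoImplicit false
universe u
open CategoryTheory CategoryTheory.Limits AlgebraicGeometry Topology TopologicalSpace
open AlgSp

set_option backward.isDefEq.respectTransparency false

namespace Groth.Agent.S10490

open Groth.Agent

/-- Let k be a field and X an algebraic space smooth over k. Then the points of X which are images of
morphisms Spec k' ⟶ X over k with k' a finite separable extension of k form a dense subset of |X|. -/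
theorem result (k : Type u) [Field k] (X : AlgSp.Space (Spec (CommRingCat.of k))) (p : X.obj ⟶ (AlgSp.yon (Spec (CommRingCat.of k))).obj (Over.mk (𝟙 _))) (hp : AlgSp.LocP @Smooth p) :
    Dense {x : AlgSp.Points X.obj | ∃ (k' : Type u) (_ : Field k') (_ : Algebra k k'),
      Module.Finite k k' ∧ Algebra.IsSeparable k k' ∧
        ∃ v : X.obj.obj.obj (Opposite.op (Over.mk (Spec.map (CommRingCat.ofHom (algebraMap k k'))))),
          AlgSp.Points.mk ⟨k', Spec.map (CommRingCat.ofHom (algebraMap k k')), v⟩ = x} := by
  rw [dense_iff_inter_open]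
  rintro Ω hΩ ⟨x, hx⟩
  obtain ⟨U, a, u₀, ha, rfl⟩ := AlgSpD.exists_chart X x
  obtain ⟨g, hg⟩ := (AlgSp.yon (Spec (CommRingCat.of k))).map_surjective (a ≫ p)
  have hs := hp a (𝟙 _) g ha (AlgSp.repWith_id _ _) (by rw [Category.comp_id, hg])
  have e : g.left = U.hom := by simpa using Over.w g
  rw [e] at hs
  letI : U.left.Over (Spec (CommRingCat.of k)) := ⟨U.hom⟩
  have : Smooth (U.left ↘ (Spec (CommRingCat.of k))) := hs
  obtain ⟨u, huΩ, -, hfd, hsep⟩ := (S1550.result k U.left).inter_open_nonempty _
    (hΩ.preimage (AlgSp.Points.continuous_ofPt a)) ⟨u₀, hx⟩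
  letI := Curv2.resAlgebra k U.left u
  refine ⟨AlgSp.Points.ofPt a u, huΩ, ↥(U.left.residueField u), inferInstance, inferInstance, hfd, hsep, ?_⟩
  have hstr : U.left.fromSpecResidueField u ≫ U.hom =
      Spec.map (CommRingCat.ofHom (algebraMap k (U.left.residueField u))) :=
    S1550.fromSpecResidueField_over k U.left u
  refine ⟨a.hom.app (Opposite.op (Over.mk (Spec.map (CommRingCat.ofHom (algebraMap k (U.left.residueField u))))))
    ⟨Over.homMk (U.left.fromSpecResidueField u) hstr⟩, ?_⟩
  have key : ∀ (str : Spec (CommRingCat.of (U.left.residueField u)) ⟶ Spec (CommRingCat.of k))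
      (h : U.left.fromSpecResidueField u ≫ U.hom = str),
      AlgSp.Points.mk (⟨↥(U.left.residueField u), str, a.hom.app (Opposite.op (Over.mk str))
        ⟨Over.homMk (U.left.fromSpecResidueField u) h⟩⟩ : AlgSp.FieldPt X.obj) = AlgSp.Points.ofPt a u := by
    rintro str rfl
    rfl
  exact key _ hstr

end Groth.Agent.S10490
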