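import Groth.Statements.S10491
import Groth.Agent.S10203
-- import your own Groth.Agent.* helpers here

set_option autoImplicit false
universe u
open CategoryTheory CategoryTheory.Limits AlgebraicGeometry Topology TopologicalSpace
open AlgSp

set_option backward.isDefEq.respectTransparency false

namespace Groth.Agent.S10491

open Groth.Agent

/-- Let X be an algebraic space over a scheme S which is locally Noetherian, and T ⊂ |X| a closed
subset. Then every point of |X| has a neighbourhood meeting only finitely many irreducible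
components of T. -/
theorem result {S : Scheme.{u}} (X : AlgSp.Space S)
    (hX : AlgSp.IsLocNoethSp X.obj) (T : Set (AlgSp.Points X.obj)) (hT : IsClosed T) :
    LocallyFinite (fun Z : ↥(irreducibleComponents ↥T) => ((↑) : ↥T → AlgSp.Points X.obj) '' (Z : Set ↥T)) := by
  intro x
  obtain ⟨U, p, hp, hs, hU⟩ := hX
  obtain ⟨u, rfl⟩ := AlgSpB.surjective_ofPt hs x
  obtain ⟨V, hV, hu, -⟩ := exists_isAffineOpen_mem_and_subset (x := u) (U := ⊤) trivial
  let W : Set (AlgSp.Points X.obj) := AlgSp.Points.ofPt p '' (V : Set ↥U.left)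
  have hWo : IsOpen W := AlgSpB.isOpenMap_ofPt hp _ V.2
  haveI : NoetherianSpace ↥W := by
    haveI := IsLocallyNoetherian.component_noetherian (⟨V, hV⟩ : U.left.affineOpens)
    haveI : NoetherianSpace ↥(V : Set ↥U.left) := noetherianSpace_of_isAffineOpen V hV
    have := NoetherianSpace.range (α := ↥(V : Set ↥U.left)) (fun v => AlgSp.Points.ofPt p v.1)
      ((AlgSp.Points.continuous_ofPt p).comp continuous_subtype_val)
    change NoetherianSpace ↥(AlgSp.Points.ofPt p '' _)
    rwa [Set.image_eq_range]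
  let O : Set ↥T := Subtype.val ⁻¹' W
  let g : ↥O → ↥W := fun z => ⟨z.1.1, z.2⟩
  have hg : Topology.IsInducing g := by
    rw [← Topology.IsInducing.subtypeVal.of_comp_iff]
    exact (Topology.IsInducing.subtypeVal (t := T)).comp (Topology.IsInducing.subtypeVal (t := O))
  haveI : NoetherianSpace ↥O := hg.noetherianSpace
  have he : Topology.IsOpenEmbedding (Subtype.val : ↥O → ↥T) :=
    (hWo.preimage continuous_subtype_val).isOpenEmbedding_subtypeVal
  refine ⟨W, hWo.mem_nhds ⟨u, hu, rfl⟩, ?_⟩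
  refine Set.Finite.of_finite_image (f := fun Z : ↥(irreducibleComponents ↥T) =>
    (Subtype.val : ↥O → ↥T) ⁻¹' Z.1) ((NoetherianSpace.finite_irreducibleComponents (α := ↥O)).subset ?_) ?_
  · rintro _ ⟨Z, ⟨_, ⟨z, hz, rfl⟩, hzW⟩, rfl⟩
    exact preimage_mem_irreducibleComponents Z.2 he ⟨z, hz, ⟨z, hzW⟩, rfl⟩
  · intro Z hZ Z' hZ' h
    obtain ⟨_, ⟨z, hz, rfl⟩, hzW⟩ := hZ
    obtain ⟨_, ⟨z', hz', rfl⟩, hzW'⟩ := hZ'
    apply Subtype.ext
    rw [← closure_image_preimage_of_isPreirreducible _ he.isOpenMap Z.1 ⟨⟨z, hzW⟩, hz⟩ Z.2.1.2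
      (isClosed_of_mem_irreducibleComponents _ Z.2),
      ← closure_image_preimage_of_isPreirreducible _ he.isOpenMap Z'.1 ⟨⟨z', hzW'⟩, hz'⟩ Z'.2.1.2
      (isClosed_of_mem_irreducibleComponents _ Z'.2)]
    exact congrArg (fun s => closure (Subtype.val '' s)) h

end Groth.Agent.S10491
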