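import Groth.Statements.S10493
import Groth.Agent.AlgSpB.GrpField.FibreCover
import Groth.Agent.AlgSpD.RefinedVC
import Mathlib.RingTheory.Jacobson.Ring

set_option autoImplicit false
set_option backward.isDefEq.respectTransparency false
set_option backward.isDefEq.respectTransparency.types false

universe u
open CategoryTheory CategoryTheory.Limits AlgebraicGeometry Topology TopologicalSpace
open AlgSp

namespace Groth.Agent.S10493

/-- Let k be a field with algebraic closure k̄ and X an algebraic space over k which is decent and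
locally of finite type over k, such that X_{k̄} is a scheme in which every finite set of k̄-rational
points is contained in an affine open. Then X is a scheme. -/
theorem result (k : Type u) [Field k] (X : AlgSp.Space (Spec (CommRingCat.of k)))
    (hdec : AlgSp.IsDecent X.obj) (p : X.obj ⟶ (AlgSp.yon (Spec (CommRingCat.of k))).obj (Over.mk (𝟙 _))) (hp : AlgSp.LocP @LocallyOfFiniteType p)
    (kbar : Type u) [Field kbar] [Algebra k kbar] [IsAlgClosure k kbar]
    (T : Over (Spec (CommRingCat.of k))) (e : (AlgSp.yon (Spec (CommRingCat.of k))).obj T ≅ (X.obj ⨯ (AlgSp.yon (Spec (CommRingCat.of k))).obj (Over.mk (Spec.map (CommRingCat.ofHom (algebraMap k kbar))))))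
    (q : T ⟶ Over.mk (Spec.map (CommRingCat.ofHom (algebraMap k kbar))))
    (hq : (AlgSp.yon (Spec (CommRingCat.of k))).map q = e.hom ≫ Limits.prod.snd)
    (h3 : ∀ s : Finset ↥T.left,
      (∀ t ∈ s, ∃ σ : Spec (CommRingCat.of kbar) ⟶ T.left, σ ≫ q.left = 𝟙 _ ∧ σ (IsLocalRing.closedPoint kbar) = t) →
        ∃ W : T.left.Opens, IsAffineOpen W ∧ ∀ t ∈ s, t ∈ W) :
    X.obj.obj.IsRepresentable := by
  classical
  let S := Spec (CommRingCat.of k)
  let hT := Groth.Agent.AlgSp.LimSepAbs.isTerminalBase (S := S)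
  have : IsAlgClosed kbar := IsAlgClosure.isAlgClosed k
  have : Algebra.IsAlgebraic k kbar := IsAlgClosure.isAlgebraic
  obtain ⟨X', j, hj, hjrep, hmax⟩ := Groth.Agent.AlgSpB.exists_largest_open_subscheme X
  suffices h : ∀ x, x ∈ Set.range (Points.map j.hom) from
    Groth.Agent.AlgSpB.GrpField.isRepresentable_of_forall_nhd X fun x => ⟨X', j, hj, hjrep, h x⟩
  intro x
  by_contra hx
  -- a closed point of a chart outside the scheme locus
  obtain ⟨R, str, a, u₀, ha, hu₀⟩ := Groth.Agent.AlgSpD.exists_affine_chart_at X.property x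
  let Z : Set ↥(Spec R) := Points.ofPt a ⁻¹' (Set.range (Points.map j.hom))ᶜ
  have hZ : IsClosed Z :=
    (Groth.Agent.AlgSpB.isOpen_range_of_isOpenImmersion hj).isClosed_compl.preimage (Points.continuous_ofPt a)
  obtain ⟨m, hmZ, hmc⟩ := hZ.exists_closed_singleton ⟨u₀, fun hh => hx (hu₀ ▸ hh)⟩
  have hm : m.asIdeal.IsMaximal := (PrimeSpectrum.isClosed_singleton_iff_isMaximal m).1 hmc
  let h0 : Over.mk str ⟶ Over.mk (𝟙 S) := Over.homMk str (Category.comp_id _)
  have hlft : LocallyOfFiniteType str := hp a (𝟙 _) h0 ha (MorphismProperty.id_mem (RepWith @Etale) _) (hT.hom_ext _ _)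
  obtain ⟨ρ, rfl⟩ := Spec.map_surjective str
  let : Algebra k R := ρ.hom.toAlgebra
  have hR : Algebra.FiniteType k R := (HasRingHomProperty.Spec_iff (P := @LocallyOfFiniteType)).1 hlft
  let := Ideal.Quotient.field m.asIdeal
  have : Algebra.FiniteType k (R ⧸ m.asIdeal) :=
    hR.of_surjective (Ideal.Quotient.mkₐ k m.asIdeal) (Ideal.Quotient.mkₐ_surjective k m.asIdeal)
  have : Module.Finite k (R ⧸ m.asIdeal) := finite_of_finite_type_of_isJacobsonRing k (R ⧸ m.asIdeal)
  let K := R ⧸ m.asIdeal
  let i : Groth.Agent.AlgSpB.GrpField.extObj k (R ⧸ m.asIdeal) ⟶ Over.mk (Spec.map ρ) :=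
    Over.homMk (Spec.map (CommRingCat.ofHom (Ideal.Quotient.mk m.asIdeal))) (by
      refine (Spec.map_comp _ _).symm.trans ?_
      rfl)
  obtain ⟨Ro, eR, rL, gF, heR, hsnd, hr, hsurj⟩ :=
    Groth.Agent.AlgSpB.GrpField.exists_fibre_cover kbar (R ⧸ m.asIdeal) X ((yon S).map i ≫ a)
  have hi : i.left (IsLocalRing.closedPoint (R ⧸ m.asIdeal)) = m := by
    apply PrimeSpectrum.ext
    change Ideal.comap (Ideal.Quotient.mk m.asIdeal) (IsLocalRing.maximalIdeal _) = m.asIdeal
    rw [IsLocalRing.maximalIdeal_eq_bot, ← RingHom.ker_eq_comap_bot, Ideal.mk_ker]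
  rw [Groth.Agent.AlgSpB.ofPt_map_comp, hi] at hr hsurj
  -- the fibre is finite and consists of rational points
  have : Module.Finite kbar (TensorProduct k kbar (R ⧸ m.asIdeal)) := Module.Finite.base_change k kbar _
  have : IsArtinianRing (TensorProduct k kbar (R ⧸ m.asIdeal)) :=
    isArtinian_of_tower kbar (inferInstance : IsArtinian kbar (TensorProduct k kbar (R ⧸ m.asIdeal)))
  have hRfin : Finite Ro.left :=
    have : Finite (Spec (CommRingCat.of (TensorProduct k kbar (R ⧸ m.asIdeal)))) :=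
      inferInstanceAs (Finite (PrimeSpectrum (TensorProduct k kbar (R ⧸ m.asIdeal))))
    Finite.of_injective _ eR.inv.homeomorph.injective
  obtain ⟨gl, hgl⟩ := (yon S).map_surjective (gF ≫ e.inv)
  have hglq : gl ≫ q = rL := (yon S).map_injective (by
    rw [Functor.map_comp, hgl, hq, Category.assoc, e.inv_hom_id_assoc, hsnd])
  have : Fintype Ro.left := Fintype.ofFinite _
  obtain ⟨W, hW, hWmem⟩ := h3 (Finset.univ.image fun r => gl.left r) fun t ht => by
    obtain ⟨r, -, rfl⟩ := Finset.mem_image.1 ht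
    let P : PrimeSpectrum (TensorProduct k kbar (R ⧸ m.asIdeal)) := eR.inv r
    have hP : P.asIdeal.IsMaximal := IsArtinianRing.isMaximal_of_isPrime P.asIdeal
    let := Ideal.Quotient.field P.asIdeal
    have hb := IsAlgClosed.algebraMap_bijective_of_isIntegral (k := kbar)
      (K := TensorProduct k kbar (R ⧸ m.asIdeal) ⧸ P.asIdeal)
    let s := ((AlgEquiv.ofBijective (Algebra.ofId kbar _) hb).symm.toAlgHom.comp (Ideal.Quotient.mkₐ kbar P.asIdeal))
    refine ⟨Spec.map (CommRingCat.ofHom s.toRingHom) ≫ eR.hom ≫ gl.left, ?_, ?_⟩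
    · rw [Category.assoc, Category.assoc, show gl.left ≫ q.left = rL.left from congrArg CommaMorphism.left hglq, heR,
        ← Spec.map_comp, ← Spec.map_id]
      exact congrArg Spec.map (CommRingCat.hom_ext (RingHom.ext fun c => s.commutes c))
    · have hs : Spec.map (CommRingCat.ofHom s.toRingHom) (IsLocalRing.closedPoint kbar) = P := by
        apply PrimeSpectrum.ext
        change Ideal.comap s.toRingHom (IsLocalRing.maximalIdeal kbar) = P.asIdeal
        ext c
        rw [Ideal.mem_comap, IsLocalRing.mem_maximalIdeal, mem_nonunits_iff, isUnit_iff_ne_zero, not_not]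
        simp [s, Ideal.Quotient.eq_zero_iff_mem]
      rw [Scheme.Hom.comp_apply, Scheme.Hom.comp_apply, hs]
      congr 1
      rw [← Scheme.Hom.comp_apply, eR.inv_hom_id]; rfl
  refine hmZ ?_
  obtain ⟨X'', j'', hj'', hrep'', hx''⟩ := Groth.Agent.AlgSpB.GrpField.exists_scheme_nhd_of_finite X e
    (Points.ofPt a m) ((Set.finite_range (Points.ofPt gF)).subset fun f hf => hsurj f hf) W hW fun f hf => by
      obtain ⟨r, rfl⟩ := hsurj f hf
      rw [Points.map_ofPt, ← hgl, Points.toScheme_ofPt]
      exact hWmem _ (Finset.mem_image_of_mem _ (Finset.mem_univ r))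
  obtain ⟨l, hl⟩ := hmax X'' j'' hj'' hrep''
  obtain ⟨y, hy⟩ := hx''
  exact ⟨Points.map l.hom y, by rw [← Points.map_comp]; exact (congrArg (fun f => Points.map f.hom y) hl).trans hy⟩

end Groth.Agent.S10493
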