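import Groth.Statements.S10497
import Groth.Agent.GeomRedSp.Basic
import Groth.Agent.AlgSpD.Decent
-- import your own Groth.Agent.* helpers here

set_option autoImplicit false
universe u
open CategoryTheory CategoryTheory.Limits AlgebraicGeometry Topology TopologicalSpace
open AlgSp

set_option backward.isDefEq.respectTransparency false

namespace Groth.Agent.S10497

open Groth.Agent

theorem representable_prod_fst {S : Scheme.{u}} (X : AlgSp.Sp S) (T : Over S) :
    AlgSp.Representable (Limits.prod.fst : X ⨯ (AlgSp.yon S).obj T ⟶ X) := by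
  have ht : IsTerminal ((AlgSp.yon S).obj (Over.mk (𝟙 S))) := Over.mkIdTerminal.isTerminalObj _ _
  have sq := (IsPullback.of_is_product' (Limits.prodIsProd X ((AlgSp.yon S).obj T)) ht).flip
  let tT : T ⟶ Over.mk (𝟙 S) := Over.homMk T.hom (Category.comp_id _)
  have h := CategoryTheory.Functor.relativelyRepresentable.map (AlgSp.yon S) tT
  have h2 : (AlgSp.yon S).map tT = ht.from _ := ht.hom_ext _ _
  rw [h2] at h
  exact MorphismProperty.of_isPullback sq h

theorem geomReduced_iff (k : Type u) [Field k] (X : AlgSp.Space (Spec (CommRingCat.of k))) :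
    (∀ x : AlgSp.Points X.obj, (∃ (U : Over (Spec (CommRingCat.of k))) (a : (AlgSp.yon (Spec (CommRingCat.of k))).obj U ⟶ X.obj) (u : ↥U.left),
      AlgSp.RepWith @Etale a ∧ AlgSp.Points.ofPt a u = x ∧ FBase.IsGeomReducedAt U.hom u)) ↔
      ∀ (K : Type u) [Field K] [Algebra k K], AlgSp.EtaleLocally (fun U => IsReduced U) (X.obj ⨯ (AlgSp.yon (Spec (CommRingCat.of k))).obj (Over.mk (Spec.map (CommRingCat.ofHom (algebraMap k K))))) := by
  obtain ⟨U, a, ha, hs⟩ := X.property.atlas
  refine (GeomRedSp.forall_gr_iff ha hs).trans ⟨fun h K _ _ => ?_, fun h u K _ _ x' _ => ?_⟩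
  · obtain ⟨W, p, q, d, hd, sqs, -, sq⟩ := GeomRedSp.exists_prodChart
      (T := Over.mk (Spec.map (CommRingCat.ofHom (algebraMap k K)))) ha
    refine (GeomRedSp.etaleLocally_isReduced_iff hd (AlgSpCov.repWith_bc sq hs)).2 ?_
    exact (GeomRedSp.isReduced_stalk_bc_iff K p q sqs).2 fun y => h _ K y rfl
  · obtain ⟨W, p, q, d, hd, sqs, -, sq⟩ := GeomRedSp.exists_prodChart
      (T := Over.mk (Spec.map (CommRingCat.ofHom (algebraMap k K)))) ha
    exact (GeomRedSp.isReduced_stalk_bc_iff K p q sqs).1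
      ((GeomRedSp.etaleLocally_isReduced_iff hd (AlgSpCov.repWith_bc sq hs)).1 (h K)) x'

/-- Let k be a field and X a decent algebraic space over k. Then all base changes X_K to field
extensions K of k are integral exactly when X is geometrically reduced over k and every |X_K| is
irreducible. -/
theorem result (k : Type u) [Field k] (X : AlgSp.Space (Spec (CommRingCat.of k))) (hX : AlgSp.IsDecent X.obj) :
    (∀ (K : Type u) [Field K] [Algebra k K], AlgSp.IsIntegralSp (X.obj ⨯ (AlgSp.yon (Spec (CommRingCat.of k))).obj (Over.mk (Spec.map (CommRingCat.ofHom (algebraMap k K)))))) ↔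
      (∀ x : AlgSp.Points X.obj, (∃ (U : Over (Spec (CommRingCat.of k))) (a : (AlgSp.yon (Spec (CommRingCat.of k))).obj U ⟶ X.obj) (u : ↥U.left),
      AlgSp.RepWith @Etale a ∧ AlgSp.Points.ofPt a u = x ∧ FBase.IsGeomReducedAt U.hom u)) ∧
        ∀ (K : Type u) [Field K] [Algebra k K], IrreducibleSpace (AlgSp.Points (X.obj ⨯ (AlgSp.yon (Spec (CommRingCat.of k))).obj (Over.mk (Spec.map (CommRingCat.ofHom (algebraMap k K)))))) := by
  refine ⟨fun h => ⟨(geomReduced_iff k X).2 fun K _ _ => (h K).1, fun K _ _ => (h K).2.2⟩,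
    fun h K _ _ => ⟨(geomReduced_iff k X).1 h.1 K, ?_, h.2 K⟩⟩
  exact AlgSpD.isDecent_of_representable _ (representable_prod_fst _ _) hX

end Groth.Agent.S10497
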