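import Groth.Statements.S10498
import Groth.Agent.Hens.EtLikeTower
import Groth.Agent.Hensel.EssEt
import Groth.Agent.Hensel.EssSub
import Groth.Agent.AlgSpD.ReducedEtale
import Mathlib.LinearAlgebra.TensorProduct.Basis

set_option linter.style.haveILetI false
set_option autoImplicit false
universe u
open TensorProduct
open Hensel

namespace Groth.Agent.S10498

/-- (1) ⇔ (2): let k be a field, A a local k-algebra and R a strict henselization of A. Then A is
geometrically reduced over k (K ⊗_k A reduced for every field extension K of k) if and only if R is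
geometrically reduced over k. -/
theorem result (k : Type u) [Field k]
    (A : Type u) [CommRing A] [IsLocalRing A] [Algebra k A]
    (R : Type u) [CommRing R] [IsLocalRing R] [Algebra A R] [IsLocalHom (algebraMap A R)]
    [Hensel.IsStrictHenselization A R] [Algebra k R] [IsScalarTower k A R] :
    (∀ (K : Type u) [Field K] [Algebra k K], IsReduced (TensorProduct k K A)) ↔
      ∀ (K : Type u) [Field K] [Algebra k K], IsReduced (TensorProduct k K R) := by
  classical
  have hR := Groth.Agent.Hensel.isEtLike_of_isStrictHenselization A R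
  constructor
  · intro h K _ _
    haveI := h K
    refine ⟨fun z hz => ?_⟩
    obtain ⟨S, hS⟩ := TensorProduct.exists_finset z
    obtain ⟨E, _, _, hE, θ, hθ⟩ := hR.stage (S.image Prod.snd)
    letI : Algebra k E := ((algebraMap A E).comp (algebraMap k A)).toAlgebra
    haveI : IsScalarTower k A E := .of_algebraMap_eq' rfl
    let θk : E →ₐ[k] R := θ.restrictScalars k
    let μ : TensorProduct k K E →ₐ[k] TensorProduct k K R := Algebra.TensorProduct.map (AlgHom.id k K) θk
    -- `z` comes from the stage
    obtain ⟨z', rfl⟩ : z ∈ μ.range := by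
      rw [hS]
      refine Subalgebra.sum_mem _ fun p hp => ?_
      obtain ⟨e, he⟩ := hθ p.2 (Finset.mem_image_of_mem _ hp)
      exact ⟨p.1 ⊗ₜ e, by show μ (p.1 ⊗ₜ e) = _; rw [Algebra.TensorProduct.map_tmul]; exact congrArg (p.1 ⊗ₜ ·) he⟩
    change μ z' = 0
    change IsNilpotent (μ z') at hz
    -- the stage is geometrically reduced
    haveI : IsReduced (TensorProduct k A K) :=
      isReduced_of_injective (Algebra.TensorProduct.comm k A K).toAlgHom (Algebra.TensorProduct.comm k A K).injective
    haveI : IsReduced (TensorProduct k K E) := by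
      haveI := Groth.Agent.AlgSpD.isReduced_of_etale (TensorProduct k A K) (TensorProduct k A K ⊗[A] E)
      let e₁ : E ⊗[A] (TensorProduct k A K) ≃ₐ[A] TensorProduct k A K ⊗[A] E := Algebra.TensorProduct.comm A _ _
      let e₂ : E ⊗[A] (TensorProduct k A K) ≃ₐ[A] TensorProduct k E K :=
        Algebra.TensorProduct.cancelBaseChange k A A E K
      haveI : IsReduced (E ⊗[A] (TensorProduct k A K)) := isReduced_of_injective e₁.toAlgHom e₁.injective
      haveI : IsReduced (TensorProduct k E K) := isReduced_of_injective e₂.symm.toAlgHom e₂.symm.injective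
      exact isReduced_of_injective (Algebra.TensorProduct.comm k K E).toAlgHom (Algebra.TensorProduct.comm k K E).injective
    -- the local ring of the stage is a subring
    let q : Ideal E := (IsLocalRing.maximalIdeal R).comap θ.toRingHom
    haveI : q.IsPrime := Ideal.comap_isPrime _ _
    have hu : ∀ y : q.primeCompl, IsUnit (θ y) := fun y => by
      by_contra hy
      exact y.2 hy
    let L := Localization.AtPrime q
    let ψ : L →ₐ[A] R := IsLocalization.liftAlgHom (M := q.primeCompl) hu
    have hψ : ∀ e, ψ (algebraMap E L e) = θ e := fun e => IsLocalization.lift_eq _ e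
    have hqA : q.comap (algebraMap A E) = IsLocalRing.maximalIdeal A := by
      haveI := hR.isLocalHom
      rw [Ideal.comap_comap, show θ.toRingHom.comp (algebraMap A E) = algebraMap A R from θ.comp_algebraMap]
      exact ((IsLocalRing.local_hom_TFAE (algebraMap A R)).out 0 4).1 ‹_›
    have hess : EGA4loc.IsEssentiallyEtale A L := ⟨E, _, _, q, inferInstance, hE, hqA, ⟨AlgEquiv.refl⟩⟩
    letI : Algebra L R := ψ.toRingHom.toAlgebra
    haveI : IsScalarTower A L R := .of_algebraMap_eq' ψ.comp_algebraMap.symm
    have hLR := Groth.Agent.Hens.isEtLike_tower_top (Groth.Agent.Hensel.isEtLike_of_isEssentiallyEtale hess) hR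
    haveI := hLR.faithfullyFlat
    have hinj : Function.Injective ψ := FaithfulSMul.algebraMap_injective L R
    have hkill : ∀ e, θ e = 0 → ∃ s : q.primeCompl, (s : E) * e = 0 := fun e he =>
      (IsLocalization.map_eq_zero_iff q.primeCompl L e).1 (hinj (by rw [hψ, map_zero, he]))
    let b := Module.Free.chooseBasis k K
    let cE := TensorProduct.equivFinsuppOfBasisLeft (N := E) b
    let cR := TensorProduct.equivFinsuppOfBasisLeft (N := R) b
    have hnat : ∀ x i, cR (μ x) i = θ (cE x i) := by
      intro x i
      induction x with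
      | zero => simp
      | add x y hx hy => simp only [map_add, Finsupp.add_apply, hx, hy]
      | tmul c e =>
        simp only [μ, θk, cE, cR, Algebra.TensorProduct.map_tmul, AlgHom.coe_id, id_eq,
          TensorProduct.equivFinsuppOfBasisLeft_apply_tmul_apply]
        exact (map_smul (θ.restrictScalars k) _ e).symm
    have hmul : ∀ (s : E) x i, cE ((1 : K) ⊗ₜ[k] s * x) i = s * cE x i := by
      intro s x i
      induction x with
      | zero => simp
      | add x y hx hy => simp only [mul_add, map_add, Finsupp.add_apply, hx, hy]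
      | tmul c e =>
        simp only [cE, Algebra.TensorProduct.tmul_mul_tmul, one_mul,
          TensorProduct.equivFinsuppOfBasisLeft_apply_tmul_apply, mul_smul_comm]
    have hzero : ∀ x, μ x = 0 → ∃ s : q.primeCompl, (1 : K) ⊗ₜ[k] (s : E) * x = 0 := by
      intro x hx
      choose s hs using fun i => hkill (cE x i) (by rw [← hnat, hx, map_zero, Finsupp.zero_apply])
      refine ⟨∏ i ∈ (cE x).support, s i, cE.injective (Finsupp.ext fun i => ?_)⟩
      rw [map_zero, Finsupp.zero_apply, hmul]
      by_cases hi : i ∈ (cE x).support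
      · obtain ⟨c, hc⟩ := Finset.dvd_prod_of_mem s hi
        rw [hc, Submonoid.coe_mul, mul_right_comm, hs, zero_mul]
      · rw [Finsupp.notMem_support_iff.1 hi, mul_zero]
    obtain ⟨n, hn⟩ := hz
    obtain ⟨s, hs⟩ := hzero (z' ^ n) (by rw [map_pow, hn])
    have h0 : (1 : K) ⊗ₜ[k] (s : E) * z' = 0 := by
      refine IsReduced.eq_zero _ ⟨n + 1, ?_⟩
      rw [mul_pow, pow_succ, pow_succ z', mul_mul_mul_comm]
      rw [show ((1 : K) ⊗ₜ[k] (s : E)) ^ n * z' ^ n * ((1 : K) ⊗ₜ[k] (s : E) * z') =
        ((1 : K) ⊗ₜ[k] (s : E)) ^ n * z' * ((1 : K) ⊗ₜ[k] (s : E) * z' ^ n) by ring, hs, mul_zero]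
    have h1 := congrArg μ h0
    rw [map_mul, map_zero] at h1
    have hu' : IsUnit (μ ((1 : K) ⊗ₜ[k] (s : E))) := by
      rw [Algebra.TensorProduct.map_tmul]
      exact (hu s).map (Algebra.TensorProduct.includeRight : R →ₐ[k] TensorProduct k K R)
    exact hu'.mul_right_eq_zero.1 h1
  · intro h K _ _
    haveI := h K
    let ι : A →ₐ[k] R := IsScalarTower.toAlgHom k A R
    have hι : Function.Injective ι := by
      haveI := hR.faithfullyFlat
      exact FaithfulSMul.algebraMap_injective A R
    exact isReduced_of_injective (Algebra.TensorProduct.map (AlgHom.id k K) ι)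
      (Module.Flat.lTensor_preserves_injective_linearMap (M := K) ι.toLinearMap hι)

end Groth.Agent.S10498
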