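import Groth.Statements.S10500
import Groth.Agent.AlgSpCov.IntegralSp.Generic
-- import your own Groth.Agent.* helpers here

set_option autoImplicit false
universe u
open CategoryTheory CategoryTheory.Limits AlgebraicGeometry Topology TopologicalSpace
open AlgSp

set_option backward.isDefEq.respectTransparency false

namespace Groth.Agent.S10500

open Groth.Agent

/-- Let X and Y be integral algebraic spaces over a scheme S with generic points x and y, and f : X ⟶ Y
a morphism which is proper and dominant. Then f is an alteration (finite over some nonempty open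
subspace of Y) if and only if x is the only point of X mapping to y. -/
theorem result {S : Scheme.{u}} {X Y : AlgSp.Space S}
    (hXi : AlgSp.IsIntegralSp X.obj) (hYi : AlgSp.IsIntegralSp Y.obj) (f : X ⟶ Y) (hp : AlgSp.IsProperMor f.hom)
    (hd : AlgSp.IsDominantMor f.hom)
    (x : AlgSp.Points X.obj) (hx : IsGenericPoint x (Set.univ : Set (AlgSp.Points X.obj)))
    (y : AlgSp.Points Y.obj) (hy : IsGenericPoint y (Set.univ : Set (AlgSp.Points Y.obj))) :
    (∃ (V : AlgSp.Space S) (j : V ⟶ Y), AlgSp.RepWith @IsOpenImmersion j.hom ∧ Nonempty (AlgSp.Points V.obj) ∧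
      ∀ (P : AlgSp.Space S) (fst : P ⟶ V) (snd : P ⟶ X), IsPullback fst.hom snd.hom j.hom f.hom →
        AlgSp.IsFiniteMor fst.hom) ↔ (∀ x' : AlgSp.Points X.obj, AlgSp.Points.map f.hom x' = y → x' = x) := by
  constructor
  · rintro ⟨V, j, hj, ⟨p⟩, H⟩
    have sq := IsPullback.of_hasPullback j.hom f.hom
    let P : AlgSp.Space S := ⟨_, Groth.Agent.AlgSp.isAlgSpace_pullback Y.property V.property X.property j.hom f.hom⟩
    obtain ⟨V0, b, U, g, a, -, hV, hb, sq', -, hg⟩ := AlgSpCov.IntegralSp.exists_affine_finite_preimage f hYi.2.1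
      j hj ⟨_, Set.mem_range_self p⟩ (P := P) (ObjectProperty.homMk (pullback.fst j.hom f.hom))
      (ObjectProperty.homMk (pullback.snd j.hom f.hom)) sq (H P _ _ sq)
    exact (AlgSpCov.IntegralSp.qf_generic_iff hXi hYi f hx hy hp.2.1.1 hd).1
      (AlgSpCov.IntegralSp.lqfNear_of_finite_preimage hXi hYi f hx hy hp.2.1.1 hd b g a hV hb sq' hg)
  · intro h
    obtain ⟨V, P, j, fst, snd, hj, ⟨_, p, -⟩, sq, hfin⟩ :=
      AlgSpCov.IntegralSp.exists_finite_open_of_unique hXi hYi f hx hy hp.2.1.1 hd (Or.inr hp.1) h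
    refine ⟨V, j, hj, ⟨p⟩, fun P' fst' snd' sq' => ?_⟩
    exact AlgSpCov.IntegralSp.isFiniteMor_of_iso (sq.isoIsPullback _ _ sq') (sq.isoIsPullback_hom_fst _ _ sq') hfin

end Groth.Agent.S10500
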