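import Groth.Statements.S10502
import Groth.Agent.GeomRedSp.Basic
import Groth.Agent.S10479
-- import your own Groth.Agent.* helpers here

set_option autoImplicit false
universe u
open CategoryTheory CategoryTheory.Limits AlgebraicGeometry Topology TopologicalSpace
open AlgSp

set_option backward.isDefEq.respectTransparency false

namespace Groth.Agent.S10502

open Groth.Agent

/-- Let k be a field, X an algebraic space over k and K/k a field extension. Then X being geometrically
reduced over k is equivalent to its base change X_K being geometrically reduced over K. -/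
theorem result (k : Type u) [Field k] (X : AlgSp.Space (Spec (CommRingCat.of k))) (K : Type u) [Field K] [Algebra k K] :
    (∀ x : AlgSp.Points X.obj, (∃ (U : Over (Spec (CommRingCat.of k))) (a : (AlgSp.yon (Spec (CommRingCat.of k))).obj U ⟶ X.obj) (u : ↥U.left),
      AlgSp.RepWith @Etale a ∧ AlgSp.Points.ofPt a u = x ∧ FBase.IsGeomReducedAt U.hom u)) ↔
      ∀ x' : AlgSp.Points (X.obj ⨯ (AlgSp.yon (Spec (CommRingCat.of k))).obj (Over.mk (Spec.map (CommRingCat.ofHom (algebraMap k K))))), (∃ (U' : Over (Spec (CommRingCat.of k))) (a' : (AlgSp.yon (Spec (CommRingCat.of k))).obj U' ⟶ (X.obj ⨯ (AlgSp.yon (Spec (CommRingCat.of k))).obj (Over.mk (Spec.map (CommRingCat.ofHom (algebraMap k K))))))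
        (q : U' ⟶ Over.mk (Spec.map (CommRingCat.ofHom (algebraMap k K)))) (u' : ↥U'.left),
        AlgSp.RepWith @Etale a' ∧ a' ≫ Limits.prod.snd = (AlgSp.yon (Spec (CommRingCat.of k))).map q ∧
          AlgSp.Points.ofPt a' u' = x' ∧ FBase.IsGeomReducedAt q.left u') := by
  constructor
  · intro h x'
    exact (S10479.result k X K _ x' rfl).1 (h _)
  · intro h x
    obtain ⟨U, a, u, ha, rfl⟩ := AlgSpD.exists_chart X x
    obtain ⟨W, p, q, d, hd, sqs, hdq, sq⟩ := GeomRedSp.exists_prodChart
        (T := Over.mk (Spec.map (CommRingCat.ofHom (algebraMap k K)))) ha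
    have : Surjective (Spec.map (CommRingCat.ofHom (algebraMap k K))) :=
      ⟨fun x => ⟨IsLocalRing.closedPoint K, Subsingleton.elim _ _⟩⟩
    have : Surjective p.left := MorphismProperty.of_isPullback (P := @Surjective) sqs.flip ‹_›
    obtain ⟨w, rfl⟩ := p.left.surjective u
    refine (S10479.result k X K _ (AlgSp.Points.ofPt d w) ?_).2 (h _)
    rw [AlgSp.Points.map_ofPt, ← sq.w, AlgSpB.ofPt_map_comp]

end Groth.Agent.S10502
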