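import Groth.Statements.S10509
import Groth.Agent.AlgSpCov.EtaleSections
import Groth.Agent.AlgSpCov.Instances
import Groth.Agent.AlgSpCov.FpqcDiag
import Groth.Agent.AlgSp.Space
import Groth.Agent.AlgSpCov.Covers
set_option backward.isDefEq.respectTransparency.types false

set_option autoImplicit false
universe u
open CategoryTheory CategoryTheory.Limits AlgebraicGeometry
open AlgSp

namespace Groth.Agent.S10509

/-- A smooth covering of an algebraic space `X` over `S` by algebraic spaces can be refined by an etale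
covering of `X` by algebraic spaces: there is an etale covering `{U_j ⟶ X}` each member of which
factors through some member of the given smooth covering. -/
theorem result {S : Scheme.{u}} (X : AlgSp.Space S) {ι : Type u}
    (Xi : ι → AlgSp.Space S) (g : ∀ i, Xi i ⟶ X)
    (h : AlgSp.IsSmCover (fun i => (Xi i).obj) (fun i => (g i).hom)) :
    ∃ (κ : Type u) (U : κ → AlgSp.Space S) (c : ∀ j, U j ⟶ X),
      AlgSp.IsEtCover (fun j => (U j).obj) (fun j => (c j).hom) ∧
      ∀ j, ∃ (i : ι) (r : U j ⟶ Xi i), r ≫ g i = c j := by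
  classical
  obtain ⟨V, q, hq, hqs⟩ := X.property.atlas
  have key : ∀ v : V.left, ∃ (W : Over S) (c : (AlgSp.yon S).obj W ⟶ X.obj) (i : ι)
      (r : (AlgSp.yon S).obj W ⟶ (Xi i).obj), AlgSp.RepWith @Etale c ∧
        AlgSp.Points.ofPt q v ∈ Set.range (AlgSp.Points.map c) ∧ r ≫ (g i).hom = c := by
    intro v
    obtain ⟨i, z, hz⟩ := h.2 (AlgSp.Points.ofPt q v)
    let P := pullback (g i).hom q
    have hP : AlgSp.IsAlgSpace P :=
      Groth.Agent.AlgSp.isAlgSpace_pullback X.property (Xi i).property (AlgSp.IsAlgSpace.yon_obj V) _ _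
    obtain ⟨U, aU, haU, haUs⟩ := hP.atlas
    obtain ⟨m, hm⟩ := (AlgSp.yon S).map_surjective (aU ≫ pullback.snd (g i).hom q)
    have : Smooth m.left := Groth.Agent.AlgSpCov.chart_of_locP Groth.Agent.AlgSpCov.etaleLocal_smooth
      (Xi i).property X.property (h.1 i) q (IsPullback.of_hasPullback _ _) haU m hm.symm
    obtain ⟨p, -, hp⟩ := Groth.Agent.AlgSpB.exists_of_isPullback (IsPullback.of_hasPullback (g i).hom q) z
      (AlgSp.Points.ofScheme V v) (by rw [hz, AlgSp.Points.ofPt_eq_map_ofScheme])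
    obtain ⟨p', rfl⟩ := (Groth.Agent.AlgSp.repWith_surjective_iff aU haU.1).1 haUs p
    obtain ⟨u, rfl⟩ := (AlgSp.Points.schemeEquiv U).surjective p'
    have hu : m.left u = v := by
      have e : AlgSp.Points.ofPt (aU ≫ pullback.snd (g i).hom q) u = AlgSp.Points.ofScheme V v := by
        rw [AlgSp.Points.ofPt_eq_map_ofScheme, AlgSp.Points.map_comp]
        exact hp
      rw [← hm] at e
      have := congrArg (AlgSp.Points.toScheme V) e
      rwa [AlgSp.Points.toScheme_ofPt, AlgSp.Points.toScheme_ofScheme] at this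
    obtain ⟨W', e, w, he, hw, l, hl⟩ := Groth.Agent.AlgSpCov.exists_etale_section m.left u
    let W : Over S := Over.mk (e ≫ V.hom)
    let eW : W ⟶ V := Over.homMk e rfl
    let lW : W ⟶ U := Over.homMk l (by
      change l ≫ U.hom = e ≫ V.hom
      rw [← Over.w m, ← hl, Category.assoc]
      )
    have hlW : lW ≫ m = eW := Over.OverMorphism.ext hl
    refine ⟨W, (AlgSp.yon S).map eW ≫ q, i,
      (AlgSp.yon S).map lW ≫ aU ≫ pullback.fst (g i).hom q, ?_, ⟨AlgSp.Points.ofScheme W w, ?_⟩, ?_⟩
    · exact (AlgSp.repWith_isMultiplicative _).comp_mem _ _ ((AlgSp.repWith_yon_map_iff _ _).2 he) hq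
    · rw [← AlgSp.Points.ofPt_eq_map_ofScheme, Groth.Agent.AlgSpB.ofPt_map_comp]
      exact congrArg _ (hw.trans hu)
    · rw [Category.assoc, Category.assoc, pullback.condition, ← Category.assoc aU, ← hm, ← Category.assoc,
        ← Functor.map_comp, hlW]
  choose W c i r hc hx hr using key
  refine ⟨V.left, fun v => (AlgSp.ofScheme S).obj (W v), fun v => ObjectProperty.homMk (c v),
    ⟨fun v => Groth.Agent.AlgSpCov.isEtaleMor_of_repWith (hc v), fun x => ?_⟩,
    fun v => ⟨i v, ObjectProperty.homMk (r v), ObjectProperty.hom_ext _ (hr v)⟩⟩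
  obtain ⟨p, rfl⟩ := (Groth.Agent.AlgSp.repWith_surjective_iff q hq.1).1 hqs x
  obtain ⟨v, rfl⟩ := (AlgSp.Points.schemeEquiv V).surjective p
  refine ⟨v, ?_⟩
  have := hx v
  rwa [AlgSp.Points.ofPt_eq_map_ofScheme] at this

end Groth.Agent.S10509
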