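import Groth.Statements.S10510
import Groth.Agent.AlgSpCov.Covers

set_option autoImplicit false
set_option backward.isDefEq.respectTransparency false
universe u
open CategoryTheory CategoryTheory.Limits AlgebraicGeometry
open AlgSp Groth.Agent

namespace Groth.Agent.S10510

/-- An fppf covering `{X_i ⟶ X}` of an algebraic space `X` over `S` by algebraic spaces is jointly
surjective as a family of maps of fppf sheaves: every `h_T ⟶ X` from a scheme `T` over `S` lifts,
locally for the fppf topology on `T`, through members of the family. -/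
theorem result {S : Scheme.{u}} (X : AlgSp.Space S) {ι : Type u}
    (Xi : ι → AlgSp.Space S) (g : ∀ i, Xi i ⟶ X)
    (h : AlgSp.IsFppfCover (fun i => (Xi i).obj) (fun i => (g i).hom))
    (T : Over S) (t : (AlgSp.yon S).obj T ⟶ X.obj) :
    ∃ (κ : Type u) (Tk : κ → Over S) (c : ∀ k, Tk k ⟶ T),
      Sieve.ofArrows Tk c ∈ AlgSp.J S T ∧
      ∀ k, ∃ (i : ι) (l : (AlgSp.yon S).obj (Tk k) ⟶ (Xi i).obj), l ≫ (g i).hom = (AlgSp.yon S).map (c k) ≫ t := by
  obtain ⟨κ, Tk, c, -, hf, hp, hs, hl⟩ :=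
    AlgSpCov.exists_fppf_refinement X.property (fun i => (Xi i).property) h T t
  refine ⟨κ, Tk, c, Groth.Agent.AlgSp.mem_of_cover
    (R := Presieve.ofArrows (fun k => (Tk k).left) (fun k => (c k).left)) ?_ ?_, hl⟩
  · rw [Scheme.fppfPrecoverage, Scheme.ofArrows_mem_precoverage_iff]
    exact ⟨hs, fun k => ⟨hf k, hp k⟩⟩
  · rintro W g ⟨k⟩
    have e : (Over.homMk (c k).left rfl : Over.mk ((c k).left ≫ T.hom) ⟶ T) =
        (Over.homMk (𝟙 (Tk k).left) (by simp) : Over.mk ((c k).left ≫ T.hom) ⟶ Tk k) ≫ c k :=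
      Over.OverMorphism.ext (by simp)
    rw [e]
    exact (Sieve.ofArrows Tk c).downward_closed (Sieve.ofArrows_mk Tk c k) _

end Groth.Agent.S10510
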