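import Groth.Statements.S10511
import Groth.Agent.AlgSpB.Bootstrap
import Groth.Agent.AlgSpCov.WidePB
import Groth.Agent.AlgSpCov.LocPBasic
import Groth.Agent.AlgSpCov.Listed
-- import your own Groth.Agent.* helpers here

set_option autoImplicit false
universe u
open CategoryTheory CategoryTheory.Limits AlgebraicGeometry
open AlgSp

set_option backward.isDefEq.respectTransparency false

namespace Groth.Agent.S10511

open Groth.Agent

/-- Let `X` be an algebraic space over `S` and `P` a property of sheaves over `X` such that, for every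
algebraic space `U` over `X` and every fppf covering `{U_i ⟶ U}` by algebraic spaces, `P` holds for
`U` as soon as it holds for all the iterated fibre products `U_{i_0} ×_U ⋯ ×_U U_{i_n}` (`n ≥ 0`,
taken in fppf sheaves) over `X`. If `P` holds for every sheaf over `X` that is isomorphic to an
affine scheme and flat and locally of finite presentation over `X`, then `P` holds for `X`. -/
theorem result {S : Scheme.{u}} (X : AlgSp.Space S)
    (P : ∀ ⦃U : AlgSp.Sp S⦄, (U ⟶ X.obj) → Prop)
    (hP : ∀ ⦃U : AlgSp.Sp S⦄ (a : U ⟶ X.obj), AlgSp.IsAlgSpace U →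
      ∀ ⦃ι : Type u⦄ (Ui : ι → AlgSp.Sp S) (g : ∀ i, Ui i ⟶ U), (∀ i, AlgSp.IsAlgSpace (Ui i)) →
      AlgSp.IsFppfCover Ui g →
      (∀ (n : ℕ) (c : Fin (n + 1) → ι),
        P (WidePullback.base (fun k : Fin (n + 1) => g (c k)) ≫ a)) → P a)
    (haff : ∀ ⦃U : AlgSp.Sp S⦄ (a : U ⟶ X.obj) (T : Over S) (e : U ≅ (AlgSp.yon S).obj T), IsAffine T.left →
      AlgSp.LocP @Flat a → AlgSp.LocP @LocallyOfFinitePresentation a → P a) :
    P (𝟙 X.obj) := by
  classical
  obtain ⟨V, p, hp, hps⟩ := X.property.atlas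
  have hLoc : ∀ {F G : AlgSp.Sp S} (f : F ⟶ G), AlgSp.RepWith @Etale f →
      AlgSp.LocP @Flat f ∧ AlgSp.LocP @LocallyOfFinitePresentation f := fun f hf =>
    ⟨AlgSpCov.locP_of_repWith AlgSpCov.etaleLocal_flat
        (Groth.Agent.AlgSp.repWith_mono (Q := @Flat) (fun f (h : Etale f) => inferInstance) hf),
      AlgSpCov.locP_of_repWith AlgSpCov.etaleLocal_locallyOfFinitePresentation
        (Groth.Agent.AlgSp.repWith_mono (Q := @LocallyOfFinitePresentation)
          (fun f (h : Etale f) => inferInstance) hf)⟩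
  -- covers of a space by affine opens of an atlas
  have key : ∀ {Y : AlgSp.Sp S} (W : Over S) (e : (AlgSp.yon S).obj W ⟶ Y), AlgSp.RepWith @Etale e →
      AlgSp.RepWith @Surjective e →
      AlgSp.IsFppfCover (fun k : W.left.affineCover.I₀ => (AlgSp.yon S).obj (Over.mk (W.left.affineCover.f k ≫ W.hom)))
        (fun k => (AlgSp.yon S).map (Over.homMk (W.left.affineCover.f k) : Over.mk _ ⟶ W) ≫ e) := by
    intro Y W e he hes
    refine ⟨fun k => ?_, fun x => ?_⟩
    · have : Etale (Over.homMk (W.left.affineCover.f k) : Over.mk (W.left.affineCover.f k ≫ W.hom) ⟶ W).left :=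
        inferInstanceAs (Etale (W.left.affineCover.f k))
      exact hLoc _ (AlgSpB.repWith_etale_map_comp _ he)
    · obtain ⟨w, rfl⟩ := AlgSpB.surjective_ofPt hes x
      obtain ⟨k, v, hv⟩ : ∃ k v, W.left.affineCover.f k v = w := ⟨_, W.left.affineCover.covers w⟩
      refine ⟨k, AlgSp.Points.ofScheme _ v, ?_⟩
      rw [← AlgSp.Points.ofPt_eq_map_ofScheme, AlgSpB.ofPt_map_comp]
      exact congrArg _ hv
  refine hP (𝟙 X.obj) X.property (fun k : V.left.affineCover.I₀ => _) _
    (fun k => AlgSp.IsAlgSpace.yon_obj _) (key V p hp hps) fun n c => ?_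
  -- first level: a separated scheme
  let U : Fin (n + 1) → Over S := fun k => Over.mk (V.left.affineCover.f (c k) ≫ V.hom)
  let g : ∀ k, (AlgSp.yon S).obj (U k) ⟶ X.obj := fun k =>
    (AlgSp.yon S).map (Over.homMk (V.left.affineCover.f (c k)) : U k ⟶ V) ≫ p
  have hg : ∀ k, AlgSp.RepWith @Etale (g k) := fun k => by
    have : Etale (Over.homMk (V.left.affineCover.f (c k)) : U k ⟶ V).left :=
      inferInstanceAs (Etale (V.left.affineCover.f (c k)))
    exact AlgSpB.repWith_etale_map_comp _ hp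
  have hUa : ∀ k, IsAffine (U k).left := fun k => inferInstanceAs (IsAffine (V.left.affineCover.X (c k)))
  obtain ⟨Q, b, π, hb, hQ, hπ, huniv, -⟩ := AlgSpCov.WidePB.exists_wide X n U g hg
    (fun k => by have := hUa k; infer_instance)
  obtain ⟨e, he⟩ := AlgSpCov.WidePB.exists_iso_wide X π hπ huniv
  -- second level: affine schemes
  refine hP _ (AlgSp.IsAlgSpace.of_iso (AlgSp.IsAlgSpace.yon_obj Q) e.symm) (fun k : Q.left.affineCover.I₀ => _) _
    (fun k => AlgSp.IsAlgSpace.yon_obj _) (key Q e.inv (AlgSpB.repWith_of_isIso _) (AlgSpB.repWith_of_isIso _))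
    fun m d => ?_
  let Z : AlgSp.Space S :=
    ⟨widePullback X.obj (fun k => (AlgSp.yon S).obj (U k)) g, AlgSp.IsAlgSpace.of_iso (AlgSp.IsAlgSpace.yon_obj Q) e.symm⟩
  let U' : Fin (m + 1) → Over S := fun k => Over.mk (Q.left.affineCover.f (d k) ≫ Q.hom)
  let g' : ∀ k, (AlgSp.yon S).obj (U' k) ⟶ Z.obj := fun k =>
    (AlgSp.yon S).map (Over.homMk (Q.left.affineCover.f (d k)) : U' k ⟶ Q) ≫ e.inv
  have hg' : ∀ k, AlgSp.RepWith @Etale (g' k) := fun k => by
    have : Etale (Over.homMk (Q.left.affineCover.f (d k)) : U' k ⟶ Q).left :=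
      inferInstanceAs (Etale (Q.left.affineCover.f (d k)))
    exact AlgSpB.repWith_etale_map_comp _ (AlgSpB.repWith_of_isIso _)
  have hUa' : ∀ k, IsAffine (U' k).left := fun k => inferInstanceAs (IsAffine (Q.left.affineCover.X (d k)))
  obtain ⟨Q', b', π', hb', -, hπ', huniv', hA⟩ := AlgSpCov.WidePB.exists_wide Z m U' g' hg'
    (fun k => by have := hUa' k; infer_instance)
  obtain ⟨e', he'⟩ := AlgSpCov.WidePB.exists_iso_wide Z π' hπ' huniv'
  have hcomp : AlgSp.RepWith @Etale (WidePullback.base g' ≫ WidePullback.base g ≫ 𝟙 X.obj) := by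
    have hmul := AlgSp.repWith_isMultiplicative (S := S) @Etale
    rw [Category.comp_id, ← he, ← he']
    exact hmul.comp_mem _ _ (hmul.comp_mem _ _ (AlgSpB.repWith_of_isIso _) hb')
      (hmul.comp_mem _ _ (AlgSpB.repWith_of_isIso _) hb)
  exact haff _ Q' e' (hA hUa' ⟨Q, hQ, ⟨e.symm⟩⟩) (hLoc _ hcomp).1 (hLoc _ hcomp).2

end Groth.Agent.S10511
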