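import Groth.Statements.S10514
import Groth.Agent.AlgSpCov.FppfPh
import Groth.Agent.HTopPh.Bind
import Groth.Agent.AlgSpCov.LocPBasic
import Groth.Agent.AlgSpCov.Listed
import Groth.Agent.AlgSp.InfGlue
import Groth.Agent.AlgSpB.Open
import Groth.Agent.AlgSp.Space
-- import your own Groth.Agent.* helpers here

set_option autoImplicit false
universe u
open CategoryTheory CategoryTheory.Limits AlgebraicGeometry
open AlgSp

set_option backward.isDefEq.respectTransparency false

namespace Groth.Agent.S10514

open Groth.Agent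

/-- An fppf covering of an algebraic space `X` over `S` by algebraic spaces is a ph covering of `X`: its
members are locally of finite type and every morphism from an affine scheme `Z` to `X` admits a
standard ph covering of `Z` whose members lift through members of the family. -/
theorem result {S : Scheme.{u}} (X : AlgSp.Space S) {ι : Type u}
    (Xi : ι → AlgSp.Space S) (g : ∀ i, Xi i ⟶ X)
    (h : AlgSp.IsFppfCover (fun i => (Xi i).obj) (fun i => (g i).hom)) :
    AlgSp.IsPhCover (fun i => (Xi i).obj) (fun i => (g i).hom) := by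
  refine ⟨fun i U V a b k ha hb w =>
    have := (h.1 i).2 a b k ha hb w
    (inferInstance : LocallyOfFiniteType k.left), fun Z hZ z => ?_⟩
  have hP : ∀ i, AlgSp.IsAlgSpace (pullback (g i).hom z) := fun i =>
    Groth.Agent.AlgSp.isAlgSpace_pullback X.property (Xi i).property (AlgSp.IsAlgSpace.yon_obj Z) _ _
  choose U a ha has using fun i => (hP i).atlas
  choose k hk using fun i => (AlgSp.yon S).map_surjective (a i ≫ pullback.snd (g i).hom z)
  have hkp : ∀ i, Flat (k i).left ∧ LocallyOfFinitePresentation (k i).left := fun i =>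
    ⟨AlgSpCov.locP_baseChange AlgSpCov.etaleLocal_flat (Xi i).property X.property
        (IsPullback.of_hasPullback (g i).hom z) (h.1 i).1 (a i) (𝟙 _) (k i) (ha i) (AlgSp.repWith_id _ _)
        (by rw [Category.comp_id, hk]),
      AlgSpCov.locP_baseChange AlgSpCov.etaleLocal_locallyOfFinitePresentation (Xi i).property X.property
        (IsPullback.of_hasPullback (g i).hom z) (h.1 i).2 (a i) (𝟙 _) (k i) (ha i) (AlgSp.repWith_id _ _)
        (by rw [Category.comp_id, hk])⟩
  let E : PreZeroHypercover.{u} Z.left := ⟨ι, fun i => (U i).left, fun i => (k i).left⟩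
  have hsurj : ∀ t : ↥Z.left, ∃ (i : E.I₀) (x : E.X i), E.f i x = t := fun t => by
    obtain ⟨i, y, hy⟩ := h.2 (AlgSp.Points.ofPt z t)
    rw [AlgSp.Points.ofPt_eq_map_ofScheme] at hy
    obtain ⟨q, -, hq⟩ := AlgSpB.exists_of_isPullback (IsPullback.of_hasPullback (g i).hom z) y _ hy
    obtain ⟨u, rfl⟩ := AlgSpB.surjective_ofPt (has i) q
    refine ⟨i, u, ?_⟩
    rw [AlgSp.Points.map_ofPt, ← hk] at hq
    rw [← AlgSp.Points.toScheme_ofScheme Z t, ← hq, AlgSp.Points.toScheme_ofPt]
  obtain ⟨F, hF, hl⟩ := HTopPh.exists_standard_refining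
    (AlgSpCov.isPhCover_of_fppf E (fun i => (hkp i).1) (fun i => (hkp i).2) hsurj) (𝟙 Z.left)
  refine ⟨F, hF, fun j => ?_⟩
  obtain ⟨i, l, hli⟩ := hl j
  rw [Category.comp_id] at hli
  have hli' : l ≫ (k i).left = F.f j := hli
  let l' : Over.mk (F.f j ≫ Z.hom) ⟶ U i := Over.homMk l (by
    show l ≫ (U i).hom = F.f j ≫ Z.hom
    rw [← Over.w (k i), reassoc_of% hli'])
  refine ⟨i, (AlgSp.yon S).map l' ≫ a i ≫ pullback.fst (g i).hom z, ?_⟩
  rw [Category.assoc, Category.assoc, pullback.condition, ← reassoc_of% (hk i), ← Category.assoc,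
    ← Functor.map_comp]
  congr 2
  ext
  exact hli'

end Groth.Agent.S10514
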