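import Groth.Statements.S10515
import Groth.Agent.SchCover.CoverThrough
import Groth.Agent.SchCover.PhModel
import Groth.Agent.AlgSp.NormAffine
-- import your own Groth.Agent.* helpers here

set_option autoImplicit false
universe u
open CategoryTheory CategoryTheory.Limits AlgebraicGeometry
open AlgSp

set_option backward.isDefEq.respectTransparency false

namespace Groth.Agent.S10515

/-- A proper (separated, of finite type, universally closed) and surjective morphism `f : Y ⟶ X` of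
algebraic spaces over `S` forms, on its own, a ph covering `{Y ⟶ X}` of `X`. -/
theorem result {S : Scheme.{u}} {X Y : AlgSp.Space S} (f : Y ⟶ X)
    (hf : AlgSp.IsProperMor f.hom) (hs : AlgSp.IsSurjectiveMor f.hom) :
    AlgSp.IsPhCover (fun _ : PUnit.{u + 1} => Y.obj) (fun _ => f.hom) := by
  classical
  refine ⟨fun _ => hf.2.1.1, fun Z hZ h => ?_⟩
  have := hZ
  let R : CommRingCat.{u} := Γ(Z.left, ⊤)
  let hR : Spec (CommRingCat.of R) ⟶ S := Z.left.isoSpec.inv ≫ Z.hom
  let ε : Over.mk hR ⟶ Z := Over.homMk Z.left.isoSpec.inv rfl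
  let a := (AlgSp.yon S).map ε ≫ h
  let P := pullback f.hom a
  let g : P ⟶ (AlgSp.yon S).obj (Over.mk hR) := pullback.snd f.hom a
  have sP : IsPullback (pullback.fst f.hom a) g f.hom a := IsPullback.of_hasPullback _ _
  have hB : AlgSp.IsAlgSpace ((AlgSp.yon S).obj (Over.mk hR)) := AlgSp.IsAlgSpace.yon_obj _
  have hP : AlgSp.IsAlgSpace P := Groth.Agent.AlgSp.isAlgSpace_pullback X.property Y.property hB f.hom a
  have hp := AlgSpD.isProperMor_baseChange Y.property X.property sP hf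
  have hqs := Groth.Agent.AlgSp.isQuasiSeparatedMor_of_sep hp.1
  obtain ⟨E, F, iE, _, ⟨PE⟩⟩ := Groth.Agent.AlgSp.exists_pres (h := hR) hP hp.2.1.2 hqs
  have hft : (algebraMap R E).FiniteType :=
    (HasRingHomProperty.Spec_iff (P := @LocallyOfFiniteType)).1
      (show LocallyOfFiniteType (Spec.map (CommRingCat.ofHom (algebraMap R E))) from
        hp.2.1.1 PE.a (𝟙 _) (Groth.Agent.AlgSp.specStr hR E) PE.ha (AlgSp.repWith_id @Etale _)
          (by rw [PE.hga, Category.comp_id]))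
  have : IsAffine (Over.mk hR).left := inferInstanceAs (IsAffine (Spec (CommRingCat.of R)))
  have : CompactSpace ↥(Over.mk hR).left := inferInstance
  have hcpt : CompactSpace (AlgSp.Points P) := Groth.Agent.AlgSp.compactSpace_points
    (hp.2.1.2 hB (Groth.Agent.AlgSp.isQuasiCompactSp_yon _) (𝟙 _) (𝟙 _) g IsPullback.of_id_fst)
  have has : AlgSp.RepWith @Surjective PE.a := (Groth.Agent.AlgSp.repWith_surjective_iff _ PE.ha.1).2 fun x => by
    obtain ⟨t, ht⟩ := PE.hs x
    exact ⟨_, (AlgSp.Points.ofPt_eq_map_ofScheme _ _).symm.trans ht⟩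
  obtain ⟨Y₁, ν, hν, hνs, hfac⟩ := SchCover.exists_integral_cover_through ⟨P, hP⟩ hcpt (fun T hT f' => by
    obtain ⟨c, hc⟩ := (AlgSp.yon S).map_surjective (f' ≫ g)
    refine Groth.Agent.AlgSp.isQuasiCompactMor_of_comp (AlgSp.IsAlgSpace.yon_obj T) hP hB f' g ?_ hqs
    rw [← hc]
    exact Groth.Agent.AlgSp.isQuasiCompactMor_of_repWith hB
      ((AlgSp.repWith_yon_map_iff _ _).2 (inferInstanceAs (QuasiCompact c.left)))) PE.a PE.ha has
  obtain ⟨q, hq⟩ := (AlgSp.yon S).map_surjective (ν ≫ g)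
  have hνuc : AlgSp.IsUnivClosedMor ν := Groth.Agent.AlgSp.isUnivClosedMor_of_repWith
    (Groth.Agent.AlgSp.repWith_mono (fun g (_ : IsIntegralHom g) => (inferInstance : UniversallyClosed g)) hν)
  have hquc : AlgSp.IsUnivClosedMor ((AlgSp.yon S).map q) :=
    hq ▸ Groth.Agent.AlgSp.isUnivClosedMor_comp hP hB hνuc hp.2.2
  let q' : Y₁.left ⟶ Spec R := q.left
  have : UniversallyClosed q' := (AlgSp.repWith_yon_map_iff _ _).1
    ((Groth.Agent.AlgSp.repWith_universallyClosed_iff _ (((AlgSp.repWith_yon_map_iff ⊤ q).2 trivial).1)).2 hquc)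
  have : IsSeparated q' := (AlgSp.isSeparatedMor_yon_map_iff q).1 (hq ▸ AlgSpD.isSeparatedMor_comp
    (Groth.Agent.AlgSpSpec.isSeparatedMor_of_affine (AlgSp.IsAlgSpace.yon_obj Y₁)
      (Groth.Agent.AlgSp.repWith_mono (fun g (_ : IsIntegralHom g) => (inferInstance : IsAffineHom g)) hν)) hp.1)
  have : Surjective q' := ⟨fun x => by
    obtain ⟨z, hz⟩ := Groth.Agent.AlgSp.surjective_map_of_isPullback sP hs (AlgSp.Points.ofScheme (Over.mk hR) x)
    obtain ⟨y, rfl⟩ := hνs z
    refine ⟨y, ?_⟩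
    rw [AlgSp.Points.map_ofPt, ← hq] at hz
    have e1 := AlgSp.Points.toScheme_ofPt q y
    have e2 := AlgSp.Points.toScheme_ofScheme (Over.mk hR) x
    rw [hz, e2] at e1
    exact e1.symm⟩
  obtain ⟨N, Y', r, _, _, V, hV, hcov, hk⟩ := SchCover.exists_proper_model
    (CommRingCat.ofHom (algebraMap R E)) hft q' (fun y => by
      obtain ⟨W, c, hy, hc⟩ := hfac y
      refine ⟨W, c.left, hy, ?_⟩
      have e : c ≫ Groth.Agent.AlgSp.specStr hR E = (Over.homMk W.ι rfl : Over.mk (W.ι ≫ Y₁.hom) ⟶ Y₁) ≫ q :=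
        (AlgSp.yon S).map_injective (by
          rw [Functor.map_comp, Functor.map_comp, ← PE.hga, reassoc_of% hc, ← hq])
      exact congrArg CommaMorphism.left e)
  choose k hk using hk
  let F₀ : PreZeroHypercover.{0} Z.left :=
    { I₀ := Fin N, X := fun j => (V j : Scheme.{u}), f := fun j => (V j).ι ≫ r ≫ Z.left.isoSpec.inv }
  refine ⟨F₀, ⟨hZ, inferInstanceAs (Finite (Fin N)), fun j => hV j,
    Y', r ≫ Z.left.isoSpec.inv, fun j => (V j).ι, inferInstance, inferInstance, fun j => inferInstance,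
    fun j => rfl, fun x => ?_⟩, fun j => ?_⟩
  · obtain ⟨j, hj⟩ := hcov x
    exact ⟨j, ⟨x, hj⟩, rfl⟩
  · let m : Over.mk (F₀.f j ≫ Z.hom) ⟶ Groth.Agent.AlgSp.specOver hR E := Over.homMk (k j) (by
      change k j ≫ Spec.map (CommRingCat.ofHom (algebraMap R E)) ≫ Z.left.isoSpec.inv ≫ Z.hom =
        ((V j).ι ≫ r ≫ Z.left.isoSpec.inv) ≫ Z.hom
      rw [reassoc_of% (hk j), Category.assoc, Category.assoc])
    refine ⟨PUnit.unit, (AlgSp.yon S).map m ≫ PE.a ≫ pullback.fst f.hom a, ?_⟩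
    have e1 : PE.a ≫ pullback.fst f.hom a ≫ f.hom = PE.a ≫ g ≫ a := congrArg (PE.a ≫ ·) pullback.condition
    have e2 : ∀ (w : (AlgSp.yon S).obj (Groth.Agent.AlgSp.specOver hR E) ⟶ P),
        ((AlgSp.yon S).map m ≫ w ≫ pullback.fst f.hom a) ≫ f.hom =
          (AlgSp.yon S).map m ≫ w ≫ pullback.fst f.hom a ≫ f.hom := fun w => by simp only [Category.assoc]
    refine (e2 PE.a).trans ?_
    rw [e1, reassoc_of% PE.hga]
    refine (((AlgSp.yon S).map_comp_assoc m _ _).symm.trans ?_)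
    rw [show a = (AlgSp.yon S).map ε ≫ h from rfl]
    refine (((AlgSp.yon S).map_comp_assoc _ ε h).symm.trans ?_)
    congr 2
    apply Over.OverMorphism.ext
    change (k j ≫ Spec.map (CommRingCat.ofHom (algebraMap R E))) ≫ Z.left.isoSpec.inv = (V j).ι ≫ r ≫ Z.left.isoSpec.inv
    rw [hk j, Category.assoc]

end Groth.Agent.S10515
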