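import Groth.Statements.S10517
import Groth.Agent.HTopPh.Bind
import Groth.Agent.AlgSpCov.LocPBasic
import Groth.Agent.AlgSpCov.Listed
-- import your own Groth.Agent.* helpers here

set_option autoImplicit false
universe u
open CategoryTheory CategoryTheory.Limits AlgebraicGeometry
open AlgSp

set_option backward.isDefEq.respectTransparency false

namespace Groth.Agent.S10517

open Groth.Agent

/-- If `{X_i ⟶ X}` is a ph covering of the algebraic space `X` by algebraic spaces and each `X_i` has a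
ph covering `{X_ij ⟶ X_i}` by algebraic spaces, then the composites `X_ij ⟶ X_i ⟶ X`, indexed by the
pairs `(i, j)`, form a ph covering of `X`. -/
theorem result {S : Scheme.{u}} (X : AlgSp.Space S) {ι : Type u}
    (Xi : ι → AlgSp.Space S) (g : ∀ i, Xi i ⟶ X) (κ : ι → Type u) (Xij : ∀ i, κ i → AlgSp.Space S)
    (gij : ∀ i j, Xij i j ⟶ Xi i)
    (h : AlgSp.IsPhCover (fun i => (Xi i).obj) (fun i => (g i).hom))
    (hij : ∀ i, AlgSp.IsPhCover (fun j => (Xij i j).obj) (fun j => (gij i j).hom)) :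
    AlgSp.IsPhCover (fun r : Σ i, κ i => (Xij r.1 r.2).obj) (fun r => (gij r.1 r.2 ≫ g r.1).hom) := by
  refine ⟨fun r => AlgSpCov.locP_comp AlgSpCov.etaleLocal_locallyOfFiniteType (Xi r.1).property X.property
    ((hij r.1).1 r.2) (h.1 r.1), fun Z hZ z => ?_⟩
  obtain ⟨F, hF, hl⟩ := h.2 Z hZ z
  choose i l hli using hl
  have hFaff : ∀ j, IsAffine (F.X j) := hF.isAffine_obj
  choose G hG hGl using fun j => (hij (i j)).2 (Over.mk (F.f j ≫ Z.hom)) (hFaff j) (l j)
  obtain ⟨H, hH, hHl⟩ := HTopPh.exists_isStandardPh_bind hF hG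
  refine ⟨H, hH, fun k => ?_⟩
  obtain ⟨j, m, q, hq⟩ := hHl k
  obtain ⟨m', l', hl'⟩ := hGl j m
  let qq : Over.mk (H.f k ≫ Z.hom) ⟶ Over.mk ((G j).f m ≫ F.f j ≫ Z.hom) := Over.homMk q (by
    show q ≫ (G j).f m ≫ F.f j ≫ Z.hom = H.f k ≫ Z.hom
    rw [← hq]; simp only [Category.assoc])
  refine ⟨⟨i j, m'⟩, (AlgSp.yon S).map qq ≫ l', ?_⟩
  show ((AlgSp.yon S).map qq ≫ l') ≫ (gij (i j) m').hom ≫ (g (i j)).hom = _
  rw [Category.assoc, reassoc_of% hl', hli j, ← Category.assoc, ← Category.assoc, ← Functor.map_comp,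
    ← Functor.map_comp]
  congr 2
  ext
  show (q ≫ (G j).f m) ≫ F.f j = H.f k
  rw [Category.assoc, hq]

end Groth.Agent.S10517
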