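import Groth.Statements.S1053
import Mathlib.Algebra.Homology.DerivedCategory.KProjective
import Mathlib.Algebra.Homology.DerivedCategory.TStructure
-- import your own Groth.Agent.* helpers here

set_option autoImplicit false
universe w v u
open CategoryTheory CategoryTheory.Limits
open CohDer

namespace Groth.Agent.S1053

/-- Let P and K be cochain complexes in an abelian category with P bounded, consisting of projective
objects and zero in degrees below n, and with Hⁱ(K) = 0 for all i ≥ n. Then every morphism P ⟶ K in
the homotopy category and every morphism P ⟶ K in the derived category is zero. -/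
theorem result {A : Type u} [Category.{v} A] [Abelian A] [HasDerivedCategory.{w} A]
    (P K : CochainComplex A ℤ) (n b : ℤ) [P.IsStrictlyGE n] [P.IsStrictlyLE b] (hP : ∀ i : ℤ, Projective (P.X i))
    (hK : ∀ i : ℤ, n ≤ i → IsZero (K.homology i)) :
    (∀ φ : (HomotopyCategory.quotient A (ComplexShape.up ℤ)).obj P ⟶ (HomotopyCategory.quotient A (ComplexShape.up ℤ)).obj K, φ = 0) ∧
    (∀ φ : DerivedCategory.Q.obj P ⟶ DerivedCategory.Q.obj K, φ = 0) := by
  haveI : ∀ i, Projective (P.X i) := hP
  haveI : P.IsKProjective := CochainComplex.isKProjective_of_projective P b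
  haveI : K.IsLE (n - 1) := by
    rw [CochainComplex.isLE_iff]
    intro i hi
    rw [HomologicalComplex.exactAt_iff_isZero_homology]
    exact hK i (by omega)
  have hzero : ∀ g : P ⟶ K.truncLE (n - 1), g = 0 := by
    intro g
    ext i
    by_cases hi : i < n
    · exact (P.isZero_of_isStrictlyGE n i hi).eq_of_src _ _
    · exact ((K.truncLE (n - 1)).isZero_of_isStrictlyLE (n - 1) i (by omega)).eq_of_tgt _ _
  have hD : ∀ φ : DerivedCategory.Q.obj P ⟶ DerivedCategory.Q.obj K, φ = 0 := by
    intro φ
    haveI : IsIso (DerivedCategory.Q.map (K.ιTruncLE (n - 1))) :=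
      (DerivedCategory.isIso_Q_map_iff_quasiIso (C := A) (K.ιTruncLE (n - 1))).2 inferInstance
    let φ' : DerivedCategory.Q.obj P ⟶ DerivedCategory.Q.obj (K.truncLE (n - 1)) :=
      φ ≫ inv (DerivedCategory.Q.map (K.ιTruncLE (n - 1)))
    obtain ⟨q, hq⟩ := (CochainComplex.IsKProjective.Qh_map_bijective P
      ((HomotopyCategory.quotient A (ComplexShape.up ℤ)).obj (K.truncLE (n - 1)))).surjective φ'
    obtain ⟨g, rfl⟩ := (HomotopyCategory.quotient A (ComplexShape.up ℤ)).map_surjective q
    rw [hzero g, Functor.map_zero, Functor.map_zero] at hq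
    have h0 : φ' = 0 := hq.symm
    have := congrArg (· ≫ DerivedCategory.Q.map (K.ιTruncLE (n - 1))) h0
    simpa [φ'] using this
  refine ⟨fun φ => (CochainComplex.IsKProjective.Qh_map_bijective P _).injective ?_, hD⟩
  rw [Functor.map_zero]
  exact hD _

end Groth.Agent.S1053
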