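import Groth.Statements.S10545
import Groth.Agent.AlgSpCov.AffineFamily
-- import your own Groth.Agent.* helpers here

set_option autoImplicit false
universe u
open CategoryTheory CategoryTheory.Limits AlgebraicGeometry
open AlgSp

set_option backward.isDefEq.respectTransparency false

open Groth.Agent

namespace Groth.Agent.S10545

/-- The property of morphisms of algebraic spaces over S given by f is finite locally free
(representable by finite, flat, locally finitely presented morphisms of schemes) is fpqc local on
the base: for an fpqc covering of an algebraic space Y by algebraic spaces Y_i, a morphism f : X ⟶ Y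
of algebraic spaces and cartesian squares X_i = Y_i ×_Y X, f has the property if and only if every
X_i ⟶ Y_i has it. -/
theorem result (S : Scheme.{u}) :
    AlgSp.IsLocalOnBase (AlgSp.IsFpqcCover (S := S)) AlgSp.IsFinLocFreeMor := by
  have := AlgSpCov.descendsAlong_finLocFree.{u}
  have := AlgSpCov.isZariskiLocalAtTarget_finLocFree.{u}
  exact AlgSpCov.isLocalOnBase_repWith_of_affine fun f hf => have : IsFinite f := hf.1; inferInstance

end Groth.Agent.S10545
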