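import Groth.Statements.S10553
import Groth.Agent.AlgSpCov.SchemeSourceLocal

set_option autoImplicit false
set_option backward.isDefEq.respectTransparency false
universe u
open CategoryTheory CategoryTheory.Limits AlgebraicGeometry
open AlgSp Groth.Agent

namespace Groth.Agent.S10553

/-- The property of morphisms of algebraic spaces over S given by f is smooth (on etale charts) is
smooth local on the source: for a morphism f : X ⟶ Y of algebraic spaces and a smooth covering of X
by algebraic spaces X_i, f has the property if and only if every composite X_i ⟶ X ⟶ Y has it. -/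
theorem result (S : Scheme.{u}) :
    AlgSp.IsLocalOnSource (AlgSp.IsSmCover (S := S)) (AlgSp.LocP @Smooth) := by
  have : MorphismProperty.ContainsIdentities (@Smooth : MorphismProperty Scheme.{u}) :=
    ⟨fun X => (inferInstance : Smooth (𝟙 X))⟩
  have := AlgSpCov.isLocalAtSource_smooth.{u}
  exact AlgSpCov.isLocalOnSource_locP (T := @Smooth) (fun _ _ e _ => inferInstance) _
    fun _ _ _ _ _ _ h => ⟨h.1, h.2⟩

end Groth.Agent.S10553
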