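import Groth.Statements.S10554
import Groth.Agent.AlgSpCov.SchemeSourceLocal

set_option autoImplicit false
set_option backward.isDefEq.respectTransparency false
universe u
open CategoryTheory CategoryTheory.Limits AlgebraicGeometry
open AlgSp Groth.Agent

namespace Groth.Agent.S10554

/-- The property of morphisms of algebraic spaces over S given by f is etale (composition with every
representable etale map from a scheme is representable etale) is etale local on the source: for a
morphism f : X ⟶ Y of algebraic spaces and a etale covering of X by algebraic spaces X_i, f has the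
property if and only if every composite X_i ⟶ X ⟶ Y has it. -/
theorem result (S : Scheme.{u}) :
    AlgSp.IsLocalOnSource (AlgSp.IsEtCover (S := S)) AlgSp.IsEtaleMor := by
  have := AlgSpCov.isLocalAtSource_etale.{u}
  have key : IsLocalOnSource (IsEtCover (S := S)) (LocP @Etale) :=
    AlgSpCov.isLocalOnSource_locP (T := @Etale) (fun _ _ _ he => he) _
      fun _ _ _ _ _ _ h => ⟨fun i => AlgSpCov.locP_etale_of_isEtaleMor (h.1 i), h.2⟩
  intro ι X Xi g hX hXi hg Y f hY
  rw [AlgSpCov.isEtaleMor_iff_locP_etale hX hY, key Xi g hX hXi hg f hY]
  exact forall_congr' fun i => (AlgSpCov.isEtaleMor_iff_locP_etale (hXi i) hY).symm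

end Groth.Agent.S10554
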