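import Groth.Statements.S10557
import Groth.Agent.AlgSpCov.FppfSource
-- import your own Groth.Agent.* helpers here

set_option autoImplicit false
universe u
open CategoryTheory CategoryTheory.Limits AlgebraicGeometry
open AlgSp

namespace Groth.Agent.S10557

/-- Let g : X ⟶ Y and h : Y ⟶ Z be morphisms of algebraic spaces over S with g a surjection of fppf
sheaves (locally surjective for the fppf topology). For P one of flat, locally of finite type,
locally of finite presentation (checked on etale charts): if the composite X ⟶ Z has P then h has P. -/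
theorem result {S : Scheme.{u}} {X Y Z : AlgSp.Space S} (g : X ⟶ Y) (h : Y ⟶ Z)
    (hg : Sheaf.IsLocallySurjective g.hom) :
    (AlgSp.LocP @Flat (g ≫ h).hom → AlgSp.LocP @Flat h.hom) ∧
    (AlgSp.LocP @LocallyOfFiniteType (g ≫ h).hom → AlgSp.LocP @LocallyOfFiniteType h.hom) ∧
    (AlgSp.LocP @LocallyOfFinitePresentation (g ≫ h).hom →
      AlgSp.LocP @LocallyOfFinitePresentation h.hom) := by
  have := AlgSpCov.isLocalAtSource_fppf_flat.{u}
  have := AlgSpCov.isLocalAtSource_fppf_locallyOfFiniteType.{u}
  have := AlgSpCov.isLocalAtSource_fppf_locallyOfFinitePresentation.{u}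
  exact ⟨AlgSpCov.locP_of_comp_isLocallySurjective AlgSpCov.etaleLocal_flat (fun _ _ _ h _ => h)
      (fun _ _ _ s r f hsr h => have : Flat (r ≫ f) := h; S18490.flat_of_retract f s r hsr)
      X.property Y.property Z.property (g := g.hom) (h := h.hom),
    AlgSpCov.locP_of_comp_isLocallySurjective AlgSpCov.etaleLocal_locallyOfFiniteType
      (fun _ _ e _ h => inferInstance) (fun _ _ _ s r f => AlgSpCov.retract_lft s r f)
      X.property Y.property Z.property (g := g.hom) (h := h.hom),
    AlgSpCov.locP_of_comp_isLocallySurjective AlgSpCov.etaleLocal_locallyOfFinitePresentation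
      (fun _ _ _ _ h => h) (fun _ _ _ s r f => AlgSpCov.retract_lfp s r f)
      X.property Y.property Z.property (g := g.hom) (h := h.hom)⟩

end Groth.Agent.S10557
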