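import Groth.Statements.S10558
import Groth.Agent.AlgSpCov.FppfSource
-- import your own Groth.Agent.* helpers here

set_option autoImplicit false
universe u
open CategoryTheory CategoryTheory.Limits AlgebraicGeometry
open AlgSp

namespace Groth.Agent.S10558

/-- Let f : X ⟶ Y and q : Y ⟶ B be morphisms of algebraic spaces over S with f surjective, flat and
locally of finite presentation. If the composite p = f ≫ q is locally of finite presentation then q
is locally of finite presentation; if p is locally of finite type then q is locally of finite type. -/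
theorem result {S : Scheme.{u}} {X Y B : AlgSp.Space S} (f : X ⟶ Y) (q : Y ⟶ B)
    (hs : AlgSp.IsSurjectiveMor f.hom) (hfl : AlgSp.LocP @Flat f.hom)
    (hfp : AlgSp.LocP @LocallyOfFinitePresentation f.hom) :
    (AlgSp.LocP @LocallyOfFinitePresentation (f ≫ q).hom → AlgSp.LocP @LocallyOfFinitePresentation q.hom) ∧
    (AlgSp.LocP @LocallyOfFiniteType (f ≫ q).hom → AlgSp.LocP @LocallyOfFiniteType q.hom) := by
  have hs' : ∀ x : AlgSp.Points Y.obj, ∃ _ : PUnit.{u + 1}, x ∈ Set.range (AlgSp.Points.map f.hom) :=
    fun x => ⟨⟨⟩, hs x⟩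
  refine ⟨fun hfq => ?_, fun hfq => ?_⟩
  · have := AlgSpCov.isLocalAtSource_fppf_locallyOfFinitePresentation.{u}
    exact AlgSpCov.locP_of_source (T := AlgSpCov.Fppf) Y.property (Xi := fun _ : PUnit.{u + 1} => X.obj)
      (fun _ => X.property) (fun _ _ _ W c hc hs h => AlgSpCov.of_family_of_isLocalAtSource W c hc hs h)
      (fun _ => AlgSpCov.locP_fppf hfl hfp) hs' fun _ => hfq
  · have := AlgSpCov.isLocalAtSource_fppf_locallyOfFiniteType.{u}
    exact AlgSpCov.locP_of_source (T := AlgSpCov.Fppf) Y.property (Xi := fun _ : PUnit.{u + 1} => X.obj)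
      (fun _ => X.property) (fun _ _ _ W c hc hs h => AlgSpCov.of_family_of_isLocalAtSource W c hc hs h)
      (fun _ => AlgSpCov.locP_fppf hfl hfp) hs' fun _ => hfq

end Groth.Agent.S10558
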