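import Groth.Statements.S10559
import Groth.Agent.AlgSpCov.SchemeSourceLocal
import Groth.Agent.AlgSpCov.EtaleMono
-- import your own Groth.Agent.* helpers here

set_option autoImplicit false
universe u
open CategoryTheory CategoryTheory.Limits AlgebraicGeometry
open AlgSp

set_option backward.isDefEq.respectTransparency false

open Groth.Agent

namespace Groth.Agent.S10559

/-- Let f : X ⟶ Y and q : Y ⟶ B be morphisms of algebraic spaces over S. If f is surjective and smooth
and f ≫ q is smooth, then q is smooth; if f is surjective and etale and f ≫ q is etale, then q is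
etale. (The syntomic case of the published statement is not included.) -/
theorem result {S : Scheme.{u}} {X Y B : AlgSp.Space S} (f : X ⟶ Y) (q : Y ⟶ B)
    (hs : AlgSp.IsSurjectiveMor f.hom) :
    (AlgSp.LocP @Smooth f.hom → AlgSp.LocP @Smooth (f ≫ q).hom → AlgSp.LocP @Smooth q.hom) ∧
    (AlgSp.IsEtaleMor f.hom → AlgSp.IsEtaleMor (f ≫ q).hom → AlgSp.IsEtaleMor q.hom) := by
  have hs' : ∀ x : AlgSp.Points Y.obj, ∃ _ : PUnit.{u + 1}, x ∈ Set.range (AlgSp.Points.map f.hom) :=
    fun x => ⟨⟨⟩, hs x⟩
  refine ⟨fun hf hfq => ?_, fun hf hfq => ?_⟩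
  · have := AlgSpCov.isLocalAtSource_smooth.{u}
    exact AlgSpCov.locP_of_source (T := @Smooth) Y.property (Xi := fun _ : PUnit.{u + 1} => X.obj)
      (fun _ => X.property) (fun _ _ _ W c hc hs h => AlgSpCov.of_family_of_isLocalAtSource W c hc hs h)
      (fun _ => hf) hs' fun _ => hfq
  · have := AlgSpCov.isLocalAtSource_etale.{u}
    exact (AlgSpCov.isEtaleMor_iff_locP_etale Y.property B.property).2
      (AlgSpCov.locP_of_source (T := @Etale) Y.property (Xi := fun _ : PUnit.{u + 1} => X.obj)
        (fun _ => X.property) (fun _ _ _ W c hc hs h => AlgSpCov.of_family_of_isLocalAtSource W c hc hs h)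
        (fun _ => AlgSpCov.locP_etale_of_isEtaleMor hf) hs' fun _ =>
          (AlgSpCov.locP_etale_of_isEtaleMor (f := (f ≫ q).hom) hfq))

end Groth.Agent.S10559
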