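import Groth.Statements.S10560
import Groth.Agent.AlgSpCov.FppfSource
-- import your own Groth.Agent.* helpers here

set_option autoImplicit false
universe u
open CategoryTheory CategoryTheory.Limits AlgebraicGeometry
open AlgSp

namespace Groth.Agent.S10560

/-- Let f : X ⟶ Y and q : Y ⟶ B be morphisms of algebraic spaces over S with f surjective, flat and
locally of finite presentation. If f ≫ q is smooth then q is smooth; if f ≫ q is etale then q is
etale. -/
theorem result {S : Scheme.{u}} {X Y B : AlgSp.Space S} (f : X ⟶ Y) (q : Y ⟶ B)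
    (hs : AlgSp.IsSurjectiveMor f.hom) (hfl : AlgSp.LocP @Flat f.hom)
    (hfp : AlgSp.LocP @LocallyOfFinitePresentation f.hom) :
    (AlgSp.LocP @Smooth (f ≫ q).hom → AlgSp.LocP @Smooth q.hom) ∧
    (AlgSp.IsEtaleMor (f ≫ q).hom → AlgSp.IsEtaleMor q.hom) := by
  have hs' : ∀ x : AlgSp.Points Y.obj, ∃ _ : PUnit.{u + 1}, x ∈ Set.range (AlgSp.Points.map f.hom) :=
    fun x => ⟨⟨⟩, hs x⟩
  refine ⟨fun hfq => ?_, fun hfq => ?_⟩
  · exact AlgSpCov.locP_of_source (T := AlgSpCov.Fppf) Y.property (Xi := fun _ : PUnit.{u + 1} => X.obj)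
      (fun _ => X.property) (fun _ _ _ W c hc hs h => AlgSpCov.smooth_of_family_fppf W c hc hs h)
      (fun _ => AlgSpCov.locP_fppf hfl hfp) hs' fun _ => hfq
  · exact (AlgSpCov.isEtaleMor_iff_locP_etale Y.property B.property).2
      (AlgSpCov.locP_of_source (T := AlgSpCov.Fppf) Y.property (Xi := fun _ : PUnit.{u + 1} => X.obj)
        (fun _ => X.property) (fun _ _ _ W c hc hs h => AlgSpCov.etale_of_family_fppf W c hc hs h)
        (fun _ => AlgSpCov.locP_fppf hfl hfp) hs' fun _ =>
          (AlgSpCov.locP_etale_of_isEtaleMor (f := (f ≫ q).hom) hfq))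

end Groth.Agent.S10560
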