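import Groth.Statements.S10571
import Groth.Agent.AlgSpCov.SigmaColimit
-- import your own Groth.Agent.* helpers here

set_option autoImplicit false
universe u
open CategoryTheory CategoryTheory.Limits AlgebraicGeometry
open AlgSp

set_option backward.isDefEq.respectTransparency false

open Groth.Agent

namespace Groth.Agent.S10571

/-- Suppose a property P of morphisms between algebraic spaces over S satisfies: (1) if finitely many
morphisms X_i ⟶ Y_i have P then so does the induced morphism ∐ X_i ⟶ ∐ Y_i, (2) f : X ⟶ Y has P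
exactly when, for each affine scheme Z and each h_Z ⟶ Y, the base change h_Z ×_Y X ⟶ h_Z has P, and
(3) for every surjective flat morphism of affine schemes Z' ⟶ Z over S and every f : X ⟶ h_Z, if the
base change h_{Z'} ×_{h_Z} X ⟶ h_{Z'} has P then f has P. Under these hypotheses, P is local on the
base for the fpqc topology. (The published statement asks (1) only for two morphisms; its proof
applies (1) to a disjoint union indexed by a finite set that may be empty, and with (1) for two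
morphisms only the property that holds for no morphism satisfies all three hypotheses without being
fpqc local on the base, as the empty covering of the empty algebraic space shows. This row asks (1)
for all finite families, the empty one included.) -/
theorem result {S : Scheme.{u}} (P : MorphismProperty (AlgSp.Sp S))
    (h1 : ∀ ⦃ι : Type u⦄ [Finite ι] (Xi Yi : ι → AlgSp.Sp S) (fi : ∀ i, Xi i ⟶ Yi i)
      (cX : Cofan Xi) (cY : Cofan Yi) (hcX : IsColimit cX) (hcY : IsColimit cY) (m : cX.pt ⟶ cY.pt),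
      (∀ i, AlgSp.IsAlgSpace (Xi i)) → (∀ i, AlgSp.IsAlgSpace (Yi i)) →
      AlgSp.IsAlgSpace cX.pt → AlgSp.IsAlgSpace cY.pt →
      (∀ i, cX.inj i ≫ m = fi i ≫ cY.inj i) → (∀ i, P (fi i)) → P m)
    (h2 : ∀ ⦃X Y : AlgSp.Sp S⦄, AlgSp.IsAlgSpace X → AlgSp.IsAlgSpace Y → ∀ (f : X ⟶ Y),
      P f ↔ ∀ (Z : Over S), IsAffine Z.left → ∀ (g : (AlgSp.yon S).obj Z ⟶ Y) (W : AlgSp.Sp S)
        (fst : W ⟶ X) (snd : W ⟶ (AlgSp.yon S).obj Z), AlgSp.IsAlgSpace W → IsPullback fst snd f g → P snd)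
    (h3 : ∀ ⦃Z Z' : Over S⦄ (c : Z' ⟶ Z), IsAffine Z.left → IsAffine Z'.left → Surjective c.left → Flat c.left →
      ∀ ⦃X X' : AlgSp.Sp S⦄ (f : X ⟶ (AlgSp.yon S).obj Z) (fst : X' ⟶ X) (f' : X' ⟶ (AlgSp.yon S).obj Z'),
        AlgSp.IsAlgSpace X → AlgSp.IsAlgSpace X' → IsPullback fst f' f ((AlgSp.yon S).map c) → P f' → P f) :
    AlgSp.IsLocalOnBase (AlgSp.IsFpqcCover (S := S)) P := by
  intro ι Y Yi g hY hYi hg X f hX Xi p q hXi sq
  refine ⟨fun hf i => (h2 (hXi i) (hYi i) (p i)).2 fun Z hZ z W fst snd hW sW =>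
    (h2 hX hY f).1 hf Z hZ (z ≫ g i) W (fst ≫ q i) snd hW (sW.paste_horiz (sq i)),
    fun hp => (h2 hX hY f).2 fun Z hZ z F fst snd hF sF => ?_⟩
  obtain ⟨n, Wc, c, hWc, hc, hs, hl⟩ := hg.2 Z hZ z
  let Wu : ULift.{u} (Fin n) → Over S := fun j => Wc j.down
  let Y₀ : ULift.{u} (Fin n) → Scheme.{u} := fun j => (Wu j).left
  let d : (∐ Y₀) ⟶ Z.left := Sigma.desc fun j => (c j.down).left
  have hd : ∀ j, Sigma.ι Y₀ j ≫ d = (c j.down).left := fun j => Sigma.ι_desc _ _
  let V : Over S := Over.mk (d ≫ Z.hom)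
  let cV : V ⟶ Z := Over.homMk d rfl
  let e : ∀ j, Wu j ⟶ V := fun j => Over.homMk (Sigma.ι Y₀ j) (by
    change Sigma.ι Y₀ j ≫ d ≫ Z.hom = _
    rw [reassoc_of% (hd j), Over.w])
  have hec : ∀ j, e j ≫ cV = c j.down := fun j => Over.OverMorphism.ext (hd j)
  have : ∀ j, IsAffine (Y₀ j) := fun j => hWc j.down
  have hV : IsAffine V.left := inferInstanceAs (IsAffine (∐ Y₀))
  have hsur : Surjective cV.left := ⟨fun x => by
    obtain ⟨j, r, rfl⟩ := hs x
    exact ⟨Sigma.ι Y₀ ⟨j⟩ r, by change d _ = _; rw [← Scheme.Hom.comp_apply, hd]⟩⟩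
  have hfl : Flat cV.left := IsZariskiLocalAtSource.sigmaDesc fun j => hc j.down
  have s2 := IsPullback.of_hasPullback snd ((AlgSp.yon S).map cV)
  have hFV := Groth.Agent.AlgSp.isAlgSpace_pullback (AlgSp.IsAlgSpace.yon_obj Z) hF
    (AlgSp.IsAlgSpace.yon_obj V) snd ((AlgSp.yon S).map cV)
  have hpc := fun k => IsPullback.of_hasPullback (pullback.snd snd ((AlgSp.yon S).map cV)) ((AlgSp.yon S).map (e k))
  have hpa := fun k => Groth.Agent.AlgSp.isAlgSpace_pullback (AlgSp.IsAlgSpace.yon_obj V) hFV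
    (AlgSp.IsAlgSpace.yon_obj (Wu k)) (pullback.snd snd ((AlgSp.yon S).map cV)) ((AlgSp.yon S).map (e k))
  have he : ∀ k, IsOpenImmersion (e k).left := fun k => (sigmaOpenCover Y₀).map_prop k
  have hcov : ∀ x : V.left, ∃ j, x ∈ Set.range (e j).left := fun x => ⟨_, (sigmaOpenCover Y₀).covers x⟩
  have hdisj : ∀ j k, j ≠ k → Disjoint (Set.range (e j).left) (Set.range (e k).left) :=
    fun j k h => AlgSpCov.disjoint_range_sigmaι Y₀ h
  obtain ⟨cX⟩ := AlgSpCov.exists_isColimit_of_sigma e he hcov hdisj _ _ _ _ hpc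
  obtain ⟨cY⟩ := AlgSpCov.exists_isColimit_of_sigma e he hcov hdisj (𝟙 ((AlgSp.yon S).obj V))
    (fun k => (AlgSp.yon S).obj (Wu k)) (fun k => (AlgSp.yon S).map (e k)) (fun k => 𝟙 _)
    (fun k => IsPullback.of_vert_isIso ⟨by simp⟩)
  refine h3 cV hZ hV hsur hfl snd _ _ hF hFV s2 (h1 _ _ _ _ _ cX cY _ hpa
    (fun k => AlgSp.IsAlgSpace.yon_obj _) hFV (AlgSp.IsAlgSpace.yon_obj V) (fun k => (hpc k).w) fun k => ?_)
  obtain ⟨i, l, hli⟩ := hl k.down
  have big := (hpc k).paste_horiz (s2.paste_horiz sF)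
  rw [← Category.assoc ((AlgSp.yon S).map (e k)), ← Functor.map_comp, hec, ← hli] at big
  obtain ⟨r, hr₁, hr₂⟩ := (sq i).exists_lift _ _ (big.w.trans (Category.assoc _ _ _).symm)
  exact (h2 (hXi i) (hYi i) (p i)).1 (hp i) (Wu k) (hWc k.down) l _ r _ (hpa k)
    (IsPullback.of_right (by rw [hr₁]; exact big) hr₂ (sq i))

end Groth.Agent.S10571
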