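import Groth.Statements.S10573
import Groth.Agent.AlgSpCov.FpqcTop
import Groth.Agent.AlgSp.PointsMor
import Groth.Agent.AlgSpB.Points
-- import your own Groth.Agent.* helpers here

set_option autoImplicit false
set_option backward.isDefEq.respectTransparency.types false
universe u
open CategoryTheory CategoryTheory.Limits AlgebraicGeometry
open AlgSp

namespace Groth.Agent.S10573

/-- Let {g_i : T_i ⟶ T} be a family of algebraic spaces over S forming an fpqc covering, and let W_i ⊂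
|T_i| be open subsets (open subspaces) such that for all i, j the two projections T_i ×_T T_j ⟶ T_i,
T_j pull W_i and W_j back to the same subset of |T_i ×_T T_j|. Then there is a unique open subset W
⊂ |T| with g_i⁻¹(W) = W_i for every i. -/
theorem result {S : Scheme.{u}} {ι : Type u} {T : AlgSp.Space S}
    (Ti : ι → AlgSp.Space S) (g : ∀ i, Ti i ⟶ T)
    (hg : AlgSp.IsFpqcCover (fun i => (Ti i).obj) (fun i => (g i).hom))
    (Wi : ∀ i, Set (AlgSp.Points (Ti i).obj)) (hW : ∀ i, IsOpen (Wi i))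
    (hc : ∀ i j, AlgSp.Points.map (pullback.fst (g i).hom (g j).hom) ⁻¹' Wi i =
      AlgSp.Points.map (pullback.snd (g i).hom (g j).hom) ⁻¹' Wi j) :
    ∃! W : TopologicalSpace.Opens (AlgSp.Points T.obj), ∀ i, AlgSp.Points.map (g i).hom ⁻¹' (W : Set (AlgSp.Points T.obj)) = Wi i := by
  have hsurj : ∀ x : AlgSp.Points T.obj, ∃ i, x ∈ Set.range (AlgSp.Points.map (g i).hom) := fun x => by
    obtain ⟨Z, t, y, hZ, -, rfl⟩ := AlgSpCov.exists_affine_point x
    obtain ⟨n, W, c, -, -, hs, hl⟩ := hg.2 Z hZ t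
    obtain ⟨j, y', rfl⟩ := AlgSpCov.exists_preimage_of_family hs y
    obtain ⟨i, l, hli⟩ := hl j
    exact ⟨i, AlgSp.Points.map l y', by rw [← AlgSp.Points.map_comp, hli, AlgSp.Points.map_comp]⟩
  let W₀ : Set (AlgSp.Points T.obj) := ⋃ i, AlgSp.Points.map (g i).hom '' Wi i
  have hpre : ∀ i, AlgSp.Points.map (g i).hom ⁻¹' W₀ = Wi i := fun i => by
    ext x
    refine ⟨fun hx => ?_, fun hx => Set.mem_iUnion.2 ⟨i, x, hx, rfl⟩⟩
    obtain ⟨j, y, hy, hyx⟩ := Set.mem_iUnion.1 hx
    obtain ⟨q, hq₁, hq₂⟩ := AlgSpB.exists_of_isPullback (IsPullback.of_hasPullback (g j).hom (g i).hom) y x hyx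
    have hq := (Set.ext_iff.1 (hc j i) q).1 (show AlgSp.Points.map (pullback.fst (g j).hom (g i).hom) q ∈ Wi j by rw [hq₁]; exact hy)
    rw [Set.mem_preimage, hq₂] at hq
    exact hq
  have hopen : IsOpen W₀ := AlgSp.isOpen_iff_affine.2 fun Z hZ t => by
    obtain ⟨n, W, c, hW', hc', hs, hl⟩ := hg.2 Z hZ t
    have := hW'
    have := hc'
    refine AlgSpCov.isOpen_of_family (fun j => (W j).left) (fun j => (c j).left) hs fun j => ?_
    obtain ⟨i, l, hli⟩ := hl j
    have h : (c j).left ⁻¹' (AlgSp.Points.ofPt t ⁻¹' W₀) = AlgSp.Points.ofPt l ⁻¹' Wi i := by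
      ext w
      have e : AlgSp.Points.ofPt t ((c j).left w) = AlgSp.Points.map (g i).hom (AlgSp.Points.ofPt l w) := by
        rw [← AlgSpB.ofPt_map_comp, ← hli, AlgSp.Points.map_ofPt]
      rw [Set.mem_preimage, Set.mem_preimage, e, ← Set.mem_preimage, hpre]
      rfl
    rw [h]
    exact (hW i).preimage (AlgSp.Points.continuous_ofPt l)
  refine ⟨⟨W₀, hopen⟩, hpre, fun W' hW' => TopologicalSpace.Opens.ext (Set.ext fun x => ?_)⟩
  obtain ⟨i, y, rfl⟩ := hsurj x
  exact Set.ext_iff.1 ((hW' i).trans (hpre i).symm) y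

end Groth.Agent.S10573
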