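import Groth.Statements.S10579
import Groth.Agent.AlgSpD.HasAt
import Groth.Agent.AlgSp.PointsMor
import Groth.Prelude.Def_AlgSpMor5
import Groth.Agent.GUFlat.Basic

set_option autoImplicit false
set_option backward.isDefEq.respectTransparency false
set_option backward.isDefEq.respectTransparency.types false
universe u
open CategoryTheory CategoryTheory.Limits AlgebraicGeometry
open AlgSp
open Groth.Agent

namespace Groth.Agent.S10579

/-- Let f : X ⟶ Y be a morphism of algebraic spaces over S and x ∈ |X|. If X is geometrically unibranch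
at x and f is flat at x, then Y is geometrically unibranch at the image point f(x). Here an
algebraic space is geometrically unibranch at a point when for every etale chart from a scheme U and
every point u of U over it the local ring of U at u is geometrically unibranch. -/
theorem result {S : Scheme.{u}} {X Y : AlgSp.Space S} (f : X ⟶ Y) (x : AlgSp.Points X.obj)
    (hf : AlgSp.IsFlatAtMor f.hom x)
    (hX : ∀ (U : Over S) (a : (AlgSp.yon S).obj U ⟶ X.obj) (v : ↥U.left), AlgSp.RepWith @Etale a →
      AlgSp.Points.ofPt a v = x → CAlg2.IsGeomUnibranch ↥(U.left.presheaf.stalk v))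
    (V : Over S) (b : (AlgSp.yon S).obj V ⟶ Y.obj) (w : ↥V.left) (hb : AlgSp.RepWith @Etale b)
    (hw : AlgSp.Points.ofPt b w = AlgSp.Points.map f.hom x) :
    CAlg2.IsGeomUnibranch ↥(V.left.presheaf.stalk w) := by
  obtain ⟨U, a, u, ha, rfl⟩ := AlgSpD.exists_chart X x
  obtain ⟨R, p, h, r, hpa, -, hc, rfl, rfl⟩ := AlgSpD.exists_diagram_over f ha u hb hw
  have e : Points.ofPt ((yon S).map p ≫ a) r = Points.ofPt a (p.left r) := AlgSpB.ofPt_map_comp ..
  letI := (Scheme.Hom.stalkMap h.left r).hom.toAlgebra
  haveI : Module.Flat ↥(V.left.presheaf.stalk (h.left r)) ↥(R.left.presheaf.stalk r) :=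
    hf ((yon S).map p ≫ a) b h r hpa hb hc e
  haveI : IsLocalHom (algebraMap ↥(V.left.presheaf.stalk (h.left r)) ↥(R.left.presheaf.stalk r)) :=
    inferInstanceAs (IsLocalHom (Scheme.Hom.stalkMap h.left r).hom)
  exact GUFlat.isGeomUnibranch_of_flat (hX R _ r hpa e)

end Groth.Agent.S10579
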