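import Groth.Statements.S1058
import Groth.Agent.CohBase.FlatBC.DBaseChange

set_option autoImplicit false
universe u
open CategoryTheory CategoryTheory.Limits AlgebraicGeometry Opposite
attribute [local instance] HasDerivedCategory.standard
open Perf

namespace Groth.Agent.S1058

open CategoryTheory CategoryTheory.Limits in
lemma transpose_eq {C₀ C₁ CX C' : Type*} [Category C₀] [Category C₁] [Category CX] [Category C']
    {G : C₀ ⥤ C₁} {Rg : C₁ ⥤ C₀} {Q' : C₁ ⥤ C'} {Rq : C' ⥤ C₁} {F : C₀ ⥤ CX} {Rf : CX ⥤ C₀} {P : CX ⥤ C'}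
    {Rp : C' ⥤ CX} (ag : G ⊣ Rg) (aq : Q' ⊣ Rq) (af : F ⊣ Rf) (ap : P ⊣ Rp) (c : G ⋙ Q' ≅ F ⋙ P) (E : CX) :
    (ag.homEquiv _ _).symm (Rf.map (ap.unit.app E) ≫
        (conjugateIsoEquiv (af.comp ap) (ag.comp aq) c).hom.app (P.obj E)) =
      aq.homEquiv _ _ (c.hom.app (Rf.obj E) ≫ P.map (af.counit.app E)) := by
  rw [Equiv.symm_apply_eq, ag.homEquiv_unit, aq.homEquiv_unit]
  simp only [conjugateIsoEquiv_apply_hom, conjugateEquiv_apply_app, Adjunction.comp_unit_app,
    Adjunction.comp_counit_app, Functor.comp_map, Functor.comp_obj, Category.assoc]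
  simp only [← Functor.map_comp]
  simp only [Functor.map_comp, Category.assoc, Functor.id_obj]
  rw [← ag.unit_naturality_assoc]
  congr 1
  simp only [← Functor.map_comp]
  congr 1
  rw [← Category.assoc, ← Category.assoc, ← aq.unit_naturality]
  simp only [Category.assoc, ← Functor.map_comp]
  congr 1
  congr 1
  have h := c.hom.naturality (Rf.map (ap.unit.app E))
  simp only [Functor.comp_map] at h
  rw [reassoc_of% h]
  congr 1
  simp only [← Functor.map_comp_assoc]
  rw [af.counit_naturality, Functor.map_comp, Category.assoc, ap.left_triangle_components, Category.comp_id]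


/-- Flat base change for derived direct images: let f : X ⟶ S be quasi-compact and quasi-separated, g :
S' ⟶ S flat, and X' = X ×_S S' with projections g' : X' ⟶ X and f' : X' ⟶ S'. Assume the derived
functors Rf_*, Rg_*, Lg^*, Rf'_*, R(g')_* and L(g')^* exist, with adjunctions Lg^* ⊣ Rg_* and
L(g')^* ⊣ R(g')_* given as data. Then there is an identification e of the composite derived direct
image R(g')_* followed by Rf_* with Rf'_* followed by Rg_* such that, for every object E of D(O_X)
with quasi-coherent cohomology sheaves, the base-change morphism Lg^* Rf_* E ⟶ Rf'_* L(g')^* E built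
from the two adjunctions and e is an isomorphism. The published statement assumes only that X and S'
are Tor independent over S; it is stated here for g flat, in which case Tor independence holds. -/
theorem result {X S S' : Scheme.{u}} (f : X ⟶ S) [QuasiCompact f] [QuasiSeparated f] (g : S' ⟶ S) [Flat g]
    [DCoh.HasRpush f] [DCoh.HasRpush g] [DCoh.HasLpull g] [DCoh.HasRpush (pullback.snd f g)]
    [DCoh.HasRpush (pullback.fst f g)] [DCoh.HasLpull (pullback.fst f g)]
    (adjg : DCoh.Lpull g ⊣ DCoh.Rpush g) (adjg' : DCoh.Lpull (pullback.fst f g) ⊣ DCoh.Rpush (pullback.fst f g)) :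
    ∃ e : DCoh.Rpush (pullback.fst f g) ⋙ DCoh.Rpush f ≅ DCoh.Rpush (pullback.snd f g) ⋙ DCoh.Rpush g,
      ∀ E : DCoh.D X, DCoh.IsQCohD E → IsIso (DCoh.baseChangeApp adjg adjg' e E) := by
  haveI : QuasiCompact (pullback.snd f g) := inferInstance
  haveI : Flat (pullback.fst f g) := inferInstance
  haveI := Groth.Agent.KFlat.Pull.hasLpull f
  haveI := Groth.Agent.KFlat.Pull.hasLpull (pullback.snd f g)
  haveI := Groth.Agent.KFlat.Pull.hasLpull (pullback.fst f g ≫ f)
  let adjf := Groth.Agent.KFlat.DerivedAdj.adj f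
  let adjq := Groth.Agent.KFlat.DerivedAdj.adj (pullback.snd f g)
  have e₁ : pullback.snd f g ≫ g = pullback.fst f g ≫ f := pullback.condition.symm
  let c := Groth.Agent.CohBase.FlatBC.D.squareIso f g (pullback.fst f g) (pullback.snd f g)
    (pullback.fst f g ≫ f) e₁ rfl
  refine ⟨conjugateIsoEquiv (adjf.comp adjg') (adjg.comp adjq) c, fun E hE => ?_⟩
  rw [DCoh.baseChangeApp]
  refine (congrArg (fun φ => IsIso φ) (transpose_eq adjg adjq adjf adjg' c E)).mpr ?_
  exact Groth.Agent.CohBase.FlatBC.D.isIso_bc (IsPullback.of_hasPullback f g) (pullback.fst f g ≫ f) e₁ rfl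
    adjf E adjq hE

end Groth.Agent.S1058
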