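import Groth.Statements.S10580
import Groth.Agent.AlgSpCov.SchemeSourceLocal

set_option autoImplicit false
set_option backward.isDefEq.respectTransparency false
universe u
open CategoryTheory CategoryTheory.Limits AlgebraicGeometry
open AlgSp Groth.Agent

namespace Groth.Agent.S10580

/-- Let P be a property of morphisms of schemes and P_spaces the induced property of morphisms of
algebraic spaces over S (P on every etale chart diagram). For τ one of fpqc, fppf, smooth, etale: if
P is τ local on the source for morphisms of schemes, then P_spaces is τ local on the source for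
morphisms of algebraic spaces. (The published statement assumes P etale local on the
source-and-target, which is what makes the chart-wise property the right notion; the implication
itself holds for every P and is stated that way. The syntomic case is not included. τ-locality on
the source for schemes is taken in the form that includes invariance of P under isomorphisms, which
the published definition requires implicitly.) -/
theorem result (S : Scheme.{u}) (P : MorphismProperty Scheme.{u}) :
    (P.IsLocalAtSource Scheme.fpqcPrecoverage → AlgSp.IsLocalOnSource (AlgSp.IsFpqcCover (S := S)) (AlgSp.LocP P)) ∧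
    (P.IsLocalAtSource Scheme.fppfPrecoverage → AlgSp.IsLocalOnSource (AlgSp.IsFppfCover (S := S)) (AlgSp.LocP P)) ∧
    (P.IsLocalAtSource (Scheme.precoverage @Smooth) → AlgSp.IsLocalOnSource (AlgSp.IsSmCover (S := S)) (AlgSp.LocP P)) ∧
    (P.IsLocalAtSource Scheme.etalePrecoverage → AlgSp.IsLocalOnSource (AlgSp.IsEtCover (S := S)) (AlgSp.LocP P)) := by
  have : MorphismProperty.ContainsIdentities (@Smooth : MorphismProperty Scheme.{u}) :=
    ⟨fun X => (inferInstance : Smooth (𝟙 X))⟩
  have : MorphismProperty.ContainsIdentities (@Flat ⊓ @LocallyOfFinitePresentation : MorphismProperty Scheme.{u}) :=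
    ⟨fun X => ⟨(inferInstance : Flat (𝟙 X)), (inferInstance : LocallyOfFinitePresentation (𝟙 X))⟩⟩
  refine ⟨fun h => ?_, fun h => ?_, fun h => ?_, fun h => ?_⟩
  · exact AlgSpCov.isLocalOnSource_locP_fpqc
  · have : P.IsLocalAtSource (Scheme.precoverage (@Flat ⊓ @LocallyOfFinitePresentation)) := h
    refine AlgSpCov.isLocalOnSource_locP (T := @Flat ⊓ @LocallyOfFinitePresentation)
      (fun _ _ e _ => ⟨inferInstance, inferInstance⟩) _ fun _ _ _ _ _ _ hc =>
      ⟨fun i U V a b k ha hb w => ⟨(hc.1 i).1 a b k ha hb w, (hc.1 i).2 a b k ha hb w⟩, hc.2⟩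
  · exact AlgSpCov.isLocalOnSource_locP (T := @Smooth) (fun _ _ e _ => inferInstance) _
      fun _ _ _ _ _ _ hc => ⟨hc.1, hc.2⟩
  · have : P.IsLocalAtSource (Scheme.precoverage @Etale) := h
    exact AlgSpCov.isLocalOnSource_locP (T := @Etale) (fun _ _ _ he => he) _
      fun _ _ _ _ _ _ hc => ⟨fun i => AlgSpCov.locP_etale_of_isEtaleMor (hc.1 i), hc.2⟩

end Groth.Agent.S10580
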