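import Groth.Statements.S10581
import Groth.Agent.FlatMono.Rep

set_option autoImplicit false
set_option backward.isDefEq.respectTransparency false
universe u
open CategoryTheory CategoryTheory.Limits AlgebraicGeometry
open AlgSp
open Groth.Agent

namespace Groth.Agent.S10581

/-- If a morphism of algebraic spaces is both flat and a monomorphism, then it is representable by
schemes. Flatness is the etale-local condition on charts; the monomorphism condition is taken in
fppf sheaves. -/
theorem result {S : Scheme.{u}} {X Y : AlgSp.Space S} (f : X ⟶ Y)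
    (hflat : AlgSp.LocP @Flat f.hom) [Mono f.hom] : AlgSp.Representable f.hom := by
  intro V g
  have hP : IsAlgSpace (pullback f.hom g) :=
    Groth.Agent.AlgSp.isAlgSpace_pullback Y.property X.property (IsAlgSpace.yon_obj V) f.hom g
  have hl : LocP @Flat (pullback.snd f.hom g) :=
    AlgSpCov.locP_baseChange AlgSpCov.etaleLocal_flat X.property Y.property (IsPullback.of_hasPullback f.hom g) hflat
  obtain ⟨W, ⟨e⟩⟩ := AlgSpB.exists_iso_of_isRepresentable
    (FlatMono.isRepresentable_of_flat_mono_to_scheme ⟨_, hP⟩ (pullback.snd f.hom g) hl)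
  obtain ⟨snd, hsnd⟩ := (yon S).map_surjective (e.hom ≫ pullback.snd f.hom g)
  exact ⟨W, snd, e.hom ≫ pullback.fst f.hom g,
    (IsPullback.of_hasPullback f.hom g).of_iso e.symm (Iso.refl _) (Iso.refl _) (Iso.refl _)
      (by simp) (by simp [hsnd]) (by simp) (by simp)⟩

end Groth.Agent.S10581
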