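import Groth.Statements.S10582
import Groth.Agent.AlgSpCov.FpqcDiag
import Groth.Agent.AlgSp.QCMor
import Groth.Agent.AlgSp.Space
-- import your own Groth.Agent.* helpers here

set_option autoImplicit false
universe u
open CategoryTheory CategoryTheory.Limits AlgebraicGeometry
open AlgSp

set_option backward.isDefEq.respectTransparency false

open Groth.Agent

namespace Groth.Agent.S10582

/-- A monomorphism of algebraic spaces that is quasi-compact, flat and surjective is an isomorphism. -/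
theorem result {S : Scheme.{u}} {X Y : AlgSp.Space S} (f : X ⟶ Y)
    (hqc : AlgSp.IsQuasiCompactMor f.hom) (hflat : AlgSp.LocP @Flat f.hom) (hsurj : AlgSp.IsSurjectiveMor f.hom)
    [Mono f.hom] : IsIso f.hom := by
  have hX := X.property
  have hY := Y.property
  have hcov : AlgSp.IsFpqcCover (fun _ : PUnit.{u + 1} => X.obj) (fun _ => f.hom) := by
    refine ⟨fun _ => hflat, fun Z hZ h => ?_⟩
    have sq := IsPullback.of_hasPullback f.hom h
    have hP := Groth.Agent.AlgSp.isAlgSpace_pullback hY hX (AlgSp.IsAlgSpace.yon_obj Z) f.hom h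
    obtain ⟨U, p, hpe, hps⟩ := hP.atlas
    have : CompactSpace (AlgSp.Points (pullback f.hom h)) := Groth.Agent.AlgSp.compactSpace_points
      (hqc (AlgSp.IsAlgSpace.yon_obj Z) (Groth.Agent.AlgSp.isQuasiCompactSp_yon Z) h _ _ sq)
    obtain ⟨V, j, hV, he, hs⟩ := AlgSpB.exists_affine_chart_of_compactSpace hpe hps
    obtain ⟨c, hc⟩ := (AlgSp.yon S).map_surjective (((AlgSp.yon S).map j ≫ p) ≫ pullback.snd f.hom h)
    refine ⟨1, fun _ => V, fun _ => c, fun _ => hV, fun _ => AlgSpCov.chart_of_locP AlgSpCov.etaleLocal_flat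
      hX hY hflat h sq he c hc.symm, fun z => ⟨0, ?_⟩,
      fun _ => ⟨⟨⟩, ((AlgSp.yon S).map j ≫ p) ≫ pullback.fst f.hom h, by rw [Category.assoc, sq.w, ← Category.assoc, ← hc]⟩⟩
    obtain ⟨x, hx⟩ := hsurj (AlgSp.Points.ofPt h z)
    obtain ⟨w, -, hw⟩ := AlgSpB.exists_of_isPullback sq x (AlgSp.Points.ofScheme Z z)
      (hx.trans (AlgSp.Points.ofPt_eq_map_ofScheme h z))
    obtain ⟨v, hv⟩ := AlgSpB.surjective_ofPt hs w
    refine ⟨v, (AlgSp.Points.schemeHomeo Z).injective ?_⟩
    change _ = AlgSp.Points.ofScheme Z z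
    rw [← hw, ← hv, AlgSp.Points.map_ofPt, ← hc]
    exact ((AlgSp.Points.ofPt_eq_map_ofScheme ((AlgSp.yon S).map c) v).trans (AlgSp.Points.map_yon_map_apply c v)).symm
  exact AlgSpCov.isIso_of_fpqc (p := fun _ => 𝟙 X.obj) (q := fun _ => 𝟙 X.obj) hY (fun _ => hX) hcov hX
    (fun _ => hX) (fun _ => IsKernelPair.id_of_mono f.hom) fun _ => inferInstance

end Groth.Agent.S10582
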