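import Groth.Statements.S10585
import Groth.Agent.S10046
import Groth.Agent.AlgSpB.Chev.Main
import Groth.Agent.AlgSpCov.HomeoEt.Equiv

set_option autoImplicit false
set_option backward.isDefEq.respectTransparency false
set_option backward.isDefEq.respectTransparency.types false

universe u
open CategoryTheory CategoryTheory.Limits AlgebraicGeometry
open AlgSp

namespace Groth.Agent.S10585

/-- Take a representable morphism f : X ⟶ Y of algebraic spaces over S that is integral, universally
injective and surjective. Then the base change functor from the small etale site of Y (schemes etale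
over Y) to the small etale site of X is an equivalence of categories, and a scheme etale over Y is
affine if and only if its base change to X is affine. (An integral morphism is representable; the
representability hypothesis is carried to name the base change functor.) -/
theorem result {S : Scheme.{u}} {X Y : AlgSp.Space S}
    (f : X ⟶ Y) (hf : AlgSp.Representable f.hom) (h1 : AlgSp.IsIntegralMor f.hom)
    (h2 : AlgSp.IsUnivInjectiveMor f.hom) (h3 : AlgSp.IsSurjectiveMor f.hom) :
    (AlgSp.EtOver.bc hf).IsEquivalence ∧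
    ∀ E : AlgSp.EtOver Y.obj, IsAffine E.obj.left.left ↔ IsAffine ((AlgSp.EtOver.bc hf).obj E).obj.left.left := by
  have hu : Groth.Agent.AlgSpCov.HomeoEt.IntUH f.hom :=
    ⟨(Groth.Agent.AlgSpCov.isIntegralMor_iff f.hom).1 h1, h2, h3⟩
  have hfi : AlgSp.RepWith @IsIntegralHom f.hom := (Groth.Agent.AlgSpCov.isIntegralMor_iff f.hom).1 h1
  have hfs : AlgSp.RepWith @Surjective f.hom := (Groth.Agent.AlgSp.repWith_surjective_iff f.hom hf).2 h3
  refine ⟨Groth.Agent.AlgSpCov.HomeoEt.bc_isEquivalence hu hf fun T V' a b c sq => ?_, fun E => ?_⟩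
  · let Ts : AlgSp.Space S := ⟨(AlgSp.yon S).obj T, AlgSp.IsAlgSpace.yon_obj T⟩
    exact Groth.Agent.AlgSpB.exists_iso_of_isRepresentable ((Groth.Agent.S10046.result S (X := Ts) (Y := V')
      (ObjectProperty.homMk c) ((Groth.Agent.AlgSpCov.isIntegralMor_iff c).2 (MorphismProperty.of_isPullback sq hfi))
      ⟨hu.injective V'.property sq, hu.surjective sq⟩).1 (Groth.Agent.AlgSpB.isRepresentable_of_iso (Iso.refl _)))
  · have sq := AlgSp.EtOver.isPullback_bcObj hf E
    have hπ : AlgSp.RepWith @IsIntegralHom ((AlgSp.yon S).map (AlgSp.EtOver.bcπ hf E)) :=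
      MorphismProperty.of_isPullback sq hfi
    have hi : IsIntegralHom (AlgSp.EtOver.bcπ hf E).left := (AlgSp.repWith_yon_map_iff _ _).1 hπ
    refine ⟨fun hE => isAffine_of_isAffineHom (AlgSp.EtOver.bcπ hf E).left, fun hE => ?_⟩
    have : IsAffine (AlgSp.EtOver.bcObj hf E).obj.left.left := hE
    obtain ⟨T', hT', ⟨e⟩⟩ := Groth.Agent.AlgSpB.Chev.exists_affine_of_integral'
      (⟨(AlgSp.yon S).obj E.obj.left, AlgSp.IsAlgSpace.yon_obj _⟩ : AlgSp.Space S)
      ((AlgSp.yon S).map (AlgSp.EtOver.bcπ hf E)) hπ (MorphismProperty.of_isPullback sq hfs)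
    have : IsAffine ((Over.forget S).obj T') := hT'
    exact IsAffine.of_isIso ((Over.forget S).mapIso ((AlgSp.yon S).preimageIso e)).inv

end Groth.Agent.S10585
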