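import Groth.Statements.S10586
import Groth.Agent.AlgSpCov.HomeoEt.Equiv
import Groth.Agent.AlgSpCov.ThickRep.Basic
-- import your own Groth.Agent.* helpers here

set_option autoImplicit false
universe u
open CategoryTheory CategoryTheory.Limits AlgebraicGeometry
open AlgSp

set_option backward.isDefEq.respectTransparency false

namespace Groth.Agent.S10586

open Groth.Agent

/-- Let i : X ⟶ X' be a thickening of algebraic spaces over S (representable, every base change to a
scheme a surjective closed immersion). Then base change along i is an equivalence from the small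
etale site of X' (schemes etale over X') to the small etale site of X. -/
theorem result {S : Scheme.{u}} {X X' : AlgSp.Space S} (i : X ⟶ X')
    (hi : AlgSp.IsThickMor i.hom) :
    (AlgSp.EtOver.bc hi.1).IsEquivalence := by
  have hc := AlgSpCov.ThickTopo.repWith_closed_of_thick hi
  have hu : AlgSp.RepWith @UniversallyInjective i.hom :=
    ⟨hi.1, fun _ _ g fst snd sq => have : IsClosedImmersion snd.left := (hi.2 g fst snd sq).1
      (inferInstance : UniversallyInjective snd.left)⟩
  have hf : AlgSpCov.HomeoEt.IntUH i.hom :=
    ⟨Groth.Agent.AlgSp.repWith_mono (Q := @IsIntegralHom) (fun g (hg : IsClosedImmersion g) => inferInstance) hc,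
      (Groth.Agent.AlgSp.univInjective_tfae X.property i.hom).1.1 ((Groth.Agent.AlgSp.repWith_universallyInjective_iff X.property i.hom hi.1).1 hu),
      (AlgSpCov.ThickTopo.isHomeomorph_map X.property X'.property hi).bijective.surjective⟩
  refine AlgSpCov.HomeoEt.bc_isEquivalence hf hi.1 fun T V' a b c sq => ?_
  exact AlgSpB.IdealApprox.exists_iso_yon_of_thick (X := ⟨_, AlgSp.IsAlgSpace.yon_obj T⟩) (X' := V')
    (ObjectProperty.homMk c) (MorphismProperty.of_isPullback (P := AlgSp.RepWith AlgSp.thick) sq hi) (Iso.refl _)

end Groth.Agent.S10586
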