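import Groth.Statements.S10591
import Groth.Agent.AlgSpCov.ThickDim
-- import your own Groth.Agent.* helpers here

set_option backward.isDefEq.respectTransparency.types false
set_option autoImplicit false
universe u
open CategoryTheory CategoryTheory.Limits AlgebraicGeometry
open AlgSp

namespace Groth.Agent.S10591

open Groth.Agent.AlgSpCov.ThickCharts

/-- Consider a morphism (f, f') from the thickening X ⊂ X' to the thickening Y ⊂ Y' of algebraic spaces
over S, meaning: i : X ⟶ X' and j : Y ⟶ Y' are thickenings (representable, every base change to a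
scheme a surjective closed immersion) and i ≫ f' = f ≫ j. Assume moreover that the square is
cartesian (X = Y ×_{Y'} X') and that i is a finite order thickening (for one n, on every affine
etale scheme chart of X' the (n+1)-st power of the ideal of the base change of X vanishes). Then f
is locally of finite type of relative dimension d, resp. locally of finite type, resp. locally
quasi-finite, resp. unramified, if and only if f' is (relative dimension d at a point: some chart
diagram through the point has fibre of local dimension d there) (all in the etale-local sense,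
locally quasi-finite and unramified including locally of finite type). -/
theorem result {S : Scheme.{u}} {X X' Y Y' : AlgSp.Space S} (i : X ⟶ X') (j : Y ⟶ Y')
    (f : X ⟶ Y) (f' : X' ⟶ Y')
    (hi : AlgSp.IsThickMor i.hom)
    (hj : AlgSp.IsThickMor j.hom) (w : i ≫ f' = f ≫ j)
    (hcart : IsPullback i.hom f.hom f'.hom j.hom)
    (hfo : AlgSp.IsFinThickMor i.hom) (d : ℕ) :
    ((AlgSp.LocP @LocallyOfFiniteType f.hom ∧
        ∀ x, AlgSp.HasAtMor (fun _ _ h u => FlatMor.fibreDimAt h u = (d : WithBot ℕ∞)) f.hom x) ↔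
      (AlgSp.LocP @LocallyOfFiniteType f'.hom ∧
        ∀ x', AlgSp.HasAtMor (fun _ _ h u => FlatMor.fibreDimAt h u = (d : WithBot ℕ∞)) f'.hom x')) ∧
    (AlgSp.LocP @LocallyOfFiniteType f.hom ↔ AlgSp.LocP @LocallyOfFiniteType f'.hom) ∧
    (AlgSp.LocP (@LocallyQuasiFinite ⊓ @LocallyOfFiniteType) f.hom ↔
      AlgSp.LocP (@LocallyQuasiFinite ⊓ @LocallyOfFiniteType) f'.hom) ∧
    (AlgSp.LocP (@LocallyOfFiniteType ⊓ @FormallyUnramified) f.hom ↔
      AlgSp.LocP (@LocallyOfFiniteType ⊓ @FormallyUnramified) f'.hom) := by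
  have hbc : ∀ {P : MorphismProperty Scheme.{u}} [P.IsStableUnderBaseChange],
      Groth.Agent.AlgSpCov.EtaleLocal P → AlgSp.LocP P f'.hom → AlgSp.LocP P f.hom := fun hP h =>
    Groth.Agent.AlgSpCov.locP_baseChange hP X'.property Y'.property hcart h
  have hlft : AlgSp.LocP @LocallyOfFiniteType f.hom → AlgSp.LocP @LocallyOfFiniteType f'.hom :=
    locP_of_cart hj hcart fun U U' V V' a a' iU b b' iV g g' ha ha' hb hb' w w' sqU hc hs sq hg =>
      have := hc; have := hg
      locallyOfFiniteType_of_nilpotent_top (nilpotent_of_finThick hfo ha' sqU) sq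
  refine ⟨⟨fun ⟨h₁, h₂⟩ => ?_, fun ⟨h₁, h₂⟩ => ?_⟩,
    ⟨hlft, hbc Groth.Agent.AlgSpCov.etaleLocal_locallyOfFiniteType⟩,
    ⟨locP_of_cart hj hcart ?_, hbc (Groth.Agent.AlgSpCov.etaleLocal_locallyQuasiFinite.inf
      Groth.Agent.AlgSpCov.etaleLocal_locallyOfFiniteType)⟩,
    ⟨locP_of_cart hj hcart ?_, hbc (Groth.Agent.AlgSpCov.etaleLocal_locallyOfFiniteType.inf
      Groth.Agent.AlgSpCov.etaleLocal_formallyUnramified)⟩⟩
  · exact ⟨hlft h₁, (forall_fibreDimAt_iff hi hj hcart (hlft h₁) _).1 h₂⟩
  · exact ⟨hbc Groth.Agent.AlgSpCov.etaleLocal_locallyOfFiniteType h₁,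
      (forall_fibreDimAt_iff hi hj hcart h₁ _).2 h₂⟩
  · intro U U' V V' a a' iU b b' iV g g' ha ha' hb hb' w w' sqU hc hs sq hg
    obtain ⟨hq, hl⟩ := hg
    have hl' : LocallyOfFiniteType g'.left :=
      locallyOfFiniteType_of_nilpotent_top (nilpotent_of_finThick hfo ha' sqU) sq
    have : IsClosedImmersion iU.left := (hi.2 a' a iU sqU).1
    have : Surjective iU.left := (hi.2 a' a iU sqU).2
    exact ⟨(Groth.Agent.Thick.Topo.locallyQuasiFinite_iff iU.left iV.left g.left g'.left sq.w).1 hq, hl'⟩
  · intro U U' V V' a a' iU b b' iV g g' ha ha' hb hb' w w' sqU hc hs sq hg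
    obtain ⟨hl, hu⟩ := hg
    exact ⟨locallyOfFiniteType_of_nilpotent_top (nilpotent_of_finThick hfo ha' sqU) sq,
      formallyUnramified_of_nilpotent_top' (nilpotent_of_finThick hfo ha' sqU) sq⟩

end Groth.Agent.S10591
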