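import Groth.Statements.S10593
import Groth.Agent.AlgSpCov.ThickDim
-- import your own Groth.Agent.* helpers here

set_option backward.isDefEq.respectTransparency.types false
set_option autoImplicit false
universe u
open CategoryTheory CategoryTheory.Limits AlgebraicGeometry
open AlgSp

namespace Groth.Agent.S10593

open Groth.Agent.AlgSpCov.ThickCharts

/-- Consider a morphism (f, f') from the thickening X ⊂ X' to the thickening Y ⊂ Y' of algebraic spaces
over S, meaning: i : X ⟶ X' and j : Y ⟶ Y' are thickenings (representable, every base change to a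
scheme a surjective closed immersion) and i ≫ f' = f ≫ j. Assume moreover that the square is
cartesian (X = Y ×_{Y'} X') and that f and f' are locally of finite type. Then f is locally
quasi-finite, resp. unramified, if and only if f' is (etale-local sense, both notions including
locally of finite type). -/
theorem result {S : Scheme.{u}} {X X' Y Y' : AlgSp.Space S} (i : X ⟶ X') (j : Y ⟶ Y')
    (f : X ⟶ Y) (f' : X' ⟶ Y')
    (hi : AlgSp.IsThickMor i.hom)
    (hj : AlgSp.IsThickMor j.hom) (w : i ≫ f' = f ≫ j)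
    (hcart : IsPullback i.hom f.hom f'.hom j.hom)
    (hft : AlgSp.LocP @LocallyOfFiniteType f.hom) (hft' : AlgSp.LocP @LocallyOfFiniteType f'.hom) :
    (AlgSp.LocP (@LocallyQuasiFinite ⊓ @LocallyOfFiniteType) f.hom ↔
      AlgSp.LocP (@LocallyQuasiFinite ⊓ @LocallyOfFiniteType) f'.hom) ∧
    (AlgSp.LocP (@LocallyOfFiniteType ⊓ @FormallyUnramified) f.hom ↔
      AlgSp.LocP (@LocallyOfFiniteType ⊓ @FormallyUnramified) f'.hom) := by
  have hbc : ∀ {P : MorphismProperty Scheme.{u}} [P.IsStableUnderBaseChange],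
      Groth.Agent.AlgSpCov.EtaleLocal P → AlgSp.LocP P f'.hom → AlgSp.LocP P f.hom := fun hP h =>
    Groth.Agent.AlgSpCov.locP_baseChange hP X'.property Y'.property hcart h
  refine ⟨⟨locP_of_cart hj hcart ?_, hbc (Groth.Agent.AlgSpCov.etaleLocal_locallyQuasiFinite.inf
      Groth.Agent.AlgSpCov.etaleLocal_locallyOfFiniteType)⟩,
    ⟨locP_of_cart hj hcart ?_, hbc (Groth.Agent.AlgSpCov.etaleLocal_locallyOfFiniteType.inf
      Groth.Agent.AlgSpCov.etaleLocal_formallyUnramified)⟩⟩
  · intro U U' V V' a a' iU b b' iV g g' ha ha' hb hb' w w' sqU hc hs sq hg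
    obtain ⟨hq, hl⟩ := hg
    have : LocallyOfFiniteType g'.left := hft' a' b' g' ha' hb' w'
    have : IsClosedImmersion iU.left := (hi.2 a' a iU sqU).1
    have : Surjective iU.left := (hi.2 a' a iU sqU).2
    exact ⟨(Groth.Agent.Thick.Topo.locallyQuasiFinite_iff iU.left iV.left g.left g'.left sq.w).1 hq, ‹_›⟩
  · intro U U' V V' a a' iU b b' iV g g' ha ha' hb hb' w w' sqU hc hs sq hg
    obtain ⟨hl, hu⟩ := hg
    have : LocallyOfFiniteType g'.left := hft' a' b' g' ha' hb' w'
    exact ⟨‹_›, Groth.Agent.Thick.Unram.formallyUnramified_of_locallyOfFiniteType sq⟩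

end Groth.Agent.S10593
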