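import Groth.Statements.S10596
import Groth.Agent.AlgSpCov.ThickDeform
import Groth.Agent.AlgSpCov.ThickDim
import Groth.Agent.S1317
import Groth.Agent.S1320
import Groth.Agent.S1321
import Groth.Agent.S1322
import Groth.Agent.AlgSpCov.Listed
-- import your own Groth.Agent.* helpers here

set_option backward.isDefEq.respectTransparency.types false
set_option autoImplicit false
universe u
open CategoryTheory CategoryTheory.Limits AlgebraicGeometry
open AlgSp

namespace Groth.Agent.S10596

open Groth.Agent.AlgSpCov.ThickCharts Groth.Agent.AlgSpCov.ThickDeform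

/-- Let iB : B ⟶ B' be a finite order thickening of algebraic spaces over S (a thickening such that for
one n the (n+1)-st power of the ideal vanishes on every affine etale scheme chart), f' : X' ⟶ Y' a
morphism of algebraic spaces over B' (via g' : Y' ⟶ B') with X' flat over B', and f : X ⟶ Y, g : Y ⟶
B its base change to B (both squares to iB cartesian, iX ≫ f' = f ≫ iY). Then f is locally of finite
type of relative dimension d, resp. flat, resp. locally of finite type, locally quasi-finite,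
locally of finite presentation, smooth, unramified, etale, if and only if f' is (etale-local sense;
locally quasi-finite and unramified include locally of finite type). -/
theorem result {S : Scheme.{u}} {X X' Y Y' B B' : AlgSp.Space S} (iX : X ⟶ X') (iY : Y ⟶ Y') (iB : B ⟶ B')
    (f : X ⟶ Y) (f' : X' ⟶ Y') (g : Y ⟶ B) (g' : Y' ⟶ B')
    (hcX : IsPullback iX.hom (f ≫ g).hom (f' ≫ g').hom iB.hom) (hcY : IsPullback iY.hom g.hom g'.hom iB.hom)
    (w : iX ≫ f' = f ≫ iY)
    (hB : AlgSp.IsFinThickMor iB.hom) (hflat : AlgSp.LocP @Flat (f' ≫ g').hom) (d : ℕ) :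
    ((AlgSp.LocP @LocallyOfFiniteType f.hom ∧
        ∀ x, AlgSp.HasAtMor (fun _ _ h u => FlatMor.fibreDimAt h u = (d : WithBot ℕ∞)) f.hom x) ↔
      (AlgSp.LocP @LocallyOfFiniteType f'.hom ∧
        ∀ x', AlgSp.HasAtMor (fun _ _ h u => FlatMor.fibreDimAt h u = (d : WithBot ℕ∞)) f'.hom x')) ∧
    (AlgSp.LocP @Flat f.hom ↔ AlgSp.LocP @Flat f'.hom) ∧
    (AlgSp.LocP @LocallyOfFiniteType f.hom ↔ AlgSp.LocP @LocallyOfFiniteType f'.hom) ∧
    (AlgSp.LocP (@LocallyQuasiFinite ⊓ @LocallyOfFiniteType) f.hom ↔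
      AlgSp.LocP (@LocallyQuasiFinite ⊓ @LocallyOfFiniteType) f'.hom) ∧
    (AlgSp.LocP @LocallyOfFinitePresentation f.hom ↔ AlgSp.LocP @LocallyOfFinitePresentation f'.hom) ∧
    (AlgSp.LocP @Smooth f.hom ↔ AlgSp.LocP @Smooth f'.hom) ∧
    (AlgSp.LocP (@LocallyOfFiniteType ⊓ @FormallyUnramified) f.hom ↔
      AlgSp.LocP (@LocallyOfFiniteType ⊓ @FormallyUnramified) f'.hom) ∧
    (AlgSp.IsEtaleMor f.hom ↔ AlgSp.IsEtaleMor f'.hom) := by
  have hc : IsPullback iX.hom f.hom f'.hom iY.hom :=
    IsPullback.of_bot hcX (congrArg InducedCategory.Hom.hom w) hcY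
  have hBt : AlgSp.IsThickMor iB.hom := hB.choose_spec.1
  have hi := isThickMor_of_baseChange hcX hBt
  have hj := isThickMor_of_baseChange hcY hBt
  have hbc : ∀ {P : MorphismProperty Scheme.{u}} [P.IsStableUnderBaseChange],
      Groth.Agent.AlgSpCov.EtaleLocal P → AlgSp.LocP P f'.hom → AlgSp.LocP P f.hom := fun hP h =>
    Groth.Agent.AlgSpCov.locP_baseChange hP X'.property Y'.property hc h
  have hlft : AlgSp.LocP @LocallyOfFiniteType f.hom → AlgSp.LocP @LocallyOfFiniteType f'.hom :=
    locP_deform Groth.Agent.AlgSpCov.etaleLocal_locallyOfFiniteType (fun _ _ e he => inferInstance) hcX hcY w hB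
      hflat fun A A' B B' C C' iA iB iC h h' k k' hC hA hB' w' hfl hh =>
        have := hh
        lft_deform_scheme hC hA hB' w'
  refine ⟨⟨fun ⟨h₁, h₂⟩ => ⟨hlft h₁, (forall_fibreDimAt_iff hi hj hc (hlft h₁) _).1 h₂⟩,
      fun ⟨h₁, h₂⟩ => ⟨hbc Groth.Agent.AlgSpCov.etaleLocal_locallyOfFiniteType h₁,
        (forall_fibreDimAt_iff hi hj hc h₁ _).2 h₂⟩⟩,
    ⟨locP_deform Groth.Agent.AlgSpCov.etaleLocal_flat (fun _ _ e he => inferInstance) hcX hcY w hB hflat
      (fun A A' B B' C C' iA iB iC h h' k k' hC hA hB' w' hfl hh =>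
        have := hfl
        (Groth.Agent.S1317.result iA iB iC h h' k k' hC hA hB' w').1 hh),
      hbc Groth.Agent.AlgSpCov.etaleLocal_flat⟩,
    ⟨hlft, hbc Groth.Agent.AlgSpCov.etaleLocal_locallyOfFiniteType⟩,
    ⟨locP_deform (Groth.Agent.AlgSpCov.etaleLocal_locallyQuasiFinite.inf
        Groth.Agent.AlgSpCov.etaleLocal_locallyOfFiniteType) (Groth.Agent.AlgSpCov.standard_locallyQuasiFinite.of_etale)
        hcX hcY w hB hflat (fun A A' B B' C C' iA iB iC h h' k k' hC hA hB' w' hfl hh =>
          have := hh.1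
          have := hh.2
          have := lft_deform_scheme hC hA hB' w'
          ⟨lqf_deform_scheme hC hA hB' w', ‹_›⟩),
      hbc (Groth.Agent.AlgSpCov.etaleLocal_locallyQuasiFinite.inf
        Groth.Agent.AlgSpCov.etaleLocal_locallyOfFiniteType)⟩,
    ⟨locP_deform Groth.Agent.AlgSpCov.etaleLocal_locallyOfFinitePresentation (fun _ _ e he => inferInstance)
        hcX hcY w hB hflat (fun A A' B B' C C' iA iB iC h h' k k' hC hA hB' w' hfl hh =>
          have := hfl
          (Groth.Agent.S1320.result iA iB iC h h' k k' hC hA hB' w').1 hh),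
      hbc Groth.Agent.AlgSpCov.etaleLocal_locallyOfFinitePresentation⟩,
    ⟨locP_deform Groth.Agent.AlgSpCov.etaleLocal_smooth (fun _ _ e he => inferInstance)
        hcX hcY w hB hflat (fun A A' B B' C C' iA iB iC h h' k k' hC hA hB' w' hfl hh =>
          have := hfl
          (Groth.Agent.S1321.result iA iB iC h h' k k' hC hA hB' w').1 hh),
      hbc Groth.Agent.AlgSpCov.etaleLocal_smooth⟩,
    ⟨locP_deform (Groth.Agent.AlgSpCov.etaleLocal_locallyOfFiniteType.inf
        Groth.Agent.AlgSpCov.etaleLocal_formallyUnramified) (fun _ _ e he => ⟨inferInstance, inferInstance⟩)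
        hcX hcY w hB hflat (fun A A' B B' C C' iA iB iC h h' k k' hC hA hB' w' hfl hh =>
          have := hh.1
          have := hh.2
          ⟨lft_deform_scheme hC hA hB' w', fu_deform_scheme hC hA hB' w'⟩),
      hbc (Groth.Agent.AlgSpCov.etaleLocal_locallyOfFiniteType.inf
        Groth.Agent.AlgSpCov.etaleLocal_formallyUnramified)⟩, ?_⟩
  rw [Groth.Agent.AlgSpCov.isEtaleMor_iff_locP_etale X.property Y.property,
    Groth.Agent.AlgSpCov.isEtaleMor_iff_locP_etale X'.property Y'.property]
  exact ⟨locP_deform Groth.Agent.AlgSpCov.etaleLocal_etale (fun _ _ e he => he)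
      hcX hcY w hB hflat (fun A A' B B' C C' iA iB iC h h' k k' hC hA hB' w' hfl hh =>
        have := hfl
        (Groth.Agent.S1322.result iA iB iC h h' k k' hC hA hB' w').1 hh),
    hbc Groth.Agent.AlgSpCov.etaleLocal_etale⟩

end Groth.Agent.S10596
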