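import Groth.Statements.S10597
import Groth.Agent.AlgSpCov.ThickDeform
import Groth.Agent.AlgSpCov.ThickGlobal
import Groth.Agent.AlgSpCov.DeformMono
import Groth.Agent.AlgSpD.FinLocFree
import Groth.Agent.S1317
import Groth.Agent.S1320
import Groth.Agent.S1322
-- import your own Groth.Agent.* helpers here

set_option backward.isDefEq.respectTransparency.types false
set_option autoImplicit false
universe u
open CategoryTheory CategoryTheory.Limits AlgebraicGeometry
open AlgSp

namespace Groth.Agent.S10597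

open Groth.Agent.AlgSpCov.ThickCharts Groth.Agent.AlgSpCov.ThickDeform

/-- Let iB : B ⟶ B' be a finite order thickening of algebraic spaces over S (a thickening such that for
one n the (n+1)-st power of the ideal vanishes on every affine etale scheme chart), f' : X' ⟶ Y' a
morphism of algebraic spaces over B' (via g' : Y' ⟶ B') with X' flat over B', and f : X ⟶ Y, g : Y ⟶
B its base change to B (both squares to iB cartesian, iX ≫ f' = f ≫ iY). Then f is an isomorphism,
resp. an open immersion, resp. a monomorphism, resp. finite locally free, resp. finite locally free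
of degree d, if and only if f' is. -/
theorem result {S : Scheme.{u}} {X X' Y Y' B B' : AlgSp.Space S} (iX : X ⟶ X') (iY : Y ⟶ Y') (iB : B ⟶ B')
    (f : X ⟶ Y) (f' : X' ⟶ Y') (g : Y ⟶ B) (g' : Y' ⟶ B')
    (hcX : IsPullback iX.hom (f ≫ g).hom (f' ≫ g').hom iB.hom) (hcY : IsPullback iY.hom g.hom g'.hom iB.hom)
    (w : iX ≫ f' = f ≫ iY)
    (hB : AlgSp.IsFinThickMor iB.hom) (hflat : AlgSp.LocP @Flat (f' ≫ g').hom) :
    (IsIso f.hom ↔ IsIso f'.hom) ∧
    (AlgSp.RepWith @IsOpenImmersion f.hom ↔ AlgSp.RepWith @IsOpenImmersion f'.hom) ∧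
    (Mono f.hom ↔ Mono f'.hom) ∧
    (AlgSp.IsFinLocFreeMor f.hom ↔ AlgSp.IsFinLocFreeMor f'.hom) ∧
    (∀ d : ℕ, AlgSp.IsFinLocFreeOfDegMor d f.hom ↔ AlgSp.IsFinLocFreeOfDegMor d f'.hom) := by
  have hc : IsPullback iX.hom f.hom f'.hom iY.hom :=
    IsPullback.of_bot hcX (congrArg InducedCategory.Hom.hom w) hcY
  have hBt : AlgSp.IsThickMor iB.hom := hB.choose_spec.1
  have hi := isThickMor_of_baseChange hcX hBt
  have hj := isThickMor_of_baseChange hcY hBt
  have hlft : AlgSp.LocP @LocallyOfFiniteType f.hom → AlgSp.LocP @LocallyOfFiniteType f'.hom :=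
    locP_deform Groth.Agent.AlgSpCov.etaleLocal_locallyOfFiniteType (fun _ _ e he => inferInstance) hcX hcY w hB
      hflat fun A A' B B' C C' iA iB iC h h' k k' hC hA hB' w' hfl hh =>
        have := hh
        lft_deform_scheme hC hA hB' w'
  obtain ⟨-, -, hfin, -⟩ := global_iff hi hj hc.w hc hlft
  have hmono : Mono f.hom → Mono f'.hom := fun _ => Groth.Agent.AlgSpCov.DeformMono.mono_deform hcX hcY w hB hflat
  have het : AlgSp.IsEtaleMor f.hom → AlgSp.IsEtaleMor f'.hom := by
    rw [Groth.Agent.AlgSpCov.isEtaleMor_iff_locP_etale X.property Y.property,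
      Groth.Agent.AlgSpCov.isEtaleMor_iff_locP_etale X'.property Y'.property]
    exact locP_deform Groth.Agent.AlgSpCov.etaleLocal_etale (fun _ _ e he => he)
      hcX hcY w hB hflat (fun A A' B B' C C' iA iB iC h h' k k' hC hA hB' w' hfl hh =>
        have := hfl
        (Groth.Agent.S1322.result iA iB iC h h' k k' hC hA hB' w').1 hh)
  have hopen : AlgSp.RepWith @IsOpenImmersion f.hom → Mono f.hom ∧ AlgSp.IsEtaleMor f.hom := fun h =>
    ⟨Groth.Agent.AlgSpB.mono_of_isOpenImmersion h,
      (Groth.Agent.AlgSpCov.isEtaleMor_iff_locP_etale X.property Y.property).2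
        (Groth.Agent.AlgSpCov.locP_of_repWith Groth.Agent.AlgSpCov.etaleLocal_etale
          (AlgSp.repWith_mono (fun e he => (have : IsOpenImmersion e := he; (inferInstance : Etale e))) h))⟩
  have hlf : AlgSp.IsFinLocFreeMor f.hom ↔ AlgSp.IsFinLocFreeMor f'.hom := by
    rw [Groth.Agent.AlgSpD.isFinLocFreeMor_iff_locP, Groth.Agent.AlgSpD.isFinLocFreeMor_iff_locP, hfin]
    refine and_congr_right fun _ => and_congr ⟨?_, fun h => Groth.Agent.AlgSpCov.locP_baseChange
      Groth.Agent.AlgSpCov.etaleLocal_flat X'.property Y'.property hc h⟩ ⟨?_, fun h =>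
        Groth.Agent.AlgSpCov.locP_baseChange Groth.Agent.AlgSpCov.etaleLocal_locallyOfFinitePresentation
          X'.property Y'.property hc h⟩
    · exact locP_deform Groth.Agent.AlgSpCov.etaleLocal_flat (fun _ _ e he => inferInstance) hcX hcY w hB hflat
        (fun A A' B B' C C' iA iB iC h h' k k' hC hA hB' w' hfl hh =>
          have := hfl
          (Groth.Agent.S1317.result iA iB iC h h' k k' hC hA hB' w').1 hh)
    · exact locP_deform Groth.Agent.AlgSpCov.etaleLocal_locallyOfFinitePresentation (fun _ _ e he => inferInstance)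
        hcX hcY w hB hflat (fun A A' B B' C C' iA iB iC h h' k k' hC hA hB' w' hfl hh =>
          have := hfl
          (Groth.Agent.S1320.result iA iB iC h h' k k' hC hA hB' w').1 hh)
  refine ⟨⟨fun h => ?_, fun h => hc.isIso_snd_of_isIso⟩, ⟨fun h => ?_, fun h => Groth.Agent.AlgSpCov.repWith_bc hc h⟩,
    ⟨hmono, fun h => (MorphismProperty.monomorphisms (AlgSp.Sp S)).of_isPullback hc h⟩, hlf, fun d => ⟨?_, ?_⟩⟩
  · have := hmono inferInstance
    refine Groth.Agent.AlgSpCov.isIso_of_mono_isEtaleMor X'.property f'.hom (het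
      ((Groth.Agent.AlgSpCov.isEtaleMor_iff_locP_etale X.property Y.property).2
        (Groth.Agent.AlgSpCov.locP_of_repWith Groth.Agent.AlgSpCov.etaleLocal_etale
          (MorphismProperty.of_isIso (AlgSp.RepWith @Etale) f.hom)))) ?_
    refine (Groth.Agent.AlgSpCov.ThickTopo.surjective_iff X.property X'.property Y.property Y'.property hi hj hc.w).1
      fun y => ⟨AlgSp.Points.map (inv f.hom) y, ?_⟩
    rw [← AlgSp.Points.map_comp, IsIso.inv_hom_id, AlgSp.Points.map_id]
  · obtain ⟨hm, he⟩ := hopen h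
    have := hmono hm
    exact Groth.Agent.AlgSpCov.repWith_isOpenImmersion_of_mono_isEtaleMor X'.property Y'.property f'.hom (het he)
  · intro h
    have hfree : AlgSp.IsFinLocFreeMor f'.hom := hlf.1 ⟨h.1, fun _ _ t fst snd sq => (h.2 t fst snd sq).1⟩
    refine ⟨hfree.1, fun T W t fst snd sq => ?_⟩
    have hW := hfree.2 t fst snd sq
    obtain ⟨V, iV, b, sqV⟩ := hj.1 t
    obtain ⟨U, a, k, iU, sqU, wk, sqs⟩ := exists_cart_chart hc sqV sq.w
    have sqO : IsPullback iU k snd iV := IsPullback.of_map (Over.forget S) (Over.OverMorphism.ext sqs.w) sqs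
    have outer : IsPullback (a ≫ iX.hom) ((AlgSp.yon S).map k) f'.hom (b ≫ iY.hom) := by
      rw [sqU.w, sqV.w]
      exact (sqO.map (AlgSp.yon S)).paste_horiz sq
    have hk := h.2 b a k (IsPullback.of_right outer wk hc)
    refine ⟨hW, fun y => ?_⟩
    have : Surjective iV.left := (hj.2 t b iV sqV).2
    obtain ⟨y₀, rfl⟩ := iV.left.surjective y
    rw [← hk.2 y₀]
    have hW' : Mor2.IsFinLocFree snd.left := hW
    have : IsFinite snd.left := hW'.1
    have : Flat snd.left := hW'.2.1
    have : LocallyOfFinitePresentation snd.left := hW'.2.2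
    exact (Scheme.Hom.finrank_of_isPullback iU.left k.left snd.left iV.left sqs y₀).symm
  · intro h
    have hfree : AlgSp.IsFinLocFreeMor f.hom := hlf.2 ⟨h.1, fun _ _ t fst snd sq => (h.2 t fst snd sq).1⟩
    refine ⟨hfree.1, fun T W t fst snd sq => ⟨hfree.2 t fst snd sq, fun y => ?_⟩⟩
    exact (h.2 (t ≫ iY.hom) (fst ≫ iX.hom) snd (sq.paste_horiz hc)).2 y

end Groth.Agent.S10597
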