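import Groth.Statements.S10599
import Groth.Agent.AlgSpCov.ThickFp
import Groth.Agent.AlgSpCov.ThickDim
-- import your own Groth.Agent.* helpers here

set_option backward.isDefEq.respectTransparency.types false
set_option autoImplicit false
universe u
open CategoryTheory CategoryTheory.Limits AlgebraicGeometry
open AlgSp

namespace Groth.Agent.S10599

open Groth.Agent.AlgSpCov.ThickCharts Groth.Agent.AlgSpCov.ThickDeform Groth.Agent.AlgSpCov.ThickFp

/-- Let iB : B ⟶ B' be a thickening of algebraic spaces over S (representable, every base change to a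
scheme a surjective closed immersion), f' : X' ⟶ Y' a morphism of algebraic spaces over B' (via g' :
Y' ⟶ B') with Y' locally of finite type over B' and X' flat and locally of finite presentation over
B', and f : X ⟶ Y, g : Y ⟶ B its base change to B (both squares to iB cartesian, iX ≫ f' = f ≫ iY).
Then f is locally of finite type of relative dimension d, resp. flat, resp. locally quasi-finite,
smooth, unramified, etale, if and only if f' is (etale-local sense; locally quasi-finite and
unramified include locally of finite type). -/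
theorem result {S : Scheme.{u}} {X X' Y Y' B B' : AlgSp.Space S} (iX : X ⟶ X') (iY : Y ⟶ Y') (iB : B ⟶ B')
    (f : X ⟶ Y) (f' : X' ⟶ Y') (g : Y ⟶ B) (g' : Y' ⟶ B')
    (hcX : IsPullback iX.hom (f ≫ g).hom (f' ≫ g').hom iB.hom) (hcY : IsPullback iY.hom g.hom g'.hom iB.hom)
    (w : iX ≫ f' = f ≫ iY)
    (hB : AlgSp.IsThickMor iB.hom)
    (hg' : AlgSp.LocP @LocallyOfFiniteType g'.hom)
    (hflat : AlgSp.LocP @Flat (f' ≫ g').hom) (hfp : AlgSp.LocP @LocallyOfFinitePresentation (f' ≫ g').hom) (d : ℕ) :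
    ((AlgSp.LocP @LocallyOfFiniteType f.hom ∧
        ∀ x, AlgSp.HasAtMor (fun _ _ h u => FlatMor.fibreDimAt h u = (d : WithBot ℕ∞)) f.hom x) ↔
      (AlgSp.LocP @LocallyOfFiniteType f'.hom ∧
        ∀ x', AlgSp.HasAtMor (fun _ _ h u => FlatMor.fibreDimAt h u = (d : WithBot ℕ∞)) f'.hom x')) ∧
    (AlgSp.LocP @Flat f.hom ↔ AlgSp.LocP @Flat f'.hom) ∧
    (AlgSp.LocP (@LocallyQuasiFinite ⊓ @LocallyOfFiniteType) f.hom ↔
      AlgSp.LocP (@LocallyQuasiFinite ⊓ @LocallyOfFiniteType) f'.hom) ∧
    (AlgSp.LocP @Smooth f.hom ↔ AlgSp.LocP @Smooth f'.hom) ∧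
    (AlgSp.LocP (@LocallyOfFiniteType ⊓ @FormallyUnramified) f.hom ↔
      AlgSp.LocP (@LocallyOfFiniteType ⊓ @FormallyUnramified) f'.hom) ∧
    (AlgSp.IsEtaleMor f.hom ↔ AlgSp.IsEtaleMor f'.hom) := by
  have hc : IsPullback iX.hom f.hom f'.hom iY.hom :=
    IsPullback.of_bot hcX (congrArg InducedCategory.Hom.hom w) hcY
  have hi := isThickMor_of_baseChange hcX hB
  have hj := isThickMor_of_baseChange hcY hB
  have hlft : AlgSp.LocP @LocallyOfFiniteType f'.hom :=
    lft_of_comp_fp hg' hfp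
  have hbc : ∀ {P : MorphismProperty Scheme.{u}} [P.IsStableUnderBaseChange],
      Groth.Agent.AlgSpCov.EtaleLocal P → AlgSp.LocP P f'.hom → AlgSp.LocP P f.hom := fun hP h =>
    Groth.Agent.AlgSpCov.locP_baseChange hP X'.property Y'.property hc h
  refine ⟨⟨fun ⟨_, h₂⟩ => ⟨hlft, (forall_fibreDimAt_iff hi hj hc hlft _).1 h₂⟩,
      fun ⟨h₁, h₂⟩ => ⟨hbc Groth.Agent.AlgSpCov.etaleLocal_locallyOfFiniteType h₁,
        (forall_fibreDimAt_iff hi hj hc h₁ _).2 h₂⟩⟩,
    ⟨(locP_deform_fp Groth.Agent.AlgSpCov.etaleLocal_flat (fun _ _ e he => inferInstance) hcX hcY w hB hg' hflat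
        hfp (fun A A' B B' C C' iA iB iC h h' k k' hC hA hB' w' hfl hfp' hft hh =>
          have := hfl; have := hfp'; have := hft; have := hh
          flat_deform_scheme hC hA hB' w')),
      hbc Groth.Agent.AlgSpCov.etaleLocal_flat⟩,
    ⟨locP_of_cart hj hc ?_, hbc (Groth.Agent.AlgSpCov.etaleLocal_locallyQuasiFinite.inf
        Groth.Agent.AlgSpCov.etaleLocal_locallyOfFiniteType)⟩,
    ⟨locP_deform_fp Groth.Agent.AlgSpCov.etaleLocal_smooth (fun _ _ e he => inferInstance) hcX hcY w hB hg' hflat hfp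
        (fun A A' B B' C C' iA iB iC h h' k k' hC hA hB' w' hfl hfp' hft hh =>
          have := hfl; have := hfp'; have := hft; have := hh
          smooth_deform_scheme hC hA hB' w'),
      hbc Groth.Agent.AlgSpCov.etaleLocal_smooth⟩,
    ⟨locP_of_cart hj hc ?_, hbc (Groth.Agent.AlgSpCov.etaleLocal_locallyOfFiniteType.inf
        Groth.Agent.AlgSpCov.etaleLocal_formallyUnramified)⟩, ?_⟩
  · intro U U' V V' a a' iU b b' iV g g' ha ha' hb hb' e e' sqU hcl hs sq hg
    have : LocallyOfFiniteType g'.left := hlft a' b' g' ha' hb' e'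
    have : IsClosedImmersion iU.left := (hi.2 a' a iU sqU).1
    have : Surjective iU.left := (hi.2 a' a iU sqU).2
    obtain ⟨hg₁, hg₂⟩ := hg
    exact ⟨(Groth.Agent.Thick.Topo.locallyQuasiFinite_iff iU.left iV.left g.left g'.left sq.w).1 hg₁, ‹_›⟩
  · intro U U' V V' a a' iU b b' iV g g' ha ha' hb hb' e e' sqU hcl hs sq hg
    have : LocallyOfFiniteType g'.left := hlft a' b' g' ha' hb' e'
    obtain ⟨hg₁, hg₂⟩ := hg
    exact ⟨‹_›, Groth.Agent.Thick.Unram.formallyUnramified_of_locallyOfFiniteType sq⟩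
  · rw [Groth.Agent.AlgSpCov.isEtaleMor_iff_locP_etale X.property Y.property,
      Groth.Agent.AlgSpCov.isEtaleMor_iff_locP_etale X'.property Y'.property]
    exact ⟨locP_deform_fp Groth.Agent.AlgSpCov.etaleLocal_etale (fun _ _ e he => he) hcX hcY w hB hg' hflat hfp
        (fun A A' B B' C C' iA iB iC h h' k k' hC hA hB' w' hfl hfp' hft hh =>
          have := hfl; have := hfp'; have := hft; have := hh
          etale_deform_scheme hC hA hB' w'),
      hbc Groth.Agent.AlgSpCov.etaleLocal_etale⟩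

end Groth.Agent.S10599
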