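import Groth.Statements.S10601
import Groth.Agent.AlgSpCov.EtaleInjective
import Groth.Agent.AlgSp.UnivInj
import Groth.Agent.AlgSp.Space
-- import your own Groth.Agent.* helpers here

set_option autoImplicit false
universe u
open CategoryTheory CategoryTheory.Limits AlgebraicGeometry
open AlgSp

set_option backward.isDefEq.respectTransparency false

namespace Groth.Agent.S10601

open Groth.Agent

/-- Take a morphism f : X ⟶ Y of algebraic spaces over S that is locally of finite type and such that
for every etale morphism V ⟶ Y of algebraic spaces the base change X ×_Y V ⟶ V is injective on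
points. Then f is universally injective. -/
theorem result {S : Scheme.{u}} {X Y : AlgSp.Space S} (f : X ⟶ Y)
    (hft : AlgSp.LocP @LocallyOfFiniteType f.hom)
    (hinj : ∀ (V : AlgSp.Space S) (g : V ⟶ Y), AlgSp.IsEtaleMor g.hom →
      ∀ (P : AlgSp.Sp S) (fst : P ⟶ X.obj) (snd : P ⟶ V.obj), IsPullback fst snd f.hom g.hom →
        Function.Injective (AlgSp.Points.map snd)) :
    AlgSp.IsUnivInjectiveMor f.hom := by
  obtain ⟨V, b, hb, hbs⟩ := Y.property.atlas
  have sq := IsPullback.of_hasPullback f.hom b
  have hP : AlgSp.IsAlgSpace (pullback f.hom b) :=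
    AlgSp.isAlgSpace_pullback Y.property X.property (AlgSp.IsAlgSpace.yon_obj V) f.hom b
  obtain ⟨U, p, hp, hps⟩ := hP.atlas
  obtain ⟨h, hh⟩ := (AlgSp.yon S).map_surjective (p ≫ pullback.snd f.hom b)
  have hfst : AlgSp.RepWith @Etale (pullback.fst f.hom b) := MorphismProperty.of_isPullback sq.flip hb
  have hlft : LocallyOfFiniteType h.left := hft (p ≫ pullback.fst f.hom b) b h
    ((AlgSp.RepWith @Etale : MorphismProperty (AlgSp.Sp S)).comp_mem _ _ hp hfst) hb (by rw [Category.assoc, pullback.condition, hh, Category.assoc])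
  have hF := AlgSpCov.EtaleInjective.fieldInj_of_etale_injective hP (pullback.snd f.hom b) hp hps h hh hlft
    fun V' g hg P' fst snd sq' => hinj ⟨_, AlgSp.IsAlgSpace.yon_obj V'⟩ (ObjectProperty.homMk ((AlgSp.yon S).map g ≫ b))
      (fun _ φ hφ => (AlgSp.RepWith @Etale : MorphismProperty (AlgSp.Sp S)).comp_mem φ _ hφ (AlgSpB.repWith_etale_map_comp g hb)) P' (fst ≫ pullback.fst f.hom b) snd
      (sq'.paste_horiz sq)
  exact Groth.Agent.AlgSp.isUnivInjectiveMor_of_surjective_baseChange X.property f.hom b
    (fun x => (AlgSpB.surjective_ofPt hbs x).elim fun v hv => ⟨_, (AlgSp.Points.ofPt_eq_map_ofScheme b v).symm.trans hv⟩) hP sq ((Groth.Agent.AlgSp.univInjective_tfae hP _).1.1 hF)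

end Groth.Agent.S10601
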