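import Groth.Statements.S10602
import Groth.Agent.AlgSpCov.SmallExtSp
import Groth.Agent.AlgSp.NoethFib
import Groth.Agent.S10629
set_option backward.isDefEq.respectTransparency.types false

set_option autoImplicit false
universe u
open CategoryTheory CategoryTheory.Limits AlgebraicGeometry
open AlgSp

namespace Groth.Agent.S10602

/-- Take a morphism f : X ⟶ Y of algebraic spaces over S that is locally of finite type, with Y locally
Noetherian. Then f is smooth if and only if for every surjection π : B' → B of Artinian local rings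
whose kernel is principal and killed by the maximal ideal of B', every structure map Spec B' ⟶ S,
every α : Spec B ⟶ X and every β : Spec B' ⟶ Y locally of finite type with α ≫ f = Spec(π) ≫ β,
there is γ : Spec B' ⟶ X with Spec(π) ≫ γ = α and γ ≫ f = β. (The published statement asks for lifts
only against β of finite type, which can be vacuous when Y is not quasi-separated; this row asks for
lifts against every β locally of finite type.) -/
theorem result {S : Scheme.{u}} {X Y : AlgSp.Space S} (f : X ⟶ Y)
    (hY : AlgSp.IsLocNoethSp Y.obj) (hft : AlgSp.LocP @LocallyOfFiniteType f.hom) :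
    AlgSp.LocP @Smooth f.hom ↔
      ∀ (B' B : Type u) [CommRing B'] [CommRing B] [IsLocalRing B'] [IsLocalRing B]
        [IsArtinianRing B'] [IsArtinianRing B] (π : B' →+* B), Function.Surjective π →
        (∃ t : B', RingHom.ker π = Ideal.span {t} ∧ ∀ a ∈ IsLocalRing.maximalIdeal B', a * t = 0) →
        ∀ (s : Spec (CommRingCat.of B') ⟶ S)
          (α : (AlgSp.yon S).obj (Over.mk (Spec.map (CommRingCat.ofHom π) ≫ s)) ⟶ X.obj)
          (β : (AlgSp.yon S).obj (Over.mk s) ⟶ Y.obj),
          AlgSp.LocP @LocallyOfFiniteType β →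
          α ≫ f.hom = (AlgSp.yon S).map
            (Over.homMk (Spec.map (CommRingCat.ofHom π)) :
              Over.mk (Spec.map (CommRingCat.ofHom π) ≫ s) ⟶ Over.mk s) ≫ β →
          ∃ γ : (AlgSp.yon S).obj (Over.mk s) ⟶ X.obj,
            (AlgSp.yon S).map (Over.homMk (Spec.map (CommRingCat.ofHom π)) :
              Over.mk (Spec.map (CommRingCat.ofHom π) ≫ s) ⟶ Over.mk s) ≫ γ = α ∧ γ ≫ f.hom = β := by
  constructor
  · intro hs B' B _ _ _ _ _ _ π hπ hker sb α β _ w
    obtain ⟨t, ht, htm⟩ := hker
    refine Groth.Agent.AlgSpCov.SmallExtSp.exists_lift_of_formallySmooth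
      ((Groth.Agent.S10629.result f).1 hs).2 π hπ ?_ sb α β w
    have htm' : t ∈ IsLocalRing.maximalIdeal B' :=
      IsLocalRing.le_maximalIdeal (RingHom.ker_ne_top π) (ht ▸ Ideal.mem_span_singleton_self t)
    rw [ht, Ideal.span_singleton_pow, Ideal.span_singleton_eq_bot, pow_two]
    exact htm t htm'
  · intro H U V a b h ha hb w
    have : IsLocallyNoetherian V.left := Groth.Agent.AlgSp.isLocallyNoetherian_of_etale_chart b hb hY
    have : LocallyOfFiniteType h.left := hft a b h ha hb w
    rw [HasRingHomProperty.iff_appLE (P := @Smooth)]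
    intro W U₁ e
    let η := h.left.appLE W.1 U₁.1 e
    have hfin : η.hom.FiniteType := HasRingHomProperty.appLE @LocallyOfFiniteType h.left inferInstance W U₁ e
    have : IsNoetherianRing Γ(V.left, W.1) := IsLocallyNoetherian.component_noetherian W
    algebraize [η.hom]
    have : Algebra.FinitePresentation Γ(V.left, W.1) Γ(U.left, U₁.1) :=
      Algebra.FinitePresentation.of_finiteType.1 inferInstance
    have hmax : ∀ m : PrimeSpectrum Γ(U.left, U₁.1), m.asIdeal.IsMaximal →
        m ∈ Algebra.smoothLocus Γ(V.left, W.1) Γ(U.left, U₁.1) := fun m hm =>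
      Groth.Agent.AlgSpCov.SmallExtSmooth.isSmoothAt_of_smallLifts m.asIdeal
        (Groth.Agent.AlgSpCov.SmallExtSp.smallLifts_of_lifts True ha hb w W.2 U₁.2 e m (fun _ => hm)
          fun B' B _ _ _ _ _ _ π hπ hker sb α β _ hβ w' => H B' B π hπ hker sb α β (hβ trivial) w')
    have huniv : Algebra.smoothLocus Γ(V.left, W.1) Γ(U.left, U₁.1) = Set.univ := by
      refine Set.eq_univ_of_forall fun p => ?_
      obtain ⟨m, hm, hpm⟩ := Ideal.exists_le_maximal p.asIdeal p.isPrime.ne_top
      exact ((PrimeSpectrum.le_iff_specializes p ⟨m, hm.isPrime⟩).1 hpm).mem_open Algebra.isOpen_smoothLocus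
        (hmax ⟨m, hm.isPrime⟩ hm)
    exact ⟨Algebra.smoothLocus_eq_univ_iff.1 huniv, inferInstance⟩

end Groth.Agent.S10602
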