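import Groth.Statements.S10604
import Groth.Agent.AlgSpCov.FibreFlat
set_option backward.isDefEq.respectTransparency.types false

set_option autoImplicit false
universe u
open CategoryTheory CategoryTheory.Limits AlgebraicGeometry
open AlgSp

namespace Groth.Agent.S10604

/-- Let f : X ⟶ Y and h : Y ⟶ Z be morphisms of algebraic spaces over S with X, Y and Z locally
Noetherian. Assume X is flat over Z and for every field K and every z : Spec K ⟶ Z the base change
X_z ⟶ Y_z of f is flat (fibres taken as pullback squares of fppf sheaves). Then f is flat; if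
moreover f is surjective, then h is flat. -/
theorem result {S : Scheme.{u}} {X Y Z : AlgSp.Space S} (f : X ⟶ Y) (h : Y ⟶ Z)
    (hX : AlgSp.IsLocNoethSp X.obj) (hYn : AlgSp.IsLocNoethSp Y.obj) (hZ : AlgSp.IsLocNoethSp Z.obj)
    (hfl : AlgSp.LocP @Flat (f ≫ h).hom)
    (hfib : ∀ (K : Type u) [Field K] (sK : Spec (CommRingCat.of K) ⟶ S)
      (z : (AlgSp.yon S).obj (Over.mk sK) ⟶ Z.obj) (Xz Yz : AlgSp.Sp S)
      (pX : Xz ⟶ X.obj) (qX : Xz ⟶ (AlgSp.yon S).obj (Over.mk sK))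
      (pY : Yz ⟶ Y.obj) (qY : Yz ⟶ (AlgSp.yon S).obj (Over.mk sK)) (fz : Xz ⟶ Yz),
      IsPullback pX qX (f ≫ h).hom z → IsPullback pY qY h.hom z → fz ≫ pY = pX ≫ f.hom → fz ≫ qY = qX →
      AlgSp.LocP @Flat fz) :
    AlgSp.LocP @Flat f.hom ∧ (AlgSp.IsSurjectiveMor f.hom → AlgSp.LocP @Flat h.hom) := by
  obtain ⟨V, W, b, c, g₂, hb, hbs, hc, hcs, w₂⟩ :=
    Groth.Agent.AlgSp.InfCharts.exists_chart Y.property Z.property h.hom
  obtain ⟨U₀, a₀, ha₀, ha₀s⟩ := X.property.atlas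
  obtain ⟨R, s, g₁, sq⟩ := Groth.Agent.AlgSpCov.exists_pullback (Y.property.representable_from_yon (a₀ ≫ f.hom)) b
  have hse : Etale s.left := hb.2 _ _ s sq.flip
  have hss : Surjective s.left := hbs.2 _ _ s sq.flip
  have ha : AlgSp.RepWith @Etale ((AlgSp.yon S).map s ≫ a₀) :=
    (AlgSp.repWith_isMultiplicative _).comp_mem _ _ ((AlgSp.repWith_yon_map_iff _ _).2 hse) ha₀
  have has : AlgSp.RepWith @Surjective ((AlgSp.yon S).map s ≫ a₀) :=
    (AlgSp.repWith_isMultiplicative _).comp_mem _ _ ((AlgSp.repWith_yon_map_iff _ _).2 hss) ha₀s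
  have w₁ : ((AlgSp.yon S).map s ≫ a₀) ≫ f.hom = (AlgSp.yon S).map g₁ ≫ b := by
    rw [Category.assoc]; exact sq.w
  have hg₁ : Flat g₁.left :=
    Groth.Agent.AlgSpCov.FibreFlat.flat_chart hX hYn hZ hfl hfib ha hb hc w₁ w₂
  refine ⟨Groth.Agent.AlgSpCov.locP_of_one_chart Groth.Agent.AlgSpCov.etaleLocal_flat
    (fun _ _ e he => inferInstance) Y.property ha has hb w₁ hg₁, fun hsurj => ?_⟩
  have : Surjective g₁.left := by
    have h1 : Function.Surjective (AlgSp.Points.map (a₀ ≫ f.hom)) := by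
      intro y
      obtain ⟨x, rfl⟩ := hsurj y
      obtain ⟨u, rfl⟩ := (Groth.Agent.AlgSp.repWith_surjective_iff a₀ ha₀.1).1 ha₀s x
      exact ⟨u, AlgSp.Points.map_comp _ _ _⟩
    exact ⟨(Groth.Agent.AlgSp.surjective_map_iff_of_schemes g₁).1
      (Groth.Agent.AlgSp.surjective_map_of_isPullback sq h1)⟩
  have : Flat (g₁.left ≫ g₂.left) := hfl _ _ (g₁ ≫ g₂) ha hc (by
    change ((AlgSp.yon S).map s ≫ a₀) ≫ f.hom ≫ h.hom = _
    rw [← Category.assoc, w₁, Category.assoc, w₂, Functor.map_comp, Category.assoc])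
  exact Groth.Agent.AlgSpCov.locP_of_one_chart Groth.Agent.AlgSpCov.etaleLocal_flat
    (fun _ _ e he => inferInstance) Z.property hb hbs hc w₂
    (Groth.Agent.Thick.FlatCancel.flat_of_comp g₁.left g₂.left)

end Groth.Agent.S10604
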