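import Groth.Statements.S10606
import Groth.Agent.S10582
import Groth.Agent.AlgSp.AffineMor
import Groth.Agent.UnivInj.Descent
import Mathlib.Algebra.TrivSqZeroExt.Basic
-- import your own Groth.Agent.* helpers here

set_option autoImplicit false
universe u
open CategoryTheory CategoryTheory.Limits AlgebraicGeometry
open AlgSp

set_option backward.isDefEq.respectTransparency false

open Groth.Agent
open scoped TensorProduct

namespace Groth.Agent.S10606

theorem eq_zero_of_epi {W W' : Scheme.{u}} (r : W' ⟶ W) [Epi r] (x : Γ(W, ⊤)) (h : r.appTop x = 0) : x = 0 := by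
  let R : CommRingCat.{u} := CommRingCat.of (Polynomial (ULift.{u} ℤ))
  let φ : Γ(W, ⊤) → (R ⟶ Γ(W, ⊤)) := fun y =>
    CommRingCat.ofHom (Polynomial.eval₂RingHom ((Int.castRingHom _).comp ULift.ringEquiv.toRingHom) y)
  have hφ : ∀ y, (φ y) Polynomial.X = y := fun y => Polynomial.eval₂_X _ _
  have e : φ x ≫ r.appTop = φ 0 ≫ r.appTop := by
    ext : 1
    refine Polynomial.ringHom_ext (fun a => ?_) ?_
    · obtain ⟨a⟩ := a
      simp [φ]
    · change r.appTop (φ x Polynomial.X) = r.appTop (φ 0 Polynomial.X)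
      rw [hφ, hφ, h, map_zero]
  have e' : W.toSpecΓ ≫ Spec.map (φ x) = W.toSpecΓ ≫ Spec.map (φ 0) := by
    rw [← cancel_epi r, reassoc_of% (Scheme.toSpecΓ_naturality r), reassoc_of% (Scheme.toSpecΓ_naturality r),
      ← Spec.map_comp, ← Spec.map_comp, e]
  have e'' : φ x = φ 0 := by
    have := congrArg (fun k => (Scheme.ΓSpecIso R).inv ≫ k.appTop) e'
    simpa [Scheme.Hom.comp_appTop, Scheme.ΓSpecIso_inv_naturality_assoc, Scheme.toSpecΓ_appTop] using this
  rw [← hφ x, e'', hφ]

/-- A monomorphism to an affine scheme with an affine etale chart, along which sections of base changes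
inject, is flat and surjective on that chart. -/
theorem flat_surjective_chart {S : Scheme.{u}} {F : AlgSp.Sp S} {Z V : Over S} [IsAffine Z.left] [IsAffine V.left]
    (snd : F ⟶ (AlgSp.yon S).obj Z) [Mono snd] (e : (AlgSp.yon S).obj V ⟶ F)
    (he : AlgSp.RepWith @Etale e) (hes : AlgSp.RepWith @Surjective e) (c : V ⟶ Z)
    (hc : e ≫ snd = (AlgSp.yon S).map c)
    (hinj : ∀ (T : Over S) (t : T ⟶ Z) (x : Γ(T.left, ⊤)),
      (∀ (W : Over S) (a : (AlgSp.yon S).obj W ⟶ F) (d : W ⟶ T),
        a ≫ snd = (AlgSp.yon S).map (d ≫ t) → d.left.appTop x = 0) → x = 0) :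
    Flat c.left ∧ Surjective c.left := by
  let A := Γ(Z.left, ⊤)
  let B := Γ(V.left, ⊤)
  let _ : Algebra A B := c.left.appTop.hom.toAlgebra
  have hc' : Spec.map (CommRingCat.ofHom (algebraMap A B)) = V.left.isoSpec.inv ≫ c.left ≫ Z.left.isoSpec.hom := by
    rw [← Scheme.isoSpec_inv_naturality_assoc c.left, Iso.inv_hom_id]
    exact (Category.comp_id _).symm
  have claim : ∀ (C : Type u) [CommRing C] [Algebra A C] (x : C), ((1 : B) ⊗ₜ[A] x) = 0 → x = 0 := by
    intro C _ _ x hx
    let γ : Spec (CommRingCat.of C) ⟶ Z.left := Spec.map (CommRingCat.ofHom (algebraMap A C)) ≫ Z.left.isoSpec.inv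
    let T : Over S := Over.mk (γ ≫ Z.hom)
    let t : T ⟶ Z := Over.homMk γ rfl
    have hγ : (Scheme.ΓSpecIso (CommRingCat.of C)).inv x = 0 → x = 0 := fun h =>
      (Scheme.ΓSpecIso (CommRingCat.of C)).symm.commRingCatIsoToRingEquiv.injective (h.trans (map_zero _).symm)
    refine hγ (hinj T t _ fun W a d hd => ?_)
    obtain ⟨W', r, l, hW'⟩ := he.1 a
    have hre : Etale r.left := he.2 _ _ _ hW'
    have hrs : Surjective r.left := hes.2 _ _ _ hW'
    have hlc : l ≫ (AlgSp.yon S).map c = (AlgSp.yon S).map (r ≫ d ≫ t) := by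
      rw [← hc, reassoc_of% hW'.w, hd, ← Functor.map_comp]
    obtain ⟨l', rfl⟩ := (AlgSp.yon S).map_surjective l
    have h1 : l'.left ≫ c.left = (r.left ≫ d.left) ≫ γ := by
      have := congrArg (fun k => k.left) ((AlgSp.yon S).map_injective (((AlgSp.yon S).map_comp _ _).trans hlc))
      simpa [t] using this
    have h2 : (l'.left ≫ V.left.isoSpec.hom) ≫ Spec.map (CommRingCat.ofHom (algebraMap A B)) =
        (r.left ≫ d.left) ≫ Spec.map (CommRingCat.ofHom (algebraMap A C)) := by
      rw [hc']
      simp only [Category.assoc, Iso.hom_inv_id_assoc, reassoc_of% h1, γ, Iso.inv_hom_id, Category.comp_id]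
    obtain ⟨k, -, hk⟩ := (Groth.Agent.AlgSp.isPullback_tensor A B C).exists_lift _ _ h2
    have : Epi r.left := Flat.epi_of_flat_of_surjective r.left
    refine eq_zero_of_epi r.left _ ?_
    have hnat : (Spec.map (CommRingCat.ofHom
        (Algebra.TensorProduct.includeRight (R := A) (A := B) (B := C)).toRingHom)).appTop
          ((Scheme.ΓSpecIso (CommRingCat.of C)).inv x) = (Scheme.ΓSpecIso (CommRingCat.of (B ⊗[A] C))).inv
          ((CommRingCat.ofHom (Algebra.TensorProduct.includeRight (R := A) (A := B) (B := C)).toRingHom) x) := by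
      exact (ConcreteCategory.congr_hom
        (Scheme.ΓSpecIso_inv_naturality (CommRingCat.ofHom
          (Algebra.TensorProduct.includeRight (R := A) (A := B) (B := C)).toRingHom)) x).symm
    have h0 : (CommRingCat.ofHom (Algebra.TensorProduct.includeRight (R := A) (A := B) (B := C)).toRingHom) x =
        0 := hx
    have hzero : (Spec.map (CommRingCat.ofHom
        (Algebra.TensorProduct.includeRight (R := A) (A := B) (B := C)).toRingHom)).appTop
          ((Scheme.ΓSpecIso (CommRingCat.of C)).inv x) = 0 := by rw [hnat, h0, map_zero]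
    have hcomp : r.left.appTop (d.left.appTop ((Scheme.ΓSpecIso (CommRingCat.of C)).inv x)) =
        k.appTop ((Spec.map (CommRingCat.ofHom
          (Algebra.TensorProduct.includeRight (R := A) (A := B) (B := C)).toRingHom)).appTop
            ((Scheme.ΓSpecIso (CommRingCat.of C)).inv x)) := by
      have := ConcreteCategory.congr_hom (congrArg Scheme.Hom.appTop hk) ((Scheme.ΓSpecIso (CommRingCat.of C)).inv x)
      rw [Scheme.Hom.comp_appTop, Scheme.Hom.comp_appTop] at this
      exact this.symm
    rw [hcomp, hzero]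
    exact map_zero k.appTop.hom
  have hU : Pi1.UnivInjective A B := by
    intro M _ _
    let _ : Module Aᵐᵒᵖ M := Module.compHom M ((RingHom.id A).fromOpposite mul_comm)
    have : IsCentralScalar A M := ⟨fun r m => rfl⟩
    rw [injective_iff_map_eq_zero]
    intro y hy
    let m := TensorProduct.rid A M y
    have hy' : y = m ⊗ₜ 1 := by
      rw [← TensorProduct.rid_symm_apply (R := A) m]
      simp [m]
    have hm : (1 : B) ⊗ₜ[A] m = 0 := by
      rw [hy', LinearMap.lTensor_tmul, Algebra.linearMap_apply, map_one] at hy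
      simpa using congrArg (TensorProduct.comm A M B) hy
    have hz : (1 : B) ⊗ₜ[A] (TrivSqZeroExt.inr m : TrivSqZeroExt A M) = 0 := by
      have := congrArg (LinearMap.lTensor B (TrivSqZeroExt.inrHom A M)) hm
      simpa using this
    have := claim _ _ hz
    rw [hy', show m = 0 from congrArg TrivSqZeroExt.snd this]
    simp
  have hBB : Module.Flat B (B ⊗[A] B) := by
    obtain ⟨R, r₁, r₂, hR⟩ := he.1 e
    obtain ⟨r₂, rfl⟩ := (AlgSp.yon S).map_surjective r₂
    have hr₁ : Etale r₁.left := he.2 _ _ _ hR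
    have hk : IsPullback ((AlgSp.yon S).map r₂) ((AlgSp.yon S).map r₁) ((AlgSp.yon S).map c) ((AlgSp.yon S).map c) := by
      refine IsPullback.of_isLimit' ⟨by rw [← hc, reassoc_of% hR.w]⟩ (PullbackCone.IsLimit.mk _
        (fun k => hR.lift k.fst k.snd ?_) (fun k => hR.lift_fst ..) (fun k => hR.lift_snd ..)
        (fun k m h₁ h₂ => hR.hom_ext (h₁.trans (hR.lift_fst ..).symm) (h₂.trans (hR.lift_snd ..).symm)))
      rw [← cancel_mono snd, Category.assoc, Category.assoc, hc]
      exact k.condition
    have hpb := (hk.of_map (AlgSp.yon S) ((AlgSp.yon S).map_injective (by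
      rw [Functor.map_comp, Functor.map_comp, hk.w]))).map (Over.forget S)
    have hpb' : IsPullback (r₁.left ≫ V.left.isoSpec.hom) (r₂.left ≫ V.left.isoSpec.hom)
        (Spec.map (CommRingCat.ofHom (algebraMap A B))) (Spec.map (CommRingCat.ofHom (algebraMap A B))) :=
      IsPullback.of_iso hpb.flip (Iso.refl _) V.left.isoSpec V.left.isoSpec Z.left.isoSpec (by simp) (by simp)
        (by rw [hc']; simp) (by rw [hc']; simp)
    have hfl : Flat (r₁.left ≫ V.left.isoSpec.hom) := inferInstance
    rw [← hpb'.isoIsPullback_hom_fst _ _ (Groth.Agent.AlgSp.isPullback_tensor A B B),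
      MorphismProperty.cancel_left_of_respectsIso @Flat, HasRingHomProperty.Spec_iff (P := @Flat)] at hfl
    exact RingHom.flat_algebraMap_iff.1 (by exact hfl)
  have hflat : Module.Flat A B := UnivInj.Descent.flat hU B
  have hff : Module.FaithfullyFlat A B := by
    have : Module.FaithfullyFlat A B ↔ Module.Flat A B ∧
        ∀ (M : Type u) [AddCommGroup M] [Module A M], Subsingleton (B ⊗[A] M) → Subsingleton M :=
      (Module.FaithfullyFlat.iff_flat_and_rTensor_reflects_triviality A B).trans (and_congr_right fun _ =>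
        ⟨fun H M _ _ h => H M (TensorProduct.comm A M B).toEquiv.subsingleton,
          fun H M _ _ h => H M (TensorProduct.comm A B M).toEquiv.subsingleton⟩)
    exact this.2 ⟨hflat, fun M _ _ h => UnivInj.Descent.subsingleton_of_tensor hU M⟩
  exact (Flat.flat_and_surjective_iff_faithfullyFlat_of_isAffine c.left).2
    ((RingHom.faithfullyFlat_algebraMap_iff (R := A) (S := B)).2 hff)

/-- Let f : X ⟶ Y be a monomorphism of algebraic spaces over S that is quasi-compact, and suppose that
for every T ⟶ Y the map from the structure sheaf of T to the direct image of the structure sheaf of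
X ×_Y T is injective. Then f must be an isomorphism. The injectivity is spelled out on sections: for
every scheme T over S, every T ⟶ Y, every pullback square with corner P = X ×_Y T and every global
function s on T, if the pullback of s along every morphism from a scheme to P vanishes, then s = 0
(this is injectivity on global sections over every scheme etale over every base, which is the
sheaf-level injectivity). -/
theorem result {S : Scheme.{u}} {X Y : AlgSp.Space S} (f : X ⟶ Y)
    (hqc : AlgSp.IsQuasiCompactMor f.hom) [Mono f.hom]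
    (hinj : ∀ (T : Over S) (g : (AlgSp.yon S).obj T ⟶ Y.obj) (P : AlgSp.Sp S) (fst : P ⟶ X.obj)
      (snd : P ⟶ (AlgSp.yon S).obj T), IsPullback fst snd f.hom g →
      ∀ s : Γ(T.left, ⊤),
        (∀ (W : Over S) (a : (AlgSp.yon S).obj W ⟶ P) (c : W ⟶ T),
          a ≫ snd = (AlgSp.yon S).map c → c.left.appTop s = 0) → s = 0) :
    IsIso f.hom := by
  have key : ∀ (Z : Over S), IsAffine Z.left → ∀ (g : (AlgSp.yon S).obj Z ⟶ Y.obj) (F : AlgSp.Sp S)
      (fst : F ⟶ X.obj) (snd : F ⟶ (AlgSp.yon S).obj Z), IsPullback fst snd f.hom g → IsIso snd := by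
    intro Z hZ g F fst snd sq
    have hF : AlgSp.IsAlgSpace F :=
      Groth.Agent.AlgSp.isAlgSpace_of_isPullback' Y.property X.property (AlgSp.IsAlgSpace.yon_obj Z) sq
    have : Mono snd := PullbackCone.mono_snd_of_is_pullback_of_mono sq.isLimit
    obtain ⟨U, p, hpe, hps⟩ := hF.atlas
    have : CompactSpace (AlgSp.Points F) := Groth.Agent.AlgSp.compactSpace_points
      (hqc (AlgSp.IsAlgSpace.yon_obj Z) (Groth.Agent.AlgSp.isQuasiCompactSp_yon Z) g fst snd sq)
    obtain ⟨V, j, hV, he, hs⟩ := AlgSpB.exists_affine_chart_of_compactSpace hpe hps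
    obtain ⟨c, hc⟩ := (AlgSp.yon S).map_surjective (((AlgSp.yon S).map j ≫ p) ≫ snd)
    obtain ⟨hcf, hcs⟩ := flat_surjective_chart snd _ he hs c hc.symm fun T t x hx => by
      have sT := IsPullback.of_hasPullback snd ((AlgSp.yon S).map t)
      refine hinj T _ _ _ _ (sT.paste_horiz sq) x fun W a d ha => hx W (a ≫ pullback.fst _ _) d ?_
      rw [Category.assoc, sT.w, ← Category.assoc, ha, ← Functor.map_comp]
    have hqc' : AlgSp.IsQuasiCompactMor snd := Groth.Agent.AlgSp.isQuasiCompactMor_baseChange sq hqc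
    let sh : (⟨F, hF⟩ : AlgSp.Space S) ⟶ ⟨_, AlgSp.IsAlgSpace.yon_obj Z⟩ := ObjectProperty.homMk snd
    have : Mono sh.hom := ‹Mono snd›
    refine Groth.Agent.S10582.result sh
      hqc' (AlgSpCov.locP_of_one_chart AlgSpCov.etaleLocal_flat (fun _ _ e _ => inferInstance)
        (AlgSp.IsAlgSpace.yon_obj Z) he hs (b := 𝟙 _) ((AlgSp.RepWith _).id_mem _) (by rw [hc, Category.comp_id]; rfl) hcf)
      fun y => ?_
    obtain ⟨z, rfl⟩ := (AlgSp.Points.schemeHomeo Z).surjective y
    obtain ⟨v, hv⟩ := hcs.surj z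
    refine ⟨AlgSp.Points.ofPt ((AlgSp.yon S).map j ≫ p) v, ?_⟩
    change AlgSp.Points.map snd _ = _
    rw [AlgSp.Points.map_ofPt, ← hc, ← hv]
    exact (AlgSp.Points.ofPt_eq_map_ofScheme ((AlgSp.yon S).map c) v).trans (AlgSp.Points.map_yon_map_apply c v)
  exact AlgSpCov.isIso_of_repWith_isomorphisms f.hom
    (Groth.Agent.AlgSp.repWith_of_affine_baseChange f.hom fun Z hZ g F fst snd sq =>
      have := key Z hZ g F fst snd sq
      AlgSpCov.repWith_isomorphisms_of_isIso snd)

end Groth.Agent.S10606
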