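import Groth.Statements.S10607
import Groth.Agent.AlgSpCov.HomeoEt.Hom
import Groth.Agent.AlgSpCov.HomeoEt.Descend
-- import your own Groth.Agent.* helpers here

set_option autoImplicit false
set_option backward.isDefEq.respectTransparency.types false
universe u
open CategoryTheory CategoryTheory.Limits AlgebraicGeometry
open AlgSp

namespace Groth.Agent.S10607

/-- Take a morphism f : X ⟶ Y of algebraic spaces over S that is integral, universally injective and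
surjective. Then V ↦ X ×_Y V is an equivalence from the category of algebraic spaces etale over Y to
the category of algebraic spaces etale over X, stated through pullback squares: (full faithfulness)
given V₁', V₂' etale over Y with base changes V₁, V₂ to X, every morphism V₁ ⟶ V₂ over X is the base
change of a unique morphism V₁' ⟶ V₂' over Y; (essential surjectivity) every algebraic space etale
over X is the base change of an algebraic space etale over Y. -/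
theorem result {S : Scheme.{u}}
    {X Y : AlgSp.Space S} (f : X ⟶ Y) (h1 : AlgSp.IsIntegralMor f.hom) (h2 : AlgSp.IsUnivInjectiveMor f.hom)
    (h3 : AlgSp.IsSurjectiveMor f.hom) :
    (∀ (V₁' V₂' V₁ V₂ : AlgSp.Space S) (a₁ : V₁' ⟶ Y) (a₂ : V₂' ⟶ Y) (b₁ : V₁ ⟶ X) (b₂ : V₂ ⟶ X)
        (c₁ : V₁ ⟶ V₁') (c₂ : V₂ ⟶ V₂'),
        AlgSp.IsEtaleMor a₁.hom → AlgSp.IsEtaleMor a₂.hom →
        IsPullback b₁.hom c₁.hom f.hom a₁.hom → IsPullback b₂.hom c₂.hom f.hom a₂.hom →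
        ∀ φ : V₁ ⟶ V₂, φ ≫ b₂ = b₁ →
          ∃! φ' : V₁' ⟶ V₂', φ' ≫ a₂ = a₁ ∧ c₁ ≫ φ' = φ ≫ c₂) ∧
    (∀ (V : AlgSp.Space S) (b : V ⟶ X), AlgSp.IsEtaleMor b.hom →
        ∃ (V' : AlgSp.Space S) (a : V' ⟶ Y) (c : V ⟶ V'),
          AlgSp.IsEtaleMor a.hom ∧ IsPullback b.hom c.hom f.hom a.hom) := by
  have hf : AlgSpCov.HomeoEt.IntUH f.hom := ⟨(AlgSpCov.isIntegralMor_iff f.hom).1 h1, h2, h3⟩
  refine ⟨fun V₁' V₂' V₁ V₂ a₁ a₂ b₁ b₂ c₁ c₂ ha₁ ha₂ sq₁ sq₂ φ hφ => ?_,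
    fun V b hb => AlgSpCov.HomeoEt.exists_descend hf V b hb⟩
  obtain ⟨φ', hφ'₁, hφ'₂⟩ := AlgSpCov.HomeoEt.hom_exists hf ha₁ ha₂ sq₁ sq₂ φ hφ
  exact ⟨φ', ⟨hφ'₁, hφ'₂⟩, fun ψ hψ => AlgSpCov.HomeoEt.hom_unique hf ha₂ sq₁ (hψ.1.trans hφ'₁.symm)
    (hψ.2.trans hφ'₂.symm)⟩

end Groth.Agent.S10607
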