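import Groth.Statements.S10608
import Groth.Agent.AlgSpCov.SmallExtSp
import Groth.Agent.AlgSp.SmoothCharts
import Groth.Agent.AlgSp.NoethFib
import Groth.Agent.S1488
set_option backward.isDefEq.respectTransparency.types false

set_option autoImplicit false
universe u
open CategoryTheory CategoryTheory.Limits AlgebraicGeometry
open AlgSp

namespace Groth.Agent.S10608

open Groth.Agent.AlgSpCov

/-- Smoothness at a point gives lifts for local rings centred at the point. -/
theorem lifts_of_smoothAt {S : Scheme.{u}} {X Y : AlgSp.Space S} (f : X ⟶ Y) (x : AlgSp.Points X.obj)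
    (h : AlgSp.HasAtMor (fun U _ h u => ∃ W : U.Opens, u ∈ W ∧ Smooth (W.ι ≫ h)) f.hom x)
    {B' B : Type u} [CommRing B'] [CommRing B] [IsLocalRing B'] [IsLocalRing B] (π : B' →+* B)
    (hπ : Function.Surjective π) (h2 : RingHom.ker π ^ 2 = ⊥) (s : Spec (CommRingCat.of B') ⟶ S)
    (α : (AlgSp.yon S).obj (Over.mk (Spec.map (CommRingCat.ofHom π) ≫ s)) ⟶ X.obj)
    (β : (AlgSp.yon S).obj (Over.mk s) ⟶ Y.obj)
    (hx : AlgSp.Points.ofPt α (IsLocalRing.closedPoint B) = x)
    (w : α ≫ f.hom = (AlgSp.yon S).map (SmallExtSp.jπ π s) ≫ β) :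
    ∃ γ : (AlgSp.yon S).obj (Over.mk s) ⟶ X.obj,
      (AlgSp.yon S).map (SmallExtSp.jπ π s) ≫ γ = α ∧ γ ≫ f.hom = β := by
  obtain ⟨U, V, a, b, h, u, ha, hb, wab, hu, W, huW, hsm⟩ := h
  obtain ⟨e, he⟩ := SmallExtSp.exists_iso π hπ s
  have he' : e.inv ≫ SmallExtSp.jπ π s = SmallExtSp.jπ (Ideal.Quotient.mk (RingHom.ker π)) s := by
    rw [Iso.inv_comp_eq, he]
  let sq : AlgSp.InfSq f.hom := ⟨B', RingHom.ker π, h2, s, (AlgSp.yon S).map e.inv ≫ α, β, by
    rw [Category.assoc, w, ← Functor.map_comp_assoc, he']⟩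
  let U' : Over S := Over.mk (W.ι ≫ U.hom)
  let i : U' ⟶ U := Over.homMk W.ι rfl
  have hi : Etale i.left := inferInstanceAs (Etale W.ι)
  have : IsLocalRing (B' ⧸ RingHom.ker π) := by
    have : Nontrivial (B' ⧸ RingHom.ker π) := Ideal.Quotient.nontrivial_iff.2 (RingHom.ker_ne_top π)
    exact .of_surjective' _ Ideal.Quotient.mk_surjective
  have ha' : AlgSp.RepWith @Etale ((AlgSp.yon S).map i ≫ a) :=
    (AlgSp.repWith_isMultiplicative _).comp_mem _ _ ((AlgSp.repWith_yon_map_iff _ _).2 hi) ha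
  let c₀ : ↥(Over.mk (Spec.map (CommRingCat.ofHom (Ideal.Quotient.mk (RingHom.ker π))) ≫ s)).left :=
    e.hom.left (IsLocalRing.closedPoint B)
  have hc₀ : AlgSp.Points.ofPt ((AlgSp.yon S).map e.inv ≫ α) c₀ = x := by
    rw [Groth.Agent.AlgSpB.ofPt_map_comp, ← hx]
    refine congrArg _ ?_
    exact congr(($(e.hom_inv_id)).left (IsLocalRing.closedPoint B))
  have hmax : ∀ z, z ⤳ c₀ := by
    intro z
    have h1 := ((IsLocalRing.specializes_closedPoint (e.inv.left z : PrimeSpectrum B))).map e.hom.left.continuous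
    have h2 : e.hom.left (e.inv.left z) = z := congr(($(e.inv_hom_id)).left z)
    exact h2 ▸ h1
  have hsurj : Surjective (ha'.1.snd sq.top).left := by
    have : Etale (ha'.1.snd sq.top).left := ha'.2 _ _ _ (ha'.1.isPullback sq.top)
    obtain ⟨v, hv⟩ := (AlgSp.yon S).map_surjective (ha'.1.fst sq.top)
    have hsq := ha'.1.isPullback sq.top
    rw [← hv] at hsq
    obtain ⟨z, -, hz⟩ := (Groth.Agent.AlgSpB.ofPt_eq_ofPt_iff hsq (⟨u, huW⟩ : W) c₀).1 (by
      rw [Groth.Agent.AlgSpB.ofPt_map_comp]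
      exact hu.trans hc₀.symm)
    refine ⟨fun y => ?_⟩
    exact (hmax y).mem_open (Scheme.Hom.isOpenMap (ha'.1.snd sq.top).left).isOpen_range ⟨z, hz⟩
  obtain ⟨l, hl₁, hl₂⟩ := Groth.Agent.AlgSp.SmoothCharts.hasLift_of_charts_at sq ((AlgSp.yon S).map i ≫ a) b
    (i ≫ h) ha' hsurj hb (by rw [Category.assoc, wab, Functor.map_comp, Category.assoc])
    ((Groth.Agent.S1488.result (W.ι ≫ h.left)).1 hsm).2
  refine ⟨l, ?_, hl₂⟩
  rw [← he, Functor.map_comp, Category.assoc]
  erw [hl₁]
  rw [← Functor.map_comp_assoc, e.hom_inv_id, CategoryTheory.Functor.map_id]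
  exact Category.id_comp _


/-- Take a morphism f : X ⟶ Y of algebraic spaces over S that is locally of finite type, with Y locally
Noetherian, and let x be a point of X. The following are equivalent: (1) f is smooth at x (in some
chart diagram through x the chart morphism is smooth on an open neighbourhood); (2) for every
surjection π : B' → B of local rings with kernel of square zero, every structure map Spec B' ⟶ S,
every α : Spec B ⟶ X sending the closed point to x and every β : Spec B' ⟶ Y with α ≫ f = Spec(π) ≫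
β there is γ : Spec B' ⟶ X with Spec(π) ≫ γ = α and γ ≫ f = β; (3) the same for π ranging over
surjections of Artinian local rings with kernel principal and killed by the maximal ideal. Stated as
(1) ↔ (2) and (1) ↔ (3). -/
theorem result {S : Scheme.{u}} {X Y : AlgSp.Space S} (f : X ⟶ Y)
    (hY : AlgSp.IsLocNoethSp Y.obj) (hft : AlgSp.LocP @LocallyOfFiniteType f.hom) (x : AlgSp.Points X.obj) :
    (AlgSp.HasAtMor (fun U _ h u => ∃ W : U.Opens, u ∈ W ∧ Smooth (W.ι ≫ h)) f.hom x ↔
      ∀ (B' B : Type u) [CommRing B'] [CommRing B] [IsLocalRing B'] [IsLocalRing B] (π : B' →+* B),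
        Function.Surjective π → RingHom.ker π ^ 2 = ⊥ →
        ∀ (s : Spec (CommRingCat.of B') ⟶ S)
          (α : (AlgSp.yon S).obj (Over.mk (Spec.map (CommRingCat.ofHom π) ≫ s)) ⟶ X.obj)
          (β : (AlgSp.yon S).obj (Over.mk s) ⟶ Y.obj),
          AlgSp.Points.ofPt α (IsLocalRing.closedPoint B) = x →
          α ≫ f.hom = (AlgSp.yon S).map
            (Over.homMk (Spec.map (CommRingCat.ofHom π)) :
              Over.mk (Spec.map (CommRingCat.ofHom π) ≫ s) ⟶ Over.mk s) ≫ β →
          ∃ γ : (AlgSp.yon S).obj (Over.mk s) ⟶ X.obj,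
            (AlgSp.yon S).map (Over.homMk (Spec.map (CommRingCat.ofHom π)) :
              Over.mk (Spec.map (CommRingCat.ofHom π) ≫ s) ⟶ Over.mk s) ≫ γ = α ∧ γ ≫ f.hom = β) ∧
    (AlgSp.HasAtMor (fun U _ h u => ∃ W : U.Opens, u ∈ W ∧ Smooth (W.ι ≫ h)) f.hom x ↔
      ∀ (B' B : Type u) [CommRing B'] [CommRing B] [IsLocalRing B'] [IsLocalRing B]
        [IsArtinianRing B'] [IsArtinianRing B] (π : B' →+* B), Function.Surjective π →
        (∃ t : B', RingHom.ker π = Ideal.span {t} ∧ ∀ a ∈ IsLocalRing.maximalIdeal B', a * t = 0) →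
        ∀ (s : Spec (CommRingCat.of B') ⟶ S)
          (α : (AlgSp.yon S).obj (Over.mk (Spec.map (CommRingCat.ofHom π) ≫ s)) ⟶ X.obj)
          (β : (AlgSp.yon S).obj (Over.mk s) ⟶ Y.obj),
          AlgSp.Points.ofPt α (IsLocalRing.closedPoint B) = x →
          α ≫ f.hom = (AlgSp.yon S).map
            (Over.homMk (Spec.map (CommRingCat.ofHom π)) :
              Over.mk (Spec.map (CommRingCat.ofHom π) ≫ s) ⟶ Over.mk s) ≫ β →
          ∃ γ : (AlgSp.yon S).obj (Over.mk s) ⟶ X.obj,
            (AlgSp.yon S).map (Over.homMk (Spec.map (CommRingCat.ofHom π)) :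
              Over.mk (Spec.map (CommRingCat.ofHom π) ≫ s) ⟶ Over.mk s) ≫ γ = α ∧ γ ≫ f.hom = β) := by
  have h31 : (∀ (B' B : Type u) [CommRing B'] [CommRing B] [IsLocalRing B'] [IsLocalRing B]
        [IsArtinianRing B'] [IsArtinianRing B] (π : B' →+* B), Function.Surjective π →
        (∃ t : B', RingHom.ker π = Ideal.span {t} ∧ ∀ a ∈ IsLocalRing.maximalIdeal B', a * t = 0) →
        ∀ (s : Spec (CommRingCat.of B') ⟶ S)
          (α : (AlgSp.yon S).obj (Over.mk (Spec.map (CommRingCat.ofHom π) ≫ s)) ⟶ X.obj)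
          (β : (AlgSp.yon S).obj (Over.mk s) ⟶ Y.obj),
          AlgSp.Points.ofPt α (IsLocalRing.closedPoint B) = x →
          α ≫ f.hom = (AlgSp.yon S).map (SmallExtSp.jπ π s) ≫ β →
          ∃ γ : (AlgSp.yon S).obj (Over.mk s) ⟶ X.obj,
            (AlgSp.yon S).map (SmallExtSp.jπ π s) ≫ γ = α ∧ γ ≫ f.hom = β) →
      AlgSp.HasAtMor (fun U _ h u => ∃ W : U.Opens, u ∈ W ∧ Smooth (W.ι ≫ h)) f.hom x := by
    intro H
    obtain ⟨U, V, a, b, h, ha, has, hb, -, wab⟩ :=
      Groth.Agent.AlgSp.InfCharts.exists_chart X.property Y.property f.hom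
    obtain ⟨p, hp⟩ := (Groth.Agent.AlgSp.repWith_surjective_iff a has.1).1 has x
    obtain ⟨u, rfl⟩ := (AlgSp.Points.schemeEquiv U).surjective p
    have hu : AlgSp.Points.ofPt a u = x := (AlgSp.Points.ofPt_eq_map_ofScheme a u).trans hp
    refine ⟨U, V, a, b, h, u, ha, hb, wab, hu, ?_⟩
    have : IsLocallyNoetherian V.left := Groth.Agent.AlgSp.isLocallyNoetherian_of_etale_chart b hb hY
    have hl : LocallyOfFiniteType h.left := hft a b h ha hb wab
    obtain ⟨W, hW, hxW, -⟩ := exists_isAffineOpen_mem_and_subset (X := V.left) (x := h.left u) (U := ⊤) trivial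
    obtain ⟨U₁, hU₁, huU, hle⟩ := exists_isAffineOpen_mem_and_subset (X := U.left) (x := u)
      (U := h.left ⁻¹ᵁ W) hxW
    let η := h.left.appLE W U₁ hle
    have hfin : η.hom.FiniteType :=
      HasRingHomProperty.appLE @LocallyOfFiniteType h.left hl ⟨W, hW⟩ ⟨U₁, hU₁⟩ hle
    have : IsNoetherianRing Γ(V.left, W) := IsLocallyNoetherian.component_noetherian ⟨W, hW⟩
    algebraize [η.hom]
    have : Algebra.FinitePresentation Γ(V.left, W) Γ(U.left, U₁) :=
      Algebra.FinitePresentation.of_finiteType.1 inferInstance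
    let q := hU₁.primeIdealOf ⟨u, huU⟩
    have : Algebra.IsSmoothAt Γ(V.left, W) q.asIdeal :=
      SmallExtSmooth.isSmoothAt_of_smallLifts q.asIdeal
        (SmallExtSp.smallLifts_of_lifts False ha hb wab hW hU₁ hle q False.elim
          fun B' B _ _ _ _ _ _ π hπ hker s α β hpt _ w' => H B' B π hπ hker s α β (by
            rw [hpt, ← hu]
            exact congrArg _ (hU₁.fromSpec_primeIdealOf ⟨u, huU⟩)) w')
    obtain ⟨r, hr, hrsm⟩ := Algebra.IsSmoothAt.exists_notMem_smooth Γ(V.left, W) q.asIdeal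
    let g : Spec (CommRingCat.of (Localization.Away r)) ⟶ U.left :=
      Spec.map (CommRingCat.ofHom (algebraMap Γ(U.left, U₁) (Localization.Away r))) ≫ hU₁.fromSpec
    have : IsOpenImmersion (Spec.map (CommRingCat.ofHom (algebraMap Γ(U.left, U₁) (Localization.Away r)))) :=
      IsOpenImmersion.of_isLocalization r
    refine ⟨g.opensRange, ?_, ?_⟩
    · obtain ⟨d, hd⟩ : q ∈ Set.range (PrimeSpectrum.comap (algebraMap Γ(U.left, U₁) (Localization.Away r))) := by
        rw [PrimeSpectrum.localization_away_comap_range _ r]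
        exact hr
      refine ⟨d, ?_⟩
      exact (congrArg hU₁.fromSpec hd).trans (hU₁.fromSpec_primeIdealOf ⟨u, huU⟩)
    · have hg : g ≫ h.left = Spec.map (CommRingCat.ofHom (algebraMap Γ(V.left, W) (Localization.Away r))) ≫
          hW.fromSpec := by
        simp only [g, Category.assoc]
        rw [← IsAffineOpen.SpecMap_appLE_fromSpec h.left hW hU₁ hle, ← Spec.map_comp_assoc]
        rfl
      have : Smooth (Spec.map (CommRingCat.ofHom (algebraMap Γ(V.left, W) (Localization.Away r)))) :=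
        (HasRingHomProperty.Spec_iff (P := @Smooth)).2 (RingHom.smooth_algebraMap.2 hrsm)
      rw [← Scheme.Hom.isoOpensRange_inv_comp g, Category.assoc, hg]
      infer_instance
  have hker2 : ∀ (B' B : Type u) [CommRing B'] [CommRing B] [IsLocalRing B'] [IsLocalRing B] (π : B' →+* B),
      (∃ t : B', RingHom.ker π = Ideal.span {t} ∧ ∀ a ∈ IsLocalRing.maximalIdeal B', a * t = 0) →
        RingHom.ker π ^ 2 = ⊥ := by
    intro B' B _ _ _ _ π ⟨t, ht, htm⟩
    have htm' : t ∈ IsLocalRing.maximalIdeal B' :=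
      IsLocalRing.le_maximalIdeal (RingHom.ker_ne_top π) (ht ▸ Ideal.mem_span_singleton_self t)
    rw [ht, Ideal.span_singleton_pow, Ideal.span_singleton_eq_bot, pow_two]
    exact htm t htm'
  exact ⟨⟨fun h B' B _ _ _ _ π hπ h2 s α β hx w => lifts_of_smoothAt f x h π hπ h2 s α β hx w,
      fun H => h31 fun B' B _ _ _ _ _ _ π hπ hk s α β hx w => H B' B π hπ (hker2 B' B π hk) s α β hx w⟩,
    ⟨fun h B' B _ _ _ _ _ _ π hπ hk s α β hx w => lifts_of_smoothAt f x h π hπ (hker2 B' B π hk) s α β hx w,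
      h31⟩⟩

end Groth.Agent.S10608
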