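import Groth.Statements.S10609
import Groth.Agent.AlgSpCov.FlatLocus
-- import your own Groth.Agent.* helpers here

set_option backward.isDefEq.respectTransparency.types false
set_option autoImplicit false
universe u
open CategoryTheory CategoryTheory.Limits AlgebraicGeometry
open AlgSp

namespace Groth.Agent.S10609

/-- Let f : X ⟶ Y and h : Y ⟶ Z be morphisms of algebraic spaces over S with X locally of finite
presentation and flat over Z and Y locally of finite type over Z. Then the set of points of X at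
which f is flat is open in the space of points of X, and its formation commutes with base change:
for Z' ⟶ Z and pullback squares Y' = Y ×_Z Z', X' = X ×_Y Y', the set of points of X' at which X' ⟶
Y' is flat is the inverse image of that set under the map on points of X' ⟶ X. -/
theorem result {S : Scheme.{u}} {X Y Z : AlgSp.Space S} (f : X ⟶ Y) (h : Y ⟶ Z)
    (hfp : AlgSp.LocP @LocallyOfFinitePresentation (f ≫ h).hom) (hfl : AlgSp.LocP @Flat (f ≫ h).hom)
    (hft : AlgSp.LocP @LocallyOfFiniteType h.hom) :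
    IsOpen {x : AlgSp.Points X.obj | AlgSp.IsFlatAtMor f.hom x} ∧
    ∀ (X' Y' Z' : AlgSp.Space S) (g : Z' ⟶ Z) (f' : X' ⟶ Y') (h' : Y' ⟶ Z') (pX : X' ⟶ X) (pY : Y' ⟶ Y),
      IsPullback pY.hom h'.hom h.hom g.hom → IsPullback pX.hom f'.hom f.hom pY.hom →
      {x' : AlgSp.Points X'.obj | AlgSp.IsFlatAtMor f'.hom x'} =
        AlgSp.Points.map pX.hom ⁻¹' {x : AlgSp.Points X.obj | AlgSp.IsFlatAtMor f.hom x} := by
  obtain ⟨W, c, hc, hcs⟩ := Z.property.atlas
  obtain ⟨V, b, g₂, hb, hbs, w₂⟩ := Groth.Agent.AlgSp.exists_chart_lift Y.property Z.property h.hom c hc hcs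
  obtain ⟨U, a, g₁, ha, has, w₁⟩ := Groth.Agent.AlgSp.exists_chart_lift X.property Y.property f.hom b hb hbs
  have lfp_of : ∀ {U V W : Over S} (a : (AlgSp.yon S).obj U ⟶ X.obj) (b : (AlgSp.yon S).obj V ⟶ Y.obj)
      (c : (AlgSp.yon S).obj W ⟶ Z.obj) (g₁ : U ⟶ V) (g₂ : V ⟶ W), AlgSp.RepWith @Etale a →
      AlgSp.RepWith @Etale b → AlgSp.RepWith @Etale c → a ≫ f.hom = (AlgSp.yon S).map g₁ ≫ b →
      b ≫ h.hom = (AlgSp.yon S).map g₂ ≫ c →
      LocallyOfFinitePresentation (g₁.left ≫ g₂.left) ∧ LocallyOfFiniteType g₂.left ∧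
        Flat (g₁.left ≫ g₂.left) := by
    intro U V W a b c g₁ g₂ ha hb hc w₁ w₂
    have w : a ≫ (f ≫ h).hom = (AlgSp.yon S).map (g₁ ≫ g₂) ≫ c := by
      change a ≫ f.hom ≫ h.hom = _
      rw [← Category.assoc, w₁, Category.assoc, w₂, Functor.map_comp, Category.assoc]
    exact ⟨hfp a c (g₁ ≫ g₂) ha hc w, hft b c g₂ hb hc w₂, hfl a c (g₁ ≫ g₂) ha hc w⟩
  obtain ⟨hl₁, hl₂, hl₃⟩ := lfp_of a b c g₁ g₂ ha hb hc w₁ w₂
  have hg₁ : LocallyOfFinitePresentation g₁.left :=
    Groth.Agent.GrpScheme.FlatFib.locallyOfFinitePresentation_of_comp g₁.left g₂.left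
  have hflfp : AlgSp.LocP @LocallyOfFinitePresentation f.hom :=
    Groth.Agent.AlgSpCov.locP_of_one_chart Groth.Agent.AlgSpCov.etaleLocal_locallyOfFinitePresentation
      (fun _ _ e he => inferInstance) Y.property ha has hb w₁ hg₁
  have key := fun (u : ↥U.left) => Groth.Agent.AlgSpCov.FlatLocus.isFlatAtMor_iff X.property Y.property
    hflfp ha hb w₁ u
  refine ⟨?_, fun X' Y' Z' g f' h' pX pY hY hX => ?_⟩
  · have e : {x : AlgSp.Points X.obj | AlgSp.IsFlatAtMor f.hom x} =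
        AlgSp.Points.ofPt a '' {u : ↥U.left | (g₁.left.stalkMap u).hom.Flat} := by
      ext x
      obtain ⟨u, rfl⟩ := Groth.Agent.AlgSpB.surjective_ofPt has x
      refine ⟨fun hx => ⟨u, (key u).1 hx, rfl⟩, ?_⟩
      rintro ⟨v, hv, e⟩
      rw [Set.mem_ofPred_eq, ← e]
      exact (key v).2 hv
    rw [e]
    exact Groth.Agent.AlgSpB.isOpenMap_ofPt ha _ (Groth.Agent.FlatOpen.Scheme.isOpen_stalkMap_flat g₁.left)
  · obtain ⟨W', c', k, hc', hc's, wk⟩ :=
      Groth.Agent.AlgSp.exists_chart_lift Z'.property Z.property g.hom c hc hcs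
    obtain ⟨V₁, V₁', b₁, g₂', b', g₂'', v, hb₁, w₂', hb', hb's, w₂'', wv, sqV⟩ :=
      Groth.Agent.AlgSpCov.FlatLocus.exists_chart_baseChange Y.property hY hc hc' hc's wk Z.property
    obtain ⟨U₁, U₁', a₁, g₁', a', g₁'', r, ha₁, w₁', ha', ha's, w₁'', wr, sqU⟩ :=
      Groth.Agent.AlgSpCov.FlatLocus.exists_chart_baseChange X.property hX hb₁ hb' hb's wv Y.property
    obtain ⟨hl₁', hl₂', hl₃'⟩ := lfp_of a₁ b₁ c g₁' g₂' ha₁ hb₁ hc w₁' w₂'
    have hf'lfp : AlgSp.LocP @LocallyOfFinitePresentation f'.hom :=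
      Groth.Agent.AlgSpCov.locP_baseChange Groth.Agent.AlgSpCov.etaleLocal_locallyOfFinitePresentation
        X.property Y.property hX hflfp
    ext x'
    obtain ⟨u', rfl⟩ := Groth.Agent.AlgSpB.surjective_ofPt ha's x'
    have hpt : AlgSp.Points.map pX.hom (AlgSp.Points.ofPt a' u') = AlgSp.Points.ofPt a₁ (r.left u') := by
      rw [AlgSp.Points.map_ofPt, wr, Groth.Agent.AlgSpB.ofPt_map_comp]
    rw [Set.mem_preimage, Set.mem_ofPred_eq, Set.mem_ofPred_eq, hpt,
      Groth.Agent.AlgSpCov.FlatLocus.isFlatAtMor_iff X'.property Y'.property hf'lfp ha' hb' w₁'' u',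
      Groth.Agent.AlgSpCov.FlatLocus.isFlatAtMor_iff X.property Y.property hflfp ha₁ hb₁ w₁' (r.left u')]
    have sV : IsPullback v.left g₂''.left g₂'.left k.left := sqV.map (Over.forget S)
    have sU : IsPullback r.left g₁''.left g₁'.left v.left := sqU.map (Over.forget S)
    exact Groth.Agent.AlgSpCov.FlatLocus.flat_stalkMap_baseChange sV sU u'

end Groth.Agent.S10609
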