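import Groth.Statements.S10610
import Groth.Agent.AlgSpCov.ThickDeform
import Groth.Agent.AlgSpCov.ThickGlobal
-- import your own Groth.Agent.* helpers here

set_option backward.isDefEq.respectTransparency.types false
set_option autoImplicit false
universe u
open CategoryTheory CategoryTheory.Limits AlgebraicGeometry
open AlgSp

namespace Groth.Agent.S10610

open Groth.Agent.AlgSpCov.ThickCharts Groth.Agent.AlgSpCov.ThickDeform

/-- Let iB : B ⟶ B' be a finite order thickening of algebraic spaces over S (a thickening such that for
one n the (n+1)-st power of the ideal vanishes on every affine etale scheme chart), f' : X' ⟶ Y' a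
morphism of algebraic spaces over B' (via g' : Y' ⟶ B') with X' flat over B', and f : X ⟶ Y, g : Y ⟶
B its base change to B (both squares to iB cartesian, iX ≫ f' = f ≫ iY). Then f is finite if and
only if f' is finite. (The published statement lists eleven further properties with the same
equivalence: representable by schemes, quasi-compact, universally closed, separated,
quasi-separated, surjective, universally injective, affine, universally open, proper and integral.
Since iX and iY are again thickenings and X = Y ×_{Y'} X', those cases follow from the corresponding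
statements for morphisms of thickenings and are not restated here.) -/
theorem result {S : Scheme.{u}} {X X' Y Y' B B' : AlgSp.Space S} (iX : X ⟶ X') (iY : Y ⟶ Y') (iB : B ⟶ B')
    (f : X ⟶ Y) (f' : X' ⟶ Y') (g : Y ⟶ B) (g' : Y' ⟶ B')
    (hcX : IsPullback iX.hom (f ≫ g).hom (f' ≫ g').hom iB.hom) (hcY : IsPullback iY.hom g.hom g'.hom iB.hom)
    (w : iX ≫ f' = f ≫ iY)
    (hB : AlgSp.IsFinThickMor iB.hom) (hflat : AlgSp.LocP @Flat (f' ≫ g').hom) :
    (AlgSp.IsFiniteMor f.hom ↔ AlgSp.IsFiniteMor f'.hom) := by
  have hc : IsPullback iX.hom f.hom f'.hom iY.hom :=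
    IsPullback.of_bot hcX (congrArg InducedCategory.Hom.hom w) hcY
  have hBt : AlgSp.IsThickMor iB.hom := hB.choose_spec.1
  have hi := isThickMor_of_baseChange hcX hBt
  have hj := isThickMor_of_baseChange hcY hBt
  have hlft : AlgSp.LocP @LocallyOfFiniteType f.hom → AlgSp.LocP @LocallyOfFiniteType f'.hom :=
    locP_deform Groth.Agent.AlgSpCov.etaleLocal_locallyOfFiniteType (fun _ _ e he => inferInstance) hcX hcY w hB
      hflat fun A A' B B' C C' iA iB iC h h' k k' hC hA hB' w' hfl hh =>
        have := hh
        lft_deform_scheme hC hA hB' w'
  obtain ⟨-, -, hfin, -⟩ := global_iff hi hj hc.w hc hlft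
  exact hfin

end Groth.Agent.S10610
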