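import Groth.Statements.S10613
import Groth.Agent.AlgSpCov.UnramMono
-- import your own Groth.Agent.* helpers here

set_option backward.isDefEq.respectTransparency.types false
set_option autoImplicit false
universe u
open CategoryTheory CategoryTheory.Limits AlgebraicGeometry
open AlgSp

namespace Groth.Agent.S10613

open Groth.Agent.AlgSpCov.UnramMono

/-- For a morphism f : X ⟶ Y of algebraic spaces over S, these four conditions on f are equivalent: (a)
unramified plus monomorphism; (b) unramified plus universally injective; (c) a monomorphism that is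
locally of finite type; (d) universally injective, locally of finite type and formally unramified
(lifting sense). In that case f is representable by schemes, separated and locally quasi-finite.
(Unramified is the etale-local condition locally of finite type and formally unramified on charts;
monomorphisms are taken in fppf sheaves.) -/
theorem result {S : Scheme.{u}} {X Y : AlgSp.Space S} (f : X ⟶ Y) :
    ((AlgSp.LocP (@LocallyOfFiniteType ⊓ @FormallyUnramified) f.hom ∧ Mono f.hom) ↔
      (AlgSp.LocP (@LocallyOfFiniteType ⊓ @FormallyUnramified) f.hom ∧ AlgSp.IsUnivInjectiveMor f.hom)) ∧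
    ((AlgSp.LocP (@LocallyOfFiniteType ⊓ @FormallyUnramified) f.hom ∧ Mono f.hom) ↔
      (AlgSp.LocP @LocallyOfFiniteType f.hom ∧ Mono f.hom)) ∧
    ((AlgSp.LocP (@LocallyOfFiniteType ⊓ @FormallyUnramified) f.hom ∧ Mono f.hom) ↔
      (AlgSp.IsUnivInjectiveMor f.hom ∧ AlgSp.LocP @LocallyOfFiniteType f.hom ∧ AlgSp.IsFormallyUnramifiedMor f.hom)) ∧
    (AlgSp.LocP @LocallyOfFiniteType f.hom ∧ Mono f.hom →
      AlgSp.Representable f.hom ∧ AlgSp.IsSeparatedMor f.hom ∧
        AlgSp.LocP (@LocallyQuasiFinite ⊓ @LocallyOfFiniteType) f.hom) := by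
  have e1 : AlgSp.LocP (@LocallyOfFiniteType ⊓ @FormallyUnramified) f.hom →
      AlgSp.LocP @LocallyOfFiniteType f.hom := fun h U V a b g ha hb w => (h a b g ha hb w).1
  have e2 := (Groth.Agent.S10621.result f).1
  refine ⟨⟨fun ⟨hu, hm⟩ => ⟨hu, isUnivInjectiveMor_of_mono f.hom⟩,
      fun ⟨hu, hi⟩ => ⟨hu, mono_of_unramified_univInjective f hu hi⟩⟩,
    ⟨fun ⟨hu, hm⟩ => ⟨e1 hu, hm⟩, fun ⟨hft, hm⟩ => ⟨unramified_of_mono_lft f hft, hm⟩⟩,
    ⟨fun ⟨hu, hm⟩ => ⟨isUnivInjectiveMor_of_mono f.hom, e1 hu, e2.2 fun U V a b g ha hb w => (hu a b g ha hb w).2⟩,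
      fun ⟨hi, hft, hfu⟩ => ?_⟩, fun ⟨hft, hm⟩ => ?_⟩
  · have hu : AlgSp.LocP (@LocallyOfFiniteType ⊓ @FormallyUnramified) f.hom :=
      fun U V a b g ha hb w => ⟨hft a b g ha hb w, e2.1 hfu a b g ha hb w⟩
    exact ⟨hu, mono_of_unramified_univInjective f hu hi⟩
  · exact ⟨representable_of_mono_lft f hft, isSeparatedMor_of_mono f.hom, lqf_of_mono_lft f hft⟩

end Groth.Agent.S10613
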