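import Groth.Statements.S10614
import Groth.Agent.AlgSpCov.UnramMono
import Groth.Agent.S10613
import Groth.Agent.S10264
import Groth.Agent.S9928
-- import your own Groth.Agent.* helpers here

set_option backward.isDefEq.respectTransparency.types false
set_option autoImplicit false
universe u
open CategoryTheory CategoryTheory.Limits AlgebraicGeometry
open AlgSp

namespace Groth.Agent.S10614

open Groth.Agent.AlgSpCov.UnramMono

/-- For a morphism f : X ⟶ Y of algebraic spaces over S, being a closed immersion (representable by
closed immersions) is equivalent to each of: (a) universally closed plus unramified plus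
monomorphism; (b) universally closed plus unramified plus universally injective; (c) a universally
closed monomorphism that is locally of finite type; (d) universally closed, universally injective,
locally of finite type and formally unramified (lifting sense). (Unramified is the etale-local
condition locally of finite type and formally unramified on charts; monomorphisms are taken in fppf
sheaves.) -/
theorem result {S : Scheme.{u}} {X Y : AlgSp.Space S} (f : X ⟶ Y) :
    (AlgSp.RepWith @IsClosedImmersion f.hom ↔
      (AlgSp.IsUnivClosedMor f.hom ∧ AlgSp.LocP (@LocallyOfFiniteType ⊓ @FormallyUnramified) f.hom ∧ Mono f.hom)) ∧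
    (AlgSp.RepWith @IsClosedImmersion f.hom ↔
      (AlgSp.IsUnivClosedMor f.hom ∧ AlgSp.LocP (@LocallyOfFiniteType ⊓ @FormallyUnramified) f.hom ∧ AlgSp.IsUnivInjectiveMor f.hom)) ∧
    (AlgSp.RepWith @IsClosedImmersion f.hom ↔
      (AlgSp.IsUnivClosedMor f.hom ∧ AlgSp.LocP @LocallyOfFiniteType f.hom ∧ Mono f.hom)) ∧
    (AlgSp.RepWith @IsClosedImmersion f.hom ↔
      (AlgSp.IsUnivClosedMor f.hom ∧ AlgSp.IsUnivInjectiveMor f.hom ∧ AlgSp.LocP @LocallyOfFiniteType f.hom ∧
        AlgSp.IsFormallyUnramifiedMor f.hom)) := by
  obtain ⟨hab, hac, had, -⟩ := Groth.Agent.S10613.result f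
  have key : AlgSp.RepWith @IsClosedImmersion f.hom ↔
      (AlgSp.IsUnivClosedMor f.hom ∧ AlgSp.LocP (@LocallyOfFiniteType ⊓ @FormallyUnramified) f.hom ∧ Mono f.hom) := by
    refine ⟨fun h => ?_, fun ⟨hc, hu, hm⟩ =>
      repWith_isClosedImmersion f (fun U V a b g ha hb w => (hu a b g ha hb w).1) hc⟩
    have hi : AlgSp.RepWith @IsImmersion f.hom :=
      AlgSp.repWith_mono (fun g hg => (have : IsClosedImmersion g := hg; (inferInstance : IsImmersion g))) h
    exact ⟨Groth.Agent.AlgSp.isUnivClosedMor_of_repWith
        (AlgSp.repWith_mono (fun g hg => (have : IsClosedImmersion g := hg; (inferInstance : UniversallyClosed g))) h),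
      Groth.Agent.S10264.result f hi, Groth.Agent.S9928.result f hi⟩
  refine ⟨key, key.trans (and_congr_right fun _ => hab), key.trans (and_congr_right fun _ => hac),
    key.trans (and_congr_right fun _ => had)⟩

end Groth.Agent.S10614
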