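import Groth.Statements.S10616
import Groth.Agent.AlgSp.InfEtale
import Groth.Agent.AlgSp.InfScheme
import Groth.Agent.S1486
-- import your own Groth.Agent.* helpers here

set_option autoImplicit false
universe u
open CategoryTheory CategoryTheory.Limits AlgebraicGeometry
open AlgSp

set_option backward.isDefEq.respectTransparency false

open Groth.Agent

namespace Groth.Agent.S10616

/-- Let a : F ⟶ G be a morphism of fppf sheaves on (Sch/S). If a is representable and smooth, then a is
formally smooth; if a is representable and etale, then a is formally etale; if a is representable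
and unramified, then a is formally unramified (lifting conditions against square-zero thickenings of
affine schemes). (The published statement is for transformations of arbitrary presheaves of sets on
(Sch/S)_fppf; this row takes fppf sheaves, the case of algebraic spaces.) -/
theorem result {S : Scheme.{u}} {F G : AlgSp.Sp S} (a : F ⟶ G) :
    (AlgSp.RepWith @Smooth a → AlgSp.IsFormallySmoothMor a) ∧
    (AlgSp.RepWith @Etale a → AlgSp.IsFormallyEtaleMor a) ∧
    (AlgSp.RepWith (@LocallyOfFiniteType ⊓ @FormallyUnramified) a → AlgSp.IsFormallyUnramifiedMor a) := by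
  refine ⟨fun h sq => ?_, Groth.Agent.AlgSp.InfEtale.formallyEtale_of_repWith_etale, fun h sq => ?_⟩
  · have hp : Smooth (h.1.snd sq.bot).left := h.2 _ _ _ (h.1.isPullback sq.bot)
    have hfs : MoreMor.IsFormallySmoothHom (h.1.snd sq.bot).left :=
      (Groth.Agent.S1486.result _).2 fun U V hU hV hUV => by
        let _ := ((h.1.snd sq.bot).left.appLE V U hUV).hom.toAlgebra
        have : Algebra.Smooth _ _ := HasRingHomProperty.appLE (P := @Smooth) _ hp ⟨V, hV⟩ ⟨U, hU⟩ hUV
        infer_instance
    let σ := h.1.lift (g := sq.bot) sq.top sq.j sq.comm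
    obtain ⟨m, hm₁, hm₂⟩ := (Groth.Agent.AlgSp.InfScheme.formallySmooth_iff (h.1.snd sq.bot)).2 hfs
      ⟨sq.A, sq.I, sq.sq_zero, sq.str, (AlgSp.yon S).map σ, 𝟙 _, by
        rw [← Functor.map_comp]
        simp [σ]⟩
    refine ⟨m ≫ h.1.fst sq.bot, ?_, ?_⟩
    · rw [← Category.assoc]
      erw [hm₁]
      simp [σ]
    · rw [Category.assoc, (h.1.isPullback sq.bot).w, ← Category.assoc]
      erw [hm₂]
      exact Category.id_comp _
  · intro l l' h₁ h₂ h₃ h₄
    have hp : FormallyUnramified (h.1.snd sq.bot).left := (h.2 _ _ _ (h.1.isPullback sq.bot)).2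
    obtain ⟨x, hx, hx'⟩ := (h.1.isPullback sq.bot).exists_lift l (𝟙 _) (by simpa using h₂)
    obtain ⟨y, hy, hy'⟩ := (h.1.isPullback sq.bot).exists_lift l' (𝟙 _) (by simpa using h₄)
    have e : x = y := by
      refine Groth.Agent.AlgSp.InfEtale.formallyUnramified_yon (h.1.snd sq.bot)
        ⟨sq.A, sq.I, sq.sq_zero, sq.str, (AlgSp.yon S).map sq.j ≫ x, 𝟙 _, by rw [Category.assoc, hx']⟩
        x y rfl hx' ?_ hy'
      refine (h.1.isPullback sq.bot).hom_ext ?_ ?_
      · simp only [Category.assoc]
        erw [hx, hy, h₁, h₃]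
      · simp only [Category.assoc]
        exact congrArg (_ ≫ ·) (hy'.trans hx'.symm)
    rw [← hx, ← hy, e]

end Groth.Agent.S10616
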