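import Groth.Statements.S10618
-- import your own Groth.Agent.* helpers here

set_option autoImplicit false
universe u
open CategoryTheory CategoryTheory.Limits AlgebraicGeometry
open AlgSp

namespace Groth.Agent.S10618

/-- Let a : F ⟶ G and b : G ⟶ H be morphisms of fppf sheaves on (Sch/S) with b formally unramified. If a
≫ b is formally unramified, resp. formally etale, resp. formally smooth, then so is a. (The
published statement is for transformations of arbitrary presheaves of sets on (Sch/S)_fppf; this row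
takes fppf sheaves, the case of algebraic spaces.) -/
theorem result {S : Scheme.{u}} {F G H : AlgSp.Sp S} (a : F ⟶ G) (b : G ⟶ H)
    (hb : AlgSp.IsFormallyUnramifiedMor b) :
    (AlgSp.IsFormallyUnramifiedMor (a ≫ b) → AlgSp.IsFormallyUnramifiedMor a) ∧
    (AlgSp.IsFormallyEtaleMor (a ≫ b) → AlgSp.IsFormallyEtaleMor a) ∧
    (AlgSp.IsFormallySmoothMor (a ≫ b) → AlgSp.IsFormallySmoothMor a) := by
  refine ⟨fun h sq => ?_, fun h sq => ?_, fun h sq => ?_⟩
  all_goals
    let sq' : InfSq (a ≫ b) := ⟨sq.A, sq.I, sq.sq_zero, sq.str, sq.top, sq.bot ≫ b, by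
      rw [← Category.assoc, sq.comm, Category.assoc]⟩
  · intro l l' h1 h2 h3 h4
    exact h sq' l l' h1 (by simp [sq', ← h2]) h3 (by simp [sq', ← h4])
  · obtain ⟨l, ⟨h1, h2⟩, hu⟩ := h sq'
    let sqb : InfSq b := ⟨sq.A, sq.I, sq.sq_zero, sq.str, sq.top ≫ a, sq.bot ≫ b, by
      rw [Category.assoc]; exact sq'.comm⟩
    refine ⟨l, ⟨h1, ?_⟩, fun m hm => hu m ⟨hm.1, by simp [sq', ← hm.2]⟩⟩
    exact hb sqb (l ≫ a) sq.bot (by erw [← Category.assoc, h1])
      (by rw [Category.assoc]; exact h2) sq.comm.symm rfl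
  · obtain ⟨l, h1, h2⟩ := h sq'
    let sqb : InfSq b := ⟨sq.A, sq.I, sq.sq_zero, sq.str, sq.top ≫ a, sq.bot ≫ b, by
      rw [Category.assoc]; exact sq'.comm⟩
    exact ⟨l, h1, hb sqb (l ≫ a) sq.bot (by erw [← Category.assoc, h1])
      (by rw [Category.assoc]; exact h2) sq.comm.symm rfl⟩

end Groth.Agent.S10618
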