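import Groth.Statements.S10619
-- import your own Groth.Agent.* helpers here

set_option autoImplicit false
universe u
open CategoryTheory CategoryTheory.Limits AlgebraicGeometry
open AlgSp

namespace Groth.Agent.S10619

/-- A composition of formally smooth, resp. formally etale, resp. formally unramified morphisms of fppf
sheaves on (Sch/S) is again formally smooth, resp. formally etale, resp. formally unramified. (The
published statement is for transformations of arbitrary presheaves of sets on (Sch/S)_fppf; this row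
takes fppf sheaves, the case of algebraic spaces.) -/
theorem result {S : Scheme.{u}} {F G H : AlgSp.Sp S} (a : F ⟶ G) (b : G ⟶ H) :
    (AlgSp.IsFormallySmoothMor a → AlgSp.IsFormallySmoothMor b → AlgSp.IsFormallySmoothMor (a ≫ b)) ∧
    (AlgSp.IsFormallyEtaleMor a → AlgSp.IsFormallyEtaleMor b → AlgSp.IsFormallyEtaleMor (a ≫ b)) ∧
    (AlgSp.IsFormallyUnramifiedMor a → AlgSp.IsFormallyUnramifiedMor b → AlgSp.IsFormallyUnramifiedMor (a ≫ b)) := by
  refine ⟨fun ha hb sq => ?_, fun ha hb sq => ?_, fun ha hb sq => ?_⟩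
  all_goals
    let sqb : InfSq b := ⟨sq.A, sq.I, sq.sq_zero, sq.str, sq.top ≫ a, sq.bot, by
      rw [Category.assoc]; exact sq.comm⟩
  · obtain ⟨m, h1, h2⟩ := hb sqb
    let sqa : InfSq a := ⟨sq.A, sq.I, sq.sq_zero, sq.str, sq.top, m, h1.symm⟩
    obtain ⟨l, g1, g2⟩ := ha sqa
    exact ⟨l, g1, by rw [← Category.assoc, g2]; exact h2⟩
  · obtain ⟨m, ⟨h1, h2⟩, hu⟩ := hb sqb
    let sqa : InfSq a := ⟨sq.A, sq.I, sq.sq_zero, sq.str, sq.top, m, h1.symm⟩
    obtain ⟨l, ⟨g1, g2⟩, hu'⟩ := ha sqa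
    refine ⟨l, ⟨g1, by rw [← Category.assoc, g2]; exact h2⟩, fun l' hl => hu' l' ⟨hl.1, ?_⟩⟩
    exact hu (l' ≫ a) ⟨by erw [← Category.assoc, hl.1], by rw [Category.assoc]; exact hl.2⟩
  · intro l l' h1 h2 h3 h4
    have e : l ≫ a = l' ≫ a := hb sqb _ _ (by erw [← Category.assoc, h1]) (by rw [Category.assoc]; exact h2)
      (by erw [← Category.assoc, h3]) (by rw [Category.assoc]; exact h4)
    let sqa : InfSq a := ⟨sq.A, sq.I, sq.sq_zero, sq.str, sq.top, l ≫ a, by
      erw [← Category.assoc, h1]⟩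
    exact ha sqa l l' h1 rfl h3 e.symm

end Groth.Agent.S10619
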