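import Groth.Statements.S10626
import Groth.Agent.AlgSp.InfFlat
import Groth.Agent.AlgSp.InfCharts

set_option autoImplicit false
universe u
open CategoryTheory CategoryTheory.Limits AlgebraicGeometry
open AlgSp

namespace Groth.Agent.S10626

/-- An unramified and flat morphism of algebraic spaces over S is formally etale (lifting sense). -/
theorem result {S : Scheme.{u}} {X Y : AlgSp.Space S} (f : X ⟶ Y)
    (h1 : AlgSp.LocP (@LocallyOfFiniteType ⊓ @FormallyUnramified) f.hom) (h2 : AlgSp.LocP @Flat f.hom) :
    AlgSp.IsFormallyEtaleMor f.hom := by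
  obtain ⟨U, V, a, b, h, ha, hs, hb, -, w⟩ :=
    Groth.Agent.AlgSp.InfCharts.exists_chart X.property Y.property f.hom
  obtain ⟨_, _⟩ := h1 a b h ha hb w
  have : Flat h.left := h2 a b h ha hb w
  exact Groth.Agent.AlgSp.InfCharts.formallyEtale_of_chart ha hs hb w
    ((Groth.Agent.AlgSp.InfScheme.formallyEtale_iff h).1 (Groth.Agent.AlgSp.InfFlat.formallyEtale_yon_of_flat h))

end Groth.Agent.S10626
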