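import Groth.Statements.S10627
import Groth.Agent.AlgSp.InfCharts

set_option autoImplicit false
universe u
open CategoryTheory CategoryTheory.Limits AlgebraicGeometry
open AlgSp

namespace Groth.Agent.S10627

/-- A morphism f : X ⟶ Y of algebraic spaces over S is etale if and only if it is locally of finite
presentation and formally etale (lifting sense). -/
theorem result {S : Scheme.{u}} {X Y : AlgSp.Space S} (f : X ⟶ Y) :
    AlgSp.IsEtaleMor f.hom ↔ AlgSp.LocP @LocallyOfFinitePresentation f.hom ∧ AlgSp.IsFormallyEtaleMor f.hom := by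
  constructor
  · refine fun hf => ⟨fun U V a b h ha hb w => ?_,
      Groth.Agent.AlgSp.InfEtale.formallyEtale_of_isEtaleMor X.property hf⟩
    have hh : MoreMor.IsFormallyEtaleHom h.left := Groth.Agent.AlgSp.InfCharts.formallyEtale_chart
      (Groth.Agent.AlgSp.InfEtale.formallyEtale_of_isEtaleMor X.property hf) ha hb w
    have he : RepWith @Etale ((yon S).map h ≫ b) := w ▸ hf a ha
    let s : U ⟶ he.1.pullback b := he.1.lift' (g := b) (𝟙 U) h (by simp)
    have hs : Etale (he.1.snd b).left := he.2 _ _ _ (he.1.isPullback b)
    have : Etale (he.1.fst' b).left := by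
      refine hb.2 ((yon S).map h ≫ b) ((yon S).map (he.1.snd b)) (he.1.fst' b) ?_
      have := (he.1.isPullback b).flip
      rwa [← Functor.relativelyRepresentable.map_fst'] at this
    have hs₁ : Etale (s.left ≫ (he.1.fst' b).left) := by
      rw [← Over.comp_left, Functor.relativelyRepresentable.lift'_fst]
      exact inferInstanceAs (Etale (𝟙 U.left))
    have : Etale s.left := Etale.of_comp s.left (he.1.fst' b).left
    have : Etale h.left := by
      rw [← Functor.relativelyRepresentable.lift'_snd he.1 (g := b) (𝟙 U) h (by simp), Over.comp_left]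
      exact inferInstanceAs (Etale (s.left ≫ (he.1.snd b).left))
    infer_instance
  · rintro ⟨hl, hf⟩ U a ha
    obtain ⟨V, b, hb, hbs⟩ := Y.property.atlas
    have hr : Representable (a ≫ f.hom) := Y.property.representable_from_yon _
    refine Groth.Agent.AlgSp.InfDescent.repWith_of_baseChange @Etale hr hb hbs (hr.isPullback b)
      ((repWith_yon_map_iff _ _).2 ?_)
    have hq : RepWith @Etale ((yon S).map (hr.fst' b) ≫ a) := by
      refine (repWith_isMultiplicative _).comp_mem _ _ ((repWith_yon_map_iff _ _).2 ?_) ha
      refine hb.2 (a ≫ f.hom) ((yon S).map (hr.snd b)) (hr.fst' b) ?_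
      have := (hr.isPullback b).flip
      rwa [← Functor.relativelyRepresentable.map_fst'] at this
    have w : ((yon S).map (hr.fst' b) ≫ a) ≫ f.hom = (yon S).map (hr.snd b) ≫ b := by
      rw [Category.assoc, Functor.relativelyRepresentable.map_fst', (hr.isPullback b).w]
    have : LocallyOfFinitePresentation (hr.snd b).left := hl _ _ _ hq hb w
    exact Groth.Agent.AlgSp.InfScheme.etale_of_formallyEtale _
      (Groth.Agent.AlgSp.InfCharts.formallyEtale_chart hf hq hb w)

end Groth.Agent.S10627
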