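import Groth.Statements.S10628
import Groth.Agent.AlgSp.InfCharts

set_option autoImplicit false
universe u
open CategoryTheory CategoryTheory.Limits AlgebraicGeometry
open AlgSp

namespace Groth.Agent.S10628

/-- Take a formally smooth morphism f : X ⟶ Y of algebraic spaces over S, and let p : U ⟶ X and q : V ⟶
Y be etale morphisms of algebraic spaces with ψ : U ⟶ V such that ψ ≫ q = p ≫ f. Then ψ is formally
smooth. -/
theorem result {S : Scheme.{u}} {X Y U V : AlgSp.Space S} (f : X ⟶ Y)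
    (hf : AlgSp.IsFormallySmoothMor f.hom) (p : U ⟶ X) (q : V ⟶ Y) (hp : AlgSp.IsEtaleMor p.hom) (hq : AlgSp.IsEtaleMor q.hom)
    (ψ : U ⟶ V) (w : ψ ≫ q = p ≫ f) : AlgSp.IsFormallySmoothMor ψ.hom := by
  intro sq
  let sqf : InfSq f.hom := ⟨sq.A, sq.I, sq.sq_zero, sq.str, sq.top ≫ p.hom, sq.bot ≫ q.hom, by
    have w' : ψ.hom ≫ q.hom = p.hom ≫ f.hom := congrArg InducedCategory.Hom.hom w
    rw [Category.assoc, ← w', ← Category.assoc, sq.comm, Category.assoc]⟩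
  obtain ⟨l, h₁, h₂⟩ := hf sqf
  let sqp : InfSq p.hom := ⟨sq.A, sq.I, sq.sq_zero, sq.str, sq.top, l, h₁.symm⟩
  obtain ⟨m, ⟨g₁, g₂⟩, -⟩ := Groth.Agent.AlgSp.InfEtale.formallyEtale_of_isEtaleMor U.property hp sqp
  refine ⟨m, g₁, ?_⟩
  let sqq : InfSq q.hom := ⟨sq.A, sq.I, sq.sq_zero, sq.str, sq.top ≫ ψ.hom, sq.bot ≫ q.hom, by
    erw [sq.comm, Category.assoc]⟩
  refine (Groth.Agent.AlgSp.InfEtale.formallyEtale_of_isEtaleMor V.property hq sqq).unique
    ⟨by erw [← Category.assoc, g₁], ?_⟩ ⟨sq.comm.symm, rfl⟩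
  have w' : ψ.hom ≫ q.hom = p.hom ≫ f.hom := congrArg InducedCategory.Hom.hom w
  erw [Category.assoc, w', ← Category.assoc, g₂, h₂]

end Groth.Agent.S10628
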