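import Groth.Statements.S10631
import Groth.Agent.AlgSp.InfSpace

set_option autoImplicit false
universe u
open CategoryTheory CategoryTheory.Limits AlgebraicGeometry
open AlgSp

namespace Groth.Agent.S10631

/-- Consider morphisms Z ⟶ Y ⟶ X of algebraic spaces over S. If (i : Z ⟶ Z', h' : Z' ⟶ Y) is, over Y, a
universal first order thickening of Z and g : Y ⟶ X is formally etale, then (i, h' ≫ g) is, over X,
a universal first order thickening of Z. -/
theorem result {S : Scheme.{u}} {Z Z' Y X : AlgSp.Space S} (hZ : Z ⟶ Y) (g : Y ⟶ X)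
    (i : Z ⟶ Z') (h' : Z' ⟶ Y) (HU : AlgSp.IsUnivFOThick hZ.hom i.hom h'.hom) (hg : AlgSp.IsFormallyEtaleMor g.hom) :
    AlgSp.IsUnivFOThick (hZ ≫ g).hom i.hom (h' ≫ g).hom := by
  obtain ⟨hi, hw, hU⟩ := HU
  refine ⟨hi, (Category.assoc _ _ _).symm.trans (congrArg (· ≫ g.hom) hw), fun T T' hT hT' j a b hj w => ?_⟩
  obtain ⟨l, hl₁, hl₂⟩ := Groth.Agent.AlgSp.InfSpace.exists_lift_of_formallyEtale hj hT' hg (a ≫ hZ.hom) b
    ((Category.assoc _ _ _).trans w.symm)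
  obtain ⟨a', ⟨h₁, h₂⟩, hu⟩ := hU hT hT' j a l hj hl₁
  refine ⟨a', ⟨h₁, (Category.assoc _ _ _).symm.trans ((congrArg (· ≫ g.hom) h₂).trans hl₂)⟩,
    fun m hm => hu m ⟨hm.1, ?_⟩⟩
  refine Groth.Agent.AlgSp.InfSpace.eq_of_formallyUnramified hj hT'
    (f := g.hom) (fun sq x y p q r s => (hg sq).unique ⟨p, q⟩ ⟨r, s⟩) ?_ ?_
  · rw [hl₁, ← Category.assoc, hm.1, Category.assoc, hw]
  · exact (Category.assoc _ _ _).trans (hm.2.trans hl₂.symm)

end Groth.Agent.S10631
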