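import Groth.Statements.S10632
import Groth.Agent.AlgSp.InfSpace

set_option autoImplicit false
universe u
open CategoryTheory CategoryTheory.Limits AlgebraicGeometry
open AlgSp

namespace Groth.Agent.S10632

/-- Let e : Z ⟶ Y be an etale morphism of algebraic spaces over S, hY : Y ⟶ X, and let (iY : Y ⟶ Y', hY'
: Y' ⟶ X) be a universal first order thickening of Y over X. Let e' : Z' ⟶ Y' be etale with iZ : Z ⟶
Z' making Z = Y ×_{Y'} Z' a pullback square. Then (iZ, e' ≫ hY') is a universal first order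
thickening of Z over X. -/
theorem result {S : Scheme.{u}} {Z Y Y' Z' X : AlgSp.Space S} (e : Z ⟶ Y)
    (he : AlgSp.IsEtaleMor e.hom) (hY : Y ⟶ X) (iY : Y ⟶ Y') (hY' : Y' ⟶ X)
    (HU : AlgSp.IsUnivFOThick hY.hom iY.hom hY'.hom) (iZ : Z ⟶ Z') (e' : Z' ⟶ Y') (he' : AlgSp.IsEtaleMor e'.hom)
    (sq : IsPullback e.hom iZ.hom iY.hom e'.hom) :
    AlgSp.IsUnivFOThick (e ≫ hY).hom iZ.hom (e' ≫ hY').hom := by
  obtain ⟨hi, hw, hU⟩ := HU
  have hf : IsFormallyEtaleMor e'.hom := Groth.Agent.AlgSp.InfEtale.formallyEtale_of_isEtaleMor Z'.property he'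
  refine ⟨Groth.Agent.AlgSp.InfSpace.isFOThickMor_of_etale_baseChange sq he' hi, ?_,
    fun T T' hT hT' j a b hj w => ?_⟩
  · change iZ.hom ≫ e'.hom ≫ hY'.hom = e.hom ≫ hY.hom
    rw [← Category.assoc, ← sq.w, Category.assoc, hw]
  · obtain ⟨d, ⟨hd₁, hd₂⟩, hdu⟩ := hU hT hT' j (a ≫ e.hom) b hj (w.trans (Category.assoc _ _ _).symm)
    obtain ⟨l, hl₁, hl₂⟩ := Groth.Agent.AlgSp.InfSpace.exists_lift_of_formallyEtale hj hT' hf (a ≫ iZ.hom) d
      (by rw [hd₁, Category.assoc, Category.assoc, sq.w])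
    refine ⟨l, ⟨hl₁, ?_⟩, fun m hm => ?_⟩
    · change l ≫ e'.hom ≫ hY'.hom = b
      rw [← Category.assoc, hl₂, hd₂]
    · refine Groth.Agent.AlgSp.InfSpace.eq_of_formallyUnramified hj hT'
        (f := e'.hom) (fun sq x y p q r s => (hf sq).unique ⟨p, q⟩ ⟨r, s⟩) (hm.1.trans hl₁.symm) ?_
      rw [hl₂]
      refine hdu _ ⟨?_, (Category.assoc _ _ _).trans hm.2⟩
      rw [← Category.assoc, hm.1, Category.assoc, Category.assoc, sq.w]

end Groth.Agent.S10632
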