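import Groth.Statements.S10637
import Groth.Agent.AlgSp.InfBC
-- import your own Groth.Agent.* helpers here

set_option autoImplicit false
universe u
open CategoryTheory CategoryTheory.Limits AlgebraicGeometry
open AlgSp

namespace Groth.Agent.S10637

/-- Let h : Z ⟶ X, f : Z ⟶ W, g : X ⟶ Y, h' : W ⟶ Y form a pullback square of algebraic spaces over S (Z
= X ×_Y W) with h' formally unramified, and let (iW : W ⟶ W', hW' : W' ⟶ Y) be a universal first
order thickening of W over Y. If P = X ×_Y W' (a pullback square pX : P ⟶ X, pW : P ⟶ W') and iZ : Z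
⟶ P is the morphism with iZ ≫ pX = h and iZ ≫ pW = f ≫ iW, then (iZ, pX) is a universal first order
thickening of Z over X. (The published statement also asserts that h is formally unramified, which
is the base change property of formal unramifiedness, and that the induced map of conormal sheaves
is surjective; this row omits both clauses.) -/
theorem result {S : Scheme.{u}} {Z X W Y W' P : AlgSp.Space S} (h : Z ⟶ X) (f : Z ⟶ W)
    (g : X ⟶ Y) (h' : W ⟶ Y) (sq : IsPullback h.hom f.hom g.hom h'.hom) (hh' : AlgSp.IsFormallyUnramifiedMor h'.hom)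
    (iW : W ⟶ W') (hW' : W' ⟶ Y) (HU : AlgSp.IsUnivFOThick h'.hom iW.hom hW'.hom)
    (pX : P ⟶ X) (pW : P ⟶ W') (sq' : IsPullback pX.hom pW.hom g.hom hW'.hom)
    (iZ : Z ⟶ P) (w1 : iZ ≫ pX = h) (w2 : iZ ≫ pW = f ≫ iW) :
    AlgSp.IsUnivFOThick h.hom iZ.hom pX.hom := by
  have e1 : iW.hom ≫ hW'.hom = h'.hom := HU.2.1
  have e2 : iZ.hom ≫ pX.hom = h.hom := congrArg InducedCategory.Hom.hom w1
  have e3 : iZ.hom ≫ pW.hom = f.hom ≫ iW.hom := congrArg InducedCategory.Hom.hom w2
  have sq1 : IsPullback f.hom iZ.hom iW.hom pW.hom := by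
    have := sq.flip
    rw [← e1, ← e2] at this
    exact IsPullback.of_bot this e3.symm sq'.flip
  refine ⟨Groth.Agent.AlgSp.InfBC.isFOThickMor_baseChange sq1 W'.property HU.1, e2, ?_⟩
  intro T T' hT hT' j a b hj wab
  obtain ⟨c, ⟨hc1, hc2⟩, hcu⟩ := HU.2.2 hT hT' j (a ≫ f.hom) (b ≫ g.hom) hj (by
    rw [← Category.assoc, wab, Category.assoc, sq.w, Category.assoc])
  refine ⟨sq'.lift b c hc2.symm, ⟨sq'.hom_ext ?_ ?_, sq'.lift_fst _ _ _⟩, fun m hm => sq'.hom_ext ?_ ?_⟩
  · rw [Category.assoc, sq'.lift_fst, Category.assoc, e2, wab]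
  · rw [Category.assoc, sq'.lift_snd, hc1, Category.assoc, Category.assoc, e3]
  · rw [sq'.lift_fst, hm.2]
  · rw [sq'.lift_snd]
    refine hcu _ ⟨?_, ?_⟩
    · rw [← Category.assoc, hm.1, Category.assoc, e3, Category.assoc]
    · rw [Category.assoc, ← sq'.w, ← Category.assoc, hm.2]

end Groth.Agent.S10637
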