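import Groth.Statements.S10638
import Groth.Agent.AlgSp.InfUnivEtale
-- import your own Groth.Agent.* helpers here

set_option autoImplicit false
universe u
open CategoryTheory CategoryTheory.Limits AlgebraicGeometry
open AlgSp

namespace Groth.Agent.S10638

/-- Take a formally unramified morphism h : Z ⟶ X of algebraic spaces over S with universal first order
thickening (iZ : Z ⟶ Z', hZ' : Z' ⟶ X). Let v : V ⟶ Z and w : U ⟶ X be etale morphisms of algebraic
spaces and ψ : V ⟶ U with ψ ≫ w = v ≫ h. Then ψ is formally unramified, and for a universal first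
order thickening (iV : V ⟶ V', hV' : V' ⟶ U) of V over U, every e' : V' ⟶ Z' with iV ≫ e' = v ≫ iZ
and e' ≫ hZ' = hV' ≫ w (there is exactly one) is etale. (The published statement also identifies the
conormal sheaf of V over U with the restriction of that of Z over X; this row omits that clause.) -/
theorem result {S : Scheme.{u}} {Z X Z' V U V' : AlgSp.Space S} (h : Z ⟶ X)
    (hh : AlgSp.IsFormallyUnramifiedMor h.hom) (iZ : Z ⟶ Z') (hZ' : Z' ⟶ X) (HZ : AlgSp.IsUnivFOThick h.hom iZ.hom hZ'.hom)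
    (v : V ⟶ Z) (w : U ⟶ X) (hv : AlgSp.IsEtaleMor v.hom) (hw : AlgSp.IsEtaleMor w.hom) (ψ : V ⟶ U)
    (c : ψ ≫ w = v ≫ h) :
    AlgSp.IsFormallyUnramifiedMor ψ.hom ∧
    ∀ (iV : V ⟶ V') (hV' : V' ⟶ U), AlgSp.IsUnivFOThick ψ.hom iV.hom hV'.hom →
      ∀ e' : V' ⟶ Z', iV ≫ e' = v ≫ iZ → e' ≫ hZ' = hV' ≫ w → AlgSp.IsEtaleMor e'.hom := by
  have c' : ψ.hom ≫ w.hom = v.hom ≫ h.hom := congrArg InducedCategory.Hom.hom c
  refine ⟨?_, fun iV hV' HV e' w1 w2 => Groth.Agent.AlgSp.InfUnivEtale.isEtaleMor_of_univ HZ HV U.property V'.property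
    Z'.property hv hw c' (congrArg InducedCategory.Hom.hom w1) (congrArg InducedCategory.Hom.hom w2)⟩
  have hvu : AlgSp.IsFormallyUnramifiedMor v.hom := fun sq l l' h₁ h₂ h₃ h₄ =>
    (Groth.Agent.AlgSp.InfEtale.formallyEtale_of_isEtaleMor V.property hv sq).unique ⟨h₁, h₂⟩ ⟨h₃, h₄⟩
  have hpw := Groth.Agent.AlgSp.InfCharts.formallyUnramified_comp hvu hh
  rw [← c'] at hpw
  intro sq l l' h₁ h₂ h₃ h₄
  exact hpw ⟨sq.A, sq.I, sq.sq_zero, sq.str, sq.top, sq.bot ≫ w.hom, by rw [← Category.assoc, sq.comm, Category.assoc]⟩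
    l l' h₁ ((Category.assoc _ _ _).symm.trans (congrArg (· ≫ w.hom) h₂)) h₃
    ((Category.assoc _ _ _).symm.trans (congrArg (· ≫ w.hom) h₄))

end Groth.Agent.S10638
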