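import Groth.Statements.S1064
import Groth.Agent.DEq.LocFreeLocus

set_option autoImplicit false
universe u
open CategoryTheory CategoryTheory.Limits AlgebraicGeometry Opposite
attribute [local instance] HasDerivedCategory.standard
open Perf

namespace Groth.Agent.S1064

open Groth.Agent.KFlat.Pull Groth.Agent.DEq

/-- Let E be a perfect object of D(O_X), i ∈ ℤ and r ∈ ℕ. There is an open subset U ⊆ X such that for
every morphism f : Y ⟶ X whose derived pullback Lf^* exists, f has its image inside U exactly when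
Lf^*E is isomorphic in D(O_Y) to a finite locally free O_Y-module of rank r placed in degree i. -/
theorem result (X : Scheme.{u}) (E : DCoh.D X) (hE : DCoh.IsPerfect E) (i : ℤ) (r : ℕ) :
    ∃ U : X.Opens, ∀ (Y : Scheme.{u}) (f : Y ⟶ X) [DCoh.HasLpull f],
      Set.range f.base ⊆ (U : Set X) ↔
        ∃ V : Y.Modules, FlatMod.IsFinLocFreeOfRank r V ∧ Nonempty ((DCoh.Lpull f).obj E ≅ (DCoh.inD Y V)⟦-i⟧) := by
  let F₀ := DerivedCategory.Q.objPreimage E
  let G := (resY X).obj F₀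
  have hG : DCoh.IsKFlat G := isKFlat_resY F₀
  have := quasiIso_resYπ F₀
  let eG : DCoh.toD X G ≅ E :=
    asIso (DerivedCategory.Q.map ((resYπ X).app F₀)) ≪≫ DerivedCategory.Q.objObjPreimageIso E
  refine ⟨LocFreeLocus.locus G i r, fun Y f _ => ?_⟩
  let eL : (DCoh.Lpull f).obj E ≅ DerivedCategory.Q.obj ((pullCx f).obj G) :=
    (DCoh.Lpull f).mapIso eG.symm ≪≫ @asIso _ _ _ _ ((toPull f).app G) (isIso_toPull f hG)
  constructor
  · intro h
    obtain ⟨V, hV, ⟨e⟩⟩ := LocFreeLocus.exists_iso_sg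
      (LocFreeLocus.shape_pull_of_range hG f fun y => h ⟨y, rfl⟩)
    exact ⟨V, hV, ⟨eL ≪≫ e ≪≫ LocFreeLocus.sgIso i V⟩⟩
  · rintro ⟨V, hV, ⟨e⟩⟩ _ ⟨y, rfl⟩
    exact LocFreeLocus.mem_locus_of_shape hG hE eG f hV (eL.symm ≪≫ e ≪≫ (LocFreeLocus.sgIso i V).symm) y

end Groth.Agent.S1064
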