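import Groth.Statements.S10640
import Groth.Agent.AlgSpEN.UnrWhere
import Groth.Agent.AlgSp.Space
import Groth.Agent.S9938

set_option autoImplicit false
set_option backward.isDefEq.respectTransparency false
set_option backward.isDefEq.respectTransparency.types false
universe u
open CategoryTheory CategoryTheory.Limits AlgebraicGeometry
open AlgSp Groth.Agent Groth.Agent.AlgSpD

namespace Groth.Agent.S10640


/-- The diagonal commutes with base change. -/
theorem isPullback_diag {C : Type*} [Category C] [HasPullbacks C] {X Y Y' X' XX : C} {f : X ⟶ Y} {g : Y' ⟶ Y}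
    {gX : X' ⟶ X} {f' : X' ⟶ Y'} (sq : IsPullback gX f' f g) {pr0 pr1 : XX ⟶ X} (hXX : IsPullback pr0 pr1 f f)
    {Δ : X ⟶ XX} (h0 : Δ ≫ pr0 = 𝟙 _) (h1 : Δ ≫ pr1 = 𝟙 _) (π : pullback f' f' ⟶ XX)
    (hπ0 : π ≫ pr0 = pullback.fst f' f' ≫ gX) (hπ1 : π ≫ pr1 = pullback.snd f' f' ≫ gX) :
    IsPullback gX (pullback.diagonal f') Δ π := by
  refine ⟨⟨hXX.hom_ext (by simp [h0, hπ0]) (by simp [h1, hπ1])⟩, ⟨PullbackCone.IsLimit.mk _
    (fun c => c.snd ≫ pullback.fst f' f') (fun c => ?_) (fun c => ?_) (fun c l _ hl => ?_)⟩⟩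
  · rw [Category.assoc, ← hπ0, ← reassoc_of% c.condition, h0, Category.comp_id]
  · apply pullback.hom_ext
    · simp
    · rw [Category.assoc, Category.assoc, pullback.diagonal_snd, Category.comp_id]
      apply sq.hom_ext
      · rw [Category.assoc, Category.assoc, ← hπ0, ← hπ1, ← reassoc_of% c.condition,
          ← reassoc_of% c.condition, h0, h1]
      · rw [Category.assoc, Category.assoc, pullback.condition]
  · rw [← hl, Category.assoc, pullback.diagonal_fst, Category.comp_id]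

/-- The fibre product of a morphism with itself commutes with base change over the base. -/
theorem isPullback_prod {C : Type*} [Category C] [HasPullbacks C] {X Y Z Z' Y' X' XX : C} {f : X ⟶ Y} {q : Y ⟶ Z}
    {g : Z' ⟶ Z} {gY : Y' ⟶ Y} {q' : Y' ⟶ Z'} (sqY : IsPullback gY q' q g)
    {gX : X' ⟶ X} {f' : X' ⟶ Y'} (sqX : IsPullback gX f' f gY) {pr0 pr1 : XX ⟶ X} (hXX : IsPullback pr0 pr1 f f)
    (π : pullback f' f' ⟶ XX)
    (hπ0 : π ≫ pr0 = pullback.fst f' f' ≫ gX) (hπ1 : π ≫ pr1 = pullback.snd f' f' ≫ gX) :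
    IsPullback π (pullback.snd f' f' ≫ f' ≫ q') (pr1 ≫ f ≫ q) g := by
  let sq := sqX.paste_vert sqY
  have hpr : pr0 ≫ f ≫ q = pr1 ≫ f ≫ q := by rw [reassoc_of% hXX.w]
  refine ⟨⟨?_⟩, ⟨PullbackCone.IsLimit.mk _ (fun c => pullback.lift
    (sq.lift (c.fst ≫ pr0) c.snd (by rw [Category.assoc, hpr]; exact c.condition))
    (sq.lift (c.fst ≫ pr1) c.snd (by rw [Category.assoc]; exact c.condition)) ?_)
    (fun c => ?_) (fun c => ?_) (fun c l h1 h2 => ?_)⟩⟩
  · rw [reassoc_of% hπ1, reassoc_of% sqX.w, sqY.w]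
    simp only [Category.assoc]
  · apply sqY.hom_ext
    · simp only [Category.assoc, ← sqX.w]
      rw [IsPullback.lift_fst_assoc, IsPullback.lift_fst_assoc, Category.assoc, Category.assoc, hXX.w]
    · simp only [Category.assoc]
      rw [IsPullback.lift_snd, IsPullback.lift_snd]
  · apply hXX.hom_ext
    · rw [Category.assoc, hπ0, pullback.lift_fst_assoc, IsPullback.lift_fst]
    · rw [Category.assoc, hπ1, pullback.lift_snd_assoc, IsPullback.lift_fst]
  · rw [pullback.lift_snd_assoc, IsPullback.lift_snd]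
  · apply pullback.hom_ext <;> apply sq.hom_ext
    · rw [pullback.lift_fst, IsPullback.lift_fst, ← h1, Category.assoc, Category.assoc, hπ0]
    · rw [pullback.lift_fst, IsPullback.lift_snd, ← h2, Category.assoc, pullback.condition_assoc]
    · rw [pullback.lift_snd, IsPullback.lift_fst, ← h1, Category.assoc, Category.assoc, hπ1]
    · rw [pullback.lift_snd, IsPullback.lift_snd, ← h2, Category.assoc]

/-- For morphisms f : X ⟶ Y, p : X ⟶ Z and q : Y ⟶ Z of algebraic spaces over S with f ≫ q = p, write XX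
= X ×_Y X with projections pr0, pr1, and assume that p is closed and locally of finite type and that
the composite XX ⟶ X ⟶ Z (through pr1 and p) is closed as well. Then there is an open subspace W of
Z with the following property: a morphism of algebraic spaces g : Z' ⟶ Z factors through W exactly
when the base change X' ⟶ Y' of f along g is unramified and universally injective. Here the base
change of f along g is any f' : X' ⟶ Y' obtained from pullback squares Y' = Y ×_Z Z' and X' = X ×_Y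
Y' of algebraic spaces over S, and W ⊂ Z is given as a representable open immersion w : W ⟶ Z. -/
theorem result {S : Scheme.{u}} {X Y Z : AlgSp.Space S}
    (f : X ⟶ Y) (p : X ⟶ Z) (q : Y ⟶ Z) (hc : f ≫ q = p)
    (XX : AlgSp.Space S) (pr0 pr1 : XX ⟶ X) (hXX : IsPullback pr0.hom pr1.hom f.hom f.hom)
    (hp1 : AlgSp.LocP @LocallyOfFiniteType p.hom) (hp2 : AlgSp.IsClosedMor p.hom)
    (hp3 : AlgSp.IsClosedMor (pr1 ≫ p).hom) :
    ∃ (W : AlgSp.Space S) (w : W ⟶ Z), AlgSp.RepWith @IsOpenImmersion w.hom ∧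
      ∀ (Z' : AlgSp.Space S) (g : Z' ⟶ Z),
        (∃ k : Z' ⟶ W, k ≫ w = g) ↔
          ∀ (Y' : AlgSp.Space S) (gY : Y' ⟶ Y) (q' : Y' ⟶ Z'),
            IsPullback gY.hom q'.hom q.hom g.hom →
            ∀ (X' : AlgSp.Space S) (gX : X' ⟶ X) (f' : X' ⟶ Y'),
              IsPullback gX.hom f'.hom f.hom gY.hom →
                (AlgSp.LocP (@LocallyOfFiniteType ⊓ @FormallyUnramified) f'.hom ∧ AlgSp.IsUnivInjectiveMor f'.hom) := by
  subst hc
  have hf := locP_lft_of_comp f q hp1
  let G : Set (Points X.obj) := {x | HasAtMor UnrNear f.hom x}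
  let Δ : X.obj ⟶ XX.obj := hXX.lift (𝟙 _) (𝟙 _) rfl
  have h0 : Δ ≫ pr0.hom = 𝟙 _ := hXX.lift_fst _ _ _
  have h1 : Δ ≫ pr1.hom = 𝟙 _ := hXX.lift_snd _ _ _
  have hGc : IsClosed Gᶜ := (isOpen_unrNear f.hom).isClosed_compl
  have hΔc : IsClosed (Points.map Δ '' G)ᶜ :=
    (AlgSpEN.isOpen_diag_unrNear f pr0.hom pr1.hom hXX Δ h0 h1).isClosed_compl
  obtain ⟨W, w, hw, hr⟩ := AlgSpB.exists_openSubspace Z ((hp2 _ hGc).union (hp3 _ hΔc)).isOpen_compl
  refine ⟨W, w, hw, fun Z' g => ?_⟩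
  have hk : (∃ k : Z' ⟶ W, k ≫ w = g) ↔
      ∀ z, (∀ x, Points.map (f ≫ q).hom x = Points.map g.hom z → x ∈ G) ∧
        ∀ c, Points.map (pr1 ≫ f ≫ q).hom c = Points.map g.hom z → c ∈ Points.map Δ '' G := by
    constructor
    · rintro ⟨k, rfl⟩ z
      have h : Points.map (k ≫ w).hom z ∈ Set.range (Points.map w.hom) :=
        AlgSpB.range_map_subset_of_factor (j := w.hom) k.hom rfl ⟨z, rfl⟩
      rw [hr] at h
      exact ⟨fun x hx => by_contra fun hn => h (Or.inl ⟨x, hn, hx⟩),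
        fun c hc => by_contra fun hn => h (Or.inr ⟨c, hn, hc⟩)⟩
    · intro H
      obtain ⟨l, hl⟩ := (AlgSpB.exists_factor_isOpenImmersion_iff hw g.hom).2 (by
        rintro _ ⟨z, rfl⟩
        rw [hr]
        rintro (⟨x, hx, hxz⟩ | ⟨c, hc, hcz⟩)
        · exact hx ((H z).1 x hxz)
        · exact hc ((H z).2 c hcz))
      exact ⟨ObjectProperty.homMk l, ObjectProperty.hom_ext _ hl⟩
  rw [hk]
  constructor
  · intro H Y' gY q' sqY X' gX f' sqX
    let π : pullback f'.hom f'.hom ⟶ XX.obj := hXX.lift (pullback.fst _ _ ≫ gX.hom) (pullback.snd _ _ ≫ gX.hom)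
      (by simp only [Category.assoc, sqX.w, pullback.condition_assoc])
    have sqΔ := isPullback_diag sqX hXX h0 h1 π (hXX.lift_fst _ _ _) (hXX.lift_snd _ _ _)
    have sqP := isPullback_prod sqY sqX hXX π (hXX.lift_fst _ _ _) (hXX.lift_snd _ _ _)
    refine ⟨(AlgSpEN.locP_unramified_iff f').2 fun x' => ?_, (Groth.Agent.S9938.result f').2.2 fun e => ?_⟩
    · rw [AlgSpEN.hasAtMor_unrNear_baseChange f gY gX f' sqX hf]
      refine (H (Points.map (f'.hom ≫ q'.hom) x')).1 _ ?_
      rw [← Points.map_comp, ← Points.map_comp, Category.assoc, ← sqY.w, reassoc_of% sqX.w.symm]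
      rfl
    · obtain ⟨x, -, hx⟩ := (H (Points.map (pullback.snd _ _ ≫ f'.hom ≫ q'.hom) e)).2 (Points.map π e) (by
        rw [← Points.map_comp, ← Points.map_comp, ← sqP.w]
        rfl)
      obtain ⟨x', -, hx'⟩ := AlgSpB.exists_of_isPullback sqΔ x e hx
      exact ⟨x', hx'⟩
  · intro H z
    let Y' : AlgSp.Space S := ⟨pullback q.hom g.hom,
      AlgSp.isAlgSpace_pullback Z.property Y.property Z'.property _ _⟩
    let gY : Y' ⟶ Y := ObjectProperty.homMk (pullback.fst q.hom g.hom)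
    let q' : Y' ⟶ Z' := ObjectProperty.homMk (pullback.snd q.hom g.hom)
    have sqY : IsPullback gY.hom q'.hom q.hom g.hom := IsPullback.of_hasPullback _ _
    let X' : AlgSp.Space S := ⟨pullback f.hom gY.hom,
      AlgSp.isAlgSpace_pullback Y.property X.property Y'.property _ _⟩
    let gX : X' ⟶ X := ObjectProperty.homMk (pullback.fst f.hom gY.hom)
    let f' : X' ⟶ Y' := ObjectProperty.homMk (pullback.snd f.hom gY.hom)
    have sqX : IsPullback gX.hom f'.hom f.hom gY.hom := IsPullback.of_hasPullback _ _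
    obtain ⟨hu, hi⟩ := H Y' gY q' sqY X' gX f' sqX
    have hG : ∀ x', Points.map gX.hom x' ∈ G := fun x' =>
      (AlgSpEN.hasAtMor_unrNear_baseChange f gY gX f' sqX hf x').1 ((AlgSpEN.locP_unramified_iff f').1 hu x')
    refine ⟨fun x hx => ?_, fun c hc => ?_⟩
    · obtain ⟨x', rfl, -⟩ := AlgSpB.exists_of_isPullback (sqX.paste_vert sqY) x z hx
      exact hG x'
    · let π : pullback f'.hom f'.hom ⟶ XX.obj := hXX.lift (pullback.fst _ _ ≫ gX.hom) (pullback.snd _ _ ≫ gX.hom)
        (by simp only [Category.assoc, sqX.w, pullback.condition_assoc])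
      have sqΔ := isPullback_diag sqX hXX h0 h1 π (hXX.lift_fst _ _ _) (hXX.lift_snd _ _ _)
      obtain ⟨e, rfl, -⟩ := AlgSpB.exists_of_isPullback
        (isPullback_prod sqY sqX hXX π (hXX.lift_fst _ _ _) (hXX.lift_snd _ _ _)) c z hc
      obtain ⟨x', rfl⟩ := (Groth.Agent.S9938.result f').2.1 hi e
      exact ⟨_, hG x', by rw [← Points.map_comp, ← Points.map_comp, sqΔ.w]⟩

end Groth.Agent.S10640
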