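import Groth.Statements.S10642
import Groth.Agent.AlgSpEN.FlatWhere
import Groth.Agent.AlgSp.Space
import Groth.Agent.AlgSp.LocPFin
import Groth.Agent.S10609

set_option autoImplicit false
set_option backward.isDefEq.respectTransparency false
set_option backward.isDefEq.respectTransparency.types false
universe u
open CategoryTheory CategoryTheory.Limits AlgebraicGeometry
open AlgSp Groth.Agent

namespace Groth.Agent.S10642

/-- For morphisms f : X ⟶ Y, p : X ⟶ Z and q : Y ⟶ Z of algebraic spaces over S with f ≫ q = p, where p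
is flat, closed and locally of finite presentation and q is locally of finite type, there is an open
subspace W of Z with the following property: a morphism of algebraic spaces g : Z' ⟶ Z factors
through W exactly when the base change X' ⟶ Y' of f along g is flat. Here the base change of f along
g is any f' : X' ⟶ Y' obtained from pullback squares Y' = Y ×_Z Z' and X' = X ×_Y Y' of algebraic
spaces over S, and W ⊂ Z is given as a representable open immersion w : W ⟶ Z. -/
theorem result {S : Scheme.{u}} {X Y Z : AlgSp.Space S}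
    (f : X ⟶ Y) (p : X ⟶ Z) (q : Y ⟶ Z) (hc : f ≫ q = p)
    (hp1 : AlgSp.LocP @LocallyOfFinitePresentation p.hom) (hp2 : AlgSp.LocP @Flat p.hom)
    (hp3 : AlgSp.IsClosedMor p.hom) (hq : AlgSp.LocP @LocallyOfFiniteType q.hom) :
    ∃ (W : AlgSp.Space S) (w : W ⟶ Z), AlgSp.RepWith @IsOpenImmersion w.hom ∧
      ∀ (Z' : AlgSp.Space S) (g : Z' ⟶ Z),
        (∃ k : Z' ⟶ W, k ≫ w = g) ↔
          ∀ (Y' : AlgSp.Space S) (gY : Y' ⟶ Y) (q' : Y' ⟶ Z'),
            IsPullback gY.hom q'.hom q.hom g.hom →
            ∀ (X' : AlgSp.Space S) (gX : X' ⟶ X) (f' : X' ⟶ Y'),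
              IsPullback gX.hom f'.hom f.hom gY.hom →
                AlgSp.LocP @Flat f'.hom := by
  subst hc
  obtain ⟨hGo, hGbc⟩ := Groth.Agent.S10609.result f q hp1 hp2 hq
  let G : Set (Points X.obj) := {x | IsFlatAtMor f.hom x}
  obtain ⟨W, w, hw, hr⟩ := AlgSpB.exists_openSubspace Z (hp3 _ hGo.isClosed_compl).isOpen_compl
  refine ⟨W, w, hw, fun Z' g => ?_⟩
  have hk : (∃ k : Z' ⟶ W, k ≫ w = g) ↔
      ∀ z x, Points.map (f ≫ q).hom x = Points.map g.hom z → x ∈ G := by
    constructor
    · rintro ⟨k, rfl⟩ z x hx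
      have h : Points.map (k ≫ w).hom z ∈ Set.range (Points.map w.hom) :=
        AlgSpB.range_map_subset_of_factor (j := w.hom) k.hom rfl ⟨z, rfl⟩
      rw [hr] at h
      exact by_contra fun hn => h ⟨x, hn, hx⟩
    · intro H
      obtain ⟨l, hl⟩ := (AlgSpB.exists_factor_isOpenImmersion_iff hw g.hom).2 (by
        rintro _ ⟨z, rfl⟩
        rw [hr]
        rintro ⟨x, hx, hxz⟩
        exact hx (H z x hxz))
      exact ⟨ObjectProperty.homMk l, ObjectProperty.hom_ext _ hl⟩
  rw [hk]
  constructor
  · intro H Y' gY q' sqY X' gX f' sqX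
    refine (AlgSpEN.locP_flat_iff_forall f'.hom).2 fun x' => ?_
    · refine (Set.ext_iff.1 (hGbc X' Y' Z' g f' q' gX gY sqY sqX) x').2 (H (Points.map (f'.hom ≫ q'.hom) x') _ ?_)
      rw [← Points.map_comp, ← Points.map_comp, Category.assoc, ← sqY.w, reassoc_of% sqX.w.symm]
      rfl
  · intro H z
    let Y' : AlgSp.Space S := ⟨pullback q.hom g.hom,
      AlgSp.isAlgSpace_pullback Z.property Y.property Z'.property _ _⟩
    let gY : Y' ⟶ Y := ObjectProperty.homMk (pullback.fst q.hom g.hom)
    let q' : Y' ⟶ Z' := ObjectProperty.homMk (pullback.snd q.hom g.hom)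
    have sqY : IsPullback gY.hom q'.hom q.hom g.hom := IsPullback.of_hasPullback _ _
    let X' : AlgSp.Space S := ⟨pullback f.hom gY.hom,
      AlgSp.isAlgSpace_pullback Y.property X.property Y'.property _ _⟩
    let gX : X' ⟶ X := ObjectProperty.homMk (pullback.fst f.hom gY.hom)
    let f' : X' ⟶ Y' := ObjectProperty.homMk (pullback.snd f.hom gY.hom)
    have sqX : IsPullback gX.hom f'.hom f.hom gY.hom := IsPullback.of_hasPullback _ _
    intro x hx
    obtain ⟨x', rfl, -⟩ := AlgSpB.exists_of_isPullback (sqX.paste_vert sqY) x z hx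
    exact (Set.ext_iff.1 (hGbc X' Y' Z' g f' q' gX gY sqY sqX) x').1
      ((AlgSpEN.locP_flat_iff_forall f'.hom).1 (H Y' gY q' sqY X' gX f' sqX) x')

end Groth.Agent.S10642
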