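import Groth.Statements.S10644
import Groth.Agent.S10641
import Groth.Agent.S10643
import Groth.Agent.AlgSpCov.UnramMono
import Groth.Agent.AlgSpCov.Instances
import Groth.Agent.AlgSpEN.StrataSq
import Groth.Agent.S9928

set_option autoImplicit false
set_option backward.isDefEq.respectTransparency false
set_option backward.isDefEq.respectTransparency.types false
universe u
open CategoryTheory CategoryTheory.Limits AlgebraicGeometry
open AlgSp Groth.Agent

namespace Groth.Agent.S10644


/-- A closed immersion which is flat, locally of finite presentation and surjective is an isomorphism. -/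
theorem isIso_iff_closedImmersion {S : Scheme.{u}} {X Y : AlgSp.Space S} (f : X ⟶ Y)
    (hfp : LocP @LocallyOfFinitePresentation f.hom) :
    IsIso f.hom ↔ RepWith @IsClosedImmersion f.hom ∧ IsSurjectiveMor f.hom ∧ LocP @Flat f.hom := by
  constructor
  · intro _
    exact ⟨MorphismProperty.of_isIso _ _,
      fun y => ⟨Points.map (inv f.hom) y, by rw [← Points.map_comp, IsIso.inv_hom_id, Points.map_id]⟩,
      AlgSpCov.locP_of_repWith AlgSpCov.etaleLocal_flat (MorphismProperty.of_isIso _ _)⟩
  · rintro ⟨hc, hs, hfl⟩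
    have ho : RepWith @IsOpenImmersion f.hom := ⟨hc.1, fun U V g fst snd sq => by
      have : IsClosedImmersion snd.left := hc.2 g fst snd sq
      have : Flat snd.left :=
        (AlgSpCov.locP_baseChange AlgSpCov.etaleLocal_flat X.property Y.property sq hfl) (𝟙 _) (𝟙 _) snd
          (AlgSp.repWith_id _ _) (AlgSp.repWith_id _ _) (by simp)
      have : LocallyOfFinitePresentation snd.left :=
        (AlgSpCov.locP_baseChange AlgSpCov.etaleLocal_locallyOfFinitePresentation X.property Y.property sq hfp)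
          (𝟙 _) (𝟙 _) snd (AlgSp.repWith_id _ _) (AlgSp.repWith_id _ _) (by simp)
      change IsOpenImmersion snd.left
      exact IsOpenImmersion.of_flat_of_mono _⟩
    have := AlgSpEN.isIso_of_range_eq_univ f ho (Set.range_eq_univ.2 hs)
    exact Functor.map_isIso (ObjectProperty.ι _) f

/-- For morphisms f : X ⟶ Y, p : X ⟶ Z and q : Y ⟶ Z of algebraic spaces over S with f ≫ q = p, where p
is flat, universally closed and locally of finite presentation and q is closed, separated and
locally of finite type, there is an open subspace W of Z with the following property: a morphism of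
algebraic spaces g : Z' ⟶ Z factors through W exactly when the base change X' ⟶ Y' of f along g is
an isomorphism. Here the base change of f along g is any f' : X' ⟶ Y' obtained from pullback squares
Y' = Y ×_Z Z' and X' = X ×_Y Y' of algebraic spaces over S, and W ⊂ Z is given as a representable
open immersion w : W ⟶ Z. -/
theorem result {S : Scheme.{u}} {X Y Z : AlgSp.Space S}
    (f : X ⟶ Y) (p : X ⟶ Z) (q : Y ⟶ Z) (hc : f ≫ q = p)
    (hp1 : AlgSp.LocP @LocallyOfFinitePresentation p.hom) (hp2 : AlgSp.LocP @Flat p.hom)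
    (hp3 : AlgSp.IsUnivClosedMor p.hom) (hq1 : AlgSp.LocP @LocallyOfFiniteType q.hom)
    (hq2 : AlgSp.IsClosedMor q.hom) (hq3 : AlgSp.IsSeparatedMor q.hom) :
    ∃ (W : AlgSp.Space S) (w : W ⟶ Z), AlgSp.RepWith @IsOpenImmersion w.hom ∧
      ∀ (Z' : AlgSp.Space S) (g : Z' ⟶ Z),
        (∃ k : Z' ⟶ W, k ≫ w = g) ↔
          ∀ (Y' : AlgSp.Space S) (gY : Y' ⟶ Y) (q' : Y' ⟶ Z'),
            IsPullback gY.hom q'.hom q.hom g.hom →
            ∀ (X' : AlgSp.Space S) (gX : X' ⟶ X) (f' : X' ⟶ Y'),
              IsPullback gX.hom f'.hom f.hom gY.hom →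
                IsIso f'.hom := by
  have hlft : LocP @LocallyOfFiniteType p.hom := fun U V a b h ha hb w =>
    have : LocallyOfFinitePresentation h.left := hp1 a b h ha hb w; inferInstance
  have hpc : IsClosedMor p.hom :=
    hp3 Z.property (𝟙 _) (𝟙 _) p.hom (IsPullback.of_horiz_isIso ⟨by simp⟩)
  have hfp : LocP @LocallyOfFinitePresentation f.hom := by
    subst hc
    exact AlgSp.locP_lfp_of_comp Z.property f.hom q.hom hp1 hq1
  obtain ⟨W₁, w₁, hw₁, hW₁⟩ := Groth.Agent.S10641.result f p q hc hlft hp3 hq3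
  obtain ⟨W₂, w₂, hw₂, hW₂⟩ := Groth.Agent.S10643.result f p q hc hp1 hp2 hpc hq1 hq2
  obtain ⟨W, w, hw, hr⟩ := AlgSpB.exists_openSubspace Z
    ((AlgSpB.isOpen_range_of_isOpenImmersion hw₁).inter (AlgSpB.isOpen_range_of_isOpenImmersion hw₂))
  refine ⟨W, w, hw, fun Z' g => ?_⟩
  have hk : (∃ k : Z' ⟶ W, k ≫ w = g) ↔ (∃ k : Z' ⟶ W₁, k ≫ w₁ = g) ∧ ∃ k : Z' ⟶ W₂, k ≫ w₂ = g := by
    have e : ∀ {W' : AlgSp.Space S} (w' : W' ⟶ Z), RepWith @IsOpenImmersion w'.hom →
        ((∃ k : Z' ⟶ W', k ≫ w' = g) ↔ Set.range (Points.map g.hom) ⊆ Set.range (Points.map w'.hom)) :=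
      fun w' hw' => ⟨fun ⟨k, hk⟩ => AlgSpB.range_map_subset_of_factor k.hom (by rw [← hk]; rfl), fun h => by
        obtain ⟨l, hl⟩ := (AlgSpB.exists_factor_isOpenImmersion_iff hw' g.hom).2 h
        exact ⟨ObjectProperty.homMk l, ObjectProperty.hom_ext _ hl⟩⟩
    rw [e w hw, e w₁ hw₁, e w₂ hw₂, hr, Set.subset_inter_iff]
  rw [hk, hW₁, hW₂]
  simp only [← forall_and]
  refine forall_congr' fun Y' => forall_congr' fun gY => forall_congr' fun q' => forall_congr' fun sqY =>
    forall_congr' fun X' => forall_congr' fun gX => forall_congr' fun f' => forall_congr' fun sqX => ?_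
  exact (isIso_iff_closedImmersion f'
    (AlgSpCov.locP_baseChange AlgSpCov.etaleLocal_locallyOfFinitePresentation X.property Y.property sqX hfp)).symm

end Groth.Agent.S10644
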