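import Groth.Statements.S10645
import Groth.Agent.AlgSpReg.LciLocus
-- import your own Groth.Agent.* helpers here

set_option autoImplicit false
universe u
open CategoryTheory CategoryTheory.Limits AlgebraicGeometry
open AlgSp

set_option backward.isDefEq.respectTransparency.types false

namespace Groth.Agent.S10645

/-- For morphisms f : X ⟶ Y, p : X ⟶ Z and q : Y ⟶ Z of algebraic spaces over S with f ≫ q = p, where p
is flat, closed and locally of finite presentation and q is flat and also locally of finite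
presentation, there is an open subspace W of Z with the following property: a morphism of algebraic
spaces g : Z' ⟶ Z factors through W exactly when the base change X' ⟶ Y' of f along g is a local
complete intersection (Koszul) morphism, i.e. Koszul at every point etale locally on source and
target. Here the base change of f along g is any f' : X' ⟶ Y' obtained from pullback squares Y' = Y
×_Z Z' and X' = X ×_Y Y' of algebraic spaces over S, and W ⊂ Z is given as a representable open
immersion w : W ⟶ Z. -/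
theorem result {S : Scheme.{u}} {X Y Z : AlgSp.Space S}
    (f : X ⟶ Y) (p : X ⟶ Z) (q : Y ⟶ Z) (hc : f ≫ q = p)
    (hp1 : AlgSp.LocP @Flat p.hom) (hp2 : AlgSp.LocP @LocallyOfFinitePresentation p.hom)
    (hp3 : AlgSp.IsClosedMor p.hom) (hq1 : AlgSp.LocP @Flat q.hom)
    (hq2 : AlgSp.LocP @LocallyOfFinitePresentation q.hom) :
    ∃ (W : AlgSp.Space S) (w : W ⟶ Z), AlgSp.RepWith @IsOpenImmersion w.hom ∧
      ∀ (Z' : AlgSp.Space S) (g : Z' ⟶ Z),
        (∃ k : Z' ⟶ W, k ≫ w = g) ↔
          ∀ (Y' : AlgSp.Space S) (gY : Y' ⟶ Y) (q' : Y' ⟶ Z'),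
            IsPullback gY.hom q'.hom q.hom g.hom →
            ∀ (X' : AlgSp.Space S) (gX : X' ⟶ X) (f' : X' ⟶ Y'),
              IsPullback gX.hom f'.hom f.hom gY.hom →
                AlgSp.IsLCIMor f'.hom := by
  subst hc
  let G : Set (Points X.obj) := {x | LocPNear AlgSp.lci f.hom x}
  have hGo : IsOpen G := by
    refine isOpen_iff_forall_mem_open.2 fun x hx => ?_
    obtain ⟨W, j, hj, hxj, hW⟩ := hx
    exact ⟨Set.range (Points.map j), fun y hy => ⟨W, j, hj, hy, hW⟩,
      Groth.Agent.AlgSpB.isOpen_range_of_isOpenImmersion hj, hxj⟩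
  obtain ⟨W, w, hw, hr⟩ := Groth.Agent.AlgSpB.exists_openSubspace Z (hp3 _ hGo.isClosed_compl).isOpen_compl
  refine ⟨W, w, hw, fun Z' g => ?_⟩
  have hk : (∃ k : Z' ⟶ W, k ≫ w = g) ↔
      ∀ z x, Points.map (f ≫ q).hom x = Points.map g.hom z → x ∈ G := by
    constructor
    · rintro ⟨k, rfl⟩ z x hx
      have h : Points.map (k ≫ w).hom z ∈ Set.range (Points.map w.hom) :=
        Groth.Agent.AlgSpB.range_map_subset_of_factor (j := w.hom) k.hom rfl ⟨z, rfl⟩
      rw [hr] at h
      exact by_contra fun hn => h ⟨x, hn, hx⟩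
    · intro H
      obtain ⟨l, hl⟩ := (Groth.Agent.AlgSpB.exists_factor_isOpenImmersion_iff hw g.hom).2 (by
        rintro _ ⟨z, rfl⟩
        rw [hr]
        rintro ⟨x, hx, hxz⟩
        exact hx (H z x hxz))
      exact ⟨ObjectProperty.homMk l, ObjectProperty.hom_ext _ hl⟩
  rw [hk]
  constructor
  · intro H Y' gY q' sqY X' gX f' sqX U V a b h ha hb w' u
    refine Groth.Agent.AlgSpReg.isKoszulAt_of_locPNear f' ha hb w' ?_
    refine (Groth.Agent.AlgSpReg.locPNear_lci_baseChange_iff f (f ≫ q) q rfl hp1 hp2 hq1 hq2 g gY q' sqY gX f' sqX _).2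
      (H (Points.map (f'.hom ≫ q'.hom) (Points.ofPt a u)) _ ?_)
    rw [← Points.map_comp, ← Points.map_comp, Category.assoc, ← sqY.w, reassoc_of% sqX.w.symm]
    rfl
  · intro H z
    let Y' : AlgSp.Space S := ⟨pullback q.hom g.hom,
      Groth.Agent.AlgSp.isAlgSpace_pullback Z.property Y.property Z'.property _ _⟩
    let gY : Y' ⟶ Y := ObjectProperty.homMk (pullback.fst q.hom g.hom)
    let q' : Y' ⟶ Z' := ObjectProperty.homMk (pullback.snd q.hom g.hom)
    have sqY : IsPullback gY.hom q'.hom q.hom g.hom := IsPullback.of_hasPullback _ _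
    let X' : AlgSp.Space S := ⟨pullback f.hom gY.hom,
      Groth.Agent.AlgSp.isAlgSpace_pullback Y.property X.property Y'.property _ _⟩
    let gX : X' ⟶ X := ObjectProperty.homMk (pullback.fst f.hom gY.hom)
    let f' : X' ⟶ Y' := ObjectProperty.homMk (pullback.snd f.hom gY.hom)
    have sqX : IsPullback gX.hom f'.hom f.hom gY.hom := IsPullback.of_hasPullback _ _
    intro x hx
    obtain ⟨x', rfl, -⟩ := Groth.Agent.AlgSpB.exists_of_isPullback (sqX.paste_vert sqY) x z hx
    refine (Groth.Agent.AlgSpReg.locPNear_lci_baseChange_iff f (f ≫ q) q rfl hp1 hp2 hq1 hq2 g gY q' sqY gX f' sqX x').1 ?_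
    obtain ⟨C, c, hce, hcs⟩ := Y'.property.atlas
    obtain ⟨U, a, h, ha, has, w'⟩ := Groth.Agent.AlgSp.exists_chart_lift X'.property Y'.property f'.hom c hce hcs
    obtain ⟨u, rfl⟩ := Groth.Agent.AlgSpB.surjective_ofPt has x'
    exact Groth.Agent.AlgSpReg.locPNear_of_isKoszulAt f' ha hce w' (H Y' gY q' sqY X' gX f' sqX a c h ha hce w' u)

end Groth.Agent.S10645
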