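import Groth.Statements.S10647
import Groth.Agent.AlgSpEN.ZMT.Factor
import Groth.Agent.AlgSpEN.SigmaSep
import Groth.Agent.AlgSpB.Points
import Groth.Agent.AlgSp.LimOpen

set_option autoImplicit false
set_option backward.isDefEq.respectTransparency false
set_option backward.isDefEq.respectTransparency.types false
universe u
open CategoryTheory CategoryTheory.Limits AlgebraicGeometry
open AlgSp

namespace Groth.Agent.S10647

open Groth.Agent.AlgSpEN.ZMT Groth.Agent.AlgSpQC

set_option maxHeartbeats 2000000 in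
/-- (Zariski's Main Theorem for algebraic spaces) a quasi-finite separated morphism f : X ⟶ Y of
algebraic spaces over S whose target Y is quasi-compact and quasi-separated factors as a
quasi-compact representable open immersion j : X ⟶ T followed by a finite morphism π : T ⟶ Y. (The
published statement asks Y to be quasi-separated in the absolute sense and puts no condition on S;
this row assumes S quasi-separated and Y quasi-separated over S, which together imply it.) -/
theorem result {S : Scheme.{u}} [QuasiSeparatedSpace ↥S] {X Y : AlgSp.Space S} (f : X ⟶ Y)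
    (hf1 : AlgSp.LocP (@LocallyQuasiFinite ⊓ @LocallyOfFiniteType) f.hom) (hf2 : AlgSp.IsQuasiCompactMor f.hom)
    (hf3 : AlgSp.IsSeparatedMor f.hom) (hY1 : AlgSp.IsQuasiCompactSp Y.obj) (hY2 : AlgSp.IsQuasiSeparatedSp Y.obj) :
    ∃ (T : AlgSp.Space S) (j : X ⟶ T) (π : T ⟶ Y), j ≫ π = f ∧
      AlgSp.RepWith @IsOpenImmersion j.hom ∧ AlgSp.IsQuasiCompactMor j.hom ∧ AlgSp.IsFiniteMor π.hom := by
  classical
  obtain ⟨N, ν, f', hfac, hint, hf'⟩ := exists_open_into_norm f hf1 hf2 hf3
  have hν : Representable ν.hom := ((Groth.Agent.AlgSpCov.isIntegralMor_iff _).1 hint).1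
  have haff : IsAffineMor ν.hom := fun Z hZ g => by
    obtain ⟨W, i, fst, h, hW, -⟩ := hint hZ g
    exact ⟨W, i, fst, h, hW⟩
  obtain ⟨U, p, hU, hp, hps⟩ := Groth.Agent.AlgSpEN.exists_affine_atlas Y hY1
  let E₀ : EtOver Y.obj := EtOver.mk p hp
  have : IsAffine E₀.obj.left.left := hU
  have hNaff : IsAffine (bcO hν E₀).obj.left.left := isAffine_bcO_and_map haff E₀
  let νN : (bcO hν E₀).obj.left ⟶ U := EtOver.bcπ hν E₀
  have sN : IsPullback (bcO hν E₀).obj.hom ((yon S).map νN) ν.hom p := EtOver.isPullback_bcObj hν E₀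
  -- the trace of `X` on the chart
  obtain ⟨XU, gX, jW, sX, hjW⟩ : ∃ (XU : Over S) (gX : (yon S).obj XU ⟶ X.obj) (jW : XU ⟶ (bcO hν E₀).obj.left),
      IsPullback gX ((yon S).map jW) f'.hom (bcO hν E₀).obj.hom ∧ IsOpenImmersion jW.left :=
    ⟨_, _, _, hf'.1.isPullback _, hf'.2 _ _ _ (hf'.1.isPullback _)⟩
  have hfac' : f'.hom ≫ ν.hom = f.hom := congrArg (fun m => m.hom) hfac
  have sXU : IsPullback gX ((yon S).map (jW ≫ νN)) f.hom p := by
    rw [Functor.map_comp, ← hfac']
    exact sX.paste_vert sN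
  have hgX : RepWith @Etale gX := MorphismProperty.of_isPullback sXU.flip hp
  obtain ⟨-, hlft⟩ : LocallyQuasiFinite (jW ≫ νN).left ∧ LocallyOfFiniteType (jW ≫ νN).left :=
    hf1 gX p _ hgX hp sXU.w
  have : CompactSpace U.left := inferInstance
  have : CompactSpace XU.left := Groth.Agent.AlgSp.LimOpen.compactSpace_of_isQuasiCompactSp
    (hf2 (IsAlgSpace.yon_obj U) (Groth.Agent.AlgSp.isQuasiCompactSp_yon U) p gX _ sXU)
  let a := νN.left
  let W := jW.left.opensRange
  have hW : IsCompact (W : Set (bcO hν E₀).obj.left.left) := isCompact_range jW.left.continuous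
  have : LocallyOfFiniteType (W.ι ≫ a) := by
    have e : W.ι ≫ a = jW.left.isoOpensRange.inv ≫ (jW ≫ νN).left := by
      rw [Over.comp_left, ← Category.assoc, Scheme.Hom.isoOpensRange_inv_comp]
    rw [e]
    infer_instance
  obtain ⟨s, hs⟩ := exists_finset_openImmersion a W hW
  obtain ⟨D, hD⟩ := exists_subAlgData (hν := hν) ((hint)) hY1 hY2 E₀ hU s
  have hopen : IsOpenImmersion (W.ι ≫ D.dN E₀) := by
    refine hs (D.TE E₀) inferInstance (D.dN E₀) (injective_of_ker_eq_bot _ (D.ker_dN E₀)) ?_ (D.tY E₀)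
      (D.dN_tY E₀)
    intro x hx
    refine ⟨(Scheme.ΓSpecIso (CommRingCat.of (D.A E₀))).inv ⟨x, hD x hx⟩, ?_⟩
    change ((Scheme.ΓSpecIso (CommRingCat.of (D.A E₀))).inv ≫ (D.dN E₀).appTop) ⟨x, hD x hx⟩ = x
    have e : (Scheme.ΓSpecIso (CommRingCat.of (D.A E₀))).inv ≫ (D.dN E₀).appTop =
        CommRingCat.ofHom (D.A E₀).subtype := by
      delta SubAlgData.dN
      rw [Scheme.Hom.comp_appTop, Scheme.toSpecΓ_appTop, Scheme.ΓSpecIso_naturality, Iso.inv_hom_id_assoc]
    rw [e]
    rfl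
  obtain ⟨T₀, νT, π, θ, hT₀, hπ, hπs, sT, hθν, hθ⟩ := exists_quotient haff D p hp hps
  let T : Space S := ⟨T₀, hT₀⟩
  refine ⟨T, ObjectProperty.homMk (f'.hom ≫ θ), ObjectProperty.homMk νT,
    ObjectProperty.hom_ext _ (by simp [T, hθν, hfac']), ?_⟩
  let k : XU ⟶ quotT D p hp := jW ≫ quotd D p hp
  have hk : k ≫ quott D p hp = jW ≫ νN := by
    rw [Category.assoc]
    congr 1
    exact Over.OverMorphism.ext (D.dN_tY E₀)
  have sJ : IsPullback gX ((yon S).map k) (f'.hom ≫ θ) π := by
    refine IsPullback.of_bot (v₂₁ := (yon S).map (quott D p hp)) (v₂₂ := νT) ?_ ?_ sT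
    · rw [← Functor.map_comp, hk, Category.assoc, hθν, hfac']
      exact sXU
    · rw [reassoc_of% sX.w, hθ, Functor.map_comp, Category.assoc]
  have : IsOpenImmersion k.left := by
    have e : k.left = jW.left.isoOpensRange.hom ≫ W.ι ≫ D.dN E₀ := by
      rw [← Category.assoc, Scheme.Hom.isoOpensRange_hom_ι]
      rfl
    rw [e]
    infer_instance
  have := Groth.Agent.AlgSp.isLocallySurjective_of_etale_surjective π hπ hπs
  have hj : RepWith @IsOpenImmersion (f'.hom ≫ θ) :=
    Groth.Agent.AlgSp.repWith_isOpenImmersion_of_baseChange (f'.hom ≫ θ) π sJ ((repWith_yon_map_iff _ k).2 ‹_›)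
  refine ⟨hj, ?_, ?_⟩
  · have : IsAffine (quotT D p hp).left := inferInstanceAs (IsAffine (D.TE E₀))
    have : QuasiCompact k.left := inferInstance
    exact Groth.Agent.AlgSp.isQuasiCompactMor_of_repWith hT₀
      (Groth.Agent.AlgSp.repWith_of_isPullback_of_isLocallySurjective _ hj.1 π _ _ sJ @QuasiCompact
        ((repWith_yon_map_iff _ k).2 ‹_›))
  · refine (Groth.Agent.AlgSpCov.isFiniteMor_iff _).2 ?_
    exact Groth.Agent.AlgSpD.repWith_descend (fun h (hh : IsFinite h) => inferInstance) (X := T) νT p hp hps sT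
      ((repWith_yon_map_iff _ (quott D p hp)).2 (D.isFinite_tY E₀))

end Groth.Agent.S10647
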