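import Groth.Statements.S10648
import Groth.Agent.S10647
import Groth.Agent.AlgSpSpec.Approx
import Groth.Agent.AlgSpSpec.Tail
import Groth.Agent.AlgSp.LimClosed
import Groth.Agent.AlgSp.LimOpen
-- import your own Groth.Agent.* helpers here

set_option autoImplicit false
set_option backward.isDefEq.respectTransparency false
set_option backward.isDefEq.respectTransparency.types false
universe u
open CategoryTheory CategoryTheory.Limits AlgebraicGeometry
open AlgSp

namespace Groth.Agent.S10648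

/-- A quasi-finite separated morphism f : X ⟶ Y of algebraic spaces over S which is moreover locally of
finite presentation, whose target Y is quasi-compact and quasi-separated, factors as a quasi-compact
representable open immersion j : X ⟶ T followed by a morphism π : T ⟶ Y which is finite and finitely
presented. (The published statement asks Y to be quasi-separated in the absolute sense and puts no
condition on S; this row assumes S quasi-separated and Y quasi-separated over S, which together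
imply it.) -/
theorem result {S : Scheme.{u}} [QuasiSeparatedSpace ↥S] {X Y : AlgSp.Space S} (f : X ⟶ Y)
    (hf1 : AlgSp.LocP (@LocallyQuasiFinite ⊓ @LocallyOfFiniteType) f.hom) (hf2 : AlgSp.IsQuasiCompactMor f.hom)
    (hf3 : AlgSp.IsSeparatedMor f.hom) (hf4 : AlgSp.LocP @LocallyOfFinitePresentation f.hom)
    (hY1 : AlgSp.IsQuasiCompactSp Y.obj) (hY2 : AlgSp.IsQuasiSeparatedSp Y.obj) :
    ∃ (T : AlgSp.Space S) (j : X ⟶ T) (π : T ⟶ Y), j ≫ π = f ∧
      AlgSp.RepWith @IsOpenImmersion j.hom ∧ AlgSp.IsQuasiCompactMor j.hom ∧ AlgSp.IsFiniteMor π.hom ∧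
        AlgSp.IsFinitePresentationMor π.hom := by
  obtain ⟨T, j, π, hjπ, hj, hjq, hπ⟩ := Groth.Agent.S10647.result f hf1 hf2 hf3 hY1 hY2
  have hXqc : AlgSp.IsQuasiCompactSp X.obj :=
    hf2 Y.property hY1 (𝟙 Y.obj) (𝟙 X.obj) f.hom (IsPullback.of_horiz_isIso ⟨by simp⟩)
  obtain ⟨I, instP, instD, instN, D, t, c, hc, e, hD, hcl, ht, htc⟩ :=
    Groth.Agent.AlgSpSpec.exists_limit_finite hπ hY1 hY2
  have : IsDirectedOrder I := instD
  have haff : ∀ a, AlgSp.RepWith @IsAffineHom (t.app a) := fun a => Groth.Agent.AlgSp.repWith_mono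
    (fun g (_ : IsFinite g) => (inferInstance : IsAffineHom g))
    ((Groth.Agent.AlgSpCov.isFiniteMor_iff _).1 (ht a).1)
  have hqcqs := fun a => Groth.Agent.AlgSpSpec.qcqs_of_affine (hD a) Y.property (haff a) hY1 hY2
  have hDa : ∀ (a b : Iᵒᵖ) (φ : a ⟶ b), AlgSp.IsAffineMor (D.map φ) := fun a b φ =>
    (Groth.Agent.AlgSp.isAffineMor_iff _).2 (Groth.Agent.AlgSp.repWith_mono
      (fun g (_ : IsClosedImmersion g) => (inferInstance : IsAffineHom g)) (hcl a b φ))
  have hje : AlgSp.RepWith @IsOpenImmersion (j.hom ≫ e.inv) :=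
    ((AlgSp.RepWith (S := S) @IsOpenImmersion).cancel_right_of_respectsIso j.hom e.inv).2 hj
  obtain ⟨i, Ui, ji, q, hji, hUqc, sq⟩ := Groth.Agent.AlgSp.LimOpen.exists_open_stage hD hDa
    (fun a => (hqcqs a).1) (fun a => (hqcqs a).2) c hc (j.hom ≫ e.inv) hje hXqc
  let D' := Groth.Agent.AlgSpSpec.Tail.sys D ji
  let top : Over i := Over.mk (𝟙 i)
  have hD'c : ∀ (a b : Over i) (φ : a ⟶ b), AlgSp.RepWith @IsClosedImmersion (D'.map φ) := fun a b φ =>
    MorphismProperty.of_isPullback (Groth.Agent.AlgSpSpec.Tail.isPullback_map D ji φ) (hcl _ _ φ.left)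
  have hfst : ∀ a : Over i, AlgSp.RepWith @IsOpenImmersion ((Groth.Agent.AlgSpSpec.Tail.toSys D ji).app a) :=
    fun a => MorphismProperty.of_isPullback (IsPullback.of_hasPullback (D.map a.hom) ji).flip hji
  have hD' : ∀ a : Over i, AlgSp.IsAlgSpace (D'.obj a) := fun a =>
    Groth.Agent.AlgSp.isAlgSpace_of_representable _ (hfst a).1 (hD a.left)
  obtain ⟨π', ⟨hc'⟩, hπ'⟩ := Groth.Agent.AlgSpSpec.Tail.exists_limitCone D ji c hc sq
  let t' : D' ⟶ (Functor.const (Over i)).obj Y.obj :=
    Groth.Agent.AlgSpSpec.Tail.toSys D ji ≫ Functor.whiskerLeft (Over.forget i) t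
  have htc' : ∀ a : Over i, π'.app a ≫ t'.app a = f.hom := fun a => by
    change π'.app a ≫ (Groth.Agent.AlgSpSpec.Tail.toSys D ji).app a ≫ t.app a.left = f.hom
    rw [← Category.assoc, hπ', ← hjπ]
    exact (Category.assoc _ _ _).trans ((Category.assoc _ _ _).trans (congrArg (j.hom ≫ ·) (htc a.left)))
  have hqc' : AlgSp.IsQuasiCompactSp (D'.obj top) := by
    have hs : IsIso (pullback.snd (D.map top.hom) ji) := Groth.Agent.AlgSpSpec.Tail.isIso_snd_top D ji
    exact Groth.Agent.AlgSp.isQuasiCompactMor_of_repWith (Groth.Agent.AlgSp.isAlgSpace_of_representable ji hji.1 (hD i))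
      (Groth.Agent.AlgSpB.repWith_of_isIso (P := @QuasiCompact) (pullback.snd (D.map top.hom) ji))
      (Groth.Agent.AlgSp.isAlgSpace_of_representable ji hji.1 (hD i)) hUqc (𝟙 Ui) (𝟙 _) (pullback.snd (D.map top.hom) ji)
      (IsPullback.of_horiz_isIso ⟨(Category.id_comp _).trans (Category.comp_id _).symm⟩)
  have hft' : AlgSp.LocP @LocallyOfFiniteType (t'.app top) :=
    Groth.Agent.AlgSpCov.locP_of_repWith Groth.Agent.AlgSpCov.etaleLocal_locallyOfFiniteType
      (Groth.Agent.AlgSpCov.repWith_comp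
        (Groth.Agent.AlgSp.repWith_mono (fun g (_ : IsOpenImmersion g) => (inferInstance : LocallyOfFiniteType g))
          (hfst top))
        (Groth.Agent.AlgSp.repWith_mono (fun g (_ : IsFinite g) => (inferInstance : LocallyOfFiniteType g))
          ((Groth.Agent.AlgSpCov.isFiniteMor_iff _).1 (ht i).1)))
  obtain ⟨a₀, ha₀⟩ := Groth.Agent.AlgSp.LimClosed.eventually_isIso Y.obj Y.property t' hD' hD'c (Cone.mk X.obj π') hc' top hqc' hft'
    (by rw [show (Cone.mk X.obj π').π.app top ≫ t'.app top = f.hom from htc' top]; exact hf4)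
  have hiso : IsIso (π'.app a₀) := ha₀ a₀ (𝟙 a₀)
  have hopen : AlgSp.RepWith @IsOpenImmersion (π'.app a₀ ≫ (Groth.Agent.AlgSpSpec.Tail.toSys D ji).app a₀) :=
    ((AlgSp.RepWith (S := S) @IsOpenImmersion).cancel_left_of_respectsIso (π'.app a₀) _).2 (hfst a₀)
  refine ⟨⟨D.obj a₀.left, hD _⟩, ObjectProperty.homMk (π'.app a₀ ≫ (Groth.Agent.AlgSpSpec.Tail.toSys D ji).app a₀),
    ObjectProperty.homMk (t.app a₀.left), ObjectProperty.hom_ext _ ?_, hopen, ?_, (ht a₀.left).1, (ht a₀.left).2⟩
  · exact (Category.assoc _ _ _).trans (htc' a₀)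
  · exact Groth.Agent.AlgSp.isQuasiCompactMor_of_quasiCompactSp X.property (hD _) _ hXqc (hqcqs a₀.left).2

end Groth.Agent.S10648
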