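import Groth.Statements.S10649
import Groth.Agent.AlgSp.FiniteLqf
import Groth.Agent.AlgSp.LqfDiscrete
-- import your own Groth.Agent.* helpers here

set_option autoImplicit false
universe u
open CategoryTheory CategoryTheory.Limits AlgebraicGeometry
open AlgSp

namespace Groth.Agent.S10649

/-- The following conditions on a morphism f : X ⟶ Y of algebraic spaces over S are equivalent: (1)
finiteness of f; (2) f is locally quasi-finite as well as proper (locally quasi-finite and locally
of finite type etale locally); (3) f is proper and for every field k and every k-point Spec k ⟶ Y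
the fibre X_k (any pullback of f along it in fppf sheaves) has discrete space of points; (4) f is
universally closed, separated and locally of finite type, and every such fibre X_k has discrete
space of points. -/
theorem result {S : Scheme.{u}} {X Y : AlgSp.Space S} (f : X ⟶ Y) :
    [AlgSp.IsFiniteMor f.hom,
      AlgSp.IsProperMor f.hom ∧ AlgSp.LocP (@LocallyQuasiFinite ⊓ @LocallyOfFiniteType) f.hom,
      AlgSp.IsProperMor f.hom ∧
        ∀ (k : AlgSp.FieldPt Y.obj) (Xk : AlgSp.Sp S) (fst : Xk ⟶ X.obj) (snd : Xk ⟶ (AlgSp.yon S).obj k.pt),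
          IsPullback fst snd f.hom k.toHom → DiscreteTopology (AlgSp.Points Xk),
      AlgSp.IsUnivClosedMor f.hom ∧ AlgSp.IsSeparatedMor f.hom ∧ AlgSp.LocP @LocallyOfFiniteType f.hom ∧
        ∀ (k : AlgSp.FieldPt Y.obj) (Xk : AlgSp.Sp S) (fst : Xk ⟶ X.obj) (snd : Xk ⟶ (AlgSp.yon S).obj k.pt),
          IsPullback fst snd f.hom k.toHom → DiscreteTopology (AlgSp.Points Xk)].TFAE := by
  tfae_have 1 → 2 := fun h => by
    refine ⟨((Groth.Agent.AlgSpD.isFiniteMor_iff_proper _).1 h).2, ?_⟩
    exact Groth.Agent.AlgSpCov.locP_of_repWith Groth.Agent.AlgSpCov.standard_locallyQuasiFinite.etaleLocal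
      (Groth.Agent.AlgSp.repWith_mono (fun g (hg : IsFinite g) => ⟨inferInstance, inferInstance⟩)
        ((Groth.Agent.AlgSpD.isFiniteMor_iff _).1 h))
  tfae_have 2 → 1 := fun h => Groth.Agent.AlgSp.isFiniteMor_of_proper_lqf f.hom h.1 h.2
  tfae_have 2 → 3 := fun h => ⟨h.1, fun _ _ _ _ sq =>
    Groth.Agent.AlgSp.discreteTopology_fibre_of_lqf X.property Y.property f.hom h.2 sq⟩
  tfae_have 3 → 4 := fun h => ⟨h.1.2.2, h.1.1, h.1.2.1.1, h.2⟩
  tfae_have 4 → 2 := fun ⟨hu, hs, hl, hd⟩ => by
    refine ⟨⟨hs, ⟨hl, Groth.Agent.AlgSp.isQuasiCompactMor_of_isUnivClosedMor X.property Y.property f.hom hu⟩, hu⟩, ?_⟩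
    refine Groth.Agent.AlgSp.locP_lqf_of_discrete_fibres X.property Y.property f.hom hl fun k _ str y P fst snd sq => ?_
    let p : AlgSp.FieldPt Y.obj := { K := k, str := str, val := (AlgSp.J S).uliftYonedaEquiv y }
    have hp : p.toHom = y := (AlgSp.J S).uliftYonedaEquiv.symm_apply_apply y
    exact hd p P fst snd (hp.symm ▸ sq)
  tfae_finish

end Groth.Agent.S10649
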