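import Groth.Statements.S10651
import Groth.Agent.S10281
import Groth.Agent.S9964
import Groth.Agent.S9907
import Groth.Agent.S10750
-- import your own Groth.Agent.* helpers here

set_option autoImplicit false
set_option backward.isDefEq.respectTransparency false
set_option backward.isDefEq.respectTransparency.types false
universe u
open CategoryTheory CategoryTheory.Limits AlgebraicGeometry
open AlgSp

namespace Groth.Agent.S10651

/-- Consider morphisms h : X ⟶ Y, f : X ⟶ B, g : Y ⟶ B of algebraic spaces over S with h ≫ g = f, a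
point b of |B| and a field point k of B in the class of b. Assume f is proper, g is separated and
locally of finite type, and either (a) for the fibres X_k ⟶ Y_k of h over k (pullbacks in fppf
sheaves) the image of |X_k| in |Y_k| is finite, or (b) the image in |Y| of the fibre of |X| ⟶ |B|
over b is finite and B is decent. Then over some open subspace B' of B containing b the base change
X_{B'} ⟶ Y_{B'} of h lands in a closed subspace Z of Y_{B'} that is finite over B' (it factors
through Z). -/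
theorem result {S : Scheme.{u}} {X Y B : AlgSp.Space S} (h : X ⟶ Y) (f : X ⟶ B) (g : Y ⟶ B) (hc : h ≫ g = f)
    (b : AlgSp.Points B.obj) (k : AlgSp.FieldPt B.obj) (hk : AlgSp.Points.mk k = b)
    (hf : AlgSp.IsProperMor f.hom) (hg1 : AlgSp.IsSeparatedMor g.hom) (hg2 : AlgSp.LocP @LocallyOfFiniteType g.hom)
    (h3 : (∀ (Yk : AlgSp.Sp S) (gY : Yk ⟶ Y.obj) (sY : Yk ⟶ (AlgSp.yon S).obj k.pt),
            IsPullback gY sY g.hom k.toHom →
            ∀ (Xk : AlgSp.Sp S) (gX : Xk ⟶ X.obj) (hk' : Xk ⟶ Yk), IsPullback gX hk' h.hom gY →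
              (Set.range (AlgSp.Points.map hk')).Finite) ∨
          ((AlgSp.Points.map h.hom '' (AlgSp.Points.map f.hom ⁻¹' {b})).Finite ∧ AlgSp.IsDecent B.obj)) :
    ∃ (B' : AlgSp.Space S) (j : B' ⟶ B), AlgSp.RepWith @IsOpenImmersion j.hom ∧
      b ∈ Set.range (AlgSp.Points.map j.hom) ∧
        ∀ (YB : AlgSp.Space S) (gY : YB ⟶ Y) (sY : YB ⟶ B'), IsPullback gY.hom sY.hom g.hom j.hom →
          ∀ (XB : AlgSp.Space S) (gX : XB ⟶ X) (hB : XB ⟶ YB), IsPullback gX.hom hB.hom h.hom gY.hom →
            ∃ (Z : AlgSp.Space S) (i : Z ⟶ YB) (e : XB ⟶ Z), AlgSp.RepWith @IsClosedImmersion i.hom ∧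
              AlgSp.IsFiniteMor (i ≫ sY).hom ∧ e ≫ i = hB := by
  obtain ⟨Z, i, hZ⟩ := Groth.Agent.S9964.result h
  obtain ⟨hi, ⟨h₀, hh₀⟩, -⟩ := id hZ
  let h' : X ⟶ Z := ObjectProperty.homMk h₀
  have fac : h' ≫ i = h := ObjectProperty.hom_ext _ hh₀
  obtain ⟨hpr, hsur⟩ := Groth.Agent.S10281.result h f g hc hf hg1 hg2 i hZ h' fac
  have : Mono i.hom := Groth.Agent.AlgSpB.mono_of_isClosedImmersion hi
  -- a field point over `b` with finite fibre in `Z`
  obtain ⟨p, hp, hfin⟩ : ∃ p : AlgSp.FieldPt B.obj, AlgSp.Points.mk p = b ∧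
      Finite (AlgSp.Points (pullback (i ≫ g).hom p.toHom)) := by
    rcases h3 with h3 | ⟨hfin, hdec⟩
    · refine ⟨k, hk, ?_⟩
      let Zk := pullback (i ≫ g).hom k.toHom
      let iZ : Zk ⟶ pullback g.hom k.toHom :=
        pullback.lift (pullback.fst (i ≫ g).hom k.toHom ≫ i.hom) (pullback.snd (i ≫ g).hom k.toHom)
          (by rw [Category.assoc]; exact pullback.condition)
      have s1 : IsPullback iZ (pullback.fst (i ≫ g).hom k.toHom) (pullback.fst g.hom k.toHom) i.hom := by
        refine (IsPullback.of_right ?_ (pullback.lift_fst _ _ _) (IsPullback.of_hasPullback g.hom k.toHom).flip).flip.flip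
        rw [show iZ ≫ pullback.snd g.hom k.toHom = pullback.snd (i ≫ g).hom k.toHom from pullback.lift_snd _ _ _]
        exact (IsPullback.of_hasPullback (i ≫ g).hom k.toHom).flip
      have hiZ : Mono iZ := Groth.Agent.AlgSpB.mono_of_isClosedImmersion
        (MorphismProperty.of_isPullback s1.flip hi)
      have hXk := IsPullback.of_hasPullback h.hom (pullback.fst g.hom k.toHom)
      have hZk : AlgSp.IsAlgSpace Zk := Groth.Agent.AlgSp.isAlgSpace_of_isPullback' B.property Z.property
        (AlgSp.IsAlgSpace.yon_obj _) (IsPullback.of_hasPullback (i ≫ g).hom k.toHom)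
      let q : pullback h.hom (pullback.fst g.hom k.toHom) ⟶ Zk :=
        s1.lift (pullback.snd _ _) (pullback.fst _ _ ≫ h₀) (by rw [Category.assoc, hh₀, pullback.condition])
      have hq : IsPullback (pullback.fst h.hom (pullback.fst g.hom k.toHom)) q h₀ (pullback.fst (i ≫ g).hom k.toHom) := by
        refine IsPullback.of_bot (v₂₁ := iZ) (v₂₂ := i.hom) ?_ (s1.lift_snd _ _ _).symm s1.flip
        rw [hh₀, s1.lift_fst]
        exact hXk
      have hqs := Groth.Agent.S9907.result h' (Y' := ⟨Zk, hZk⟩)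
        (ObjectProperty.homMk (pullback.fst (i ≫ g).hom k.toHom)) _ q hq hsur
      have hr := h3 _ _ _ (IsPullback.of_hasPullback g.hom k.toHom) _ _ _ hXk
      have hr' : (Set.range (AlgSp.Points.map iZ)).Finite := hr.subset (by
        rintro _ ⟨z, rfl⟩
        obtain ⟨x, rfl⟩ := hqs z
        exact ⟨x, by rw [← AlgSp.Points.map_comp, s1.lift_fst]⟩)
      exact Set.finite_univ_iff.1 (Set.Finite.of_finite_image (by rwa [Set.image_univ])
        (Groth.Agent.AlgSpB.injective_map_of_mono iZ).injOn)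
    · obtain ⟨p, hp, hpm, -⟩ := hdec b
      refine ⟨p, hp, ?_⟩
      let Zp := pullback (i ≫ g).hom p.toHom
      have : Mono (pullback.fst (i ≫ g).hom p.toHom) := inferInstance
      have hr : (Set.range (AlgSp.Points.map (pullback.fst (i ≫ g).hom p.toHom ≫ i.hom))).Finite := hfin.subset (by
        rintro _ ⟨z, rfl⟩
        obtain ⟨x, hx⟩ := hsur (AlgSp.Points.map (pullback.fst (i ≫ g).hom p.toHom) z)
        refine ⟨x, ?_, ?_⟩
        · rw [Set.mem_preimage, Set.mem_singleton_iff, ← hc, ← fac]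
          change AlgSp.Points.map ((h₀ ≫ i.hom) ≫ g.hom) x = b
          rw [Category.assoc, AlgSp.Points.map_comp, show AlgSp.Points.map h₀ x = _ from hx, ← AlgSp.Points.map_comp,
            show pullback.fst (i ≫ g).hom p.toHom ≫ i.hom ≫ g.hom = pullback.snd _ _ ≫ p.toHom from
              pullback.condition, AlgSp.Points.map_comp, ← AlgSp.Points.ofScheme_toScheme _ (AlgSp.Points.map (pullback.snd (i ≫ g).hom p.toHom) z),
            ← AlgSp.Points.ofPt_eq_map_ofScheme, AlgSp.Points.ofPt_toHom, hp]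
        · rw [← hh₀, AlgSp.Points.map_comp, AlgSp.Points.map_comp]
          exact congrArg _ hx)
      exact Set.finite_univ_iff.1 (Set.Finite.of_finite_image (by rwa [Set.image_univ])
        (Groth.Agent.AlgSpB.injective_map_of_mono (pullback.fst (i ≫ g).hom p.toHom ≫ i.hom)).injOn)
  have hsq := IsPullback.of_hasPullback (i ≫ g).hom p.toHom
  have hPk := Groth.Agent.AlgSp.isAlgSpace_of_isPullback' B.property Z.property (AlgSp.IsAlgSpace.yon_obj _) hsq
  have hprk := Groth.Agent.AlgSpD.isProperMor_baseChange Z.property B.property hsq hpr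
  have := hfin
  have := Groth.Agent.AlgSp.discreteTopology_points_of_finite hPk _ hprk.1 hprk.2.1.1
  obtain ⟨V, j, hj, hjb, hV⟩ := Groth.Agent.AlgSp.exists_finite_nhd (i ≫ g) b hpr fun z hz =>
    Groth.Agent.AlgSp.qfAt_of_discrete_fibre Z.property B.property (i ≫ g).hom hpr.2.1.1 p hsq (hz.trans hp.symm)
  refine ⟨V, j, hj, hjb, fun YB gY sY hY XB gX hB hX => ?_⟩
  have s2 := IsPullback.of_hasPullback i.hom gY.hom
  let ZB : AlgSp.Space S := ⟨_, Groth.Agent.AlgSp.isAlgSpace_of_isPullback' Y.property Z.property YB.property s2⟩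
  have w : (gX.hom ≫ h₀) ≫ i.hom = hB.hom ≫ gY.hom := by rw [Category.assoc, hh₀, hX.w]
  refine ⟨ZB, ObjectProperty.homMk (pullback.snd i.hom gY.hom), ObjectProperty.homMk (s2.lift _ _ w),
    MorphismProperty.of_isPullback s2 hi, ?_, ObjectProperty.hom_ext _ (s2.lift_snd _ _ w)⟩
  exact hV ZB (ObjectProperty.homMk (pullback.fst i.hom gY.hom))
    (ObjectProperty.homMk (pullback.snd i.hom gY.hom) ≫ sY) (s2.paste_vert hY)

end Groth.Agent.S10651
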