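import Groth.Statements.S10652
import Groth.Agent.S0451
import Groth.Agent.AlgSpCov.LocPBasic
import Groth.Agent.AlgSpCov.Listed
import Groth.Agent.AlgSp.Space
import Groth.Agent.AlgSp.QCMor
-- import your own Groth.Agent.* helpers here

set_option autoImplicit false
universe u
open CategoryTheory CategoryTheory.Limits AlgebraicGeometry
open AlgSp

set_option backward.isDefEq.respectTransparency.types false

namespace Groth.Agent.S10652

/-- For a flat morphism f : X ⟶ Y of algebraic spaces over S which is locally of finite type, and an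
open subspace j : V ⟶ Y which is quasi-compact (as a morphism) and scheme theoretically dense (on
some etale surjective scheme chart its inverse image is a schematically dense open): if the base
change X ×_Y V ⟶ V is locally of finite presentation then so is f. -/
theorem result {S : Scheme.{u}} {X Y V : AlgSp.Space S} (f : X ⟶ Y) (j : V ⟶ Y)
    (hf1 : AlgSp.LocP @LocallyOfFiniteType f.hom) (hf2 : AlgSp.LocP @Flat f.hom)
    (hj1 : AlgSp.IsQuasiCompactMor j.hom) (hj2 : AlgSp.IsSchDense j.hom)
    (P : AlgSp.Space S) (fst : P ⟶ X) (snd : P ⟶ V) (hP : IsPullback fst.hom snd.hom f.hom j.hom)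
    (hV : AlgSp.LocP @LocallyOfFinitePresentation snd.hom) :
    AlgSp.LocP @LocallyOfFinitePresentation f.hom := by
  obtain ⟨hjo, B, φ, W, fstW, hφ, hφs, sqW, hW⟩ := hj2
  have hjq : RepWith @QuasiCompact j.hom := (Groth.Agent.AlgSp.repWith_quasiCompact_iff Y.property _ hjo.1).2 hj1
  have hWq : QuasiCompact W.ι := hjq.2 φ _ _ sqW
  have hWd : IsSchemeTheoreticallyDominant W.ι := ⟨by
    refine Scheme.IdealSheafData.ext (funext fun T => ?_)
    rw [W.ι.ker_apply, Scheme.IdealSheafData.ideal_bot, Pi.bot_apply, eq_bot_iff]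
    intro s hs
    rw [RingHom.mem_ker] at hs
    rw [Ideal.mem_bot]
    refine hW T.1 ?_
    rw [map_zero]
    have := Scheme.Hom.isIso_app W.ι (T.1 ⊓ W) (by rw [Scheme.Opens.opensRange_ι]; exact inf_le_right)
    apply (ConcreteCategory.bijective_of_isIso (W.ι.app (T.1 ⊓ W))).1
    rw [map_zero]
    have h2 := ConcreteCategory.congr_hom (W.ι.naturality (homOfLE (inf_le_left : T.1 ⊓ W ≤ T.1)).op) s
    refine h2.trans ?_
    rw [ConcreteCategory.comp_apply]
    exact (congrArg _ hs).trans (map_zero _)⟩
  obtain ⟨U, a, h, ha, has, w⟩ := Groth.Agent.AlgSp.exists_chart_lift X.property Y.property f.hom φ hφ hφs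
  have : Flat h.left := hf2 a φ h ha hφ w
  have : LocallyOfFiniteType h.left := hf1 a φ h ha hφ w
  let WB : Over S := Over.mk (W.ι ≫ B.hom)
  let iW : WB ⟶ B := Over.homMk W.ι rfl
  let O : U.left.Opens := h.left ⁻¹ᵁ W
  let UO : Over S := Over.mk (O.ι ≫ U.hom)
  let io : UO ⟶ U := Over.homMk O.ι rfl
  let k : UO ⟶ WB := Over.homMk (h.left ∣_ W) (by
    change (h.left ∣_ W) ≫ W.ι ≫ B.hom = O.ι ≫ U.hom
    rw [← Category.assoc, morphismRestrict_ι, Category.assoc, Over.w h])
  have sO : IsPullback io k h iW := IsPullback.of_map (Over.forget S)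
    (Over.OverMorphism.ext (morphismRestrict_ι h.left W).symm) (isPullback_morphismRestrict h.left W).flip
  have big : IsPullback ((yon S).map io) ((yon S).map k ≫ fstW) (a ≫ f.hom) j.hom := by
    rw [w]
    exact (sO.map (yon S)).paste_vert sqW.flip
  obtain ⟨m, hm₁, hm₂⟩ := hP.exists_lift ((yon S).map io ≫ a) ((yon S).map k ≫ fstW)
    (by rw [Category.assoc, big.w])
  have sm : IsPullback ((yon S).map io) m a fst.hom := IsPullback.of_bot (hm₂.symm ▸ big) hm₁.symm hP
  have hme : RepWith @Etale m := MorphismProperty.of_isPullback sm ha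
  have hWe : RepWith @Etale fstW := MorphismProperty.of_isPullback sqW.flip hφ
  have : LocallyOfFinitePresentation (h.left ∣_ W) := hV m fstW k hme hWe hm₂
  have hh : LocallyOfFinitePresentation h.left := Groth.Agent.S0451.result h.left W
  have hS := Groth.Agent.AlgSpCov.standard_locallyOfFinitePresentation
  have := hS.bc
  have := hS.comp
  exact Groth.Agent.AlgSpCov.locP_of_one_chart hS.etaleLocal hS.of_etale Y.property ha has hφ w hh

end Groth.Agent.S10652
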