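import Groth.Statements.S10653
import Groth.Agent.AlgSpD.RelDim
import Groth.Agent.AlgSpB.Open
import Groth.Agent.AlgSp.QCMor
import Groth.Agent.AlgSp.PointsMor
import Groth.Agent.AlgSpCov.Sheaf
import Groth.Agent.S1240

set_option autoImplicit false
set_option backward.isDefEq.respectTransparency false
set_option backward.isDefEq.respectTransparency.types false
universe u
open CategoryTheory CategoryTheory.Limits AlgebraicGeometry
open AlgSp Groth.Agent

namespace Groth.Agent.S10653

/-- For a flat morphism f : X ⟶ Y of algebraic spaces over S which is locally of finite type, and an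
open subspace j : V ⟶ Y with |V| dense in |Y| such that the base change X ×_Y V ⟶ V has relative
dimension at most d (at every point some etale chart diagram has top arrow with local fibre
dimension at most d): if either j is quasi-compact or f is locally of finite presentation, then f
has relative dimension at most d at every point of |X|. -/
theorem result {S : Scheme.{u}} {X Y V : AlgSp.Space S} (f : X ⟶ Y) (j : V ⟶ Y) (d : ℕ)
    (hf1 : AlgSp.LocP @Flat f.hom) (hf2 : AlgSp.LocP @LocallyOfFiniteType f.hom)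
    (hj1 : AlgSp.RepWith @IsOpenImmersion j.hom) (hj2 : Dense (Set.range (AlgSp.Points.map j.hom)))
    (P : AlgSp.Space S) (fst : P ⟶ X) (snd : P ⟶ V) (hP : IsPullback fst.hom snd.hom f.hom j.hom)
    (hV : ∀ x, AlgSp.HasAtMor (fun _ _ h u => FlatMor.fibreDimAt h u ≤ (d : WithBot ℕ∞)) snd.hom x)
    (h : AlgSp.LocP @LocallyOfFinitePresentation f.hom ∨ AlgSp.IsQuasiCompactMor j.hom) :
    ∀ x, AlgSp.HasAtMor (fun _ _ h u => FlatMor.fibreDimAt h u ≤ (d : WithBot ℕ∞)) f.hom x := by
  have hje : RepWith @Etale j.hom :=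
    AlgSp.repWith_mono (Q := @Etale) (fun g hg => have : IsOpenImmersion g := hg; inferInstance) hj1
  have hfe : RepWith @Etale fst.hom :=
    AlgSp.repWith_mono (Q := @Etale) (fun g hg => have : IsOpenImmersion g := hg; inferInstance)
      (MorphismProperty.of_isPullback hP.flip hj1)
  have hinv : AlgSpD.MorEtaleInv.{u} (fun _ _ h u => FlatMor.fibreDimAt h u ≤ (d : WithBot ℕ∞)) :=
    fun _ _ _ _ p q h' h _ _ w u => by
      show FlatMor.fibreDimAt h' u ≤ _ ↔ FlatMor.fibreDimAt h (p u) ≤ _
      rw [AlgSpD.fibreDimAt_inv p q h' h w u]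
  intro x
  obtain ⟨A, B, a, b, g, u, ha, hb, w, rfl⟩ := AlgSpD.exists_diagram f x
  refine ⟨A, B, a, b, g, u, ha, hb, w, rfl, ?_⟩
  have : Flat g.left := hf1 a b g ha hb w
  have : LocallyOfFiniteType g.left := hf2 a b g ha hb w
  let U : B.left.Opens := ⟨Points.ofPt b ⁻¹' Set.range (Points.map j.hom),
    (AlgSpB.isOpen_range_of_isOpenImmersion hj1).preimage (Points.continuous_ofPt b)⟩
  have hU : Dense (U : Set B.left) := hj2.preimage (AlgSpB.isOpenMap_ofPt hb)
  refine Groth.Agent.S1240.result g.left U hU d (fun t ht => ?_) (h.imp (fun hlfp => hlfp a b g ha hb w) fun hqc => ?_) u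
  · obtain ⟨y, hy⟩ : g.left t ∈ U := ht
    have hx : Points.map f.hom (Points.ofPt a t) = Points.map j.hom y := by
      rw [hy, Points.map_ofPt, w, AlgSpB.ofPt_map_comp]
    obtain ⟨e, he, -⟩ := AlgSpB.exists_of_isPullback hP (Points.ofPt a t) y hx
    obtain ⟨A', B', a', b', g', t', ha', hb', w', ht', hd⟩ := hV e
    refine (AlgSpD.hasAtMor_iff_chart hinv f ha hb w t).1 ⟨A', B', a' ≫ fst.hom, b' ≫ j.hom, g', t',
      AlgSpCov.repWith_comp ha' hfe, AlgSpCov.repWith_comp hb' hje, ?_, ?_, hd⟩
    · rw [Category.assoc, hP.w, reassoc_of% w']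
    · rw [← Points.map_ofPt, ht', he]
  · obtain ⟨W, l, m, sqW⟩ := hj1.1 b
    have : IsOpenImmersion l.left := hj1.2 _ _ _ sqW
    have : QuasiCompact l.left := ((AlgSp.repWith_quasiCompact_iff Y.property j.hom hj1.1).2 hqc).2 _ _ _ sqW
    have hr : (U : Set B.left) = Set.range l.left := by
      refine Set.ext fun v => ⟨fun ⟨y, hy⟩ => ?_, ?_⟩
      · obtain ⟨e, -, he⟩ := AlgSpB.exists_of_isPullback sqW y (Points.ofScheme B v)
          (hy.trans (Points.ofPt_eq_map_ofScheme b v))
        refine ⟨Points.toScheme W e, ?_⟩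
        rw [← Points.toScheme_ofScheme B v, ← he]
        nth_rewrite 2 [← Points.ofScheme_toScheme W e]
        rw [← Points.ofPt_eq_map_ofScheme, ← Category.comp_id ((yon S).map l), AlgSpB.ofPt_map_comp,
          Points.ofPt_eq_map_ofScheme, Points.map_id, Points.toScheme_ofScheme]
      · rintro ⟨z, rfl⟩
        exact ⟨Points.ofPt m z, by rw [Points.map_ofPt, sqW.w, AlgSpB.ofPt_map_comp]⟩
    intro O hOc hOo
    rw [hr, Set.inter_comm, ← Set.image_preimage_eq_inter_range]
    exact (QuasiCompact.isCompact_preimage (f := l.left) O hOo hOc).image l.left.continuous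

end Groth.Agent.S10653
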