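import Groth.Statements.S10655
import Groth.Agent.AlgSp.FlatMonoDense
import Groth.Agent.AlgSp.QCMor
import Groth.Agent.AlgSp.FppfLocal
import Groth.Agent.AlgSpB.Bootstrap2
import Groth.Agent.AlgSpB.LqfSep
import Groth.Agent.AlgSpCov.FpqcDiag
import Groth.Agent.AlgSpCov.Listed

set_option autoImplicit false
universe u
open CategoryTheory CategoryTheory.Limits AlgebraicGeometry
open AlgSp

set_option backward.isDefEq.respectTransparency.types false

namespace Groth.Agent.S10655

open Groth.Agent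

/-- A closed immersion through which a schematically dense open factors is an isomorphism. -/
theorem isIso_of_factors {Z T : Scheme.{u}} (i : Z ⟶ T) [IsClosedImmersion i] (O : T.Opens)
    (hO : CInt.IsSchematicallyDense O) (l : O.toScheme ⟶ Z) (hl : l ≫ i = O.ι) : IsIso i := by
  rw [IsClosedImmersion.isIso_iff_ker_eq_bot]
  refine Scheme.IdealSheafData.ext (funext fun U => ?_)
  rw [i.ker_apply, Scheme.IdealSheafData.ideal_bot, Pi.bot_apply, eq_bot_iff]
  intro s hs
  rw [RingHom.mem_ker] at hs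
  rw [Ideal.mem_bot]
  refine hO U.1 ?_
  rw [map_zero]
  have := Scheme.Hom.isIso_app O.ι (U.1 ⊓ O) (by rw [Scheme.Opens.opensRange_ι]; exact inf_le_right)
  apply (ConcreteCategory.bijective_of_isIso (O.ι.app (U.1 ⊓ O))).1
  rw [map_zero]
  have h2 := ConcreteCategory.congr_hom (O.ι.naturality (homOfLE (inf_le_left : U.1 ⊓ O ≤ U.1)).op) s
  refine h2.trans ?_
  have h3 : O.ι.app U.1 s = 0 := by
    rw [Scheme.Hom.congr_app hl.symm U.1]
    simp [hs]
  rw [ConcreteCategory.comp_apply, h3, map_zero]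

theorem result {S : Scheme.{u}} {X Y V : AlgSp.Space S} (f : X ⟶ Y) (j : V ⟶ Y)
    (hf1 : AlgSp.IsSeparatedMor f.hom) (hf2 : AlgSp.LocP @LocallyOfFiniteType f.hom) (hf3 : AlgSp.LocP @Flat f.hom)
    (hj1 : AlgSp.IsQuasiCompactMor j.hom) (hj2 : AlgSp.IsSchDense j.hom)
    (P : AlgSp.Space S) (fst : P ⟶ X) (snd : P ⟶ V) (hP : IsPullback fst.hom snd.hom f.hom j.hom)
    (hV : IsIso snd.hom) :
    AlgSp.RepWith @IsOpenImmersion f.hom := by
  have hjo := hj2.1
  have hjq : RepWith @QuasiCompact j.hom := (Groth.Agent.AlgSp.repWith_quasiCompact_iff Y.property _ hjo.1).2 hj1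
  obtain ⟨B, φ, W, fstW, hφ, hφs, sqW, hW⟩ := hj2.2
  have hWq : QuasiCompact W.ι := hjq.2 φ _ _ sqW
  -- points of `X` over `V`
  have huniq : ∀ (T : Over S) (x : (yon S).obj T ⟶ X.obj) (v : (yon S).obj T ⟶ V.obj),
      x ≫ f.hom = v ≫ j.hom → x = v ≫ inv snd.hom ≫ fst.hom := by
    intro T x v h
    conv_lhs => rw [← hP.lift_fst x v h]
    rw [← Category.assoc v, show v ≫ inv snd.hom = hP.lift x v h by
      rw [IsIso.comp_inv_eq, hP.lift_snd]]
  -- `f` is a monomorphism
  have hmono : Mono f.hom := by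
    rw [← pullback.isIso_diagonal_iff]
    apply AlgSpCov.isIso_of_repWith_isomorphisms
    let q : pullback f.hom f.hom ⟶ Y.obj := pullback.fst f.hom f.hom ≫ f.hom
    have hQ : IsAlgSpace (pullback f.hom f.hom) := Groth.Agent.AlgSp.isAlgSpace_pullback Y.property X.property X.property _ _
    have hq : LocP @Flat q := AlgSpCov.locP_comp AlgSpCov.etaleLocal_flat X.property Y.property
      (AlgSpCov.locP_baseChange AlgSpCov.etaleLocal_flat X.property Y.property
        (IsPullback.of_hasPullback f.hom f.hom).flip hf3) hf3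
    obtain ⟨A, a, ha, has⟩ :=
      (Groth.Agent.AlgSp.isAlgSpace_pullback Y.property hQ (IsAlgSpace.yon_obj B) q φ).atlas
    obtain ⟨t, htdef⟩ : ∃ t, t = a ≫ pullback.fst q φ := ⟨_, rfl⟩
    have ht : RepWith @Etale t :=
      htdef ▸ MorphismProperty.comp_mem _ _ _ ha (MorphismProperty.pullback_fst _ _ hφ)
    have hts : RepWith @Surjective t :=
      htdef ▸ MorphismProperty.comp_mem _ _ _ has (MorphismProperty.pullback_fst _ _ hφs)
    obtain ⟨k, hk⟩ := (yon S).map_surjective (a ≫ pullback.snd q φ)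
    have comm : t ≫ q = (yon S).map k ≫ φ := by
      rw [htdef, Category.assoc, pullback.condition, hk, Category.assoc]
    have hkf : Flat k.left := hq _ _ k ht hφ comm
    obtain ⟨Z, iz, fz, sqZ⟩ := hf1.1 t
    have : IsClosedImmersion iz.left := hf1.2 _ _ _ sqZ
    let O : A.left.Opens := k.left ⁻¹ᵁ W
    let io : Over.mk (O.ι ≫ A.hom) ⟶ A := Over.homMk O.ι rfl
    let iW : Over.mk (W.ι ≫ B.hom) ⟶ B := Over.homMk W.ι rfl
    let kO : Over.mk (O.ι ≫ A.hom) ⟶ Over.mk (W.ι ≫ B.hom) := Over.homMk (k.left ∣_ W) (by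
      change (k.left ∣_ W) ≫ W.ι ≫ B.hom = O.ι ≫ A.hom
      rw [← Category.assoc, morphismRestrict_ι, Category.assoc, Over.w k])
    have hkO : kO ≫ iW = io ≫ k := Over.OverMorphism.ext (morphismRestrict_ι k.left W)
    obtain ⟨p, hp⟩ : ∃ p, p = (yon S).map io ≫ t := ⟨_, rfl⟩
    obtain ⟨v, hv⟩ : ∃ v, v = (yon S).map kO ≫ fstW := ⟨_, rfl⟩
    have e1 : (p ≫ pullback.fst f.hom f.hom) ≫ f.hom = v ≫ j.hom := by
      rw [hp, hv, Category.assoc, Category.assoc, comm, Category.assoc, sqW.w, ← Category.assoc, ← Category.assoc,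
        ← Functor.map_comp, ← Functor.map_comp, hkO]
    have e2 : (p ≫ pullback.snd f.hom f.hom) ≫ f.hom = v ≫ j.hom := by
      rw [Category.assoc, ← pullback.condition, ← Category.assoc, e1]
    have e3 : (v ≫ inv snd.hom ≫ fst.hom) ≫ pullback.diagonal f.hom = p := by
      apply pullback.hom_ext
      · rw [Category.assoc, pullback.diagonal_fst, Category.comp_id, ← huniq _ _ _ e1]
      · rw [Category.assoc, pullback.diagonal_snd, Category.comp_id, ← huniq _ _ _ e2]
    obtain ⟨l, hl⟩ := (yon S).map_surjective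
      (sqZ.lift (v ≫ inv snd.hom ≫ fst.hom) ((yon S).map io) (e3.trans hp))
    have hli : l ≫ iz = io := (yon S).map_injective (by rw [Functor.map_comp, hl]; exact sqZ.lift_snd _ _ _)
    have : IsIso iz.left := isIso_of_factors iz.left O
      (Groth.Agent.AlgSp.SchDense.preimage_of_quasiCompact k.left W hW) l.left (congrArg Over.Hom.left hli)
    have : IsIso iz := by
      have : IsIso ((Over.forget S).map iz) := this
      exact isIso_of_reflects_iso iz (Over.forget S)
    have := Groth.Agent.AlgSp.isLocallySurjective_of_etale_surjective t ht hts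
    exact Groth.Agent.AlgSp.repWith_of_isPullback_of_isLocallySurjective _ hf1.1 t fz ((yon S).map iz) sqZ _
      (AlgSpCov.repWith_isomorphisms_of_isIso _)
  -- `f` is representable
  have hrep : Representable f.hom := fun T g => by
    have sq := IsPullback.of_hasPullback f.hom g
    have hPg := Groth.Agent.AlgSp.isAlgSpace_pullback Y.property X.property (IsAlgSpace.yon_obj T) f.hom g
    have hl : LocP @LocallyOfFiniteType (pullback.snd f.hom g) :=
      AlgSpCov.locP_baseChange AlgSpCov.etaleLocal_locallyOfFiniteType X.property Y.property sq hf2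
    obtain ⟨O, ⟨e⟩⟩ := AlgSpB.exists_iso_of_lqf_mono hPg (pullback.snd f.hom g) (pullback.snd f.hom g)
      (AlgSpB.locP_lqf_of_mono hPg _ hl) (fun _ a b hab _ => (cancel_mono (pullback.snd f.hom g)).1 hab)
    obtain ⟨h, hh⟩ := (yon S).map_surjective (e.hom ≫ pullback.snd f.hom g)
    exact ⟨O, h, e.hom ≫ pullback.fst f.hom g, sq.of_iso e.symm (Iso.refl _) (Iso.refl _)
      (Iso.refl _) (by simp) (by simp [hh]) (by simp) (by simp)⟩
  obtain ⟨A, k, a, sqA⟩ := hrep φ
  have ha : RepWith @Etale a := MorphismProperty.of_isPullback sqA.flip hφ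
  have : Mono k := (yon S).mono_of_mono_map (sqA.flip.mono_fst_of_mono)
  have : Mono k.left := inferInstance
  have : Flat k.left := hf3 a φ k ha hφ sqA.w
  have : LocallyOfFiniteType k.left := hf2 a φ k ha hφ sqA.w
  -- over `W` the chart is an isomorphism
  have : IsIso (k.left ∣_ W) := by
    let x₀ : (yon S).obj (Over.mk (W.ι ≫ B.hom)) ⟶ X.obj := fstW ≫ inv snd.hom ≫ fst.hom
    have hx₀ : x₀ ≫ f.hom = (yon S).map (Over.homMk W.ι rfl : Over.mk (W.ι ≫ B.hom) ⟶ B) ≫ φ := by
      simp only [x₀, Category.assoc]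
      rw [hP.w, IsIso.inv_hom_id_assoc, sqW.w]
    obtain ⟨c, hc⟩ := (yon S).map_surjective (sqA.lift x₀ _ hx₀)
    have hck : c ≫ k = (Over.homMk W.ι rfl : Over.mk (W.ι ≫ B.hom) ⟶ B) :=
      (yon S).map_injective (by rw [Functor.map_comp, hc]; exact sqA.lift_snd _ _ _)
    have hcl : c.left ≫ k.left = W.ι := congrArg Over.Hom.left hck
    obtain ⟨d, hd, -⟩ := (isPullback_morphismRestrict k.left W).exists_lift (𝟙 _) c.left
      (by rw [Category.id_comp, hcl])
    have : Mono (k.left ∣_ W) := (isPullback_morphismRestrict k.left W).mono_fst_of_mono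
    have : IsSplitEpi (k.left ∣_ W) := ⟨⟨⟨d, hd⟩⟩⟩
    exact isIso_of_mono_of_isSplitEpi _
  have : IsOpenImmersion ((k.left ⁻¹ᵁ W).ι ≫ k.left) := by
    rw [← morphismRestrict_ι]; infer_instance
  have hk := Groth.Agent.AlgSp.FlatMonoDense.isOpenImmersion_of_schDense k.left W hW
  have := Groth.Agent.AlgSp.isLocallySurjective_of_etale_surjective φ hφ hφs
  exact Groth.Agent.AlgSp.repWith_of_isPullback_of_isLocallySurjective f.hom hrep φ a ((yon S).map k) sqA _
    ((repWith_yon_map_iff _ _).2 hk)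

end Groth.Agent.S10655
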