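import Groth.Statements.S10656
import Groth.Agent.S10048
import Groth.Agent.S7409
import Groth.Agent.AlgSp.ChowLib
import Groth.Agent.AlgSp.LimAffine
import Groth.Agent.AlgSp.LimOpen
import Groth.Agent.AlgSpSpec.Approx
import Groth.Agent.ProjProper.Basic
-- import your own Groth.Agent.* helpers here

set_option autoImplicit false
universe u
open CategoryTheory CategoryTheory.Limits AlgebraicGeometry
open AlgSp

namespace Groth.Agent.S10656

/-- A scheme which is quasi-separated as a space has quasi-separated structure morphism. -/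
theorem quasiSeparated_hom_of_sp {S : Scheme.{u}} {W : Over S} (h : AlgSp.IsQuasiSeparatedSp ((AlgSp.yon S).obj W)) :
    QuasiSeparated W.hom := by
  have hp : QuasiCompact (Groth.Agent.AlgSpB.pairHom (𝟙 W) (𝟙 W)) :=
    Groth.Agent.AlgSpB.prop_pairHom h (a := 𝟙 _) (b := 𝟙 _)
      (by rw [CategoryTheory.Functor.map_id]; exact IsPullback.of_id_fst)
  exact ⟨by simpa [Groth.Agent.AlgSpB.pairHom, pullback.diagonal] using hp⟩

/-- Finite morphisms of spaces from schemes are proper. -/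
theorem isProperMor_of_finite {S : Scheme.{u}} {W : Over S} {X : AlgSp.Space S} (g : (AlgSp.yon S).obj W ⟶ X.obj)
    (hg : AlgSp.IsFiniteMor g) : AlgSp.IsProperMor g :=
  have hgf := (Groth.Agent.AlgSpD.isFiniteMor_iff g).1 hg
  ⟨Groth.Agent.AlgSpSpec.isSeparatedMor_of_affine (AlgSp.IsAlgSpace.yon_obj W)
      (Groth.Agent.AlgSp.repWith_mono (fun g (hg : IsFinite g) => (inferInstance : IsAffineHom g)) hgf),
    ⟨Groth.Agent.AlgSpCov.locP_of_repWith Groth.Agent.AlgSpCov.etaleLocal_locallyOfFiniteType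
      (Groth.Agent.AlgSp.repWith_mono (fun g (hg : IsFinite g) => (inferInstance : LocallyOfFiniteType g)) hgf),
    Groth.Agent.AlgSp.isQuasiCompactMor_of_repWith X.property
      (Groth.Agent.AlgSp.repWith_mono (fun g (hg : IsFinite g) => (inferInstance : QuasiCompact g)) hgf)⟩,
    Groth.Agent.AlgSp.isUnivClosedMor_of_repWith
      (Groth.Agent.AlgSp.repWith_mono (fun g (hg : IsFinite g) => (inferInstance : UniversallyClosed g)) hgf)⟩

/-- A proper morphism of schemes is proper as a morphism of spaces. -/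
theorem isProperMor_yonMap {S : Scheme.{u}} {U V : Over S} (p : U ⟶ V) (hp : IsProper p.left) :
    AlgSp.IsProperMor ((AlgSp.yon S).map p) :=
  ⟨(AlgSp.isSeparatedMor_yon_map_iff p).2 inferInstance,
    ⟨Groth.Agent.AlgSpCov.locP_of_repWith Groth.Agent.AlgSpCov.etaleLocal_locallyOfFiniteType
      ((AlgSp.repWith_yon_map_iff _ p).2 inferInstance),
    Groth.Agent.AlgSp.isQuasiCompactMor_of_repWith (AlgSp.IsAlgSpace.yon_obj V)
      ((AlgSp.repWith_yon_map_iff _ p).2 inferInstance)⟩,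
    Groth.Agent.AlgSp.isUnivClosedMor_of_repWith ((AlgSp.repWith_yon_map_iff _ p).2 inferInstance)⟩

/-- (a variant of Chow's lemma) for an algebraic space Y over S which is quasi-compact and
quasi-separated and a separated morphism f : X ⟶ Y of finite type, there are an algebraic space X',
a proper surjective morphism X' ⟶ X, a representable open immersion X' ⟶ X̄' and a proper
representable morphism X̄' ⟶ Y forming a commutative diagram over Y. (The published statement asks Y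
to be quasi-separated in the absolute sense and puts no condition on S; this row assumes S
quasi-separated and Y quasi-separated over S, which together imply it.) -/
theorem result {S : Scheme.{u}} [QuasiSeparatedSpace ↥S] {X Y : AlgSp.Space S} (f : X ⟶ Y)
    (hY1 : AlgSp.IsQuasiCompactSp Y.obj) (hY2 : AlgSp.IsQuasiSeparatedSp Y.obj)
    (hf1 : AlgSp.IsSeparatedMor f.hom) (hf2 : AlgSp.IsFiniteTypeMor f.hom) :
    ∃ (X' Xb : AlgSp.Space S) (a : X' ⟶ X) (b : X' ⟶ Xb) (c : Xb ⟶ Y), b ≫ c = a ≫ f ∧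
      AlgSp.IsProperMor a.hom ∧ AlgSp.IsSurjectiveMor a.hom ∧ AlgSp.RepWith @IsOpenImmersion b.hom ∧
        AlgSp.IsProperMor c.hom ∧ AlgSp.Representable c.hom := by
  obtain ⟨A, a₀, ha₀, ha₀s⟩ := Y.property.atlas
  obtain ⟨Y', g, hg, hgs, -, -⟩ := Groth.Agent.S10048.result S Y hY1 hY2 A a₀ ha₀ ha₀s
  have hgp := isProperMor_of_finite g hg
  let Y₁ : AlgSp.Space S := ⟨(AlgSp.yon S).obj Y', AlgSp.IsAlgSpace.yon_obj Y'⟩
  have hY1qc : AlgSp.IsQuasiCompactSp Y₁.obj := hgp.2.1.2 Y.property hY1 (𝟙 _) (𝟙 _) g IsPullback.of_id_fst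
  have hY1qs : AlgSp.IsQuasiSeparatedSp Y₁.obj := Groth.Agent.AlgSp.LimAffine.isQuasiSeparatedSp_of_mor g
    (Groth.Agent.AlgSp.repWith_mono (fun g (hg : IsClosedImmersion g) => (inferInstance : QuasiCompact g)) hgp.1) hY2
  have : CompactSpace ↥Y'.left := Groth.Agent.AlgSp.LimOpen.compactSpace_of_isQuasiCompactSp hY1qc
  have : QuasiSeparated Y'.hom := quasiSeparated_hom_of_sp hY1qs
  have : QuasiSeparatedSpace ↥Y'.left := quasiSeparatedSpace_of_quasiSeparated Y'.hom
  let XY : AlgSp.Space S := ⟨pullback f.hom g,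
    Groth.Agent.AlgSp.isAlgSpace_pullback Y.property X.property (AlgSp.IsAlgSpace.yon_obj Y') f.hom g⟩
  have sq : IsPullback (pullback.fst f.hom g) (pullback.snd f.hom g) f.hom g := IsPullback.of_hasPullback _ _
  have hsep : AlgSp.IsSeparatedMor (pullback.snd f.hom g) := AlgSp.repWith_diagonal_baseChange sq hf1
  have hlft : AlgSp.LocP @LocallyOfFiniteType (pullback.snd f.hom g) :=
    Groth.Agent.AlgSpCov.locP_baseChange Groth.Agent.AlgSpCov.etaleLocal_locallyOfFiniteType X.property Y.property sq hf2.1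
  have hqc : AlgSp.IsQuasiCompactSp XY.obj := hf2.2 Y₁.property hY1qc g _ _ sq
  have hqs : AlgSp.IsQuasiSeparatedSp XY.obj := Groth.Agent.AlgSp.LimAffine.isQuasiSeparatedSp_of_mor
    (pullback.snd f.hom g)
    (Groth.Agent.AlgSp.repWith_mono (fun g (hg : IsClosedImmersion g) => (inferInstance : QuasiCompact g)) hsep) hY1qs
  obtain ⟨A', a', ha', ha's⟩ := XY.property.atlas
  obtain ⟨W, w, hw, hws, -, -⟩ := Groth.Agent.S10048.result S XY hqc hqs A' a' ha' ha's
  have hwp := isProperMor_of_finite w hw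
  obtain ⟨h, hh⟩ := (AlgSp.yon S).map_surjective (w ≫ pullback.snd f.hom g)
  have : CompactSpace ↥W.left := Groth.Agent.AlgSp.LimOpen.compactSpace_of_isQuasiCompactSp
    (hwp.2.1.2 XY.property hqc (𝟙 _) (𝟙 _) w IsPullback.of_id_fst)
  have : IsSeparated h.left := (AlgSp.isSeparatedMor_yon_map_iff h).1
    (hh ▸ Groth.Agent.AlgSpD.isSeparatedMor_comp hwp.1 hsep)
  have : LocallyOfFiniteType h.left :=
    (Groth.Agent.AlgSpCov.locP_comp Groth.Agent.AlgSpCov.etaleLocal_locallyOfFiniteType XY.property Y₁.property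
      hwp.2.1.1 hlft) (𝟙 _) (𝟙 _) h (AlgSp.repWith_id _ _) (AlgSp.repWith_id _ _)
      (by rw [Category.id_comp, Category.comp_id, hh])
  have : QuasiCompact h.left := quasiCompact_of_compactSpace h.left
  obtain ⟨n, W₁, π, j, hj, hjw, hπp, hπs⟩ := Groth.Agent.S7409.result h.left
  have := Groth.Agent.ProjProper.Basic.isProper_toBase n Y'.left
  have : QuasiCompact (j ≫ CohB1.ProjSpaceOver.toBase n Y'.left) := by rw [hjw]; infer_instance
  have : QuasiCompact j := QuasiCompact.of_comp j (CohB1.ProjSpaceOver.toBase n Y'.left)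
  let W' : Over S := Over.mk (π ≫ W.hom)
  let p : W' ⟶ W := Over.homMk π rfl
  let c₀ : j.image ⟶ Y'.left := j.imageι ≫ CohB1.ProjSpaceOver.toBase n Y'.left
  let Xb' : Over S := Over.mk (c₀ ≫ Y'.hom)
  have hb0 : j.toImage ≫ c₀ = π ≫ h.left := by
    rw [← hjw]
    exact (Category.assoc _ _ _).symm.trans (congrArg (· ≫ _) j.toImage_imageι)
  let b₀ : W' ⟶ Xb' := Over.homMk j.toImage (by
    show j.toImage ≫ c₀ ≫ Y'.hom = π ≫ W.hom
    rw [reassoc_of% hb0, Over.w h])
  let c₁ : Xb' ⟶ Y' := Over.homMk c₀ rfl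
  let X' : AlgSp.Space S := ⟨(AlgSp.yon S).obj W', AlgSp.IsAlgSpace.yon_obj W'⟩
  let Xb : AlgSp.Space S := ⟨(AlgSp.yon S).obj Xb', AlgSp.IsAlgSpace.yon_obj Xb'⟩
  let W₀ : AlgSp.Space S := ⟨(AlgSp.yon S).obj W, AlgSp.IsAlgSpace.yon_obj W⟩
  have hfst : AlgSp.IsProperMor (pullback.fst f.hom g) :=
    Groth.Agent.AlgSpD.isProperMor_baseChange (AlgSp.IsAlgSpace.yon_obj Y') Y.property sq.flip hgp
  refine ⟨X', Xb, ObjectProperty.homMk ((AlgSp.yon S).map p ≫ w ≫ pullback.fst f.hom g),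
    ObjectProperty.homMk ((AlgSp.yon S).map b₀), ObjectProperty.homMk ((AlgSp.yon S).map c₁ ≫ g), ?_,
    Groth.Agent.AlgSpD.isProperMor_comp (X := X') (Y := W₀) (Z := X) (isProperMor_yonMap p hπp)
      (Groth.Agent.AlgSpD.isProperMor_comp (X := W₀) (Y := XY) (Z := X) hwp hfst), ?_,
    (AlgSp.repWith_yon_map_iff _ b₀).2 (inferInstanceAs (IsOpenImmersion j.toImage)),
    Groth.Agent.AlgSpD.isProperMor_comp (X := Xb) (Y := Y₁) (Z := Y)
      (isProperMor_yonMap c₁ (inferInstanceAs (IsProper c₀))) hgp,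
    Y.property.representable_from_yon _⟩
  · ext : 1
    show (AlgSp.yon S).map b₀ ≫ (AlgSp.yon S).map c₁ ≫ g = ((AlgSp.yon S).map p ≫ w ≫ pullback.fst f.hom g) ≫ f.hom
    rw [Category.assoc, Category.assoc, sq.w, ← reassoc_of% hh, ← Functor.map_comp_assoc, ← Functor.map_comp_assoc]
    congr 2
    exact Over.OverMorphism.ext hb0
  · intro x
    obtain ⟨z, rfl⟩ := Groth.Agent.AlgSp.surjective_map_of_isPullback sq.flip hgs x
    obtain ⟨y, rfl⟩ := hws z
    obtain ⟨v, rfl⟩ : ∃ v, AlgSp.Points.ofScheme W v = y := (AlgSp.Points.schemeHomeo W).surjective y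
    obtain ⟨v', rfl⟩ := hπs.surj v
    refine ⟨AlgSp.Points.ofScheme W' v', ?_⟩
    show AlgSp.Points.map ((AlgSp.yon S).map p ≫ w ≫ pullback.fst f.hom g) _ = _
    rw [← AlgSp.Points.ofPt_eq_map_ofScheme, ← AlgSp.Points.ofPt_eq_map_ofScheme, AlgSp.Points.map_ofPt,
      Groth.Agent.AlgSpB.ofPt_map_comp]
    rfl

end Groth.Agent.S10656
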