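import Groth.Statements.S10657
import Groth.Agent.S10048
import Groth.Agent.AlgSp.ChowLib
import Groth.Agent.AlgSp.LimOpen
import Groth.Agent.AlgSpSpec.Approx
import Groth.Agent.StFib.Cancel
-- import your own Groth.Agent.* helpers here

set_option autoImplicit false
universe u
open CategoryTheory CategoryTheory.Limits AlgebraicGeometry
open AlgSp

namespace Groth.Agent.S10657

/-- (a variant of Chow's lemma) for a separated morphism f : X ⟶ Y of finite type between algebraic
spaces over S with Y quasi-compact and separated, there are, for some n, an algebraic space X', a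
proper surjective morphism a : X' ⟶ X and a representable immersion of X' into projective n-space
over Y (the product of h applied to projective n-space over S with Y, in fppf sheaves) compatible
with the projections to Y. (The published statement asks Y to be separated in the absolute sense and
puts no condition on S; this row assumes S separated and Y separated over S, which together imply
it.) -/
theorem result {S : Scheme.{u}} [S.IsSeparated] {X Y : AlgSp.Space S} (f : X ⟶ Y)
    (hY1 : AlgSp.IsQuasiCompactSp Y.obj) (hY2 : AlgSp.IsSeparatedSp Y.obj)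
    (hf1 : AlgSp.IsSeparatedMor f.hom) (hf2 : AlgSp.IsFiniteTypeMor f.hom) :
    ∃ (n : ℕ) (X' : AlgSp.Space S) (a : X' ⟶ X)
      (b : X'.obj ⟶ (AlgSp.yon S).obj (Over.mk (CohB1.ProjSpaceOver.toBase n S)) ⨯ Y.obj),
      b ≫ prod.snd = (a ≫ f).hom ∧
        AlgSp.IsProperMor a.hom ∧ AlgSp.IsSurjectiveMor a.hom ∧ AlgSp.RepWith @IsImmersion b := by
  have hXqc : AlgSp.IsQuasiCompactSp X.obj :=
    hf2.2 Y.property hY1 (𝟙 _) (𝟙 _) f.hom IsPullback.of_id_fst
  have hXs : AlgSp.IsSeparatedSp X.obj := Groth.Agent.AlgSp.ChowLib.isSeparatedSp_of_mor f.hom hf1 hY2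
  have hXqs : AlgSp.IsQuasiSeparatedSp X.obj :=
    Groth.Agent.AlgSp.repWith_mono (fun g (hg : IsClosedImmersion g) => (inferInstance : QuasiCompact g)) hXs
  obtain ⟨A, a₀, ha₀, ha₀s⟩ := X.property.atlas
  have : QuasiSeparatedSpace ↥S := inferInstance
  obtain ⟨W, g, hg, hgs, -, -⟩ := Groth.Agent.S10048.result S X hXqc hXqs A a₀ ha₀ ha₀s
  have hgf := (Groth.Agent.AlgSpD.isFiniteMor_iff g).1 hg
  have hga : AlgSp.RepWith @IsAffineHom g :=
    Groth.Agent.AlgSp.repWith_mono (fun g (hg : IsFinite g) => (inferInstance : IsAffineHom g)) hgf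
  have hgp : AlgSp.IsProperMor g :=
    ⟨Groth.Agent.AlgSpSpec.isSeparatedMor_of_affine (AlgSp.IsAlgSpace.yon_obj W) hga,
      ⟨Groth.Agent.AlgSpCov.locP_of_repWith Groth.Agent.AlgSpCov.etaleLocal_locallyOfFiniteType
        (Groth.Agent.AlgSp.repWith_mono (fun g (hg : IsFinite g) => (inferInstance : LocallyOfFiniteType g)) hgf),
      Groth.Agent.AlgSp.isQuasiCompactMor_of_repWith X.property
        (Groth.Agent.AlgSp.repWith_mono (fun g (hg : IsFinite g) => (inferInstance : QuasiCompact g)) hgf)⟩,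
      Groth.Agent.AlgSp.isUnivClosedMor_of_repWith
        (Groth.Agent.AlgSp.repWith_mono (fun g (hg : IsFinite g) => (inferInstance : UniversallyClosed g)) hgf)⟩
  have : CompactSpace ↥W.left := Groth.Agent.AlgSp.LimOpen.compactSpace_of_isQuasiCompactSp
    (hgp.2.1.2 X.property hXqc (𝟙 _) (𝟙 _) g IsPullback.of_id_fst)
  have : IsSeparated W.hom := Groth.Agent.AlgSp.ChowLib.isSeparated_hom_of_sp
    (Groth.Agent.AlgSp.ChowLib.isSeparatedSp_of_mor g hgp.1 hXs)
  obtain ⟨n, W', p, b, hp, hps, hbw, hb⟩ := Groth.Agent.AlgSp.ChowLib.exists_chow_scheme Y hY2 hY1 W (g ≫ f.hom)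
    (Groth.Agent.AlgSpCov.locP_comp Groth.Agent.AlgSpCov.etaleLocal_locallyOfFiniteType X.property Y.property
      hgp.2.1.1 hf2.1)
  have hpp : AlgSp.IsProperMor ((AlgSp.yon S).map p) :=
    ⟨(AlgSp.isSeparatedMor_yon_map_iff p).2 inferInstance,
      ⟨Groth.Agent.AlgSpCov.locP_of_repWith Groth.Agent.AlgSpCov.etaleLocal_locallyOfFiniteType
        ((AlgSp.repWith_yon_map_iff _ p).2 inferInstance),
      Groth.Agent.AlgSp.isQuasiCompactMor_of_repWith (AlgSp.IsAlgSpace.yon_obj W)
        ((AlgSp.repWith_yon_map_iff _ p).2 inferInstance)⟩,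
      Groth.Agent.AlgSp.isUnivClosedMor_of_repWith ((AlgSp.repWith_yon_map_iff _ p).2 inferInstance)⟩
  let X' : AlgSp.Space S := ⟨(AlgSp.yon S).obj W', AlgSp.IsAlgSpace.yon_obj W'⟩
  let W₁ : AlgSp.Space S := ⟨(AlgSp.yon S).obj W, AlgSp.IsAlgSpace.yon_obj W⟩
  refine ⟨n, X', ObjectProperty.homMk ((AlgSp.yon S).map p ≫ g), b, ?_,
    Groth.Agent.AlgSpD.isProperMor_comp (X := X') (Y := W₁) (Z := X) hpp hgp, ?_, hb⟩
  · exact hbw.trans (Category.assoc _ _ _).symm
  · intro x
    obtain ⟨y, rfl⟩ := hgs x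
    obtain ⟨z, rfl⟩ : ∃ z, AlgSp.Points.ofScheme W z = y := (AlgSp.Points.schemeHomeo W).surjective y
    obtain ⟨z', rfl⟩ := hps.surj z
    refine ⟨AlgSp.Points.ofScheme W' z', ?_⟩
    show AlgSp.Points.map ((AlgSp.yon S).map p ≫ g) _ = _
    rw [← AlgSp.Points.ofPt_eq_map_ofScheme, ← AlgSp.Points.ofPt_eq_map_ofScheme, Groth.Agent.AlgSpB.ofPt_map_comp]

end Groth.Agent.S10657
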