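import Groth.Statements.S10658
import Groth.Agent.S1366
import Groth.Agent.S10048
import Groth.Agent.S10656
import Groth.Agent.AlgSp.ChowLib
import Groth.Agent.AlgSp.ProperSub
import Groth.Agent.AlgSpB.Open

set_option autoImplicit false
set_option backward.isDefEq.respectTransparency false
universe u
open CategoryTheory CategoryTheory.Limits AlgebraicGeometry
open AlgSp

namespace Groth.Agent.S10658

variable {S : Scheme.{u}}

/-- A proper morphism of spaces between schemes is a proper morphism of schemes. -/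
theorem isProper_of_isProperMor {U V : Over S} (p : U ⟶ V) (h : AlgSp.IsProperMor ((AlgSp.yon S).map p)) :
    IsProper p.left := by
  have : IsSeparated p.left := (AlgSp.isSeparatedMor_yon_map_iff p).1 h.1
  have : LocallyOfFiniteType p.left :=
    h.2.1.1 (𝟙 _) (𝟙 _) p (AlgSp.repWith_id _ _) (AlgSp.repWith_id _ _) (by rw [Category.id_comp, Category.comp_id])
  have : UniversallyClosed p.left := (AlgSp.repWith_yon_map_iff _ p).1
    ((Groth.Agent.AlgSp.repWith_universallyClosed_iff _ ((AlgSp.IsAlgSpace.yon_obj V).representable_from_yon _)).2 h.2.2)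
  exact ⟨⟩

/-- The open subspace of a clopen set is also a closed subspace. -/
theorem repWith_closed_openSubι {G : AlgSp.Sp S} {W : Set (AlgSp.Points G)} (hW : IsClopen W) :
    AlgSp.RepWith @IsClosedImmersion (Groth.Agent.AlgSpB.openSubι G W) := by
  have ho := Groth.Agent.AlgSpB.repWith_openSubι (G := G) hW.2
  refine ⟨ho.1, fun U V g fst snd sq => ?_⟩
  have : IsOpenImmersion snd.left := ho.2 g fst snd sq
  refine IsClosedImmersion.of_isPreimmersion snd.left ?_
  rw [Groth.Agent.AlgSpB.range_snd_eq sq]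
  refine IsClosed.preimage (AlgSp.Points.continuous_ofPt g) ?_
  rw [Groth.Agent.AlgSpB.range_openSubι]
  exact hW.1

end Groth.Agent.S10658

namespace Groth.Agent.S10658

/-- For a henselian pair (A, I), an algebraic space X which is separated and of finite type over Spec A
(structure morphism s to the terminal sheaf h_{Spec A}), X₀ = X ×_{Spec A} Spec (A/I) with inclusion
i₀ : X₀ ⟶ X, and Y ⊂ X₀ an open and closed subspace which is proper over Spec (A/I), there is an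
open and closed subspace W ⊂ X, proper over Spec A, whose base change to Spec (A/I) is Y: Y is the
pullback of W along i₀. -/
theorem result (A : Type u) [CommRing A] (I : Ideal A) [HenselianRing A I]
    {X X0 Y : AlgSp.Space (Spec (CommRingCat.of A))}
    (s : X.obj ⟶ (AlgSp.yon (Spec (CommRingCat.of A))).obj (Over.mk (𝟙 _)))
    (hs1 : AlgSp.IsSeparatedMor s) (hs2 : AlgSp.IsFiniteTypeMor s)
    (i0 : X0 ⟶ X)
    (s0 : X0.obj ⟶ (AlgSp.yon (Spec (CommRingCat.of A))).obj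
      (Over.mk (Spec.map (CommRingCat.ofHom (Ideal.Quotient.mk I)))))
    (hX0 : IsPullback i0.hom s0 s ((AlgSp.yon (Spec (CommRingCat.of A))).map
      (Over.homMk (Spec.map (CommRingCat.ofHom (Ideal.Quotient.mk I))) (Category.comp_id _) :
        Over.mk (Spec.map (CommRingCat.ofHom (Ideal.Quotient.mk I))) ⟶ Over.mk (𝟙 _))))
    (jY : Y ⟶ X0) (hY1 : AlgSp.RepWith @IsOpenImmersion jY.hom) (hY2 : AlgSp.RepWith @IsClosedImmersion jY.hom)
    (hY3 : AlgSp.IsProperMor (jY.hom ≫ s0)) :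
    ∃ (W : AlgSp.Space (Spec (CommRingCat.of A))) (w : W ⟶ X) (k : Y ⟶ W),
      AlgSp.RepWith @IsOpenImmersion w.hom ∧ AlgSp.RepWith @IsClosedImmersion w.hom ∧
        AlgSp.IsProperMor (w.hom ≫ s) ∧ IsPullback k.hom jY.hom w.hom i0.hom := by
  let S : Scheme.{u} := Spec (CommRingCat.of A)
  let i : Spec (CommRingCat.of (A ⧸ I)) ⟶ S := Spec.map (CommRingCat.ofHom (Ideal.Quotient.mk I))
  let B : AlgSp.Space S := ⟨(AlgSp.yon S).obj (Over.mk (𝟙 _)), AlgSp.IsAlgSpace.yon_obj _⟩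
  have hT : IsTerminal B.obj := Groth.Agent.AlgSp.LimSepAbs.isTerminalBase
  have : CompactSpace ↥(Over.mk (𝟙 S)).left := inferInstanceAs (CompactSpace (PrimeSpectrum A))
  have hBqc : AlgSp.IsQuasiCompactSp B.obj := Groth.Agent.AlgSp.isQuasiCompactSp_yon _
  have hXqc : AlgSp.IsQuasiCompactSp X.obj := hs2.2 B.property hBqc (𝟙 _) (𝟙 _) s IsPullback.of_id_fst
  have hXsep : AlgSp.IsSeparatedSp X.obj :=
    (Groth.Agent.AlgSp.LimSepAbs.diag_prop_iff @IsClosedImmersion X.obj hT s).1 hs1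
  have hXqs : AlgSp.IsQuasiSeparatedSp X.obj :=
    (Groth.Agent.AlgSp.LimSepAbs.diag_prop_iff @QuasiCompact X.obj hT s).1
      (Groth.Agent.AlgSp.repWith_mono (fun g (hg : IsClosedImmersion g) => (inferInstance : QuasiCompact g)) hs1)
  -- a finite surjective cover by a scheme
  obtain ⟨U, u, hu, hus⟩ := X.property.atlas
  obtain ⟨X₁, g, hg, hgs, -, -⟩ := Groth.Agent.S10048.result S X hXqc hXqs U u hu hus
  have hgp := Groth.Agent.S10656.isProperMor_of_finite g hg
  have hgf := (Groth.Agent.AlgSpD.isFiniteMor_iff g).1 hg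
  let t₁ : X₁ ⟶ Over.mk (𝟙 S) := Over.homMk X₁.hom (Category.comp_id _)
  have hgt : g ≫ s = (AlgSp.yon S).map t₁ := hT.hom_ext _ _
  have : CompactSpace ↥X₁.left := Groth.Agent.AlgSp.LimOpen.compactSpace_of_isQuasiCompactSp
    (hgp.2.1.2 X.property hXqc (𝟙 _) (𝟙 _) g IsPullback.of_id_fst)
  have : IsSeparated X₁.hom :=
    Groth.Agent.AlgSp.ChowLib.isSeparated_hom_of_sp (Groth.Agent.AlgSp.ChowLib.isSeparatedSp_of_mor g hgp.1 hXsep)
  have : LocallyOfFiniteType X₁.hom :=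
    (Groth.Agent.AlgSpCov.locP_comp Groth.Agent.AlgSpCov.etaleLocal_locallyOfFiniteType X.property B.property
      hgp.2.1.1 hs2.1) (𝟙 _) (𝟙 _) t₁ (AlgSp.repWith_id _ _) (AlgSp.repWith_id _ _)
      (by rw [Category.id_comp, Category.comp_id, hgt])
  have : QuasiCompact X₁.hom := quasiCompact_of_compactSpace X₁.hom
  -- its closed fibre over `V(I)`
  let P₀ : Over S := Over.mk (pullback.fst X₁.hom i ≫ X₁.hom)
  let pr₁ : P₀ ⟶ X₁ := Over.homMk (pullback.fst X₁.hom i) rfl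
  let T₀ : Over S := Over.mk i
  let pr₂ : P₀ ⟶ T₀ := Over.homMk (pullback.snd X₁.hom i) pullback.condition.symm
  let i' : T₀ ⟶ Over.mk (𝟙 S) := Over.homMk i (Category.comp_id _)
  have sqS : IsPullback pr₁ pr₂ t₁ i' :=
    IsPullback.of_map (Over.forget S) (Over.OverMorphism.ext pullback.condition) (IsPullback.of_hasPullback X₁.hom i)
  have sqY : IsPullback ((AlgSp.yon S).map pr₁) ((AlgSp.yon S).map pr₂) (g ≫ s) ((AlgSp.yon S).map i') := by
    rw [hgt]; exact sqS.map (AlgSp.yon S)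
  let q : (AlgSp.yon S).obj P₀ ⟶ X0.obj := hX0.lift ((AlgSp.yon S).map pr₁ ≫ g) ((AlgSp.yon S).map pr₂)
    (by rw [Category.assoc]; exact sqY.w)
  have hq1 : q ≫ i0.hom = (AlgSp.yon S).map pr₁ ≫ g := hX0.lift_fst _ _ _
  have hq2 : q ≫ s0 = (AlgSp.yon S).map pr₂ := hX0.lift_snd _ _ _
  have sq : IsPullback ((AlgSp.yon S).map pr₁) q g i0.hom :=
    IsPullback.of_bot (by rw [hq2]; exact sqY) hq1.symm hX0
  -- the clopen set of points of `Y`
  let C : Set (AlgSp.Points X0.obj) := Set.range (AlgSp.Points.map jY.hom)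
  have hCo : IsOpen C := Groth.Agent.AlgSpB.isOpen_range_of_isOpenImmersion hY1
  have hCc : IsClosed C := (Groth.Agent.AlgSp.isClosedMap_map_of_repWith (Groth.Agent.AlgSp.repWith_mono
    (fun g (hg : IsClosedImmersion g) => (inferInstance : UniversallyClosed g)) hY2)).isClosed_range
  let Y₀ : P₀.left.Opens := ⟨AlgSp.Points.ofPt q ⁻¹' C, hCo.preimage (AlgSp.Points.continuous_ofPt q)⟩
  obtain ⟨V, v, vY, sqV⟩ := hY1.1 q
  have : IsOpenImmersion v.left := hY1.2 q vY v sqV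
  have hvr : Set.range v.left = (Y₀ : Set P₀.left) := Groth.Agent.AlgSpB.range_snd_eq sqV
  have hqf : AlgSp.RepWith @IsFinite q := MorphismProperty.of_isPullback sq hgf
  have hvYp : AlgSp.IsProperMor vY := Groth.Agent.S10656.isProperMor_of_finite vY
    ((Groth.Agent.AlgSpD.isFiniteMor_iff vY).2 (MorphismProperty.of_isPullback sqV.flip hqf))
  have hvp : AlgSp.IsProperMor ((AlgSp.yon S).map (v ≫ pr₂)) := by
    have e : (AlgSp.yon S).map (v ≫ pr₂) = vY ≫ jY.hom ≫ s0 := by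
      rw [reassoc_of% sqV.w, hq2, Functor.map_comp]
    rw [e]
    exact Groth.Agent.AlgSpD.isProperMor_comp (X := ⟨_, AlgSp.IsAlgSpace.yon_obj V⟩) (Y := Y)
      (Z := ⟨_, AlgSp.IsAlgSpace.yon_obj T₀⟩) hvYp hY3
  have hY₀p : IsProper (Y₀.ι ≫ pullback.snd X₁.hom i) := by
    have hv' : IsProper (v.left ≫ pullback.snd X₁.hom i) := isProper_of_isProperMor _ hvp
    have e := IsOpenImmersion.isoOfRangeEq_hom_fac Y₀.ι v.left (by rw [hvr, Scheme.Opens.range_ι])
    rw [← e, Category.assoc]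
    infer_instance
  obtain ⟨W', hW'c, hW'p, hW'Y⟩ := Groth.Agent.S1366.result I X₁.hom Y₀
    (hCc.preimage (AlgSp.Points.continuous_ofPt q)) hY₀p
  have hmem : ∀ p : P₀.left, AlgSp.Points.ofPt q p ∈ C ↔ (pr₁.left p) ∈ W' := fun p => by
    change p ∈ Y₀ ↔ _
    rw [← hW'Y]
    rfl
  -- the pieces of the cover and their images
  let W₁ : Over S := Over.mk (W'.ι ≫ X₁.hom)
  let w₁ : W₁ ⟶ X₁ := Over.homMk W'.ι rfl
  let g₁ : (AlgSp.yon S).obj W₁ ⟶ X.obj := (AlgSp.yon S).map w₁ ≫ g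
  have : IsClosedImmersion W'.ι := IsClosedImmersion.of_isPreimmersion _ (by rw [Scheme.Opens.range_ι]; exact hW'c)
  have hg₁u : AlgSp.IsUnivClosedMor g₁ := Groth.Agent.AlgSp.isUnivClosedMor_comp (AlgSp.IsAlgSpace.yon_obj X₁)
    X.property (Groth.Agent.AlgSp.isUnivClosedMor_of_repWith
      ((AlgSp.repWith_yon_map_iff _ w₁).2 (inferInstanceAs (UniversallyClosed W'.ι)))) hgp.2.2
  let t₂ : W₁ ⟶ Over.mk (𝟙 S) := Over.homMk W₁.hom (Category.comp_id _)
  have hg₁p : AlgSp.IsProperMor (g₁ ≫ s) := by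
    rw [hT.hom_ext (g₁ ≫ s) ((AlgSp.yon S).map t₂)]
    exact Groth.Agent.S10656.isProperMor_yonMap t₂ hW'p
  let CW : Set (AlgSp.Points X.obj) := Set.range (AlgSp.Points.map g₁)
  let D : Set (AlgSp.Points X.obj) := AlgSp.Points.ofPt g '' (W' : Set X₁.left)ᶜ
  have hCWc : IsClosed CW := Groth.Agent.AlgSp.range_map_subset_isClosed X.property hg₁u
  have hg₁pt : ∀ w, AlgSp.Points.ofPt g₁ w = AlgSp.Points.ofPt g (W'.ι w) := fun w =>
    Groth.Agent.AlgSpB.ofPt_map_comp w₁ g w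
  have hCW : ∀ x, x ∈ CW ↔ ∃ w ∈ W', AlgSp.Points.ofPt g w = x := fun x => by
    constructor
    · rintro ⟨z, rfl⟩
      obtain ⟨w, rfl⟩ := (AlgSp.Points.schemeHomeo W₁).surjective z
      refine ⟨W'.ι w, (Scheme.Opens.range_ι W').le ⟨w, rfl⟩, ?_⟩
      rw [← hg₁pt, AlgSp.Points.ofPt_eq_map_ofScheme]
      rfl
    · rintro ⟨w, hw, rfl⟩
      obtain ⟨w', rfl⟩ := (Scheme.Opens.range_ι W').ge hw
      exact ⟨AlgSp.Points.ofScheme W₁ w', by rw [← AlgSp.Points.ofPt_eq_map_ofScheme, hg₁pt]⟩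
  have hDc : IsClosed D := by
    have e : D = AlgSp.Points.map g '' (AlgSp.Points.schemeHomeo X₁ '' (W' : Set X₁.left)ᶜ) := by
      rw [Set.image_image]
      exact Set.image_congr fun x _ => AlgSp.Points.ofPt_eq_map_ofScheme g x
    rw [e]
    exact Groth.Agent.AlgSp.isClosedMap_map_of_repWith (Groth.Agent.AlgSp.repWith_mono
      (fun g (hg : IsFinite g) => (inferInstance : UniversallyClosed g)) hgf) _
      ((AlgSp.Points.schemeHomeo X₁).isClosed_image.2 W'.2.isClosed_compl)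
  -- they are disjoint
  have hdisj : ∀ w ∈ W', ∀ v ∉ W', AlgSp.Points.ofPt g w ≠ AlgSp.Points.ofPt g v := by
    intro w hw v hv e
    let E : Set W₁.left := AlgSp.Points.ofPt g₁ ⁻¹' D
    have hE : IsClosed E := hDc.preimage (AlgSp.Points.continuous_ofPt g₁)
    obtain ⟨w', rfl⟩ := (Scheme.Opens.range_ι W').ge hw
    have hE' : IsClosed ((W'.ι ≫ X₁.hom) '' E) := (W'.ι ≫ X₁.hom).isClosedMap _ hE
    have hne : ((W'.ι ≫ X₁.hom) '' E).Nonempty := ⟨_, w', ⟨v, hv, by rw [hg₁pt, e]⟩, rfl⟩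
    obtain ⟨a, ha, haI⟩ : ∃ a ∈ (W'.ι ≫ X₁.hom) '' E, I ≤ a.asIdeal := by
      obtain ⟨a₀, ha₀⟩ := hne
      obtain ⟨M, hM, hle⟩ := Ideal.exists_le_maximal a₀.asIdeal a₀.2.ne_top
      refine ⟨⟨M, hM.isPrime⟩, hE'.stableUnderSpecialization ((PrimeSpectrum.le_iff_specializes _ _).1 hle) ha₀, ?_⟩
      exact (HenselianRing.jac (R := A) (I := I)).trans (sInf_le ⟨bot_le, hM⟩)
    obtain ⟨w₀, ⟨v₀, hv₀, hgv⟩, rfl⟩ := ha
    obtain ⟨p, hp⟩ : W'.ι w₀ ∈ Set.range (pullback.fst X₁.hom i) := by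
      rw [Groth.Agent.Hens.ProperClopenLift.range_fst_mk I X₁.hom]
      exact haI
    have hpC : AlgSp.Points.ofPt q p ∈ C :=
      (hmem p).2 (by rw [show pr₁.left p = _ from hp]; exact (Scheme.Opens.range_ι W').le ⟨w₀, rfl⟩)
    have he : AlgSp.Points.map g (AlgSp.Points.ofScheme X₁ v₀) = AlgSp.Points.map i0.hom (AlgSp.Points.ofPt q p) := by
      rw [← AlgSp.Points.ofPt_eq_map_ofScheme, AlgSp.Points.map_ofPt, hq1, Groth.Agent.AlgSpB.ofPt_map_comp, hgv, hg₁pt]
      exact congrArg _ hp.symm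
    obtain ⟨z, hz1, hz2⟩ := Groth.Agent.AlgSpB.exists_of_isPullback sq _ _ he
    obtain ⟨p', rfl⟩ := (AlgSp.Points.schemeHomeo P₀).surjective z
    have hp' : AlgSp.Points.ofPt q p' ∈ C := by
      rw [AlgSp.Points.ofPt_eq_map_ofScheme]
      exact (Eq.ge (congrArg (· ∈ C) hz2)) hpC
    refine hv₀ ?_
    have h := (hmem p').1 hp'
    rwa [show pr₁.left p' = v₀ from (AlgSp.Points.schemeHomeo X₁).injective (by
      refine Eq.trans ?_ hz1
      show AlgSp.Points.ofScheme X₁ (pr₁.left p') = AlgSp.Points.map _ (AlgSp.Points.ofScheme P₀ p')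
      rw [← AlgSp.Points.ofPt_eq_map_ofScheme, ← Category.comp_id ((AlgSp.yon S).map pr₁),
        Groth.Agent.AlgSpB.ofPt_map_comp, AlgSp.Points.ofPt_eq_map_ofScheme, AlgSp.Points.map_id])] at h
  have hCWo : IsOpen CW := by
    have e : CW = Dᶜ := by
      ext x
      rw [hCW]
      constructor
      · rintro ⟨w, hw, rfl⟩ ⟨v, hv, hvw⟩
        exact hdisj w hw v hv hvw.symm
      · intro hx
        obtain ⟨z, rfl⟩ := hgs x
        obtain ⟨z, rfl⟩ := (AlgSp.Points.schemeHomeo X₁).surjective z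
        refine ⟨z, by_contra fun hz => hx ⟨z, hz, AlgSp.Points.ofPt_eq_map_ofScheme g z⟩, AlgSp.Points.ofPt_eq_map_ofScheme g z⟩
    rw [e]
    exact hDc.isOpen_compl
  -- the subspace
  let w := Groth.Agent.AlgSpB.openSubι X.obj CW
  have hwo := Groth.Agent.AlgSpB.repWith_openSubι (G := X.obj) hCWo
  have hwc := repWith_closed_openSubι (G := X.obj) ⟨hCWc, hCWo⟩
  let W : AlgSp.Space S := ⟨_, Groth.Agent.AlgSpB.isAlgSpace_of_mono_representable X.property w hwo.1⟩
  have hwr : Set.range (AlgSp.Points.map w) = CW := Groth.Agent.AlgSpB.range_openSubι CW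
  have hC : AlgSp.Points.map i0.hom ⁻¹' CW = C := by
    ext x
    obtain ⟨z, rfl⟩ := Groth.Agent.AlgSp.surjective_map_of_isPullback sq hgs x
    obtain ⟨p, rfl⟩ := (AlgSp.Points.schemeHomeo P₀).surjective z
    show AlgSp.Points.map i0.hom (AlgSp.Points.map q (AlgSp.Points.ofScheme P₀ p)) ∈ CW ↔
      AlgSp.Points.map q (AlgSp.Points.ofScheme P₀ p) ∈ C
    rw [← AlgSp.Points.ofPt_eq_map_ofScheme, AlgSp.Points.map_ofPt, hq1, Groth.Agent.AlgSpB.ofPt_map_comp, hmem, hCW]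
    exact ⟨fun ⟨w, hw, e⟩ => by_contra fun hv => hdisj w hw _ hv e, fun h => ⟨_, h, rfl⟩⟩
  have hYr : Set.range (AlgSp.Points.map (jY.hom ≫ i0.hom)) ⊆ Set.range (AlgSp.Points.map w) := by
    rintro _ ⟨y, rfl⟩
    rw [AlgSp.Points.map_comp, hwr]
    exact hC.ge ⟨y, rfl⟩
  obtain ⟨k, hk⟩ := (Groth.Agent.AlgSpB.exists_factor_isOpenImmersion_iff hwo _).2 hYr
  refine ⟨W, ObjectProperty.homMk w, ObjectProperty.homMk k, hwo, hwc,
    Groth.Agent.AlgSp.isProperMor_of_image X.property B.property W.property s hs2.1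
      (ι := Unit) (fun _ => AlgSp.IsAlgSpace.yon_obj W₁) (fun _ => g₁) (fun _ => hg₁u) (fun _ => hg₁p) w hwc
      (by rw [hwr, Set.iUnion_const]), ?_⟩
  have := Groth.Agent.AlgSpB.mono_of_isOpenImmersion hwo
  have := Groth.Agent.AlgSpB.mono_of_isOpenImmersion hY1
  have sP := IsPullback.of_hasPullback w i0.hom
  have hPo : AlgSp.RepWith @IsOpenImmersion (pullback.snd w i0.hom) := MorphismProperty.of_isPullback sP hwo
  have := Groth.Agent.AlgSpB.mono_of_isOpenImmersion hPo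
  have hPr : Set.range (AlgSp.Points.map (pullback.snd w i0.hom)) = C := by
    rw [Groth.Agent.AlgSp.range_map_of_isPullback sP, hwr, hC]
  obtain ⟨a, ha⟩ := (Groth.Agent.AlgSpB.exists_factor_isOpenImmersion_iff hY1 _).2 hPr.le
  let b : Y.obj ⟶ pullback w i0.hom := pullback.lift k jY.hom hk
  have hb : b ≫ pullback.snd w i0.hom = jY.hom := pullback.lift_snd _ _ _
  let e : pullback w i0.hom ≅ Y.obj :=
    ⟨a, b, by rw [← cancel_mono (pullback.snd w i0.hom), Category.assoc, hb, ha, Category.id_comp],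
      by rw [← cancel_mono jY.hom, Category.assoc, ha, hb, Category.id_comp]⟩
  exact sP.of_iso e (Iso.refl _) (Iso.refl _) (Iso.refl _)
    (by
      show pullback.fst w i0.hom ≫ 𝟙 _ = a ≫ k
      rw [Category.comp_id, ← cancel_mono w, Category.assoc, hk, reassoc_of% ha, pullback.condition])
    (by show pullback.snd w i0.hom ≫ 𝟙 _ = a ≫ jY.hom; rw [Category.comp_id, ha]) (by simp) (by simp)

end Groth.Agent.S10658
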