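import Groth.Statements.S10659
-- import your own Groth.Agent.* helpers here

set_option autoImplicit false
universe u
open CategoryTheory CategoryTheory.Limits AlgebraicGeometry
open AlgSp

namespace Groth.Agent.S10659

/-- For a property P of morphisms of schemes that is etale local on the target (local for the etale
precoverage) and a representable morphism f : X ⟶ Y of algebraic spaces over S: if for one scheme V
with a representable etale surjective b : h_V ⟶ Y and one pullback square of f along b with corner
h_W the projection W ⟶ V has P, then f has P etale locally on the target in the representable sense,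
i.e. every such projection along every etale h_V ⟶ Y has P. (The published statement also asserts
the converse direction and that, for X and Y representable, the condition is equivalent to f having
P; this row states only that one surjective etale chart suffices.) -/
theorem result {S : Scheme.{u}} (P : MorphismProperty Scheme.{u}) [P.IsLocalAtTarget Scheme.etalePrecoverage]
    {X Y : AlgSp.Space S} (f : X ⟶ Y) (hf : AlgSp.Representable f.hom)
    {V W : Over S} (b : (AlgSp.yon S).obj V ⟶ Y.obj) (hb1 : AlgSp.RepWith @Etale b) (hb2 : AlgSp.RepWith @Surjective b)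
    (fst : (AlgSp.yon S).obj W ⟶ X.obj) (snd : W ⟶ V)
    (sq : IsPullback fst ((AlgSp.yon S).map snd) f.hom b) (hP : P snd.left) :
    AlgSp.RepLocT P f.hom := by
  refine ⟨hf, fun V' W' b' fst' snd' hb' sq' => ?_⟩
  let e₁ : hb1.1.pullback b' ⟶ V := hb1.1.fst' b'
  let e₂ : hb1.1.pullback b' ⟶ V' := hb1.1.snd b'
  have he : (yon S).map e₁ ≫ b = (yon S).map e₂ ≫ b' := by
    rw [Functor.relativelyRepresentable.map_fst']; exact (hb1.1.isPullback b').w
  have sqe : IsPullback ((yon S).map e₁) ((yon S).map e₂) b b' := by
    rw [Functor.relativelyRepresentable.map_fst']; exact hb1.1.isPullback b'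
  have he₂ : Etale e₂.left := hb1.2 _ _ _ (hb1.1.isPullback b')
  have he₂' : Surjective e₂.left := hb2.2 _ _ _ (hb1.1.isPullback b')
  have he₁ : Etale e₁.left := hb'.2 b ((yon S).map e₂) e₁ sqe.flip
  -- `P` holds after base change to the common refinement
  let R : Presieve V.left :=
    Presieve.ofArrows (fun i : Option PUnit.{u+1} => i.elim V.left fun _ => (hb1.1.pullback b').left)
      (fun i => match i with | none => 𝟙 V.left | some _ => e₁.left)
  have hR : R ∈ Scheme.etalePrecoverage V.left := by
    refine (Scheme.ofArrows_mem_precoverage_iff (P := @Etale)).2 ⟨fun x => ⟨none, x, rfl⟩, fun i => ?_⟩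
    cases i
    · exact inferInstanceAs (Etale (𝟙 V.left))
    · exact he₁
  have h₁ : P (pullback.snd snd.left e₁.left) :=
    MorphismProperty.IsLocalAtTarget.pullbackSnd hR ⟨some ⟨⟩⟩ hP
  let R' : Presieve V'.left := Presieve.ofArrows (fun _ : PUnit.{u+1} => (hb1.1.pullback b').left) (fun _ => e₂.left)
  have hR' : R' ∈ Scheme.etalePrecoverage V'.left :=
    (Scheme.ofArrows_mem_precoverage_iff (P := @Etale)).2 ⟨fun x => ⟨⟨⟩, e₂.left.surjective x⟩, fun _ => he₂⟩
  refine MorphismProperty.IsLocalAtTarget.of_forall_pullbackSnd hR' fun {T g} _ hg => ?_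
  obtain ⟨⟨⟩⟩ := hg
  have c₁ := ((IsPullback.of_hasPullback snd e₁).map (yon S)).paste_horiz sq
  have c₂ := ((IsPullback.of_hasPullback snd' e₂).map (yon S)).paste_horiz sq'
  rw [he] at c₁
  obtain ⟨ψ, hψ⟩ : ∃ ψ : pullback snd' e₂ ≅ pullback snd e₁, ψ.hom ≫ pullback.snd snd e₁ = pullback.snd snd' e₂ := by
    refine ⟨(Functor.FullyFaithful.ofFullyFaithful (yon S)).preimageIso (c₂.isoIsPullback _ _ c₁),
      (yon S).map_injective ?_⟩
    rw [Functor.map_comp]
    simp
  have d₁ := (IsPullback.of_hasPullback snd e₁).map (Over.forget S)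
  have d₂ := (IsPullback.of_hasPullback snd' e₂).map (Over.forget S)
  have d₁' := IsPullback.of_hasPullback snd.left e₁.left
  have h₂ : P (pullback.snd snd e₁).left := by
    have e : (d₁.isoIsPullback _ _ d₁').hom ≫ pullback.snd snd.left e₁.left = (pullback.snd snd e₁).left :=
      IsPullback.isoIsPullback_hom_snd _ _ _ _
    rw [← e]
    exact MorphismProperty.RespectsIso.precomp P (d₁.isoIsPullback _ _ d₁').hom _ h₁
  have h₃ : P (pullback.snd snd' e₂).left := by
    rw [← hψ, Over.comp_left]
    have : IsIso ψ.hom.left := inferInstanceAs (IsIso ((Over.forget S).map ψ.hom))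
    exact (MorphismProperty.cancel_left_of_respectsIso P ψ.hom.left _).2 h₂
  have d₂' := IsPullback.of_hasPullback snd'.left e₂.left
  have e : (d₂'.isoIsPullback _ _ d₂).hom ≫ (pullback.snd snd' e₂).left = pullback.snd snd'.left e₂.left :=
    IsPullback.isoIsPullback_hom_snd _ _ _ _
  rw [← e]
  exact MorphismProperty.RespectsIso.precomp P (d₂'.isoIsPullback _ _ d₂).hom _ h₃

end Groth.Agent.S10659
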