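import Groth.Statements.S10661
import Groth.Agent.AlgSpEN.RegKinds
import Groth.Agent.AlgSp.NoethFib
-- import your own Groth.Agent.* helpers here

set_option autoImplicit false
universe u
open CategoryTheory CategoryTheory.Limits AlgebraicGeometry
open AlgSp

namespace Groth.Agent.S10661

open Groth.Agent.AlgSpEN

set_option backward.isDefEq.respectTransparency.types false

/-- For an immersion i : Z ⟶ X of algebraic spaces over S with X locally Noetherian (some etale
surjective chart is a locally Noetherian scheme), the three conditions Koszul-regular immersion,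
H_1-regular immersion and quasi-regular immersion on i are equivalent. -/
theorem result {S : Scheme.{u}} {Z X : AlgSp.Space S} (i : Z ⟶ X) (hi : AlgSp.RepWith @IsImmersion i.hom)
    (hX : AlgSp.IsLocNoethSp X.obj) :
    (AlgSp.IsRegImmMor RegImm.Kind.koszul i.hom ↔ AlgSp.IsRegImmMor RegImm.Kind.h1 i.hom) ∧
      (AlgSp.IsRegImmMor RegImm.Kind.h1 i.hom ↔ AlgSp.IsRegImmMor RegImm.Kind.quasi i.hom) := by
  have hk : ∀ ⦃V : Over S⦄ (b : (AlgSp.yon S).obj V ⟶ X.obj), AlgSp.RepWith @Etale b →
      ∀ (U : V.left.affineOpens) (rs : List Γ(V.left, U.1)),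
      RegImm.Kind.quasi.Seq Γ(V.left, U.1) rs → RegImm.Kind.koszul.Seq Γ(V.left, U.1) rs := fun V b hb U rs hrs => by
    have : IsLocallyNoetherian V.left := Groth.Agent.AlgSp.isLocallyNoetherian_of_etale_chart b hb hX
    have : IsNoetherianRing Γ(V.left, U.1) := IsLocallyNoetherian.component_noetherian U
    exact seq_koszul_of_quasi hrs
  exact ⟨⟨fun h => isRegImmMor_of_seq h fun V b hb U rs hrs => seq_h1_of_koszul hrs,
    fun h => isRegImmMor_of_seq h fun V b hb U rs hrs => hk b hb U rs (seq_quasi_of_h1 hrs)⟩,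
    ⟨fun h => isRegImmMor_of_seq h fun V b hb U rs hrs => seq_quasi_of_h1 hrs,
    fun h => isRegImmMor_of_seq h fun V b hb U rs hrs => seq_h1_of_koszul (hk b hb U rs hrs)⟩⟩

end Groth.Agent.S10661
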