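import Groth.Statements.S10663
import Groth.Agent.AlgSpReg.FlatBC
import Groth.Agent.AlgSpReg.CompScheme
import Groth.Agent.AlgSpCov.LocPBasic
import Groth.Agent.S8654
-- import your own Groth.Agent.* helpers here

set_option autoImplicit false
universe u
open CategoryTheory CategoryTheory.Limits AlgebraicGeometry
open AlgSp

set_option backward.isDefEq.respectTransparency.types false

namespace Groth.Agent.S10663

/-- For immersions i : Z ⟶ Y and j : Y ⟶ X of algebraic spaces over S, the composite i ≫ j is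
Koszul-regular when i and j both are; likewise for H_1-regular; and it is quasi-regular when i is
H_1-regular and j quasi-regular. -/
theorem result {S : Scheme.{u}} {Z Y X : AlgSp.Space S} (i : Z ⟶ Y) (j : Y ⟶ X)
    (hi : AlgSp.RepWith @IsImmersion i.hom) (hj : AlgSp.RepWith @IsImmersion j.hom) :
    (AlgSp.IsRegImmMor RegImm.Kind.koszul i.hom → AlgSp.IsRegImmMor RegImm.Kind.koszul j.hom →
        AlgSp.IsRegImmMor RegImm.Kind.koszul (i ≫ j).hom) ∧
      (AlgSp.IsRegImmMor RegImm.Kind.h1 i.hom → AlgSp.IsRegImmMor RegImm.Kind.h1 j.hom →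
        AlgSp.IsRegImmMor RegImm.Kind.h1 (i ≫ j).hom) ∧
      (AlgSp.IsRegImmMor RegImm.Kind.h1 i.hom → AlgSp.IsRegImmMor RegImm.Kind.quasi j.hom →
        AlgSp.IsRegImmMor RegImm.Kind.quasi (i ≫ j).hom) := by
  have key : ∀ (k₁ k₂ k : RegImm.Kind),
      (∀ {X₀ Y₀ Z₀ : Scheme.{u}} (i₀ : Y₀ ⟶ X₀) (j₀ : Z₀ ⟶ Y₀), RegImm.IsRegularImmersion k₂ i₀ →
        RegImm.IsRegularImmersion k₁ j₀ → RegImm.IsRegularImmersion k (j₀ ≫ i₀)) →
      AlgSp.IsRegImmMor k₁ i.hom → AlgSp.IsRegImmMor k₂ j.hom → AlgSp.IsRegImmMor k (i ≫ j).hom := by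
    intro k₁ k₂ k hcomp h₁ h₂
    have hij : Representable (i.hom ≫ j.hom) := MorphismProperty.comp_mem _ _ _ hi.1 hj.1
    refine ⟨hij, fun V W b fst snd hb sq => ?_⟩
    obtain ⟨T, t, b', sT⟩ := hj.1 b
    have hb' : RepWith @Etale b' := MorphismProperty.of_isPullback sT.flip hb
    obtain ⟨W₀, w, a, sW⟩ := hi.1 b'
    have hr := hcomp t.left w.left (h₂.2 b b' t hb sT) (h₁.2 b' a w hb' sW)
    have s₂ := sW.paste_vert sT
    rw [← Functor.map_comp] at s₂
    let e₀ := sq.isoIsPullback _ _ s₂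
    let e := (yon S).preimageIso e₀
    have he : e.hom ≫ w ≫ t = snd := (yon S).map_injective (by
      rw [Functor.map_comp]
      change (yon S).map ((yon S).preimage e₀.hom) ≫ _ = _
      rw [Functor.map_preimage]
      exact IsPullback.isoIsPullback_hom_snd _ _ _ _)
    exact Groth.Agent.AlgSpReg.isRegularImmersion_of_iso ((Over.forget S).mapIso e)
      (by change e.hom.left ≫ w.left ≫ t.left = snd.left; rw [← he]; rfl) hr
  exact ⟨key _ _ _ fun i₀ j₀ h₂ h₁ => Groth.Agent.S8654.result i₀ j₀ h₂ h₁,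
    key _ _ _ fun i₀ j₀ h₂ h₁ => Groth.Agent.AlgSpReg.isRegularImmersion_h1_comp i₀ j₀ h₂ h₁,
    key _ _ _ fun i₀ j₀ h₂ h₁ => Groth.Agent.AlgSpReg.isRegularImmersion_quasi_comp i₀ j₀ h₂ h₁⟩

end Groth.Agent.S10663
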