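import Groth.Statements.S10664
import Groth.Agent.AlgSpReg.FlatBC
import Groth.Agent.AlgSpReg.LciScheme
import Groth.Agent.AlgSpCov.LocPBasic
-- import your own Groth.Agent.* helpers here

set_option autoImplicit false
universe u
open CategoryTheory CategoryTheory.Limits AlgebraicGeometry
open AlgSp

set_option backward.isDefEq.respectTransparency.types false

namespace Groth.Agent.S10664

/-- For a local complete intersection (Koszul) morphism f : X ⟶ Y of algebraic spaces over S, a smooth g
: P ⟶ Y, an etale e : U ⟶ X and a representable immersion i : U ⟶ P with i ≫ g = e ≫ f, the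
immersion i is Koszul-regular as an immersion of algebraic spaces. -/
theorem result {S : Scheme.{u}} {X Y P U : AlgSp.Space S} (f : X ⟶ Y) (g : P ⟶ Y) (e : U ⟶ X) (i : U ⟶ P)
    (hc : i ≫ g = e ≫ f) (hf : AlgSp.IsLCIMor f.hom) (hg : AlgSp.LocP @Smooth g.hom)
    (he : AlgSp.IsEtaleMor e.hom) (hi : AlgSp.RepWith @IsImmersion i.hom) :
    AlgSp.IsRegImmMor RegImm.Kind.koszul i.hom := by
  refine ⟨hi.1, fun V W b fst snd hb sq => ?_⟩
  have hie : IsImmersion snd.left := hi.2 b fst snd sq
  have hfe : RepWith @Etale fst := MorphismProperty.of_isPullback sq.flip hb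
  obtain ⟨C, c, hcE, hcs⟩ := Y.property.atlas
  obtain ⟨V', p₁, p₂, hV'⟩ := Groth.Agent.AlgSpCov.exists_pullback (Y.property.representable_from_yon (b ≫ g.hom)) c
  have hp : Etale p₁.left := hcE.2 _ _ p₁ hV'.flip
  have hps : Surjective p₁.left := hcs.2 _ _ p₁ hV'.flip
  have hp₂ : Smooth p₂.left := hg ((yon S).map p₁ ≫ b) c p₂
    ((RepWith _).comp_mem _ _ ((repWith_yon_map_iff _ _).2 hp) hb) hcE (by rw [Category.assoc]; exact hV'.w)
  have hW := IsPullback.of_hasPullback snd p₁
  have hWl : IsPullback (pullback.fst snd p₁).left (pullback.snd snd p₁).left snd.left p₁.left :=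
    hW.map (Over.forget S)
  have hie' : IsImmersion (pullback.snd snd p₁).left := MorphismProperty.of_isPullback (P := @IsImmersion) hWl hie
  have hpe : Etale (pullback.fst snd p₁).left := MorphismProperty.of_isPullback (P := @Etale) hWl.flip hp
  have h' := hf (((yon S).map (pullback.fst snd p₁) ≫ fst) ≫ e.hom) c (pullback.snd snd p₁ ≫ p₂)
    (he _ ((RepWith _).comp_mem _ _ ((repWith_yon_map_iff _ _).2 hpe) hfe)) hcE (by
      have hc' : i.hom ≫ g.hom = e.hom ≫ f.hom := congrArg (·.hom) hc
      have hW' : (yon S).map (pullback.fst snd p₁) ≫ (yon S).map snd =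
          (yon S).map (pullback.snd snd p₁) ≫ (yon S).map p₁ := by
        rw [← Functor.map_comp, ← Functor.map_comp, hW.w]
      calc (((yon S).map (pullback.fst snd p₁) ≫ fst) ≫ e.hom) ≫ f.hom
          = (yon S).map (pullback.fst snd p₁) ≫ (fst ≫ i.hom) ≫ g.hom := by
            simp only [Category.assoc]; rw [hc']
        _ = ((yon S).map (pullback.fst snd p₁) ≫ (yon S).map snd) ≫ b ≫ g.hom := by
            rw [sq.w]; simp only [Category.assoc]
        _ = (yon S).map (pullback.snd snd p₁ ≫ p₂) ≫ c := by
            rw [hW', Functor.map_comp, Category.assoc, Category.assoc, hV'.w])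
  have := hp₂
  exact Groth.Agent.AlgSpReg.isRegularImmersion_of_etale_cover snd.left p₁.left (by decide) hWl
    (Groth.Agent.RegImm44.isRegularImmersion_of_isKoszulAt h' p₂.left (pullback.snd snd p₁).left rfl)

end Groth.Agent.S10664
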