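import Groth.Statements.S18836
import Groth.Agent.DVRExt.Basic

set_option autoImplicit false
universe u
open CategoryTheory CategoryTheory.Limits AlgebraicGeometry
open FGA

namespace Groth.Agent.S18836

/-- The fraction field of a discrete valuation ring is the localization at a uniformiser. -/
theorem exists_away (R : Type u) [CommRing R] [IsDomain R] [IsDiscreteValuationRing R] :
    ∃ ϖ : R, IsLocalization.Away ϖ (FractionRing R) := by
  obtain ⟨ϖ, hϖ⟩ := IsDiscreteValuationRing.exists_irreducible R
  refine ⟨ϖ, ⟨?_, ?_, ?_⟩⟩
  · rintro ⟨_, n, rfl⟩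
    exact (IsUnit.mk0 _ (fun h => hϖ.ne_zero (pow_eq_zero_iff'.1 ((IsFractionRing.to_map_eq_zero_iff (K := FractionRing R)).1 h)).1))
  · intro z
    obtain ⟨⟨a, b, hb⟩, hab⟩ := IsLocalization.surj (nonZeroDivisors R) z
    obtain ⟨n, u, rfl⟩ := IsDiscreteValuationRing.eq_unit_mul_pow_irreducible (nonZeroDivisors.ne_zero hb) hϖ
    refine ⟨⟨(↑u⁻¹ : R) * a, ϖ ^ n, n, rfl⟩, ?_⟩
    simp only [map_mul] at hab ⊢
    rw [← hab, ← mul_assoc, mul_comm (algebraMap R (FractionRing R) ↑u⁻¹) z, mul_assoc, ← mul_assoc (algebraMap R (FractionRing R) ↑u⁻¹),
      ← map_mul, u.inv_mul, map_one, one_mul]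
  · intro a b h
    exact ⟨1, by rw [IsFractionRing.injective R (FractionRing R) h]⟩

/-- Let k be an algebraically closed field of characteristic zero, X a projective k-scheme (proper over
k, carrying an ample invertible sheaf), R a discrete valuation ring containing k with fraction field
K, X_R = X ×_k Spec R and X_K = X_R ×_(Spec R) Spec K with j : X_K → X_R the canonical open
immersion. If F is a coherent module on X_K which is a quotient of O^N, then there is a coherent
module F' on X_R, flat over Spec R and again a quotient of O^N, whose restriction j^*F' to X_K is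
isomorphic to F. (The Hilbert polynomial of the closed fibre of F' then equals that of F by
flatness; that clause is not restated.) The published statement is for a valuation ring R containing
k; its argument uses a uniformiser, and this row takes R a discrete valuation ring. The row asserts
only the existence of an isomorphism j^*F' ≅ F, not its compatibility with the two quotient maps. -/
theorem result (k : Type u) [Field k] [IsAlgClosed k] [CharZero k]
    (X : Scheme.{u}) [X.Over (Spec (CommRingCat.of k))] [IsProper (X ↘ Spec (CommRingCat.of k))]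
    (L : X.Modules) (hLi : PicF.IsInvertible L) (hL : CohB1.IsAmple L)
    (R : Type u) [CommRing R] [IsDomain R] [IsDiscreteValuationRing R] [Algebra k R]
    (N : ℕ)
    (F : (pullback (pullback.snd (X ↘ Spec (CommRingCat.of k))
              (Spec.map (CommRingCat.ofHom (algebraMap k R))))
            (Spec.map (CommRingCat.ofHom (algebraMap R (FractionRing R))))).Modules)
    (hF : Coh.IsCoh F)
    (q : FlatMod.freeMod _ N ⟶ F) (hq : Epi q) :
    ∃ (F' : (pullback (X ↘ Spec (CommRingCat.of k)) (Spec.map (CommRingCat.ofHom (algebraMap k R)))).Modules)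
      (q' : FlatMod.freeMod _ N ⟶ F'),
      Coh.IsCoh F' ∧ Epi q' ∧
      FlatMod.IsFlatOver (pullback.snd (X ↘ Spec (CommRingCat.of k))
          (Spec.map (CommRingCat.ofHom (algebraMap k R)))) F' ∧
      Nonempty ((Scheme.Modules.pullback
          (pullback.fst (pullback.snd (X ↘ Spec (CommRingCat.of k))
              (Spec.map (CommRingCat.ofHom (algebraMap k R))))
            (Spec.map (CommRingCat.ofHom (algebraMap R (FractionRing R)))))).obj F' ≅ F) := by
  obtain ⟨ϖ, hϖ⟩ := exists_away R
  haveI : IsOpenImmersion (Spec.map (CommRingCat.ofHom (algebraMap R (FractionRing R)))) :=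
    IsOpenImmersion.of_isLocalization ϖ
  haveI : LocallyOfFiniteType (pullback.snd (X ↘ Spec (CommRingCat.of k))
      (Spec.map (CommRingCat.ofHom (algebraMap k R)))) := MorphismProperty.pullback_snd _ _ inferInstance
  haveI : IsLocallyNoetherian (pullback (X ↘ Spec (CommRingCat.of k)) (Spec.map (CommRingCat.ofHom (algebraMap k R)))) :=
    LocallyOfFiniteType.isLocallyNoetherian (pullback.snd _ _)
  haveI : QuasiCompact (Spec.map (CommRingCat.ofHom (algebraMap R (FractionRing R)))) := inferInstance
  exact Groth.Agent.DVRExt.exists_extension (R := R) (K := FractionRing R)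
    (pullback.snd (X ↘ Spec (CommRingCat.of k)) (Spec.map (CommRingCat.ofHom (algebraMap k R))))
    (pullback.fst _ _) (pullback.snd _ _) pullback.condition N F hF q

end Groth.Agent.S18836
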