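import Groth.Statements.S10669
import Groth.Agent.AlgSp.SchImageRep
import Groth.Agent.AlgSp.LocPFin
import Groth.Agent.AlgSp.PointsMor
import Groth.Agent.AlgSpB.Points
import Groth.Agent.LimTop.ReducedLocus
import Groth.Agent.S18836
import Mathlib.RingTheory.Filtration

set_option backward.isDefEq.respectTransparency false
set_option backward.isDefEq.respectTransparency.types false
-- import your own Groth.Agent.* helpers here

set_option autoImplicit false
universe u
open TensorProduct
open CategoryTheory CategoryTheory.Limits AlgebraicGeometry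
open AlgSp

namespace Groth.Agent.S10669

/-- A flat Noetherian algebra over a discrete valuation ring with reduced special fibre is reduced at every
prime containing the maximal ideal. -/
theorem isReduced_localization_of_special {R A : Type u} [CommRing R] [IsDomain R] [IsDiscreteValuationRing R]
    [CommRing A] [Algebra R A] [Module.Flat R A] [IsNoetherianRing A]
    (h : _root_.IsReduced (A ⧸ (IsLocalRing.maximalIdeal R).map (algebraMap R A)))
    (P : Ideal A) [P.IsPrime] (hP : (IsLocalRing.maximalIdeal R).map (algebraMap R A) ≤ P) :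
    _root_.IsReduced (Localization.AtPrime P) := by
  obtain ⟨ϖ, hϖ⟩ := IsDiscreteValuationRing.exists_irreducible R
  let π := algebraMap R A ϖ
  have hmap : (IsLocalRing.maximalIdeal R).map (algebraMap R A) = Ideal.span {π} := by
    rw [hϖ.maximalIdeal_eq, Ideal.map_span, Set.image_singleton]
  have hinj : ∀ a : A, π * a = 0 → a = 0 := fun a ha => by
    have hreg : Function.Injective fun a : A => ϖ • a :=
      Module.Flat.isSMulRegular_of_nonZeroDivisors (mem_nonZeroDivisors_of_ne_zero hϖ.ne_zero)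
    refine hreg (show ϖ • a = ϖ • 0 from ?_)
    rw [smul_zero, Algebra.smul_def]
    exact ha
  have hdiv : ∀ n : A, IsNilpotent n → ∃ a, IsNilpotent a ∧ n = π * a := by
    intro n hn
    have : n ∈ Ideal.span {π} := by
      rw [← hmap, ← Ideal.Quotient.eq_zero_iff_mem]
      exact h.eq_zero _ (hn.map _)
    obtain ⟨a, rfl⟩ := Ideal.mem_span_singleton'.1 this
    obtain ⟨m, hm⟩ := hn
    refine ⟨a, ⟨m, ?_⟩, mul_comm _ _⟩
    rw [mul_pow] at hm
    have : ∀ (j : ℕ) (b : A), b * π ^ j = 0 → b = 0 := by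
      intro j
      induction j with
      | zero => simp
      | succ j ih =>
        intro b hb
        exact hinj b (ih _ (by rw [← hb]; ring))
    exact this m _ hm
  have hzero : ∀ n : A, IsNilpotent n → ∃ t ∉ P, t * n = 0 := by
    intro n hn
    have hmem : ∀ (k : ℕ) (n : A), IsNilpotent n → n ∈ Ideal.span {π} ^ k := by
      intro k
      induction k with
      | zero => simp
      | succ k ih =>
        intro n hn
        obtain ⟨a, ha, rfl⟩ := hdiv n hn
        rw [pow_succ, mul_comm π a]
        exact Ideal.mul_mem_mul (ih a ha) (Ideal.mem_span_singleton_self π)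
    obtain ⟨⟨r, hr⟩, hrn⟩ := (Ideal.mem_iInf_smul_pow_eq_bot_iff (Ideal.span {π}) n).1
      (Submodule.mem_iInf _ |>.2 fun k => by simpa using hmem k n hn)
    refine ⟨1 - r, fun hc => (inferInstance : P.IsPrime).ne_top ((Ideal.eq_top_iff_one _).2 ?_), ?_⟩
    · have := P.add_mem hc (hP (hmap ▸ hr)); convert this using 1; ring
    · change (r : A) * n = n at hrn
      rw [sub_mul, one_mul, hrn, sub_self]
  refine ⟨fun x hx => ?_⟩
  obtain ⟨a, s, rfl⟩ := IsLocalization.exists_mk'_eq P.primeCompl x
  rw [IsLocalization.mk'_eq_zero_iff]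
  obtain ⟨m, hm⟩ := hx
  rw [← IsLocalization.mk'_pow, IsLocalization.mk'_eq_zero_iff] at hm
  obtain ⟨⟨c, hc⟩, hm⟩ := hm
  obtain ⟨t, ht, ht'⟩ := hzero (c * a) ⟨m + 1, by
    rw [mul_pow, pow_succ' a, pow_succ c]
    linear_combination (c ^ m * a) * hm⟩
  exact ⟨⟨t * c, P.primeCompl.mul_mem ht hc⟩, by rw [← ht', mul_assoc]⟩

/-- For a discrete valuation ring R with residue field κ and fraction field K and an algebraic space X
over Spec R whose structure morphism s (to the terminal sheaf h_{Spec R}) is flat and proper: if the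
special fibre X ×_{Spec R} Spec κ is reduced (some etale surjective scheme chart is reduced), then X
is reduced and so is the generic fibre X ×_{Spec R} Spec K. -/
theorem result (R : Type u) [CommRing R] [IsDomain R] [IsDiscreteValuationRing R]
    {X : AlgSp.Space (Spec (CommRingCat.of R))}
    (s : X.obj ⟶ (AlgSp.yon (Spec (CommRingCat.of R))).obj (Over.mk (𝟙 _)))
    (hs1 : AlgSp.IsProperMor s) (hs2 : AlgSp.LocP @Flat s)
    (h0 : ∀ (X0 : AlgSp.Sp (Spec (CommRingCat.of R))) (fst : X0 ⟶ X.obj)
      (snd : X0 ⟶ (AlgSp.yon (Spec (CommRingCat.of R))).obj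
        (Over.mk (Spec.map (CommRingCat.ofHom (IsLocalRing.residue R))))),
      IsPullback fst snd s ((AlgSp.yon (Spec (CommRingCat.of R))).map
        (Over.homMk (Spec.map (CommRingCat.ofHom (IsLocalRing.residue R))) (Category.comp_id _) :
          Over.mk (Spec.map (CommRingCat.ofHom (IsLocalRing.residue R))) ⟶ Over.mk (𝟙 _))) →
      AlgSp.EtaleLocally (fun U => IsReduced U) X0) :
    AlgSp.EtaleLocally (fun U => IsReduced U) X.obj ∧
      ∀ (Xη : AlgSp.Sp (Spec (CommRingCat.of R))) (fst : Xη ⟶ X.obj)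
        (snd : Xη ⟶ (AlgSp.yon (Spec (CommRingCat.of R))).obj
          (Over.mk (Spec.map (CommRingCat.ofHom (algebraMap R (FractionRing R)))))),
        IsPullback fst snd s ((AlgSp.yon (Spec (CommRingCat.of R))).map
          (Over.homMk (Spec.map (CommRingCat.ofHom (algebraMap R (FractionRing R)))) (Category.comp_id _) :
            Over.mk (Spec.map (CommRingCat.ofHom (algebraMap R (FractionRing R)))) ⟶ Over.mk (𝟙 _))) →
        AlgSp.EtaleLocally (fun U => IsReduced U) Xη := by
  let SR := Spec (CommRingCat.of R)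
  let B : Over SR := Over.mk (𝟙 _)
  let Kκ : Over SR := Over.mk (Spec.map (CommRingCat.ofHom (IsLocalRing.residue R)))
  obtain ⟨U, p, hp, hps⟩ := X.property.atlas
  obtain ⟨v, hv⟩ := (AlgSp.yon SR).map_surjective (p ≫ s)
  have hid : AlgSp.RepWith @Etale (𝟙 ((AlgSp.yon SR).obj B)) := AlgSp.repWith_id _ _
  have hvflat : Flat v.left := hs2 p (𝟙 _) v hp hid (by rw [Category.comp_id, hv])
  have hvlft : LocallyOfFiniteType v.left := hs1.2.1.1 p (𝟙 _) v hp hid (by rw [Category.comp_id, hv])
  have : IsLocallyNoetherian B.left := inferInstanceAs (IsLocallyNoetherian (Spec (CommRingCat.of R)))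
  have hUN : IsLocallyNoetherian U.left := LocallyOfFiniteType.isLocallyNoetherian v.left
  let Red : Set U.left := {u | _root_.IsReduced (U.left.presheaf.stalk u)}
  have hRed : IsOpen Red := Groth.Agent.LimTop.isOpen_setOf_isReduced_stalk fun W => by
    have := IsLocallyNoetherian.component_noetherian W
    exact IsNoetherian.noetherian _
  -- the special fibre
  let inκ : Kκ ⟶ B := Over.homMk (Spec.map (CommRingCat.ofHom (IsLocalRing.residue R))) (Category.comp_id _)
  have hX0 := h0 _ _ _ (IsPullback.of_hasPullback s ((AlgSp.yon SR).map inκ))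
  have hX0a := Groth.Agent.AlgSp.isAlgSpace_pullback (AlgSp.IsAlgSpace.yon_obj B) X.property
    (AlgSp.IsAlgSpace.yon_obj Kκ) s ((AlgSp.yon SR).map inκ)
  have sqU := (IsPullback.of_hasPullback v inκ).map (AlgSp.yon SR)
  rw [hv] at sqU
  obtain ⟨p0, hp0₁, hp0₂⟩ := (IsPullback.of_hasPullback s ((AlgSp.yon SR).map inκ)).exists_lift
    ((AlgSp.yon SR).map (pullback.fst v inκ) ≫ p) ((AlgSp.yon SR).map (pullback.snd v inκ))
    (by rw [Category.assoc]; exact sqU.w)
  have sqp : IsPullback ((AlgSp.yon SR).map (pullback.fst v inκ)) p0 p (pullback.fst s ((AlgSp.yon SR).map inκ)) :=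
    IsPullback.of_bot (by rw [hp0₂]; exact sqU) hp0₁.symm (IsPullback.of_hasPullback s ((AlgSp.yon SR).map inκ))
  have : IsReduced (pullback v inκ).left :=
    Groth.Agent.AlgSp.SchImageRep.isReduced_chart hX0a hX0 p0 (MorphismProperty.of_isPullback sqp hp)
  have hred0 : IsReduced (pullback v.left inκ.left) := by
    let e := ((IsPullback.of_hasPullback v inκ).map (Over.forget SR)).isoPullback
    have : IsReduced ((Over.forget SR).obj (pullback v inκ)) := ‹IsReduced (pullback v inκ).left›
    exact AlgebraicGeometry.isReduced_of_isOpenImmersion e.inv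
  have hspecial : ∀ u : U.left, v.left u = (IsLocalRing.closedPoint R : PrimeSpectrum R) → u ∈ Red := by
    intro u hu
    obtain ⟨_, ⟨W, hW, rfl⟩, huW, -⟩ := U.left.isBasis_affineOpens.exists_subset_of_mem_open (Set.mem_univ u) isOpen_univ
    have : IsNoetherianRing Γ(U.left, W) := IsLocallyNoetherian.component_noetherian ⟨W, hW⟩
    obtain ⟨φ, hφ⟩ := Spec.map_surjective (hW.fromSpec ≫ v.left)
    algebraize [φ.hom]
    have : Module.Flat R Γ(U.left, W) := by
      have : Flat (Spec.map φ) := by rw [hφ]; infer_instance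
      exact (HasRingHomProperty.Spec_iff (P := @Flat)).1 this
    let m := IsLocalRing.maximalIdeal R
    have hr0 : IsReduced (pullback (Spec.map φ) (Spec.map (CommRingCat.ofHom (IsLocalRing.residue R)))) :=
      AlgebraicGeometry.isReduced_of_isOpenImmersion
        (pullback.map (Spec.map φ) (Spec.map (CommRingCat.ofHom (IsLocalRing.residue R))) v.left inκ.left hW.fromSpec (𝟙 _) (𝟙 _)
          (by simp [hφ]) (by simp [inκ]))
    have : IsReduced (pullback (Spec.map (CommRingCat.ofHom (algebraMap R Γ(U.left, W))))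
        (Spec.map (CommRingCat.ofHom (algebraMap R (R ⧸ m))))) := hr0
    have : IsReduced (Spec (CommRingCat.of (Γ(U.left, W) ⊗[R] (R ⧸ m)))) :=
      AlgebraicGeometry.isReduced_of_isOpenImmersion (pullbackSpecIso R Γ(U.left, W) (R ⧸ m)).inv
    have hTr : _root_.IsReduced (Γ(U.left, W) ⊗[R] (R ⧸ m)) := (affine_isReduced_iff _).1 this
    have hQr : _root_.IsReduced (Γ(U.left, W) ⧸ m.map (algebraMap R Γ(U.left, W))) :=
      isReduced_of_injective (Algebra.TensorProduct.quotIdealMapEquivTensorQuot Γ(U.left, W) m).toRingHom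
        (Algebra.TensorProduct.quotIdealMapEquivTensorQuot Γ(U.left, W) m).injective
    let P := hW.primeIdealOf ⟨u, huW⟩
    have hPu : hW.fromSpec P = u := hW.fromSpec_primeIdealOf ⟨u, huW⟩
    have hc : PrimeSpectrum.comap φ.hom P = IsLocalRing.closedPoint R := by
      rw [← hu, ← hPu]
      change Spec.map φ P = _
      rw [hφ]
      rfl
    have hle : m.map (algebraMap R Γ(U.left, W)) ≤ P.asIdeal := Ideal.map_le_iff_le_comap.2
      (le_of_eq (congrArg PrimeSpectrum.asIdeal hc).symm)
    have := isReduced_localization_of_special hQr P.asIdeal hle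
    letI : Algebra Γ(U.left, W) (U.left.presheaf.stalk u) := TopCat.Presheaf.algebra_section_stalk U.left.presheaf ⟨u, huW⟩
    have := hW.isLocalization_stalk ⟨u, huW⟩
    exact isReduced_of_injective (IsLocalization.algEquiv P.asIdeal.primeCompl (U.left.presheaf.stalk u)
      (Localization.AtPrime P.asIdeal)).toRingHom (AlgEquiv.injective _)
  -- the reduced open subscheme
  let O : U.left.Opens := ⟨Red, hRed⟩
  let U' : Over SR := Over.mk (O.ι ≫ U.hom)
  let e' : U' ⟶ U := Over.homMk O.ι rfl
  have hU' : IsReduced U'.left := by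
    have : ∀ x : (O : Scheme.{u}), _root_.IsReduced ((O : Scheme.{u}).presheaf.stalk x) := fun x => by
      have : _root_.IsReduced (U.left.presheaf.stalk x.1) := x.2
      exact isReduced_of_injective (O.stalkIso x).hom.hom (ConcreteCategory.bijective_of_isIso (O.stalkIso x).hom).1
    exact isReduced_of_isReduced_stalk (X := (O : Scheme.{u}))
  have hp' : AlgSp.RepWith @Etale ((AlgSp.yon SR).map e' ≫ p) := (AlgSp.RepWith @Etale).comp_mem _ _
    ((AlgSp.repWith_yon_map_iff _ e').2 (inferInstanceAs (Etale O.ι))) hp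
  have hsurj : ∀ x, x ∈ Set.range (AlgSp.Points.map ((AlgSp.yon SR).map e' ≫ p)) := by
    by_contra hne
    push Not at hne
    obtain ⟨x, hx⟩ := hne
    let C := (AlgSp.Points.ofPt p '' Red)ᶜ
    have hC : IsClosed C := ((Groth.Agent.AlgSpB.isOpenMap_ofPt hp) _ hRed).isClosed_compl
    have hcl : IsClosed (AlgSp.Points.map s '' C) :=
      hs1.2.2 (AlgSp.IsAlgSpace.yon_obj B) (𝟙 _) (𝟙 _) s (IsPullback.id_horiz s) C hC
    have hxC : x ∈ C := by
      rintro ⟨u, hu, rfl⟩
      refine hx ⟨AlgSp.Points.ofScheme U' ⟨u, hu⟩, ?_⟩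
      rw [AlgSp.Points.map_comp, AlgSp.Points.ofPt_eq_map_ofScheme p]
      exact congrArg _ (AlgSp.Points.map_yon_map_apply e' ⟨u, hu⟩)
    let D : Set B.left := AlgSp.Points.ofScheme B ⁻¹' (AlgSp.Points.map s '' C)
    have hD : IsClosed D := hcl.preimage (AlgSp.Points.schemeHomeo B).continuous
    obtain ⟨b, hb⟩ : D.Nonempty := by
      refine ⟨AlgSp.Points.toScheme B (AlgSp.Points.map s x), ?_⟩
      rw [Set.mem_preimage, AlgSp.Points.ofScheme_toScheme]
      exact ⟨x, hxC, rfl⟩
    have hc : (IsLocalRing.closedPoint R : PrimeSpectrum R) ∈ D :=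
      (IsLocalRing.specializes_closedPoint (b : PrimeSpectrum R)).mem_closed hD hb
    obtain ⟨x₀, hx₀C, hx₀⟩ := hc
    obtain ⟨u, rfl⟩ := Groth.Agent.AlgSpB.surjective_ofPt hps x₀
    refine hx₀C ⟨u, hspecial u ?_, rfl⟩
    refine (AlgSp.Points.schemeHomeo B).injective ?_
    change AlgSp.Points.ofScheme B (v.left u) = AlgSp.Points.ofScheme B _
    rw [← hx₀, AlgSp.Points.map_ofPt, ← hv, AlgSp.Points.ofPt_eq_map_ofScheme]
    exact (AlgSp.Points.map_yon_map_apply v u).symm
  have hs' : AlgSp.RepWith @Surjective ((AlgSp.yon SR).map e' ≫ p) :=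
    (Groth.Agent.AlgSp.repWith_surjective_iff _ hp'.1).2 hsurj
  refine ⟨⟨U', _, hp', hs', hU'⟩, fun Xη fst snd sq => ?_⟩
  let Kη : Over SR := Over.mk (Spec.map (CommRingCat.ofHom (algebraMap R (FractionRing R))))
  let inη : Kη ⟶ B := Over.homMk (Spec.map (CommRingCat.ofHom (algebraMap R (FractionRing R)))) (Category.comp_id _)
  obtain ⟨ϖ, hϖ⟩ := Groth.Agent.S18836.exists_away R
  have : IsOpenImmersion inη.left := IsOpenImmersion.of_isLocalization (S := FractionRing R) ϖ
  have sqη := (IsPullback.of_hasPullback (e' ≫ v) inη).map (AlgSp.yon SR)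
  rw [Functor.map_comp, hv, ← Category.assoc] at sqη
  obtain ⟨q, hq₁, hq₂⟩ := sq.exists_lift ((AlgSp.yon SR).map (pullback.fst (e' ≫ v) inη) ≫ (AlgSp.yon SR).map e' ≫ p)
    ((AlgSp.yon SR).map (pullback.snd (e' ≫ v) inη)) (by rw [Category.assoc]; exact sqη.w)
  have sqq : IsPullback ((AlgSp.yon SR).map (pullback.fst (e' ≫ v) inη)) q ((AlgSp.yon SR).map e' ≫ p) fst :=
    IsPullback.of_bot (by rw [hq₂]; exact sqη) hq₁.symm sq
  refine ⟨pullback (e' ≫ v) inη, q, MorphismProperty.of_isPullback sqq hp', MorphismProperty.of_isPullback sqq hs', ?_⟩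
  have hpb := (IsPullback.of_hasPullback (e' ≫ v) inη).map (Over.forget SR)
  have : IsOpenImmersion (pullback.fst (e' ≫ v) inη).left :=
    MorphismProperty.of_isPullback (P := @IsOpenImmersion) hpb.flip ‹_›
  exact AlgebraicGeometry.isReduced_of_isOpenImmersion (pullback.fst (e' ≫ v) inη).left

end Groth.Agent.S10669
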