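import Groth.Statements.S10676
import Groth.Agent.AlgSp.SplitOff
import Groth.Agent.AlgSpD.DecentCrit
-- import your own Groth.Agent.* helpers here

set_option autoImplicit false
universe u
open CategoryTheory CategoryTheory.Limits AlgebraicGeometry
open AlgSp

namespace Groth.Agent.S10676
set_option backward.isDefEq.respectTransparency.types false

/-- For a separated morphism f : X ⟶ Y of algebraic spaces over S which is locally of finite type, a
point y of |Y| and a finite set xs of points of |X| mapping to y at each of which f is quasi-finite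
(some etale chart diagram through the point has top arrow locally quasi-finite and locally of finite
type on an open neighbourhood), assuming moreover that f is quasi-compact or Y is decent: there are
an etale morphism of algebraic spaces a : U ⟶ Y and a point u of |U| over y such that for the base
change P = U ×_Y X there is an open and closed subspace V ⊂ P, finite over U, such that every point
of |V| over u maps into xs and no point of |P| outside |V| lying over u maps into xs. -/
theorem result {S : Scheme.{u}} {X Y : AlgSp.Space S} (f : X ⟶ Y) (y : AlgSp.Points Y.obj)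
    (xs : Finset (AlgSp.Points X.obj)) (hxs : ∀ x ∈ xs, AlgSp.Points.map f.hom x = y)
    (hf1 : AlgSp.LocP @LocallyOfFiniteType f.hom) (hf2 : AlgSp.IsSeparatedMor f.hom)
    (hf3 : ∀ x ∈ xs, AlgSp.HasAtMor (fun U _ h u => ∃ W : U.Opens, u ∈ W ∧ LocallyQuasiFinite (W.ι ≫ h) ∧ LocallyOfFiniteType (W.ι ≫ h)) f.hom x)
    (hf4 : AlgSp.IsQuasiCompactMor f.hom ∨ AlgSp.IsDecent Y.obj) :
    ∃ (U : AlgSp.Space S) (a : U ⟶ Y) (u : AlgSp.Points U.obj), AlgSp.IsEtaleMor a.hom ∧ AlgSp.Points.map a.hom u = y ∧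
      ∀ (P : AlgSp.Space S) (prX : P ⟶ X) (prU : P ⟶ U), IsPullback prX.hom prU.hom f.hom a.hom →
        ∃ (V : AlgSp.Space S) (jV : V ⟶ P), AlgSp.RepWith @IsOpenImmersion jV.hom ∧ AlgSp.RepWith @IsClosedImmersion jV.hom ∧
          AlgSp.IsFiniteMor (jV ≫ prU).hom ∧
          (∀ v : AlgSp.Points V.obj, AlgSp.Points.map (jV ≫ prU).hom v = u → AlgSp.Points.map (jV ≫ prX).hom v ∈ xs) ∧
          ∀ w : AlgSp.Points P.obj, w ∉ Set.range (AlgSp.Points.map jV.hom) → AlgSp.Points.map prU.hom w = u →
            AlgSp.Points.map prX.hom w ∉ xs := by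
  obtain ⟨V, b, v, hV, hb, hv⟩ := Groth.Agent.AlgSpD.exists_affine_chart Y y
  have sq := IsPullback.of_hasPullback f.hom b
  let T : Set (AlgSp.Points (pullback f.hom b)) := {p | AlgSp.Points.map (pullback.snd f.hom b) p = AlgSp.Points.ofScheme V v ∧
    AlgSp.Points.map (pullback.fst f.hom b) p ∈ xs}
  have hTfin : T.Finite := by
    rcases hf4 with hqc | hdec
    · obtain ⟨A, a, h, -, ha, has, hah, hlft, hcq⟩ :=
        Groth.Agent.AlgSp.exists_affine_chart_over X.property Y.property ⟨hf1, hqc⟩ b sq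
      have haX : AlgSp.RepWith @Etale (a ≫ pullback.fst f.hom b) :=
        (AlgSp.RepWith _).comp_mem _ _ ha (MorphismProperty.pullback_fst _ _ hb)
      have w : (a ≫ pullback.fst f.hom b) ≫ f.hom = (AlgSp.yon S).map h ≫ b := by
        rw [Category.assoc, sq.w, ← Category.assoc, hah]
      refine ((Groth.Agent.AlgSp.finite_qfAt_preimage h.left v).image (AlgSp.Points.ofPt a)).subset ?_
      rintro p ⟨hp1, hp2⟩
      obtain ⟨c, rfl⟩ := Groth.Agent.AlgSpB.surjective_ofPt has p
      rw [AlgSp.Points.map_ofPt] at hp1 hp2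
      rw [hah, AlgSp.Points.ofPt_eq_map_ofScheme] at hp1
      refine ⟨c, ⟨?_, Groth.Agent.AlgSp.quasiFiniteAt_of_qfAt X.property Y.property haX hb w (hf3 _ hp2)⟩, rfl⟩
      exact (AlgSp.Points.schemeHomeo V).injective ((AlgSp.Points.map_yon_map_apply h c).symm.trans hp1)
    · exact (xs.finite_toSet.biUnion fun x _ =>
        Groth.Agent.AlgSp.finite_preimage_fst_of_decent hdec f.hom hb sq x).subset fun p hp =>
          Set.mem_iUnion₂.2 ⟨_, hp.2, rfl⟩
  obtain ⟨U, a, u, ha, hau, H⟩ := Groth.Agent.AlgSp.exists_split_off f hf2 hb v T hTfin (fun p hp => hp.1)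
    (fun p hp => hf3 _ hp.2)
  refine ⟨U, a, u, ha, hau.trans hv, fun P prX prU hP => ?_⟩
  obtain ⟨W, jW, hjo, hjc, hfin, hA, hB, -⟩ := H P prX prU hP
  refine ⟨W, jW, hjo, hjc, hfin, fun w hw => ?_, fun w hw hwu hx => ?_⟩
  · obtain ⟨p, hp, e⟩ := hA w hw
    rw [e]; exact hp.2
  · obtain ⟨p, hpT, hp1, hp2⟩ := hB w hw hwu
    exact hpT ⟨hp1, by rw [hp2]; exact hx⟩

end Groth.Agent.S10676
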