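import Groth.Statements.S10677
import Groth.Agent.AlgSp.SplitOff
import Groth.Agent.AlgSpD.DecentCrit
-- import your own Groth.Agent.* helpers here

set_option autoImplicit false
universe u
open CategoryTheory CategoryTheory.Limits AlgebraicGeometry
open AlgSp

namespace Groth.Agent.S10677
set_option backward.isDefEq.respectTransparency.types false

/-- For a separated morphism f : X ⟶ Y of algebraic spaces over S which is locally of finite type and a
point x of |X| with image y at which f is quasi-finite (some etale chart diagram through x has top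
arrow locally quasi-finite and locally of finite type on an open neighbourhood), there are an etale
morphism a : U ⟶ Y and a point u of |U| over y such that for the base change P = U ×_Y X there is an
open and closed subspace V ⊂ P, finite over U, containing a point mapping to x in |X| and to u in
|U|. -/
theorem result {S : Scheme.{u}} {X Y : AlgSp.Space S} (f : X ⟶ Y) (x : AlgSp.Points X.obj)
    (hf1 : AlgSp.LocP @LocallyOfFiniteType f.hom) (hf2 : AlgSp.IsSeparatedMor f.hom)
    (hf3 : AlgSp.HasAtMor (fun U _ h u => ∃ W : U.Opens, u ∈ W ∧ LocallyQuasiFinite (W.ι ≫ h) ∧ LocallyOfFiniteType (W.ι ≫ h)) f.hom x) :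
    ∃ (U : AlgSp.Space S) (a : U ⟶ Y) (u : AlgSp.Points U.obj), AlgSp.IsEtaleMor a.hom ∧
      AlgSp.Points.map a.hom u = AlgSp.Points.map f.hom x ∧
      ∀ (P : AlgSp.Space S) (prX : P ⟶ X) (prU : P ⟶ U), IsPullback prX.hom prU.hom f.hom a.hom →
        ∃ (V : AlgSp.Space S) (jV : V ⟶ P), AlgSp.RepWith @IsOpenImmersion jV.hom ∧ AlgSp.RepWith @IsClosedImmersion jV.hom ∧
          AlgSp.IsFiniteMor (jV ≫ prU).hom ∧
          ∃ v : AlgSp.Points V.obj, AlgSp.Points.map (jV ≫ prX).hom v = x ∧ AlgSp.Points.map (jV ≫ prU).hom v = u := by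
  obtain ⟨V, b, v, hV, hb, hv⟩ := Groth.Agent.AlgSpD.exists_affine_chart Y (AlgSp.Points.map f.hom x)
  obtain ⟨p, hp1, hp2⟩ := Groth.Agent.AlgSpB.exists_of_isPullback (IsPullback.of_hasPullback f.hom b) x
    (AlgSp.Points.ofScheme V v) (by rw [← hv, AlgSp.Points.ofPt_eq_map_ofScheme])
  obtain ⟨U, a, u, ha, hau, H⟩ := Groth.Agent.AlgSp.exists_split_off f hf2 hb v {p} (Set.finite_singleton p)
    (fun q hq => by rw [Set.mem_singleton_iff.1 hq]; exact hp2)
    (fun q hq => by rw [Set.mem_singleton_iff.1 hq, hp1]; exact hf3)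
  refine ⟨U, a, u, ha, hau.trans hv, fun P prX prU hP => ?_⟩
  obtain ⟨W, jW, hjo, hjc, hfin, -, -, hC⟩ := H P prX prU hP
  obtain ⟨w, hw1, hw2⟩ := hC p rfl
  exact ⟨W, jW, hjo, hjc, hfin, w, hw2.trans hp1, hw1⟩

end Groth.Agent.S10677
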