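import Groth.Statements.S10681
import Groth.Agent.AlgSpEN.GeomConnEtale
import Groth.Agent.AlgSp.InfSpace

set_option autoImplicit false
universe u
open CategoryTheory CategoryTheory.Limits AlgebraicGeometry
open AlgSp

namespace Groth.Agent.S10681

open Groth.Agent.AlgSpEN.GeomConnEtale
open Groth.Agent.AlgSp.Jshriek (str)

set_option backward.isDefEq.respectTransparency false
set_option backward.isDefEq.respectTransparency.types false

/-- For a morphism f : X ⟶ Y between algebraic spaces over S and a geometric point ȳ of Y (an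
algebraically closed field point), the geometric fibre X_ȳ (pullback in fppf sheaves) has connected
space of points if and only if for every scheme V with a representable etale a : h_V ⟶ Y and every
point v of V through which ȳ factors, the fibre of X ×_Y V ⟶ V over v (pullback along the residue
field point of v) has connected space of points. -/
theorem result {S : Scheme.{u}} {X Y : AlgSp.Space S} (f : X ⟶ Y) (yb : AlgSp.FieldPt Y.obj) (hyb : yb.IsGeometric)
    (Xyb : AlgSp.Sp S) (fst : Xyb ⟶ X.obj) (snd : Xyb ⟶ (AlgSp.yon S).obj yb.pt) (h : IsPullback fst snd f.hom yb.toHom) :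
    ConnectedSpace (AlgSp.Points Xyb) ↔
      ∀ (V : Over S) (a : (AlgSp.yon S).obj V ⟶ Y.obj), AlgSp.RepWith @Etale a →
        ∀ (v : ↥V.left) (c : yb.pt ⟶ V), (AlgSp.yon S).map c ≫ a = yb.toHom → c.left (IsLocalRing.closedPoint yb.K) = v →
          ∀ (Xv : AlgSp.Sp S) (fst' : Xv ⟶ X.obj)
            (snd' : Xv ⟶ (AlgSp.yon S).obj (Over.mk (V.left.fromSpecResidueField v ≫ V.hom))),
            IsPullback fst' snd' f.hom ((AlgSp.yon S).map (Over.homMk (V.left.fromSpecResidueField v) rfl :
              Over.mk (V.left.fromSpecResidueField v ≫ V.hom) ⟶ V) ≫ a) →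
            ConnectedSpace (AlgSp.Points Xv) := by
  have : IsAlgClosed yb.K := hyb
  constructor
  · intro hX V a _ v c hc hcv Xv fst' snd' hv
    obtain ⟨φ, hφ⟩ := Groth.Agent.AlgSp.exists_fac_residueField (c.left : Spec (CommRingCat.of yb.K) ⟶ V.left) v
      ((congrArg c.left (Subsingleton.elim (α := ↥(Spec (CommRingCat.of yb.K))) _ _)).trans hcv)
    let π : Over.mk (V.left.fromSpecResidueField v ≫ V.hom) ⟶ V := Over.homMk (V.left.fromSpecResidueField v) rfl
    let r : yb.pt ⟶ Over.mk (V.left.fromSpecResidueField v ≫ V.hom) := Over.homMk (Spec.map φ) (by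
      change Spec.map φ ≫ V.left.fromSpecResidueField v ≫ V.hom = yb.str
      rw [← Category.assoc, hφ]
      exact Over.w c)
    have hrc : r ≫ π = c := Over.OverMorphism.ext hφ
    have e : (AlgSp.yon S).map r ≫ (AlgSp.yon S).map π ≫ a = yb.toHom := by
      rw [← Category.assoc, ← Functor.map_comp, hrc, hc]
    obtain ⟨l, hl₁, hl₂⟩ := hv.exists_lift fst (snd ≫ (AlgSp.yon S).map r) (by
      rw [Category.assoc, e, h.w])
    have sq : IsPullback l snd snd' ((AlgSp.yon S).map r) :=
      IsPullback.of_right (by rw [hl₁, e]; exact h) hl₂ hv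
    refine AlgSpCov.GeomConn.connectedSpace_of_surjective (AlgSp.Points.continuous_map l) fun x => ?_
    obtain ⟨q, hq, -⟩ := AlgSpB.exists_of_isPullback sq x (AlgSp.Points.ofScheme _ (IsLocalRing.closedPoint yb.K))
      ((AlgSp.Points.schemeHomeo (Over.mk (V.left.fromSpecResidueField v ≫ V.hom))).symm.injective
        (Subsingleton.elim (α := ↥(Spec (V.left.residueField v))) _ _))
    exact ⟨q, hq⟩
  · intro H
    -- an affine chart through the geometric point
    obtain ⟨W, q, hq, hqs⟩ := Y.property.atlas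
    obtain ⟨w, hw⟩ := AlgSpB.surjective_ofPt hqs (AlgSp.Points.mk yb)
    obtain ⟨A, sA, i, hi, t, ht⟩ := AlgSp.InfSpace.exists_affine_etale W w
    have ha : AlgSp.RepWith @Etale ((AlgSp.yon S).map i ≫ q) :=
      (repWith_isMultiplicative _).comp_mem _ _ ((repWith_yon_map_iff _ _).2 hi) hq
    obtain ⟨c, hc, -⟩ := AlgSpB.exists_lift_geometric ha yb hyb t
      (by rw [AlgSpB.ofPt_map_comp, ht, hw])
    obtain ⟨φ, hφ⟩ := Spec.map_surjective (c.left : Spec (CommRingCat.of yb.K) ⟶ Spec A)
    let p : Ideal A := RingHom.ker φ.hom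
    have hp : p.IsPrime := RingHom.ker_isPrime φ.hom
    let k := p.ResidueField
    have hunit : p.primeCompl ≤ Submonoid.comap φ.hom (IsUnit.submonoid yb.K) := by
      intro x (hx : x ∉ p)
      change IsUnit (φ.hom x)
      exact isUnit_iff_ne_zero.2 fun h0 => hx h0
    let j : k →+* yb.K := Ideal.ResidueField.lift p φ.hom le_rfl hunit
    letI : Algebra k yb.K := j.toAlgebra
    have hj : j.comp (algebraMap A k) = φ.hom := RingHom.ext fun x => Ideal.ResidueField.lift_algebraMap p φ.hom le_rfl hunit x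
    let g : Spec (CommRingCat.of k) ⟶ S := Spec.map (CommRingCat.ofHom (algebraMap A k)) ≫ sA
    let π₀ : Over.mk g ⟶ Over.mk sA := Over.homMk (Spec.map (CommRingCat.ofHom (algebraMap A k))) rfl
    let z := (AlgSp.yon S).map π₀ ≫ (AlgSp.yon S).map i ≫ q
    have hG : AlgSp.IsAlgSpace (pullback f.hom z) :=
      AlgSp.isAlgSpace_pullback Y.property X.property (AlgSp.IsAlgSpace.yon_obj _) _ _
    have hS : ∀ (k' : Type u) [Field k'] [Algebra k k'], Module.Finite k k' → Algebra.IsSeparable k k' →
        ∀ {P : AlgSp.Sp S} (p₁ : P ⟶ pullback f.hom z) (p₂ : P ⟶ (AlgSp.yon S).obj (fld g k')),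
          IsPullback p₁ p₂ (pullback.snd f.hom z) ((AlgSp.yon S).map (str g (AlgSpCov.GeomConn.KT k k'))) →
            ConnectedSpace (AlgSp.Points P) := by
      intro k' _ _ hf hs P p₁ p₂ hP
      obtain ⟨E, _, _, _, ψ, hψ, hψt⟩ := exists_etale_generating p k'
      obtain ⟨v, e, he⟩ := exists_iso_residueField ψ hψt
      let ε : Over.mk (Spec.map (CommRingCat.ofHom (algebraMap A E)) ≫ sA) ⟶ Over.mk sA :=
        Over.homMk (Spec.map (CommRingCat.ofHom (algebraMap A E))) rfl
      have hε : Etale ε.left := (HasRingHomProperty.Spec_iff (P := @Etale)).2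
        (RingHom.etale_algebraMap.2 (inferInstance : Algebra.Etale A E))
      let ζ : fld g k' ⟶ Over.mk (Spec.map (CommRingCat.ofHom (algebraMap A E)) ≫ sA) :=
        Over.homMk (Spec.map (CommRingCat.ofHom ψ)) (by
          change Spec.map _ ≫ Spec.map _ ≫ sA = Spec.map _ ≫ Spec.map _ ≫ sA
          rw [← Spec.map_comp_assoc, ← Spec.map_comp_assoc]
          exact congrArg (fun φ => Spec.map (CommRingCat.ofHom φ) ≫ sA) hψ)
      have hζ : ζ ≫ ε = str g (AlgSpCov.GeomConn.KT k k') ≫ π₀ := Over.OverMorphism.ext (by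
        change Spec.map _ ≫ Spec.map _ = Spec.map _ ≫ Spec.map _
        rw [← Spec.map_comp, ← Spec.map_comp]
        exact congrArg (fun φ => Spec.map (CommRingCat.ofHom φ)) hψ)
      have : Algebra.IsAlgebraic k k' := Algebra.IsAlgebraic.of_finite k k'
      let θ : k' →ₐ[k] yb.K := IsAlgClosed.lift
      let c' : yb.pt ⟶ fld g k' := Over.homMk (Spec.map (CommRingCat.ofHom θ.toRingHom)) (by
        change Spec.map _ ≫ Spec.map _ ≫ Spec.map _ ≫ sA = yb.str
        rw [← Spec.map_comp_assoc, ← Spec.map_comp_assoc]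
        refine Eq.trans ?_ ((congrArg (· ≫ sA) hφ).trans (Over.w c))
        refine congrArg (fun φ => Spec.map φ ≫ sA) (CommRingCat.hom_ext (RingHom.ext fun x => ?_))
        exact (θ.commutes _).trans (congr($hj x)))
      have hc' : c' ≫ str g (AlgSpCov.GeomConn.KT k k') ≫ π₀ = c := Over.OverMorphism.ext (by
        change Spec.map _ ≫ Spec.map _ ≫ Spec.map _ = c.left
        rw [← Spec.map_comp, ← Spec.map_comp, ← hφ]
        refine congrArg (fun φ => Spec.map φ) (CommRingCat.hom_ext (RingHom.ext fun x => ?_))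
        exact (θ.commutes _).trans (congr($hj x)))
      let V : Over S := Over.mk (Spec.map (CommRingCat.ofHom (algebraMap A E)) ≫ sA)
      let π : Over.mk (V.left.fromSpecResidueField v ≫ V.hom) ⟶ V := Over.homMk (V.left.fromSpecResidueField v) rfl
      let e' : fld g k' ≅ Over.mk (V.left.fromSpecResidueField v ≫ V.hom) := Over.isoMk e (by
        change e.hom ≫ _ ≫ V.hom = _
        rw [← Category.assoc, show e.hom ≫ V.left.fromSpecResidueField v = ζ.left from he]
        exact Over.w ζ)
      have he' : e'.hom ≫ π = ζ := Over.OverMorphism.ext he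
      have hb : (AlgSp.yon S).map (str g (AlgSpCov.GeomConn.KT k k')) ≫ z =
          (AlgSp.yon S).map e'.hom ≫ (AlgSp.yon S).map π ≫ (AlgSp.yon S).map ε ≫ (AlgSp.yon S).map i ≫ q := by
        simp only [z, ← Functor.map_comp_assoc]
        rw [← Category.assoc (str g (AlgSpCov.GeomConn.KT k k')), ← hζ, ← he']
        simp
      refine H V ((AlgSp.yon S).map ε ≫ (AlgSp.yon S).map i ≫ q)
        ((repWith_isMultiplicative _).comp_mem _ _ ((repWith_yon_map_iff _ _).2 hε) ha) v (c' ≫ ζ) ?_ ?_
        P (p₁ ≫ pullback.fst f.hom z) (p₂ ≫ (AlgSp.yon S).map e'.hom) ?_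
      · rw [← Category.assoc, ← Functor.map_comp, Category.assoc, hζ, hc', hc]
      · change Spec.map (CommRingCat.ofHom ψ) (c'.left (IsLocalRing.closedPoint yb.K)) = v
        rw [← he]
        exact (Scheme.range_fromSpecResidueField v).le ⟨e.hom (c'.left (IsLocalRing.closedPoint yb.K)), rfl⟩
      · exact (hP.paste_horiz (IsPullback.of_hasPullback f.hom z)).of_iso (Iso.refl _) (Iso.refl _)
          ((AlgSp.yon S).mapIso e') (Iso.refl _) (by simp) (by simp) (by simp) (by simpa using hb)
    let r : yb.pt ⟶ Over.mk g := Over.homMk (Spec.map (CommRingCat.ofHom j)) (by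
      change Spec.map _ ≫ Spec.map _ ≫ sA = yb.str
      rw [← Spec.map_comp_assoc, ← CommRingCat.ofHom_comp, hj]
      exact (congrArg (· ≫ sA) hφ).trans (Over.w c))
    let ι : fld g yb.K ≅ yb.pt := Over.isoMk (Iso.refl _) (by
      change 𝟙 _ ≫ yb.str = _
      rw [Category.id_comp]
      exact (Over.w r).symm)
    have hι : ι.hom ≫ r = str g (AlgSpCov.GeomConn.KT k yb.K) := Over.OverMorphism.ext (Category.id_comp _)
    have hrz : (AlgSp.yon S).map r ≫ z = yb.toHom := by
      have hrc : r ≫ π₀ = c := Over.OverMorphism.ext (by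
        change Spec.map _ ≫ Spec.map _ = c.left
        rw [← Spec.map_comp, ← CommRingCat.ofHom_comp, hj, ← hφ]
        rfl)
      rw [← hc, ← hrc]
      simp [z]
    obtain ⟨l, hl₁, hl₂⟩ := (IsPullback.of_hasPullback f.hom z).exists_lift fst (snd ≫ (AlgSp.yon S).map r)
      (by rw [Category.assoc, hrz, h.w])
    have sq : IsPullback l snd (pullback.snd f.hom z) ((AlgSp.yon S).map r) :=
      IsPullback.of_right (by rw [hl₁, hrz]; exact h) hl₂ (IsPullback.of_hasPullback f.hom z)
    exact connectedSpace_of_stages g hG (pullback.snd f.hom z) hS yb.K l (snd ≫ (AlgSp.yon S).map ι.inv)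
      (sq.of_iso (Iso.refl _) (Iso.refl _) ((AlgSp.yon S).mapIso ι.symm) (Iso.refl _) (by simp) (by simp) (by simp)
        (by simp [← Functor.map_comp, ← hι]))

end Groth.Agent.S10681
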