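import Groth.Statements.S10683
import Groth.Agent.S1301
import Groth.Agent.AlgSpEN.GeomRedFibre
import Groth.Agent.AlgSp.QCMor
import Groth.Agent.AlgSpEN.StrataSq

set_option backward.isDefEq.respectTransparency false
set_option backward.isDefEq.respectTransparency.types false
-- import your own Groth.Agent.* helpers here

set_option autoImplicit false
universe u
open CategoryTheory CategoryTheory.Limits AlgebraicGeometry
open AlgSp

namespace Groth.Agent.S10683

/-- For a quasi-compact morphism f : X ⟶ Y between algebraic spaces over S which is locally of finite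
presentation, the set E of points of |Y| at which the fibre of f is geometrically reduced is etale
locally constructible: for every affine scheme V with a representable etale a : h_V ⟶ Y, the inverse
image of E in V is a constructible subset. Here the fibre of f at y being geometrically reduced
means: for every field point k of Y in the class of y and every field homomorphism k ⟶ k', the base
change X_{k'} (pullback in fppf sheaves) is reduced (some etale surjective scheme chart is reduced). -/
theorem result {S : Scheme.{u}} {X Y : AlgSp.Space S} (f : X ⟶ Y)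
    (hf1 : AlgSp.IsQuasiCompactMor f.hom) (hf2 : AlgSp.LocP @LocallyOfFinitePresentation f.hom)
    (V : Over S) (hV : IsAffine V.left) (a : (AlgSp.yon S).obj V ⟶ Y.obj) (ha : AlgSp.RepWith @Etale a) :
    Topology.IsConstructible ((AlgSp.Points.ofPt a) ⁻¹' {y : AlgSp.Points Y.obj | ∀ (k : AlgSp.FieldPt Y.obj), AlgSp.Points.mk k = y →
        ∀ (k' : Type u) [Field k'] (φ : k.K →+* k') (Xk' : AlgSp.Sp S) (a : Xk' ⟶ X.obj)
          (b : Xk' ⟶ (AlgSp.yon S).obj (Over.mk (Spec.map (CommRingCat.ofHom φ) ≫ k.str))),
          IsPullback a b f.hom ((AlgSp.yon S).map (Over.homMk (Spec.map (CommRingCat.ofHom φ)) rfl :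
            Over.mk (Spec.map (CommRingCat.ofHom φ) ≫ k.str) ⟶ k.pt) ≫ k.toHom) →
          AlgSp.EtaleLocally (fun U => IsReduced U) Xk'}) := by
  have : IsAffine V.left := hV
  have hPA := Groth.Agent.AlgSp.isAlgSpace_pullback Y.property X.property (AlgSp.IsAlgSpace.yon_obj V) f.hom a
  let P : AlgSp.Space S := ⟨pullback f.hom a, hPA⟩
  have hPqc : AlgSp.IsQuasiCompactSp P.obj := hf1 (AlgSp.IsAlgSpace.yon_obj V)
    (Groth.Agent.AlgSp.isQuasiCompactSp_yon V) a _ _ (IsPullback.of_hasPullback f.hom a)
  obtain ⟨U, m, hU, hm, hms⟩ := Groth.Agent.AlgSpEN.exists_affine_atlas P hPqc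
  obtain ⟨h, hh⟩ := (AlgSp.yon S).map_surjective (m ≫ pullback.snd f.hom a)
  have hlfp : LocallyOfFinitePresentation h.left := hf2 (m ≫ pullback.fst f.hom a) a h
    ((AlgSp.RepWith @Etale).comp_mem _ _ hm (MorphismProperty.of_isPullback (IsPullback.of_hasPullback f.hom a).flip ha))
    ha (by rw [hh, Category.assoc, Category.assoc, pullback.condition])
  have := hlfp
  have : IsAffine U.left := hU
  have : QuasiCompact h.left := have : IsAffineHom h.left := isAffineHom_of_isAffine _; inferInstance
  have hkey : ∀ w : V.left, Groth.Agent.AlgSpEN.GeomRedFibre.FibGeomRed f (AlgSp.Points.ofPt a w) ↔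
      GeometricallyReduced (h.left.fiberToSpecResidueField w) := by
    intro w
    constructor
    · intro H
      refine ⟨fun K _ y Q fst snd hQ => ?_⟩
      obtain ⟨ψ, rfl⟩ := Spec.map_surjective y
      letI : Algebra (IsLocalRing.ResidueField (V.left.presheaf.stalk w)) K := ψ.hom.toAlgebra
      have := Groth.Agent.AlgSpEN.GeomRedFibre.isReduced_bc_of_fibGeomRed f a m hm h hh w H K
      have : IsReduced (pullback (h.left.fiberToSpecResidueField w) (Spec.map (CommRingCat.ofHom
          (algebraMap (IsLocalRing.ResidueField (V.left.presheaf.stalk w)) K)))) := this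
      exact AlgebraicGeometry.isReduced_of_isOpenImmersion (hQ.isoIsPullback _ _ (IsPullback.of_hasPullback
        (h.left.fiberToSpecResidueField w) (Spec.map (CommRingCat.ofHom
          (algebraMap (IsLocalRing.ResidueField (V.left.presheaf.stalk w)) K))))).hom
    · intro H
      refine Groth.Agent.AlgSpEN.GeomRedFibre.fibGeomRed_of_chart f a ha m hm h hh w
        (fun x _ => (Groth.Agent.AlgSp.repWith_surjective_iff _ hm.1).1 hms x) fun L _ _ => ?_
      have hbc : IsReduced (FBase.bc (h.left.fiberToSpecResidueField w) L) :=
        H.geometrically_isReduced (Spec.map (CommRingCat.ofHom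
          (algebraMap (IsLocalRing.ResidueField (V.left.presheaf.stalk w)) L))) _ _ (IsPullback.of_hasPullback _ _)
      exact AlgebraicGeometry.isReduced_of_isOpenImmersion
        ((Groth.Agent.AlgSpEN.GeomRedFibre.isPullback_bc h.left w L).isoPullback).inv
  have hset : (AlgSp.Points.ofPt a ⁻¹' {y | Groth.Agent.AlgSpEN.GeomRedFibre.FibGeomRed f y}) =
      {w | GeometricallyReduced (h.left.fiberToSpecResidueField w)} := Set.ext hkey
  exact hset ▸ (Groth.Agent.S1301.result h.left).isConstructible

end Groth.Agent.S10683
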