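import Groth.Statements.S10684
import Groth.Agent.SchCover.ConnSemicont
-- import your own Groth.Agent.* helpers here

set_option autoImplicit false
universe u
open CategoryTheory CategoryTheory.Limits AlgebraicGeometry
open AlgSp

set_option backward.isDefEq.respectTransparency false

namespace Groth.Agent.S10684

/-- For a proper flat morphism f : X ⟶ Y between algebraic spaces over S which is of finite
presentation, the function on |Y| counting the connected components of geometric fibres (for y, the
number in ℕ∞ of connected components of the space of points of X_k for an algebraically closed field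
point k in the class of y) is lower semi-continuous: for each d the set of y all of whose geometric
fibres have more than d connected components is open. -/
theorem result {S : Scheme.{u}} {X Y : AlgSp.Space S} (f : X ⟶ Y)
    (hf1 : AlgSp.IsProperMor f.hom) (hf2 : AlgSp.LocP @Flat f.hom) (hf3 : AlgSp.IsFinitePresentationMor f.hom) (d : ℕ∞) :
    IsOpen {y : AlgSp.Points Y.obj | ∀ (k : AlgSp.FieldPt Y.obj), AlgSp.Points.mk k = y → k.IsGeometric →
        ∀ (Xk : AlgSp.Sp S) (a : Xk ⟶ X.obj) (b : Xk ⟶ (AlgSp.yon S).obj k.pt), IsPullback a b f.hom k.toHom →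
          d < ENat.card (_root_.ConnectedComponents (AlgSp.Points Xk))} := by
  classical
  rw [isOpen_iff_forall_mem_open]
  intro y hy
  obtain ⟨ι, T, b, hT, hb, hcov⟩ := Groth.Agent.AlgSp.exists_affine_family Y.property
  obtain ⟨i, u, rfl⟩ := hcov y
  have := hT i
  let R : CommRingCat.{u} := Γ((T i).left, ⊤)
  let h : Spec (CommRingCat.of R) ⟶ S := (T i).left.isoSpec.inv ≫ (T i).hom
  let ε : Over.mk h ≅ T i := Over.isoMk (T i).left.isoSpec.symm rfl
  let a := (AlgSp.yon S).map ε.hom ≫ b i
  have ha : AlgSp.RepWith @Etale a := AlgSpB.repWith_etale_map_comp ε.hom (hb i)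
  let r₀ : PrimeSpectrum R := (T i).left.isoSpec.hom u
  have hr₀ : AlgSp.Points.ofPt a r₀ = AlgSp.Points.ofPt (b i) u := by
    rw [AlgSpB.ofPt_map_comp]
    congr 1
    show (T i).left.isoSpec.inv ((T i).left.isoSpec.hom u) = u
    rw [← Scheme.Hom.comp_apply, Iso.hom_inv_id]
    rfl
  have hn := hy (SchCover.chartPt a r₀) ((SchCover.mk_chartPt a r₀).trans hr₀) (SchCover.isGeometric_chartPt a r₀)
  cases d with
  | top =>
    exact absurd (hn _ _ _ (IsPullback.of_hasPullback f.hom (SchCover.chartPt a r₀).toHom)) not_top_lt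
  | coe n =>
    obtain ⟨O, hO, hyO, hOsub⟩ := SchCover.exists_open_chart f hf1 hf2 hf3 h a ha r₀ n hn
    exact ⟨O, fun y' hy' k hk hkg Xk u' v sq => hOsub y' hy' k hk hkg Xk u' v sq, hO, hr₀ ▸ hyO⟩

end Groth.Agent.S10684
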