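import Groth.Statements.S10686
import Groth.Agent.S2535
import Groth.Agent.AlgSpD.ReducedEtale
import Groth.Agent.AlgSpD.HasAt
import Groth.Agent.AlgSpB.Points
import Groth.Prelude.Def_AlgSpDec
import Groth.Agent.AlgSpCov.Sheaf

set_option autoImplicit false
set_option backward.isDefEq.respectTransparency false
set_option backward.isDefEq.respectTransparency.types false
universe u
open CategoryTheory CategoryTheory.Limits AlgebraicGeometry
open AlgSp Groth.Agent

namespace Groth.Agent.S10686


theorem etaleLocally_isReduced_iff {S : Scheme.{u}} {F : AlgSp.Sp S} {U : Over S} {a : (yon S).obj U ⟶ F}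
    (ha : RepWith @Etale a) (hs : RepWith @Surjective a) :
    EtaleLocally (fun T => IsReduced T) F ↔ IsReduced U.left := by
  refine ⟨fun ⟨V, b, hb, hbs, (hV : IsReduced V.left)⟩ => ?_, fun h => ⟨U, a, ha, hs, h⟩⟩
  have : ∀ u : U.left, _root_.IsReduced (U.left.presheaf.stalk u) := fun u => by
    obtain ⟨v, hv⟩ := AlgSpB.surjective_ofPt hbs (AlgSp.Points.ofPt a u)
    obtain ⟨W, p, q, w, -, hp, hq, hwp, hwq⟩ := AlgSpD.exists_common_chart hb ha hv
    rw [← hwq]
    exact (AlgSpD.isReduced_stalk_iff q.left w).1 ((AlgSpD.isReduced_stalk_iff p.left w).2 inferInstance)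
  exact isReduced_of_isReduced_stalk U.left

theorem etaleLocally_pullback_iff {S : Scheme.{u}} {X Y : AlgSp.Space S} (f : X ⟶ Y) {U T W : Over S}
    (a : (yon S).obj U ⟶ X.obj) (ha : RepWith @Etale a) (has : RepWith @Surjective a)
    (g : (yon S).obj T ⟶ Y.obj) (w₁ : W ⟶ U) (w₂ : W ⟶ T)
    (sqW : IsPullback ((yon S).map w₁) ((yon S).map w₂) (a ≫ f.hom) g)
    {F : AlgSp.Sp S} (x : F ⟶ X.obj) (b : F ⟶ (yon S).obj T) (sq : IsPullback x b f.hom g) :
    EtaleLocally (fun T => IsReduced T) F ↔ IsReduced W.left := by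
  let d := sq.lift ((yon S).map w₁ ≫ a) ((yon S).map w₂) (by rw [Category.assoc, sqW.w])
  have h1 : d ≫ x = (yon S).map w₁ ≫ a := sq.lift_fst _ _ _
  have h2 : d ≫ b = (yon S).map w₂ := sq.lift_snd _ _ _
  have top : IsPullback ((yon S).map w₁) d a x := IsPullback.of_bot (h2.symm ▸ sqW) h1.symm sq
  exact etaleLocally_isReduced_iff (AlgSpCov.repWith_bc top ha) (AlgSpCov.repWith_bc top has)

/-- Geometric reducedness of the scheme chart of a fibre. -/
theorem exists_fibre_chart {S : Scheme.{u}} {X Y : AlgSp.Space S} (f : X ⟶ Y) {U : Over S}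
    (a : (yon S).obj U ⟶ X.obj) (ha : RepWith @Etale a) (has : RepWith @Surjective a) (k : FieldPt Y.obj) :
    ∃ (W : Scheme.{u}) (w : W ⟶ Spec (CommRingCat.of k.K)),
      (∀ (k' : Type u) [Field k'] (φ : k.K →+* k') (Xk' : AlgSp.Sp S) (x' : Xk' ⟶ X.obj)
        (b : Xk' ⟶ (yon S).obj (Over.mk (Spec.map (CommRingCat.ofHom φ) ≫ k.str))),
        IsPullback x' b f.hom ((yon S).map (Over.homMk (Spec.map (CommRingCat.ofHom φ)) rfl :
            Over.mk (Spec.map (CommRingCat.ofHom φ) ≫ k.str) ⟶ k.pt) ≫ k.toHom) →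
          (EtaleLocally (fun T => IsReduced T) Xk' ↔ IsReduced (pullback w (Spec.map (CommRingCat.ofHom φ))))) ∧
      ∀ (Xk : AlgSp.Sp S) (x : Xk ⟶ X.obj) (b : Xk ⟶ (yon S).obj k.pt), IsPullback x b f.hom k.toHom →
        (EtaleLocally (fun T => IsReduced T) Xk ↔ IsReduced W) := by
  obtain ⟨W, w₁, w₂, sqW⟩ := AlgSpB.exists_pullback_yon (Y.property.representable_from_yon (a ≫ f.hom)) k.toHom
  refine ⟨W.left, w₂.left, fun k' _ φ Xk' x' b sq => ?_,
    fun Xk x b sq => etaleLocally_pullback_iff f a ha has _ w₁ w₂ sqW x b sq⟩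
  let c : Over.mk (Spec.map (CommRingCat.ofHom φ) ≫ k.str) ⟶ k.pt :=
    Over.homMk (Spec.map (CommRingCat.ofHom φ)) rfl
  have hpb : IsPullback (pullback.fst w₂ c).left (pullback.snd w₂ c).left w₂.left c.left :=
    (IsPullback.of_hasPullback w₂ c).map (Over.forget S)
  have big := ((IsPullback.of_hasPullback w₂ c).map (yon S)).paste_horiz sqW
  rw [← Functor.map_comp] at big
  refine (etaleLocally_pullback_iff f a ha has _ _ _ big x' b sq).trans ?_
  exact ⟨fun h => have : IsReduced (pullback w₂ c).left := h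
      isReduced_of_isOpenImmersion hpb.isoPullback.inv,
    fun h => have : IsReduced (pullback w₂.left c.left) := h
      isReduced_of_isOpenImmersion hpb.isoPullback.hom⟩

theorem geometricallyReduced_of_extension {S : Scheme.{u}} {X Y : AlgSp.Space S} (f : X ⟶ Y) (k : FieldPt Y.obj)
    (Ω : Type u) [Field Ω] [PerfectField Ω] (φ : k.K →+* Ω) {W : Scheme.{u}} (w : W ⟶ Spec (CommRingCat.of k.K))
    (h : IsReduced (pullback w (Spec.map (CommRingCat.ofHom φ)))) : GeometricallyReduced w := by
  let _ : Algebra k.K Ω := φ.toAlgebra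
  have : IsReduced (FBase.bc w Ω) := h
  exact Groth.Agent.S2535.result (Ω := Ω) w

/-- For a morphism f : X ⟶ Y between algebraic spaces over S and a point y of |Y|, write X_k for the
fibre (pullback in fppf sheaves) over a field point k of Y and call X_k geometrically reduced when
for every field homomorphism k ⟶ k' the base change X_{k'} is reduced (some etale surjective scheme
chart reduced). The following are equivalent: (1) X_k is geometrically reduced for some k in the
class of y; (2) X_k is geometrically reduced for every k in the class of y; (3) X_k is reduced for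
every k in the class of y. -/
theorem result {S : Scheme.{u}} {X Y : AlgSp.Space S} (f : X ⟶ Y) (y : AlgSp.Points Y.obj) :
    [∃ (k : AlgSp.FieldPt Y.obj), AlgSp.Points.mk k = y ∧
        ∀ (k' : Type u) [Field k'] (φ : k.K →+* k') (Xk' : AlgSp.Sp S) (a : Xk' ⟶ X.obj)
          (b : Xk' ⟶ (AlgSp.yon S).obj (Over.mk (Spec.map (CommRingCat.ofHom φ) ≫ k.str))),
          IsPullback a b f.hom ((AlgSp.yon S).map (Over.homMk (Spec.map (CommRingCat.ofHom φ)) rfl :
            Over.mk (Spec.map (CommRingCat.ofHom φ) ≫ k.str) ⟶ k.pt) ≫ k.toHom) →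
          AlgSp.EtaleLocally (fun U => IsReduced U) Xk',
      ∀ (k : AlgSp.FieldPt Y.obj), AlgSp.Points.mk k = y →
        ∀ (k' : Type u) [Field k'] (φ : k.K →+* k') (Xk' : AlgSp.Sp S) (a : Xk' ⟶ X.obj)
          (b : Xk' ⟶ (AlgSp.yon S).obj (Over.mk (Spec.map (CommRingCat.ofHom φ) ≫ k.str))),
          IsPullback a b f.hom ((AlgSp.yon S).map (Over.homMk (Spec.map (CommRingCat.ofHom φ)) rfl :
            Over.mk (Spec.map (CommRingCat.ofHom φ) ≫ k.str) ⟶ k.pt) ≫ k.toHom) →
          AlgSp.EtaleLocally (fun U => IsReduced U) Xk',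
      ∀ (k : AlgSp.FieldPt Y.obj), AlgSp.Points.mk k = y →
        ∀ (Xk : AlgSp.Sp S) (a : Xk ⟶ X.obj) (b : Xk ⟶ (AlgSp.yon S).obj k.pt), IsPullback a b f.hom k.toHom →
          AlgSp.EtaleLocally (fun U => IsReduced U) Xk].TFAE := by
  obtain ⟨U, a, ha, has⟩ := X.property.atlas
  tfae_have 1 → 2 := by
    rintro ⟨k₀, hk₀, h₀⟩ k hk k' _ φ Xk' x' b sq
    obtain ⟨W, w, hW, -⟩ := exists_fibre_chart f a ha has k
    rw [hW k' φ Xk' x' b sq]
    obtain ⟨L, _, str, c, c₀, hcc⟩ := Points.mk_eq_mk_iff.1 (hk.trans hk₀.symm)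
    let Ω := AlgebraicClosure L
    let i : L →+* Ω := algebraMap L Ω
    let φk : k.K →+* Ω := i.comp (Spec.preimage c.left).hom
    let φ₀ : k₀.K →+* Ω := i.comp (Spec.preimage c₀.left).hom
    have eφ : ∀ {K : Type u} [Field K] {strK : Spec (CommRingCat.of K) ⟶ S} (e : Over.mk str ⟶ Over.mk strK),
        Spec.map (CommRingCat.ofHom (i.comp (Spec.preimage e.left).hom)) =
          Spec.map (CommRingCat.ofHom i) ≫ e.left := fun e => by
      rw [CommRingCat.ofHom_comp, Spec.map_comp, CommRingCat.ofHom_hom, Spec.map_preimage]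
    let Ωp : Over S := Over.mk (Spec.map (CommRingCat.ofHom i) ≫ str)
    let j : Ωp ⟶ Over.mk str := Over.homMk (Spec.map (CommRingCat.ofHom i)) rfl
    have hto : (yon S).map c ≫ k.toHom = (yon S).map c₀ ≫ k₀.toHom := by
      apply (J S).uliftYonedaEquiv.injective
      rw [← GrothendieckTopology.uliftYonedaEquiv_naturality, ← GrothendieckTopology.uliftYonedaEquiv_naturality,
        FieldPt.uliftYonedaEquiv_toHom, FieldPt.uliftYonedaEquiv_toHom, hcc]
    let d : ∀ (q : FieldPt Y.obj) (e : Over.mk str ⟶ q.pt),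
        Ωp ⟶ Over.mk (Spec.map (CommRingCat.ofHom (i.comp (Spec.preimage e.left).hom)) ≫ q.str) :=
      fun q e => Over.homMk (𝟙 _) (by
        change 𝟙 _ ≫ Spec.map (CommRingCat.ofHom (i.comp _)) ≫ q.str = _
        rw [Category.id_comp, eφ e, Category.assoc]
        exact congrArg (Spec.map (CommRingCat.ofHom i) ≫ ·) (Over.w e))
    have hd : ∀ (q : FieldPt Y.obj) (e : Over.mk str ⟶ q.pt),
        d q e ≫ (Over.homMk (Spec.map (CommRingCat.ofHom (i.comp (Spec.preimage e.left).hom))) rfl :
          Over.mk (Spec.map (CommRingCat.ofHom (i.comp (Spec.preimage e.left).hom)) ≫ q.str) ⟶ q.pt) = j ≫ e :=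
      fun q e => Over.OverMorphism.ext (by
        change 𝟙 _ ≫ _ = Spec.map (CommRingCat.ofHom i) ≫ e.left
        rw [Category.id_comp, ← eφ e]; rfl)
    have : ∀ q e, IsIso (d q e) := fun q e => by
      have : IsIso ((Over.forget S).map (d q e)) := (inferInstance : IsIso (𝟙 _))
      exact isIso_of_reflects_iso (d q e) (Over.forget S)
    -- the fibre over the closure is shared
    have sqΩ := IsPullback.of_hasPullback f.hom ((yon S).map (j ≫ c₀) ≫ k₀.toHom)
    have hred : EtaleLocally (fun T => IsReduced T) (pullback f.hom ((yon S).map (j ≫ c₀) ≫ k₀.toHom)) := by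
      refine h₀ Ω φ₀ _ (pullback.fst _ _) (pullback.snd _ _ ≫ (yon S).map (d k₀ c₀)) ?_
      refine sqΩ.of_iso (Iso.refl _) (Iso.refl _) (asIso ((yon S).map (d k₀ c₀))) (Iso.refl _)
        (by simp) (by simp) (by simp) ?_
      simp only [Iso.refl_hom, Category.comp_id, asIso_hom]
      rw [← hd, Functor.map_comp, Category.assoc]
    have hg : GeometricallyReduced w := by
      refine geometricallyReduced_of_extension f k Ω φk w ((hW Ω φk _ (pullback.fst _ _)
        (pullback.snd _ _ ≫ (yon S).map (d k c)) ?_).1 hred)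
      refine sqΩ.of_iso (Iso.refl _) (Iso.refl _) (asIso ((yon S).map (d k c))) (Iso.refl _)
        (by simp) (by simp) (by simp) ?_
      simp only [Iso.refl_hom, Category.comp_id, asIso_hom]
      rw [← Category.assoc, ← Functor.map_comp, hd, Functor.map_comp, Functor.map_comp, Category.assoc,
        Category.assoc, hto]
    exact hg.geometrically_isReduced _ _ _ (IsPullback.of_hasPullback _ _)
  tfae_have 2 → 3 := by
    intro h k hk Xk x b sq
    obtain ⟨W, w, hW, hW'⟩ := exists_fibre_chart f a ha has k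
    rw [hW' Xk x b sq]
    let c : Over.mk (Spec.map (CommRingCat.ofHom (RingHom.id k.K)) ≫ k.str) ⟶ k.pt :=
      Over.homMk (Spec.map (CommRingCat.ofHom (RingHom.id k.K))) rfl
    have sqc := IsPullback.of_hasPullback f.hom ((yon S).map c ≫ k.toHom)
    have h1 := (hW k.K (RingHom.id _) _ _ _ sqc).1 (h k hk k.K (RingHom.id _) _ _ _ sqc)
    have : IsIso (pullback.fst w (Spec.map (CommRingCat.ofHom (RingHom.id k.K)))) := by
      rw [CommRingCat.ofHom_id, Spec.map_id]; infer_instance
    exact isReduced_of_isOpenImmersion (inv (pullback.fst w (Spec.map (CommRingCat.ofHom (RingHom.id k.K)))))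
  tfae_have 3 → 1 := by
    intro h
    obtain ⟨k, rfl⟩ := Points.mk_surjective y
    refine ⟨k, rfl, fun k' _ φ Xk' x' b sq => ?_⟩
    obtain ⟨W, w, hW, -⟩ := exists_fibre_chart f a ha has k
    rw [hW k' φ Xk' x' b sq]
    let Ω := AlgebraicClosure k.K
    let i : k.K →+* Ω := algebraMap k.K Ω
    let c : Over.mk (Spec.map (CommRingCat.ofHom i) ≫ k.str) ⟶ k.pt := Over.homMk (Spec.map (CommRingCat.ofHom i)) rfl
    let kΩ : FieldPt Y.obj := ⟨Ω, Spec.map (CommRingCat.ofHom i) ≫ k.str, Y.obj.obj.map c.op k.val⟩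
    have hk : Points.mk kΩ = Points.mk k := Points.sound
      ⟨Ω, inferInstance, _, 𝟙 _, c, by rw [op_id, Functor.map_id_apply]⟩
    have hto : (yon S).map c ≫ k.toHom = kΩ.toHom := by
      apply (J S).uliftYonedaEquiv.injective
      rw [← GrothendieckTopology.uliftYonedaEquiv_naturality, FieldPt.uliftYonedaEquiv_toHom]
      exact (FieldPt.uliftYonedaEquiv_toHom kΩ).symm
    have sqc := IsPullback.of_hasPullback f.hom ((yon S).map c ≫ k.toHom)
    have h1 : EtaleLocally (fun T => IsReduced T) (pullback f.hom ((yon S).map c ≫ k.toHom)) :=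
      h kΩ hk _ (pullback.fst _ _) (pullback.snd _ _) (hto ▸ sqc)
    exact (geometricallyReduced_of_extension f k Ω i w ((hW Ω i _ _ _ sqc).1 h1)).geometrically_isReduced _ _ _
      (IsPullback.of_hasPullback _ _)
  tfae_finish

end Groth.Agent.S10686
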