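import Groth.Statements.S10687
import Groth.Agent.AlgSp.GorSp

set_option autoImplicit false
universe u
open CategoryTheory CategoryTheory.Limits AlgebraicGeometry
open AlgSp

namespace Groth.Agent.S10687

/-- For morphisms f : X ⟶ Y and g : Y ⟶ Z between algebraic spaces over S whose fibres, and those of f ≫
g, are locally Noetherian, and a point x of |X|: (1) if g is Gorenstein at the image of x and f is
Gorenstein at x itself, then so is f ≫ g at x; (2) if f ≫ g is Gorenstein at x and f is flat there,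
then f is Gorenstein at x and g at the image of x. Here f is Gorenstein at x when in every etale
chart diagram through x the top arrow is Gorenstein at the point over x (flat there, with Gorenstein
local ring of its fibre), and the fibres of a morphism are locally Noetherian when every fibre over
a field point (pullback in fppf sheaves) is a locally Noetherian algebraic space. -/
theorem result {S : Scheme.{u}} {X Y Z : AlgSp.Space S} (f : X ⟶ Y) (g : Y ⟶ Z)
    (hf : ∀ (k : AlgSp.FieldPt Y.obj) (Xk : AlgSp.Sp S) (a : Xk ⟶ X.obj) (b : Xk ⟶ (AlgSp.yon S).obj k.pt),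
        IsPullback a b f.hom k.toHom → AlgSp.IsLocNoethSp Xk)
    (hg : ∀ (k : AlgSp.FieldPt Z.obj) (Xk : AlgSp.Sp S) (a : Xk ⟶ Y.obj) (b : Xk ⟶ (AlgSp.yon S).obj k.pt),
        IsPullback a b g.hom k.toHom → AlgSp.IsLocNoethSp Xk)
    (hfg : ∀ (k : AlgSp.FieldPt Z.obj) (Xk : AlgSp.Sp S) (a : Xk ⟶ X.obj) (b : Xk ⟶ (AlgSp.yon S).obj k.pt),
        IsPullback a b (f ≫ g).hom k.toHom → AlgSp.IsLocNoethSp Xk)
    (x : AlgSp.Points X.obj) :
    (AlgSp.LocPAt (fun h u => Dual3.IsGorensteinAt h u) f.hom x → AlgSp.LocPAt (fun h u => Dual3.IsGorensteinAt h u) g.hom (AlgSp.Points.map f.hom x) →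
        AlgSp.LocPAt (fun h u => Dual3.IsGorensteinAt h u) (f ≫ g).hom x) ∧
      (AlgSp.LocPAt (fun h u => Dual3.IsGorensteinAt h u) (f ≫ g).hom x → AlgSp.IsFlatAtMor f.hom x →
        AlgSp.LocPAt (fun h u => Dual3.IsGorensteinAt h u) f.hom x ∧ AlgSp.LocPAt (fun h u => Dual3.IsGorensteinAt h u) g.hom (AlgSp.Points.map f.hom x)) := by
  open Groth.Agent.AlgSp in
  constructor
  · intro H1 H2 U W a c h u ha hc w hu
    -- a chart of the middle space between the two
    obtain ⟨V, b, k, v, hb, wk, hv, hkv⟩ := GorSp.exists_chart Y.property Z.property g.hom c hc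
      (Points.map f.hom x) (h.left u) (by
        rw [← hu, ← Points.map_comp, Points.map_ofPt, ← AlgSpB.ofPt_map_comp, ← w]; rfl)
    obtain ⟨U', a', h', u', ha', wh', hu', hhu'⟩ := GorSp.exists_chart X.property Y.property f.hom b hb x v hv
    have w' : a' ≫ (f ≫ g).hom = (yon S).map (h' ≫ k) ≫ c := by
      change a' ≫ f.hom ≫ g.hom = _
      rw [Functor.map_comp, Category.assoc, ← Category.assoc, wh', Category.assoc, wk]
    rw [GorSp.agree X.property Z.property hfg ha hc ha' hc w w' u u' (hu.trans hu'.symm)]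
    rw [Over.comp_left]
    have hf' := H1 a' b h' u' ha' hb wh' hu'
    have hg' : Dual3.IsGorensteinAt k.left (h'.left u') := hhu' ▸ H2 b c k v hb hc wk hv
    exact (GorCore.isGorensteinAt_comp_iff h'.left k.left u' hf'.1
      (GorSp.isNoetherian_fibre Z.property.diag hg hb hc wk _)
      (GorSp.isNoetherian_fibre Z.property.diag hfg ha' hc w' u')).2 ⟨hg', hf'⟩
  · intro H hflat
    obtain ⟨W₀, c₀, hc₀, hc₀s⟩ := Z.property.atlas
    obtain ⟨w₀, hw₀⟩ := AlgSpB.surjective_ofPt hc₀s (Points.map g.hom (Points.map f.hom x))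
    obtain ⟨V, b, k, v, hb, wk, hv, hkv⟩ := GorSp.exists_chart Y.property Z.property g.hom c₀ hc₀
      (Points.map f.hom x) w₀ hw₀
    obtain ⟨U', a', h', u', ha', wh', hu', hhu'⟩ := GorSp.exists_chart X.property Y.property f.hom b hb x v hv
    have w' : a' ≫ (f ≫ g).hom = (yon S).map (h' ≫ k) ≫ c₀ := by
      change a' ≫ f.hom ≫ g.hom = _
      rw [Functor.map_comp, Category.assoc, ← Category.assoc, wh', Category.assoc, wk]
    obtain ⟨hg', hf'⟩ := (GorCore.isGorensteinAt_comp_iff h'.left k.left u' (hflat a' b h' u' ha' hb wh' hu')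
      (GorSp.isNoetherian_fibre Z.property.diag hg hb hc₀ wk _)
      (GorSp.isNoetherian_fibre Z.property.diag hfg ha' hc₀ w' u')).1 (H a' c₀ (h' ≫ k) u' ha' hc₀ w' hu')
    refine ⟨?_, ?_⟩
    · rw [← hu']
      exact (GorSp.locPAt_iff X.property Y.property hf ha' hb wh' u').2 hf'
    · rw [← hv]
      exact (GorSp.locPAt_iff Y.property Z.property hg hb hc₀ wk v).2 (hhu' ▸ hg')

end Groth.Agent.S10687
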