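import Groth.Statements.S10688
import Groth.Agent.AlgSp.GorBC

set_option autoImplicit false
set_option backward.isDefEq.respectTransparency.types false
universe u
open CategoryTheory CategoryTheory.Limits AlgebraicGeometry
open AlgSp

namespace Groth.Agent.S10688

/-- For a morphism f : X ⟶ Y between algebraic spaces over S with locally Noetherian fibres, g : Y' ⟶ Y
locally of finite type, f' : X' ⟶ Y' the base change (a pullback square of algebraic spaces) with
projection g' : X' ⟶ X, and x' a point of |X'| with image x: (1) if f is Gorenstein at x then so is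
f' at x'; (2) when f is flat at x, Gorensteinness of f' at x' implies that of f at x; (3) the same
conclusion holds if instead g is flat at the image of x' and f' is Gorenstein at x'. Here f is
Gorenstein at x when in every etale chart diagram through x the top arrow is Gorenstein at the point
over x (flat there, with Gorenstein local ring of its fibre), and the fibres of a morphism are
locally Noetherian when every fibre over a field point (pullback in fppf sheaves) is a locally
Noetherian algebraic space. -/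
theorem result {S : Scheme.{u}} {X Y X' Y' : AlgSp.Space S} (f : X ⟶ Y) (g : Y' ⟶ Y) (g' : X' ⟶ X) (f' : X' ⟶ Y')
    (hsq : IsPullback g'.hom f'.hom f.hom g.hom)
    (hf : ∀ (k : AlgSp.FieldPt Y.obj) (Xk : AlgSp.Sp S) (a : Xk ⟶ X.obj) (b : Xk ⟶ (AlgSp.yon S).obj k.pt),
        IsPullback a b f.hom k.toHom → AlgSp.IsLocNoethSp Xk)
    (hg : AlgSp.LocP @LocallyOfFiniteType g.hom) (x' : AlgSp.Points X'.obj) :
    (AlgSp.LocPAt (fun h u => Dual3.IsGorensteinAt h u) f.hom (AlgSp.Points.map g'.hom x') → AlgSp.LocPAt (fun h u => Dual3.IsGorensteinAt h u) f'.hom x') ∧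
      (AlgSp.IsFlatAtMor f.hom (AlgSp.Points.map g'.hom x') → AlgSp.LocPAt (fun h u => Dual3.IsGorensteinAt h u) f'.hom x' →
        AlgSp.LocPAt (fun h u => Dual3.IsGorensteinAt h u) f.hom (AlgSp.Points.map g'.hom x')) ∧
      (AlgSp.IsFlatAtMor g.hom (AlgSp.Points.map f'.hom x') → AlgSp.LocPAt (fun h u => Dual3.IsGorensteinAt h u) f'.hom x' →
        AlgSp.LocPAt (fun h u => Dual3.IsGorensteinAt h u) f.hom (AlgSp.Points.map g'.hom x')) := by
  open Groth.Agent.AlgSp in
  have hf' : GorSp.NoethFibres f'.hom := by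
    intro k Xk a b sq
    refine hf (k.map g.hom) Xk (a ≫ g'.hom) b ?_
    rw [FieldPt.toHom_map]
    exact sq.paste_horiz hsq
  open Groth.Agent.AlgSp in
  obtain ⟨V, b, hb, hbs⟩ := Y.property.atlas
  open Groth.Agent.AlgSp in
  obtain ⟨V', c, hc, hcs⟩ := (Groth.Agent.AlgSp.isAlgSpace_pullback Y.property Y'.property (IsAlgSpace.yon_obj V) g.hom b).atlas
  obtain ⟨gV, hgV⟩ := (yon S).map_surjective (c ≫ pullback.snd g.hom b)
  have hc' : RepWith @Etale (c ≫ pullback.fst g.hom b) :=
    MorphismProperty.comp_mem _ _ _ hc (MorphismProperty.pullback_fst _ _ hb)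
  have hc's : RepWith @Surjective (c ≫ pullback.fst g.hom b) :=
    MorphismProperty.comp_mem _ _ _ hcs (MorphismProperty.pullback_fst _ _ hbs)
  have wk : (c ≫ pullback.fst g.hom b) ≫ g.hom = (yon S).map gV ≫ b := by
    rw [Category.assoc, pullback.condition, hgV, Category.assoc]
  obtain ⟨U, U', a, h, a', h', v, ha, wh, ha', ha's, wh', wv, sqU⟩ :=
    Groth.Agent.AlgSpCov.FlatLocus.exists_chart_baseChange X.property hsq hb hc' hc's wk Y.property
  obtain ⟨u', hu'⟩ := Groth.Agent.AlgSpB.surjective_ofPt ha's x'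
  have hu : Points.map g'.hom x' = Points.ofPt a (v.left u') := by
    rw [← hu', Points.map_ofPt, wv, Groth.Agent.AlgSpB.ofPt_map_comp]
  have hy : Points.map f'.hom x' = Points.ofPt (c ≫ pullback.fst g.hom b) (h'.left u') := by
    rw [← hu', Points.map_ofPt, wh', Groth.Agent.AlgSpB.ofPt_map_comp]
  have : LocallyOfFiniteType gV.left := hg _ b gV hc' hb wk
  have sqS := sqU.map (Over.forget S)
  obtain ⟨h1, h2, h3⟩ := Groth.Agent.AlgSp.GorBC.gorenstein_bc (f := h.left) (g := gV.left) (f' := h'.left)
    (g' := v.left) sqS u' (Groth.Agent.AlgSp.GorSp.isNoetherian_fibre Y.property.diag hf ha hb wh _)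
    (Groth.Agent.AlgSp.GorSp.isNoetherian_fibre Y'.property.diag hf' ha' hc' wh' u')
  rw [hu, Groth.Agent.AlgSp.GorSp.locPAt_iff X.property Y.property hf ha hb wh, ← hu',
    Groth.Agent.AlgSp.GorSp.locPAt_iff X'.property Y'.property hf' ha' hc' wh', hu']
  exact ⟨h1, fun hfl => h2 (hfl a b h (v.left u') ha hb wh rfl),
    fun hgl => h3 (hgl _ b gV (h'.left u') hc' hb wk hy.symm)⟩

end Groth.Agent.S10688
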