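import Groth.Statements.S10689
import Groth.Agent.CohOps.GorOpen
import Groth.Agent.AlgSp.GorSp
import Groth.Agent.AlgSp.NoethFib
import Groth.Agent.AlgSpCov.FlatLocus
-- import your own Groth.Agent.* helpers here

set_option backward.isDefEq.respectTransparency.types false
set_option autoImplicit false
universe u
open CategoryTheory CategoryTheory.Limits AlgebraicGeometry
open AlgSp

namespace Groth.Agent.S10689

/-- For a flat morphism f : X ⟶ Y between algebraic spaces over S which is locally of finite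
presentation, the set W of points of |X| at which f is Gorenstein (in every etale chart diagram
through the point the top arrow is flat there with Gorenstein local ring of its fibre) is open in
|X|, and for any morphism of algebraic spaces g : Y' ⟶ Y with base change f' : X' ⟶ Y' and
projection g' : X' ⟶ X the corresponding set for f' is the inverse image of W under |g'|. -/
theorem result {S : Scheme.{u}} {X Y : AlgSp.Space S} (f : X ⟶ Y)
    (hf1 : AlgSp.LocP @Flat f.hom) (hf2 : AlgSp.LocP @LocallyOfFinitePresentation f.hom) :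
    IsOpen {x : AlgSp.Points X.obj | AlgSp.LocPAt (fun h u => Dual3.IsGorensteinAt h u) f.hom x} ∧
      ∀ (X' Y' : AlgSp.Space S) (g : Y' ⟶ Y) (g' : X' ⟶ X) (f' : X' ⟶ Y'), IsPullback g'.hom f'.hom f.hom g.hom →
        {x' : AlgSp.Points X'.obj | AlgSp.LocPAt (fun h u => Dual3.IsGorensteinAt h u) f'.hom x'} =
          AlgSp.Points.map g'.hom ⁻¹' {x : AlgSp.Points X.obj | AlgSp.LocPAt (fun h u => Dual3.IsGorensteinAt h u) f.hom x} := by
  have lft : ∀ {X Y : AlgSp.Space S} (f : X ⟶ Y), AlgSp.LocP @LocallyOfFinitePresentation f.hom →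
      AlgSp.LocP @LocallyOfFiniteType f.hom := by
    intro X Y f hf U V a b g ha hb w
    have : LocallyOfFinitePresentation g.left := hf a b g ha hb w
    infer_instance
  have noeth : ∀ {X Y : AlgSp.Space S} (f : X ⟶ Y), AlgSp.LocP @LocallyOfFinitePresentation f.hom →
      Groth.Agent.AlgSp.GorSp.NoethFibres f.hom := fun {X Y} f hf k Xk a b sq =>
    Groth.Agent.AlgSp.isLocNoethSp_fibre_of_lft X.property Y.property f.hom (lft f hf) k sq
  have hN := noeth f hf2
  obtain ⟨V, b, hb, hbs⟩ := Y.property.atlas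
  obtain ⟨U, a, h, ha, has, w⟩ := Groth.Agent.AlgSp.exists_chart_lift X.property Y.property f.hom b hb hbs
  have : Flat h.left := hf1 a b h ha hb w
  have : LocallyOfFinitePresentation h.left := hf2 a b h ha hb w
  have key := fun u : ↥U.left => Groth.Agent.AlgSp.GorSp.locPAt_iff X.property Y.property hN ha hb w u
  refine ⟨?_, fun X' Y' g g' f' hsq => ?_⟩
  · have e : {x : AlgSp.Points X.obj | AlgSp.LocPAt (fun h u => Dual3.IsGorensteinAt h u) f.hom x} =
        AlgSp.Points.ofPt a '' {u : ↥U.left | Dual3.IsGorensteinAt h.left u} := by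
      ext x
      obtain ⟨u, rfl⟩ := Groth.Agent.AlgSpB.surjective_ofPt has x
      refine ⟨fun hx => ⟨u, (key u).1 hx, rfl⟩, ?_⟩
      rintro ⟨v, hv, e⟩
      rw [Set.mem_ofPred_eq, ← e]
      exact (key v).2 hv
    rw [e]
    exact Groth.Agent.AlgSpB.isOpenMap_ofPt ha _ (Groth.Agent.CohOps.GorOpen.isOpen h.left)
  · have hf2' : AlgSp.LocP @LocallyOfFinitePresentation f'.hom :=
      Groth.Agent.AlgSpCov.locP_baseChange Groth.Agent.AlgSpCov.etaleLocal_locallyOfFinitePresentation
        X.property Y.property hsq hf2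
    obtain ⟨V', c, k, hc', hc's, wk⟩ := Groth.Agent.AlgSp.exists_chart_lift Y'.property Y.property g.hom b hb hbs
    obtain ⟨U₁, U', a₁, h₁, a', h', v, ha₁, w₁, ha', ha's, w', wv, sqU⟩ :=
      Groth.Agent.AlgSpCov.FlatLocus.exists_chart_baseChange X.property hsq hb hc' hc's wk Y.property
    have : Flat h₁.left := hf1 a₁ b h₁ ha₁ hb w₁
    have : LocallyOfFinitePresentation h₁.left := hf2 a₁ b h₁ ha₁ hb w₁
    ext x'
    obtain ⟨u', rfl⟩ := Groth.Agent.AlgSpB.surjective_ofPt ha's x'
    have hpt : AlgSp.Points.map g'.hom (AlgSp.Points.ofPt a' u') = AlgSp.Points.ofPt a₁ (v.left u') := by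
      rw [AlgSp.Points.map_ofPt, wv, Groth.Agent.AlgSpB.ofPt_map_comp]
    rw [Set.mem_preimage, Set.mem_ofPred_eq, Set.mem_ofPred_eq, hpt,
      Groth.Agent.AlgSp.GorSp.locPAt_iff X'.property Y'.property (noeth f' hf2') ha' hc' w',
      Groth.Agent.AlgSp.GorSp.locPAt_iff X.property Y.property hN ha₁ hb w₁]
    exact Groth.Agent.S3626.result _ _ _ _ h₁.left k.left h'.left v.left (sqU.map (Over.forget S)) u' 

end Groth.Agent.S10689
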