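import Groth.Statements.S10693
import Groth.Agent.AlgSp.GorNoeth
import Groth.Agent.Hens.BranchSum

set_option autoImplicit false
universe u
open CategoryTheory CategoryTheory.Limits AlgebraicGeometry
open AlgSp

namespace Groth.Agent.S10693

/-- (pointwise part) for a morphism f : X ⟶ Y between algebraic spaces over S with locally Noetherian
fibres and a point x of |X|, take an etale chart diagram through x: schemes U, V over S with
representable etale a : h_U ⟶ X, b : h_V ⟶ Y, a morphism h : U ⟶ V over S with a ≫ f = h_h ≫ b, and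
a point u of U over x; let R be a strict henselization of the local ring of U at u, R' one of the
local ring of V at h u, and φ : R' ⟶ R a local homomorphism compatible with the map of local rings
induced by h (these present the etale local rings of Y and X at compatible geometric points). Then f
is Gorenstein at x if and only if φ is flat and R / m_{R'} R is a Gorenstein local ring. Here f is
Gorenstein at x when in every etale chart diagram through x the top arrow is Gorenstein at the point
over x (flat there, with Gorenstein local ring of its fibre), and the fibres of a morphism are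
locally Noetherian when every fibre over a field point (pullback in fppf sheaves) is a locally
Noetherian algebraic space. -/
theorem result {S : Scheme.{u}} {X Y : AlgSp.Space S} (f : X ⟶ Y)
    (hf : ∀ (k : AlgSp.FieldPt Y.obj) (Xk : AlgSp.Sp S) (a : Xk ⟶ X.obj) (b : Xk ⟶ (AlgSp.yon S).obj k.pt),
        IsPullback a b f.hom k.toHom → AlgSp.IsLocNoethSp Xk)
    (x : AlgSp.Points X.obj) {U V : Over S} (a : (AlgSp.yon S).obj U ⟶ X.obj) (b : (AlgSp.yon S).obj V ⟶ Y.obj)
    (h : U ⟶ V) (ha : AlgSp.RepWith @Etale a) (hb : AlgSp.RepWith @Etale b) (hc : a ≫ f.hom = (AlgSp.yon S).map h ≫ b)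
    (u : ↥U.left) (hu : AlgSp.Points.ofPt a u = x)
    (R : Type u) [CommRing R] [IsLocalRing R] [Algebra ↥(U.left.presheaf.stalk u) R]
    [IsLocalHom (algebraMap ↥(U.left.presheaf.stalk u) R)] [Hensel.IsStrictHenselization ↥(U.left.presheaf.stalk u) R]
    (R' : Type u) [CommRing R'] [IsLocalRing R'] [Algebra ↥(V.left.presheaf.stalk (h.left u)) R']
    [IsLocalHom (algebraMap ↥(V.left.presheaf.stalk (h.left u)) R')]
    [Hensel.IsStrictHenselization ↥(V.left.presheaf.stalk (h.left u)) R']
    (φ : R' →+* R) [IsLocalHom φ]
    (hφ : φ.comp (algebraMap ↥(V.left.presheaf.stalk (h.left u)) R') =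
      (algebraMap ↥(U.left.presheaf.stalk u) R).comp (h.left.stalkMap u).hom) :
    AlgSp.LocPAt (fun h u => Dual3.IsGorensteinAt h u) f.hom x ↔
      φ.Flat ∧ LocCoh.IsGorensteinLocalRing (R ⧸ (IsLocalRing.maximalIdeal R').map φ) := by
  subst hu
  open Groth.Agent.AlgSp Groth.Agent.Hens in
  rw [GorSp.locPAt_iff X.property Y.property hf ha hb hc u, GorCore.isGorensteinAt_iff]
  open Groth.Agent.AlgSp Groth.Agent.Hens in
  have hfl : (algebraMap (U.left.presheaf.stalk u) R).Flat := by
    have := faithfullyFlat_of_isStrictHenselization (R := U.left.presheaf.stalk u) R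
    exact RingHom.flat_algebraMap_iff.2 inferInstance
  have hm := Groth.Agent.Hens.map_maximalIdeal_of_isStrictHenselization (R := U.left.presheaf.stalk u) R
  have hm' := Groth.Agent.Hens.map_maximalIdeal_of_isStrictHenselization
    (R := V.left.presheaf.stalk (h.left u)) R'
  have hI : (IsLocalRing.maximalIdeal R').map φ =
      (Groth.Agent.AlgSp.GorCore.fibIdeal h.left u).map (algebraMap (U.left.presheaf.stalk u) R) := by
    rw [← hm', Ideal.map_map, hφ, Ideal.map_map]
  have hN := Groth.Agent.AlgSp.GorSp.isNoetherian_fibre Y.property.diag hf ha hb hc u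
  have hI' := Groth.Agent.AlgSp.GorCore.fibIdeal_le h.left u
  have hN' : IsNoetherianRing (R ⧸ (Groth.Agent.AlgSp.GorCore.fibIdeal h.left u).map
      (algebraMap (U.left.presheaf.stalk u) R)) := by
    have : Nontrivial (U.left.presheaf.stalk u ⧸ Groth.Agent.AlgSp.GorCore.fibIdeal h.left u) :=
      Ideal.Quotient.nontrivial_iff.2 fun e =>
        (IsLocalRing.maximalIdeal.isMaximal _).ne_top (top_le_iff.1 (e.symm.le.trans hI'))
    have : Nontrivial (R ⧸ (Groth.Agent.AlgSp.GorCore.fibIdeal h.left u).map
        (algebraMap (U.left.presheaf.stalk u) R)) :=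
      Ideal.Quotient.nontrivial_iff.2 fun e => (IsLocalRing.maximalIdeal.isMaximal _).ne_top
        (top_le_iff.1 (e.symm.le.trans ((Ideal.map_mono hI').trans hm.le)))
    have : IsLocalRing (U.left.presheaf.stalk u ⧸ Groth.Agent.AlgSp.GorCore.fibIdeal h.left u) :=
      IsLocalRing.of_surjective' _ Ideal.Quotient.mk_surjective
    have : IsLocalRing (R ⧸ (Groth.Agent.AlgSp.GorCore.fibIdeal h.left u).map
        (algebraMap (U.left.presheaf.stalk u) R)) :=
      IsLocalRing.of_surjective' _ Ideal.Quotient.mk_surjective
    have : IsLocalHom (algebraMap (U.left.presheaf.stalk u ⧸ Groth.Agent.AlgSp.GorCore.fibIdeal h.left u)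
        (R ⧸ (Groth.Agent.AlgSp.GorCore.fibIdeal h.left u).map (algebraMap (U.left.presheaf.stalk u) R))) := ⟨fun z => by
      obtain ⟨c, rfl⟩ := Ideal.Quotient.mk_surjective z
      intro hz
      change IsUnit (Ideal.Quotient.mk _ (algebraMap (U.left.presheaf.stalk u) R c)) at hz
      have := IsLocalHom.of_surjective
        (Ideal.Quotient.mk ((Groth.Agent.AlgSp.GorCore.fibIdeal h.left u).map (algebraMap (U.left.presheaf.stalk u) R)))
        Ideal.Quotient.mk_surjective
      exact (isUnit_of_map_unit (algebraMap (U.left.presheaf.stalk u) R) c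
        (isUnit_of_map_unit (Ideal.Quotient.mk _) _ hz)).map _⟩
    have := Groth.Agent.Hens.isStrictHenselization_quotient (A := U.left.presheaf.stalk u) (S := R)
      (Groth.Agent.AlgSp.GorCore.fibIdeal h.left u)
    exact (Groth.Agent.S0540.result _ _).1 hN
  refine and_congr ⟨fun hs => ?_, fun hp => ?_⟩ ?_
  · have := Groth.Agent.AlgSp.GorCore.weaklyEtale_of_isStrictHenselization (V.left.presheaf.stalk (h.left u)) R'
    exact Groth.Agent.AlgSp.GorCore.flat_of_weaklyEtale_comp φ (by rw [hφ]; exact hs.comp hfl)
  · refine Groth.Agent.AlgSp.GorCore.flat_of_comp_flat _ _ hfl ?_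
    rw [← hφ]
    have := Groth.Agent.Hens.faithfullyFlat_of_isStrictHenselization (R := V.left.presheaf.stalk (h.left u)) R'
    exact (RingHom.flat_algebraMap_iff.2 inferInstance).comp hp
  · rw [hI]
    exact Groth.Agent.AlgSp.GorCore.gorenstein_quotient_iff _ hfl hm _ hI' hN hN'

end Groth.Agent.S10693
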