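import Groth.Statements.S10705
import Groth.Agent.AlgSpEN.FormalGlueCover
import Groth.Agent.AlgSpCov.FpqcDiag

set_option backward.isDefEq.respectTransparency false
set_option backward.isDefEq.respectTransparency.types false
-- import your own Groth.Agent.* helpers here

set_option autoImplicit false
universe u
open CategoryTheory CategoryTheory.Limits AlgebraicGeometry
open AlgSp

namespace Groth.Agent.S10705

/-- Let `f : Y → X` be a quasi-compact quasi-separated morphism of algebraic spaces over `S`, `i : Z →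
X` a closed immersion of finite presentation such that `f⁻¹Z → Z` is an isomorphism and `f` is flat
at every point of `|f⁻¹Z|`, and let `U ⊂ X` be the open subspace complementary to `Z`. Let `a : X₁ →
X₂` be a morphism of algebraic spaces over `X`. If the base change of `a` to `U` and the base change
of `a` to `Y` are isomorphisms, then `a` is an isomorphism: the formal glueing functor reflects
isomorphisms. -/
theorem result {S : Scheme.{u}} {X Y Z FZ U : AlgSp.Space S} (f : Y ⟶ X)
    (hqc : AlgSp.IsQuasiCompactMor f.hom) (hqs : AlgSp.IsQuasiSeparatedMor f.hom) (i : Z ⟶ X)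
    (hi : AlgSp.RepWith @IsClosedImmersion i.hom) (hifp : AlgSp.LocP @LocallyOfFinitePresentation i.hom)
    (iY : FZ ⟶ Y) (fZ : FZ ⟶ Z) (hFZ : IsPullback iY.hom fZ.hom f.hom i.hom) [IsIso fZ]
    (hflat : ∀ y ∈ Set.range (AlgSp.Points.map iY.hom), AlgSp.IsFlatAtMor f.hom y) (j : U ⟶ X)
    (hj : AlgSp.RepWith @IsOpenImmersion j.hom)
    (hU : Set.range (AlgSp.Points.map j.hom) = (Set.range (AlgSp.Points.map i.hom))ᶜ)
    {X₁ X₂ QU QU₁ QY QY₁ : AlgSp.Space S} (p₂ : X₂ ⟶ X) (a : X₁ ⟶ X₂)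
    (qU : QU ⟶ X₂) (rU : QU ⟶ U) (hQU : IsPullback qU.hom rU.hom p₂.hom j.hom) (aU : QU₁ ⟶ QU)
    (bU : QU₁ ⟶ X₁) (hQU₁ : IsPullback bU.hom aU.hom a.hom qU.hom) [IsIso aU] (qY : QY ⟶ X₂) (rY : QY ⟶ Y)
    (hQY : IsPullback qY.hom rY.hom p₂.hom f.hom) (aY : QY₁ ⟶ QY) (bY : QY₁ ⟶ X₁)
    (hQY₁ : IsPullback bY.hom aY.hom a.hom qY.hom) [IsIso aY] : IsIso a := by
  obtain ⟨κ, W, g, hcov, hlift⟩ :=
    Groth.Agent.AlgSpEN.exists_formalGlue_cover f hqc i hi hifp iY fZ hFZ hflat j hj hU
  have hW : ∀ k, AlgSp.IsAlgSpace ((AlgSp.yon S).obj (W k)) := fun k => AlgSp.IsAlgSpace.yon_obj _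
  have hsq := fun k => IsPullback.of_hasPullback p₂.hom (g k)
  have hcov' := Groth.Agent.AlgSpCov.isFpqcCover_baseChange X.property hW (fun k => hsq k) hcov
  have hP : ∀ k, AlgSp.IsAlgSpace (pullback p₂.hom (g k)) := fun k =>
    Groth.Agent.AlgSp.isAlgSpace_pullback X.property X₂.property (hW k) _ _
  have hP' : ∀ k, AlgSp.IsAlgSpace (pullback a.hom (pullback.fst p₂.hom (g k))) := fun k =>
    Groth.Agent.AlgSp.isAlgSpace_pullback X₂.property X₁.property (hP k) _ _
  have : IsIso a.hom := by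
    refine Groth.Agent.AlgSpCov.isIso_of_fpqc X₂.property hP hcov' X₁.property hP'
      (fun k => IsPullback.of_hasPullback _ _) fun k => ?_
    -- a base change of an isomorphism
    have key : ∀ {Q Q₁ C : AlgSp.Space S} (m : C ⟶ X) (q : Q ⟶ X₂) (r : Q ⟶ C) (b : Q₁ ⟶ X₁) (a' : Q₁ ⟶ Q),
        IsPullback q.hom r.hom p₂.hom m.hom → IsPullback b.hom a'.hom a.hom q.hom → IsIso a' →
        (∃ l, l ≫ m.hom = g k) → IsIso (pullback.snd a.hom (pullback.fst p₂.hom (g k))) := by
      intro Q Q₁ C m q r b a' hQ hQ₁ _ ⟨l, hl⟩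
      obtain ⟨t, ht, -⟩ := hQ.exists_lift (pullback.fst p₂.hom (g k)) (pullback.snd p₂.hom (g k) ≫ l) (by
        rw [pullback.condition, Category.assoc, hl])
      have : IsIso a'.hom := (ObjectProperty.isIso_hom_iff a').2 inferInstance
      have big : IsPullback (pullback.fst t a'.hom) (pullback.snd t a'.hom) t a'.hom := IsPullback.of_hasPullback _ _
      have h2 := big.flip.paste_horiz hQ₁
      rw [ht] at h2
      rw [← (IsPullback.of_hasPullback a.hom (pullback.fst p₂.hom (g k))).isoIsPullback_hom_snd _ _ h2]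
      infer_instance
    rcases hlift k with hl | ⟨l, hl, -⟩
    · exact key j qU rU bU aU hQU hQU₁ inferInstance hl
    · exact key f qY rY bY aY hQY hQY₁ inferInstance ⟨l, hl⟩
  exact (ObjectProperty.isIso_hom_iff a).1 this

end Groth.Agent.S10705
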