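import Groth.Statements.S10707
import Groth.Agent.AlgSpEN.GlueSep
import Groth.Agent.AlgSp.Space
import Groth.Agent.AlgSp.Basic
import Groth.Agent.AlgSp.InfGlue
import Groth.Agent.AlgSpB.Open

set_option autoImplicit false
set_option backward.isDefEq.respectTransparency false
set_option backward.isDefEq.respectTransparency.types false
universe u
open CategoryTheory CategoryTheory.Limits AlgebraicGeometry TensorProduct
open AlgSp Groth.Agent

namespace Groth.Agent.S10707


open scoped TensorProduct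

/-- Spec of an algebra, over the base. -/
noncomputable abbrev specOver (R : Type u) [CommRing R] (B : Type u) [CommRing B] [Algebra R B] :
    Over (Spec (CommRingCat.of R)) :=
  Over.mk (Spec.map (CommRingCat.ofHom (algebraMap R B)))

theorem isIso_snd_of_lift {R A : Type u} [CommRing R] [CommRing A] [Algebra R A]
    {W : Over (Spec (CommRingCat.of R))} (l : W ⟶ specOver R A) [Mono l.left]
    (B : Type u) [CommRing B] [Algebra R B] (φ : A →+* B) (hc : φ.comp (algebraMap R A) = algebraMap R B)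
    (h : ∀ σ : specOver R B ⟶ specOver R A, σ.left = Spec.map (CommRingCat.ofHom φ) → ∃ k, k ≫ l = σ) :
    IsIso (pullback.snd (l.left : W.left ⟶ Spec (CommRingCat.of A)) (Spec.map (CommRingCat.ofHom φ))) := by
  obtain ⟨k, hk⟩ := h (Over.homMk (Spec.map (CommRingCat.ofHom φ)) (by
    change _ ≫ Spec.map _ = Spec.map _
    rw [← Spec.map_comp]
    exact congrArg Spec.map (CommRingCat.hom_ext hc))) rfl
  have hk' : k.left ≫ l.left = Spec.map (CommRingCat.ofHom φ) := by rw [← Over.comp_left, hk]; rfl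
  have : IsSplitEpi (pullback.snd (l.left : W.left ⟶ Spec (CommRingCat.of A)) (Spec.map (CommRingCat.ofHom φ))) :=
    IsSplitEpi.mk' ⟨pullback.lift k.left (𝟙 _) (by rw [Category.id_comp]; exact hk'), pullback.lift_snd _ _ _⟩
  exact isIso_of_mono_of_isSplitEpi _

/-- Two maps from a chart agreeing over both parts of a glueing pair are equal. -/
theorem eq_of_eq_on_parts {R R' : Type u} [CommRing R] [CommRing R'] [Algebra R R'] {f : R}
    (hq : EtGlue.QuotPowBijective R R' f) {Z : AlgSp.Space (Spec (CommRingCat.of R))} {A : Type u} [CommRing A]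
    [Algebra R A]
    (hG : ∀ (A₁ : Type u) [CommRing A₁] [Algebra R A₁] (ψ : A →ₐ[R] A₁), ψ.toRingHom.Etale →
      EtGlue.IsGlueable R R' f A₁)
    (s t : (yon _).obj (specOver R A) ⟶ Z.obj)
    (h₁ : ∀ σ : specOver R (R' ⊗[R] A) ⟶ specOver R A,
      σ.left = Spec.map (CommRingCat.ofHom (Algebra.TensorProduct.includeRight : A →ₐ[R] R' ⊗[R] A).toRingHom) →
        (yon _).map σ ≫ s = (yon _).map σ ≫ t)
    (h₂ : ∀ σ : specOver R (Localization.Away (algebraMap R A f)) ⟶ specOver R A,
      σ.left = Spec.map (CommRingCat.ofHom (algebraMap A (Localization.Away (algebraMap R A f)))) →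
        (yon _).map σ ≫ s = (yon _).map σ ≫ t) : s = t := by
  have hd := AlgSp.repWith_diag Z.obj Z.property (@LocallyOfFiniteType ⊓ MorphismProperty.monomorphisms Scheme.{u})
    (fun _ h1 h2 => ⟨h1, h2⟩)
  obtain ⟨W, l, m, sq⟩ := hd.1 (prod.lift s t)
  obtain ⟨hl, hlm⟩ := hd.2 _ _ _ sq
  have : LocallyOfFiniteType l.left := hl
  have : Mono l.left := hlm
  have hlift : ∀ (T : Over (Spec (CommRingCat.of R))) (σ : T ⟶ specOver R A),
      ((yon _).map σ ≫ s = (yon _).map σ ≫ t ↔ ∃ k : T ⟶ W, k ≫ l = σ) := fun T σ => by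
    constructor
    · intro h
      obtain ⟨k, -, hk⟩ := sq.exists_lift ((yon _).map σ ≫ s) ((yon _).map σ) (by
        apply prod.hom_ext
        · simp
        · simpa using h)
      obtain ⟨k, rfl⟩ := (yon _).map_surjective k
      exact ⟨k, (yon _).map_injective (by rw [Functor.map_comp, hk])⟩
    · rintro ⟨k, rfl⟩
      have e := sq.w
      have e1 : m = (yon _).map l ≫ s := by simpa using congrArg (· ≫ prod.fst) e
      have e2 : m = (yon _).map l ≫ t := by simpa using congrArg (· ≫ prod.snd) e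
      rw [Functor.map_comp, Category.assoc, Category.assoc, ← e1, ← e2]
  have hloc : ∀ q : ↥(Spec (CommRingCat.of A)), ∃ (T : Scheme.{u}) (g : T ⟶ Spec (CommRingCat.of A))
      (σ : T ⟶ W.left), Etale g ∧ σ ≫ l.left = g ∧ q ∈ Set.range g := fun q => by
    have i₁ := isIso_snd_of_lift l (R' ⊗[R] A)
      (Algebra.TensorProduct.includeRight : A →ₐ[R] R' ⊗[R] A).toRingHom
      (AlgHom.comp_algebraMap (Algebra.TensorProduct.includeRight : A →ₐ[R] R' ⊗[R] A)) (fun σ hσ => (hlift _ σ).1 (h₁ σ hσ))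
    have i₂ := isIso_snd_of_lift l (Localization.Away (algebraMap R A f)) (algebraMap A _)
      (IsScalarTower.algebraMap_eq R A _).symm (fun σ hσ => (hlift _ σ).1 (h₂ σ hσ))
    obtain ⟨T, -, g, σ, hg, hσ, hq'⟩ :=
      AlgSpEN.exists_etale_section (X := W.left) (A := A) hq l.left i₁ i₂ hG q
    exact ⟨T, g, σ, hg, hσ, hq'⟩
  choose T g σ hg hσ hq' using hloc
  let U : _ → Over (Spec (CommRingCat.of R)) := fun q => Over.mk (g q ≫ (specOver R A).hom)
  let c : ∀ q, U q ⟶ specOver R A := fun q => Over.homMk (g q) rfl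
  refine AlgSp.InfGlue.hom_ext_cover (U := U) c (fun q => hg q) (fun q => ⟨q, hq' q⟩) s t fun q => ?_
  refine (hlift _ (c q)).2 ⟨Over.homMk (σ q) (by rw [← Over.w l, ← Category.assoc, hσ]; rfl), ?_⟩
  exact Over.OverMorphism.ext (hσ q)

/-- Let `(R → R', f)` be a glueing pair, `X = Spec R`, `U = Spec R_f`, `X' = Spec R'`, and let `Y`, `Z`
be algebraic spaces over `X` glueable for `(R → R', f)`. Two morphisms `a, b : Y → Z` over `X` whose
base changes to `U` agree and whose base changes to `X'` agree are equal. -/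
theorem result (R : Type u) [CommRing R] (R' : Type u) [CommRing R'] [Algebra R R']
    (f : R) (hRR' : EtGlue.IsGlueingPair R R' f) {Y Z YU YX' : AlgSp.Space (Spec (CommRingCat.of R))}
    (hY : (∀ (A : Type u) [CommRing A] [Algebra R A]
      (g : (AlgSp.yon (Spec (CommRingCat.of R))).obj (Over.mk (Spec.map (CommRingCat.ofHom (algebraMap R A))) : Over (Spec (CommRingCat.of R))) ⟶ Y.obj),
      AlgSp.RepWith @Etale g → EtGlue.IsGlueable R R' f A))
    (hZ : (∀ (A : Type u) [CommRing A] [Algebra R A]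
      (g : (AlgSp.yon (Spec (CommRingCat.of R))).obj (Over.mk (Spec.map (CommRingCat.ofHom (algebraMap R A))) : Over (Spec (CommRingCat.of R))) ⟶ Z.obj),
      AlgSp.RepWith @Etale g → EtGlue.IsGlueable R R' f A))
    (a b : Y ⟶ Z) (πZ : Z.obj ⟶ (AlgSp.yon (Spec (CommRingCat.of R))).obj (Over.mk (𝟙 _)))
    (inU : (Over.mk (Spec.map (CommRingCat.ofHom (algebraMap R (Localization.Away f)))) : Over (Spec (CommRingCat.of R))) ⟶ Over.mk (𝟙 _))
    (uY : YU ⟶ Y) (vY : YU.obj ⟶ (AlgSp.yon (Spec (CommRingCat.of R))).obj (Over.mk (Spec.map (CommRingCat.ofHom (algebraMap R (Localization.Away f)))) : Over (Spec (CommRingCat.of R))))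
    (hYU : IsPullback uY.hom vY (a.hom ≫ πZ) ((AlgSp.yon (Spec (CommRingCat.of R))).map inU))
    (inX' : (Over.mk (Spec.map (CommRingCat.ofHom (algebraMap R R'))) : Over (Spec (CommRingCat.of R))) ⟶ Over.mk (𝟙 _))
    (uY' : YX' ⟶ Y) (vY' : YX'.obj ⟶ (AlgSp.yon (Spec (CommRingCat.of R))).obj (Over.mk (Spec.map (CommRingCat.ofHom (algebraMap R R'))) : Over (Spec (CommRingCat.of R))))
    (hYX' : IsPullback uY'.hom vY' (a.hom ≫ πZ) ((AlgSp.yon (Spec (CommRingCat.of R))).map inX'))
    (haU : uY ≫ a = uY ≫ b) (haX' : uY' ≫ a = uY' ≫ b) : a = b := by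
  classical
  apply ObjectProperty.hom_ext
  obtain ⟨U, p, hp, hs⟩ := Y.property.atlas
  have := AlgSp.isLocallySurjective_of_etale_surjective p hp hs
  have : Epi p := Sheaf.epi_of_isLocallySurjective _
  rw [← cancel_epi p]
  let ψ : ∀ i : U.left.affineOpens, CommRingCat.of R ⟶ Γ(U.left, i.1) := fun i =>
    Spec.preimage (i.2.fromSpec ≫ U.hom)
  have hψ : ∀ i, Spec.map (ψ i) = i.2.fromSpec ≫ U.hom := fun i => Spec.map_preimage _
  let Ui : U.left.affineOpens → Over (Spec (CommRingCat.of R)) := fun i => Over.mk (Spec.map (ψ i))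
  let ci : ∀ i, Ui i ⟶ U := fun i => Over.homMk i.2.fromSpec (hψ i).symm
  refine AlgSp.InfGlue.hom_ext_cover (U := Ui) ci (fun i => inferInstanceAs (Etale i.2.fromSpec)) (fun x => ?_)
    _ _ fun i => ?_
  · obtain ⟨O, hO, hxO, -⟩ := exists_isAffineOpen_mem_and_subset (x := x) (U := ⊤) trivial
    exact ⟨⟨O, hO⟩, by change x ∈ Set.range hO.fromSpec; rw [hO.range_fromSpec]; exact hxO⟩
  rw [← Category.assoc, ← Category.assoc]
  let _ : Algebra R Γ(U.left, i.1) := (ψ i).hom.toAlgebra
  have hc : RepWith @Etale ((yon _).map (ci i) ≫ p) :=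
    have : Etale (ci i).left := inferInstanceAs (Etale i.2.fromSpec)
    AlgSpB.repWith_etale_map_comp _ hp
  have hterm : ∀ {T : Over (Spec (CommRingCat.of R))}
      (u v : (yon _).obj T ⟶ (yon _).obj (Over.mk (𝟙 (Spec (CommRingCat.of R))))), u = v := fun u v => by
    obtain ⟨u, rfl⟩ := (yon _).map_surjective u
    obtain ⟨v, rfl⟩ := (yon _).map_surjective v
    congr 1
    exact Over.OverMorphism.ext (by have h1 := Over.w u; have h2 := Over.w v; simpa using h1.trans h2.symm)
  refine eq_of_eq_on_parts (R' := R') (f := f) hRR'.1 (Z := Z) (A := Γ(U.left, i.1)) (fun A₁ _ _ φ hφ => ?_) _ _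
    (fun σ hσ => ?_) (fun σ hσ => ?_)
  · let σ : specOver R A₁ ⟶ specOver R Γ(U.left, i.1) := Over.homMk (Spec.map (CommRingCat.ofHom φ.toRingHom)) (by
      change _ ≫ Spec.map _ = Spec.map _
      rw [← Spec.map_comp]
      congr 1
      ext r
      exact φ.commutes r)
    have : Etale σ.left := (HasRingHomProperty.Spec_iff (P := @Etale)).2 hφ
    exact hY A₁ _ (AlgSpB.repWith_etale_map_comp σ hc)
  · let γ : specOver R (R' ⊗[R] Γ(U.left, i.1)) ⟶ specOver R R' :=
      Over.homMk (Spec.map (CommRingCat.ofHom Algebra.TensorProduct.includeLeftRingHom)) (by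
        change _ ≫ Spec.map _ = Spec.map _
        rw [← Spec.map_comp]
        congr 1)
    obtain ⟨k, hk, -⟩ := hYX'.exists_lift ((yon _).map σ ≫ (yon _).map (ci i) ≫ p) ((yon _).map γ) (hterm _ _)
    simp only [← Category.assoc] at hk ⊢
    rw [← hk, Category.assoc, Category.assoc]
    exact congrArg (k ≫ ·) (congrArg InducedCategory.Hom.hom haX')
  · have hu : IsUnit (algebraMap R (Localization.Away (algebraMap R Γ(U.left, i.1) f)) f) := by
      rw [IsScalarTower.algebraMap_apply R Γ(U.left, i.1) (Localization.Away (algebraMap R Γ(U.left, i.1) f)) f]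
      exact IsLocalization.Away.algebraMap_isUnit (algebraMap R Γ(U.left, i.1) f)
    let γ : specOver R (Localization.Away (algebraMap R Γ(U.left, i.1) f)) ⟶ specOver R (Localization.Away f) :=
      Over.homMk (Spec.map (CommRingCat.ofHom (IsLocalization.Away.lift f hu))) (by
        change _ ≫ Spec.map _ = Spec.map _
        rw [← Spec.map_comp]
        exact congrArg Spec.map (CommRingCat.hom_ext (IsLocalization.Away.lift_comp f hu)))
    obtain ⟨k, hk, -⟩ := hYU.exists_lift ((yon _).map σ ≫ (yon _).map (ci i) ≫ p) ((yon _).map γ) (hterm _ _)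
    simp only [← Category.assoc] at hk ⊢
    rw [← hk, Category.assoc, Category.assoc]
    exact congrArg (k ≫ ·) (congrArg InducedCategory.Hom.hom haU)

end Groth.Agent.S10707
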