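import Groth.Statements.S10708
import Groth.Agent.AlgSpEN.Coprod
import Groth.Agent.AlgSp.NoethFib
import Groth.Agent.AlgSp.Space

set_option autoImplicit false
set_option backward.isDefEq.respectTransparency false
set_option backward.isDefEq.respectTransparency.types false
universe u
open CategoryTheory CategoryTheory.Limits AlgebraicGeometry
open AlgSp Groth.Agent.AlgSpEN Groth.Agent.AlgSpB

namespace Groth.Agent.S10708


/-- The open subsets of a quasi-compact locally Noetherian space are quasi-compact. -/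
theorem isCompact_of_isLocNoethSp {S : Scheme.{u}} (X : AlgSp.Space S) (hqc : IsQuasiCompactSp X.obj)
    (hN : IsLocNoethSp X.obj) (A : Set (Points X.obj)) : IsCompact A := by
  obtain ⟨U, p, hU, hp, hs⟩ := exists_affine_atlas X hqc
  have := Groth.Agent.AlgSp.isLocallyNoetherian_of_etale_chart p hp hN
  have : IsNoetherian U.left := {}
  rw [← Set.image_preimage_eq A (surjective_ofPt hs)]
  exact (TopologicalSpace.NoetherianSpace.isCompact _).image (Points.continuous_ofPt p)

/-- Let `X` be a Noetherian algebraic space over a quasi-separated base scheme `S` (quasi-compact,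
quasi-separated over `S`, locally Noetherian) and `U ⊂ X` a dense open subspace different from `X`.
Then one can find an etale morphism `V → X` from an affine scheme `V` for which `W = U ∪ Im(V → X)`,
an open subspace, properly contains `U`, the pair `(U ⊂ W, V → W)` forms an elementary distinguished
square, and `U ×_W V → U` has dense image. (The base scheme is taken quasi-separated so that
quasi-separatedness over `S` is the absolute notion.) -/
theorem result {S : Scheme.{u}} [QuasiSeparatedSpace S] {X U : AlgSp.Space S}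
    (hqc : AlgSp.IsQuasiCompactSp X.obj) (hqs : AlgSp.IsQuasiSeparatedSp X.obj) (hN : AlgSp.IsLocNoethSp X.obj)
    (j : U ⟶ X) (hj : AlgSp.RepWith @IsOpenImmersion j.hom) (hdense : Dense (Set.range (AlgSp.Points.map j.hom)))
    (hne : Set.range (AlgSp.Points.map j.hom) ≠ Set.univ) :
    ∃ (V : Over S) (_ : IsAffine V.left) (W : AlgSp.Space S) (jW : W ⟶ X) (jU : U ⟶ W) (φ : (AlgSp.ofScheme S).obj V ⟶ W)
      (P : AlgSp.Space S) (p : P ⟶ U) (q : P ⟶ (AlgSp.ofScheme S).obj V),
      AlgSp.RepWith @Etale (φ ≫ jW).hom ∧ AlgSp.RepWith @IsOpenImmersion jW.hom ∧ jU ≫ jW = j ∧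
        Set.range (AlgSp.Points.map jW.hom) =
          Set.range (AlgSp.Points.map j.hom) ∪ Set.range (AlgSp.Points.map (φ ≫ jW).hom) ∧
        Set.range (AlgSp.Points.map jW.hom) ≠ Set.range (AlgSp.Points.map j.hom) ∧
        AlgSp.IsElemDistSq jU.hom φ.hom ∧ IsPullback p.hom q.hom jU.hom φ.hom ∧ AlgSp.IsDominantMor p.hom := by
  classical
  obtain ⟨U₀, p₀, hU₀, hp₀, hs₀⟩ := exists_affine_atlas X hqc
  have hq₀ := repWith_quasiCompact_chart X hqs p₀
  have hN₀ := exists_tupleLocus_eq_empty X.property hp₀ hs₀ hq₀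
  let A := Set.range (Points.map j.hom)
  have hex : ∃ n, tupleLocus p₀ (n + 1) ⊆ A := hN₀.imp fun N hN => by simp [hN]
  obtain ⟨n, hn⟩ : ∃ n, Nat.find hex = n + 1 := Nat.exists_eq_succ_of_ne_zero fun h => hne <| by
    have := Nat.find_spec hex
    rw [h, tupleLocus_one hs₀] at this
    exact Set.univ_subset_iff.1 this
  have hsub : tupleLocus p₀ (n + 2) ⊆ A := by
    have := Nat.find_spec hex
    rwa [hn] at this
  have hnot : ¬ tupleLocus p₀ (n + 1) ⊆ A := Nat.find_min hex (hn.symm ▸ Nat.lt_succ_self n)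
  obtain ⟨M, m, hm, -, hr, -, hinj⟩ := exists_stratum_chart X.property hp₀ n
  obtain ⟨_, ⟨y, rfl⟩, hy⟩ := Set.not_subset.1 (hr.symm ▸ hnot)
  obtain ⟨O, hO, hyO, -⟩ := exists_isAffineOpen_mem_and_subset (x := y) (U := ⊤) trivial
  let O' : Over S := Over.mk (O.ι ≫ M.hom)
  let o : O' ⟶ M := Over.homMk O.ι rfl
  have : IsAffine O'.left := hO
  have : Etale o.left := inferInstanceAs (Etale O.ι)
  have hUqc := isQuasiCompactSp_of_isCompact_range j hj (isCompact_of_isLocNoethSp X hqc hN A)
  obtain ⟨U₁, p₁, hU₁, hp₁, hs₁⟩ := exists_affine_atlas U hUqc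
  have hje : RepWith @Etale j.hom :=
    Groth.Agent.AlgSp.repWith_mono (Q := @Etale) (fun g hg => have : IsOpenImmersion g := hg; inferInstance) hj
  obtain ⟨V, f, ea, eb, hV, hf, hfa, hfb, hea, hcov⟩ := exists_coprod_chart ((yon S).map o ≫ m) (p₁ ≫ j.hom)
    (repWith_etale_map_comp o hm) ((RepWith _).comp_mem _ _ hp₁ hje)
  have hA : IsOpen A := isOpen_range_of_isOpenImmersion hj
  have hB : IsOpen (A ∪ Set.range (Points.ofPt f)) := hA.union (by
    rw [← Set.image_univ]
    exact isOpenMap_ofPt hf _ isOpen_univ)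
  obtain ⟨W, jW, hjW, hjWr⟩ := exists_openSubspace X hB
  have hinjV : InjOutside f A := by
    intro T a b hab hout
    have key : ∀ c : T ⟶ V, (yon S).map c ≫ f = (yon S).map a ≫ f → ∃ c' : T ⟶ O', c' ≫ ea = c := by
      intro c hc
      have hrange : Set.range c.left ⊆ Set.range ea.left := by
        rintro _ ⟨t, rfl⟩
        rcases hcov (c.left t) with h | ⟨z, hz⟩
        · exact h
        · refine absurd ?_ (hout t)
          rw [← hc, ofPt_map_comp, ← hz, ← ofPt_map_comp, hfb, ← Points.map_ofPt]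
          exact ⟨_, rfl⟩
      exact ⟨Over.homMk (IsOpenImmersion.lift ea.left c.left hrange)
        (by rw [← Over.w ea, IsOpenImmersion.lift_fac_assoc, Over.w c]),
        Over.OverMorphism.ext (IsOpenImmersion.lift_fac _ _ _)⟩
    obtain ⟨a', rfl⟩ := key a rfl
    obtain ⟨b', rfl⟩ := key b hab.symm
    have : Mono o := (Over.forget S).mono_of_mono_map (inferInstanceAs (Mono O.ι))
    congr 1
    rw [← cancel_mono o]
    simp only [Functor.map_comp, Category.assoc, hfa] at hab hout
    refine hinj T _ _ (by simpa only [Functor.map_comp, Category.assoc] using hab) fun t ht => ?_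
    simp only [Functor.map_comp, Category.assoc] at ht
    exact hout t (hsub ht)
  obtain ⟨k, f₂, hk, hf₂, hko, hf₂e, hsq⟩ := exists_isElemDistSq j jW hj hjW f hf hjWr hinjV
  let φ : (AlgSp.ofScheme S).obj V ⟶ W := ObjectProperty.homMk f₂
  have hP : IsAlgSpace (pullback k.hom f₂) :=
    Groth.Agent.AlgSp.isAlgSpace_pullback W.property U.property (IsAlgSpace.yon_obj V) _ _
  refine ⟨V, hV, W, jW, k, φ, ⟨_, hP⟩, ObjectProperty.homMk (pullback.fst k.hom f₂),
    ObjectProperty.homMk (pullback.snd k.hom f₂), ?_, hjW, hk, ?_, ?_, hsq, IsPullback.of_hasPullback _ _, ?_⟩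
  · change RepWith @Etale (f₂ ≫ jW.hom)
    rw [hf₂]; exact hf
  · change _ = _ ∪ Set.range (Points.map (f₂ ≫ jW.hom))
    rw [hjWr, hf₂]
    congr 1
    apply Set.Subset.antisymm
    · rintro _ ⟨v, rfl⟩
      exact ⟨Points.ofPt (𝟙 _) v, by rw [Points.map_ofPt, Category.id_comp]⟩
    · rintro _ ⟨x, rfl⟩
      have h1 : RepWith @Surjective (𝟙 ((yon S).obj V)) := by
        rw [← (yon S).map_id]; exact (repWith_yon_map_iff _ _).2 (by dsimp; infer_instance)
      obtain ⟨v, rfl⟩ := surjective_ofPt h1 x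
      exact ⟨v, by rw [Points.map_ofPt, Category.id_comp]⟩
  · intro h
    refine hy (h.le ?_)
    rw [hjWr]
    refine Or.inr ⟨ea.left ⟨y, hyO⟩, ?_⟩
    rw [← ofPt_map_comp, hfa, ofPt_map_comp]
    rfl
  · have : Mono jW.hom := mono_of_isOpenImmersion hjW
    refine Function.Surjective.denseRange fun x => ?_
    obtain ⟨v, rfl⟩ := surjective_ofPt hs₁ x
    refine ⟨Points.ofPt (pullback.lift p₁ ((yon S).map eb) ?_) v, ?_⟩
    · rw [← cancel_mono jW.hom, Category.assoc, Category.assoc, hf₂, hfb, ← hk]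
      rfl
    · exact (Points.map_ofPt _ _ _).trans (by simp)

end Groth.Agent.S10708
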