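import Groth.Statements.S10719
import Groth.Agent.S10572
import Groth.Agent.S10506
import Groth.Agent.AlgSp.Space

set_option autoImplicit false
universe w v u
open CategoryTheory CategoryTheory.Limits AlgebraicGeometry
open AlgSp

namespace Groth.Agent.S10719

theorem exists_pullDiagram {S : Scheme.{u}} {B : AlgSp.Space S} {I : Type v} [Category.{w} I] (D : I ⥤ Over B)
    (c : Cocone D) (U : Over B) (g : U ⟶ c.pt) :
    ∃ (Da : I ⥤ Over B) (α : Da ⟶ D) (ι : Da ⟶ (Functor.const I).obj U),
      ∀ i, IsPullback (ι.app i).left.hom (α.app i).left.hom g.left.hom (c.ι.app i).left.hom := by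
  let P : I → AlgSp.Space S := fun i => ⟨pullback g.left.hom (c.ι.app i).left.hom,
    Groth.Agent.AlgSp.isAlgSpace_pullback c.pt.left.property U.left.property (D.obj i).left.property _ _⟩
  let fst : ∀ i, P i ⟶ U.left := fun i => ObjectProperty.homMk (pullback.fst g.left.hom (c.ι.app i).left.hom)
  let snd : ∀ i, P i ⟶ (D.obj i).left := fun i => ObjectProperty.homMk (pullback.snd g.left.hom (c.ι.app i).left.hom)
  have hw : ∀ {i j : I} (m : i ⟶ j), (D.map m).left.hom ≫ (c.ι.app j).left.hom = (c.ι.app i).left.hom :=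
    fun m => congrArg (fun q => q.left.hom) (c.w m)
  have hcond : ∀ i, fst i ≫ g.left = snd i ≫ (c.ι.app i).left := fun i =>
    InducedCategory.hom_ext pullback.condition
  have hbase : ∀ i, fst i ≫ U.hom = snd i ≫ (D.obj i).hom := fun i => by
    rw [← Over.w g, ← Category.assoc, hcond, Category.assoc]
    exact congrArg (snd i ≫ ·) (Over.w (c.ι.app i))
  let mp : ∀ {i j : I}, (i ⟶ j) → (P i ⟶ P j) := fun {i j} m => ObjectProperty.homMk
    (pullback.lift (pullback.fst _ _) (pullback.snd _ _ ≫ (D.map m).left.hom) (by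
      rw [Category.assoc, hw, pullback.condition]))
  let Da : I ⥤ Over B :=
    { obj := fun i => Over.mk (fst i ≫ U.hom)
      map := fun {i j} m => Over.homMk (mp m) (by
        refine InducedCategory.hom_ext ?_
        change pullback.lift _ _ _ ≫ pullback.fst _ _ ≫ U.hom.hom = pullback.fst _ _ ≫ U.hom.hom
        rw [pullback.lift_fst_assoc])
      map_id := fun i => Over.OverMorphism.ext (InducedCategory.hom_ext (pullback.hom_ext
        ((pullback.lift_fst _ _ _).trans (Category.id_comp _).symm)
        ((pullback.lift_snd _ _ _).trans (by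
          rw [CategoryTheory.Functor.map_id]
          exact (Category.comp_id _).trans (Category.id_comp _).symm))))
      map_comp := fun {i j k} m m' => Over.OverMorphism.ext (InducedCategory.hom_ext (pullback.hom_ext
        (by
          change pullback.lift _ _ _ ≫ pullback.fst _ _ = (pullback.lift _ _ _ ≫ pullback.lift _ _ _) ≫ pullback.fst _ _
          simp only [Category.assoc, pullback.lift_fst])
        (by
          change pullback.lift _ _ _ ≫ pullback.snd _ _ = (pullback.lift _ _ _ ≫ pullback.lift _ _ _) ≫ pullback.snd _ _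
          simp only [Category.assoc, pullback.lift_snd, pullback.lift_snd_assoc]
          rw [CategoryTheory.Functor.map_comp]
          rfl))) }
  refine ⟨Da, { app := fun i => Over.homMk (snd i) (hbase i).symm
                naturality := fun i j m => Over.OverMorphism.ext (InducedCategory.hom_ext (pullback.lift_snd _ _ _)) },
    { app := fun i => Over.homMk (fst i) rfl
      naturality := fun i j m => Over.OverMorphism.ext (InducedCategory.hom_ext ((pullback.lift_fst _ _ _).trans
        (Category.comp_id _).symm)) }, fun i => IsPullback.of_hasPullback _ _⟩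

/-- Let `B` be an algebraic space over `S`, `D : I ⥤ Over B` a diagram of algebraic spaces over `B` with
a cocone `c`, and `{U_a → c.pt}` an fpqc covering (by algebraic spaces over `B`). If (1) for every
`a`, every cocone of cartesian squares `D_i ×_{c.pt} U_a → U_a` is a colimit in algebraic spaces
over `B`, and (2) the same holds for every fibre product `U_a ×_{c.pt} U_b`, then `c` is a colimit
in algebraic spaces over `B`. -/
theorem result {S : Scheme.{u}} {B : AlgSp.Space S} {I : Type v} [Category.{w} I] (D : I ⥤ Over B)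
    (c : Cocone D) {κ : Type u} (Ua : κ → Over B) (ua : ∀ a, Ua a ⟶ c.pt)
    (hcov : AlgSp.IsFpqcCover (fun a => (Ua a).left.obj) (fun a => (ua a).left.hom))
    (h₁ : ∀ (a : κ) (Da : I ⥤ Over B) (α : Da ⟶ D) (ι : Da ⟶ (Functor.const I).obj (Ua a)),
      (∀ i, IsPullback (ι.app i).left.hom (α.app i).left.hom (ua a).left.hom (c.ι.app i).left.hom) →
        Nonempty (IsColimit (Cocone.mk (Ua a) ι)))
    (h₂ : ∀ (a b : κ) (Uab : Over B) (pa : Uab ⟶ Ua a) (pb : Uab ⟶ Ua b),
      IsPullback pa.left.hom pb.left.hom (ua a).left.hom (ua b).left.hom →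
      ∀ (Dab : I ⥤ Over B) (α : Dab ⟶ D) (ι : Dab ⟶ (Functor.const I).obj Uab),
        (∀ i, IsPullback (ι.app i).left.hom (α.app i).left.hom (pa ≫ ua a).left.hom (c.ι.app i).left.hom) →
          Nonempty (IsColimit (Cocone.mk Uab ι))) :
    Nonempty (IsColimit c) := by
  classical
  choose Da α ι hp using fun a => exists_pullDiagram D c (Ua a) (ua a)
  have hcol := fun a => (h₁ a (Da a) (α a) (ι a) (hp a)).some
  have hsep : ∀ (Z : Over B) (x y : c.pt ⟶ Z), (∀ a, ua a ≫ x = ua a ≫ y) → x = y := fun Z x y h =>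
    Over.OverMorphism.ext ((Groth.Agent.S10572.result _ _ hcov Z.left).1 _ _ fun a =>
      congrArg (fun q => q.left) (h a))
  have hw : ∀ (a : κ) (i : I), (ι a).app i ≫ ua a = (α a).app i ≫ c.ι.app i := fun a i =>
    Over.OverMorphism.ext (InducedCategory.hom_ext (hp a i).w)
  let m : ∀ (s : Cocone D) (a : κ), Ua a ⟶ s.pt := fun s a =>
    (hcol a).desc (Cocone.mk s.pt (α a ≫ s.ι))
  have hm : ∀ (s : Cocone D) (a : κ) (i : I), (ι a).app i ≫ m s a = (α a).app i ≫ s.ι.app i :=
    fun s a i => (hcol a).fac (Cocone.mk s.pt (α a ≫ s.ι)) i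
  have hglue : ∀ (s : Cocone D) (a b : κ),
      pullback.fst (ua a).left.hom (ua b).left.hom ≫ (m s a).left.hom =
        pullback.snd (ua a).left.hom (ua b).left.hom ≫ (m s b).left.hom := by
    intro s a b
    let P : AlgSp.Space S := ⟨pullback (ua a).left.hom (ua b).left.hom,
      Groth.Agent.AlgSp.isAlgSpace_pullback c.pt.left.property (Ua a).left.property (Ua b).left.property _ _⟩
    let f : P ⟶ (Ua a).left := ObjectProperty.homMk (pullback.fst _ _)
    let g : P ⟶ (Ua b).left := ObjectProperty.homMk (pullback.snd _ _)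
    have hfg : f ≫ (ua a).left = g ≫ (ua b).left := InducedCategory.hom_ext pullback.condition
    let Uab : Over B := Over.mk (f ≫ (Ua a).hom)
    let pa : Uab ⟶ Ua a := Over.homMk f rfl
    let pb : Uab ⟶ Ua b := Over.homMk g (by
      change g ≫ (Ua b).hom = f ≫ (Ua a).hom
      rw [← Over.w (ua a), ← Over.w (ua b), ← Category.assoc, ← Category.assoc, hfg])
    have hsq : pa ≫ ua a = pb ≫ ua b := Over.OverMorphism.ext hfg
    obtain ⟨Dab, α', ι', hp'⟩ := exists_pullDiagram D c Uab (pa ≫ ua a)
    have hc' := (h₂ a b Uab pa pb (IsPullback.of_hasPullback _ _) Dab α' ι' hp').some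
    refine congrArg (fun q : Uab ⟶ s.pt => q.left.hom) (hc'.hom_ext (f := pa ≫ m s a) (f' := pb ≫ m s b) fun i => ?_)
    have key : ∀ (e : κ) (pe : Uab ⟶ Ua e), pe ≫ ua e = pa ≫ ua a →
        ι'.app i ≫ pe ≫ m s e = α'.app i ≫ s.ι.app i := by
      intro e pe he
      have hw' : ((ι'.app i).left.hom ≫ pe.left.hom) ≫ (ua e).left.hom =
          (α'.app i).left.hom ≫ (c.ι.app i).left.hom := by
        rw [Category.assoc]
        exact (congrArg (fun q : Uab ⟶ c.pt => (ι'.app i).left.hom ≫ q.left.hom) he).trans (hp' i).w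
      let l : (Dab.obj i).left ⟶ ((Da e).obj i).left := ObjectProperty.homMk ((hp e i).lift _ _ hw')
      let l' : Dab.obj i ⟶ (Da e).obj i := Over.homMk l (by
        have h1 : l ≫ ((ι e).app i).left = (ι'.app i).left ≫ pe.left :=
          InducedCategory.hom_ext ((hp e i).lift_fst _ _ hw')
        calc l ≫ ((Da e).obj i).hom = l ≫ ((ι e).app i).left ≫ (Ua e).hom := by
              congr 1; exact (Over.w ((ι e).app i)).symm
          _ = (ι'.app i).left ≫ pe.left ≫ (Ua e).hom := by rw [← Category.assoc, h1, Category.assoc]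
          _ = (ι'.app i).left ≫ Uab.hom := by rw [Over.w pe]
          _ = (Dab.obj i).hom := Over.w (ι'.app i))
      have h1 : l' ≫ (ι e).app i = ι'.app i ≫ pe :=
        Over.OverMorphism.ext (InducedCategory.hom_ext ((hp e i).lift_fst _ _ hw'))
      have h2 : l' ≫ (α e).app i = α'.app i :=
        Over.OverMorphism.ext (InducedCategory.hom_ext ((hp e i).lift_snd _ _ hw'))
      rw [← Category.assoc, ← h1, Category.assoc, hm, ← Category.assoc, h2]
    exact (key a pa rfl).trans (key b pb hsq.symm).symm
  have hd : ∀ s : Cocone D, ∃ d : c.pt ⟶ s.pt, ∀ a, ua a ≫ d = m s a := by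
    intro s
    obtain ⟨b, hb⟩ := (Groth.Agent.S10572.result _ _ hcov s.pt.left).2 (fun a => (m s a).left) (hglue s)
    refine ⟨Over.homMk b ((Groth.Agent.S10572.result _ _ hcov B).1 _ _ fun a => ?_),
      fun a => Over.OverMorphism.ext (hb a)⟩
    rw [← Category.assoc, hb, Over.w (m s a), Over.w (ua a)]
  choose d hd using hd
  refine ⟨⟨d, fun s i => ?_, fun s x hx => hsep _ _ _ fun a => ?_⟩⟩
  · apply Over.OverMorphism.ext
    have hcov' : AlgSp.IsFpqcCover (fun a => ((Da a).obj i).left.obj) (fun a => ((α a).app i).left.hom) :=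
      Groth.Agent.S10506.result (c.ι.app i).left (fun a => (Ua a).left) (fun a => (ua a).left)
        (fun a => ((Da a).obj i).left) (fun a => ((α a).app i).left) (fun a => ((ι a).app i).left)
        (fun a => (hp a i).flip) hcov
    refine (Groth.Agent.S10572.result _ _ hcov' s.pt.left).1 _ _ fun a => ?_
    have : (α a).app i ≫ c.ι.app i ≫ d s = (α a).app i ≫ s.ι.app i := by
      rw [← Category.assoc, ← hw, Category.assoc, hd, hm]
    exact congrArg (fun q => q.left) this
  · refine (hcol a).hom_ext fun i => ?_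
    rw [hd]
    change (ι a).app i ≫ ua a ≫ x = (ι a).app i ≫ m s a
    rw [hm, ← Category.assoc, hw, Category.assoc, hx i]

end Groth.Agent.S10719
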