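import Groth.Statements.S10720
import Groth.Agent.AlgSpEN.GlueAgree
import Groth.Agent.AlgSpEN.FpqcHom

set_option backward.isDefEq.respectTransparency false
set_option backward.isDefEq.respectTransparency.types false
-- import your own Groth.Agent.* helpers here

set_option autoImplicit false
universe u
open CategoryTheory CategoryTheory.Limits AlgebraicGeometry
open AlgSp

namespace Groth.Agent.S10720

open Groth.Agent in
/-- The two restrictions of a glueing datum agree where they meet. -/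
theorem agree_UY {S : Scheme.{u}} {X₂ A₁U A₂U A₁Y A₂Y A₁V A₂V X₁ : AlgSp.Space S}
    {a₁U : A₁U ⟶ X₁} {a₂U : A₂U ⟶ X₂} {a₁Y : A₁Y ⟶ X₁} {a₂Y : A₂Y ⟶ X₂}
    {m₁U : A₁V ⟶ A₁U} {m₁Y : A₁V ⟶ A₁Y} (h₁V : IsPullback m₁U.hom m₁Y.hom a₁U.hom a₁Y.hom)
    {m₂U : A₂V ⟶ A₂U} {m₂Y : A₂V ⟶ A₂Y} (h₂V : IsPullback m₂U.hom m₂Y.hom a₂U.hom a₂Y.hom)
    {bU : A₁U ⟶ A₂U} {bY : A₁Y ⟶ A₂Y} {bV : A₁V ⟶ A₂V}
    (hbV₁ : bV ≫ m₂U = m₁U ≫ bU) (hbV₂ : bV ≫ m₂Y = m₁Y ≫ bY)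
    {M : AlgSp.Sp S} (s : M ⟶ A₁U.obj) (s' : M ⟶ A₁Y.obj) (h : s ≫ a₁U.hom = s' ≫ a₁Y.hom) :
    s ≫ bU.hom ≫ a₂U.hom = s' ≫ bY.hom ≫ a₂Y.hom := by
  obtain ⟨w, rfl, rfl⟩ := h₁V.exists_lift s s' h
  have e₁ : bV.hom ≫ m₂U.hom = m₁U.hom ≫ bU.hom := congrArg InducedCategory.Hom.hom hbV₁
  have e₂ : bV.hom ≫ m₂Y.hom = m₁Y.hom ≫ bY.hom := congrArg InducedCategory.Hom.hom hbV₂
  simp only [Category.assoc, ← reassoc_of% e₁, ← reassoc_of% e₂, h₂V.w]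

/-- The restriction to `Y` agrees with itself along a flat lift. -/
theorem agree_YY {S : Scheme.{u}} {X Y Z FZ U : AlgSp.Space S} {f : Y ⟶ X}
    (hqs : AlgSp.IsQuasiSeparatedMor f.hom) {i : Z ⟶ X}
    (hi : AlgSp.RepWith @IsClosedImmersion i.hom) (hifp : AlgSp.LocP @LocallyOfFinitePresentation i.hom)
    {iY : FZ ⟶ Y} {fZ : FZ ⟶ Z} (hFZ : IsPullback iY.hom fZ.hom f.hom i.hom) [IsIso fZ] {j : U ⟶ X}
    (hj : AlgSp.RepWith @IsOpenImmersion j.hom)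
    (hU : Set.range (AlgSp.Points.map j.hom) = (Set.range (AlgSp.Points.map i.hom))ᶜ)
    {X₁ X₂ A₁U A₂U A₁Y A₂Y A₁V A₂V : AlgSp.Space S} {p₁ : X₁ ⟶ X} {p₂ : X₂ ⟶ X}
    (hp₂ : AlgSp.IsSeparatedMor p₂.hom)
    {a₁U : A₁U ⟶ X₁} {r₁U : A₁U ⟶ U} (h₁U : IsPullback a₁U.hom r₁U.hom p₁.hom j.hom)
    {a₁Y : A₁Y ⟶ X₁} {r₁Y : A₁Y ⟶ Y} (h₁Y : IsPullback a₁Y.hom r₁Y.hom p₁.hom f.hom)
    {a₂U : A₂U ⟶ X₂}
    {a₂Y : A₂Y ⟶ X₂} {r₂Y : A₂Y ⟶ Y} (h₂Y : IsPullback a₂Y.hom r₂Y.hom p₂.hom f.hom)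
    {m₁U : A₁V ⟶ A₁U} {m₁Y : A₁V ⟶ A₁Y} (h₁V : IsPullback m₁U.hom m₁Y.hom a₁U.hom a₁Y.hom)
    {m₂U : A₂V ⟶ A₂U} {m₂Y : A₂V ⟶ A₂Y} (h₂V : IsPullback m₂U.hom m₂Y.hom a₂U.hom a₂Y.hom)
    {bU : A₁U ⟶ A₂U} {bY : A₁Y ⟶ A₂Y} (hbY : bY ≫ r₂Y = r₁Y) {bV : A₁V ⟶ A₂V}
    (hbV₁ : bV ≫ m₂U = m₁U ≫ bU) (hbV₂ : bV ≫ m₂Y = m₁Y ≫ bY)
    {W : AlgSp.Sp S} (hW : AlgSp.IsAlgSpace W) (g : W ⟶ X.obj) (hg : AlgSp.LocP @Flat g) (l : W ⟶ Y.obj)
    (hl : l ≫ f.hom = g) (hlflat : AlgSp.LocP @Flat l)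
    {N : AlgSp.Sp S} (hN : AlgSp.IsAlgSpace N) (sN : N ⟶ A₁Y.obj)
    (sP : pullback p₁.hom g ⟶ A₁Y.obj) (hsP₁ : sP ≫ a₁Y.hom = pullback.fst p₁.hom g)
    (hsP₂ : sP ≫ r₁Y.hom = pullback.snd p₁.hom g ≫ l)
    {M : AlgSp.Sp S} (m₁ : M ⟶ N) (m₂ : M ⟶ pullback p₁.hom g)
    (hm : m₁ ≫ sN ≫ a₁Y.hom = m₂ ≫ pullback.fst p₁.hom g) :
    m₁ ≫ sN ≫ bY.hom ≫ a₂Y.hom = m₂ ≫ sP ≫ bY.hom ≫ a₂Y.hom := by
  suffices h : pullback.fst (sN ≫ a₁Y.hom) (pullback.fst p₁.hom g) ≫ sN ≫ bY.hom ≫ a₂Y.hom =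
      pullback.snd (sN ≫ a₁Y.hom) (pullback.fst p₁.hom g) ≫ sP ≫ bY.hom ≫ a₂Y.hom by
    have := pullback.lift m₁ m₂ hm ≫= h
    simpa only [pullback.lift_fst_assoc, pullback.lift_snd_assoc] using this
  let o := pullback.fst (sN ≫ a₁Y.hom) (pullback.fst p₁.hom g)
  let o' := pullback.snd (sN ≫ a₁Y.hom) (pullback.fst p₁.hom g)
  have hw : o ≫ sN ≫ a₁Y.hom = o' ≫ pullback.fst p₁.hom g := pullback.condition
  have hP := Groth.Agent.AlgSp.isAlgSpace_pullback X.property X₁.property hW p₁.hom g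
  have hflatq : AlgSp.LocP @Flat (pullback.fst p₁.hom g) :=
    Groth.Agent.AlgSpCov.locP_baseChange Groth.Agent.AlgSpCov.etaleLocal_flat hW X.property
      (IsPullback.of_hasPullback p₁.hom g).flip hg
  have ho : AlgSp.LocP @Flat o :=
    Groth.Agent.AlgSpCov.locP_baseChange Groth.Agent.AlgSpCov.etaleLocal_flat hP X₁.property
      (IsPullback.of_hasPullback _ _).flip hflatq
  have hO := Groth.Agent.AlgSp.isAlgSpace_pullback X₁.property hN hP (sN ≫ a₁Y.hom) (pullback.fst p₁.hom g)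
  let r : pullback (sN ≫ a₁Y.hom) (pullback.fst p₁.hom g) ⟶ Y.obj := o ≫ sN ≫ r₁Y.hom
  let r' : pullback (sN ≫ a₁Y.hom) (pullback.fst p₁.hom g) ⟶ Y.obj := o' ≫ pullback.snd p₁.hom g ≫ l
  have hr : r ≫ f.hom = o ≫ sN ≫ a₁Y.hom ≫ p₁.hom := by
    simp only [r, Category.assoc, h₁Y.w]
  have hr' : r' ≫ f.hom = o ≫ sN ≫ a₁Y.hom ≫ p₁.hom := by
    rw [reassoc_of% hw]
    simp only [r', Category.assoc, hl, pullback.condition]
  have hδ := IsPullback.of_hasPullback (pullback.diagonal f.hom) (pullback.lift r r' (hr.trans hr'.symm))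
  let δ := pullback.snd (pullback.diagonal f.hom) (pullback.lift r r' (hr.trans hr'.symm))
  have hδr : δ ≫ r = δ ≫ r' := by
    have h1 := congrArg (· ≫ pullback.fst f.hom f.hom) hδ.w
    have h2 := congrArg (· ≫ pullback.snd f.hom f.hom) hδ.w
    simp only [Category.assoc, pullback.diagonal_fst, pullback.diagonal_snd, pullback.lift_fst, pullback.lift_snd,
      Category.comp_id] at h1 h2
    exact h1.symm.trans h2
  have hδflat : AlgSp.LocP @Flat (δ ≫ o) := by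
    have hsq : IsPullback (δ ≫ o' ≫ pullback.snd p₁.hom g) (δ ≫ o) l (sN ≫ r₁Y.hom) := by
      have w : (δ ≫ o' ≫ pullback.snd p₁.hom g) ≫ l = (δ ≫ o) ≫ sN ≫ r₁Y.hom := by
        simpa only [r, r', Category.assoc] using hδr.symm
      let tw := pullback.lift _ _ w
      let tP : pullback l (sN ≫ r₁Y.hom) ⟶ pullback p₁.hom g :=
        pullback.lift (pullback.snd _ _ ≫ sN ≫ a₁Y.hom) (pullback.fst _ _) (by
          simp only [Category.assoc, h₁Y.w, ← hl]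
          rw [pullback.condition_assoc]
          simp only [Category.assoc])
      let tO : pullback l (sN ≫ r₁Y.hom) ⟶ pullback (sN ≫ a₁Y.hom) (pullback.fst p₁.hom g) :=
        pullback.lift (pullback.snd _ _) tP (by simp [tP])
      let inv' := hδ.lift (pullback.snd l (sN ≫ r₁Y.hom) ≫ sN ≫ r₁Y.hom) tO (by
        ext1
        · simp [r, o, tO]
        · simp [r', o', tO, tP, pullback.condition])
      have hinv : inv' ≫ δ = tO := hδ.lift_snd _ _ _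
      have hmono : Mono δ := inferInstanceAs (Mono (pullback.snd (pullback.diagonal f.hom) _))
      refine IsPullback.of_iso_pullback ⟨w⟩ ⟨tw, inv', ?_, ?_⟩ (pullback.lift_fst _ _ _) (pullback.lift_snd _ _ _)
      · rw [← cancel_mono δ]
        simp only [Category.assoc, Category.id_comp, hinv]
        refine pullback.hom_ext (by simp [tw, tO, o]) (pullback.hom_ext ?_ ?_)
        · simp [tw, tO, tP, o]
          exact δ ≫= hw
        · simp [tw, tO, tP, o']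
      · refine pullback.hom_ext ?_ ?_
        · simp [tw, reassoc_of% hinv, tO, tP, o']
        · simp [tw, reassoc_of% hinv, tO, o]
    exact Groth.Agent.AlgSpCov.locP_baseChange Groth.Agent.AlgSpCov.etaleLocal_flat hW Y.property hsq hlflat
  have hbY' : bY.hom ≫ r₂Y.hom = r₁Y.hom := congrArg InducedCategory.Hom.hom hbY
  refine Groth.Agent.AlgSpEN.eq_of_agree hqs hi hifp hFZ hj hU hp₂ hO hN o ho (sN ≫ a₁Y.hom ≫ p₁.hom) r r' hr hr'
    δ _ hδ hδflat _ _ ?_ ?_ fun T t lU hlU => ?_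
  · simp only [Category.assoc, h₂Y.w, reassoc_of% hbY', ← h₁Y.w]
    rw [reassoc_of% hsP₁, ← reassoc_of% hw]
  · have key : δ ≫ o ≫ sN = δ ≫ o' ≫ sP := by
      refine h₁Y.hom_ext ?_ ?_
      · simp only [Category.assoc, hsP₁]
        exact δ ≫= hw
      · simp only [Category.assoc, hsP₂]
        simpa only [r, r', Category.assoc] using hδr
    simpa only [Category.assoc] using congrArg (· ≫ bY.hom ≫ a₂Y.hom) key
  · obtain ⟨sU, hsU, -⟩ := h₁U.exists_lift (t ≫ o ≫ sN ≫ a₁Y.hom) lU (by simpa only [Category.assoc] using hlU.symm)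
    have e₁ := agree_UY h₁V h₂V hbV₁ hbV₂ sU (t ≫ o ≫ sN) (by simpa only [Category.assoc] using hsU)
    have e₂ := agree_UY h₁V h₂V hbV₁ hbV₂ sU (t ≫ o' ≫ sP) (by
      simp only [Category.assoc, hsP₁]
      rw [hsU, hw])
    simpa only [Category.assoc] using e₁.symm.trans e₂

/-- Let `f : Y → X` be a quasi-compact quasi-separated morphism of algebraic spaces over `S`, `i : Z →
X` a closed immersion of finite presentation such that `f⁻¹Z → Z` is an isomorphism and `f` is flat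
at every point of `|f⁻¹Z|`, and let `U ⊂ X` be the open subspace complementary to `Z`, with `V = U
×_X Y`. Let `X'₁`, `X'₂` be algebraic spaces over `X` with `X'₂ → X` separated. Then every morphism
between their images in the glueing category — morphisms of the base changes to `U`, to `V` and to
`Y`, over `U`, `V`, `Y` and compatible with the restriction maps — is induced by a unique morphism
`X'₁ → X'₂` over `X`. -/
theorem result {S : Scheme.{u}} {X Y Z FZ U : AlgSp.Space S} (f : Y ⟶ X)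
    (hqc : AlgSp.IsQuasiCompactMor f.hom) (hqs : AlgSp.IsQuasiSeparatedMor f.hom) (i : Z ⟶ X)
    (hi : AlgSp.RepWith @IsClosedImmersion i.hom) (hifp : AlgSp.LocP @LocallyOfFinitePresentation i.hom)
    (iY : FZ ⟶ Y) (fZ : FZ ⟶ Z) (hFZ : IsPullback iY.hom fZ.hom f.hom i.hom) [IsIso fZ]
    (hflat : ∀ y ∈ Set.range (AlgSp.Points.map iY.hom), AlgSp.IsFlatAtMor f.hom y) (j : U ⟶ X)
    (hj : AlgSp.RepWith @IsOpenImmersion j.hom)
    (hU : Set.range (AlgSp.Points.map j.hom) = (Set.range (AlgSp.Points.map i.hom))ᶜ)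
    {X₁ X₂ A₁U A₂U A₁Y A₂Y A₁V A₂V : AlgSp.Space S} (p₁ : X₁ ⟶ X) (p₂ : X₂ ⟶ X)
    (hp₂ : AlgSp.IsSeparatedMor p₂.hom)
    (a₁U : A₁U ⟶ X₁) (r₁U : A₁U ⟶ U) (h₁U : IsPullback a₁U.hom r₁U.hom p₁.hom j.hom)
    (a₂U : A₂U ⟶ X₂) (r₂U : A₂U ⟶ U) (h₂U : IsPullback a₂U.hom r₂U.hom p₂.hom j.hom)
    (a₁Y : A₁Y ⟶ X₁) (r₁Y : A₁Y ⟶ Y) (h₁Y : IsPullback a₁Y.hom r₁Y.hom p₁.hom f.hom)
    (a₂Y : A₂Y ⟶ X₂) (r₂Y : A₂Y ⟶ Y) (h₂Y : IsPullback a₂Y.hom r₂Y.hom p₂.hom f.hom)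
    (m₁U : A₁V ⟶ A₁U) (m₁Y : A₁V ⟶ A₁Y) (h₁V : IsPullback m₁U.hom m₁Y.hom a₁U.hom a₁Y.hom)
    (m₂U : A₂V ⟶ A₂U) (m₂Y : A₂V ⟶ A₂Y) (h₂V : IsPullback m₂U.hom m₂Y.hom a₂U.hom a₂Y.hom)
    (bU : A₁U ⟶ A₂U) (hbU : bU ≫ r₂U = r₁U) (bY : A₁Y ⟶ A₂Y) (hbY : bY ≫ r₂Y = r₁Y)
    (bV : A₁V ⟶ A₂V) (hbV₁ : bV ≫ m₂U = m₁U ≫ bU) (hbV₂ : bV ≫ m₂Y = m₁Y ≫ bY) :
    ∃! a : X₁ ⟶ X₂, a ≫ p₂ = p₁ ∧ a₁U ≫ a = bU ≫ a₂U ∧ a₁Y ≫ a = bY ≫ a₂Y := by
  obtain ⟨κ, W, g, hcov, hlift⟩ :=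
    Groth.Agent.AlgSpEN.exists_formalGlue_cover f hqc i hi hifp iY fZ hFZ hflat j hj hU
  have hW : ∀ k, AlgSp.IsAlgSpace ((AlgSp.yon S).obj (W k)) := fun k => AlgSp.IsAlgSpace.yon_obj _
  have hP : ∀ k, AlgSp.IsAlgSpace (pullback p₁.hom (g k)) := fun k =>
    Groth.Agent.AlgSp.isAlgSpace_pullback X.property X₁.property (hW k) _ _
  have hcov₁ := Groth.Agent.AlgSpCov.isFpqcCover_baseChange X.property hW
    (fun k => IsPullback.of_hasPullback p₁.hom (g k)) hcov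
  have e₁U : bU.hom ≫ r₂U.hom = r₁U.hom := congrArg InducedCategory.Hom.hom hbU
  have e₁Y : bY.hom ≫ r₂Y.hom = r₁Y.hom := congrArg InducedCategory.Hom.hom hbY
  have hmU : Mono a₁U.hom := by
    have := Groth.Agent.AlgSpB.mono_of_isOpenImmersion hj
    exact ⟨fun {M} s s' e => h₁U.hom_ext e ((cancel_mono j.hom).1 (by
      rw [Category.assoc, Category.assoc, ← h₁U.w, reassoc_of% e]))⟩
  have UY : ∀ {M : AlgSp.Sp S} (s : M ⟶ A₁U.obj) (s' : M ⟶ A₁Y.obj),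
      s ≫ a₁U.hom = s' ≫ a₁Y.hom → s ≫ bU.hom ≫ a₂U.hom = s' ≫ bY.hom ≫ a₂Y.hom :=
    fun s s' e => agree_UY h₁V h₂V hbV₁ hbV₂ s s' e
  have UU : ∀ {M : AlgSp.Sp S} (s s' : M ⟶ A₁U.obj),
      s ≫ a₁U.hom = s' ≫ a₁U.hom → s ≫ bU.hom ≫ a₂U.hom = s' ≫ bU.hom ≫ a₂U.hom :=
    fun s s' e => by rw [(cancel_mono a₁U.hom).1 e]
  -- the local morphisms
  have hloc : ∀ k, ∃ b : pullback p₁.hom (g k) ⟶ X₂.obj, b ≫ p₂.hom = pullback.fst p₁.hom (g k) ≫ p₁.hom ∧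
      ((∃ s, s ≫ a₁U.hom = pullback.fst p₁.hom (g k) ∧ b = s ≫ bU.hom ≫ a₂U.hom) ∨
      (∃ l s, l ≫ f.hom = g k ∧ AlgSp.LocP @Flat l ∧ s ≫ a₁Y.hom = pullback.fst p₁.hom (g k) ∧
        s ≫ r₁Y.hom = pullback.snd p₁.hom (g k) ≫ l ∧ b = s ≫ bY.hom ≫ a₂Y.hom)) := by
    intro k
    rcases hlift k with ⟨l, hl⟩ | ⟨l, hl, hlflat⟩
    · obtain ⟨s, hs, -⟩ := h₁U.exists_lift (pullback.fst p₁.hom (g k)) (pullback.snd p₁.hom (g k) ≫ l) (by
        rw [pullback.condition, Category.assoc, hl])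
      refine ⟨_, ?_, Or.inl ⟨s, hs, rfl⟩⟩
      simp only [Category.assoc, h₂U.w, reassoc_of% e₁U, ← h₁U.w, reassoc_of% hs]
    · obtain ⟨s, hs, hs'⟩ := h₁Y.exists_lift (pullback.fst p₁.hom (g k)) (pullback.snd p₁.hom (g k) ≫ l) (by
        rw [pullback.condition, Category.assoc, hl])
      refine ⟨_, ?_, Or.inr ⟨l, s, hl, hlflat, hs, hs', rfl⟩⟩
      simp only [Category.assoc, h₂Y.w, reassoc_of% e₁Y, ← h₁Y.w, reassoc_of% hs]
  choose bk hbk hgood using hloc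
  obtain ⟨b, hbp, hb⟩ := Groth.Agent.AlgSpEN.exists_hom_of_fpqc X₁.property X₂.property X.property p₁.hom p₂.hom
    hp₂ hP hcov₁ bk hbk fun k k' M x y e => by
      rcases hgood k with ⟨s, hs, hb⟩ | ⟨l, s, hl, hlf, hs, hs', hb⟩ <;>
        rcases hgood k' with ⟨t, ht, hb'⟩ | ⟨l', t, hl', hlf', ht, ht', hb'⟩ <;> rw [hb, hb']
      · simpa only [Category.assoc] using UU (x ≫ s) (y ≫ t) (by simpa only [Category.assoc, hs, ht] using e)
      · simpa only [Category.assoc] using UY (x ≫ s) (y ≫ t) (by simpa only [Category.assoc, hs, ht] using e)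
      · simpa only [Category.assoc] using (UY (y ≫ t) (x ≫ s) (by simpa only [Category.assoc, hs, ht] using e.symm)).symm
      · exact agree_YY hqs hi hifp hFZ hj hU hp₂ h₁U h₁Y h₂Y h₁V h₂V hbY hbV₁ hbV₂ (hW k') (g k')
          (hcov.1 k') l' hl' hlf' (hP k) s t ht ht' x y (by rw [hs]; exact e)
  refine ⟨ObjectProperty.homMk b, ⟨ObjectProperty.hom_ext _ hbp, ObjectProperty.hom_ext _ ?_,
    ObjectProperty.hom_ext _ ?_⟩, ?_⟩
  · refine Groth.Agent.AlgSpEN.hom_ext_fpqc A₁U.property X₂.property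
      (fun k => Groth.Agent.AlgSp.isAlgSpace_pullback X₁.property A₁U.property (hP k) a₁U.hom _)
      (Groth.Agent.AlgSpCov.isFpqcCover_baseChange X₁.property hP
        (fun k => IsPullback.of_hasPullback a₁U.hom (pullback.fst p₁.hom (g k))) hcov₁) fun k => ?_
    change pullback.fst _ _ ≫ a₁U.hom ≫ b = pullback.fst _ _ ≫ bU.hom ≫ a₂U.hom
    rw [pullback.condition_assoc, hb]
    rcases hgood k with ⟨s, hs, hb'⟩ | ⟨l, s, hl, hlf, hs, hs', hb'⟩ <;> rw [hb']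
    · simpa only [Category.assoc] using UU (pullback.snd _ _ ≫ s) (pullback.fst _ _) (by
        rw [Category.assoc, hs]; exact pullback.condition.symm)
    · simpa only [Category.assoc] using (UY (pullback.fst _ _) (pullback.snd _ _ ≫ s) (by
        rw [Category.assoc, hs]; exact pullback.condition)).symm
  · refine Groth.Agent.AlgSpEN.hom_ext_fpqc A₁Y.property X₂.property
      (fun k => Groth.Agent.AlgSp.isAlgSpace_pullback X₁.property A₁Y.property (hP k) a₁Y.hom _)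
      (Groth.Agent.AlgSpCov.isFpqcCover_baseChange X₁.property hP
        (fun k => IsPullback.of_hasPullback a₁Y.hom (pullback.fst p₁.hom (g k))) hcov₁) fun k => ?_
    change pullback.fst _ _ ≫ a₁Y.hom ≫ b = pullback.fst _ _ ≫ bY.hom ≫ a₂Y.hom
    rw [pullback.condition_assoc, hb]
    rcases hgood k with ⟨s, hs, hb'⟩ | ⟨l, s, hl, hlf, hs, hs', hb'⟩ <;> rw [hb']
    · simpa only [Category.assoc] using UY (pullback.snd _ _ ≫ s) (pullback.fst _ _) (by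
        rw [Category.assoc, hs]; exact pullback.condition.symm)
    · have h := agree_YY hqs hi hifp hFZ hj hU hp₂ h₁U h₁Y h₂Y h₁V h₂V hbY hbV₁ hbV₂ (hW k) (g k)
        (hcov.1 k) l hl hlf A₁Y.property (𝟙 _) s hs hs' (pullback.fst a₁Y.hom _) (pullback.snd a₁Y.hom _)
        (by rw [Category.id_comp]; exact pullback.condition)
      simpa only [Category.id_comp] using h.symm
  · rintro b' ⟨-, hb'U, hb'Y⟩
    refine ObjectProperty.hom_ext _ (Groth.Agent.AlgSpEN.hom_ext_fpqc X₁.property X₂.property hP hcov₁ fun k => ?_)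
    change pullback.fst p₁.hom (g k) ≫ b'.hom = pullback.fst p₁.hom (g k) ≫ b
    have eU : a₁U.hom ≫ b'.hom = bU.hom ≫ a₂U.hom := congrArg InducedCategory.Hom.hom hb'U
    have eY : a₁Y.hom ≫ b'.hom = bY.hom ≫ a₂Y.hom := congrArg InducedCategory.Hom.hom hb'Y
    rw [hb]
    rcases hgood k with ⟨s, hs, hb'⟩ | ⟨l, s, hl, hlf, hs, hs', hb'⟩ <;> rw [hb', ← hs]
    · rw [Category.assoc, eU]
    · rw [Category.assoc, eY]

end Groth.Agent.S10720
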