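import Groth.Statements.S10721
import Groth.Agent.EtGlueLib.Relative

set_option autoImplicit false
universe u
open TensorProduct
open EtAlg

namespace Groth.Agent.S10721

/-- Glueing along a glueing pair detects closed immersions of affine schemes, stated for coordinate
rings. Let `(R → R', f)` be a glueing pair and `φ : A → B` a homomorphism of `R`-algebras with `A`,
`B` glueable as `R`-modules (so `Spec A`, `Spec B` are affine and glueable over `Spec R`). Then `φ`
is surjective (a closed immersion on spectra) if and only if `A_f → B_f` and `R' ⊗_R A → R' ⊗_R B`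
are surjective. -/
theorem result (R : Type u) [CommRing R] (R' : Type u) [CommRing R'] [Algebra R R'] (f : R)
    (hRR' : EtGlue.IsGlueingPair R R' f) (A B : Type u) [CommRing A] [Algebra R A] [CommRing B] [Algebra R B]
    (hA : EtGlue.IsGlueable R R' f A) (hB : EtGlue.IsGlueable R R' f B) (φ : A →ₐ[R] B) :
    Function.Surjective φ ↔
      Function.Surjective (Localization.awayMap φ.toRingHom (algebraMap R A f)) ∧ Function.Surjective (Algebra.TensorProduct.map (AlgHom.id R R') φ).toRingHom := by
  refine Groth.Agent.EtGlueLib.relative_setup (R' := R') (f := f) φ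
    (fun A' Ag B B' Bg _ _ _ _ _ _ _ _ _ _ => Function.Surjective (algebraMap A B) ↔
      Function.Surjective (algebraMap Ag Bg) ∧ Function.Surjective (algebraMap A' B')) ?_
  intro A' Ag B' Bg _ _ _ _ _ _ _ _ _ _ _ _ _ _ _ _ _ _ _ _ _ _ _ _ _ _
  have hq := Groth.Agent.EtGlueLib.quotPowBijective_baseChange (f := f) hRR'.1 A A'
  refine ⟨fun hs => ?_, fun ⟨h1, h2⟩ => Groth.Agent.EtGlueLib.surjective_of_glue (B' := B') (Bg := Bg) hq h2 h1⟩
  have key : ∀ (T BT : Type u) [CommRing T] [Algebra A T] [CommRing BT] [Algebra A BT] [Algebra T BT] [Algebra B BT]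
      [IsScalarTower A T BT] [IsScalarTower A B BT] [Algebra.IsPushout A T B BT], Function.Surjective (algebraMap T BT) := by
    intro T BT _ _ _ _ _ _ _ _ _ y
    induction y using (Algebra.IsPushout.out (R := A) (S := T) (R' := B) (S' := BT)).inductionOn with
    | zero => exact ⟨0, map_zero _⟩
    | tmul b =>
      obtain ⟨a, rfl⟩ := hs b
      exact ⟨algebraMap A T a, by
        rw [AlgHom.toLinearMap_apply, IsScalarTower.coe_toAlgHom', ← IsScalarTower.algebraMap_apply,
          ← IsScalarTower.algebraMap_apply]⟩
    | smul t x hx =>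
      obtain ⟨s, rfl⟩ := hx
      exact ⟨t * s, by rw [map_mul, Algebra.smul_def]⟩
    | add x y hx hy =>
      obtain ⟨s, rfl⟩ := hx; obtain ⟨t, rfl⟩ := hy
      exact ⟨s + t, map_add _ _ _⟩
  exact ⟨key Ag Bg, key A' B'⟩

end Groth.Agent.S10721
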