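import Groth.Statements.S10724
import Groth.Agent.EtGlueLib.Relative

set_option autoImplicit false
universe u
open TensorProduct
open EtAlg

namespace Groth.Agent.S10724

/-- Glueing along a glueing pair detects etale morphisms of affine schemes, stated for coordinate rings.
Let `(R → R', f)` be a glueing pair and `φ : A → B` a homomorphism of `R`-algebras with `A`, `B`
glueable as `R`-modules (so `Spec A`, `Spec B` are affine and glueable over `Spec R`). Then `φ` is
etale if and only if `A_f → B_f` and `R' ⊗_R A → R' ⊗_R B` are. -/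
theorem result (R : Type u) [CommRing R] (R' : Type u) [CommRing R'] [Algebra R R'] (f : R)
    (hRR' : EtGlue.IsGlueingPair R R' f) (A B : Type u) [CommRing A] [Algebra R A] [CommRing B] [Algebra R B]
    (hA : EtGlue.IsGlueable R R' f A) (hB : EtGlue.IsGlueable R R' f B) (φ : A →ₐ[R] B) :
    φ.toRingHom.Etale ↔ (Localization.awayMap φ.toRingHom (algebraMap R A f)).Etale ∧ (Algebra.TensorProduct.map (AlgHom.id R R') φ).toRingHom.Etale := by
  simp only [RingHom.Etale.iff_flat_and_formallyUnramified]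
  refine Groth.Agent.EtGlueLib.relative_setup (R' := R') (f := f) φ
    (fun A' Ag B B' Bg _ _ _ _ _ _ _ _ _ _ => (Module.Flat A B ∧ Algebra.FormallyUnramified A B ∧ Algebra.FinitePresentation A B) ↔ (Module.Flat Ag Bg ∧ Algebra.FormallyUnramified Ag Bg ∧ Algebra.FinitePresentation Ag Bg) ∧ (Module.Flat A' B' ∧ Algebra.FormallyUnramified A' B' ∧ Algebra.FinitePresentation A' B')) ?_
  intro A' Ag B' Bg _ _ _ _ _ _ _ _ _ _ _ _ _ _ _ _ _ _ _ _ _ _ _ _ _ _
  have hq := Groth.Agent.EtGlueLib.quotPowBijective_baseChange (f := f) hRR'.1 A A'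
  have hA' := Groth.Agent.EtGlueLib.isGlueingPair_of_isGlueable hRR' A A' hA
  constructor
  · rintro ⟨_, _, _⟩
    exact ⟨⟨Module.Flat.of_linearEquiv (Groth.Agent.EtGlueLib.pushoutEquiv A B Ag Bg).toLinearEquiv.symm,
      Algebra.FormallyUnramified.of_equiv (Groth.Agent.EtGlueLib.pushoutEquiv A B Ag Bg),
      Algebra.FinitePresentation.equiv (Groth.Agent.EtGlueLib.pushoutEquiv A B Ag Bg)⟩,
      Module.Flat.of_linearEquiv (Groth.Agent.EtGlueLib.pushoutEquiv A B A' B').toLinearEquiv.symm,
      Algebra.FormallyUnramified.of_equiv (Groth.Agent.EtGlueLib.pushoutEquiv A B A' B'),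
      Algebra.FinitePresentation.equiv (Groth.Agent.EtGlueLib.pushoutEquiv A B A' B')⟩
  · rintro ⟨⟨_, _, _⟩, _, _, _⟩
    haveI hfl : Module.Flat A B := Groth.Agent.EtGlueLib.flat_of_glue (B' := B') (Ag := Ag) (Bg := Bg) hA'
    exact ⟨hfl, Groth.Agent.EtGlueLib.subsingleton_kaehler_of_glue (B' := B') (Ag := Ag) (Bg := Bg) hq,
      Groth.Agent.EtGlueLib.finitePresentation_of_glue (B' := B') (Ag := Ag) (Bg := Bg) hq⟩

end Groth.Agent.S10724
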