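import Groth.Statements.S10726
import Groth.Agent.AlgSpEN.GlueHom.Global
import Groth.Agent.AlgSp.ElemDist

set_option backward.isDefEq.respectTransparency false
set_option backward.isDefEq.respectTransparency.types false

set_option autoImplicit false
universe u
open CategoryTheory CategoryTheory.Limits AlgebraicGeometry TensorProduct
open AlgSp

namespace Groth.Agent.S10726

open Groth.Agent.S10707 (specOver)
open Groth.Agent.AlgSpEN.GlueHom

variable {R R' : Type u} [CommRing R] [CommRing R'] [Algebra R R'] {f : R}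

/-- Morphisms to the base are unique. -/
theorem hterm {T : Sp (Spec (CommRingCat.of R))}
    (u v : T ⟶ (yon _).obj (Over.mk (𝟙 (Spec (CommRingCat.of R))))) : u = v :=
  (Limits.IsTerminal.isTerminalObj (yon _) _ Over.mkIdTerminal).hom_ext u v

/-- Maps to the first part of the base exist once the parameter is invertible. -/
theorem exists_toU {D : Type u} [CommRing D] [Algebra R D] (hu : IsUnit (algebraMap R D f)) :
    Nonempty (specOver R D ⟶ specOver R (Localization.Away f)) :=
  ⟨sp { IsLocalization.Away.lift (S := Localization.Away f) f hu with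
          commutes' := fun r => IsLocalization.Away.lift_eq f hu r }⟩

/-- Maps to the first part of the base invert the parameter. -/
theorem isUnit_of_toU {D : Type u} [CommRing D] [Algebra R D]
    (γ : specOver R D ⟶ specOver R (Localization.Away f)) : IsUnit (algebraMap R D f) := by
  obtain ⟨θ, -⟩ := exists_eq_sp γ
  rw [← θ.commutes f]
  exact (IsLocalization.Away.algebraMap_isUnit f).map θ

/-- Maps to the first part of the base are unique. -/
theorem toU_unique {D : Type u} [CommRing D] [Algebra R D]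
    (γ γ' : specOver R D ⟶ specOver R (Localization.Away f)) : γ = γ' := by
  obtain ⟨θ, rfl⟩ := exists_eq_sp γ
  obtain ⟨θ', rfl⟩ := exists_eq_sp γ'
  congr 1
  exact AlgHom.coe_ringHom_injective (IsLocalization.ringHom_ext (Submonoid.powers f)
    (RingHom.ext fun r => (θ.commutes r).trans (θ'.commutes r).symm))

set_option maxHeartbeats 1000000 in
/-- Let `(R → R', f)` be a glueing pair, `X = Spec R`, `U = Spec R_f`, `X' = Spec R'`, `U' = U ×_X X'`,
and let `Y`, `Z` be algebraic spaces over `X`, glueable for `(R → R', f)`, with `Z` having affine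
diagonal over `X`. Then morphisms `a : U ×_X Y → U ×_X Z` over `U` and `b : X' ×_X Y → X' ×_X Z`
over `X'` that induce the same morphism over `U'` are induced by a unique morphism `Y → Z` over `X`.
(The published statement asks both spaces to have affine diagonal over `X`; this row asks it only of
`Z`, which is all the argument uses.) -/
theorem result (R : Type u) [CommRing R] (R' : Type u) [CommRing R'] [Algebra R R']
    (f : R) (hRR' : EtGlue.IsGlueingPair R R' f) {Y Z YU ZU YX ZX YU' ZU' : AlgSp.Space (Spec (CommRingCat.of R))}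
    (hY : (∀ (A : Type u) [CommRing A] [Algebra R A]
      (g : (AlgSp.yon (Spec (CommRingCat.of R))).obj (Over.mk (Spec.map (CommRingCat.ofHom (algebraMap R A))) : Over (Spec (CommRingCat.of R))) ⟶ Y.obj),
      AlgSp.RepWith @Etale g → EtGlue.IsGlueable R R' f A))
    (hZ : (∀ (A : Type u) [CommRing A] [Algebra R A]
      (g : (AlgSp.yon (Spec (CommRingCat.of R))).obj (Over.mk (Spec.map (CommRingCat.ofHom (algebraMap R A))) : Over (Spec (CommRingCat.of R))) ⟶ Z.obj),
      AlgSp.RepWith @Etale g → EtGlue.IsGlueable R R' f A))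
    (hZd : AlgSp.IsAffineMor (Limits.diag Z.obj)) (πY : Y.obj ⟶ (AlgSp.yon (Spec (CommRingCat.of R))).obj (Over.mk (𝟙 _)))
    (πZ : Z.obj ⟶ (AlgSp.yon (Spec (CommRingCat.of R))).obj (Over.mk (𝟙 _)))
    (inU : (Over.mk (Spec.map (CommRingCat.ofHom (algebraMap R (Localization.Away f)))) : Over (Spec (CommRingCat.of R))) ⟶ Over.mk (𝟙 _))
    (inX : (Over.mk (Spec.map (CommRingCat.ofHom (algebraMap R R'))) : Over (Spec (CommRingCat.of R))) ⟶ Over.mk (𝟙 _))
    (uY : YU ⟶ Y) (sY : YU.obj ⟶ (AlgSp.yon (Spec (CommRingCat.of R))).obj (Over.mk (Spec.map (CommRingCat.ofHom (algebraMap R (Localization.Away f)))) : Over (Spec (CommRingCat.of R))))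
    (hYU : IsPullback uY.hom sY πY ((AlgSp.yon (Spec (CommRingCat.of R))).map inU))
    (uZ : ZU ⟶ Z) (sZ : ZU.obj ⟶ (AlgSp.yon (Spec (CommRingCat.of R))).obj (Over.mk (Spec.map (CommRingCat.ofHom (algebraMap R (Localization.Away f)))) : Over (Spec (CommRingCat.of R))))
    (hZU : IsPullback uZ.hom sZ πZ ((AlgSp.yon (Spec (CommRingCat.of R))).map inU))
    (xY : YX ⟶ Y) (rY : YX.obj ⟶ (AlgSp.yon (Spec (CommRingCat.of R))).obj (Over.mk (Spec.map (CommRingCat.ofHom (algebraMap R R'))) : Over (Spec (CommRingCat.of R))))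
    (hYX : IsPullback xY.hom rY πY ((AlgSp.yon (Spec (CommRingCat.of R))).map inX))
    (xZ : ZX ⟶ Z) (rZ : ZX.obj ⟶ (AlgSp.yon (Spec (CommRingCat.of R))).obj (Over.mk (Spec.map (CommRingCat.ofHom (algebraMap R R'))) : Over (Spec (CommRingCat.of R))))
    (hZX : IsPullback xZ.hom rZ πZ ((AlgSp.yon (Spec (CommRingCat.of R))).map inX))
    (mY₁ : YU' ⟶ YU) (mY₂ : YU' ⟶ YX) (hYU' : IsPullback mY₁.hom mY₂.hom uY.hom xY.hom)
    (mZ₁ : ZU' ⟶ ZU) (mZ₂ : ZU' ⟶ ZX) (hZU' : IsPullback mZ₁.hom mZ₂.hom uZ.hom xZ.hom)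
    (a : YU ⟶ ZU) (ha : a.hom ≫ sZ = sY) (b : YX ⟶ ZX) (hb : b.hom ≫ rZ = rY) (c : YU' ⟶ ZU')
    (hc₁ : c ≫ mZ₁ = mY₁ ≫ a) (hc₂ : c ≫ mZ₂ = mY₂ ≫ b) :
    ∃! φ : Y ⟶ Z, uY ≫ φ = a ≫ uZ ∧ xY ≫ φ = b ≫ xZ := by
  classical
  obtain ⟨U, p, hp, hps⟩ := Y.property.atlas
  choose A cA aA i w hi hw using fun x : U.left => Groth.Agent.S10706.exists_affine_nhd U x
  let g : ∀ x, (yon _).obj (specOver R (A x)) ⟶ Y.obj := fun x => (yon _).map (i x) ≫ p
  have hg : ∀ x, RepWith @Etale (g x) := fun x => by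
    have := hi x
    exact Groth.Agent.AlgSpB.repWith_etale_map_comp (i x) hp
  have hgs : ∀ y, ∃ x t, Points.ofPt (g x) t = y := fun y => by
    obtain ⟨x, rfl⟩ := Groth.Agent.AlgSpB.surjective_ofPt hps y
    exact ⟨x, w x, (Groth.Agent.AlgSpB.ofPt_map_comp (i x) p (w x)).trans (congrArg _ (hw x))⟩
  -- lifts to the two parts
  have hliftU : ∀ (D : Type u) [CommRing D] [Algebra R D] (d : (yon _).obj (specOver R D) ⟶ Y.obj),
      IsUnit (algebraMap R D f) → ∃ k, k ≫ uY.hom = d := fun D _ _ d hu => by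
    obtain ⟨γ⟩ := exists_toU hu
    exact ⟨hYU.lift d ((yon _).map γ) (hterm _ _), hYU.lift_fst _ _ _⟩
  have huniqU : ∀ (D : Type u) [CommRing D] [Algebra R D] (k k' : (yon _).obj (specOver R D) ⟶ YU.obj),
      k ≫ uY.hom = k' ≫ uY.hom → k = k' := fun D _ _ k k' e => hYU.hom_ext e (by
    obtain ⟨γ, hγ⟩ := (yon _).map_surjective (k ≫ sY)
    obtain ⟨γ', hγ'⟩ := (yon _).map_surjective (k' ≫ sY)
    rw [← hγ, ← hγ', toU_unique γ γ'])
  have hliftX : ∀ (D : Type u) [CommRing D] [Algebra R D] (x : R' →ₐ[R] D)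
      (d : (yon _).obj (specOver R D) ⟶ Y.obj), ∃ k, k ≫ xY.hom = d ∧ k ≫ rY = (yon _).map (sp x) :=
    fun D _ _ x d => ⟨hYX.lift d ((yon _).map (sp x)) (hterm _ _), hYX.lift_fst _ _ _, hYX.lift_snd _ _ _⟩
  -- the morphisms on the charts
  have hloc : ∀ (A : Type u) [CommRing A] [Algebra R A] (g : (yon _).obj (specOver R A) ⟶ Y.obj),
      RepWith @Etale g → ∃ s : (yon _).obj (specOver R A) ⟶ Z.obj,
        (∀ (D : Type u) [CommRing D] [Algebra R D] (v : A →ₐ[R] D) (k : (yon _).obj (specOver R D) ⟶ YU.obj),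
          k ≫ uY.hom = (yon _).map (sp v) ≫ g → (yon _).map (sp v) ≫ s = k ≫ a.hom ≫ uZ.hom) ∧
        ∀ (D : Type u) [CommRing D] [Algebra R D] (v : A →ₐ[R] D) (k : (yon _).obj (specOver R D) ⟶ YX.obj),
          k ≫ xY.hom = (yon _).map (sp v) ≫ g → (yon _).map (sp v) ≫ s = k ≫ b.hom ≫ xZ.hom := by
    intro A _ _ g hg
    have huA : IsUnit (algebraMap R (AU A f) f) := by
      rw [IsScalarTower.algebraMap_apply R A (AU A f)]
      exact IsLocalization.Away.algebraMap_isUnit _
    obtain ⟨kU, hkU⟩ := hliftU (AU A f) ((yon _).map (sp (incU A f)) ≫ g) huA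
    obtain ⟨kX, hkX, hkX'⟩ := hliftX (R' ⊗[R] A) (Algebra.TensorProduct.includeLeft : R' →ₐ[R] R' ⊗[R] A)
      ((yon _).map (sp (incX R' A)) ≫ g)
    have hcompat : Compat (f := f) (R' := R') (A := A) (kU ≫ a.hom ≫ uZ.hom) (kX ≫ b.hom ≫ xZ.hom) := by
      intro D _ _ u x hux
      let k := hYU'.lift ((yon _).map (sp u) ≫ kU) ((yon _).map (sp x) ≫ kX) (by
        rw [Category.assoc, Category.assoc, hkU, hkX, ← Category.assoc, ← Category.assoc, ← Functor.map_comp,
          ← Functor.map_comp, ← sp_comp, ← sp_comp, hux])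
      have e1 : mY₁.hom ≫ a.hom = c.hom ≫ mZ₁.hom := (congrArg (fun m => m.hom) hc₁).symm
      have e2 : mY₂.hom ≫ b.hom = c.hom ≫ mZ₂.hom := (congrArg (fun m => m.hom) hc₂).symm
      have h1 : (yon _).map (sp u) ≫ kU = k ≫ mY₁.hom := (hYU'.lift_fst _ _ _).symm
      have h2 : (yon _).map (sp x) ≫ kX = k ≫ mY₂.hom := (hYU'.lift_snd _ _ _).symm
      rw [reassoc_of% h1, reassoc_of% h2, reassoc_of% e1, reassoc_of% e2, hZU'.w]
    obtain ⟨s, hsU, hsX⟩ := exists_ext hRR' hZd
      (fun A₁ _ _ ψ hψ => hY A₁ ((yon _).map (sp ψ) ≫ g)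
        (by
          have : Etale (sp ψ).left := etale_sp.2 hψ
          exact Groth.Agent.AlgSpB.repWith_etale_map_comp (sp ψ) hg)) hcompat
    refine ⟨s, fun D _ _ v k hk => ?_, fun D _ _ v k hk => ?_⟩
    · obtain ⟨γ, -⟩ := (yon _).map_surjective (k ≫ sY)
      have hu : IsUnit (v (algebraMap R A f)) := by
        rw [AlgHom.commutes]
        exact isUnit_of_toU γ
      let u : AU A f →ₐ[R] D :=
        IsLocalization.liftAlgHom (M := Submonoid.powers (algebraMap R A f)) (f := v) (fun y => by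
          obtain ⟨_, n, rfl⟩ := y
          rw [map_pow]
          exact hu.pow n)
      have hu' : u.comp (incU A f) = v := AlgHom.ext fun x => IsLocalization.lift_eq _ _
      have e : k = (yon _).map (sp u) ≫ kU := huniqU D _ _ (by
        rw [hk, Category.assoc, hkU, ← Category.assoc, ← Functor.map_comp, ← sp_comp, hu'])
      rw [e, Category.assoc, ← hsU, ← Category.assoc ((yon _).map (sp u)), ← Functor.map_comp, ← sp_comp, hu']
    · obtain ⟨γ, hγ⟩ := (yon _).map_surjective (k ≫ rY)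
      obtain ⟨x₀, rfl⟩ := exists_eq_sp γ
      let x : R' ⊗[R] A →ₐ[R] D := Algebra.TensorProduct.lift x₀ v fun _ _ => Commute.all _ _
      have hx : x.comp (incX R' A) = v := AlgHom.ext fun m => by simp [x]
      have hx₀ : x.comp (Algebra.TensorProduct.includeLeft : R' →ₐ[R] R' ⊗[R] A) = x₀ :=
        AlgHom.ext fun m => by simp [x]
      have e : k = (yon _).map (sp x) ≫ kX := hYX.hom_ext (by
        rw [hk, Category.assoc, hkX, ← Category.assoc, ← Functor.map_comp, ← sp_comp, hx]) (by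
        rw [Category.assoc, hkX', ← Functor.map_comp, ← sp_comp, hx₀, hγ])
      rw [e, Category.assoc, ← hsX, ← Category.assoc ((yon _).map (sp x)), ← Functor.map_comp, ← sp_comp, hx]
  choose s hsU hsX using fun x => hloc (A x) (g x) (hg x)
  -- descent
  obtain ⟨φ, hφ⟩ := Groth.Agent.AlgSp.ElemDist.exists_desc_fam hg hgs s (by
    intro x x' T u u' e
    obtain ⟨W, l, r, sW⟩ := Groth.Agent.AlgSpB.exists_pullback_yon (hg x).1 (g x')
    obtain ⟨m, hm⟩ := (yon _).map_surjective (sW.lift u u' e)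
    have key : (yon _).map l ≫ s x = (yon _).map r ≫ s x' := by
      have hr : Etale r.left := (hg x).2 _ _ _ sW
      choose B cB aB j t hj ht using fun y : W.left => Groth.Agent.S10706.exists_affine_nhd W y
      refine Groth.Agent.AlgSp.InfGlue.hom_ext_cover (U := fun y => specOver R (B y)) j
        (fun y => ?_) (fun y => ⟨y, t y, ht y⟩) _ _ (fun y => ?_)
      · have := hj y
        infer_instance
      · obtain ⟨v, hv⟩ := exists_eq_sp (j y ≫ l)
        obtain ⟨v', hv'⟩ := exists_eq_sp (j y ≫ r)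
        rw [← Category.assoc, ← Category.assoc, ← Functor.map_comp, ← Functor.map_comp, ← hv, ← hv']
        have hvv : (yon _).map (sp v) ≫ g x = (yon _).map (sp v') ≫ g x' := by
          rw [hv, hv', Functor.map_comp, Functor.map_comp, Category.assoc, Category.assoc, sW.w]
        have hve : RepWith @Etale ((yon _).map (sp v') ≫ g x') := by
          have := hj y
          have : Etale (sp v').left := by rw [hv']; exact inferInstanceAs (Etale ((j y).left ≫ r.left))
          exact Groth.Agent.AlgSpB.repWith_etale_map_comp (sp v') (hg x')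
        refine eq_of_parts hRR'.1 (fun A₁ _ _ ψ hψ => hY A₁ ((yon _).map (sp ψ) ≫ (yon _).map (sp v') ≫ g x') (by
          have : Etale (sp ψ).left := etale_sp.2 hψ
          exact Groth.Agent.AlgSpB.repWith_etale_map_comp (sp ψ) hve)) _ _ ?_ ?_
        · obtain ⟨k, hk, -⟩ := hliftX (R' ⊗[R] B y) (Algebra.TensorProduct.includeLeft : R' →ₐ[R] R' ⊗[R] B y)
            ((yon _).map (sp (incX R' (B y))) ≫ (yon _).map (sp v) ≫ g x)
          rw [← Category.assoc, ← Category.assoc, ← Functor.map_comp, ← Functor.map_comp, ← sp_comp, ← sp_comp,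
            hsX x _ _ k (by rw [hk, sp_comp, Functor.map_comp, Category.assoc]),
            hsX x' _ _ k (by rw [hk, hvv, sp_comp, Functor.map_comp, Category.assoc])]
        · obtain ⟨k, hk⟩ := hliftU (AU (B y) f)
            ((yon _).map (sp (incU (B y) f)) ≫ (yon _).map (sp v) ≫ g x) (by
              rw [IsScalarTower.algebraMap_apply R (B y) (AU (B y) f)]
              exact IsLocalization.Away.algebraMap_isUnit _)
          rw [← Category.assoc, ← Category.assoc, ← Functor.map_comp, ← Functor.map_comp, ← sp_comp, ← sp_comp,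
            hsU x _ _ k (by rw [hk, sp_comp, Functor.map_comp, Category.assoc]),
            hsU x' _ _ k (by rw [hk, hvv, sp_comp, Functor.map_comp, Category.assoc])]
    rw [← sW.lift_fst u u' e, Category.assoc, key, ← Category.assoc, sW.lift_snd])
  -- morphisms are tested on charts
  have htest : ∀ (T : AlgSp.Space (Spec (CommRingCat.of R))) (π : T.obj ⟶ Y.obj) (m m' : T.obj ⟶ Z.obj),
      (∀ (x : U.left) (D : Type u) [CommRing D] [Algebra R D] (v : A x →ₐ[R] D)
        (k : (yon _).obj (specOver R D) ⟶ T.obj), k ≫ π = (yon _).map (sp v) ≫ g x → k ≫ m = k ≫ m') → m = m' := by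
    intro T π m m' h
    obtain ⟨U', p', hp', hps'⟩ := T.property.atlas
    have := Groth.Agent.AlgSp.isLocallySurjective_of_etale_surjective p' hp' hps'
    have : Epi p' := Sheaf.epi_of_isLocallySurjective _
    rw [← cancel_epi p']
    have hpb : ∀ y : U'.left, ∃ (x : U.left) (D : Type u) (_ : CommRing D) (_ : Algebra R D)
        (d : specOver R D ⟶ U') (z : (specOver R D).left) (v : A x →ₐ[R] D), Etale d.left ∧ d.left z = y ∧
        (yon _).map d ≫ p' ≫ π = (yon _).map (sp v) ≫ g x := by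
      intro y
      obtain ⟨x, t, ht⟩ := hgs (Points.ofPt (p' ≫ π) y)
      obtain ⟨W, l, r, sW⟩ := Groth.Agent.AlgSpB.exists_pullback_yon (hg x).1 (p' ≫ π)
      have hr : Etale r.left := (hg x).2 _ _ _ sW
      obtain ⟨o, -, ho⟩ := (Groth.Agent.AlgSpB.ofPt_eq_ofPt_iff sW t y).1 ht
      obtain ⟨D, _, _, j, z, hj, hz⟩ := Groth.Agent.S10706.exists_affine_nhd W o
      obtain ⟨v, hv⟩ := exists_eq_sp (j ≫ l)
      refine ⟨x, D, inferInstance, inferInstance, j ≫ r, z, v, inferInstanceAs (Etale (j.left ≫ r.left)), ?_, ?_⟩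
      · rw [← ho, ← hz]
        rfl
      · rw [hv, Functor.map_comp, Functor.map_comp, Category.assoc, Category.assoc, sW.w]
    choose x D cD aD d z v hd hz hdv using hpb
    refine Groth.Agent.AlgSp.InfGlue.hom_ext_cover (U := fun y => specOver R (D y)) d hd
      (fun y => ⟨y, z y, hz y⟩) _ _ fun y => ?_
    rw [← Category.assoc, ← Category.assoc]
    exact h (x y) (D y) (v y) _ (by rw [Category.assoc, hdv y])
  let Φ : Y ⟶ Z := ObjectProperty.homMk φ
  have hΦU : uY ≫ Φ = a ≫ uZ := ObjectProperty.hom_ext _ (htest YU uY.hom _ _ fun x D _ _ v k hk => by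
    change k ≫ uY.hom ≫ φ = k ≫ a.hom ≫ uZ.hom
    rw [reassoc_of% hk, hφ x, hsU x D v k hk])
  have hΦX : xY ≫ Φ = b ≫ xZ := ObjectProperty.hom_ext _ (htest YX xY.hom _ _ fun x D _ _ v k hk => by
    change k ≫ xY.hom ≫ φ = k ≫ b.hom ≫ xZ.hom
    rw [reassoc_of% hk, hφ x, hsX x D v k hk])
  refine ⟨Φ, ⟨hΦU, hΦX⟩, fun ψ hψ => ?_⟩
  exact Groth.Agent.S10707.result R R' f hRR' hY hZ ψ Φ πZ inU uY sY
    ((hterm πY (ψ.hom ≫ πZ)) ▸ hYU) inX xY rY ((hterm πY (ψ.hom ≫ πZ)) ▸ hYX)
    (hψ.1.trans hΦU.symm) (hψ.2.trans hΦX.symm)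

end Groth.Agent.S10726
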