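import Groth.Statements.S10730
import Groth.Agent.S10719
import Groth.Agent.AlgSpEN.EtaleBC

set_option autoImplicit false
universe w v u
open CategoryTheory CategoryTheory.Limits AlgebraicGeometry
open AlgSp

namespace Groth.Agent.S10730

open Groth.Agent.AlgSpEN.EtaleBC
open Groth.Agent.S10719 (exists_pullDiagram)

set_option backward.isDefEq.respectTransparency.types false
set_option backward.isDefEq.respectTransparency false

section

variable {S : Scheme.{u}} {B : AlgSp.Space S} {I : Type v} [Category.{w} I] (D : I ⥤ Over B) (c : Cocone D)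

/-- Full faithfulness of etale base change along the cocone. -/
def FF : Prop := ∀ (U U' : Over B) (u : U ⟶ c.pt) (u' : U' ⟶ c.pt), AlgSp.IsEtaleMor u.left.hom → AlgSp.IsEtaleMor u'.left.hom →
      ∀ (DU DU' : I ⥤ Over B) (αU : DU ⟶ D) (αU' : DU' ⟶ D) (ιU : DU ⟶ (Functor.const I).obj U)
        (ιU' : DU' ⟶ (Functor.const I).obj U'),
        (∀ i, IsPullback (ιU.app i).left.hom (αU.app i).left.hom u.left.hom (c.ι.app i).left.hom) →
        (∀ i, IsPullback (ιU'.app i).left.hom (αU'.app i).left.hom u'.left.hom (c.ι.app i).left.hom) →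
        ∀ (β : DU ⟶ DU'), β ≫ αU' = αU →
          ∃! m : U ⟶ U', m ≫ u' = u ∧ ∀ i, ιU.app i ≫ m = β.app i ≫ ιU'.app i

/-- The affine universal property. -/
def AP : Prop := ∀ (B' Zs Us : Over S) (b : (AlgSp.yon S).obj B' ⟶ B.obj) (z : Zs ⟶ B') {XB : AlgSp.Space S}
      (x₁ : XB ⟶ c.pt.left) (x₂ : XB.obj ⟶ (AlgSp.yon S).obj B') (uu : (AlgSp.yon S).obj Us ⟶ XB.obj)
      (DU : I ⥤ AlgSp.Space S) (αU : DU ⟶ D ⋙ Over.forget B)
      (ιU : DU ⟶ (Functor.const I).obj ((AlgSp.ofScheme S).obj Us))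
      (φ : DU ⟶ (Functor.const I).obj ((AlgSp.ofScheme S).obj Zs)),
      IsAffine B'.left → IsAffine Zs.left → IsAffine Us.left → AlgSp.RepWith @Etale b →
      IsPullback x₁.hom x₂ c.pt.hom.hom b → AlgSp.RepWith @Etale uu →
      (∀ i, IsPullback (ιU.app i).hom (αU.app i).hom (uu ≫ x₁.hom) (c.ι.app i).left.hom) →
      (∀ i, (φ.app i).hom ≫ (AlgSp.yon S).map z = (ιU.app i).hom ≫ uu ≫ x₂) →
        ∃! fz : Us ⟶ Zs, (AlgSp.yon S).map fz ≫ (AlgSp.yon S).map z = uu ≫ x₂ ∧
          ∀ i, (ιU.app i).hom ≫ (AlgSp.yon S).map fz = (φ.app i).hom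

/-- A scheme with a map to `B`, as an object over `B`. -/
noncomputable def ov (B : AlgSp.Space S) (T : Over S) (b : (AlgSp.yon S).obj T ⟶ B.obj) : Over B :=
  Over.mk (ObjectProperty.homMk (X := (AlgSp.ofScheme S).obj T) b)

variable {D c}

theorem cw {U U' : Over B} {u' : U' ⟶ c.pt} {DT : I ⥤ Over B} (αT : DT ⟶ D) (e : DT ⟶ (Functor.const I).obj U')
    (h : ∀ i, e.app i ≫ u' = αT.app i ≫ c.ι.app i) {DU' : I ⥤ Over B} {αU' : DU' ⟶ D}
    {ιU' : DU' ⟶ (Functor.const I).obj U'}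
    (hp : ∀ i, IsPullback (ιU'.app i).left.hom (αU'.app i).left.hom u'.left.hom (c.ι.app i).left.hom) :
    ∃ β : DT ⟶ DU', β ≫ αU' = αT ∧ ∀ i, β.app i ≫ ιU'.app i = e.app i := by
  choose l hl₁ hl₂ using fun i => exists_olift (hp i) (e.app i) (αT.app i) (h i)
  refine ⟨{ app := l, naturality := fun i j g => osq_hom_ext (hp j) ?_ ?_ }, by ext i : 2; exact hl₂ i, hl₁⟩
  · rw [Category.assoc, Category.assoc, hl₁, ιU'.naturality, e.naturality]
    exact (congrArg (fun q => q ≫ ((Functor.const I).obj U').map g) (hl₁ i)).symm.trans (Category.assoc _ _ _)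
  · rw [Category.assoc, Category.assoc, hl₂, αU'.naturality, αT.naturality]
    exact (congrArg (fun q => q ≫ D.map g) (hl₂ i)).symm.trans (Category.assoc _ _ _)

/-- `L0`: maps between etale objects over `c.pt` from maps of systems. -/
theorem existsUnique_hom (hF : FF D c) {U U' : Over B} (u : U ⟶ c.pt) (u' : U' ⟶ c.pt)
    (hu : AlgSp.IsEtaleMor u.left.hom) (hu' : AlgSp.IsEtaleMor u'.left.hom) {DU : I ⥤ Over B} (αU : DU ⟶ D)
    (ιU : DU ⟶ (Functor.const I).obj U)
    (hp : ∀ i, IsPullback (ιU.app i).left.hom (αU.app i).left.hom u.left.hom (c.ι.app i).left.hom)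
    (e : DU ⟶ (Functor.const I).obj U') (he : ∀ i, e.app i ≫ u' = αU.app i ≫ c.ι.app i) :
    ∃! m : U ⟶ U', m ≫ u' = u ∧ ∀ i, ιU.app i ≫ m = e.app i := by
  obtain ⟨DU', αU', ιU', hp'⟩ := exists_pullDiagram D c U' u'
  obtain ⟨β, hβ, hβ'⟩ := cw (U := U) αU e he hp'
  obtain ⟨m, ⟨h₁, h₂⟩, hm⟩ := hF U U' u u' hu hu' DU DU' αU αU' ιU ιU' hp hp' β hβ
  exact ⟨m, ⟨h₁, fun i => (h₂ i).trans (hβ' i)⟩,
    fun m' hm' => hm m' ⟨hm'.1, fun i => (hm'.2 i).trans (hβ' i).symm⟩⟩

/-- `L1`: maps to affine schemes etale over `B`. -/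
theorem existsUnique_toEtale (hF : FF D c) {U : Over B} (u : U ⟶ c.pt) (hu : AlgSp.IsEtaleMor u.left.hom)
    {DU : I ⥤ Over B} (αU : DU ⟶ D) (ιU : DU ⟶ (Functor.const I).obj U)
    (hp : ∀ i, IsPullback (ιU.app i).left.hom (αU.app i).left.hom u.left.hom (c.ι.app i).left.hom)
    {B' : Over S} {b : (AlgSp.yon S).obj B' ⟶ B.obj} (hb : AlgSp.RepWith @Etale b)
    (e : DU ⟶ (Functor.const I).obj (ov B B' b)) :
    ∃! m : U ⟶ ov B B' b, ∀ i, ιU.app i ≫ m = e.app i := by
  obtain ⟨P, p₁, p₂, hP⟩ := exists_opullback (Z := Over.mk (𝟙 B)) (Over.homMk c.pt.hom (Category.comp_id _) : c.pt ⟶ _)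
    (Over.homMk (ov B B' b).hom (Category.comp_id _) : ov B B' b ⟶ _)
  have hp₁ : AlgSp.IsEtaleMor p₁.left.hom := AlgSpCov.HomeoEt.isEtaleMor_of_baseChange
    (IsAlgSpace.yon_obj B') B.property P.left.property c.pt.left.property hP.flip (isEtaleMor_of_rep hb)
  have hterm : ∀ {T : Over B} (x y : T ⟶ Over.mk (𝟙 B)), x = y := fun x y =>
    Over.OverMorphism.ext ((Category.comp_id _).symm.trans ((Over.w x).trans ((Over.w y).symm.trans (Category.comp_id _))))
  choose l hl₁ hl₂ using fun i => exists_olift hP (αU.app i ≫ c.ι.app i) (e.app i) (hterm _ _)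
  let e' : DU ⟶ (Functor.const I).obj P :=
    { app := l
      naturality := fun i j g => osq_hom_ext hP
        (by
          rw [Category.assoc, hl₁]
          change _ = (l i ≫ 𝟙 P) ≫ p₁
          rw [Category.comp_id, hl₁, ← Category.assoc, αU.naturality, Category.assoc, c.w])
        (by
          rw [Category.assoc, hl₂, e.naturality]
          change e.app i ≫ 𝟙 _ = (l i ≫ 𝟙 P) ≫ p₂
          rw [Category.comp_id, Category.comp_id, hl₂]) }
  obtain ⟨m, ⟨h₁, h₂⟩, hm⟩ := existsUnique_hom hF u p₁ hu hp₁ αU ιU hp e' hl₁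
  refine ⟨m ≫ p₂, fun i => by rw [← Category.assoc, h₂]; exact hl₂ i, fun n hn => ?_⟩
  obtain ⟨n', hn'₁, hn'₂⟩ := exists_olift hP u n (hterm _ _)
  have : n' = m := hm n' ⟨hn'₁, fun i => osq_hom_ext hP
    (by rw [Category.assoc, hn'₁]; exact (osq_w (hp i)).trans (hl₁ i).symm)
    (by rw [Category.assoc, hn'₂]; exact (hn i).trans (hl₂ i).symm)⟩
  rw [← this, hn'₂]

/-- The condition determining the chart maps: compatibility with the system. -/
def Comp {U Zo T : Over B} {DU : I ⥤ Over B} (ιU : DU ⟶ (Functor.const I).obj U)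
    (e : DU ⟶ (Functor.const I).obj Zo) (t : T ⟶ U) (n : T ⟶ Zo) : Prop :=
  ∀ (i : I) (P : Over B) (p : P ⟶ DU.obj i) (q : P ⟶ T), q ≫ t = p ≫ ιU.app i → q ≫ n = p ≫ e.app i

theorem existsUnique_chart (hA : AP D c) {U : Over B} (u : U ⟶ c.pt) (hu : AlgSp.IsEtaleMor u.left.hom)
    {DU : I ⥤ Over B} (αU : DU ⟶ D) (ιU : DU ⟶ (Functor.const I).obj U)
    (hp : ∀ i, IsPullback (ιU.app i).left.hom (αU.app i).left.hom u.left.hom (c.ι.app i).left.hom)
    {B' Zs : Over S} (hB' : IsAffine B'.left) (hZs : IsAffine Zs.left) {b : (AlgSp.yon S).obj B' ⟶ B.obj}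
    (hb : AlgSp.RepWith @Etale b) {bz : (AlgSp.yon S).obj Zs ⟶ B.obj} (z : Zs ⟶ B')
    (zk : ov B Zs bz ⟶ ov B B' b) (hzk : zk.left.hom = (AlgSp.yon S).map z)
    (e : DU ⟶ (Functor.const I).obj (ov B Zs bz)) (mb : U ⟶ ov B B' b)
    (hmb : ∀ i, ιU.app i ≫ mb = e.app i ≫ zk)
    {Us : Over S} (hUs : IsAffine Us.left) {bt : (AlgSp.yon S).obj Us ⟶ B.obj} (t : ov B Us bt ⟶ U)
    (ht : AlgSp.IsEtaleMor t.left.hom) :
    ∃! n : ov B Us bt ⟶ ov B Zs bz, n ≫ zk = t ≫ mb ∧ Comp ιU e t n := by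
  obtain ⟨DT, αT, ιT, hpT⟩ := exists_pullDiagram D c (ov B Us bt) (t ≫ u)
  obtain ⟨τ, hτ, hτ'⟩ := cw (U := U) (u' := u) αT
    ({ app := fun i => ιT.app i ≫ t, naturality := fun i j g => by
        rw [← Category.assoc, ιT.naturality]
        change (ιT.app i ≫ 𝟙 _) ≫ t = (ιT.app i ≫ t) ≫ 𝟙 _
        rw [Category.comp_id, Category.comp_id] } : DT ⟶ (Functor.const I).obj U)
    (fun i => (Category.assoc _ _ _).trans (osq_w (hpT i))) hp
  have hτα : ∀ i, τ.app i ≫ αU.app i = αT.app i := fun i => congrArg (fun q => q.app i) hτ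
  let XB : AlgSp.Space S := ⟨pullback c.pt.hom.hom b,
    Groth.Agent.AlgSp.isAlgSpace_pullback B.property c.pt.left.property (IsAlgSpace.yon_obj B') _ _⟩
  let x₁ : XB ⟶ c.pt.left := ObjectProperty.homMk (pullback.fst c.pt.hom.hom b)
  let x₂ : XB.obj ⟶ (AlgSp.yon S).obj B' := pullback.snd c.pt.hom.hom b
  have hxw : (t ≫ u).left.hom ≫ c.pt.hom.hom = (t ≫ mb).left.hom ≫ b :=
    (whom (t ≫ u)).trans (whom (t ≫ mb)).symm
  let uu : (AlgSp.yon S).obj Us ⟶ XB.obj := pullback.lift (t ≫ u).left.hom (t ≫ mb).left.hom hxw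
  have huu₁ : uu ≫ x₁.hom = (t ≫ u).left.hom := pullback.lift_fst _ _ hxw
  have huu₂ : uu ≫ x₂ = (t ≫ mb).left.hom := pullback.lift_snd _ _ hxw
  have hx₁ : AlgSp.IsEtaleMor x₁.hom := AlgSpCov.HomeoEt.isEtaleMor_of_baseChange
    (IsAlgSpace.yon_obj B') B.property XB.property c.pt.left.property
    (IsPullback.of_hasPullback c.pt.hom.hom b).flip (isEtaleMor_of_rep hb)
  have huu : AlgSp.RepWith @Etale uu := repWith_of_isEtaleMor
    (AlgSpCov.HomeoEt.isEtaleMor_cancel (IsAlgSpace.yon_obj Us) XB.property c.pt.left.property uu x₁.hom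
      (by rw [huu₁]; exact isEtaleMor_comp ht hu) hx₁)
  let ιT' : DT ⋙ Over.forget B ⟶ (Functor.const I).obj ((AlgSp.ofScheme S).obj Us) :=
    { app := fun i => (ιT.app i).left
      naturality := fun i j g => congrArg (fun q => q.left) (ιT.naturality g) }
  let φ : DT ⋙ Over.forget B ⟶ (Functor.const I).obj ((AlgSp.ofScheme S).obj Zs) :=
    { app := fun i => (τ.app i ≫ e.app i).left
      naturality := fun i j g => congrArg (fun q => q.left) ((τ ≫ e).naturality g) }
  have hφ : ∀ i, τ.app i ≫ e.app i ≫ zk = ιT.app i ≫ t ≫ mb := fun i => by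
    rw [← hmb i, ← Category.assoc, hτ' i]
    exact Category.assoc _ _ _
  obtain ⟨fz, ⟨hf₁, hf₂⟩, hfu⟩ := hA B' Zs Us b z x₁ x₂ uu (DT ⋙ Over.forget B) (Functor.whiskerRight αT _) ιT' φ
    hB' hZs hUs hb (IsPullback.of_hasPullback _ _) huu
    (fun i => by rw [huu₁]; exact hpT i)
    (fun i => by rw [huu₂, ← hzk]; exact congrArg (fun q => q.left.hom) ((Category.assoc _ _ _).trans (hφ i)))
  obtain ⟨n, hn⟩ := exists_ohom (X := ov B Us bt) (Y := ov B Zs bz) ((AlgSp.yon S).map fz) (by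
    have h3 : (AlgSp.yon S).map z ≫ b = bz := hzk ▸ whom zk
    have h4 : (AlgSp.yon S).map fz ≫ (AlgSp.yon S).map z = (t ≫ mb).left.hom := hf₁.trans huu₂
    change (AlgSp.yon S).map fz ≫ bz = bt
    rw [← h3, ← Category.assoc, h4]
    exact whom (t ≫ mb))
  refine ⟨n, ⟨oext ?_, fun i P p q hpq => ?_⟩, fun n' hn' => oext ?_⟩
  · change n.left.hom ≫ zk.left.hom = _
    rw [hn, hzk]
    exact hf₁.trans huu₂
  · obtain ⟨r, hr₁, hr₂⟩ := exists_olift (hpT i) q (p ≫ αU.app i) (by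
      rw [← Category.assoc, hpq, Category.assoc, Category.assoc]
      exact congrArg (p ≫ ·) (osq_w (hp i)))
    have hrp : r ≫ τ.app i = p := osq_hom_ext (hp i)
      (by rw [Category.assoc, hτ' i]; change r ≫ ιT.app i ≫ t = _; rw [← Category.assoc, hr₁, hpq])
      (by rw [Category.assoc, hτα, hr₂])
    have hn₂ : ιT.app i ≫ n = τ.app i ≫ e.app i := oext (by
      change (ιT.app i).left.hom ≫ n.left.hom = _
      rw [hn]
      exact hf₂ i)
    rw [← hr₁, ← hrp, Category.assoc, Category.assoc]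
    exact congrArg (r ≫ ·) hn₂
  · obtain ⟨fz', hfz'⟩ := (AlgSp.yon S).map_surjective n'.left.hom
    rw [hn, ← hfz']
    refine congrArg _ (hfu fz' ⟨?_, fun i => ?_⟩)
    · rw [hfz', huu₂, ← hzk]
      exact congrArg (fun q => q.left.hom) hn'.1
    · rw [hfz']
      exact congrArg (fun q => q.left.hom) (hn'.2 i _ (τ.app i) (ιT.app i) (hτ' i).symm)

/-- `L2`: maps to affine schemes over affine schemes etale over `B`. -/
theorem existsUnique_toAffine (hF : FF D c) (hA : AP D c) {U : Over B} (u : U ⟶ c.pt)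
    (hu : AlgSp.IsEtaleMor u.left.hom) {DU : I ⥤ Over B} (αU : DU ⟶ D) (ιU : DU ⟶ (Functor.const I).obj U)
    (hp : ∀ i, IsPullback (ιU.app i).left.hom (αU.app i).left.hom u.left.hom (c.ι.app i).left.hom)
    {B' Zs : Over S} (hB' : IsAffine B'.left) (hZs : IsAffine Zs.left) {b : (AlgSp.yon S).obj B' ⟶ B.obj}
    (hb : AlgSp.RepWith @Etale b) {bz : (AlgSp.yon S).obj Zs ⟶ B.obj} (z : Zs ⟶ B')
    (zk : ov B Zs bz ⟶ ov B B' b) (hzk : zk.left.hom = (AlgSp.yon S).map z)
    (e : DU ⟶ (Functor.const I).obj (ov B Zs bz)) :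
    ∃! m : U ⟶ ov B Zs bz, ∀ i, ιU.app i ≫ m = e.app i := by
  obtain ⟨mb, hmb, hmbu⟩ := existsUnique_toEtale hF u hu αU ιU hp hb
    ({ app := fun i => e.app i ≫ zk, naturality := fun i j g => by
        rw [← Category.assoc, e.naturality]
        change (e.app i ≫ 𝟙 _) ≫ zk = (e.app i ≫ zk) ≫ 𝟙 _
        rw [Category.comp_id, Category.comp_id] } : DU ⟶ (Functor.const I).obj (ov B B' b))
  obtain ⟨κ, V, p, hV, hpe, hps⟩ := exists_affine_charts U.left.property
  choose t ht using fun k => exists_ohom (X := ov B (V k) (p k ≫ U.hom.hom)) (Y := U) (p k) rfl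
  have hte : ∀ k, AlgSp.IsEtaleMor (t k).left.hom := fun k => by rw [ht k]; exact isEtaleMor_of_rep (hpe k)
  choose n hn hnu using fun k => existsUnique_chart hA u hu αU ιU hp hB' hZs hb z zk hzk e mb hmb (hV k) (t k) (hte k)
  have hglue : ∀ k l (Z : Over S) (a : (AlgSp.yon S).obj Z ⟶ (AlgSp.yon S).obj (V k))
      (a' : (AlgSp.yon S).obj Z ⟶ (AlgSp.yon S).obj (V l)), a ≫ p k = a' ≫ p l →
      a ≫ (n k).left.hom = a' ≫ (n l).left.hom := by
    intro k l Z a a' haa
    have sq := (hpe k).1.isPullback (p l)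
    obtain ⟨a₀, rfl⟩ := (AlgSp.yon S).map_surjective a'
    refine (congrArg (fun x : (AlgSp.yon S).obj Z ⟶ (AlgSp.yon S).obj (V k) => x ≫ (n k).left.hom)
        ((hpe k).1.lift_fst (g := p l) a a₀ haa)).symm.trans (Eq.trans ?_
      (congrArg (fun x : Z ⟶ V l => (AlgSp.yon S).map x ≫ (n l).left.hom)
        ((hpe k).1.lift_snd (g := p l) a a₀ haa)))
    rw [Functor.map_comp, Category.assoc, Category.assoc]
    refine congrArg ((AlgSp.yon S).map ((hpe k).1.lift (g := p l) a a₀ haa) ≫ ·) ?_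
    have hse : Etale ((hpe k).1.snd (p l)).left := (hpe k).2 _ _ _ sq
    refine Groth.Agent.AlgSp.InfSpace.hom_ext_affine fun A str g hg => ?_
    let T := Over.mk str
    let bt : (AlgSp.yon S).obj T ⟶ B.obj :=
      ((AlgSp.yon S).map (g ≫ (hpe k).1.snd (p l)) ≫ p l) ≫ U.hom.hom
    obtain ⟨tT, htT⟩ := exists_ohom (X := ov B T bt) (Y := U) ((AlgSp.yon S).map (g ≫ (hpe k).1.snd (p l)) ≫ p l) rfl
    have hTe : AlgSp.IsEtaleMor tT.left.hom := by
      rw [htT]
      exact isEtaleMor_comp (isEtaleMor_of_rep ((repWith_yon_map_iff _ _).2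
        (by haveI := hg; haveI := hse; exact inferInstanceAs (Etale (g.left ≫ ((hpe k).1.snd (p l)).left)))))
        (isEtaleMor_of_rep (hpe l))
    obtain ⟨w₁, hw₁⟩ := exists_ohom (X := ov B T bt) (Y := ov B (V k) (p k ≫ U.hom.hom))
      ((AlgSp.yon S).map g ≫ (hpe k).1.fst (p l)) (by
        change _ ≫ p k ≫ _ = bt
        rw [Category.assoc, reassoc_of% sq.w]
        simp [bt])
    obtain ⟨w₂, hw₂⟩ := exists_ohom (X := ov B T bt) (Y := ov B (V l) (p l ≫ U.hom.hom))
      ((AlgSp.yon S).map (g ≫ (hpe k).1.snd (p l))) (Category.assoc _ _ _).symm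
    have hwt₁ : w₁ ≫ t k = tT := oext (by
      change w₁.left.hom ≫ (t k).left.hom = tT.left.hom
      rw [hw₁, ht, htT, Functor.map_comp, Category.assoc, Category.assoc, sq.w])
    have hwt₂ : w₂ ≫ t l = tT := oext (by
      change w₂.left.hom ≫ (t l).left.hom = tT.left.hom
      rw [hw₂, ht, htT])
    have key : ∀ (j : κ) (w : ov B T bt ⟶ ov B (V j) (p j ≫ U.hom.hom)), w ≫ t j = tT →
        (w ≫ n j) ≫ zk = tT ≫ mb ∧ Comp ιU e tT (w ≫ n j) := fun j w hw =>
      ⟨by rw [Category.assoc, (hn j).1, ← Category.assoc, hw],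
        fun i P q r hqr => by
          rw [← Category.assoc]
          exact (hn j).2 i P q (r ≫ w) (by rw [Category.assoc, hw]; exact hqr)⟩
    have := (existsUnique_chart hA u hu αU ιU hp hB' hZs hb z zk hzk e mb hmb
      (inferInstanceAs (IsAffine (Spec A))) tT hTe).unique (key k w₁ hwt₁) (key l w₂ hwt₂)
    have e' := congrArg (fun q => q.left.hom) this
    change w₁.left.hom ≫ (n k).left.hom = w₂.left.hom ≫ (n l).left.hom at e'
    rw [hw₁, hw₂, Functor.map_comp, Category.assoc, Category.assoc] at e'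
    exact e'
  obtain ⟨m₀, hm₀⟩ := Groth.Agent.AlgSp.ElemDist.exists_desc_fam hpe hps (fun k => (n k).left.hom) hglue
  obtain ⟨m, hm⟩ := exists_ohom (X := U) (Y := ov B Zs bz) m₀
    (Groth.Agent.AlgSp.ElemDist.hom_ext_fam hpe hps fun k => by
      rw [← Category.assoc, hm₀]
      exact whom (n k))
  refine ⟨m, fun i => oext ?_, fun m' hm' => ?_⟩
  · change (ιU.app i).left.hom ≫ m.left.hom = (e.app i).left.hom
    rw [hm]
    refine hom_ext_pull hpe hps (ιU.app i).left.hom fun k W a a' hw => ?_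
    rw [← Category.assoc, ← hw, Category.assoc, hm₀]
    obtain ⟨q, hq⟩ := exists_ohom (X := ov B W (a ≫ (DU.obj i).hom.hom)) (Y := DU.obj i) a rfl
    obtain ⟨r, hr⟩ := exists_ohom (X := ov B W (a ≫ (DU.obj i).hom.hom)) (Y := ov B (V k) (p k ≫ U.hom.hom)) a' (by
      change a' ≫ p k ≫ U.hom.hom = a ≫ _
      rw [← whom (ιU.app i), reassoc_of% hw]
      rfl)
    have := congrArg (fun q => q.left.hom) ((hn k).2 i _ q r (oext (by
      change r.left.hom ≫ (t k).left.hom = q.left.hom ≫ (ιU.app i).left.hom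
      rw [hr, hq, ht]
      exact hw)))
    change r.left.hom ≫ (n k).left.hom = q.left.hom ≫ (e.app i).left.hom at this
    rwa [hr, hq] at this
  · have hb' : m' ≫ zk = mb := hmbu _ fun i => by rw [← Category.assoc, hm']
    refine oext ?_
    rw [hm]
    refine Groth.Agent.AlgSp.ElemDist.hom_ext_fam hpe hps fun k => ?_
    rw [hm₀]
    refine (congrArg (fun x : (AlgSp.yon S).obj (V k) ⟶ U.left.obj => x ≫ m'.left.hom) (ht k)).symm.trans ?_
    exact congrArg (fun q => q.left.hom) (hnu k (t k ≫ m')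
      ⟨by rw [Category.assoc, hb'], fun i P q r hqr => by
        rw [← Category.assoc, hqr, Category.assoc, hm']⟩)

/-- Affine charts of `Z` over affine schemes etale over `B`. -/
theorem exists_charts (Z : Over B) :
    ∃ (κ : Type u) (Bk Zk : κ → Over S) (b : ∀ k, (AlgSp.yon S).obj (Bk k) ⟶ B.obj)
      (bz : ∀ k, (AlgSp.yon S).obj (Zk k) ⟶ B.obj) (z : ∀ k, Zk k ⟶ Bk k)
      (zk : ∀ k, ov B (Zk k) (bz k) ⟶ ov B (Bk k) (b k)) (q : ∀ k, ov B (Zk k) (bz k) ⟶ Z),
      (∀ k, IsAffine (Bk k).left ∧ IsAffine (Zk k).left ∧ AlgSp.RepWith @Etale (b k) ∧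
        AlgSp.RepWith @Etale (q k).left.hom ∧ (zk k).left.hom = (AlgSp.yon S).map (z k)) ∧
      ∀ x, ∃ k t, Points.ofPt (q k).left.hom t = x := by
  obtain ⟨κ, V, p, hV, hp, hps⟩ := exists_affine_charts B.property
  have hA : ∀ k, IsAlgSpace (pullback Z.hom.hom (p k)) := fun k =>
    Groth.Agent.AlgSp.isAlgSpace_pullback B.property Z.left.property (IsAlgSpace.yon_obj _) _ _
  choose μ W r hW hr hrs using fun k => exists_affine_charts (hA k)
  have hq : ∀ k, AlgSp.IsEtaleMor (pullback.fst Z.hom.hom (p k)) := fun k =>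
    AlgSpCov.HomeoEt.isEtaleMor_of_baseChange (IsAlgSpace.yon_obj _) B.property (hA k) Z.left.property
      (IsPullback.of_hasPullback _ _).flip (isEtaleMor_of_rep (hp k))
  choose z hz using fun (k : Σ k, μ k) => (AlgSp.yon S).map_surjective (r k.1 k.2 ≫ pullback.snd Z.hom.hom (p k.1))
  choose zk hzk using fun (k : Σ k, μ k) => exists_ohom (B := B)
    (X := ov B (W k.1 k.2) ((r k.1 k.2 ≫ pullback.fst Z.hom.hom (p k.1)) ≫ Z.hom.hom)) (Y := ov B (V k.1) (p k.1))
    (r k.1 k.2 ≫ pullback.snd Z.hom.hom (p k.1)) (by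
      change _ ≫ p k.1 = (r k.1 k.2 ≫ _) ≫ _
      rw [Category.assoc, Category.assoc, pullback.condition])
  choose q hq' using fun (k : Σ k, μ k) => exists_ohom (B := B)
    (X := ov B (W k.1 k.2) ((r k.1 k.2 ≫ pullback.fst Z.hom.hom (p k.1)) ≫ Z.hom.hom)) (Y := Z)
    (r k.1 k.2 ≫ pullback.fst Z.hom.hom (p k.1)) rfl
  refine ⟨Σ k, μ k, _, _, _, _, z, zk, q, fun k => ⟨hV k.1, hW k.1 k.2, hp k.1, ?_, by rw [hzk, hz]⟩, fun x => ?_⟩
  · rw [hq']
    exact hq k.1 (r k.1 k.2) (hr k.1 k.2)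
  · obtain ⟨k, v, hv⟩ := hps (Points.map Z.hom.hom x)
    obtain ⟨v', hv'⟩ : ∃ v', Points.map (p k) v' = Points.map Z.hom.hom x :=
      ⟨_, (Points.ofPt_eq_map_ofScheme (p k) v).symm.trans hv⟩
    obtain ⟨y, hy, -⟩ := AlgSpB.exists_of_isPullback (IsPullback.of_hasPullback Z.hom.hom (p k)) x v' hv'.symm
    obtain ⟨j, s, hs⟩ := hrs k y
    exact ⟨⟨k, j⟩, s, by rw [hq', ← Points.map_ofPt, hs, hy]⟩

/-- `L3`: maps out of an etale object over `c.pt` are determined by the system. -/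
theorem hom_ext_of_sys (hF : FF D c) (hA : AP D c) {U Z : Over B} (u : U ⟶ c.pt)
    (hu : AlgSp.IsEtaleMor u.left.hom) {DU : I ⥤ Over B} (αU : DU ⟶ D) (ιU : DU ⟶ (Functor.const I).obj U)
    (hp : ∀ i, IsPullback (ιU.app i).left.hom (αU.app i).left.hom u.left.hom (c.ι.app i).left.hom)
    {x y : U ⟶ Z} (hxy : ∀ i, ιU.app i ≫ x = ιU.app i ≫ y) : x = y := by
  obtain ⟨κ, Bk, Zk, b, bz, z, zk, q, hk, hks⟩ := exists_charts Z
  refine oext (hom_ext_pull (fun k => (hk k).2.2.2.1) hks x.left.hom fun k W a a' hw => ?_)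
  obtain ⟨hB', hZs, hb, hqe, hzk⟩ := hk k
  obtain ⟨P, pu, pz, hP⟩ := exists_opullback x (q k)
  obtain ⟨Q, qu, qz, hQ⟩ := exists_opullback y (q k)
  have hpu : AlgSp.IsEtaleMor pu.left.hom := AlgSpCov.HomeoEt.isEtaleMor_of_baseChange
    (IsAlgSpace.yon_obj _) Z.left.property P.left.property U.left.property hP.flip (isEtaleMor_of_rep hqe)
  have hqu : AlgSp.IsEtaleMor qu.left.hom := AlgSpCov.HomeoEt.isEtaleMor_of_baseChange
    (IsAlgSpace.yon_obj _) Z.left.property Q.left.property U.left.property hQ.flip (isEtaleMor_of_rep hqe)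
  obtain ⟨DP, αP, ιP, hpP⟩ := exists_pullDiagram D c P (pu ≫ u)
  obtain ⟨τ, hτ, hτ'⟩ := cw (U := U) (u' := u) αP
    ({ app := fun i => ιP.app i ≫ pu, naturality := fun i j g => by
        rw [← Category.assoc, ιP.naturality]
        change (ιP.app i ≫ 𝟙 _) ≫ pu = (ιP.app i ≫ pu) ≫ 𝟙 _
        rw [Category.comp_id, Category.comp_id] } : DP ⟶ (Functor.const I).obj U)
    (fun i => (Category.assoc _ _ _).trans (osq_w (hpP i))) hp
  have hcond : ∀ i, (ιP.app i ≫ pu) ≫ y = (ιP.app i ≫ pz) ≫ q k := fun i => by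
    have h1 : τ.app i ≫ ιU.app i = ιP.app i ≫ pu := hτ' i
    rw [← h1, Category.assoc, ← hxy, ← Category.assoc, h1, Category.assoc, osq_w hP, Category.assoc]
  choose l hl₁ hl₂ using fun i => exists_olift hQ (ιP.app i ≫ pu) (ιP.app i ≫ pz) (hcond i)
  let e : DP ⟶ (Functor.const I).obj Q :=
    { app := l
      naturality := fun i j g => osq_hom_ext hQ
        (by
          rw [Category.assoc, hl₁, ← Category.assoc, ιP.naturality]
          change (ιP.app i ≫ 𝟙 _) ≫ pu = (l i ≫ 𝟙 _) ≫ qu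
          rw [Category.comp_id, Category.comp_id, hl₁])
        (by
          rw [Category.assoc, hl₂, ← Category.assoc, ιP.naturality]
          change (ιP.app i ≫ 𝟙 _) ≫ pz = (l i ≫ 𝟙 _) ≫ qz
          rw [Category.comp_id, Category.comp_id, hl₂]) }
  obtain ⟨m, ⟨hm₁, hm₂⟩, -⟩ := existsUnique_hom hF (pu ≫ u) (qu ≫ u) (isEtaleMor_comp hpu hu)
    (isEtaleMor_comp hqu hu) αP ιP hpP e (fun i => by
      rw [← Category.assoc]
      exact (congrArg (· ≫ u) (hl₁ i)).trans ((Category.assoc _ _ _).trans (osq_w (hpP i))))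
  have hmU : m ≫ qu = pu := (existsUnique_hom hF (pu ≫ u) u (isEtaleMor_comp hpu hu) hu αP ιP hpP
      ({ app := fun i => ιP.app i ≫ pu, naturality := fun i j g => by
          rw [← Category.assoc, ιP.naturality]
          change (ιP.app i ≫ 𝟙 _) ≫ pu = (ιP.app i ≫ pu) ≫ 𝟙 _
          rw [Category.comp_id, Category.comp_id] } : DP ⟶ (Functor.const I).obj U)
      (fun i => (Category.assoc _ _ _).trans (osq_w (hpP i)))).unique
    ⟨(Category.assoc _ _ _).trans hm₁, fun i => by rw [← Category.assoc, hm₂]; exact hl₁ i⟩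
    ⟨rfl, fun i => rfl⟩
  have hmZ : m ≫ qz = pz := (existsUnique_toAffine hF hA (pu ≫ u) (isEtaleMor_comp hpu hu) αP ιP hpP hB' hZs hb
      (z k) (zk k) hzk
      ({ app := fun i => ιP.app i ≫ pz, naturality := fun i j g => by
          rw [← Category.assoc, ιP.naturality]
          change (ιP.app i ≫ 𝟙 _) ≫ pz = (ιP.app i ≫ pz) ≫ 𝟙 _
          rw [Category.comp_id, Category.comp_id] } : DP ⟶ (Functor.const I).obj _)).unique
    (fun i => by rw [← Category.assoc, hm₂]; exact hl₂ i) (fun i => rfl)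
  have hfin : pu ≫ x = pu ≫ y := by
    rw [osq_w hP, ← hmZ, Category.assoc, ← osq_w hQ, ← Category.assoc, hmU]
  have h' := hP.lift_fst a a' hw.symm
  rw [← h', Category.assoc, Category.assoc]
  exact congrArg (hP.lift a a' hw.symm ≫ ·) (congrArg (fun q => q.left.hom) hfin)

end


/-- Let `B` be an algebraic space over `S`, `D : I ⥤ Over B` a diagram of algebraic spaces over `B` and
`c` a cocone. Assume (1) the base change functor from algebraic spaces etale over `c.pt` to systems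
of algebraic spaces etale over the `D_i` with cartesian transition squares is an equivalence: every
such system is the base change of some etale `U → c.pt`, and every morphism between the base-change
systems of two etale `U, U' → c.pt` comes from a unique morphism `U → U'` over `c.pt`; and (2) for
every affine scheme `B'` etale over `B`, affine scheme `Z` over `B'`, affine scheme `U` etale over
`c.pt ×_B B'` and cocone of morphisms `U ×_{c.pt} D_i → Z` over `B'`, there is a unique `U → Z` over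
`B'` inducing it. Then `c` is a colimit in algebraic spaces over `B`. -/
theorem result {S : Scheme.{u}} {B : AlgSp.Space S} {I : Type v} [Category.{w} I]
    (D : I ⥤ Over B) (c : Cocone D)
    (h₁ : ∀ (D' : I ⥤ Over B) (α : D' ⟶ D),
      (∀ ⦃i j : I⦄ (g : i ⟶ j), IsPullback (D'.map g).left.hom (α.app i).left.hom (α.app j).left.hom (D.map g).left.hom) →
      (∀ i, AlgSp.IsEtaleMor (α.app i).left.hom) →
        ∃ (c' : Cocone D') (a : c'.pt ⟶ c.pt), AlgSp.IsEtaleMor a.left.hom ∧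
          ∀ i, IsPullback (c'.ι.app i).left.hom (α.app i).left.hom a.left.hom (c.ι.app i).left.hom)
    (h₁' : ∀ (U U' : Over B) (u : U ⟶ c.pt) (u' : U' ⟶ c.pt), AlgSp.IsEtaleMor u.left.hom → AlgSp.IsEtaleMor u'.left.hom →
      ∀ (DU DU' : I ⥤ Over B) (αU : DU ⟶ D) (αU' : DU' ⟶ D) (ιU : DU ⟶ (Functor.const I).obj U)
        (ιU' : DU' ⟶ (Functor.const I).obj U'),
        (∀ i, IsPullback (ιU.app i).left.hom (αU.app i).left.hom u.left.hom (c.ι.app i).left.hom) →
        (∀ i, IsPullback (ιU'.app i).left.hom (αU'.app i).left.hom u'.left.hom (c.ι.app i).left.hom) →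
        ∀ (β : DU ⟶ DU'), β ≫ αU' = αU →
          ∃! m : U ⟶ U', m ≫ u' = u ∧ ∀ i, ιU.app i ≫ m = β.app i ≫ ιU'.app i)
    (h₂ : ∀ (B' Zs Us : Over S) (b : (AlgSp.yon S).obj B' ⟶ B.obj) (z : Zs ⟶ B') {XB : AlgSp.Space S}
      (x₁ : XB ⟶ c.pt.left) (x₂ : XB.obj ⟶ (AlgSp.yon S).obj B') (uu : (AlgSp.yon S).obj Us ⟶ XB.obj)
      (DU : I ⥤ AlgSp.Space S) (αU : DU ⟶ D ⋙ Over.forget B)
      (ιU : DU ⟶ (Functor.const I).obj ((AlgSp.ofScheme S).obj Us))
      (φ : DU ⟶ (Functor.const I).obj ((AlgSp.ofScheme S).obj Zs)),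
      IsAffine B'.left → IsAffine Zs.left → IsAffine Us.left → AlgSp.RepWith @Etale b →
      IsPullback x₁.hom x₂ c.pt.hom.hom b → AlgSp.RepWith @Etale uu →
      (∀ i, IsPullback (ιU.app i).hom (αU.app i).hom (uu ≫ x₁.hom) (c.ι.app i).left.hom) →
      (∀ i, (φ.app i).hom ≫ (AlgSp.yon S).map z = (ιU.app i).hom ≫ uu ≫ x₂) →
        ∃! fz : Us ⟶ Zs, (AlgSp.yon S).map fz ≫ (AlgSp.yon S).map z = uu ≫ x₂ ∧
          ∀ i, (ιU.app i).hom ≫ (AlgSp.yon S).map fz = (φ.app i).hom) :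
    Nonempty (IsColimit c) := by
  classical
  have hF : FF D c := h₁'
  have hA : AP D c := fun B' Zs Us b z _ x₁ x₂ uu DU αU ιU φ => h₂ B' Zs Us b z x₁ x₂ uu DU αU ιU φ
  have hid : ∀ i, IsPullback (c.ι.app i).left.hom ((𝟙 D : D ⟶ D).app i).left.hom (𝟙 c.pt : c.pt ⟶ c.pt).left.hom
      (c.ι.app i).left.hom := fun i => IsPullback.of_vert_isIso ⟨rfl⟩
  have hide : AlgSp.IsEtaleMor (𝟙 c.pt : c.pt ⟶ c.pt).left.hom := fun U φ hφ => by
    change AlgSp.RepWith @Etale (φ ≫ 𝟙 _)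
    rwa [Category.comp_id]
  have huniq : ∀ {Z : Over B} (x y : c.pt ⟶ Z), (∀ i, c.ι.app i ≫ x = c.ι.app i ≫ y) → x = y :=
    fun x y h => hom_ext_of_sys hF hA (𝟙 _) hide (𝟙 D) c.ι hid h
  have hd : ∀ s : Cocone D, ∃ d : c.pt ⟶ s.pt, ∀ i, c.ι.app i ≫ d = s.ι.app i := by
    intro s
    obtain ⟨κ, Bk, Zk, b, bz, z, zk, q, hk, hks⟩ := exists_charts s.pt
    choose Dk αk ιk hpk using fun k => exists_pullDiagram D s _ (q k)
    have hαe : ∀ k i, AlgSp.IsEtaleMor ((αk k).app i).left.hom := fun k i =>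
      AlgSpCov.HomeoEt.isEtaleMor_of_baseChange (IsAlgSpace.yon_obj _) s.pt.left.property
        ((Dk k).obj i).left.property (D.obj i).left.property (hpk k i) (isEtaleMor_of_rep (hk k).2.2.2.1)
    have hcart : ∀ k ⦃i j : I⦄ (g : i ⟶ j), IsPullback ((Dk k).map g).left.hom ((αk k).app i).left.hom
        ((αk k).app j).left.hom (D.map g).left.hom := fun k i j g => by
      refine IsPullback.of_right ?_ (congrArg (fun q => q.left.hom) ((αk k).naturality g)) (hpk k j)
      have e1 : ((Dk k).map g).left.hom ≫ ((ιk k).app j).left.hom = ((ιk k).app i).left.hom :=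
        congrArg (fun q => q.left.hom) (((ιk k).naturality g).trans (Category.comp_id _))
      have e2 : (D.map g).left.hom ≫ (s.ι.app j).left.hom = (s.ι.app i).left.hom :=
        congrArg (fun q => q.left.hom) (s.w g)
      rw [e1, e2]
      exact hpk k i
    choose ck ak hake hck using fun k => h₁ (Dk k) (αk k) (hcart k) (hαe k)
    choose nk hnk hnku using fun k => existsUnique_toAffine hF hA (ak k) (hake k) (αk k) (ck k).ι (hck k)
      (hk k).1 (hk k).2.1 (hk k).2.2.1 (z k) (zk k) (hk k).2.2.2.2 (ιk k)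
    have hmk : ∀ k i, (ck k).ι.app i ≫ nk k ≫ q k = (αk k).app i ≫ s.ι.app i := fun k i => by
      rw [← Category.assoc, hnk]
      exact osq_w (hpk k i)
    have hcoc : ∀ k l, ∀ (P : Over B) (a : P ⟶ (ck k).pt) (a' : P ⟶ (ck l).pt),
        a ≫ ak k = a' ≫ ak l → a ≫ nk k ≫ q k = a' ≫ nk l ≫ q l := by
      intro k l P a a' haa
      obtain ⟨R, r, r', hR⟩ := exists_opullback (ak k) (ak l)
      obtain ⟨m, hm, hm'⟩ := exists_olift hR a a' haa
      rw [← hm, ← hm', Category.assoc, Category.assoc]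
      congr 1
      have hre : AlgSp.IsEtaleMor (r ≫ ak k).left.hom := isEtaleMor_comp
        (AlgSpCov.HomeoEt.isEtaleMor_of_baseChange (ck l).pt.left.property c.pt.left.property
          R.left.property (ck k).pt.left.property hR.flip (hake l)) (hake k)
      obtain ⟨DR, αR, ιR, hpR⟩ := exists_pullDiagram D c R (r ≫ ak k)
      refine hom_ext_of_sys hF hA (r ≫ ak k) hre αR ιR hpR fun i => ?_
      have key : ∀ (j : κ) (rj : R ⟶ (ck j).pt), rj ≫ ak j = r ≫ ak k →
          ιR.app i ≫ rj ≫ nk j ≫ q j = αR.app i ≫ s.ι.app i := by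
        intro j rj hrj
        obtain ⟨σ, hσ₁, hσ₂⟩ := exists_olift (hck j i) (ιR.app i ≫ rj) (αR.app i) (by
          rw [Category.assoc, hrj]
          exact osq_w (hpR i))
        rw [← Category.assoc, ← hσ₁, Category.assoc, hmk, ← Category.assoc, hσ₂]
      exact (key k r rfl).trans (key l r' (osq_w hR).symm).symm
    -- the `ak` are jointly surjective
    let O : Set (AlgSp.Points c.pt.left.obj) := ⋃ k, Set.range (Points.map (ak k).left.hom)
    have hO : IsOpen O := isOpen_iUnion fun k =>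
      (Groth.Agent.AlgSp.isUnivOpenMor_of_isEtaleMor (ck k).pt.left.property (hake k) c.pt.left.property
        (𝟙 _) (𝟙 _) (ak k).left.hom (IsPullback.of_id_fst ..)).isOpen_range
    obtain ⟨V, j, hj, hjr⟩ := AlgSpB.exists_openSubspace c.pt.left hO
    have : Mono j.hom := AlgSpB.mono_of_isOpenImmersion hj
    let Vo : Over B := Over.mk (j ≫ c.pt.hom)
    obtain ⟨jo, hjo⟩ := exists_ohom (X := Vo) (Y := c.pt) j.hom rfl
    have hje : AlgSp.IsEtaleMor jo.left.hom := by
      rw [hjo]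
      exact isEtaleMor_of_rep (Groth.Agent.AlgSp.repWith_mono
        (fun g (hg : IsOpenImmersion g) => (inferInstance : Etale g)) hj)
    have hsub : ∀ i, Set.range (Points.map (c.ι.app i).left.hom) ⊆ Set.range (Points.map j.hom) := by
      intro i
      rw [hjr]
      rintro _ ⟨x, rfl⟩
      obtain ⟨k, t, ht⟩ := hks (Points.map (s.ι.app i).left.hom x)
      obtain ⟨p, -, hp'⟩ := AlgSpB.exists_of_isPullback (hpk k i) _ x
        ((Points.ofPt_eq_map_ofScheme (q k).left.hom t).symm.trans ht)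
      refine Set.mem_iUnion.2 ⟨k, Points.map ((ck k).ι.app i).left.hom p, ?_⟩
      rw [← hp', ← Points.map_comp, ← Points.map_comp, (hck k i).w]
    choose e₀ he₀ using fun i => (AlgSpB.exists_factor_isOpenImmersion_iff hj (c.ι.app i).left.hom).2 (hsub i)
    choose e₁ he₁ using fun i => exists_ohom (X := D.obj i) (Y := Vo) (e₀ i) (by
      change e₀ i ≫ j.hom ≫ c.pt.hom.hom = _
      rw [← Category.assoc, he₀]
      exact whom (c.ι.app i))
    have he₁' : ∀ i, e₁ i ≫ jo = c.ι.app i := fun i => oext (by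
      change (e₁ i).left.hom ≫ jo.left.hom = _
      rw [he₁, hjo, he₀])
    let e : D ⟶ (Functor.const I).obj Vo :=
      { app := e₁
        naturality := fun i i' g => oext ((cancel_mono j.hom).1 (by
          change ((D.map g).left.hom ≫ (e₁ i').left.hom) ≫ j.hom = ((e₁ i).left.hom ≫ 𝟙 _) ≫ j.hom
          rw [Category.comp_id, Category.assoc, he₁, he₁, he₀, he₀]
          exact congrArg (fun q => q.left.hom) (c.w g))) }
    obtain ⟨sec, ⟨hsec, -⟩, -⟩ := existsUnique_hom hF (𝟙 c.pt) jo hide hje (𝟙 D) c.ι hid e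
      (fun i => (he₁' i).trans (Category.id_comp _).symm)
    have hall : ∀ x : AlgSp.Points c.pt.left.obj, ∃ k, x ∈ Set.range (Points.map (ak k).left.hom) := by
      intro x
      refine Set.mem_iUnion.1 (show x ∈ O from ?_)
      rw [← hjr]
      refine ⟨Points.map sec.left.hom x, ?_⟩
      have e' : sec.left.hom ≫ j.hom = 𝟙 c.pt.left.obj := hjo ▸ congrArg (fun q => q.left.hom) hsec
      rw [← Points.map_comp, e', Points.map_id]
    -- descend
    choose μ W pW hW hpW hpWs using fun k => exists_affine_charts (ck k).pt.left.property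
    have hpe : ∀ r : Σ k, μ k, RepWith @Etale (pW r.1 r.2 ≫ (ak r.1).left.hom) := fun r => hake r.1 _ (hpW r.1 r.2)
    have hps : ∀ x, ∃ (r : Σ k, μ k) (t : _), Points.ofPt (pW r.1 r.2 ≫ (ak r.1).left.hom) t = x := fun x => by
      obtain ⟨k, y, hy⟩ := hall x
      obtain ⟨m, t, ht⟩ := hpWs k y
      exact ⟨⟨k, m⟩, t, by rw [← Points.map_ofPt, ht, hy]⟩
    obtain ⟨d₀, hd₀⟩ := Groth.Agent.AlgSp.ElemDist.exists_desc_fam hpe hps
      (fun r => pW r.1 r.2 ≫ (nk r.1 ≫ q r.1).left.hom) (fun r r' T a a' haa => by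
        obtain ⟨A, hA'⟩ := exists_ohom (X := ov B T (a ≫ pW r.1 r.2 ≫ (ck r.1).pt.hom.hom)) (Y := (ck r.1).pt)
          (a ≫ pW r.1 r.2) (Category.assoc _ _ _)
        obtain ⟨A', hA''⟩ := exists_ohom (X := ov B T (a ≫ pW r.1 r.2 ≫ (ck r.1).pt.hom.hom)) (Y := (ck r'.1).pt)
          (a' ≫ pW r'.1 r'.2) (by
            change _ = a ≫ pW r.1 r.2 ≫ (ck r.1).pt.hom.hom
            rw [← whom (ak r.1), ← whom (ak r'.1), Category.assoc, ← reassoc_of% haa])
        have := congrArg (fun q => q.left.hom) (hcoc r.1 r'.1 _ A A' (oext (by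
          change A.left.hom ≫ (ak r.1).left.hom = A'.left.hom ≫ (ak r'.1).left.hom
          rw [hA', hA'', Category.assoc, Category.assoc]
          exact haa)))
        change A.left.hom ≫ (nk r.1 ≫ q r.1).left.hom = A'.left.hom ≫ (nk r'.1 ≫ q r'.1).left.hom at this
        rwa [hA', hA'', Category.assoc, Category.assoc] at this)
    obtain ⟨d, hd⟩ := exists_ohom (X := c.pt) (Y := s.pt) d₀
      (Groth.Agent.AlgSp.ElemDist.hom_ext_fam hpe hps fun r => by
        rw [← Category.assoc, hd₀, Category.assoc, Category.assoc]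
        exact congrArg (pW r.1 r.2 ≫ ·) ((whom (nk r.1 ≫ q r.1)).trans (whom (ak r.1)).symm))
    refine ⟨d, fun i => oext ?_⟩
    change (c.ι.app i).left.hom ≫ d.left.hom = (s.ι.app i).left.hom
    rw [hd]
    refine hom_ext_pull hpe hps (c.ι.app i).left.hom fun r T a a' hw => ?_
    have hw' : (a' ≫ pW r.1 r.2) ≫ (ak r.1).left.hom = a ≫ (c.ι.app i).left.hom := (Category.assoc _ _ _).trans hw
    rw [← Category.assoc, ← hw, Category.assoc, hd₀]
    have h5 := congrArg ((hck r.1 i).lift _ _ hw' ≫ ·) (congrArg (fun q => q.left.hom) (hmk r.1 i))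
    change (hck r.1 i).lift _ _ hw' ≫ ((ck r.1).ι.app i).left.hom ≫ (nk r.1 ≫ q r.1).left.hom =
      (hck r.1 i).lift _ _ hw' ≫ ((αk r.1).app i).left.hom ≫ (s.ι.app i).left.hom at h5
    rw [← Category.assoc, ← Category.assoc ((hck r.1 i).lift _ _ hw'), (hck r.1 i).lift_fst,
      (hck r.1 i).lift_snd, Category.assoc] at h5
    exact h5
  choose d hd using hd
  exact ⟨⟨d, fun s i => hd s i, fun s x hx => huniq _ _ fun i => (hx i).trans (hd s i).symm⟩⟩

end Groth.Agent.S10730
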