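import Groth.Statements.S10733
import Groth.Agent.S10656
-- import your own Groth.Agent.* helpers here

set_option autoImplicit false
universe u
open CategoryTheory CategoryTheory.Limits AlgebraicGeometry Opposite
open AlgSp

namespace Groth.Agent.S10733

/-- Let S be an affine scheme and X an algebraic space over S whose structure morphism p to h_S (S over
itself by the identity) is separated and of finite type. Then there are a scheme X' over S whose
structure morphism X' ⟶ S is H-quasi-projective (a quasi-compact immersion into some projective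
space over S) and a proper surjective morphism h_{X'} ⟶ X. -/
theorem result {S : Scheme.{u}} [IsAffine S] (X : AlgSp.Space S)
    (p : X.obj ⟶ (AlgSp.yon S).obj (Over.mk (𝟙 S)))
    (hsep : AlgSp.IsSeparatedMor p) (hft : AlgSp.IsFiniteTypeMor p) :
    ∃ (T : Over S) (g : (AlgSp.yon S).obj T ⟶ X.obj),
      RelProj.IsHQuasiProjective T.hom ∧ AlgSp.IsProperMor g ∧ AlgSp.IsSurjectiveMor g := by
  let T₀ : Over S := Over.mk (𝟙 S)
  let B : AlgSp.Space S := ⟨(AlgSp.yon S).obj T₀, AlgSp.IsAlgSpace.yon_obj T₀⟩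
  have hBs : AlgSp.IsSeparatedSp B.obj := by
    have hT := Groth.Agent.AlgSp.LimSepAbs.isTerminalBase (S := S)
    have : IsIso (Limits.diag B.obj) := ⟨prod.fst, prod.lift_fst _ _, by
      apply prod.hom_ext <;> exact hT.hom_ext _ _⟩
    exact Groth.Agent.AlgSpB.repWith_of_isIso (P := @IsClosedImmersion) _
  have hBc : AlgSp.IsQuasiCompactSp B.obj := ⟨T₀, 𝟙 _, AlgSp.repWith_id _ _, AlgSp.repWith_id _ _,
    inferInstanceAs (CompactSpace ↥S)⟩
  have hXqc : AlgSp.IsQuasiCompactSp X.obj := hft.2 B.property hBc (𝟙 _) (𝟙 _) p IsPullback.of_id_fst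
  have hXs : AlgSp.IsSeparatedSp X.obj := Groth.Agent.AlgSp.ChowLib.isSeparatedSp_of_mor p hsep hBs
  have hXqs : AlgSp.IsQuasiSeparatedSp X.obj :=
    Groth.Agent.AlgSp.repWith_mono (fun g (hg : IsClosedImmersion g) => (inferInstance : QuasiCompact g)) hXs
  obtain ⟨A, a₀, ha₀, ha₀s⟩ := X.property.atlas
  have : S.IsSeparated := inferInstance
  obtain ⟨W, g, hg, hgs, -, -⟩ := Groth.Agent.S10048.result S X hXqc hXqs A a₀ ha₀ ha₀s
  have hgp := Groth.Agent.S10656.isProperMor_of_finite g hg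
  obtain ⟨h, hh⟩ := (AlgSp.yon S).map_surjective (g ≫ p)
  have : CompactSpace ↥W.left := Groth.Agent.AlgSp.LimOpen.compactSpace_of_isQuasiCompactSp
    (hgp.2.1.2 X.property hXqc (𝟙 _) (𝟙 _) g IsPullback.of_id_fst)
  have : IsSeparated W.hom := Groth.Agent.AlgSp.ChowLib.isSeparated_hom_of_sp
    (Groth.Agent.AlgSp.ChowLib.isSeparatedSp_of_mor g hgp.1 hXs)
  have hl : LocallyOfFiniteType h.left :=
    (Groth.Agent.AlgSpCov.locP_comp Groth.Agent.AlgSpCov.etaleLocal_locallyOfFiniteType X.property B.property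
      hgp.2.1.1 hft.1) (𝟙 _) (𝟙 _) h (AlgSp.repWith_id _ _) (AlgSp.repWith_id _ _)
      (by rw [Category.id_comp, Category.comp_id, hh])
  have : LocallyOfFiniteType W.hom := by
    rw [← show h.left = W.hom from (Category.comp_id _).symm.trans (Over.w h)]
    exact hl
  have : QuasiCompact W.hom := quasiCompact_of_compactSpace W.hom
  obtain ⟨n, W₁, π, j, hj, hjw, hπp, hπs⟩ := Groth.Agent.S7409.result W.hom
  have := Groth.Agent.ProjProper.Basic.isProper_toBase n S
  have : QuasiCompact (j ≫ CohB1.ProjSpaceOver.toBase n S) := by rw [hjw]; infer_instance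
  have : QuasiCompact j := QuasiCompact.of_comp j (CohB1.ProjSpaceOver.toBase n S)
  let W' : Over S := Over.mk (π ≫ W.hom)
  let p' : W' ⟶ W := Over.homMk π rfl
  refine ⟨W', (AlgSp.yon S).map p' ≫ g, ⟨n, j, hj, inferInstance, hjw⟩,
    Groth.Agent.AlgSpD.isProperMor_comp (X := ⟨_, AlgSp.IsAlgSpace.yon_obj W'⟩)
      (Y := ⟨_, AlgSp.IsAlgSpace.yon_obj W⟩) (Z := X) (Groth.Agent.S10656.isProperMor_yonMap p' hπp) hgp, ?_⟩
  intro x
  obtain ⟨y, rfl⟩ := hgs x
  obtain ⟨v, rfl⟩ : ∃ v, AlgSp.Points.ofScheme W v = y := (AlgSp.Points.schemeHomeo W).surjective y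
  obtain ⟨v', rfl⟩ := hπs.surj v
  refine ⟨AlgSp.Points.ofScheme W' v', ?_⟩
  rw [← AlgSp.Points.ofPt_eq_map_ofScheme, ← AlgSp.Points.ofPt_eq_map_ofScheme, Groth.Agent.AlgSpB.ofPt_map_comp]
  rfl

end Groth.Agent.S10733
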