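import Groth.Statements.S10736
import Groth.Agent.AlgSpEN.HColim.Site
import Groth.Agent.AlgSpEN.HColim.Transfer
import Groth.Agent.AlgSpEN.StrataSq
import Groth.Agent.AlgSp.QCMor
import Groth.Agent.AlgSp.LimOpen
import Groth.Agent.AlgSpD.EtSite
import Groth.Agent.AlgSpB.Open

set_option autoImplicit false
set_option backward.isDefEq.respectTransparency false
set_option backward.isDefEq.respectTransparency.types false
universe u
open CategoryTheory CategoryTheory.Limits AlgebraicGeometry Opposite
open AlgSp

namespace Groth.Agent.S10736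

open Groth.Agent.AlgSpEN

variable {S : Scheme.{u}} (X : AlgSp.Space S)

/-- A small model of the small etale site. -/
abbrev C' : Type (u + 1) := ULiftHom.{u + 1} (EtOver X.obj)

/-- The topology of the small model. -/
abbrev J' : GrothendieckTopology (C' X) :=
  (ULiftHom.equiv (C := EtOver X.obj)).inverse.inducedTopology (etTop X.obj)

theorem mem_J' {V : C' X} (T : Sieve V) :
    T ∈ J' X V ↔ ∀ x : ↥(ULiftHom.down.obj V).obj.left.left, ∃ (W : C' X) (g : W ⟶ V), T g ∧
      x ∈ Set.range (ULiftHom.down.map g).hom.left.left := by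
  refine (Functor.mem_inducedTopology_iff_of_isCoverDense _ _ _).trans ?_
  refine (Groth.Agent.AlgSpD.mem_etTop_iff _).trans ⟨fun h x => ?_, fun h x => ?_⟩
  · obtain ⟨E, g, ⟨W, g', c, hg', rfl⟩, y, rfl⟩ := h x
    exact ⟨W, g', hg', c.hom.left.left y, rfl⟩
  · obtain ⟨W, g, hg, hx⟩ := h x
    exact ⟨_, ULiftHom.down.map g, ⟨W, g, 𝟙 _, hg, (Category.id_comp _).symm⟩, hx⟩

theorem qc {V : C' X} [CompactSpace (ULiftHom.down.obj V).obj.left.left] : ToposFin.IsQCSite (J' X) V := by
  intro T hT
  rw [mem_J'] at hT
  choose W g hg hx using hT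
  have ho : ∀ x, IsOpen (Set.range (ULiftHom.down.map (g x)).hom.left.left) := fun x => by
    have := EtOver.etale_left (ULiftHom.down.map (g x))
    exact (ULiftHom.down.map (g x)).hom.left.left.isOpenMap.isOpen_range
  obtain ⟨s, hs⟩ := isCompact_univ.elim_finite_subcover _ ho fun x _ => Set.mem_iUnion.2 ⟨x, hx x⟩
  refine ⟨s.card, fun k => W (s.equivFin.symm k).1, fun k => g (s.equivFin.symm k).1, fun k => hg _, ?_⟩
  rw [mem_J']
  intro x
  obtain ⟨y, hy, hxy⟩ := Set.mem_iUnion₂.1 (hs (Set.mem_univ x))
  refine ⟨_, _, Sieve.ofArrows_mk _ _ (s.equivFin ⟨y, hy⟩), ?_⟩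
  rw [Equiv.symm_apply_apply]
  exact hxy

theorem qsite [QuasiSeparatedSpace ↥S] [HasPullbacks (C' X)] [HasBinaryProducts (C' X)] (hqc : AlgSp.IsQuasiCompactSp X.obj) (hqs : AlgSp.IsQuasiSeparatedSp X.obj) :
    HColim.QSite (J' X) (fun V => IsAffine (ULiftHom.down.obj V).obj.left.left)
      (fun V => CompactSpace (ULiftHom.down.obj V).obj.left.left ∧
        QuasiSeparatedSpace (ULiftHom.down.obj V).obj.left.left) where
  sub V hV := ⟨inferInstance, inferInstance⟩
  cover V := by
    rw [mem_J']
    intro x
    let E := ULiftHom.down.obj V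
    obtain ⟨_, ⟨W, hW, rfl⟩, hx, -⟩ := E.obj.left.left.isBasis_affineOpens.exists_subset_of_mem_open
      (Set.mem_univ x) isOpen_univ
    let W' : E.obj.left.left.Opens := W
    let Wo : Over S := Over.mk (W'.ι ≫ E.obj.left.hom)
    let ιW : Wo ⟶ E.obj.left := Over.homMk W'.ι rfl
    let EW : EtOver X.obj := EtOver.mk ((yon S).map ιW ≫ E.obj.hom)
      ((repWith_isMultiplicative (S := S) @Etale).comp_mem _ _
        ((repWith_yon_map_iff _ _).2 (inferInstanceAs (Etale W'.ι))) E.property)
    let g : EW ⟶ E := EtOver.homMk ιW rfl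
    refine ⟨ULiftHom.objUp EW, ⟨g⟩, ⟨_, 𝟙 _, ⟨g⟩, hW, Category.id_comp _⟩, ?_⟩
    change x ∈ Set.range W'.ι
    rw [Scheme.Opens.range_ι]
    exact hx
  qc V hV := by
    have := hV.1
    exact qc X
  pb U V W f g hU hV hW := by
    have : (ULiftHom.down (C := EtOver X.obj)).IsEquivalence := ULiftHom.equiv.isEquivalence_inverse
    have := hU.1
    have := hU.2
    have sq := ((IsPullback.of_hasPullback f g).map ULiftHom.down).map (EtOver.toScheme X.obj)
    let e := sq.isoPullback
    have : QuasiCompact (ULiftHom.down.map g).hom.left.left := inferInstance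
    have : IsSeparated (ULiftHom.down.map g).hom.left.left := inferInstance
    let P := pullback (ULiftHom.down.map f).hom.left.left (ULiftHom.down.map g).hom.left.left
    have : CompactSpace P := QuasiCompact.compactSpace_of_compactSpace (pullback.fst _ _)
    have : P.IsSeparated := by
      have : IsSeparated (terminal.from (ULiftHom.down.obj V).obj.left.left) := inferInstance
      exact ⟨by rw [show terminal.from P = pullback.fst (ULiftHom.down.map f).hom.left.left
        (ULiftHom.down.map g).hom.left.left ≫ terminal.from _ from terminal.hom_ext _ _]; infer_instance⟩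
    let e' : P ≅ (ULiftHom.down.obj (pullback f g)).obj.left.left := e.symm
    exact ⟨e'.schemeIsoToHomeo.compactSpace, (quasiSeparatedSpace_congr e'.schemeIsoToHomeo).1 inferInstance⟩
  prod V W hV hW := by
    have : (ULiftHom.down (C := EtOver X.obj)).IsEquivalence := ULiftHom.equiv.isEquivalence_inverse
    let E₁ := ULiftHom.down.obj V
    let E₂ := ULiftHom.down.obj W
    let hlim := isLimitOfHasBinaryProductOfPreservesLimit ULiftHom.down V W
    let e : (EtOver.prodObj E₁ E₂).obj.left.left ≅ (ULiftHom.down.obj (V ⨯ W)).obj.left.left :=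
      (EtOver.toScheme X.obj).mapIso ((EtOver.prodIsLimit E₁ E₂).conePointUniqueUpToIso hlim)
    have sq := E₂.property.1.isPullback E₁.obj.hom
    have hm := Groth.Agent.AlgSp.isQuasiCompactMor_of_quasiCompactSp (IsAlgSpace.yon_obj E₂.obj.left) X.property
      E₂.obj.hom (Groth.Agent.AlgSp.isQuasiCompactSp_yon E₂.obj.left) hqs
    let P := E₂.property.1.pullback E₁.obj.hom
    have hPc : CompactSpace P.left := Groth.Agent.AlgSp.LimOpen.compactSpace_of_isQuasiCompactSp
      (hm (IsAlgSpace.yon_obj E₁.obj.left) (Groth.Agent.AlgSp.isQuasiCompactSp_yon E₁.obj.left) _ _ _ sq)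
    let m : P ⟶ E₁.obj.left ⨯ E₂.obj.left := prod.lift (E₂.property.1.snd _) (E₂.property.1.fst' _)
    have : Mono m := ⟨fun a b h => Functor.relativelyRepresentable.hom_ext' _
      (by simpa [m] using congrArg (· ≫ prod.snd) h) (by simpa [m] using congrArg (· ≫ prod.fst) h)⟩
    have : Mono m.left := inferInstanceAs (Mono ((Over.forget S).map m))
    have : IsSeparated m.left := inferInstance
    have : (pullback E₁.obj.left.hom E₂.obj.left.hom).IsSeparated := by
      have : IsSeparated E₂.obj.left.hom := inferInstance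
      have : IsSeparated (terminal.from E₁.obj.left.left) := inferInstance
      exact ⟨by rw [show terminal.from (pullback E₁.obj.left.hom E₂.obj.left.hom) =
        pullback.fst E₁.obj.left.hom E₂.obj.left.hom ≫ terminal.from _ from terminal.hom_ext _ _]; infer_instance⟩
    have : P.left.IsSeparated :=
      ⟨by rw [show terminal.from P.left = (m.left ≫ (Over.prodLeftIsoPullback E₁.obj.left E₂.obj.left).hom) ≫
        terminal.from _ from terminal.hom_ext _ _]; infer_instance⟩
    let e : P.left ≅ (ULiftHom.down.obj (V ⨯ W)).obj.left.left := e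
    exact ⟨(Scheme.homeoOfIso e).compactSpace, (quasiSeparatedSpace_congr (α := P.left) e.schemeIsoToHomeo).1 inferInstance⟩
  terminal := by
    obtain ⟨U, p, hU, hp, hs⟩ := Groth.Agent.AlgSpEN.exists_affine_atlas X hqc
    refine ⟨1, fun _ => ULiftHom.objUp (EtOver.mk p hp), fun _ => hU, fun V => ?_⟩
    rw [mem_J']
    intro x
    let E := ULiftHom.down.obj V
    let E₂ : EtOver X.obj := EtOver.mk p hp
    have : Surjective (E₂.property.1.snd E.obj.hom).left := hs.2 _ _ _ (E₂.property.1.isPullback E.obj.hom)
    refine ⟨ULiftHom.objUp (EtOver.prodObj E E₂), ⟨EtOver.prodFst E E₂⟩,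
      ⟨_, 𝟙 _, ⟨EtOver.prodFst E E₂⟩, ⟨0, ⟨⟨EtOver.prodSnd E E₂⟩⟩⟩, Category.id_comp _⟩, ?_⟩
    exact (E₂.property.1.snd E.obj.hom).left.surjective x

/-- Let X be a quasi-compact algebraic space, quasi-separated over a quasi-separated base scheme S. Then
for every p and every small filtered category J, the functor F ↦ H^p(X_et, F) on abelian sheaves on
the small etale site of X preserves colimits of shape J: for a filtered diagram (F_i) the canonical
map colim_i H^p(X, F_i) ⟶ H^p(X, colim_i F_i) is an isomorphism. (Quasi-separatedness is relative to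
S with S quasi-separated, giving the absolute notion of the published statement.) -/
theorem result {S : Scheme.{u}}
    [QuasiSeparatedSpace ↥S] (X : AlgSp.Space S) (hqc : AlgSp.IsQuasiCompactSp X.obj)
    (hqs : AlgSp.IsQuasiSeparatedSp X.obj) (J : Type (u + 1)) [SmallCategory J] [IsFiltered J] (p : ℕ) :
    PreservesColimitsOfShape J (AlgSp.HEtF X.obj p) := by
  have : (ULiftHom.down (C := EtOver X.obj)).IsEquivalence := ULiftHom.equiv.isEquivalence_inverse
  have : HasPullbacks (C' X) := Adjunction.hasLimitsOfShape_of_equivalence (ULiftHom.down (C := EtOver X.obj))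
  have : HasBinaryProducts (C' X) := Adjunction.hasLimitsOfShape_of_equivalence (ULiftHom.down (C := EtOver X.obj))
  exact HColim.preservesColimitsOfShape_functorH_of_equiv (etTop X.obj) (J' X) ULiftHom.equiv p
    (HColim.preservesColimitsOfShape_functorH (qsite X hqc hqs) J p)

end Groth.Agent.S10736
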