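import Groth.Statements.S10739
import Groth.Agent.AlgSpEN.AffVanish
-- import your own Groth.Agent.* helpers here

set_option autoImplicit false
universe u
open CategoryTheory CategoryTheory.Limits AlgebraicGeometry Opposite
open AlgSp

set_option backward.isDefEq.respectTransparency.types false

namespace Groth.Agent.S10739

/-- Let f : X ⟶ Y be an affine morphism of algebraic spaces over S; such a morphism is representable,
and the representability is carried as a hypothesis. Then for every quasi-coherent O_X-module M on
the small etale site of X and every i > 0, the higher direct image R^i f_* of the abelian sheaf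
underlying M is zero. -/
theorem result {S : Scheme.{u}} {X Y : AlgSp.Space S} (f : X ⟶ Y)
    (hf : AlgSp.Representable f.hom) (haff : AlgSp.IsAffineMor f.hom) (M : AlgSp.ModEt X.obj) [M.IsQuasicoherent]
    (i : ℕ) (hi : 0 < i) :
    IsZero ((AlgSp.RpushEt hf i).obj ((AlgSp.toAbEt X.obj).obj M)) := by
  have : PreservesFiniteLimits (AlgSp.pushEt hf AddCommGrpCat.{u + 1}) :=
    have : PreservesLimitsOfSize.{0, 0} (AlgSp.pushEt hf AddCommGrpCat.{u + 1}) :=
      (AlgSp.pullPushAdjEt hf AddCommGrpCat.{u + 1}).rightAdjoint_preservesLimits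
    PreservesLimitsOfSize.preservesFiniteLimits _
  obtain ⟨q, rfl⟩ := Nat.exists_eq_succ_of_ne_zero hi.ne'
  exact AlgSpEN.Amitsur.isZero_rightDerived (AlgSp.pushEt hf AddCommGrpCat.{u + 1})
    (fun g hg => AlgSpEN.Amitsur.epi_push_of_affine hf haff g hg) q _ (AlgSpEN.Amitsur.cech_qc M)

end Groth.Agent.S10739
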