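import Groth.Statements.S10740
import Groth.Agent.AlgSpEN.OpenExtend
-- import your own Groth.Agent.* helpers here

set_option autoImplicit false
universe u
open CategoryTheory CategoryTheory.Limits AlgebraicGeometry Opposite
open AlgSp

set_option backward.isDefEq.respectTransparency false
set_option backward.isDefEq.respectTransparency.types false

namespace Groth.Agent.S10740

/-- Let X be a quasi-compact algebraic space, quasi-separated over a quasi-separated base scheme S, with
dim X ≤ d for a natural number d, and let M be a quasi-coherent O_X-module on the small etale site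
of X. Then H^q(X, M) = 0 for every q > d. (The companion statements on surjectivity of restriction
to a quasi-compact open subspace in degree d and on cohomology with supports are not included.) -/
theorem result {S : Scheme.{u}} [QuasiSeparatedSpace ↥S] (X : AlgSp.Space S)
    (hqc : AlgSp.IsQuasiCompactSp X.obj) (hqs : AlgSp.IsQuasiSeparatedSp X.obj) (d : ℕ)
    (hdim : AlgSp.dim X.obj ≤ (d : WithBot ℕ∞)) (M : AlgSp.ModEt X.obj) [M.IsQuasicoherent]
    (q : ℕ) (hq : d < q) :
    Subsingleton (AlgSp.HModEt X.obj M q) := by
  refine AlgSpEN.Bound.subsingleton_HEt ?_ q hq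
  refine AlgSpEN.Bound.famBound_of_relBound ?_
  refine AlgSpEN.openInduction X hqc hqs ∅ isOpen_empty isCompact_empty
    (fun A => AlgSpEN.Bound.RelBound d A (AlgSpEN.Bound.point X) _)
    (AlgSpEN.Bound.relBound_mono (Nat.zero_le d) (AlgSpEN.Bound.relBound_empty _ _)) ?_
  rintro A V f hA hAc - hV hf hinj ha
  let E : AlgSp.EtOver X.obj := AlgSp.EtOver.mk f hf
  have : IsAffine E.obj.left.left := hV
  obtain ⟨W, j, hj, hW, hr, hfac⟩ := AlgSpEN.Bound.exists_piece_lift hA E
  have := AlgSpEN.Bound.mono_of_isOpenImmersion j hj
  have hdimE : topologicalKrullDim E.obj.left.left ≤ d :=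
    le_trans (le_iSup_of_le V (le_iSup_of_le f (le_iSup (fun _ : AlgSp.RepWith @Etale f => topologicalKrullDim V.left) hf))) hdim
  exact AlgSpEN.Bound.relBound_step_point hA E hinj (AlgSpEN.Amitsur.cech_qc M) j hW hfac ha fun k hk =>
    AlgSpEN.Bound.surjective_restrict_of_dim (AlgSpEN.Amitsur.cech_qc M) d hdimE j hj
      (hr ▸ AlgSpB.FPCover.exists_cover_preimage hqc hqs hA hAc E) k hk

end Groth.Agent.S10740
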