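import Groth.Statements.S10749
import Groth.Agent.AlgSpB.FPCover.Filtered
import Groth.Agent.AlgSp.AffineMor
import Groth.Agent.AlgSp.NormQf
import Groth.Agent.AlgSp.Sep

set_option autoImplicit false
set_option backward.isDefEq.respectTransparency false
set_option backward.isDefEq.respectTransparency.types false

universe u
open CategoryTheory CategoryTheory.Limits AlgebraicGeometry Opposite
open AlgSp

namespace Groth.Agent.S10749

/-- Let f : X ⟶ Y be an affine morphism of algebraic spaces over a quasi-separated scheme S with Y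
Noetherian (quasi-compact, quasi-separated, locally Noetherian). Then every quasi-coherent
O_X-module M on the small etale site of X is a filtered colimit of O_X-modules of finite
presentation. -/
theorem result {S : Scheme.{u}} [QuasiSeparatedSpace ↥S]
    {X Y : AlgSp.Space S} (f : X ⟶ Y) (haff : AlgSp.IsAffineMor f.hom) (hqc : AlgSp.IsQuasiCompactSp Y.obj)
    (hqs : AlgSp.IsQuasiSeparatedSp Y.obj) (hN : AlgSp.IsLocNoethSp Y.obj) (M : AlgSp.ModEt X.obj)
    [M.IsQuasicoherent] :
    ∃ (J : Type (u + 1)) (_ : SmallCategory J) (_ : IsFiltered J) (D : J ⥤ AlgSp.ModEt X.obj)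
      (ι : D ⟶ (Functor.const J).obj M),
      (∀ j, (D.obj j).IsFinitePresentation) ∧ Nonempty (IsColimit (Cocone.mk M ι)) := by
  have ha := (Groth.Agent.AlgSp.isAffineMor_iff f.hom).1 haff
  have hXc : AlgSp.IsQuasiCompactSp X.obj :=
    Groth.Agent.AlgSp.isQuasiCompactMor_of_repWith Y.property (Groth.Agent.AlgSp.repWith_mono
      (fun g (hg : IsAffineHom g) => (inferInstance : QuasiCompact g)) ha) Y.property hqc (𝟙 _) (𝟙 _) f.hom
      (IsPullback.id_horiz f.hom)
  have hXs : AlgSp.IsQuasiSeparatedSp X.obj := Groth.Agent.AlgSp.LimAffine.isQuasiSeparatedSp_of_mor f.hom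
    (Groth.Agent.AlgSp.isQuasiSeparatedMor_of_sep ((Groth.Agent.AlgSp.repWith_diagonal_iff_of_representable
      @IsClosedImmersion @IsSeparated (fun h => (isSeparated_iff h).symm) X.property ha.1).2
      (Groth.Agent.AlgSp.repWith_mono (fun g (hg : IsAffineHom g) => (inferInstance : IsSeparated g)) ha))) hqs
  exact ⟨Groth.Agent.AlgSpB.FPCover.FPOver M, inferInstance, Groth.Agent.AlgSpB.FPCover.isFiltered_fpOver,
    Groth.Agent.AlgSpB.FPCover.fpDiag M, Groth.Agent.AlgSpB.FPCover.fpCocone M,
    fun j => Groth.Agent.AlgSpB.FPCover.isFinitePresentation_idxMod j.idx,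
    Groth.Agent.AlgSpB.FPCover.nonempty_isColimit_fp hXc hXs⟩

end Groth.Agent.S10749
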