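import Groth.Statements.S1075
import Groth.Agent.DHA.KInj.Products
import Mathlib.Algebra.Homology.Factorizations.CM5a
import Mathlib.Algebra.Homology.DerivedCategory.TStructure
-- import your own Groth.Agent.* helpers here

set_option autoImplicit false
universe w v u
open CategoryTheory CategoryTheory.Limits ZeroObject
open CohDer

namespace Groth.Agent.S1075

/-- In D(A), for A abelian with enough injectives and countable products, every sequence of
bounded-below objects has a product, so derived limits of such sequences exist. -/
theorem result {A : Type u} [Category.{v} A] [Abelian A] [HasDerivedCategory.{w} A]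
    [HasLimitsOfShape (Discrete ℕ) A] [EnoughInjectives A]
    (K : ℕ → DerivedCategory A) (hK : ∀ n, ∃ a : ℤ, (K n).IsGE a) : HasProduct K := by
  choose a ha using hK
  have h : ∀ n, ∃ (I : CochainComplex A ℤ) (_ : I.IsKInjective),
      Nonempty (DerivedCategory.Q.obj I ≅ K n) := by
    intro n
    have := ha n
    obtain ⟨L, hL, ⟨e⟩⟩ := (K n).exists_iso_Q_obj_of_isGE (a n)
    have : L.IsStrictlyGE (a n - 1 + 1) := by rwa [sub_add_cancel]
    obtain ⟨I, _, i, p, _, _, hp, -⟩ :=
      CochainComplex.Plus.modelCategoryQuillen.cm5a (0 : L ⟶ 0) (a n - 1)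
    have hI : ∀ m, Injective (I.X m) :=
      (CochainComplex.degreewiseEpiWithInjectiveKernel_iff_of_isZero p
        (Limits.isZero_zero _)).1 hp
    exact ⟨I, CochainComplex.isKInjective_of_injective I (a n - 1),
      ⟨(asIso (DerivedCategory.Q.map i)).symm ≪≫ e.symm⟩⟩
  choose I hI e using h
  have := Groth.Agent.DHA.KInj.hasProduct_of_isKInjective I
  exact hasLimit_of_iso (Discrete.natIso (fun j => (e j.as).some) :
    Discrete.functor (fun j => DerivedCategory.Q.obj (I j)) ≅ Discrete.functor K)

end Groth.Agent.S1075
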