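import Groth.Statements.S10753
import Groth.Agent.AlgSpEN.PushExt
import Groth.Agent.AlgSpEN.AmitsurQC
import Groth.Agent.S10002
import Groth.Agent.AlgSpSpec.Approx
-- import your own Groth.Agent.* helpers here

set_option autoImplicit false
set_option backward.isDefEq.respectTransparency false
set_option backward.isDefEq.respectTransparency.types false
universe u
open CategoryTheory CategoryTheory.Limits AlgebraicGeometry Opposite
open AlgSp

namespace Groth.Agent.S10753

/-- Let X be a quasi-compact algebraic space, quasi-separated over a quasi-separated base scheme S, such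
that H^1(X, M) = 0 for every quasi-coherent O_X-module M on the small etale site of X, and let f :
X' ⟶ X be an affine morphism of algebraic spaces. Then H^1(X', M') = 0 for every quasi-coherent
O_{X'}-module M'. (The companion statement about base change along a ring map out of the ring of
global functions of X is not included.) -/
theorem result {S : Scheme.{u}} [QuasiSeparatedSpace ↥S]
    {X' X : AlgSp.Space S} (hqc : AlgSp.IsQuasiCompactSp X.obj) (hqs : AlgSp.IsQuasiSeparatedSp X.obj)
    (h1 : ∀ M : AlgSp.ModEt X.obj, M.IsQuasicoherent → Subsingleton (AlgSp.HModEt X.obj M 1))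
    (f : X' ⟶ X) (haff : AlgSp.IsAffineMor f.hom)
    (M' : AlgSp.ModEt X'.obj) [M'.IsQuasicoherent] :
    Subsingleton (AlgSp.HModEt X'.obj M' 1) := by
  have hw : AlgSp.RepWith @IsAffineHom f.hom := (Groth.Agent.AlgSp.isAffineMor_iff _).1 haff
  obtain ⟨e⟩ := Groth.Agent.AlgSpEN.PushExt.exists_HEt_addEquiv hw.1 haff _ (Groth.Agent.AlgSpEN.Amitsur.cech_qc M') 1
  have : ((AlgSp.pushModEt hw.1).obj M').IsQuasicoherent := Groth.Agent.S10002.result f hw.1
    (Groth.Agent.AlgSp.isQuasiCompactMor_of_repWith X.property
      (Groth.Agent.AlgSp.repWith_mono (fun g (_ : IsAffineHom g) => (inferInstance : QuasiCompact g)) hw))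
    (Groth.Agent.AlgSp.isQuasiSeparatedMor_of_sep (Groth.Agent.AlgSpSpec.isSeparatedMor_of_affine X'.property hw)) M'
  have hs : Subsingleton (AlgSp.HEt X.obj ((AlgSp.pushEt hw.1 AddCommGrpCat.{u + 1}).obj ((AlgSp.toAbEt X'.obj).obj M')) 1) :=
    h1 _ this
  exact e.toEquiv.subsingleton

end Groth.Agent.S10753
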