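import Groth.Statements.S10754
import Groth.Agent.AlgSpEN.FamBound
import Groth.Agent.AlgSpEN.AmitsurQC

set_option autoImplicit false
set_option backward.isDefEq.respectTransparency false
set_option backward.isDefEq.respectTransparency.types false
universe u
open CategoryTheory CategoryTheory.Limits AlgebraicGeometry Opposite
open AlgSp

namespace Groth.Agent.S10754

/-- Consider an algebraic space X over S that happens to be an affine scheme, meaning X ≅ h_T where T is
an affine scheme over S. Then for each i > 0 and each quasi-coherent O_X-module M on the small etale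
site of X, the cohomology H^i(X, M) vanishes. -/
theorem result {S : Scheme.{u}} (X : AlgSp.Space S) (T : Over S)
    (hT : IsAffine T.left) (e : (AlgSp.yon S).obj T ≅ X.obj) (M : AlgSp.ModEt X.obj) [M.IsQuasicoherent]
    (i : ℕ) (hi : 0 < i) :
    Subsingleton (AlgSp.HModEt X.obj M i) := by
  let E₀ : EtOver X.obj := EtOver.mk e.hom (Groth.Agent.AlgSpB.repWith_of_isIso e.hom)
  have : IsIso E₀.obj.hom := inferInstanceAs (IsIso e.hom)
  have : IsAffine E₀.obj.left.left := hT
  have huniq : ∀ {E : EtOver X.obj} (a b : E ⟶ E₀), a = b := fun a b =>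
    EtOver.hom_ext _ _ ((yon S).map_injective ((cancel_mono E₀.obj.hom).1 ((EtOver.w a).trans (EtOver.w b).symm)))
  let p : ∀ V : EtOver X.obj, V ⟶ E₀ := fun V =>
    EtOver.homMk ((yon S).preimage (V.obj.hom ≫ inv E₀.obj.hom)) (by
      rw [Functor.map_preimage, Category.assoc, IsIso.inv_hom_id, Category.comp_id])
  have hF := Groth.Agent.AlgSpEN.Amitsur.cech_qc M
  refine Groth.Agent.AlgSpEN.Bound.subsingleton_HEt (n := 0) (fun k hk t ht => ?_) i hi
  obtain ⟨b, hb⟩ := Groth.Agent.AlgSpEN.Bound.objBound_affine hF E₀ k (Nat.zero_le k)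
    (t E₀ (Set.subset_univ _))
  refine ⟨fun E _ => ((Groth.Agent.AlgSpEN.Bound.seq k _).X₂.obj.map (p E).op).hom b, fun E E' g hE hE' => ?_,
    fun E hE => ?_⟩
  · rw [← ConcreteCategory.comp_apply, ← Functor.map_comp, ← op_comp, huniq (g ≫ p E) (p E')]
  · exact (NatTrans.naturality_apply (Groth.Agent.AlgSpEN.Bound.seq k _).g.hom (p E).op b).trans
      ((congrArg _ hb).trans (ht (p E) (Set.subset_univ _) hE))

end Groth.Agent.S10754
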