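import Groth.Statements.S10756
import Groth.Agent.AlgSpQC.ClosedImm
-- import your own Groth.Agent.* helpers here

set_option autoImplicit false
universe u
open CategoryTheory CategoryTheory.Limits AlgebraicGeometry Opposite
open AlgSp

set_option backward.isDefEq.respectTransparency.types false

namespace Groth.Agent.S10756

/-- Take a closed immersion i : Z ⟶ X between algebraic spaces over S that are both locally Noetherian,
and write I for the quasi-coherent sheaf of ideals cutting out Z. Then the direct image i_* carries
coherent O_Z-modules (of finite presentation) to coherent O_X-modules annihilated by I (on every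
affine object U of the small etale site of X, the ideal I(U) annihilates all sections over U), and
every coherent O_X-module annihilated by I is isomorphic to i_* G for some coherent O_Z-module G.
(Together with the full faithfulness of i_* on modules, a separate result, this is the equivalence
between coherent O_Z-modules and coherent O_X-modules annihilated by I.) -/
theorem result {S : Scheme.{u}} {Z X : AlgSp.Space S} (i : Z ⟶ X)
    (hi : AlgSp.RepWith @IsClosedImmersion i.hom) (hX : AlgSp.IsLocNoethSp X.obj) (hZN : AlgSp.IsLocNoethSp Z.obj)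
    (I : AlgSp.IdealEt X.obj) (hI : I.IsQCoh) (hZ : AlgSp.IsCutOutBy I i.hom) :
    (∀ (G : AlgSp.ModEt Z.obj), G.IsFinitePresentation →
        ((AlgSp.pushModEt hi.1).obj G).IsFinitePresentation ∧
          ∀ (E : AlgSp.EtOver X.obj) (hE : IsAffine E.obj.left.left)
            (s : AlgSp.sectModEt ((AlgSp.pushModEt hi.1).obj G) E), I.ideal E hE ≤ AlgSp.annSect s) ∧
      ∀ (M : AlgSp.ModEt X.obj), M.IsFinitePresentation →
        (∀ (E : AlgSp.EtOver X.obj) (hE : IsAffine E.obj.left.left) (s : AlgSp.sectModEt M E),
            I.ideal E hE ≤ AlgSp.annSect s) →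
          ∃ G : AlgSp.ModEt Z.obj, G.IsFinitePresentation ∧ Nonempty ((AlgSp.pushModEt hi.1).obj G ≅ M) := by
  refine ⟨fun G hG => ?_, fun M hM hann => ?_⟩
  · haveI := hG
    exact ⟨Groth.Agent.AlgSpQC.isFinitePresentation_push_closedImm hi hX G,
      fun E hE s => Groth.Agent.AlgSpQC.annihilated_push hi I hZ G E hE s⟩
  · haveI := hM
    haveI := Groth.Agent.AlgSpQC.isIso_pullUnit hi I hZ hann
    exact ⟨Groth.Agent.AlgSpQC.pullQC hi.1 M, Groth.Agent.AlgSpQC.isFinitePresentation_pullQC hi.1 M hZN,
      ⟨(asIso (Groth.Agent.AlgSpQC.pullUnit hi.1 M)).symm⟩⟩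

end Groth.Agent.S10756
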