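import Groth.Statements.S10758
import Groth.Agent.AlgSpQC.StalkNbhd
-- import your own Groth.Agent.* helpers here

set_option autoImplicit false
universe u
open CategoryTheory CategoryTheory.Limits AlgebraicGeometry Opposite
open AlgSp

set_option backward.isDefEq.respectTransparency.types false

namespace Groth.Agent.S10758

/-- Let X be a locally Noetherian algebraic space over S, φ : G ⟶ F a morphism of coherent O_X-modules
on the small etale site of X (of finite presentation, X being locally Noetherian) and x̄ a geometric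
point of X. If the map φ_x̄ on stalks at x̄ (of the underlying abelian sheaves) is bijective, then
there is an open subspace X' ⊂ X containing the image of x̄ such that φ|_{X'} is an isomorphism: φ
is bijective on sections over every scheme etale over X whose image in |X| lies in |X'|. -/
theorem result {S : Scheme.{u}} (X : AlgSp.Space S)
    (hX : AlgSp.IsLocNoethSp X.obj) {G F : AlgSp.ModEt X.obj} [G.IsFinitePresentation] [F.IsFinitePresentation]
    (φ : G ⟶ F) (xbar : AlgSp.FieldPt X.obj) (hx : xbar.IsGeometric)
    (hbij : IsIso ((AlgSp.stalkEtFunctor AddCommGrpCat.{u + 1} xbar).map ((AlgSp.toAbEt X.obj).map φ))) :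
    ∃ (X' : AlgSp.Space S) (j : X' ⟶ X), AlgSp.RepWith @IsOpenImmersion j.hom ∧
      AlgSp.Points.mk xbar ∈ Set.range (AlgSp.Points.map j.hom) ∧
        ∀ E : AlgSp.EtOver X.obj, Set.range (AlgSp.Points.ofPt E.obj.hom) ⊆ Set.range (AlgSp.Points.map j.hom) →
          IsIso (φ.val.app (op E)) := by
  obtain ⟨O, hO, hq', h⟩ := AlgSpQC.exists_open_injective xbar hx hX φ inferInstance
  obtain ⟨O', hO', hq'', h'⟩ := AlgSpQC.exists_open_locallySurjective xbar hx φ
    (ConcreteCategory.bijective_of_isIso _).2
  obtain ⟨X', j, hj, hr⟩ := AlgSpB.exists_openSubspace X (hO.inter hO')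
  refine ⟨X', j, hj, hr ▸ ⟨hq', hq''⟩, fun E hE => (ConcreteCategory.isIso_iff_bijective _).2 ⟨?_, ?_⟩⟩
  · exact h E fun x hx' => ((hr ▸ hE) hx').1
  · intro n
    exact AlgSpQC.exists_preimage_of_local φ n (fun V f => h V fun x hx' =>
      ((hr ▸ hE) (AlgSpQC.range_ofPt_subset f hx')).1) (h' E (fun x hx' => ((hr ▸ hE) hx').2) n)

end Groth.Agent.S10758
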