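import Groth.Statements.S10768
import Groth.Agent.AlgSpEN.Induction
-- import your own Groth.Agent.* helpers here

set_option autoImplicit false
set_option backward.isDefEq.respectTransparency false
set_option backward.isDefEq.respectTransparency.types false
universe u
open CategoryTheory CategoryTheory.Limits AlgebraicGeometry
open AlgSp

namespace Groth.Agent.S10768

/-- Let X be a quasi-compact and quasi-separated algebraic space over S, W ⊂ X a quasi-compact open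
subspace, and P a property of open subspaces of X (pairs of an algebraic space and a representable
open immersion into X). Assume (1) W has property P, and (2) given any elementary distinguished
square (W₁ ⊂ W₂, V ⟶ W₂) where W₁ ⊂ W₂ are quasi-compact open subspaces of X containing W and V is
affine, P for W₁ implies P for W₂. Then P holds for X (with its identity). Quasi-separatedness is
relative to S with S quasi-separated. -/
theorem result {S : Scheme.{u}} [QuasiSeparatedSpace ↥S] (X : AlgSp.Space S)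
    (hXc : AlgSp.IsQuasiCompactSp X.obj) (hXs : AlgSp.IsQuasiSeparatedSp X.obj)
    (P : ∀ U : AlgSp.Space S, (U ⟶ X) → Prop)
    (W : AlgSp.Space S) (jW : W ⟶ X) (hjW : AlgSp.RepWith @IsOpenImmersion jW.hom)
    (hWc : AlgSp.IsQuasiCompactSp W.obj) (h1 : P W jW)
    (h2 : ∀ (W₁ W₂ V : AlgSp.Space S) (j₁ : W₁ ⟶ X) (j₂ : W₂ ⟶ X) (k : W₁ ⟶ W₂) (m : W ⟶ W₁) (f : V ⟶ W₂),
      AlgSp.RepWith @IsOpenImmersion j₁.hom → AlgSp.RepWith @IsOpenImmersion j₂.hom →
      k ≫ j₂ = j₁ → m ≫ j₁ = jW →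
      AlgSp.IsQuasiCompactSp W₁.obj → AlgSp.IsQuasiCompactSp W₂.obj →
      (∃ T : Over S, IsAffine T.left ∧ Nonempty ((AlgSp.yon S).obj T ≅ V.obj)) →
      AlgSp.IsElemDistSq k.hom f.hom → P W₁ j₁ → P W₂ j₂) :
    P X (𝟙 X) := by
  classical
  have := Groth.Agent.AlgSpB.compactSpace_points_of_isQuasiCompactSp hXc
  -- the square attached to an affine etale map which is injective outside
  have sqs : ∀ (W₁ W₂ : AlgSp.Space S) (j₁ : W₁ ⟶ X) (j₂ : W₂ ⟶ X) (m : W ⟶ W₁) (V : Over S)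
      (f : (AlgSp.yon S).obj V ⟶ X.obj), AlgSp.RepWith @IsOpenImmersion j₁.hom →
      AlgSp.RepWith @IsOpenImmersion j₂.hom → IsAffine V.left → AlgSp.RepWith @Etale f →
      IsCompact (Set.range (AlgSp.Points.map j₁.hom)) → IsCompact (Set.range (AlgSp.Points.map j₂.hom)) →
      Set.range (AlgSp.Points.map j₂.hom) = Set.range (AlgSp.Points.map j₁.hom) ∪ Set.range (AlgSp.Points.ofPt f) →
      Groth.Agent.AlgSpEN.InjOutside f (Set.range (AlgSp.Points.map j₁.hom)) → m ≫ j₁ = jW → P W₁ j₁ →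
      ∃ m' : W ⟶ W₂, m' ≫ j₂ = jW ∧ P W₂ j₂ := by
    intro W₁ W₂ j₁ j₂ m V f hj₁ hj₂ hV hf hc₁ hc₂ hr hinj hm hP
    obtain ⟨k, f₂, hk, -, -, hf₂, hsq⟩ := Groth.Agent.AlgSpEN.exists_isElemDistSq j₁ j₂ hj₁ hj₂ f hf hr hinj
    exact ⟨m ≫ k, by rw [Category.assoc, hk, hm],
      h2 W₁ W₂ ⟨(AlgSp.yon S).obj V, AlgSp.IsAlgSpace.yon_obj V⟩ j₁ j₂ k m (ObjectProperty.homMk f₂) hj₁ hj₂ hk hm
        (Groth.Agent.AlgSpEN.isQuasiCompactSp_of_isCompact_range j₁ hj₁ hc₁)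
        (Groth.Agent.AlgSpEN.isQuasiCompactSp_of_isCompact_range j₂ hj₂ hc₂) ⟨V, hV, ⟨Iso.refl _⟩⟩ hsq hP⟩
  obtain ⟨W', j', m, hj', hr', hm, hP⟩ := Groth.Agent.AlgSpEN.openInduction X hXc hXs
    (Set.range (AlgSp.Points.map jW.hom)) (Groth.Agent.AlgSpB.isOpen_range_of_isOpenImmersion hjW)
    (Groth.Agent.AlgSpEN.isCompact_range_map jW hWc)
    (fun A => ∃ (W' : AlgSp.Space S) (j' : W' ⟶ X) (m : W ⟶ W'), AlgSp.RepWith @IsOpenImmersion j'.hom ∧
      Set.range (AlgSp.Points.map j'.hom) = A ∧ m ≫ j' = jW ∧ P W' j')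
    ⟨W, jW, 𝟙 W, hjW, rfl, Category.id_comp _, h1⟩ (by
      rintro A V f hA hAc - hV hf hinj ⟨W₁, j₁, m, hj₁, rfl, hm, hP⟩
      have := hV
      have hfo : IsOpen (Set.range (AlgSp.Points.ofPt f)) :=
        Set.image_univ (f := AlgSp.Points.ofPt f) ▸ Groth.Agent.AlgSpB.isOpenMap_ofPt hf _ isOpen_univ
      obtain ⟨W₂, j₂, hj₂, hr⟩ := Groth.Agent.AlgSpB.exists_openSubspace X (hA.union hfo)
      obtain ⟨m', hm', hP'⟩ := sqs W₁ W₂ j₁ j₂ m V f hj₁ hj₂ hV hf hAc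
        (hr ▸ hAc.union (isCompact_range (AlgSp.Points.continuous_ofPt f))) hr hinj hm hP
      exact ⟨W₂, j₂, m', hj₂, hr, hm', hP'⟩)
  obtain ⟨V, f, hV, hf, -⟩ := Groth.Agent.AlgSpEN.exists_affine_atlas X hXc
  have hid : AlgSp.RepWith @IsOpenImmersion (𝟙 X : X ⟶ X).hom := MorphismProperty.of_isIso _ _
  have hr1 : Set.range (AlgSp.Points.map (𝟙 X : X ⟶ X).hom) = Set.univ :=
    Set.eq_univ_of_forall fun x => ⟨x, AlgSp.Points.map_id x⟩
  obtain ⟨-, -, hPX⟩ := sqs W' X j' (𝟙 X) m V f hj' hid hV hf (hr' ▸ isCompact_univ)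
    (hr1 ▸ isCompact_univ) (by rw [hr', hr1, Set.univ_union]) (hr' ▸ Groth.Agent.AlgSpEN.injOutside_univ f) hm hP
  exact hPX

end Groth.Agent.S10768
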