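import Groth.Statements.S10769
import Groth.Agent.AlgSpEN.RlimQC
import Groth.Agent.AlgSpD.QCColim
import Groth.Agent.KFlat.HomologyColim
-- import your own Groth.Agent.* helpers here

set_option autoImplicit false
set_option backward.isDefEq.respectTransparency false
set_option backward.isDefEq.respectTransparency.types false
universe u
open CategoryTheory CategoryTheory.Limits AlgebraicGeometry
attribute [local instance] HasDerivedCategory.standard
open AlgSp

namespace Groth.Agent.S10769

/-- Let X be an algebraic space over S and E_i a family of objects of D(O_X) (modules on the small etale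
site) with quasi-coherent cohomology sheaves. Granted that the direct sum of the E_i exists in
D(O_X) (it does), the direct sum again has quasi-coherent cohomology sheaves; thus D_QCoh(O_X) has
direct sums and they agree with those of D(O_X). -/
theorem result {S : Scheme.{u}} (X : AlgSp.Space S) {ι : Type (u + 1)}
    (E : ι → AlgSp.DModEt X.obj) [HasCoproduct E]
    (hE : ∀ i, DCoh.IsQCohDMod (AlgSp.OEtRing X.obj) (E i)) :
    DCoh.IsQCohDMod (AlgSp.OEtRing X.obj) (∐ E) := by
  intro m
  have := Groth.Agent.AlgSpQC.isGrothendieckAbelian_sheafOfModules (AlgSp.OEtRing X.obj)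
  let C : ι → CochainComplex (AlgSp.ModEt X.obj) ℤ := fun i => DerivedCategory.Q.objPreimage (E i)
  let e : ∀ i, DerivedCategory.Q.obj (C i) ≅ E i := fun i => DerivedCategory.Q.objObjPreimageIso (E i)
  obtain ⟨hc⟩ := Groth.Agent.DHA.KInj.nonempty_isColimit_Q (T := ι)
    (fun K => ⟨_, (Groth.Agent.DHA.KInj.resolutionι (AlgSp.ModEt X.obj)).app K, inferInstance, inferInstance⟩) C
  have : HasCoproduct fun i => DerivedCategory.Q.obj (C i) := ⟨⟨⟨_, hc⟩⟩⟩
  let φ : DerivedCategory.Q.obj (∐ C) ≅ ∐ E :=
    hc.coconePointUniqueUpToIso (coproductIsCoproduct _) ≪≫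
      HasColimit.isoOfNatIso (Discrete.natIso fun i => e i.as)
  have : HasFiniteBiproducts (AlgSp.ModEt X.obj) := HasFiniteBiproducts.of_hasFiniteProducts
  have : AB4OfSize.{u + 1} (AlgSp.ModEt X.obj) := AB4.of_AB5 _
  let H := HomologicalComplex.homologyFunctor (AlgSp.ModEt X.obj) (ComplexShape.up ℤ) m
  have hH : ∀ i, (H.obj (C i)).IsQuasicoherent := fun i =>
    ((SheafOfModules.isQuasicoherent (AlgSp.OEtRing X.obj)).prop_iff_of_iso
      ((DerivedCategory.homologyFunctor (AlgSp.ModEt X.obj) m).mapIso (e i).symm ≪≫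
        (DerivedCategory.homologyFunctorFactors (AlgSp.ModEt X.obj) m).app (C i))).1 (hE i m)
  have := Groth.Agent.AlgSpD.QCColim.isQuasicoherent_sigma (fun i => H.obj (C i)) hH
  exact ((SheafOfModules.isQuasicoherent (AlgSp.OEtRing X.obj)).prop_iff_of_iso
    ((PreservesCoproduct.iso H C).symm ≪≫
      ((DerivedCategory.homologyFunctorFactors (AlgSp.ModEt X.obj) m).app (∐ C)).symm ≪≫
        (DerivedCategory.homologyFunctor (AlgSp.ModEt X.obj) m).mapIso φ)).1 this

end Groth.Agent.S10769
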