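import Groth.Statements.S10771
import Groth.Agent.AlgSpEN.PerfQC

set_option autoImplicit false
universe u
open CategoryTheory CategoryTheory.Limits AlgebraicGeometry
attribute [local instance] HasDerivedCategory.standard
open AlgSp

namespace Groth.Agent.S10771

/-- Let X be an algebraic space over S and E an m-pseudo-coherent object of D(O_X) (modules on the small
etale site). Then H^i(E) is a quasi-coherent O_X-module for every i > m. In particular a
pseudo-coherent object has quasi-coherent cohomology sheaves. -/
theorem result {S : Scheme.{u}} (X : AlgSp.Space S) (m : ℤ)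
    (E : AlgSp.DModEt X.obj) (hE : AlgSp.IsPseudoCoherentEtD m E) (i : ℤ) (hi : m < i) :
    (DCoh.HDMod (AlgSp.OEtRing X.obj) E i).IsQuasicoherent := by
  exact Groth.Agent.AlgSpEN.PerfQC.isQuasicoherent_HDMod E m i hi hE

end Groth.Agent.S10771
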