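import Groth.Statements.S10775
import Groth.Agent.AlgSpEN.FamHomVanish
import Groth.Agent.AlgSpEN.PerfBound

set_option autoImplicit false
universe u
open CategoryTheory CategoryTheory.Limits AlgebraicGeometry

set_option backward.isDefEq.respectTransparency false
set_option backward.isDefEq.respectTransparency.types false
set_option maxHeartbeats 2000000
set_option synthInstance.maxHeartbeats 100000
attribute [local instance] HasDerivedCategory.standard
open AlgSp Pretriangulated

namespace Groth.Agent.S10775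

/-- Let X be a quasi-compact and quasi-separated algebraic space over S and K a perfect object of D(O_X)
(modules on the small etale site). Then there are integers a ≤ b such that Hom(K, L) = 0 for every L
in D_QCoh(O_X) with H^i(L) = 0 for all i ∈ [a, b]. Quasi-separatedness is relative to S with S
quasi-separated. -/
theorem result {S : Scheme.{u}} [QuasiSeparatedSpace ↥S] (X : AlgSp.Space S)
    (hXc : AlgSp.IsQuasiCompactSp X.obj) (hXs : AlgSp.IsQuasiSeparatedSp X.obj)
    (K : AlgSp.DModEt X.obj) (hK : AlgSp.IsPerfectEtD K) :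
    ∃ a b : ℤ, a ≤ b ∧ ∀ L : AlgSp.DModEt X.obj, DCoh.IsQCohDMod (AlgSp.OEtRing X.obj) L →
      (∀ i : ℤ, a ≤ i → i ≤ b → IsZero (DCoh.HDMod (AlgSp.OEtRing X.obj) L i)) →
      ∀ φ : K ⟶ L, φ = 0 := by
  obtain ⟨c, hc, hv⟩ := Groth.Agent.AlgSpEN.FamHom.exists_vanishing hXc hXs K hK
  obtain ⟨-, d, -, hd⟩ := Groth.Agent.AlgSpEN.PerfBound.exists_isLE_isGE hXc hK
  refine ⟨-c, max (-c) d, le_max_left _ _, fun L hL hz φ => ?_⟩
  let t : Triangulated.TStructure (DModEt X.obj) := DerivedCategory.TStructure.t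
  let T := (t.triangleLTGE (-c)).obj L
  have hT : T ∈ distTriang (DModEt X.obj) := t.triangleLTGE_distinguished (-c) L
  have h3 : t.IsGE ((t.truncGE (-c)).obj L) (max (-c) d + 1) := by
    have hge : t.IsGE ((t.truncGE (-c)).obj L) (-c) := inferInstance
    refine (DerivedCategory.isGE_iff _ _).2 fun i hi => ?_
    rcases lt_or_ge i (-c) with h | h
    · exact DerivedCategory.isZero_of_isGE _ (-c) i h
    · have := Groth.Agent.KFlat.TruncHom.isIso_H_truncGEπ L (-c) i h
      exact (hz i h (by omega)).of_iso (asIso ((DerivedCategory.homologyFunctor _ i).map ((t.truncGEπ (-c)).app L))).symm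
  have e3 : φ ≫ T.mor₂ = 0 := by
    have : t.IsLE K d := hd
    have : t.IsGE T.obj₃ (max (-c) d + 1) := h3
    exact t.zero (φ ≫ T.mor₂) d (max (-c) d + 1) (by omega)
  obtain ⟨ψ, hψ⟩ := Pretriangulated.Triangle.coyoneda_exact₂ T hT φ e3
  have e1 : ψ = 0 := hv _ (Groth.Agent.AlgSpEN.RFQC.isQCohDMod_truncLT hL (-c)) (-c - 1)
    (t.isLE_truncLT_obj L (-c) (-c - 1) (by omega)) (by omega) ψ
  exact hψ.trans ((congrArg (· ≫ T.mor₁) e1).trans zero_comp)

end Groth.Agent.S10775
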