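import Groth.Statements.S10776
import Groth.Agent.AlgSpEN.FamHomVanish
import Groth.Agent.AlgSpEN.PerfBound

set_option autoImplicit false
universe u
open CategoryTheory CategoryTheory.Limits AlgebraicGeometry

set_option backward.isDefEq.respectTransparency false
set_option backward.isDefEq.respectTransparency.types false
set_option maxHeartbeats 2000000
set_option synthInstance.maxHeartbeats 100000
attribute [local instance] HasDerivedCategory.standard
open AlgSp

namespace Groth.Agent.S10776

/-- Let X be a quasi-compact and quasi-separated algebraic space over S, K a perfect object of D(O_X)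
(modules on the small etale site) and L a bounded object of D_QCoh(O_X). Then Ext^n(K, L) = Hom(K,
L[n]) vanishes for all but finitely many n: there is N with Hom(K, L[n]) = 0 whenever |n| ≥ N.
Quasi-separatedness is relative to S with S quasi-separated. -/
theorem result {S : Scheme.{u}} [QuasiSeparatedSpace ↥S] (X : AlgSp.Space S)
    (hXc : AlgSp.IsQuasiCompactSp X.obj) (hXs : AlgSp.IsQuasiSeparatedSp X.obj)
    (K : AlgSp.DModEt X.obj) (hK : AlgSp.IsPerfectEtD K)
    (L : AlgSp.DModEt X.obj) (hL : DCoh.IsQCohDMod (AlgSp.OEtRing X.obj) L)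
    (a b : ℤ) (hLa : L.IsGE a) (hLb : L.IsLE b) :
    ∃ N : ℕ, ∀ n : ℤ, (N : ℤ) ≤ |n| → ∀ φ : K ⟶ L⟦n⟧, φ = 0 := by
  obtain ⟨c, hc, hv⟩ := Groth.Agent.AlgSpEN.FamHom.exists_vanishing hXc hXs K hK
  obtain ⟨-, d, -, hd⟩ := Groth.Agent.AlgSpEN.PerfBound.exists_isLE_isGE hXc hK
  let t : Triangulated.TStructure (DModEt X.obj) := DerivedCategory.TStructure.t
  refine ⟨(|b| + |c| + |a| + |d| + 1).natAbs, fun n hn φ => ?_⟩
  rw [Int.natCast_natAbs, abs_of_nonneg (by positivity)] at hn
  have ha := abs_le.1 (le_refl |a|); have hb := abs_le.1 (le_refl |b|)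
  have hcc := abs_le.1 (le_refl |c|); have hdd := abs_le.1 (le_refl |d|)
  rcases le_total 0 n with h | h
  · rw [abs_of_nonneg h] at hn
    exact hv _ (fun q => (SheafOfModules.isQuasicoherent.{u + 1, u, u + 1} (OEtRing X.obj)).prop_of_iso
      (((DerivedCategory.homologyFunctor (ModEt X.obj) 0).shiftIso n q (n + q) rfl).app L).symm (hL (n + q)))
      (b - n) (t.isLE_shift L b n (b - n) (by omega)) (by omega) φ
  · rw [abs_of_nonpos h] at hn
    have : t.IsLE K d := hd
    have : t.IsGE L a := hLa
    have : t.IsGE (L⟦n⟧) (a - n) := t.isGE_shift L a n (a - n) (by omega)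
    exact t.zero φ d (a - n) (by omega)

end Groth.Agent.S10776
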