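import Groth.Statements.S10778
import Groth.Agent.AlgSpEN.FamHomVanish
import Groth.Agent.AlgSpEN.PerfBound

set_option autoImplicit false
universe u
open CategoryTheory CategoryTheory.Limits AlgebraicGeometry

set_option backward.isDefEq.respectTransparency false
set_option backward.isDefEq.respectTransparency.types false
set_option maxHeartbeats 2000000
set_option synthInstance.maxHeartbeats 100000
attribute [local instance] HasDerivedCategory.standard
open AlgSp Pretriangulated

namespace Groth.Agent.S10778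

/-- Let X be a quasi-compact and quasi-separated algebraic space over S, P a perfect object of D(O_X)
(modules on the small etale site), E an object of D_QCoh(O_X) and a ∈ ℤ. Then the morphisms P[-i] ⟶
E vanish for all large i if and only if the morphisms P[-i] ⟶ τ_{≥ a}E vanish for all large i.
Quasi-separatedness is relative to S with S quasi-separated. -/
theorem result {S : Scheme.{u}} [QuasiSeparatedSpace ↥S] (X : AlgSp.Space S)
    (hXc : AlgSp.IsQuasiCompactSp X.obj) (hXs : AlgSp.IsQuasiSeparatedSp X.obj)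
    (P : AlgSp.DModEt X.obj) (hP : AlgSp.IsPerfectEtD P)
    (E : AlgSp.DModEt X.obj) (hE : DCoh.IsQCohDMod (AlgSp.OEtRing X.obj) E) (a : ℤ) :
    (∃ N : ℤ, ∀ i : ℤ, N ≤ i → ∀ φ : P⟦-i⟧ ⟶ E, φ = 0) ↔
      (∃ N : ℤ, ∀ i : ℤ, N ≤ i → ∀ φ : P⟦-i⟧ ⟶ ((DerivedCategory.TStructure.t : CategoryTheory.Triangulated.TStructure (AlgSp.DModEt X.obj)).truncGE a).obj E, φ = 0) := by
  obtain ⟨c, hc, hv⟩ := Groth.Agent.AlgSpEN.FamHom.exists_vanishing hXc hXs P hP
  let t : Triangulated.TStructure (DModEt X.obj) := DerivedCategory.TStructure.t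
  have key : ∀ (M : DModEt X.obj), DCoh.IsQCohDMod (OEtRing X.obj) M → ∀ b : ℤ, M.IsLE b →
      ∀ i : ℤ, b + c < i → ∀ φ : P⟦-i⟧ ⟶ M, φ = 0 := fun M hM b hb i hi φ => by
    have : t.IsLE M b := hb
    have e := hv (M⟦i⟧) (fun q => (SheafOfModules.isQuasicoherent.{u + 1, u, u + 1} (OEtRing X.obj)).prop_of_iso
      (((DerivedCategory.homologyFunctor (ModEt X.obj) 0).shiftIso i q (i + q) rfl).app M).symm (hM (i + q)))
      (b - i) (t.isLE_shift M b i (b - i) (by omega)) (by omega) ((shiftNegShift P i).inv ≫ φ⟦i⟧')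
    refine (shiftFunctor (DModEt X.obj) i).map_injective ?_
    rw [Functor.map_zero]
    exact (cancel_epi ((shiftNegShift P i).inv)).1 (e.trans comp_zero.symm)
  let T := (t.triangleLTGE a).obj E
  have hT : T ∈ distTriang (DModEt X.obj) := t.triangleLTGE_distinguished a E
  have h1 : T.obj₁.IsLE (a - 1) := t.isLE_truncLT_obj E a (a - 1) (by omega)
  have h1q := Groth.Agent.AlgSpEN.RFQC.isQCohDMod_truncLT hE a
  constructor
  · rintro ⟨N, hN⟩
    refine ⟨max N (a + c), fun i hi φ => ?_⟩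
    have : t.IsLE T.obj₁ (a - 1) := h1
    obtain ⟨ψ, hψ⟩ := Pretriangulated.Triangle.coyoneda_exact₃ T hT φ
      (key (T.obj₁⟦(1 : ℤ)⟧) (fun q => (SheafOfModules.isQuasicoherent.{u + 1, u, u + 1} (OEtRing X.obj)).prop_of_iso
        (((DerivedCategory.homologyFunctor (ModEt X.obj) 0).shiftIso (1 : ℤ) q (1 + q) rfl).app T.obj₁).symm (h1q (1 + q)))
        (a - 2) (t.isLE_shift T.obj₁ (a - 1) 1 (a - 2) (by omega)) i (by omega) _)
    exact hψ.trans ((congrArg (· ≫ T.mor₂) (hN i (by omega) ψ)).trans zero_comp)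
  · rintro ⟨N, hN⟩
    refine ⟨max N (a + c), fun i hi φ => ?_⟩
    obtain ⟨ψ, hψ⟩ := Pretriangulated.Triangle.coyoneda_exact₂ T hT φ (hN i (by omega) _)
    exact hψ.trans ((congrArg (· ≫ T.mor₁) (key T.obj₁ h1q (a - 1) h1 i (by omega) ψ)).trans zero_comp)

end Groth.Agent.S10778
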