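import Groth.Statements.S10779
import Groth.Agent.AlgSpEN.PerfBound

set_option autoImplicit false
universe u
open CategoryTheory CategoryTheory.Limits AlgebraicGeometry
attribute [local instance] HasDerivedCategory.standard
open AlgSp Pretriangulated

namespace Groth.Agent.S10779

/-- Let X be a quasi-compact and quasi-separated algebraic space over S, P a perfect object of D(O_X)
(modules on the small etale site), E an object of D_QCoh(O_X) and a ∈ ℤ. Then the morphisms P[-i] ⟶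
E vanish for all sufficiently negative i if and only if the morphisms P[-i] ⟶ τ_{≤ a}E vanish for
all sufficiently negative i. Quasi-separatedness is relative to S with S quasi-separated. -/
theorem result {S : Scheme.{u}} [QuasiSeparatedSpace ↥S] (X : AlgSp.Space S)
    (hXc : AlgSp.IsQuasiCompactSp X.obj) (hXs : AlgSp.IsQuasiSeparatedSp X.obj)
    (P : AlgSp.DModEt X.obj) (hP : AlgSp.IsPerfectEtD P)
    (E : AlgSp.DModEt X.obj) (hE : DCoh.IsQCohDMod (AlgSp.OEtRing X.obj) E) (a : ℤ) :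
    (∃ N : ℤ, ∀ i : ℤ, i ≤ N → ∀ φ : P⟦-i⟧ ⟶ E, φ = 0) ↔
      (∃ N : ℤ, ∀ i : ℤ, i ≤ N → ∀ φ : P⟦-i⟧ ⟶ ((DerivedCategory.TStructure.t : CategoryTheory.Triangulated.TStructure (AlgSp.DModEt X.obj)).truncLE a).obj E, φ = 0) := by
  let t : Triangulated.TStructure (AlgSp.DModEt X.obj) := DerivedCategory.TStructure.t
  obtain ⟨-, b, -, hb⟩ := Groth.Agent.AlgSpEN.PerfBound.exists_isLE_isGE hXc hP
  have hb' : t.IsLE P b := hb
  let T := (t.triangleLEGE a (a + 1) rfl).obj E
  have hT : T ∈ distTriang _ := t.triangleLEGE_distinguished a (a + 1) rfl E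
  have h3 : t.IsGE T.obj₃ (a + 1) := inferInstanceAs (t.IsGE ((t.truncGE (a + 1)).obj E) (a + 1))
  have h3' : t.IsGE (T.obj₃⟦(-1 : ℤ)⟧) (a + 1 + 1) := t.isGE_shift T.obj₃ (a + 1) (-1) (a + 1 + 1)
  have hL : ∀ i : ℤ, t.IsLE (P⟦-i⟧) (b + i) := fun i => t.isLE_shift P b (-i) (b + i)
  constructor
  · rintro ⟨N, h⟩
    refine ⟨min N (a - b), fun i hi φ => ?_⟩
    have h0 : φ ≫ T.mor₁ = 0 := h i (hi.trans (min_le_left _ _)) _
    obtain ⟨ψ, hψ⟩ := Triangle.coyoneda_exact₂ _ (inv_rot_of_distTriang T hT) φ h0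
    have := hL i
    have : t.IsGE T.invRotate.obj₁ (a + 1 + 1) := h3'
    have hψ0 : ψ = 0 := t.zero ψ (b + i) (a + 1 + 1) (by omega)
    exact hψ.trans ((congrArg (· ≫ _) hψ0).trans zero_comp)
  · rintro ⟨N, h⟩
    refine ⟨min N (a - b), fun i hi φ => ?_⟩
    have := hL i
    have h0 : φ ≫ T.mor₂ = 0 := t.zero (φ ≫ T.mor₂) (b + i) (a + 1) (by omega)
    obtain ⟨ψ, hψ⟩ := Triangle.coyoneda_exact₂ _ hT φ h0
    exact hψ.trans ((congrArg (· ≫ _) (h i (hi.trans (min_le_left _ _)) ψ)).trans zero_comp)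

end Groth.Agent.S10779
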