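import Groth.Statements.S1078
import Groth.Agent.CohDerLib.SubobjJH

set_option autoImplicit false
universe v u
open CategoryTheory CategoryTheory.Limits
open CohDer

namespace Groth.Agent.S1078

/-- Let X be an object of an abelian category with two finite chains of subobjects ⊥ = F₀ ≤ … ≤ Fₙ = ⊤
and ⊥ = G₀ ≤ … ≤ Gₘ = ⊤ whose successive quotients are simple. Then n = m, and after transporting
along this equality there is a permutation σ of the indices with Fᵢ₊₁/Fᵢ ≅ G_{σ(i)+1}/G_{σ(i)} for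
all i. -/
theorem result {A : Type u} [Category.{v} A] [Abelian A] (X : A)
    (n : ℕ) (F : Fin (n + 1) → Subobject X) (hF : Monotone F) (hF0 : F 0 = ⊥) (hFn : F (Fin.last n) = ⊤) (hFs : ∀ i : Fin n, Simple (cokernel (Subobject.ofLE (F (Fin.castSucc i)) (F (Fin.succ i)) (hF (Fin.castSucc_lt_succ (i := i)).le))))
    (m : ℕ) (G : Fin (m + 1) → Subobject X) (hG : Monotone G) (hG0 : G 0 = ⊥) (hGm : G (Fin.last m) = ⊤) (hGs : ∀ j : Fin m, Simple (cokernel (Subobject.ofLE (G (Fin.castSucc j)) (G (Fin.succ j)) (hG (Fin.castSucc_lt_succ (i := j)).le)))) :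
    ∃ (e : n = m) (σ : Equiv.Perm (Fin m)), ∀ i : Fin n,
      Nonempty (cokernel (Subobject.ofLE (F (Fin.castSucc i)) (F (Fin.succ i)) (hF (Fin.castSucc_lt_succ (i := i)).le)) ≅
        cokernel (Subobject.ofLE (G (Fin.castSucc (σ (Fin.cast e i)))) (G (Fin.succ (σ (Fin.cast e i)))) (hG (Fin.castSucc_lt_succ (i := σ (Fin.cast e i))).le))) := by
  open Groth.Agent.CohDerLib.SubobjJH in
  let sF : CompositionSeries (Subobject X) := ⟨n, F, fun i =>
    haveI := hFs i
    covBy_of_simple _⟩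
  let sG : CompositionSeries (Subobject X) := ⟨m, G, fun i =>
    haveI := hGs i
    covBy_of_simple _⟩
  obtain ⟨f, hf⟩ := CompositionSeries.jordan_holder sF sG
    (show F 0 = G 0 by rw [hF0, hG0]) (show F (Fin.last n) = G (Fin.last m) by rw [hFn, hGm])
  have e : n = m := Fin.equiv_iff_eq.1 ⟨f⟩
  refine ⟨e, (finCongr e).symm.trans f, fun i => ?_⟩
  have hi : ((finCongr e).symm.trans f) (Fin.cast e i) = f i := by
    show f _ = f i
    congr 1
  rw [hi]
  obtain ⟨e₀⟩ := nonempty_iso_of_iso (hf i)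
  obtain ⟨e₁⟩ := nonempty_iso_Q (hF (Fin.castSucc_lt_succ (i := i)).le)
  obtain ⟨e₂⟩ := nonempty_iso_Q (hG (Fin.castSucc_lt_succ (i := f i)).le)
  exact ⟨e₁ ≪≫ e₀ ≪≫ e₂.symm⟩

end Groth.Agent.S1078
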