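import Groth.Statements.S10784
import Groth.Agent.AlgSpEN.RFQC

set_option autoImplicit false
universe u
open CategoryTheory CategoryTheory.Limits AlgebraicGeometry
attribute [local instance] HasDerivedCategory.standard
open AlgSp

namespace Groth.Agent.S10784

/-- Let X be an algebraic space over S, F : Mod(O_X) ⥤ Ab (modules on the small etale site) a left exact
additive functor commuting with countable direct products, and N ≥ 0 an integer with R^pF(G) = 0 for
every p ≥ N and every quasi-coherent module G (right derived functors computed with injective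
resolutions). Assume the total right derived functor RF : D(O_X) ⥤ D(Ab) exists. Let E be in
D_QCoh(O_X) and a, b integers. If H^i(E) = 0 for all i < a, then H^i(RF(E)) = 0 for all i < a; and
if H^i(E) = 0 for all i > b, then H^i(RF(E)) = 0 for all i > b + N - 1. (Either bound may be absent:
the two implications are stated separately, so E need not be bounded on the other side.) -/
theorem result {S : Scheme.{u}} (X : AlgSp.Space S)
    (F : AlgSp.ModEt X.obj ⥤ AddCommGrpCat.{u + 1}) [F.Additive] [PreservesFiniteLimits F]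
    [PreservesLimitsOfShape (Discrete ℕ) F] [EnoughInjectives (AlgSp.ModEt X.obj)] (N : ℕ)
    (hF : ∀ G : AlgSp.ModEt X.obj, G.IsQuasicoherent → ∀ p : ℕ, N ≤ p → IsZero ((F.rightDerived p).obj G))
    [(F.mapHomotopyCategory (ComplexShape.up ℤ) ⋙ DerivedCategory.Qh).HasRightDerivedFunctor
      (HomotopyCategory.quasiIso (AlgSp.ModEt X.obj) (ComplexShape.up ℤ))]
    (E : AlgSp.DModEt X.obj) (hE : DCoh.IsQCohDMod (AlgSp.OEtRing X.obj) E) (a b : ℤ) :
    ((∀ i : ℤ, i < a → IsZero (DCoh.HDMod (AlgSp.OEtRing X.obj) E i)) →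
      ∀ i : ℤ, i < a → IsZero ((DerivedCategory.homologyFunctor AddCommGrpCat.{u + 1} i).obj (((F.mapHomotopyCategory (ComplexShape.up ℤ) ⋙ DerivedCategory.Qh).totalRightDerived DerivedCategory.Qh (HomotopyCategory.quasiIso (AlgSp.ModEt X.obj) (ComplexShape.up ℤ))).obj E))) ∧
    ((∀ i : ℤ, b < i → IsZero (DCoh.HDMod (AlgSp.OEtRing X.obj) E i)) →
      ∀ i : ℤ, b + N - 1 < i → IsZero ((DerivedCategory.homologyFunctor AddCommGrpCat.{u + 1} i).obj (((F.mapHomotopyCategory (ComplexShape.up ℤ) ⋙ DerivedCategory.Qh).totalRightDerived DerivedCategory.Qh (HomotopyCategory.quasiIso (AlgSp.ModEt X.obj) (ComplexShape.up ℤ))).obj E))) := by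
  exact ⟨fun ha i hi => Groth.Agent.AlgSpEN.RFQC.isZero_below F E a i ha hi,
    fun hb i hi => Groth.Agent.AlgSpEN.RFQC.isZero_above F N hF E hE b i hb (by omega)⟩

end Groth.Agent.S10784
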