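import Groth.Statements.S10787
import Groth.Agent.InjHull.Prime
import Mathlib.RingTheory.Artinian.Module
import Mathlib.RingTheory.Ideal.KrullsHeightTheorem
import Mathlib.RingTheory.Localization.Finiteness
import Mathlib.CategoryTheory.Limits.Types.Filtered
import Mathlib.Algebra.Category.ModuleCat.FilteredColimits

set_option autoImplicit false
universe u
open CategoryTheory CategoryTheory.Limits
open CAlg

namespace Groth.Agent.S10787

/-- `M` carries the structure of a finite module over some Artinian `A`-algebra. -/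
def Good (A : Type u) [CommRing A] (M : Type u) [AddCommGroup M] [Module A M] : Prop :=
  ∃ (B : Type u) (_ : CommRing B) (_ : Algebra A B) (_ : IsArtinianRing B) (_ : Module B M)
    (_ : IsScalarTower A B M), Module.Finite B M

variable {A : Type u} [CommRing A]

theorem good_of_subsingleton (M : Type u) [AddCommGroup M] [Module A M] [Subsingleton M] : Good A M := by
  have h : Module.IsTorsionBySet A M (⊤ : Ideal A) := fun x a => Subsingleton.elim _ _
  have : Subsingleton (A ⧸ (⊤ : Ideal A)) := Ideal.Quotient.subsingleton_iff.2 rfl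
  let _ : Module (A ⧸ (⊤ : Ideal A)) M := h.module
  exact ⟨A ⧸ (⊤ : Ideal A), inferInstance, inferInstance, inferInstance, inferInstance,
    h.isScalarTower, Module.Finite.of_finite⟩

theorem good_of_equiv {M M' : Type u} [AddCommGroup M] [Module A M] [AddCommGroup M'] [Module A M']
    (e : M ≃ₗ[A] M') (h : Good A M) : Good A M' := by
  obtain ⟨B, _, _, _, _, _, hfin⟩ := h
  let inst : Module B M' := e.symm.toAddEquiv.module B
  have hs : ∀ (b : B) (x : M'), b • x = e (b • e.symm x) := fun b x => rfl
  refine ⟨B, inferInstance, inferInstance, inferInstance, inst, ⟨fun a b x => ?_⟩, ?_⟩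
  · rw [hs, hs, smul_assoc, map_smul]
  · exact Module.Finite.of_surjective
      ({ toFun := e, map_add' := map_add e,
         map_smul' := fun b x => by rw [RingHom.id_apply, hs, e.symm_apply_apply] } : M →ₗ[B] M')
      e.surjective

theorem good_prod {M N : Type u} [AddCommGroup M] [Module A M] [AddCommGroup N] [Module A N]
    (hM : Good A M) (hN : Good A N) : Good A (M × N) := by
  obtain ⟨B, _, _, _, _, _, hB⟩ := hM
  obtain ⟨C, _, _, _, _, _, hC⟩ := hN
  let _ : Module (B × C) M := Module.compHom M (RingHom.fst B C)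
  let _ : Module (B × C) N := Module.compHom N (RingHom.snd B C)
  have : IsScalarTower A (B × C) M := ⟨fun a b x => smul_assoc a b.1 x⟩
  have : IsScalarTower A (B × C) N := ⟨fun a b x => smul_assoc a b.2 x⟩
  have : Module.Finite (B × C) M := by
    obtain ⟨s, hs⟩ := hB.fg_top
    refine ⟨⟨s, Submodule.eq_top_iff'.2 fun x => ?_⟩⟩
    have hx : x ∈ Submodule.span B (s : Set M) := hs ▸ trivial
    induction hx using Submodule.span_induction with
    | mem x hx => exact Submodule.subset_span hx
    | zero => exact zero_mem _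
    | add _ _ _ _ h₁ h₂ => exact add_mem h₁ h₂
    | smul b x _ h => exact Submodule.smul_mem _ (b, 0) h
  have : Module.Finite (B × C) N := by
    obtain ⟨s, hs⟩ := hC.fg_top
    refine ⟨⟨s, Submodule.eq_top_iff'.2 fun x => ?_⟩⟩
    have hx : x ∈ Submodule.span C (s : Set N) := hs ▸ trivial
    induction hx using Submodule.span_induction with
    | mem x hx => exact Submodule.subset_span hx
    | zero => exact zero_mem _
    | add _ _ _ _ h₁ h₂ => exact add_mem h₁ h₂
    | smul b x _ h => exact Submodule.smul_mem _ ((0, b) : B × C) h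
  exact ⟨B × C, inferInstance, inferInstance, inferInstance, inferInstance, inferInstance,
    inferInstance⟩

theorem good_sup {J : Type u} [AddCommGroup J] [Module A J] {X Y : Submodule A J} (h : Disjoint X Y)
    (hX : Good A X) (hY : Good A Y) : Good A (X ⊔ Y : Submodule A J) := by
  have hinj : Function.Injective (X.subtype.coprod Y.subtype) := by
    rw [← LinearMap.ker_eq_bot, LinearMap.ker_coprod_of_disjoint_range _ _ (by simpa using h)]
    simp
  exact good_of_equiv ((LinearEquiv.ofInjective _ hinj).trans
    (LinearEquiv.ofEq _ _ (by simp [LinearMap.range_coprod]))) (good_prod hX hY)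

theorem good_finset_sup {J : Type u} [AddCommGroup J] [Module A J] {ι : Type u}
    (G : ι → Submodule A J) (hG : iSupIndep G) (hgood : ∀ i, Good A (G i)) (s : Finset ι) :
    Good A (s.sup G : Submodule A J) := by
  classical
  induction s using Finset.induction_on with
  | empty =>
    rw [Finset.sup_empty]
    exact good_of_subsingleton _
  | insert a s ha ih =>
    rw [Finset.sup_insert]
    exact good_sup ((hG a).mono_right (Finset.sup_le fun j hj =>
      le_iSup₂_of_le j (fun h => ha (by rw [h] at hj; exact hj)) le_rfl)) (hgood a) ih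

variable {E : Type u} [AddCommGroup E] [Module A E]

/-- The saturation of a submodule with respect to the complement of a prime. -/
def sat (p : Ideal A) [hp : p.IsPrime] (N : Submodule A E) : Submodule A E where
  carrier := {x | ∃ s : A, s ∉ p ∧ s • x ∈ N}
  add_mem' := by
    rintro x y ⟨s, hs, hx⟩ ⟨t, ht, hy⟩
    refine ⟨t * s, p.primeCompl.mul_mem ht hs, ?_⟩
    rw [smul_add]
    exact add_mem (by rw [mul_smul]; exact N.smul_mem t hx)
      (by rw [mul_comm, mul_smul]; exact N.smul_mem s hy)
  zero_mem' := ⟨1, p.primeCompl.one_mem, by simp⟩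
  smul_mem' := fun c x ⟨s, hs, hx⟩ => ⟨s, hs, by rw [smul_comm]; exact N.smul_mem c hx⟩

theorem le_sat (p : Ideal A) [p.IsPrime] (N : Submodule A E) : N ≤ sat p N :=
  fun x hx => ⟨1, p.primeCompl.one_mem, by rwa [one_smul]⟩

theorem sat_mono (p : Ideal A) [p.IsPrime] {N N' : Submodule A E} (h : N ≤ N') : sat p N ≤ sat p N' :=
  fun _ ⟨s, hs, hx⟩ => ⟨s, hs, h hx⟩

open IsLocalRing in
theorem good_sat [IsNoetherianRing A] (p : Ideal A) [p.IsPrime]
    (hbij : ∀ r ∉ p, Function.Bijective fun x : E => r • x)
    (htor : ∀ (x : E), ∀ r ∈ p, ∃ n : ℕ, r ^ n • x = 0) (N : Submodule A E) (hN : N.FG) :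
    Good A (sat p N) := by
  classical
  -- a power of `p` kills `N`
  obtain ⟨k, hk⟩ : ∃ k, p ^ k ≤ N.annihilator := by
    refine Ideal.exists_pow_le_of_le_radical_of_fg (fun r hr => ?_) (IsNoetherian.noetherian p)
    obtain ⟨T, hT⟩ := hN
    choose n hn using fun x : E => htor x r hr
    refine ⟨T.sup n, ?_⟩
    rw [← hT, Submodule.mem_annihilator_span]
    rintro ⟨x, hx⟩
    change r ^ T.sup n • x = 0
    rw [← Nat.sub_add_cancel (Finset.le_sup (f := n) hx), pow_add, mul_smul, hn, smul_zero]
  let S := p.primeCompl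
  let incl : N →ₗ[A] sat p N := Submodule.inclusion (le_sat p N)
  have hloc : IsLocalizedModule S incl := by
    refine ⟨fun s => (Module.End.isUnit_iff _).2 ⟨fun x y h => ?_, fun x => ?_⟩, fun y => ?_, ?_⟩
    · exact Subtype.ext ((hbij s s.2).1 (congrArg Subtype.val h))
    · obtain ⟨y, hy⟩ := (hbij s s.2).2 (x : E)
      obtain ⟨t, ht, hx⟩ := x.2
      exact ⟨⟨y, t * s, p.primeCompl.mul_mem ht s.2, by rw [mul_smul, show (s : A) • y = x from hy]; exact hx⟩,
        Subtype.ext hy⟩
    · obtain ⟨t, ht, hy⟩ := y.2
      exact ⟨(⟨_, hy⟩, ⟨t, ht⟩), Subtype.ext rfl⟩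
    · intro a b h
      exact ⟨1, by rw [Submodule.inclusion_injective (le_sat p N) h]⟩
  refine good_of_equiv (IsLocalizedModule.iso S incl) ?_
  let R := Localization S
  have : IsLocalization.AtPrime R p := inferInstance
  let I : Ideal (Localization.AtPrime p) := maximalIdeal (Localization.AtPrime p) ^ (k + 1)
  have hI : Module.IsTorsionBySet (Localization.AtPrime p) (LocalizedModule S N) I := by
    rintro x ⟨a, ha⟩
    change a • x = 0
    rw [SetLike.mem_coe] at ha
    have hle : I ≤ Ideal.map (algebraMap A (Localization.AtPrime p)) (p ^ (k + 1)) := by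
      rw [Ideal.map_pow, Localization.AtPrime.map_eq_maximalIdeal]
    have hz : Ideal.map (algebraMap A (Localization.AtPrime p)) (p ^ (k + 1)) ≤
        LinearMap.ker (LinearMap.toSpanSingleton (Localization.AtPrime p) (LocalizedModule S N) x) := by
      rw [Ideal.map_le_iff_le_comap]
      intro r hr
      change algebraMap A (Localization.AtPrime p) r • x = 0
      rw [algebraMap_smul]
      induction x using LocalizedModule.induction_on with
      | h m s =>
        rw [LocalizedModule.smul'_mk]
        have : r • m = 0 := Subtype.ext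
          (Submodule.mem_annihilator.1 (hk (Ideal.pow_le_pow_right (Nat.le_succ k) hr)) m m.2)
        rw [this, LocalizedModule.zero_mk]
    exact hz (hle ha)
  have hart : IsArtinianRing (Localization.AtPrime p ⧸ I) := by
    have : IsNoetherianRing (Localization.AtPrime p) :=
      IsLocalization.isNoetherianRing p.primeCompl _ inferInstance
    refine IsLocalRing.quotient_artinian_of_mem_minimalPrimes_of_isLocalRing _ ?_
    exact ⟨⟨inferInstance, Ideal.pow_le_self (Nat.succ_ne_zero k)⟩,
      fun q hq _ => Ideal.IsPrime.le_of_pow_le (hP := hq.1) hq.2⟩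
  have : Module.Finite A N := Module.Finite.iff_fg.2 hN
  have hfin : Module.Finite (Localization.AtPrime p) (LocalizedModule S N) :=
    Module.Finite.of_isLocalizedModule S (LocalizedModule.mkLinearMap S N)
  let _ : Module (Localization.AtPrime p ⧸ I) (LocalizedModule S N) := hI.module
  have ht : IsScalarTower (Localization.AtPrime p) (Localization.AtPrime p ⧸ I) (LocalizedModule S N) :=
    hI.isScalarTower
  have ht' : IsScalarTower A (Localization.AtPrime p ⧸ I) (LocalizedModule S N) := ⟨fun a b x => by
    obtain ⟨c, rfl⟩ := Ideal.Quotient.mk_surjective b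
    change Ideal.Quotient.mk I (a • c) • x = a • (Ideal.Quotient.mk I c • x)
    rw [hI.mk_smul, hI.mk_smul, smul_assoc]⟩
  exact ⟨_, inferInstance, inferInstance, hart, inferInstance, ht',
    Module.Finite.of_restrictScalars_finite (Localization.AtPrime p) _ _⟩

open Groth.Agent.InjHull Groth.Agent.InjHull.Basic in
theorem exists_prime [IsNoetherianRing A] (hE : _root_.InjHull.IsIndecomposable A E)
    (hinj : Module.Injective A E) :
    ∃ p : Ideal A, p.IsPrime ∧ (∀ r ∉ p, Function.Bijective fun x : E => r • x) ∧
      ∀ (x : E), ∀ r ∈ p, ∃ n : ℕ, r ^ n • x = 0 := by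
  have := hE.1
  obtain ⟨p, hp, hmem⟩ := Noetherian.zeroDivisors_prime hE hinj
  have hmem' : ∀ r, r ∈ p ↔ ∃ x : E, x ≠ 0 ∧ r • x = 0 := fun r => (Set.ext_iff.1 hmem r)
  refine ⟨p, hp, fun r hr => ?_, fun x r hr => ?_⟩
  · let f := LinearMap.lsmul A E r
    have hf : Function.Injective f := (injective_iff_map_eq_zero f).2 fun y hy => by
      by_contra h
      exact hr ((hmem' r).2 ⟨y, h, hy⟩)
    refine ⟨hf, ?_⟩
    obtain ⟨C, hC⟩ := exists_isCompl_of_injective _ (injective_of_equiv hinj (LinearEquiv.ofInjective f hf))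
    rcases hE.2 _ _ hC with h | h
    · obtain ⟨y, hy⟩ := exists_ne (0 : E)
      exact absurd (LinearMap.range_eq_bot.1 h) fun h0 => hy (hf (by simp [h0]))
    · have : LinearMap.range f = ⊤ := by simpa [h] using hC.sup_eq_top
      exact LinearMap.range_eq_top.1 this
  · obtain ⟨y, hy0, hy⟩ := (hmem' r).1 hr
    by_contra hc
    push Not at hc
    let K : ℕ →o Submodule A A :=
      ⟨fun n => LinearMap.ker (LinearMap.toSpanSingleton A E (r ^ n • x)), monotone_nat_of_le_succ fun n c hcm => by
        simp only [LinearMap.mem_ker, LinearMap.toSpanSingleton_apply] at hcm ⊢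
        rw [pow_succ', mul_smul, smul_comm, hcm, smul_zero]⟩
    obtain ⟨n, hn⟩ := monotone_stabilizes_iff_noetherian.2 (inferInstanceAs (IsNoetherian A A)) K
    obtain ⟨c, hcy, hc0⟩ := (uniform_of_indecomposable hE hinj (N := Submodule.span A {y})
      (by simpa using hy0)).2 (r ^ n • x) trivial (hc n)
    obtain ⟨d, hd⟩ := Submodule.mem_span_singleton.1 hcy
    apply hc0
    have h1 : c ∈ K (n + 1) := by
      simp only [K, OrderHom.coe_mk, LinearMap.mem_ker, LinearMap.toSpanSingleton_apply]
      rw [pow_succ', mul_smul, smul_comm, ← hd, smul_comm, hy, smul_zero]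
    rw [← hn (n + 1) (Nat.le_succ n)] at h1
    exact h1

open CategoryTheory Limits in
theorem exists_colimit {P : Type u} [Preorder P] [Nonempty P] [IsDirectedOrder P] {J : Type u}
    [AddCommGroup J] [Module A J] (D : P → Submodule A J) (hmono : Monotone D)
    (hcover : ∀ x : J, ∃ i, x ∈ D i) :
    ∃ (Df : P ⥤ ModuleCat.{u} A) (c : Cocone Df) (_ : IsColimit c),
      Nonempty (c.pt ≅ ModuleCat.of A J) ∧ ∀ i, Nonempty (D i ≃ₗ[A] Df.obj i) :=
  ⟨{ obj := fun F => ModuleCat.of A (D F)
     map := fun f => ModuleCat.ofHom (Submodule.inclusion (hmono f.le)) },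
    { pt := ModuleCat.of A J
      ι := { app := fun F => ModuleCat.ofHom (D F).subtype } },
    isColimitOfReflects (forget (ModuleCat.{u} A)) (Types.FilteredColimit.isColimitOf' _ _
      (fun (x : J) => ⟨(hcover x).choose, (⟨x, (hcover x).choose_spec⟩ : D _), rfl⟩)
      (fun F (a b : D F) h => ⟨F, 𝟙 F, congrArg _ (Subtype.ext (h : (a : J) = b))⟩)),
    ⟨Iso.refl _⟩, fun i => ⟨LinearEquiv.refl A _⟩⟩

/-- Let A be a Noetherian ring and J an injective A-module (an injective object of QCoh of the affine
scheme Spec A, through the equivalence with A-modules). Then J is a filtered colimit of A-modules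
each of which is a finite module over some Artinian A-algebra B, the A-module structure being
restricted from B; these are the modules underlying pushforwards to Spec A of coherent sheaves on
spectra of Artinian rings. -/
theorem result (A : Type u) [CommRing A] [IsNoetherianRing A]
    (J : Type u) [AddCommGroup J] [Module A J] [Module.Injective A J] :
    ∃ (ι : Type u) (_ : SmallCategory ι) (_ : IsFiltered ι) (D : ι ⥤ ModuleCat.{u} A)
      (c : Cocone D) (_ : IsColimit c), Nonempty (c.pt ≅ ModuleCat.of A J) ∧
      ∀ i : ι, ∃ (B : Type u) (_ : CommRing B) (_ : Algebra A B) (_ : IsArtinianRing B)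
        (_ : Module B (D.obj i)) (_ : IsScalarTower A B (D.obj i)), Module.Finite B (D.obj i) := by
  classical
  obtain ⟨κ, E, hInt, hE⟩ := Groth.Agent.InjHull.Prime.exists_isInternal_indecomposable (R := A) (I := J) inferInstance
  choose p hp hbij htor using fun i => exists_prime (hE i).1 (hE i).2
  let e : (DirectSum κ fun i => E i) ≃ₗ[A] J := LinearEquiv.ofBijective (DirectSum.coeLinearMap E) hInt
  let π : ∀ i, J →ₗ[A] E i := fun i => (DirectSum.component A κ _ i).comp e.symm.toLinearMap
  let G : Submodule A J → κ → Submodule A J := fun F i =>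
    (have := hp i; sat (p i) (F.map (π i))).map (E i).subtype
  let D : {F : Submodule A J // F.FG} → Submodule A J := fun F => ⨆ i, G F.1 i
  have hmono : Monotone D := fun F F' h => iSup_mono fun i =>
    have := hp i; Submodule.map_mono (sat_mono (p i) (Submodule.map_mono h))
  have hcover : ∀ x : J, x ∈ D ⟨Submodule.span A {x}, Submodule.fg_span_singleton x⟩ := fun x => by
    have hx : x = e (e.symm x) := (e.apply_symm_apply x).symm
    rw [← DirectSum.sum_support_of (e.symm x), map_sum] at hx
    have hmem : ∑ i ∈ (e.symm x).support, e (DirectSum.of (fun i => E i) i (e.symm x i)) ∈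
        D ⟨Submodule.span A {x}, Submodule.fg_span_singleton x⟩ := by
      refine sum_mem fun i _ => ?_
      have he : e (DirectSum.of (fun i => E i) i (e.symm x i)) = (e.symm x i : J) :=
        DirectSum.coeAddMonoidHom_of E i _
      rw [he]
      have := hp i
      refine Submodule.mem_iSup_of_mem i ⟨e.symm x i, ?_, rfl⟩
      exact le_sat (p i) _ ⟨x, Submodule.subset_span rfl, rfl⟩
    rwa [← hx] at hmem
  have hgood : ∀ F, Good A (D F) := by
    rintro ⟨F, hF⟩
    obtain ⟨T, hT⟩ := id hF
    let s : Finset κ := T.biUnion fun x => (e.symm x).support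
    have hzero : ∀ i ∉ s, G F i = ⊥ := fun i hi => by
      have := hp i
      have h0 : F.map (π i) = ⊥ := by
        rw [← hT, Submodule.map_span, Submodule.span_eq_bot]
        rintro _ ⟨x, hx, rfl⟩
        exact DFinsupp.notMem_support_iff.1 fun h => hi (Finset.mem_biUnion.2 ⟨x, hx, h⟩)
      rw [eq_bot_iff]
      rintro _ ⟨y, ⟨t, ht, hy⟩, rfl⟩
      rw [h0, Submodule.mem_bot] at hy
      have : y = 0 := (hbij i t ht).1 (hy.trans (smul_zero t).symm)
      simp [this]
    have hD : D ⟨F, hF⟩ = s.sup (G F) := by
      refine le_antisymm (iSup_le fun i => ?_) (Finset.sup_le fun i _ => le_iSup (G F) i)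
      by_cases hi : i ∈ s
      · exact Finset.le_sup hi
      · rw [hzero i hi]; exact bot_le
    rw [hD]
    refine good_finset_sup (G F) (hInt.submodule_iSupIndep.mono fun i => Submodule.map_subtype_le _ _)
      (fun i => ?_) s
    have := hp i
    exact good_of_equiv (Submodule.equivMapOfInjective _ (E i).injective_subtype _)
      (good_sat (p i) (hbij i) (htor i) _ (hF.map _))
  have : Nonempty {F : Submodule A J // F.FG} := ⟨⟨⊥, Submodule.fg_bot⟩⟩
  have : IsDirectedOrder {F : Submodule A J // F.FG} :=
    ⟨fun F F' => ⟨⟨F.1 ⊔ F'.1, F.2.sup F'.2⟩, (le_sup_left : F.1 ≤ F.1 ⊔ F'.1), (le_sup_right : F'.1 ≤ F.1 ⊔ F'.1)⟩⟩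
  obtain ⟨Df, c, hc, hpt, hD⟩ := exists_colimit D hmono fun x => ⟨_, hcover x⟩
  refine ⟨{F : Submodule A J // F.FG}, inferInstance, inferInstance, Df, c, hc, hpt, fun F => ?_⟩
  obtain ⟨eF⟩ := hD F
  exact good_of_equiv eF (hgood F)

end Groth.Agent.S10787
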