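import Groth.Statements.S1079
import Mathlib.CategoryTheory.Triangulated.Opposite.Pretriangulated
import Mathlib.CategoryTheory.Idempotents.Basic
import Mathlib.CategoryTheory.Limits.Opposites
-- import your own Groth.Agent.* helpers here

set_option autoImplicit false
universe v u
open CategoryTheory CategoryTheory.Limits
open CohDer

namespace Groth.Agent.S1079


open Limits Pretriangulated in
lemma of_coproducts {D : Type u} [Category.{v} D] [Preadditive D] [Limits.HasZeroObject D] [HasShift D ℤ]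
    [∀ n : ℤ, (shiftFunctor D n).Additive] [Pretriangulated D] [HasColimitsOfShape (Discrete ℕ) D] :
    IsIdempotentComplete D := by
  refine ⟨fun X e he => ?_⟩
  let φ : (∐ fun _ : ℕ => X) ⟶ ∐ fun _ : ℕ => X :=
    Sigma.desc fun n => Sigma.ι (fun _ : ℕ => X) n - e ≫ Sigma.ι (fun _ : ℕ => X) (n + 1)
  obtain ⟨Y, q, c, hT⟩ := distinguished_cocone_triangle φ
  have hφq : φ ≫ q = 0 := comp_distTriang_mor_zero₁₂ _ hT
  let ψ : (∐ fun _ : ℕ => X) ⟶ X := Sigma.desc fun _ => e
  have hφψ : φ ≫ ψ = 0 := Sigma.hom_ext _ _ fun n => by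
    simp [φ, ψ, Preadditive.sub_comp, he]
  obtain ⟨r, hr⟩ : ∃ r : Y ⟶ X, ψ = q ≫ r := Triangle.yoneda_exact₂ _ hT ψ hφψ
  have hcompat : ∀ n, Sigma.ι (fun _ : ℕ => X) n ≫ q =
      e ≫ Sigma.ι (fun _ : ℕ => X) (n + 1) ≫ q := fun n => by
    have := Sigma.ι (fun _ : ℕ => X) n ≫= hφq
    rw [comp_zero, Sigma.ι_desc_assoc, Preadditive.sub_comp, sub_eq_zero, Category.assoc] at this
    exact this
  have he' : ∀ n, e ≫ Sigma.ι (fun _ : ℕ => X) n ≫ q = Sigma.ι (fun _ : ℕ => X) n ≫ q := fun n => by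
    rw [hcompat n, ← Category.assoc, he]
  have hconst : ∀ n, Sigma.ι (fun _ : ℕ => X) n ≫ q = Sigma.ι (fun _ : ℕ => X) 0 ≫ q := by
    intro n
    induction n with
    | zero => rfl
    | succ n ih => rw [← he' (n + 1), ← hcompat n, ih]
  let R : (∐ fun _ : ℕ => X) ⟶ ∐ fun _ : ℕ => X :=
    Sigma.desc fun n => (Sigma.ι (fun _ : ℕ => X) n - e ≫ Sigma.ι (fun _ : ℕ => X) n) +
      e ≫ (-∑ m ∈ Finset.range n, Sigma.ι (fun _ : ℕ => X) m)
  have hφR : φ ≫ R = 𝟙 _ := Sigma.hom_ext _ _ fun n => by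
    simp only [φ, R, Sigma.ι_desc_assoc, Preadditive.sub_comp, Category.assoc, Sigma.ι_desc,
      Category.comp_id, Preadditive.comp_add, Preadditive.comp_sub, reassoc_of% he,
      Finset.sum_range_succ, Preadditive.comp_neg]
    abel
  have : Mono φ := ⟨fun a b h => by simpa [hφR] using h =≫ R⟩
  have hc : c = 0 := Triangle.mor₃_eq_zero_of_mono₁ _ hT this
  have : Epi q := Triangle.epi₂ _ hT hc
  refine ⟨Y, r, Sigma.ι (fun _ : ℕ => X) 0 ≫ q, ?_, ?_⟩
  · rw [← cancel_epi q]
    refine Sigma.hom_ext _ _ fun n => ?_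
    rw [← Category.assoc q r, ← hr, Sigma.ι_desc_assoc, he', Category.comp_id, hconst n]
  · rw [Category.assoc, ← hr, Sigma.ι_desc]

/-- A pretriangulated category which has countable coproducts, or countable products, is Karoubian
(idempotent complete). -/
theorem result {D : Type u} [Category.{v} D] [Preadditive D] [Limits.HasZeroObject D] [HasShift D ℤ]
    [∀ n : ℤ, (shiftFunctor D n).Additive] [Pretriangulated D]
    (h : HasColimitsOfShape (Discrete ℕ) D ∨ HasLimitsOfShape (Discrete ℕ) D) : IsIdempotentComplete D := by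
  rcases h with h | h
  · exact of_coproducts
  · have : HasLimitsOfShape (Discrete ℕ)ᵒᵖ D :=
      hasLimitsOfShape_of_equivalence (Discrete.opposite ℕ).symm
    have : HasColimitsOfShape (Discrete ℕ) Dᵒᵖ := hasColimitsOfShape_op_of_hasLimitsOfShape
    open CategoryTheory.Pretriangulated.Opposite in
    exact Idempotents.isIdempotentComplete_iff_opposite.1 (of_coproducts (D := Dᵒᵖ))

end Groth.Agent.S1079
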