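import Groth.Statements.S1686
import Groth.Agent.IdealSh.EffCartier
import Groth.Agent.TopDimLib.Basic
import Mathlib.RingTheory.KrullDimension.NonZeroDivisors
import Mathlib.RingTheory.Spectrum.Prime.Topology
import Mathlib.AlgebraicGeometry.IdealSheaf.Subscheme
-- import your own Groth.Agent.* helpers here

set_option autoImplicit false
universe u
open CategoryTheory CategoryTheory.Limits AlgebraicGeometry TopologicalSpace
open SDiv

namespace Groth.Agent.S1686

/-- Let D be the closed subscheme of an effective Cartier divisor on a scheme S and d a point of D with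
image s in S. If the local dimension of S at s is finite, then the local dimension of D at d is
strictly smaller. -/
theorem result (S : Scheme.{u}) (𝓘 : S.IdealSheafData) (h𝓘 : BlowUp.IsEffCartierIdeal 𝓘) (d : ↥𝓘.subscheme)
    (hfin : FlatMor.localDim ↥S (𝓘.subschemeι d) ≠ ⊤) :
    FlatMor.localDim ↥𝓘.subscheme d < FlatMor.localDim ↥S (𝓘.subschemeι d) := by
  classical
  obtain ⟨W, hWo, hdW, hW⟩ := Groth.Agent.TopDimLib.exists_localDim_eq (X := S) (𝓘.subschemeι d)
  obtain ⟨U, hdU, hUW, g, hg, hI⟩ :=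
    Groth.Agent.IdealSh.EffCartier.exists_equation h𝓘 (𝓘.subschemeι d) ⟨W, hWo⟩ hdW
  have hdim : ∀ (Z : Scheme.{u}) (V : Z.Opens) (hV : IsAffineOpen V),
      topologicalKrullDim (V : Set Z) = ringKrullDim Γ(Z, V) := by
    intro Z V hV
    rw [← PrimeSpectrum.topologicalKrullDim_eq_ringKrullDim Γ(Z, V)]
    exact IsHomeomorph.topologicalKrullDim_eq _ hV.isoSpec.hom.homeomorph.isHomeomorph
  have hV : IsAffineOpen (𝓘.subschemeι ⁻¹ᵁ U.1) := U.2.preimage _
  have hq := ringKrullDim_quotient_succ_le_of_nonZeroDivisor hg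
  rw [← hI, ← ringKrullDim_eq_of_ringEquiv (𝓘.subschemeObjIso U).commRingCatIsoToRingEquiv,
    ← hdim _ _ hV, ← hdim _ _ U.2] at hq
  have h1 : FlatMor.localDim ↥𝓘.subscheme d + 1 ≤ FlatMor.localDim ↥S (𝓘.subschemeι d) :=
    calc FlatMor.localDim ↥𝓘.subscheme d + 1
        ≤ topologicalKrullDim ((𝓘.subschemeι ⁻¹ᵁ U.1 : 𝓘.subscheme.Opens) : Set ↥𝓘.subscheme) + 1 :=
          add_le_add (Groth.Agent.TopDimLib.localDim_le (𝓘.subschemeι ⁻¹ᵁ U.1).isOpen hdU) le_rfl
      _ ≤ topologicalKrullDim (U.1 : Set S) := hq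
      _ ≤ topologicalKrullDim W := Groth.Agent.TopDimLib.topDim_le_of_subset hUW
      _ = _ := hW
  have h0 : (0 : WithBot ℕ∞) ≤ FlatMor.localDim ↥S (𝓘.subschemeι d) := by
    rw [← hW]
    haveI : Nonempty W := ⟨⟨_, hdW⟩⟩
    exact Groth.Agent.TopDimLib.topDim_nonneg_of_nonempty
  revert hfin h1 h0
  generalize FlatMor.localDim ↥S (𝓘.subschemeι d) = t
  generalize FlatMor.localDim ↥𝓘.subscheme d = c
  intro hfin h1 h0
  induction c with
  | bot => exact lt_of_lt_of_le (WithBot.bot_lt_coe _) h0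
  | coe c =>
    induction t with
    | bot => exact absurd h0 (by simp)
    | coe t =>
      rw [← WithBot.coe_one, ← WithBot.coe_add, WithBot.coe_le_coe] at h1
      rw [WithBot.coe_lt_coe]
      have ht : t ≠ ⊤ := fun h => hfin (by rw [h]; rfl)
      refine lt_of_lt_of_le ((ENat.lt_add_one_iff ?_).mpr le_rfl) h1
      exact fun h => ht (top_le_iff.mp (by simpa [h] using h1))

end Groth.Agent.S1686
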