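import Groth.Statements.S10794
import Groth.Agent.S1686
import Groth.Agent.S1146
import Groth.Agent.AlgSpB.Points
-- import your own Groth.Agent.* helpers here

set_option autoImplicit false
universe u
open CategoryTheory CategoryTheory.Limits AlgebraicGeometry Topology TopologicalSpace
open AlgSp

set_option backward.isDefEq.respectTransparency.types false

namespace Groth.Agent.S10794

/-- Let X be an algebraic space over a scheme S, D ⟶ X an effective Cartier divisor (one-chart sense)
and x a point of |D|. If the dimension of X at the image of x is d, in the sense that some etale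
scheme chart of X has local dimension d at a point over it, and d is finite, then the dimension of D
at x is strictly smaller: some etale scheme chart of D has local dimension less than d at a point
over x. -/
theorem result {S : Scheme.{u}} (X D : AlgSp.Space S) (i : D ⟶ X)
    (hD : AlgSp.IsEffCartierSub i.hom) (x : AlgSp.Points D.obj) (d : WithBot ℕ∞)
    (hd : AlgSp.HasAt (fun U u => FlatMor.localDim ↥U u = d) X.obj (AlgSp.Points.map i.hom x)) (hfin : d ≠ ⊤) :
    AlgSp.HasAt (fun V v => FlatMor.localDim ↥V v < d) D.obj x := by
  obtain ⟨U, a, u, ha, hu, hdu⟩ := hd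
  obtain ⟨-, V, φ, I, fst, hφ, hφs, sq, hI⟩ := hD
  have hfe : RepWith @Etale fst := MorphismProperty.of_isPullback sq.flip hφ
  have hfs : RepWith @Surjective fst := MorphismProperty.of_isPullback sq.flip hφs
  obtain ⟨w, hw⟩ := Groth.Agent.AlgSpB.surjective_ofPt hfs x
  refine ⟨_, fst, w, hfe, hw, ?_⟩
  have e : Points.ofPt a u = Points.ofPt φ (I.subschemeι w) := by
    rw [hu, ← hw, Points.map_ofPt]
    refine (congrArg (fun m => Points.ofPt m w) sq.w).trans ?_
    exact Groth.Agent.AlgSpB.ofPt_map_comp _ φ w
  obtain ⟨W, p, q, sW⟩ := Groth.Agent.AlgSpB.exists_pullback_yon ha.1 φ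
  obtain ⟨z, hz₁, hz₂⟩ := (Groth.Agent.AlgSpB.ofPt_eq_ofPt_iff sW u (I.subschemeι w)).1 e
  have hq : Etale q.left := ha.2 _ _ _ sW
  have hp : Etale p.left := hφ.2 _ _ _ sW.flip
  have hdim : FlatMor.localDim ↥V.left (I.subschemeι w) = d := by
    rw [← hdu, ← hz₁, ← hz₂, ← Groth.Agent.S1146.result p.left z, ← Groth.Agent.S1146.result q.left z]
  have := Groth.Agent.S1686.result V.left I hI w (by rw [hdim]; exact hfin)
  rw [hdim] at this
  exact this

end Groth.Agent.S10794
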