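import Groth.Statements.S10797
import Groth.Agent.AlgSp.CartierFlat
-- import your own Groth.Agent.* helpers here

set_option autoImplicit false
universe u
open CategoryTheory CategoryTheory.Limits AlgebraicGeometry Topology TopologicalSpace
open AlgSp

namespace Groth.Agent.S10797

/-- Let f : X ⟶ Y be a morphism of algebraic spaces over a scheme S and D ⟶ X an effective Cartier
divisor (one-chart sense) such that the composite D ⟶ Y is flat. Then for every morphism g : Y' ⟶ Y
and every pullback square exhibiting X' as Y' ×_Y X with projection g' : X' ⟶ X, the inverse image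
of D under g' (the projection to X' from any pullback of D ⟶ X along g') is an effective Cartier
divisor on X'. (The published statement takes g to be a morphism from a scheme Y'; this row allows
Y' to be an algebraic space, to which the same etale-local reduction to schemes applies.) -/
theorem result {S : Scheme.{u}} (X Y D Y' X' D' : AlgSp.Space S)
    (f : X ⟶ Y) (i : D ⟶ X) (hD : AlgSp.IsEffCartierSub i.hom) (hflat : AlgSp.LocP @Flat (i ≫ f).hom)
    (g : Y' ⟶ Y) (g' : X' ⟶ X) (f' : X' ⟶ Y') (hX' : IsPullback g'.hom f'.hom f.hom g.hom)
    (k : D' ⟶ D) (i' : D' ⟶ X') (hD' : IsPullback k.hom i'.hom i.hom g'.hom) :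
    AlgSp.IsEffCartierSub i'.hom := by
  exact Groth.Agent.AlgSp.CartierFlat.isEffCartierSub_baseChange X.property Y.property X'.property Y'.property hD hflat
    hX' hD'

end Groth.Agent.S10797
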