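import Groth.Statements.S10801
import Groth.Agent.AlgSpReg.CartierExtScheme
import Groth.Agent.AlgSp.ClosedSub
-- import your own Groth.Agent.* helpers here

set_option autoImplicit false
universe u
open CategoryTheory CategoryTheory.Limits AlgebraicGeometry Topology TopologicalSpace
open AlgSp

set_option backward.isDefEq.respectTransparency false
set_option backward.isDefEq.respectTransparency.types false

namespace Groth.Agent.S10801

open Groth.Agent.AlgSp.CartierDesc (subOver subι exists_ideal comap_eq isEffCartierIdeal_of_chart)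

/-- Closures commute with flat base change. -/
theorem comap_map_eq {P X Y T : Scheme.{u}} {g' : P ⟶ T} {t' : P ⟶ X} {t : T ⟶ Y} {g : X ⟶ Y}
    (sq : IsPullback g' t' t g) [QuasiCompact g] [Flat t] (J : X.IdealSheafData) :
    (J.subschemeι ≫ g).ker.comap t = (J.comap t').map g' := by
  have h0 : IsPullback (pullback.fst J.subschemeι t') (pullback.snd J.subschemeι t') J.subschemeι t' :=
    IsPullback.of_hasPullback _ _
  have h := h0.paste_vert sq.flip
  rw [← Groth.Agent.AlgSp.KerFlat.ker_of_isPullback h, Scheme.Hom.ker_comp]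
  congr 1
  rw [← (pullbackSymmetry_hom_comp_fst J.subschemeι t'), Scheme.Hom.ker_comp_of_isIso,
    Scheme.IdealSheafData.ker_fst_of_isClosedImmersion, Scheme.IdealSheafData.ker_subschemeι]


/-- Suppose R is a valuation ring with fraction field K, S is a scheme equipped with a morphism Spec R ⟶
S, and X is an algebraic space over S together with a smooth morphism X ⟶ h_{Spec R}. Take X_K ⟶ X
to be the base change to Spec K (given as a pullback square along h_{Spec K} ⟶ h_{Spec R}), and
consider an effective Cartier divisor D ⟶ X_K (in the one-chart sense). Then D extends to an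
effective Cartier divisor D' ⟶ X restricting to D over X_K: there is a morphism D ⟶ D' exhibiting D
as the pullback of D' ⟶ X along X_K ⟶ X. -/
theorem result {S : Scheme.{u}}
    (R : Type u) [CommRing R] [IsDomain R] [ValuationRing R] (K : Type u) [Field K] [Algebra R K] [IsFractionRing R K]
    (str : Spec (CommRingCat.of R) ⟶ S) (X : AlgSp.Space S)
    (f : X.obj ⟶ (AlgSp.yon S).obj (Over.mk str)) (hf : AlgSp.LocP @Smooth f)
    (XK : AlgSp.Space S) (gK : XK ⟶ X)
    (fK : XK.obj ⟶ (AlgSp.yon S).obj (Over.mk ((Spec.map (CommRingCat.ofHom (algebraMap R K))) ≫ str)))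
    (hXK : IsPullback gK.hom fK f ((AlgSp.yon S).map (Over.homMk (Spec.map (CommRingCat.ofHom (algebraMap R K))) rfl : Over.mk ((Spec.map (CommRingCat.ofHom (algebraMap R K))) ≫ str) ⟶ Over.mk str)))
    (D : AlgSp.Space S) (i : D ⟶ XK) (hD : AlgSp.IsEffCartierSub i.hom) :
    ∃ (D' : AlgSp.Space S) (i' : D' ⟶ X) (k : D ⟶ D'),
      AlgSp.IsEffCartierSub i'.hom ∧ IsPullback k.hom i.hom i'.hom gK.hom := by
  obtain ⟨U, p, hp, hps⟩ := X.property.atlas
  obtain ⟨h, hh⟩ := (yon S).map_surjective (p ≫ f)
  have hsm : Smooth h.left :=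
    hf p (𝟙 _) h hp (AlgSp.repWith_id _ _) (by rw [hh, Category.comp_id])
  let κ : Spec (CommRingCat.of K) ⟶ Spec (CommRingCat.of R) := Spec.map (CommRingCat.ofHom (algebraMap R K))
  let κO : Over.mk (κ ≫ str) ⟶ Over.mk str := Over.homMk κ rfl
  let UK := pullback h κO
  let gU : UK ⟶ U := pullback.fst h κO
  let qK : UK ⟶ Over.mk (κ ≫ str) := pullback.snd h κO
  have hU : IsPullback gU qK h κO := IsPullback.of_hasPullback _ _
  have hUs : IsPullback gU.left qK.left h.left κ := hU.map (Over.forget S)
  let aK : (yon S).obj UK ⟶ XK.obj := hXK.lift ((yon S).map gU ≫ p) ((yon S).map qK) (by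
    rw [Category.assoc, ← hh, ← Functor.map_comp, ← Functor.map_comp]
    exact congrArg _ hU.w)
  have haK : IsPullback ((yon S).map gU) aK p gK.hom := by
    refine IsPullback.of_bot ?_ (hXK.lift_fst _ _ _).symm hXK
    rw [hXK.lift_snd, ← hh]
    exact hU.map (yon S)
  have haKe : RepWith @Etale aK := MorphismProperty.of_isPullback haK hp
  have haKs : RepWith @Surjective aK := MorphismProperty.of_isPullback haK hps
  obtain ⟨IK, fK', hIK⟩ := exists_ideal hD.1 aK
  have hE := isEffCartierIdeal_of_chart hD.1 hD haKe hIK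
  have := hsm
  have : IsAffineHom gU.left := Groth.Agent.AlgSpReg.CartierExt.isAffineHom_of_sq hUs
  let I : U.left.IdealSheafData := (IK.subschemeι ≫ gU.left).ker
  have hIE : BlowUp.IsEffCartierIdeal I :=
    Groth.Agent.AlgSpReg.CartierExt.isEffCartierIdeal_ker hUs hE
  have hIg : I.comap gU.left = IK := Groth.Agent.AlgSpReg.CartierExt.comap_ker hUs IK
  obtain ⟨W, t, s, sqW⟩ := Groth.Agent.AlgSp.exists_isPullback_yon X.property.diag p p
  have het : Etale t.left := hp.2 _ _ _ sqW.flip
  have hes : Etale s.left := hp.2 _ _ _ sqW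
  have hts : t ≫ h = s ≫ h := (yon S).map_injective (by
    rw [Functor.map_comp, Functor.map_comp, hh, ← Category.assoc, ← Category.assoc, sqW.w])
  let WK := pullback t gU
  let gW : WK ⟶ W := pullback.fst t gU
  let tK : WK ⟶ UK := pullback.snd t gU
  have hW : IsPullback gW tK t gU := IsPullback.of_hasPullback _ _
  let sK : WK ⟶ UK := hU.lift (gW ≫ s) (tK ≫ qK) (by
    rw [Category.assoc, ← hts, ← Category.assoc, hW.w, Category.assoc, Category.assoc, hU.w])
  have hW' : IsPullback gW sK s gU := by
    refine IsPullback.of_bot ?_ (hU.lift_fst _ _ _).symm hU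
    rw [hU.lift_snd, ← hts]
    exact hW.paste_vert hU
  have hWs : IsPullback gW.left tK.left t.left gU.left := hW.map (Over.forget S)
  have hWs' : IsPullback gW.left sK.left s.left gU.left := hW'.map (Over.forget S)
  have hK : IK.comap tK.left = IK.comap sK.left := by
    refine Groth.Agent.AlgSp.ClosedSub.comap_eq_comap hD.1 ?_ hIK
    apply hXK.hom_ext
    · rw [Category.assoc, Category.assoc, hXK.lift_fst, ← Functor.map_comp_assoc, ← Functor.map_comp_assoc,
        ← hW.w, hU.lift_fst, Functor.map_comp, Functor.map_comp, Category.assoc, Category.assoc, sqW.w]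
    · rw [Category.assoc, Category.assoc, hXK.lift_snd, ← Functor.map_comp, ← Functor.map_comp, hU.lift_snd]
  have hI : I.comap t.left = I.comap s.left := by
    rw [comap_map_eq hWs IK, comap_map_eq hWs' IK, hK]
  obtain ⟨Z, i', fst, hZ, hi', sq⟩ := Groth.Agent.AlgSp.ClosedSub.exists_closed hp hps sqW I hI
  let π := pullback.snd i' gK.hom
  have hP : IsPullback (pullback.fst i' gK.hom) π i' gK.hom := IsPullback.of_hasPullback _ _
  have hπ : RepWith @IsClosedImmersion π := MorphismProperty.of_isPullback hP hi'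
  obtain ⟨J, fJ, hJ⟩ := exists_ideal hπ aK
  have hJ' : IsPullback (fJ ≫ pullback.fst i' gK.hom) ((yon S).map (subι UK J)) i' ((yon S).map gU ≫ p) := by
    rw [haK.w]
    exact hJ.paste_horiz hP
  obtain rfl : IK = J := hIg.symm.trans (comap_eq gU sq hJ')
  obtain ⟨k₁, hk₁⟩ := (Groth.Agent.AlgSp.ClosedSub.exists_le_iff hπ haKe haKs hIK hJ).2 le_rfl
  obtain ⟨k₂, hk₂⟩ := (Groth.Agent.AlgSp.ClosedSub.exists_le_iff hD.1 haKe haKs hJ hIK).2 le_rfl
  have := Groth.Agent.AlgSpB.mono_of_isClosedImmersion hπ
  have := Groth.Agent.AlgSpB.mono_of_isClosedImmersion hD.1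
  let e : D.obj ≅ pullback i' gK.hom :=
    ⟨k₁, k₂, by rw [← cancel_mono i.hom, Category.assoc, hk₂, hk₁, Category.id_comp],
      by rw [← cancel_mono π, Category.assoc, hk₁, hk₂, Category.id_comp]⟩
  refine ⟨⟨Z, hZ⟩, ObjectProperty.homMk i', ObjectProperty.homMk (k₁ ≫ pullback.fst i' gK.hom),
    ⟨hi', U, p, I, fst, hp, hps, sq, hIE⟩, ?_⟩
  exact IsPullback.of_iso_pullback (i := e)
    ⟨by simp only [Category.assoc, ObjectProperty.homMk_hom]; rw [pullback.condition, reassoc_of% hk₁]⟩
    rfl hk₁

end Groth.Agent.S10801
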