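import Groth.Statements.S10807
import Groth.Agent.AlgSpReg.BlowUpSp
-- import your own Groth.Agent.* helpers here

set_option autoImplicit false
universe u
open CategoryTheory CategoryTheory.Limits AlgebraicGeometry Topology TopologicalSpace
open AlgSp

set_option backward.isDefEq.respectTransparency false
set_option backward.isDefEq.respectTransparency.types false

namespace Groth.Agent.S10807

/-- Let X be an algebraic space over a scheme S and Z ⟶ X a closed subspace of finite presentation (its
ideal is of finite type), and let b : X' ⟶ X be the blowing up of X in Z, characterised by its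
universal property: the inverse image of Z under b is an effective Cartier divisor (one-chart sense)
and every morphism from an algebraic space to X under which the inverse image of Z is an effective
Cartier divisor factors uniquely through b. Then b is a proper morphism. -/
theorem result {S : Scheme.{u}} (X X' Z : AlgSp.Space S)
    (i : Z ⟶ X) (hi : AlgSp.RepWith (@IsClosedImmersion ⊓ @LocallyOfFinitePresentation) i.hom)
    (b : X' ⟶ X) (hb : AlgSp.IsBlowUpSp b.hom i.hom) :
    AlgSp.IsProperMor b.hom := by
  have hic : AlgSp.RepWith @IsClosedImmersion i.hom :=
    Groth.Agent.AlgSp.repWith_mono (fun g hg => hg.1) hi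
  obtain ⟨U, p, hp, hps⟩ := X.property.atlas
  obtain ⟨I, fst, sq⟩ := Groth.Agent.AlgSp.CartierDesc.exists_ideal hic p
  obtain ⟨U', bU, p', hsq, hbU⟩ :=
    Groth.Agent.AlgSpReg.BlowUpSp.exists_chart X.property X'.property hic hb hp sq
  have := Groth.Agent.BlowUpProper.Basic.isProper hbU (Groth.Agent.AlgSpReg.BlowUpSp.isFiniteTypeIdeal_of_chart hi sq)
  exact Groth.Agent.AlgSpD.isProperMor_descend b.hom p hp hps hsq
    (Groth.Agent.AlgSpReg.BlowUpSp.isProperMor_yon_map bU this)

end Groth.Agent.S10807
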