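import Groth.Statements.S1081
import Groth.Agent.FilInjLib.Env
import Groth.Agent.FilInjLib.Factor
-- import your own Groth.Agent.* helpers here

set_option autoImplicit false
universe v u
open CategoryTheory CategoryTheory.Limits Opposite
open FilD

namespace Groth.Agent.S1081

set_option backward.isDefEq.respectTransparency.types false

/-- Let A be an abelian category with enough injectives. Every finite filtered object X admits a strict
monomorphism X ⟶ I into a filtered injective object I. -/
theorem result {A : Type u} [Category.{v} A] [Abelian A] [EnoughInjectives A] (X : FilD.FilF A) :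
    ∃ (I : FilD.FilF A) (u : X ⟶ I), FilD.IsFilteredInjective I ∧ Mono u ∧ FilD.IsStrict u := by
  obtain ⟨I, u, hI, hm, hs⟩ := FilInjLib.exists_envelope X
  haveI : Mono ((FilD.IsFinFil A).ι.map u) :=
    @NatTrans.mono_of_mono_app _ _ _ _ _ _ u.hom (fun q => hm q.unop)
  exact ⟨I, u, hI, (FilD.IsFinFil A).ι.mono_of_mono_map inferInstance, (FilInjLib.strict_iff u).2 hs⟩

end Groth.Agent.S1081
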