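import Groth.Statements.S10810
import Groth.Agent.AlgSpQC.WeakAss
import Groth.Agent.AlgSpQC.Hom
-- import your own Groth.Agent.* helpers here

set_option autoImplicit false
universe u
open scoped Groth.Agent.AlgSpQC
open CategoryTheory CategoryTheory.Limits AlgebraicGeometry Topology TopologicalSpace
open AlgSp

set_option backward.isDefEq.respectTransparency.types false

namespace Groth.Agent.S10810

/-- Let X be an algebraic space over a scheme S and F a quasi-coherent O_X-module on the small etale
site of X. Then F = 0 if and only if the set of weakly associated points of F is empty. -/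
theorem result {S : Scheme.{u}} (X : AlgSp.Space S)
    (M : AlgSp.ModEt X.obj) [M.IsQuasicoherent] :
    IsZero M ↔ AlgSp.WeakAssEt M = ∅ := by
  constructor
  · intro h
    refine Set.eq_empty_iff_forall_notMem.2 fun x ⟨E, hE, u, hu, s, hs⟩ => ?_
    have hs0 : s = 0 := by
      refine (AlgSpQC.hs_id E s).symm.trans ?_
      rw [h.eq_of_src (𝟙 M) 0]
      exact AlgSpQC.hs_zero E s
    subst hs0
    exact hs.1.1.one_notMem (hs.1.2 ((AlgSp.mem_annSect_iff _ _).2 (smul_zero _)))
  · intro h
    refine AlgSpQC.isZero_of_sections fun E hE m => ?_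
    by_contra hm
    obtain ⟨u, hu, -⟩ := AlgSpQC.exists_mem_weakAssEt hm
    exact Set.eq_empty_iff_forall_notMem.1 h _ hu

end Groth.Agent.S10810
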