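import Groth.Statements.S10811
import Groth.Agent.AlgSpQC.WeakAss
import Groth.Agent.AlgSpQC.Hom
-- import your own Groth.Agent.* helpers here

set_option autoImplicit false
universe u
open scoped Groth.Agent.AlgSpQC
open CategoryTheory CategoryTheory.Limits AlgebraicGeometry Topology TopologicalSpace
open AlgSp

set_option backward.isDefEq.respectTransparency.types false

namespace Groth.Agent.S10811

/-- Let X be an algebraic space over a scheme S and 0 ⟶ F₁ ⟶ F₂ ⟶ F₃ ⟶ 0 a short exact sequence of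
quasi-coherent O_X-modules on the small etale site of X. Then the weakly associated points satisfy
WeakAss(F₂) ⊆ WeakAss(F₁) ∪ WeakAss(F₃) and WeakAss(F₁) ⊆ WeakAss(F₂). -/
theorem result {S : Scheme.{u}} (X : AlgSp.Space S)
    (C : ShortComplex (AlgSp.ModEt X.obj)) (hC : C.ShortExact)
    [C.X₁.IsQuasicoherent] [C.X₂.IsQuasicoherent] [C.X₃.IsQuasicoherent] :
    AlgSp.WeakAssEt C.X₂ ⊆ AlgSp.WeakAssEt C.X₁ ∪ AlgSp.WeakAssEt C.X₃ ∧
      AlgSp.WeakAssEt C.X₁ ⊆ AlgSp.WeakAssEt C.X₂ := by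
  have := hC.mono_f
  refine ⟨?_, ?_⟩
  · rintro x ⟨E, hE, u, rfl, h⟩
    rw [AlgSpQC.isWeakAssOn_iff] at h
    rcases WeakAss.weakAss_subset_union (AlgSpQC.hs_injective C.f E) (AlgSpQC.exact_hs C hC.exact E) h with h | h
    · exact Or.inl ⟨E, hE, u, rfl, (AlgSpQC.isWeakAssOn_iff E u).2 h⟩
    · exact Or.inr ⟨E, hE, u, rfl, (AlgSpQC.isWeakAssOn_iff E u).2 h⟩
  · rintro x ⟨E, hE, u, rfl, h⟩
    rw [AlgSpQC.isWeakAssOn_iff] at h
    exact ⟨E, hE, u, rfl, (AlgSpQC.isWeakAssOn_iff E u).2 (WeakAss.weakAss_mono (AlgSpQC.hs_injective C.f E) h)⟩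

end Groth.Agent.S10811
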