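import Groth.Statements.S10821
import Groth.Agent.ProjDim.Points


set_option autoImplicit false
universe u
open AlgebraicGeometry Topology TopologicalSpace
open Variety

namespace Groth.Agent.S10821

variable {k : Type u} [Field k] {n : ℕ}

/-- A polynomial generating a homogeneous ideal is homogeneous. -/
theorem isHomogeneous_of_span (g : MvPolynomial (Fin (n + 1)) k)
    (h : (Ideal.span {g}).IsHomogeneous (CohB1.polyGrading n k)) :
    g.IsHomogeneous g.totalDegree := by
  have hz : ∀ i, i ≠ g.totalDegree → MvPolynomial.homogeneousComponent i g = 0 := by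
    intro i hi
    by_contra hne
    have hmem : MvPolynomial.homogeneousComponent i g ∈ Ideal.span {g} := by
      have := h i (Ideal.subset_span (Set.mem_singleton g))
      rwa [show (DirectSum.decompose (CohB1.polyGrading n k) g i : MvPolynomial (Fin (n + 1)) k) =
        MvPolynomial.homogeneousComponent i g from MvPolynomial.decomposition.decompose'_apply _ _]
        at this
    obtain ⟨c, hc⟩ := Ideal.mem_span_singleton.1 hmem
    have hc0 : c ≠ 0 := by rintro rfl; rw [mul_zero] at hc; exact hne hc
    have hg0 : g ≠ 0 := by rintro rfl; simp at hne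
    have hd : (MvPolynomial.homogeneousComponent i g).totalDegree = i :=
      ((MvPolynomial.mem_homogeneousSubmodule _ _).1
        (MvPolynomial.homogeneousComponent_mem i g)).totalDegree hne
    rw [hc, MvPolynomial.totalDegree_mul_of_isDomain hg0 hc0] at hd
    rcases lt_or_gt_of_ne hi with hlt | hlt
    · omega
    · exact hne (MvPolynomial.homogeneousComponent_eq_zero _ _ hlt)
  rw [← MvPolynomial.mem_homogeneousSubmodule]
  have hsum := MvPolynomial.sum_homogeneousComponent g
  rw [Finset.sum_eq_single g.totalDegree (fun i _ hi => hz i hi)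
    (fun hmem => absurd (Finset.self_mem_range_succ _) hmem)] at hsum
  have := MvPolynomial.homogeneousComponent_mem g.totalDegree g
  rwa [hsum] at this

theorem eq_span_of_le {P : Ideal (MvPolynomial (Fin (n + 1)) k)} [P.IsPrime] (hne : P ≠ ⊥)
    {g : MvPolynomial (Fin (n + 1)) k} (hg : Irreducible g) (hle : P ≤ Ideal.span {g}) :
    P = Ideal.span {g} := by
  refine le_antisymm hle ?_
  obtain ⟨q, hq, hqp⟩ := Ideal.IsPrime.exists_mem_prime_of_ne_bot ‹P.IsPrime› hne
  have hdvd : g ∣ q := Ideal.mem_span_singleton.1 (hle hq)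
  have := (hg.associated_of_dvd hqp.irreducible hdvd)
  rw [Ideal.span_singleton_eq_span_singleton.2 this, Ideal.span_singleton_le_iff_mem]
  exact hq

open ProjDim in
theorem bot_point (k : Type u) [Field k] (n : ℕ) :
    ∃ o : ProjectiveSpectrum (CohB1.polyGrading n k), pt o = ⊥ := by
  refine exists_pt ⊥ (Ideal.IsHomogeneous.bot _) fun h => ?_
  have := GenPt.X_mem_irr (K := k) (n := n) 0
  rw [← h, Ideal.mem_bot] at this
  exact MvPolynomial.X_ne_zero 0 this


/-- For a field k and an irreducible closed subset Z of projective n-space over k, Z has codimension 1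
(the longest chain of irreducible closed subsets strictly above Z has length 1) if and only if Z is
the zero set V_+(f) of an irreducible homogeneous polynomial f in n + 1 variables. -/
theorem result (k : Type u) [Field k] (n : ℕ)
    (Z : TopologicalSpace.IrreducibleCloseds (ProjectiveSpectrum (CohB1.polyGrading n k))) :
    Order.coheight Z = 1 ↔
      ∃ (d : ℕ) (f : MvPolynomial (Fin (n + 1)) k), f.IsHomogeneous d ∧ Irreducible f ∧
        (Z : Set (ProjectiveSpectrum (CohB1.polyGrading n k))) =
          ProjectiveSpectrum.zeroLocus (CohB1.polyGrading n k) ({f} : Set (MvPolynomial (Fin (n + 1)) k)) := by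
  obtain ⟨x, hx⟩ := ProjDim.exists_eq_closure Z.isClosed Z.isIrreducible
  -- the order anti-isomorphism between points and irreducible closed sets
  let Φ : ProjectiveSpectrum (CohB1.polyGrading n k) →
      TopologicalSpace.IrreducibleCloseds (ProjectiveSpectrum (CohB1.polyGrading n k)) :=
    fun y => ⟨closure {y}, isIrreducible_singleton.closure, isClosed_closure⟩
  have hΦ : ∀ a b, Φ a ≤ Φ b ↔ b ≤ a := fun a b => by
    refine Iff.trans ?_ (ProjectiveSpectrum.le_iff_mem_closure _ b a).symm
    exact ⟨fun h => h (subset_closure rfl),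
      fun h => closure_minimal (Set.singleton_subset_iff.2 h) isClosed_closure⟩
  have hΦs : ∀ W, ∃ a, Φ a = W := fun W => by
    obtain ⟨a, ha⟩ := ProjDim.exists_eq_closure W.isClosed W.isIrreducible
    exact ⟨a, SetLike.ext' ha.symm⟩
  have hΦi : Function.Injective Φ := fun a b h => le_antisymm ((hΦ b a).1 h.ge) ((hΦ a b).1 h.le)
  let e : (ProjectiveSpectrum (CohB1.polyGrading n k))ᵒᵈ ≃o
      TopologicalSpace.IrreducibleCloseds (ProjectiveSpectrum (CohB1.polyGrading n k)) :=
    { toEquiv := Equiv.ofBijective (fun a => Φ (OrderDual.ofDual a))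
        ⟨fun a b h => OrderDual.ofDual.injective (hΦi h), fun W => by
          obtain ⟨a, ha⟩ := hΦs W; exact ⟨OrderDual.toDual a, ha⟩⟩
      map_rel_iff' := fun {a b} => hΦ _ _ }
  have hZ : e (OrderDual.toDual x) = Z := SetLike.ext' hx.symm
  have hco : Order.coheight Z = Order.height x := by
    rw [← hZ, Order.coheight_orderIso, Order.coheight_toDual]
  rw [hco]
  obtain ⟨o, ho⟩ := bot_point k n
  have hob : ∀ y : ProjectiveSpectrum (CohB1.polyGrading n k), o ≤ y := fun y =>
    ProjDim.pt_le_iff.1 (ho ▸ bot_le)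
  have hh : Order.height x = 1 ↔ o < x ∧ ∀ y, o < y → y ≤ x → y = x := by
    rw [show (1 : ℕ∞) = ((1 : ℕ) : ℕ∞) from rfl, Order.height_eq_coe_iff]
    constructor
    · rintro ⟨-, h1, h2⟩
      obtain h1 | ⟨y, hy, -⟩ := h1
      · exact absurd h1 one_ne_zero
      refine ⟨lt_of_le_of_lt (hob y) hy, fun z hz1 hz2 => ?_⟩
      by_contra hne
      have := h2 z (lt_of_le_of_ne hz2 hne)
      rw [Nat.cast_one, ENat.lt_one_iff_eq_zero, Order.height_eq_zero] at this
      exact hz1.not_ge (this (hob z))
    · rintro ⟨h1, h2⟩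
      have hmin : ∀ y < x, Order.height y = 0 := fun y hy => by
        rw [Order.height_eq_zero]
        intro z hz
        by_cases hyo : o < y
        · exact absurd (h2 y hyo hy.le) hy.ne
        · rw [← eq_of_le_of_not_lt (hob y) hyo]
          exact hob z
      have hle : Order.height x ≤ 1 := by
        refine (Order.height_le_coe_iff (n := 1)).2 fun y hy => ?_
        rw [hmin y hy]; exact_mod_cast zero_lt_one
      refine ⟨lt_of_le_of_lt hle (by exact_mod_cast ENat.natCast_lt_top 1), Or.inr ⟨o, h1, ?_⟩,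
        fun y hy => ?_⟩
      · simpa using hmin o h1
      · rw [hmin y hy]; exact_mod_cast zero_lt_one
  rw [hh]
  constructor
  · rintro ⟨hox, huniq⟩
    have hPne : ProjDim.pt x ≠ ⊥ := ho ▸ (ProjDim.pt_lt_iff.2 hox).ne'
    -- a nonzero homogeneous element
    obtain ⟨a, ha, ha0⟩ := Submodule.exists_mem_ne_zero_of_ne_bot hPne
    obtain ⟨j, hj0⟩ : ∃ j, (DirectSum.decompose (CohB1.polyGrading n k) a j :
        MvPolynomial (Fin (n + 1)) k) ≠ 0 := by
      by_contra h
      push Not at h
      apply ha0
      classical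
      rw [← DirectSum.sum_support_decompose (CohB1.polyGrading n k) a]
      exact Finset.sum_eq_zero fun i _ => h i
    set h : MvPolynomial (Fin (n + 1)) k := ↑(DirectSum.decompose (CohB1.polyGrading n k) a j)
      with hdef
    have hhP : h ∈ ProjDim.pt x := ProjDim.pt_isHomogeneous x j ha
    have hhj : h ∈ CohB1.polyGrading n k j := SetLike.coe_mem _
    have hhu : ¬ IsUnit h := fun hu =>
      Ideal.IsPrime.ne_top' (I := ProjDim.pt x) (Ideal.eq_top_of_isUnit_mem _ hhP hu)
    obtain ⟨fs, hfs, u, hu⟩ := WfDvdMonoid.exists_factors h hj0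
    have hprod : fs.prod ∈ ProjDim.pt x := by
      have := (ProjDim.pt x).mul_mem_right (↑u⁻¹) hhP
      rwa [← hu, mul_assoc, Units.mul_inv, mul_one] at this
    obtain ⟨g, hg, hgP⟩ :=
      (Ideal.IsPrime.multiset_prod_mem_iff_exists_mem inferInstance fs).1 hprod
    have hgi := hfs g hg
    haveI : (Ideal.span {g}).IsPrime :=
      (Ideal.span_singleton_prime hgi.ne_zero).2 hgi.prime
    set C := ((Ideal.span {g}).homogeneousCore (CohB1.polyGrading n k)).toIdeal with hC
    haveI : C.IsPrime := Ideal.IsPrime.homogeneousCore inferInstance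
    have hCle : C ≤ Ideal.span {g} := Ideal.toIdeal_homogeneousCore_le _ _
    have hhg : h ∈ Ideal.span {g} := Ideal.mem_span_singleton.2
      ((Multiset.dvd_prod hg).trans ⟨↑u, hu.symm⟩)
    have hhC : h ∈ C := Ideal.mem_homogeneousCore_of_homogeneous_of_mem ⟨j, hhj⟩ hhg
    have hCne : C ≠ ⊥ := fun h0 => hj0 (by rw [h0, Ideal.mem_bot] at hhC; exact hhC)
    have hCg := eq_span_of_le hCne hgi hCle
    have hghom : (Ideal.span {g}).IsHomogeneous (CohB1.polyGrading n k) :=
      hCg ▸ HomogeneousIdeal.isHomogeneous _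
    obtain ⟨y, hy⟩ := ProjDim.exists_pt (Ideal.span {g}) hghom fun he =>
      (ProjDim.pt_lt_irr x).not_ge (he ▸ (Ideal.span_singleton_le_iff_mem _).2 hgP)
    have hyx : y = x := huniq y (ProjDim.pt_lt_iff.1 (by
      rw [ho, hy]; exact bot_lt_iff_ne_bot.2 (by simpa using hgi.ne_zero)))
      (ProjDim.pt_le_iff.1 (by rw [hy]; exact (Ideal.span_singleton_le_iff_mem _).2 hgP))
    refine ⟨g.totalDegree, g, isHomogeneous_of_span g hghom, hgi, ?_⟩
    rw [hx]
    ext z
    rw [ProjDim.mem_closure_iff, ProjDim.mem_zeroLocus_iff, ← hyx, hy, Ideal.span_singleton_le_iff_mem,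
      Set.singleton_subset_iff]
    rfl
  · rintro ⟨d, f, hf, hfi, hZf⟩
    haveI : (Ideal.span {f}).IsPrime := (Ideal.span_singleton_prime hfi.ne_zero).2 hfi.prime
    have hhom : (Ideal.span {f}).IsHomogeneous (CohB1.polyGrading n k) :=
      Ideal.homogeneous_span _ _ fun a ha => ⟨d, by
        rw [Set.mem_singleton_iff.1 ha]; exact (MvPolynomial.mem_homogeneousSubmodule _ _).2 hf⟩
    have hfx : f ∈ ProjDim.pt x := by
      have : x ∈ ProjectiveSpectrum.zeroLocus (CohB1.polyGrading n k) ({f} : Set _) := by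
        rw [← hZf, hx]; exact subset_closure rfl
      exact this rfl
    obtain ⟨y, hy⟩ := ProjDim.exists_pt (Ideal.span {f}) hhom fun he =>
      (ProjDim.pt_lt_irr x).not_ge (he ▸ (Ideal.span_singleton_le_iff_mem _).2 hfx)
    have hyx : y = x := by
      refine le_antisymm (ProjDim.pt_le_iff.1 (by
        rw [hy]; exact (Ideal.span_singleton_le_iff_mem _).2 hfx)) ?_
      rw [ProjectiveSpectrum.le_iff_mem_closure, ← hx, hZf, ProjDim.mem_zeroLocus_iff, hy,
        Set.singleton_subset_iff]
      exact Ideal.subset_span rfl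
    subst hyx
    refine ⟨ProjDim.pt_lt_iff.1 (by
      rw [ho, hy]; exact bot_lt_iff_ne_bot.2 (by simpa using hfi.ne_zero)), fun z hz1 hz2 => ?_⟩
    apply ProjDim.pt_injective
    rw [hy]
    exact eq_span_of_le (ho ▸ (ProjDim.pt_lt_iff.2 hz1).ne') hfi (hy ▸ ProjDim.pt_le_iff.2 hz2)

end Groth.Agent.S10821
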