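import Groth.Statements.S10823
import Groth.Agent.ProjDim.Points


set_option autoImplicit false
universe u
open AlgebraicGeometry Topology TopologicalSpace
open Variety

namespace Groth.Agent.S10823

open ProjDim in
theorem span_isHomogeneous {k : Type u} [Field k] {n r : ℕ}
    (f : Fin r → MvPolynomial (Fin (n + 1)) k) (d : Fin r → ℕ) (hf : ∀ i, (f i).IsHomogeneous (d i)) :
    (Ideal.span (Set.range f)).IsHomogeneous (CohB1.polyGrading n k) := by
  refine Ideal.homogeneous_span _ _ ?_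
  rintro _ ⟨i, rfl⟩
  exact ⟨d i, (MvPolynomial.mem_homogeneousSubmodule _ _).2 (hf i)⟩


/-- Let k be a field, X an irreducible closed subset of projective n-space over k, and f_1, …, f_r
nonzero homogeneous polynomials of positive degrees in n + 1 variables. Then every irreducible
component C of X ∩ V_+(f_1, …, f_r) has codimension at most r in X, i.e. dim X ≤ dim C + r, and if
dim X ≥ r the intersection is nonempty. -/
theorem result (k : Type u) [Field k] (n r : ℕ)
    (X : Set (ProjectiveSpectrum (CohB1.polyGrading n k))) (hXc : IsClosed X) (hXi : IsIrreducible X)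
    (f : Fin r → MvPolynomial (Fin (n + 1)) k) (d : Fin r → ℕ)
    (hf : ∀ i, (f i).IsHomogeneous (d i)) (hd : ∀ i, 0 < d i) (hf0 : ∀ i, f i ≠ 0) :
    (∀ C ∈ irreducibleComponents ↥(X ∩ ProjectiveSpectrum.zeroLocus (CohB1.polyGrading n k) (Set.range f)),
        topologicalKrullDim ↥X ≤ topologicalKrullDim ↥C + (r : WithBot ℕ∞)) ∧
      ((r : WithBot ℕ∞) ≤ topologicalKrullDim ↥X →
        (X ∩ ProjectiveSpectrum.zeroLocus (CohB1.polyGrading n k) (Set.range f)).Nonempty) := by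
  obtain ⟨ξ, rfl⟩ := ProjDim.exists_eq_closure hXc hXi
  have hI : (ProjDim.pt ξ ⊔ Ideal.span (Set.range f)).IsHomogeneous (CohB1.polyGrading n k) :=
    (ProjDim.pt_isHomogeneous ξ).sup (span_isHomogeneous f d hf)
  have hmem : ∀ y, y ∈ closure ({ξ} : Set _) ∩
      ProjectiveSpectrum.zeroLocus (CohB1.polyGrading n k) (Set.range f) ↔
      ProjDim.pt ξ ⊔ Ideal.span (Set.range f) ≤ ProjDim.pt y := fun y => by
    rw [sup_le_iff, Ideal.span_le, Set.mem_inter_iff, ProjDim.mem_closure_iff,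
      ProjDim.mem_zeroLocus_iff]
  rw [ProjDim.topDim_closure_singleton]
  constructor
  · intro C hC
    obtain ⟨η, hη, hmin, hdim⟩ := ProjDim.exists_of_mem_irreducibleComponents
      (isClosed_closure.inter (ProjectiveSpectrum.isClosed_zeroLocus _ _)) hC
    have hM := ProjDim.mem_minimalPrimes_of_minimal hI ((hmem η).1 hη)
      fun y hy hyx => hmin y ((hmem y).2 hy) hyx
    have key := ProjDim.dimQ_le_of_mem_minimalPrimes_sup (ProjDim.pt ξ) (ProjDim.pt η) f hM
    rw [hdim, ProjDim.topDim_closure_singleton]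
    obtain ⟨a, ha⟩ : ∃ a, ProjDim.dimQ (ProjDim.pt ξ) = a + 1 :=
      ⟨ProjDim.dimQ (ProjDim.pt ξ) - 1, by have := ProjDim.one_le_dimQ_pt ξ; omega⟩
    obtain ⟨b, hb⟩ : ∃ b, ProjDim.dimQ (ProjDim.pt η) = b + 1 :=
      ⟨ProjDim.dimQ (ProjDim.pt η) - 1, by have := ProjDim.one_le_dimQ_pt η; omega⟩
    rw [(ProjDim.coheight_eq_iff ξ a).2 ha, (ProjDim.coheight_eq_iff η b).2 hb]
    exact_mod_cast (show a ≤ b + r by omega)
  · intro hr
    obtain ⟨a, ha⟩ : ∃ a, ProjDim.dimQ (ProjDim.pt ξ) = a + 1 :=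
      ⟨ProjDim.dimQ (ProjDim.pt ξ) - 1, by have := ProjDim.one_le_dimQ_pt ξ; omega⟩
    rw [(ProjDim.coheight_eq_iff ξ a).2 ha] at hr
    have hra : r ≤ a := by exact_mod_cast hr
    have hne : ProjDim.pt ξ ⊔ Ideal.span (Set.range f) ≠ ⊤ := by
      refine ne_top_of_le_ne_top (Ideal.IsPrime.ne_top' (I := GenPt.irr k n))
        (sup_le (ProjDim.pt_lt_irr ξ).le (Ideal.span_le.2 ?_))
      rintro _ ⟨i, rfl⟩
      exact ProjDim.irrelevant_le_irr (HomogeneousIdeal.mem_irrelevant_of_mem _ (hd i)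
        ((MvPolynomial.mem_homogeneousSubmodule _ _).2 (hf i)))
    obtain ⟨M, hM⟩ := Ideal.nonempty_minimalPrimes hne
    haveI := hM.1.1
    have key := ProjDim.dimQ_le_of_mem_minimalPrimes_sup (ProjDim.pt ξ) M f hM
    obtain ⟨z, rfl⟩ := ProjDim.exists_pt_of_dim M (GenPt.minimal_isHomogeneous hI hM) (by omega)
    exact ⟨z, (hmem z).2 hM.1.2⟩

end Groth.Agent.S10823
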