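import Groth.Statements.S10824
import Groth.Agent.PlanePts.Forms
import Mathlib.RingTheory.Polynomial.UniqueFactorization
import Mathlib.Tactic.LinearCombination
import Mathlib.Tactic.Linarith
import Mathlib.LinearAlgebra.FiniteDimensional.Lemmas

set_option autoImplicit false
universe u
open Variety

namespace Groth.Agent.S10824

open MvPolynomial

theorem two_mul_choose (e : ℕ) : 2 * (2 + e).choose 2 = (e + 1) * (e + 2) := by
  induction e with
  | zero => rfl
  | succ e ih =>
    rw [show 2 + (e + 1) = (2 + e) + 1 by omega, Nat.choose_succ_succ', Nat.choose_one_right, mul_add, ih]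
    ring

theorem comp_mul {k : Type u} [Field k] {σ : Type*} (a f : MvPolynomial σ k) {n : ℕ} (hf : f.IsHomogeneous n)
    {d : ℕ} (hnd : n ≤ d) : homogeneousComponent d (a * f) = homogeneousComponent (d - n) a * f := by
  classical
  conv_lhs => rw [← sum_homogeneousComponent a, Finset.sum_mul, map_sum]
  rw [Finset.sum_congr rfl fun i _ => homogeneousComponent_of_mem
    ((homogeneousComponent_isHomogeneous i a).mul hf) (m := d)]
  by_cases h : d - n ∈ Finset.range (a.totalDegree + 1)
  · rw [Finset.sum_eq_single (d - n) (fun i _ hi => if_neg (by omega)) (fun h' => absurd h h')]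
    rw [if_pos (by omega)]
  · rw [homogeneousComponent_eq_zero (d - n) a (by simp at h; omega), zero_mul]
    refine Finset.sum_eq_zero fun i hi => if_neg ?_
    simp at h hi; omega

theorem mem_span_pair_homog {k : Type u} [Field k] {σ : Type*} {f g h : MvPolynomial σ k} {n m d : ℕ}
    (hf : f.IsHomogeneous n) (hg : g.IsHomogeneous m) (hh : h.IsHomogeneous d) (hn : n ≤ d) (hm : m ≤ d)
    (hmem : h ∈ Ideal.span ({f, g} : Set (MvPolynomial σ k))) :
    ∃ a b : MvPolynomial σ k, a.IsHomogeneous (d - n) ∧ b.IsHomogeneous (d - m) ∧ a * f + b * g = h := by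
  obtain ⟨a, b, hab⟩ := Ideal.mem_span_pair.1 hmem
  refine ⟨_, _, homogeneousComponent_isHomogeneous _ a, homogeneousComponent_isHomogeneous _ b, ?_⟩
  rw [← comp_mul a f hf hn, ← comp_mul b g hg hm, ← map_add, hab, homogeneousComponent_of_mem hh, if_pos rfl]

theorem isHom_mul {k : Type u} [Field k] {σ : Type*} {a f : MvPolynomial σ k} {n d : ℕ}
    (ha : a.IsHomogeneous (d - n)) (hf : f.IsHomogeneous n) (hn : n ≤ d) : (a * f).IsHomogeneous d := by
  have := ha.mul hf
  rwa [Nat.sub_add_cancel hn] at this

/-- Let k be a field, S the polynomial ring in three variables over k with degree-d part S_d, and f, g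
nonzero homogeneous polynomials of positive degrees n and m with no common non-unit factor. Then for
every d ≥ n + m the degree-d part of S/(f, g), namely S_d modulo its intersection with the ideal (f,
g), has dimension n·m over k. -/
theorem result (k : Type u) [Field k] (n m d : ℕ)
    (f g : MvPolynomial (Fin 3) k) (hf : f.IsHomogeneous n) (hg : g.IsHomogeneous m)
    (hn : 0 < n) (hm : 0 < m) (hf0 : f ≠ 0) (hg0 : g ≠ 0) (hfg : IsRelPrime f g) (hd : n + m ≤ d) :
    Module.finrank k
        (↥(MvPolynomial.homogeneousSubmodule (Fin 3) k d) ⧸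
          Submodule.comap (MvPolynomial.homogeneousSubmodule (Fin 3) k d).subtype
            ((Ideal.span ({f, g} : Set (MvPolynomial (Fin 3) k))).restrictScalars k)) = n * m := by
  classical
  let S : ℕ → Submodule k (MvPolynomial (Fin 3) k) := fun e => homogeneousSubmodule (Fin 3) k e
  let Φ : (↥(S (d - n)) × ↥(S (d - m))) →ₗ[k] ↥(S d) :=
    ((LinearMap.mulRight k f).comp (S (d - n)).subtype).coprod ((LinearMap.mulRight k g).comp (S (d - m)).subtype)
      |>.codRestrict (S d) fun p => by
        refine (mem_homogeneousSubmodule _ _).2 ?_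
        exact (isHom_mul p.1.2 hf (by omega)).add (isHom_mul p.2.2 hg (by omega))
  have hΦ : LinearMap.range Φ = Submodule.comap (S d).subtype
      ((Ideal.span ({f, g} : Set (MvPolynomial (Fin 3) k))).restrictScalars k) := by
    refine le_antisymm ?_ ?_
    · rintro _ ⟨p, rfl⟩
      exact Ideal.mem_span_pair.2 ⟨p.1.1, p.2.1, rfl⟩
    · rintro ⟨h, hh⟩ hmem
      obtain ⟨a, b, ha, hb, e⟩ := mem_span_pair_homog hf hg hh (by omega) (by omega) hmem
      exact ⟨(⟨a, ha⟩, ⟨b, hb⟩), Subtype.ext e⟩
  let K : ↥(S (d - (n + m))) →ₗ[k] (↥(S (d - n)) × ↥(S (d - m))) :=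
    (((LinearMap.mulRight k g).comp (S (d - (n + m))).subtype).codRestrict (S (d - n)) fun c => by
        have := IsHomogeneous.mul c.2 hg
        rw [show d - (n + m) + m = d - n by omega] at this; exact this).prod
    ((-((LinearMap.mulRight k f).comp (S (d - (n + m))).subtype)).codRestrict (S (d - m)) fun c => by
        have := IsHomogeneous.mul c.2 hf
        rw [show d - (n + m) + n = d - m by omega] at this
        exact Submodule.neg_mem _ this)
  have hKi : Function.Injective K := fun a b e => Subtype.ext
    (mul_right_cancel₀ hg0 (congrArg (fun p => p.1.1) e))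
  have hK : LinearMap.ker Φ = LinearMap.range K := by
    refine le_antisymm ?_ ?_
    · rintro ⟨⟨a, ha⟩, ⟨b, hb⟩⟩ h0
      have h0' : a * f + b * g = 0 := congrArg Subtype.val (LinearMap.mem_ker.1 h0)
      obtain ⟨c, rfl⟩ : g ∣ a := hfg.symm.dvd_of_dvd_mul_right ⟨-b, by linear_combination h0'⟩
      have hc : homogeneousComponent (d - (n + m)) c * g = g * c := by
        rw [show d - (n + m) = d - n - m by omega, ← comp_mul c g hg (by omega), mul_comm c g,
          homogeneousComponent_of_mem ha, if_pos rfl]
      refine ⟨⟨_, homogeneousComponent_isHomogeneous (d - (n + m)) c⟩, Prod.ext (Subtype.ext hc) (Subtype.ext ?_)⟩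
      show -(homogeneousComponent (d - (n + m)) c * f) = b
      refine mul_right_cancel₀ hg0 ?_
      linear_combination -h0' - f * hc
    · rintro _ ⟨c, rfl⟩
      refine LinearMap.mem_ker.2 (Subtype.ext ?_)
      show c.1 * g * f + -(c.1 * f) * g = 0
      ring
  have h1 := Φ.finrank_range_add_finrank_ker
  rw [hK, LinearMap.finrank_range_of_inj hKi, Module.finrank_prod] at h1
  have h2 := Submodule.finrank_quotient_add_finrank (LinearMap.range Φ)
  rw [hΦ] at h1 h2
  simp only [S, PlanePts.finrank_forms] at h1 h2
  have ea := two_mul_choose (d - (n + m))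
  have eb := two_mul_choose (d - n)
  have ec := two_mul_choose (d - m)
  have ed := two_mul_choose d
  obtain ⟨e, rfl⟩ : ∃ e, d = n + m + e := ⟨d - (n + m), by omega⟩
  rw [show n + m + e - (n + m) = e by omega, show n + m + e - n = m + e by omega,
    show n + m + e - m = n + e by omega] at *
  nlinarith [h1, h2, ea, eb, ec, ed]

end Groth.Agent.S10824
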