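import Groth.Statements.S10825
import Groth.Agent.VarDim.Algebra
import Mathlib.FieldTheory.Minpoly.IsIntegrallyClosed
import Mathlib.RingTheory.Norm.Transitivity
import Mathlib.RingTheory.Ideal.GoingUp
import Mathlib.RingTheory.Spectrum.Prime.Topology
import Mathlib.Topology.KrullDimension

set_option autoImplicit false
universe u
open Topology
open CAlg

namespace Groth.Agent.S10825

/-- Let A → B be an injective integral homomorphism of integral domains with fraction fields K and L, L
a finite extension of K, and A integrally closed. For b in B the norm N_{L/K}(b) lies in A; if a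
denotes this element of A, then the image of the closed set V(b) of Spec B under Spec B → Spec A is
exactly V(a), and V(b) and V(a) have the same dimension. -/
theorem result
    (A B K L : Type u) [CommRing A] [IsDomain A] [CommRing B] [IsDomain B] [Algebra A B]
    [Field K] [Field L] [Algebra A K] [IsFractionRing A K] [Algebra B L] [IsFractionRing B L]
    [Algebra A L] [Algebra K L] [IsScalarTower A B L] [IsScalarTower A K L]
    [FiniteDimensional K L] [Algebra.IsIntegral A B] [IsIntegrallyClosed A]
    (hinj : Function.Injective (algebraMap A B))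
    (b : B) (a : A) (ha : algebraMap A K a = Algebra.norm K (algebraMap B L b)) :
    PrimeSpectrum.comap (algebraMap A B) '' PrimeSpectrum.zeroLocus ({b} : Set B) =
        PrimeSpectrum.zeroLocus ({a} : Set A) ∧
      topologicalKrullDim ↥(PrimeSpectrum.zeroLocus ({b} : Set B)) =
        topologicalKrullDim ↥(PrimeSpectrum.zeroLocus ({a} : Set A)) := by
  classical
  have : IsScalarTower A K L := inferInstance
  have hbint : IsIntegral A b := Algebra.IsIntegral.isIntegral b
  set m := minpoly A b with hmdef
  set β := algebraMap B L b with hβ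
  have hβint : IsIntegral A β := hbint.map (IsScalarTower.toAlgHom A B L)
  have : Module.IsTorsionFree A B := Module.isTorsionFree_iff_algebraMap_injective.2 hinj
  have hmK : minpoly K β = m.map (algebraMap A K) := by
    have h1 : minpoly K β = (minpoly A β).map (algebraMap A K) := minpoly.isIntegrallyClosed_eq_field_fractions' K hβint
    rw [h1, hmdef, hβ, minpoly.algebraMap_eq (IsFractionRing.injective B L)]
  set r := Module.finrank (IntermediateField.adjoin K ({β} : Set L)) L with hr
  have hr0 : 0 < r := Module.finrank_pos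
  have hnorm : algebraMap A K a = algebraMap A K (((-1) ^ m.natDegree * m.coeff 0) ^ r) := by
    rw [ha, Algebra.norm_eq_norm_adjoin]
    have hβK : IsIntegral K β := hβint.tower_top
    have h2 := Algebra.PowerBasis.norm_gen_eq_coeff_zero_minpoly (IntermediateField.adjoin.powerBasis hβK)
    rw [IntermediateField.adjoin.powerBasis_gen, IntermediateField.minpoly_gen, IntermediateField.adjoin.powerBasis_dim] at h2
    rw [h2, hmK, Polynomial.coeff_map, (minpoly.monic hbint).natDegree_map, map_pow, map_mul, map_pow, map_neg, map_one]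
  have ha' : a = ((-1) ^ m.natDegree * m.coeff 0) ^ r := IsFractionRing.injective A K hnorm
  have hc : ∀ (p : Ideal A) [p.IsPrime], (a ∈ p ↔ m.coeff 0 ∈ p) := fun p hp => by
    rw [ha']
    constructor
    · intro h
      refine (hp.mem_or_mem (hp.mem_of_pow_mem _ h)).resolve_left fun h' => hp.one_notMem ?_
      rw [show (1 : A) = (-1) ^ m.natDegree * (-1) ^ m.natDegree by rw [← mul_pow, neg_one_mul, neg_neg, one_pow]]
      exact p.mul_mem_left _ h'
    · exact fun h => p.pow_mem_of_mem (p.mul_mem_left _ h) _ hr0
  have hset : PrimeSpectrum.comap (algebraMap A B) '' PrimeSpectrum.zeroLocus ({b} : Set B) =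
      PrimeSpectrum.zeroLocus ({a} : Set A) := by
    ext p
    constructor
    · rintro ⟨q, hq, rfl⟩
      have hq' : b ∈ q.asIdeal := Set.singleton_subset_iff.1 hq
      simp only [PrimeSpectrum.mem_zeroLocus, Set.singleton_subset_iff, SetLike.mem_coe]
      rw [hc (PrimeSpectrum.comap (algebraMap A B) q).asIdeal, PrimeSpectrum.comap_asIdeal, Ideal.mem_comap]
      exact Ideal.coeff_zero_mem_comap_of_root_mem hq' (minpoly.aeval A b)
    · intro hp
      have hp' : m.coeff 0 ∈ p.asIdeal := (hc p.asIdeal).1 (Set.singleton_subset_iff.1 hp)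
      let e := minpoly.equivAdjoin (R := A) (x := b) hbint
      let Cb := Algebra.adjoin A ({b} : Set B)
      -- the prime (p, X) of A[X]/(m)
      let φ : AdjoinRoot m →ₐ[A] A ⧸ p.asIdeal := AdjoinRoot.liftAlgHom m (Ideal.Quotient.mkₐ A p.asIdeal) 0 (by
        rw [Polynomial.eval₂_at_zero]; exact Ideal.Quotient.eq_zero_iff_mem.2 hp')
      let P : Ideal Cb := (RingHom.ker φ.toRingHom).comap e.symm.toAlgHom.toRingHom
      have hker : (RingHom.ker φ.toRingHom).IsPrime := RingHom.ker_isPrime _
      have hPp : P.comap (algebraMap A Cb) = p.asIdeal := by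
        ext x
        simp only [P, Ideal.mem_comap, RingHom.mem_ker]
        change φ (e.symm (algebraMap A Cb x)) = 0 ↔ _
        rw [AlgEquiv.commutes, AlgHom.commutes]
        exact Ideal.Quotient.eq_zero_iff_mem
      have hbP : (⟨b, Algebra.self_mem_adjoin_singleton A b⟩ : Cb) ∈ P := by
        have : e.symm ⟨b, Algebra.self_mem_adjoin_singleton A b⟩ = AdjoinRoot.root m := by
          rw [AlgEquiv.symm_apply_eq]
          apply Subtype.ext
          simp [e]
          refine Eq.symm (congrArg Subtype.val (a₂ := (⟨b, Algebra.self_mem_adjoin_singleton A b⟩ : Cb)) ?_)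
          exact AdjoinRoot.liftAlgHom_root _ _ _ _
        simp only [P, Ideal.mem_comap, RingHom.mem_ker]
        change φ (e.symm _) = 0
        rw [this]
        exact AdjoinRoot.liftAlgHom_root _ _ _ _
      have : Algebra.IsIntegral Cb B := Algebra.IsIntegral.tower_top A
      obtain ⟨Q, _, hQ, hQP⟩ := Ideal.exists_ideal_over_prime_of_isIntegral P (⊥ : Ideal B) (by
        intro x hx; rw [Ideal.mem_comap, Ideal.mem_bot] at hx; rw [show x = 0 from Subtype.ext hx]; exact zero_mem _)
      refine ⟨⟨Q, hQ⟩, Set.singleton_subset_iff.2 ?_, PrimeSpectrum.ext ?_⟩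
      · have : (⟨b, Algebra.self_mem_adjoin_singleton A b⟩ : Cb) ∈ Q.comap (algebraMap Cb B) := hQP.symm ▸ hbP
        exact this
      · rw [PrimeSpectrum.comap_asIdeal, IsScalarTower.algebraMap_eq A Cb B, ← Ideal.comap_comap, hQP, hPp]
  refine ⟨hset, ?_⟩
  let J : Ideal B := Ideal.span {b}
  let I : Ideal A := J.comap (algebraMap A B)
  let : Algebra (A ⧸ I) (B ⧸ J) := (Ideal.quotientMap J (algebraMap A B) le_rfl).toAlgebra
  have : FaithfulSMul (A ⧸ I) (B ⧸ J) := (faithfulSMul_iff_algebraMap_injective _ _).2 Ideal.quotientMap_injective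
  have : IsScalarTower A (A ⧸ I) (B ⧸ J) := IsScalarTower.of_algebraMap_eq fun x => rfl
  have hAB : Algebra.IsIntegral A (B ⧸ J) := ⟨fun x => by
    obtain ⟨x, rfl⟩ := Ideal.Quotient.mk_surjective x
    exact (Algebra.IsIntegral.isIntegral x).map (Ideal.Quotient.mkₐ A J)⟩
  have : Algebra.IsIntegral (A ⧸ I) (B ⧸ J) := Algebra.IsIntegral.tower_top A
  have hdim := Groth.Agent.VarDim.ringKrullDim_eq_of_isIntegral (R := A ⧸ I) (S := B ⧸ J)
  have hI : PrimeSpectrum.zeroLocus (I : Set A) = PrimeSpectrum.zeroLocus ({a} : Set A) := by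
    rw [← hset]
    ext p
    constructor
    · intro hp
      obtain ⟨Q, hQJ, hQ, hQP⟩ := Ideal.exists_ideal_over_prime_of_isIntegral p.asIdeal J hp
      exact ⟨⟨Q, hQ⟩, Set.singleton_subset_iff.2 (hQJ (Ideal.subset_span rfl)), PrimeSpectrum.ext hQP⟩
    · rintro ⟨q, hq, rfl⟩
      exact fun x hx => (Ideal.span_le.2 hq) hx
  have key : ∀ {R : Type u} [CommRing R] (I : Ideal R), topologicalKrullDim ↥(PrimeSpectrum.zeroLocus (I : Set R)) = ringKrullDim (R ⧸ I) := by
    intro R _ I
    rw [← PrimeSpectrum.topologicalKrullDim_eq_ringKrullDim]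
    have hemb := PrimeSpectrum.isClosedEmbedding_comap_of_surjective (R := R) (S := R ⧸ I) (f := Ideal.Quotient.mk I) Ideal.Quotient.mk_surjective
    have hr : Set.range (PrimeSpectrum.comap (Ideal.Quotient.mk I)) = PrimeSpectrum.zeroLocus (I : Set R) := by
      rw [range_comap_of_surjective (R := R) (S := R ⧸ I) (Ideal.Quotient.mk I) Ideal.Quotient.mk_surjective, Ideal.mk_ker]
    exact ((hemb.toIsEmbedding.toHomeomorph).trans (Homeomorph.setCongr hr)).isHomeomorph.topologicalKrullDim_eq.symm
  rw [← PrimeSpectrum.zeroLocus_span {b}, ← hI]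
  rw [key, key]
  exact hdim

end Groth.Agent.S10825
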