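import Groth.Statements.S10826
import Mathlib.RingTheory.MvPowerSeries.Substitution
import Mathlib.LinearAlgebra.Matrix.NonsingularInverse

set_option autoImplicit false
open CAlg

namespace Groth.Agent.S10826

section
open MvPowerSeries
variable {R : Type*} [CommRing R] {n : ℕ}

/-- All coefficients in total degree `< N` vanish. -/
def OrdGE (N : ℕ) (f : MvPowerSeries (Fin n) R) : Prop :=
  ∀ e : Fin n →₀ ℕ, e.degree < N → coeff e f = 0

theorem ordGE_zero (f : MvPowerSeries (Fin n) R) : OrdGE 0 f := fun _ h => absurd h (Nat.not_lt_zero _)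

theorem OrdGE.mono {M N : ℕ} {f : MvPowerSeries (Fin n) R} (h : OrdGE N f) (hMN : M ≤ N) : OrdGE M f :=
  fun e he => h e (he.trans_le hMN)

theorem OrdGE.add {N : ℕ} {f g : MvPowerSeries (Fin n) R} (hf : OrdGE N f) (hg : OrdGE N g) : OrdGE N (f + g) :=
  fun e he => by rw [map_add, hf e he, hg e he, add_zero]

theorem OrdGE.mul {M N : ℕ} {f g : MvPowerSeries (Fin n) R} (hf : OrdGE M f) (hg : OrdGE N g) :
    OrdGE (M + N) (f * g) := by
  classical
  intro e he
  rw [coeff_mul]
  refine Finset.sum_eq_zero fun p hp => ?_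
  rw [Finset.HasAntidiagonal.mem_antidiagonal] at hp
  have hd : p.1.degree + p.2.degree < M + N := by rw [← map_add, hp]; exact he
  rcases lt_or_ge p.1.degree M with h | h
  · rw [hf _ h, zero_mul]
  · rw [hg p.2 (by omega), mul_zero]

theorem ordGE_one_iff (f : MvPowerSeries (Fin n) R) : OrdGE 1 f ↔ constantCoeff f = 0 := by
  refine ⟨fun h => ?_, fun h e he => ?_⟩
  · rw [← coeff_zero_eq_constantCoeff_apply]; exact h 0 (by simp)
  · rw [Nat.lt_one_iff, Finsupp.degree_eq_zero_iff] at he
    rw [he, coeff_zero_eq_constantCoeff_apply, h]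

theorem ordGE_sum {ι : Type*} (s : Finset ι) {N : ℕ} (g : ι → MvPowerSeries (Fin n) R)
    (h : ∀ i ∈ s, OrdGE N (g i)) : OrdGE N (∑ i ∈ s, g i) :=
  fun e he => by rw [map_sum]; exact Finset.sum_eq_zero fun i hi => h i hi e he

open Classical in
/-- The terms of `f` whose least variable is `i`, divided by `Xᵢ`. -/
noncomputable def part (i : Fin n) (f : MvPowerSeries (Fin n) R) : MvPowerSeries (Fin n) R :=
  fun e => if ∀ j < i, e j = 0 then coeff (e + Finsupp.single i 1) f else 0

open Classical in
theorem coeff_part (i : Fin n) (f : MvPowerSeries (Fin n) R) (e : Fin n →₀ ℕ) :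
    coeff e (part i f) = if ∀ j < i, e j = 0 then coeff (e + Finsupp.single i 1) f else 0 := rfl

theorem exists_sum_X_mul {N : ℕ} (f : MvPowerSeries (Fin n) R) (hf : OrdGE (N + 1) f) :
    ∃ g : Fin n → MvPowerSeries (Fin n) R, (∀ i, OrdGE N (g i)) ∧ f = ∑ i, X i * g i := by
  classical
  refine ⟨fun i => part i f, fun i e he => ?_, ?_⟩
  · rw [coeff_part]
    split_ifs with h
    · exact hf _ (by rw [map_add, Finsupp.degree_single]; omega)
    · rfl
  · ext e
    simp only [map_sum, X_def, coeff_monomial_mul, one_mul, coeff_part]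
    rcases eq_or_ne e 0 with rfl | he
    · rw [hf 0 (by simp)]
      refine (Finset.sum_eq_zero fun i _ => if_neg ?_).symm
      intro h
      simpa using h i
    have hne : e.support.Nonempty := Finsupp.support_nonempty_iff.2 he
    let i₀ := e.support.min' hne
    have hi₀ : 1 ≤ e i₀ := Nat.one_le_iff_ne_zero.2 (Finsupp.mem_support_iff.1 (e.support.min'_mem hne))
    have hmin : ∀ j < i₀, e j = 0 := fun j hj => by
      by_contra h
      exact absurd (e.support.min'_le j (Finsupp.mem_support_iff.2 h)) (not_le.2 hj)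
    rw [Finset.sum_eq_single i₀]
    · rw [if_pos (Finsupp.single_le_iff.2 hi₀), if_pos (fun j hj => by simp [hmin j hj]), tsub_add_cancel_of_le (Finsupp.single_le_iff.2 hi₀)]
    · intro i _ hi
      split_ifs with h hall
      · have hei : 1 ≤ e i := Finsupp.single_le_iff.1 h
        rcases lt_or_gt_of_ne hi with hlt | hgt
        · exact absurd (hmin i hlt) (by omega)
        · have := hall i₀ hgt
          rw [Finsupp.tsub_apply, Finsupp.single_eq_of_ne hi.symm] at this
          omega
      · rfl
      · rfl
    · exact fun h => absurd (Finset.mem_univ _) h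

theorem ordGE_map (φ : MvPowerSeries (Fin n) R →ₐ[R] MvPowerSeries (Fin n) R)
    (h0 : ∀ i, constantCoeff (φ (X i)) = 0) : ∀ (N : ℕ) (f : MvPowerSeries (Fin n) R), OrdGE N f → OrdGE N (φ f) := by
  intro N
  induction N with
  | zero => exact fun f _ => ordGE_zero _
  | succ N ih =>
    intro f hf
    obtain ⟨g, hg, rfl⟩ := exists_sum_X_mul f hf
    rw [map_sum]
    refine ordGE_sum _ _ fun i _ => ?_
    rw [map_mul, add_comm]
    exact ((ordGE_one_iff _).2 (h0 i)).mul (ih _ (hg i))

theorem ordGE_two_sub (f : MvPowerSeries (Fin n) R) (hf : constantCoeff f = 0) :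
    OrdGE 2 (f - ∑ j, coeff (Finsupp.single j 1) f • X j) := by
  classical
  intro e he
  rcases Nat.lt_or_ge e.degree 1 with h | h
  · rw [Nat.lt_one_iff, Finsupp.degree_eq_zero_iff] at h
    subst h
    simp [map_sum, coeff_zero_eq_constantCoeff_apply, hf]
  · obtain ⟨k, rfl⟩ : ∃ k, e = Finsupp.single k 1 := by
      obtain ⟨k, hk⟩ := Finsupp.support_nonempty_iff.2 (show e ≠ 0 by rintro rfl; simp at h)
      have hle : Finsupp.single k 1 ≤ e := Finsupp.single_le_iff.2 (Nat.one_le_iff_ne_zero.2 (Finsupp.mem_support_iff.1 hk))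
      refine ⟨k, ?_⟩
      have hd := congrArg Finsupp.degree (tsub_add_cancel_of_le hle)
      rw [map_add, Finsupp.degree_single] at hd
      have h0 : e - Finsupp.single k 1 = 0 := (Finsupp.degree_eq_zero_iff _).1 (by omega)
      have := tsub_add_cancel_of_le hle
      rwa [h0, zero_add, eq_comm] at this
    simp [map_sum, coeff_smul, coeff_X, Finsupp.single_left_inj, eq_comm]

theorem lin_comp (a b : MvPowerSeries (Fin n) R →ₐ[R] MvPowerSeries (Fin n) R)
    (ha : ∀ i, constantCoeff (a (X i)) = 0) (hb : ∀ i, constantCoeff (b (X i)) = 0) :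
    (Matrix.of fun i k => coeff (Finsupp.single k 1) (a (b (X i)))) =
      (Matrix.of fun i k => coeff (Finsupp.single k 1) (b (X i))) * (Matrix.of fun i k => coeff (Finsupp.single k 1) (a (X i))) := by
  ext i k
  have h := ordGE_map a ha 2 _ (ordGE_two_sub _ (hb i)) (Finsupp.single k 1) (by simp)
  simp only [map_sub, map_sum, map_smul, coeff_smul, sub_eq_zero] at h
  simpa [Matrix.mul_apply] using h

theorem bijective_of_lin_eq_one (χ : MvPowerSeries (Fin n) R →ₐ[R] MvPowerSeries (Fin n) R)
    (h0 : ∀ i, constantCoeff (χ (X i)) = 0)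
    (h1 : (Matrix.of fun i k => coeff (Finsupp.single k 1) (χ (X i))) = (1 : Matrix (Fin n) (Fin n) R)) :
    Function.Bijective χ := by
  classical
  let E : MvPowerSeries (Fin n) R →ₗ[R] MvPowerSeries (Fin n) R := LinearMap.id - χ.toLinearMap
  have hX : ∀ i, OrdGE 2 (E (X i)) := fun i => by
    have h := ordGE_two_sub _ (h0 i)
    have hs : ∑ j, coeff (Finsupp.single j 1) (χ (X i)) • (X j : MvPowerSeries (Fin n) R) = X i := by
      rw [Finset.sum_eq_single i]
      · rw [show coeff (Finsupp.single i 1) (χ (X i)) = 1 by simpa using congrFun (congrFun h1 i) i, one_smul]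
      · intro j _ hj
        rw [show coeff (Finsupp.single j 1) (χ (X i)) = 0 by simpa [Ne.symm hj] using congrFun (congrFun h1 i) j, zero_smul]
      · simp
    rw [hs] at h
    intro e he
    have := h e he
    simp only [map_sub, sub_eq_zero] at this
    simp [E, this]
  have hE : ∀ (N : ℕ) (f : MvPowerSeries (Fin n) R), OrdGE N f → OrdGE (N + 1) (E f) := by
    intro N
    induction N with
    | zero =>
      intro f _
      have hf1 : OrdGE 1 (f - C (constantCoeff f)) := (ordGE_one_iff _).2 (by simp)
      have := ordGE_map χ h0 1 _ hf1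
      rw [ordGE_one_iff] at this ⊢
      rw [map_sub, show χ (C (constantCoeff f)) = C (constantCoeff f) from χ.commutes _, map_sub, constantCoeff_C, sub_eq_zero] at this
      simp [E, this]
    | succ N ih =>
      intro f hf
      obtain ⟨g, hg, rfl⟩ := exists_sum_X_mul f hf
      rw [map_sum]
      refine ordGE_sum _ _ fun i _ => ?_
      have heq : E (X i * g i) = E (X i) * χ (g i) + X i * E (g i) := by
        simp only [E, LinearMap.sub_apply, LinearMap.id_apply, AlgHom.toLinearMap_apply, map_mul]
        ring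
      rw [heq]
      refine OrdGE.add (((hX i).mul (ordGE_map χ h0 N _ (hg i))).mono (by omega)) ?_
      exact (((ordGE_one_iff _).2 (constantCoeff_X i)).mul (ih _ (hg i))).mono (by omega)
  constructor
  · rw [injective_iff_map_eq_zero]
    intro f hf
    have hfix : E f = f := by simp [E, hf]
    have hall : ∀ N, OrdGE N f := by
      intro N
      induction N with
      | zero => exact ordGE_zero f
      | succ N ih => exact hfix ▸ hE N f ih
    ext e
    simpa using hall (e.degree + 1) e (Nat.lt_succ_self _)
  · intro g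
    let p : ℕ → MvPowerSeries (Fin n) R := fun k => ∑ j ∈ Finset.range k, (E ^ j) g
    have hEk : ∀ j, OrdGE j ((E ^ j) g) := by
      intro j
      induction j with
      | zero => exact ordGE_zero _
      | succ j ih => rw [pow_succ', Module.End.mul_apply]; exact hE j _ ih
    have hp : ∀ k, χ (p k) = g - (E ^ k) g := by
      intro k
      induction k with
      | zero => simp [p]
      | succ k ih =>
        have hstep : χ ((E ^ k) g) = (E ^ k) g - (E ^ (k + 1)) g := by
          rw [pow_succ', Module.End.mul_apply]; simp [E]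
        simp only [p, Finset.sum_range_succ, map_add] at ih ⊢
        rw [ih, hstep]; abel
    let f : MvPowerSeries (Fin n) R := fun e => coeff e (p (e.degree + 1))
    have hf : ∀ k, OrdGE k (f - p k) := by
      intro k e he
      rw [map_sub, coeff_apply (f := f), sub_eq_zero]
      simp only [f, p, map_sum]
      exact Finset.sum_subset (Finset.range_mono he) fun j _ hj => hEk j e (by simp only [Finset.mem_range] at hj; omega)
    refine ⟨f, ?_⟩
    ext e
    have h := ordGE_map χ h0 _ _ (hf (e.degree + 1)) e (Nat.lt_succ_self _)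
    rw [map_sub, map_sub, sub_eq_zero, hp, map_sub, hEk _ e (Nat.lt_succ_self _), sub_zero] at h
    exact h

end

/-- Let R be a commutative ring, n ≥ 1, and φ an R-algebra homomorphism from the power series ring in n
variables over R to itself that sends each variable to a power series without constant term. If the
Jacobian matrix at the origin, whose (i, j) entry is the coefficient of X_j in φ(X_i), has
invertible determinant in R, then φ is an isomorphism (bijective). -/
theorem result
    (R : Type*) [CommRing R] (n : ℕ) (hn : 1 ≤ n)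
    (φ : MvPowerSeries (Fin n) R →ₐ[R] MvPowerSeries (Fin n) R)
    (h0 : ∀ i, MvPowerSeries.constantCoeff (φ (MvPowerSeries.X i)) = 0)
    (hJ : IsUnit (Matrix.det (Matrix.of fun i j : Fin n =>
      MvPowerSeries.coeff (Finsupp.single j 1) (φ (MvPowerSeries.X i))))) :
    Function.Bijective φ := by
  classical
  let J : Matrix (Fin n) (Fin n) R := Matrix.of fun i j => MvPowerSeries.coeff (Finsupp.single j 1) (φ (MvPowerSeries.X i))
  let a : Fin n → MvPowerSeries (Fin n) R := fun i => ∑ j, J⁻¹ i j • MvPowerSeries.X j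
  have ha0 : ∀ i, MvPowerSeries.constantCoeff (a i) = 0 := fun i => by simp [a]
  have ha : MvPowerSeries.HasSubst a := MvPowerSeries.hasSubst_of_constantCoeff_zero ha0
  let ψ : MvPowerSeries (Fin n) R →ₐ[R] MvPowerSeries (Fin n) R := MvPowerSeries.substAlgHom ha
  have hψX : ∀ i, ψ (MvPowerSeries.X i) = a i := fun i => MvPowerSeries.substAlgHom_X ha i
  have hψ0 : ∀ i, MvPowerSeries.constantCoeff (ψ (MvPowerSeries.X i)) = 0 := fun i => by rw [hψX, ha0]
  have hψ : (Matrix.of fun i k => MvPowerSeries.coeff (Finsupp.single k 1) (ψ (MvPowerSeries.X i))) = J⁻¹ := by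
    ext i k
    simp [hψX, a, MvPowerSeries.coeff_X, Finsupp.single_left_inj, eq_comm]
  have h00 : ∀ (c d : MvPowerSeries (Fin n) R →ₐ[R] MvPowerSeries (Fin n) R), (∀ i, MvPowerSeries.constantCoeff (c (MvPowerSeries.X i)) = 0) →
      (∀ i, MvPowerSeries.constantCoeff (d (MvPowerSeries.X i)) = 0) → ∀ i, MvPowerSeries.constantCoeff ((c.comp d) (MvPowerSeries.X i)) = 0 :=
    fun c d hc hd i => (ordGE_one_iff _).1 (ordGE_map c hc 1 _ ((ordGE_one_iff _).2 (hd i)))
  have h1 : Function.Bijective (ψ.comp φ) := bijective_of_lin_eq_one _ (h00 _ _ hψ0 h0) (by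
    simp only [AlgHom.comp_apply]
    rw [lin_comp ψ φ hψ0 h0, hψ]
    exact Matrix.mul_nonsing_inv J hJ)
  have h2 : Function.Bijective (φ.comp ψ) := bijective_of_lin_eq_one _ (h00 _ _ h0 hψ0) (by
    simp only [AlgHom.comp_apply]
    rw [lin_comp φ ψ h0 hψ0, hψ]
    exact Matrix.nonsing_inv_mul J hJ)
  exact ⟨Function.Injective.of_comp (f := ψ) h1.1, Function.Surjective.of_comp (g := ψ) h2.2⟩

end Groth.Agent.S10826
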