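import Groth.Statements.S10827
import Groth.Agent.S10824

set_option autoImplicit false
universe u
open Variety

namespace Groth.Agent.S10827

open MvPolynomial

section
variable {k : Type u} [Field k]

/-- substitution `(X, Y, c)` -/
noncomputable def sub (c : MvPolynomial (Fin 2) k) : MvPolynomial (Fin 3) k →ₐ[k] MvPolynomial (Fin 2) k :=
  MvPolynomial.aeval (Fin.cons (MvPolynomial.X 0) (Fin.cons (MvPolynomial.X 1)
        (Fin.cons c Fin.elim0)) : Fin 3 → MvPolynomial (Fin 2) k)

theorem sub_X0 (c : MvPolynomial (Fin 2) k) : sub c (X 0) = X 0 := by simp [sub]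
theorem sub_X1 (c : MvPolynomial (Fin 2) k) : sub c (X 1) = X 1 := by
  rw [sub, aeval_X]; rfl
theorem sub_X2 (c : MvPolynomial (Fin 2) k) : sub c (X 2) = c := by
  rw [sub, aeval_X]; rfl

theorem dehom_inj {d : ℕ} {h : MvPolynomial (Fin 3) k} (hh : h.IsHomogeneous d) (h0 : sub 1 h = 0) : h = 0 := by
  classical
  let ρ : (Fin 3 →₀ ℕ) → (Fin 2 →₀ ℕ) := fun s => Finsupp.single 0 (s 0) + Finsupp.single 1 (s 1)
  have hmon : ∀ (s : Fin 3 →₀ ℕ) (c : k), sub 1 (monomial s c) = monomial (ρ s) c := by
    intro s c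
    rw [monomial_eq, Finsupp.prod_fintype _ _ (fun i => pow_zero _), map_mul, map_prod, Fin.prod_univ_three]
    simp only [map_pow, sub_X0, sub_X1, sub_X2, one_pow, mul_one]
    rw [X_pow_eq_monomial, X_pow_eq_monomial, monomial_mul, one_mul]
    simp [sub, ρ, C_mul_monomial]
  ext s
  rw [coeff_zero]
  by_cases hs : s ∈ h.support
  swap
  · simpa using hs
  have h1 := congrArg (coeff (ρ s)) h0
  rw [h.as_sum, map_sum] at h1
  simp only [hmon, coeff_sum, coeff_monomial, coeff_zero] at h1
  rw [Finset.sum_eq_single s ?_ (fun h' => absurd hs h'), if_pos rfl] at h1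
  · exact h1
  intro t ht hts
  rw [if_neg]
  intro e
  refine hts (Finsupp.ext fun i => ?_)
  have e0 := DFunLike.congr_fun e 0
  have e1 := DFunLike.congr_fun e 1
  simp [ρ] at e0 e1
  have d1 : ∀ u ∈ h.support, u 0 + u 1 + u 2 = d := fun u hu => by
    have := hh.degree_eq_sum_deg_support hu
    rw [Finset.sum_subset (Finset.subset_univ _) (fun i _ hi => by simpa using hi),
      Fin.sum_univ_three] at this
    omega
  have := d1 s hs; have := d1 t ht
  fin_cases i <;> simp <;> omega

theorem dehom_surj (p : MvPolynomial (Fin 2) k) :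
    ∃ N, ∀ d, N ≤ d → ∃ h : MvPolynomial (Fin 3) k, h.IsHomogeneous d ∧ sub 1 h = p := by
  have hT : ∀ e, ((X 2 : MvPolynomial (Fin 3) k) ^ e).IsHomogeneous e := fun e => isHomogeneous_X_pow 2 e
  induction p using MvPolynomial.induction_on with
  | C a =>
    exact ⟨0, fun d _ => ⟨C a * X 2 ^ d, (hT d).C_mul a, by rw [map_mul, map_pow, sub_X2, one_pow, mul_one]; simp [sub]⟩⟩
  | add p q hp hq =>
    obtain ⟨N, hp⟩ := hp
    obtain ⟨M, hq⟩ := hq
    refine ⟨N + M, fun d hd => ?_⟩
    obtain ⟨a, ha, ea⟩ := hp d (by omega)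
    obtain ⟨b, hb, eb⟩ := hq d (by omega)
    exact ⟨a + b, ha.add hb, by rw [map_add, ea, eb]⟩
  | mul_X p i hp =>
    obtain ⟨N, hp⟩ := hp
    refine ⟨N + 1, fun d hd => ?_⟩
    obtain ⟨a, ha, ea⟩ := hp (d - 1) (by omega)
    have hd1 : d - 1 + 1 = d := by omega
    fin_cases i
    · exact ⟨a * X 0, hd1 ▸ ha.mul (isHomogeneous_X k 0), by rw [map_mul, ea, sub_X0]; rfl⟩
    · exact ⟨a * X 1, hd1 ▸ ha.mul (isHomogeneous_X k 1), by rw [map_mul, ea, sub_X1]; rfl⟩

/-- the lift `k[X, Y] → k[X, Y, T]` -/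
noncomputable def lift2 : MvPolynomial (Fin 2) k →ₐ[k] MvPolynomial (Fin 3) k :=
  MvPolynomial.aeval ![X 0, X 1]

theorem decomp (h : MvPolynomial (Fin 3) k) :
    ∃ q, h = lift2 (sub 0 h) + X 2 * q := by
  induction h using MvPolynomial.induction_on with
  | C a => exact ⟨0, by simp [sub, lift2]⟩
  | add p q hp hq =>
    obtain ⟨a, ha⟩ := hp
    obtain ⟨b, hb⟩ := hq
    exact ⟨a + b, by rw [map_add, map_add, mul_add]; linear_combination ha + hb⟩
  | mul_X p i hp =>
    obtain ⟨a, ha⟩ := hp
    fin_cases i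
    · exact ⟨a * X 0, by
        show p * X 0 = lift2 (sub 0 (p * X 0)) + X 2 * (a * X 0)
        rw [map_mul, map_mul, sub_X0, show lift2 (X 0 : MvPolynomial (Fin 2) k) = X 0 by simp [lift2]]
        linear_combination (X 0) * ha⟩
    · exact ⟨a * X 1, by
        show p * X 1 = lift2 (sub 0 (p * X 1)) + X 2 * (a * X 1)
        rw [map_mul, map_mul, sub_X1, show lift2 (X 1 : MvPolynomial (Fin 2) k) = X 1 by simp [lift2]]
        linear_combination (X 1) * ha⟩
    · exact ⟨p, by
        show p * X 2 = lift2 (sub 0 (p * X 2)) + X 2 * p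
        rw [map_mul, sub_X2, mul_zero, map_zero]; ring⟩

theorem sub0_lift (c : MvPolynomial (Fin 2) k) : sub 0 (lift2 c) = c := by
  have : ((sub 0).comp (lift2 (k := k))) = AlgHom.id k _ := by
    refine MvPolynomial.algHom_ext fun i => ?_
    fin_cases i
    · simp [lift2, sub_X0]
    · simp [lift2, sub_X1]
  exact DFunLike.congr_fun this c

theorem T_regular {f g : MvPolynomial (Fin 3) k} (h0 : IsRelPrime (sub 0 f) (sub 0 g)) (hg0 : sub 0 g ≠ 0)
    {h : MvPolynomial (Fin 3) k} (hmem : X 2 * h ∈ Ideal.span ({f, g} : Set (MvPolynomial (Fin 3) k))) :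
    h ∈ Ideal.span ({f, g} : Set (MvPolynomial (Fin 3) k)) := by
  obtain ⟨a, b, hab⟩ := Ideal.mem_span_pair.1 hmem
  have e0 := congrArg (sub 0) hab
  rw [map_add, map_mul, map_mul, map_mul, sub_X2, zero_mul] at e0
  obtain ⟨c, hc⟩ : sub 0 g ∣ sub 0 a :=
    h0.symm.dvd_of_dvd_mul_right ⟨-sub 0 b, by linear_combination e0⟩
  have hb : sub 0 b = -(c * sub 0 f) := mul_right_cancel₀ hg0 (by linear_combination e0 - sub 0 f * hc)
  obtain ⟨a', ha'⟩ := decomp (a - lift2 c * g)
  obtain ⟨b', hb'⟩ := decomp (b + lift2 c * f)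
  rw [map_sub, map_mul, sub0_lift, hc, show sub 0 g * c - c * sub 0 g = 0 by ring, map_zero, zero_add] at ha'
  rw [map_add, map_mul, sub0_lift, hb, neg_add_cancel, map_zero, zero_add] at hb'
  refine Ideal.mem_span_pair.2 ⟨a', b', mul_left_cancel₀ (X_ne_zero (R := k) (2 : Fin 3)) ?_⟩
  linear_combination hab - f * ha' - g * hb'

end

/-- Let k be a field and f, g nonzero homogeneous polynomials of positive degrees n and m in three
variables X, Y, T without common non-unit factor, and assume that f(X, Y, 0) and g(X, Y, 0) are also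
without common non-unit factor in k[X, Y] (no common point of the two curves lies on the line T =
0). Then the quotient of k[X, Y] by the ideal generated by f(X, Y, 1) and g(X, Y, 1) has dimension
n·m over k. (The published statement is that two plane curves without common component have total
intersection number equal to the product of their degrees; its argument moves a line off the
finitely many common points and then proves exactly this affine count, which is what this row
states, over an arbitrary field.) -/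
theorem result (k : Type u) [Field k] (n m : ℕ)
    (f g : MvPolynomial (Fin 3) k) (hf : f.IsHomogeneous n) (hg : g.IsHomogeneous m)
    (hn : 0 < n) (hm : 0 < m) (hf0 : f ≠ 0) (hg0 : g ≠ 0) (hfg : IsRelPrime f g)
    (hT : IsRelPrime
      (MvPolynomial.aeval (Fin.cons (MvPolynomial.X 0) (Fin.cons (MvPolynomial.X 1)
        (Fin.cons 0 Fin.elim0)) : Fin 3 → MvPolynomial (Fin 2) k) f)
      (MvPolynomial.aeval (Fin.cons (MvPolynomial.X 0) (Fin.cons (MvPolynomial.X 1)
        (Fin.cons 0 Fin.elim0)) : Fin 3 → MvPolynomial (Fin 2) k) g)) :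
    Module.finrank k (MvPolynomial (Fin 2) k ⧸ Ideal.span
      ({MvPolynomial.aeval (Fin.cons (MvPolynomial.X 0) (Fin.cons (MvPolynomial.X 1)
          (Fin.cons 1 Fin.elim0)) : Fin 3 → MvPolynomial (Fin 2) k) f,
        MvPolynomial.aeval (Fin.cons (MvPolynomial.X 0) (Fin.cons (MvPolynomial.X 1)
          (Fin.cons 1 Fin.elim0)) : Fin 3 → MvPolynomial (Fin 2) k) g} :
        Set (MvPolynomial (Fin 2) k))) = n * m := by
  classical
  change Module.finrank k (MvPolynomial (Fin 2) k ⧸ Ideal.span ({sub 1 f, sub 1 g} : Set _)) = n * m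
  change IsRelPrime (sub 0 f) (sub 0 g) at hT
  have hcc : ∀ (p : MvPolynomial (Fin 3) k) (e : ℕ), p.IsHomogeneous e → 0 < e → ¬ IsUnit (sub 0 p) := by
    intro p e hp he hu
    have h1 : constantCoeff (sub 0 p) = constantCoeff p := by
      have : (constantCoeff (σ := Fin 2) (R := k)).comp (sub (k := k) 0).toRingHom = constantCoeff := by
        refine MvPolynomial.ringHom_ext (fun r => by simp [sub]) fun i => ?_
        fin_cases i
        · simp [sub_X0]
        · simp [sub_X1]
        · simp [sub_X2]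
      exact DFunLike.congr_fun this p
    have h2 : constantCoeff p = 0 := by
      rw [constantCoeff_eq]; exact hp.coeff_eq_zero (by simp; omega)
    have := hu.map (constantCoeff (σ := Fin 2) (R := k))
    rw [h1, h2] at this
    exact not_isUnit_zero this
  have hg0' : sub 0 g ≠ 0 := by
    intro e
    rw [e, isRelPrime_zero_right] at hT
    exact hcc f n hf hn hT
  set J : Ideal (MvPolynomial (Fin 3) k) := Ideal.span {f, g} with hJ
  set I : Ideal (MvPolynomial (Fin 2) k) := Ideal.span {sub 1 f, sub 1 g} with hI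
  let ψ : ∀ d : ℕ, homogeneousSubmodule (Fin 3) k d →ₗ[k] MvPolynomial (Fin 2) k ⧸ I := fun d =>
    ((Ideal.Quotient.mkₐ k I).comp (sub 1)).toLinearMap.comp (homogeneousSubmodule (Fin 3) k d).subtype
  have hψ : ∀ (d : ℕ) (x : homogeneousSubmodule (Fin 3) k d), ψ d x = Ideal.Quotient.mk I (sub 1 x.1) :=
    fun d x => rfl
  clear_value ψ
  have hker : ∀ d, LinearMap.ker (ψ d) = Submodule.comap (homogeneousSubmodule (Fin 3) k d).subtype
      (J.restrictScalars k) := by
    intro d
    ext ⟨h, hh⟩
    rw [LinearMap.mem_ker, hψ]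
    show Ideal.Quotient.mk I (sub 1 h) = 0 ↔ h ∈ J
    rw [Ideal.Quotient.eq_zero_iff_mem]
    constructor
    · intro hmem
      obtain ⟨a1, b1, e1⟩ := Ideal.mem_span_pair.1 hmem
      obtain ⟨N, hN⟩ := dehom_surj a1
      obtain ⟨M, hM⟩ := dehom_surj b1
      set e := N + M + n + m + d
      obtain ⟨A, hA, eA⟩ := hN (e - n) (by omega)
      obtain ⟨B, hB, eB⟩ := hM (e - m) (by omega)
      have h1 : (A * f + B * g).IsHomogeneous e :=
        (S10824.isHom_mul hA hf (by omega)).add (S10824.isHom_mul hB hg (by omega))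
      have h2 : (X 2 ^ (e - d) * h).IsHomogeneous e := by
        have := (isHomogeneous_X_pow (R := k) (2 : Fin 3) (e - d)).mul hh
        rwa [Nat.sub_add_cancel (by omega)] at this
      have h3 : X 2 ^ (e - d) * h = A * f + B * g := by
        refine sub_eq_zero.1 (dehom_inj (h2.sub h1) ?_)
        rw [map_sub, map_add, map_mul, map_mul, map_mul, map_pow, sub_X2, one_pow, one_mul, eA, eB, e1, sub_self]
      have h4 : X 2 ^ (e - d) * h ∈ J := by rw [h3]; exact Ideal.mem_span_pair.2 ⟨A, B, rfl⟩
      clear h2 h3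
      generalize e - d = t at h4
      induction t with
      | zero => simpa using h4
      | succ t ih => exact ih (T_regular hT hg0' (by rwa [pow_succ', mul_assoc] at h4))
    · intro hmem
      obtain ⟨a, b, rfl⟩ := Ideal.mem_span_pair.1 hmem
      rw [map_add, map_mul, map_mul]
      exact Ideal.mem_span_pair.2 ⟨_, _, rfl⟩
  have hdim : ∀ d, n + m ≤ d → Module.finrank k (LinearMap.range (ψ d)) = n * m := by
    intro d hd
    rw [← (ψ d).quotKerEquivRange.finrank_eq, hker]
    exact S10824.result k n m d f g hf hg hn hm hf0 hg0 hfg hd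
  have hmono : ∀ d, LinearMap.range (ψ d) ≤ LinearMap.range (ψ (d + 1)) := by
    rintro d _ ⟨⟨h, hh⟩, rfl⟩
    refine ⟨⟨X 2 * h, ?_⟩, ?_⟩
    · have := (isHomogeneous_X k (2 : Fin 3)).mul hh
      rwa [add_comm] at this
    · simp only [hψ, map_mul, sub_X2, one_mul]
  have htop : LinearMap.range (ψ (n + m)) = ⊤ := by
    refine eq_top_iff.2 fun z _ => ?_
    obtain ⟨p, rfl⟩ := Ideal.Quotient.mk_surjective z
    obtain ⟨N, hN⟩ := dehom_surj p
    obtain ⟨h, hh, rfl⟩ := hN (n + m + N) (by omega)
    have : ∀ j, LinearMap.range (ψ (n + m)) = LinearMap.range (ψ (n + m + j)) := by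
      intro j
      induction j with
      | zero => rfl
      | succ j ih =>
        rw [ih]
        refine Submodule.eq_of_le_of_finrank_eq (hmono _) ?_
        rw [hdim _ (by omega), hdim _ (by omega)]
    rw [this N]
    exact ⟨⟨h, hh⟩, hψ _ _⟩
  have := hdim (n + m) le_rfl
  rwa [htop, finrank_top] at this

end Groth.Agent.S10827
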