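import Groth.Statements.S10828
import Mathlib.AlgebraicGeometry.AlgClosed.Basic
import Mathlib.AlgebraicGeometry.Morphisms.Integral
import Mathlib.FieldTheory.Normal.Basic
import Mathlib.FieldTheory.IsAlgClosed.AlgebraicClosure

set_option linter.style.haveILetI false

set_option autoImplicit false
universe u
open CategoryTheory AlgebraicGeometry
open Variety

namespace Groth.Agent.S10828

/-- Two embeddings of an extension of `k` in an algebraic closure are conjugate. -/
theorem exists_conj {k K F : Type u} [Field k] [Field K] [Field F] [Algebra k K] [IsAlgClosure k K]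
    [Algebra k F] (φ ψ : F →ₐ[k] K) : ∃ σ : K ≃ₐ[k] K, ∀ a, σ (φ a) = ψ a := by
  haveI : Algebra.IsAlgebraic k K := IsAlgClosure.isAlgebraic
  haveI : IsAlgClosed K := IsAlgClosure.isAlgClosed k
  haveI : Normal k K := IsAlgClosure.normal k K
  let e := AlgEquiv.ofInjectiveField φ
  let ϕ : φ.fieldRange →ₐ[k] K := ψ.comp e.symm.toAlgHom
  let σ : K →ₐ[k] K := ϕ.liftNormal K
  refine ⟨AlgEquiv.ofBijective σ (Algebra.IsAlgebraic.algHom_bijective σ), fun a => ?_⟩
  show σ (φ a) = ψ a
  exact (ϕ.liftNormal_commutes K (e a)).trans (congrArg ψ (e.symm_apply_apply a))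

/-- Let k be a field, K an algebraic closure of k with its group G of k-automorphisms, and X a k-scheme
locally of finite type. The map sending a K-valued point of X over k to its image point identifies
the closed points of X with the G-orbits in X(K): a point is closed if and only if it is the image
of some K-valued point, and two K-valued points have the same image if and only if one is obtained
from the other by composing with Spec of a k-automorphism of K. -/
theorem result (k K : Type u) [Field k] [Field K]
    [Algebra k K] [IsAlgClosure k K] {X : Scheme.{u}} (f : X ⟶ Spec (CommRingCat.of k))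
    [LocallyOfFiniteType f] :
    (∀ x : X, IsClosed ({x} : Set X) ↔
        ∃ p : Spec (CommRingCat.of K) ⟶ X, p ≫ f = Spec.map (CommRingCat.ofHom (algebraMap k K)) ∧
          p.base (IsLocalRing.closedPoint K) = x) ∧
      ∀ p q : Spec (CommRingCat.of K) ⟶ X,
        p ≫ f = Spec.map (CommRingCat.ofHom (algebraMap k K)) →
        q ≫ f = Spec.map (CommRingCat.ofHom (algebraMap k K)) →
          (p.base (IsLocalRing.closedPoint K) = q.base (IsLocalRing.closedPoint K) ↔
            ∃ σ : K ≃ₐ[k] K, q = Spec.map (CommRingCat.ofHom σ.toRingHom) ≫ p) := by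
  haveI : Algebra.IsAlgebraic k K := IsAlgClosure.isAlgebraic
  haveI : IsAlgClosed K := IsAlgClosure.isAlgClosed k
  let ρ := Spec.map (CommRingCat.ofHom (algebraMap k K))
  have hpt : ∀ (p : Spec (CommRingCat.of K) ⟶ X), p ≫ f = ρ →
      IsClosed ({p.base (IsLocalRing.closedPoint K)} : Set X) := by
    intro p hp
    haveI : IsIntegralHom ρ :=
      IsIntegralHom.SpecMap_iff.mpr (algebraMap_isIntegral_iff.mpr inferInstance)
    let s : Spec (CommRingCat.of K) ⟶ Limits.pullback f ρ := Limits.pullback.lift p (𝟙 _) (by simp [hp, ρ])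
    let c := (pointEquivClosedPoint (Limits.pullback.snd f ρ)) ⟨s, Limits.pullback.lift_snd _ _ _⟩
    have hc : IsClosed ({s (IsLocalRing.closedPoint K)} : Set ↥(Limits.pullback f ρ)) := c.2
    have := (Limits.pullback.fst f ρ).isClosedMap _ hc
    rw [Set.image_singleton, ← Scheme.Hom.comp_apply, Limits.pullback.lift_fst] at this
    exact this
  refine ⟨fun x => ⟨fun hx => ?_, fun ⟨p, hp, hpx⟩ => hpx ▸ hpt p hp⟩, fun p q hp hq => ⟨fun h => ?_, ?_⟩⟩
  · let i := Spec.preimage (X.fromSpecResidueField x ≫ f)
    have hfin : i.hom.Finite := by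
      have : IsFinite (X.fromSpecResidueField x ≫ f) := by
        rw [isClosed_singleton_iff_isClosedImmersion] at hx
        rw [isFinite_iff_locallyOfFiniteType_of_jacobsonSpace]
        infer_instance
      rw [← IsFinite.SpecMap_iff, Spec.map_preimage]
      exact this
    letI := i.hom.toAlgebra
    haveI : Module.Finite k (X.residueField x) := hfin
    let φ : X.residueField x →ₐ[k] K := IsAlgClosed.lift
    refine ⟨Spec.map (CommRingCat.ofHom φ.toRingHom) ≫ X.fromSpecResidueField x, ?_, ?_⟩
    · rw [Category.assoc, ← Spec.map_preimage (X.fromSpecResidueField x ≫ f), ← Spec.map_comp]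
      congr 1
      ext a
      exact φ.commutes a
    · exact X.fromSpecResidueField_apply x _
  · obtain ⟨⟨x, φ⟩, rfl⟩ := (X.SpecToEquivOfField K).symm.surjective p
    obtain ⟨⟨y, ψ⟩, rfl⟩ := (X.SpecToEquivOfField K).symm.surjective q
    simp only [Scheme.SpecToEquivOfField_symm_apply, Scheme.Hom.comp_apply,
      Scheme.fromSpecResidueField_apply] at h hp hq ⊢
    obtain rfl : x = y := h
    let i := Spec.preimage (X.fromSpecResidueField x ≫ f)
    letI := i.hom.toAlgebra
    have hi : ∀ χ : X.residueField x ⟶ CommRingCat.of K, (Spec.map χ ≫ X.fromSpecResidueField x) ≫ f = ρ →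
        ∀ a, χ.hom (i.hom a) = algebraMap k K a := fun χ hχ a => by
      rw [Category.assoc, ← Spec.map_preimage (X.fromSpecResidueField x ≫ f), ← Spec.map_comp] at hχ
      exact congrArg (fun r => r.hom a) (Spec.map_injective hχ)
    obtain ⟨σ, hσ⟩ := exists_conj
      (⟨φ.hom, hi φ hp⟩ : X.residueField x →ₐ[k] K) (⟨ψ.hom, hi ψ hq⟩ : X.residueField x →ₐ[k] K)
    refine ⟨σ, ?_⟩
    rw [← Category.assoc, ← Spec.map_comp]
    congr 2
    ext a
    exact (hσ a).symm
  · rintro ⟨σ, rfl⟩
    exact congrArg p.base (Subsingleton.elim _ _)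

end Groth.Agent.S10828
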