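import Groth.Statements.S10832
import Groth.Agent.TopDimLib.Basic
import Mathlib.AlgebraicGeometry.Artinian
import Mathlib.RingTheory.Jacobson.Artinian
-- import your own Groth.Agent.* helpers here

set_option autoImplicit false
universe u
open CategoryTheory AlgebraicGeometry Topology
open Variety

namespace Groth.Agent.S10832

/-- On a discrete scheme global functions are families of germs. -/
lemma bijective_germs (X : Scheme.{u}) [DiscreteTopology X] :
    Function.Bijective (fun s : Γ(X, ⊤) => fun x : X => X.presheaf.germ ⊤ x trivial s) := by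
  refine ⟨fun s t h ↦ TopCat.Presheaf.section_ext X.sheaf ⊤ s t fun x _ ↦ congrFun h x, fun v ↦ ?_⟩
  have hrep : ∀ x : X, ∃ s : Γ(X, (⟨{x}, isOpen_discrete _⟩ : X.Opens)),
      X.presheaf.germ _ x (Set.mem_singleton x) s = v x := by
    intro x
    obtain ⟨W, hxW, s, hs⟩ := X.presheaf.germ_exist (x := x) (v x)
    refine ⟨X.presheaf.map (homOfLE (show (⟨{x}, isOpen_discrete _⟩ : X.Opens) ≤ W from
      Set.singleton_subset_iff.mpr hxW)).op s, ?_⟩
    rw [TopCat.Presheaf.germ_res_apply]
    exact hs
  choose sf hsf using hrep
  have hcompat : TopCat.Presheaf.IsCompatible X.sheaf.1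
      (fun x : X ↦ (⟨{x}, isOpen_discrete _⟩ : X.Opens)) sf := by
    intro x y
    rcases eq_or_ne x y with rfl | hne
    · rfl
    · refine TopCat.Presheaf.section_ext X.sheaf _ _ _ fun z hz ↦ ?_
      exact absurd (hz.1.symm.trans hz.2) hne
  obtain ⟨s, hs, -⟩ := X.sheaf.existsUnique_gluing' _ ⊤ (fun x ↦ homOfLE le_top)
    (fun x _ ↦ TopologicalSpace.Opens.mem_iSup.mpr ⟨x, rfl⟩) sf hcompat
  refine ⟨s, funext fun x ↦ ?_⟩
  rw [← hsf x, ← hs x]
  exact (TopCat.Presheaf.germ_res_apply X.presheaf _ x _ s).symm

/-- For a nonempty scheme X of finite type over a field k the following are equivalent: X has Krull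
dimension 0; X is affine with ring of global sections finite over k and equal to the product of all
its local rings via the germ maps; the underlying space of X is discrete; the underlying space of X
is finite. -/
theorem result (k : Type u) [Field k] {X : Scheme.{u}} [Nonempty X]
    (f : X ⟶ Spec (CommRingCat.of k)) [LocallyOfFiniteType f] [QuasiCompact f] :
    [topologicalKrullDim ↥X = 0,
      IsAffine X ∧ f.appTop.hom.Finite ∧
        Function.Bijective (fun s : Γ(X, ⊤) => fun x : X => X.presheaf.germ ⊤ x trivial s),
      DiscreteTopology ↥X,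
      Finite ↥X].TFAE := by
  have : IsLocallyNoetherian X := LocallyOfFiniteType.isLocallyNoetherian f
  have : CompactSpace X := QuasiCompact.compactSpace_of_compactSpace f
  have : IsNoetherian X := { }
  tfae_have 1 → 4 := fun h ↦
    (Groth.Agent.TopDimLib.finite_and_discrete_of_topDim_le_zero h.le).1
  tfae_have 4 → 3 := fun h ↦ by
    have : JacobsonSpace X := LocallyOfFiniteType.jacobsonSpace f
    infer_instance
  tfae_have 3 → 2 := fun h ↦ by
    have : Finite X := finite_of_compact_of_discrete
    have : IsAffine X := inferInstance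
    refine ⟨this, ?_, bijective_germs X⟩
    have := IsLocallyArtinian.of_isLocallyNoetherian_of_discreteTopology (X := X)
    have : IsArtinianRing Γ(X, ⊤) := inferInstance
    let _ := ((Scheme.ΓSpecIso (CommRingCat.of k)).commRingCatIsoToRingEquiv.toMulEquiv.isField
      (Field.toIsField k)).toField
    algebraize [f.appTop.hom]
    have hft : f.appTop.hom.FiniteType := HasRingHomProperty.appTop @LocallyOfFiniteType f ‹_›
    have : Algebra.FiniteType Γ(Spec (CommRingCat.of k), ⊤) Γ(X, ⊤) := hft
    exact RingHom.finite_algebraMap.mpr ((Module.finite_iff_isArtinianRing _ _).mpr inferInstance)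
  tfae_have 2 → 1 := fun ⟨_, hfin, _⟩ ↦ by
    let _ := ((Scheme.ΓSpecIso (CommRingCat.of k)).commRingCatIsoToRingEquiv.toMulEquiv.isField
      (Field.toIsField k)).toField
    algebraize [f.appTop.hom]
    have : Module.Finite Γ(Spec (CommRingCat.of k), ⊤) Γ(X, ⊤) := RingHom.finite_algebraMap.mp hfin
    have : IsArtinianRing Γ(X, ⊤) := IsArtinianRing.of_finite Γ(Spec (CommRingCat.of k), ⊤) _
    have : DiscreteTopology X := by
      have : DiscreteTopology (Spec Γ(X, ⊤)) := inferInstanceAs (DiscreteTopology (PrimeSpectrum _))
      exact X.isoSpec.hom.homeomorph.symm.discreteTopology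
    exact le_antisymm (topologicalKrullDim_zero_of_discreteTopology X)
      Groth.Agent.TopDimLib.topDim_nonneg_of_nonempty
  tfae_finish

end Groth.Agent.S10832
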