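import Groth.Statements.S10833
import Groth.Agent.VarDim.Algebra

set_option autoImplicit false
universe u
open Variety

namespace Groth.Agent.S10833

/-- Let k be a field and A a k-algebra of finite type that is an integral domain. Then every chain of
prime ideals of A admitting no refinement — it starts at the zero ideal, ends at a maximal ideal,
and no prime ideal lies strictly between two consecutive members — has length equal to the Krull
dimension of A. -/
theorem result (k A : Type u) [Field k] [CommRing A]
    [IsDomain A] [Algebra k A] [Algebra.FiniteType k A] (c : LTSeries (PrimeSpectrum A))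
    (h0 : c.head.asIdeal = ⊥) (hmax : c.last.asIdeal.IsMaximal)
    (hsat : ∀ i : Fin c.length, c i.castSucc ⋖ c i.succ) :
    (c.length : WithBot ℕ∞) = ringKrullDim A := by
  obtain ⟨n, hn1, hn2, -⟩ := VarDim.exists_ringKrullDim_eq_trdeg k A
  rw [hn1]
  have key : ∀ i : Fin (c.length + 1),
      Algebra.trdeg k (A ⧸ (c i).asIdeal) + (i : ℕ) = Algebra.trdeg k A := by
    intro i
    induction i using Fin.induction with
    | zero =>
      simpa [show (c 0).asIdeal = ⊥ from h0] using
        ((Ideal.quotientEquivAlgOfEq k (show (c 0).asIdeal = ⊥ from h0)).trans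
          (AlgEquiv.quotientBot k A)).trdeg_eq
    | succ i ih =>
      rw [← ih, ← VarDim.trdeg_quotient_of_covBy k A (hsat i)]
      simp only [Fin.val_succ, Fin.val_castSucc, Nat.cast_succ]
      ring
  have hl := key (Fin.last c.length)
  haveI := hmax
  haveI : Algebra.FiniteType k (A ⧸ c.last.asIdeal) := VarDim.finiteType_quotient k A _
  obtain ⟨d, hd1, hd2, -⟩ := VarDim.exists_ringKrullDim_eq_trdeg k (A ⧸ c.last.asIdeal)
  have hd0 : d = 0 := by
    rw [ringKrullDim_eq_zero_of_isField ((Ideal.Quotient.maximal_ideal_iff_isField_quotient _).mp hmax)] at hd1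
    exact_mod_cast hd1.symm
  change Algebra.trdeg k (A ⧸ c.last.asIdeal) + _ = _ at hl
  rw [hd2, hn2, hd0, Fin.val_last] at hl
  simp only [Nat.cast_zero, zero_add, Nat.cast_inj] at hl
  rw [hl]

end Groth.Agent.S10833
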