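import Groth.Statements.S10834
import Groth.Agent.CAlgA.NormalRegular
import Mathlib.RingTheory.LocalProperties.IntegrallyClosed

set_option autoImplicit false
universe u
open CAlg

namespace Groth.Agent.S10834

/-- Let A be a Noetherian ring whose localizations at all prime ideals are regular local rings, and f an
element of A generating a prime ideal, so that A/(f) is an integral domain (an integral hypersurface
in the regular affine scheme Spec A). Then A/(f) is normal (integrally closed in its fraction field)
if and only if it is regular in codimension 1, i.e. its localization at every prime at which the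
local ring has dimension 1 is a regular local ring. -/
theorem result (A : Type u) [CommRing A]
    [IsNoetherianRing A] (hreg : ∀ (p : Ideal A) (_ : p.IsPrime), IsRegularLocalRing (Localization.AtPrime p))
    (f : A) (hf : (Ideal.span ({f} : Set A)).IsPrime) :
    IsIntegrallyClosed (A ⧸ Ideal.span ({f} : Set A)) ↔
      ∀ q : PrimeSpectrum (A ⧸ Ideal.span ({f} : Set A)),
        ringKrullDim (Localization.AtPrime q.asIdeal) = 1 →
          IsRegularLocalRing (Localization.AtPrime q.asIdeal) := by
  have : IsDomain (A ⧸ Ideal.span ({f} : Set A)) := Ideal.Quotient.isDomain _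
  constructor
  · intro h q hq
    refine ((Groth.Agent.RegLoc.Serre.serre_criterion (R := A ⧸ Ideal.span ({f} : Set A))).1 fun p _ => ⟨inferInstance, ?_⟩).1 q.asIdeal ?_
    · exact isIntegrallyClosed_of_isLocalization (Localization.AtPrime p) p.primeCompl p.primeCompl_le_nonZeroDivisors
    · rw [IsLocalization.AtPrime.ringKrullDim_eq_height q.asIdeal] at hq
      exact (WithBot.coe_inj.1 hq).le
  · intro h
    refine CAlgA.NormalRegular.isIntegrallyClosed_of_conditions ?_
      (CAlgA.NormalRegular.hasSk_two fun q _ => CAlgA.NormalRegular.isCohenMacaulay_quotient_localization f q fun p _ => hreg p ‹_›)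
    intro q _ hq
    rcases eq_or_ne q.height 0 with h0 | h0
    · obtain rfl : q = ⊥ := by
        rw [Ideal.height_eq_zero_iff, IsDomain.minimalPrimes_eq_singleton_bot] at h0
        simpa using h0
      have hf : IsField (Localization.AtPrime (⊥ : Ideal (A ⧸ Ideal.span ({f} : Set A)))) := by
        rw [IsLocalRing.isField_iff_maximalIdeal_eq, ← Localization.AtPrime.map_eq_maximalIdeal, Ideal.map_bot]
      let := hf.toField
      infer_instance
    · refine h ⟨q, ‹_›⟩ ?_
      rw [IsLocalization.AtPrime.ringKrullDim_eq_height q]
      exact_mod_cast le_antisymm hq (Order.one_le_iff_ne_zero.2 h0)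

end Groth.Agent.S10834
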