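import Groth.Statements.S10835
import Mathlib
import Groth.Agent.SpreadOutFP.Iso
import Groth.Agent.GeomLoc.SmoothRegular
-- import your own Groth.Agent.* helpers here

set_option autoImplicit false
universe u
open CategoryTheory AlgebraicGeometry
attribute [local instance] Curv2.stalkAlgebra
open Variety

namespace Groth.Agent.S10835

open Polynomial IsLocalRing

/-- The hypersurface model of a separably generated field. -/
lemma exists_model (k K : Type u) [Field k] [Field K] [Algebra k K] [Algebra.EssFiniteType k K]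
    (d : ℕ) (s : Fin d → K) (hs : IsTranscendenceBasis k s)
    (hsep : Algebra.IsSeparable ↥(IntermediateField.adjoin k (Set.range s)) K) :
    ∃ (g : Polynomial (MvPolynomial (Fin d) k)), g.Monic ∧
      Irreducible (g.map (algebraMap (MvPolynomial (Fin d) k) (FractionRing (MvPolynomial (Fin d) k)))) ∧
      (g.map (algebraMap (MvPolynomial (Fin d) k) (FractionRing (MvPolynomial (Fin d) k)))).Separable ∧
      ∃ i : AdjoinRoot g →ₐ[k] K, Function.Injective i ∧
        ∀ w : K, ∃ a b : AdjoinRoot g, i b ≠ 0 ∧ w = i a / i b := by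
  let R := MvPolynomial (Fin d) k
  let F := FractionRing R
  have hinj : Function.Injective (MvPolynomial.aeval (R := k) s) :=
    algebraicIndependent_iff_injective_aeval.mp hs.1
  let _ : Algebra R K := (MvPolynomial.aeval (R := k) s).toRingHom.toAlgebra
  have : FaithfulSMul R K := (faithfulSMul_iff_algebraMap_injective R K).mpr hinj
  let _ : Algebra F K := FractionRing.liftAlgebra R K
  have : IsScalarTower k R K := .of_algHom _
  have : IsScalarTower k F K := .of_algebraMap_eq fun r => by
    rw [IsScalarTower.algebraMap_apply k R F, ← IsScalarTower.algebraMap_apply R F K,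
      ← IsScalarTower.algebraMap_apply k R K]
  have : Algebra.IsSeparable F K := by
    refine Algebra.IsSeparable.of_equiv_equiv hs.1.aevalEquivField.symm.toRingEquiv (RingEquiv.refl K) ?_
    refine RingHom.ext fun x => ?_
    obtain ⟨y, rfl⟩ := hs.1.aevalEquivField.surjective x
    simp only [RingHom.coe_comp, RingHom.coe_coe, Function.comp_apply, AlgEquiv.coe_ringEquiv,
      AlgEquiv.symm_apply_apply, RingEquiv.refl_apply]
    show algebraMap F K y = (hs.1.aevalEquivField y : K)
    rw [AlgebraicIndependent.aevalEquivField_apply_coe]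
    rfl
  have : Algebra.EssFiniteType F K := Algebra.EssFiniteType.of_comp k F K
  have : FiniteDimensional F K := Algebra.finite_of_essFiniteType_of_isAlgebraic
  obtain ⟨θ, hθ⟩ := Field.exists_primitive_element F K
  obtain ⟨c, hc0, hc⟩ := IsAlgebraic.exists_integral_multiple
    ((IsFractionRing.isAlgebraic_iff R F K).mpr (Algebra.IsAlgebraic.isAlgebraic (R := F) θ))
  let z := c • θ
  have hz : IntermediateField.adjoin F {z} = ⊤ := by
    rw [← top_le_iff, ← hθ, IntermediateField.adjoin_simple_le_iff]
    have h1 : θ = (algebraMap R F c)⁻¹ • z := by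
      rw [show z = algebraMap R F c • θ from (algebraMap_smul F c θ).symm, inv_smul_smul₀]
      exact fun h => hc0 ((map_eq_zero_iff _ (IsFractionRing.injective R F)).mp h)
    rw [h1]
    exact IntermediateField.smul_mem _ (IntermediateField.mem_adjoin_simple_self F z)
  let g := minpoly R z
  have hg : g.map (algebraMap R F) = minpoly F z := (minpoly.isIntegrallyClosed_eq_field_fractions' F hc).symm
  refine ⟨g, minpoly.monic hc, hg ▸ minpoly.irreducible (IsIntegral.of_finite F z),
    hg ▸ Algebra.IsSeparable.isSeparable F z, ?_⟩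
  let i : AdjoinRoot g →ₐ[R] K := AdjoinRoot.liftAlgHom g (Algebra.ofId R K) z (minpoly.aeval R z)
  have himk : ∀ p : Polynomial R, i (AdjoinRoot.mk g p) = Polynomial.aeval z p := fun p => by
    simp [i, Polynomial.aeval_def, Algebra.ofId]
  have hi : Function.Injective i := by
    rw [injective_iff_map_eq_zero]
    intro a ha
    obtain ⟨p, rfl⟩ := AdjoinRoot.mk_surjective a
    rw [AdjoinRoot.mk_eq_zero]
    exact (minpoly.isIntegrallyClosed_dvd_iff hc p).mp ((himk p).symm.trans ha)
  refine ⟨i.restrictScalars k, hi, fun w => ?_⟩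
  have : IsDomain (AdjoinRoot g) := hi.isDomain i.toRingHom
  let φ : FractionRing (AdjoinRoot g) →+* K := IsFractionRing.lift (g := i.toRingHom) hi
  have hφ : ∀ r : R, algebraMap F K (algebraMap R F r) = φ (algebraMap _ _ (algebraMap R (AdjoinRoot g) r)) := fun r => by
    rw [IsFractionRing.lift_algebraMap, ← IsScalarTower.algebraMap_apply]
    exact (i.commutes r).symm
  have hF : ∀ x : F, algebraMap F K x ∈ φ.fieldRange := fun x => by
    obtain ⟨a, b, hb, rfl⟩ := IsFractionRing.div_surjective (A := R) x
    rw [map_div₀]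
    exact div_mem ⟨_, (hφ a).symm⟩ ⟨_, (hφ b).symm⟩
  let L : IntermediateField F K :=
    { φ.fieldRange with algebraMap_mem' := hF, inv_mem' := fun x hx => inv_mem (S := Subfield K) (s := φ.fieldRange) hx }
  have hL : IntermediateField.adjoin F {z} ≤ L := by
    rw [IntermediateField.adjoin_simple_le_iff]
    refine ⟨algebraMap _ _ (AdjoinRoot.root g), ?_⟩
    rw [IsFractionRing.lift_algebraMap]
    show i (AdjoinRoot.mk g X) = z
    rw [himk, Polynomial.aeval_X]
  obtain ⟨q, hq⟩ : w ∈ φ.fieldRange := hL (hz ▸ IntermediateField.mem_top)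
  obtain ⟨a, b, hb, rfl⟩ := IsFractionRing.div_surjective (A := AdjoinRoot g) q
  refine ⟨a, b, fun h => nonZeroDivisors.ne_zero hb (hi ((h : i b = 0).trans (map_zero i).symm)), ?_⟩
  rw [← hq, map_div₀, IsFractionRing.lift_algebraMap, IsFractionRing.lift_algebraMap]
  rfl

/-- Equal function fields give isomorphic nonempty opens. -/
lemma exists_iso {k : Type u} [Field k] (X : Scheme.{u}) [X.Over (Spec (CommRingCat.of k))]
    [IsIntegral X] [LocallyOfFiniteType (X ↘ Spec (CommRingCat.of k))]
    (B : CommRingCat.{u}) [IsDomain B] (b₀ : CommRingCat.of k ⟶ B) (hb₀ : b₀.hom.FiniteType)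
    (i : B →+* X.functionField) (hi : Function.Injective i)
    (hfrac : ∀ w : X.functionField, ∃ a b : B, i b ≠ 0 ∧ w = i a / i b)
    (hk : ∀ r, i (b₀.hom r) = Curv2.stalkMap k X (genericPoint X) r) :
    ∃ (U : X.Opens) (V : (Spec B).Opens) (e : (U : Scheme.{u}) ≅ (V : Scheme.{u})),
      (U : Set X).Nonempty ∧ (V : Set (Spec B)).Nonempty ∧
        e.hom ≫ V.ι ≫ Spec.map b₀ = U.ι ≫ (X ↘ Spec (CommRingCat.of k)) := by
  set f := X ↘ Spec (CommRingCat.of k)
  let sY : Spec B ⟶ Spec (CommRingCat.of k) := Spec.map b₀
  let y := genericPoint (Spec B)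
  let ψ : (Spec B).presheaf.stalk y →+* X.functionField :=
    IsFractionRing.lift (A := B) (K := (Spec B).functionField) hi
  have hψ : ∀ b : B, ψ (algebraMap B (Spec B).functionField b) = i b := fun b =>
    IsFractionRing.lift_algebraMap hi b
  have hψb : Function.Bijective ψ := by
    refine ⟨RingHom.injective (R := (Spec B).functionField) ψ, fun w => ?_⟩
    obtain ⟨a, b, hb, rfl⟩ := hfrac w
    refine ⟨(algebraMap B (Spec B).functionField a) / algebraMap B (Spec B).functionField b, ?_⟩
    exact (map_div₀ (IsFractionRing.lift (A := B) (K := (Spec B).functionField) hi) _ _).trans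
      (congrArg₂ (· / ·) (hψ a) (hψ b))
  let α : (Spec B).presheaf.stalk y ≅ X.presheaf.stalk (genericPoint X) :=
    (RingEquiv.ofBijective ψ hψb).toCommRingCatIso
  have : LocallyOfFiniteType sY := by
    rw [HasRingHomProperty.Spec_iff (P := @LocallyOfFiniteType)]
    exact hb₀
  haveI := GeomLoc.locallyOfFinitePresentation (k := k) (X := X)
  have : LocallyOfFinitePresentation sY := LocallyOfFinitePresentation.iff_locallyOfFiniteType.mpr ‹_›
  have h1 : Spec.map α.hom ≫ (Spec B).fromSpecStalk y = Spec.map (CommRingCat.ofHom i) := by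
    rw [Spec.fromSpecStalk_eq']
    refine (Spec.map_comp _ _).symm.trans ?_
    refine congrArg Spec.map (CommRingCat.hom_ext (RingHom.ext fun b => ?_))
    exact hψ b
  have h2 : X.fromSpecStalk (genericPoint X) ≫ f = Spec.map (CommRingCat.ofHom (Curv2.stalkMap k X (genericPoint X))) := by
    have hf : f = X.toSpecΓ ≫ Spec.map ((Scheme.ΓSpecIso (CommRingCat.of k)).inv ≫ f.appTop) := by
      rw [Spec.map_comp, ← Scheme.toSpecΓ_naturality_assoc, ← SpecMap_ΓSpecIso_hom, ← Spec.map_comp,
        Iso.inv_hom_id, Spec.map_id, Category.comp_id]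
    conv_lhs => rw [hf]
    rw [Scheme.fromSpecStalk_toSpecΓ_assoc, ← Spec.map_comp]
    rfl
  have h3 : (Spec.map α.hom ≫ (Spec B).fromSpecStalk y) ≫ sY = X.fromSpecStalk (genericPoint X) ≫ f := by
    rw [h1, h2, ← Spec.map_comp]
    refine congrArg Spec.map (CommRingCat.hom_ext (RingHom.ext fun r => ?_))
    exact hk r
  obtain ⟨U, hxU, F, hF, hF'⟩ := SpreadOutFP.spread_out' f sY (Spec.map α.hom ≫ (Spec B).fromSpecStalk y) h3
  have h4 : (Spec.map α.inv ≫ X.fromSpecStalk (genericPoint X)) ≫ f = (Spec B).fromSpecStalk y ≫ sY := by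
    rw [Category.assoc, ← h3, Category.assoc, ← Spec.map_comp_assoc, α.hom_inv_id, Spec.map_id,
      Category.id_comp]
  obtain ⟨V, hyV, G, hG, hG'⟩ := SpreadOutFP.spread_out' sY f (Spec.map α.inv ≫ X.fromSpecStalk (genericPoint X)) h4
  obtain ⟨U', V', hxU', hyV', -, -, e, -, he⟩ :=
    SpreadOutFP.exists_iso_of_spread f sY α hxU F hF' hF.symm hyV G hG' hG.symm
  exact ⟨U', V', e, ⟨(genericPoint X), hxU'⟩, ⟨y, hyV'⟩, he⟩

/-- Let k be a field and X an integral scheme of finite type over k whose function field admits a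
transcendence basis s_1, …, s_d over k over which it is separable algebraic (this holds whenever the
function field is a separable extension of k in the sense of field theory, e.g. for k perfect, and
then d = dim X). Then some nonempty open subscheme of X is isomorphic, over k, to a nonempty open
subscheme of Spec k[T_1, …, T_d][T]/(g) for a monic polynomial g over k[T_1, …, T_d] which is
irreducible and separable over the fraction field k(T_1, …, T_d). -/
theorem result (k : Type u) [Field k]
    (X : Scheme.{u}) [X.Over (Spec (CommRingCat.of k))] [IsIntegral X]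
    [LocallyOfFiniteType (X ↘ Spec (CommRingCat.of k))] [QuasiCompact (X ↘ Spec (CommRingCat.of k))]
    (d : ℕ) (s : Fin d → X.presheaf.stalk (genericPoint X)) (hs : IsTranscendenceBasis k s)
    (hsep : Algebra.IsSeparable ↥(IntermediateField.adjoin k (Set.range s)) (X.presheaf.stalk (genericPoint X))) :
    ∃ (g : Polynomial (MvPolynomial (Fin d) k)), g.Monic ∧
      Irreducible (g.map (algebraMap (MvPolynomial (Fin d) k) (FractionRing (MvPolynomial (Fin d) k)))) ∧
      (g.map (algebraMap (MvPolynomial (Fin d) k) (FractionRing (MvPolynomial (Fin d) k)))).Separable ∧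
      ∃ (U : X.Opens) (V : (Spec (CommRingCat.of (AdjoinRoot g))).Opens) (e : (U : Scheme.{u}) ≅ (V : Scheme.{u})),
        (U : Set X).Nonempty ∧ (V : Set (Spec (CommRingCat.of (AdjoinRoot g)))).Nonempty ∧
        e.hom ≫ V.ι ≫ Spec.map (CommRingCat.ofHom (algebraMap k (AdjoinRoot g))) =
          U.ι ≫ (X ↘ Spec (CommRingCat.of k)) := by
  set f := X ↘ Spec (CommRingCat.of k)
  have : Algebra.EssFiniteType k (X.presheaf.stalk (genericPoint X)) := by
    obtain ⟨A, _, _, j, p, e, hjo, hjp, hj, he⟩ := GeomLoc.exists_chart k X (genericPoint X)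
    have := GeomLoc.finiteType_of_chart j hj
    have : Algebra.EssFiniteType A (Localization.AtPrime p.asIdeal) :=
      Algebra.EssFiniteType.of_isLocalization _ p.asIdeal.primeCompl
    have : Algebra.EssFiniteType k (Localization.AtPrime p.asIdeal) := .comp k A _
    exact (Algebra.EssFiniteType.iff_of_algEquiv (AlgEquiv.ofRingEquiv (f := e.symm) fun r => by
      rw [← he r, RingEquiv.symm_apply_apply]; rfl)).mp inferInstance
  obtain ⟨g, hgm, hgi, hgs, i, hi, hfrac⟩ := exists_model k (X.presheaf.stalk (genericPoint X)) d s hs hsep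
  refine ⟨g, hgm, hgi, hgs, ?_⟩
  have : IsDomain (AdjoinRoot g) := hi.isDomain i.toRingHom
  have : Algebra.FiniteType k (AdjoinRoot g) := inferInstance
  exact exists_iso X (CommRingCat.of (AdjoinRoot g)) (CommRingCat.ofHom (algebraMap k (AdjoinRoot g)))
    (RingHom.finiteType_algebraMap.mpr inferInstance) i.toRingHom hi hfrac fun r => i.commutes r

end Groth.Agent.S10835
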