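import Groth.Statements.S10836
import Mathlib.RingTheory.LocalRing.Module
import Mathlib.RingTheory.Localization.Free
import Mathlib.RingTheory.Spectrum.Prime.FreeLocus

set_option autoImplicit false
universe u
open Coh

namespace Groth.Agent.S10836

/-- Let A be a commutative ring, M a finitely generated projective A-module whose rank at every prime is
r, and Z a finite set of prime ideals of A. Then there is an element s of A outside every prime of Z
such that the localized module M_s has a basis of r elements over A_s. (The published statement is
for a finite locally free module of constant rank r on a scheme and a finite set of points inside an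
affine open Spec A, and produces a basic open D(s) containing the points on which the module is free
of rank r; its argument begins by replacing the scheme with Spec A, and this row states that case.) -/
theorem result (A : Type u) [CommRing A]
    (M : Type u) [AddCommGroup M] [Module A M] [Module.Finite A M] [Module.Projective A M] (r : ℕ)
    (hr : ∀ p : PrimeSpectrum A, Module.rankAtStalk M p = r)
    (Z : Set (PrimeSpectrum A)) (hZ : Z.Finite) :
    ∃ s : A, (∀ p ∈ Z, s ∉ p.asIdeal) ∧
      Nonempty (Module.Basis (Fin r) (Localization.Away s) (LocalizedModule (Submonoid.powers s) M)) := by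
  classical
  let S : Submonoid A := ⨅ p ∈ Z, p.asIdeal.primeCompl
  have hS : ∀ a : A, a ∈ S ↔ ∀ p ∈ Z, a ∉ p.asIdeal := fun a => by
    simp [S, Submonoid.mem_iInf, Ideal.primeCompl]
  let As := Localization S
  let Ms := LocalizedModule S M
  haveI : Module.Flat As Ms := Module.Flat.of_isLocalizedModule As S (LocalizedModule.mkLinearMap S M)
  haveI : Module.Finite As Ms := Module.Finite.of_isLocalizedModule S (Rₚ := As) (LocalizedModule.mkLinearMap S M)
  haveI : Finite (MaximalSpectrum As) := by
    have hsub : ∀ P : MaximalSpectrum As, ∃ p : Z, P.asIdeal.comap (algebraMap A As) ≤ p.1.asIdeal := by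
      intro P
      have h0 : ((P.asIdeal.comap (algebraMap A As) : Ideal A) : Set A) ⊆ ⋃ p ∈ Z, (p.asIdeal : Set A) := by
        intro a ha
        by_contra hne
        simp only [Set.mem_iUnion, SetLike.mem_coe, not_exists] at hne
        exact P.isMaximal.ne_top (Ideal.eq_top_of_isUnit_mem _ ha
          (IsLocalization.map_units As (⟨a, (hS a).2 hne⟩ : S)))
      rcases Z.eq_empty_or_nonempty with hZe | ⟨p₀, hp₀⟩
      · subst hZe
        have := h0 ((P.asIdeal.comap (algebraMap A As)).zero_mem)
        simp at this
      obtain ⟨p, hp, hle⟩ := (Ideal.subset_union_prime_finite hZ p₀ p₀ fun i _ _ _ => i.2).1 h0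
      exact ⟨⟨p, hp⟩, hle⟩
    choose g hg using hsub
    haveI := hZ.to_subtype
    refine Finite.of_injective g fun P Q hPQ => MaximalSpectrum.ext ?_
    have hmax : ∀ P : MaximalSpectrum As, P.asIdeal = (g P).1.asIdeal.map (algebraMap A As) := by
      intro P
      refine P.isMaximal.eq_of_le ?_ ?_
      · intro htop
        obtain ⟨x, hx, hxS⟩ : ∃ x ∈ (g P).1.asIdeal, x ∈ S := by
          have : ¬ Disjoint (S : Set A) ((g P).1.asIdeal : Set A) := fun hd =>
            (IsLocalization.map_algebraMap_ne_top_iff_disjoint S As (g P).1.asIdeal).2 hd htop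
          obtain ⟨x, h1, h2⟩ := Set.not_disjoint_iff.1 this
          exact ⟨x, h2, h1⟩
        exact (hS x).1 hxS _ (g P).2 hx
      · calc P.asIdeal = (P.asIdeal.comap (algebraMap A As)).map (algebraMap A As) :=
              (IsLocalization.map_comap S As P.asIdeal).symm
          _ ≤ _ := Ideal.map_mono (hg P)
    rw [hmax P, hmax Q, hPQ]
  obtain ⟨b⟩ := Module.nonempty_basis_of_flat_of_finrank_eq As Ms r fun P => by
    letI := Ideal.Quotient.field P.1
    have h1 := Module.rankAtStalk_eq_finrank_of_free (R := As ⧸ P.1) (M := TensorProduct As (As ⧸ P.1) Ms)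
    have h2 := congrFun h1 ⟨⊥, Ideal.isPrime_bot⟩
    rw [Module.rankAtStalk_baseChange, Module.rankAtStalk_isBaseChange
      (IsLocalizedModule.isBaseChange S As (LocalizedModule.mkLinearMap S M)), hr] at h2
    exact h2.symm
  haveI : Module.FinitePresentation A M := Module.finitePresentation_of_projective A M
  obtain ⟨s, hs, b', -⟩ := Module.FinitePresentation.exists_basis_localizedModule_powers S
    (LocalizedModule.mkLinearMap S M) As b
  exact ⟨s, (hS s).1 hs, ⟨b'⟩⟩

end Groth.Agent.S10836
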