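import Groth.Statements.S10838
import Groth.Agent.DimLift.Basic
import Groth.Agent.S10837
import Mathlib.AlgebraicGeometry.Properties
-- import your own Groth.Agent.* helpers here

set_option autoImplicit false
universe u
open CategoryTheory AlgebraicGeometry Topology
open Mor

namespace Groth.Agent.S10838

/-- For a morphism of schemes f : X → Y which is open as a map of topological spaces, the Krull
dimension of the image f(X) (with the subspace topology from Y) is at most the Krull dimension of X. -/
theorem result {X Y : Scheme.{u}} (f : X ⟶ Y) (hf : IsOpenMap f.base) :
    topologicalKrullDim ↥(Set.range f.base) ≤ topologicalKrullDim ↥X := by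
  have hopen : IsOpen (Set.range f.base) := hf.isOpen_range
  haveI : QuasiSober ↥(Set.range f.base) := hopen.isOpenEmbedding_subtypeVal.quasiSober
  refine Groth.Agent.DimLift.topDim_le_of_generalizingMap (f := Set.rangeFactorization f.base)
    Set.rangeFactorization_surjective ?_
  intro x y hy
  obtain ⟨x', h1, h2⟩ := Groth.Agent.S10837.result f hf (hy.map continuous_subtype_val)
  exact ⟨x', h1, Subtype.ext h2⟩

end Groth.Agent.S10838
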