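import Groth.Statements.S10840
import Groth.Agent.ProjDim.Hyper


set_option autoImplicit false
universe u
open AlgebraicGeometry Topology
open Variety

namespace Groth.Agent.S10840

/-- For a field k and nonzero homogeneous polynomials f, g of positive degrees in three variables, the
common zero set V_+(f, g) in the projective plane over k is zero-dimensional as a topological
subspace exactly when f and g are coprime, i.e. their only common divisors are the non-zero
constants. -/
theorem result (k : Type u) [Field k] (n m : ℕ)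
    (f g : MvPolynomial (Fin 3) k) (hf : f.IsHomogeneous n) (hg : g.IsHomogeneous m)
    (hn : 0 < n) (hm : 0 < m) (hf0 : f ≠ 0) (hg0 : g ≠ 0) :
    topologicalKrullDim ↥(ProjectiveSpectrum.zeroLocus (CohB1.polyGrading 2 k)
        ({f, g} : Set (MvPolynomial (Fin 3) k))) = 0 ↔ IsRelPrime f g := by
  set V : Set (ProjectiveSpectrum (CohB1.polyGrading 2 k)) :=
    ProjectiveSpectrum.zeroLocus (CohB1.polyGrading 2 k) ({f, g} : Set _) with hV
  have hVc : IsClosed V := ProjectiveSpectrum.isClosed_zeroLocus _ _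
  have hmem : ∀ x, x ∈ V ↔ f ∈ ProjDim.pt x ∧ g ∈ ProjDim.pt x := fun x => by
    rw [hV, ProjDim.mem_zeroLocus_iff, Set.insert_subset_iff, Set.singleton_subset_iff]
    rfl
  have hI : (⊥ ⊔ Ideal.span (Set.range ![f, g])).IsHomogeneous (CohB1.polyGrading 2 k) := by
    rw [bot_sup_eq]
    refine ProjDim.isHomogeneous_span_of_homogeneous ?_
    rintro _ ⟨i, rfl⟩
    fin_cases i
    exacts [⟨n, hf⟩, ⟨m, hg⟩]
  have hne : V.Nonempty := by
    have h1 : (⊥ : Ideal (MvPolynomial (Fin 3) k)) ⊔ Ideal.span (Set.range ![f, g]) ≠ ⊤ := by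
      refine ne_top_of_le_ne_top (Ideal.IsPrime.ne_top' (I := GenPt.irr k 2))
        (sup_le bot_le (Ideal.span_le.2 ?_))
      rintro _ ⟨i, rfl⟩
      fin_cases i
      exacts [ProjDim.mem_irr_of_isHomogeneous hf hn, ProjDim.mem_irr_of_isHomogeneous hg hm]
    obtain ⟨M, hM⟩ := Ideal.nonempty_minimalPrimes h1
    haveI := hM.1.1
    have h2 := ProjDim.dimQ_le_of_mem_minimalPrimes_sup ⊥ M ![f, g] hM
    rw [ProjDim.dimQ_bot] at h2
    obtain ⟨z, rfl⟩ := ProjDim.exists_pt_of_dim M (GenPt.minimal_isHomogeneous hI hM) (by omega)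
    exact ⟨z, (hmem z).2 ⟨hM.1.2 (Ideal.mem_sup_right (Ideal.subset_span ⟨0, rfl⟩)),
      hM.1.2 (Ideal.mem_sup_right (Ideal.subset_span ⟨1, rfl⟩))⟩⟩
  constructor
  · intro h0 q hqf hqg
    by_contra hu
    have hq0 : q ≠ 0 := fun h => hf0 (zero_dvd_iff.1 (h ▸ hqf))
    obtain ⟨p, hp, hpq⟩ := WfDvdMonoid.exists_irreducible_factor hu hq0
    haveI := (Ideal.span_singleton_prime hp.ne_zero).2 hp.prime
    have hhom := ProjDim.isHomogeneous_span_factor hf hf0 hp.prime (hpq.trans hqf)
    have hmin : Ideal.span {p} ∈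
        ((⊥ : Ideal (MvPolynomial (Fin 3) k)) ⊔ Ideal.span (Set.range ![p])).minimalPrimes := by
      simp only [Matrix.range_cons, Matrix.range_empty, Set.union_empty, bot_sup_eq,
        Ideal.minimalPrimes_eq_subsingleton_self]
      rfl
    have h2 := ProjDim.dimQ_le_of_mem_minimalPrimes_sup ⊥ (Ideal.span {p}) ![p] hmin
    rw [ProjDim.dimQ_bot] at h2
    obtain ⟨x, hx⟩ := ProjDim.exists_pt_of_dim (Ideal.span {p}) hhom (by omega)
    have hxV : x ∈ V := (hmem x).2 ⟨hx ▸ Ideal.mem_span_singleton.2 (hpq.trans hqf),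
      hx ▸ Ideal.mem_span_singleton.2 (hpq.trans hqg)⟩
    have h3 := ProjDim.dimQ_le_topDim hVc hxV
    rw [h0, zero_add, ProjDim.dimQ_eq_of_eq hx] at h3
    have h4 : ProjDim.dimQ (Ideal.span {p}) ≤ 1 := by exact_mod_cast h3
    omega
  · intro hrel
    haveI := hne.to_subtype
    refine le_antisymm ?_ (by
      rw [ProjDim.topDim_eq_krullDim _ hVc]
      exact Order.krullDim_nonneg)
    rw [ProjDim.topDim_eq_krullDim _ hVc, Order.krullDim_nonpos_iff_forall_isMax]
    intro x y hxy
    by_contra hnle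
    have hlt : ProjDim.pt (x : ProjectiveSpectrum (CohB1.polyGrading 2 k)) < ProjDim.pt y.1 :=
      ProjDim.pt_lt_iff.2 (lt_of_le_not_ge hxy hnle)
    have h1 := ProjDim.dimQ_strictAnti hlt
    have h2 := ProjDim.one_le_dimQ_pt y.1
    obtain ⟨hfx, hgx⟩ := (hmem _).1 x.2
    have hne' : ProjDim.pt (x : ProjectiveSpectrum (CohB1.polyGrading 2 k)) ≠ ⊥ := fun h => by
      rw [h, Ideal.mem_bot] at hfx; exact hf0 hfx
    obtain ⟨q, hq, hqeq⟩ := ProjDim.exists_prime_eq_span hne' (by omega)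
    rw [hqeq, Ideal.mem_span_singleton] at hfx hgx
    exact hq.not_unit (hrel hfx hgx)

end Groth.Agent.S10840
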