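import Groth.Statements.S10841
import Groth.Agent.VarDim.Scheme

set_option autoImplicit false
universe u
open CategoryTheory AlgebraicGeometry Topology
open Variety
attribute [local instance] Curv2.resAlgebra

namespace Groth.Agent.S10841

/-- Let k be a field, X an irreducible scheme of finite type over k, and f : Y → X a morphism over k
from a scheme Y of finite type over k whose image contains the generic point of X. Then dim Y ≥ dim
X. -/
theorem result (k : Type u) [Field k] {X Y : Scheme.{u}}
    (p : X ⟶ Spec (CommRingCat.of k)) (q : Y ⟶ Spec (CommRingCat.of k))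
    [LocallyOfFiniteType p] [QuasiCompact p] [LocallyOfFiniteType q] [QuasiCompact q]
    [IrreducibleSpace ↥X] (f : Y ⟶ X) (hf : f ≫ p = q)
    (hη : genericPoint ↥X ∈ Set.range f.base) :
    topologicalKrullDim ↥X ≤ topologicalKrullDim ↥Y := by
  subst hf
  letI : X.Over (Spec (CommRingCat.of k)) := ⟨p⟩
  letI : Y.Over (Spec (CommRingCat.of k)) := ⟨f ≫ p⟩
  haveI : LocallyOfFiniteType (X ↘ Spec (CommRingCat.of k)) := ‹LocallyOfFiniteType p›
  haveI : LocallyOfFiniteType (Y ↘ Spec (CommRingCat.of k)) := ‹LocallyOfFiniteType (f ≫ p)›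
  obtain ⟨y, hy⟩ := hη
  rw [VarDim.topologicalKrullDim_eq_of_irreducible k, ← hy]
  refine le_trans ?_ ((VarDim.topologicalKrullDim_eq_iSup (X := Y) k).ge.trans' (le_iSup _ y))
  have hcomp : Curv2.resMap k Y y = (f.residueFieldMap y).hom.comp (Curv2.resMap k X (f.base y)) := by
    ext c
    change Y.evaluation ⊤ y trivial _ = f.residueFieldMap y (X.evaluation ⊤ (f.base y) trivial _)
    exact (Scheme.evaluation_naturality_apply (f := f) (V := ⊤) y trivial _).symm
  let φ : X.residueField (f.base y) →ₐ[k] Y.residueField y :=
    { (f.residueFieldMap y).hom with commutes' := fun c => (DFunLike.congr_fun hcomp c).symm }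
  have := trdeg_le_of_injective φ φ.toRingHom.injective
  rw [VarDim.trdeg_residueField, VarDim.trdeg_residueField] at this
  exact_mod_cast Nat.cast_le.mp this

end Groth.Agent.S10841
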