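import Groth.Statements.S10842
import Mathlib
import Groth.Agent.GeomLoc.Normal
-- import your own Groth.Agent.* helpers here

set_option autoImplicit false
universe u
open CategoryTheory AlgebraicGeometry
open Variety

namespace Groth.Agent.S10842

/-- A quasi-compact scheme whose local rings at all closed points are integrally closed domains is
normal, i.e. all of its local rings are integrally closed domains. -/
theorem result (X : Scheme.{u}) [CompactSpace ↥X]
    (h : ∀ x : X, IsClosed ({x} : Set X) →
      IsDomain (X.presheaf.stalk x) ∧ IsIntegrallyClosed (X.presheaf.stalk x)) :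
    Pi1.IsNormalScheme X := by
  intro x
  obtain ⟨c, hc, hcl⟩ := IsClosed.exists_closed_singleton (isClosed_closure (s := {x}))
    ⟨x, subset_closure rfl⟩
  have hs : x ⤳ c := specializes_iff_mem_closure.2 hc
  obtain ⟨U, hU, hcU, -⟩ := exists_isAffineOpen_mem_and_subset (x := c) (U := ⊤) trivial
  let j : Spec (CommRingCat.of Γ(X, U)) ⟶ X := hU.fromSpec
  haveI : IsOpenImmersion j := inferInstanceAs (IsOpenImmersion hU.fromSpec)
  obtain ⟨(p : PrimeSpectrum Γ(X, U)), hp⟩ : c ∈ Set.range j := by
    rw [show Set.range j = (U : Set X) from hU.range_fromSpec]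
    exact hcU
  obtain ⟨(q : PrimeSpectrum Γ(X, U)), hq⟩ := hs.mem_open j.isOpenEmbedding.isOpen_range ⟨p, hp⟩
  have hqp : q ⤳ p := j.isOpenEmbedding.isInducing.specializes_iff.1 (by rw [hq, hp]; exact hs)
  have hle := (PrimeSpectrum.le_iff_specializes q p).2 hqp
  have h1 := GeomLoc.isNormalLocal_congr _ _ (FBase.PointScheme.chartStalkEquiv j p)
    (hp.symm ▸ h c hcl)
  obtain ⟨Q, hQ, -, ⟨e⟩⟩ := GeomFieldLib.exists_localization_equiv
    (T := Localization.AtPrime p.asIdeal) p.asIdeal.primeCompl q.asIdeal
    (Set.disjoint_left.2 fun a ha haq => ha (hle haq))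
  rw [← hq]
  exact GeomLoc.isNormalLocal_congr _ _ ((FBase.PointScheme.chartStalkEquiv j q).trans e).symm
    (GeomLoc.isNormalLocal_localization _ h1 Q)

end Groth.Agent.S10842
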