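import Groth.Statements.S10843
import Groth.Agent.NoetherInt.Basic
import Groth.Agent.VarDim.Algebra
import Mathlib.RingTheory.NoetherNormalization

set_option autoImplicit false
universe u
open CAlg

namespace Groth.Agent.S10843

/-- For a field k, a nonzero finitely generated k-algebra A and a natural number d, the algebra A has
Krull dimension d exactly when some injective k-algebra map from the polynomial ring in d variables
over k to A makes A a finite module over that polynomial ring. -/
theorem result (k A : Type u) [Field k]
    [CommRing A] [Nontrivial A] [Algebra k A] [Algebra.FiniteType k A] (d : ℕ) :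
    ringKrullDim A = (d : WithBot ℕ∞) ↔
      ∃ φ : MvPolynomial (Fin d) k →ₐ[k] A, φ.toRingHom.Finite ∧ Function.Injective φ := by
  have key : ∀ (r : ℕ) (φ : MvPolynomial (Fin r) k →ₐ[k] A), φ.toRingHom.Finite → Function.Injective φ →
      ringKrullDim A = (r : WithBot ℕ∞) := by
    intro r φ hfin hinj
    let := φ.toRingHom.toAlgebra
    have : Algebra.IsIntegral (MvPolynomial (Fin r) k) A := ⟨RingHom.IsIntegral.of_finite hfin⟩
    have : FaithfulSMul (MvPolynomial (Fin r) k) A := (faithfulSMul_iff_algebraMap_injective _ _).mpr hinj
    rw [Groth.Agent.VarDim.ringKrullDim_eq_of_isIntegral (R := MvPolynomial (Fin r) k),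
      MvPolynomial.ringKrullDim_of_isNoetherianRing, ringKrullDim_eq_zero_of_field, Nat.card_fin, zero_add]
  constructor
  · intro h
    obtain ⟨s, g, hg, hfin⟩ := exists_finite_inj_algHom_of_fg k A
    have := (key s g hfin hg).symm.trans h
    obtain rfl : s = d := by exact_mod_cast this
    exact ⟨g, hfin, hg⟩
  · rintro ⟨φ, hfin, hinj⟩
    exact key d φ hfin hinj

end Groth.Agent.S10843
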