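import Groth.Statements.S10844
import Groth.Agent.EpiLocus.Basic

set_option autoImplicit false
universe u
open RepF

namespace Groth.Agent.S10844

open AlgebraicGeometry CategoryTheory in
/-- For a scheme S and a homomorphism v : E → F of quasi-coherent O_S-modules with F of finite type,
there is an open subscheme U of S such that a morphism of schemes f : T → S factors through U (its
image lies in U) if and only if the pulled-back homomorphism f^*v : f^*E → f^*F is an epimorphism. -/
theorem result {S : Scheme.{u}} {E F : S.Modules}
    [Coh.IsQCoh E] [Coh.IsQCoh F] (hF : CohB1.IsFT F) (v : E ⟶ F) :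
    ∃ U : S.Opens, ∀ (T : Scheme.{u}) (f : T ⟶ S),
      Set.range f.base ⊆ (U : Set S) ↔ Epi ((Scheme.Modules.pullback f).map v) := by
  exact EpiLocus.exists_opens_epi_pullback ‹Coh.IsQCoh E› ⟨‹Coh.IsQCoh F›, hF⟩ v

end Groth.Agent.S10844
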