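import Groth.Statements.S1085
import Groth.Agent.FilInjLib.Basic
-- import your own Groth.Agent.* helpers here

set_option autoImplicit false
universe v u
open CategoryTheory CategoryTheory.Limits Opposite
open FilD

namespace Groth.Agent.S1085

set_option backward.isDefEq.respectTransparency.types false

/-- Let A be an abelian category and S = (X ⟶ Y ⟶ Z) a short complex (composite zero) of finite filtered
objects such that grᵖ X ⟶ grᵖ Y ⟶ grᵖ Z is exact for every p. Then for every p the sequence of p-th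
filtration steps Fᵖ X ⟶ Fᵖ Y ⟶ Fᵖ Z is exact, and both morphisms of S are strict. -/
theorem result {A : Type u} [Category.{v} A] [Abelian A] (S : ShortComplex (FilD.FilF A))
    (hS : ∀ p : ℤ, (S.map (FilD.grF A p)).Exact) :
    (∀ p : ℤ, (S.map ((FilD.IsFinFil A).ι ⋙ (evaluation ℤᵒᵖ A).obj (op p))).Exact) ∧
      FilD.IsStrict S.f ∧ FilD.IsStrict S.g := by
  have w : S.f.hom ≫ S.g.hom = 0 := by
    rw [← ObjectProperty.FullSubcategory.comp_hom, S.zero]; rfl
  have hgr : ∀ p : ℤ, ((ShortComplex.mk S.f.hom S.g.hom w).map (FilD.gr A p)).Exact := hS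
  have hex : ∀ (p : ℤ) {T : A} (x : T ⟶ S.X₂.obj.obj (op p)), x ≫ S.g.hom.app (op p) = 0 →
      ∃ (T' : A) (π : T' ⟶ T) (_ : Epi π) (k : T' ⟶ S.X₁.obj.obj (op p)), π ≫ x = k ≫ S.f.hom.app (op p) :=
    fun p _ x hx => FilInjLib.exact_level_of_exact_gr S.f.hom S.g w hgr p x hx
  refine ⟨fun p => ?_, (FilInjLib.strict_iff _).2 ?_,
    (FilInjLib.strict_iff _).2 (FilInjLib.strict_of_exact_gr S.f.hom S.g w hgr)⟩
  · rw [ShortComplex.exact_iff_exact_up_to_refinements]
    intro T x hx
    exact hex p x hx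
  · intro p q h T y x hxy
    have e : y ≫ S.g.hom.app (op q) = 0 := by
      haveI := FilInjLib.mono_tr S.X₃ h
      rw [← cancel_mono (FilInjLib.tr S.X₃.obj h), zero_comp, Category.assoc, ← FilInjLib.tr_nat,
        ← Category.assoc, ← hxy, Category.assoc, ← NatTrans.comp_app, w]
      simp
    obtain ⟨T', π, hπ, k, hk⟩ := hex q y e
    exact ⟨T', π, hπ, k, hk.symm⟩

end Groth.Agent.S1085
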