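import Groth.Statements.S10850
import Groth.Agent.PGLAut28.Surj

set_option autoImplicit false
universe u
open ProjAut

namespace Groth.Agent.S10850

open AlgebraicGeometry CategoryTheory in
/-- Let k be a field and n a natural number. There is a surjective group homomorphism from GL_{n+1}(k)
onto the group of automorphisms of projective n-space P^n_k over Spec k whose kernel is the subgroup
of invertible scalar matrices; so the automorphism group of P^n_k over k is isomorphic to
PGL_{n+1}(k). (Only the existence of a surjective homomorphism with this kernel is asserted here;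
the published statement is about the homomorphism induced by linear substitutions of the homogeneous
coordinates.) -/
theorem result
    (k : Type u) [Field k] (n : ℕ) :
    ∃ φ : Matrix.GeneralLinearGroup (Fin (n + 1)) k →* Aut (Over.mk (CohB1.ProjSpace.toSpec n k)),
      Function.Surjective φ ∧
        φ.ker = (Units.map (Matrix.scalar (Fin (n + 1)) : k →+* Matrix (Fin (n + 1)) (Fin (n + 1)) k).toMonoidHom).range := by
  classical
  refine ⟨Groth.Agent.PGLAut28.act, Groth.Agent.PGLAut28.act_surjective, Subgroup.ext fun g => ⟨fun hg => ?_, ?_⟩⟩
  · rw [MonoidHom.mem_ker] at hg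
    have h1 : Groth.Agent.PGLAut28.lmap g = 𝟙 _ := by
      rw [← Groth.Agent.PGLAut28.act_hom_left, hg]
      rfl
    have h2 := Groth.Agent.PGLAut28.eq_scalar_of_lmap_eq_id g h1
    have hc : (g : Matrix (Fin (n + 1)) (Fin (n + 1)) k) 0 0 ≠ 0 := fun h0 => by
      have h3 := g.inv_mul
      rw [h2, h0, map_zero, mul_zero] at h3
      exact zero_ne_one h3
    exact ⟨Units.mk0 _ hc, Units.ext h2.symm⟩
  · rintro ⟨c, rfl⟩
    rw [MonoidHom.mem_ker]
    refine Iso.ext (Over.OverMorphism.ext ?_)
    exact Groth.Agent.PGLAut28.lmap_scalar _ (c : k) c.ne_zero rfl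

end Groth.Agent.S10850
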