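import Groth.Statements.S10851
import Groth.Agent.MeroDivMod.Depth
-- import your own Groth.Agent.* helpers here

set_option autoImplicit false
universe u
open Mero

namespace Groth.Agent.S10851

open AlgebraicGeometry in
/-- Let X be a locally Noetherian scheme and D a divisor on X (a global section of K_X^×/O_X^×). Then
the support of D has codimension at least 1 in X: for every point z at which the germ of D is
non-trivial, the local ring O_{X,z} has Krull dimension at least 1. -/
theorem result {X : Scheme.{u}} [IsLocallyNoetherian X]
    (D : Mero.Divisor X) (z : X) (hz : z ∈ Mero.supp D) :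
    (1 : WithBot ℕ∞) ≤ ringKrullDim (X.presheaf.stalk z) := by
  by_contra hlt
  refine hz (Groth.Agent.MeroDivMod.eq_one_of_forall_isUnit D z fun a ha => ?_)
  have hdim : ringKrullDim (X.presheaf.stalk z) ≤ 0 := by
    generalize ringKrullDim (X.presheaf.stalk z) = d at hlt
    induction d using WithBot.recBotCoe with
    | bot => exact bot_le
    | coe d =>
      rw [← WithBot.coe_one, WithBot.coe_le_coe, not_le, ENat.lt_one_iff_eq_zero] at hlt
      rw [hlt]
      rfl
  have hK : Ring.KrullDimLE 0 (X.presheaf.stalk z) := Ring.krullDimLE_iff.mpr hdim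
  by_contra hu
  have hmem : IsLocalRing.maximalIdeal (X.presheaf.stalk z) ∈ minimalPrimes (X.presheaf.stalk z) :=
    ⟨⟨inferInstance, bot_le⟩, fun q hq _ => by
      have := hq.1
      have := Ideal.isMaximal_of_isPrime q
      exact (IsLocalRing.eq_maximalIdeal this).ge⟩
  exact Set.disjoint_left.mp (Ideal.disjoint_nonZeroDivisors_of_mem_minimalPrimes hmem)
    ((IsLocalRing.mem_maximalIdeal a).mpr hu) ha

end Groth.Agent.S10851
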