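import Groth.Statements.S10852
import Groth.Agent.GrRep86.AffineChart

set_option autoImplicit false
universe u
open Grass

namespace Groth.Agent.S10852

open AlgebraicGeometry CategoryTheory in
theorem smooth_mvPolynomial (R : Type u) [CommRing R] (N : ℕ) :
    SmoothOfRelativeDimension N
      (Spec.map (CommRingCat.ofHom (algebraMap R (MvPolynomial (ULift.{u} (Fin N)) R)))) := by
  haveI h0 : Algebra.IsStandardSmoothOfRelativeDimension N R (MvPolynomial (Fin N) R) := by
    let v : Fin 0 → MvPolynomial (Fin N) R := Fin.elim0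
    let P₀ : Algebra.PreSubmersivePresentation R (MvPolynomial (Fin N) R ⧸ Ideal.span (Set.range v)) (Fin N) (Fin 0) :=
      Algebra.PreSubmersivePresentation.naive Fin.elim0 (fun i => i.elim0)
    have hj : IsUnit P₀.jacobian := by
      classical
      rw [Algebra.PreSubmersivePresentation.jacobian_eq_jacobiMatrix_det, Matrix.det_fin_zero, map_one]
      exact isUnit_one
    let P : Algebra.SubmersivePresentation R (MvPolynomial (Fin N) R ⧸ Ideal.span (Set.range v)) (Fin N) (Fin 0) :=
      ⟨P₀, hj⟩
    haveI : Algebra.IsStandardSmoothOfRelativeDimension N R (MvPolynomial (Fin N) R ⧸ Ideal.span (Set.range v)) :=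
      ⟨⟨_, _, _, inferInstance, P, by simp [Algebra.Presentation.dimension]⟩⟩
    have hbot : Ideal.span (Set.range v) = ⊥ := by simp [Set.range_eq_empty]
    exact .of_algEquiv N ((Ideal.quotientEquivAlgOfEq R hbot).trans (AlgEquiv.quotientBot R _))
  haveI : Algebra.IsStandardSmoothOfRelativeDimension N R (MvPolynomial (ULift.{u} (Fin N)) R) :=
    .of_algEquiv N (MvPolynomial.renameEquiv R Equiv.ulift.symm)
  rw [HasRingHomProperty.Spec_iff (P := @SmoothOfRelativeDimension N)]
  exact RingHom.locally_of RingHom.isStandardSmoothOfRelativeDimension_respectsIso _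
    ((RingHom.isStandardSmoothOfRelativeDimension_algebraMap N).mpr inferInstance)


open AlgebraicGeometry CategoryTheory in
/-- Let R be a commutative ring and k < n natural numbers. Suppose the scheme X over Spec R represents
the Grassmannian functor of rank-k locally free quotients of the free module R^n (bijections,
compatible with base change along R-algebra maps, between Spec R-morphisms Spec A → X and submodules
of A^n whose quotient is finite projective of constant rank k). Then the structure morphism X → Spec
R is smooth of relative dimension k(n − k), and X has a finite open covering by subschemes each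
isomorphic over Spec R to affine space of dimension k(n − k). -/
theorem result (R : Type u) [CommRing R]
    (n k : ℕ) (hk : k < n) (X : Over (Spec (CommRingCat.of R)))
    (e : ∀ A : CommAlgCat.{u} R,
      (Over.mk (Spec.map (CommRingCat.ofHom (algebraMap R A))) ⟶ X) ≃
        (Module.Grassmannian.functor (R := R) (M := Fin n → R) k).obj A)
    (he : ∀ (A B : CommAlgCat.{u} R) (φ : A ⟶ B)
      (g : Over.mk (Spec.map (CommRingCat.ofHom (algebraMap R A))) ⟶ X)
      (g' : Over.mk (Spec.map (CommRingCat.ofHom (algebraMap R B))) ⟶ X),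
      g'.left = Spec.map (CommRingCat.ofHom φ.hom.toRingHom) ≫ g.left →
        e B g' = (Module.Grassmannian.functor (R := R) (M := Fin n → R) k).map φ (e A g)) :
    SmoothOfRelativeDimension (k * (n - k)) X.hom ∧
      ∃ (ι : Type) (_ : Finite ι) (U : ι → X.left.Opens), ⨆ i, U i = ⊤ ∧
        ∀ i, Nonempty (Over.mk ((U i).ι ≫ X.hom) ≅
          Over.mk (𝔸(ULift.{u} (Fin (k * (n - k))); Spec (CommRingCat.of R)) ↘ Spec (CommRingCat.of R))) := by
  obtain ⟨r, hr, rfl⟩ : ∃ r, r ≤ n ∧ k = n - r := ⟨n - k, by omega, by omega⟩
  let N := (n - r) * (n - (n - r))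
  let eσ : ULift.{u} (Fin N) ≃ Fin r × Fin (n - r) :=
    Equiv.ulift.trans ((finCongr (show N = r * (n - r) by
      show (n - r) * (n - (n - r)) = r * (n - r)
      rw [show n - (n - r) = r by omega, Nat.mul_comm])).trans finProdFinEquiv.symm)
  obtain ⟨U, hU, hiso⟩ := Groth.Agent.GrRep86.exists_charts R hr eσ X e he
  let ε : Over.mk (Spec.map (CommRingCat.ofHom (algebraMap R (MvPolynomial (ULift.{u} (Fin N)) R)))) ≅
      Over.mk (𝔸(ULift.{u} (Fin N); Spec (CommRingCat.of R)) ↘ Spec (CommRingCat.of R)) :=
    Over.isoMk (AffineSpace.SpecIso (ULift.{u} (Fin N)) (CommRingCat.of R)).symm (by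
      exact AffineSpace.SpecIso_inv_over (n := ULift.{u} (Fin N)) (CommRingCat.of R))
  refine ⟨(IsZariskiLocalAtSource.iff_of_iSup_eq_top (P := @SmoothOfRelativeDimension N) U hU).mpr fun i => ?_,
    _, inferInstance, U, hU, fun i => ⟨(hiso i).some ≪≫ ε⟩⟩
  obtain ⟨h⟩ := hiso i
  haveI : IsIso h.hom.left := ((Over.forget _).mapIso h).isIso_hom
  haveI := smooth_mvPolynomial R N
  have hs : SmoothOfRelativeDimension (0 + N)
      (h.hom.left ≫ Spec.map (CommRingCat.ofHom (algebraMap R (MvPolynomial (ULift.{u} (Fin N)) R)))) :=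
    inferInstance
  rw [zero_add, show h.hom.left ≫ Spec.map _ = (U i).ι ≫ X.hom from Over.w h.hom] at hs
  exact hs

end Groth.Agent.S10852
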