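import Groth.Statements.S10854
import Groth.Agent.Spread.Basic

set_option autoImplicit false
universe u
open FinCond

namespace Groth.Agent.S10854

open AlgebraicGeometry CategoryTheory in
lemma fromSpecStalkOfMem_closedPoint {X : Scheme.{u}} (U : X.Opens) {x : X} (hx : x ∈ U) :
    U.fromSpecStalkOfMem x hx (IsLocalRing.closedPoint _) = ⟨x, hx⟩ := by
  refine Subtype.ext ?_
  have := congr($(Scheme.Opens.fromSpecStalkOfMem_ι U x hx) (IsLocalRing.closedPoint _))
  rw [Scheme.Hom.comp_apply, Scheme.fromSpecStalk_closedPoint] at this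
  exact this

open AlgebraicGeometry CategoryTheory in
/-- Let S be a scheme and X, Y two S-schemes locally of finite presentation over S. Let x be a point of
X and y a point of Y over the same point of S, and let φ : O_{Y,y} → O_{X,x} be an isomorphism
compatible with the two homomorphisms from the local ring of S. Then there exist open neighbourhoods
U of x and V of y and an S-isomorphism f : U → V whose composite with Spec O_{X,x} → U and V → Y
equals Spec φ followed by Spec O_{Y,y} → Y. (The published statement assumes the finiteness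
conditions only at the points x and y; this row assumes them everywhere.) -/
theorem result
    {X Y S : Scheme.{u}} (sX : X ⟶ S) (sY : Y ⟶ S)
    [LocallyOfFinitePresentation sX] [LocallyOfFinitePresentation sY]
    {x : X} {y : Y} (e : sX x = sY y)
    (φ : Y.presheaf.stalk y ⟶ X.presheaf.stalk x) [IsIso φ]
    (h : sY.stalkMap y ≫ φ =
      S.presheaf.stalkSpecializes (Inseparable.of_eq e).specializes ≫ sX.stalkMap x) :
    ∃ (U : X.Opens) (hxU : x ∈ U) (V : Y.Opens) (f : U.toScheme ⟶ V.toScheme), IsIso f ∧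
      Spec.map φ ≫ Y.fromSpecStalk y = U.fromSpecStalkOfMem x hxU ≫ f ≫ V.ι ∧
        f ≫ V.ι ≫ sY = U.ι ≫ sX := by
  obtain ⟨U, hxU, f₀, hf₀, hf₀'⟩ := Groth.Agent.Spread.spread_out sX sY e φ h
  have h' : sX.stalkMap x ≫ inv φ =
      S.presheaf.stalkSpecializes (Inseparable.of_eq e.symm).specializes ≫ sY.stalkMap y := by
    rw [IsIso.comp_inv_eq, Category.assoc, h, ← Category.assoc,
      TopCat.Presheaf.stalkSpecializes_comp, TopCat.Presheaf.stalkSpecializes_refl]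
    exact (Category.id_comp _).symm
  obtain ⟨V, hyV, g₀, hg₀, hg₀'⟩ := Groth.Agent.Spread.spread_out sY sX e.symm (inv φ) h'
  have hfx : f₀ ⟨x, hxU⟩ = y := by
    have hl : IsLocalHom φ.hom := isLocalHom_of_isIso φ
    have := congr($hf₀ (IsLocalRing.closedPoint _))
    rw [Scheme.Hom.comp_apply, Scheme.Hom.comp_apply, Spec_closedPoint,
      Scheme.fromSpecStalk_closedPoint, fromSpecStalkOfMem_closedPoint] at this
    exact this.symm
  have hgy : g₀ ⟨y, hyV⟩ = x := by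
    have hl : IsLocalHom (inv φ).hom := isLocalHom_of_isIso (inv φ)
    have := congr($hg₀ (IsLocalRing.closedPoint _))
    rw [Scheme.Hom.comp_apply, Scheme.Hom.comp_apply, Spec_closedPoint,
      Scheme.fromSpecStalk_closedPoint, fromSpecStalkOfMem_closedPoint] at this
    exact this.symm
  -- where `f₀` lands in `V`, and where `g₀` lands in `U`
  let Uv : X.Opens := U.ι ''ᵁ (f₀ ⁻¹ᵁ V)
  let Vu : Y.Opens := V.ι ''ᵁ (g₀ ⁻¹ᵁ U)
  have iUv : Uv ≤ U := (Set.image_subset_range _ _).trans_eq Subtype.range_val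
  have iVu : Vu ≤ V := (Set.image_subset_range _ _).trans_eq Subtype.range_val
  have hxUv : x ∈ Uv := ⟨⟨x, hxU⟩, show f₀ _ ∈ V by rw [hfx]; exact hyV, rfl⟩
  have hyVu : y ∈ Vu := ⟨⟨y, hyV⟩, show g₀ _ ∈ U by rw [hgy]; exact hxU, rfl⟩
  have rf : Set.range (X.homOfLE iUv ≫ f₀) ⊆ Set.range V.ι := by
    rintro _ ⟨⟨z, z', hz', rfl⟩, rfl⟩
    rw [Scheme.Opens.range_ι, Scheme.Hom.comp_apply]
    have hz'' : f₀ ((X.homOfLE iUv) ⟨_, z', hz', rfl⟩) = f₀ z' :=
      congr(f₀ $(Subtype.ext (by simp)))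
    rw [hz'']
    exact hz'
  have rg : Set.range (Y.homOfLE iVu ≫ g₀) ⊆ Set.range U.ι := by
    rintro _ ⟨⟨z, z', hz', rfl⟩, rfl⟩
    rw [Scheme.Opens.range_ι, Scheme.Hom.comp_apply]
    have hz'' : g₀ ((Y.homOfLE iVu) ⟨_, z', hz', rfl⟩) = g₀ z' :=
      congr(g₀ $(Subtype.ext (by simp)))
    rw [hz'']
    exact hz'
  let fV := IsOpenImmersion.lift V.ι _ rf
  let gU := IsOpenImmersion.lift U.ι _ rg
  have hfV : fV ≫ V.ι = X.homOfLE iUv ≫ f₀ := IsOpenImmersion.lift_fac _ _ _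
  have hgU : gU ≫ U.ι = Y.homOfLE iVu ≫ g₀ := IsOpenImmersion.lift_fac _ _ _
  have sf : Uv.fromSpecStalkOfMem x hxUv ≫ fV = Spec.map φ ≫ V.fromSpecStalkOfMem y hyV := by
    rw [← cancel_mono V.ι, Category.assoc, hfV, Category.assoc,
      Scheme.Opens.fromSpecStalkOfMem_ι, hf₀, ← Category.assoc]
    congr 1
    rw [← cancel_mono U.ι]
    simp
  have sg : Vu.fromSpecStalkOfMem y hyVu ≫ gU = Spec.map (inv φ) ≫ U.fromSpecStalkOfMem x hxU := by
    rw [← cancel_mono U.ι, Category.assoc, hgU, Category.assoc,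
      Scheme.Opens.fromSpecStalkOfMem_ι, hg₀, ← Category.assoc]
    congr 1
    rw [← cancel_mono V.ι]
    simp
  have := ‹LocallyOfFinitePresentation sX›
  obtain ⟨U₂, i₂, i₂', hxU₂, hU₂⟩ := Groth.Agent.Spread.exists_restrict_eq sX sX hxUv hxUv
    (fV ≫ g₀) Uv.ι (by rw [Category.assoc, hg₀', ← Category.assoc, hfV, Category.assoc, hf₀']
                       simp)
    rfl (by
      rw [reassoc_of% sf, ← hg₀, ← Category.assoc, ← Spec.map_comp, IsIso.inv_hom_id, Spec.map_id,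
        Category.id_comp, Scheme.Opens.fromSpecStalkOfMem_ι])
  obtain ⟨V₂, j₂, j₂', hyV₂, hV₂⟩ := Groth.Agent.Spread.exists_restrict_eq sY sY hyVu hyVu
    (gU ≫ f₀) Vu.ι (by rw [Category.assoc, hf₀', ← Category.assoc, hgU, Category.assoc, hg₀']
                       simp)
    rfl (by
      rw [reassoc_of% sg, ← hf₀, ← Category.assoc, ← Spec.map_comp, IsIso.hom_inv_id, Spec.map_id,
        Category.id_comp, Scheme.Opens.fromSpecStalkOfMem_ι])
  -- the neighbourhoods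
  let U' : X.Opens := U₂ ⊓ U.ι ''ᵁ (f₀ ⁻¹ᵁ V₂)
  let V' : Y.Opens := V₂ ⊓ V.ι ''ᵁ (g₀ ⁻¹ᵁ U₂)
  have iU' : U' ≤ U₂ := inf_le_left
  have iV' : V' ≤ V₂ := inf_le_left
  let F : U'.toScheme ⟶ Y := X.homOfLE ((iU'.trans i₂).trans iUv) ≫ f₀
  let G : V'.toScheme ⟶ X := Y.homOfLE ((iV'.trans j₂).trans iVu) ≫ g₀
  have eF : X.homOfLE (iU'.trans i₂) ≫ fV ≫ g₀ = U'.ι := by
    rw [← X.homOfLE_homOfLE iU' i₂, Category.assoc, hU₂]
    simp
  have eG : Y.homOfLE (iV'.trans j₂) ≫ gU ≫ f₀ = V'.ι := by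
    rw [← Y.homOfLE_homOfLE iV' j₂, Category.assoc, hV₂]
    simp
  have rF : Set.range F ⊆ Set.range V'.ι := by
    rintro _ ⟨⟨z, hz, z', hz', hzz'⟩, rfl⟩
    obtain rfl : z'.1 = z := hzz'
    rw [Scheme.Opens.range_ι]
    have hfz : F ⟨z'.1, hz, z', hz', rfl⟩ = f₀ z' := by
      simp only [F, Scheme.Hom.comp_apply]
      exact congr(f₀ $(Subtype.ext (by simp)))
    have h2 : f₀ z' ∈ V₂ := hz'
    rw [hfz]
    refine ⟨h2, ⟨f₀ z', iVu (j₂ h2)⟩, ?_, rfl⟩
    show g₀ _ ∈ U₂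
    have := congr($eF ⟨z'.1, hz, z', hz', rfl⟩)
    simp only [Scheme.Hom.comp_apply] at this
    have hpt : ∀ q : Uv.toScheme, (fV q : V.toScheme).1 = f₀ ((X.homOfLE iUv) q) := fun q =>
      congr($hfV q)
    have hgf : g₀ ⟨f₀ z', iVu (j₂ h2)⟩ = z'.1 := Eq.trans (congr(g₀ $(Subtype.ext (by
      rw [hpt]; exact congr(f₀ $(Subtype.ext (by simp)))))) ) this
    rw [hgf]
    exact hz
  have rG : Set.range G ⊆ Set.range U'.ι := by
    rintro _ ⟨⟨z, hz, z', hz', hzz'⟩, rfl⟩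
    obtain rfl : z'.1 = z := hzz'
    rw [Scheme.Opens.range_ι]
    have hgz : G ⟨z'.1, hz, z', hz', rfl⟩ = g₀ z' := by
      simp only [G, Scheme.Hom.comp_apply]
      exact congr(g₀ $(Subtype.ext (by simp)))
    have h2 : g₀ z' ∈ U₂ := hz'
    rw [hgz]
    refine ⟨h2, ⟨g₀ z', iUv (i₂ h2)⟩, ?_, rfl⟩
    show f₀ _ ∈ V₂
    have := congr($eG ⟨z'.1, hz, z', hz', rfl⟩)
    simp only [Scheme.Hom.comp_apply] at this
    have hpt : ∀ q : Vu.toScheme, (gU q : U.toScheme).1 = g₀ ((Y.homOfLE iVu) q) := fun q =>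
      congr($hgU q)
    have hgf : f₀ ⟨g₀ z', iUv (i₂ h2)⟩ = z'.1 := Eq.trans (congr(f₀ $(Subtype.ext (by
      rw [hpt]; exact congr(g₀ $(Subtype.ext (by simp)))))) ) this
    rw [hgf]
    exact hz
  let a := IsOpenImmersion.lift V'.ι F rF
  let b := IsOpenImmersion.lift U'.ι G rG
  have ha : a ≫ V'.ι = F := IsOpenImmersion.lift_fac _ _ _
  have hb : b ≫ U'.ι = G := IsOpenImmersion.lift_fac _ _ _
  have ha' : a ≫ Y.homOfLE ((iV'.trans j₂).trans iVu) = X.homOfLE (iU'.trans i₂) ≫ fV := by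
    rw [← cancel_mono V.ι, Category.assoc, Category.assoc, hfV, Y.homOfLE_ι, ha,
      ← Category.assoc, X.homOfLE_homOfLE]
  have hb' : b ≫ X.homOfLE ((iU'.trans i₂).trans iUv) = Y.homOfLE (iV'.trans j₂) ≫ gU := by
    rw [← cancel_mono U.ι, Category.assoc, Category.assoc, hgU, X.homOfLE_ι, hb,
      ← Category.assoc, Y.homOfLE_homOfLE]
  have hab : a ≫ b = 𝟙 _ := by
    rw [← cancel_mono U'.ι, Category.assoc, hb, Category.id_comp, reassoc_of% ha', eF]
  have hba : b ≫ a = 𝟙 _ := by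
    rw [← cancel_mono V'.ι, Category.assoc, ha, Category.id_comp, reassoc_of% hb', eG]
  have hxU' : x ∈ U' := ⟨hxU₂, ⟨x, hxU⟩, show f₀ _ ∈ V₂ by rw [hfx]; exact hyV₂, rfl⟩
  refine ⟨U', hxU', V', a, ⟨b, hab, hba⟩, ?_, ?_⟩
  · rw [hf₀, ha]
    simp only [F, ← Category.assoc]
    congr 1
    rw [← cancel_mono U.ι]
    simp
  · rw [← Category.assoc, ha]
    simp [F, hf₀']

end Groth.Agent.S10854
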