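import Groth.Statements.S10857
import Groth.Agent.FDesc.QuasiFlat
import Groth.Agent.PullStalk.Exact

set_option autoImplicit false
universe u
open QCohSup

namespace Groth.Agent.S10857

open AlgebraicGeometry CategoryTheory CategoryTheory.Limits TopologicalSpace Opposite
open Groth.Agent.PullStalk.Sky Groth.Agent.PullStalk.Exact Groth.Agent.QCoh

variable {X : Scheme.{u}}

/-- Germs of generators over an affine open span the stalk. -/
theorem span_germ (M : X.Modules) [M.IsQuasicoherent] {U : X.Opens} (hU : IsAffineOpen U)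
    {x : X} (hxU : x ∈ U) (s : Set Γ(M, U)) (hs : Submodule.span Γ(X, U) s = ⊤) :
    Submodule.span (X.presheaf.stalk x) ((fun m => germM M U x hxU m) '' s) = ⊤ := by
  set S := Submodule.span (X.presheaf.stalk x) ((fun m => germM M U x hxU m) '' s)
  have hU' : ∀ m : Γ(M, U), germM M U x hxU m ∈ S := by
    intro m
    have hm : m ∈ Submodule.span Γ(X, U) s := hs ▸ Submodule.mem_top
    induction hm using Submodule.span_induction with
    | mem y hy => exact Submodule.subset_span ⟨y, hy, rfl⟩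
    | zero =>
      change M.presheaf.germ U x hxU 0 ∈ S
      simp only [map_zero, zero_mem]
    | add a b _ _ ha hb =>
      change M.presheaf.germ U x hxU (a + b) ∈ S
      simp only [map_add]
      exact S.add_mem ha hb
    | smul r a _ ha => exact (germM_smul M U x hxU r a).symm ▸ S.smul_mem _ ha
  rw [eq_top_iff]
  intro t _
  obtain ⟨W, hxW, m, rfl⟩ := exists_germM_eq M x t
  obtain ⟨g, hgle, hxg⟩ := hU.exists_basicOpen_le ⟨x, hxW⟩ hxU
  obtain ⟨n, m', hm'⟩ := (isLocalizingAt M hU g).surj (res M hgle m)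
  have h1 : germM M U x hxU m' =
      X.presheaf.germ (X.basicOpen g) x hxg (rres (X.basicOpen_le g) g) ^ n •
        germM M W x hxW m := by
    have e1 : germM M (X.basicOpen g) x hxg (res M (X.basicOpen_le g) m') = germM M U x hxU m' :=
      M.presheaf.germ_res_apply _ x hxg m'
    have e2 : germM M (X.basicOpen g) x hxg (res M hgle m) = germM M W x hxW m :=
      M.presheaf.germ_res_apply _ x hxg m
    rw [← e1, ← e2, hm', germM_smul, map_pow]
  have hu : IsUnit (X.presheaf.germ (X.basicOpen g) x hxg (rres (X.basicOpen_le g) g)) := by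
    rw [X.presheaf.germ_res_apply]
    exact (X.mem_basicOpen g x hxU).mp hxg
  obtain ⟨v, hv⟩ := hu.pow n
  have : germM M W x hxW m = (↑v⁻¹ : X.presheaf.stalk x) • germM M U x hxU m' := by
    rw [h1, ← hv, smul_smul, v.inv_mul, one_smul]
  rw [this]
  exact S.smul_mem _ (hU' m')

/-- Morphisms surjective on all stalks are epimorphisms. -/
theorem epi_of_stalk_surjective {M N : X.Modules} (φ : M ⟶ N)
    (h : ∀ x, Function.Surjective (stalkLin φ x)) : Epi φ := by
  refine ⟨fun {P} a b hab => ?_⟩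
  ext U m
  refine TopCat.Presheaf.section_ext ⟨_, P.isSheaf⟩ U _ _ fun x hx => ?_
  obtain ⟨t, ht⟩ := h x (germM N U x hx m)
  obtain ⟨W, hxW, m', rfl⟩ := exists_germM_eq M x t
  rw [stalkLin_germ] at ht
  have key : ∀ ψ : N ⟶ P, germM P U x hx (ψ.app U m) = germM P W x hxW ((φ ≫ ψ).app W m') := by
    intro ψ
    refine (stalkLin_germ ψ U x hx m).symm.trans ?_
    rw [← ht]
    exact stalkLin_germ ψ W x hxW _
  exact (key a).trans ((congrArg (fun ψ => germM P W x hxW (Scheme.Modules.Hom.app ψ W m')) hab).trans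
    (key b).symm)

theorem stalkLin_comp {M N P : X.Modules} (φ : M ⟶ N) (ψ : N ⟶ P) (x : X)
    (t : M.presheaf.stalk x) : stalkLin (φ ≫ ψ) x t = stalkLin ψ x (stalkLin φ x t) := by
  obtain ⟨W, hxW, m, rfl⟩ := exists_germM_eq M x t
  rw [stalkLin_germ, stalkLin_germ, stalkLin_germ]
  rfl

/-- Every germ of a colimit comes from a stage. -/
theorem exists_stalk_rep {J : Type u} [SmallCategory J] [IsFiltered J] {D : J ⥤ X.Modules}
    {c : Cocone D} (hc : IsColimit c) (x : X) (t : c.pt.presheaf.stalk x) :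
    ∃ (j : J) (t' : (D.obj j).presheaf.stalk x), stalkLin (c.ι.app j) x t' = t := by
  let r : J → Submodule (X.presheaf.stalk x) (c.pt.presheaf.stalk x) :=
    fun j => LinearMap.range (stalkLin (c.ι.app j) x)
  have hd : Directed (· ≤ ·) r := by
    intro i j
    have hle : ∀ {i k : J}, (i ⟶ k) → r i ≤ r k := by
      rintro i k a _ ⟨t', rfl⟩
      exact ⟨stalkLin (D.map a) x t', by rw [← stalkLin_comp, c.w]⟩
    exact ⟨IsFiltered.max i j, hle (IsFiltered.leftToMax i j), hle (IsFiltered.rightToMax i j)⟩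
  have htop : ⨆ j, r j = ⊤ := by
    have h0 : toSky (⨆ j, r j).mkQ = toSky 0 := by
      refine hc.hom_ext fun j => ?_
      ext U m
      funext h
      change (⨆ j, r j).mkQ (germM c.pt U x h.down ((c.ι.app j).app U m)) = 0
      exact (Submodule.Quotient.mk_eq_zero _).mpr (Submodule.mem_iSup_of_mem j
        ⟨germM _ U x h.down m, stalkLin_germ (c.ι.app j) U x h.down m⟩)
    rw [eq_top_iff]
    intro s _
    obtain ⟨U, hx, m, rfl⟩ := exists_germM_eq c.pt x s
    have : (⨆ j, r j).mkQ (germM c.pt U x hx m) = 0 :=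
      congr_fun (congrArg (fun ψ => Scheme.Modules.Hom.app ψ U m) h0) ⟨hx⟩
    exact (Submodule.Quotient.mk_eq_zero _).mp this
  have : Nonempty J := IsFiltered.nonempty
  exact (Submodule.mem_iSup_of_directed r hd).mp (htop ▸ Submodule.mem_top)

open AlgebraicGeometry CategoryTheory CategoryTheory.Limits in
/-- Take a quasi-compact scheme X, a finite-type quasi-coherent O_X-module F, and G a quasi-coherent
O_X-module which is the colimit of a filtered diagram of quasi-coherent O_X-modules G_j. A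
homomorphism u : G → F is an epimorphism if and only if there is an index j₀ such that for every
index j admitting a map from j₀ the composite G_j → G → F is an epimorphism. -/
theorem result {X : Scheme.{u}} [CompactSpace X]
    {J : Type u} [SmallCategory J] [IsFiltered J] (D : J ⥤ X.Modules) [∀ j, Coh.IsQCoh (D.obj j)]
    (c : Cocone D) (hc : IsColimit c) [Coh.IsQCoh c.pt]
    (F : X.Modules) [Coh.IsQCoh F] (hF : CohB1.IsFT F) (u : c.pt ⟶ F) :
    Epi u ↔ ∃ j₀ : J, ∀ j : J, Nonempty (j₀ ⟶ j) → Epi (c.ι.app j ≫ u) := by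
  classical
  constructor
  · intro _
    have := hF
    have hloc : ∀ x : X, ∃ (j : J) (W : X.Opens), x ∈ W ∧
        ∀ k : J, Nonempty (j ⟶ k) → ∀ y ∈ W, Function.Surjective (stalkLin (c.ι.app k ≫ u) y) := by
      intro x
      obtain ⟨U, hU, hxU, -⟩ := exists_isAffineOpen_mem_and_subset (Opens.mem_top x)
      obtain ⟨s, hs⟩ := (finite_sections_of_isFiniteType F hU).fg_top
      have h1 : ∀ a : s, ∃ (j : J) (V : X.Opens) (h : V ≤ U), x ∈ V ∧
          ∃ m : Γ(D.obj j, V), (c.ι.app j ≫ u).app V m = res F h a.1 := by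
        intro a
        obtain ⟨t, ht⟩ := stalk_surjective u x (germM F U x hxU a.1)
        obtain ⟨j, t', rfl⟩ := exists_stalk_rep hc x t
        rw [← stalkLin_comp] at ht
        obtain ⟨W, hxW, m, rfl⟩ := exists_germM_eq _ x t'
        rw [stalkLin_germ] at ht
        obtain ⟨V, hxV, iW, iU, e⟩ := F.presheaf.germ_eq x hxW hxU _ _ ht
        refine ⟨j, V, leOfHom iU, hxV, res (D.obj j) (leOfHom iW) m, ?_⟩
        rw [app_res]
        exact e
      choose j V hVU hxV m hm using h1
      obtain ⟨j', hj'⟩ := IsFiltered.sup_objs_exists (Finset.univ.image j)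
      refine ⟨j', Finset.univ.inf V ⊓ U, ⟨?_, hxU⟩, ?_⟩
      · suffices ∀ S : Finset s, x ∈ S.inf V from this _
        intro S
        induction S using Finset.cons_induction with
        | empty => simp
        | cons a S _ ih => rw [Finset.inf_cons]; exact ⟨hxV a, ih⟩
      · rintro k ⟨a'⟩ y ⟨hy, hyU⟩
        rw [← LinearMap.range_eq_top, eq_top_iff, ← span_germ F hU hyU _ hs, Submodule.span_le]
        rintro _ ⟨b, hb, rfl⟩
        have hyV : y ∈ V ⟨b, hb⟩ := (Finset.inf_le (Finset.mem_univ (⟨b, hb⟩ : s)) : Finset.univ.inf V ≤ V ⟨b, hb⟩) hy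
        obtain ⟨e'⟩ := hj' (Finset.mem_image_of_mem j (Finset.mem_univ ⟨b, hb⟩))
        refine ⟨stalkLin (D.map (e' ≫ a')) y (germM _ _ y hyV (m ⟨b, hb⟩)), ?_⟩
        rw [← stalkLin_comp, ← Category.assoc, c.w, stalkLin_germ, hm]
        exact F.presheaf.germ_res_apply _ y hyV b
    choose j W hxW hW using hloc
    obtain ⟨T, hT⟩ := isCompact_univ.elim_finite_subcover (fun x : X => (W x : Set X))
      (fun x => (W x).2) fun x _ => Set.mem_iUnion.mpr ⟨x, hxW x⟩
    obtain ⟨j₀, hj₀⟩ := IsFiltered.sup_objs_exists (T.image j)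
    refine ⟨j₀, fun k ⟨a⟩ => epi_of_stalk_surjective _ fun y => ?_⟩
    obtain ⟨x, hx, hy⟩ := Set.mem_iUnion₂.mp (hT (Set.mem_univ y))
    obtain ⟨e⟩ := hj₀ (Finset.mem_image_of_mem j hx)
    exact hW x k ⟨e ≫ a⟩ y hy
  · rintro ⟨j₀, h⟩
    have := h j₀ ⟨𝟙 _⟩
    exact epi_of_epi (c.ι.app j₀) u

end Groth.Agent.S10857
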