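import Groth.Statements.S10859
import Groth.Agent.GrRep86.Sub

set_option autoImplicit false
universe u
open Grass

namespace Groth.Agent.S10859

open AlgebraicGeometry CategoryTheory in
/-- Let R be a commutative ring, v : M₁ → M₂ a surjective homomorphism of R-modules and k a natural
number. Suppose X₁ and X₂ are schemes over Spec R representing the Grassmannian functors of rank-k
locally free quotients of M₁ and of M₂ (bijections e₁, e₂ between Spec R-morphisms Spec A → X_i and
submodules of A ⊗_R M_i with finite projective quotient of constant rank k, compatible with base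
change along R-algebra maps). Then there is a Spec R-morphism c : X₂ → X₁ which on A-valued points
sends a submodule N of A ⊗_R M₂ to its preimage under A ⊗ v, and every such c is a closed immersion.
(The published statement is for a surjection of quasi-coherent modules over an arbitrary base
scheme, where the two Grassmannians are known to be schemes; this row takes the base affine and the
two representing schemes as hypotheses, with no finiteness condition on the modules.) -/
theorem result (R : Type u) [CommRing R]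
    (M₁ M₂ : Type u) [AddCommGroup M₁] [Module R M₁]
    [AddCommGroup M₂] [Module R M₂]
    (v : M₁ →ₗ[R] M₂) (hv : Function.Surjective v) (k : ℕ)
    (X₁ X₂ : Over (Spec (CommRingCat.of R)))
    (e₁ : ∀ A : CommAlgCat.{u} R,
      (Over.mk (Spec.map (CommRingCat.ofHom (algebraMap R A))) ⟶ X₁) ≃
        (Module.Grassmannian.functor (R := R) (M := M₁) k).obj A)
    (he₁ : ∀ (A B : CommAlgCat.{u} R) (φ : A ⟶ B)
      (g : Over.mk (Spec.map (CommRingCat.ofHom (algebraMap R A))) ⟶ X₁)
      (g' : Over.mk (Spec.map (CommRingCat.ofHom (algebraMap R B))) ⟶ X₁),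
      g'.left = Spec.map (CommRingCat.ofHom φ.hom.toRingHom) ≫ g.left →
        e₁ B g' = (Module.Grassmannian.functor (R := R) (M := M₁) k).map φ (e₁ A g))
    (e₂ : ∀ A : CommAlgCat.{u} R,
      (Over.mk (Spec.map (CommRingCat.ofHom (algebraMap R A))) ⟶ X₂) ≃
        (Module.Grassmannian.functor (R := R) (M := M₂) k).obj A)
    (he₂ : ∀ (A B : CommAlgCat.{u} R) (φ : A ⟶ B)
      (g : Over.mk (Spec.map (CommRingCat.ofHom (algebraMap R A))) ⟶ X₂)
      (g' : Over.mk (Spec.map (CommRingCat.ofHom (algebraMap R B))) ⟶ X₂),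
      g'.left = Spec.map (CommRingCat.ofHom φ.hom.toRingHom) ≫ g.left →
        e₂ B g' = (Module.Grassmannian.functor (R := R) (M := M₂) k).map φ (e₂ A g)) :
    (∃ c : X₂ ⟶ X₁, ∀ (A : CommAlgCat.{u} R)
        (g : Over.mk (Spec.map (CommRingCat.ofHom (algebraMap R A))) ⟶ X₂),
        (e₁ A (g ≫ c)).toSubmodule = (e₂ A g).toSubmodule.comap (v.baseChange A)) ∧
      ∀ c : X₂ ⟶ X₁, (∀ (A : CommAlgCat.{u} R)
        (g : Over.mk (Spec.map (CommRingCat.ofHom (algebraMap R A))) ⟶ X₂),
        (e₁ A (g ≫ c)).toSubmodule = (e₂ A g).toSubmodule.comap (v.baseChange A)) →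
        IsClosedImmersion c.left := by
  have hN : Groth.Agent.GrRep86.Natl fun A g => (e₁ A).symm (Groth.Agent.GrRep86.pullG v hv (e₂ A g)) := by
    intro A B φ g g' hgg
    let g₁ := (e₁ A).symm (Groth.Agent.GrRep86.pullG v hv (e₂ A g))
    let g₀ : Groth.Agent.GrRep86.Pts X₁ B := Over.homMk (Spec.map (CommRingCat.ofHom φ.hom.toRingHom) ≫ g₁.left) (by
      show (_ ≫ _) ≫ X₁.hom = _
      rw [Category.assoc, Over.w g₁]
      show _ ≫ Spec.map _ = Spec.map _
      rw [← Spec.map_comp]
      congr 1
      ext c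
      exact φ.hom.commutes c)
    show ((e₁ B).symm (Groth.Agent.GrRep86.pullG v hv (e₂ B g'))).left = g₀.left
    rw [he₂ A B φ g g' hgg]
    have h := he₁ A B φ g₁ g₀ rfl
    rw [Equiv.apply_symm_apply] at h
    refine congrArg CommaMorphism.left ((e₁ B).symm_apply_eq.mpr ?_)
    rw [h]
    exact (Groth.Agent.GrRep86.map_pullG φ.hom v hv (e₂ A g)).symm
  obtain ⟨c₀, hc₀⟩ := Groth.Agent.GrRep86.exists_hom _ hN
  refine ⟨⟨c₀, fun A g => ?_⟩, fun c hc => ?_⟩
  · rw [hc₀, Equiv.apply_symm_apply]
    rfl
  · obtain ⟨Z, i, e', hi, he', hcompat⟩ := Groth.Agent.GrRep86.exists_sub v hv X₁ e₁ he₁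
    obtain ⟨h, hh⟩ := Groth.Agent.GrRep86.exists_iso_of_rep
      (Module.Grassmannian.functor (R := R) (M := M₂) k) e₂ he₂ e' he'
    have hc' : c = h.hom ≫ i := Groth.Agent.GrRep86.hom_ext_pts _ _ fun A g => by
      apply (e₁ A).injective
      rw [← Category.assoc, hcompat, hh]
      exact Module.Grassmannian.ext (hc A g)
    haveI : IsIso h.hom.left := ((Over.forget _).mapIso h).isIso_hom
    haveI := hi
    rw [hc']
    show IsClosedImmersion (h.hom.left ≫ i.left)
    infer_instance

end Groth.Agent.S10859
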