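import Groth.Statements.S1086
import Groth.Agent.FilInjLib.Basic
-- import your own Groth.Agent.* helpers here

set_option autoImplicit false
universe v u
open CategoryTheory CategoryTheory.Limits Opposite
open FilD

namespace Groth.Agent.S1086

set_option backward.isDefEq.respectTransparency.types false

/-- Let φ : X ⟶ Y be a morphism of finite filtered objects of an abelian category and let Ker φ carry
the induced filtration (the kernel computed levelwise). Then φ is strict if and only if for every p
the sequence grᵖ(Ker φ) ⟶ grᵖ X ⟶ grᵖ Y is exact. -/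
theorem result {A : Type u} [Category.{v} A] [Abelian A] {X Y : FilD.FilF A} (φ : X ⟶ Y) :
    FilD.IsStrict φ ↔
      ∀ p : ℤ, ((ShortComplex.mk (kernel.ι φ.hom) φ.hom (kernel.condition φ.hom)).map (FilD.gr A p)).Exact := by
  rw [FilInjLib.strict_iff]
  refine ⟨fun h p => FilInjLib.exact_gr_of_strict (kernel.ι φ.hom) φ _ h (fun p T x hx => ?_) p,
    fun h => FilInjLib.strict_of_exact_gr (kernel.ι φ.hom) φ _ h⟩
  obtain ⟨k, hk⟩ := FilInjLib.kernel_app_lift φ.hom p x hx
  exact ⟨T, 𝟙 T, inferInstance, k, by rw [Category.id_comp, hk]⟩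

end Groth.Agent.S1086
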