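import Groth.Statements.S10860
import Mathlib.AlgebraicGeometry.ZariskisMainTheorem
import Mathlib.AlgebraicGeometry.Morphisms.Finite
import Mathlib.AlgebraicGeometry.Morphisms.QuasiFinite
-- import your own Groth.Agent.* helpers here

set_option autoImplicit false
universe u
open Mor

namespace Groth.Agent.S10860
set_option backward.isDefEq.respectTransparency.types false

open CategoryTheory AlgebraicGeometry in
/-- For a proper morphism f : X → Y, the set V of points of Y with finite fibre is open, and f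
restricted over V is finite (stated as the existence of an open subscheme of Y whose underlying set
is exactly V and over which f is finite). -/
theorem result {X Y : Scheme.{u}} (f : X ⟶ Y) [IsProper f] :
    ∃ U : Y.Opens, (U : Set Y) = {y : Y | (f.base ⁻¹' {y}).Finite} ∧ IsFinite (f ∣_ U) := by
  let V : Set Y.Opens := {V | IsFinite (f ∣_ V)}
  have hU : IsFinite (f ∣_ sSup V) := by
    rw [IsZariskiLocalAtTarget.iff_of_iSup_eq_top (P := @IsFinite.{u})
      (fun W : V => (sSup V).ι ⁻¹ᵁ W.1)]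
    · intro W
      have h : IsFinite (f ∣_ W.1) := W.2
      rw [(MorphismProperty.arrow_mk_iso_iff @IsFinite.{u} (morphismRestrictRestrict f (sSup V)
        ((sSup V).ι ⁻¹ᵁ W.1)))]
      have e : (sSup V).ι ''ᵁ ((sSup V).ι ⁻¹ᵁ W.1) = W.1 := by
        simpa [Scheme.Hom.image_preimage_eq_opensRange_inf] using le_sSup W.2
      rwa [e]
    · refine top_le_iff.mp fun x _ => ?_
      obtain ⟨W, hW, hxW⟩ := TopologicalSpace.Opens.mem_sSup.mp x.2
      exact TopologicalSpace.Opens.mem_iSup.mpr ⟨⟨W, hW⟩, hxW⟩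
  refine ⟨sSup V, ?_, hU⟩
  ext y
  refine ⟨fun hy => ?_, fun hy => ?_⟩
  · have h1 := (f ∣_ sSup V).finite_preimage_singleton ⟨y, hy⟩
    refine Set.Finite.subset (h1.image (f ⁻¹ᵁ sSup V).ι.base) ?_
    intro x hx
    have hxU : x ∈ f ⁻¹ᵁ sSup V := by show f.base x ∈ sSup V; rw [hx]; exact hy
    exact ⟨⟨x, hxU⟩, Subtype.ext ((congrArg (fun ψ : (f ⁻¹ᵁ sSup V : Scheme.{u}) ⟶ Y => ψ ⟨x, hxU⟩)
      (morphismRestrict_ι f (sSup V))).trans hx), rfl⟩
  · obtain ⟨W, hyW, hW⟩ := exists_isFinite_morphismRestrict_of_finite_preimage_singleton f y hy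
    exact TopologicalSpace.Opens.mem_sSup.mpr ⟨W, hW, hyW⟩

end Groth.Agent.S10860
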