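import Groth.Statements.S10863
import Mathlib.FieldTheory.SeparableDegree
import Mathlib.RingTheory.Artinian.Module
import Mathlib.RingTheory.LocalRing.ResidueField.Ideal
import Mathlib.RingTheory.TensorProduct.Finite
import Mathlib.FieldTheory.IsAlgClosed.AlgebraicClosure

set_option autoImplicit false
universe u
open CAlg

namespace Groth.Agent.S10863

/-- Embeddings of a residue field are the homomorphisms with the given kernel. -/
theorem card_fibre {F B C Ω : Type u} [Field F] [CommRing B] [Algebra F B] [Module.Finite F B] [Field C]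
    [Algebra F C] [Field Ω] [Algebra F Ω] [IsAlgClosed Ω] (π : B →ₐ[F] C) (hπ : Function.Surjective π)
    (m : Ideal B) (hm : RingHom.ker π.toRingHom = m) :
    Finite {f : B →ₐ[F] Ω // RingHom.ker f.toRingHom = m} ∧
      Field.finSepDegree F C = Nat.card {f : B →ₐ[F] Ω // RingHom.ker f.toRingHom = m} := by
  have : Module.Finite F C := Module.Finite.of_surjective π.toLinearMap hπ
  let φ : (C →ₐ[F] Ω) → {f : B →ₐ[F] Ω // RingHom.ker f.toRingHom = m} := fun g => ⟨g.comp π, by
    rw [← hm]
    ext x
    simp [RingHom.mem_ker]⟩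
  have hφ : Function.Bijective φ := by
    refine ⟨fun g g' h => AlgHom.ext fun c => ?_, fun f => ?_⟩
    · obtain ⟨b, rfl⟩ := hπ c
      exact DFunLike.congr_fun (congrArg Subtype.val h) b
    · refine ⟨AlgHom.liftOfSurjective π hπ f.1 (le_of_eq (hm.trans f.2.symm)), Subtype.ext ?_⟩
      exact AlgHom.liftOfSurjective_comp _ _ _ _
  exact ⟨Finite.of_surjective φ hφ.2,
    (Field.finSepDegree_eq_of_isAlgClosed F C Ω).trans (Nat.card_congr (Equiv.ofBijective φ hφ))⟩

open TensorProduct in
/-- Let k be a field, A a finite-dimensional local k-algebra with residue field κ, and k' a field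
extension of k. Then the separable degree of κ over k equals the sum over the maximal ideals m' of
k' ⊗_k A (the points of the base-changed finite scheme lying over the given point) of the separable
degrees over k' of their residue fields. -/
theorem result (k A k' : Type u) [Field k] [CommRing A] [Algebra k A]
    [Module.Finite k A] [IsLocalRing A] [Field k'] [Algebra k k'] :
    Field.finSepDegree k (IsLocalRing.ResidueField A) =
      ∑ᶠ m : MaximalSpectrum (k' ⊗[k] A),
        Field.finSepDegree k' (IsLocalRing.ResidueField (Localization.AtPrime m.asIdeal)) := by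
  classical
  let Ω := AlgebraicClosure k'
  have : IsArtinianRing A := isArtinian_of_tower k inferInstance
  have : IsArtinianRing (k' ⊗[k] A) := isArtinian_of_tower k' inferInstance
  let π : A →ₐ[k] IsLocalRing.ResidueField A := IsScalarTower.toAlgHom k A _
  obtain ⟨-, h0⟩ := card_fibre (Ω := Ω) π IsLocalRing.residue_surjective (IsLocalRing.maximalIdeal A)
    IsLocalRing.ker_residue
  have hall : ∀ f : A →ₐ[k] Ω, RingHom.ker f.toRingHom = IsLocalRing.maximalIdeal A := fun f =>
    have := RingHom.ker_isPrime f.toRingHom; IsLocalRing.eq_maximalIdeal (IsArtinianRing.isMaximal_of_isPrime _)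
  rw [h0, Nat.card_congr (Equiv.subtypeUnivEquiv hall)]
  let e : (A →ₐ[k] Ω) ≃ (k' ⊗[k] A →ₐ[k'] Ω) :=
    { toFun := fun f => Algebra.TensorProduct.lift (Algebra.ofId k' Ω) f fun _ _ => Commute.all _ _
      invFun := fun g => (g.restrictScalars k).comp Algebra.TensorProduct.includeRight
      left_inv := fun f => AlgHom.ext fun a => by simp
      right_inv := fun g => Algebra.TensorProduct.ext (Subsingleton.elim _ _) (AlgHom.ext fun a => by simp) }
  rw [Nat.card_congr e]
  have : Fintype (MaximalSpectrum (k' ⊗[k] A)) := Fintype.ofFinite _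
  let ker : (k' ⊗[k] A →ₐ[k'] Ω) → MaximalSpectrum (k' ⊗[k] A) := fun f =>
    ⟨RingHom.ker f.toRingHom, have := RingHom.ker_isPrime f.toRingHom; IsArtinianRing.isMaximal_of_isPrime _⟩
  have hfib : ∀ m : MaximalSpectrum (k' ⊗[k] A),
      Finite {f // ker f = m} ∧
        Field.finSepDegree k' (IsLocalRing.ResidueField (Localization.AtPrime m.asIdeal)) = Nat.card {f // ker f = m} := fun m => by
    obtain ⟨hfin, h⟩ := card_fibre (Ω := Ω) (IsScalarTower.toAlgHom k' (k' ⊗[k] A) m.asIdeal.ResidueField)
      (fun x => by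
        obtain ⟨y, hy⟩ := (Ideal.bijective_algebraMap_quotient_residueField m.asIdeal).2 x
        obtain ⟨z, rfl⟩ := Ideal.Quotient.mk_surjective y
        exact ⟨z, hy⟩)
      m.asIdeal (Ideal.ker_algebraMap_residueField m.asIdeal)
    let e2 : {f // ker f = m} ≃ {f : k' ⊗[k] A →ₐ[k'] Ω // RingHom.ker f.toRingHom = m.asIdeal} :=
      Equiv.subtypeEquivRight fun f => ⟨fun h => h ▸ rfl, fun h => MaximalSpectrum.ext h⟩
    exact ⟨Finite.of_equiv _ e2.symm, h.trans (Nat.card_congr e2.symm)⟩
  have := fun m => (hfib m).1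
  rw [finsum_eq_sum_of_fintype, ← Nat.card_congr (Equiv.sigmaFiberEquiv ker), Nat.card_sigma]
  exact Finset.sum_congr rfl fun m _ => (hfib m).2.symm


end Groth.Agent.S10863
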