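import Groth.Statements.S10864
import Groth.Agent.ProjFin.Main

set_option autoImplicit false
universe u
open Variety

namespace Groth.Agent.S10864

open CategoryTheory AlgebraicGeometry in
/-- Let k be an infinite field and X a closed subscheme of projective n-space over k, of dimension d
(topological Krull dimension, a natural number). Then there is a finite surjective morphism X →
P^d_k over k. -/
theorem result (k : Type u) [Field k] [Infinite k] (X : Scheme.{u})
    (n : ℕ) (ι : X ⟶ CohB1.ProjSpace n k) [IsClosedImmersion ι] (d : ℕ) (hd : topologicalKrullDim X = d) :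
    ∃ π : X ⟶ CohB1.ProjSpace d k, π ≫ CohB1.ProjSpace.toSpec d k = ι ≫ CohB1.ProjSpace.toSpec n k ∧
      IsFinite π ∧ Surjective π := by
  haveI := Groth.Agent.ProjProper.Basic.isProper_toSpec n k
  let f := ι ≫ CohB1.ProjSpace.toSpec n k
  haveI : IsLocallyNoetherian X := LocallyOfFiniteType.isLocallyNoetherian f
  haveI : CompactSpace X := QuasiCompact.compactSpace_of_compactSpace f
  haveI : IsNoetherian X := {}
  obtain ⟨a, ha⟩ := Groth.Agent.ProjFin.exists_forms ι (d + 1) ⊤ fun x _ => by
    have e : topologicalKrullDim X = Order.krullDim X := Order.krullDim_eq_of_orderIso irreducibleSetEquivPoints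
    have h := Order.height_le_krullDim x
    rw [← e, hd] at h
    exact (WithBot.coe_le_coe.1 h).trans_lt (by exact_mod_cast Nat.lt_succ_self d)
  obtain ⟨π, hπ, hfin⟩ := Groth.Agent.ProjFin.exists_projection ι a fun x => ha x trivial
  exact ⟨π, hπ, hfin, Groth.Agent.ProjFin.surjective_of_isFinite π hd.ge⟩

end Groth.Agent.S10864
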