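import Groth.Statements.S10865
import Groth.Agent.CohDev.AR

set_option autoImplicit false
universe u
open Coherent

namespace Groth.Agent.S10865

open Groth.Agent.CohDev Groth.Agent.PullStalk.Exact

open CategoryTheory CategoryTheory.Limits AlgebraicGeometry in
/-- Let X be a nonempty Noetherian scheme and K an isomorphism-closed class of O_X-modules such that (a)
in a short exact sequence of coherent modules, if the middle and right terms lie in K so does the
left one, and if the two outer terms lie in K so does the middle one; (b) if a coherent F has some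
d-fold direct sum (d ≥ 1) in K then F lies in K. If for every integral closed subscheme i : Z → X
there is a coherent O_Z-module with nonzero stalk at the generic point whose direct image under i
lies in K, then every coherent O_X-module lies in K. (For the empty scheme the hypotheses hold for
the empty class, so X is taken nonempty here.) -/
theorem result (X : Scheme.{u}) [IsNoetherian X] [Nonempty X]
    (K : ObjectProperty X.Modules) [K.IsClosedUnderIsomorphisms]
    (ha : ∀ S : ShortComplex X.Modules, S.ShortExact → Coh.IsCoh S.X₁ → Coh.IsCoh S.X₂ → Coh.IsCoh S.X₃ →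
      (K S.X₂ → K S.X₃ → K S.X₁) ∧ (K S.X₁ → K S.X₃ → K S.X₂))
    (hb : ∀ (F : X.Modules) (d : ℕ), 1 ≤ d → Coh.IsCoh F → K (∐ fun _ : Fin d => F) → K F)
    (hgen : ∀ (Z : Scheme.{u}) (i : Z ⟶ X) [IsClosedImmersion i] [IsIntegral Z],
      ∃ H : Z.Modules, Coh.IsCoh H ∧ Nontrivial (H.presheaf.stalk (genericPoint Z)) ∧
        K ((Scheme.Modules.pushforward i).obj H))
    (F : X.Modules) (hF : Coh.IsCoh F) : K F := by
  have hiso : ∀ M N : X.Modules, Nonempty (M ≅ N) → K M → K N := fun M N ⟨e⟩ h => K.prop_of_iso e h
  have hmodel : ∀ x : X, ∃ G : X.Modules, Coh.IsCoh G ∧ CohB1.support G ⊆ closure {x} ∧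
      x ∈ CohB1.support G ∧ Killed (IntMult.ptIdeal x) G ∧ K G := fun x => by
    haveI : IsIntegral (IntMult.ptIdeal x).subscheme :=
      S16188.isIntegral_subscheme _ isIrreducible_singleton.closure
    let i := (IntMult.ptIdeal x).subschemeι
    obtain ⟨H, hH, hnt, hK⟩ := hgen _ i
    haveI : H.IsQuasicoherent := hH.1
    have hk : Killed (IntMult.ptIdeal x) ((Scheme.Modules.pushforward i).obj H) := fun V a ha m => by
      rw [← (IntMult.ptIdeal x).ker_subschemeι_app V, RingHom.mem_ker] at ha
      change (show Γ(H, i ⁻¹ᵁ V.1) from i.app V.1 a • (show Γ(H, i ⁻¹ᵁ V.1) from m)) = 0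
      rw [ha, zero_smul]
    have hx : i (genericPoint (IntMult.ptIdeal x).subscheme) = x := by
      have h := (genericPoint_spec (IntMult.ptIdeal x).subscheme).image i.continuous
      rw [Set.image_univ, Scheme.IdealSheafData.range_subschemeι, coe_support_ptIdeal,
        closure_closure] at h
      exact h.eq (isGenericPoint_closure (x := x))
    refine ⟨_, CycLib.isCoh_push H i hH, (support_subset_of_killed hk).trans (coe_support_ptIdeal x).le,
      ?_, hk, hK⟩
    have hb := ClUnit.stalkPushforward_bijective i H i.isClosedEmbedding.isInducing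
      (genericPoint (IntMult.ptIdeal x).subscheme)
    have hmem : i (genericPoint (IntMult.ptIdeal x).subscheme) ∈
        CohB1.support ((Scheme.Modules.pushforward i).obj H) := fun hs => by
      haveI := hs
      exact not_subsingleton_iff_nontrivial.mpr hnt (@Function.Surjective.subsingleton _ _ _ hs hb.2)
    rwa [hx] at hmem
  have h0 : ∀ M : X.Modules, IsZero M → K M := fun M hM => by
    obtain ⟨G, hG, -, -, -, hPG⟩ := hmodel (Classical.arbitrary X)
    let S := ShortComplex.mk (0 : M ⟶ G) (𝟙 G) (Category.comp_id _)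
    exact (ha S { exact := by
                    haveI : Mono S.g := inferInstanceAs (Mono (𝟙 G))
                    exact (S.exact_iff_mono rfl).mpr this
                  mono_f := ⟨fun _ _ _ => hM.eq_of_tgt _ _⟩
                  epi_g := inferInstanceAs (Epi (𝟙 G)) }
      (isCoh_of_isZero hM) hG hG).1 hPG hPG
  refine devissage_ext isClosed_univ h0 (fun S hS a b c _ => (ha S hS a b c).2)
    (fun x _ J hJ hsmall => ?_) hF (Set.subset_univ _)
  obtain ⟨G, hG, hGs, hxG, hGk, hPG⟩ := hmodel x
  refine piece_of_model_ext (T := Set.univ) (Set.subset_univ _) (fun S hS a b c _ => (ha S hS a b c).2) hiso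
    (fun M d hM hd => hb M d hd hM) hsmall hG hGs hxG
    (fun a h m => smul_stalk_of_killed hG.1 hGk h m) (fun I hI => ?_) hJ
  let u := (Scheme.Modules.pullbackPushforwardAdjunction I.subschemeι).unit.app G
  have hp := (ZClosLib.CohDescent.isCoh_pullback I.subschemeι G hG)
  haveI := hp.1
  have hT := CycLib.isCoh_push _ I.subschemeι hp
  obtain ⟨Q, p, q, w₁, w₂, hQ, hS₁, hS₂⟩ := exists_image u hG hT
  haveI := hS₁.epi_g
  haveI := hS₂.mono_f
  have hxQ : x ∉ CohB1.support Q := fun h => by
    have h1 := support_subset_of_mono q h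
    refine h1 (ClUnit.subsingleton_stalk_pushforward I.subschemeι _ x
      ⟨(Set.range I.subschemeι)ᶜ, I.subschemeι.isClosedEmbedding.isClosed_range.isOpen_compl⟩ ?_
      (le_bot_iff.mp fun z hz => hz ⟨z, rfl⟩))
    change x ∈ (Set.range I.subschemeι)ᶜ
    rw [Scheme.IdealSheafData.range_subschemeι]
    exact hI
  refine ⟨_, 𝟙 _, inferInstance, isCoh_idealMul I hG, ?_,
    (ha _ hS₁ (isCoh_idealMul I hG) hG hQ).1 hPG
      (hsmall Q hQ ((support_subset_of_epi p).trans hGs) hxQ)⟩
  rw [Category.id_comp]
  obtain ⟨hinj, hex, -⟩ := stalk_exact hS₁ x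
  refine ⟨hinj, fun t => (hex t).mp ?_⟩
  have : Subsingleton (Q.presheaf.stalk x) := not_not.mp hxQ
  exact Subsingleton.elim _ _

end Groth.Agent.S10865
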