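import Groth.Statements.S10866
import Groth.Agent.S10865
import Groth.Agent.QCoh.Qcqs
-- import your own Groth.Agent.* helpers here

set_option autoImplicit false
universe u
open Coherent

namespace Groth.Agent.S10866

open Groth.Agent.CohDev CategoryTheory CategoryTheory.Limits AlgebraicGeometry

open CategoryTheory AlgebraicGeometry in
/-- Let f : X → Y be a morphism of Noetherian schemes such that for every integral closed subscheme i :
Z → X there is a coherent O_Z-module with nonzero stalk at the generic point of Z whose direct image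
under i followed by f is coherent on Y. Then the direct image f_*F of every coherent O_X-module F is
coherent. -/
theorem result {X Y : Scheme.{u}} [IsNoetherian X] [IsNoetherian Y]
    (f : X ⟶ Y)
    (hgen : ∀ (Z : Scheme.{u}) (i : Z ⟶ X) [IsClosedImmersion i] [IsIntegral Z],
      ∃ H : Z.Modules, Coh.IsCoh H ∧ Nontrivial (H.presheaf.stalk (genericPoint Z)) ∧
        Coh.IsCoh ((Scheme.Modules.pushforward (i ≫ f)).obj H))
    (F : X.Modules) (hF : Coh.IsCoh F) : Coh.IsCoh ((Scheme.Modules.pushforward f).obj F) := by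
  let P := Scheme.Modules.pushforward f
  haveI : PreservesLimitsOfSize.{0, 0} P := (Scheme.Modules.pullbackPushforwardAdjunction f).rightAdjoint_preservesLimits
  haveI : PreservesFiniteLimits P := PreservesLimitsOfSize.preservesFiniteLimits P
  have hq : ∀ A : X.Modules, Coh.IsCoh A → Coh.IsQCoh (P.obj A) := fun A hA => by
    haveI := hA.1
    exact QCoh.isQuasicoherent_pushforward f A
  rcases isEmpty_or_nonempty X with hX | hX
  · exact isCoh_of_isZero (P.map_isZero (isZero_of_support_eq_empty (Set.eq_empty_of_isEmpty _)))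
  let K : ObjectProperty X.Modules := fun A => Coh.IsCoh (P.obj A)
  haveI : K.IsClosedUnderIsomorphisms := ⟨fun e h => isCoh_of_iso (P.mapIso e) h⟩
  refine S10865.result X K (fun S hS h₁ h₂ h₃ => ⟨fun k₂ _ => ?_, fun k₁ k₃ => ?_⟩)
    (fun G d hd hG k => ?_) (fun Z i _ _ => ?_) F hF
  · haveI := hS.mono_f
    exact isCoh_of_mono (P.map S.f) (hq _ h₁) k₂
  · haveI := hS.mono_f
    have hex : (S.map P).Exact := (((Functor.preservesFiniteLimits_tfae P).out 3 0 :).mp (by infer_instance : PreservesFiniteLimits P) S hS).1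
    have hI : Coh.IsCoh (Abelian.image (P.map S.g)) :=
      isCoh_of_mono (Abelian.image.ι (P.map S.g))
        (@QCoh.isQuasicoherent_image Y _ _ _ (hq _ h₂) (hq _ h₃)) k₃
    haveI : Mono (S.map P).f := inferInstanceAs (Mono (P.map S.f))
    let T : ShortComplex Y.Modules := ShortComplex.mk (P.map S.f) (Abelian.factorThruImage (P.map S.g)) (by
      rw [← cancel_mono (Abelian.image.ι (P.map S.g)), Category.assoc, Abelian.image.fac, zero_comp,
        ← P.map_comp, S.zero, P.map_zero])
    let φ : T ⟶ S.map P :=
      { τ₁ := 𝟙 _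
        τ₂ := 𝟙 _
        τ₃ := Abelian.image.ι (P.map S.g)
        comm₁₂ := (Category.id_comp _).trans (Category.comp_id _).symm
        comm₂₃ := (Category.id_comp _).trans (Abelian.image.fac _).symm }
    haveI : Epi φ.τ₁ := inferInstanceAs (Epi (𝟙 _))
    haveI : IsIso φ.τ₂ := inferInstanceAs (IsIso (𝟙 _))
    haveI : Mono φ.τ₃ := inferInstanceAs (Mono (kernel.ι (cokernel.π (P.map S.g))))
    exact isCoh_of_shortExact (S := T)
      { exact := (ShortComplex.exact_iff_of_epi_of_isIso_of_mono φ).mpr hex
        mono_f := inferInstanceAs (Mono (P.map S.f))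
        epi_g := inferInstanceAs (Epi (Abelian.factorThruImage _)) } k₁ hI
  · haveI := hd
    exact isCoh_of_mono (P.map (Sigma.ι (fun _ : Fin d => G) ⟨0, hd⟩)) (hq _ hG) k
  · obtain ⟨H, hH, hnt, hk⟩ := hgen Z i
    exact ⟨H, hH, hnt, isCoh_of_iso ((Scheme.Modules.pushforwardComp i f).app H).symm hk⟩

end Groth.Agent.S10866
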