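import Groth.Statements.S10867
import Mathlib.AlgebraicGeometry.AlgClosed.Basic
import Mathlib.AlgebraicGeometry.ZariskisMainTheorem
import Mathlib.AlgebraicGeometry.Morphisms.FormallyUnramified
import Mathlib.AlgebraicGeometry.Morphisms.Proper
import Groth.Agent.UnramFib.Basic
-- import your own Groth.Agent.* helpers here

set_option autoImplicit false
universe u
open Mor

namespace Groth.Agent.S10867
set_option backward.isDefEq.respectTransparency.types false

section
open CategoryTheory CategoryTheory.Limits AlgebraicGeometry IsLocalRing TopologicalSpace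

variable {k : Type u} [Field k] [IsAlgClosed k] {X Y : Scheme.{u}} (f : X ⟶ Y)
  (q : Y ⟶ Spec (CommRingCat.of k)) [hq : LocallyOfFiniteType q] [hfq : LocallyOfFiniteType (f ≫ q)] [IsProper f]

omit [IsAlgClosed k] in
lemma isClosed_image {Z : Scheme.{u}} (g : Z ⟶ Y) [UniversallyClosed g] (x : Z)
    (hx : IsClosed ({x} : Set Z)) : IsClosed ({g x} : Set Y) := by
  rw [← Set.image_singleton]
  exact g.isClosedMap _ hx

include q hq hfq in
lemma residueFieldMap_bijective (x : X) (hx : IsClosed ({x} : Set X)) :
    Function.Bijective (f.residueFieldMap x) := by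
  have hy : IsClosed ({f x} : Set Y) := isClosed_image f x hx
  have e : (residueFieldIsoBase q (f x) hy).inv ≫ f.residueFieldMap x =
      (residueFieldIsoBase (f ≫ q) x hx).inv := by
    apply Spec.map_injective
    rw [Spec.map_comp, SpecMap_residueFieldIsoBase_inv, SpecMap_residueFieldIsoBase_inv,
      Scheme.Hom.SpecMap_residueFieldMap_fromSpecResidueField_assoc]
  have : IsIso ((residueFieldIsoBase q (f x) hy).inv ≫ f.residueFieldMap x) := by
    rw [e]; infer_instance
  have : IsIso (f.residueFieldMap x) := IsIso.of_isIso_comp_left (residueFieldIsoBase q (f x) hy).inv _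
  exact ConcreteCategory.bijective_of_isIso _

include q hq hfq in
lemma formallyUnramified_stalk (x : X) (hx : IsClosed ({x} : Set X))
    (hT : Ideal.map (f.stalkMap x).hom (maximalIdeal (Y.presheaf.stalk (f x))) ⊔
      maximalIdeal (X.presheaf.stalk x) ^ 2 = maximalIdeal (X.presheaf.stalk x)) :
    (f.stalkMap x).hom.FormallyUnramified := by
  have hres := residueFieldMap_bijective f q x hx
  haveI : IsLocallyNoetherian X := LocallyOfFiniteType.isLocallyNoetherian (f ≫ q)
  algebraize [(f.stalkMap x).hom]
  let R := Y.presheaf.stalk (f x)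
  let S := X.presheaf.stalk x
  have : IsLocalHom (algebraMap R S) := inferInstanceAs <| IsLocalHom (f.stalkMap x).hom
  have : Algebra.EssFiniteType R S := by
    rw [← RingHom.essFiniteType_algebraMap, RingHom.algebraMap_toAlgebra]
    exact LocallyOfFiniteType.stalkMap f x
  refine Algebra.FormallyUnramified.iff_map_maximalIdeal_eq.mpr ⟨⟨fun s => ?_⟩, ?_⟩
  · obtain ⟨(r : ResidueField R), hr⟩ := hres.2 s
    have : s = algebraMap (ResidueField R) (ResidueField S) r := by
      rw [← hr]
      obtain ⟨r, rfl⟩ := IsLocalRing.residue_surjective r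
      rfl
    rw [this]
    exact isSeparable_algebraMap r
  · refine le_antisymm (le_sup_left.trans hT.le) ?_
    refine Submodule.le_of_le_smul_of_le_jacobson_bot (IsNoetherian.noetherian _)
      (IsLocalRing.maximalIdeal_le_jacobson (⊥ : Ideal S)) ?_
    rw [smul_eq_mul, ← pow_two]
    exact hT.ge

include q hq hfq in
theorem isClosedImmersion_aux
    (hinj : Set.InjOn f.base {x : X | IsClosed ({x} : Set X)})
    (hT : ∀ x : X, IsClosed ({x} : Set X) →
      Ideal.map (f.stalkMap x).hom (maximalIdeal (Y.presheaf.stalk (f x))) ⊔
        maximalIdeal (X.presheaf.stalk x) ^ 2 = maximalIdeal (X.presheaf.stalk x)) :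
    IsClosedImmersion f := by
  haveI : JacobsonSpace X := LocallyOfFiniteType.jacobsonSpace (f ≫ q)
  haveI hur : FormallyUnramified f := by
    refine IsZariskiLocalAtSource.of_iSup_eq_top (P := @FormallyUnramified.{u})
      (fun x : {x : X // IsClosed ({x} : Set X)} => Classical.choose
        ((EtStruct.formallyUnramified_nhd_iff f x.1).mpr (formallyUnramified_stalk f q x.1 x.2 (hT x.1 x.2))))
      ?_ fun x => (Classical.choose_spec
        ((EtStruct.formallyUnramified_nhd_iff f x.1).mpr (formallyUnramified_stalk f q x.1 x.2 (hT x.1 x.2)))).2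
    by_contra hne
    set U : X.Opens := ⨆ x : {x : X // IsClosed ({x} : Set X)}, Classical.choose
      ((EtStruct.formallyUnramified_nhd_iff f x.1).mpr (formallyUnramified_stalk f q x.1 x.2 (hT x.1 x.2))) with hU
    have hne' : ((U : Set X)ᶜ).Nonempty := Set.nonempty_compl.mpr fun h => hne (Opens.ext h)
    obtain ⟨x, hxU, hx⟩ := nonempty_inter_closedPoints hne' U.isOpen.isClosed_compl.isLocallyClosed
    exact hxU (Opens.mem_iSup.mpr ⟨⟨x, hx⟩, (Classical.choose_spec
      ((EtStruct.formallyUnramified_nhd_iff f x).mpr (formallyUnramified_stalk f q x hx (hT x hx)))).1⟩)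
  let h : pullback f f ⟶ Spec (CommRingCat.of k) := pullback.fst f f ≫ f ≫ q
  haveI : LocallyOfFiniteType h := inferInstance
  haveI : JacobsonSpace ↥(pullback f f) := LocallyOfFiniteType.jacobsonSpace h
  haveI hs : Surjective (pullback.diagonal f) := by
    refine ⟨?_⟩
    rw [← Set.range_eq_univ]
    by_contra hne
    obtain ⟨z, hzr, hz⟩ := nonempty_inter_closedPoints (Set.nonempty_compl.mpr hne)
      (pullback.diagonal f).isClosedEmbedding.isClosed_range.isOpen_compl.isLocallyClosed
    let a := pointOfClosedPoint h z hz
    have ha : a ≫ h = 𝟙 _ := pointOfClosedPoint_comp h z hz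
    have h1 : (a ≫ pullback.fst f f) ≫ f ≫ q = 𝟙 _ := by rw [Category.assoc]; exact ha
    have h2 : (a ≫ pullback.snd f f) ≫ f ≫ q = 𝟙 _ := by
      rw [← h1]; simp only [Category.assoc, pullback.condition_assoc]
    have hc1 : IsClosed ({pullback.fst f f z} : Set X) := by
      rw [← Set.image_singleton]; exact (pullback.fst f f).isClosedMap _ hz
    have hc2 : IsClosed ({pullback.snd f f z} : Set X) := by
      rw [← Set.image_singleton]; exact (pullback.snd f f).isClosedMap _ hz
    have hx : pullback.fst f f z = pullback.snd f f z := hinj hc1 hc2 (by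
      show f (pullback.fst f f z) = f (pullback.snd f f z)
      rw [← Scheme.Hom.comp_apply, ← Scheme.Hom.comp_apply, pullback.condition])
    have hfs : a ≫ pullback.fst f f = a ≫ pullback.snd f f :=
      ext_of_apply_closedPoint_eq (f ≫ q) h1 h2 (by
        rw [Scheme.Hom.comp_apply, Scheme.Hom.comp_apply, pointOfClosedPoint_apply]; exact hx)
    have hd : a = (a ≫ pullback.fst f f) ≫ pullback.diagonal f := by
      apply pullback.hom_ext <;> simp [pullback.diagonal, hfs, pullback.lift_fst, pullback.lift_snd]
    apply hzr
    refine ⟨(a ≫ pullback.fst f f) (IsLocalRing.closedPoint k), ?_⟩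
    rw [← Scheme.Hom.comp_apply, ← hd]
    exact pointOfClosedPoint_apply h z hz _
  have : IsIso (pullback.diagonal f) := by
    haveI : Epi (pullback.diagonal f).base := (TopCat.epi_iff_surjective _).mpr hs.surj
    exact (isIso_iff_isOpenImmersion_and_surjective _).mpr ⟨inferInstance, hs⟩
  have : Mono f := (pullback.isIso_diagonal_iff f).mp this
  exact (IsClosedImmersion.iff_isProper_and_mono f).mpr ⟨inferInstance, this⟩

end

open CategoryTheory AlgebraicGeometry in
/-- In the case of an algebraically closed base field k and K = k: let X, Y be k-schemes of finite type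
and f : X → Y a proper k-morphism which is injective on closed points and such that for every closed
point x of X the ideal generated by the image of the maximal ideal of the local ring at f(x),
together with the square of the maximal ideal at x, is the whole maximal ideal at x (the cotangent
map is surjective, i.e. the tangent map at x is injective). Then f is a closed immersion. (The
published statement allows any field k and tests points and tangent spaces with values in an
algebraically closed extension K of k; this row is the case K = k.) -/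
theorem result (k : Type u) [Field k] [IsAlgClosed k]
    {X Y : Scheme.{u}} (f : X ⟶ Y) (q : Y ⟶ Spec (CommRingCat.of k)) [LocallyOfFiniteType q] [QuasiCompact q]
    [LocallyOfFiniteType (f ≫ q)] [IsProper f]
    (hinj : Set.InjOn f.base {x : X | IsClosed ({x} : Set X)})
    (hT : ∀ x : X, IsClosed ({x} : Set X) →
      Ideal.map (f.stalkMap x).hom (IsLocalRing.maximalIdeal (Y.presheaf.stalk (f.base x))) ⊔
        IsLocalRing.maximalIdeal (X.presheaf.stalk x) ^ 2 = IsLocalRing.maximalIdeal (X.presheaf.stalk x)) :
    IsClosedImmersion f := by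
  exact isClosedImmersion_aux f q hinj hT

end Groth.Agent.S10867
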