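import Groth.Statements.S10868
import Mathlib.AlgebraicGeometry.QuasiAffine
import Mathlib.AlgebraicGeometry.Morphisms.Proper
import Mathlib.AlgebraicGeometry.Morphisms.Finite
-- import your own Groth.Agent.* helpers here

set_option autoImplicit false
universe u
open Mor

namespace Groth.Agent.S10868

open CategoryTheory AlgebraicGeometry in
/-- f : X → Y is a finite morphism exactly when it is proper and quasi-affine (quasi-compact, with the
inverse image of every affine open subscheme of Y a quasi-affine scheme). -/
theorem result {X Y : Scheme.{u}} (f : X ⟶ Y) :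
    IsFinite f ↔ IsProper f ∧ Mor2.IsQuasiAffine f := by
  refine ⟨fun h => ⟨inferInstance, inferInstance, fun V hV => ?_⟩, fun ⟨h, hq, hqa⟩ => ?_⟩
  · have : IsAffine (f ⁻¹ᵁ V : Scheme.{u}) := hV.preimage f
    infer_instance
  · have : IsAffineHom f := by
      constructor
      intro V hV
      have := hqa V hV
      have : IsAffine (V : Scheme.{u}) := hV
      show IsAffine (f ⁻¹ᵁ V : Scheme.{u})
      have huc : UniversallyClosed (((f ⁻¹ᵁ V : Scheme.{u}).toSpecΓ ≫ Spec.map (f ∣_ V).appTop) ≫
          (V : Scheme.{u}).isoSpec.inv) := by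
        rw [← Scheme.toSpecΓ_naturality, ← Scheme.isoSpec_hom, Category.assoc, Iso.hom_inv_id,
          Category.comp_id]
        infer_instance
      have : UniversallyClosed (f ⁻¹ᵁ V : Scheme.{u}).toSpecΓ := by
        rw [Category.assoc] at huc
        exact UniversallyClosed.of_comp_of_isSeparated _
          (Spec.map (f ∣_ V).appTop ≫ (V : Scheme.{u}).isoSpec.inv)
      have : IsClosedImmersion (f ⁻¹ᵁ V : Scheme.{u}).toSpecΓ :=
        .of_isPreimmersion _ (f ⁻¹ᵁ V : Scheme.{u}).toSpecΓ.isClosedMap.isClosed_range
      exact isAffine_of_isAffineHom (f ⁻¹ᵁ V : Scheme.{u}).toSpecΓ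
    exact IsFinite.iff_isProper_and_isAffineHom.mpr ⟨h, inferInstance⟩

end Groth.Agent.S10868
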