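import Groth.Statements.S10869
import Mathlib
import Groth.Agent.AmpleLib.Counit
import Groth.Agent.QCoh.Qcqs

set_option autoImplicit false
universe u
open Coh

namespace Groth.Agent.S10869

open CategoryTheory AlgebraicGeometry Groth.Agent.QCoh Groth.Agent.Props.GenLocus Groth.Agent.AmpleLib

/-- `F` generated on `U` by its sections over `U` gives global generation of the restriction. -/
theorem gg_restrict_of_span {X : Scheme.{u}} (F : X.Modules) (U : X.Opens)
    (h : ∀ (W : X.Opens) (m : Γ(F, W)) (x : X) (hxW : x ∈ W) (hxU : x ∈ U),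
      ∃ (P : X.Opens) (hP : P ≤ W) (hPU : P ≤ U), x ∈ P ∧
        res F hP m ∈ Submodule.span Γ(X, P) (Set.range fun σ : Γ(F, U) ↦ res F hPU σ)) :
    Curv2.IsGloballyGenerated (F.restrict U.ι) := by
  refine isGloballyGenerated_of_local fun V m x hxV => ?_
  obtain ⟨P, hP, hPU, hxP, hspan⟩ := h (U.ι ''ᵁ V) m x.1 ⟨x, hxV, rfl⟩ x.2
  let W : U.toScheme.Opens := U.ι ⁻¹ᵁ P
  have hWV : W ≤ V := by
    intro y hy
    obtain ⟨z, hz, hzy⟩ := hP hy
    rwa [← Subtype.ext hzy]
  refine ⟨W, hWV, hxP, ?_⟩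
  have hWP : U.ι ''ᵁ W ≤ P := by rintro _ ⟨y, hy, rfl⟩; exact hy
  have htop : U.ι ''ᵁ ⊤ ≤ U := by rintro _ ⟨y, -, rfl⟩; exact y.2
  suffices key : ∀ z ∈ Submodule.span Γ(X, P) (Set.range fun σ : Γ(F, U) ↦ res F hPU σ),
      (res F hWP z : Γ(F.restrict U.ι, W)) ∈
        Submodule.span Γ(U.toScheme, W)
          (Set.range fun σ : Γ(F.restrict U.ι, ⊤) ↦ res (F.restrict U.ι) le_top σ) by
    exact (congrArg (· ∈ Submodule.span Γ(U.toScheme, W)
      (Set.range fun σ : Γ(F.restrict U.ι, ⊤) ↦ res (F.restrict U.ι) le_top σ))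
      (res_res F hP hWP m)).mp (key _ hspan)
  intro z hz
  induction hz using Submodule.span_induction with
  | mem z hz =>
    obtain ⟨σ, rfl⟩ := hz
    refine Submodule.subset_span ⟨res F htop σ, ?_⟩
    exact (res_res F htop (U.ι.image_mono le_top) σ).trans (res_res F hPU hWP σ).symm
  | zero => rw [map_zero]; exact zero_mem _
  | add a b _ _ ha hb => rw [map_add]; exact add_mem ha hb
  | smul r z _ hz =>
    rw [res_smul]
    let r' : Γ(U.toScheme, W) := (U.ι.appIso W).hom (rres hWP r)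
    let z' : Γ(F.restrict U.ι, W) := res F hWP z
    have hr : (U.ι.appIso W).inv r' = rres hWP r := by
      simp only [r', ← ConcreteCategory.comp_apply, Category.assoc, Iso.hom_inv_id, Category.comp_id]
    have : (r' • z' : Γ(F.restrict U.ι, W)) = (rres hWP r • res F hWP z : Γ(F, U.ι ''ᵁ W)) :=
      (restrict_smul U.ι F r' z').trans (by rw [hr]; rfl)
    rw [← this]
    exact Submodule.smul_mem _ _ hz

/-- Global generation of the restriction: maps agreeing on sections over `U` agree inside `U`. -/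
theorem eq_of_gg_restrict {X : Scheme.{u}} {F H : X.Modules} (U : X.Opens)
    (hg : Curv2.IsGloballyGenerated (F.restrict U.ι)) {ψ₁ ψ₂ : F ⟶ H}
    (h : ∀ σ : Γ(F, U), ψ₁.app U σ = ψ₂.app U σ) :
    (Scheme.Modules.restrictFunctor U.ι).map ψ₁ = (Scheme.Modules.restrictFunctor U.ι).map ψ₂ := by
  obtain ⟨ι, p, hp⟩ := hg
  refine (cancel_epi p).mp (Limits.Sigma.hom_ext _ _ fun i => ?_)
  refine Scheme.Modules.hom_ext _ _ fun W => ?_
  ext a
  have htop : U.ι ''ᵁ ⊤ = U := (Scheme.Hom.image_top_eq_opensRange _).trans U.opensRange_ι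
  let q : Coh.structureModule U.toScheme ⟶ F.restrict U.ι :=
    Limits.Sigma.ι (fun _ : ι => Coh.structureModule U.toScheme) i ≫ p
  have key : ∀ ψ : F ⟶ H, (q ≫ (Scheme.Modules.restrictFunctor U.ι).map ψ).app W a =
      (show Γ(U.toScheme, W) from a) • res (H.restrict U.ι) le_top (show Γ(H.restrict U.ι, ⊤) from
        res H htop.le (ψ.app U (res F htop.ge (sec q ⊤)))) := by
    intro ψ
    refine (app_eq (q ≫ (Scheme.Modules.restrictFunctor U.ι).map ψ) W a).trans ?_
    rw [← sec_res _ (le_top : W ≤ ⊤)]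
    congr 2
    change ψ.app (U.ι ''ᵁ ⊤) (sec q ⊤) = _
    rw [← app_res]
    exact congrArg (ψ.app (U.ι ''ᵁ ⊤)) (((res_res F htop.ge htop.le (sec q ⊤)).trans
      (res_self F le_rfl (sec q ⊤))).symm)
  have hψ : (q ≫ (Scheme.Modules.restrictFunctor U.ι).map ψ₁).app W a =
      (q ≫ (Scheme.Modules.restrictFunctor U.ι).map ψ₂).app W a := by rw [key, key, h]
  exact hψ

open CategoryTheory AlgebraicGeometry in
/-- For f : X → S quasi-compact and quasi-separated and F a quasi-coherent O_X-module, the counit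
f^*f_*F → F is an epimorphism iff F is a quotient of f^*G for some quasi-coherent O_S-module G, iff
the restriction of F to the inverse image of every affine open of S is globally generated. -/
theorem result {X S : Scheme.{u}} (f : X ⟶ S) [QuasiCompact f] [QuasiSeparated f]
    (F : X.Modules) (hF : Coh.IsQCoh F) :
    (Epi ((Scheme.Modules.pullbackPushforwardAdjunction f).counit.app F) ↔
      ∃ G : S.Modules, Coh.IsQCoh G ∧ ∃ φ : (Scheme.Modules.pullback f).obj G ⟶ F, Epi φ) ∧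
    (Epi ((Scheme.Modules.pullbackPushforwardAdjunction f).counit.app F) ↔
      ∀ U : S.Opens, IsAffineOpen U → Curv2.IsGloballyGenerated (F.restrict (f ⁻¹ᵁ U).ι)) := by
  haveI : F.IsQuasicoherent := hF
  have hB : (∃ G : S.Modules, Coh.IsQCoh G ∧ ∃ φ : (Scheme.Modules.pullback f).obj G ⟶ F, Epi φ) →
      Epi ((Scheme.Modules.pullbackPushforwardAdjunction f).counit.app F) := by
    rintro ⟨G, -, φ, hφ⟩
    have e : φ = (Scheme.Modules.pullback f).map
        ((Scheme.Modules.pullbackPushforwardAdjunction f).homEquiv _ _ φ) ≫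
        (Scheme.Modules.pullbackPushforwardAdjunction f).counit.app F := by
      conv_lhs => rw [← ((Scheme.Modules.pullbackPushforwardAdjunction f).homEquiv _ _).symm_apply_apply φ,
        Adjunction.homEquiv_counit]
    rw [e] at hφ
    exact @epi_of_epi _ _ _ _ _ _ _ hφ
  refine ⟨⟨fun h => ⟨(Scheme.Modules.pushforward f).obj F, QCoh.isQuasicoherent_pushforward f F, _, h⟩, hB⟩,
    ⟨fun h U hU => ?_, fun h => ?_⟩⟩
  · refine gg_restrict_of_span F (f ⁻¹ᵁ U) fun W m x hxW hxU => ?_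
    obtain ⟨P, hP, hPU, hxP, hspan⟩ :=
      exists_res_mem_span_on m hxU hxW (spanAt_eq_top_of_epi f hF h hU hxU hxW m)
    exact ⟨P, hP, hPU, hxP, hspan⟩
  · refine ⟨fun {H : X.Modules} (ψ₁ ψ₂ : F ⟶ H) hψ ↦ Scheme.Modules.hom_ext _ _ fun W ↦ ?_⟩
    have h0 : (Scheme.Modules.pushforward f).map ψ₁ = (Scheme.Modules.pushforward f).map ψ₂ := by
      rw [map_pushforward_eq, map_pushforward_eq, hψ]
    ext m
    have hloc : ∀ x : W, ∃ V : S.Opens, IsAffineOpen V ∧ f x.1 ∈ V := fun x => by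
      obtain ⟨V, hV, hxV, -⟩ := exists_isAffineOpen_mem_and_subset (X := S) (x := f x.1) (U := ⊤) trivial
      exact ⟨V, hV, hxV⟩
    choose V hV hxV using hloc
    refine eq_of_locally_eq H (U := fun x : W => (f ⁻¹ᵁ V x).ι ''ᵁ ((f ⁻¹ᵁ V x).ι ⁻¹ᵁ W))
      (fun x => by rintro _ ⟨y, hy, rfl⟩; exact hy)
      (fun x hx ↦ TopologicalSpace.Opens.mem_iSup.mpr ⟨⟨x, hx⟩, ⟨⟨x, hxV ⟨x, hx⟩⟩, hx, rfl⟩⟩) _ _ fun x => ?_
    rw [← app_res, ← app_res]
    have e := eq_of_gg_restrict (f ⁻¹ᵁ V x) (h (V x) (hV x)) (ψ₁ := ψ₁) (ψ₂ := ψ₂) fun σ =>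
      congrArg (fun φ : (Scheme.Modules.pushforward f).obj F ⟶ (Scheme.Modules.pushforward f).obj H ↦
        φ.app (V x) σ) h0
    exact congrArg (fun φ : F.restrict (f ⁻¹ᵁ V x).ι ⟶ H.restrict (f ⁻¹ᵁ V x).ι =>
      φ.app ((f ⁻¹ᵁ V x).ι ⁻¹ᵁ W) _) e

end Groth.Agent.S10869
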