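import Groth.Statements.S11275
import Groth.Agent.W4bk4.Plucker
import Mathlib.LinearAlgebra.Matrix.Block
-- import your own Groth.Agent.* helpers here

set_option autoImplicit false
universe u
open W4bk4grassmannian

namespace Groth.Agent.S11275

open W4bk4grassmannian in
/-- Ideal-theoretic form; determinantal ideals as ideals of opposite cells of Schubert varieties: let K
be a commutative ring, d, r ≥ 1, 1 ≤ t ≤ min(d, r), Z the generic r × d matrix over K[z_{ij}] and
[I_d ; Z] the (d + r) × d matrix with the identity block on top. For θ ∈ I(d, d + r) let q_θ be the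
d × d minor of [I_d ; Z] on the rows θ (the Plücker coordinate p_θ on the opposite big cell). Then
the ideal generated by the q_θ with θ_{d-t} ≥ d (0-indexed; these are the θ not below the index φ =
(t-1, …, d-1, d+r+1-t, …, d+r-1) of the Schubert variety whose opposite cell is D_t) equals the
ideal generated by the t × t minors of Z. (The published statement is over an algebraically closed
field and identifies the determinantal variety D_t with the opposite cell of the Schubert variety
X(φ); this row states the equality of ideals behind that identification, over any commutative ring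
K.) -/
theorem result (K : Type u) [CommRing K] (d r t : ℕ) (hd : 0 < d)
    (ht : 0 < t) (htd : t ≤ d) (htr : t ≤ r) :
    Ideal.span {f : CellRing K d r | ∃ θ : Idx d (d + r),
        d ≤ (θ.1 ⟨d - t, Nat.sub_lt hd ht⟩).val ∧ f = cellMinor K d r θ} =
      CAlgX.minorIdeal (genMatrix K r d) t := by
  classical
  let Z := genMatrix K r d
  let M : Matrix (Fin (d + r)) (Fin d) (CellRing K d r) := cellMatrix K d r
  have hlow : ∀ (x : Fin (d + r)) (h : d ≤ x.val) (j : Fin d),
      M x j = Z ⟨x.val - d, by omega⟩ j := by
    intro x h j
    simp [M, Z, cellMatrix, genMatrix, Nat.not_lt.2 h]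
  have laplace : ∀ (m : ℕ) (N : Matrix (Fin m) (Fin d) (CellRing K d r)) (g : Fin m → Fin d)
      (T : Finset (Fin m)), t ≤ T.card → (∀ i ∈ T, ∃ z : Fin r, N i = Z z) →
      (N.submatrix id g).det ∈ CAlgX.minorIdeal Z t := by
    intro m
    induction m with
    | zero => intro N g T hT _; have := Finset.card_le_univ T; simp at this; simp [this] at hT; omega
    | succ m ih =>
      intro N g T hT hN
      by_cases hbase : m + 1 = t
      · have hTuniv : T = Finset.univ :=
          Finset.eq_univ_of_card T (le_antisymm (Finset.card_le_univ T) (by simp; omega))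
        have hz : ∀ i, ∃ z : Fin r, N i = Z z := fun i => hN i (by simp [hTuniv])
        choose z hz using hz
        subst hbase
        refine Ideal.subset_span ⟨(z, g), ?_⟩
        change (Z.submatrix z g).det = _
        congr 1
        ext i j
        simp [hz i]
      · obtain ⟨i, hi⟩ : ∃ i : Fin (m + 1), t ≤ (T.erase i).card := by
          by_cases hu : ∃ i, i ∉ T
          · obtain ⟨i, hi⟩ := hu
            exact ⟨i, by rwa [Finset.erase_eq_of_notMem hi]⟩
          · push Not at hu
            have := Finset.eq_univ_iff_forall.2 hu
            refine ⟨0, ?_⟩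
            rw [Finset.card_erase_of_mem (hu 0), this, Finset.card_univ, Fintype.card_fin]
            have : t ≤ m + 1 := hT.trans ((Finset.card_le_univ T).trans (by simp))
            omega
        rw [Matrix.det_succ_row _ i]
        refine sum_mem fun j _ => Ideal.mul_mem_left _ _ ?_
        rw [Matrix.submatrix_submatrix]
        have := ih (N.submatrix i.succAbove id) (g ∘ j.succAbove)
          ((T.erase i).preimage i.succAbove Fin.succAbove_right_injective.injOn) ?_ ?_
        · simpa [Matrix.submatrix_submatrix] using this
        · rw [Finset.card_preimage]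
          refine le_trans hi (le_of_eq ?_)
          rw [Finset.filter_true_of_mem]
          intro x hx
          exact Fin.exists_succAbove_eq (Finset.ne_of_mem_erase hx)
        · intro x hx
          obtain ⟨z, hz⟩ := hN _ (Finset.mem_of_mem_erase (Finset.mem_preimage.1 hx))
          exact ⟨z, by rw [← hz]; rfl⟩
  apply le_antisymm
  · rw [Ideal.span_le]
    rintro _ ⟨θ, hθ, rfl⟩
    refine laplace d (M.submatrix θ.1 id) id (Finset.Ici ⟨d - t, Nat.sub_lt hd ht⟩) ?_ ?_
    · rw [Fin.card_Ici]; simp; omega
    · intro i hi
      have hge : d ≤ (θ.1 i).val := hθ.trans (θ.2.monotone (Finset.mem_Ici.1 hi))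
      exact ⟨_, funext fun j => hlow _ hge j⟩
  · rw [CAlgX.minorIdeal, Ideal.span_le]
    rintro _ ⟨⟨f, g⟩, rfl⟩
    dsimp only
    by_cases hf : Function.Injective f
    swap
    · obtain ⟨x, y, hxy, hne⟩ := Function.not_injective_iff.1 hf
      rw [Matrix.det_zero_of_row_eq hne (funext fun c => by simp [hxy])]
      exact Ideal.zero_mem _
    by_cases hg : Function.Injective g
    swap
    · obtain ⟨x, y, hxy, hne⟩ := Function.not_injective_iff.1 hg
      rw [Matrix.det_zero_of_column_eq hne (fun c => by simp [hxy])]
      exact Ideal.zero_mem _
    let a : Fin d → Fin (d + r) := fun c => if h : ∃ s, g s = c then Fin.natAdd d (f h.choose)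
      else Fin.castAdd r c
    have hag : ∀ s, a (g s) = Fin.natAdd d (f s) := by
      intro s
      have h : ∃ s', g s' = g s := ⟨s, rfl⟩
      simp only [a, dif_pos h]
      rw [hg h.choose_spec]
    have hainj : Function.Injective a := by
      intro x y hxy
      by_cases hx : ∃ s, g s = x <;> by_cases hy : ∃ s, g s = y
      · obtain ⟨s, rfl⟩ := hx; obtain ⟨s', rfl⟩ := hy
        rw [hag, hag] at hxy
        rw [hf ((Fin.natAdd_inj _).1 hxy)]
      · obtain ⟨s, rfl⟩ := hx
        rw [hag] at hxy; simp only [a, dif_neg hy] at hxy
        have := congrArg Fin.val hxy; simp at this; omega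
      · obtain ⟨s, rfl⟩ := hy
        rw [hag] at hxy; simp only [a, dif_neg hx] at hxy
        have := congrArg Fin.val hxy; simp at this; omega
      · simp only [a, dif_neg hx, dif_neg hy] at hxy
        exact Fin.castAdd_injective _ _ hxy
    obtain ⟨θ, σ, hσ⟩ := Groth.Agent.W4bk4.Plucker.exists_idx_perm a hainj
    have hmem : cellMinor K d r θ ∈ Ideal.span {f : CellRing K d r | ∃ θ : Idx d (d + r),
        d ≤ (θ.1 ⟨d - t, Nat.sub_lt hd ht⟩).val ∧ f = cellMinor K d r θ} := by
      refine Ideal.subset_span ⟨θ, ?_, rfl⟩
      by_contra hlt
      have hsub : Finset.univ.image (fun s => σ (g s)) ⊆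
          Finset.Ioi (⟨d - t, Nat.sub_lt hd ht⟩ : Fin d) := by
        intro x hx
        obtain ⟨s, -, rfl⟩ := Finset.mem_image.1 hx
        rw [Finset.mem_Ioi]
        by_contra hle
        have h1 : (θ.1 (σ (g s))).val ≤ (θ.1 ⟨d - t, Nat.sub_lt hd ht⟩).val :=
          θ.2.monotone (le_of_not_gt hle)
        have h2 : θ.1 (σ (g s)) = Fin.natAdd d (f s) := by
          rw [← hag, hσ]; rfl
        rw [h2] at h1
        simp at h1
        omega
      have := Finset.card_le_card hsub
      rw [Finset.card_image_of_injective _
        (show Function.Injective (fun s => σ (g s)) from σ.injective.comp hg), Fin.card_Ioi] at this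
      simp at this
      omega
    let p : Fin d → Prop := fun c => c ∈ Set.range g
    have hdet : (M.submatrix a id).det = (Z.submatrix f g).det := by
      rw [Matrix.twoBlockTriangular_det _ p]
      · have h2 : (M.submatrix a id).toSquareBlockProp (fun i => ¬ p i) = 1 := by
          ext i j
          have hi : ¬ ∃ s, g s = i.1 := i.2
          simp only [Matrix.toSquareBlockProp, Matrix.toBlock_apply, Matrix.submatrix_apply, id_eq]
          rw [show a i.1 = Fin.castAdd r i.1 from dif_neg hi]
          simp [M, cellMatrix, Matrix.one_apply, Subtype.ext_iff, Fin.val_inj]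
        rw [h2, Matrix.det_one, mul_one]
        let e : Fin t ≃ {c // p c} := Equiv.ofInjective g hg
        have h4 : ((M.submatrix a id).toSquareBlockProp p).submatrix e e = Z.submatrix f g := by
          refine Matrix.ext fun i j => ?_
          change M (a (g i)) (g j) = Z (f i) (g j)
          rw [hag, hlow _ (by simp)]
          simp [Z]
        rw [← h4]
        convert (Matrix.det_submatrix_equiv_self e ((M.submatrix a id).toSquareBlockProp p)).symm
      · intro i hi j hj
        simp only [Matrix.submatrix_apply, id_eq]
        rw [show a i = Fin.castAdd r i from dif_neg hi]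
        have : i ≠ j := fun h => hi (h ▸ hj)
        simp [M, cellMatrix, Fin.val_ne_iff.2 this]
    change (Z.submatrix f g).det ∈ _
    rw [← hdet, hσ, Groth.Agent.W4bk4.Plucker.det_submatrix_perm]
    exact Ideal.mul_mem_left _ _ hmem

end Groth.Agent.S11275
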