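import Groth.Statements.S10870
import Groth.Agent.W4bk4.Det
import Groth.Agent.InvQLib.FiniteFree
import Mathlib.FieldTheory.IsAlgClosed.AlgebraicClosure
-- import your own Groth.Agent.* helpers here

set_option autoImplicit false
universe u
open CAlgX

namespace Groth.Agent.S10870

/-- For a field k and 0 ≤ r ≤ min(n, m), the affine determinantal scheme of n × m matrices of rank at
most r over k — the spectrum of the polynomial ring on the entries of the generic n × m matrix
modulo the ideal of its (r+1) × (r+1) minors — has dimension r(m + n − r). -/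
theorem result (k : Type u) [Field k] (n m r : ℕ) (hr : r ≤ min n m) :
    ringKrullDim (MvPolynomial (Fin n × Fin m) k ⧸ CAlgX.minorIdeal (Matrix.of fun (i : Fin n) (j : Fin m) => (MvPolynomial.X (i, j) : MvPolynomial (Fin n × Fin m) k)) (r + 1)) =
      ((r * (m + n - r) : ℕ) : WithBot ℕ∞) := by
  classical
  rcases Nat.eq_zero_or_pos (min n m) with h0 | h0
  · obtain rfl : r = 0 := by omega
    have : IsEmpty (Fin n × Fin m) := by
      rcases Nat.min_eq_zero_iff.1 h0 with h | h <;> subst h <;> infer_instance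
    have hb : CAlgX.minorIdeal (Matrix.of fun (i : Fin n) (j : Fin m) =>
        (MvPolynomial.X (i, j) : MvPolynomial (Fin n × Fin m) k)) (0 + 1) = ⊥ := by
      rw [CAlgX.minorIdeal, Ideal.span_eq_bot]
      rintro _ ⟨⟨f, g⟩, rfl⟩
      exact isEmptyElim ((f 0, g 0) : Fin n × Fin m)
    rw [hb, ringKrullDim_eq_of_ringEquiv (RingEquiv.quotientBot _),
      MvPolynomial.ringKrullDim_of_isNoetherianRing, ringKrullDim_eq_zero_of_field]
    simp
  let L := AlgebraicClosure k
  let φ : MvPolynomial (Fin n × Fin m) k →+* MvPolynomial (Fin n × Fin m) L :=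
    MvPolynomial.map (algebraMap k L)
  set I := CAlgX.minorIdeal (Matrix.of fun (i : Fin n) (j : Fin m) =>
    (MvPolynomial.X (i, j) : MvPolynomial (Fin n × Fin m) k)) (r + 1) with hI
  set IL := CAlgX.minorIdeal (W4bk4grassmannian.genMatrix L n m) (r + 1) with hIL
  have hφ : ∀ fg : (Fin (r + 1) → Fin n) × (Fin (r + 1) → Fin m),
      φ ((Matrix.of fun (i : Fin n) (j : Fin m) =>
        (MvPolynomial.X (i, j) : MvPolynomial (Fin n × Fin m) k)).submatrix fg.1 fg.2).det =
      ((W4bk4grassmannian.genMatrix L n m).submatrix fg.1 fg.2).det := by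
    intro fg
    rw [RingHom.map_det]
    refine congrArg Matrix.det (Matrix.ext fun i j => ?_)
    simp [φ, W4bk4grassmannian.genMatrix]
  have hle : I.map φ = IL := by
    rw [hI, hIL, CAlgX.minorIdeal, CAlgX.minorIdeal, Ideal.map_span, ← Set.range_comp]
    exact congrArg Ideal.span (congrArg Set.range (funext hφ))
  -- a retraction of scalars
  obtain ⟨π, hπ⟩ := (Algebra.linearMap k L).exists_leftInverse_of_injective
    (LinearMap.ker_eq_bot.2 (algebraMap k L).injective)
  have hπ1 : ∀ c : k, π (algebraMap k L c) = c := fun c => LinearMap.congr_fun hπ c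
  let P : MvPolynomial (Fin n × Fin m) L → MvPolynomial (Fin n × Fin m) k := fun f =>
    ∑ e ∈ f.support, MvPolynomial.monomial e (π (f.coeff e))
  have hP : ∀ f e, (P f).coeff e = π (f.coeff e) := by
    intro f e
    simp only [P, MvPolynomial.coeff_sum, MvPolynomial.coeff_monomial, Finset.sum_ite_eq']
    split
    · rfl
    · rename_i h
      rw [MvPolynomial.notMem_support_iff.1 h, map_zero]
  have hPadd : ∀ f g, P (f + g) = P f + P g := fun f g => MvPolynomial.ext _ _ fun e => by
    simp [hP]
  have hPmul : ∀ f a, P (f * φ a) = P f * a := by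
    intro f a
    refine MvPolynomial.ext _ _ fun e => ?_
    rw [hP, MvPolynomial.coeff_mul, MvPolynomial.coeff_mul, map_sum]
    refine Finset.sum_congr rfl fun x _ => ?_
    rw [hP, MvPolynomial.coeff_map, ← Algebra.commutes, ← Algebra.smul_def, map_smul, smul_eq_mul,
      mul_comm]
  have hcomap : IL.comap φ = I := by
    refine le_antisymm (fun a ha => ?_) (hle ▸ Ideal.le_comap_map)
    have key : ∀ f ∈ IL, P f ∈ I := by
      intro f hf
      rw [hIL, CAlgX.minorIdeal] at hf
      obtain ⟨c, rfl⟩ := Ideal.mem_span_range_iff_exists_fun.1 hf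
      have hsum : ∀ (s : Finset ((Fin (r + 1) → Fin n) × (Fin (r + 1) → Fin m)))
          (g : ((Fin (r + 1) → Fin n) × (Fin (r + 1) → Fin m)) → MvPolynomial (Fin n × Fin m) L),
          (∀ x ∈ s, P (g x) ∈ I) → P (∑ x ∈ s, g x) ∈ I := by
        intro s
        induction s using Finset.induction_on with
        | empty => intro g _; simp [P]
        | insert x s hx ih =>
          intro g hg
          rw [Finset.sum_insert hx, hPadd]
          exact add_mem (hg x (Finset.mem_insert_self _ _))
            (ih g fun y hy => hg y (Finset.mem_insert_of_mem hy))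
      refine hsum Finset.univ (fun fg : (Fin (r + 1) → Fin n) × (Fin (r + 1) → Fin m) => _) fun fg _ => ?_
      rw [← hφ fg, hPmul]
      exact Ideal.mul_mem_left _ _ (Ideal.subset_span ⟨fg, rfl⟩)
    have := key _ ha
    have h1 : P (φ a) = a := MvPolynomial.ext _ _ fun e => by
      rw [hP, MvPolynomial.coeff_map, hπ1]
    rwa [h1] at this
  let ψ : MvPolynomial (Fin n × Fin m) k ⧸ I →+* MvPolynomial (Fin n × Fin m) L ⧸ IL :=
    Ideal.quotientMap IL φ (hcomap ▸ le_rfl)
  letI := ψ.toAlgebra
  have hinj : Function.Injective ψ := Ideal.quotientMap_injective' (hcomap.le)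
  have : Algebra.IsIntegral (MvPolynomial (Fin n × Fin m) k ⧸ I) (MvPolynomial (Fin n × Fin m) L ⧸ IL) := by
    refine ⟨fun z => ?_⟩
    obtain ⟨f, rfl⟩ := Ideal.Quotient.mk_surjective z
    induction f using MvPolynomial.induction_on with
    | C c =>
      obtain ⟨p, hp, hpc⟩ := Algebra.IsIntegral.isIntegral (R := k) c
      refine ⟨p.map ((Ideal.Quotient.mk I).comp MvPolynomial.C), hp.map _, ?_⟩
      rw [Polynomial.eval₂_map]
      have h := congrArg ((Ideal.Quotient.mk IL).comp MvPolynomial.C) hpc
      rw [map_zero, Polynomial.hom_eval₂] at h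
      have hc : ((Ideal.Quotient.mk IL).comp MvPolynomial.C).comp (algebraMap k L) =
          (algebraMap (MvPolynomial (Fin n × Fin m) k ⧸ I) (MvPolynomial (Fin n × Fin m) L ⧸ IL)).comp
            ((Ideal.Quotient.mk I).comp MvPolynomial.C) :=
        RingHom.ext fun x => by simp [RingHom.algebraMap_toAlgebra, ψ, φ]
      rw [hc] at h
      exact h
    | add p q hp hq => rw [map_add]; exact hp.add hq
    | mul_X p i hp =>
      rw [map_mul]
      refine hp.mul ?_
      have : Ideal.Quotient.mk IL (MvPolynomial.X i) =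
          algebraMap _ _ (Ideal.Quotient.mk I (MvPolynomial.X i)) := by
        simp [RingHom.algebraMap_toAlgebra, ψ, φ]
      rw [this]
      exact isIntegral_algebraMap
  rw [← Groth.Agent.InvQLib.FiniteFree.ringKrullDim_eq_of_integral _
    (MvPolynomial (Fin n × Fin m) L ⧸ IL) hinj]
  have hm : 0 < m := by omega
  have htr : r + 1 ≤ n + 1 := by omega
  have hdim := (Groth.Agent.W4bk4.Opp.cm_dim L hm (Nat.lt_add_of_pos_right (show 0 < n by omega))
    (Groth.Agent.W4bk4.Det.wIdx (r + 1) (Nat.succ_pos r) htr)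
    ((Groth.Agent.W4bk4.Det.equiv L hm _).trans (Ideal.quotientEquivAlgOfEq L
      (Groth.Agent.W4bk4.Det.cellIdeal_wIdx L (r + 1) hm (Nat.succ_pos r) htr (by omega)))).toRingEquiv).2
  rw [hIL, hdim, Groth.Agent.W4bk4.Det.codeg_wIdx _ _ _ (by omega)]
  congr 2
  omega

end Groth.Agent.S10870
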