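import Groth.Statements.S10871
import Mathlib.AlgebraicGeometry.Morphisms.Affine
import Mathlib.AlgebraicGeometry.Limits
import Mathlib.RingTheory.DedekindDomain.Factorization
-- import your own Groth.Agent.* helpers here

set_option autoImplicit false
universe u
open AlgebraicGeometry
open Curves

namespace Groth.Agent.S10871

/-- Every open subscheme of the spectrum of a Dedekind domain is affine. -/
theorem result (A : Type u) [CommRing A] [IsDedekindDomain A]
    (U : (Spec (CommRingCat.of A)).Opens) : IsAffineOpen U := by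
  classical
  revert U
  show ∀ U : TopologicalSpace.Opens (PrimeSpectrum A), IsAffineOpen (X := Spec (CommRingCat.of A)) U
  intro U
  have hD : ∀ g : A, IsAffineOpen (X := Spec (CommRingCat.of A)) (PrimeSpectrum.basicOpen g) := by
    intro g
    have := (isAffineOpen_top (Spec (CommRingCat.of A))).basicOpen
      ((Scheme.ΓSpecIso (CommRingCat.of A)).inv g)
    rwa [AlgebraicGeometry.basicOpen_eq_of_affine (R := CommRingCat.of A) g] at this
  by_cases hU : U = ⊥
  · subst hU; exact isAffineOpen_bot (Spec (CommRingCat.of A))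
  obtain ⟨I, hI⟩ : ∃ I : Ideal A, (U : Set (PrimeSpectrum A))ᶜ = PrimeSpectrum.zeroLocus I :=
    (PrimeSpectrum.isClosed_iff_zeroLocus_ideal _).1 U.isOpen.isClosed_compl
  have hI0 : I ≠ ⊥ := by
    rintro rfl
    rw [PrimeSpectrum.zeroLocus_bot, Set.compl_univ_iff] at hI
    exact hU (TopologicalSpace.Opens.coe_eq_empty.1 hI)
  have hmem : ∀ x : PrimeSpectrum A, x ∉ (U : Set (PrimeSpectrum A)) ↔ I ≤ x.asIdeal := fun x => by
    rw [← Set.mem_compl_iff, hI, PrimeSpectrum.mem_zeroLocus]; rfl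
  have hZmax : ∀ x : PrimeSpectrum A, I ≤ x.asIdeal → x.asIdeal.IsMaximal := fun x hx =>
    x.isPrime.isMaximal (fun h => hI0 (le_bot_iff.1 (h ▸ hx)))
  have hZ : {x : PrimeSpectrum A | I ≤ x.asIdeal}.Finite := by
    refine Set.Finite.of_finite_image ((Ideal.finite_factors hI0).image (fun v => v.asIdeal)
      |>.subset ?_) (f := fun x => x.asIdeal) (fun a _ b _ h => PrimeSpectrum.ext h)
    rintro _ ⟨x, hx, rfl⟩
    exact ⟨⟨x.asIdeal, x.isPrime, fun h => hI0 (le_bot_iff.1 (h ▸ hx))⟩,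
      Ideal.dvd_iff_le.2 hx, rfl⟩
  let U' : (Spec (CommRingCat.of A)).Opens := U
  suffices IsAffineHom U'.ι from isAffine_of_isAffineHom U'.ι
  refine isAffineHom_of_forall_exists_isAffineOpen _ fun x => ?_
  suffices ∃ g h : A, x ∈ PrimeSpectrum.basicOpen g ∧
      U ⊓ PrimeSpectrum.basicOpen g = PrimeSpectrum.basicOpen h by
    obtain ⟨g, h, hx, hgh⟩ := this
    refine ⟨PrimeSpectrum.basicOpen g, hx, hD g, ?_⟩
    rw [← U'.ι.isAffineOpen_iff_of_isOpenImmersion, U'.ι.image_preimage_eq_opensRange_inf,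
      Scheme.Opens.opensRange_ι]
    exact hgh ▸ hD h
  by_cases hx : x ∈ U
  · obtain ⟨_, ⟨g, rfl⟩, hxg, hgU⟩ :=
      PrimeSpectrum.isTopologicalBasis_basic_opens.exists_subset_of_mem_open hx U.isOpen
    exact ⟨g, g, hxg, inf_eq_right.2 hgU⟩
  let m := (x : PrimeSpectrum A)
  have hxI : I ≤ m.asIdeal := (hmem m).1 hx
  haveI := hZmax m hxI
  have hm0 : m.asIdeal ≠ ⊥ := fun h => hI0 (le_bot_iff.1 (h ▸ hxI))
  obtain ⟨π, hπ1, hπ2⟩ : ∃ π ∈ m.asIdeal, π ∉ m.asIdeal ^ 2 :=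
    (SetLike.exists_of_lt (Ideal.pow_succ_lt_pow hm0 1)).imp fun a ha => ⟨by simpa using ha.1, ha.2⟩
  obtain ⟨J, hJ⟩ : m.asIdeal ∣ Ideal.span {π} :=
    Ideal.dvd_iff_le.2 ((Ideal.span_singleton_le_iff_mem _).2 hπ1)
  have hJm : ¬ J ≤ m.asIdeal := fun h => hπ2 (by
    have : π ∈ m.asIdeal * J := hJ ▸ Ideal.mem_span_singleton_self π
    rw [pow_two]; exact Ideal.mul_mono_right h this)
  obtain ⟨j, hjJ, hjm⟩ := SetLike.not_le_iff_exists.1 hJm
  have hsep : ∀ y ∈ hZ.toFinset.erase m, ∃ a : A, a ∈ y.asIdeal ∧ a ∉ m.asIdeal := fun y hy => by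
    rw [Finset.mem_erase, Set.Finite.mem_toFinset] at hy
    exact SetLike.not_le_iff_exists.1 fun h =>
      hy.1 (PrimeSpectrum.ext ((hZmax y hy.2).eq_of_le m.isPrime.ne_top h))
  choose! a ha1 ha2 using hsep
  set g := j * ∏ y ∈ hZ.toFinset.erase m, a y with hg
  have hgm : g ∉ m.asIdeal := by
    intro h
    rcases m.isPrime.mem_or_mem h with h | h
    · exact hjm h
    · obtain ⟨y, hy, hy'⟩ := (Ideal.IsPrime.prod_mem_iff (hp := m.isPrime)).1 h
      exact ha2 y hy hy'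
  refine ⟨g, g * π, hgm, TopologicalSpace.Opens.ext (Set.ext fun y => ?_)⟩
  change y ∈ (U : Set (PrimeSpectrum A)) ∧ g ∉ (y : PrimeSpectrum A).asIdeal ↔
    g * π ∉ (y : PrimeSpectrum A).asIdeal
  constructor
  · rintro ⟨hyU, hyg⟩ h
    rcases y.isPrime.mem_or_mem h with h | h
    · exact hyg h
    have hle : m.asIdeal * J ≤ y.asIdeal := hJ ▸ (Ideal.span_singleton_le_iff_mem _).2 h
    rcases y.isPrime.mul_le.1 hle with h' | h'
    · exact absurd hyU ((hmem y).2 (le_trans hxI h'))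
    · exact hyg (y.asIdeal.mul_mem_right _ (h' hjJ))
  · intro h
    have hyg : g ∉ y.asIdeal := fun h' => h (y.asIdeal.mul_mem_right _ h')
    refine ⟨?_, hyg⟩
    by_contra hyU
    by_cases hym : y = m
    · exact h (hym ▸ m.asIdeal.mul_mem_left _ hπ1)
    · have hy : y ∈ hZ.toFinset.erase m := by simp [hym, (hmem y).1 hyU]
      exact hyg (y.asIdeal.mul_mem_left _ (Ideal.mem_of_dvd y.asIdeal (Finset.dvd_prod_of_mem a hy) (ha1 y hy)))

end Groth.Agent.S10871
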