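import Groth.Statements.S8880
import Mathlib.AlgebraicGeometry.QuasiAffine
import Mathlib.AlgebraicGeometry.Morphisms.QuasiFinite
import Mathlib.RingTheory.Ideal.Operations

set_option autoImplicit false
set_option linter.style.haveILetI false
universe u
open CategoryTheory CategoryTheory.Limits AlgebraicGeometry TopologicalSpace
open SDiv

namespace Groth.Agent.S8880

theorem surjective_of_norm {X Y : Scheme.{u}} {π : X ⟶ Y} {d : ℕ} (N : Nrm.NormOfDegree π d)
    (hc : IsClosed (Set.range π)) (y : Y) : y ∈ Set.range π := by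
  by_contra hy
  let U : Y.Opens := ⟨(Set.range π)ᶜ, hc.isOpen_compl⟩
  have hempty : π ⁻¹ᵁ U = ⊥ := Opens.ext (Set.eq_empty_iff_forall_notMem.2 fun x hx => hx ⟨x, rfl⟩)
  haveI : Subsingleton Γ(X, π ⁻¹ᵁ U) := by
    rw [hempty]
    exact CommRingCat.subsingleton_of_isTerminal (TopCat.Sheaf.isTerminalOfEmpty X.sheaf)
  have h := congrArg (N.norm U) (Subsingleton.elim (π.app U 0) 1)
  rw [N.norm_app, map_one, zero_pow (Nat.one_le_iff_ne_zero.1 N.one_le)] at h
  haveI := subsingleton_of_zero_eq_one h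
  exact not_isUnit_zero (M₀ := Y.presheaf.stalk y)
    (by rw [← map_zero (Y.presheaf.germ U y hy).hom, Subsingleton.elim (0 : Γ(Y, U)) 1, map_one]; exact isUnit_one)

/-- Let π : X ⟶ Y be a finite morphism of schemes such that a norm of degree d exists for π, and assume
X is quasi-affine. Then Y is quasi-affine. -/
theorem result {X Y : Scheme.{u}} (π : X ⟶ Y) [IsFinite π] (d : ℕ) (hN : Nrm.HasNorm π d)
    (hX : X.IsQuasiAffine) : Y.IsQuasiAffine := by
  obtain ⟨N⟩ := hN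
  haveI := hX
  have hcl : IsClosedMap π := π.isClosedMap
  have hsurj := surjective_of_norm N hcl.isClosed_range
  haveI : CompactSpace Y := ⟨by
    rw [← Set.eq_univ_of_forall hsurj]; exact isCompact_range π.continuous⟩
  refine Scheme.IsQuasiAffine.of_forall_exists_mem_basicOpen Y fun y => ?_
  obtain ⟨V, hV, hyV, -⟩ := exists_isAffineOpen_mem_and_subset (U := (⊤ : Y.Opens)) (x := y) trivial
  let O := X.toSpecΓ ''ᵁ (π ⁻¹ᵁ V)
  let I := PrimeSpectrum.vanishingIdeal ((O : Set (Spec Γ(X, ⊤)))ᶜ)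
  have hfin : (π ⁻¹' {y}).Finite := π.finite_preimage_singleton y
  have hI : ∀ x : X, π x = y → ¬ I ≤ (X.toSpecΓ x).asIdeal := fun x hx hle => by
    have h1 : X.toSpecΓ x ∈ PrimeSpectrum.zeroLocus (I : Set Γ(X, ⊤)) := hle
    erw [PrimeSpectrum.zeroLocus_vanishingIdeal_eq_closure, O.isOpen.isClosed_compl.closure_eq] at h1
    exact h1 ⟨x, (show π x ∈ V from hx ▸ hyV), rfl⟩
  obtain ⟨f, hfI, hf⟩ : ∃ f ∈ I, ∀ x, π x = y → f ∉ (X.toSpecΓ x).asIdeal := by
    by_contra hcon
    push Not at hcon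
    have hsub : (I : Set Γ(X, ⊤)) ⊆ ⋃ x ∈ (hfin.toFinset : Set X), ((X.toSpecΓ x).asIdeal : Set Γ(X, ⊤)) :=
      fun f hf => by
        obtain ⟨x, hx, hfx⟩ := hcon f hf
        exact Set.mem_biUnion (by simpa using hx) hfx
    obtain ⟨x, hx, hle⟩ := (Ideal.subset_union_prime (f := fun x => (X.toSpecΓ x).asIdeal) (hsurj y).choose (hsurj y).choose
      fun i _ _ _ => (X.toSpecΓ i).isPrime).1 hsub
    exact hI x (by simpa using hx) hle
  have hfV : X.basicOpen f ≤ π ⁻¹ᵁ V := fun x hx => by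
    rw [← Scheme.toSpecΓ_preimage_basicOpen] at hx
    by_contra hxV
    have h1 : X.toSpecΓ x ∈ ((O : Set (Spec Γ(X, ⊤)))ᶜ) := fun ⟨x', hx', e⟩ =>
      hxV (X.toSpecΓ.isOpenEmbedding.injective e ▸ hx')
    exact hx ((PrimeSpectrum.mem_vanishingIdeal _ _).1 hfI _ h1)
  have hf' : ∀ x, π x = y → x ∈ X.basicOpen f := fun x hx => by
    rw [← Scheme.toSpecΓ_preimage_basicOpen]; exact hf x hx
  let g : Γ(Y, ⊤) := N.norm ⊤ f
  have hgV : Y.basicOpen g ≤ V := fun z hz => by
    by_contra hzV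
    obtain ⟨x, rfl⟩ := hsurj z
    have hxf : x ∉ X.basicOpen f := fun h => hzV (hfV h)
    have h1 := N.norm_mem ⊤ f x trivial
      ((IsLocalRing.mem_maximalIdeal _).2 fun hu => hxf ((X.mem_basicOpen f x trivial).2 hu))
    exact (IsLocalRing.mem_maximalIdeal _).1 h1 ((Y.mem_basicOpen g (π x) trivial).1 hz)
  refine ⟨g, ?_, ?_⟩
  · rw [show Y.basicOpen g = Y.basicOpen (Y.presheaf.map (homOfLE (le_top : V ≤ ⊤)).op g) by
      rw [Scheme.basicOpen_res]; exact (inf_eq_right.2 hgV).symm]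
    exact hV.basicOpen _
  · let U : Y.Opens := ⟨(π '' ((X.basicOpen f : Set X)ᶜ))ᶜ, (hcl _ (X.basicOpen f).isOpen.isClosed_compl).isOpen_compl⟩
    have hyU : y ∈ U := fun ⟨x, hx, e⟩ => hx (hf' x e)
    have hUf : π ⁻¹ᵁ U ≤ X.basicOpen f := fun x hx => by_contra fun h => hx ⟨x, h, rfl⟩
    have hu : IsUnit (X.presheaf.map ((Opens.map π.base).map (homOfLE (le_top : U ≤ ⊤))).op f) := by
      have := (RingedSpace.isUnit_res_basicOpen X.toRingedSpace f).map (X.presheaf.map (homOfLE hUf).op).hom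
      erw [← CommRingCat.comp_apply, ← Functor.map_comp, ← op_comp] at this
      exact this
    have h2 := ((hu.map (N.norm U)).map (Y.presheaf.germ U y hyU).hom)
    erw [← N.norm_res (homOfLE (le_top : U ≤ ⊤)) f] at h2
    erw [TopCat.Presheaf.germ_res_apply] at h2
    exact (Y.mem_basicOpen g y trivial).2 h2

end Groth.Agent.S8880
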