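import Groth.Statements.S8879
import Groth.Agent.AmpleNorm.Main
import Groth.Agent.S8880

set_option autoImplicit false
universe u
open CategoryTheory CategoryTheory.Limits AlgebraicGeometry TopologicalSpace
open SDiv

namespace Groth.Agent.S8879

/-- Let π : X ⟶ Y be a finite morphism of schemes such that a norm of degree d exists for π, and assume
X has an ample invertible O_X-module. Then Y has an ample invertible O_Y-module. -/
theorem result {X Y : Scheme.{u}} (π : X ⟶ Y) [IsFinite π] (d : ℕ) (hN : Nrm.HasNorm π d)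
    (L : X.Modules) (hL : CohB1.IsAmple L) : ∃ N : Y.Modules, CohB1.IsAmple N := by
  obtain ⟨N⟩ := hN
  have hsurj := Groth.Agent.S8880.surjective_of_norm N π.isClosedMap.isClosed_range
  haveI : Surjective π := ⟨fun y => hsurj y⟩
  haveI : CompactSpace X := hL.2.1
  obtain ⟨M, hM, hA⟩ := Groth.Agent.AmpleNorm.exists_normModule (Groth.Agent.AmpleNorm.Fam.ofNorm N) hL.1
  have hc : IsCompact ((⊤ : Y.Opens) : Set Y) := by
    rw [TopologicalSpace.Opens.coe_top, ← π.surjective.range_eq]
    exact isCompact_range π.continuous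
  exact ⟨M, (Groth.Agent.AmpleLib.ampleOn_top_iff hM).1
    (hA ⊤ hc ((Groth.Agent.AmpleLib.ampleOn_top_iff hL.1).2 hL))⟩

end Groth.Agent.S8879
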