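import Groth.Statements.S10872
import Groth.Agent.SBTaut.StablyBir
import Groth.Agent.S1555
import Groth.Agent.NumTriv.Ample
import Groth.Agent.ProjMorph.Ample
import Groth.Agent.FpqcDesc.Props
import Groth.Agent.FlatMor.GeomDescent
import Groth.Agent.CohOps.PnSmooth
import Groth.Agent.ProjProper.Basic
import Mathlib.AlgebraicGeometry.Morphisms.LocalFlatDescent
-- import your own Groth.Agent.* helpers here

set_option autoImplicit false
set_option linter.style.haveILetI false
universe u
open CategoryTheory AlgebraicGeometry
open Variety

namespace Groth.Agent.S10872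

/-- A Brauer–Severi scheme X over a field k (some base change X_K to a field extension K of k is
K-isomorphic to a projective space P^n_K) is smooth over k, geometrically integral over k, and
projective over k, i.e. admits a closed immersion into some P^N_k compatible with the structure
morphisms. -/
theorem result (k : Type u) [Field k] {X : Scheme.{u}}
    (p : X ⟶ Spec (CommRingCat.of k)) (hX : W4bk4gw11416.IsBrauerSeveri p) :
    Smooth p ∧ GeometricallyIntegral p ∧
      ∃ (N : ℕ) (i : X ⟶ CohB1.ProjSpace N k), IsClosedImmersion i ∧ i ≫ CohB1.ProjSpace.toSpec N k = p := by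
  obtain ⟨K, hKf, hKa, n, e, he⟩ := hX
  let g : Spec (CommRingCat.of K) ⟶ Spec (CommRingCat.of k) := Spec.map (CommRingCat.ofHom (algebraMap k K))
  let q : Limits.pullback p g ⟶ Spec (CommRingCat.of K) := Limits.pullback.snd p g
  have hg : FpqcDesc.FPQC g := VarAmpleDesc.fpqc_aMap k K
  haveI : Surjective g := hg.1.1
  haveI : Smooth (CohB1.ProjSpace.toSpec n K) := CohOps.PnSmooth.smooth_toSpec n K
  haveI : IsProper (CohB1.ProjSpace.toSpec n K) := ProjProper.Basic.isProper_toSpec n K
  haveI : GeometricallyIntegral (CohB1.ProjSpace.toSpec n K) := SBTaut.geometricallyIntegral_toSpec n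
  have hq : e.hom ≫ CohB1.ProjSpace.toSpec n K = q := he
  have hqs : Smooth q := by rw [← hq]; infer_instance
  have hqp : IsProper q := by rw [← hq]; infer_instance
  have hqg : GeometricallyIntegral q := by
    rw [GeometricallyIntegral.eq_geometrically, ← hq]
    rw [MorphismProperty.cancel_left_of_respectsIso (geometrically IsIntegral)]
    exact GeometricallyIntegral.geometrically_isIntegral
  haveI : MorphismProperty.DescendsAlong @Smooth.{u} FpqcDesc.FPQC :=
    inferInstanceAs (MorphismProperty.DescendsAlong @Smooth (@Surjective ⊓ @Flat ⊓ @QuasiCompact))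
  haveI := FpqcDesc.descendsAlong_isProper.{u}
  have hsq : IsPullback q (Limits.pullback.fst p g) g p := (IsPullback.of_hasPullback p g).flip
  have hsm : Smooth p := MorphismProperty.of_pullback_snd_of_descendsAlong (P := @Smooth) (Q := FpqcDesc.FPQC) hg hqs
  have hpr : IsProper p := MorphismProperty.of_pullback_snd_of_descendsAlong (P := @IsProper) (Q := FpqcDesc.FPQC) hg hqp
  have hgi : GeometricallyIntegral p := ⟨FlatMor.GeomDescent.geometrically_of_surjective
    (P := fun Z => IsIntegral Z) (fun {Z' Z} π _ _ (h : IsIntegral Z') => by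
      haveI := h
      haveI := FlatMor.GeomDescent.isReduced_of_flat_surjective π
      haveI := FlatMor.GeomDescent.irreducibleSpace_of_surjective π inferInstance
      exact isIntegral_of_irreducibleSpace_of_isReduced _)
    (IsPullback.of_hasPullback p g) hqg.geometrically_isIntegral⟩
  refine ⟨hsm, hgi, ?_⟩
  letI : X.Over (Spec (CommRingCat.of k)) := ⟨p⟩
  haveI : IsProper (X ↘ Spec (CommRingCat.of k)) := hpr
  have hA : CohB1.IsAmple ((Scheme.Modules.pullback e.hom).obj (Twist.twistProjSpace n K 1)) :=
    ProjMorph.isAmple_pullback_twist_of_isAffineHom e.hom ⟨fun U hU => @IsAffineOpen.preimage_of_isIso _ _ _ hU e.hom e.isIso_hom⟩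
  obtain ⟨L, hL⟩ := S1555.result k X K _ hA
  exact NumTriv.exists_closedImmersion_of_ample hL

end Groth.Agent.S10872
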