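import Groth.Statements.S10877
import Groth.Agent.FlatMor.DenseOpens

set_option autoImplicit false
universe u
open CategoryTheory AlgebraicGeometry
open FlatMor

namespace Groth.Agent.S10877

open CategoryTheory

/-- A separated morphism f : X → Y, with X having finitely many irreducible components, which restricts
to an open immersion on each member of a cover of X by dense open subsets, is an open immersion. -/
theorem result {X Y : Scheme.{u}} (f : X ⟶ Y) [IsSeparated f]
    (hfin : (irreducibleComponents (X : Type u)).Finite) {ι : Type u} (U : ι → X.Opens)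
    (hU : ⨆ i, U i = ⊤) (hd : ∀ i, Dense (U i : Set X)) (h : ∀ i, IsOpenImmersion ((U i).ι ≫ f)) :
    IsOpenImmersion f := by
  have h' : ∀ i, IsImmersion ((U i).ι ≫ f) := fun i => haveI := h i; inferInstance
  have hemb := FlatMor.DenseOpens.isEmbedding f U hfin hU hd h'
  have hopen : IsOpen (Set.range f.base) := by
    rw [isOpen_iff_forall_mem_open]
    rintro _ ⟨x, rfl⟩
    obtain ⟨i, hi⟩ := TopologicalSpace.Opens.mem_iSup.mp
      (show x ∈ ⨆ i, U i from hU.symm ▸ TopologicalSpace.Opens.mem_top x)
    have := h i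
    refine ⟨_, ?_, ((U i).ι ≫ f).isOpenEmbedding.isOpen_range, ⟨⟨x, hi⟩, rfl⟩⟩
    rintro _ ⟨z, rfl⟩
    exact ⟨z.1, rfl⟩
  have : ∀ x, IsIso (f.stalkMap x) := fun x => by
    obtain ⟨i, hi⟩ := TopologicalSpace.Opens.mem_iSup.mp
      (show x ∈ ⨆ i, U i from hU.symm ▸ TopologicalSpace.Opens.mem_top x)
    have := h i
    let z : (U i).toScheme := ⟨x, hi⟩
    have h1 : IsIso (((U i).ι ≫ f).stalkMap z) := inferInstance
    rw [Scheme.Hom.stalkMap_comp] at h1
    exact @IsIso.of_isIso_comp_right _ _ _ _ _ (f.stalkMap ((U i).ι z)) ((U i).ι.stalkMap z) inferInstance h1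
  exact IsOpenImmersion.of_isIso_stalkMap f ⟨hemb, hopen⟩

end Groth.Agent.S10877
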