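import Groth.Statements.S10879
import Mathlib.AlgebraicGeometry.Morphisms.FlatMono
import Mathlib.AlgebraicGeometry.Morphisms.SchemeTheoreticallyDominant
import Mathlib.AlgebraicGeometry.FunctionField

set_option autoImplicit false
universe u
open CategoryTheory AlgebraicGeometry
open FlatMor

namespace Groth.Agent.S10879

open CategoryTheory.Limits

/-- Two morphisms into an affine integral scheme, birational over an affine integral one and agreeing
over it, agree when one of them hits only the generic point. -/
lemma eq_of_comp {G V X : Scheme.{u}} [IsAffine V] [IsAffine X] [IsIntegral V] [IsIntegral X]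
    (h : V ⟶ X) (hgen : h (genericPoint V) = genericPoint X) (hK : IsIso (h.stalkMap (genericPoint V)))
    (a b : G ⟶ V) (ha : ∀ t, a t = genericPoint V) (hab : a ≫ h = b ≫ h) : a = b := by
  haveI : Nonempty (⊤ : V.Opens) := ⟨⟨genericPoint V, trivial⟩⟩
  haveI : Nonempty (⊤ : X.Opens) := ⟨⟨genericPoint X, trivial⟩⟩
  refine ext_of_isAffine (CommRingCat.hom_ext (RingHom.ext fun β => ?_))
  haveI := functionField_isFractionRing_of_isAffineOpen X ⊤ (isAffineOpen_top X)
  have hinj := Scheme.germToFunctionField_injective V ⊤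
  have hsp : genericPoint X ⤳ h (genericPoint V) := specializes_of_eq hgen.symm
  let e := X.presheaf.stalkSpecializes hsp
  haveI : IsIso e := (X.presheaf.stalkCongr (.of_eq hgen)).isIso_hom
  obtain ⟨k, hk⟩ := (ConcreteCategory.bijective_of_isIso (h.stalkMap (genericPoint V))).2
    (V.presheaf.germ ⊤ (genericPoint V) trivial β)
  obtain ⟨⟨a₀, s, hs⟩, hks⟩ := IsLocalization.surj (nonZeroDivisors Γ(X, ⊤)) (S := X.functionField) (e k)
  have key : β * h.appTop s = h.appTop a₀ := by
    refine hinj ?_
    show V.presheaf.germ ⊤ (genericPoint V) trivial (β * h.appTop s) = V.presheaf.germ ⊤ (genericPoint V) trivial (h.appTop a₀)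
    rw [map_mul, ← hk]
    have e1 : ∀ r, V.presheaf.germ ⊤ (genericPoint V) trivial (h.appTop r) =
        h.stalkMap (genericPoint V) (X.presheaf.germ ⊤ (h (genericPoint V)) trivial r) := fun r =>
      (Scheme.Hom.germ_stalkMap_apply h ⊤ (genericPoint V) trivial r).symm
    rw [e1, e1, ← map_mul]
    refine congrArg _ ?_
    apply (ConcreteCategory.bijective_of_isIso e).1
    have e2 : ∀ r, e (X.presheaf.germ ⊤ (h (genericPoint V)) trivial r) =
        algebraMap Γ(X, ⊤) X.functionField r := fun r =>
      TopCat.Presheaf.germ_stalkSpecializes_apply (F := X.presheaf) (U := ⊤) trivial hsp r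
    rw [map_mul, e2, e2]
    exact hks
  have hu : IsUnit (a.appTop (h.appTop s)) := by
    refine G.toRingedSpace.isUnit_of_isUnit_germ ⊤ _ fun t ht => ?_
    have h1 : IsUnit (algebraMap Γ(X, ⊤) X.functionField s) := IsLocalization.map_units X.functionField ⟨s, hs⟩
    have hsp' : genericPoint X ⤳ h (a t) := specializes_of_eq (by rw [ha t, hgen])
    haveI : IsIso (X.presheaf.stalkSpecializes hsp') :=
      (X.presheaf.stalkCongr (.of_eq (show h (a t) = genericPoint X by rw [ha t, hgen]))).isIso_hom
    have h2 : IsUnit (X.presheaf.germ ⊤ (h (a t)) trivial s) := by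
      rw [← isUnit_map_iff (asIso (X.presheaf.stalkSpecializes hsp')).commRingCatIsoToRingEquiv]
      exact (congrArg IsUnit (TopCat.Presheaf.germ_stalkSpecializes_apply (F := X.presheaf) (U := ⊤) trivial hsp' s)).mpr h1
    have h3 := (h2.map (h.stalkMap (a t)).hom).map (a.stalkMap t).hom
    refine (congrArg IsUnit ?_).mp h3
    refine (congrArg (a.stalkMap t) (Scheme.Hom.germ_stalkMap_apply h ⊤ (a t) trivial s)).trans ?_
    exact Scheme.Hom.germ_stalkMap_apply a ⊤ t trivial _
  have e3 : ∀ r, a.appTop (h.appTop r) = b.appTop (h.appTop r) := fun r =>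
    congrArg (fun m : Γ(X, ⊤) ⟶ Γ(G, ⊤) => m r)
      (((Scheme.Hom.comp_appTop a h).symm.trans (congrArg Scheme.Hom.appTop hab)).trans (Scheme.Hom.comp_appTop b h))
  refine hu.mul_right_cancel ?_
  calc a.appTop β * a.appTop (h.appTop s) = a.appTop (h.appTop a₀) := by rw [← map_mul, key]
    _ = b.appTop (h.appTop a₀) := e3 _
    _ = b.appTop β * b.appTop (h.appTop s) := by rw [← map_mul, key]
    _ = b.appTop β * a.appTop (h.appTop s) := by rw [e3 s]

/-- A flat separated birational morphism to an affine integral scheme is a monomorphism. -/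
lemma mono_of_affine {X' X : Scheme.{u}} [IsIntegral X'] [IsIntegral X] [IsAffine X]
    (f : X' ⟶ X) [IsSeparated f] [Flat f] (hK : IsIso (f.stalkMap (genericPoint X'))) : Mono f := by
  have hgen : f (genericPoint X') = genericPoint X := by
    obtain ⟨z, hz, hzx⟩ := Flat.generalizingMap f (genericPoint_specializes (f (genericPoint X')))
    rw [← hzx, ((genericPoint_specializes z).antisymm hz).eq]
  have hfib : ∀ z : X', f z = genericPoint X → z = genericPoint X' := by
    intro z hz
    let σ := X'.presheaf.stalkSpecializes (genericPoint_specializes z)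
    have hσ : Function.Injective σ := IsFractionRing.injective (X'.presheaf.stalk z) X'.functionField
    have hsur : Function.Surjective σ := fun k => by
      obtain ⟨c, rfl⟩ := (ConcreteCategory.bijective_of_isIso (f.stalkMap (genericPoint X'))).2 k
      haveI : IsIso (X.presheaf.stalkSpecializes ((genericPoint_specializes z).map f.continuous)) :=
        (X.presheaf.stalkCongr (.of_eq (hz.trans hgen.symm))).isIso_hom
      obtain ⟨d, rfl⟩ := (ConcreteCategory.bijective_of_isIso
        (X.presheaf.stalkSpecializes ((genericPoint_specializes z).map f.continuous))).2 c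
      exact ⟨f.stalkMap z d,
        (Scheme.Hom.stalkSpecializes_stalkMap_apply f _ _ (genericPoint_specializes z) d).symm⟩
    have hF : IsField (X'.presheaf.stalk z) :=
      (RingEquiv.ofBijective σ.hom ⟨hσ, hsur⟩).toMulEquiv.isField (Field.toIsField X'.functionField)
    letI := hF.toField
    obtain ⟨p, hp⟩ : genericPoint X' ∈ Set.range (X'.fromSpecStalk z) := by
      rw [Scheme.range_fromSpecStalk]; exact genericPoint_specializes z
    exact ((Scheme.fromSpecStalk_closedPoint (X := X') (x := z)).symm.trans (congrArg _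
      (Subsingleton.elim (α := PrimeSpectrum (X'.presheaf.stalk z)) _ _))).trans hp
  let gen := X'.fromSpecStalk (genericPoint X')
  haveI : X'.IsSeparated := ⟨by
    rw [terminal.hom_ext (terminal.from X') (f ≫ terminal.from X)]; infer_instance⟩
  haveI : QuasiCompact gen := quasiCompact_of_compactSpace gen
  haveI : IsDominant gen := ⟨dense_iff_inter_open.2 fun U hU hne => ⟨genericPoint X',
    ((genericPoint_spec X').mem_open_set_iff hU).2 (by simpa using hne),
      ⟨_, Scheme.fromSpecStalk_closedPoint⟩⟩⟩
  haveI := IsSchemeTheoreticallyDominant.of_isDominant gen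
  let ι := pullback.fst (pullback.fst f f) gen
  obtain ⟨_, ⟨V', hV', rfl⟩, hηV', -⟩ :=
    X'.isBasis_affineOpens.exists_subset_of_mem_open (Set.mem_univ (genericPoint X')) isOpen_univ
  let V : X'.Opens := V'
  have hV : IsAffineOpen V := hV'
  have hηV : genericPoint X' ∈ V := hηV'
  haveI : Nonempty V := ⟨⟨_, hηV⟩⟩
  haveI : IsAffine (V : Scheme.{u}) := hV
  have hgenpt : ∀ t, gen t = genericPoint X' := fun t => by
    haveI : Subsingleton (PrimeSpectrum (X'.presheaf.stalk (genericPoint X'))) :=
      inferInstanceAs (Subsingleton (PrimeSpectrum X'.functionField))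
    rw [Subsingleton.elim (α := PrimeSpectrum (X'.presheaf.stalk (genericPoint X'))) t
      (IsLocalRing.closedPoint _)]
    exact Scheme.fromSpecStalk_closedPoint
  have ha : ∀ t, (ι ≫ pullback.fst f f) t = genericPoint X' := fun t => by
    rw [pullback.condition]
    exact hgenpt _
  have hb : ∀ t, (ι ≫ pullback.snd f f) t = genericPoint X' := fun t => hfib _ (by
    rw [← Scheme.Hom.comp_apply, Category.assoc, ← pullback.condition, ← Category.assoc,
      Scheme.Hom.comp_apply, ha, hgen])
  have hrA : Set.range (ι ≫ pullback.fst f f) ⊆ Set.range V.ι := by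
    rintro _ ⟨t, rfl⟩; rw [ha, Scheme.Opens.range_ι]; exact hηV
  have hrB : Set.range (ι ≫ pullback.snd f f) ⊆ Set.range V.ι := by
    rintro _ ⟨t, rfl⟩; rw [hb, Scheme.Opens.range_ι]; exact hηV
  have hgV : V.ι (genericPoint (V : Scheme.{u})) = genericPoint X' :=
    genericPoint_eq_of_isOpenImmersion V.ι
  have heq : ι ≫ pullback.fst f f = ι ≫ pullback.snd f f := by
    rw [← IsOpenImmersion.lift_fac V.ι _ hrA, ← IsOpenImmersion.lift_fac V.ι _ hrB]
    refine congrArg (fun m => m ≫ V.ι) (eq_of_comp (V.ι ≫ f) ?_ ?_ _ _ (fun t => ?_) ?_)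
    · rw [Scheme.Hom.comp_apply, hgV, hgen]
    · rw [Scheme.Hom.stalkMap_comp]
      haveI : IsIso (f.stalkMap (V.ι (genericPoint (V : Scheme.{u})))) := by rw [hgV]; exact hK
      haveI : IsIso (V.ι.stalkMap (genericPoint (V : Scheme.{u}))) := inferInstance
      exact IsIso.comp_isIso' ‹_› ‹_›
    · refine V.ι.isOpenEmbedding.injective ?_
      rw [hgV, ← Scheme.Hom.comp_apply, IsOpenImmersion.lift_fac]
      exact ha t
    · rw [← Category.assoc, IsOpenImmersion.lift_fac, ← Category.assoc, IsOpenImmersion.lift_fac,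
        Category.assoc, Category.assoc, pullback.condition]
  have hfac : (ι ≫ pullback.fst f f) ≫ pullback.diagonal f = ι := by
    apply pullback.hom_ext
    · simp
    · simp [heq]
  rw [← pullback.isIso_diagonal_iff, IsClosedImmersion.isIso_iff_ker_eq_bot, ← le_bot_iff]
  calc (pullback.diagonal f).ker ≤ ι.ker := by
        rw [← hfac]; exact Scheme.Hom.le_ker_comp _ _
    _ ≤ ⊥ := (Scheme.Hom.ker_eq_bot ι).le


/-- Take integral schemes X' and X and a separated surjective morphism f : X' → X which is birational in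
the sense that the induced map of function fields (the stalk map of f at the generic point of X') is
an isomorphism, and suppose f is affine (e.g. a normalization) or locally of finite presentation
(e.g. a blow-up of a Noetherian integral scheme). Then f is flat exactly when it is an isomorphism. -/
theorem result {X' X : Scheme.{u}} [IsIntegral X'] [IsIntegral X]
    (f : X' ⟶ X) [Surjective f] [IsSeparated f] (hK : IsIso (f.stalkMap (genericPoint X')))
    (h : IsAffineHom f ∨ LocallyOfFinitePresentation f) :
    Flat f ↔ IsIso f := by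
  refine ⟨fun hflat => ?_, fun _ => inferInstance⟩
  have hgen : f (genericPoint X') = genericPoint X := by
    obtain ⟨z, hz, hzx⟩ := Flat.generalizingMap f (genericPoint_specializes (f (genericPoint X')))
    rw [← hzx, ((genericPoint_specializes z).antisymm hz).eq]
  haveI : Mono f := by
    show MorphismProperty.monomorphisms Scheme f
    refine IsZariskiLocalAtTarget.of_iSup_eq_top (fun U : X.affineOpens => U.1) (iSup_affineOpens_eq_top X) fun U => ?_
    show Mono (f ∣_ U.1)
    haveI : IsAffine (U.1 : Scheme.{u}) := U.2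
    rcases isEmpty_or_nonempty ↥(f ⁻¹ᵁ U.1) with hE | hne
    · haveI : IsEmpty ↥((f ⁻¹ᵁ U.1 : X'.Opens) : Scheme.{u}) := hE
      exact ⟨fun {T} a b _ => by
        haveI : IsEmpty ↥T := Function.isEmpty (a : T → ↥((f ⁻¹ᵁ U.1 : X'.Opens) : Scheme.{u}))
        exact (isInitialOfIsEmpty).hom_ext _ _⟩
    · haveI : Nonempty ↥((f ⁻¹ᵁ U.1 : X'.Opens) : Scheme.{u}) := hne
      obtain ⟨z, hz⟩ := hne
      have hη : genericPoint X' ∈ f ⁻¹ᵁ U.1 := (genericPoint_specializes z).mem_open (f ⁻¹ᵁ U.1).2 hz
      haveI : Nonempty U.1 := ⟨⟨_, hη⟩⟩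
      haveI : IsSeparated (f ∣_ U.1) := IsZariskiLocalAtTarget.restrict ‹_› _
      haveI : Flat (f ∣_ U.1) := MorphismProperty.of_isPullback (isPullback_morphismRestrict f U.1).flip hflat
      refine mono_of_affine _ ?_
      have hg := genericPoint_eq_of_isOpenImmersion (f ⁻¹ᵁ U.1).ι
      have := (morphismRestrictStalkMap f U.1 (genericPoint ((f ⁻¹ᵁ U.1 : X'.Opens) : Scheme.{u})))
      refine ((MorphismProperty.isomorphisms CommRingCat).arrow_mk_iso_iff this).2 ?_
      show IsIso (f.stalkMap ((f ⁻¹ᵁ U.1).ι (genericPoint ((f ⁻¹ᵁ U.1 : X'.Opens) : Scheme.{u}))))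
      rw [hg]; exact hK
  rcases h with h | h
  · exact Flat.isIso_of_surjective_of_mono f
  · haveI := IsOpenImmersion.of_flat_of_mono f
    exact (isIso_iff_isOpenImmersion_and_surjective f).2 ⟨inferInstance, inferInstance⟩

end Groth.Agent.S10879
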