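import Groth.Statements.S10881
import Groth.Agent.FlatMor.DimOne
import Groth.Agent.FlatMor.FibreStalk
import Groth.Agent.RegLoc.Miracle
import Groth.Agent.RegLoc.UFD
import Mathlib.AlgebraicGeometry.Morphisms.QuasiFinite
import Mathlib.RingTheory.IntegralClosure.GoingDown
import Mathlib.RingTheory.IntegralClosure.IntegralRestrict
import Mathlib.AlgebraicGeometry.Morphisms.Finite
-- import your own Groth.Agent.* helpers here

set_option autoImplicit false
set_option linter.style.haveILetI false
universe u
open CategoryTheory AlgebraicGeometry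
open FlatMor

namespace Groth.Agent.S10881

/-- Component-wise dominance makes the maps of local rings at regular points injective. -/
theorem stalkMap_injective {X Y : Scheme.{u}} (f : X ⟶ Y)
    (hdom : ∀ Z ∈ irreducibleComponents (X : Type u), closure (f.base '' Z) ∈ irreducibleComponents (Y : Type u))
    (x : X) [IsDomain (X.presheaf.stalk x)] [IsDomain (Y.presheaf.stalk (f x))] :
    Function.Injective (f.stalkMap x) := by
  let q : PrimeSpectrum (X.presheaf.stalk x) := ⟨⊥, Ideal.isPrime_bot⟩
  have hq : closure {X.fromSpecStalk x q} ∈ irreducibleComponents X :=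
    (Groth.Agent.FlatMor.DimOne.closure_fromSpecStalk_mem_iff x q).mpr
      (by rw [IsDomain.minimalPrimes_eq_singleton_bot]; rfl)
  have h := hdom _ hq
  rw [closure_image_closure f.continuous, Set.image_singleton] at h
  have h' := (Groth.Agent.FlatMor.DimOne.closure_fromSpecStalk_mem_iff (f x)
    (Spec.map (f.stalkMap x) q)).mp
      (by rw [← Groth.Agent.FlatMor.DimOne.apply_fromSpecStalk f x q]; exact h)
  rw [IsDomain.minimalPrimes_eq_singleton_bot, Set.mem_singleton_iff] at h'
  exact (RingHom.injective_iff_ker_eq_bot _).mpr h'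

/-- Going down at a point with injective stalk map over a normal local ring. -/
theorem exists_generization {X Y : Scheme.{u}} (f : X ⟶ Y) [IsFinite f] (x : X)
    [IsDomain (X.presheaf.stalk x)] [IsDomain (Y.presheaf.stalk (f x))]
    [IsIntegrallyClosed (Y.presheaf.stalk (f x))] (hinj : Function.Injective (f.stalkMap x))
    {y' : Y} (hy' : y' ⤳ f x) : ∃ x' : X, x' ⤳ x ∧ f x' = y' := by
  obtain ⟨_, ⟨U, hU, rfl⟩, hyU, -⟩ :=
    Y.isBasis_affineOpens.exists_subset_of_mem_open (Set.mem_univ (f x)) isOpen_univ
  replace hU : IsAffineOpen U := hU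
  have hxV : x ∈ f ⁻¹ᵁ U := hyU
  have hV : IsAffineOpen (f ⁻¹ᵁ U) := hU.preimage f
  obtain ⟨p', hp'⟩ : y' ∈ Set.range (Y.fromSpecStalk (f x)) := by
    rw [Scheme.range_fromSpecStalk]; exact hy'
  algebraize [(f.stalkMap x).hom]
  let C := integralClosure (Y.presheaf.stalk (f x)) (X.presheaf.stalk x)
  let β := (X.presheaf.germ (f ⁻¹ᵁ U) x hxV).hom
  have hnat : ∀ a : Γ(Y, U), β (f.app U a) =
      algebraMap (Y.presheaf.stalk (f x)) (X.presheaf.stalk x) (Y.presheaf.germ U (f x) hyU a) :=
    fun a => (Scheme.Hom.germ_stalkMap_apply f U x hyU a).symm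
  have hmem : ∀ b, β b ∈ C := fun b => by
    obtain ⟨q, hq, hqb⟩ := (f.finite_app U hU).to_isIntegral b
    refine ⟨q.map (Y.presheaf.germ U (f x) hyU).hom, hq.map _, ?_⟩
    have h0 := (Polynomial.hom_eval₂ q (f.app U).hom β b).symm.trans
      ((congrArg β hqb).trans (map_zero _))
    rw [Polynomial.eval₂_map, ← h0]
    congr 1
    exact RingHom.ext fun a => (hnat a).symm
  let γ : Γ(X, f ⁻¹ᵁ U) →+* C := RingHom.codRestrict β C hmem
  haveI : FaithfulSMul (Y.presheaf.stalk (f x)) C :=
    (faithfulSMul_iff_algebraMap_injective _ _).mpr fun a b h => hinj (congrArg Subtype.val h)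
  haveI : Algebra.IsIntegral (Y.presheaf.stalk (f x)) C := inferInstance
  let q' : Ideal C := (IsLocalRing.maximalIdeal (X.presheaf.stalk x)).comap C.val.toRingHom
  haveI : q'.IsPrime := Ideal.comap_isPrime _ _
  haveI : IsLocalHom (algebraMap (Y.presheaf.stalk (f x)) (X.presheaf.stalk x)) :=
    inferInstanceAs (IsLocalHom (f.stalkMap x).hom)
  haveI : p'.asIdeal.IsPrime := p'.isPrime
  haveI : q'.LiesOver (IsLocalRing.maximalIdeal (Y.presheaf.stalk (f x))) := ⟨by
    ext a
    exact ⟨fun ha => map_nonunit (algebraMap (Y.presheaf.stalk (f x)) (X.presheaf.stalk x)) a ha,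
      fun ha hu => ha (hu.map (algebraMap (Y.presheaf.stalk (f x)) (X.presheaf.stalk x)))⟩⟩
  obtain ⟨P, hPle, hPp, hPo⟩ := Ideal.exists_ideal_le_liesOver_of_le (p := p'.asIdeal)
    (q := IsLocalRing.maximalIdeal (Y.presheaf.stalk (f x))) q'
    (IsLocalRing.le_maximalIdeal p'.isPrime.ne_top)
  let R : Spec Γ(X, f ⁻¹ᵁ U) := ⟨P.comap γ, inferInstance⟩
  refine ⟨hV.fromSpec R, ?_, ?_⟩
  · have hR : R ⤳ Spec.map (X.presheaf.germ (f ⁻¹ᵁ U) x hxV) (IsLocalRing.closedPoint _) :=
      (PrimeSpectrum.le_iff_specializes _ _).mp (show R.asIdeal ≤ _ from Ideal.comap_mono hPle)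
    have h2 := hR.map hV.fromSpec.continuous
    have e : hV.fromSpec (Spec.map (X.presheaf.germ (f ⁻¹ᵁ U) x hxV) (IsLocalRing.closedPoint _)) = x :=
      (congrArg (fun g : Spec (X.presheaf.stalk x) ⟶ X => g (IsLocalRing.closedPoint _))
        (hV.fromSpecStalk_eq_fromSpecStalk hxV)).trans Scheme.fromSpecStalk_closedPoint
    rwa [e] at h2
  · rw [← Scheme.Hom.comp_apply, ← IsAffineOpen.SpecMap_appLE_fromSpec f hU hV le_rfl,
      Scheme.Hom.comp_apply, ← hp', ← hU.fromSpecStalk_eq_fromSpecStalk hyU]
    change _ = (Spec.map (Y.presheaf.germ U (f x) hyU) ≫ hU.fromSpec) p'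
    rw [Scheme.Hom.comp_apply, ← Scheme.Hom.app_eq_appLE]
    congr 1
    refine PrimeSpectrum.ext (Ideal.ext fun a => ?_)
    change γ (f.app U a) ∈ P ↔ Y.presheaf.germ U (f x) hyU a ∈ p'.asIdeal
    rw [Ideal.mem_of_liesOver P p'.asIdeal, show γ (f.app U a) =
      algebraMap (Y.presheaf.stalk (f x)) C (Y.presheaf.germ U (f x) hyU a) from Subtype.ext (hnat a)]

/-- Lifting of generizations gives the inequality of coheights. -/
theorem le_coheight {X Y : Scheme.{u}} (f : X ⟶ Y)
    (hlift : ∀ (x : X) (y' : Y), y' ⤳ f x → ∃ x' : X, x' ⤳ x ∧ f x' = y') :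
    ∀ (n : ℕ) (x : X) (l : LTSeries Y), l.length = n → l.head = f x → (n : ℕ∞) ≤ Order.coheight x
  | 0, _, _, _, _ => by simp
  | n + 1, x, l, hn, hl => by
    have h0 : l.length ≠ 0 := by omega
    have hlt : f x < (l.tail h0).head := by
      rw [RelSeries.head_tail, ← hl]
      refine l.strictMono ?_
      simp [Fin.lt_def, Nat.one_mod_eq_one.mpr (show l.length + 1 ≠ 1 by omega)]
    obtain ⟨a, ha, hfa⟩ := hlift x _ hlt.le
    have hax : x < a := lt_of_le_not_ge ha fun h => hlt.not_ge (hfa ▸ h.map f.continuous)
    have ih := le_coheight f hlift n a (l.tail h0) (by rw [RelSeries.tail_length]; omega) hfa.symm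
    push_cast
    exact (add_le_add_left ih 1).trans (Order.coheight_add_one_le hax)

/-- A finite morphism f : X → Y between regular schemes (locally Noetherian with regular local rings)
under which each irreducible component of X dominates some irreducible component of Y is flat, hence
finite locally free. (The published statement asks only that f be dominant; for X the disjoint union
of the affine line and a point, mapped to the affine line Y by the identity and the inclusion of a
closed point, f is finite and dominant between regular schemes but not flat, and the published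
argument uses injectivity of the local ring maps, which holds exactly under the component-wise
dominance assumed here.) -/
theorem result {X Y : Scheme.{u}} (f : X ⟶ Y) [IsFinite f]
    [IsLocallyNoetherian X] [IsLocallyNoetherian Y]
    (hX : ∀ x : X, IsRegularLocalRing (X.presheaf.stalk x))
    (hY : ∀ y : Y, IsRegularLocalRing (Y.presheaf.stalk y))
    (hdom : ∀ Z ∈ irreducibleComponents (X : Type u), closure (f.base '' Z) ∈ irreducibleComponents (Y : Type u)) :
    Flat f := by
  rw [Flat.iff_flat_stalkMap]
  intro x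
  have hDX := fun x' : X => @RegLoc.isDomain (X.presheaf.stalk x') _ (hX x')
  have hDY := fun y : Y => @RegLoc.isDomain (Y.presheaf.stalk y) _ (hY y)
  have hNY : ∀ y : Y, IsIntegrallyClosed (Y.presheaf.stalk y) := fun y => by
    haveI := hY y; haveI := hDY y
    haveI := RegLoc.UFD.uniqueFactorizationMonoid (Y.presheaf.stalk y)
    infer_instance
  have hdim : Order.coheight x = Order.coheight (f x) := by
    refine le_antisymm (Order.coheight_le fun l hl => ?_) (Order.coheight_le fun l hl => ?_)
    · have hs : StrictMono (f : X → Y) := fun a b hab =>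
        lt_of_le_not_ge (hab.le.map f.continuous) fun h =>
          hab.not_ge ((f.isDiscrete_preimage_singleton (f b)).eq_of_specializes
            (show b ⤳ a from hab.le) rfl (Specializes.antisymm (show f a ⤳ f b from h)
              (hab.le.map f.continuous)).eq ▸ le_refl _)
      rw [← hl]
      exact Order.length_le_coheight_head (p := l.map f hs)
    · exact le_coheight f (fun a y' h => @exists_generization X Y f _ a (hDX _) (hDY _) (hNY _)
        (@stalkMap_injective X Y f hdom _ (hDX _) (hDY _)) y' h) l.length x l rfl hl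
  obtain ⟨ε⟩ := Groth.Agent.FlatMor.FibreStalk.exists_fibre_stalk_equiv f x
  haveI := hY (f x)
  haveI := hX x
  haveI := Depth.isCohenMacaulayLocalRing_of_isRegularLocalRing (R := X.presheaf.stalk x)
  algebraize [(f.stalkMap x).hom]
  haveI : IsLocalHom (algebraMap (Y.presheaf.stalk (f x)) (X.presheaf.stalk x)) :=
    inferInstanceAs (IsLocalHom (f.stalkMap x).hom)
  refine RingHom.flat_algebraMap_iff.2 (RegLoc.Miracle.flat_of_ringKrullDim_eq_add ?_)
  have h3 : ringKrullDim (X.presheaf.stalk x ⧸ (IsLocalRing.maximalIdeal (Y.presheaf.stalk (f x))).map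
      (algebraMap (Y.presheaf.stalk (f x)) (X.presheaf.stalk x))) = 0 := by
    refine (ringKrullDim_eq_of_ringEquiv ε).trans ?_
    rw [ringKrullDim_stalk_eq_coheight]
    have : Order.coheight (f.asFiber x) = 0 := Order.coheight_eq_zero.mpr fun w hw => by
      have hd : DiscreteTopology ↥(f.fiber (f x)) :=
        ((f.fiberHomeo (f x)).symm.discreteTopology_iff).mp
          ((f.isDiscrete_preimage_singleton (f x)).to_subtype)
      exact (specializes_iff_eq.mp (show w ⤳ f.asFiber x from hw)).le
    rw [this]; rfl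
  rw [h3, ringKrullDim_stalk_eq_coheight, ringKrullDim_stalk_eq_coheight, hdim, add_zero]

end Groth.Agent.S10881
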