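import Groth.Statements.S10882
import Groth.Agent.FlatOpen.EquiDim
import Groth.Agent.RegLoc.Miracle

set_option autoImplicit false
set_option linter.style.haveILetI false
universe u
open CategoryTheory AlgebraicGeometry
open FlatMor

namespace Groth.Agent.S10882

/-- Let X and Y be schemes locally of finite type over a field k and f : X → Y a k-morphism, with Y
regular (all local rings regular), X Cohen–Macaulay (all local rings Cohen–Macaulay), X
equidimensional of dimension e, Y equidimensional of dimension d ≤ e, and all fibres of f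
equidimensional of dimension e − d (every irreducible component of every fibre has dimension e − d).
Then f is flat. -/
theorem result (k : Type u) [Field k] {X Y : Scheme.{u}}
    (q : Y ⟶ Spec (CommRingCat.of k)) [LocallyOfFiniteType q] (f : X ⟶ Y) [LocallyOfFiniteType (f ≫ q)]
    (hY : ∀ y : Y, IsRegularLocalRing (Y.presheaf.stalk y))
    (hX : ∀ x : X, LocCoh.IsCohenMacaulayLocalRing (X.presheaf.stalk x))
    (e d : ℕ) (hde : d ≤ e)
    (hXe : ∀ Z ∈ irreducibleComponents (X : Type u), topologicalKrullDim Z = e)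
    (hYd : ∀ Z ∈ irreducibleComponents (Y : Type u), topologicalKrullDim Z = d)
    (hfib : ∀ y : Y, ∀ Z ∈ irreducibleComponents (f.base ⁻¹' {y}), topologicalKrullDim Z = (e - d : ℕ)) :
    Flat f := by
  letI : X.Over (Spec (CommRingCat.of k)) := ⟨f ≫ q⟩
  letI : Y.Over (Spec (CommRingCat.of k)) := ⟨q⟩
  haveI : LocallyOfFiniteType (X ↘ Spec (CommRingCat.of k)) := ‹LocallyOfFiniteType (f ≫ q)›
  haveI : LocallyOfFiniteType (Y ↘ Spec (CommRingCat.of k)) := ‹LocallyOfFiniteType q›
  haveI : LocallyOfFiniteType f := locallyOfFiniteType_of_comp f q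
  have hrel : Cyc.HasRelDim f (e - d) := fun y Z hZ => by
    let φ := f.fiberHomeo y
    have h1 : φ '' Z ∈ irreducibleComponents ↥(f ⁻¹' {y}) :=
      ⟨hZ.1.image _ φ.continuous.continuousOn, fun T hT hle a ha =>
        ⟨φ.symm a, hZ.2 (hT.image _ φ.symm.continuous.continuousOn)
          (fun b hb => ⟨φ b, hle ⟨b, hb, rfl⟩, φ.symm_apply_apply b⟩) ⟨a, ha, rfl⟩, φ.apply_symm_apply a⟩⟩
    rw [IsHomeomorph.topologicalKrullDim_eq _ (φ.isEmbedding.homeomorphImage Z).isHomeomorph]
    exact hfib y _ h1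
  rw [Flat.iff_flat_stalkMap]
  intro x
  letI := f.fiberOverSpecResidueField (f x)
  haveI : LocallyOfFiniteType ((f.fiber (f x)) ↘ Spec (CommRingCat.of (Y.residueField (f x)))) :=
    CycLib.locallyOfFiniteType_fiberToSpecResidueField f (f x)
  obtain ⟨a, ha, ha', -⟩ := FlatOpen.EquiDim.coheight_add_dimPt k
    ((FlatOpen.EquiDim.irreducibleComponents_dimPt_iff k e).1 hXe) x
  obtain ⟨b, hb, hb', -⟩ := FlatOpen.EquiDim.coheight_add_dimPt k
    ((FlatOpen.EquiDim.irreducibleComponents_dimPt_iff k d).1 hYd) (f x)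
  obtain ⟨z, hz, htr⟩ := FlatOpen.EquiDim.exists_trdeg_fibre f x
  have hza : z = f.asFiber x := (f.fiberι _).isEmbedding.injective (hz.trans (f.fiberι_asFiber x).symm)
  subst hza
  obtain ⟨c, hc, hc', -⟩ := FlatOpen.EquiDim.coheight_add_dimPt (Y.residueField (f x))
    ((FlatOpen.EquiDim.irreducibleComponents_dimPt_iff (Y.residueField (f x)) (e - d)).1 (hrel (f x)))
    (f.asFiber x)
  obtain ⟨j, hj, he⟩ := CycLib.deltaCompat_fdelta k f (f ≫ q) q rfl x
  rw [hj] at htr
  have htr' : j = VarDim.dimPt (Y.residueField (f x)) (f.fiber (f x)) (f.asFiber x) := by exact_mod_cast htr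
  have he' : ((VarDim.dimPt k X x : ℕ) : ℤ) = (VarDim.dimPt k Y (f x) : ℕ) + (j : ℕ) := he
  have habc : a = b + c := by omega
  obtain ⟨ε⟩ := Groth.Agent.FlatMor.FibreStalk.exists_fibre_stalk_equiv f x
  haveI := hY (f x)
  haveI := hX x
  letI := (f.stalkMap x).hom.toAlgebra
  haveI : IsLocalHom (algebraMap (Y.presheaf.stalk (f x)) (X.presheaf.stalk x)) :=
    inferInstanceAs (IsLocalHom (f.stalkMap x).hom)
  refine RingHom.flat_algebraMap_iff.2 (RegLoc.Miracle.flat_of_ringKrullDim_eq_add ?_)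
  have h3 : ringKrullDim (X.presheaf.stalk x ⧸ (IsLocalRing.maximalIdeal (Y.presheaf.stalk (f x))).map
      (algebraMap (Y.presheaf.stalk (f x)) (X.presheaf.stalk x))) = (c : WithBot ℕ∞) := by
    refine (ringKrullDim_eq_of_ringEquiv ε).trans ?_
    rw [ringKrullDim_stalk_eq_coheight, hc]
    rfl
  rw [h3, ringKrullDim_stalk_eq_coheight, ringKrullDim_stalk_eq_coheight, ha, hb, habc]
  push_cast
  rfl

end Groth.Agent.S10882
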