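import Groth.Statements.S10883
import Groth.Agent.Bertini.Affine
import Groth.Agent.CAlgLib.Minors
import Mathlib.RingTheory.Smooth.Locus
import Mathlib.LinearAlgebra.Matrix.SchurComplement

set_option autoImplicit false
universe u
open CAlgX

namespace Groth.Agent.S10883

open TensorProduct Matrix

/-- The generic matrix. -/
noncomputable abbrev gen (k : Type u) [Field k] (n m : ℕ) : Matrix (Fin n) (Fin m) (MvPolynomial (Fin n × Fin m) k) :=
  Matrix.of fun (i : Fin n) (j : Fin m) => (MvPolynomial.X (i, j) : MvPolynomial (Fin n × Fin m) k)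

theorem derivation_prod {R A M ι : Type*} [CommRing R] [CommRing A] [Algebra R A] [AddCommGroup M] [Module R M]
    [Module A M] [DecidableEq ι] (D : Derivation R A M) (s : Finset ι) (f : ι → A) :
    D (∏ i ∈ s, f i) = ∑ i ∈ s, (∏ j ∈ s.erase i, f j) • D (f i) := by
  induction s using Finset.induction_on with
  | empty => simp
  | insert a s ha ih =>
    rw [Finset.prod_insert ha, Derivation.leibniz, ih, Finset.sum_insert ha, Finset.erase_insert ha, Finset.smul_sum,
      add_comm]
    refine congrArg (_ + ·) (Finset.sum_congr rfl fun i hi => ?_)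
    rw [Finset.erase_insert_of_ne (fun h => ha (by rwa [h])), Finset.prod_insert (fun h => ha (Finset.mem_of_mem_erase h)),
      mul_smul]

/-- Derivations into a field in which all `r × r` minors vanish kill the `(r+1) × (r+1)` minors. -/
theorem derivation_det_eq_zero {R A κ : Type*} [CommRing R] [CommRing A] [Algebra R A] [CommRing κ] [Algebra R κ]
    [Algebra A κ] (D : Derivation R A κ) {r : ℕ} (N : Matrix (Fin (r + 1)) (Fin (r + 1)) A)
    (h : ∀ a b : Fin (r + 1), algebraMap A κ (N.submatrix a.succAbove b.succAbove).det = 0) : D N.det = 0 := by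
  have h1 : D N.det = ∑ i, ((N.map (algebraMap A κ)).updateCol i fun a => D (N a i)).det := by
    simp only [Matrix.det_apply, map_sum]
    rw [Finset.sum_comm]
    refine Finset.sum_congr rfl fun σ _ => ?_
    rw [Units.smul_def, map_zsmul, derivation_prod, Finset.smul_sum]
    refine Finset.sum_congr rfl fun i _ => ?_
    rw [Units.smul_def]
    refine congrArg (_ • ·) ?_
    rw [← Finset.mul_prod_erase _ _ (Finset.mem_univ i), Matrix.updateCol_self, Algebra.smul_def, map_prod,
      mul_comm (D (N (σ i) i))]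
    refine congrArg (· * _) (Finset.prod_congr rfl fun j hj => ?_)
    rw [Matrix.updateCol_ne (Finset.ne_of_mem_erase hj), Matrix.map_apply]
  rw [h1]
  refine Finset.sum_eq_zero fun i _ => ?_
  rw [Matrix.det_succ_column _ i]
  refine Finset.sum_eq_zero fun a _ => ?_
  have h2 := h a i
  rw [RingHom.map_det, RingHom.mapMatrix_apply, ← Matrix.submatrix_map] at h2
  rw [Matrix.submatrix_updateCol_succAbove, h2, mul_zero]

theorem minors_of_mul {R : Type*} [CommRing R] {n m r : ℕ} (U : Matrix (Fin n) (Fin r) R) (V : Matrix (Fin r) (Fin m) R)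
    (a : Fin (r + 1) → Fin n) (b : Fin (r + 1) → Fin m) : ((U * V).submatrix a b).det = 0 := by
  rw [Matrix.submatrix_mul _ _ a id b Function.bijective_id]
  refine (Submodule.mem_bot R).1 ((Submodule.span_le.2 ?_ : Ideal.span _ ≤ ⊥)
    (Groth.Agent.CAlgLib.Minors.det_mul_mem_span_minors (U.submatrix a id) (V.submatrix id b)))
  rintro _ ⟨f, rfl⟩
  obtain ⟨i, j, hne, hij⟩ := Fintype.exists_ne_map_eq_of_card_lt f (by simp)
  exact Matrix.det_zero_of_row_eq hne (by funext c; simp [hij])

theorem minor_mem (k : Type u) [Field k] {n m s : ℕ} (a : Fin s → Fin n) (b : Fin s → Fin m) :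
    ((gen k n m).submatrix a b).det ∈ CAlgX.minorIdeal (gen k n m) s :=
  Ideal.subset_span (Set.mem_range_self (f := fun fg : (Fin s → Fin n) × (Fin s → Fin m) =>
    ((gen k n m).submatrix fg.1 fg.2).det) (a, b))

theorem formallySmooth_away (k : Type u) [Field k] (n m r : ℕ) (f : Fin r → Fin n) (g : Fin r → Fin m) :
    Algebra.FormallySmooth k (Localization.Away (Ideal.Quotient.mk (CAlgX.minorIdeal (gen k n m) (r + 1))
      ((gen k n m).submatrix f g).det)) := by
  classical
  let R := MvPolynomial (Fin n × Fin m) k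
  let I : Ideal R := CAlgX.minorIdeal (gen k n m) (r + 1)
  let δ : R := ((gen k n m).submatrix f g).det
  let Q := Localization.Away δ
  let T := Localization.Away (Ideal.Quotient.mk I δ)
  haveI : Algebra.FormallySmooth R Q := Algebra.FormallySmooth.of_isLocalization (Submonoid.powers δ)
  haveI : Algebra.FormallySmooth k Q := Algebra.FormallySmooth.comp k R Q
  let π : Q →ₐ[k] T := IsLocalization.liftAlgHom (M := Submonoid.powers δ)
    (f := (IsScalarTower.toAlgHom k (R ⧸ I) T).comp (Ideal.Quotient.mkₐ k I)) (by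
      rintro ⟨_, j, rfl⟩
      simpa using (IsLocalization.Away.algebraMap_isUnit (S := T) (Ideal.Quotient.mk I δ)).pow j)
  have hπ : ∀ z, π (algebraMap R Q z) = algebraMap (R ⧸ I) T (Ideal.Quotient.mk I z) := fun z => by simp [π]
  let X' := (gen k n m).map (algebraMap R Q)
  have hdet : IsUnit (X'.submatrix f g).det := by
    rw [show X'.submatrix f g = (algebraMap R Q).mapMatrix ((gen k n m).submatrix f g) from rfl, ← RingHom.map_det]
    exact IsLocalization.Away.algebraMap_isUnit δ
  let M' : Matrix (Fin n) (Fin m) Q := X'.submatrix id g * ((X'.submatrix f g)⁻¹ * X'.submatrix f id)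
  let σ₀ : R →ₐ[k] Q := MvPolynomial.aeval fun ij => M' ij.1 ij.2
  have hσ₀ : σ₀.toRingHom.mapMatrix (m := Fin r) ((gen k n m).submatrix f g) = M'.submatrix f g := by
    ext i j; exact MvPolynomial.aeval_X _ _
  have hI : ∀ z ∈ I, σ₀ z = 0 := fun z hz => by
    induction hz using Submodule.span_induction with
    | mem z hz =>
      obtain ⟨⟨a, b⟩, rfl⟩ := hz
      change σ₀.toRingHom (Matrix.det _) = 0
      rw [RingHom.map_det, show σ₀.toRingHom.mapMatrix ((gen k n m).submatrix a b) = M'.submatrix a b from by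
        ext i j; exact MvPolynomial.aeval_X _ _]
      exact minors_of_mul _ _ a b
    | zero => exact map_zero _
    | add a b _ _ ha hb => rw [map_add, ha, hb, add_zero]
    | smul c a _ ha => rw [smul_eq_mul, map_mul, ha, mul_zero]
  have hA : M'.submatrix f g = X'.submatrix f g := by
    change (X'.submatrix id g * ((X'.submatrix f g)⁻¹ * X'.submatrix f id)).submatrix f g = _
    rw [Matrix.submatrix_mul _ _ f id g Function.bijective_id, Matrix.submatrix_mul _ _ id id g Function.bijective_id]
    simp only [Matrix.submatrix_submatrix, Function.id_comp, Function.comp_id, Matrix.submatrix_id_id]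
    rw [← Matrix.mul_assoc, Matrix.mul_nonsing_inv _ hdet, Matrix.one_mul]
  let σB : (R ⧸ I) →ₐ[k] Q := Ideal.Quotient.liftₐ I σ₀ hI
  let σ : T →ₐ[k] Q := IsLocalization.liftAlgHom (M := Submonoid.powers (Ideal.Quotient.mk I δ)) (f := σB) (by
      rintro ⟨_, j, rfl⟩
      rw [map_pow]
      refine IsUnit.pow j ?_
      change IsUnit (σ₀.toRingHom δ)
      rw [RingHom.map_det, hσ₀, hA]
      exact hdet)
  have hπσ : π.comp σ = AlgHom.id k T := by
    refine IsLocalization.algHom_ext (Submonoid.powers (Ideal.Quotient.mk I δ)) ?_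
    refine Ideal.Quotient.algHom_ext _ (MvPolynomial.algHom_ext fun ⟨i, j⟩ => ?_)
    let MT : Matrix (Fin n) (Fin m) T := (gen k n m).map fun z => algebraMap (R ⧸ I) T (Ideal.Quotient.mk I z)
    have hMT : X'.map π = MT := by ext a b; exact hπ _
    have hdT : IsUnit (MT.submatrix f g).det := by
      rw [← hMT, Matrix.submatrix_map, show (X'.submatrix f g).map π = π.toRingHom.mapMatrix (X'.submatrix f g) from rfl,
        ← RingHom.map_det]
      exact hdet.map _
    have hinv : (X'.submatrix f g)⁻¹.map π = (MT.submatrix f g)⁻¹ := by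
      refine (Matrix.inv_eq_left_inv ?_).symm
      rw [← hMT]
      change _ * (X'.submatrix f g).map π = 1
      rw [← Matrix.map_mul, Matrix.nonsing_inv_mul _ hdet]
      exact Matrix.map_one _ (map_zero π) (map_one π)
    letI := Matrix.invertibleOfIsUnitDet _ hdT
    have hzero : (Matrix.fromBlocks (MT.submatrix f g) (MT.submatrix f fun _ : Unit => j)
        (MT.submatrix (fun _ : Unit => i) g) (MT.submatrix (fun _ : Unit => i) fun _ : Unit => j)).det = 0 := by
      let e : Fin (r + 1) ≃ Fin r ⊕ Unit :=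
        finSumFinEquiv.symm.trans (Equiv.sumCongr (Equiv.refl _) (Equiv.ofUnique _ _))
      rw [← Matrix.det_submatrix_equiv_self e, show (Matrix.fromBlocks (MT.submatrix f g) (MT.submatrix f fun _ : Unit => j)
        (MT.submatrix (fun _ : Unit => i) g) (MT.submatrix (fun _ : Unit => i) fun _ : Unit => j)).submatrix e e =
          MT.submatrix (Sum.elim f (fun _ => i) ∘ e) (Sum.elim g (fun _ => j) ∘ e) from by
        ext a b
        rcases ha : e a with a' | a' <;> rcases hb : e b with b' | b' <;> simp [ha, hb]]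
      change ((((algebraMap (R ⧸ I) T).comp (Ideal.Quotient.mk I)).mapMatrix
        ((gen k n m).submatrix (Sum.elim f (fun _ => i) ∘ e) (Sum.elim g (fun _ => j) ∘ e))).det) = 0
      rw [← RingHom.map_det, RingHom.comp_apply,
        Ideal.Quotient.eq_zero_iff_mem.2 (minor_mem k _ _), map_zero]
    rw [Matrix.det_fromBlocks₁₁, IsUnit.mul_right_eq_zero hdT, Matrix.det_unique, Matrix.sub_apply, sub_eq_zero,
      Matrix.invOf_eq_nonsing_inv, Matrix.mul_assoc] at hzero
    change π (σ (algebraMap (R ⧸ I) T (Ideal.Quotient.mk I (MvPolynomial.X (i, j))))) =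
      algebraMap (R ⧸ I) T (Ideal.Quotient.mk I (MvPolynomial.X (i, j)))
    rw [show σ (algebraMap (R ⧸ I) T (Ideal.Quotient.mk I (MvPolynomial.X (i, j)))) = M' i j by
      simp [σ, σB, σ₀]
      exact MvPolynomial.aeval_X _ _]
    refine Eq.trans ?_ hzero.symm
    change (M'.map π) i j = _
    rw [show M'.map π = MT.submatrix id g * ((MT.submatrix f g)⁻¹ * MT.submatrix f id) by
      rw [Matrix.map_mul, Matrix.map_mul, hinv, ← hMT]; rfl]
    rfl
  have hsurj : Function.Surjective π := fun z => ⟨σ z, DFunLike.congr_fun hπσ z⟩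
  refine (Algebra.FormallySmooth.iff_split_surjection π hsurj).2 ⟨(Ideal.Quotient.mkₐ k _).comp σ, ?_⟩
  exact AlgHom.ext fun z => DFunLike.congr_fun hπσ z

theorem minor_ne_zero (k : Type u) [Field k] {n m s : ℕ} (hn : s ≤ n) (hm : s ≤ m) :
    ((gen k n m).submatrix (Fin.castLE hn) (Fin.castLE hm)).det ≠ 0 := by
  intro h
  have h1 := congrArg (MvPolynomial.aeval (R := k) fun ij : Fin n × Fin m =>
    if ij.1.1 = ij.2.1 then (1 : k) else 0) h
  rw [map_zero, AlgHom.map_det] at h1
  rw [show (MvPolynomial.aeval (R := k) fun ij : Fin n × Fin m => if ij.1.1 = ij.2.1 then (1 : k) else 0).mapMatrix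
    ((gen k n m).submatrix (Fin.castLE hn) (Fin.castLE hm)) = 1 from by
      ext a b; simp [Matrix.one_apply, Fin.ext_iff], Matrix.det_one] at h1
  exact one_ne_zero h1

/-- At a point killing all `r`-minors the differentials of the entries are independent. -/
theorem le_finrank_fibre (k : Type u) [Field k] (n m r : ℕ) (κ : Type u) [Field κ]
    [Algebra k κ] [Algebra (MvPolynomial (Fin n × Fin m) k ⧸ CAlgX.minorIdeal (gen k n m) (r + 1)) κ]
    [IsScalarTower k (MvPolynomial (Fin n × Fin m) k ⧸ CAlgX.minorIdeal (gen k n m) (r + 1)) κ]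
    (h : ∀ z ∈ CAlgX.minorIdeal (gen k n m) r,
      algebraMap (MvPolynomial (Fin n × Fin m) k ⧸ CAlgX.minorIdeal (gen k n m) (r + 1)) κ (Ideal.Quotient.mk _ z) = 0) :
    n * m ≤ Module.finrank κ (κ ⊗[MvPolynomial (Fin n × Fin m) k ⧸ CAlgX.minorIdeal (gen k n m) (r + 1)]
      Ω[(MvPolynomial (Fin n × Fin m) k ⧸ CAlgX.minorIdeal (gen k n m) (r + 1))⁄k]) := by
  classical
  let R := MvPolynomial (Fin n × Fin m) k
  let I : Ideal R := CAlgX.minorIdeal (gen k n m) (r + 1)
  let B := R ⧸ I
  letI : Algebra R κ := ((algebraMap B κ).comp (Ideal.Quotient.mk I)).toAlgebra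
  haveI : IsScalarTower R B κ := IsScalarTower.of_algebraMap_eq fun _ => rfl
  haveI : IsScalarTower k R κ := IsScalarTower.of_algebraMap_eq fun c => by
    rw [IsScalarTower.algebraMap_apply k B κ, IsScalarTower.algebraMap_apply R B κ, IsScalarTower.algebraMap_apply k R B]
  let D : Fin n × Fin m → Derivation k R κ := fun ab => MvPolynomial.mkDerivation k fun ij => if ij = ab then 1 else 0
  have hD : ∀ ab, ∀ z ∈ I, D ab z = 0 := fun ab z hz => by
    induction hz using Submodule.span_induction with
    | mem z hz =>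
      obtain ⟨⟨a, b⟩, rfl⟩ := hz
      refine derivation_det_eq_zero (D ab) _ fun c d => ?_
      rw [Matrix.submatrix_submatrix, IsScalarTower.algebraMap_apply R B κ]
      exact h _ (minor_mem k _ _)
    | zero => exact map_zero _
    | add a b _ _ ha hb => rw [map_add, ha, hb, add_zero]
    | smul c a ha' ha =>
      rw [smul_eq_mul, Derivation.leibniz, ha, smul_zero, zero_add, ← algebraMap_smul κ a,
        IsScalarTower.algebraMap_apply R B κ]
      change algebraMap B κ (Ideal.Quotient.mk I a) • _ = 0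
      rw [show Ideal.Quotient.mk I a = 0 from Ideal.Quotient.eq_zero_iff_mem.2 ha', map_zero, zero_smul]
  let L : Fin n × Fin m → B →ₗ[k] κ := fun ab =>
    { toFun := Quotient.lift (D ab) fun a b hab => by
        have := hD ab (a - b) ((Submodule.quotientRel_def I).1 hab)
        rwa [map_sub, sub_eq_zero] at this
      map_add' := fun x y => by
        obtain ⟨a, rfl⟩ := Ideal.Quotient.mk_surjective x
        obtain ⟨b, rfl⟩ := Ideal.Quotient.mk_surjective y
        exact map_add (D ab) a b
      map_smul' := fun c x => by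
        obtain ⟨a, rfl⟩ := Ideal.Quotient.mk_surjective x
        exact (D ab).map_smul c a }
  let DB : Fin n × Fin m → Derivation k B κ := fun ab => Derivation.mk' (L ab) fun a b => by
    obtain ⟨a, rfl⟩ := Ideal.Quotient.mk_surjective a
    obtain ⟨b, rfl⟩ := Ideal.Quotient.mk_surjective b
    rw [← map_mul, Algebra.smul_def, Algebra.smul_def]
    change D ab (a * b) = algebraMap B κ (Ideal.Quotient.mk I a) * D ab b + algebraMap B κ (Ideal.Quotient.mk I b) * D ab a
    rw [Derivation.leibniz, Algebra.smul_def, Algebra.smul_def, IsScalarTower.algebraMap_apply R B κ,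
      IsScalarTower.algebraMap_apply R B κ]
    rfl
  have hDB : ∀ ab ij, DB ab (Ideal.Quotient.mk I (MvPolynomial.X ij)) = if ij = ab then 1 else 0 := fun ab ij =>
    MvPolynomial.mkDerivation_X k _ ij
  let v : Fin n × Fin m → κ ⊗[B] Ω[B⁄k] := fun ij => 1 ⊗ₜ KaehlerDifferential.D k B (Ideal.Quotient.mk I (MvPolynomial.X ij))
  have hv : LinearIndependent κ v := Fintype.linearIndependent_iff.2 fun c hc ab => by
    have h2 := congrArg ((DB ab).liftKaehlerDifferential.liftBaseChange κ) hc
    rw [map_sum, map_zero] at h2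
    have h3 : ∀ ij, ((DB ab).liftKaehlerDifferential.liftBaseChange κ) (c ij • v ij) = if ij = ab then c ij else 0 :=
      fun ij => by
        rw [LinearMap.map_smul, LinearMap.liftBaseChange_tmul, one_smul, Derivation.liftKaehlerDifferential_comp_D,
          hDB, smul_eq_mul, mul_ite, mul_one, mul_zero]
    rw [Finset.sum_congr rfl fun ij _ => h3 ij, Finset.sum_ite_eq' Finset.univ ab c, if_pos (Finset.mem_univ ab)] at h2
    exact h2
  haveI : Algebra.FiniteType k B := inferInstance
  haveI : Module.Finite B Ω[B⁄k] := inferInstance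
  simpa using hv.fintype_card_le_finrank

theorem not_smooth (k : Type u) [Field k] (n m r : ℕ) (hr : r < min n m)
    (P : PrimeSpectrum (MvPolynomial (Fin n × Fin m) k ⧸ CAlgX.minorIdeal (gen k n m) (r + 1)))
    (hs : P ∈ Algebra.smoothLocus k (MvPolynomial (Fin n × Fin m) k ⧸ CAlgX.minorIdeal (gen k n m) (r + 1))) :
    ¬ (CAlgX.minorIdeal (gen k n m) r).map (Ideal.Quotient.mk (CAlgX.minorIdeal (gen k n m) (r + 1))) ≤ P.asIdeal := by
  intro hle
  let R := MvPolynomial (Fin n × Fin m) k
  let I : Ideal R := CAlgX.minorIdeal (gen k n m) (r + 1)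
  let B := R ⧸ I
  haveI : IsNoetherianRing B := inferInstance
  haveI : Algebra.FinitePresentation k B := Algebra.FinitePresentation.of_finiteType.1 inferInstance
  obtain ⟨_, ⟨_, ⟨f, rfl⟩, rfl⟩, hfP, hfs⟩ :=
    PrimeSpectrum.isBasis_basic_opens.exists_subset_of_mem_open hs Algebra.isOpen_smoothLocus
  haveI : Algebra.Smooth k (Localization.Away f) := Algebra.basicOpen_subset_smoothLocus_iff_smooth.1 hfs
  let T := Localization.Away f
  have hmem : P ∈ Set.range (PrimeSpectrum.comap (algebraMap B T)) := by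
    rw [PrimeSpectrum.localization_away_comap_range T f]; exact hfP
  obtain ⟨Q, hQ⟩ := hmem
  haveI : Algebra.FormallyEtale B T := Algebra.FormallyEtale.of_isLocalization (Submonoid.powers f)
  let κ := Q.asIdeal.ResidueField
  have h1 : n * m ≤ Module.finrank κ (κ ⊗[B] Ω[B⁄k]) := le_finrank_fibre k n m r κ fun z hz => by
    rw [IsScalarTower.algebraMap_apply B T κ, Ideal.algebraMap_residueField_eq_zero]
    exact (congrArg PrimeSpectrum.asIdeal hQ).ge (hle (Ideal.mem_map_of_mem _ hz))
  have h2 : Module.finrank κ (κ ⊗[B] Ω[B⁄k]) = Module.rankAtStalk (R := T) Ω[T⁄k] Q := by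
    rw [← Ideal.finrank_fiber_eq_rankAtStalk (M := Ω[T⁄k]) Q.asIdeal]
    exact (LinearEquiv.finrank_eq ((AlgebraTensorModule.congr (LinearEquiv.refl κ κ)
        (KaehlerDifferential.isBaseChange_of_formallyEtale k B T).equiv.symm).trans
      (AlgebraTensorModule.cancelBaseChange B T κ κ Ω[B⁄k]))).symm
  have h3 := Groth.Agent.Omega.SmoothFibreDim.localDim_eq_rank k T Q
  rw [show Q = ⟨Q.asIdeal, Q.2⟩ from rfl, Groth.Agent.CAlgLib.LocalDimSpec.localDim_eq k Q.asIdeal] at h3
  obtain ⟨p, hp, hpQ⟩ := Ideal.exists_minimalPrimes_le (bot_le : (⊥ : Ideal T) ≤ Q.asIdeal)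
  have h4 : ∀ q : Groth.Agent.CAlgLib.LocalDimSpec.Mins Q.asIdeal, ringKrullDim (T ⧸ q.1) + 1 ≤ ((n * m : ℕ) : WithBot ℕ∞) := by
    intro q
    haveI : q.1.IsPrime := q.2.1.1.1
    rw [Groth.Agent.Bertini.ringKrullDim_quotient_away (k := k) f q.1]
    set p₁ := q.1.comap (algebraMap B T)
    haveI hp2 : (p₁.comap (Ideal.Quotient.mk I)).IsPrime := inferInstance
    let e : (B ⧸ p₁) ≃+* R ⧸ p₁.comap (Ideal.Quotient.mk I) := (Ideal.quotEquivOfEq (by
      rw [Ideal.map_comap_of_surjective _ Ideal.Quotient.mk_surjective])).trans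
      (DoubleQuot.quotQuotEquivQuotOfLE (fun z hz => by
        show Ideal.Quotient.mk I z ∈ p₁
        rw [Ideal.Quotient.eq_zero_iff_mem.2 hz]; exact p₁.zero_mem))
    rw [ringKrullDim_eq_of_ringEquiv e]
    have hdim : ringKrullDim R = ((n * m : ℕ) : WithBot ℕ∞) := by
      rw [MvPolynomial.ringKrullDim_of_isNoetherianRing, ringKrullDim_eq_zero_of_field]
      simp
    rw [← hdim, ← Groth.Agent.VarDim.ringKrullDim_quotient_add_height k R (p₁.comap (Ideal.Quotient.mk I))]
    refine add_le_add le_rfl ?_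
    have hne : p₁.comap (Ideal.Quotient.mk I) ≠ ⊥ := by
      intro hbot
      have hmem : ((gen k n m).submatrix (Fin.castLE (show r + 1 ≤ n by omega)) (Fin.castLE (show r + 1 ≤ m by omega))).det ∈
          p₁.comap (Ideal.Quotient.mk I) := by
        show Ideal.Quotient.mk I _ ∈ p₁
        rw [Ideal.Quotient.eq_zero_iff_mem.2 (minor_mem k _ _)]
        exact p₁.zero_mem
      rw [hbot, Ideal.mem_bot] at hmem
      exact minor_ne_zero k _ _ hmem
    have h5 : 1 ≤ (p₁.comap (Ideal.Quotient.mk I)).height := by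
      rw [Order.one_le_iff_pos, pos_iff_ne_zero]
      intro h0
      rw [Ideal.height_eq_zero_iff] at h0
      exact hne (le_bot_iff.1 (h0.2 ⟨Ideal.isPrime_bot, bot_le⟩ bot_le))
    exact_mod_cast h5
  have h6 : ((n * m : ℕ) : WithBot ℕ∞) ≤ ⨆ q : Groth.Agent.CAlgLib.LocalDimSpec.Mins Q.asIdeal, ringKrullDim (T ⧸ q.1) := by
    rw [h3]
    exact_mod_cast h1.trans h2.le
  haveI : Nonempty (Groth.Agent.CAlgLib.LocalDimSpec.Mins Q.asIdeal) := ⟨⟨p, hp, hpQ⟩⟩
  haveI : IsNoetherianRing T := IsLocalization.isNoetherianRing (Submonoid.powers f) T inferInstance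
  haveI : Finite (Groth.Agent.CAlgLib.LocalDimSpec.Mins Q.asIdeal) :=
    ((Ideal.finite_minimalPrimes_of_isNoetherianRing T ⊥).subset fun q hq => hq.1).to_subtype
  obtain ⟨q, hq⟩ := exists_eq_ciSup_of_finite (f := fun q : Groth.Agent.CAlgLib.LocalDimSpec.Mins Q.asIdeal => ringKrullDim (T ⧸ q.1))
  rw [← hq] at h6
  have h7 := (add_le_add h6 le_rfl).trans (h4 q)
  have h8 : ((n * m + 1 : ℕ) : WithBot ℕ∞) ≤ ((n * m : ℕ) : WithBot ℕ∞) := by
    push_cast at h7 ⊢; exact h7
  exact absurd (Nat.cast_le.1 h8) (by omega)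

/-- Let k be a field and 0 < r < min(n, m), and let B be the coordinate ring of the affine determinantal
scheme of n × m matrices of rank at most r over k (polynomial ring on the entries of the generic
matrix modulo its (r+1) × (r+1) minors). A prime P of B is a smooth point over k (the localization
B_P is formally smooth over k) exactly when it corresponds to a matrix of rank exactly r, i.e. when
P does not contain the image of the ideal generated by the r × r minors. -/
theorem result (k : Type u) [Field k] (n m r : ℕ) (hr0 : 0 < r)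
    (hr : r < min n m)
    (P : PrimeSpectrum (MvPolynomial (Fin n × Fin m) k ⧸ CAlgX.minorIdeal (Matrix.of fun (i : Fin n) (j : Fin m) => (MvPolynomial.X (i, j) : MvPolynomial (Fin n × Fin m) k)) (r + 1))) :
    P ∈ Algebra.smoothLocus k (MvPolynomial (Fin n × Fin m) k ⧸ CAlgX.minorIdeal (Matrix.of fun (i : Fin n) (j : Fin m) => (MvPolynomial.X (i, j) : MvPolynomial (Fin n × Fin m) k)) (r + 1)) ↔
      ¬ (CAlgX.minorIdeal (Matrix.of fun (i : Fin n) (j : Fin m) => (MvPolynomial.X (i, j) : MvPolynomial (Fin n × Fin m) k)) r).map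
          (Ideal.Quotient.mk (CAlgX.minorIdeal (Matrix.of fun (i : Fin n) (j : Fin m) => (MvPolynomial.X (i, j) : MvPolynomial (Fin n × Fin m) k)) (r + 1))) ≤ P.asIdeal := by
  refine ⟨not_smooth k n m r hr P, fun h => ?_⟩
  obtain ⟨⟨f, g⟩, hfg⟩ : ∃ fg : (Fin r → Fin n) × (Fin r → Fin m),
      Ideal.Quotient.mk (CAlgX.minorIdeal (gen k n m) (r + 1)) ((gen k n m).submatrix fg.1 fg.2).det ∉ P.asIdeal := by
    by_contra hne
    push Not at hne
    exact h (Ideal.map_le_iff_le_comap.2 (Ideal.span_le.2 (Set.range_subset_iff.2 hne)))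
  haveI := formallySmooth_away k n m r f g
  haveI : Algebra.FinitePresentation k (MvPolynomial (Fin n × Fin m) k ⧸ CAlgX.minorIdeal (gen k n m) (r + 1)) :=
    Algebra.FinitePresentation.of_finiteType.1 inferInstance
  refine (Algebra.basicOpen_subset_smoothLocus_iff_smooth (f := Ideal.Quotient.mk
    (CAlgX.minorIdeal (gen k n m) (r + 1)) ((gen k n m).submatrix f g).det)).2 ?_ hfg
  haveI := IsLocalization.Away.finitePresentation (S := Localization.Away (Ideal.Quotient.mk
    (CAlgX.minorIdeal (gen k n m) (r + 1)) ((gen k n m).submatrix f g).det))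
    (Ideal.Quotient.mk (CAlgX.minorIdeal (gen k n m) (r + 1)) ((gen k n m).submatrix f g).det)
  exact ⟨inferInstance, Algebra.FinitePresentation.trans k
    (MvPolynomial (Fin n × Fin m) k ⧸ CAlgX.minorIdeal (gen k n m) (r + 1)) _⟩

end Groth.Agent.S10883
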