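import Groth.Statements.S10885
import Groth.Agent.EquidimPt.FieldBase
-- import your own Groth.Agent.* helpers here

set_option autoImplicit false
universe u
open CategoryTheory AlgebraicGeometry
open Variety

namespace Groth.Agent.S10885

open AlgebraicGeometry CategoryTheory Groth.Agent

/-- Let Y be a scheme of finite type over a field k, r ≥ 0, and f : X → Y a morphism of finite type
whose fibre over every maximal point of Y has dimension at least r. Then dim X ≥ r + dim Y. -/
theorem result (k : Type u) [Field k] {X Y : Scheme.{u}}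
    (q : Y ⟶ Spec (CommRingCat.of k)) [LocallyOfFiniteType q] [QuasiCompact q]
    (f : X ⟶ Y) [LocallyOfFiniteType f] [QuasiCompact f] (r : ℕ)
    (hfib : ∀ η : Y, (∀ y : Y, y ⤳ η → y = η) → (r : WithBot ℕ∞) ≤ topologicalKrullDim (f.base ⁻¹' {η})) :
    (r : WithBot ℕ∞) + topologicalKrullDim Y ≤ topologicalKrullDim X := by
  rw [EquidimPt.topDim_eq_iSup k q]
  rcases isEmpty_or_nonempty ↥Y with hY | hY
  · rw [iSup_of_empty]
    simp
  have key : ∀ y : Y, ((r + EquidimPt.dimOver k q y : ℕ) : WithBot ℕ∞) ≤ topologicalKrullDim X := fun y => by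
    obtain ⟨η, hηy, hη⟩ := FlatOpen.EquiDim.exists_max y
    obtain ⟨x, hx, hr⟩ := EquidimPt.exists_le_of_topDim_fibre f (hfib η fun z hz => (hη z hz).symm ▸ rfl)
    obtain ⟨t, ht, hD⟩ := EquidimPt.exists_dimOver_eq k f q x
    rw [EquidimPt.topDim_eq_iSup k (f ≫ q)]
    refine le_trans ?_ (le_iSup (fun z : X => (EquidimPt.dimOver k (f ≫ q) z : WithBot ℕ∞)) x)
    rw [ht] at hr
    have h1 := Nat.cast_le.1 hr
    have h2 := EquidimPt.dimOver_le k q hηy
    rw [hx] at hD
    exact Nat.cast_le.2 (by omega)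
  have hco : (⨆ y : Y, (EquidimPt.dimOver k q y : WithBot ℕ∞)) =
      ((⨆ y : Y, (EquidimPt.dimOver k q y : ℕ∞) : ℕ∞) : WithBot ℕ∞) :=
    (WithBot.coe_iSup (OrderTop.bddAbove _)).symm
  rw [hco]
  have hr' : (r : WithBot ℕ∞) = ((r : ℕ∞) : WithBot ℕ∞) := rfl
  rw [hr', ← WithBot.coe_add, ENat.add_iSup, WithBot.coe_iSup (OrderTop.bddAbove _)]
  refine iSup_le fun y => ?_
  exact (le_of_eq (by push_cast; rfl)).trans (key y)

end Groth.Agent.S10885
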