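import Groth.Statements.S10884
import Groth.Agent.EquidimPt.FieldBase
import Groth.Agent.S10885
-- import your own Groth.Agent.* helpers here

set_option autoImplicit false
universe u
open CategoryTheory AlgebraicGeometry
open Variety

namespace Groth.Agent.S10884

open AlgebraicGeometry CategoryTheory Groth.Agent

/-- Let Y be a scheme of finite type over a field k and f : X → Y a dominant morphism of finite type all
of whose non-empty fibres have dimension r. Then dim X = r + dim Y. -/
theorem result (k : Type u) [Field k] {X Y : Scheme.{u}}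
    (q : Y ⟶ Spec (CommRingCat.of k)) [LocallyOfFiniteType q] [QuasiCompact q]
    (f : X ⟶ Y) [LocallyOfFiniteType f] [QuasiCompact f] (hdom : DenseRange f.base) (r : ℕ)
    (hfib : ∀ y : Y, (f.base ⁻¹' {y}).Nonempty → topologicalKrullDim (f.base ⁻¹' {y}) = r) :
    topologicalKrullDim X = (r : WithBot ℕ∞) + topologicalKrullDim Y := by
  refine le_antisymm ?_ (S10885.result k q f r fun η hη => ?_)
  · rw [EquidimPt.topDim_eq_iSup k (f ≫ q)]
    refine iSup_le fun x => ?_
    obtain ⟨t, ht, hD⟩ := EquidimPt.exists_dimOver_eq k f q x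
    have h1 := EquidimPt.krullDim_le_topDim_fibre f (y := f x) rfl
    rw [ht, hfib (f x) ⟨x, rfl⟩] at h1
    have h2 : (EquidimPt.dimOver k q (f x) : WithBot ℕ∞) ≤ topologicalKrullDim Y := by
      rw [EquidimPt.topDim_eq_iSup k q]
      exact le_iSup (fun y : Y => (EquidimPt.dimOver k q y : WithBot ℕ∞)) (f x)
    rw [hD, Nat.cast_add, add_comm]
    exact add_le_add h1 h2
  · obtain ⟨x, hx⟩ := EquidimPt.mem_range_of_max k f q hdom (η := η) fun z hz => (hη z hz).symm ▸ rfl
    exact (hfib η ⟨x, hx⟩).ge

end Groth.Agent.S10884
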