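import Groth.Statements.S10886
import Mathlib.AlgebraicGeometry.Noetherian
import Mathlib.Topology.Constructible
-- import your own Groth.Agent.* helpers here

set_option autoImplicit false
universe u
open CategoryTheory AlgebraicGeometry
open Curves

namespace Groth.Agent.S10886

open TopologicalSpace in
/-- Proper closed subsets of an irreducible Noetherian sober space of dimension one. -/
lemma finite_closed {T : Type u} [TopologicalSpace T] [NoetherianSpace T] [IrreducibleSpace T]
    [QuasiSober T] [T0Space T] (hT : topologicalKrullDim T = 1) {Z : Set T} (hZ : IsClosed Z) (hne : Z ≠ Set.univ) :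
    Z.Finite ∧ ∀ x ∈ Z, IsClosed ({x} : Set T) := by
  have hpt : ∀ x ∈ Z, IsClosed ({x} : Set T) := by
    intro x hx
    rw [← closure_eq_iff_isClosed]
    refine Set.Subset.antisymm (fun y hy => ?_) subset_closure
    by_contra hyx
    let A : IrreducibleCloseds T := ⟨closure {y}, isIrreducible_singleton.closure, isClosed_closure⟩
    let B : IrreducibleCloseds T := ⟨closure {x}, isIrreducible_singleton.closure, isClosed_closure⟩
    let C : IrreducibleCloseds T := ⟨Set.univ, IrreducibleSpace.isIrreducible_univ T, isClosed_univ⟩
    have hAB : A < B := by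
      refine lt_of_le_of_ne (show closure {y} ⊆ closure {x} from
        closure_minimal (Set.singleton_subset_iff.2 hy) isClosed_closure) fun h => hyx ?_
      have h' : closure ({y} : Set T) = closure {x} := congrArg (fun I : IrreducibleCloseds T => (I : Set T)) h
      exact (inseparable_iff_closure_eq.2 h').eq
    have hBC : B < C := by
      refine lt_of_le_of_ne (Set.subset_univ (closure {x})) fun h => hne ?_
      have h' : closure ({x} : Set T) = Set.univ := congrArg (fun I : IrreducibleCloseds T => (I : Set T)) h
      exact Set.eq_univ_of_univ_subset (h' ▸ closure_minimal (Set.singleton_subset_iff.2 hx) hZ)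
    have h := Order.LTSeries.length_le_krullDim
      (((RelSeries.singleton _ A).snoc B (by simpa using hAB)).snoc C (by simpa using hBC))
    change _ ≤ topologicalKrullDim T at h
    rw [hT] at h
    simp only [RelSeries.snoc_length, RelSeries.singleton_length] at h
    norm_cast at h
  refine ⟨?_, hpt⟩
  obtain ⟨S, hSf, hSc, hSi, hSU⟩ := NoetherianSpace.exists_finite_set_isClosed_irreducible hZ
  rw [hSU]
  refine hSf.sUnion fun t ht => Set.Subsingleton.finite fun a ha b hb => ?_
  obtain ⟨c, hc⟩ : ∃ c, IsGenericPoint c t := by
    obtain ⟨c, hc⟩ := QuasiSober.sober (hSi t ht) (hSc t ht)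
    exact ⟨c, hc⟩
  have hcl : t = {c} := by
    rw [← hc.def]
    exact (hpt c (hSU ▸ ⟨t, ht, hc.mem⟩)).closure_eq
  rw [hcl] at ha hb
  exact ha.trans hb.symm

/-- In an irreducible Noetherian scheme of dimension one every constructible subset is either a finite
set of closed points or the complement of such a set; in particular it is open or closed. -/
theorem result {X : Scheme.{u}} [IsNoetherian X]
    [IrreducibleSpace X] (hX : topologicalKrullDim X = 1) (s : Set X) (hs : Topology.IsConstructible s) :
    (s.Finite ∧ (∀ x ∈ s, IsClosed ({x} : Set X))) ∨ (sᶜ.Finite ∧ ∀ x ∈ sᶜ, IsClosed ({x} : Set X)) := by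
  induction hs using Topology.IsConstructible.empty_union_induction with
  | open_retrocompact U hU _ =>
    rcases eq_or_ne U ∅ with rfl | hne
    · exact Or.inl ⟨Set.finite_empty, fun x hx => hx.elim⟩
    · exact Or.inr (finite_closed hX hU.isClosed_compl (by simpa using hne))
  | union s _ t _ hs ht =>
    rcases hs with ⟨hs, hs'⟩ | ⟨hs, hs'⟩
    · rcases ht with ⟨ht, ht'⟩ | ⟨ht, ht'⟩
      · exact Or.inl ⟨hs.union ht, fun x hx => hx.elim (hs' x) (ht' x)⟩
      · exact Or.inr ⟨ht.subset (by simp), fun x hx => ht' x (by simp_all)⟩
    · exact Or.inr ⟨hs.subset (by simp), fun x hx => hs' x (by simp_all)⟩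
  | compl s _ hs =>
    rw [compl_compl]
    exact hs.symm

end Groth.Agent.S10886
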