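import Groth.Statements.S10887
import Groth.Agent.FlatMor.DimOne

set_option autoImplicit false
universe u
open CategoryTheory AlgebraicGeometry
open FlatMor

namespace Groth.Agent.S10887

open CategoryTheory AlgebraicGeometry Groth.Agent.FlatMor

/-- (i) ⇔ (iii): let Y be a Dedekind scheme — an integral Noetherian scheme of dimension at most one all
of whose local rings are regular — and f : X → Y a morphism of schemes with X reduced. Then f is
flat if and only if every irreducible component of X dominates Y. (Without reducedness only the
forward implication holds.) -/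
theorem result {X Y : Scheme.{u}} [IsIntegral Y]
    [IsNoetherian Y] (hreg : ∀ y : Y, IsRegularLocalRing (Y.presheaf.stalk y)) (hdim : topologicalKrullDim Y ≤ 1)
    (f : X ⟶ Y) [IsReduced X] :
    Flat f ↔ ∀ Z ∈ irreducibleComponents (X : Type u), Dense (f.base '' Z) := by
  constructor
  · intro _ Z hZ
    obtain ⟨η, hη⟩ := QuasiSober.sober hZ.1 (isClosed_of_mem_irreducibleComponents Z hZ)
    have h1 := GenericPts.generic_of_generalizingMap (Flat.generalizingMap f) f.continuous
      (η := η) (hη.def.symm ▸ hZ)
    rw [irreducibleComponents_eq_singleton, Set.mem_singleton_iff] at h1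
    rw [dense_iff_closure_eq, ← Set.univ_subset_iff, ← h1]
    exact closure_mono (Set.singleton_subset_iff.mpr ⟨η, hη.mem, rfl⟩)
  · intro h
    have hdim' : ∀ y : Y, ringKrullDim (Y.presheaf.stalk y) ≤ 1 := fun y => by
      rw [← PrimeSpectrum.topologicalKrullDim_eq_ringKrullDim]
      exact ((Y.fromSpecStalk y).isEmbedding.isInducing.topologicalKrullDim_le).trans hdim
    refine DimOne.flat_of_stalk_regular f hreg hdim' fun x b hb a hba => ?_
    have := hreg (f x)
    have := RegLoc.isDomain (Y.presheaf.stalk (f x))
    have hmem : a ∈ nilradical (X.presheaf.stalk x) := by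
      rw [nilradical, ← Ideal.sInf_minimalPrimes, Submodule.mem_sInf]
      intro q hq
      have : Ideal.IsPrime q := Ideal.minimalPrimes_isPrime hq
      have hgen : closure {X.fromSpecStalk x ⟨q, this⟩} ∈ irreducibleComponents X :=
        (DimOne.closure_fromSpecStalk_mem_iff x ⟨q, this⟩).mpr hq
      have hd := (h _ hgen).closure_eq
      have hY : closure {f (X.fromSpecStalk x (⟨q, this⟩ : Spec (X.presheaf.stalk x)))} ∈
          irreducibleComponents Y := by
        rw [irreducibleComponents_eq_singleton, Set.mem_singleton_iff]
        refine Set.univ_subset_iff.mp (hd ▸ closure_minimal ?_ isClosed_closure)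
        exact (image_closure_subset_closure_image f.continuous).trans (by rw [Set.image_singleton])
      exact ((this.mem_or_mem (show _ * a ∈ q by rw [hba]; exact q.zero_mem)).resolve_left
        (DimOne.notMem_of_generic f ⟨q, this⟩ hY hb))
    rwa [nilradical_eq_zero, Ideal.zero_eq_bot, Ideal.mem_bot] at hmem

end Groth.Agent.S10887
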