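import Groth.Statements.S10888
import Groth.Agent.PurIso.Fibre
-- import your own Groth.Agent.* helpers here

set_option autoImplicit false
universe u
open CategoryTheory AlgebraicGeometry
open FlatMor

namespace Groth.Agent.S10888

/-- Let g : X → S and h : Y → S be proper and of finite presentation with g flat, and f : X → Y a
morphism over S. Then the locus U of points of S over which the fibre morphism X_s → Y_s is an
isomorphism is an open subset of S, and f restricts to an isomorphism over U. -/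
theorem result {X Y S : Scheme.{u}} (g : X ⟶ S) (h : Y ⟶ S)
    [IsProper g] [LocallyOfFinitePresentation g] [Flat g] [IsProper h] [LocallyOfFinitePresentation h]
    (f : X ⟶ Y) (w : f ≫ h = g) :
    ∃ U : S.Opens, (∀ s : S, s ∈ U ↔ ∃ e : g.fiber s ≅ h.fiber s, e.hom ≫ h.fiberι s = g.fiberι s ≫ f) ∧
      IsIso (f ∣_ (h ⁻¹ᵁ U)) := by
  subst w
  have hiff : ∀ s : S, IsIso (MoreMor.fiberMap f h s) ↔
      ∃ e : (f ≫ h).fiber s ≅ h.fiber s, e.hom ≫ h.fiberι s = (f ≫ h).fiberι s ≫ f := by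
    refine fun s => ⟨fun hs => ?_, fun ⟨e, he⟩ => ?_⟩
    · exact ⟨@asIso _ _ _ _ (MoreMor.fiberMap f h s) hs, Limits.pullback.lift_fst _ _ _⟩
    · haveI : Mono (h.fiberι s) := inferInstance
      have : e.hom = MoreMor.fiberMap f h s :=
        (cancel_mono (h.fiberι s)).1 (he.trans (Limits.pullback.lift_fst _ _ _).symm)
      rw [← this]; infer_instance
  refine ⟨⟨_, PurIso.isOpen_isoLocus f h⟩, hiff, ?_⟩
  set U : S.Opens := ⟨_, PurIso.isOpen_isoLocus f h⟩ with hU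
  have e : (f ∣_ (h ⁻¹ᵁ U)) ≫ (h ∣_ U) = (f ≫ h) ∣_ U := (morphismRestrict_comp f h U).symm
  haveI : Flat ((f ∣_ (h ⁻¹ᵁ U)) ≫ (h ∣_ U)) := e ▸ inferInstanceAs (Flat ((f ≫ h) ∣_ U))
  haveI : LocallyOfFinitePresentation ((f ∣_ (h ⁻¹ᵁ U)) ≫ (h ∣_ U)) :=
    e ▸ inferInstanceAs (LocallyOfFinitePresentation ((f ≫ h) ∣_ U))
  refine PurIso.isIso_of_forall_fmap (f ∣_ (h ⁻¹ᵁ U)) (h ∣_ U) fun s => ?_
  exact PurIso.isIso_fmap_of_isIso (σ := U.ι) (eY := (h ⁻¹ᵁ U).ι) (morphismRestrict_ι h U)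
    (isPullback_morphismRestrict f (h ⁻¹ᵁ U)).flip s s.2

end Groth.Agent.S10888
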