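import Groth.Statements.S10889
import Groth.Agent.S0403
import Groth.Agent.S0404
import Groth.Agent.TopDimLib.Basic
import Mathlib.AlgebraicGeometry.ZariskisMainTheorem

set_option autoImplicit false
universe u
open CategoryTheory AlgebraicGeometry
open FlatMor

namespace Groth.Agent.S10889

/-- Let f : X → Y be proper, flat and of finite presentation, and let V be the set of points of Y whose
fibre is (non-empty and) zero-dimensional. Then V is a clopen subset of Y, and over every open
subset of V the restriction of f is finite, hence finite locally free. -/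
theorem result {X Y : Scheme.{u}} (f : X ⟶ Y) [IsProper f] [Flat f]
    [LocallyOfFinitePresentation f] :
    IsClopen {y : Y | topologicalKrullDim (f.base ⁻¹' {y}) = 0} ∧
      ∀ U : Y.Opens, (U : Set Y) ⊆ {y : Y | topologicalKrullDim (f.base ⁻¹' {y}) = 0} → IsFinite (f ∣_ U) := by
  have hh : ∀ y : Y, topologicalKrullDim ↥(f.fiber y) = topologicalKrullDim ↥(f.base ⁻¹' {y}) := fun y =>
    IsHomeomorph.topologicalKrullDim_eq _ (f.fiberHomeo y).isHomeomorph
  have hcases : ∀ d : WithBot ℕ∞, d ≠ 0 ↔ d ≤ ⊥ ∨ 0 < d := fun d => by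
    induction d using WithBot.recBotCoe with
    | bot => simp
    | coe a => simp [pos_iff_ne_zero]
  refine ⟨⟨⟨?_⟩, ?_⟩, fun U hU => ?_⟩
  · have e : {y : Y | topologicalKrullDim (f.base ⁻¹' {y}) = 0}ᶜ =
        {y : Y | topologicalKrullDim ↥(f.fiber y) ≤ ⊥} ∪ {y : Y | 0 < topologicalKrullDim ↥(f.fiber y)} := by
      ext y
      simp only [Set.mem_compl_iff, Set.mem_setOf_eq, Set.mem_union, hh]
      exact hcases _
    rw [e]
    exact (Groth.Agent.S0403.result f ⊥).union (Groth.Agent.S0404.result f 0)
  · have e : {y : Y | topologicalKrullDim (f.base ⁻¹' {y}) = 0} =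
        {y : Y | topologicalKrullDim ↥(f.fiber y) ≤ 0} ∩ {y : Y | ⊥ < topologicalKrullDim ↥(f.fiber y)} := by
      ext y
      simp only [Set.mem_setOf_eq, Set.mem_inter_iff, hh]
      generalize topologicalKrullDim ↥(f.base ⁻¹' {y}) = d
      induction d using WithBot.recBotCoe with
      | bot => simp
      | coe a => simp [WithBot.bot_lt_coe]
    rw [e]
    exact (Groth.Agent.S0403.result f 0).inter (Groth.Agent.S0404.result f ⊥)
  · haveI : IsProper (f ∣_ U) :=
      MorphismProperty.of_isPullback (isPullback_morphismRestrict f U).flip ‹IsProper f›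
    haveI : LocallyQuasiFinite (f ∣_ U) := by
      refine locallyQuasiFinite_iff_isDiscrete_preimage_singleton.2 fun y => ?_
      have hd : topologicalKrullDim ↥(f.fiber (U.ι y)) ≤ 0 := ((hh _).trans (hU y.2)).le
      haveI : IsLocallyNoetherian (f.fiber (U.ι y)) :=
        LocallyOfFiniteType.isLocallyNoetherian (f.fiberToSpecResidueField _)
      haveI : CompactSpace ↥(f.fiber (U.ι y)) :=
        QuasiCompact.compactSpace_of_compactSpace (f.fiberToSpecResidueField _)
      haveI : IsNoetherian (f.fiber (U.ι y)) := {}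
      haveI := (Groth.Agent.TopDimLib.finite_and_discrete_of_topDim_le_zero hd).2
      have h1 : _root_.IsDiscrete (f.base ⁻¹' {U.ι y}) :=
        ⟨(f.fiberHomeo (U.ι y)).symm.isEmbedding.discreteTopology⟩
      refine (h1.preimage (f ⁻¹ᵁ U).ι.continuous.continuousOn (f ⁻¹ᵁ U).ι.isOpenEmbedding.injective).mono ?_
      intro x hx
      show f x.1 = y.1
      exact (morphismRestrict_base_coe f U x).symm.trans (congrArg Subtype.val hx)
    exact IsFinite.of_isProper_of_locallyQuasiFinite _

end Groth.Agent.S10889
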