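import Groth.Statements.S1089
import Groth.Agent.FilInjLib.Resolution
-- import your own Groth.Agent.* helpers here

set_option autoImplicit false
universe v u
open CategoryTheory CategoryTheory.Limits Opposite
open FilD

namespace Groth.Agent.S1089

set_option backward.isDefEq.respectTransparency.types false

/-- Let A be an abelian category with enough injectives and X a finite filtered object. There are a
cochain complex I of filtered injective objects with Iⁿ = 0 for n < 0 and a filtered
quasi-isomorphism X[0] ⟶ I. -/
theorem result {A : Type u} [Category.{v} A] [Abelian A] [EnoughInjectives A] (X : FilD.FilF A) :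
    ∃ (I : CochainComplex (FilD.FilF A) ℤ) (φ : (CochainComplex.singleFunctor (FilD.FilF A) 0).obj X ⟶ I), I.IsStrictlyGE 0 ∧
      (∀ n, FilD.IsFilteredInjective (I.X n)) ∧ FilD.IsFilteredQuasiIso φ := by
  haveI : ((CochainComplex.singleFunctor (FilD.FilF A) 0).obj X).IsStrictlyGE 0 := by
    rw [CochainComplex.isStrictlyGE_iff]
    intro n hn
    exact HomologicalComplex.isZero_single_obj_X _ _ _ _ (by omega)
  obtain ⟨I, φ, h1, h2, h3, -⟩ :=
    FilInjLib.exists_resolution (K := (CochainComplex.singleFunctor (FilD.FilF A) 0).obj X) 0
  exact ⟨I, φ, h1, h2, h3⟩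

end Groth.Agent.S1089
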