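import Groth.Statements.S10890
import Groth.Agent.CAlgLib.Minors
import Groth.Agent.CAlgMisc.McCoy
import Mathlib.LinearAlgebra.Matrix.SchurComplement
import Mathlib.RingTheory.LocalRing.Module
import Mathlib.LinearAlgebra.Matrix.ToLin

set_option autoImplicit false
universe u
open CAlgX

namespace Groth.Agent.S10890

/-- (i) ⇔ (ii): let R be a local ring, A an n × m matrix over R regarded as a linear map R^m → R^n, and
1 ≤ r ≤ n. Then the image of A is a direct summand of R^n of rank r if and only if every (r+1) ×
(r+1) minor of A is zero and the r × r minors of A generate the unit ideal. (The printed statement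
is over an arbitrary ring with 'direct summand of rank r'; its proof localises at once, and this row
states the local case, where a direct summand of R^n is free and its rank is its finrank.) -/
theorem result (R : Type u) [CommRing R] [IsLocalRing R] (n m r : ℕ)
    (hr : 1 ≤ r) (hrn : r ≤ n) (A : Matrix (Fin n) (Fin m) R) :
    (∃ N' : Submodule R (Fin n → R), IsCompl (LinearMap.range (Matrix.mulVecLin A)) N' ∧
        Module.finrank R (LinearMap.range (Matrix.mulVecLin A)) = r) ↔
      (CAlgX.minorIdeal A (r + 1) = ⊥ ∧ CAlgX.minorIdeal A r = ⊤) := by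
  classical
  constructor
  · rintro ⟨N', hN', hrank⟩
    set W := LinearMap.range (Matrix.mulVecLin A)
    -- the summand is free
    let P := W.projectionOnto N' hN'
    haveI : Module.Finite R W := Module.Finite.of_surjective P
      (fun w => ⟨(w : Fin n → R), Submodule.projectionOnto_apply_left hN' w⟩)
    haveI : Module.Projective R W := Module.Projective.of_split W.subtype P
      (LinearMap.ext fun w => Submodule.projectionOnto_apply_left hN' w)
    haveI : Module.Free R W := Module.free_of_flat_of_isLocalRing
    let b := Module.finBasisOfFinrankEq R W hrank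
    let s : (Fin n → R) →ₗ[R] (Fin r → R) := b.equivFun.toLinearMap ∘ₗ P
    let ι : (Fin r → R) →ₗ[R] (Fin n → R) := W.subtype ∘ₗ b.equivFun.symm.toLinearMap
    let q : (Fin m → R) →ₗ[R] (Fin r → R) := b.equivFun.toLinearMap ∘ₗ (Matrix.mulVecLin A).rangeRestrict
    have hA : Matrix.mulVecLin A = ι ∘ₗ q := LinearMap.ext fun v => by simp [ι, q, W]
    have hq : Function.Surjective q :=
      b.equivFun.surjective.comp (Matrix.mulVecLin A).surjective_rangeRestrict
    obtain ⟨τ, hτ⟩ := Module.projective_lifting_property q LinearMap.id hq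
    have hs : s ∘ₗ ι = LinearMap.id := LinearMap.ext fun v => by
      show b.equivFun (W.projectionOnto N' hN' ((b.equivFun.symm v : W) : Fin n → R)) = v
      rw [Submodule.projectionOnto_apply_left, LinearEquiv.apply_symm_apply]
    have hAM : A = LinearMap.toMatrix' ι * LinearMap.toMatrix' q := by
      rw [← LinearMap.toMatrix'_comp, ← hA]
      exact (LinearMap.toMatrix'_toLin' A).symm
    have hsAt : LinearMap.toMatrix' s * A * LinearMap.toMatrix' τ = 1 := by
      rw [hAM, ← Matrix.mul_assoc, ← LinearMap.toMatrix'_comp, hs, LinearMap.toMatrix'_id,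
        Matrix.one_mul, ← LinearMap.toMatrix'_comp, hτ, LinearMap.toMatrix'_id]
    refine ⟨?_, ?_⟩
    · rw [CAlgX.minorIdeal, Ideal.span_eq_bot]
      rintro _ ⟨⟨f, g⟩, rfl⟩
      let B' : Matrix (Fin (r + 1)) (Fin (r + 1)) R :=
        Matrix.of fun i => Fin.snoc (fun t => LinearMap.toMatrix' ι (f i) t) 0
      let C' : Matrix (Fin (r + 1)) (Fin (r + 1)) R :=
        Matrix.of (Fin.snoc (fun t j => LinearMap.toMatrix' q t (g j)) 0)
      have e : A.submatrix f g = B' * C' := by
        ext i j
        rw [Matrix.submatrix_apply, hAM, Matrix.mul_apply, Matrix.mul_apply, Fin.sum_univ_castSucc]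
        simp [B', C']
      show (A.submatrix f g).det = 0
      rw [e, Matrix.det_mul, Matrix.det_eq_zero_of_column_eq_zero (Fin.last r)
        (fun i => by simp [B']), zero_mul]
    · rw [Ideal.eq_top_iff_one, ← Matrix.det_one (n := Fin r) (R := R), ← hsAt]
      refine Ideal.span_le.2 ?_ (Groth.Agent.CAlgLib.Minors.det_mul_mem_span_minors' (LinearMap.toMatrix' s * A) (LinearMap.toMatrix' τ))
      rintro _ ⟨g, rfl⟩
      show ((LinearMap.toMatrix' s * A).submatrix id g).det ∈ _
      rw [show (LinearMap.toMatrix' s * A).submatrix id g = LinearMap.toMatrix' s * A.submatrix id g from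
        rfl]
      refine Ideal.span_le.2 ?_ (Groth.Agent.CAlgLib.Minors.det_mul_mem_span_minors (LinearMap.toMatrix' s) (A.submatrix id g))
      rintro _ ⟨f, rfl⟩
      exact Ideal.subset_span ⟨(f, g), rfl⟩
  · rintro ⟨h1, h2⟩
    obtain ⟨f, g, hu⟩ : ∃ f g, IsUnit (A.submatrix (f : Fin r → Fin n) (g : Fin r → Fin m)).det := by
      by_contra hcon
      push Not at hcon
      refine (IsLocalRing.maximalIdeal.isMaximal R).ne_top (top_le_iff.1 (h2 ▸ ?_))
      rw [CAlgX.minorIdeal, Ideal.span_le]
      rintro _ ⟨⟨f, g⟩, rfl⟩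
      exact hcon f g
    set D := A.submatrix f g with hD
    haveI := Matrix.invertibleOfIsUnitDet D hu
    let ι : (Fin r → R) →ₗ[R] (Fin n → R) := Matrix.mulVecLin (A.submatrix id g)
    let s : (Fin n → R) →ₗ[R] (Fin r → R) := (Matrix.mulVecLin (⅟D)).comp (LinearMap.funLeft R R f)
    have hs : s ∘ₗ ι = LinearMap.id := by
      refine LinearMap.ext fun v => ?_
      show (⅟D).mulVec ((A.submatrix id g).mulVec v ∘ f) = v
      rw [show (A.submatrix id g).mulVec v ∘ f = D.mulVec v from rfl, Matrix.mulVec_mulVec,
        invOf_mul_self, Matrix.one_mulVec]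
    have hcol : ∀ c : Fin m, A.col c = ι ((⅟D).mulVec (A.col c ∘ f)) := by
      intro c
      funext i
      have h3 : (A.submatrix (Sum.elim f fun _ : Fin 1 => i) (Sum.elim g fun _ : Fin 1 => c)).det = 0 := by
        have hmem : (A.submatrix ((Sum.elim f fun _ : Fin 1 => i) ∘ finSumFinEquiv.symm)
            ((Sum.elim g fun _ : Fin 1 => c) ∘ finSumFinEquiv.symm)).det ∈ CAlgX.minorIdeal A (r + 1) :=
          Ideal.subset_span ⟨(_, _), rfl⟩
        rw [h1, Submodule.mem_bot] at hmem
        rw [← Matrix.det_submatrix_equiv_self finSumFinEquiv.symm]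
        exact hmem
      have hblock : A.submatrix (Sum.elim f fun _ : Fin 1 => i) (Sum.elim g fun _ : Fin 1 => c) =
          Matrix.fromBlocks D (Matrix.of fun p (_ : Fin 1) => A (f p) c)
            (Matrix.of fun (_ : Fin 1) q => A i (g q)) (Matrix.of fun _ _ => A i c) := by
        ext (p | p) (q | q) <;> rfl
      rw [hblock, Matrix.det_fromBlocks₁₁, hu.mul_right_eq_zero, Matrix.det_unique] at h3
      simp only [Matrix.sub_apply, Matrix.of_apply, sub_eq_zero] at h3
      rw [Matrix.col_apply, h3]
      simp only [ι, Matrix.mulVecLin_apply, Matrix.mulVec, dotProduct, Matrix.mul_apply, Matrix.of_apply,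
        Matrix.submatrix_apply, id, Function.comp_apply, Matrix.col_apply, Finset.sum_mul, Finset.mul_sum]
      rw [Finset.sum_comm]
      exact Finset.sum_congr rfl fun _ _ => Finset.sum_congr rfl fun _ _ => by ring
    have hrange : LinearMap.range (Matrix.mulVecLin A) = LinearMap.range ι := by
      refine le_antisymm ?_ ?_
      · rw [Matrix.range_mulVecLin, Submodule.span_le]
        rintro _ ⟨c, rfl⟩
        exact ⟨_, (hcol c).symm⟩
      · show LinearMap.range (Matrix.mulVecLin (A.submatrix id g)) ≤ _
        rw [Matrix.range_mulVecLin, Matrix.range_mulVecLin]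
        exact Submodule.span_mono (by rintro _ ⟨q, rfl⟩; exact ⟨g q, rfl⟩)
    have hinj : Function.Injective ι := fun v w h => by
      have := congrArg s h
      rwa [← LinearMap.comp_apply, ← LinearMap.comp_apply, hs] at this
    refine ⟨LinearMap.ker s, ?_, ?_⟩
    · rw [hrange]
      refine ⟨Submodule.disjoint_def.2 ?_, codisjoint_iff.2 ?_⟩
      · rintro _ ⟨v, rfl⟩ hv
        have : v = 0 := by
          rw [← LinearMap.id_apply (R := R) v, ← hs]
          exact hv
        simp [this]
      · rw [eq_top_iff]
        intro x _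
        refine Submodule.mem_sup.2 ⟨ι (s x), ⟨s x, rfl⟩, x - ι (s x), ?_, add_sub_cancel _ _⟩
        rw [LinearMap.mem_ker, map_sub, ← LinearMap.comp_apply s ι, hs]
        simp
    · rw [hrange, LinearMap.finrank_range_of_inj hinj, Module.finrank_fintype_fun_eq_card,
        Fintype.card_fin]

end Groth.Agent.S10890
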