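import Groth.Statements.S10891
import Mathlib.RingTheory.RootsOfUnity.PrimitiveRoots
import Mathlib.Algebra.BigOperators.Fin

set_option autoImplicit false
universe u
open CAlg

namespace Groth.Agent.S10891

/-- Let k be a field containing a primitive r-th root of unity ζ and 0 < a < r. The cyclic group of r-th
roots of unity acts on k[X, Y] through the generator X ↦ ζ⁻¹ X, Y ↦ ζ^(−a) Y, and the ring of
invariants of this action is generated as a k-algebra by the monomials X^i Y^j with 0 ≤ i, j ≤ r,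
(i, j) ≠ (r, r) and i + a·j ≡ 0 (mod r). (The printed statement writes n for the order of the group,
which the surrounding section calls r.) -/
theorem result (k : Type u) [Field k] (r a : ℕ) (ha : 0 < a) (har : a < r)
    (ζ : k) (hζ : IsPrimitiveRoot ζ r) (p : MvPolynomial (Fin 2) k) :
    MvPolynomial.aeval (fun i : Fin 2 => if i = 0 then MvPolynomial.C ζ⁻¹ * MvPolynomial.X 0
        else MvPolynomial.C (ζ⁻¹ ^ a) * (MvPolynomial.X 1 : MvPolynomial (Fin 2) k)) p = p ↔
      p ∈ Algebra.adjoin k {q : MvPolynomial (Fin 2) k | ∃ i j : ℕ, i ≤ r ∧ j ≤ r ∧ ¬ (i = r ∧ j = r) ∧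
        r ∣ i + a * j ∧ q = MvPolynomial.X 0 ^ i * MvPolynomial.X 1 ^ j} := by
  classical
  have hr : 0 < r := by omega
  set G : Set (MvPolynomial (Fin 2) k) := {q | ∃ i j : ℕ, i ≤ r ∧ j ≤ r ∧ ¬ (i = r ∧ j = r) ∧ r ∣ i + a * j ∧ q = MvPolynomial.X 0 ^ i * MvPolynomial.X 1 ^ j} with hG
  set φ : MvPolynomial (Fin 2) k →ₐ[k] MvPolynomial (Fin 2) k := MvPolynomial.aeval (fun i : Fin 2 => if i = 0 then MvPolynomial.C ζ⁻¹ * MvPolynomial.X 0
        else MvPolynomial.C (ζ⁻¹ ^ a) * (MvPolynomial.X 1 : MvPolynomial (Fin 2) k)) with hφ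
  have hmon : ∀ (e : Fin 2 →₀ ℕ) (c : k), φ (MvPolynomial.monomial e c) = MvPolynomial.monomial e (c * ζ⁻¹ ^ (e 0 + a * e 1)) := by
    intro e c
    rw [hφ, MvPolynomial.aeval_monomial, Finsupp.prod_fintype _ _ (fun _ => pow_zero _), Fin.prod_univ_two,
      MvPolynomial.algebraMap_eq, MvPolynomial.monomial_eq, Finsupp.prod_fintype _ _ (fun _ => pow_zero _), Fin.prod_univ_two]
    simp only [if_true, if_neg (show (1 : Fin 2) ≠ 0 by decide), mul_pow, ← map_pow, map_mul, pow_add, pow_mul]
    ring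
  have hcoeff : ∀ (q : MvPolynomial (Fin 2) k) (e : Fin 2 →₀ ℕ), MvPolynomial.coeff e (φ q) = MvPolynomial.coeff e q * ζ⁻¹ ^ (e 0 + a * e 1) := by
    intro q e
    induction q using MvPolynomial.induction_on' with
    | monomial d c =>
      rw [hmon, MvPolynomial.coeff_monomial, MvPolynomial.coeff_monomial]
      split_ifs with h
      · subst h; rfl
      · rw [zero_mul]
    | add q q' h h' => rw [map_add, MvPolynomial.coeff_add, MvPolynomial.coeff_add, h, h', add_mul]
  constructor
  · intro h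
    have hsupp : ∀ e ∈ p.support, r ∣ e 0 + a * e 1 := by
      intro e he
      have h' := hcoeff p e
      rw [h] at h'
      have hne : MvPolynomial.coeff e p ≠ 0 := MvPolynomial.mem_support_iff.1 he
      have h1 : ζ⁻¹ ^ (e 0 + a * e 1) = 1 := (mul_eq_left₀ hne).1 h'.symm
      exact hζ.inv.dvd_of_pow_eq_one _ h1
    have key : ∀ N i j : ℕ, i + j ≤ N → r ∣ i + a * j → (MvPolynomial.X 0 : MvPolynomial (Fin 2) k) ^ i * MvPolynomial.X 1 ^ j ∈ Algebra.adjoin k G := by
      intro N
      induction N using Nat.strong_induction_on with | _ N ih =>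
      intro i j hij hd
      by_cases hi : r ≤ i
      · obtain ⟨i', rfl⟩ := Nat.exists_eq_add_of_le hi
        rw [pow_add, mul_assoc]
        refine mul_mem (Algebra.subset_adjoin ⟨r, 0, le_rfl, Nat.zero_le _, by omega, by simp, by simp⟩) (ih (i' + j) (by omega) i' j le_rfl ?_)
        rw [show r + i' + a * j = r + (i' + a * j) by ring] at hd
        exact (Nat.dvd_add_right dvd_rfl).1 hd
      by_cases hj : r ≤ j
      · obtain ⟨j', rfl⟩ := Nat.exists_eq_add_of_le hj
        rw [pow_add, mul_left_comm]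
        refine mul_mem (Algebra.subset_adjoin ⟨0, r, Nat.zero_le _, le_rfl, by omega, by simp, by simp⟩) (ih (i + j') (by omega) i j' le_rfl ?_)
        rw [show i + a * (r + j') = a * r + (i + a * j') by ring] at hd
        exact (Nat.dvd_add_right (dvd_mul_left r a)).1 hd
      exact Algebra.subset_adjoin ⟨i, j, by omega, by omega, by omega, hd, rfl⟩
    rw [MvPolynomial.as_sum p]
    refine sum_mem fun e he => ?_
    rw [MvPolynomial.monomial_eq, Finsupp.prod_fintype _ _ (fun _ => pow_zero _), Fin.prod_univ_two, ← MvPolynomial.algebraMap_eq]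
    exact mul_mem (Subalgebra.algebraMap_mem _ _) (key _ _ _ le_rfl (hsupp e he))
  · intro h
    have : Algebra.adjoin k G ≤ AlgHom.equalizer φ (AlgHom.id k _) := by
      refine Algebra.adjoin_le ?_
      rintro _ ⟨i, j, -, -, -, hd, rfl⟩
      have e1 : (MvPolynomial.X 0 : MvPolynomial (Fin 2) k) ^ i * MvPolynomial.X 1 ^ j = MvPolynomial.monomial (Finsupp.single 0 i + Finsupp.single 1 j) 1 := by
        rw [MvPolynomial.X_pow_eq_monomial, MvPolynomial.X_pow_eq_monomial, MvPolynomial.monomial_mul, one_mul]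
      show φ _ = _
      rw [AlgHom.coe_id, id, e1, hmon]
      congr 1
      rw [one_mul, inv_pow]
      have : (Finsupp.single (0 : Fin 2) i + Finsupp.single 1 j : Fin 2 →₀ ℕ) 0 + a * (Finsupp.single (0 : Fin 2) i + Finsupp.single 1 j : Fin 2 →₀ ℕ) 1 = i + a * j := by simp
      rw [this, (hζ.pow_eq_one_iff_dvd _).2 hd, inv_one]
    exact this h

end Groth.Agent.S10891
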