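import Groth.Statements.S10892
import Groth.Agent.MeroDivMod.Depth

set_option autoImplicit false
universe u
open CategoryTheory AlgebraicGeometry
open Curves

namespace Groth.Agent.S10892

open TopologicalSpace _root_.Mero

/-- A closed set of a Noetherian sober space consisting of closed points is finite. -/
theorem finite_of_forall_isClosed {α : Type u} [TopologicalSpace α] [NoetherianSpace α] [QuasiSober α]
    {C : Set α} (hC : IsClosed C) (h : ∀ c ∈ C, IsClosed ({c} : Set α)) : C.Finite := by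
  obtain ⟨S, hS, hcl, hirr, rfl⟩ := NoetherianSpace.exists_finite_set_isClosed_irreducible hC
  refine hS.sUnion fun t ht => ?_
  obtain ⟨η, hη⟩ := QuasiSober.sober (hirr t ht) (hcl t ht)
  rw [← hη.def, (h η ⟨t, ht, hη.mem⟩).closure_eq]
  exact Set.finite_singleton η

variable {X : Scheme.{u}}

theorem mk_eq_one_iff {x : X} (q : (KStalk X x)ˣ) :
    (QuotientGroup.mk q : Germ X x) = 1 ↔
      ∃ v : (X.presheaf.stalk x)ˣ, algebraMap _ (KStalk X x) (v : X.presheaf.stalk x) = (q : KStalk X x) := by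
  rw [QuotientGroup.eq_one_iff]
  exact ⟨fun ⟨v, hv⟩ => ⟨v, congrArg Units.val hv⟩, fun ⟨v, hv⟩ => ⟨v, Units.ext hv⟩⟩

/-- germs are trivial at the non-closed points of an absolute curve -/
theorem eq_one_of_not_isClosed [CompactSpace X]
    (hC : ∀ x : X, IsClosed ({x} : Set X) → ringKrullDim (X.presheaf.stalk x) = 1)
    (y : X) (hy : ¬ IsClosed ({y} : Set X)) (g : Germ X y) : g = 1 := by
  obtain ⟨z, hzy, hz⟩ := IsClosed.exists_closed_singleton isClosed_closure
    (Set.singleton_nonempty y).closure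
  have hsp : y ⤳ z := specializes_iff_mem_closure.mpr hzy
  have hne : ¬ z ⤳ y := fun h => hy ((h.antisymm hsp).eq ▸ hz)
  have hlt : z < y := lt_of_le_not_ge hsp hne
  have h1 : (Order.coheight z : WithBot ℕ∞) = 1 :=
    (ringKrullDim_stalk_eq_coheight z).symm.trans (hC z hz)
  have h2 : Order.coheight y + 1 ≤ 1 := (Order.coheight_add_one_le hlt).trans_eq (WithBot.coe_eq_coe.mp h1)
  have h3 : Order.coheight y = 0 :=
    nonpos_iff_eq_zero.mp ((WithTop.add_le_add_iff_right WithTop.one_ne_top).mp (h2.trans_eq (zero_add 1).symm))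
  have hK : Ring.KrullDimLE 0 (X.presheaf.stalk y) := krullDimLE_of_coheight_le (by simp [h3])
  have hu : ∀ a ∈ nonZeroDivisors (X.presheaf.stalk y), IsUnit a := fun a ha => by
    by_contra hu
    have hmem : IsLocalRing.maximalIdeal (X.presheaf.stalk y) ∈ minimalPrimes (X.presheaf.stalk y) :=
      ⟨⟨inferInstance, bot_le⟩, fun q hq _ => by
        have := hq.1
        have := Ideal.isMaximal_of_isPrime q
        exact (IsLocalRing.eq_maximalIdeal this).ge⟩
    exact Set.disjoint_left.mp (Ideal.disjoint_nonZeroDivisors_of_mem_minimalPrimes hmem)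
      ((IsLocalRing.mem_maximalIdeal a).mpr hu) ha
  induction g using QuotientGroup.induction_on with
  | H q =>
    let e := IsLocalization.atUnits (R := X.presheaf.stalk y) (regStalk X y) (S := KStalk X y)
      fun a ha => hu a (regStalk_le_nonZeroDivisors y ha)
    exact (mk_eq_one_iff q).mpr ⟨(q.isUnit.map e.symm).unit, e.apply_symm_apply q⟩

/-- the trivial locus of a local divisor is open -/
theorem isOpen_trivial {U : X.Opens} (f : (Γ(kmod X, U))ˣ) :
    IsOpen {y : U | germOf f y = 1} := by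
  rw [isOpen_iff_forall_mem_open]
  intro y hy
  obtain ⟨v, hv⟩ := (mk_eq_one_iff _).mp hy
  obtain ⟨V, hyV, hV, a, b, w⟩ := Groth.Agent.MeroDivMod.exists_regular_fraction f y.1 y.2
  have e : X.presheaf.germ V.1 y.1 hyV b.1 * (v : X.presheaf.stalk y.1) =
      X.presheaf.germ V.1 y.1 hyV a.1 := by
    have hv' : algebraMap _ (KStalk X y.1) (v : X.presheaf.stalk y.1) =
        LocalizedModule.mk (X.presheaf.germ V.1 y.1 hyV a.1) (regGerm ⟨y.1, hyV⟩ b) := hv.trans (w ⟨y.1, hyV⟩)
    rw [Groth.Agent.Mero.algebraMap_eq_mk, Groth.Agent.Mero.mk_eq_mk_iff, OneMemClass.coe_one, one_mul] at hv'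
    exact hv'
  obtain ⟨W, hyW, c, hc⟩ := X.presheaf.exists_germ_eq (x := y.1) (v : X.presheaf.stalk y.1)
  have hI : y.1 ∈ V.1 ⊓ W := ⟨hyV, hyW⟩
  have h2 : X.presheaf.germ (V.1 ⊓ W) y.1 hI (X.presheaf.map (homOfLE inf_le_left).op b.1 *
      X.presheaf.map (homOfLE inf_le_right).op c) =
      X.presheaf.germ (V.1 ⊓ W) y.1 hI (X.presheaf.map (homOfLE inf_le_left).op a.1) := by
    rw [map_mul, TopCat.Presheaf.germ_res_apply, TopCat.Presheaf.germ_res_apply,
      TopCat.Presheaf.germ_res_apply, hc]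
    exact e
  obtain ⟨N, hyN, i, j, eN⟩ := TopCat.Presheaf.germ_eq _ y.1 hI hI _ _ h2
  refine ⟨Subtype.val ⁻¹' ((N : Set X) ∩ (X.basicOpen c : Set X)), fun z ⟨hzN, hzc⟩ => ?_,
    (N.2.inter (X.basicOpen c).2).preimage continuous_subtype_val, hyN, ?_⟩
  · have hzW : z.1 ∈ W := (i.le hzN).2
    have hzV : z.1 ∈ V.1 := (i.le hzN).1
    have e2 := congrArg (X.presheaf.germ N z.1 hzN) eN
    simp only [TopCat.Presheaf.germ_res_apply, map_mul] at e2
    refine (mk_eq_one_iff _).mpr ⟨((Scheme.mem_basicOpen X c z.1 hzW).mp hzc).unit, ?_⟩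
    refine Eq.trans ?_ (w ⟨z.1, hzV⟩).symm
    rw [IsUnit.unit_spec, Groth.Agent.Mero.algebraMap_eq_mk, Groth.Agent.Mero.mk_eq_mk_iff,
      OneMemClass.coe_one, one_mul]
    exact e2
  · exact (Scheme.mem_basicOpen X c y.1 hyW).mpr (hc ▸ v.isUnit)

/-- every germ extends to a local divisor -/
theorem exists_extend (x : X) (g : Germ X x) :
    ∃ (N : X.Opens) (hx : x ∈ N) (f : (Γ(kmod X, N))ˣ), germOf f ⟨x, hx⟩ = g := by
  induction g using QuotientGroup.induction_on with
  | H q =>
    have ex : ∀ k : KStalk X x, ∃ r s, k = LocalizedModule.mk r s := fun k => by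
      induction k using LocalizedModule.induction_on with
      | h r s => exact ⟨r, s, rfl⟩
    obtain ⟨r, ⟨s, U, hxU, b, hb, rfl⟩, hq⟩ := ex q
    obtain ⟨r', ⟨s', U', hxU', b', hb', rfl⟩, hq'⟩ := ex ↑q⁻¹
    obtain ⟨W, hxW, a, rfl⟩ := X.presheaf.exists_germ_eq (x := x) r
    obtain ⟨W', hxW', a', rfl⟩ := X.presheaf.exists_germ_eq (x := x) r'
    let V := U ⊓ U' ⊓ W ⊓ W'
    have hxV : x ∈ V := ⟨⟨⟨hxU, hxU'⟩, hxW⟩, hxW'⟩
    have hVU : V ≤ U := fun _ h => h.1.1.1
    have hVU' : V ≤ U' := fun _ h => h.1.1.2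
    have hVW : V ≤ W := fun _ h => h.1.2
    have hVW' : V ≤ W' := fun _ h => h.2
    have h := (Groth.Agent.Mero.mk_eq_mk_iff _ _ _ _).mp
      (LocalizedModule.mk_mul_mk.symm.trans (((congrArg₂ (· * ·) hq hq').symm.trans q.mul_inv).trans
        (mk_self_eq_one (1 : regStalk X x)).symm))
    simp only [OneMemClass.coe_one, one_mul, mul_one, Submonoid.coe_mul] at h
    have h2 : X.presheaf.germ V x hxV (X.presheaf.map (homOfLE hVW).op a *
        X.presheaf.map (homOfLE hVW').op a') =
        X.presheaf.germ V x hxV (X.presheaf.map (homOfLE hVU).op b *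
        X.presheaf.map (homOfLE hVU').op b') := by
      rw [map_mul, map_mul]
      simp only [TopCat.Presheaf.germ_res_apply]
      exact h
    obtain ⟨N, hxN, i, j, eN⟩ := TopCat.Presheaf.germ_eq _ x hxV hxV _ _ h2
    have ha : X.presheaf.map (homOfLE (i.le.trans hVW)).op a ∈ regSub X N := fun z => by
      have e2 := congrArg (X.presheaf.germ N z.1 z.2) eN
      simp only [TopCat.Presheaf.germ_res_apply, map_mul] at e2
      rw [TopCat.Presheaf.germ_res_apply]
      exact (mul_mem_nonZeroDivisors.mp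
        (e2.symm ▸ mul_mem (hb ⟨z.1, hVU (j.le z.2)⟩) (hb' ⟨z.1, hVU' (j.le z.2)⟩))).1
    refine ⟨N, hxN, Groth.Agent.MeroDivMod.quot ⟨_, ha⟩ ⟨_, regSub_res (homOfLE (i.le.trans hVU)) hb⟩,
      congrArg _ (Units.ext ?_)⟩
    refine (Groth.Agent.MeroDivMod.quot_apply _ _ ⟨x, hxN⟩).trans (Eq.trans ?_ hq.symm)
    exact mk_congr (TopCat.Presheaf.germ_res_apply X.presheaf _ _ _ a)
      (TopCat.Presheaf.germ_res_apply X.presheaf _ _ _ b)

/-- On an absolute curve C (Noetherian, local rings at closed points one-dimensional) the map sending a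
divisor to its germs at the closed points is an isomorphism from Div(C) onto the direct sum over the
closed points x of the groups K_{C,x}^× / O_{C,x}^× (K_{C,x} the total ring of fractions of the
local ring). With divisors realised as families of germs, this says: a family of germs is a divisor
exactly when it is trivial outside a finite set of closed points. -/
theorem result {C : Scheme.{u}} [IsNoetherian C]
    (hC : ∀ x : C, IsClosed ({x} : Set C) → ringKrullDim (C.presheaf.stalk x) = 1)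
    (g : ∀ x : C, Mero.Germ C x) :
    g ∈ Mero.divisorGroup C ↔ ({x : C | g x ≠ 1}.Finite ∧ ∀ x : C, ¬ IsClosed ({x} : Set C) → g x = 1) := by
  constructor
  · intro hg
    have hne : ∀ x : C, ¬ IsClosed ({x} : Set C) → g x = 1 := fun x hx =>
      eq_one_of_not_isClosed hC x hx (g x)
    refine ⟨finite_of_forall_isClosed ?_ fun c hc => by_contra fun h => hc (hne c h), hne⟩
    rw [← isOpen_compl_iff, isOpen_iff_forall_mem_open]
    intro x hx
    obtain ⟨U, hxU, f, hf⟩ := hg x
    refine ⟨Subtype.val '' {y : U | germOf f y = 1}, ?_,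
      U.2.isOpenMap_subtype_val _ (isOpen_trivial f), ⟨⟨x, hxU⟩, ?_, rfl⟩⟩
    · rintro _ ⟨y, hy, rfl⟩
      simpa [hf y] using hy
    · exact (hf ⟨x, hxU⟩).symm.trans (not_not.mp hx)
  · rintro ⟨hfin, -⟩ x
    obtain ⟨N, hxN, f, hf⟩ := exists_extend x (g x)
    have : NoetherianSpace (N : Set C) := NoetherianSpace.set _
    have : QuasiSober (N : Set C) := N.isOpenEmbedding'.quasiSober
    have hN : ({y : N | germOf f y ≠ 1}).Finite := by
      refine finite_of_forall_isClosed (α := (N : Set C)) (isOpen_trivial f).isClosed_compl fun c hc => ?_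
      have hcl : IsClosed ({(c : C)} : Set C) :=
        by_contra fun h => hc (eq_one_of_not_isClosed hC c.1 h _)
      simpa [← Set.image_singleton, Set.preimage_image_eq _ Subtype.val_injective]
        using hcl.preimage (continuous_subtype_val (p := fun z => z ∈ (N : Set C)))
    let B : Set C := ({y | g y ≠ 1} ∪ Subtype.val '' {y : N | germOf f y ≠ 1}) \ {x}
    have hB : IsClosed B := by
      rw [← Set.biUnion_of_singleton B]
      refine ((hfin.union (hN.image _)).sdiff).isClosed_biUnion fun y hy => ?_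
      rcases hy.1 with h | ⟨z, hz, rfl⟩
      · exact by_contra fun h' => h (eq_one_of_not_isClosed hC y h' _)
      · exact by_contra fun h' => hz (eq_one_of_not_isClosed hC z.1 h' _)
    let W : C.Opens := N ⊓ ⟨Bᶜ, hB.isOpen_compl⟩
    refine ⟨W, ⟨hxN, fun h => h.2 rfl⟩,
      Units.map (Groth.Agent.MeroDivMod.kres (inf_le_left : W ≤ N)).toMonoidHom f, fun y => ?_⟩
    show g y.1 = germOf f ⟨y.1, y.2.1⟩
    by_cases hyx : y.1 = x
    · have key : ∀ z : N, z = ⟨x, hxN⟩ → g z.1 = germOf f z := by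
        rintro _ rfl; exact hf.symm
      exact key ⟨y.1, y.2.1⟩ (Subtype.ext hyx)
    · have hnB : y.1 ∉ B := y.2.2
      rw [show g y.1 = 1 from by_contra fun h => hnB ⟨Or.inl h, hyx⟩,
        show germOf f ⟨y.1, y.2.1⟩ = 1 from by_contra fun h => hnB ⟨Or.inr ⟨⟨y.1, y.2.1⟩, h, rfl⟩, hyx⟩]

end Groth.Agent.S10892
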