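import Groth.Statements.S10893
import Groth.Agent.S10892
import Groth.Agent.MeroDivMod.Depth
import Groth.Agent.AssSch.Restrict
import Groth.Agent.AssSch.Quot
import Groth.Agent.CurveRed.Basic

set_option autoImplicit false
universe u
open CategoryTheory AlgebraicGeometry
open Curves TopologicalSpace

namespace Groth.Agent.S10893

theorem finite_ass {C : Scheme.{u}} [IsNoetherian C] :
    (_root_.AssSch.Ass (Coh.structureModule C)).Finite := by
  have hO := VBLib.isCoh_of_ofRank
    (ProjTwist.isFinLocFreeOfRank_one (PicLoc.isInvertible_structureModule C))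
  obtain ⟨s, hs⟩ := isCompact_univ.elim_finite_subcover (fun V : C.affineOpens => (V.1 : Set C))
    (fun V => V.1.isOpen) (fun x _ => by
      obtain ⟨V, hV, hxV, -⟩ := exists_isAffineOpen_mem_and_subset (X := C) (x := x) (U := ⊤) trivial
      exact Set.mem_iUnion.2 ⟨⟨V, hV⟩, hxV⟩)
  refine (s.finite_toSet.biUnion fun V _ => AssSch.Restrict.finite_ass_inter _ hO V.2).subset fun x hx => ?_
  obtain ⟨V, hV, hxV⟩ := Set.mem_iUnion₂.1 (hs (Set.mem_univ x))
  exact Set.mem_iUnion₂.2 ⟨V, hV, hx, hxV⟩

theorem exists_regular {C : Scheme.{u}} [IsNoetherian C] {x : C}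
    (hx : x ∉ _root_.AssSch.Ass (Coh.structureModule C)) :
    ∃ r ∈ nonZeroDivisors (C.presheaf.stalk x), ¬ IsUnit r := by
  classical
  let R := C.presheaf.stalk x
  haveI : IsNoetherianRing R := inferInstanceAs (IsNoetherianRing (C.presheaf.stalk x))
  by_contra hcon
  push Not at hcon
  have hsub : (IsLocalRing.maximalIdeal R : Set R) ⊆ ⋃ p ∈ associatedPrimes R R, (p : Set R) := by
    intro r hr
    rw [biUnion_associatedPrimes_eq_compl_nonZeroDivisors]
    exact fun h => hr (hcon r h)
  obtain ⟨p, hp, hle⟩ := (Ideal.subset_union_prime_finite (associatedPrimes.finite R R) (f := fun q => q) ⊥ ⊥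
    (fun q hq _ _ => hq.1)).1 hsub
  obtain ⟨hpp, t, ht⟩ := (_root_.isAssociatedPrime_iff).mp hp
  obtain ⟨e⟩ := EulerChar.stalk_ofRank
    (ProjTwist.isFinLocFreeOfRank_one (PicLoc.isInvertible_structureModule C)) x
  have hann : ∀ r ∈ IsLocalRing.maximalIdeal R, r * t = 0 := fun r hr => by
    have := hle hr
    rw [ht, Submodule.mem_colon_singleton, Submodule.mem_bot] at this
    exact this
  have ht0 : t ≠ 0 := fun h0 => hpp.ne_top ((Ideal.eq_top_iff_one _).2 (by
    rw [ht, Submodule.mem_colon_singleton, Submodule.mem_bot, h0, smul_zero]))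
  refine hx ((AssSch.Quot.mem_ass_iff_exists _ x).2 ⟨e (fun _ => t), fun h => ht0 ?_, fun r hr => ?_⟩)
  · exact congrFun (e.injective (h.trans (map_zero e).symm)) 0
  · refine (e.map_smul r (fun _ => t)).symm.trans ((congrArg e ?_).trans (map_zero e))
    funext i
    exact hann r hr

/-- Let C be an absolute curve (Noetherian, local rings at closed points one-dimensional) none of whose
points is open, and U ⊆ C an open dense subset. Then there is an effective divisor D on C with
support contained in U and meeting every irreducible component of C. -/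
theorem result {C : Scheme.{u}} [IsNoetherian C]
    (hC : ∀ x : C, IsClosed ({x} : Set C) → ringKrullDim (C.presheaf.stalk x) = 1)
    (hpt : ∀ x : C, ¬ IsOpen ({x} : Set C)) (U : C.Opens) (hU : Dense (U : Set C)) :
    ∃ D : Mero.Divisor C, Mero.IsEffective D ∧ Mero.supp D ⊆ (U : Set C) ∧
      ∀ Z ∈ irreducibleComponents (C : Type u), (Mero.supp D ∩ Z).Nonempty := by
  classical
  have hfinI := NoetherianSpace.finite_irreducibleComponents (α := C)
  have key : ∀ Z ∈ irreducibleComponents (C : Type u), ∃ x ∈ Z, IsClosed ({x} : Set C) ∧ x ∈ (U : Set C) ∧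
      ∃ a : Mero.regStalk C x, ¬ IsUnit (a : C.presheaf.stalk x) := by
    intro Z hZ
    obtain ⟨η, hη⟩ := QuasiSober.sober hZ.1 (isClosed_of_mem_irreducibleComponents Z hZ)
    have hmax : ∀ y : C, y ⤳ η → y = η := fun y hy => by
      have h1 : Z ⊆ closure {y} := by rw [← hη.def]; exact hy.closure_subset
      have h2 : closure ({y} : Set C) = Z :=
        subset_antisymm (hZ.2 isIrreducible_singleton.closure h1) h1
      exact (inseparable_iff_closure_eq.2 (h2.trans hη.def.symm)).eq
    let others : Set C := ⋃₀ (irreducibleComponents (C : Type u) \ {Z})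
    have hoth : IsClosed others := by
      rw [show others = ⋃ W ∈ irreducibleComponents (C : Type u) \ {Z}, W from Set.sUnion_eq_biUnion]
      exact (hfinI.subset Set.sdiff_subset).isClosed_biUnion fun W hW =>
        isClosed_of_mem_irreducibleComponents W hW.1
    have hηo : η ∉ others := fun ⟨W, ⟨hW, hWZ⟩, hηW⟩ => hWZ (by
      have h1 : Z ⊆ W := by
        rw [← hη.def]
        exact closure_minimal (Set.singleton_subset_iff.2 hηW) (isClosed_of_mem_irreducibleComponents W hW)
      exact subset_antisymm (hZ.2 hW.1 h1) h1)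
    let A : Set C := {x ∈ _root_.AssSch.Ass (Coh.structureModule C) | IsClosed ({x} : Set C)}
    have hA : IsClosed A := by
      rw [← Set.biUnion_of_singleton A]
      exact ((finite_ass (C := C)).subset fun x hx => hx.1).isClosed_biUnion fun x hx => hx.2
    have hηc : ¬ IsClosed ({η} : Set C) := fun hc => hpt η (by
      have hZη : Z = {η} := hη.def.symm.trans hc.closure_eq
      have e : ({η} : Set C) = othersᶜ := by
        ext y
        refine ⟨fun h => h ▸ hηo, fun h => ?_⟩
        by_contra hy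
        obtain ⟨W, hW, hyW⟩ : ∃ W ∈ irreducibleComponents (C : Type u), y ∈ W :=
          ⟨_, irreducibleComponent_mem_irreducibleComponents y, mem_irreducibleComponent⟩
        exact h ⟨W, ⟨hW, fun e => hy (hZη ▸ (Set.mem_singleton_iff.1 e ▸ hyW))⟩, hyW⟩
      rw [e]; exact hoth.isOpen_compl)
    let W : Set C := (U : Set C) ∩ othersᶜ ∩ Aᶜ
    have hWo : IsOpen W := (U.isOpen.inter hoth.isOpen_compl).inter hA.isOpen_compl
    have hηU : η ∈ (U : Set C) := by
      obtain ⟨y, hyo, hyU⟩ := hU.inter_open_nonempty othersᶜ hoth.isOpen_compl ⟨η, hηo⟩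
      obtain ⟨W', hW', hyW⟩ : ∃ W' ∈ irreducibleComponents (C : Type u), y ∈ W' :=
        ⟨_, irreducibleComponent_mem_irreducibleComponents y, mem_irreducibleComponent⟩
      have : W' = Z := by
        by_contra hne
        exact hyo ⟨W', ⟨hW', hne⟩, hyW⟩
      subst this
      exact (hη.specializes hyW).mem_open U.isOpen hyU
    have hηW : η ∈ W := ⟨⟨hηU, hηo⟩, fun h => hηc h.2⟩
    obtain ⟨x, hxW, hxη⟩ : ∃ x ∈ W, x ≠ η := by
      by_contra h
      push Not at h
      exact hpt η ((subset_antisymm h (Set.singleton_subset_iff.2 hηW) : W = {η}) ▸ hWo)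
    have hxZ : x ∈ Z := by
      obtain ⟨W', hW', hxW'⟩ : ∃ W' ∈ irreducibleComponents (C : Type u), x ∈ W' :=
        ⟨_, irreducibleComponent_mem_irreducibleComponents x, mem_irreducibleComponent⟩
      by_contra hxZ
      exact hxW.1.2 ⟨W', ⟨hW', fun e => hxZ (Set.mem_singleton_iff.1 e ▸ hxW')⟩, hxW'⟩
    have hxc : IsClosed ({x} : Set C) := by
      obtain ⟨z, hzx, hzc⟩ := (isClosed_closure : IsClosed (closure ({x} : Set C))).exists_closed_singleton
        ⟨x, subset_closure rfl⟩
      by_contra hxc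
      have hne : x ≠ z := fun e => hxc (e ▸ hzc)
      have hxz : x ⤳ z := specializes_iff_mem_closure.2 hzx
      have hηx : η ⤳ x := hη.specializes hxZ
      haveI : Ring.KrullDimLE 1 (C.presheaf.stalk z) := Ring.krullDimLE_iff.2 (hC z hzc).le
      obtain ⟨p, hp⟩ : x ∈ Set.range (C.fromSpecStalk z) := by
        rw [Scheme.range_fromSpecStalk]; exact hxz
      obtain ⟨q, hq⟩ : η ∈ Set.range (C.fromSpecStalk z) := by
        rw [Scheme.range_fromSpecStalk]; exact hηx.trans hxz
      have hemb := (C.fromSpecStalk z).isEmbedding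
      have hqp : q ⤳ p := hemb.isInducing.specializes_iff.1 (by rw [hp, hq]; exact hηx)
      have hle : q.asIdeal ≤ p.asIdeal := (PrimeSpectrum.le_iff_specializes q p).2 hqp
      rcases (Ring.krullDimLE_one_iff.1 inferInstance p.asIdeal p.isPrime).symm.imp_left IsLocalRing.eq_maximalIdeal with h | h
      · apply hne
        rw [← hp, show p = IsLocalRing.closedPoint _ from PrimeSpectrum.ext h]
        exact Scheme.fromSpecStalk_closedPoint
      · apply hxη
        rw [← hp, ← hq, show q = p from PrimeSpectrum.ext (le_antisymm hle (h.2 ⟨q.isPrime, bot_le⟩ hle))]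
    obtain ⟨r, hr, hru⟩ := exists_regular (x := x) fun h => hxW.2 ⟨h, hxc⟩
    exact ⟨x, hxZ, hxc, hxW.1.1, ⟨r, (Groth.Agent.Mero.regStalk_eq x).symm ▸ hr⟩, hru⟩
  choose x hxZ hxc hxU a ha using key
  let S : Set C := {y | ∃ (Z : Set C) (hZ : Z ∈ irreducibleComponents (C : Type u)), x Z hZ = y}
  have hS : S.Finite := by
    haveI := hfinI.to_subtype
    exact (Set.finite_range fun Z : irreducibleComponents (C : Type u) => x Z.1 Z.2).subset
      fun y ⟨Z, hZ, e⟩ => ⟨⟨Z, hZ⟩, e⟩
  have hg : ∀ y, y ∈ S → ∃ g : Mero.Germ C y, g ≠ 1 ∧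
      ∃ b : Mero.regStalk C y, g = QuotientGroup.mk (IsLocalization.map_units (Mero.KStalk C y) b).unit := by
    rintro _ ⟨Z, hZ, rfl⟩
    refine ⟨_, fun h => ha Z hZ ?_, a Z hZ, rfl⟩
    rw [QuotientGroup.eq_one_iff] at h
    obtain ⟨u, hu⟩ := h
    have hval := congrArg Units.val hu
    rw [IsUnit.unit_spec] at hval
    have hinj : Function.Injective (algebraMap (C.presheaf.stalk (x Z hZ)) (Mero.KStalk C (x Z hZ))) :=
      IsLocalization.injective _ (M := Mero.regStalk C (x Z hZ)) (Groth.Agent.Mero.regStalk_eq _).le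
    exact (hinj hval) ▸ u.isUnit
  choose g hg1 hgb using hg
  let D : ∀ y : C, Mero.Germ C y := fun y => if h : y ∈ S then g y h else 1
  have hD : D ∈ Mero.divisorGroup C := (Groth.Agent.S10892.result hC D).mpr
    ⟨hS.subset fun y hy => by by_contra h; exact hy (dif_neg h), fun y hy => dif_neg fun ⟨Z, hZ, e⟩ =>
      hy (e ▸ hxc Z hZ)⟩
  refine ⟨⟨D, hD⟩, fun y => ?_, fun y hy => ?_, fun Z hZ => ?_⟩
  · by_cases h : y ∈ S
    · obtain ⟨b, hb⟩ := hgb y h
      exact ⟨b, (dif_pos h).trans hb⟩
    · exact Groth.Agent.MeroDivMod.isEffectiveAt_of_eq_one _ _ (dif_neg h)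
  · by_contra h
    exact hy (dif_neg fun ⟨Z, hZ, e⟩ => h (e ▸ hxU Z hZ))
  · have hmem : x Z hZ ∈ S := ⟨Z, hZ, rfl⟩
    refine ⟨x Z hZ, fun e => hg1 _ hmem ((dif_pos hmem).symm.trans e), hxZ Z hZ⟩

end Groth.Agent.S10893
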