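import Groth.Statements.S10894
import Groth.Agent.S10892

set_option autoImplicit false
universe u
open CategoryTheory AlgebraicGeometry
open Curves

namespace Groth.Agent.S10894

open TopologicalSpace _root_.Mero

variable {X : Scheme.{u}}

/-- every germ of a divisor is a quotient of two germs of regular sections -/
theorem exists_pair (D : Divisor X) (x : X) :
    ∃ r s : regStalk X x, D.1 x = QuotientGroup.mk ((IsLocalization.map_units (KStalk X x) r).unit *
      (IsLocalization.map_units (KStalk X x) s).unit⁻¹) := by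
  obtain ⟨U, hxU, f, hf⟩ := D.2 x
  obtain ⟨V, hxV, hV, a, b, w⟩ := Groth.Agent.MeroDivMod.exists_regular_fraction f x hxU
  refine ⟨regGerm ⟨x, hxV⟩ a, regGerm ⟨x, hxV⟩ b, (hf ⟨x, hxU⟩).trans (congrArg _ ?_)⟩
  rw [eq_mul_inv_iff_mul_eq]
  refine Units.ext ?_
  rw [Units.val_mul, IsUnit.unit_spec, IsUnit.unit_spec]
  change (f : Γ(kmod X, U)).1 ⟨x, hV hxV⟩ * _ = _
  rw [w ⟨x, hxV⟩, Groth.Agent.Mero.algebraMap_eq_mk, Groth.Agent.Mero.algebraMap_eq_mk]
  refine LocalizedModule.mk_mul_mk.trans ((Groth.Agent.Mero.mk_eq_mk_iff _ _ _ _).mpr ?_)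
  simp [regGerm, mul_comm]

/-- On an absolute curve C (Noetherian, local rings at closed points one-dimensional) every divisor D is
a difference of two effective divisors each supported inside the support of D (divisors are written
multiplicatively, so the difference is D₁ · D₂⁻¹). -/
theorem result {C : Scheme.{u}} [IsNoetherian C]
    (hC : ∀ x : C, IsClosed ({x} : Set C) → ringKrullDim (C.presheaf.stalk x) = 1) (D : Mero.Divisor C) :
    ∃ D₁ D₂ : Mero.Divisor C, Mero.IsEffective D₁ ∧ Mero.IsEffective D₂ ∧ D = D₁ * D₂⁻¹ ∧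
      Mero.supp D₁ ⊆ Mero.supp D ∧ Mero.supp D₂ ⊆ Mero.supp D := by
  classical
  choose r s hrs using fun x => exists_pair D x
  obtain ⟨hfin, hne⟩ := (Groth.Agent.S10892.result hC D.1).mp D.2
  let mkD : (∀ x : C, Mero.regStalk C x) → ∀ x : C, Mero.Germ C x := fun t x =>
    if D.1 x = 1 then 1 else QuotientGroup.mk (IsLocalization.map_units (Mero.KStalk C x) (t x)).unit
  have hmem : ∀ t, mkD t ∈ Mero.divisorGroup C := fun t =>
    (Groth.Agent.S10892.result hC _).mpr
      ⟨hfin.subset fun x hx h => hx (if_pos h), fun x hx => if_pos (hne x hx)⟩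
  have heff : ∀ t, Mero.IsEffective (⟨mkD t, hmem t⟩ : Mero.Divisor C) := fun t x => by
    by_cases h : D.1 x = 1
    · exact Groth.Agent.MeroDivMod.isEffectiveAt_of_eq_one _ _ (if_pos h)
    · exact ⟨t x, if_neg h⟩
  refine ⟨⟨mkD r, hmem r⟩, ⟨mkD s, hmem s⟩, heff r, heff s, Subtype.ext (funext fun x => ?_),
    fun x hx h => hx (if_pos h), fun x hx h => hx (if_pos h)⟩
  show D.1 x = mkD r x * (mkD s x)⁻¹
  simp only [mkD]
  by_cases h : D.1 x = 1
  · rw [if_pos h, if_pos h, h, inv_one]
    exact (one_mul (M := Mero.Germ C x) 1).symm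
  · rw [if_neg h, if_neg h, ← QuotientGroup.mk_inv, ← QuotientGroup.mk_mul]
    exact hrs x

end Groth.Agent.S10894
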