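import Groth.Statements.S10895
import Mathlib.AlgebraicGeometry.Morphisms.ClosedImmersion
import Mathlib.AlgebraicGeometry.Morphisms.FinitePresentation
import Mathlib.RingTheory.Flat.FaithfullyFlat.Algebra
import Mathlib.RingTheory.RingHom.FaithfullyFlat

set_option autoImplicit false
universe u
open CategoryTheory AlgebraicGeometry
open FlatMor

namespace Groth.Agent.S10895

open CategoryTheory AlgebraicGeometry

/-- A closed immersion of finite presentation which is flat at a point x is an isomorphism over some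
open neighbourhood of the image of x. -/
theorem result {X Y : Scheme.{u}} (f : X ⟶ Y) [IsClosedImmersion f]
    [LocallyOfFinitePresentation f] (x : X) (hflat : (f.stalkMap x).hom.Flat) :
    ∃ V : Y.Opens, f.base x ∈ V ∧ IsIso (f ∣_ V) := by
  obtain ⟨_, ⟨V, hV, rfl⟩, hxV, -⟩ :=
    Y.isBasis_affineOpens.exists_subset_of_mem_open (Set.mem_univ (f.base x)) isOpen_univ
  have hsurj : Function.Surjective (f.app V) := f.app_surjective V hV
  have hfg : (RingHom.ker (f.app V).hom).FG := by
    have hfp : (f.app V).hom.FinitePresentation := by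
      rw [Scheme.Hom.app_eq_appLE]
      exact f.finitePresentation_appLE hV (hV.preimage f) le_rfl
    algebraize [(f.app V).hom]
    exact Algebra.FinitePresentation.ker_fG_of_surjective (Algebra.ofId _ Γ(X, f ⁻¹ᵁ V)) hsurj
  have hinj : Function.Injective (f.stalkMap x).hom := by
    algebraize [(f.stalkMap x).hom]
    have : Module.FaithfullyFlat (Y.presheaf.stalk (f.base x)) (X.presheaf.stalk x) :=
      @Module.FaithfullyFlat.of_flat_of_isLocalHom _ _ _ _ _ _ _ hflat (f.toLRSHom.prop x)
    exact RingHom.FaithfullyFlat.injective (f := (f.stalkMap x).hom) ‹_›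
  letI := Y.presheaf.algebra_section_stalk ⟨f.base x, hxV⟩
  have := hV.isLocalization_stalk ⟨f.base x, hxV⟩
  set p := (hV.primeIdealOf ⟨f.base x, hxV⟩).asIdeal with hp
  have hkill : ∀ a ∈ RingHom.ker (f.app V).hom, ∃ s ∉ p, s * a = 0 := by
    intro a ha
    have h0 : Y.presheaf.germ V (f.base x) hxV a = 0 := by
      refine (map_eq_zero_iff _ hinj).mp ?_
      erw [Scheme.Hom.germ_stalkMap_apply f V x hxV]
      erw [show (f.app V) a = 0 from ha]
      exact map_zero _
    obtain ⟨m, hm⟩ := (IsLocalization.map_eq_zero_iff p.primeCompl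
      (Y.presheaf.stalk (f.base x)) a).mp h0
    exact ⟨m.1, m.2, hm⟩
  obtain ⟨s, hsp, hs⟩ : ∃ s ∉ p, ∀ a ∈ RingHom.ker (f.app V).hom, s * a = 0 := by
    obtain ⟨T, hT⟩ := hfg
    classical
    choose! t ht1 ht2 using hkill
    refine ⟨∏ a ∈ T, t a, ?_, fun a ha => ?_⟩
    · rw [Ideal.IsPrime.prod_mem_iff]
      rintro ⟨a, ha, h⟩
      exact ht1 a (hT ▸ Ideal.subset_span ha) h
    · rw [← hT] at ha
      induction ha using Submodule.span_induction with
      | mem a ha =>
        rw [← Finset.prod_erase_mul T _ ha, mul_assoc, ht2 a (hT ▸ Ideal.subset_span ha), mul_zero]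
      | zero => rw [mul_zero]
      | add a b _ _ h1 h2 => rw [mul_add, h1, h2, add_zero]
      | smul c a _ h1 => rw [smul_eq_mul, mul_left_comm, h1, mul_zero]
  let D : Y.Opens := Y.basicOpen s
  have hmem : f.base x ∈ D := by
    rw [Scheme.mem_basicOpen _ _ _ hxV]
    exact IsLocalization.map_units (Y.presheaf.stalk (f.base x)) (⟨s, hsp⟩ : p.primeCompl)
  refine ⟨D, hmem, ?_⟩
  have hD : IsAffineOpen D := hV.basicOpen s
  have : IsAffine D.toScheme := hD
  rw [IsClosedImmersion.isIso_iff_ker_eq_bot]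
  apply Scheme.IdealSheafData.ext_of_isAffine
  rw [Scheme.IdealSheafData.ideal_bot, Pi.bot_apply, Scheme.ker_morphismRestrict_ideal]
  have e : (⟨D.ι ''ᵁ (⊤ : D.toScheme.Opens), (isAffineOpen_top D.toScheme).image_of_isOpenImmersion _⟩ : Y.affineOpens) =
      Y.affineBasicOpen (U := ⟨V, hV⟩) s := by
    apply Subtype.ext
    simp [D, Scheme.affineBasicOpen]
  refine (?_ : ∀ W : Y.affineOpens, W = Y.affineBasicOpen (U := ⟨V, hV⟩) s → f.ker.ideal W = ⊥) _ e
  rintro W rfl
  rw [← f.ker.map_ideal_basicOpen, Scheme.Hom.ker_apply]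
  refine (Ideal.map_eq_bot_iff_le_ker _).mpr ?_
  intro a ha
  have hu : IsUnit ((Y.presheaf.map (homOfLE (Y.basicOpen_le s)).op).hom s) :=
    RingedSpace.isUnit_res_basicOpen _ s
  rw [RingHom.mem_ker, ← hu.mul_right_eq_zero, ← map_mul, hs a ha, map_zero]

end Groth.Agent.S10895
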