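import Groth.Statements.S10896
import Groth.Agent.Cubic.TritangentUse
import Groth.Agent.S10897

set_option autoImplicit false
universe u
open Cubic

namespace Groth.Agent.S10896

/-- Over an algebraically closed field of characteristic zero, a smooth cubic surface S = V_+(f) ⊂ P^3
which contains a line contains two disjoint lines (2-dimensional subspaces of k^4 on which f
vanishes and which intersect trivially). -/
theorem result (k : Type u) [Field k] [IsAlgClosed k] [CharZero k]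
    (f : MvPolynomial (Fin 4) k) (hf : f.IsHomogeneous 3) (hf0 : f ≠ 0)
    (hsm : ∀ v : Fin 4 → k, v ≠ 0 → MvPolynomial.eval v f = 0 →
      ∃ i : Fin 4, MvPolynomial.eval v (MvPolynomial.pderiv i f) ≠ 0)
    (hL : ∃ U : Submodule k (Fin 4 → k), (Module.finrank k ↥U = 2 ∧ ∀ u ∈ U, MvPolynomial.eval u f = 0)) :
    ∃ U₁ U₂ : Submodule k (Fin 4 → k), (Module.finrank k ↥U₁ = 2 ∧ ∀ u ∈ U₁, MvPolynomial.eval u f = 0) ∧ (Module.finrank k ↥U₂ = 2 ∧ ∀ u ∈ U₂, MvPolynomial.eval u f = 0) ∧ U₁ ⊓ U₂ = ⊥ := by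
  classical
  obtain ⟨L, hL, hLS⟩ := hL
  have h5 := Groth.Agent.Cubic.Tritangent.ncard_of_line f hf hsm L hL hLS
  obtain ⟨H₁, H₂, hH₁, hH₂, hne⟩ := (Set.one_lt_ncard_iff (Set.finite_of_ncard_ne_zero
    (by rw [h5]; norm_num))).1 (by rw [h5]; norm_num)
  obtain ⟨h13, hLH1, L₁, -, hL1, -, hn1, -, -, hle1, -, hz1, -⟩ := hH₁
  obtain ⟨h23, hLH2, L₂, -, hL2, -, hn2, -, -, hle2, -, hz2, -⟩ := hH₂
  refine ⟨L₁, L₂, ⟨hL1, hz1⟩, ⟨hL2, hz2⟩, ?_⟩
  by_contra hbot
  obtain ⟨v, hv, hv0⟩ := (Submodule.ne_bot_iff _).1 hbot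
  -- the common point lies on both planes, hence on the line
  have hinf : H₁ ⊓ H₂ = L := by
    refine (Submodule.eq_of_le_of_finrank_le (le_inf hLH1 hLH2) ?_).symm
    by_contra hlt
    push Not at hlt
    have hle : Module.finrank k ↥(H₁ ⊓ H₂) ≤ 3 := h13 ▸ Submodule.finrank_mono inf_le_left
    have e1 : H₁ ⊓ H₂ = H₁ := Submodule.eq_of_le_of_finrank_le inf_le_left (by rw [h13]; omega)
    have e2 : H₁ ⊓ H₂ = H₂ := Submodule.eq_of_le_of_finrank_le inf_le_right (by rw [h23]; omega)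
    exact hne (e1.symm.trans e2)
  have hvL : v ∈ L := hinf ▸ ⟨hle1 hv.1, hle2 hv.2⟩
  obtain ⟨-, -, P, hP, hlines⟩ := Groth.Agent.S10897.result k f hf hf0 hsm v hv0 (hLS v hvL)
  have hPL := hlines L hvL ⟨hL, hLS⟩
  have hP1 := hlines L₁ hv.1 ⟨hL1, hz1⟩
  have hP2 := hlines L₂ hv.2 ⟨hL2, hz2⟩
  have key : ∀ (H L' : Submodule k (Fin 4 → k)), Module.finrank k ↥H = 3 → L ≤ H → L' ≤ H →
      Module.finrank k ↥L' = 2 → L' ≠ L → L' ≤ P → H = P := by
    intro H L' h3 hLH hL'H h2' hne' hL'P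
    have hlt : L < L ⊔ L' := by
      refine lt_of_le_of_ne le_sup_left fun h => hne' ?_
      exact Submodule.eq_of_le_of_finrank_le (h ▸ le_sup_right) (by rw [hL, h2'])
    have h4 := Submodule.finrank_lt_finrank_of_lt hlt
    rw [hL] at h4
    have e1 : L ⊔ L' = H := Submodule.eq_of_le_of_finrank_le (sup_le hLH hL'H) (by rw [h3]; omega)
    have e2 : L ⊔ L' = P := Submodule.eq_of_le_of_finrank_le (sup_le hPL hL'P) (by rw [hP]; omega)
    exact e1.symm.trans e2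
  exact hne ((key H₁ L₁ h13 hLH1 hle1 hL1 hn1 hP1).trans (key H₂ L₂ h23 hLH2 hle2 hL2 hn2 hP2).symm)

end Groth.Agent.S10896
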