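import Groth.Statements.S10898
import Mathlib.RingTheory.Ideal.Height
import Mathlib.RingTheory.Polynomial.Basic

set_option autoImplicit false
universe u
open Polynomial
open WDiv

namespace Groth.Agent.S10898

/-- Let A be a Noetherian integral domain and P a prime ideal of height 1 of the polynomial ring A[X].
Then either P meets A in 0 only, or its contraction p = P ∩ A is a prime of height 1 of A and P is
the extension p·A[X]. (The published lemma also assumes A regular in codimension 1; that hypothesis
is not used for this assertion.) -/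
theorem result (A : Type u) [CommRing A] [IsDomain A]
    [IsNoetherianRing A] (P : Ideal A[X]) [P.IsPrime] (hP : P.height = 1) :
    P.comap (C : A →+* A[X]) = ⊥ ∨
      ((P.comap (C : A →+* A[X])).height = 1 ∧ P = (P.comap (C : A →+* A[X])).map C) := by
  set p := P.comap (C : A →+* A[X]) with hp
  rcases eq_or_ne p ⊥ with h | h
  · exact Or.inl h
  refine Or.inr ?_
  haveI : p.IsPrime := Ideal.comap_isPrime _ P
  haveI hpm : (p.map (C : A →+* A[X])).IsPrime := Ideal.isPrime_map_C_of_isPrime
  have hne : p.map (C : A →+* A[X]) ≠ ⊥ := fun h0 =>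
    h ((Ideal.map_eq_bot_iff_of_injective C_injective).1 h0)
  have hle : p.map (C : A →+* A[X]) ≤ P := Ideal.map_comap_le
  have heq : P = p.map C := by
    by_contra hPne
    have h1 := Ideal.height_strict_mono_of_isPrime_of_isPrime (lt_of_le_of_ne hle (Ne.symm hPne))
    rw [hP, ENat.lt_one_iff_eq_zero, Ideal.height_eq_zero_iff] at h1
    rw [IsDomain.minimalPrimes_eq_singleton_bot] at h1
    exact hne h1
  refine ⟨le_antisymm ?_ ?_, heq⟩
  · rw [← Nat.cast_one (R := ℕ∞), Ideal.height_le_iff]
    intro q hq hqp
    haveI := hq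
    haveI : (q.map (C : A →+* A[X])).IsPrime := Ideal.isPrime_map_C_of_isPrime
    have hlt : q.map (C : A →+* A[X]) < P := by
      rw [heq]
      refine lt_of_le_of_ne (Ideal.map_mono hqp.le) fun e => hqp.ne ?_
      refine SetLike.ext fun x => ⟨fun hx => hqp.le hx, fun hx => ?_⟩
      have := e ▸ Ideal.mem_map_of_mem (C : A →+* A[X]) hx
      simpa using (Ideal.mem_map_C_iff.1 this) 0
    have h1 := Ideal.height_strict_mono_of_isPrime_of_isPrime hlt
    rw [hP, ENat.lt_one_iff_eq_zero, Ideal.height_eq_zero_iff,
      IsDomain.minimalPrimes_eq_singleton_bot, Set.mem_singleton_iff,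
      Ideal.map_eq_bot_iff_of_injective C_injective] at h1
    rw [h1, Ideal.height_bot]
    simp
  · rw [ENat.one_le_iff_ne_zero, ne_eq, Ideal.height_eq_zero_iff, IsDomain.minimalPrimes_eq_singleton_bot]
    exact h

end Groth.Agent.S10898
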