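import Groth.Statements.S10899
import Mathlib.RingTheory.DiscreteValuationRing.TFAE
import Mathlib.RingTheory.Ideal.Height
import Mathlib.RingTheory.Polynomial.Basic
import Groth.Agent.S10898

set_option autoImplicit false
universe u
open Polynomial
open WDiv

namespace Groth.Agent.S10899

/-- Let A be a Noetherian integral domain which is regular in codimension 1, i.e. whose localization at
every prime ideal of height 1 is a discrete valuation ring. Then the polynomial ring A[X] is regular
in codimension 1 as well: its localization at every prime ideal of height 1 is a discrete valuation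
ring. -/
theorem result (A : Type u) [CommRing A]
    [IsDomain A] [IsNoetherianRing A]
    (hR1 : ∀ (p : Ideal A) [p.IsPrime], p.height = 1 → IsDiscreteValuationRing (Localization.AtPrime p))
    (P : Ideal A[X]) [P.IsPrime] (hP : P.height = 1) :
    IsDiscreteValuationRing (Localization.AtPrime P) := by
  classical
  set B := Localization.AtPrime P
  haveI : IsDomain B :=
    IsLocalization.isDomain_localization P.primeCompl_le_nonZeroDivisors
  haveI : IsNoetherianRing B := IsLocalization.isNoetherianRing P.primeCompl B inferInstance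
  have hP0 : P ≠ ⊥ := fun h => by simp [h] at hP
  have hinj : Function.Injective (algebraMap A[X] B) :=
    IsLocalization.injective B P.primeCompl_le_nonZeroDivisors
  have hnf : ¬ IsField B := by
    intro hF
    have h := IsLocalRing.isField_iff_maximalIdeal_eq.1 hF
    rw [← Localization.AtPrime.map_eq_maximalIdeal, Ideal.map_eq_bot_iff_of_injective hinj] at h
    exact hP0 h
  have key : ∀ g : A[X], g ∈ P → (∀ f ∈ P, ∃ s : A[X], s ∉ P ∧ s * f ∈ Ideal.span {g}) →
      IsDiscreteValuationRing B := by
    intro g hg h
    refine ((IsDiscreteValuationRing.TFAE B hnf).out 0 4 :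
      IsDiscreteValuationRing B ↔ (IsLocalRing.maximalIdeal B).IsPrincipal).mpr
      ⟨⟨algebraMap A[X] B g, ?_⟩⟩
    rw [← Localization.AtPrime.map_eq_maximalIdeal (I := P), ← Ideal.span]
    refine le_antisymm (Ideal.map_le_iff_le_comap.2 fun f hf => ?_)
      ((Ideal.span_singleton_le_iff_mem _).2 (Ideal.mem_map_of_mem _ hg))
    obtain ⟨s, hs, hsf⟩ := h f hf
    have h' := Ideal.mem_map_of_mem (algebraMap A[X] B) hsf
    rw [Ideal.map_span, Set.image_singleton, map_mul] at h'
    exact (Ideal.unit_mul_mem_iff_mem _ (IsLocalization.map_units B (⟨s, hs⟩ : P.primeCompl))).1 h'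
  by_cases hp : P.comap (C : A →+* A[X]) = ⊥
  · -- a polynomial of least degree generates `P` after localisation
    have hex : ∃ d, ∃ g ∈ P, g ≠ 0 ∧ g.natDegree = d := by
      obtain ⟨g, hg, hg0⟩ := (Submodule.ne_bot_iff P).1 hP0
      exact ⟨_, g, hg, hg0, rfl⟩
    obtain ⟨g, hgP, hg0, hgd⟩ := Nat.find_spec hex
    refine key g hgP fun f hf => ?_
    have hC : ∀ c : A, c ≠ 0 → C c ∉ P := fun c hc h => hc (by
      have : c ∈ P.comap (C : A →+* A[X]) := h
      rwa [hp, Ideal.mem_bot] at this)
    induction hn : f.natDegree using Nat.strong_induction_on generalizing f with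
    | _ N ih =>
      rcases eq_or_ne f 0 with rfl | hf0
      · exact ⟨1, fun h => Ideal.IsPrime.ne_top inferInstance ((Ideal.eq_top_iff_one P).2 h), by simp⟩
      have hle : g.natDegree ≤ f.natDegree := hgd ▸ Nat.find_le ⟨f, hf, hf0, rfl⟩
      set r := C g.leadingCoeff * f - C f.leadingCoeff * X ^ (f.natDegree - g.natDegree) * g with hr
      have hrP : r ∈ P := P.sub_mem (P.mul_mem_left _ hf) (P.mul_mem_left _ hgP)
      have hgl : g.leadingCoeff ≠ 0 := leadingCoeff_ne_zero.2 hg0
      obtain ⟨s, hs, hsr⟩ : ∃ s, s ∉ P ∧ s * r ∈ Ideal.span {g} := by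
        rcases eq_or_ne r 0 with hr0 | hr0
        · exact ⟨C g.leadingCoeff, hC _ hgl, by simp [hr0]⟩
        · refine ih r.natDegree ?_ r hrP rfl
          rw [← hn]
          have hfl : f.leadingCoeff ≠ 0 := leadingCoeff_ne_zero.2 hf0
          have hdeg : (C g.leadingCoeff * f).degree =
              (C f.leadingCoeff * X ^ (f.natDegree - g.natDegree) * g).degree := by
            rw [degree_C_mul hgl, degree_mul, degree_C_mul_X_pow _ hfl, degree_eq_natDegree hf0,
              degree_eq_natDegree hg0, ← Nat.cast_add, Nat.sub_add_cancel hle]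
          have hlt : r.degree < (C g.leadingCoeff * f).degree := by
            refine degree_sub_lt_left hdeg (mul_ne_zero (C_ne_zero.2 hgl) hf0) ?_
            rw [leadingCoeff_mul, leadingCoeff_mul, leadingCoeff_mul, leadingCoeff_X_pow, leadingCoeff_C, leadingCoeff_C, mul_one, mul_comm]
          rw [degree_C_mul hgl] at hlt
          exact natDegree_lt_natDegree hr0 hlt
      refine ⟨s * C g.leadingCoeff, fun h => ((inferInstance : P.IsPrime).mem_or_mem h).elim hs (hC _ hgl), ?_⟩
      rw [mul_assoc, show C g.leadingCoeff * f = r + C f.leadingCoeff * X ^ (f.natDegree - g.natDegree) * g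
        by rw [hr, sub_add_cancel], mul_add]
      exact add_mem hsr (Ideal.mul_mem_left _ _ (Ideal.mul_mem_left _ _ (Ideal.mem_span_singleton_self g)))
  · -- `P` is extended from a height one prime of `A`
    set p := P.comap (C : A →+* A[X]) with hpdef
    obtain ⟨hp1, hPp⟩ := (Groth.Agent.S10898.result A P hP).resolve_left hp
    haveI : p.IsPrime := Ideal.comap_isPrime _ P
    haveI := hR1 p hp1
    obtain ⟨ϖ, hϖ⟩ := IsDiscreteValuationRing.exists_irreducible (Localization.AtPrime p)
    obtain ⟨t, ⟨s₀, hs₀⟩, rfl⟩ := IsLocalization.exists_mk'_eq p.primeCompl ϖ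
    have hmax : IsLocalRing.maximalIdeal (Localization.AtPrime p) =
        Ideal.span {algebraMap A (Localization.AtPrime p) t} := by
      rw [hϖ.maximalIdeal_eq]
      refine Ideal.span_singleton_eq_span_singleton.2
        ⟨(IsLocalization.map_units _ (⟨s₀, hs₀⟩ : p.primeCompl)).unit, ?_⟩
      exact IsLocalization.mk'_spec _ _ _
    have htp : t ∈ p := by
      rw [← IsLocalization.AtPrime.to_map_mem_maximal_iff (Localization.AtPrime p) p, hmax]
      exact Ideal.mem_span_singleton_self _
    refine key (C t) (show t ∈ p from htp) fun f hf => ?_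
    rw [hPp, Ideal.mem_map_C_iff] at hf
    have hc : ∀ i, ∃ s : A, s ∉ p ∧ s * f.coeff i ∈ Ideal.span {t} := by
      intro i
      have h1 : algebraMap A (Localization.AtPrime p) (f.coeff i) ∈
          (Ideal.span {t}).map (algebraMap A (Localization.AtPrime p)) := by
        rw [Ideal.map_span, Set.image_singleton, ← hmax]
        exact (IsLocalization.AtPrime.to_map_mem_maximal_iff _ p _).2 (hf i)
      exact (IsLocalization.algebraMap_mem_map_algebraMap_iff p.primeCompl _ _ _).1 h1
    choose s hsp hs using hc
    refine ⟨C (∏ i ∈ f.support, s i), fun h => ?_, ?_⟩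
    · obtain ⟨i, _, hi⟩ := (inferInstance : p.IsPrime).prod_mem_iff.1 (show _ ∈ p from h)
      exact hsp i hi
    · rw [show (Ideal.span {C t} : Ideal A[X]) = (Ideal.span {t}).map C by
        rw [Ideal.map_span, Set.image_singleton], Ideal.mem_map_C_iff]
      intro i
      rw [coeff_C_mul]
      by_cases hi : i ∈ f.support
      · rw [← Finset.prod_erase_mul _ _ hi, mul_assoc]
        exact Ideal.mul_mem_left _ _ (hs i)
      · rw [notMem_support_iff.1 hi, mul_zero]
        exact zero_mem _

end Groth.Agent.S10899
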