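import Groth.Statements.S10900
import Groth.Agent.WDivLib.Pullback
import Groth.Agent.WDivLib.PolyPrime

set_option autoImplicit false
universe u
open CategoryTheory CategoryTheory.Limits AlgebraicGeometry TopologicalSpace
open WDiv

namespace Groth.Agent.S10900

theorem coheight_genericPoint (X : Scheme.{u}) [IsIntegral X] :
    Order.coheight (genericPoint X) = 0 :=
  Order.coheight_eq_zero.2 fun y _ => Scheme.le_iff_specializes.2 (genericPoint_specializes y)


/-- Let X be an integral Noetherian separated scheme which is regular in codimension 1 (the local ring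
at every point of codimension 1, i.e. of coheight 1 in the specialization order, is a discrete
valuation ring), and let p : A^m_X → X be the affine m-space over X. Pulling back Weil divisors
along p (a divisor D, viewed as an integer-valued function on the codimension-1 points of X with
finite support, goes to y ↦ D(p(y)) on the codimension-1 points of A^m_X) induces an injective map
on divisor class groups: if the pulled-back divisor is the divisor of a nonzero rational function on
A^m_X, then D is the divisor of a nonzero rational function on X. -/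
theorem result (m : ℕ) (X : Scheme.{u}) [IsIntegral X]
    [IsNoetherian X] [X.IsSeparated] [IsLocallyNoetherian 𝔸(ULift.{u} (Fin m); X)]
    (hR1 : ∀ x : ↥X, Order.coheight x = 1 → IsDiscreteValuationRing ↑(X.presheaf.stalk x))
    (D : ↥X → ℤ) (hD : ∀ x, Order.coheight x ≠ 1 → D x = 0) (hfin : {x | D x ≠ 0}.Finite)
    (g : ↑(𝔸(ULift.{u} (Fin m); X)).functionField) (hg : g ≠ 0)
    (h : ∀ y : ↥(𝔸(ULift.{u} (Fin m); X)), Order.coheight y = 1 →
      Scheme.ord g y = D ((𝔸(ULift.{u} (Fin m); X) ↘ X) y)) :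
    ∃ f : ↑X.functionField, f ≠ 0 ∧ ∀ x : ↥X, Order.coheight x = 1 → Scheme.ord f x = D x := by
  classical
  let σ := ULift.{u} (Fin m)
  let p : 𝔸(σ; X) ⟶ X := 𝔸(σ; X) ↘ X
  -- the chart over an affine open
  let q : (U : X.Opens) → (hU : IsAffineOpen U) → (Spec (CommRingCat.of (MvPolynomial σ Γ(X, U))) ⟶ 𝔸(σ; X)) :=
    fun U hU => (AffineSpace.SpecIso σ Γ(X, U)).inv ≫ AffineSpace.map σ hU.fromSpec
  have hq : ∀ (U : X.Opens) (hU : IsAffineOpen U), IsOpenImmersion (q U hU) := fun U hU => by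
    haveI : IsOpenImmersion (AffineSpace.map σ hU.fromSpec) :=
      MorphismProperty.of_isPullback (AffineSpace.isPullback_map (n := σ) hU.fromSpec).flip inferInstance
    infer_instance
  have hqp : ∀ (U : X.Opens) (hU : IsAffineOpen U), q U hU ≫ p =
      Spec.map (CommRingCat.ofHom (MvPolynomial.C (σ := σ) : Γ(X, U) →+* _)) ≫ hU.fromSpec := by
    intro U hU
    simp only [q, p, Category.assoc, AffineSpace.map_over, AffineSpace.SpecIso_inv_over_assoc]
  have hgen : ∀ (U : X.Opens) (hU : IsAffineOpen U) [Nonempty U],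
      (q U hU ≫ p) (genericPoint (Spec (CommRingCat.of (MvPolynomial σ Γ(X, U))))) = genericPoint X := by
    intro U hU _
    rw [hqp U hU, Scheme.Hom.comp_apply, WDivLib.specMap_genericPoint _ (MvPolynomial.C_injective σ Γ(X, U))]
    exact genericPoint_eq_of_isOpenImmersion hU.fromSpec
  obtain ⟨_, ⟨U, hU, rfl⟩, hxU, -⟩ :=
    X.isBasis_affineOpens.exists_subset_of_mem_open (Set.mem_univ (genericPoint X)) isOpen_univ
  replace hU : IsAffineOpen U := hU
  haveI : Nonempty U := ⟨⟨_, hxU⟩⟩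
  haveI := hq U hU
  haveI : IsNoetherianRing Γ(X, U) := IsLocallyNoetherian.component_noetherian ⟨U, hU⟩
  have hpη : p (genericPoint 𝔸(σ; X)) = genericPoint X := by
    rw [← genericPoint_eq_of_isOpenImmersion (q U hU), ← Scheme.Hom.comp_apply]
    exact hgen U hU
  have hCη : ∀ (V : X.Opens) [Nonempty V],
      Spec.map (CommRingCat.ofHom (MvPolynomial.C (σ := σ) : Γ(X, V) →+* _))
        (genericPoint (Spec (CommRingCat.of (MvPolynomial σ Γ(X, V))))) =
      genericPoint (Spec (CommRingCat.of Γ(X, V))) :=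
    fun V _ => WDivLib.specMap_genericPoint _ (MvPolynomial.C_injective σ Γ(X, V))
  have hsq : ∀ (V : X.Opens) (hV : IsAffineOpen V) [Nonempty V] [IsOpenImmersion (q V hV)]
      (f : X.functionField), WDivLib.ffMap (q V hV) (WDivLib.pbMap p hpη f) =
        WDivLib.pbMap _ (hCη V) (WDivLib.ffMap hV.fromSpec f) := by
    intro V hV _ _ f
    rw [← WDivLib.pbMap_eq_ffMap _ (genericPoint_eq_of_isOpenImmersion (q V hV)),
      ← WDivLib.pbMap_eq_ffMap _ (genericPoint_eq_of_isOpenImmersion hV.fromSpec),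
      ← RingHom.comp_apply, ← WDivLib.pbMap_comp _ _ _ _ (hgen V hV),
      ← RingHom.comp_apply (WDivLib.pbMap _ (hCη V)), ← WDivLib.pbMap_comp _ _ _ _ (hqp V hV ▸ hgen V hV),
      WDivLib.pbMap_congr (hqp V hV)]
  -- the function comes from `X`
  obtain ⟨f, hf⟩ : ∃ f, WDivLib.pbMap p hpη f = g := by
    obtain ⟨a, b, hb0, hab⟩ := WDivLib.exists_rat_div (WDivLib.ffMap (q U hU) g)
    have ha0 : a ≠ 0 := fun h0 => (map_ne_zero (WDivLib.ffMap (q U hU))).2 hg (by
      rw [hab, h0, map_zero, zero_div])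
    obtain ⟨a', b', ha', hb', hab', hor⟩ := WDivLib.exists_reduced a b ha0 hb0
    have hfr : WDivLib.ffMap (q U hU) g = WDivLib.rat _ a' / WDivLib.rat _ b' := by
      rw [hab, div_eq_div_iff (WDivLib.rat_ne_zero hb0) (WDivLib.rat_ne_zero hb'), ← map_mul, ← map_mul,
        hab', mul_comm]
    rcases hor with ⟨a0, b0, rfl, rfl⟩ | ⟨P, hP, hP1, hPC, hmem⟩
    · obtain ⟨f, hf⟩ := (WDivLib.ffMap_bijective hU.fromSpec).2 (WDivLib.rat _ a0 / WDivLib.rat _ b0)
      refine ⟨f, (WDivLib.ffMap_bijective (q U hU)).1 ?_⟩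
      rw [hsq U hU, hf, map_div₀, WDivLib.pbMap_rat _ (hCη U), WDivLib.pbMap_rat _ (hCη U), hfr]
    · exfalso
      let y : ↥(Spec (CommRingCat.of (MvPolynomial σ Γ(X, U)))) := ⟨P, hP⟩
      have hy : Order.coheight y = 1 := (idealHeight_eq_coheight _ y).symm.trans hP1
      have h1 := h (q U hU y) ((coheight_eq_of_isOpenImmersion _).trans hy)
      have h2 : Spec.map (CommRingCat.ofHom (MvPolynomial.C (σ := σ) : Γ(X, U) →+* _)) y =
          genericPoint (Spec (CommRingCat.of Γ(X, U))) := by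
        rw [genericPoint_eq_bot_of_affine]
        exact PrimeSpectrum.ext hPC
      rw [← WDivLib.ord_ffMap, show (𝔸(ULift.{u} (Fin m); X) ↘ X) (q U hU y) = genericPoint X by
          change p (q U hU y) = _
          rw [← Scheme.Hom.comp_apply, hqp U hU, Scheme.Hom.comp_apply, h2]
          exact genericPoint_eq_of_isOpenImmersion hU.fromSpec,
        hD _ (by rw [coheight_genericPoint]; exact zero_ne_one), hfr,
        WDivLib.ord_div (WDivLib.rat_ne_zero ha') (WDivLib.rat_ne_zero hb')] at h1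
      rcases hmem with ⟨hin, hout⟩ | ⟨hin, hout⟩
      · rw [WDivLib.ord_rat_eq_zero (x := y) hout] at h1
        exact absurd h1 (by have := WDivLib.ord_rat_pos hy ha' hin; omega)
      · rw [WDivLib.ord_rat_eq_zero (x := y) hout] at h1
        exact absurd h1 (by have := WDivLib.ord_rat_pos hy hb' hin; omega)
  refine ⟨f, fun hf0 => hg (by rw [← hf, hf0, map_zero]), fun x hx => ?_⟩
  -- compare orders on the chart containing `x`
  obtain ⟨_, ⟨V, hV, rfl⟩, hxV, -⟩ :=
    X.isBasis_affineOpens.exists_subset_of_mem_open (Set.mem_univ x) isOpen_univ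
  replace hV : IsAffineOpen V := hV
  haveI : Nonempty V := ⟨⟨x, hxV⟩⟩
  haveI := hq V hV
  haveI : IsNoetherianRing Γ(X, V) := IsLocallyNoetherian.component_noetherian ⟨V, hV⟩
  obtain ⟨z, rfl⟩ : ∃ z : ↥(Spec Γ(X, V)), hV.fromSpec z = x :=
    ⟨hV.primeIdealOf ⟨x, hxV⟩, hV.fromSpec_primeIdealOf ⟨x, hxV⟩⟩
  have hz : Order.coheight z = 1 := (coheight_eq_of_isOpenImmersion hV.fromSpec).symm.trans hx
  haveI : IsDiscreteValuationRing ((Spec Γ(X, V)).presheaf.stalk z) :=
    haveI := hR1 _ hx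
    IsDiscreteValuationRing.RingEquivClass.isDiscreteValuationRing (asIso (hV.fromSpec.stalkMap z)).commRingCatIsoToRingEquiv
  haveI : z.asIdeal.IsPrime := PrimeSpectrum.isPrime z
  let y : ↥(Spec (CommRingCat.of (MvPolynomial σ Γ(X, V)))) :=
    ⟨z.asIdeal.map MvPolynomial.C, WDivLib.isPrime_map_C z.asIdeal⟩
  have hy : Order.coheight y = 1 := (idealHeight_eq_coheight _ y).symm.trans
    ((WDivLib.height_map_C z.asIdeal).trans ((idealHeight_eq_coheight _ z).trans hz))
  have hyz : Spec.map (CommRingCat.ofHom (MvPolynomial.C (σ := σ) : Γ(X, V) →+* _)) y = z :=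
    PrimeSpectrum.ext (WDivLib.comap_map_C z.asIdeal)
  have h1 := h (q V hV y) ((coheight_eq_of_isOpenImmersion _).trans hy)
  rw [← WDivLib.ord_ffMap, show (𝔸(ULift.{u} (Fin m); X) ↘ X) (q V hV y) = hV.fromSpec z by
      change p (q V hV y) = _
      rw [← Scheme.Hom.comp_apply, hqp V hV, Scheme.Hom.comp_apply, hyz], ← hf, hsq V hV] at h1
  rw [← h1, ← WDivLib.ord_ffMap]
  have hf' : WDivLib.ffMap hV.fromSpec f ≠ 0 :=
    (map_ne_zero _).2 fun h0 => hg (by rw [← hf, h0, map_zero])
  obtain ⟨a, b, hb, hab⟩ := WDivLib.exists_rat_div (A := Γ(X, V)) (WDivLib.ffMap hV.fromSpec f)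
  have ha : a ≠ 0 := fun h0 => hf' (by rw [hab, h0, map_zero, zero_div])
  obtain ⟨π, hπz, hπ0, hπ, hdec⟩ := WDivLib.exists_uniformizer (A := Γ(X, V)) (x := z)
  have hC : ∀ r : Γ(X, V), r ∉ z.asIdeal → MvPolynomial.C (σ := σ) r ∉ y.asIdeal := fun r hr h =>
    hr ((SetLike.ext_iff.1 (WDivLib.comap_map_C (σ := σ) z.asIdeal) r).1 h)
  have hπy : ∀ r ∈ y.asIdeal, ∃ s' ∉ y.asIdeal, MvPolynomial.C (σ := σ) π ∣ s' * r := by
    intro r hr
    induction hr using Submodule.span_induction with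
    | mem r hr =>
      obtain ⟨r0, hr0, rfl⟩ := hr
      obtain ⟨s, hs, hd⟩ := hπ r0 hr0
      exact ⟨MvPolynomial.C s, hC s hs, by rw [← map_mul]; exact map_dvd _ hd⟩
    | zero => exact ⟨1, fun h => y.2.ne_top ((Ideal.eq_top_iff_one _).2 h), by simp⟩
    | add r r' _ _ hr hr' =>
      obtain ⟨s, hs, hd⟩ := hr
      obtain ⟨s', hs', hd'⟩ := hr'
      refine ⟨s * s', fun h => (y.2.mem_or_mem h).elim hs hs', ?_⟩
      rw [mul_add]
      exact dvd_add (by rw [mul_right_comm]; exact hd.mul_right s') (by rw [mul_assoc]; exact hd'.mul_left s)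
    | smul c r _ hr =>
      obtain ⟨s, hs, hd⟩ := hr
      exact ⟨s, hs, by rw [smul_eq_mul, mul_left_comm]; exact hd.mul_left c⟩
  have key : ∀ c : Γ(X, V), c ≠ 0 →
      Scheme.ord (WDivLib.rat _ (MvPolynomial.C (σ := σ) c)) y = Scheme.ord (WDivLib.rat Γ(X, V) c) z := by
    intro c hc
    obtain ⟨n, s, t, hs, ht, hst⟩ := hdec c hc
    rw [WDivLib.ord_rat_eq_of_eq hz hπ0 hc hs ht hπ hπz hst]
    exact WDivLib.ord_rat_eq_of_eq hy ((map_ne_zero_iff _ (MvPolynomial.C_injective σ _)).2 hπ0)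
      ((map_ne_zero_iff _ (MvPolynomial.C_injective σ _)).2 hc) (hC s hs) (hC t ht) hπy
      (Ideal.mem_map_of_mem _ hπz) (by rw [← map_mul, hst, map_mul, map_pow])
  rw [hab, map_div₀, WDivLib.pbMap_rat _ (hCη V), WDivLib.pbMap_rat _ (hCη V),
    WDivLib.ord_div (WDivLib.rat_ne_zero ha) (WDivLib.rat_ne_zero hb),
    WDivLib.ord_div (WDivLib.rat_ne_zero ((map_ne_zero_iff _ (MvPolynomial.C_injective σ _)).2 ha))
      (WDivLib.rat_ne_zero ((map_ne_zero_iff _ (MvPolynomial.C_injective σ _)).2 hb)), key a ha, key b hb]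

end Groth.Agent.S10900
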