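import Groth.Statements.S1692
import Mathlib.AlgebraicGeometry.OrderOfVanishing
import Mathlib.Topology.NoetherianSpace
-- import your own Groth.Agent.* helpers here

set_option autoImplicit false
universe u
open CategoryTheory CategoryTheory.Limits AlgebraicGeometry TopologicalSpace
open SDiv

namespace Groth.Agent.S1692

/-- Let X be a locally Noetherian integral scheme and f a nonzero rational function. Then the closures
of the codimension-one points at which f has nonzero order of vanishing form a locally finite family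
of closed subsets of X. -/
theorem result (X : Scheme.{u}) [IsIntegral X] [IsLocallyNoetherian X] (f : ↑X.functionField) (hf : f ≠ 0) :
    LocallyFinite (fun ξ : {ξ : ↥X // Order.coheight ξ = 1 ∧ Scheme.ord f ξ ≠ 0} => closure ({ξ.1} : Set ↥X)) := by
  classical
  intro x
  obtain ⟨_, ⟨U, hU, rfl⟩, hxU, -⟩ :=
    X.isBasis_affineOpens.exists_subset_of_mem_open (Set.mem_univ x) isOpen_univ
  replace hU : IsAffineOpen U := hU
  haveI : Nonempty U := ⟨⟨x, hxU⟩⟩
  haveI : IsNoetherianRing Γ(X, U) := IsLocallyNoetherian.component_noetherian ⟨U, hU⟩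
  have hN : TopologicalSpace.NoetherianSpace (U : Set X) :=
    AlgebraicGeometry.noetherianSpace_of_isAffineOpen U hU
  haveI := functionField_isFractionRing_of_isAffineOpen X U hU
  obtain ⟨a, b, hb, hab⟩ := IsFractionRing.div_surjective (A := Γ(X, U)) (f : X.functionField)
  have hb0 : b ≠ 0 := nonZeroDivisors.ne_zero hb
  have ha0 : a ≠ 0 := by
    rintro rfl
    rw [map_zero, zero_div] at hab
    exact hf hab.symm
  refine ⟨U, U.isOpen.mem_nhds hxU, ?_⟩
  let B : X.Opens := X.basicOpen a ⊓ X.basicOpen b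
  have hη : genericPoint X ∈ B := by
    refine ⟨?_, ?_⟩
    · exact ((genericPoint_spec X).mem_open_set_iff (X.basicOpen a).isOpen).mpr (by
        rw [Set.univ_inter, Set.nonempty_iff_ne_empty]
        exact fun h => ha0 ((basicOpen_eq_bot_iff a).mp (TopologicalSpace.Opens.ext h)))
    · exact ((genericPoint_spec X).mem_open_set_iff (X.basicOpen b).isOpen).mpr (by
        rw [Set.univ_inter, Set.nonempty_iff_ne_empty]
        exact fun h => hb0 ((basicOpen_eq_bot_iff b).mp (TopologicalSpace.Opens.ext h)))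
  let C : Set U := (Subtype.val ⁻¹' (B : Set X))ᶜ
  obtain ⟨S, hSf, hSc, hSi, hS⟩ :=
    @TopologicalSpace.NoetherianSpace.exists_finite_set_isClosed_irreducible _ _ hN
      C (B.isOpen.preimage continuous_subtype_val).isClosed_compl
  haveI : QuasiSober (U : Set X) := U.isOpen.isOpenEmbedding_subtypeVal.quasiSober
  have hord : ∀ ξ : X, ∀ hξ : Order.coheight ξ = 1, ξ ∈ B → Scheme.ord f ξ = 0 := by
    intro ξ hξ hB
    have hU' : ξ ∈ U := X.basicOpen_le a hB.1
    rw [Scheme.ord_eq_iff hξ hf]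
    have hone : ∀ c : Γ(X, U), ξ ∈ X.basicOpen c →
        Scheme.ordHom ξ hξ (X.germToFunctionField U c) = 1 := by
      intro c hc
      have : Ring.KrullDimLE 1 (X.presheaf.stalk ξ) := krullDimLE_of_coheight_le hξ.le
      rw [← Scheme.algebraMap_germ_eq_germToFunctionField _ hU']
      exact Ring.ordFrac_of_isUnit ((Scheme.mem_basicOpen X c ξ hU').mp hc)
    rw [← hab, map_div₀]
    change Scheme.ordHom ξ hξ (X.germToFunctionField U a) /
      Scheme.ordHom ξ hξ (X.germToFunctionField U b) = _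
    rw [hone a hB.1, hone b hB.2, div_one]
    rfl
  have key : ∀ ξ : {ξ : ↥X // Order.coheight ξ = 1 ∧ Scheme.ord f ξ ≠ 0},
      (closure ({ξ.1} : Set X) ∩ (U : Set X)).Nonempty →
      ∃ W : {W // W ∈ S}, ∃ h : ξ.1 ∈ U, ∀ h' : IsIrreducible W.1,
        closure W.1 = closure {(⟨ξ.1, h⟩ : U)} := by
    rintro ⟨ξ, hξ, hξ'⟩ ⟨y, hy, hyU⟩
    have hξU : ξ ∈ U := (specializes_iff_mem_closure.mpr hy).mem_open U.isOpen hyU
    have hξC : (⟨ξ, hξU⟩ : U) ∈ C := fun hB => hξ' (hord ξ hξ hB)
    rw [hS] at hξC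
    obtain ⟨W, hW, hξW⟩ := hξC
    refine ⟨⟨W, hW⟩, hξU, fun hWi => ?_⟩
    obtain ⟨w, hw⟩ : ∃ w, IsGenericPoint w (closure W) :=
      ⟨_, hWi.isGenericPoint_genericPoint_closure⟩
    have hwξ : w ⤳ ⟨ξ, hξU⟩ := hw.specializes (subset_closure hξW)
    have hwC : w ∈ C := by
      rw [hS]
      exact ⟨W, hW, by rw [← (hSc W hW).closure_eq]; exact hw.mem⟩
    have hweq : w = ⟨ξ, hξU⟩ := by
      by_contra hne
      have hlt : ξ < w.1 := by
        refine lt_of_le_not_ge (Scheme.le_iff_specializes.mpr (hwξ.map continuous_subtype_val)) ?_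
        intro hle
        exact hne (Subtype.ext
          ((hwξ.map continuous_subtype_val).antisymm (Scheme.le_iff_specializes.mp hle)).eq)
      have h1 := Order.coheight_add_one_le hlt
      rw [hξ] at h1
      have h0 : Order.coheight w.1 = 0 := by
        by_contra hne0
        have : (1 : ℕ∞) ≤ Order.coheight w.1 := Order.one_le_iff_pos.mpr (pos_iff_ne_zero.mpr hne0)
        exact absurd ((add_le_add_left this 1).trans h1) (by norm_num)
      have hmax := Order.coheight_eq_zero.mp h0
      have hη' : w.1 = genericPoint X :=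
        ((Scheme.le_iff_specializes.mp (hmax (Scheme.le_iff_specializes.mpr
          (genericPoint_specializes w.1)))).antisymm (genericPoint_specializes w.1)).eq
      exact hwC (show w.1 ∈ B by rw [hη']; exact hη)
    rw [← hweq, hw.def]
  choose g hgU hg using key
  haveI := hSf.to_subtype
  refine Set.finite_coe_iff.mp ?_
  refine Finite.of_injective (fun ξ => g ξ.1 ξ.2) fun ξ₁ ξ₂ h => ?_
  have h1 := hg ξ₁.1 ξ₁.2 (hSi _ (g ξ₁.1 ξ₁.2).2)
  have h2 := hg ξ₂.1 ξ₂.2 (hSi _ (g ξ₂.1 ξ₂.2).2)
  rw [show g ξ₁.1 ξ₁.2 = g ξ₂.1 ξ₂.2 from h] at h1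
  rw [h1] at h2
  have h3 := Subtype.ext_iff.mp (inseparable_iff_closure_eq.mpr h2).eq
  exact Subtype.ext (Subtype.ext (by first | exact h3 | exact h3.symm))

end Groth.Agent.S1692
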