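import Groth.Statements.S10901
import Groth.Agent.WDivLib.AffSpace
import Groth.Agent.S1692

set_option autoImplicit false
universe u
open CategoryTheory CategoryTheory.Limits AlgebraicGeometry TopologicalSpace
open WDiv

namespace Groth.Agent.S10901

/-- Let X be an integral Noetherian separated scheme which is regular in codimension 1 (the local ring
at every point of coheight 1 is a discrete valuation ring), and p : A^m_X → X the affine m-space
over X. Then pulling back along p is surjective on divisor classes: for every Weil divisor D' on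
A^m_X (an integer-valued function on its points with finite support inside the points of coheight 1)
there are a Weil divisor D on X and a nonzero rational function g on A^m_X such that D'(y) = D(p(y))
+ ord_y(g) at every point y of A^m_X of coheight 1. -/
theorem result (m : ℕ) (X : Scheme.{u}) [IsIntegral X]
    [IsNoetherian X] [X.IsSeparated] [IsLocallyNoetherian 𝔸(ULift.{u} (Fin m); X)]
    (hR1 : ∀ x : ↥X, Order.coheight x = 1 → IsDiscreteValuationRing ↑(X.presheaf.stalk x))
    (D' : ↥(𝔸(ULift.{u} (Fin m); X)) → ℤ) (hD' : ∀ y, Order.coheight y ≠ 1 → D' y = 0) (hfin : {y | D' y ≠ 0}.Finite) :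
    ∃ (D : ↥X → ℤ) (g : ↑(𝔸(ULift.{u} (Fin m); X)).functionField), (∀ x, Order.coheight x ≠ 1 → D x = 0) ∧
      {x | D x ≠ 0}.Finite ∧ g ≠ 0 ∧
        ∀ y : ↥(𝔸(ULift.{u} (Fin m); X)), Order.coheight y = 1 → D' y = D ((𝔸(ULift.{u} (Fin m); X) ↘ X) y) + Scheme.ord g y := by
  classical
  let σ := ULift.{u} (Fin m)
  let p : 𝔸(σ; X) ⟶ X := 𝔸(σ; X) ↘ X
  let η := genericPoint X
  haveI : CompactSpace ↥𝔸(σ; X) := QuasiCompact.compactSpace_of_compactSpace p
  obtain ⟨_, ⟨U, hU, rfl⟩, hηU, -⟩ :=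
    X.isBasis_affineOpens.exists_subset_of_mem_open (Set.mem_univ η) isOpen_univ
  replace hU : IsAffineOpen U := hU
  haveI : Nonempty U := ⟨⟨_, hηU⟩⟩
  haveI := WDivLib.chart_isOpenImmersion σ hU
  haveI : IsNoetherianRing Γ(X, U) := IsLocallyNoetherian.component_noetherian ⟨U, hU⟩
  let B := Spec (CommRingCat.of (MvPolynomial σ Γ(X, U)))
  -- horizontal prime divisors in the chart
  let hor : ↥B → Prop := fun w => w.asIdeal.height = 1 ∧
    w.asIdeal.comap (MvPolynomial.C (σ := σ) : Γ(X, U) →+* _) = ⊥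
  have hgen : ∀ w : ↥B, ∃ π : MvPolynomial σ Γ(X, U), π ≠ 0 ∧ (hor w → π ∈ w.asIdeal ∧
      (∀ r ∈ w.asIdeal, ∃ s' ∉ w.asIdeal, π ∣ s' * r) ∧ ∀ w', hor w' → π ∈ w'.asIdeal → w' = w) := by
    intro w
    by_cases hw : hor w
    · haveI : w.asIdeal.IsPrime := PrimeSpectrum.isPrime w
      obtain ⟨π, hπ, hπ0, hdiv, huniq⟩ := WDivLib.exists_horizontal_generator w.asIdeal hw.1 hw.2
      refine ⟨π, hπ0, fun _ => ⟨hπ, fun r hr => ?_, fun w' hw' h' => ?_⟩⟩
      · obtain ⟨c, hc, hd⟩ := hdiv r hr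
        refine ⟨MvPolynomial.C c, fun h => hc ?_, hd⟩
        simpa [hw.2] using (show c ∈ w.asIdeal.comap (MvPolynomial.C (σ := σ)) from h)
      · haveI : w'.asIdeal.IsPrime := PrimeSpectrum.isPrime w'
        exact PrimeSpectrum.ext (huniq w'.asIdeal hw'.1 hw'.2 h')
    · exact ⟨1, one_ne_zero, fun h => absurd h hw⟩
  choose π hπ0 hπ using hgen
  have hSfin : {w : ↥B | hor w ∧ D' (WDivLib.chart σ hU w) ≠ 0}.Finite :=
    (hfin.preimage (WDivLib.chart σ hU).isOpenEmbedding.injective.injOn).subset fun w hw => hw.2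
  have hr : ∀ w, WDivLib.rat _ (π w) ≠ 0 := fun w => WDivLib.rat_ne_zero (hπ0 w)
  let g0 : B.functionField := ∏ w ∈ hSfin.toFinset, WDivLib.rat _ (π w) ^ D' (WDivLib.chart σ hU w)
  have hg0 : g0 ≠ 0 := Finset.prod_ne_zero_iff.2 fun w _ => zpow_ne_zero _ (hr w)
  obtain ⟨g, hg⟩ := (WDivLib.ffMap_bijective (WDivLib.chart σ hU)).2 g0
  have hgne : g ≠ 0 := fun h => hg0 (by rw [← hg, h, map_zero])
  let E : ↥𝔸(σ; X) → ℤ := fun y => D' y - Scheme.ord g y
  have hhor : ∀ y, Order.coheight y = 1 → p y = η → E y = 0 := by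
    intro y hy hyη
    obtain ⟨v, rfl⟩ := WDivLib.exists_chart_eq σ hU y (by change p y ∈ U; rw [hyη]; exact hηU)
    have hv1 : Order.coheight v = 1 := (coheight_eq_of_isOpenImmersion (WDivLib.chart σ hU)).symm.trans hy
    have hv : hor v := by
      refine ⟨(idealHeight_eq_coheight _ v).trans hv1, ?_⟩
      have h2 : Spec.map (CommRingCat.ofHom (MvPolynomial.C (σ := σ) : Γ(X, U) →+* _)) v =
          genericPoint (Spec (CommRingCat.of Γ(X, U))) := hU.fromSpec.isOpenEmbedding.injective (by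
        rw [← WDivLib.over_chart_apply]
        exact hyη.trans (genericPoint_eq_of_isOpenImmersion hU.fromSpec).symm)
      rw [genericPoint_eq_bot_of_affine] at h2
      exact congrArg PrimeSpectrum.asIdeal h2
    have hord : ∀ w, hor w → Scheme.ord (WDivLib.rat _ (π w)) v = if v = w then 1 else 0 := by
      intro w hw
      obtain ⟨hmem, hdiv, huniq⟩ := hπ w hw
      split_ifs with h
      · subst h
        have h1 := WDivLib.ord_rat_eq_of_eq (n := 1) hv1 (hπ0 v) (hπ0 v)
          (s := 1) (t := 1) (fun h => (PrimeSpectrum.isPrime v).ne_top ((Ideal.eq_top_iff_one _).2 h))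
          (fun h => (PrimeSpectrum.isPrime v).ne_top ((Ideal.eq_top_iff_one _).2 h)) hdiv hmem
          (by rw [pow_one])
        exact_mod_cast h1
      · exact WDivLib.ord_rat_eq_zero fun hc => h (huniq v hv hc)
    change D' _ - Scheme.ord g _ = 0
    rw [← WDivLib.ord_ffMap, hg, WDivLib.ord_prod _ _ (fun w _ => zpow_ne_zero _ (hr w)), sub_eq_zero,
      Finset.sum_eq_single v]
    · rw [WDivLib.ord_zpow (hr v), hord v hv, if_pos rfl, mul_one]
    · intro w hw hne
      rw [WDivLib.ord_zpow (hr w), hord w (hSfin.mem_toFinset.1 hw).1, if_neg hne.symm, mul_zero]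
    · intro hnot
      rw [show D' (WDivLib.chart σ hU v) = 0 from
        by_contra fun h => hnot (hSfin.mem_toFinset.2 ⟨hv, h⟩), zpow_zero, WDivLib.ord_one]
  -- the divisor on the base
  let D : ↥X → ℤ := fun x =>
    if h : ∃ y, Order.coheight y = 1 ∧ p y = x ∧ x ≠ η then E h.choose else 0
  have hordfin : {y | Scheme.ord g y ≠ 0}.Finite := by
    have hlf := S1692.result 𝔸(σ; X) g hgne
    haveI := Set.finite_univ_iff.1 (hlf.finite_nonempty_of_compact.subset
      (fun ξ _ => ⟨ξ.1, subset_closure rfl⟩))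
    refine (Set.finite_range fun ξ : {ξ : ↥𝔸(σ; X) // Order.coheight ξ = 1 ∧ Scheme.ord g ξ ≠ 0} => ξ.1).subset ?_
    intro y hy
    exact ⟨⟨y, by_contra fun h => hy (Scheme.ord_eq_zero_of_coheight_neq_one h g), hy⟩, rfl⟩
  have hEfin : {y | E y ≠ 0}.Finite := by
    refine (hfin.union hordfin).subset fun y hy => ?_
    by_cases h1 : D' y = 0
    · exact Or.inr fun h2 => hy (show D' y - Scheme.ord g y = 0 by rw [h1, show Scheme.ord g y = 0 from h2, sub_zero])
    · exact Or.inl h1
  refine ⟨D, g, fun x hx => ?_, (hEfin.image p).subset fun x hx => ?_, hgne, fun y hy => ?_⟩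
  · refine dif_neg ?_
    rintro ⟨y, hy, rfl, hne⟩
    obtain ⟨_, ⟨V, hV, rfl⟩, hxV, -⟩ :=
      X.isBasis_affineOpens.exists_subset_of_mem_open (Set.mem_univ (p y)) isOpen_univ
    replace hV : IsAffineOpen V := hV
    haveI : Nonempty V := ⟨⟨_, hxV⟩⟩
    exact hx (WDivLib.vertical σ hV hxV hy hne).1
  · change D x ≠ 0 at hx
    by_cases h : ∃ y, Order.coheight y = 1 ∧ p y = x ∧ x ≠ η
    · rw [show D x = E h.choose from dif_pos h] at hx
      exact ⟨_, hx, h.choose_spec.2.1⟩
    · exact absurd (dif_neg h) hx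
  · change D' y = D (p y) + Scheme.ord g y
    by_cases hyη : p y = η
    · have h1 := hhor y hy hyη
      have h2 : D (p y) = 0 := dif_neg fun ⟨_, _, _, hne⟩ => hne hyη
      rw [h2, zero_add]
      exact sub_eq_zero.1 h1
    · have h : ∃ y', Order.coheight y' = 1 ∧ p y' = p y ∧ p y ≠ η := ⟨y, hy, rfl, hyη⟩
      rw [show D (p y) = E h.choose from dif_pos h,
        ← WDivLib.vertical_unique σ hy h.choose_spec.1 hyη h.choose_spec.2.1.symm]
      exact (sub_add_cancel _ _).symm

end Groth.Agent.S10901
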