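import Groth.Statements.S10904
import Groth.Agent.GrInt.Poly
import Groth.Agent.GrCI.Hilbert

set_option autoImplicit false
universe u
open Polynomial
open ProjDeg

namespace Groth.Agent.S10904

theorem finrank_V {k : Type u} [Field k] {n : ℕ} (I : Ideal (MvPolynomial (Fin (n + 1)) k)) (m : ℕ) :
    (Module.finrank k ↥(Groth.Agent.GrCI.V (fun _ => 1) I m) : ℚ) =
      (Module.finrank k ↥(CohB1.polyGrading n k m) : ℚ) -
        Module.finrank k ↥(Submodule.restrictScalars k I ⊓ CohB1.polyGrading n k m) := by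
  set W := CohB1.polyGrading n k m
  haveI : Module.Finite k W := Module.Finite.iff_fg.mpr
    (MvPolynomial.weightedHomogeneousSubmodule_fg k (fun _ => 1) (fun _ => one_ne_zero) m)
  let π : W →ₗ[k] _ ⧸ I := (Ideal.Quotient.mkₐ k I).toLinearMap.comp W.subtype
  have hrk := π.finrank_range_add_finrank_ker
  have hr : LinearMap.range π = Groth.Agent.GrCI.V (fun _ => 1) I m := by
    rw [LinearMap.range_comp, Submodule.range_subtype]
    rfl
  have hk : LinearMap.ker π = ((I.restrictScalars k) ⊓ W).comap W.subtype := by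
    ext w
    rw [LinearMap.mem_ker, Submodule.mem_comap, Submodule.mem_inf, Submodule.restrictScalars_mem]
    exact Ideal.Quotient.eq_zero_iff_mem.trans ⟨fun h => ⟨h, w.2⟩, fun h => h.1⟩
  rw [hr, hk, (Submodule.comapSubtypeEquivOfLe (inf_le_right : (I.restrictScalars k) ⊓ W ≤ W)).finrank_eq] at hrk
  rw [← hrk]
  push_cast
  ring

/-- Let k be a field, R = k[X_0, …, X_n] graded by degree, I a homogeneous prime ideal of R, f a
homogeneous element of degree d ≥ 1 not in I, and I' = I + (f). Let P be the Hilbert polynomial of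
R/I and Q that of R/I': rational polynomials whose value at every large integer m is the k-dimension
of the degree-m piece, i.e. dim R_m − dim (I ∩ R_m). Assume P has degree at least 1, i.e. the
projective variety V(I) ⊆ P^n_k has dimension ≥ 1. Then Q has degree deg P − 1, and the degrees of
the projective schemes, (degree of the Hilbert polynomial)! times its leading coefficient, satisfy
deg V(I') = d · deg V(I). (The published statement has no dimension hypothesis; for V(I) a single
point the left side is 0 and the right side is d · deg V(I) ≠ 0, and the printed proof uses dim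
V(I') = dim V(I) − 1.) -/
theorem result (k : Type u) [Field k] (n : ℕ)
    (I : Ideal (MvPolynomial (Fin (n + 1)) k)) (hIh : I.IsHomogeneous (CohB1.polyGrading n k)) [I.IsPrime]
    (f : MvPolynomial (Fin (n + 1)) k) (d : ℕ) (hd : 0 < d) (hf : f.IsHomogeneous d) (hfI : f ∉ I)
    (P Q : ℚ[X])
    (hP : ∃ m₀ : ℕ, ∀ m : ℕ, m₀ ≤ m → P.eval (m : ℚ) =
      (Module.finrank k ↥(CohB1.polyGrading n k m) : ℚ) -
        Module.finrank k ↥(Submodule.restrictScalars k I ⊓ CohB1.polyGrading n k m))
    (hQ : ∃ m₀ : ℕ, ∀ m : ℕ, m₀ ≤ m → Q.eval (m : ℚ) =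
      (Module.finrank k ↥(CohB1.polyGrading n k m) : ℚ) -
        Module.finrank k ↥(Submodule.restrictScalars k (I ⊔ Ideal.span {f}) ⊓ CohB1.polyGrading n k m))
    (hdim : 1 ≤ P.natDegree) :
    Q.natDegree + 1 = P.natDegree ∧
      (Q.natDegree.factorial : ℚ) * Q.leadingCoeff =
        d * ((P.natDegree.factorial : ℚ) * P.leadingCoeff) := by
  classical
  obtain ⟨a, ha⟩ := hP
  obtain ⟨b, hb⟩ := hQ
  let δ : Fin (n + 1) → ℕ := fun _ => 1
  have hHom : Groth.Agent.GrCI.Hom δ I := by
    intro x hx u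
    have h := hIh u hx
    rw [show ((DirectSum.decompose (CohB1.polyGrading n k) x u : _) : MvPolynomial (Fin (n + 1)) k) =
      MvPolynomial.homogeneousComponent u x from MvPolynomial.decomposition.decompose'_apply x u] at h
    exact h
  have hH := Groth.Agent.GrCI.H_step (δ := δ) (fun _ => one_pos) hHom (e := d) hf
    (fun x hx => ((‹I.IsPrime›).mem_or_mem hx).resolve_left hfI)
  have hrec : ∀ m, (Module.finrank k ↥(Groth.Agent.GrCI.V δ (I ⊔ Ideal.span {f}) (m + d)) : ℤ) =
      Module.finrank k ↥(Groth.Agent.GrCI.V δ I (m + d)) - Module.finrank k ↥(Groth.Agent.GrCI.V δ I m) := by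
    intro m
    have h := congrArg (PowerSeries.coeff (m + d)) hH
    rw [mul_sub, mul_one, map_sub, PowerSeries.coeff_mul_X_pow] at h
    simpa [Groth.Agent.GrCI.H] using h
  let sgn : ULift.{u} (Fin 2) → ℚ := fun i => if i.down = 0 then 1 else -1
  let sh : ULift.{u} (Fin 2) → ℕ := fun i => if i.down = 0 then 0 else d
  have hμ : ∀ c, Groth.Agent.GrInt.Poly.μ sgn sh c = (0 : ℚ) ^ c - (-(d : ℚ)) ^ c := by
    intro c
    rw [Groth.Agent.GrInt.Poly.μ, ← Equiv.ulift.symm.sum_comp, Fin.sum_univ_two]
    simp [sgn, sh]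
    ring
  have hT : Groth.Agent.GrInt.Poly.T sgn sh P = Q := by
    refine Polynomial.eq_of_infinite_eval_eq _ _ (Set.Infinite.mono
      (s := (fun m : ℕ => ((m + (a + b) + d : ℕ) : ℚ)) '' Set.univ) ?_
      (Set.infinite_univ.image fun x _ y _ h => by simpa using h))
    rintro _ ⟨m, -, rfl⟩
    show (Groth.Agent.GrInt.Poly.T sgn sh P).eval _ = _
    rw [Groth.Agent.GrInt.Poly.eval_T, ← Equiv.ulift.symm.sum_comp, Fin.sum_univ_two]
    have h1 := congrArg (Int.cast : ℤ → ℚ) (hrec (m + (a + b)))
    push_cast at h1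
    rw [finrank_V, finrank_V, finrank_V, ← hb _ (by omega), ← ha _ (by omega), ← ha _ (by omega)] at h1
    push_cast at h1
    simp [sgn, sh]
    linarith
  have hd0 : (d : ℚ) ≠ 0 := Nat.cast_ne_zero.mpr hd.ne'
  have hP0 : P ≠ 0 := fun h => by simp [h] at hdim
  obtain ⟨-, hdeg⟩ := Groth.Agent.GrInt.Poly.natDegree_T sgn sh hP0 (c₀ := 1) (by rw [hμ]; simpa using hd0)
    (fun c hc => by rw [show c = 0 by omega, hμ]; simp) hdim
  rw [hT] at hdeg
  refine ⟨hdeg, ?_⟩
  have hlead : Q.leadingCoeff = (P.natDegree : ℚ) * P.leadingCoeff * d := by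
    rw [Polynomial.leadingCoeff, ← hT, Groth.Agent.GrInt.Poly.coeff_T, Finset.sum_eq_single 1]
    · rw [hT, add_comm 1 Q.natDegree, hdeg, hμ, Polynomial.leadingCoeff]
      rw [show Nat.choose P.natDegree Q.natDegree = P.natDegree by
        rw [← hdeg, Nat.choose_succ_self_right]]
      ring
    · intro c _ hc
      rcases Nat.eq_zero_or_pos c with rfl | hc0
      · rw [hμ]; simp
      · rw [Polynomial.coeff_eq_zero_of_natDegree_lt (by rw [hT]; omega), mul_zero, zero_mul]
    · intro h
      exact absurd (Finset.mem_range.2 (by omega)) h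
  rw [hlead, ← hdeg, Nat.factorial_succ]
  push_cast
  ring

end Groth.Agent.S10904
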