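import Groth.Statements.S10906
import Groth.Agent.S10904
import Groth.Agent.S10915
import Groth.Agent.LenLib.Localized
import Mathlib.RingTheory.GradedAlgebra.Radical

set_option autoImplicit false
universe u
open Polynomial
open ProjDeg

namespace Groth.Agent.S10906

open Filter Topology MvPolynomial Groth.Agent.GrCI

variable {k : Type u} [Field k] {n : ℕ}

local notation "S" => MvPolynomial (Fin (n + 1)) k
local notation "δ₁" => (fun _ : Fin (n + 1) => (1 : ℕ))

theorem hom_of_isHomogeneous {J : Ideal S} (hJ : J.IsHomogeneous (CohB1.polyGrading n k)) :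
    Hom δ₁ J := by
  intro x hx u
  have h := hJ u hx
  rw [show ((DirectSum.decompose (CohB1.polyGrading n k) x u : _) : S) =
    MvPolynomial.homogeneousComponent u x from MvPolynomial.decomposition.decompose'_apply x u] at h
  exact h

theorem isHomogeneous_of_hom {J : Ideal S} (hJ : Hom δ₁ J) :
    J.IsHomogeneous (CohB1.polyGrading n k) := by
  intro u x hx
  rw [show ((DirectSum.decompose (CohB1.polyGrading n k) x u : _) : S) =
    MvPolynomial.homogeneousComponent u x from MvPolynomial.decomposition.decompose'_apply x u]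
  exact hJ x hx u

/-- The colon ideal `(J : h)`. -/
noncomputable def col (J : Ideal S) (h : S) : Ideal S := Submodule.comap (LinearMap.mulLeft S h) J

theorem mem_col {J : Ideal S} {h x : S} : x ∈ col J h ↔ h * x ∈ J := Iff.rfl

theorem le_col (J : Ideal S) (h : S) : J ≤ col J h := fun _ hx => J.mul_mem_left h hx

theorem hom_col {J : Ideal S} (hJ : Hom δ₁ J) {h : S} {e : ℕ} (hh : IsWeightedHomogeneous δ₁ h e) :
    Hom δ₁ (col J h) := by
  intro x hx u
  have h1 : weightedHomogeneousComponent δ₁ (e + u) (h * x) ∈ J := hJ _ hx (e + u)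
  rw [comp_mul hh, if_pos (Nat.le_add_right _ _), Nat.add_sub_cancel_left] at h1
  exact h1

theorem hom_sup {J : Ideal S} (hJ : Hom δ₁ J) {h : S} {e : ℕ} (hh : IsWeightedHomogeneous δ₁ h e) :
    Hom δ₁ (J ⊔ Ideal.span {h}) := by
  intro x hx u
  obtain ⟨a, ha, b, hb, rfl⟩ := Submodule.mem_sup.mp hx
  obtain ⟨s, rfl⟩ := Ideal.mem_span_singleton.mp hb
  rw [map_add, comp_mul hh]
  refine add_mem (Ideal.mem_sup_left (hJ a ha u)) (Ideal.mem_sup_right ?_)
  split_ifs
  · exact Ideal.mem_span_singleton.mpr (dvd_mul_right _ _)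
  · exact Ideal.zero_mem _

/-- Hilbert function of `S/J`. -/
noncomputable def HF (J : Ideal S) (m : ℕ) : ℕ := Module.finrank k ↥(V δ₁ J m)

theorem HF_mono {J J' : Ideal S} (h : J ≤ J') (m : ℕ) : HF J' m ≤ HF J m := by
  haveI := finite_V (δ := δ₁) (fun _ => one_pos) J m
  haveI := finite_V (δ := δ₁) (fun _ => one_pos) J' m
  let g : V δ₁ J m →ₗ[k] S ⧸ J' := (Ideal.Quotient.factorₐ k h).toLinearMap.comp (V δ₁ J m).subtype
  have hle : V δ₁ J' m ≤ LinearMap.range g := by
    intro z hz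
    obtain ⟨q, hq, rfl⟩ := mem_V.mp hz
    exact ⟨⟨_, mem_V.mpr ⟨q, hq, rfl⟩⟩, rfl⟩
  exact (Submodule.finrank_mono hle).trans (LinearMap.finrank_range_le g)

theorem HF_colon {J : Ideal S} (hJ : Hom δ₁ J) {h : S} {e : ℕ}
    (hh : IsWeightedHomogeneous δ₁ h e) (m : ℕ) :
    HF (J ⊔ Ideal.span {h}) (m + e) + HF (col J h) m = HF J (m + e) := by
  classical
  set J' := J ⊔ Ideal.span {h}
  set q := col J h
  have hle : J ≤ J' := le_sup_left
  let fac : (S ⧸ J) →ₗ[k] S ⧸ J' := (Ideal.Quotient.factorₐ k hle).toLinearMap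
  let mh : (S ⧸ q) →ₗ[k] S ⧸ J := (Submodule.mapQ q J (LinearMap.mulLeft S h) le_rfl).restrictScalars k
  have hmhmk : ∀ x : S, mh (Ideal.Quotient.mk q x) = Ideal.Quotient.mk J (h * x) := fun x => rfl
  have hmh : Function.Injective mh := by
    rw [injective_iff_map_eq_zero]
    intro z hz
    obtain ⟨x, rfl⟩ := Ideal.Quotient.mk_surjective z
    rw [hmhmk, Ideal.Quotient.eq_zero_iff_mem] at hz
    exact Ideal.Quotient.eq_zero_iff_mem.mpr hz
  haveI := finite_V (δ := δ₁) (fun _ => one_pos) J (m + e)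
  let g := fac.comp (V δ₁ J (m + e)).subtype
  have hrange : LinearMap.range g = V δ₁ J' (m + e) := by
    rw [LinearMap.range_comp, Submodule.range_subtype]
    ext z
    simp only [Submodule.mem_map, mem_V]
    constructor
    · rintro ⟨_, ⟨p, hp, rfl⟩, rfl⟩
      exact ⟨p, hp, rfl⟩
    · rintro ⟨p, hp, rfl⟩
      exact ⟨_, ⟨p, hp, rfl⟩, rfl⟩
  have hker : Submodule.map (V δ₁ J (m + e)).subtype (LinearMap.ker g) =
      Submodule.map mh (V δ₁ q m) := by
    rw [LinearMap.ker_comp, Submodule.map_comap_subtype]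
    apply le_antisymm
    · rintro z ⟨hz, hz0⟩
      obtain ⟨p, hp, rfl⟩ := mem_V.mp hz
      have hp' : p ∈ J' := Ideal.Quotient.eq_zero_iff_mem.mp hz0
      obtain ⟨a, ha, b, hb, hab⟩ := Submodule.mem_sup.mp hp'
      obtain ⟨s, rfl⟩ := Ideal.mem_span_singleton.mp hb
      have := congrArg (weightedHomogeneousComponent δ₁ (m + e)) hab
      rw [map_add, weightedHomogeneousComponent_eq_self hp, comp_mul hh,
        if_pos (Nat.le_add_left _ _), Nat.add_sub_cancel] at this
      refine ⟨Ideal.Quotient.mk q (weightedHomogeneousComponent δ₁ m s),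
        mem_V.mpr ⟨_, weightedHomogeneousComponent_isWeightedHomogeneous _ _, rfl⟩, ?_⟩
      rw [hmhmk, ← this, map_add, Ideal.Quotient.eq_zero_iff_mem.mpr (hJ a ha _), zero_add]
    · rintro _ ⟨z, hz, rfl⟩
      obtain ⟨p, hp, rfl⟩ := mem_V.mp hz
      refine ⟨mem_V.mpr ⟨h * p, ?_, (hmhmk p).symm⟩, ?_⟩
      · rw [add_comm m e]
        exact hh.mul hp
      · change Ideal.Quotient.factorₐ k hle (mh (Ideal.Quotient.mk q p)) = 0
        rw [hmhmk]
        exact Ideal.Quotient.eq_zero_iff_mem.mpr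
          (Ideal.mem_sup_right (Ideal.mem_span_singleton.mpr (dvd_mul_right _ _)))
  have hrn := LinearMap.finrank_range_add_finrank_ker g
  have e1 := Submodule.finrank_map_subtype_eq (V δ₁ J (m + e)) (LinearMap.ker g)
  rw [hker] at e1
  rw [hrange, ← e1, ← (Submodule.equivMapOfInjective mh hmh (V δ₁ q m)).finrank_eq] at hrn
  exact hrn

theorem tendsto_eval_div {P : Polynomial ℚ} {D : ℕ} (h : P.natDegree ≤ D) :
    Tendsto (fun m : ℕ => P.eval (m : ℚ) / (m : ℚ) ^ D) atTop (𝓝 (P.coeff D)) := by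
  have h1 : ∀ᶠ m : ℕ in atTop, (∑ j ∈ Finset.range (D + 1), P.coeff j * (1 / (m : ℚ)) ^ (D - j)) =
      P.eval (m : ℚ) / (m : ℚ) ^ D := by
    filter_upwards [eventually_gt_atTop 0] with m hm
    rw [Polynomial.eval_eq_sum_range' (n := D + 1) (by omega), Finset.sum_div]
    refine Finset.sum_congr rfl fun j hj => ?_
    have hj' : j ≤ D := by rw [Finset.mem_range] at hj; omega
    have hm' : (m : ℚ) ≠ 0 := Nat.cast_ne_zero.mpr hm.ne'
    rw [one_div_pow, ← mul_div_assoc, mul_one, eq_div_iff (pow_ne_zero _ hm'),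
      div_mul_eq_mul_div, div_eq_iff (pow_ne_zero _ hm'), mul_assoc, ← pow_add, Nat.add_sub_cancel' hj']
  refine Tendsto.congr' h1 ?_
  have h2 : P.coeff D = ∑ j ∈ Finset.range (D + 1), P.coeff j * (0 : ℚ) ^ (D - j) := by
    rw [Finset.sum_range_succ, Finset.sum_eq_zero fun j hj => ?_, Nat.sub_self, pow_zero, mul_one, zero_add]
    rw [Finset.mem_range] at hj
    rw [zero_pow (by omega), mul_zero]
  rw [h2]
  exact tendsto_finsetSum _ fun j _ => ((tendsto_one_div_atTop_nhds_zero_nat).pow _).const_mul _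

theorem tendsto_ratio (D e : ℕ) :
    Tendsto (fun m : ℕ => ((m : ℚ) / ((m + e : ℕ) : ℚ)) ^ D) atTop (𝓝 1) := by
  have h : Tendsto (fun m : ℕ => (m : ℚ) / ((m : ℚ) + (e : ℚ))) atTop (𝓝 1) :=
    tendsto_natCast_div_add_atTop (e : ℚ)
  simpa using h.pow D

theorem shift {a b c : ℕ → ℕ} {D e : ℕ} {l l' : ℚ} (h : ∀ m, b (m + e) + c m = a (m + e))
    (hb : Tendsto (fun m : ℕ => (b m : ℚ) / (m : ℚ) ^ D) atTop (𝓝 l'))
    (hc : Tendsto (fun m : ℕ => (c m : ℚ) / (m : ℚ) ^ D) atTop (𝓝 l)) :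
    Tendsto (fun m : ℕ => (a m : ℚ) / (m : ℚ) ^ D) atTop (𝓝 (l' + l)) := by
  rw [← tendsto_add_atTop_iff_nat e]
  have hb' := (tendsto_add_atTop_iff_nat e).mpr hb
  have hc' := hc.mul (tendsto_ratio D e)
  rw [mul_one] at hc'
  refine (hb'.add hc').congr' ?_
  filter_upwards [eventually_gt_atTop 0] with m hm
  have hm' : (m : ℚ) ≠ 0 := Nat.cast_ne_zero.mpr hm.ne'
  rw [div_pow, ← h m, div_mul_div_comm, mul_comm ((m : ℚ) ^ D) (((m + e : ℕ) : ℚ) ^ D),
    mul_div_mul_right _ _ (pow_ne_zero _ hm'), Nat.cast_add (b (m + e)), add_div]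

theorem exists_prime_col {J : Ideal S} (hJ : Hom δ₁ J) (hne : J ≠ ⊤) :
    ∃ (h : S) (e : ℕ), IsWeightedHomogeneous δ₁ h e ∧ h ∉ J ∧ (col J h).IsPrime := by
  let 𝒮 : Set (Ideal S) := {q | ∃ (h : S) (e : ℕ), IsWeightedHomogeneous δ₁ h e ∧ h ∉ J ∧ q = col J h}
  obtain ⟨q, ⟨h, e, hh, hhJ, rfl⟩, hmax⟩ := set_has_maximal_iff_noetherian.mpr inferInstance 𝒮
    ⟨col J 1, 1, 0, isWeightedHomogeneous_one k δ₁, fun h => hne ((Ideal.eq_top_iff_one _).mpr h), rfl⟩
  refine ⟨h, e, hh, hhJ, Ideal.IsHomogeneous.isPrime_of_homogeneous_mem_or_mem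
    (isHomogeneous_of_hom (hom_col hJ hh)) (fun htop => hhJ (by
      have : (1 : S) ∈ col J h := htop ▸ Submodule.mem_top
      rwa [mem_col, mul_one] at this)) ?_⟩
  rintro x y ⟨a, hx⟩ ⟨b, hy⟩ hxy
  refine or_iff_not_imp_left.mpr fun hxq => ?_
  have hle : col J h ≤ col J (h * x) := fun z hz => by
    rw [mem_col] at hz ⊢
    rw [mul_right_comm]
    exact J.mul_mem_right x hz
  have hmem : col J (h * x) ∈ 𝒮 := ⟨h * x, e + a, hh.mul hx, hxq, rfl⟩
  have heq : col J h = col J (h * x) := (lt_or_eq_of_le hle).resolve_left (hmax _ hmem)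
  rw [heq, mem_col, mul_assoc]
  exact hxy

theorem length_step (J : Ideal S) (h : S) (P : Ideal S) [P.IsPrime] :
    Module.length (Localization.AtPrime P) (LocalizedModule P.primeCompl (S ⧸ J)) =
      Module.length (Localization.AtPrime P) (LocalizedModule P.primeCompl (S ⧸ col J h)) +
        Module.length (Localization.AtPrime P) (LocalizedModule P.primeCompl (S ⧸ (J ⊔ Ideal.span {h}))) := by
  let f : (S ⧸ col J h) →ₗ[S] S ⧸ J := Submodule.mapQ (col J h) J (LinearMap.mulLeft S h) le_rfl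
  let g : (S ⧸ J) →ₗ[S] S ⧸ (J ⊔ Ideal.span {h}) :=
    Submodule.factor (le_sup_left : J ≤ J ⊔ Ideal.span {h})
  refine LenLib.length_localized_add P.primeCompl f g ?_ (Submodule.factor_surjective _) ?_
  · rw [injective_iff_map_eq_zero]
    intro z hz
    obtain ⟨x, rfl⟩ := Submodule.mkQ_surjective _ z
    exact (Submodule.Quotient.mk_eq_zero _).mpr ((Submodule.Quotient.mk_eq_zero J).mp hz :)
  · intro z
    obtain ⟨x, rfl⟩ := Submodule.mkQ_surjective _ z
    constructor
    · intro hz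
      obtain ⟨a, ha, b, hb, hab⟩ := Submodule.mem_sup.mp ((Submodule.Quotient.mk_eq_zero _).mp hz)
      obtain ⟨s, rfl⟩ := Ideal.mem_span_singleton.mp hb
      refine ⟨Submodule.Quotient.mk s, (Submodule.Quotient.eq J).mpr ?_⟩
      show h * s - x ∈ J
      have hab' : a + h * s = x := hab
      rw [← hab', sub_add_cancel_right]
      exact neg_mem ha
    · rintro ⟨y, hy⟩
      obtain ⟨s, rfl⟩ := Submodule.mkQ_surjective _ y
      rw [← hy]
      exact (Submodule.Quotient.mk_eq_zero _).mpr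
        (Ideal.mem_sup_right (Ideal.mem_span_singleton.mpr (dvd_mul_right _ _)))

theorem natDegree_le_of_squeeze {P Q : Polynomial ℚ}
    (h : ∀ᶠ m : ℕ in atTop, 0 ≤ Q.eval (m : ℚ) ∧ Q.eval (m : ℚ) ≤ P.eval (m : ℚ)) :
    Q.natDegree ≤ P.natDegree := by
  by_contra hlt
  rw [not_le] at hlt
  refine Polynomial.ne_zero_of_natDegree_gt hlt (Polynomial.leadingCoeff_eq_zero.mp ?_)
  have h1 : Tendsto (fun m : ℕ => Q.eval (m : ℚ) / (m : ℚ) ^ Q.natDegree) atTop (𝓝 Q.leadingCoeff) :=
    tendsto_eval_div le_rfl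
  have h2 := tendsto_eval_div (P := P) (D := Q.natDegree) hlt.le
  rw [Polynomial.coeff_eq_zero_of_natDegree_lt hlt] at h2
  refine tendsto_nhds_unique h1 (tendsto_of_tendsto_of_tendsto_of_le_of_le' tendsto_const_nhds h2 ?_ ?_)
  · filter_upwards [h] with m hm using div_nonneg hm.1 (by positivity)
  · filter_upwards [h] with m hm using div_le_div_of_nonneg_right hm.2 (by positivity)

/-- Let k be a field, R = k[X_0, …, X_n] graded by degree, I a homogeneous ideal with Hilbert polynomial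
P (a rational polynomial with P(m) = dim_k R_m − dim_k (I ∩ R_m) for all large m), and p_1, …, p_r
the minimal prime ideals over I, listed without repetition, with Hilbert polynomials Q_i; put t =
deg P. Defining the degree of V(J) as (degree of its Hilbert polynomial)! times the leading
coefficient and the multiplicity of the component V(p_i) in Y = V(I) as the length of (R/I)_{p_i}
over R_{p_i}, the degree of Y is the sum, over the components of top dimension (those i with deg Q_i
= t), of multiplicity times degree: deg Y = Σ_{deg Q_i = t} i(Y_i; Y) · deg V(p_i). -/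
theorem result (k : Type u) [Field k] (n : ℕ)
    (I : Ideal (MvPolynomial (Fin (n + 1)) k)) (hIh : I.IsHomogeneous (CohB1.polyGrading n k))
    (P : ℚ[X])
    (hP : ∃ m₀ : ℕ, ∀ m : ℕ, m₀ ≤ m → P.eval (m : ℚ) =
      (Module.finrank k ↥(CohB1.polyGrading n k m) : ℚ) -
        Module.finrank k ↥(Submodule.restrictScalars k I ⊓ CohB1.polyGrading n k m))
    (r : ℕ) (p : Fin r → Ideal (MvPolynomial (Fin (n + 1)) k)) [hp : ∀ i, (p i).IsPrime] (hpinj : Function.Injective p)
    (hpmin : ∀ q : Ideal (MvPolynomial (Fin (n + 1)) k), q ∈ I.minimalPrimes ↔ ∃ i, q = p i)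
    (Qp : Fin r → ℚ[X])
    (hQp : ∀ i, ∃ m₀ : ℕ, ∀ m : ℕ, m₀ ≤ m → (Qp i).eval (m : ℚ) =
      (Module.finrank k ↥(CohB1.polyGrading n k m) : ℚ) -
        Module.finrank k ↥(Submodule.restrictScalars k (p i) ⊓ CohB1.polyGrading n k m)) :
    (P.natDegree.factorial : ℚ) * P.leadingCoeff =
      ∑ i : Fin r, if (Qp i).natDegree = P.natDegree then
        ((Qp i).natDegree.factorial : ℚ) * (Qp i).leadingCoeff *
          (Module.length (Localization.AtPrime (p i))
            (LocalizedModule (p i).primeCompl (MvPolynomial (Fin (n + 1)) k ⧸ I))).toNat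
      else 0 := by
  classical
  obtain ⟨m₀, hm₀⟩ := hP
  set D := P.natDegree with hD
  let H : Ideal (MvPolynomial (Fin (n + 1)) k) → ℕ → ℚ := fun J m => (HF J m : ℚ)
  have hHP : ∀ m, m₀ ≤ m → (HF I m : ℚ) = P.eval (m : ℚ) := fun m hm =>
    (S10904.finrank_V I m).trans (hm₀ m hm).symm
  have hIp : ∀ i, I ≤ p i := fun i => ((hpmin _).mpr ⟨i, rfl⟩).1.2
  have hHom : ∀ i, Hom (fun _ : Fin (n + 1) => 1) (p i) := fun i =>
    hom_of_isHomogeneous (S10915.isHomogeneous_of_mem_minimalPrimes hIh ((hpmin _).mpr ⟨i, rfl⟩))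
  have hdegle : ∀ i, (Qp i).natDegree ≤ D := fun i => by
    obtain ⟨m₁, hm₁⟩ := hQp i
    refine natDegree_le_of_squeeze ?_
    filter_upwards [eventually_ge_atTop m₀, eventually_ge_atTop m₁] with m h0 h1
    rw [(hm₁ m h1).trans (S10904.finrank_V (p i) m).symm, ← hHP m h0]
    exact ⟨Nat.cast_nonneg _, by exact_mod_cast HF_mono (hIp i) m⟩
  let c : Fin r → ℚ := fun i => (Qp i).coeff D
  have hlim : ∀ i, Tendsto (fun m : ℕ => (HF (p i) m : ℚ) / (m : ℚ) ^ D) atTop (𝓝 (c i)) := by
    intro i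
    obtain ⟨m₁, hm₁⟩ := hQp i
    refine (tendsto_eval_div (hdegle i)).congr' ?_
    filter_upwards [eventually_ge_atTop m₁] with m h1
    rw [(hm₁ m h1).trans (S10904.finrank_V (p i) m).symm]
    rfl
  let len : Ideal (MvPolynomial (Fin (n + 1)) k) → Fin r → ℕ∞ := fun J i =>
    Module.length (Localization.AtPrime (p i))
      (LocalizedModule (p i).primeCompl (MvPolynomial (Fin (n + 1)) k ⧸ J))
  let Φ : Ideal (MvPolynomial (Fin (n + 1)) k) → Prop := fun J =>
    (∀ i, len J i ≠ ⊤) ∧ Tendsto (fun m : ℕ => (HF J m : ℚ) / (m : ℚ) ^ D) atTop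
      (𝓝 (∑ i, ((len J i).toNat : ℚ) * c i))
  have hprime : ∀ q : Ideal (MvPolynomial (Fin (n + 1)) k), q.IsPrime →
      Hom (fun _ : Fin (n + 1) => 1) q → I ≤ q → Φ q := by
    intro q hq hqh hIq
    have hne : ∀ i, q ≠ p i → len q i = 0 := fun i hi =>
      LenLib.length_localized_quotient_eq_zero (p i) q (LinearEquiv.refl _ _) fun hle =>
        hi (le_antisymm hle (((hpmin _).mpr ⟨i, rfl⟩).2 ⟨hq, hIq⟩ hle))
    by_cases hex : ∃ i, q = p i
    · obtain ⟨i, rfl⟩ := hex
      have hone : len (p i) i = 1 :=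
        LenLib.length_localized_quotient_eq_one (p i) (LinearEquiv.refl _ _)
      refine ⟨fun j => ?_, ?_⟩
      · by_cases hj : j = i
        · subst hj; rw [hone]; exact ENat.one_ne_top
        · rw [hne j fun h => hj (hpinj h).symm]; exact ENat.zero_ne_top
      · rw [Finset.sum_eq_single i (fun j _ hj => by
          rw [hne j fun h => hj (hpinj h).symm]; simp) (fun h => absurd (Finset.mem_univ i) h), hone]
        simpa using hlim i
    · push Not at hex
      refine ⟨fun j => by rw [hne j (hex j)]; exact ENat.zero_ne_top, ?_⟩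
      rw [Finset.sum_eq_zero fun j _ => by rw [hne j (hex j)]; simp]
      obtain ⟨p', hp', hp'q⟩ := Ideal.exists_minimalPrimes_le hIq
      obtain ⟨i, rfl⟩ := (hpmin p').mp hp'
      obtain ⟨x, hxq, hxp⟩ := SetLike.not_le_iff_exists.mp
        (fun h => hex i (le_antisymm h hp'q) : ¬ q ≤ p i)
      obtain ⟨u, hu⟩ : ∃ u, weightedHomogeneousComponent (fun _ : Fin (n + 1) => 1) u x ∉ p i := by
        by_contra! hall
        refine hxp ?_
        rw [← MvPolynomial.sum_homogeneousComponent x]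
        exact Ideal.sum_mem _ fun u _ => hall u
      set h := weightedHomogeneousComponent (fun _ : Fin (n + 1) => 1) u x with hhdef
      have hh : IsWeightedHomogeneous (fun _ : Fin (n + 1) => 1) h u :=
        weightedHomogeneousComponent_isWeightedHomogeneous u x
      have hcol : col (p i) h = p i := le_antisymm
        (fun z hz => ((hp i).mem_or_mem hz).resolve_left hu) (le_col _ _)
      have hle : p i ⊔ Ideal.span {h} ≤ q :=
        sup_le hp'q ((Ideal.span_singleton_le_iff_mem _).mpr (hqh x hxq u))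
      have h1 : Tendsto (fun m : ℕ => (HF (p i ⊔ Ideal.span {h}) (m + u) : ℚ) / ((m + u : ℕ) : ℚ) ^ D)
          atTop (𝓝 0) := by
        have ha := (tendsto_add_atTop_iff_nat u).mpr (hlim i)
        have hb := (hlim i).mul (tendsto_ratio D u)
        rw [mul_one] at hb
        have := ha.sub hb
        rw [sub_self] at this
        refine this.congr' ?_
        filter_upwards [eventually_gt_atTop 0] with m hm
        have hm' : (m : ℚ) ≠ 0 := Nat.cast_ne_zero.mpr hm.ne'
        rw [div_pow, ← HF_colon (hHom i) hh m, hcol, div_mul_div_comm,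
          mul_comm ((m : ℚ) ^ D) (((m + u : ℕ) : ℚ) ^ D), mul_div_mul_right _ _ (pow_ne_zero _ hm'),
          Nat.cast_add (HF (p i ⊔ Ideal.span {h}) (m + u)), add_div, add_sub_cancel_right]
      rw [tendsto_add_atTop_iff_nat (f := fun m : ℕ => (HF (p i ⊔ Ideal.span {h}) m : ℚ) / (m : ℚ) ^ D) u] at h1
      refine tendsto_of_tendsto_of_tendsto_of_le_of_le' tendsto_const_nhds h1
        (Eventually.of_forall fun m => by positivity) (Eventually.of_forall fun m => ?_)
      exact div_le_div_of_nonneg_right (by exact_mod_cast HF_mono hle m) (by positivity)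
  have main : ∀ J : Ideal (MvPolynomial (Fin (n + 1)) k),
      Hom (fun _ : Fin (n + 1) => 1) J → I ≤ J → Φ J := by
    intro J
    induction J using WellFoundedGT.induction with
    | _ J ih =>
      intro hJ hIJ
      by_cases htop : J = ⊤
      · subst htop
        have h0 : ∀ i, len ⊤ i = 0 := fun i =>
          LenLib.length_localized_quotient_eq_zero (p i) ⊤ (LinearEquiv.refl _ _) fun h =>
            (hp i).ne_top (top_le_iff.mp h)
        refine ⟨fun i => by rw [h0]; exact ENat.zero_ne_top, ?_⟩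
        have hH0 : ∀ m, HF (⊤ : Ideal (MvPolynomial (Fin (n + 1)) k)) m = 0 := fun m => by
          haveI : Subsingleton (MvPolynomial (Fin (n + 1)) k ⧸ (⊤ : Ideal (MvPolynomial (Fin (n + 1)) k))) :=
            Ideal.Quotient.subsingleton_iff.mpr rfl
          exact Module.finrank_zero_of_subsingleton
        simp [h0, hH0]
      obtain ⟨h, e, hh, hhJ, hq⟩ := exists_prime_col hJ htop
      have hJ' := ih (J ⊔ Ideal.span {h}) (lt_of_le_not_ge le_sup_left fun hle =>
        hhJ (hle (Ideal.mem_sup_right (Ideal.mem_span_singleton_self h)))) (hom_sup hJ hh)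
        (hIJ.trans le_sup_left)
      have hcq := hprime _ hq (hom_col hJ hh) (hIJ.trans (le_col J h))
      have hadd : ∀ i, len J i = len (col J h) i + len (J ⊔ Ideal.span {h}) i := fun i =>
        length_step J h (p i)
      refine ⟨fun i => by rw [hadd]; exact WithTop.add_ne_top.2 ⟨hcq.1 i, hJ'.1 i⟩, ?_⟩
      convert shift (HF_colon hJ hh) hJ'.2 hcq.2 using 2
      rw [← Finset.sum_add_distrib]
      refine Finset.sum_congr rfl fun i _ => ?_
      rw [hadd, ENat.toNat_add (hcq.1 i) (hJ'.1 i), Nat.cast_add]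
      ring
  obtain ⟨-, hI⟩ := main I (hom_of_isHomogeneous hIh) le_rfl
  have hP' : Tendsto (fun m : ℕ => (HF I m : ℚ) / (m : ℚ) ^ D) atTop (𝓝 P.leadingCoeff) := by
    refine (tendsto_eval_div (le_refl D)).congr' ?_
    filter_upwards [eventually_ge_atTop m₀] with m hm
    rw [hHP m hm]
  rw [tendsto_nhds_unique hP' hI, Finset.mul_sum]
  refine Finset.sum_congr rfl fun i _ => ?_
  split_ifs with hi
  · simp only [c, len, Polynomial.leadingCoeff, hi]
    ring
  · simp only [c, Polynomial.coeff_eq_zero_of_natDegree_lt (lt_of_le_of_ne (hdegle i) hi), mul_zero]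

end Groth.Agent.S10906
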