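import Groth.Statements.S10905
import Groth.Agent.S10904
import Groth.Agent.S10906
import Groth.Agent.S10907
import Groth.Agent.VarDim.Algebra

set_option autoImplicit false
universe u
open Polynomial
open ProjDeg

namespace Groth.Agent.S10905

open Filter MvPolynomial Groth.Agent.GrCI Groth.Agent.S10906

variable {k : Type u} [Field k] {n : ℕ}

local notation "S" => MvPolynomial (Fin (n + 1)) k

theorem ringKrullDim_component (I : Ideal S) [I.IsPrime] {f : S} (hfI : f ∉ I) {q : Ideal S}
    (hq : q ∈ (I ⊔ Ideal.span {f}).minimalPrimes) {s : ℕ}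
    (hs : ringKrullDim (S ⧸ I) = ((s + 1 : ℕ) : WithBot ℕ∞)) :
    ringKrullDim (S ⧸ q) = (s : WithBot ℕ∞) := by
  haveI := hq.1.1
  have hIq : I ≤ q := le_sup_left.trans hq.1.2
  have hfq : f ∈ q := hq.1.2 (Ideal.mem_sup_right (Ideal.mem_span_singleton_self f))
  let P : Ideal (S ⧸ I) := q.map (Ideal.Quotient.mk I)
  haveI : P.IsPrime := Ideal.map_isPrime_of_surjective Ideal.Quotient.mk_surjective
    (by rw [Ideal.mk_ker]; exact hIq)
  have hht : P.height = 1 := by
    refine le_antisymm (Ideal.map_height_le_one_of_mem_minimalPrimes hq) ?_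
    rw [Order.one_le_iff_ne_zero, Ne, Ideal.height_eq_zero_iff_eq_bot]
    intro h
    refine hfI (Ideal.Quotient.eq_zero_iff_mem.mp ?_)
    have : Ideal.Quotient.mk I f ∈ P := Ideal.mem_map_of_mem _ hfq
    rwa [h, Ideal.mem_bot] at this
  haveI : Algebra.FiniteType k (S ⧸ I) := Groth.Agent.VarDim.finiteType_quotient k S I
  haveI : Algebra.FiniteType k ((S ⧸ I) ⧸ P) := Groth.Agent.VarDim.finiteType_quotient k (S ⧸ I) P
  have h1 := Groth.Agent.VarDim.trdeg_quotient_of_height_eq_one k (S ⧸ I) P hht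
  rw [Groth.Agent.VarDim.trdeg_eq_of_ringKrullDim_eq k (S ⧸ I) hs] at h1
  obtain ⟨t, ht, htr, -⟩ := Groth.Agent.VarDim.exists_ringKrullDim_eq_trdeg k ((S ⧸ I) ⧸ P)
  rw [htr] at h1
  have h2 : t + 1 = s + 1 := by exact_mod_cast h1
  rw [← ringKrullDim_eq_of_ringEquiv (DoubleQuot.quotQuotEquivQuotOfLE hIq), ← Nat.succ.inj h2]
  exact ht

theorem maximal_of_HF_eventually_zero {q : Ideal S} [q.IsPrime]
    (h : ∀ᶠ m in atTop, HF q m = 0) : q.IsMaximal := by
  obtain ⟨m, hm⟩ := h.exists
  haveI := finite_V (δ := fun _ : Fin (n + 1) => 1) (fun _ => one_pos) q m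
  have hbot : V (fun _ : Fin (n + 1) => 1) q m = ⊥ := Submodule.finrank_eq_zero.mp hm
  have hle : (Ideal.span (Set.range (X : Fin (n + 1) → S))) ≤ q := by
    refine Ideal.span_le.mpr ?_
    rintro _ ⟨j, rfl⟩
    refine (‹q.IsPrime›).mem_of_pow_mem m (Ideal.Quotient.eq_zero_iff_mem.mp ?_)
    rw [← Submodule.mem_bot k, ← hbot]
    exact mem_V.mpr ⟨X j ^ m, MvPolynomial.isHomogeneous_X_pow j m, rfl⟩
  exact (S10915.irr_isMaximal (k := k) (n := n)).eq_of_le (Ideal.IsPrime.ne_top ‹_›) hle ▸
    S10915.irr_isMaximal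

/-- Let k be a field, R = k[X_0, …, X_n] graded by degree, I a homogeneous prime ideal whose Hilbert
polynomial P (a rational polynomial with P(m) = dim_k R_m − dim_k (I ∩ R_m) for all large m) has
degree ≥ 1, so that Y = V(I) is a projective variety of dimension ≥ 1; let f ∉ I be homogeneous of
degree d ≥ 1, I' = I + (f), and p_1, …, p_r the minimal prime ideals over I' (listed without
repetition), with Hilbert polynomials Q_i. Define the degree of V(J) as (degree of its Hilbert
polynomial)! times the leading coefficient, and the intersection multiplicity of I and (f) at p_i as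
the length of (R/I')_{p_i} over R_{p_i}. Then d · deg Y = Σ_i deg V(p_i) · i(I, (f); p_i). (The
published statement has no dimension hypothesis; for Y a single point the only minimal prime over I'
is the irrelevant ideal, whose Hilbert polynomial is 0, so the right side vanishes while the left
side does not.) -/
theorem result (k : Type u) [Field k] (n : ℕ)
    (I : Ideal (MvPolynomial (Fin (n + 1)) k)) (hIh : I.IsHomogeneous (CohB1.polyGrading n k)) [I.IsPrime]
    (f : MvPolynomial (Fin (n + 1)) k) (d : ℕ) (hd : 0 < d) (hf : f.IsHomogeneous d) (hfI : f ∉ I)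
    (P : ℚ[X])
    (hP : ∃ m₀ : ℕ, ∀ m : ℕ, m₀ ≤ m → P.eval (m : ℚ) =
      (Module.finrank k ↥(CohB1.polyGrading n k m) : ℚ) -
        Module.finrank k ↥(Submodule.restrictScalars k I ⊓ CohB1.polyGrading n k m))
    (hdim : 1 ≤ P.natDegree)
    (r : ℕ) (p : Fin r → Ideal (MvPolynomial (Fin (n + 1)) k)) [hp : ∀ i, (p i).IsPrime] (hpinj : Function.Injective p)
    (hpmin : ∀ q : Ideal (MvPolynomial (Fin (n + 1)) k), q ∈ (I ⊔ Ideal.span {f}).minimalPrimes ↔ ∃ i, q = p i)
    (Qp : Fin r → ℚ[X])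
    (hQp : ∀ i, ∃ m₀ : ℕ, ∀ m : ℕ, m₀ ≤ m → (Qp i).eval (m : ℚ) =
      (Module.finrank k ↥(CohB1.polyGrading n k m) : ℚ) -
        Module.finrank k ↥(Submodule.restrictScalars k (p i) ⊓ CohB1.polyGrading n k m)) :
    (d : ℚ) * ((P.natDegree.factorial : ℚ) * P.leadingCoeff) =
      ∑ i : Fin r, ((Qp i).natDegree.factorial : ℚ) * (Qp i).leadingCoeff *
        (Module.length (Localization.AtPrime (p i))
          (LocalizedModule (p i).primeCompl (MvPolynomial (Fin (n + 1)) k ⧸ (I ⊔ Ideal.span {f})))).toNat := by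
  classical
  obtain ⟨a, ha⟩ := hP
  set J := I ⊔ Ideal.span {f} with hJdef
  have hI1 := hom_of_isHomogeneous hIh
  have hJh : J.IsHomogeneous (CohB1.polyGrading n k) := isHomogeneous_of_hom (hom_sup hI1 hf)
  let Q : ℚ[X] := P - P.comp (Polynomial.X + Polynomial.C (-(d : ℚ)))
  have hcol : col I f = I := le_antisymm
    (fun z hz => ((‹I.IsPrime›).mem_or_mem hz).resolve_left hfI) (le_col _ _)
  have hQ : ∃ m₀ : ℕ, ∀ m : ℕ, m₀ ≤ m → Q.eval (m : ℚ) =
      (Module.finrank k ↥(CohB1.polyGrading n k m) : ℚ) -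
        Module.finrank k ↥(Submodule.restrictScalars k J ⊓ CohB1.polyGrading n k m) := by
    refine ⟨a + d, fun m hm => ?_⟩
    obtain ⟨j, rfl⟩ := Nat.exists_eq_add_of_le' (show d ≤ m by omega)
    have h := congrArg (Nat.cast : ℕ → ℚ) (HF_colon hI1 hf j)
    rw [hcol, Nat.cast_add] at h
    simp only [HF, S10904.finrank_V] at h
    rw [← ha _ (by omega), ← ha _ (by omega), ← hJdef] at h
    simp only [Q, Polynomial.eval_sub, Polynomial.eval_comp, Polynomial.eval_add, Polynomial.eval_X,
      Polynomial.eval_C]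
    rw [show ((j + d : ℕ) : ℚ) + -(d : ℚ) = (j : ℚ) by push_cast; ring]
    linarith
  obtain ⟨hdeg, hdeq⟩ := S10904.result k n I hIh f d hd hf hfI P Q ⟨a, ha⟩ hQ hdim
  have hformula := S10906.result k n J hJh Q hQ r p hpinj hpmin Qp hQp
  rw [← hdeq, hformula]
  refine Finset.sum_congr rfl fun i _ => ?_
  rw [if_pos]
  have hpi : p i ∈ J.minimalPrimes := (hpmin _).mpr ⟨i, rfl⟩
  have hP0 : P ≠ 0 := fun h => by simp [h] at hdim
  have hdI := S10907.result k n I hIh P hP0 ⟨a, ha⟩
  have hdp := ringKrullDim_component I hfI hpi (s := P.natDegree) (by rw [hdI]; push_cast; rfl)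
  by_cases hQ0 : Qp i = 0
  · exfalso
    obtain ⟨b, hb⟩ := hQp i
    haveI : (p i).IsMaximal := maximal_of_HF_eventually_zero (by
      filter_upwards [eventually_ge_atTop b] with m hm
      have := hb m hm
      rw [hQ0, Polynomial.eval_zero, ← S10904.finrank_V] at this
      have h' : (HF (p i) m : ℚ) = 0 := this.symm
      exact_mod_cast h')
    letI := Ideal.Quotient.field (p i)
    rw [ringKrullDim_eq_zero_of_field] at hdp
    have : P.natDegree = 0 := by exact_mod_cast hdp.symm
    omega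
  · have hdQ := S10907.result k n (p i)
      (S10915.isHomogeneous_of_mem_minimalPrimes hJh hpi) (Qp i) hQ0 (hQp i)
    rw [hdp, ← hdeg] at hdQ
    have : Q.natDegree + 1 = (Qp i).natDegree + 1 := by exact_mod_cast hdQ
    omega

end Groth.Agent.S10905
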