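import Groth.Statements.S10908
import Groth.Agent.ProjTwist.SectBasicOpen
import Mathlib.RingTheory.Valuation.LocalSubring
import Mathlib.RingTheory.Localization.FractionRing

set_option autoImplicit false
universe u
open ProjDeg

namespace Groth.Agent.S10908

/-- Let S be a Noetherian graded integral domain, graded by the natural numbers as an algebra over a
ring R, generated by its degree-one part over S_0 (S_1 S_i = S_{i+1}) with S_1 ≠ 0, and integrally
closed in its field of fractions (so that X = Proj S is projectively normal). Then for every d ≥ 0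
the canonical map from S_d to the global sections of the twisting sheaf O_X(d), sending a to the
section a/1, is bijective. (The underlying lemma: every global section of O_X(d) is an element of
the homogeneous fraction ring integral over S.) (The published corollary takes the degree-zero part
to be a finitely generated algebra over a field; this row assumes only that the ring is Noetherian,
which is all the argument uses.) -/
theorem result {R A : Type u} [CommRing R] [CommRing A] [IsDomain A]
    [IsNoetherianRing A] [Algebra R A] (𝒜 : ℕ → Submodule R A) [GradedAlgebra 𝒜]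
    (hgen : ∀ i : ℕ, 𝒜 1 * 𝒜 i = 𝒜 (i + 1)) (h1 : 𝒜 1 ≠ ⊥) (hint : IsIntegrallyClosed A) (d : ℕ) :
    Function.Bijective (fun a : ↥(𝒜 d) => Twist.globalOf 𝒜 a) := by
  classical
  open Groth.Agent in
  -- finitely many generators of the irrelevant ideal, in degree one
  have hJ : (HomogeneousIdeal.irrelevant 𝒜).toIdeal ≤ Ideal.span (𝒜 1 : Set A) := by
    intro x hx
    rw [← DirectSum.sum_support_decompose 𝒜 x]
    refine sum_mem fun i _ => ?_
    cases i with
    | zero =>
      rw [show (DirectSum.decompose 𝒜 x 0 : A) = GradedRing.proj 𝒜 0 x from rfl,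
        (HomogeneousIdeal.mem_irrelevant_iff 𝒜 x).mp hx]
      exact zero_mem _
    | succ i =>
      have hle : 𝒜 1 * 𝒜 i ≤ (Ideal.span (𝒜 1 : Set A)).restrictScalars R :=
        Submodule.mul_le.mpr fun a ha b _ => Ideal.mul_mem_right b _ (Ideal.subset_span ha)
      exact (hgen i ▸ hle) (DirectSum.decompose 𝒜 x (i + 1)).2
  obtain ⟨G, hG, hspan⟩ := (Submodule.fg_span_iff_fg_span_finset_subset (𝒜 1 : Set A)).mp
    (IsNoetherian.noetherian (Submodule.span A (𝒜 1 : Set A)))
  obtain ⟨g₀, hg₀, hg₀ne⟩ := Submodule.exists_mem_ne_zero_of_ne_bot h1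
  have hG0 : ∃ g ∈ G, g ≠ 0 := by
    by_contra! hno
    have : Ideal.span (G : Set A) ≤ ⊥ := Ideal.span_le.mpr fun g hg => hno g hg
    exact hg₀ne (this (hspan.le (Ideal.subset_span hg₀)))
  have hcovG : ∀ x : ProjectiveSpectrum 𝒜, ∃ g ∈ G, g ∉ x.asHomogeneousIdeal := by
    intro x
    by_contra! hno
    exact x.not_irrelevant_le ((hJ.trans hspan.le).trans (Ideal.span_le.mpr fun g hg => hno g hg))
  obtain ⟨g₁, hg₁G, hg₁⟩ := hG0
  have hg₁d : g₁ ∈ 𝒜 1 := hG hg₁G
  let η : ProjectiveSpectrum 𝒜 := ⟨⊥, by rw [HomogeneousIdeal.toIdeal_bot]; exact Ideal.isPrime_bot, fun hle =>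
    hg₁ (by
      have h2 : g₁ ∈ (HomogeneousIdeal.irrelevant 𝒜).toIdeal :=
        HomogeneousIdeal.mem_irrelevant_of_mem 𝒜 Nat.one_pos hg₁d
      have h3 := hle h2
      exact (Submodule.mem_bot A).mp h3)⟩
  have hcancel : ∀ (x : ProjectiveSpectrum 𝒜) (a b : A) (p q : x.asHomogeneousIdeal.toIdeal.primeCompl),
      Localization.mk a p = Localization.mk b q → (q : A) * a = p * b := by
    intro x a b p q h
    rw [Localization.mk_eq_mk_iff, Localization.r_iff_exists] at h
    obtain ⟨c, hc⟩ := h
    exact mul_left_cancel₀ (fun h0 => c.2 (show (c : A) ∈ x.asHomogeneousIdeal.toIdeal by rw [h0]; exact zero_mem _)) hc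
  constructor
  · intro a b hab
    refine Subtype.ext ?_
    have h2 : ((Twist.globalOf 𝒜 a).1 ⟨η, trivial⟩).1 = ((Twist.globalOf 𝒜 b).1 ⟨η, trivial⟩).1 :=
      congrArg (fun s : Twist.sectN (𝒜 := 𝒜) (d : ℤ) (Opposite.op ⊤) => (s.1 ⟨η, trivial⟩).1) hab
    simpa using hcancel η _ _ _ _ h2
  · intro s
    have hfr : ∀ g : G, ∃ (i j : ℕ) (a : A), a ∈ 𝒜 i ∧ (i : ℤ) = (j : ℤ) * (1 : ℕ) + d ∧
        ∀ x : (Groth.Agent.ProjTwist.dPlus 𝒜 (g : A)),
          (s.1 ⟨x.1, trivial⟩).1 = Localization.mk a
            ⟨(g : A) ^ j, Groth.Agent.ProjTwist.not_mem_pow x.1 x.2 j⟩ := fun g => by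
      obtain ⟨i, j, a, ha, hij, hx⟩ := Groth.Agent.ProjTwist.exists_frac (hG g.2) Nat.one_pos (hG g.2)
        (h := 1) (show (1 : A) ∈ 𝒜 0 from SetLike.GradedOne.one_mem) (mul_one _).symm (d : ℤ)
        (Twist.resN (d : ℤ) (CategoryTheory.homOfLE le_top).op s)
      exact ⟨i, j, a, ha, hij, hx⟩
    choose i j a ha hij hval using hfr
    let K := FractionRing A
    have hinjK := IsFractionRing.injective A K
    have hrel : ∀ g g' : G, (g : A) ≠ 0 → (g' : A) ≠ 0 →
        (g' : A) ^ j g' * a g = (g : A) ^ j g * a g' := by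
      intro g g' hg hg'
      have hηg : η ∈ Groth.Agent.ProjTwist.dPlus 𝒜 (g : A) := fun h => hg ((Submodule.mem_bot A).mp h)
      have hηg' : η ∈ Groth.Agent.ProjTwist.dPlus 𝒜 (g' : A) := fun h => hg' ((Submodule.mem_bot A).mp h)
      exact hcancel η _ _ _ _ ((hval g ⟨η, hηg⟩).symm.trans (hval g' ⟨η, hηg'⟩))
    let F : K := algebraMap A K (a ⟨g₁, hg₁G⟩) / algebraMap A K (g₁ ^ j ⟨g₁, hg₁G⟩)
    have hF : ∀ g : G, (g : A) ≠ 0 → F * algebraMap A K ((g : A) ^ j g) = algebraMap A K (a g) := by
      intro g hg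
      rw [div_mul_eq_mul_div, div_eq_iff (fun h => pow_ne_zero _ hg₁ (hinjK (h.trans (map_zero _).symm))),
        ← map_mul, ← map_mul, mul_comm (a g), ← hrel ⟨g₁, hg₁G⟩ g hg₁ hg, mul_comm]
    -- integrality, by valuations
    have hmem : F ∈ (⨅ V : {V : ValuationSubring K // Set.range (algebraMap A K) ⊆ V.toSubring},
        V.1.toSubring) := by
      refine Subring.mem_iInf.mpr fun ⟨V, hV⟩ => ?_
      have hVA : ∀ z : A, V.valuation (algebraMap A K z) ≤ 1 := fun z =>
        (V.valuation_le_one_iff _).mpr (hV ⟨z, rfl⟩)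
      obtain ⟨g, hgG, hmax⟩ := G.exists_max_image (fun g => V.valuation (algebraMap A K g)) ⟨g₁, hg₁G⟩
      have hg : g ≠ 0 := fun h0 => by
        have := hmax g₁ hg₁G
        rw [h0, map_zero, map_zero, le_zero_iff, map_eq_zero] at this
        exact hg₁ (hinjK (this.trans (map_zero _).symm))
      set c := V.valuation (algebraMap A K g) with hc
      have hpow : ∀ (m e : ℕ), ∀ z ∈ 𝒜 (m + e), V.valuation (algebraMap A K z) ≤ c ^ m := by
        intro m
        induction m with
        | zero => intro e z _; rw [pow_zero]; exact hVA z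
        | succ m ih =>
          intro e z hz
          rw [show m + 1 + e = (m + e) + 1 by omega, ← hgen] at hz
          induction hz using Submodule.mul_induction_on' with
          | mem_mul_mem u hu w hw =>
            rw [map_mul, map_mul, pow_succ']
            refine mul_le_mul' ?_ (ih e w hw)
            have hu' : u ∈ Ideal.span (G : Set A) := hspan.le (Ideal.subset_span hu)
            clear hu
            induction hu' using Submodule.span_induction with
            | mem x hx => exact hmax x hx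
            | zero => simp
            | add x y _ _ hx hy => rw [map_add]; exact V.valuation.map_add_le hx hy
            | smul r x _ hx =>
              rw [smul_eq_mul, map_mul, map_mul]
              exact (mul_le_of_le_one_left' (hVA r)).trans hx
          | add x _ y _ hx hy => rw [map_add]; exact V.valuation.map_add_le hx hy
      have hi : i ⟨g, hgG⟩ = j ⟨g, hgG⟩ + d := by
        have := hij ⟨g, hgG⟩
        push_cast at this
        omega
      have h3 := hpow (j ⟨g, hgG⟩) d _ (hi ▸ ha ⟨g, hgG⟩)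
      rw [← hF ⟨g, hgG⟩ hg, map_mul, map_pow, map_pow, ← hc] at h3
      refine (V.valuation_le_one_iff F).mp ?_
      have hc0 : (0 : _) < c ^ j ⟨g, hgG⟩ := pow_pos (zero_lt_iff.mpr (fun h0 => hg (hinjK
        ((map_eq_zero V.valuation).mp h0 |>.trans (map_zero _).symm)))) _
      exact le_of_mul_le_mul_right (h3.trans_eq (one_mul _).symm) hc0
    rw [iInf_valuationSubring_superset] at hmem
    have hint : IsIntegral A F := by
      obtain ⟨q, hqm, hq⟩ := hmem
      let φ : A →+* Subring.closure (Set.range (algebraMap A K)) :=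
        (algebraMap A K).codRestrict _ fun z => Subring.subset_closure ⟨z, rfl⟩
      have hφ : Function.Surjective φ := fun z => by
        obtain ⟨w, hw⟩ := (Subring.closure_le.mpr (fun x hx => hx) :
          Subring.closure (Set.range (algebraMap A K)) ≤ (algebraMap A K).range) z.2
        exact ⟨w, Subtype.ext hw⟩
      obtain ⟨q', hq', -, hqm'⟩ := Polynomial.lifts_and_natDegree_eq_and_monic
        (f := φ) ((Polynomial.mem_lifts q).mpr (Polynomial.map_surjective φ hφ q)) hqm
      refine ⟨q', hqm', ?_⟩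
      rw [← hq', Polynomial.eval₂_map] at hq
      exact hq
    obtain ⟨b, hb⟩ := IsIntegrallyClosed.isIntegral_iff.mp hint
    have hbg : ∀ g : G, (g : A) ≠ 0 → b * (g : A) ^ j g = a g := fun g hg => hinjK (by
      rw [map_mul, hb, hF g hg])
    have hbd : b ∈ 𝒜 d := by
      rw [← DirectSum.sum_support_decompose 𝒜 b]
      refine sum_mem fun l _ => ?_
      by_cases hl : l = d
      · subst hl; exact (DirectSum.decompose 𝒜 b l).2
      · have hpw : g₁ ^ j ⟨g₁, hg₁G⟩ ∈ 𝒜 (j ⟨g₁, hg₁G⟩) := by
          simpa using SetLike.pow_mem_graded (j ⟨g₁, hg₁G⟩) hg₁d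
        have h4 := DirectSum.coe_decompose_mul_add_of_right_mem 𝒜 (i := l) (a := b) hpw
        have hi : i ⟨g₁, hg₁G⟩ = j ⟨g₁, hg₁G⟩ + d := by
          have := hij ⟨g₁, hg₁G⟩
          push_cast at this
          omega
        rw [hbg ⟨g₁, hg₁G⟩ hg₁, DirectSum.decompose_of_mem_ne 𝒜 (ha ⟨g₁, hg₁G⟩) (by omega)] at h4
        rw [(mul_eq_zero.mp h4.symm).resolve_right (pow_ne_zero _ hg₁)]
        exact zero_mem _
    refine ⟨⟨b, hbd⟩, Subtype.ext (funext fun x => Subtype.ext ?_)⟩
    obtain ⟨g, hgG, hgx⟩ := hcovG x.1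
    refine Eq.trans ?_ (hval ⟨g, hgG⟩ ⟨x.1, hgx⟩).symm
    show Localization.mk b _ = _
    rw [Localization.mk_eq_mk_iff, Localization.r_iff_exists]
    exact ⟨1, by
      simp only [OneMemClass.coe_one, one_mul]
      rw [mul_comm, hbg ⟨g, hgG⟩ (fun h0 => hgx (by rw [show g = 0 from h0]; exact zero_mem _))]⟩

end Groth.Agent.S10908
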