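import Groth.Statements.S10909
import Groth.Agent.Omega.RegularSmooth

set_option autoImplicit false
universe u
open TensorProduct
open SmVar

namespace Groth.Agent.S10909

/-- Let k be an algebraically closed field and A a k-algebra of finite type with irreducible spectrum
(the nilradical of A is prime) and Krull dimension n; X = Spec A is then an irreducible separated
k-scheme of finite type of dimension n. Then X is a nonsingular variety — A is reduced and every
localization of A at a prime is a regular local ring — if and only if the module of Kähler
differentials Ω_{A/k} is locally free of rank n: projective, with fibre κ(P) ⊗_A Ω_{A/k} of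
dimension n at every prime P. -/
theorem result (k : Type u) [Field k]
    [IsAlgClosed k] (A : Type u) [CommRing A] [Algebra k A] [Algebra.FiniteType k A]
    (hirr : (nilradical A).IsPrime) (n : ℕ) (hn : ringKrullDim A = n) :
    (IsReduced A ∧ IsRegularRing A) ↔
      (Module.Projective A (Ω[A⁄k]) ∧
        ∀ (P : Ideal A) [P.IsPrime],
          Module.finrank P.ResidueField (P.ResidueField ⊗[A] Ω[A⁄k]) = n) := by
  haveI : Algebra.FinitePresentation k A := Algebra.FinitePresentation.of_finiteType.mp inferInstance
  haveI : IsNoetherianRing A := Algebra.FiniteType.isNoetherianRing k A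
  constructor
  · rintro ⟨-, hreg⟩
    haveI := (Groth.Agent.Omega.RegularSmooth.isRegularRing_iff_formallySmooth k A).mp hreg
    refine ⟨inferInstance, fun P _ => ?_⟩
    haveI := hirr
    have hmin : nilradical A ∈ minimalPrimes A :=
      ⟨⟨hirr, bot_le⟩, fun q hq _ => haveI := hq.1; nilradical_le_prime q⟩
    haveI : IsReduced A := Groth.Agent.Omega.RegularSmooth.isReduced_of_formallySmooth k A
    haveI : IsReduced (Localization.AtPrime (nilradical A)) :=
      inferInstanceAs (IsReduced (Localization (nilradical A).primeCompl))
    have hf := Groth.Agent.Omega.RankDim.isField_of_minimal (nilradical A) hmin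
    haveI : Algebra.FormallySmooth A (Localization.AtPrime (nilradical A)) :=
      Algebra.FormallySmooth.of_isLocalization (nilradical A).primeCompl
    haveI : Algebra.FormallySmooth k (Localization.AtPrime (nilradical A)) :=
      Algebra.FormallySmooth.comp k A _
    obtain ⟨t, ht⟩ := Groth.Agent.Omega.RankDim.exists_trdeg_eq k (nilradical A)
    show Groth.Agent.Omega.RankDim.rank k P = n
    rw [← Groth.Agent.Omega.RankDim.rank_eq_of_le k (nilradical_le_prime P),
      Groth.Agent.Omega.RankDim.rank_eq_trdeg k (nilradical A) hf t ht]
    have h := Groth.Agent.TrdegDim.ringKrullDim_quotient_eq (nilradical A) t ht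
    rw [Groth.Agent.Omega.RegularSmooth.ringKrullDim_quot_nilradical, hn] at h
    exact_mod_cast h.symm
  · rintro ⟨-, hrank⟩
    have hfs : Algebra.FormallySmooth k A := Algebra.smoothLocus_eq_univ_iff.mp
      (Set.eq_univ_of_forall fun q => Groth.Agent.Omega.RankDim.formallySmooth_of_rank_le k q.asIdeal (by
        rw [Groth.Agent.Omega.RegularSmooth.localDim_eq_of_irreducible k A hirr n hn q.asIdeal]
        exact le_of_eq (congrArg Nat.cast (hrank q.asIdeal))))
    exact ⟨Groth.Agent.Omega.RegularSmooth.isReduced_of_formallySmooth k A,
      (Groth.Agent.Omega.RegularSmooth.isRegularRing_iff_formallySmooth k A).mpr hfs⟩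

end Groth.Agent.S10909
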