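import Groth.Statements.S10913
import Groth.Agent.ProjConst.Forms
import Groth.Prelude.Def_ProjUP
import Groth.Agent.S10960
import Groth.Agent.S0024
import Groth.Agent.AmpleLib.CompLemma
import Groth.Agent.Props.GenPull

set_option autoImplicit false
universe u
open CategoryTheory CategoryTheory.Limits AlgebraicGeometry TopologicalSpace
open ProjDeg

namespace Groth.Agent.S10913

open Groth.Agent Groth.Agent.QCoh Groth.Agent.Props.GenLocus Groth.Agent.Props.GenPull Groth.Agent.AmpleLib

/-- `O(d)` has no non-zero section for `d < 0`, `n ≥ 1`. -/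
lemma neg_sect_eq_zero {k : Type u} [Field k] {n : ℕ} (hn : 1 ≤ n) {e : ℕ} (he : 0 < e) {d : ℤ}
    (hd : d + e = 0) (σ : Γ(Twist.twistProjSpace n k d, ⊤)) : σ = 0 := by
  let 𝒜 := CohB1.polyGrading n k
  have hX : ∀ i : Fin (n + 1), (MvPolynomial.X i ^ e : MvPolynomial (Fin (n + 1)) k) ∈ 𝒜 e := fun i => by
    have h := SetLike.pow_mem_graded e (ProjConst.X_mem n k i)
    rwa [smul_eq_mul, mul_one] at h
  have hs : ∀ i, ∃ F : 𝒜 0, Twist.globalOf 𝒜 F = (ProjTwist.mulSec hd σ (Twist.globalOf 𝒜 ⟨_, hX i⟩)) :=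
    fun i => ProjConst.globalOf_surjective n k 0 _
  choose F hF using hs
  let σ' : Twist.sectN (𝒜 := 𝒜) d (Opposite.op ⊤) := σ
  have hval : ∀ (i : Fin (n + 1)) (x : ProjectiveSpectrum 𝒜),
      (σ'.1 ⟨x, trivial⟩).1 * algebraMap _ (Twist.Loc 𝒜 x) (MvPolynomial.X i ^ e) =
        algebraMap _ (Twist.Loc 𝒜 x) (F i).1 := fun i x => by
    have h := congrArg (fun s : Twist.sectN (𝒜 := 𝒜) 0 (Opposite.op ⊤) => (s.1 ⟨x, trivial⟩).1) (hF i)
    rw [← Localization.mk_one_eq_algebraMap, ← Localization.mk_one_eq_algebraMap]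
    exact h.symm
  have hinj : ∀ x : ProjectiveSpectrum 𝒜, Function.Injective
      (algebraMap (MvPolynomial (Fin (n + 1)) k) (Twist.Loc 𝒜 x)) := fun x =>
    IsLocalization.injective _ x.asHomogeneousIdeal.toIdeal.primeCompl_le_nonZeroDivisors
  let i₀ : Fin (n + 1) := 0
  let i₁ : Fin (n + 1) := ⟨1, by omega⟩
  have hne : i₀ ≠ i₁ := fun h => by simpa [i₀, i₁] using congrArg Fin.val h
  refine ProjTwist.sectN_ext (U := Opposite.op ⊤) fun ⟨x, _⟩ => ?_
  have hF0 : (F i₀).1 = 0 := by
    have h : (F i₀).1 * MvPolynomial.X i₁ ^ e = (F i₁).1 * MvPolynomial.X i₀ ^ e := hinj x (by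
      rw [map_mul, map_mul, ← hval i₀ x, ← hval i₁ x]; ring)
    have hp : (F i₀).1.totalDegree = 0 :=
      Nat.le_zero.mp ((MvPolynomial.mem_homogeneousSubmodule 0 _).mp (F i₀).2).totalDegree_le
    rw [MvPolynomial.totalDegree_eq_zero_iff_eq_C.mp hp]
    have hq : (F i₁).1.totalDegree = 0 :=
      Nat.le_zero.mp ((MvPolynomial.mem_homogeneousSubmodule 0 _).mp (F i₁).2).totalDegree_le
    rw [MvPolynomial.totalDegree_eq_zero_iff_eq_C.mp hp, MvPolynomial.totalDegree_eq_zero_iff_eq_C.mp hq,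
      MvPolynomial.X_pow_eq_monomial, MvPolynomial.X_pow_eq_monomial, MvPolynomial.C_mul_monomial,
      MvPolynomial.C_mul_monomial] at h
    have h2 := congrArg (MvPolynomial.coeff (Finsupp.single i₁ e)) h
    have hne' : (Finsupp.single i₀ e) ≠ Finsupp.single i₁ e := fun h0 =>
      hne (Finsupp.single_left_injective he.ne' h0)
    rw [MvPolynomial.coeff_monomial, MvPolynomial.coeff_monomial, if_pos rfl, if_neg hne', mul_one] at h2
    rw [h2, map_zero]
  have h := hval i₀ x
  rw [hF0, map_zero] at h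
  exact (mul_eq_zero.mp h).resolve_right fun h0 =>
    pow_ne_zero e (MvPolynomial.X_ne_zero i₀) (hinj x (h0.trans (map_zero _).symm))

/-- Let k be a field and m < n natural numbers. Then every morphism of k-schemes from projective n-space
to projective m-space over k is constant: it factors through the structure morphism P^n_k → Spec k
followed by a k-rational point of P^m_k. -/
theorem result (k : Type u) [Field k] (n m : ℕ) (hmn : m < n)
    (f : CohB1.ProjSpace n k ⟶ CohB1.ProjSpace m k)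
    (hf : f ≫ CohB1.ProjSpace.toSpec m k = CohB1.ProjSpace.toSpec n k) :
    ∃ q : Spec (CommRingCat.of k) ⟶ CohB1.ProjSpace m k, f = CohB1.ProjSpace.toSpec n k ≫ q := by
  classical
  let P := CohB1.ProjSpace n k
  let L := (Scheme.Modules.pullback f).obj (Twist.twistProjSpace m k 1)
  have h1 : PicF.IsInvertible (Twist.twistProjSpace m k 1) := ProjTwist.isInvertible_twistProjSpace m k 1
  have hL : PicF.IsInvertible L := PicCl.isInvertible_pullback f h1
  obtain ⟨d, ⟨e⟩, -⟩ := S10960.result k n (by omega) L hL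
  let σ : Fin (m + 1) → Γ(Twist.twistProjSpace n k d, ⊤) := fun j =>
    e.hom.app ⊤ (pb f (show Γ(Twist.twistProjSpace m k 1, ⊤) from ProjUP.coord m k j))
  have hσ : ∀ j, locus (σ j) = f ⁻¹ᵁ Proj.basicOpen (CohB1.polyGrading m k) (MvPolynomial.X j) := fun j => by
    rw [← ProjConst.locus_globalOf m k (ProjConst.X_mem m k j)]
    exact (locus_app_iso e _).trans (locus_pb f h1 _)
  have hcov : ∀ x : P, ∃ j, x ∈ locus (σ j) := fun x => by
    obtain ⟨j, hj⟩ := TopologicalSpace.Opens.mem_iSup.mp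
      ((ProjTwist.iSup_stdOpen m k).ge (trivial : f x ∈ (⊤ : (CohB1.ProjSpace m k).Opens)))
    exact ⟨j, by rw [hσ]; exact hj⟩
  obtain ⟨x₀, -⟩ := ProjConst.exists_common_zero n k (ι := Empty) (by simp) Nat.one_pos
    (fun j => j.elim) (fun j => j.elim)
  rcases lt_trichotomy d 0 with hd | hd | hd
  · exfalso
    obtain ⟨j, hj⟩ := hcov x₀
    rw [neg_sect_eq_zero (by omega) (e := d.natAbs) (by omega) (by omega) (σ j)] at hj
    have h0 : (locus (0 : Γ(Twist.twistProjSpace n k d, ⊤))) = ⊥ := by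
      refine le_bot_iff.mp fun y hy => ?_
      obtain ⟨W, g, hyW, hg⟩ := exists_isGen (ProjTwist.isInvertible_twistProjSpace n k d) y
      have h2 := locus_inf (le_top : W ≤ ⊤) hg (0 : Γ(Twist.twistProjSpace n k d, ⊤)) (f := 0)
        (by rw [map_zero, zero_smul])
      rw [Scheme.basicOpen_zero] at h2
      exact h2.le ⟨hy, hyW⟩
    exact h0.le hj
  · subst hd
    obtain ⟨j, hj⟩ := hcov x₀
    obtain ⟨⟨F, hF⟩, hFj⟩ := ProjConst.globalOf_surjective n k 0 (σ j)
    have hloc : locus (σ j) = Proj.basicOpen (CohB1.polyGrading n k) F := by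
      rw [← ProjConst.locus_globalOf n k hF]
      exact congrArg locus hFj.symm
    have htop : f ⁻¹ᵁ Proj.basicOpen (CohB1.polyGrading m k) (MvPolynomial.X j) = ⊤ := by
      rw [← hσ, hloc]
      refine top_le_iff.mp fun y _ => ?_
      intro hy
      have hC := MvPolynomial.totalDegree_eq_zero_iff_eq_C.mp
        (Nat.le_zero.mp ((MvPolynomial.mem_homogeneousSubmodule 0 F).mp hF).totalDegree_le)
      have hc0 : F.coeff 0 ≠ 0 := fun h0 => by
        have : F = 0 := by rw [hC, h0, map_zero]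
        rw [hloc, this] at hj
        exact hj (zero_mem _)
      exact (show y.asHomogeneousIdeal.toIdeal ≠ ⊤ from y.isPrime.ne_top)
        (Ideal.eq_top_of_isUnit_mem _ hy (by rw [hC]; exact (Ne.isUnit hc0).map MvPolynomial.C))
    let U : (CohB1.ProjSpace m k).Opens := Proj.basicOpen (CohB1.polyGrading m k) (MvPolynomial.X j)
    have hU : IsAffineOpen U := Proj.isAffineOpen_basicOpen _ _ (ProjConst.X_mem m k j) Nat.one_pos
    haveI : IsAffine U.toScheme := hU
    have hr : Set.range f ⊆ Set.range U.ι := by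
      rintro _ ⟨y, rfl⟩
      rw [Scheme.Opens.range_ι]
      exact htop.ge trivial
    let g := IsOpenImmersion.lift U.ι f hr
    haveI := S0024.result n k
    let E := Spec.map (CohB1.ProjSpace.toSpec n k).appTop ≫ (Spec (CommRingCat.of k)).isoSpec.inv
    have hE : CohB1.ProjSpace.toSpec n k = P.toSpecΓ ≫ E := by
      rw [← Category.assoc, ← Scheme.toSpecΓ_naturality, Category.assoc, Scheme.toSpecΓ_isoSpec_inv,
        Category.comp_id]
    refine ⟨inv E ≫ Spec.map g.appTop ≫ U.toScheme.isoSpec.inv ≫ U.ι, ?_⟩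
    rw [← Category.assoc, show CohB1.ProjSpace.toSpec n k ≫ inv E = P.toSpecΓ from
        (IsIso.comp_inv_eq E).mpr hE, ← Category.assoc (P.toSpecΓ), ← Scheme.toSpecΓ_naturality,
      Category.assoc, ← Category.assoc _ _ U.ι, Scheme.toSpecΓ_isoSpec_inv, Category.id_comp]
    exact (IsOpenImmersion.lift_fac _ _ _).symm
  · exfalso
    obtain ⟨D, rfl⟩ := Int.eq_ofNat_of_zero_le hd.le
    choose F hF using fun j => ProjConst.globalOf_surjective n k D (σ j)
    obtain ⟨x, hx⟩ := ProjConst.exists_common_zero n k (ι := Fin (m + 1)) (by simp; omega)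
      (show 0 < D by omega) (fun j => (F j).1) (fun j => (F j).2)
    obtain ⟨j, hj⟩ := hcov x
    refine hx j ?_
    rw [← ProjConst.locus_globalOf n k (F j).2]
    exact (congrArg locus (hF j)).ge hj

end Groth.Agent.S10913
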