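import Groth.Statements.S10917
import Groth.Agent.WDivLib.ProjChart
import Groth.Agent.WDivLib.AffSpace
import Groth.Agent.RelProjLib.Localization
import Groth.Agent.S10900

set_option autoImplicit false
universe u
open CategoryTheory CategoryTheory.Limits AlgebraicGeometry TopologicalSpace
open WDiv

namespace Groth.Agent.S10917

theorem toSpec_H (A : Type u) [CommRing A] [IsDomain A] (n : ℕ) (H : ↥(CohB1.ProjSpace n A))
    (hH : H.asHomogeneousIdeal.toIdeal = Ideal.span {(MvPolynomial.X 0 : MvPolynomial (Fin (n + 1)) A)}) :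
    (CohB1.ProjSpace.toSpec n A H).asIdeal = ⊥ := by
  rw [eq_bot_iff]
  intro c hc
  by_contra hc0
  let c0 : CohB1.polyGrading n A 0 := algebraMap A (CohB1.polyGrading n A 0) c
  have h1 : ¬ (H : ↥(Proj (CohB1.polyGrading n A))) ∈
      Proj.toSpecZero (CohB1.polyGrading n A) ⁻¹ᵁ (PrimeSpectrum.basicOpen c0) :=
    fun h => h hc
  rw [RelProjLib.toSpecZero_preimage_basicOpen] at h1
  have h2 : (MvPolynomial.C c : MvPolynomial (Fin (n + 1)) A) ∈ H.asHomogeneousIdeal.toIdeal :=
    not_not.1 h1
  rw [hH, Ideal.mem_span_singleton] at h2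
  obtain ⟨w, hw⟩ := h2
  have h3 := congrArg MvPolynomial.constantCoeff hw
  simp at h3
  exact hc0 h3


/-- Let A be a Noetherian integral domain regular in codimension 1, P = P^n_A with structure morphism q
: P → Spec A, and H the point of P whose homogeneous prime ideal is generated by X_0 (so n ≥ 1). If
for an integer d and a Weil divisor D on Spec A (integer-valued function with finite support inside
the coheight-1 points) the divisor d·H + q^*D is principal on P — there is a nonzero rational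
function g on P with ord_H(g) = d + D(q H) and ord_y(g) = D(q y) for every point y ≠ H of coheight 1
— then d = 0 and D is itself the divisor of a nonzero element of the fraction field of A: ord_x(f) =
D(x) at every coheight-1 point x of Spec A. -/
theorem result (A : Type u) [CommRing A] [IsDomain A]
    [IsNoetherianRing A] (n : ℕ) (hn : 1 ≤ n) [IsIntegral (CohB1.ProjSpace n A)] [IsLocallyNoetherian (CohB1.ProjSpace n A)]
    [IsIntegral (Spec (CommRingCat.of A))]
    (hR1 : ∀ x : ↥(Spec (CommRingCat.of A)), Order.coheight x = 1 →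
      IsDiscreteValuationRing ↑((Spec (CommRingCat.of A)).presheaf.stalk x))
    (H : ↥(CohB1.ProjSpace n A))
    (hH : H.asHomogeneousIdeal.toIdeal = Ideal.span {(MvPolynomial.X 0 : MvPolynomial (Fin (n + 1)) A)})
    (d : ℤ) (D : ↥(Spec (CommRingCat.of A)) → ℤ) (hD : ∀ x, Order.coheight x ≠ 1 → D x = 0) (hfin : {x | D x ≠ 0}.Finite)
    (g : ↑(CohB1.ProjSpace n A).functionField) (hg : g ≠ 0)
    (hH' : Scheme.ord g H = d + D (CohB1.ProjSpace.toSpec n A H))
    (h : ∀ y, y ≠ H → Order.coheight y = 1 → Scheme.ord g y = D (CohB1.ProjSpace.toSpec n A y)) :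
    d = 0 ∧ ∃ f : ↑(Spec (CommRingCat.of A)).functionField, f ≠ 0 ∧
      ∀ x : ↥(Spec (CommRingCat.of A)), Order.coheight x = 1 → Scheme.ord f x = D x := by
  classical
  let σ := ULift.{u} (Fin n)
  let q := CohB1.ProjSpace.toSpec n A
  let j := WDivLib.projChart n A
  haveI : IsLocallyNoetherian 𝔸(σ; Spec (CommRingCat.of A)) := isLocallyNoetherian_of_isOpenImmersion j
  haveI : IsDomain ↑(CommRingCat.of A) := ‹IsDomain A›
  haveI : IsNoetherianRing ↑(CommRingCat.of A) := ‹IsNoetherianRing A›
  haveI : AlgebraicGeometry.IsNoetherian (Spec (CommRingCat.of A)) := {}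
  have hηH : q H = genericPoint (Spec (CommRingCat.of A)) := by
    rw [genericPoint_eq_bot_of_affine]
    exact PrimeSpectrum.ext (toSpec_H A n H hH)
  have hD0 : D (genericPoint (Spec (CommRingCat.of A))) = 0 :=
    hD _ (by rw [WDivLib.coheight_genericPoint]; exact zero_ne_one)
  have hjH : ∀ a, j a ≠ H := fun a he => (WDivLib.mem_range_projChart_iff n A H).1 ⟨a, he⟩
    (hH ▸ Ideal.mem_span_singleton_self _)
  have hchart : ∀ a, Order.coheight a = 1 →
      Scheme.ord (WDivLib.ffMap j g) a = D ((𝔸(σ; Spec (CommRingCat.of A)) ↘ Spec (CommRingCat.of A)) a) := by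
    intro a ha
    rw [WDivLib.ord_ffMap, h (j a) (hjH a) ((coheight_eq_of_isOpenImmersion j).trans ha),
      ← WDivLib.projChart_over, Scheme.Hom.comp_apply]
  refine ⟨?_, S10900.result n (Spec (CommRingCat.of A)) hR1 D hD hfin (WDivLib.ffMap j g)
    ((map_ne_zero _).2 hg) hchart⟩
  -- `g` is pulled back from the base
  let S := AffineSpace.SpecIso σ (CommRingCat.of A)
  let k : Spec (CommRingCat.of (MvPolynomial σ A)) ⟶ CohB1.ProjSpace n A := S.inv ≫ j
  have hk : k ≫ q = Spec.map (CommRingCat.ofHom (MvPolynomial.C (σ := σ) : A →+* _)) := by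
    rw [Category.assoc, WDivLib.projChart_over]
    exact AffineSpace.SpecIso_inv_over (n := σ) (CommRingCat.of A)
  have hqη : q (genericPoint (CohB1.ProjSpace n A)) = genericPoint (Spec (CommRingCat.of A)) := by
    rw [← genericPoint_eq_of_isOpenImmersion k, ← Scheme.Hom.comp_apply, hk]
    exact WDivLib.specMap_genericPoint _ (MvPolynomial.C_injective σ A)
  obtain ⟨a, b, hb0, hab⟩ := WDivLib.exists_rat_div (WDivLib.ffMap k g)
  have hkg : WDivLib.ffMap k g ≠ 0 := (map_ne_zero _).2 hg
  have ha0 : a ≠ 0 := fun h0 => hkg (by rw [hab, h0, map_zero, zero_div])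
  obtain ⟨a', b', ha', hb', hab', hor⟩ := WDivLib.exists_reduced a b ha0 hb0
  have hfr : WDivLib.ffMap k g = WDivLib.rat _ a' / WDivLib.rat _ b' := by
    rw [hab, div_eq_div_iff (WDivLib.rat_ne_zero hb0) (WDivLib.rat_ne_zero hb'), ← map_mul, ← map_mul,
      hab', mul_comm]
  rcases hor with ⟨a0, b0, rfl, rfl⟩ | ⟨P, hP, hP1, hPC, hmem⟩
  · have hgen : (k ≫ q) (genericPoint (Spec (CommRingCat.of (MvPolynomial σ A)))) =
        genericPoint (Spec (CommRingCat.of A)) := by
      rw [hk]; exact WDivLib.specMap_genericPoint _ (MvPolynomial.C_injective σ A)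
    have hg' : g = WDivLib.pbMap q hqη (WDivLib.rat A a0 / WDivLib.rat A b0) := by
      refine (WDivLib.ffMap_bijective k).1 ?_
      rw [hfr, ← WDivLib.pbMap_eq_ffMap _ (genericPoint_eq_of_isOpenImmersion k)]
      change _ = ((WDivLib.pbMap k (genericPoint_eq_of_isOpenImmersion k)).comp (WDivLib.pbMap q hqη)) _
      rw [← WDivLib.pbMap_comp _ _ _ _ hgen, WDivLib.pbMap_congr hk hgen (hk ▸ hgen), map_div₀,
        WDivLib.pbMap_rat, WDivLib.pbMap_rat]
    have ha00 : a0 ≠ 0 := fun h0 => ha' (by rw [h0, map_zero])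
    have hb00 : b0 ≠ 0 := fun h0 => hb' (by rw [h0, map_zero])
    have hu : ∀ c : A, c ≠ 0 → Scheme.ord (WDivLib.pbMap q hqη (WDivLib.rat A c)) H = 0 := by
      intro c hc
      rw [← WDivLib.algebraMap_loc A (q H) c, WDivLib.pbMap_algebraMap q hqη H]
      exact WDivLib.ord_algebraMap_of_isUnit ((WDivLib.isUnit_loc_of_notMem (by
        rw [toSpec_H A n H hH]; simpa using hc)).map _)
    rw [hg', map_div₀, WDivLib.ord_div ((map_ne_zero _).2 (WDivLib.rat_ne_zero ha00))
      ((map_ne_zero _).2 (WDivLib.rat_ne_zero hb00)), hu a0 ha00, hu b0 hb00, hηH, hD0] at hH'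
    omega
  · exfalso
    let y : ↥(Spec (CommRingCat.of (MvPolynomial σ A))) := ⟨P, hP⟩
    have hy : Order.coheight y = 1 := (idealHeight_eq_coheight _ y).symm.trans hP1
    have h1 := hchart (S.inv y) ((coheight_eq_of_isOpenImmersion S.inv).trans hy)
    rw [WDivLib.ord_ffMap, ← Scheme.Hom.comp_apply, ← Scheme.Hom.comp_apply, AffineSpace.SpecIso_inv_over,
      show Spec.map (CommRingCat.ofHom (MvPolynomial.C (σ := σ) : A →+* _)) y =
        genericPoint (Spec (CommRingCat.of A)) by
        rw [genericPoint_eq_bot_of_affine]; exact PrimeSpectrum.ext hPC,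
      hD0, ← WDivLib.ord_ffMap, hfr,
      WDivLib.ord_div (WDivLib.rat_ne_zero ha') (WDivLib.rat_ne_zero hb')] at h1
    rcases hmem with ⟨hin, hout⟩ | ⟨hin, hout⟩
    · rw [WDivLib.ord_rat_eq_zero (x := y) hout] at h1
      have := WDivLib.ord_rat_pos hy ha' hin
      omega
    · rw [WDivLib.ord_rat_eq_zero (x := y) hout] at h1
      have := WDivLib.ord_rat_pos hy hb' hin
      omega

end Groth.Agent.S10917
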