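import Groth.Statements.S10916
import Groth.Agent.WDivLib.ProjChart
import Groth.Agent.S10901
import Groth.Agent.S10917

set_option autoImplicit false
universe u
open CategoryTheory CategoryTheory.Limits AlgebraicGeometry TopologicalSpace
open WDiv

namespace Groth.Agent.S10916

/-- Let A be a Noetherian integral domain regular in codimension 1 (the local ring of Spec A at every
point of coheight 1 is a discrete valuation ring), P = P^n_A with structure morphism q : P → Spec A,
and H the point of P whose homogeneous prime ideal is generated by X_0 (so n ≥ 1; H is the generic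
point of the hyperplane X_0 = 0). Weil divisors are integer-valued functions on points with finite
support inside the points of coheight 1. Then Cl(P^n_A) ≅ ℤ ⊕ Cl(A) in the following sense: for
every Weil divisor D' on P there is exactly one integer d for which D' is linearly equivalent to d·H
plus the pullback of a Weil divisor D on Spec A, i.e. for some such D and some nonzero rational
function g on P one has D'(H) = d + D(q H) + ord_H(g) and D'(y) = D(q y) + ord_y(g) at every point y
≠ H of coheight 1. -/
theorem result (A : Type u) [CommRing A] [IsDomain A]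
    [IsNoetherianRing A] (n : ℕ) (hn : 1 ≤ n) [IsIntegral (CohB1.ProjSpace n A)] [IsLocallyNoetherian (CohB1.ProjSpace n A)]
    [IsIntegral (Spec (CommRingCat.of A))]
    (hR1 : ∀ x : ↥(Spec (CommRingCat.of A)), Order.coheight x = 1 →
      IsDiscreteValuationRing ↑((Spec (CommRingCat.of A)).presheaf.stalk x))
    (H : ↥(CohB1.ProjSpace n A))
    (hH : H.asHomogeneousIdeal.toIdeal = Ideal.span {(MvPolynomial.X 0 : MvPolynomial (Fin (n + 1)) A)})
    (D' : ↥(CohB1.ProjSpace n A) → ℤ) (hD' : ∀ y, Order.coheight y ≠ 1 → D' y = 0)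
    (hfin : {y | D' y ≠ 0}.Finite) :
    ∃! d : ℤ, ∃ (D : ↥(Spec (CommRingCat.of A)) → ℤ) (g : ↑(CohB1.ProjSpace n A).functionField),
      (∀ x, Order.coheight x ≠ 1 → D x = 0) ∧ {x | D x ≠ 0}.Finite ∧ g ≠ 0 ∧
      D' H = d + D (CohB1.ProjSpace.toSpec n A H) + Scheme.ord g H ∧
      ∀ y, y ≠ H → Order.coheight y = 1 →
        D' y = D (CohB1.ProjSpace.toSpec n A y) + Scheme.ord g y := by
  classical
  let σ := ULift.{u} (Fin n)
  let q := CohB1.ProjSpace.toSpec n A
  let j := WDivLib.projChart n A
  haveI : IsLocallyNoetherian 𝔸(σ; Spec (CommRingCat.of A)) := isLocallyNoetherian_of_isOpenImmersion j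
  haveI : IsDomain ↑(CommRingCat.of A) := ‹IsDomain A›
  haveI : IsNoetherianRing ↑(CommRingCat.of A) := ‹IsNoetherianRing A›
  haveI : AlgebraicGeometry.IsNoetherian (Spec (CommRingCat.of A)) := {}
  have hXH : (MvPolynomial.X 0 : MvPolynomial (Fin (n + 1)) A) ∈ H.asHomogeneousIdeal.toIdeal :=
    hH ▸ Ideal.mem_span_singleton_self _
  -- points of codimension one outside the chart are `H`
  have hout : ∀ y, Order.coheight y = 1 → y ∉ Set.range j → y = H := by
    intro y hy hyr
    rw [WDivLib.mem_range_projChart_iff, not_not] at hyr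
    have hle : H ⤳ y := by
      refine (ProjectiveSpectrum.le_iff_mem_closure (CohB1.polyGrading n A) H y).1 ?_ |> specializes_iff_mem_closure.2
      change H.asHomogeneousIdeal.toIdeal ≤ y.asHomogeneousIdeal.toIdeal
      rw [hH]
      exact (Ideal.span_singleton_le_iff_mem _).2 hyr
    by_contra hne
    have hlt : y < H := lt_iff_le_not_ge.2 ⟨Scheme.le_iff_specializes.2 hle, fun h' =>
      hne ((Scheme.le_iff_specializes.1 h').antisymm hle).eq⟩
    have h1 := Order.coheight_add_one_le hlt
    rw [hy] at h1
    have hH0 : Order.coheight H = 0 := by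
      by_contra h0
      have h2 : (1 : ℕ∞) ≤ Order.coheight H := ENat.one_le_iff_ne_zero.2 h0
      exact absurd ((add_le_add_left h2 1).trans h1) (by norm_num)
    have hHη : H = genericPoint (CohB1.ProjSpace n A) :=
      ((Scheme.le_iff_specializes.1 (Order.coheight_eq_zero.1 hH0
        (Scheme.le_iff_specializes.2 (genericPoint_specializes H)))).antisymm (genericPoint_specializes H)).eq
    refine (WDivLib.mem_range_projChart_iff n A H).1 ?_ hXH
    rw [hHη, ← genericPoint_eq_of_isOpenImmersion j]
    exact ⟨_, rfl⟩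
  have hjH : ∀ a, j a ≠ H := fun a he => (WDivLib.mem_range_projChart_iff n A H).1 ⟨a, he⟩ hXH
  have hfin' : {a | D' (j a) ≠ 0}.Finite := hfin.preimage j.isOpenEmbedding.injective.injOn
  obtain ⟨D, g', hD, hDfin, hg', heq⟩ := S10901.result n (Spec (CommRingCat.of A)) hR1 (fun a => D' (j a))
    (fun a ha => hD' _ fun h => ha ((coheight_eq_of_isOpenImmersion j).symm.trans h)) hfin'
  obtain ⟨g, rfl⟩ := (WDivLib.ffMap_bijective j).2 g'
  have hg : g ≠ 0 := fun h => hg' (by rw [h, map_zero])
  refine ⟨D' H - D (q H) - Scheme.ord g H, ⟨D, g, hD, hDfin, hg, by ring, fun y hy hy1 => ?_⟩, ?_⟩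
  · obtain ⟨a, rfl⟩ : y ∈ Set.range j := by_contra fun hn => hy (hout y hy1 hn)
    have h1 := heq a ((coheight_eq_of_isOpenImmersion j).symm.trans hy1)
    rw [WDivLib.ord_ffMap, ← WDivLib.projChart_over, Scheme.Hom.comp_apply] at h1
    exact h1
  · rintro d' ⟨D₂, g₂, hD₂, hD₂fin, hg₂, hH₂, h₂⟩
    let E : ↥(Spec (CommRingCat.of A)) → ℤ := fun x => D₂ x - D x
    have hE : {x | E x ≠ 0}.Finite := (hD₂fin.union hDfin).subset fun x hx => by
      by_contra hn
      rw [Set.mem_union, not_or] at hn
      exact hx (by change D₂ x - D x = 0; rw [not_not.1 hn.1, not_not.1 hn.2, sub_zero])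
    have key := S10917.result A n hn hR1 H hH (d' - (D' H - D (q H) - Scheme.ord g H)) E
      (fun x hx => by change D₂ x - D x = 0; rw [hD x hx, hD₂ x hx, sub_zero]) hE (g / g₂) (div_ne_zero hg hg₂)
      (by
        rw [WDivLib.ord_div hg hg₂]
        change _ = _ + (D₂ (q H) - D (q H))
        change D' H = d' + D₂ (q H) + _ at hH₂
        omega)
      (fun y hy hy1 => by
        obtain ⟨a, rfl⟩ : y ∈ Set.range j := by_contra fun hn => hy (hout y hy1 hn)
        have h1 := heq a ((coheight_eq_of_isOpenImmersion j).symm.trans hy1)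
        rw [WDivLib.ord_ffMap, ← WDivLib.projChart_over, Scheme.Hom.comp_apply] at h1
        have h3 := h₂ (j a) hy hy1
        rw [WDivLib.ord_div hg hg₂]
        change _ = D₂ (q (j a)) - D (q (j a))
        change D' (j a) = D (q (j a)) + _ at h1
        change D' (j a) = D₂ (q (j a)) + _ at h3
        omega)
    exact sub_eq_zero.1 key.1

end Groth.Agent.S10916
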