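import Groth.Statements.S10918
import Groth.Agent.CIntNormal.Basic

set_option autoImplicit false
universe u
open CInt

namespace Groth.Agent.S10918

/-- Let k be a field, S = k[x_0, …, x_n], and f_1, …, f_r with r < n homogeneous polynomials of positive
degrees whose ideal J has height r, so that Y = V_+(J) ⊆ P^n_k is a global complete intersection of
dimension n − r ≥ 1 with homogeneous coordinate ring S' = S/J. Suppose Y is normal, expressed on the
affine cone: for every prime ideal Q of S' not containing all the classes of the x_i (every point of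
the cone Spec S' other than the vertex), the localization S'_Q is an integrally closed domain. Then
S' is an integrally closed domain, i.e. Y is projectively normal. -/
theorem result
    (k : Type u) [Field k] (n r : ℕ) (hr : r < n) (f : Fin r → MvPolynomial (Fin (n + 1)) k) (d : Fin r → ℕ)
    (hf : ∀ i, (f i).IsHomogeneous (d i)) (hd : ∀ i, 0 < d i)
    (hJ : (Ideal.span (Set.range f)).height = r)
    (hnorm : ∀ (Q : Ideal (MvPolynomial (Fin (n + 1)) k ⧸ Ideal.span (Set.range f))) [Q.IsPrime],
      (∃ i, Ideal.Quotient.mk (Ideal.span (Set.range f)) (MvPolynomial.X i) ∉ Q) →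
        IsDomain (Localization.AtPrime Q) ∧ IsIntegrallyClosed (Localization.AtPrime Q)) :
    IsDomain (MvPolynomial (Fin (n + 1)) k ⧸ Ideal.span (Set.range f)) ∧
      IsIntegrallyClosed (MvPolynomial (Fin (n + 1)) k ⧸ Ideal.span (Set.range f)) := by
  have key := Groth.Agent.CIntNormal.isDomain_and_vertex_normal f d hr hf hd hJ fun Q _ hQ hh => by
    obtain ⟨h1, h2⟩ := hnorm Q hQ
    refine Props.NormalCM.isRegularLocalRing_of_dim_le_one _ ?_
    rw [IsLocalization.AtPrime.ringKrullDim_eq_height Q]
    exact WithBot.coe_le_coe.2 hh
  haveI := key.1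
  refine ⟨key.1, IsIntegrallyClosed.of_localization_maximal fun m _ hm => ?_⟩
  rcases Groth.Agent.CIntNormal.mem_qvertex_or f d hf hd m with h | h
  · exact (key.2 m h).2
  · exact (hnorm m h).2

end Groth.Agent.S10918
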