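import Groth.Statements.S10921
import Groth.Agent.BertiniPn.Section
import Groth.Agent.FFCurve.Smooth

set_option autoImplicit false
universe u
open CategoryTheory CategoryTheory.Limits AlgebraicGeometry TopologicalSpace
open SmVar

namespace Groth.Agent.S10921

open Groth.Agent.SepTang48 Groth.Agent.BertiniPn Groth.Agent.ProjMorph Groth.Agent.Props.ProjFrame

theorem regular_quotient_of_smooth {k A L : Type u} [Field k] [CommRing A] [CommRing L] (φ : k →+* A)
    [Algebra A L] (P : Ideal A) [P.IsPrime] [IsLocalization.AtPrime L P] (h : A) (hh : h ∈ P)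
    (hs : ((Ideal.Quotient.mk (Ideal.span {h})).comp φ).Smooth) :
    IsRegularLocalRing (L ⧸ Ideal.span {algebraMap A L h}) := by
  letI : Algebra k A := φ.toAlgebra
  haveI hsm : Algebra.Smooth k (A ⧸ Ideal.span {h}) := RingHom.smooth_algebraMap.1 hs
  let I : Ideal A := Ideal.span {h}
  let Q : Ideal (A ⧸ I) := P.map (Ideal.Quotient.mk I)
  have hIP : I ≤ P := (Ideal.span_singleton_le_iff_mem _).2 hh
  haveI : Q.IsPrime := Ideal.map_isPrime_of_surjective Ideal.Quotient.mk_surjective (by rwa [Ideal.mk_ker])
  haveI : Algebra.FormallySmooth k (Localization.AtPrime Q) :=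
    Algebra.FormallySmooth.comp k (A ⧸ I) (Localization.AtPrime Q)
  have hreg := Groth.Agent.Omega.RankDim.isRegularLocalRing_of_isSmoothAt k (A ⧸ I) Q ‹_›
  haveI : IsLocalization Q.primeCompl (L ⧸ I.map (algebraMap A L)) := by
    have hS : Algebra.algebraMapSubmonoid (A ⧸ I) P.primeCompl = Q.primeCompl := by
      ext z
      constructor
      · rintro ⟨a, ha, rfl⟩ hm
        have := (Ideal.mem_map_iff_of_surjective _ Ideal.Quotient.mk_surjective).1 hm
        obtain ⟨b, hb, hab⟩ := this
        refine ha ?_
        have := P.add_mem hb (hIP ((Ideal.Quotient.eq).1 hab.symm))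
        simpa using this
      · intro hz
        obtain ⟨a, rfl⟩ := Ideal.Quotient.mk_surjective z
        exact ⟨a, fun ha => hz (Ideal.mem_map_of_mem _ ha), rfl⟩
    have := (inferInstance : IsLocalization (Algebra.algebraMapSubmonoid (A ⧸ I) P.primeCompl)
      (L ⧸ I.map (algebraMap A L)))
    rwa [hS] at this
  have e : I.map (algebraMap A L) = Ideal.span {algebraMap A L h} := by rw [Ideal.map_span, Set.image_singleton]
  exact IsRegularLocalRing.of_ringEquiv (R := Localization.AtPrime Q)
    (((IsLocalization.algEquiv Q.primeCompl (Localization.AtPrime Q) (L ⧸ I.map (algebraMap A L))).toRingEquiv).trans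
      (Ideal.quotEquivOfEq e))

/-- Let k be an algebraically closed field and X ⊆ P^n_k a nonsingular projective variety, given as an
integral scheme X with a closed immersion ι into projective n-space all of whose local rings are
regular. For a linear form h = Σ a_i X_i let H be the hyperplane h = 0 and H ∩ X the
scheme-theoretic intersection. Then the hyperplanes H which do not contain X and for which H ∩ X is
regular at each of its closed points form a set containing a nonempty Zariski-open subset of the
dual projective space: there is a nonzero polynomial g in the coefficients a_0, …, a_n such that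
every h with g(a) ≠ 0 has these two properties. Regularity of H ∩ X at a closed point x of X lying
on H is expressed on the local ring: O_{X,x} modulo the image of the germ of h/X_j (any j with
X_j(x) ≠ 0) is a regular local ring. (The published statement asserts that the set of good
hyperplanes is itself open and dense and that H ∩ X is a regular subvariety; this row asserts
regularity of H ∩ X at its closed points for all hyperplanes outside a proper closed set, and not
irreducibility, which fails for curves of degree ≥ 2.) -/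
theorem result (k : Type u) [Field k] [IsAlgClosed k] (n : ℕ)
    (X : Scheme.{u}) [IsIntegral X] (ι : X ⟶ CohB1.ProjSpace n k) [IsClosedImmersion ι]
    (hreg : ∀ x : ↥X, IsRegularLocalRing ↑(X.presheaf.stalk x)) :
    ∃ g : MvPolynomial (Fin (n + 1)) k, g ≠ 0 ∧
      ∀ h : ↥(CohB1.polyGrading n k 1),
        MvPolynomial.eval (fun i => MvPolynomial.coeff (Finsupp.single i 1) (h : MvPolynomial (Fin (n + 1)) k)) g ≠ 0 →
          (∃ x : ↥X, (h : MvPolynomial (Fin (n + 1)) k) ∉ (ι.base x).asHomogeneousIdeal) ∧
          ∀ x : ↥X, IsClosed ({x} : Set ↥X) →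
            (h : MvPolynomial (Fin (n + 1)) k) ∈ (ι.base x).asHomogeneousIdeal →
            ∀ (j : Fin (n + 1))
              (hj : (MvPolynomial.X j : MvPolynomial (Fin (n + 1)) k) ∉ (ι.base x).asHomogeneousIdeal),
              IsRegularLocalRing (↑(X.presheaf.stalk x) ⧸ Ideal.span
                {(ι.stalkMap x).hom ((Proj.stalkIso' (CohB1.polyGrading n k) (ι.base x)).symm
                  (HomogeneousLocalization.mk
                    ⟨1, h, ⟨MvPolynomial.X j, MvPolynomial.isHomogeneous_X k j⟩, hj⟩))}) := by
  haveI : Smooth (ι ≫ CohB1.ProjSpace.toSpec n k) := by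
    haveI : LocallyOfFiniteType (ι ≫ CohB1.ProjSpace.toSpec n k) := by
      haveI : IsProper (CohB1.ProjSpace.toSpec n k) := ProjProper.Basic.isProper_toSpec n k
      infer_instance
    exact Groth.Agent.FFCurve.smooth_of_regular _ hreg
  obtain ⟨x₀⟩ : Nonempty X := inferInstance
  obtain ⟨g, hg0, hg⟩ := exists_general ι x₀
  refine ⟨g, hg0, fun h hc => ?_⟩
  obtain ⟨hsm, hout⟩ := hg _ hc
  refine ⟨⟨x₀, ?_⟩, fun x _ hx j hj => ?_⟩
  · rwa [← Groth.Agent.HyperP.eq_sum_linear (h : MvPolynomial (Fin (n + 1)) k) h.2] at hout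
  let c : Fin (n + 1) → k := fun i => MvPolynomial.coeff (Finsupp.single i 1) (h : MvPolynomial (Fin (n + 1)) k)
  have hxU : x ∈ U ι j := hj
  have hval : (Proj.stalkIso' (CohB1.polyGrading n k) (ι.base x)).symm
      (HomogeneousLocalization.mk ⟨1, h, ⟨MvPolynomial.X j, MvPolynomial.isHomogeneous_X k j⟩, hj⟩) =
      (CohB1.ProjSpace n k).presheaf.germ (D k n j) (ι.base x) hj (lin k n j c) := by
    rw [RingEquiv.symm_apply_eq]
    refine Eq.trans ?_ (Proj.stalkIso'_germ (CohB1.polyGrading n k) (D k n j) (ι.base x) hj (lin k n j c)).symm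
    rw [← ratio_eq_lin j h.2]
    rfl
  rw [hval, Scheme.Hom.germ_stalkMap_apply]
  change IsRegularLocalRing (_ ⧸ Ideal.span {(X.presheaf.germ (U ι j) x hxU) (hsec ι j c)})
  letI := X.presheaf.algebra_section_stalk (U := U ι j) ⟨x, hxU⟩
  haveI : IsLocalization.AtPrime (X.presheaf.stalk x) ((isAffineOpen_U ι j).primeIdealOf ⟨x, hxU⟩).asIdeal :=
    (isAffineOpen_U ι j).isLocalization_stalk ⟨x, hxU⟩
  refine regular_quotient_of_smooth (L := X.presheaf.stalk x) (uConst ι j)
    ((isAffineOpen_U ι j).primeIdealOf ⟨x, hxU⟩).asIdeal (hsec ι j c) ?_ (hsm j)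
  by_contra hmem
  have hu : IsUnit (X.presheaf.germ (U ι j) x hxU (hsec ι j c)) :=
    (IsLocalization.AtPrime.isUnit_to_map_iff (X.presheaf.stalk x)
      ((isAffineOpen_U ι j).primeIdealOf ⟨x, hxU⟩).asIdeal _).2 hmem
  rw [← X.mem_basicOpen] at hu
  rw [hsec, ← Scheme.preimage_basicOpen, ← ratio_eq_lin j h.2] at hu
  exact ((basicOpen_coeff h.2 (Groth.Agent.SepTang48.X_mem k n j) _ le_rfl).le hu).2 hx

end Groth.Agent.S10921
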