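import Groth.Statements.S10922
import Groth.Agent.BertiniPn.Basic
import Groth.Agent.CIntNormal.Basic

set_option autoImplicit false
universe u
open CInt

namespace Groth.Agent.S10922

/-- Let k be an algebraically closed field, n ≥ 1, r < n, and d_1, …, d_r positive integers. Then there
are homogeneous polynomials f_1, …, f_r in S = k[x_0, …, x_n] of degrees d_1, …, d_r such that each
hypersurface V(f_i) ⊆ P^n_k is nonsingular and Y = V(f_1, …, f_r) is a nonsingular irreducible
variety of codimension r, hence a global complete intersection of the V(f_i). Nonsingularity and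
irreducibility are expressed on the affine cones: S/(f_i) and S/(f_1, …, f_r) have regular
localizations at every prime not containing all the x_j (every point of the cone other than the
vertex), S/(f_1, …, f_r) is an integral domain, and the ideal (f_1, …, f_r) has height r. -/
theorem result (k : Type u) [Field k] [IsAlgClosed k]
    (n r : ℕ) (hr : r < n) (d : Fin r → ℕ) (hd : ∀ i, 0 < d i) :
    ∃ f : Fin r → MvPolynomial (Fin (n + 1)) k,
      (∀ i, (f i).IsHomogeneous (d i)) ∧
      (∀ (i : Fin r) (Q : Ideal (MvPolynomial (Fin (n + 1)) k ⧸ Ideal.span {f i})) [Q.IsPrime],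
        (∃ j, Ideal.Quotient.mk (Ideal.span {f i}) (MvPolynomial.X j) ∉ Q) →
          IsRegularLocalRing (Localization.AtPrime Q)) ∧
      IsDomain (MvPolynomial (Fin (n + 1)) k ⧸ Ideal.span (Set.range f)) ∧
      (Ideal.span (Set.range f)).height = r ∧
      ∀ (Q : Ideal (MvPolynomial (Fin (n + 1)) k ⧸ Ideal.span (Set.range f))) [Q.IsPrime],
        (∃ j, Ideal.Quotient.mk (Ideal.span (Set.range f)) (MvPolynomial.X j) ∉ Q) →
          IsRegularLocalRing (Localization.AtPrime Q) := by
  classical
  haveI : Infinite k := inferInstance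
  obtain ⟨f, hf, hhyp, hci, hht⟩ := Groth.Agent.BertiniPn.exists_general_forms (k := k) (n := n) r (le_of_lt hr) d hd
  have hle := Groth.Agent.CIntNormal.le_vertex f d hf hd
  have hne : Ideal.span (Set.range f) ≠ ⊤ := fun h => (inferInstance :
    (Groth.Agent.CIntNormal.vertex k n).IsMaximal).ne_top (top_le_iff.1 (h ▸ hle))
  have hheight : (Ideal.span (Set.range f)).height = r := by
    refine le_antisymm ?_ ?_
    · obtain ⟨P, hP⟩ := Ideal.nonempty_minimalPrimes hne
      refine (Ideal.height_mono hP.1.2).trans ((Ideal.height_le_card_of_mem_minimalPrimes_span (Set.finite_range f) hP).trans ?_)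
      have h3 : (Set.range f).ncard ≤ r := by
        rw [← Set.image_univ]
        exact (Set.ncard_image_le Set.finite_univ).trans (by simp)
      exact_mod_cast h3
    · rw [Ideal.height_eq_inf_minimalPrimes]
      refine le_iInf₂ fun P hP => ?_
      exact hht P hP.1.1 hP.1.2
  have hreg := Groth.Agent.BertiniPn.isRegular_cone f d hf hci
  refine ⟨f, hf, fun i Q _ hQ => ?_,
    (Groth.Agent.CIntNormal.isDomain_and_vertex_normal f d hr hf hd hheight fun Q _ hQ _ => hreg Q hQ).1,
    hheight, fun Q _ hQ => hreg Q hQ⟩
  have h1 : Ideal.span (Set.range fun _ : Fin 1 => f i) = Ideal.span {f i} := by rw [Set.range_const]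
  have H := Groth.Agent.BertiniPn.isRegular_cone (fun _ : Fin 1 => f i) (fun _ => d i) (fun _ => hf i)
    (fun j => by rw [h1]; exact hhyp i j)
  rw [h1] at H
  exact H Q hQ

end Groth.Agent.S10922
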