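import Groth.Statements.S10926
import Groth.Agent.S10925
import Groth.Agent.PicLaw.Calc
-- import your own Groth.Agent.* helpers here

set_option autoImplicit false
universe u
open CategoryTheory CategoryTheory.Limits AlgebraicGeometry
open PicF

namespace Groth.Agent.S10926

open Groth.Agent

/-- Let k be an algebraically closed field, Y an integral scheme of finite type over k, f : X → Y flat
and projective (f = i ≫ pr for a closed immersion i : X → P^n_Y) with every fibre X_y integral, and
L, M invertible O_X-modules whose pullbacks to each fibre X_y are isomorphic. Then there is an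
invertible O_Y-module E with L ≅ M ⊗ f^*E. -/
theorem result (k : Type u) [Field k] [IsAlgClosed k]
    {X Y : Scheme.{u}} (g : Y ⟶ Spec (CommRingCat.of k)) [LocallyOfFiniteType g] [QuasiCompact g]
    [IsIntegral Y] (n : ℕ) (i : X ⟶ CohB1.ProjSpaceOver n Y) [IsClosedImmersion i]
    (f : X ⟶ Y) (hf : f = i ≫ CohB1.ProjSpaceOver.toBase n Y) [Flat f]
    (hint : ∀ y : Y, IsIntegral (f.fiber y))
    (L M : X.Modules) (hL : PicF.IsInvertible L) (hM : PicF.IsInvertible M)
    (hLM : ∀ y : Y, Nonempty ((Scheme.Modules.pullback (f.fiberι y)).obj L ≅ (Scheme.Modules.pullback (f.fiberι y)).obj M)) :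
    ∃ E : Y.Modules, PicF.IsInvertible E ∧
      Nonempty (L ≅ CohB1.tensorMod M ((Scheme.Modules.pullback f).obj E)) := by
  obtain ⟨M', hM', ⟨e⟩⟩ := PicLaw.exists_inverse hM
  have hE : PicF.IsInvertible (CohB1.tensorMod M' L) := PicLaw.isInvertible_tensor hM' hL
  have htriv : ∀ y : Y, Nonempty ((Scheme.Modules.pullback (f.fiberι y)).obj (CohB1.tensorMod M' L) ≅
      Coh.structureModule (f.fiber y)) := fun y => by
    obtain ⟨φ⟩ := hLM y
    obtain ⟨a⟩ := PicLaw.pullback_tensor (f.fiberι y) hM' hL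
    obtain ⟨b⟩ := PicLaw.pullback_tensor (f.fiberι y) hM' hM
    exact ⟨a ≪≫ ProjTwist.tensCongr (Iso.refl _) φ ≪≫ b.symm ≪≫
      (Scheme.Modules.pullback (f.fiberι y)).mapIso (ProjTwist.tensComm _ _ ≪≫ e) ≪≫
      QCoh.pullbackUnitIso _⟩
  obtain ⟨hinv, hiso⟩ := Groth.Agent.S10925.result k g n i f hf hint _ hE htriv
  refine ⟨_, hinv, ⟨?_⟩⟩
  exact (ProjTwist.oneTens L).symm ≪≫ ProjTwist.tensCongr e.symm (Iso.refl L) ≪≫
    ProjTwist.tensAssoc _ _ _ ≪≫ ProjTwist.tensCongr (Iso.refl M)
      (@asIso _ _ _ _ ((Scheme.Modules.pullbackPushforwardAdjunction f).counit.app _) hiso).symm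

end Groth.Agent.S10926
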