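import Groth.Statements.S10927
import Groth.Agent.TanSmooth.RankLe
import Groth.Agent.GrpSGA.Translate

set_option autoImplicit false
universe u
open CategoryTheory CategoryTheory.Limits MonoidalCategory CartesianMonoidalCategory MonObj GrpObj AlgebraicGeometry
open Variety
attribute [-instance] CategoryTheory.ReflQuiver.toQuiver

namespace Groth.Agent.S10927

/-- Let k be an algebraically closed field of characteristic zero, G a group variety over k (an
integral, separated k-group scheme of finite type) and X a homogeneous space for G: a k-variety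
(integral, separated, of finite type over k) with an action of G such that G(k) acts transitively on
X(k). Then for every k-point x of X the orbit map G → X, g ↦ g · x, is smooth. -/
theorem result (k : Type u) [Field k] [IsAlgClosed k] [CharZero k]
    (G X : Over (Spec (CommRingCat.of k))) [GrpObj G] (a : AlgGrp.Action G X)
    [IsIntegral G.left] [IsSeparated G.hom] [LocallyOfFiniteType G.hom] [QuasiCompact G.hom]
    [IsIntegral X.left] [IsSeparated X.hom] [LocallyOfFiniteType X.hom] [QuasiCompact X.hom]
    (htrans : ∀ x x' : 𝟙_ (Over (Spec (CommRingCat.of k))) ⟶ X,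
      ∃ σ : 𝟙_ (Over (Spec (CommRingCat.of k))) ⟶ G, CartesianMonoidalCategory.lift σ x ≫ a.act = x')
    (x : 𝟙_ (Over (Spec (CommRingCat.of k))) ⟶ X) :
    Smooth (a.orbitMap x).left := by
  let φ := a.orbitMap x
  have hφ : φ.left ≫ X.hom = G.hom := Over.w φ
  have := LocallyOfFiniteType.jacobsonSpace X.hom
  have hdense : DenseRange φ.left := by
    have hsub : closedPoints ↥X.left ⊆ Set.range φ.left := fun y hy => by
      let p := pointOfClosedPoint X.hom y hy
      let x' : 𝟙_ (Over (Spec (CommRingCat.of k))) ⟶ X :=
        Over.homMk p (pointOfClosedPoint_comp X.hom y hy)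
      obtain ⟨σ, hσ⟩ := htrans x x'
      refine ⟨σ.left (IsLocalRing.closedPoint k), ?_⟩
      have e : σ ≫ φ = x' := by
        rw [← hσ]
        show σ ≫ a.orbitMap x = _
        rw [Groth.Agent.GrpSGA.Translate.comp_orbitMap]
        simp [Groth.Agent.GrpScheme.Basic.smul, toUnit_unique (toUnit (𝟙_ (Over (Spec (CommRingCat.of k))))) (𝟙 _)]
      show (σ.left ≫ φ.left) (IsLocalRing.closedPoint k) = y
      rw [← Over.comp_left, e]
      exact pointOfClosedPoint_apply X.hom y hy _
    exact dense_iff_closure_eq.2 (Set.eq_univ_of_univ_subset
      ((closure_closedPoints (X := ↥X.left)).ge.trans (closure_mono hsub)))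
  have hgen : φ.left (genericPoint G.left) = genericPoint X.left := by
    refine IsGenericPoint.eq ?_ (genericPoint_spec X.left)
    have h := (genericPoint_spec G.left).image φ.left.continuous
    rwa [Set.image_univ, hdense.closure_range] at h
  have : IsLocallyNoetherian X.left := LocallyOfFiniteType.isLocallyNoetherian X.hom
  have : LocallyOfFiniteType φ.left := by
    have : LocallyOfFiniteType (φ.left ≫ X.hom) := by rw [hφ]; infer_instance
    exact locallyOfFiniteType_of_comp φ.left X.hom
  have : LocallyOfFinitePresentation φ.left := LocallyOfFinitePresentation.iff_locallyOfFiniteType.mpr inferInstance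
  have : LocallyOfFinitePresentation G.hom := LocallyOfFinitePresentation.iff_locallyOfFiniteType.mpr inferInstance
  haveI : CharZero X.left.functionField :=
    charZero_of_injective_ringHom (RingHom.injective (Groth.Agent.TanSmooth.algK X.hom (genericPoint X.left)))
  haveI : PerfectField X.left.functionField := PerfectField.ofCharZero
  have hmem : genericPoint G.left ∈ φ.left.smoothLocus :=
    Groth.Agent.Omega.GenericSmooth.mem_smoothLocus φ.left _ hgen
      (inferInstanceAs (IsRegularLocalRing G.left.functionField))
  have hη : Groth.Agent.GrpSGA.LocalProp.AtPt @Smooth φ.left (genericPoint G.left) := by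
    refine ⟨φ.left.smoothLocus, hmem, ?_⟩
    rw [← Scheme.Hom.smoothLocus_eq_top_iff, ← Scheme.Hom.preimage_smoothLocus_eq]
    exact eq_top_iff.2 fun z _ => z.2
  refine Groth.Agent.GrpSGA.LocalProp.of_forall_atPt (P := @Smooth) _ fun g => ?_
  refine (Groth.Agent.GrpSGA.Translate.iff_of_same_fibre
    (Groth.Agent.GrpSGA.LocalProp.bc_atPt (P := @Smooth)) Groth.Agent.GrpSGA.LocalProp.desc_smooth
    (fun z => Groth.Agent.GrpSGA.LocalProp.atPt_of_mem _ ?_ z) a x ?_).1 hη
  · exact ⟨inferInstance, inferInstance⟩
  · exact Subsingleton.elim (α := PrimeSpectrum k) _ _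

end Groth.Agent.S10927
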