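import Groth.Statements.S10928
import Groth.Agent.TanSmooth.Kleiman
import Groth.Agent.S10927
import Groth.Agent.S0353

set_option autoImplicit false
universe u
open CategoryTheory CategoryTheory.Limits MonoidalCategory CartesianMonoidalCategory MonObj GrpObj AlgebraicGeometry
open Variety
attribute [-instance] CategoryTheory.ReflQuiver.toQuiver

namespace Groth.Agent.S10928

/-- Let k be an algebraically closed field of characteristic zero, G a group variety over k (integral,
separated k-group scheme of finite type), X a homogeneous space for G (a k-variety with a G-action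
such that G(k) acts transitively on X(k)) of dimension n, and f : Y → X, g : Z → X morphisms of
k-schemes where Y and Z are nonsingular varieties over k (integral, separated, smooth of finite type
over k) of dimensions r and s. For a k-point σ of G write f^σ : Y → X for y ↦ σ · f(y). Then there
is a nonempty open subset V ⊆ G such that for every k-point σ of G lying in V the scheme Y^σ ×_X Z
(fibre product of f^σ and g) is smooth over k and is either empty or of dimension r + s − n
(dimensions are topological Krull dimensions). -/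
theorem result (k : Type u) [Field k] [IsAlgClosed k] [CharZero k]
    (G X : Over (Spec (CommRingCat.of k))) [GrpObj G] (a : AlgGrp.Action G X)
    [IsIntegral G.left] [IsSeparated G.hom] [LocallyOfFiniteType G.hom] [QuasiCompact G.hom]
    [IsIntegral X.left] [IsSeparated X.hom] [LocallyOfFiniteType X.hom] [QuasiCompact X.hom]
    (htrans : ∀ x x' : 𝟙_ (Over (Spec (CommRingCat.of k))) ⟶ X,
      ∃ σ : 𝟙_ (Over (Spec (CommRingCat.of k))) ⟶ G, CartesianMonoidalCategory.lift σ x ≫ a.act = x')
    {Y Z : Scheme.{u}} (f : Y ⟶ X.left) (g : Z ⟶ X.left)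
    [IsIntegral Y] [IsSeparated (f ≫ X.hom)] [QuasiCompact (f ≫ X.hom)] [Smooth (f ≫ X.hom)]
    [IsIntegral Z] [IsSeparated (g ≫ X.hom)] [QuasiCompact (g ≫ X.hom)] [Smooth (g ≫ X.hom)]
    (n r s : ℕ) (hn : topologicalKrullDim ↥X.left = n) (hr : topologicalKrullDim ↥Y = r)
    (hs : topologicalKrullDim ↥Z = s) :
    ∃ V : G.left.Opens, (V : Set ↥G.left).Nonempty ∧
      ∀ σ : 𝟙_ (Over (Spec (CommRingCat.of k))) ⟶ G, Set.range σ.left.base ⊆ (V : Set ↥G.left) →
        ∀ fσ : Y ⟶ X.left,
          fσ = (CartesianMonoidalCategory.lift (CartesianMonoidalCategory.toUnit (Over.mk (f ≫ X.hom)) ≫ σ)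
            (Over.homMk f) ≫ a.act).left →
          Smooth (pullback.fst fσ g ≫ f ≫ X.hom) ∧
            (IsEmpty ↥(pullback fσ g) ∨ (n ≤ r + s ∧ topologicalKrullDim ↥(pullback fσ g) = ((r + s - n : ℕ) : WithBot ℕ∞))) := by
  have := LocallyOfFiniteType.jacobsonSpace X.hom
  have hex : ∃ x : 𝟙_ (Over (Spec (CommRingCat.of k))) ⟶ X, True := by
    obtain ⟨y, -, hy⟩ := nonempty_inter_closedPoints (X := ↥X.left) (Set.univ_nonempty) isClosed_univ.isLocallyClosed
    exact ⟨Over.homMk (pointOfClosedPoint X.hom y hy) (pointOfClosedPoint_comp X.hom y hy), trivial⟩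
  obtain ⟨x, -⟩ := hex
  let φ := a.orbitMap x
  have : Smooth G.hom := Groth.Agent.S0353.result k G
  have hsm : Smooth φ.left := Groth.Agent.S10927.result k G X a htrans x
  have : Surjective φ.left := by
    refine ⟨fun y => ?_⟩
    by_contra hy
    obtain ⟨y', hy', hc⟩ := nonempty_inter_closedPoints (Z := (Set.range φ.left)ᶜ) ⟨y, hy⟩
      φ.left.isOpenMap.isOpen_range.isClosed_compl.isLocallyClosed
    obtain ⟨σ, hσ⟩ := htrans x (Over.homMk (pointOfClosedPoint X.hom y' hc) (pointOfClosedPoint_comp X.hom y' hc))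
    refine hy' ⟨σ.left (IsLocalRing.closedPoint k), ?_⟩
    have e : σ ≫ φ = Over.homMk (pointOfClosedPoint X.hom y' hc) (pointOfClosedPoint_comp X.hom y' hc) := by
      rw [← hσ]
      show σ ≫ a.orbitMap x = _
      rw [Groth.Agent.GrpSGA.Translate.comp_orbitMap]
      simp [Groth.Agent.GrpScheme.Basic.smul, CartesianMonoidalCategory.toUnit_unique
        (CartesianMonoidalCategory.toUnit (𝟙_ (Over (Spec (CommRingCat.of k))))) (𝟙 _)]
    show (σ.left ≫ φ.left) (IsLocalRing.closedPoint k) = y'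
    rw [← Over.comp_left, e]
    exact pointOfClosedPoint_apply X.hom y' hc _
  have : Smooth X.hom := Groth.Agent.AlgSpCov.smooth_of_comp_smooth φ.left X.hom (by rw [Over.w φ]; infer_instance)
  let Yo : Over (Spec (CommRingCat.of k)) := Over.mk (f ≫ X.hom)
  let f' : Yo ⟶ X := Over.homMk f
  have : Smooth Yo.hom := inferInstanceAs (Smooth (f ≫ X.hom))
  have : QuasiCompact Yo.hom := inferInstanceAs (QuasiCompact (f ≫ X.hom))
  let h := (G ◁ f') ≫ a.act
  have : Smooth h.left := Groth.Agent.TanSmooth.smooth_act_comp a x f'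
  let p₁ := pullback.fst h.left g
  let p₂ := pullback.snd h.left g
  let fG : (G ⊗ Yo).left ⟶ G.left := (CartesianMonoidalCategory.fst G Yo).left
  let sG : (G ⊗ Yo).left ⟶ Yo.left := (CartesianMonoidalCategory.snd G Yo).left
  let q := p₁ ≫ fG
  have : Smooth sG := MorphismProperty.pullback_snd (P := @Smooth) G.hom Yo.hom ‹_›
  have : QuasiCompact sG := MorphismProperty.pullback_snd (P := @QuasiCompact) G.hom Yo.hom ‹_›
  have : Smooth p₂ := MorphismProperty.pullback_snd (P := @Smooth) h.left g ‹_›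
  have hGY : sG ≫ Yo.hom = (G ⊗ Yo).hom := Over.w (CartesianMonoidalCategory.snd G Yo)
  have hGY' : fG ≫ G.hom = (G ⊗ Yo).hom := Over.w (CartesianMonoidalCategory.fst G Yo)
  have : QuasiCompact h.left := by
    have : QuasiCompact (h.left ≫ X.hom) := by rw [Over.w h, ← hGY]; infer_instance
    exact QuasiCompact.of_comp h.left X.hom
  have : QuasiCompact p₂ := MorphismProperty.pullback_snd (P := @QuasiCompact) h.left g ‹_›
  have hW : q ≫ G.hom = p₂ ≫ g ≫ X.hom := by
    show (p₁ ≫ fG) ≫ G.hom = _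
    rw [Category.assoc, hGY', ← Over.w h, ← Category.assoc, pullback.condition, Category.assoc]
  have : Smooth (q ≫ G.hom) := by rw [hW]; infer_instance
  have : QuasiCompact (q ≫ G.hom) := by rw [hW]; infer_instance
  have : IsLocallyNoetherian G.left := LocallyOfFiniteType.isLocallyNoetherian G.hom
  have : LocallyOfFiniteType q := locallyOfFiniteType_of_comp q G.hom
  have : LocallyOfFinitePresentation q := LocallyOfFinitePresentation.iff_locallyOfFiniteType.mpr inferInstance
  obtain ⟨V, hV, hVsm⟩ := Groth.Agent.TanSmooth.exists_open_preimage_le_smoothLocus (q ≫ G.hom) G.hom q rfl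
  refine ⟨V, hV, fun σ hσ fσ hfσ => ?_⟩
  let sec := CartesianMonoidalCategory.lift (CartesianMonoidalCategory.toUnit Yo ≫ σ) (𝟙 Yo)
  have hf' : fσ = sec.left ≫ h.left := by
    rw [hfσ, ← Over.comp_left]
    congr 1
    show _ = sec ≫ (G ◁ f') ≫ a.act
    rw [← Category.assoc, CartesianMonoidalCategory.lift_whiskerLeft, Category.id_comp]
  let F := pullback fσ g
  let j : F ⟶ pullback h.left g := pullback.lift (pullback.fst fσ g ≫ sec.left) (pullback.snd fσ g)
    (by rw [Category.assoc, ← hf']; exact pullback.condition)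
  have H₁ : IsPullback j (pullback.fst fσ g) p₁ sec.left := by
    have R : IsPullback p₂ p₁ g h.left := (IsPullback.of_hasPullback h.left g).flip
    refine IsPullback.of_right ?_ (pullback.lift_fst _ _ _) R
    rw [pullback.lift_snd, ← hf']
    exact (IsPullback.of_hasPullback fσ g).flip
  let πF := pullback.fst fσ g ≫ f ≫ X.hom
  have H : IsPullback j πF q σ.left := H₁.paste_vert (Groth.Agent.TanSmooth.isPullback_section (Y := Yo) σ)
  have hjV : ∀ z, q (j z) ∈ V := fun z => hσ ⟨πF z, by
    show (πF ≫ σ.left) z = (j ≫ q) z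
    rw [H.w]⟩
  let W : (pullback h.left g).Opens := q ⁻¹ᵁ V
  have hWsm : Smooth (W.ι ≫ q) := by
    rw [← Scheme.Hom.smoothLocus_eq_top_iff, ← Scheme.Hom.preimage_smoothLocus_eq]
    exact eq_top_iff.2 fun z _ => hVsm z.2
  have hFsm : Smooth πF := by
    refine Groth.Agent.GrpSGA.LocalProp.of_forall_atPt (P := @Smooth) _ fun z => ?_
    exact Groth.Agent.GrpSGA.LocalProp.bc_atPt (P := @Smooth) H z ⟨W, hjV z, hWsm⟩
  refine ⟨hFsm, ?_⟩
  by_cases hF : IsEmpty ↥F
  · exact Or.inl hF
  rw [not_isEmpty_iff] at hF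
  right
  obtain ⟨e, he⟩ : ∃ e : ℕ, topologicalKrullDim ↥G.left = e := by
    obtain ⟨m, hm⟩ := Groth.Agent.TanSmooth.exists_nat_fibreDimAt G.hom (genericPoint G.left)
    rw [Groth.Agent.TanSmooth.fibreDimAt_of_field, Groth.Agent.TanSmooth.localDim_of_irreducible G.hom] at hm
    exact ⟨m, hm⟩
  have hG : ∀ z : G.left, FlatMor.fibreDimAt G.hom z = (e : WithBot ℕ∞) := fun z => by
    rw [Groth.Agent.TanSmooth.fibreDimAt_of_field, Groth.Agent.TanSmooth.localDim_of_irreducible G.hom, he]
  have hY : ∀ z : Y, FlatMor.fibreDimAt (f ≫ X.hom) z = (r : WithBot ℕ∞) := fun z => by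
    rw [Groth.Agent.TanSmooth.fibreDimAt_of_field, Groth.Agent.TanSmooth.localDim_of_irreducible (f ≫ X.hom), hr]
  have hZ : ∀ z : Z, FlatMor.fibreDimAt (g ≫ X.hom) z = (s : WithBot ℕ∞) := fun z => by
    rw [Groth.Agent.TanSmooth.fibreDimAt_of_field, Groth.Agent.TanSmooth.localDim_of_irreducible (g ≫ X.hom), hs]
  have hXd : ∀ z : X.left, FlatMor.fibreDimAt X.hom z = (n : WithBot ℕ∞) := fun z => by
    rw [Groth.Agent.TanSmooth.fibreDimAt_of_field, Groth.Agent.TanSmooth.localDim_of_irreducible X.hom, hn]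
  have hd : ∀ z : F, ∃ d : ℕ, FlatMor.fibreDimAt πF z = (d : WithBot ℕ∞) ∧ d + n = r + s := fun z => by
    let w : W.toScheme := ⟨j z, hjV z⟩
    obtain ⟨d, hd⟩ := Groth.Agent.TanSmooth.exists_nat_fibreDimAt q (j z)
    obtain ⟨m, hm⟩ := Groth.Agent.TanSmooth.exists_nat_fibreDimAt h.left (p₁ (j z))
    refine ⟨d, (Groth.Agent.AlgSpD.fibreDimAt_of_isPullback q H z).trans hd, ?_⟩
    have h1 := Groth.Agent.S4992.result (W.ι ≫ q) G.hom w
    rw [Groth.Agent.AlgSpD.fibreDimAt_inv W.ι (𝟙 _) (W.ι ≫ q) q (by simp) w,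
      Groth.Agent.AlgSpD.fibreDimAt_inv W.ι (𝟙 _) ((W.ι ≫ q) ≫ G.hom) (q ≫ G.hom) (by simp) w,
      show W.ι w = j z from rfl, hd, hG, hW, Groth.Agent.S4992.result p₂ (g ≫ X.hom) (j z), hZ,
      Groth.Agent.AlgSpD.fibreDimAt_of_isPullback h.left (IsPullback.of_hasPullback h.left g) (j z)] at h1
    have h2 := Groth.Agent.S4992.result h.left X.hom (p₁ (j z))
    have h3 := Groth.Agent.S4992.result sG Yo.hom (p₁ (j z))
    have h4 : FlatMor.fibreDimAt sG (p₁ (j z)) = FlatMor.fibreDimAt G.hom (fG (p₁ (j z))) :=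
      Groth.Agent.AlgSpD.fibreDimAt_of_isPullback G.hom (IsPullback.of_hasPullback G.hom Yo.hom) _
    rw [h4, hG, hGY, ← Over.w h, show FlatMor.fibreDimAt Yo.hom (sG (p₁ (j z))) = (r : WithBot ℕ∞) from hY _] at h3
    rw [h3, hm, hXd] at h2
    rw [show FlatMor.fibreDimAt h.left (pullback.fst h.left g (j z)) = (m : WithBot ℕ∞) from hm] at h1
    have h1' : m + s = d + e := by exact_mod_cast h1
    have h2' : e + r = m + n := by exact_mod_cast h2
    omega
  obtain ⟨d, -, hdn⟩ := hd hF.some
  refine ⟨by omega, Groth.Agent.TanSmooth.topologicalKrullDim_of_fibreDim πF _ fun z => ?_⟩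
  obtain ⟨d', hd', hdn'⟩ := hd z
  obtain rfl : d' = r + s - n := by omega
  exact hd'

end Groth.Agent.S10928
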