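import Groth.Statements.S10930
import Groth.Agent.CVar22.GenSmooth
import Groth.Agent.CVar22.RegSmooth
import Groth.Agent.ConsPropLib.Noeth

set_option autoImplicit false
universe u
open CategoryTheory CategoryTheory.Limits AlgebraicGeometry
open Variety

namespace Groth.Agent.S10930

/-- Let k be an algebraically closed field of characteristic zero, X and Y varieties over k (integral,
separated and of finite type over k) with X nonsingular, i.e. smooth over k, and f : X → Y a
k-morphism. Then there is a nonempty open subscheme V of Y such that the restriction f⁻¹(V) → V of f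
is smooth. -/
theorem result (k : Type u) [Field k] [IsAlgClosed k] [CharZero k]
    {X Y : Scheme.{u}} (qX : X ⟶ Spec (CommRingCat.of k)) (qY : Y ⟶ Spec (CommRingCat.of k))
    [LocallyOfFiniteType qX] [QuasiCompact qX] [IsSeparated qX] [Smooth qX]
    [LocallyOfFiniteType qY] [QuasiCompact qY] [IsSeparated qY]
    [IsIntegral X] [IsIntegral Y] (f : X ⟶ Y) (hf : f ≫ qY = qX) :
    ∃ V : Y.Opens, (V : Set ↥Y).Nonempty ∧ Smooth (f ∣_ V) := by
  haveI : LocallyOfFiniteType f := by
    have : LocallyOfFiniteType (f ≫ qY) := by rw [hf]; infer_instance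
    exact locallyOfFiniteType_of_comp f qY
  haveI : QuasiCompact f := by
    have : QuasiCompact (f ≫ qY) := by rw [hf]; infer_instance
    exact QuasiCompact.of_comp f qY
  haveI : IsLocallyNoetherian Y := LocallyOfFiniteType.isLocallyNoetherian qY
  haveI : IsLocallyNoetherian X := LocallyOfFiniteType.isLocallyNoetherian qX
  haveI : CompactSpace Y := QuasiCompact.compactSpace_of_compactSpace qY
  haveI : CompactSpace X := QuasiCompact.compactSpace_of_compactSpace qX
  haveI : IsNoetherian X := {}
  haveI : IsNoetherian Y := {}
  haveI : LocallyOfFinitePresentation f :=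
    LocallyOfFinitePresentation.iff_locallyOfFiniteType.mpr inferInstance
  -- every point over the generic point of `Y` is a smooth point
  have key : ∀ x : X, f.base x = genericPoint Y → x ∈ f.smoothLocus := by
    intro x hx
    have hreg : IsRegularLocalRing (X.presheaf.stalk x) := by
      have hs : (qX.stalkMap x).hom.FormallySmooth :=
        (qX.smoothLocus_eq_top.ge (Set.mem_univ x) : x ∈ qX.smoothLocus)
      have hF : IsField ((Spec (CommRingCat.of k)).presheaf.stalk (qX x)) :=
        CVar22.isField_stalk_of_eq_genericPoint (Subsingleton.elim _ _)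
      let := hF.toField
      let := (qX.stalkMap x).hom.toAlgebra
      haveI : Algebra.EssFiniteType ((Spec (CommRingCat.of k)).presheaf.stalk (qX x)) (X.presheaf.stalk x) :=
        RingHom.essFiniteType_algebraMap.mp (LocallyOfFiniteType.stalkMap qX x)
      haveI : Algebra.FormallySmooth ((Spec (CommRingCat.of k)).presheaf.stalk (qX x)) (X.presheaf.stalk x) :=
        RingHom.formallySmooth_algebraMap.mp hs
      exact CVar22.isRegularLocalRing_of_formallySmooth
        ((Spec (CommRingCat.of k)).presheaf.stalk (qX x)) (X.presheaf.stalk x)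
    haveI := CVar22.charZero_stalk_of_hom qY (f.base x)
    let := (CVar22.isField_stalk_of_eq_genericPoint hx).toField
    let := (f.stalkMap x).hom.toAlgebra
    haveI : PerfectField (Y.presheaf.stalk (f.base x)) := PerfectField.ofCharZero
    haveI : Algebra.EssFiniteType (Y.presheaf.stalk (f.base x)) (X.presheaf.stalk x) :=
      RingHom.essFiniteType_algebraMap.mp (LocallyOfFiniteType.stalkMap f x)
    show (algebraMap (Y.presheaf.stalk (f.base x)) (X.presheaf.stalk x)).FormallySmooth
    rw [RingHom.formallySmooth_algebraMap]
    exact CVar22.formallySmooth_of_isRegularLocalRing _ _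
  -- the image of the non-smooth locus is constructible and misses the generic point
  have hS : Topology.IsConstructible (f.base '' (f.smoothLocus : Set X)ᶜ) :=
    f.isConstructible_image
      ((IsCompact.isConstructible (TopologicalSpace.NoetherianSpace.isCompact _) f.smoothLocus.isOpen).compl)
  obtain ⟨U, hU, hgU, hsub⟩ := ConsPropLib.exists_open_subset_of_generic hS.compl
    (fun ⟨x, hxn, hx⟩ => hxn (key x hx))
  refine ⟨⟨U, hU⟩, ⟨_, hgU⟩, ?_⟩
  rw [← Scheme.Hom.smoothLocus_eq_top_iff]
  refine TopologicalSpace.Opens.ext (Set.eq_univ_of_forall fun z => ?_)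
  refine ((RingHom.FormallySmooth.respectsIso).arrow_mk_iso_iff
    (morphismRestrictStalkMap f ⟨U, hU⟩ z)).mpr ?_
  by_contra h
  exact hsub z.2 ⟨z.1, h, rfl⟩

end Groth.Agent.S10930
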