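import Groth.Statements.S10933
import Groth.Agent.CAlgA.ExtSelf

set_option autoImplicit false
universe u
open CategoryTheory
open CAlg

namespace Groth.Agent.S10933

/-- Let A be a (Noetherian) regular local ring, M a finitely generated A-module and d a natural number.
Then the projective dimension of M equals d if and only if Ext^j_A(M, A) = 0 for every j > d and
Ext^d_A(M, A) ≠ 0. (Projective dimension valued in WithBot ℕ∞, the zero module having projective
dimension ⊥.) -/
theorem result (A : Type u) [CommRing A] [IsRegularLocalRing A]
    (M : Type u) [AddCommGroup M] [Module A M] [Module.Finite A M] (d : ℕ) :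
    projectiveDimension (ModuleCat.of A M) = (d : WithBot ℕ∞) ↔
      ((∀ j : ℕ, d < j → Subsingleton (Abelian.Ext (ModuleCat.of A M) (ModuleCat.of A A) j)) ∧
        Nontrivial (Abelian.Ext (ModuleCat.of A M) (ModuleCat.of A A) d)) := by
  obtain ⟨n, hn, -⟩ := Groth.Agent.RegLoc.exists_natCast_eq_ringKrullDim A
  have hpd := Groth.Agent.RegLoc.Homological.pd_le_dim hn M
  constructor
  · intro h
    have hle : CategoryTheory.HasProjectiveDimensionLE (ModuleCat.of A M) d :=
      (CategoryTheory.projectiveDimension_le_iff _ _).1 h.le
    have hlt : ¬ CategoryTheory.HasProjectiveDimensionLT (ModuleCat.of A M) d :=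
      (CategoryTheory.projectiveDimension_ge_iff _ _).1 h.ge
    refine ⟨fun j hj => CAlgA.ExtSelf.subsingleton_ext hle hj, ?_⟩
    cases d with
    | zero =>
      have : Module.Projective A M := (Groth.Agent.RegLoc.PD.pd_zero_iff M).1 hle
      have : Nontrivial M := by
        rw [← not_subsingleton_iff_nontrivial]
        intro hs
        exact hlt ((CategoryTheory.hasProjectiveDimensionLT_zero_iff_isZero _).2 (ModuleCat.isZero_of_subsingleton (ModuleCat.of A M)))
      exact CAlgA.ExtSelf.nontrivial_ext_zero M
    | succ d => exact CAlgA.ExtSelf.nontrivial_ext_succ d M hle hlt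
  · rintro ⟨h1, h2⟩
    refine le_antisymm ((CategoryTheory.projectiveDimension_le_iff _ _).2
      (CAlgA.ExtSelf.le_of_ext_subsingleton hpd fun j hj _ => h1 j hj)) ((CategoryTheory.projectiveDimension_ge_iff _ _).2 fun h => ?_)
    exact not_subsingleton_iff_nontrivial.2 h2 (subsingleton_of_forall_eq 0 fun e => e.eq_zero_of_hasProjectiveDimensionLT d le_rfl)

end Groth.Agent.S10933
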