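import Groth.Statements.S10935
import Groth.Agent.WeakAssSch.Unit
import Groth.Agent.WeakAssSch.Basic
import Mathlib.RingTheory.PrincipalIdealDomainOfPrime
import Mathlib.RingTheory.Ideal.AssociatedPrime.Localization
import Mathlib.RingTheory.Flat.TorsionFree
import Mathlib.AlgebraicGeometry.Morphisms.Flat
-- import your own Groth.Agent.* helpers here

set_option autoImplicit false
set_option linter.style.haveILetI false
universe u
open CategoryTheory CategoryTheory.Limits AlgebraicGeometry
open FlatMor

namespace Groth.Agent.S10935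

/-- A zero divisor of a local ring lies in the maximal ideal at an associated generization. -/
theorem exists_assPoint {X : Scheme.{u}} [IsLocallyNoetherian X] (x : X) {a b : X.presheaf.stalk x}
    (ha : a ≠ 0) (hab : b * a = 0) :
    ∃ (x' : X) (h : x' ⤳ x), Curv2.IsAssPoint (Coh.structureModule X) x' ∧
      ¬ IsUnit (X.presheaf.stalkSpecializes h b) := by
  classical
  haveI : (Coh.structureModule X).IsQuasicoherent := WeakAssSch.isQuasicoherent_unit X
  obtain ⟨_, ⟨V, hV, rfl⟩, hxV, -⟩ :=
    X.isBasis_affineOpens.exists_subset_of_mem_open (Set.mem_univ x) isOpen_univ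
  haveI : IsNoetherianRing Γ(X, V) := IsLocallyNoetherian.component_noetherian ⟨V, hV⟩
  letI := X.presheaf.algebra_section_stalk ⟨x, hxV⟩
  haveI := hV.isLocalization_stalk ⟨x, hxV⟩
  obtain ⟨p, hp, hbp⟩ : ∃ p ∈ associatedPrimes (X.presheaf.stalk x) (X.presheaf.stalk x), b ∈ p := by
    have hmem : b ∈ ⋃ p ∈ associatedPrimes (X.presheaf.stalk x) (X.presheaf.stalk x),
        (p : Set (X.presheaf.stalk x)) := by
      rw [biUnion_associatedPrimes_eq_zero_divisors]
      exact ⟨a, ha, hab⟩
    simpa using hmem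
  haveI : p.IsPrime := AssociatedPrimes.mem_iff.mp hp |>.isPrime
  let q : Ideal Γ(X, V) := p.comap (algebraMap Γ(X, V) (X.presheaf.stalk x))
  have hq : q ∈ associatedPrimes Γ(X, V) Γ(X, V) :=
    Module.associatedPrimes.comap_mem_associatedPrimes_of_mem_associatedPrimes_of_isLocalizedModule_of_fg
      (hV.primeIdealOf ⟨x, hxV⟩).asIdeal.primeCompl
      (Algebra.linearMap Γ(X, V) (X.presheaf.stalk x)) p hp (IsNoetherian.noetherian _)
  obtain ⟨x', hx'V, hx'⟩ := WeakAssSch.exists_point_of_prime hV q
  have hle : q ≤ (hV.primeIdealOf ⟨x, hxV⟩).asIdeal :=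
    (Ideal.comap_mono (IsLocalRing.le_maximalIdeal (Ideal.IsPrime.ne_top inferInstance))).trans_eq
      (IsLocalization.AtPrime.under_maximalIdeal (X.presheaf.stalk x) _)
  have h : x' ⤳ x := by
    have hs : hV.primeIdealOf ⟨x', hx'V⟩ ⤳ hV.primeIdealOf ⟨x, hxV⟩ :=
      (PrimeSpectrum.le_iff_specializes _ _).mp (hx'.le.trans hle)
    have := hs.map hV.fromSpec.continuous
    rwa [hV.fromSpec_primeIdealOf, hV.fromSpec_primeIdealOf] at this
  refine ⟨x', h, ?_, ?_⟩
  · rw [WeakAssSch.isAssPoint_iff_isWeakAssPoint, WeakAssSch.isWeakAssPoint_iff_mem _ hV x' hx'V, hx']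
    refine WeakAss.mem_weakAss_of_mem_ass ?_
    obtain ⟨hqp, m, hm⟩ := isAssociatedPrime_iff.mp (AssociatedPrimes.mem_iff.mp hq)
    refine ⟨hqp, m, ?_⟩
    rw [hm]
    ext e
    exact Submodule.mem_colon_singleton.trans WeakAss.mem_ann.symm
  · intro hu
    obtain ⟨⟨c, d⟩, hcd⟩ :=
      IsLocalization.surj (hV.primeIdealOf ⟨x, hxV⟩).asIdeal.primeCompl b
    have hc : c ∈ q := by
      change algebraMap Γ(X, V) (X.presheaf.stalk x) c ∈ p
      rw [← hcd]
      exact Ideal.mul_mem_right _ _ hbp
    letI := X.presheaf.algebra_section_stalk ⟨x', hx'V⟩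
    haveI := hV.isLocalization_stalk ⟨x', hx'V⟩
    have hgerm : ∀ e : Γ(X, V), X.presheaf.stalkSpecializes h (algebraMap Γ(X, V) (X.presheaf.stalk x) e) =
        algebraMap Γ(X, V) (X.presheaf.stalk x') e := fun e =>
      ConcreteCategory.congr_hom (X.presheaf.germ_stalkSpecializes (U := V) hxV h) e
    have h1 := congrArg (X.presheaf.stalkSpecializes h) hcd
    rw [map_mul, hgerm, hgerm] at h1
    have hd : IsUnit (algebraMap Γ(X, V) (X.presheaf.stalk x') d) :=
      (IsLocalization.AtPrime.isUnit_to_map_iff (X.presheaf.stalk x')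
        (hV.primeIdealOf ⟨x', hx'V⟩).asIdeal _).mpr fun hdq => d.2 (hle (hx' ▸ hdq))
    have := (IsLocalization.AtPrime.isUnit_to_map_iff (X.presheaf.stalk x')
        (hV.primeIdealOf ⟨x', hx'V⟩).asIdeal c).mp (h1 ▸ hu.mul hd)
    exact this (hx'.symm ▸ hc)

/-- Let Y be an integral, regular (every local ring a regular local ring), one-dimensional scheme with
generic point η, X a Noetherian scheme and f : X → Y a morphism. Then f is flat if and only if every
associated point x of X — a point such that the maximal ideal of O_{X,x} is an associated prime of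
O_{X,x} — satisfies f(x) = η. -/
theorem result {X Y : Scheme.{u}} (f : X ⟶ Y)
    [IsIntegral Y] (hreg : ∀ y : Y, IsRegularLocalRing (Y.presheaf.stalk y))
    (hY : topologicalKrullDim ↥Y = 1) [IsNoetherian X] :
    Flat f ↔ ∀ x : X, Curv2.IsAssPoint (Coh.structureModule X) x → f.base x = genericPoint ↥Y := by
  classical
  haveI : IsLocallyNoetherian X := inferInstance
  constructor
  · intro hflat x hx
    by_contra hne
    have h0 : ringKrullDim (Y.presheaf.stalk (f x)) ≠ 0 ∧ True := ⟨?_, trivial⟩
    swap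
    · intro h0
      refine hne ?_
      rw [ringKrullDim_stalk_eq_coheight] at h0
      have hmax : IsMax (f.base x) := Order.coheight_eq_zero.mp (by exact_mod_cast h0)
      exact (Specializes.antisymm (hmax (genericPoint_specializes (f.base x)))
        (genericPoint_specializes (f.base x))).eq
    haveI := hreg (f x)
    obtain ⟨r, hr, hr0⟩ : ∃ r ∈ IsLocalRing.maximalIdeal (Y.presheaf.stalk (f x)), r ≠ 0 := by
      by_contra hall
      push Not at hall
      exact h0.1 (ringKrullDim_eq_zero_of_isField (IsLocalRing.isField_iff_maximalIdeal_eq.mpr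
        ((Submodule.eq_bot_iff _).mpr hall)))
    algebraize [(f.stalkMap x).hom]
    haveI : Module.Flat (Y.presheaf.stalk (f x)) (X.presheaf.stalk x) :=
      RingHom.flat_algebraMap_iff.mp (Flat.stalkMap f x)
    obtain ⟨_, ⟨V, hV, rfl⟩, hxV, -⟩ :=
      X.isBasis_affineOpens.exists_subset_of_mem_open (Set.mem_univ x) isOpen_univ
    haveI : IsNoetherianRing Γ(X, V) := IsLocallyNoetherian.component_noetherian ⟨V, hV⟩
    haveI : (Coh.structureModule X).IsQuasicoherent := WeakAssSch.isQuasicoherent_unit X
    rw [WeakAssSch.isAssPoint_iff_isWeakAssPoint, WeakAssSch.isWeakAssPoint_iff_mem _ hV x hxV] at hx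
    obtain ⟨-, m, hm⟩ :=
      (WeakAss.mem_ass_of_fg (IsNoetherian.noetherian _) hx :
        (hV.primeIdealOf ⟨x, hxV⟩).asIdeal ∈ FlatCA.ass Γ(X, V) Γ(X, V))
    letI := X.presheaf.algebra_section_stalk ⟨x, hxV⟩
    haveI := hV.isLocalization_stalk ⟨x, hxV⟩
    let μ : X.presheaf.stalk x := algebraMap Γ(X, V) (X.presheaf.stalk x) m
    have hμ : μ ≠ 0 := by
      intro h0'
      obtain ⟨c, hc⟩ := (IsLocalization.map_eq_zero_iff (hV.primeIdealOf ⟨x, hxV⟩).asIdeal.primeCompl
        (X.presheaf.stalk x) m).mp h0'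
      exact c.2 (hm.ge (WeakAss.mem_ann.mpr hc))
    have hkill : f.stalkMap x r * μ = 0 := by
      obtain ⟨⟨c, d⟩, hcd⟩ := IsLocalization.surj (hV.primeIdealOf ⟨x, hxV⟩).asIdeal.primeCompl
        (f.stalkMap x r)
      have hφ : ¬ IsUnit (f.stalkMap x r) :=
        fun hu => hr (IsLocalHom.map_nonunit (f := (f.stalkMap x).hom) r hu)
      have hc : c ∈ (hV.primeIdealOf ⟨x, hxV⟩).asIdeal := by
        by_contra hc
        have hcu := (IsLocalization.AtPrime.isUnit_to_map_iff (X.presheaf.stalk x)
          (hV.primeIdealOf ⟨x, hxV⟩).asIdeal c).mpr hc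
        rw [← hcd] at hcu
        exact hφ (isUnit_of_mul_isUnit_left hcu)
      have hcm : c * m = 0 := WeakAss.mem_ann.mp (hm.le hc)
      refine (IsUnit.mul_left_eq_zero (IsLocalization.map_units (X.presheaf.stalk x) d)).mp ?_
      rw [mul_right_comm, hcd]
      exact (map_mul (algebraMap Γ(X, V) (X.presheaf.stalk x)) c m).symm.trans (by rw [hcm, map_zero])
    exact hμ ((smul_eq_zero.mp (show r • μ = 0 from hkill)).resolve_left hr0)
  · intro hass
    rw [Flat.iff_flat_stalkMap]
    intro x
    haveI := hreg (f x)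
    haveI : Ring.KrullDimLE 1 (Y.presheaf.stalk (f x)) := by
      rw [Ring.krullDimLE_iff, ringKrullDim_stalk_eq_coheight]
      exact (Order.coheight_le_krullDim (f x)).trans_eq
        ((Order.krullDim_eq_of_orderIso irreducibleSetEquivPoints).symm.trans hY)
    haveI : IsPrincipalIdealRing (Y.presheaf.stalk (f x)) := by
      refine IsPrincipalIdealRing.of_prime_ne_bot fun P hP hne => ?_
      haveI := (Ring.krullDimLE_one_iff_of_noZeroDivisors.mp ‹_› P) hne hP
      rw [IsLocalRing.eq_maximalIdeal this]
      refine IsLocalRing.finrank_cotangentSpace_le_one_iff.mp ?_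
      have h1 := (IsRegularLocalRing.iff_finrank_cotangentSpace _).mp (hreg (f x))
      have h2 := Ring.krullDimLE_iff.mp ‹Ring.KrullDimLE 1 (Y.presheaf.stalk (f x))›
      rw [← h1] at h2
      exact_mod_cast h2
    algebraize [(f.stalkMap x).hom]
    haveI : Module.IsTorsionFree (Y.presheaf.stalk (f x)) (X.presheaf.stalk x) := by
      refine Module.isTorsionFree_iff_smul_eq_zero.mpr fun r m hrm => ?_
      by_contra hc
      rw [not_or] at hc
      obtain ⟨x', h, hx', hu⟩ := exists_assPoint x hc.2 (show f.stalkMap x r * m = 0 from hrm)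
      refine hu ?_
      have hfld : IsField (Y.presheaf.stalk (f x')) := by
        have := hass x' hx'
        change IsField (Y.presheaf.stalk (f.base x'))
        rw [this]
        exact Field.toIsField Y.functionField
      rw [← Scheme.Hom.stalkSpecializes_stalkMap_apply f x' x h r]
      refine IsUnit.map (f.stalkMap x').hom ?_
      letI := hfld.toField
      refine isUnit_iff_ne_zero.mpr fun h0 => hc.1 ?_
      refine (injective_iff_map_eq_zero (Y.presheaf.stalkSpecializes
        (genericPoint_specializes (f x))).hom).mp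
        (IsFractionRing.injective (Y.presheaf.stalk (f x)) Y.functionField) r ?_
      rw [← TopCat.Presheaf.stalkSpecializes_comp (F := Y.presheaf)
        (genericPoint_specializes (f x')) (h.map f.continuous), CommRingCat.comp_apply]
      rw [show (Y.presheaf.stalkSpecializes (h.map f.continuous)) r = 0 from h0, map_zero]
    exact RingHom.flat_algebraMap_iff.mpr inferInstance

end Groth.Agent.S10935
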