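import Groth.Statements.S10937
import Groth.Agent.TanSmooth.Rank

set_option autoImplicit false
universe u
open CategoryTheory CategoryTheory.Limits AlgebraicGeometry
open Variety
attribute [-instance] CategoryTheory.ReflQuiver.toQuiver

namespace Groth.Agent.S10937

/-- (a)⇔(b): let k be an algebraically closed field, X and Y nonsingular varieties over k (integral,
separated, of finite type and smooth over k) with dim Y = dY and dim X = dY + n, and f : X → Y a
k-morphism. Then f is smooth of relative dimension n if and only if Ω_{X/Y} (the conormal sheaf of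
the diagonal of f) is locally free of rank n. -/
theorem result (k : Type u) [Field k] [IsAlgClosed k]
    {X Y : Scheme.{u}} (qX : X ⟶ Spec (CommRingCat.of k)) (qY : Y ⟶ Spec (CommRingCat.of k))
    [IsIntegral X] [IsSeparated qX] [LocallyOfFiniteType qX] [QuasiCompact qX] [Smooth qX]
    [IsIntegral Y] [IsSeparated qY] [LocallyOfFiniteType qY] [QuasiCompact qY] [Smooth qY]
    (f : X ⟶ Y) (hf : f ≫ qY = qX) (n dY : ℕ) (hY : topologicalKrullDim ↥Y = dY)
    (hX : topologicalKrullDim ↥X = ((dY + n : ℕ) : WithBot ℕ∞)) :
    SmoothOfRelativeDimension n f ↔ FlatMod.IsFinLocFreeOfRank n (Omega.sheaf f) := by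
  subst hf
  have : QuasiSeparated f := QuasiSeparated.of_comp f qY
  constructor
  · intro h x
    have : Smooth f := SmoothOfRelativeDimension.smooth n f
    obtain ⟨U, m, hxU, hiso, hm⟩ := Groth.Agent.S5019.result f (Omega.sheaf f) (OmegaSh.dOmega f)
      (Groth.Agent.Omega.DiagUniv.isUniversal_dOmega f) x
    rw [Groth.Agent.S2768.result n f x] at hm
    obtain rfl : n = m := by exact_mod_cast hm
    exact ⟨U, hxU, hiso⟩
  · intro h
    have : Smooth f := Groth.Agent.TanSmooth.smooth_of_isFinLocFreeOfRank f qY n dY
      (fun y => by rw [Groth.Agent.TanSmooth.fibreDimAt_of_field,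
        Groth.Agent.TanSmooth.localDim_of_irreducible qY, hY])
      (fun x => by rw [Groth.Agent.TanSmooth.fibreDimAt_of_field,
        Groth.Agent.TanSmooth.localDim_of_irreducible (f ≫ qY), hX]) h
    refine Groth.Agent.TanSmooth.smoothOfRelativeDimension_of_fibreDim f n fun x => ?_
    obtain ⟨m, hm, hm'⟩ := Groth.Agent.TanSmooth.fibreDimAt_add f qY (dY + n) dY hX hY x
    obtain rfl : m = n := by omega
    exact hm

end Groth.Agent.S10937
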