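import Groth.Statements.S10938
import Groth.Agent.TanSmooth.RankLe

set_option autoImplicit false
universe u
open CategoryTheory CategoryTheory.Limits AlgebraicGeometry
open Variety
attribute [-instance] CategoryTheory.ReflQuiver.toQuiver

namespace Groth.Agent.S10938

/-- Let k be an algebraically closed field of characteristic zero, X and Y schemes of finite type over
k, f : X → Y a k-morphism and r a natural number. Let X_r be the set of closed points x of X such
that the tangent map T_x f : T_x X → T_{f(x)} Y has rank at most r — equivalently, the image of the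
cotangent map m_{f(x)}/m_{f(x)}^2 → m_x/m_x^2 is contained in the span of at most r vectors over the
residue field. Then the closure of f(X_r) in Y has (topological Krull) dimension at most r. -/
theorem result (k : Type u) [Field k] [IsAlgClosed k] [CharZero k]
    {X Y : Scheme.{u}} (qX : X ⟶ Spec (CommRingCat.of k)) (qY : Y ⟶ Spec (CommRingCat.of k))
    [LocallyOfFiniteType qX] [QuasiCompact qX] [LocallyOfFiniteType qY] [QuasiCompact qY]
    (f : X ⟶ Y) (hf : f ≫ qY = qX) (r : ℕ) :
    topologicalKrullDim ↥(closure (f.base '' {x : ↥X | IsClosed ({x} : Set ↥X) ∧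
      ∃ S : Finset (IsLocalRing.CotangentSpace (X.presheaf.stalk x)), S.card ≤ r ∧
        (LinearMap.range (FixPt.cotangentMapAt f x (f.base x) rfl) : Set (IsLocalRing.CotangentSpace (X.presheaf.stalk x))) ⊆
          (Submodule.span (IsLocalRing.ResidueField (X.presheaf.stalk x))
            (S : Set (IsLocalRing.CotangentSpace (X.presheaf.stalk x))) : Set (IsLocalRing.CotangentSpace (X.presheaf.stalk x)))})) ≤ r := by
  subst hf
  letI : Y.Over (Spec (CommRingCat.of k)) := ⟨qY⟩
  haveI : LocallyOfFiniteType (Y ↘ Spec (CommRingCat.of k)) := ‹LocallyOfFiniteType qY›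
  haveI : LocallyOfFiniteType (f ≫ Y ↘ Spec (CommRingCat.of k)) := ‹LocallyOfFiniteType (f ≫ qY)›
  haveI : CompactSpace Y := QuasiCompact.compactSpace_of_compactSpace qY
  haveI : CompactSpace X := QuasiCompact.compactSpace_of_compactSpace (f ≫ qY)
  haveI : IsLocallyNoetherian Y := LocallyOfFiniteType.isLocallyNoetherian qY
  haveI : IsLocallyNoetherian X := LocallyOfFiniteType.isLocallyNoetherian (f ≫ qY)
  haveI : AlgebraicGeometry.IsNoetherian Y := ⟨⟩
  haveI : AlgebraicGeometry.IsNoetherian X := ⟨⟩
  refine Groth.Agent.TanSmooth.topologicalKrullDim_closed_le (k := k) isClosed_closure fun z hz => ?_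
  refine Groth.Agent.TanSmooth.dimPt_le_of_mem_closure_image f r _ (fun x hx => hx) ⊤ z ?_
  rwa [TopologicalSpace.Closeds.coe_top, Set.inter_univ]

end Groth.Agent.S10938
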