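import Groth.Statements.S10941
import Groth.Agent.FlatOpen.EquiDim
import Groth.Agent.AlgSpD.FibreDimBC

set_option autoImplicit false
set_option linter.style.haveILetI false
universe u
open CategoryTheory CategoryTheory.Limits AlgebraicGeometry
open FlatMor

namespace Groth.Agent.S10941

/-- Let k be a field, X, Y and Y' schemes of finite type over k with Y irreducible, f : X → Y a flat
k-morphism and n a natural number such that every irreducible component of X has dimension dim Y +
n. Let g : Y' → Y be a k-morphism and f' : X ×_Y Y' → Y' the base change of f. Then for every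
irreducible closed subset V of Y', every irreducible component of the preimage of V under f' (with
the subspace topology) has dimension dim V + n. In particular (Y' = Y) every irreducible component
of f⁻¹(V) has dimension dim V + n for every irreducible closed V ⊆ Y. -/
theorem result (k : Type u) [Field k]
    {X Y Y' : Scheme.{u}} (qX : X ⟶ Spec (CommRingCat.of k)) (qY : Y ⟶ Spec (CommRingCat.of k))
    (qY' : Y' ⟶ Spec (CommRingCat.of k))
    [LocallyOfFiniteType qX] [QuasiCompact qX] [LocallyOfFiniteType qY] [QuasiCompact qY]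
    [LocallyOfFiniteType qY'] [QuasiCompact qY']
    [IrreducibleSpace ↥Y] (f : X ⟶ Y) (hf : f ≫ qY = qX) [Flat f] (n : ℕ)
    (hX : ∀ Z : Set ↥X, Z ∈ irreducibleComponents ↥X →
      topologicalKrullDim ↥Z = topologicalKrullDim ↥Y + (n : WithBot ℕ∞))
    (g : Y' ⟶ Y) (hg : g ≫ qY = qY')
    (V : Set ↥Y') (hV : IsClosed V) (hVirr : IsIrreducible V)
    (W : Set ↥((pullback.snd f g).base ⁻¹' V))
    (hW : W ∈ irreducibleComponents ↥((pullback.snd f g).base ⁻¹' V)) :
    topologicalKrullDim ↥W = topologicalKrullDim ↥V + (n : WithBot ℕ∞) := by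
  letI : X.Over (Spec (CommRingCat.of k)) := ⟨qX⟩
  letI : Y.Over (Spec (CommRingCat.of k)) := ⟨qY⟩
  haveI : LocallyOfFiniteType (X ↘ Spec (CommRingCat.of k)) := ‹LocallyOfFiniteType qX›
  haveI : LocallyOfFiniteType (Y ↘ Spec (CommRingCat.of k)) := ‹LocallyOfFiniteType qY›
  haveI : LocallyOfFiniteType f := by
    haveI : LocallyOfFiniteType (f ≫ qY) := by rw [hf]; infer_instance
    exact locallyOfFiniteType_of_comp f qY
  have hd := VarDim.topologicalKrullDim_eq_of_irreducible k (X := Y)
  rw [hd, ← Nat.cast_add, FlatOpen.EquiDim.irreducibleComponents_dimPt_iff k] at hX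
  have hrel : Cyc.HasRelDim f n := (FlatOpen.EquiDim.dimPt_iff_hasRelDim k qX qY f hf _ n
    fun y hy => by rw [hy _ (genericPoint_specializes y)]).1 hX
  let P := pullback f g
  let f' : P ⟶ Y' := pullback.snd f g
  haveI : Flat f' := inferInstance
  haveI : LocallyOfFiniteType f' := inferInstance
  let qP : P ⟶ Spec (CommRingCat.of k) := f' ≫ qY'
  haveI : LocallyOfFiniteType qP := inferInstance
  letI : P.Over (Spec (CommRingCat.of k)) := ⟨qP⟩
  letI : Y'.Over (Spec (CommRingCat.of k)) := ⟨qY'⟩
  haveI : LocallyOfFiniteType (P ↘ Spec (CommRingCat.of k)) := ‹LocallyOfFiniteType qP›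
  haveI : LocallyOfFiniteType (Y' ↘ Spec (CommRingCat.of k)) := ‹LocallyOfFiniteType qY'›
  -- the generic points of `V` and `W`
  let v := hVirr.genericPoint
  have hv : IsGenericPoint v V := by simpa [hV.closure_eq] using hVirr.isGenericPoint_genericPoint_closure
  let T : Set P := Subtype.val '' W
  have hpre : IsClosed (f' ⁻¹' V) := hV.preimage f'.continuous
  have hTc : IsClosed T :=
    hpre.isClosedEmbedding_subtypeVal.isClosed_iff_image_isClosed.1 (isClosed_of_mem_irreducibleComponents W hW)
  have hTi : IsIrreducible T := hW.1.image _ continuous_subtype_val.continuousOn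
  let w := hTi.genericPoint
  have hw : IsGenericPoint w T := by simpa [hTc.closure_eq] using hTi.isGenericPoint_genericPoint_closure
  have hTV : T ⊆ f' ⁻¹' V := by rintro _ ⟨a, -, rfl⟩; exact a.2
  have hmax : ∀ z : P, z ⤳ w → f' z ∈ V → z = w := by
    intro z hz hzV
    have hsub : closure ({z} : Set P) ⊆ f' ⁻¹' V :=
      closure_minimal (Set.singleton_subset_iff.2 hzV) hpre
    have hirr : IsIrreducible (Subtype.val ⁻¹' closure ({z} : Set P) : Set ↥(f' ⁻¹' V)) := by
      have hrw : (Subtype.val ⁻¹' closure ({z} : Set P) : Set ↥(f' ⁻¹' V)) = closure {⟨z, hzV⟩} := by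
        rw [hpre.isClosedEmbedding_subtypeVal.isInducing.closure_eq_preimage_closure_image,
          Set.image_singleton]
      rw [hrw]
      exact isIrreducible_singleton.closure
    have hWsub : W ⊆ Subtype.val ⁻¹' closure ({z} : Set P) := fun a ha =>
      ((hw.specializes (Set.mem_image_of_mem _ ha)).mem_closed isClosed_closure
        (specializes_iff_mem_closure.1 hz))
    have h3 := hW.2 hirr hWsub (show (⟨z, hzV⟩ : ↥(f' ⁻¹' V)) ∈ _ from subset_closure rfl)
    exact (hz.antisymm (hw.specializes (Set.mem_image_of_mem _ h3))).eq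
  have hwv : f' w = v := by
    have hwV : f' w ∈ V := hTV hw.mem
    obtain ⟨z, hz, hzv⟩ := Flat.generalizingMap f' (hv.specializes hwV)
    rw [← hmax z hz (hzv ▸ hv.mem), hzv]
  have hfmax : FlatOpen.EquiDim.FMax f' w := fun z hz hfz => hmax z hz (hfz ▸ hwv ▸ hv.mem)
  have hfd : FlatMor.fibreDimAt f' w = n := by
    rw [AlgSpD.fibreDimAt_of_isPullback f (IsPullback.of_hasPullback f g) w]
    exact FlatOpen.EquiDim.fibreDimAt_eq_of_hasRelDim f hrel _
  obtain ⟨j, hj, he⟩ := CycLib.deltaCompat_fdelta k f' qP qY' rfl w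
  have hjn : j = n := by
    have h1 := FlatOpen.EquiDim.fibreDimAt_eq_trdeg f' hfmax hfd
    rw [hj] at h1
    exact_mod_cast h1
  have hWdim : topologicalKrullDim ↥W = topologicalKrullDim ↥T :=
    IsHomeomorph.topologicalKrullDim_eq _
      ((Topology.IsEmbedding.subtypeVal.homeomorphImage W).isHomeomorph)
  rw [hWdim, ← hv.def, show T = closure {w} from hw.def.symm, CycLib.topologicalKrullDim_closure,
    CycLib.topologicalKrullDim_closure, VarDim.height_eq_dimPt k w, VarDim.height_eq_dimPt k v]
  have he' : ((VarDim.dimPt k P w : ℕ) : ℤ) = (VarDim.dimPt k Y' (f' w) : ℕ) + (j : ℕ) := he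
  rw [hwv] at he'
  have he'' : VarDim.dimPt k P w = VarDim.dimPt k Y' v + n := by rw [← hjn]; exact_mod_cast he'
  rw [he'']
  push_cast
  rfl

end Groth.Agent.S10941
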