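import Groth.Statements.S10944
import Groth.Agent.FlatMor.GenericPts

set_option autoImplicit false
universe u
open CategoryTheory AlgebraicGeometry
open FlatMor

namespace Groth.Agent.S10944

/-- Let f : X → Y be a flat morphism of Noetherian schemes and Y' an irreducible component of Y. Then
f⁻¹(Y') is the union of the irreducible components Z of X with f(Z) ⊆ Y'. -/
theorem result {X Y : Scheme.{u}}
    [IsNoetherian X] [IsNoetherian Y] (f : X ⟶ Y) [Flat f]
    (Y' : Set ↥Y) (hY' : Y' ∈ irreducibleComponents ↥Y) :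
    f.base ⁻¹' Y' = ⋃₀ {Z : Set ↥X | Z ∈ irreducibleComponents ↥X ∧ f.base '' Z ⊆ Y'} := by
  ext x
  constructor
  · intro hx
    obtain ⟨η, hη, hc⟩ : ∃ η : Y, η ⤳ f x ∧ Y' = closure {η} := by
      have hcl := isClosed_of_mem_irreducibleComponents Y' hY'
      have hg := hY'.1.isGenericPoint_genericPoint hcl
      exact ⟨_, hg.specializes hx, hg.def.symm⟩
    obtain ⟨w, hw, hfw⟩ := Flat.generalizingMap f hη
    obtain ⟨η₀, h₀, hη₀⟩ := FlatMor.GenericPts.exists_generic_specializes w
    refine ⟨closure {η₀}, ⟨h₀, ?_⟩, specializes_iff_mem_closure.mp (hη₀.trans hw)⟩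
    have h1 : f η₀ ⤳ η := hfw ▸ hη₀.map f.continuous
    have h2 : η ⤳ f η₀ :=
      (FlatMor.GenericPts.closure_mem_irreducibleComponents_iff η).mp (hc ▸ hY') _ h1
    refine (image_closure_subset_closure_image f.continuous).trans ?_
    rw [Set.image_singleton, hc]
    exact (specializes_iff_closure_subset.mp h2)
  · rintro ⟨Z, ⟨-, hZ⟩, hx⟩
    exact hZ ⟨x, hx, rfl⟩

end Groth.Agent.S10944
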