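import Groth.Statements.S10945
import Groth.Agent.GGLift.Basic

set_option autoImplicit false
universe u
open CategoryTheory AlgebraicGeometry Opposite
open Coherent

namespace Groth.Agent.S10945

/-- Let X be a scheme and 0 → F' → F → F'' → 0 a short exact sequence of O_X-modules whose map on global
sections Γ(X, F) → Γ(X, F'') is surjective. If F' and F'' are generated by global sections (each is
a quotient of a free O_X-module), then F is generated by global sections. -/
theorem result (X : Scheme.{u})
    (S : ShortComplex X.Modules) (hS : S.ShortExact)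
    (hsurj : Function.Surjective (S.g.val.app (op ⊤)).hom)
    (h1 : Curv2.IsGloballyGenerated S.X₁) (h3 : Curv2.IsGloballyGenerated S.X₃) :
    Curv2.IsGloballyGenerated S.X₂ := by
  obtain ⟨ι₁, p₁, hp₁⟩ := h1
  obtain ⟨ι₃, p₃, hp₃⟩ := h3
  have hs : ∀ s : S.X₃.sections, ∃ t : S.X₂.sections, SheafOfModules.sectionsMap S.g t = s := by
    intro s
    obtain ⟨t, ht⟩ := hsurj (s.val (op ⊤))
    refine ⟨PresheafOfModules.sectionsMk (fun U ↦ S.X₂.val.map (homOfLE le_top).op t)
      fun {U V} f ↦ ?_, ?_⟩
    · exact (PresheafOfModules.map_comp_apply _ _ f t).symm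
    · apply PresheafOfModules.sections_ext
      intro U
      refine (PresheafOfModules.naturality_apply S.g.val (homOfLE (le_top (a := U.unop))).op t).trans ?_
      exact (congrArg _ ht).trans (s.property (homOfLE (le_top (a := U.unop))).op)
  obtain ⟨q, hq⟩ := GGLift.exists_epi_free hS hs p₁ p₃
  exact ⟨ι₁ ⊕ ι₃, q, hq⟩

end Groth.Agent.S10945
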