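import Groth.Statements.S10947
import Groth.Agent.S0010
import Groth.Agent.ProjTwist.Pn.Finite
import Groth.Agent.ProjProper.Basic
import Groth.Agent.ProperFin.FiniteMap
import Groth.Agent.Props.SubExt
import Groth.Agent.Props.KilledSub
import Groth.Agent.KFlat.TensorLocFree
import Groth.Agent.ProjForm.Unit
import Groth.Agent.ZClosLib.CohDescent

set_option autoImplicit false
universe u
open CategoryTheory AlgebraicGeometry
open Coherent

namespace Groth.Agent.S10947

/-- Let k be a field and X a quasi-projective scheme over k, given with an immersion ι : X → P^N_k into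
a projective space. If n is a natural number with H^i(X, E) = 0 for all finite locally free
O_X-modules E and all i > n, then H^i(X, F) = 0 for all coherent O_X-modules F (quasi-coherent of
finite type) and all i > n. -/
theorem result
    (k : Type u) [Field k] (N : ℕ) {X : Scheme.{u}} (ι : X ⟶ CohB1.ProjSpace N k) [IsImmersion ι]
    (n : ℕ) (h : ∀ E : X.Modules, FlatMod.IsFinLocFree E → ∀ i : ℕ, n < i → Subsingleton (Coh.HH X E i))
    (F : X.Modules) (hF : Coh.IsCoh F) (i : ℕ) (hi : n < i) :
    Subsingleton (Coh.HH X F i) := by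
  classical
  have : IsLocallyNoetherian (CohB1.ProjSpace N k) :=
    ProjTwist.Pn.isLocallyNoetherian_projSpace N k
  have : IsProper (CohB1.ProjSpace.toSpec N k) := ProjProper.Basic.isProper_toSpec N k
  have : IsSeparated (CohB1.ProjSpace.toSpec N k) := IsProper.toIsSeparated
  have : CompactSpace (CohB1.ProjSpace N k) := QuasiCompact.compactSpace_of_compactSpace (CohB1.ProjSpace.toSpec N k)
  have : IsNoetherian (CohB1.ProjSpace N k) := {}
  have : IsLocallyNoetherian X := LocallyOfFiniteType.isLocallyNoetherian ι
  have : TopologicalSpace.NoetherianSpace X := ι.isEmbedding.isInducing.noetherianSpace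
  have : (CohB1.ProjSpace N k).IsSeparated :=
    inferInstanceAs (Scheme.IsSeparated (Proj (CohB1.polyGrading N k)))
  have : X.IsSeparated :=
    ⟨Limits.terminal.comp_from ι ▸ (inferInstance : IsSeparated (ι ≫ Limits.terminal.from _))⟩
  -- vanishing in high degrees
  obtain ⟨s, hs⟩ := isCompact_univ.elim_finite_subcover (fun U : X.affineOpens => (U.1 : Set X))
    (fun U => U.1.2) (by
      intro x _
      obtain ⟨W, hW, hxW, -⟩ := exists_isAffineOpen_mem_and_subset (show x ∈ (⊤ : X.Opens) by trivial)
      exact Set.mem_iUnion.2 ⟨⟨W, hW⟩, hxW⟩)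
  have hcov : ⨆ j : Fin s.card, ((s.equivFin.symm j).1.1) = ⊤ := by
    refine eq_top_iff.2 fun x _ => ?_
    obtain ⟨U, hU⟩ := Set.mem_iUnion.1 (hs (Set.mem_univ x))
    obtain ⟨hUs, hxU⟩ := Set.mem_iUnion.1 hU
    exact TopologicalSpace.Opens.mem_iSup.2 ⟨s.equivFin ⟨U, hUs⟩, by simpa using hxU⟩
  suffices H : ∀ m i, n < i → s.card ≤ i + m → ∀ F : X.Modules, Coh.IsCoh F →
      Subsingleton (Coh.HH X F i) from H s.card i hi (by omega) F hF
  intro m
  induction m with
  | zero =>
    intro i _ hm F hF
    have := hF.1
    exact S0010.result X s.card _ (fun j => (s.equivFin.symm j).1.2) hcov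
      (fun V W hV hW => hV.inf hW) F i (by omega)
  | succ m ih =>
    intro i hi hm F hF
    -- extend to the projective space
    let j := ι.liftCoborder
    let V := ι.coborderRange
    have hG := ProperFin.isCoh_push_of_isFinite j F hF
    have := hG.1
    obtain ⟨G', hG'q, hG'f, ⟨e⟩⟩ := Props.SubExt.exists_finiteType_extension
      (X := CohB1.ProjSpace N k) (U := V) (TopologicalSpace.NoetherianSpace.isCompact _)
      ((Coh.push j).obj F) hG.2
    obtain ⟨κ, hκ, d, S, hS, -, hE, rfl⟩ := ProjTwist.Pn.exists_presentation G' ⟨hG'q, hG'f⟩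
    have hfin : FlatMod.IsFinLocFree ((Scheme.Modules.pullback ι).obj S.X₂) := by
      refine KFlat.LocFree.isFinLocFree_pull ι ?_
      rw [hE]
      obtain ⟨c, ⟨ec⟩⟩ := Finite.exists_equiv_fin κ
      exact KFlat.LocFree.isFinLocFree_of_iso (Limits.Sigma.whiskerEquiv ec.symm fun _ => Iso.refl _)
        (KFlat.TensorLocFree.isFinLocFree_sigma _ Finset.univ (by simp) fun _ =>
          ProjForm.isFinLocFree_of_isInvertible (ProjTwist.isInvertible_twistProjSpace N k _))
    -- the pullback of the extension is `F`
    have hff := Props.KilledSub.fullyFaithful j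
    have := hff.full
    have := hff.faithful
    have hj : IsIso ((Scheme.Modules.pullbackPushforwardAdjunction j).counit.app F) := inferInstance
    let eF : (Scheme.Modules.pullback ι).obj S.X₃ ≅ F :=
      (Scheme.Modules.pullbackCongr ι.liftCoborder_ι.symm).app _ ≪≫
        ((Scheme.Modules.pullbackComp j V.ι).app _).symm ≪≫
        (Scheme.Modules.pullback j).mapIso
          (((Scheme.Modules.restrictFunctorIsoPullback V.ι).app _).symm ≪≫ e) ≪≫
        asIso ((Scheme.Modules.pullbackPushforwardAdjunction j).counit.app F)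
    have := Functor.preservesEpimorphisms_of_adjunction (Scheme.Modules.pullbackPushforwardAdjunction ι)
    have : Epi S.g := hS.epi_g
    let φ := (Scheme.Modules.pullback ι).map S.g ≫ eF.hom
    have hEq : Coh.IsQCoh ((Scheme.Modules.pullback ι).obj S.X₂) := by
      have : S.X₂.IsQuasicoherent := by
        rw [hE]
        exact (ProjTwist.Pn.isCoh_sigma _ fun _ => ProjTwist.Pn.isCoh_twistProjSpace N k _).1
      exact inferInstanceAs ((Scheme.Modules.pullback ι).obj S.X₂).IsQuasicoherent
    have hEc : Coh.IsCoh ((Scheme.Modules.pullback ι).obj S.X₂) := by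
      refine ZClosLib.CohDescent.isCoh_pullback ι _ ?_
      rw [hE]
      exact ProjTwist.Pn.isCoh_sigma _ fun _ => ProjTwist.Pn.isCoh_twistProjSpace N k _
    have := h _ hfin i hi
    have := ih (i + 1) (by omega) (by omega) _ (ProjTwist.Pn.isCoh_kernel φ hEc hF.1)
    exact CohLin.subsingleton_X₃ (ProjTwist.Pn.shortExact_kernel φ)

end Groth.Agent.S10947
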