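import Groth.Statements.S10948
import Groth.Agent.CohOps.Generic
-- import your own Groth.Agent.* helpers here

set_option autoImplicit false
universe u
open CategoryTheory AlgebraicGeometry
open Coherent

namespace Groth.Agent.S10948

open Groth.Agent.CohDev Groth.Agent.PullStalk.Sky Groth.Agent.PullStalk.Exact CategoryTheory CategoryTheory.Limits AlgebraicGeometry Opposite

/-- Let f : X → Y be a finite surjective morphism of integral Noetherian schemes. Then there are an
integer r ≥ 1, a coherent O_X-module M (quasi-coherent of finite type) and a morphism of O_Y-modules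
α : O_Y^r → f_*M (O_Y^r the free O_Y-module on r generators) such that the map induced by α on
stalks of the underlying abelian sheaves at the generic point of Y is an isomorphism. -/
theorem result
    {X Y : Scheme.{u}} [IsIntegral X] [IsNoetherian X] [IsIntegral Y] [IsNoetherian Y]
    (f : X ⟶ Y) [IsFinite f] [Surjective f] :
    ∃ (r : ℕ) (M : X.Modules) (α : (SheafOfModules.free (ULift.{u} (Fin r)) : Y.Modules) ⟶
        (Scheme.Modules.pushforward f).obj M),
      0 < r ∧ Coh.IsCoh M ∧
      IsIso ((TopCat.Presheaf.stalkFunctor AddCommGrpCat.{u} (genericPoint ↥Y)).map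
        ((SheafOfModules.toSheaf Y.ringCatSheaf).map α).hom) := by
  classical
  let η := genericPoint ↥Y
  letI : Field (Y.presheaf.stalk η) := inferInstanceAs (Field Y.functionField)
  let O := Coh.structureModule X
  let P := Scheme.Modules.pushforward f
  have hO : Coh.IsCoh O := HomShQC.isCoh_structureModule
  haveI : O.IsQuasicoherent := hO.1
  have hF0 : Coh.IsCoh (P.obj O) := CycLib.isCoh_push O f hO
  haveI : Module.Finite (Y.presheaf.stalk η) ((P.obj O).presheaf.stalk η) := FDesc.QuasiFlat.finite_stalk_of_isCoh _ hF0 η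
  haveI : Nontrivial ((P.obj O).presheaf.stalk η) := by
    obtain ⟨x, hx⟩ := f.surjective η
    let one : Γ(P.obj O, ⊤) := (1 : Γ(X, f ⁻¹ᵁ ⊤))
    refine nontrivial_of_ne (germM (P.obj O) ⊤ η trivial one) 0 fun h => ?_
    obtain ⟨W, hW, i, j, hj⟩ := (P.obj O).presheaf.germ_eq η (show η ∈ (⊤ : Y.Opens) from trivial) (show η ∈ (⊤ : Y.Opens) from trivial) one 0
      (h.trans (map_zero ((P.obj O).presheaf.germ ⊤ η trivial).hom).symm)
    have hxW : x ∈ f ⁻¹ᵁ W := show f x ∈ W from hx ▸ hW
    rw [map_zero] at hj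
    have h1 : (1 : Γ(X, f ⁻¹ᵁ W)) = 0 :=
      (map_one (X.presheaf.map (homOfLE (f.preimage_mono i.le)).op).hom).symm.trans hj
    exact one_ne_zero (α := X.presheaf.stalk x) (by
      rw [← map_one (X.presheaf.germ (f ⁻¹ᵁ W) x hxW).hom]
      exact (congrArg (X.presheaf.germ (f ⁻¹ᵁ W) x hxW) h1).trans (map_zero _))
  let r := Module.finrank (Y.presheaf.stalk η) ((P.obj O).presheaf.stalk η)
  have hr : 0 < r := Module.finrank_pos
  let b : Module.Basis (Fin r) (Y.presheaf.stalk η) ((P.obj O).presheaf.stalk η) := Module.finBasis _ _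
  choose O' hO' e he using fun i => exists_germM_eq (P.obj O) η (b i)
  obtain ⟨V, hV, hηV, hVO⟩ := exists_isAffineOpen_mem_and_subset (X := Y)
    (U := ⨅ i, O' i) (x := η) ((TopologicalSpace.Opens.coe_iInf O').ge (Set.mem_iInter.mpr hO'))
  have hle : ∀ i, V ≤ O' i := fun i => (SetLike.coe_subset_coe.mp hVO).trans (iInf_le _ i)
  let U : X.Opens := f ⁻¹ᵁ V
  let R := Scheme.Modules.restrictFunctor U.ι
  let adjU := Scheme.Modules.restrictAdjunction U.ι
  let T : X.Modules := (Scheme.Modules.pushforward U.ι).obj (R.obj O)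
  let u : O ⟶ T := adjU.unit.app O
  haveI : (R.obj O).IsQuasicoherent := inferInstance
  haveI : T.IsQuasicoherent := QCoh.isQuasicoherent_pushforward U.ι (R.obj O)
  haveI : IsIso (R.map u) := by
    haveI : IsIso (adjU.counit.app (R.obj O)) := inferInstance
    haveI : IsIso (R.map u ≫ adjU.counit.app (R.obj O)) := by
      rw [show R.map u ≫ adjU.counit.app (R.obj O) = 𝟙 _ from adjU.left_triangle_components O]; infer_instance
    exact IsIso.of_isIso_comp_right (R.map u) (adjU.counit.app (R.obj O))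
  haveI : IsIso ((Scheme.Modules.restrictFunctor V.ι).map (P.map u)) := by
    refine Scheme.Modules.Hom.isIso_iff_isIso_app.mpr fun W => (ConcreteCategory.isIso_iff_bijective _).mpr ?_
    refine app_bijective_of_isIso_restrict U.ι u (W := f ⁻¹ᵁ (V.ι ''ᵁ W)) ?_
    rw [Scheme.Opens.opensRange_ι]
    rintro y hy
    obtain ⟨z, -, hz⟩ := (show f y ∈ V.ι ''ᵁ W from hy)
    exact (show f y ∈ V from hz ▸ z.2)
  have hbij := stalk_bijective_of_isIso_restrict V.ι (P.map u) (show η ∈ Set.range V.ι by
    rw [Scheme.Opens.range_ι]; exact hηV)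
  let b' := b.map (LinearEquiv.ofBijective (stalkLin (P.map u) η) hbij)
  have hTop : U.ι ''ᵁ (U.ι ⁻¹ᵁ (f ⁻¹ᵁ ⊤)) ≤ f ⁻¹ᵁ V := by
    rw [Scheme.Hom.image_preimage_eq_opensRange_inf, Scheme.Opens.opensRange_ι]; exact inf_le_left
  let eV : ∀ i, Γ(P.obj O, V) := fun i => (P.obj O).presheaf.map (homOfLE (hle i)).op (e i)
  let σ : Fin r → Γ(P.obj T, ⊤) := fun i => QCoh.res O hTop (show Γ(O, f ⁻¹ᵁ V) from eV i)
  have hσ : ∀ i, germM (P.obj T) ⊤ η trivial (σ i) = b' i := fun i => by
    rw [Module.Basis.map_apply, LinearEquiv.ofBijective_apply, ← he i,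
      show germM (P.obj O) (O' i) η (hO' i) (e i) = germM (P.obj O) V η hηV (eV i) from
        ((P.obj O).presheaf.germ_res_apply (homOfLE (hle i)) η hηV (e i)).symm]
    refine Eq.trans ?_ (stalkLin_germ (P.map u) V η hηV (eV i)).symm
    refine ((P.obj T).presheaf.germ_res_apply (homOfLE (le_top : V ≤ ⊤)) η hηV (σ i)).symm.trans (congrArg _ ?_)
    change QCoh.res O (U.ι.image_mono (U.ι.preimage_mono (f.preimage_mono (le_top : V ≤ ⊤))))
        (QCoh.res O hTop (show Γ(O, f ⁻¹ᵁ V) from eV i)) =
      QCoh.res O (U.ι.image_preimage_eq_opensRange_inf (f ⁻¹ᵁ V) ▸ inf_le_right) (show Γ(O, f ⁻¹ᵁ V) from eV i)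
    exact QCoh.res_res O _ _ _
  let α₀ : pow (Coh.structureModule Y) r ⟶ P.obj T := biproduct.desc fun i => Props.GenLocus.homOfSec (σ i)
  have hα₀ := CohOps.Generic.bijective_desc σ η b' hσ
  let adj := Scheme.Modules.pullbackPushforwardAdjunction f
  let a := (adj.homEquiv _ _).symm α₀
  have hp : Coh.IsCoh ((Scheme.Modules.pullback f).obj (pow (Coh.structureModule Y) r)) :=
    ZClosLib.CohDescent.isCoh_pullback f _ (isCoh_pow_and_kcl HomShQC.isCoh_structureModule r).1
  let α : pow (Coh.structureModule Y) r ⟶ P.obj (Abelian.image a) := adj.homEquiv _ _ (Abelian.factorThruImage a)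
  have hα : α ≫ P.map (Abelian.image.ι a) = α₀ := by
    rw [← Adjunction.homEquiv_naturality_right, Abelian.image.fac]
    exact (adj.homEquiv _ _).apply_symm_apply α₀
  haveI : PreservesLimitsOfSize.{0, 0} P := adj.rightAdjoint_preservesLimits
  haveI : Mono (Abelian.image.ι a) := inferInstanceAs (Mono (kernel.ι (cokernel.π a)))
  have hαb : Function.Bijective (stalkLin α η) := by
    constructor
    · intro v w h
      refine hα₀.1 ?_
      change stalkLin α₀ η v = stalkLin α₀ η w
      rw [← hα, stalkLin_comp_apply, stalkLin_comp_apply, h]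
    · intro m
      obtain ⟨v, hv⟩ := hα₀.2 (stalkLin (P.map (Abelian.image.ι a)) η m)
      refine ⟨v, stalk_injective (P.map (Abelian.image.ι a)) η ?_⟩
      rw [← stalkLin_comp_apply, hα]
      exact hv
  let c : (show Y.Modules from SheafOfModules.free (ULift.{u} (Fin r))) ≅ pow (Coh.structureModule Y) r :=
    (show (∐ fun _ : ULift.{u} (Fin r) => Coh.structureModule Y) ≅ ∐ fun _ : Fin r => Coh.structureModule Y from
      Sigma.whiskerEquiv (f := fun _ : ULift.{u} (Fin r) => Coh.structureModule Y) (g := fun _ : Fin r => Coh.structureModule Y) Equiv.ulift (fun _ => Iso.refl _)) ≪≫ (biproduct.isoCoproduct (fun _ : Fin r => Coh.structureModule Y)).symm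
  refine ⟨r, Abelian.image a, c.hom ≫ α, hr, isCoh_image a hp (inferInstance : T.IsQuasicoherent),
    (ConcreteCategory.isIso_iff_bijective _).mpr ?_⟩
  change Function.Bijective (stalkLin (c.hom ≫ α) η)
  rw [show ⇑(stalkLin (c.hom ≫ α) η) = stalkLin α η ∘ stalkLin c.hom η from
    funext fun v => stalkLin_comp_apply c.hom α η v]
  refine hαb.comp ⟨stalk_injective c.hom η, fun v => ⟨stalkLin c.inv η v, ?_⟩⟩
  rw [← stalkLin_comp_apply, Iso.inv_hom_id, stalkLin_id_apply]

end Groth.Agent.S10948
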