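import Groth.Statements.S10949
import Groth.Agent.CohOps.Generic
import Groth.Agent.S9523
-- import your own Groth.Agent.* helpers here

set_option autoImplicit false
universe u
open CategoryTheory CategoryTheory.Limits AlgebraicGeometry
open Coherent

namespace Groth.Agent.S10949

open Groth.Agent.CohDev Groth.Agent.PullStalk.Sky Groth.Agent.PullStalk.Exact CategoryTheory CategoryTheory.Limits AlgebraicGeometry Opposite

/-- The stalk equivalence of an isomorphism. -/
noncomputable def stalkEquiv {X : Scheme.{u}} {A B : X.Modules} (e : A ≅ B) (x : X) :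
    A.presheaf.stalk x ≃ₗ[X.presheaf.stalk x] B.presheaf.stalk x :=
  { stalkLin e.hom x with
    invFun := stalkLin e.inv x
    left_inv := fun t => (stalkLin_comp_apply e.hom e.inv x t).symm.trans (by rw [e.hom_inv_id, stalkLin_id_apply])
    right_inv := fun t => (stalkLin_comp_apply e.inv e.hom x t).symm.trans (by rw [e.inv_hom_id, stalkLin_id_apply]) }

/-- Let f : X → Y be a finite surjective morphism of integral Noetherian schemes and F a coherent
O_Y-module (quasi-coherent of finite type). Then there are an integer r ≥ 1, a coherent O_X-module G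
and a morphism of O_Y-modules β : f_*G → F^r (the coproduct of r copies of F) such that the map
induced by β on stalks of the underlying abelian sheaves at the generic point of Y is an
isomorphism. -/
theorem result
    {X Y : Scheme.{u}} [IsIntegral X] [IsNoetherian X] [IsIntegral Y] [IsNoetherian Y]
    (f : X ⟶ Y) [IsFinite f] [Surjective f] (F : Y.Modules) (hF : Coh.IsCoh F) :
    ∃ (r : ℕ) (G : X.Modules) (β : (Scheme.Modules.pushforward f).obj G ⟶ ∐ fun _ : ULift.{u} (Fin r) => F),
      0 < r ∧ Coh.IsCoh G ∧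
      IsIso ((TopCat.Presheaf.stalkFunctor AddCommGrpCat.{u} (genericPoint ↥Y)).map
        ((SheafOfModules.toSheaf Y.ringCatSheaf).map β).hom) := by
  classical
  let η := genericPoint ↥Y
  letI : Field (Y.presheaf.stalk η) := inferInstanceAs (Field Y.functionField)
  let K := Y.presheaf.stalk η
  let O := Coh.structureModule X
  let P := Scheme.Modules.pushforward f
  have hO : Coh.IsCoh O := HomShQC.isCoh_structureModule
  haveI : O.IsQuasicoherent := hO.1
  have hF0 : Coh.IsCoh (P.obj O) := CycLib.isCoh_push O f hO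
  haveI : Module.Finite K ((P.obj O).presheaf.stalk η) := FDesc.QuasiFlat.finite_stalk_of_isCoh _ hF0 η
  haveI : Module.Finite K (F.presheaf.stalk η) := FDesc.QuasiFlat.finite_stalk_of_isCoh _ hF η
  haveI : Nontrivial ((P.obj O).presheaf.stalk η) := by
    obtain ⟨x, hx⟩ := f.surjective η
    let one : Γ(P.obj O, ⊤) := (1 : Γ(X, f ⁻¹ᵁ ⊤))
    refine nontrivial_of_ne (germM (P.obj O) ⊤ η trivial one) 0 fun h => ?_
    obtain ⟨W, hW, i, j, hj⟩ := (P.obj O).presheaf.germ_eq η (show η ∈ (⊤ : Y.Opens) from trivial)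
      (show η ∈ (⊤ : Y.Opens) from trivial) one 0 (h.trans (map_zero ((P.obj O).presheaf.germ ⊤ η trivial).hom).symm)
    have hxW : x ∈ f ⁻¹ᵁ W := show f x ∈ W from hx ▸ hW
    rw [map_zero] at hj
    have h1 : (1 : Γ(X, f ⁻¹ᵁ W)) = 0 :=
      (map_one (X.presheaf.map (homOfLE (f.preimage_mono i.le)).op).hom).symm.trans hj
    exact one_ne_zero (α := X.presheaf.stalk x) (by
      rw [← map_one (X.presheaf.germ (f ⁻¹ᵁ W) x hxW).hom]
      exact (congrArg (X.presheaf.germ (f ⁻¹ᵁ W) x hxW) h1).trans (map_zero _))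
  let r := Module.finrank K ((P.obj O).presheaf.stalk η)
  have hr : 0 < r := Module.finrank_pos
  let d := Module.finrank K (F.presheaf.stalk η)
  haveI : P.Additive := inferInstance
  let G₀ := pow O d
  have hG₀ : Coh.IsCoh G₀ := (isCoh_pow_and_kcl hO d).1
  haveI : G₀.IsQuasicoherent := hG₀.1
  let S := ∐ fun _ : ULift.{u} (Fin r) => F
  let e₁ : P.obj G₀ ≅ pow (P.obj O) d := P.mapBiproduct _
  let e₂ : S ≅ pow F r :=
    Sigma.whiskerEquiv (f := fun _ : ULift.{u} (Fin r) => F) (g := fun _ : Fin r => F) Equiv.ulift (fun _ => Iso.refl _) ≪≫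
      (biproduct.isoCoproduct (fun _ : Fin r => F)).symm
  have hS : Coh.IsCoh S := isCoh_of_iso e₂.symm (isCoh_pow_and_kcl hF r).1
  let l₁ : (P.obj G₀).presheaf.stalk η ≃ₗ[K] (Fin d → (P.obj O).presheaf.stalk η) :=
    (stalkEquiv e₁ η).trans (powStalkEquiv (P.obj O) d η)
  let l₂ : S.presheaf.stalk η ≃ₗ[K] (Fin r → F.presheaf.stalk η) :=
    (stalkEquiv e₂ η).trans (powStalkEquiv F r η)
  let ψ : (P.obj G₀).presheaf.stalk η ≃ₗ[K] S.presheaf.stalk η :=
    l₁.trans ((LinearEquiv.ofFinrankEq _ _ (by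
      rw [Module.finrank_pi_fintype, Module.finrank_pi_fintype, Finset.sum_const, Finset.sum_const,
        Finset.card_univ, Finset.card_univ, Fintype.card_fin, Fintype.card_fin, smul_eq_mul, smul_eq_mul, mul_comm] :
      Module.finrank K (Fin d → (P.obj O).presheaf.stalk η) = Module.finrank K (Fin r → F.presheaf.stalk η))).trans l₂.symm)
  obtain ⟨J, Φ, -, hb, hΦ⟩ := CohOps.Generic.exists_extension_at (CycLib.isCoh_push G₀ f hG₀) hS η ψ.toLinearMap
  obtain ⟨e, -⟩ := S9523.result f G₀ hG₀.1 J
  refine ⟨r, (Dual3.idealMul (J.comap f)).obj G₀, e.inv ≫ Φ, hr, isCoh_idealMul (J.comap f) hG₀,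
    (ConcreteCategory.isIso_iff_bijective _).mpr ?_⟩
  change Function.Bijective (stalkLin (e.inv ≫ Φ) η)
  rw [show ⇑(stalkLin (e.inv ≫ Φ) η) = stalkLin Φ η ∘ stalkLin e.inv η from
    funext fun v => stalkLin_comp_apply e.inv Φ η v]
  refine Function.Bijective.comp ?_ (stalkEquiv e.symm η).bijective
  rw [show ⇑(stalkLin Φ η) = ψ ∘ stalkLin (Dual3.idealMulι J (P.obj G₀)) η from funext hΦ]
  exact ψ.bijective.comp hb

end Groth.Agent.S10949
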