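import Groth.Statements.S10952
import Groth.Agent.CohAff.Cech
import Mathlib

set_option autoImplicit false
universe u
open CategoryTheory
open CohTop

namespace Groth.Agent.S10952

section
open CategoryTheory CategoryTheory.Limits TopologicalSpace Opposite Finsupp
open Groth.Agent.CohAff

variable {ι : Type u} [LinearOrder ι]

/-- ordered simplices -/
abbrev K (ι : Type u) (p : ℕ) : Type u := (Fin (p + 1) → ι) →₀ ℤ

/-- boundary -/
noncomputable def dd (p : ℕ) : K ι (p + 1) →ₗ[ℤ] K ι p :=
  linearCombination ℤ fun x => ∑ j : Fin (p + 2), (-1 : ℤ) ^ (j : ℕ) • single (x ∘ j.succAbove) 1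

/-- cone -/
noncomputable def cone (v : ι) (p : ℕ) : K ι p →ₗ[ℤ] K ι (p + 1) :=
  linearCombination ℤ fun y => single (Fin.cons v y : Fin (p + 2) → ι) 1

/-- cone on increasing simplices -/
noncomputable def icone (v : ι) (p : ℕ) : K ι p →ₗ[ℤ] K ι (p + 1) :=
  linearCombination ℤ fun y => if v < y 0 then single (Fin.cons v y : Fin (p + 2) → ι) 1 else 0

/-- augmentation -/
noncomputable def eps : K ι 0 →ₗ[ℤ] ℤ := linearCombination ℤ fun _ => 1

lemma dd_single (p : ℕ) (x : Fin (p + 2) → ι) :
    dd p (single x 1) = ∑ j : Fin (p + 2), (-1 : ℤ) ^ (j : ℕ) • single (x ∘ j.succAbove) 1 := by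
  rw [dd, linearCombination_single, one_smul]

lemma cone_single (v : ι) (p : ℕ) (y : Fin (p + 1) → ι) :
    cone v p (single y 1) = single (Fin.cons v y : Fin (p + 2) → ι) 1 := by
  rw [cone, linearCombination_single, one_smul]

lemma icone_single (v : ι) (p : ℕ) (y : Fin (p + 1) → ι) :
    icone v p (single y 1) = if v < y 0 then single (Fin.cons v y : Fin (p + 2) → ι) 1 else 0 := by
  rw [icone, linearCombination_single, one_smul]

lemma cons_face_succ {p : ℕ} (v : ι) (y : Fin (p + 2) → ι) (j : Fin (p + 2)) :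
    (Fin.cons v y : Fin (p + 3) → ι) ∘ j.succ.succAbove = Fin.cons v (y ∘ j.succAbove) := by
  funext a
  cases a using Fin.cases with
  | zero => simp
  | succ a => simp

lemma cons_face_zero {p : ℕ} (v : ι) (y : Fin (p + 1) → ι) :
    (Fin.cons v y : Fin (p + 2) → ι) ∘ (0 : Fin (p + 2)).succAbove = y := by
  funext a; simp

lemma dd_cons (v : ι) (p : ℕ) (y : Fin (p + 2) → ι) :
    dd (p + 1) (single (Fin.cons v y : Fin (p + 3) → ι) 1) =
      single y 1 - cone v p (dd p (single y 1)) := by
  rw [dd_single, Fin.sum_univ_succ, cons_face_zero, dd_single, map_sum, sub_eq_add_neg, ← Finset.sum_neg_distrib]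
  congr 1
  · simp
  · refine Finset.sum_congr rfl fun j _ => ?_
    rw [cons_face_succ, map_zsmul, cone_single, Fin.val_succ, pow_succ, mul_neg_one, neg_smul]

lemma dd_cons0 (v : ι) (y : Fin 1 → ι) :
    dd 0 (single (Fin.cons v y : Fin 2 → ι) 1) = single y 1 - single (fun _ => v) 1 := by
  rw [dd_single, Fin.sum_univ_two, cons_face_zero]
  have h : (Fin.cons v y : Fin 2 → ι) ∘ (1 : Fin 2).succAbove = fun _ => v := by
    funext a
    obtain rfl : a = 0 := Subsingleton.elim _ _
    rfl
  rw [h]
  simp [sub_eq_add_neg]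

lemma dd_cone (v : ι) (p : ℕ) (z : K ι (p + 1)) :
    dd (p + 1) (cone v (p + 1) z) = z - cone v p (dd p z) := by
  refine LinearMap.congr_fun (f := (dd (p + 1)).comp (cone v (p + 1)))
    (g := LinearMap.id - (cone v p).comp (dd p)) (Finsupp.lhom_ext' fun y => LinearMap.ext_ring ?_) z
  simp [cone_single, dd_cons]

lemma dd_cone0 (v : ι) (z : K ι 0) :
    dd 0 (cone v 0 z) = z - eps z • single (fun _ => v) 1 := by
  refine LinearMap.congr_fun (f := (dd 0).comp (cone v 0))
    (g := LinearMap.id - eps.smulRight (single (fun _ => v) (1 : ℤ))) (Finsupp.lhom_ext' fun y => LinearMap.ext_ring ?_) z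
  simp [cone_single, dd_cons0, eps]

lemma eps_dd (z : K ι 1) : eps (dd 0 z) = 0 := by
  refine LinearMap.congr_fun (f := eps.comp (dd 0)) (g := 0) (Finsupp.lhom_ext' fun y => LinearMap.ext_ring ?_) z
  simp [dd_single, eps, Fin.sum_univ_two]

lemma dd_dd : ∀ (p : ℕ) (z : K ι (p + 2)), dd p (dd (p + 1) z) = 0 := by
  intro p
  induction p with
  | zero =>
    intro z
    refine LinearMap.congr_fun (f := (dd 0).comp (dd 1)) (g := 0) (Finsupp.lhom_ext' fun x => LinearMap.ext_ring ?_) z
    show dd 0 (dd 1 (single x 1)) = 0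
    rw [← Fin.cons_self_tail x, ← cone_single, dd_cone, map_sub, dd_cone0, eps_dd, zero_smul, sub_zero, sub_self]
  | succ p ih =>
    intro z
    refine LinearMap.congr_fun (f := (dd (p + 1)).comp (dd (p + 2))) (g := 0) (Finsupp.lhom_ext' fun x => LinearMap.ext_ring ?_) z
    show dd (p + 1) (dd (p + 2) (single x 1)) = 0
    rw [← Fin.cons_self_tail x, ← cone_single, dd_cone, map_sub, dd_cone, ih, map_zero, sub_zero, sub_self]

lemma map_mem_of_supported {α : Type u} {M : Type u} [AddCommGroup M] (f : (α →₀ ℤ) →ₗ[ℤ] M) (N : Submodule ℤ M)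
    {s : Set α} (h : ∀ x ∈ s, f (single x 1) ∈ N) {z : α →₀ ℤ} (hz : z ∈ supported ℤ ℤ s) : f z ∈ N := by
  rw [supported_eq_span_single] at hz
  have : Submodule.span ℤ ((fun i => single i (1 : ℤ)) '' s) ≤ N.comap f :=
    Submodule.span_le.2 (by rintro _ ⟨x, hx, rfl⟩; exact h x hx)
  exact this hz

lemma eq_zero_of_supported {α : Type u} {M : Type u} [AddCommGroup M] (f : (α →₀ ℤ) →ₗ[ℤ] M)
    {s : Set α} (h : ∀ x ∈ s, f (single x 1) = 0) {z : α →₀ ℤ} (hz : z ∈ supported ℤ ℤ s) : f z = 0 := by
  have := map_mem_of_supported f ⊥ (fun x hx => (Submodule.mem_bot ℤ).2 (h x hx)) hz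
  exact (Submodule.mem_bot ℤ).1 this

/-- chains supported in a set of vertices -/
def Sup (S : Set ι) (p : ℕ) : Submodule ℤ (K ι p) := supported ℤ ℤ {y | ∀ a, y a ∈ S}

/-- increasing chains supported in a set of vertices -/
def Inc (S : Set ι) (p : ℕ) : Submodule ℤ (K ι p) := supported ℤ ℤ {y | StrictMono y ∧ ∀ a, y a ∈ S}

lemma Inc_le_Sup (S : Set ι) (p : ℕ) : Inc S p ≤ Sup S p := supported_mono fun _ h => h.2

lemma single_mem_Sup {S : Set ι} {p : ℕ} {y : Fin (p + 1) → ι} (h : ∀ a, y a ∈ S) :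
    single y 1 ∈ Sup S p := single_mem_supported ℤ 1 h

lemma face_mem {S : Set ι} {p : ℕ} {x : Fin (p + 2) → ι} (hx : ∀ a, x a ∈ S) :
    dd p (single x 1) ∈ Sup S p := by
  rw [dd_single]
  exact Submodule.sum_mem _ fun j _ => Submodule.smul_mem _ _ (single_mem_Sup fun a => hx _)

lemma icone_mem {S : Set ι} {v : ι} (hv : v ∈ S) {p : ℕ} {z : K ι p} (hz : z ∈ Inc S p) :
    icone v p z ∈ Inc S (p + 1) := by
  refine map_mem_of_supported _ _ (fun y hy => ?_) hz
  rw [icone_single]
  split_ifs with h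
  · refine single_mem_supported ℤ 1 ⟨Fin.strictMono_iff_lt_succ.2 fun i => ?_, fun a => ?_⟩
    · cases i using Fin.cases with
      | zero => simpa using h
      | succ i =>
        rw [← Fin.succ_castSucc, Fin.cons_succ, Fin.cons_succ]
        exact hy.1 Fin.castSucc_lt_succ
    · cases a using Fin.cases with
      | zero => simpa using hv
      | succ a => simpa using hy.2 a
  · exact Submodule.zero_mem _

lemma cone_mem {S : Set ι} {v : ι} (hv : v ∈ S) {p : ℕ} {z : K ι p} (hz : z ∈ Sup S p) :
    cone v p z ∈ Sup S (p + 1) := by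
  refine map_mem_of_supported _ _ (fun y hy => ?_) hz
  rw [cone_single]
  refine single_mem_Sup fun a => ?_
  cases a using Fin.cases with
  | zero => simpa using hv
  | succ a => simpa using hy a

lemma dd_icone {S : Set ι} {v : ι} (hv : ∀ w ∈ S, v ≤ w) (p : ℕ) {z : K ι (p + 1)} (hz : z ∈ Inc S (p + 1)) :
    dd (p + 1) (icone v (p + 1) z) = z - icone v p (dd p z) := by
  rw [← sub_eq_zero]
  refine eq_zero_of_supported ((dd (p + 1)).comp (icone v (p + 1)) - (LinearMap.id - (icone v p).comp (dd p)))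
    (fun y hy => ?_) hz
  show dd (p + 1) (icone v (p + 1) (single y 1)) - (single y 1 - icone v p (dd p (single y 1))) = 0
  rw [sub_eq_zero, icone_single]
  have h0 : ∀ j : Fin (p + 2), y 0 ≤ (y ∘ j.succAbove) 0 := fun j => hy.1.monotone (Fin.zero_le _)
  rcases (hv _ (hy.2 0)).lt_or_eq with h | h
  · rw [if_pos h, dd_cons]
    congr 1
    rw [dd_single, map_sum, map_sum]
    refine Finset.sum_congr rfl fun j _ => ?_
    rw [map_zsmul, map_zsmul, cone_single, icone_single, if_pos (h.trans_le (h0 j))]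
  · subst h
    rw [if_neg (lt_irrefl _), map_zero, dd_single, map_sum, Fin.sum_univ_succ]
    rw [Finset.sum_eq_zero fun j _ => ?_, add_zero]
    · have h1 : y 0 < (y ∘ (0 : Fin (p + 2)).succAbove) 0 := hy.1 (by simp)
      rw [map_zsmul, icone_single, if_pos h1]
      simp only [Fin.val_zero, pow_zero, one_smul]
      rw [show (Fin.cons (y 0) (y ∘ (0 : Fin (p + 2)).succAbove) : Fin (p + 2) → ι) = y from ?_, sub_self]
      funext a
      cases a using Fin.cases <;> simp
    · rw [map_zsmul, icone_single, if_neg, smul_zero]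
      simp

lemma dd_icone0 {S : Set ι} {v : ι} (hv : ∀ w ∈ S, v ≤ w) {z : K ι 0} (hz : z ∈ Inc S 0) :
    dd 0 (icone v 0 z) = z - eps z • single (fun _ => v) 1 := by
  rw [← sub_eq_zero]
  refine eq_zero_of_supported ((dd 0).comp (icone v 0) -
    (LinearMap.id - eps.smulRight (single (fun _ => v) (1 : ℤ)))) (fun y hy => ?_) hz
  show dd 0 (icone v 0 (single y 1)) - (single y 1 - eps (single y 1) • single (fun _ => v) 1) = 0
  rw [sub_eq_zero, icone_single, eps, linearCombination_single, one_smul, one_smul]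
  rcases (hv _ (hy.2 0)).lt_or_eq with h | h
  · rw [if_pos h, dd_cons0]
  · subst h
    rw [if_neg (lt_irrefl _), map_zero, show (fun _ => y 0) = y from funext fun a => by rw [Fin.fin_one_eq_zero a],
      sub_self]

/-- least vertex -/
noncomputable def low {p : ℕ} (x : Fin (p + 1) → ι) : ι := Finset.univ.inf' Finset.univ_nonempty x

lemma low_le {p : ℕ} (x : Fin (p + 1) → ι) : ∀ w ∈ Set.range x, low x ≤ w := by
  rintro _ ⟨a, rfl⟩
  exact Finset.inf'_le _ (Finset.mem_univ a)

lemma low_mem {p : ℕ} (x : Fin (p + 1) → ι) : low x ∈ Set.range x := by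
  obtain ⟨a, -, ha⟩ := Finset.exists_mem_eq_inf' (s := Finset.univ) Finset.univ_nonempty x
  exact ⟨a, ha.symm⟩

/-- projection onto increasing simplices -/
noncomputable def cc : ∀ p, K ι p →ₗ[ℤ] K ι p
  | 0 => LinearMap.id
  | p + 1 => linearCombination ℤ fun x => icone (low x) p (cc p (dd p (single x 1)))

/-- homotopy -/
noncomputable def hh : ∀ p, K ι p →ₗ[ℤ] K ι (p + 1)
  | 0 => 0
  | p + 1 => linearCombination ℤ fun x =>
      cone (x 0) (p + 1) (single x 1 - cc (p + 1) (single x 1) - hh p (dd p (single x 1)))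

lemma cc_single (p : ℕ) (x : Fin (p + 2) → ι) :
    cc (p + 1) (single x 1) = icone (low x) p (cc p (dd p (single x 1))) := by
  rw [cc, linearCombination_single, one_smul]

lemma hh_single (p : ℕ) (x : Fin (p + 2) → ι) : hh (p + 1) (single x 1) =
    cone (x 0) (p + 1) (single x 1 - cc (p + 1) (single x 1) - hh p (dd p (single x 1))) := by
  rw [hh, linearCombination_single, one_smul]

lemma cc_mem {S : Set ι} : ∀ (p : ℕ) {z : K ι p}, z ∈ Sup S p → cc p z ∈ Inc S p
  | 0, z, hz => by
    have hle : {y : Fin (0 + 1) → ι | ∀ a, y a ∈ S} ⊆ {y | StrictMono y ∧ ∀ a, y a ∈ S} := by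
      intro y hy
      refine ⟨fun a b hab => absurd hab ?_, hy⟩
      rw [Fin.fin_one_eq_zero a, Fin.fin_one_eq_zero b]
      exact lt_irrefl _
    exact supported_mono hle hz
  | p + 1, z, hz => by
    refine map_mem_of_supported _ _ (fun x hx => ?_) hz
    rw [cc_single]
    refine icone_mem ?_ (cc_mem p (face_mem hx))
    obtain ⟨a, ha⟩ := low_mem x
    exact ha ▸ hx a

lemma hh_mem {S : Set ι} : ∀ (p : ℕ) {z : K ι p}, z ∈ Sup S p → hh p z ∈ Sup S (p + 1)
  | 0, z, _ => by simp [hh]
  | p + 1, z, hz => by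
    refine map_mem_of_supported _ _ (fun x hx => ?_) hz
    rw [hh_single]
    exact cone_mem (hx 0) (Submodule.sub_mem _ (Submodule.sub_mem _ (single_mem_Sup hx)
      (Inc_le_Sup _ _ (cc_mem _ (single_mem_Sup hx)))) (hh_mem p (face_mem hx)))

lemma dd_cc : ∀ (p : ℕ) (z : K ι (p + 1)), dd p (cc (p + 1) z) = cc p (dd p z) := by
  intro p
  induction p with
  | zero =>
    intro z
    refine LinearMap.congr_fun (f := (dd 0).comp (cc 1)) (g := (cc 0).comp (dd 0))
      (Finsupp.lhom_ext' fun x => LinearMap.ext_ring ?_) z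
    show dd 0 (cc 1 (single x 1)) = cc 0 (dd 0 (single x 1))
    rw [cc_single, dd_icone0 (low_le x) (cc_mem 0 (face_mem fun a => ⟨a, rfl⟩)),
      show cc 0 (dd 0 (single x 1)) = dd 0 (single x 1) from rfl, eps_dd, zero_smul, sub_zero]
  | succ p ih =>
    intro z
    refine LinearMap.congr_fun (f := (dd (p + 1)).comp (cc (p + 2))) (g := (cc (p + 1)).comp (dd (p + 1)))
      (Finsupp.lhom_ext' fun x => LinearMap.ext_ring ?_) z
    show dd (p + 1) (cc (p + 2) (single x 1)) = cc (p + 1) (dd (p + 1) (single x 1))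
    rw [cc_single, dd_icone (low_le x) p (cc_mem _ (face_mem fun a => ⟨a, rfl⟩)), ih, dd_dd, map_zero, map_zero,
      sub_zero]

lemma homotopy : ∀ (p : ℕ) (z : K ι (p + 1)),
    dd (p + 1) (hh (p + 1) z) + hh p (dd p z) = z - cc (p + 1) z := by
  intro p
  induction p with
  | zero =>
    intro z
    refine LinearMap.congr_fun (f := (dd 1).comp (hh 1) + (hh 0).comp (dd 0)) (g := LinearMap.id - cc 1)
      (Finsupp.lhom_ext' fun x => LinearMap.ext_ring ?_) z
    show dd 1 (hh 1 (single x 1)) + hh 0 (dd 0 (single x 1)) = single x 1 - cc 1 (single x 1)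
    simp only [hh_single, dd_cone, map_sub, dd_cc]
    rw [show cc 0 (dd 0 (single x 1)) = dd 0 (single x 1) from rfl]
    simp [hh]
  | succ p ih =>
    intro z
    refine LinearMap.congr_fun (f := (dd (p + 2)).comp (hh (p + 2)) + (hh (p + 1)).comp (dd (p + 1)))
      (g := LinearMap.id - cc (p + 2)) (Finsupp.lhom_ext' fun x => LinearMap.ext_ring ?_) z
    show dd (p + 2) (hh (p + 2) (single x 1)) + hh (p + 1) (dd (p + 1) (single x 1)) = single x 1 - cc (p + 2) (single x 1)
    have h := ih (dd (p + 1) (single x 1))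
    rw [dd_dd, map_zero, add_zero] at h
    simp only [hh_single, dd_cone, map_sub, dd_cc, h]
    abel

lemma cc_eq_zero [Finite ι] (p : ℕ) (hp : Nat.card ι ≤ p) (z : K ι p) : cc p z = 0 := by
  have h : cc p z ∈ Inc Set.univ p :=
    cc_mem p ((mem_supported _ _).2 fun _ _ _ => Set.mem_univ _)
  refine eq_zero_of_supported LinearMap.id (fun y hy => ?_) h
  exfalso
  have h2 := Nat.card_le_card_of_injective y hy.1.injective
  rw [Nat.card_fin] at h2
  omega

variable {X : TopCat.{u}} (P : TopCat.Presheaf AddCommGrpCat.{u} X) (U : ι → Opens X)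

open scoped Classical in
/-- evaluation of cochains on chains -/
noncomputable def ev {p : ℕ} (t : Cochain P U p) {m : ℕ} (x : Fin (m + 1) → ι) :
    K ι p →ₗ[ℤ] P.obj (op (inter U x)) :=
  linearCombination ℤ fun y => if h : inter U x ≤ inter U y then res P h (t y) else 0

lemma inter_mono {m p : ℕ} {x : Fin (m + 1) → ι} {y : Fin (p + 1) → ι} (h : ∀ a, y a ∈ Set.range x) :
    inter U x ≤ inter U y := le_inter fun a => by
  obtain ⟨b, hb⟩ := h a
  exact hb ▸ inter_le U x b

lemma ev_single {p : ℕ} (t : Cochain P U p) {m : ℕ} (x : Fin (m + 1) → ι) (y : Fin (p + 1) → ι)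
    (h : inter U x ≤ inter U y) : ev P U t x (single y 1) = res P h (t y) := by
  rw [ev, linearCombination_single, one_smul, dif_pos h]

lemma res_ev {p : ℕ} (t : Cochain P U p) {m n : ℕ} (x : Fin (m + 1) → ι) (x' : Fin (n + 1) → ι)
    (h : inter U x ≤ inter U x') {z : K ι p} (hz : z ∈ Sup (Set.range x') p) :
    res P h (ev P U t x' z) = ev P U t x z := by
  rw [← sub_eq_zero]
  refine eq_zero_of_supported ((res P h).toIntLinearMap.comp (ev P U t x') - ev P U t x) (fun y hy => ?_) hz
  show res P h (ev P U t x' (single y 1)) - ev P U t x (single y 1) = 0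
  rw [ev_single P U t x' y (inter_mono U hy), ev_single P U t x y (h.trans (inter_mono U hy)), res_res, sub_self]

theorem cechExact [Finite ι] (p : ℕ) (hp : Nat.card ι ≤ p + 1) : CechExact P U p := by
  intro t ht
  refine ⟨fun x' => ev P U t x' (hh p (single x' 1)), funext fun x => ?_⟩
  rw [cd_apply]
  have h1 : ∀ j : Fin (p + 2),
      res P (inter_comp_le U x j.succAbove) (ev P U t (x ∘ j.succAbove) (hh p (single (x ∘ j.succAbove) 1))) =
        ev P U t x (hh p (single (x ∘ j.succAbove) 1)) := fun j =>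
    res_ev P U t x _ _ (hh_mem p (single_mem_Sup fun a => ⟨a, rfl⟩))
  simp only [h1, ← map_zsmul, ← map_sum]
  rw [← dd_single]
  have h2 : hh p (dd p (single x 1)) = single x 1 - dd (p + 1) (hh (p + 1) (single x 1)) := by
    have := homotopy p (single x 1)
    rw [cc_eq_zero (p + 1) hp, sub_zero] at this
    exact eq_sub_of_add_eq' this
  have h3 : ev P U t x (dd (p + 1) (hh (p + 1) (single x 1))) = 0 := by
    refine eq_zero_of_supported ((ev P U t x).comp (dd (p + 1))) (fun y hy => ?_)
      (hh_mem (S := Set.range x) (p + 1) (single_mem_Sup fun a => ⟨a, rfl⟩))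
    show ev P U t x (dd (p + 1) (single y 1)) = 0
    rw [dd_single, map_sum]
    have h4 := congrArg (res P (inter_mono U hy)) (congrFun ht y)
    rw [Pi.zero_apply, map_zero, cd_apply, map_sum] at h4
    refine Eq.trans (Finset.sum_congr rfl fun j _ => ?_) h4
    rw [map_zsmul, map_zsmul, ev_single P U t x (y ∘ j.succAbove) (inter_mono U fun a => hy _), res_res]
  rw [h2, map_sub, h3, sub_zero, ev_single P U t x x le_rfl, res_self]

theorem main {ι : Type u} [Finite ι] {X : TopCat.{u}} (P : TopCat.Presheaf AddCommGrpCat.{u} X)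
    (U : ι → Opens X) (q : ℕ) (hq : Nat.card ι ≤ q) : IsZero (CohTop.cechH P U q) := by
  letI : LinearOrder ι := LinearOrder.lift' (Finite.equivFin ι) (Finite.equivFin ι).injective
  cases q with
  | zero =>
    haveI : IsEmpty ι := (Finite.card_eq_zero_iff (α := ι)).1 (Nat.le_zero.1 hq)
    refine ShortComplex.isZero_homology_of_isZero_X₂ _ ?_
    haveI : Subsingleton (Cochain P U 0) := ⟨fun a b => funext fun x => isEmptyElim (x 0)⟩
    haveI : Subsingleton ((mlCech P U).X 0) := (cmp_bijective P U 0).1.subsingleton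
    exact @AddCommGrpCat.isZero_of_subsingleton ((mlCech P U).X 0) this
  | succ p => exact (isZero_homology_iff_cechExact P U p).2 (cechExact P U p hq)

end

open TopologicalSpace Opposite CategoryTheory.Limits in
/-- Take a topological space X, a presheaf P of abelian groups on it, and an open cover U of X indexed
by a finite set with n elements. Then the Cech cohomology of P with respect to U, computed from the
full complex of ordered cochains, is zero in every degree q with n ≤ q. -/
theorem result {X : TopCat.{u}} (P : (Opens X)ᵒᵖ ⥤ AddCommGrpCat.{u})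
    {ι : Type u} [Finite ι] (U : ι → Opens X) (hU : iSup U = ⊤) (q : ℕ) (hq : Nat.card ι ≤ q) :
    IsZero (CohTop.cechH P U q) := by
  exact main P U q hq

end Groth.Agent.S10952
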