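import Groth.Statements.S10956
import Mathlib.RingTheory.Kaehler.Basic
import Mathlib.RingTheory.Kaehler.TensorProduct
import Mathlib.Tactic.Ring

set_option autoImplicit false
universe u
open scoped TensorProduct
open CAlg

namespace Groth.Agent.S10956

theorem exists_derivation (R A B : Type u) [CommRing R] [CommRing A] [CommRing B] [Algebra R A] [Algebra R B] :
    ∃ δ : Derivation R (A ⊗[R] B) ((A ⊗[R] B) ⊗[A] Ω[A⁄R]),
      ∀ (a : A) (b : B), δ (a ⊗ₜ[R] b) = ((1 : A) ⊗ₜ[R] b) ⊗ₜ[A] KaehlerDifferential.D R A a := by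
  let l : A →ₗ[R] B →ₗ[R] ((A ⊗[R] B) ⊗[A] Ω[A⁄R]) := LinearMap.mk₂ R
    (fun a b => ((1 : A) ⊗ₜ[R] b) ⊗ₜ[A] KaehlerDifferential.D R A a)
    (fun a a' b => by rw [map_add, TensorProduct.tmul_add])
    (fun c a b => by rw [Derivation.map_smul, ← algebraMap_smul A c (KaehlerDifferential.D R A a), ← TensorProduct.smul_tmul, algebraMap_smul]; rfl)
    (fun a b b' => by rw [TensorProduct.tmul_add, TensorProduct.add_tmul])
    (fun c a b => by rw [TensorProduct.tmul_smul]; rfl)
  let L : (A ⊗[R] B) →ₗ[R] ((A ⊗[R] B) ⊗[A] Ω[A⁄R]) := TensorProduct.lift l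
  have hL : ∀ (a : A) (b : B), L (a ⊗ₜ[R] b) = ((1 : A) ⊗ₜ[R] b) ⊗ₜ[A] KaehlerDifferential.D R A a := fun a b => rfl
  refine ⟨Derivation.mk' L ?_, hL⟩
  intro s t
  induction s with
  | zero => simp
  | add x y hx hy => rw [add_mul, map_add, hx, hy, map_add, smul_add, add_smul]; abel
  | tmul a b =>
    induction t with
    | zero => simp
    | add x y hx hy => rw [mul_add, map_add, hx, hy, map_add, smul_add, add_smul]; abel
    | tmul a' b' =>
      have key : ∀ (x y : A) (u v : B), ((1 : A) ⊗ₜ[R] (u * v)) ⊗ₜ[A] (x • KaehlerDifferential.D R A y) =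
          (x ⊗ₜ[R] u) • (((1 : A) ⊗ₜ[R] v) ⊗ₜ[A] KaehlerDifferential.D R A y) := by
        intro x y u v
        rw [← TensorProduct.smul_tmul, TensorProduct.smul_tmul' (x ⊗ₜ[R] u), TensorProduct.smul_tmul', smul_eq_mul, smul_eq_mul,
          Algebra.TensorProduct.tmul_mul_tmul, mul_one]
      rw [Algebra.TensorProduct.tmul_mul_tmul, hL, hL, hL, Derivation.leibniz, TensorProduct.tmul_add, key, mul_comm b b', key]

/-- Let R be a commutative ring, A and B commutative R-algebras and T = A ⊗_R B, an A-algebra through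
the left factor. There is a T-linear map r from Ω_{T/R} to T ⊗_A Ω_{A/R} sending d(a ⊗ b) to (1 ⊗ b)
⊗ da for all a in A and b in B, and together with the canonical map Ω_{T/R} → Ω_{T/A} it identifies
Ω_{T/R} with the product (T ⊗_A Ω_{A/R}) × Ω_{T/A}. (The published statement is the isomorphism of
(Ω_{A/R} ⊗_R B) ⊕ (A ⊗_R Ω_{B/R}) with Ω_{T/R} matching the exterior differentials; it is stated
here through the canonical identifications T ⊗_A Ω_{A/R} = Ω_{A/R} ⊗_R B and Ω_{T/A} = A ⊗_R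
Ω_{B/R}.) -/
theorem result (R A B : Type u) [CommRing R] [CommRing A] [CommRing B]
    [Algebra R A] [Algebra R B] :
    ∃ r : Ω[(A ⊗[R] B)⁄R] →ₗ[A ⊗[R] B] ((A ⊗[R] B) ⊗[A] Ω[A⁄R]),
      (∀ (a : A) (b : B), r (KaehlerDifferential.D R (A ⊗[R] B) (a ⊗ₜ[R] b)) =
          ((1 : A) ⊗ₜ[R] b) ⊗ₜ[A] KaehlerDifferential.D R A a) ∧
        Function.Bijective (fun ω : Ω[(A ⊗[R] B)⁄R] =>
          (r ω, KaehlerDifferential.map R A (A ⊗[R] B) (A ⊗[R] B) ω)) := by
  obtain ⟨δ, hδ⟩ := exists_derivation R A B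
  let r := δ.liftKaehlerDifferential
  have hr : ∀ (a : A) (b : B), r (KaehlerDifferential.D R (A ⊗[R] B) (a ⊗ₜ[R] b)) =
      ((1 : A) ⊗ₜ[R] b) ⊗ₜ[A] KaehlerDifferential.D R A a := fun a b =>
    (δ.liftKaehlerDifferential_comp_D _).trans (hδ a b)
  refine ⟨r, hr, ?_⟩
  have hret : ∀ x, r (KaehlerDifferential.mapBaseChange R A (A ⊗[R] B) x) = x := by
    intro x
    induction x with
    | zero => rw [map_zero, map_zero]
    | tmul t w =>
      rw [KaehlerDifferential.mapBaseChange_tmul, map_smul]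
      have hw : r (KaehlerDifferential.map R R A (A ⊗[R] B) w) = (1 : A ⊗[R] B) ⊗ₜ[A] w := by
        have hw' : w ∈ Submodule.span A (Set.range (KaehlerDifferential.D R A)) := by
          rw [KaehlerDifferential.span_range_derivation]; trivial
        induction hw' using Submodule.span_induction with
        | mem w hw =>
          obtain ⟨a, rfl⟩ := hw
          rw [KaehlerDifferential.map_D, Algebra.TensorProduct.algebraMap_apply, Algebra.algebraMap_self, RingHom.id_apply, hr]
          rfl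
        | zero => rw [map_zero, map_zero, TensorProduct.tmul_zero]
        | add x y _ _ hx hy => rw [map_add, map_add, hx, hy, TensorProduct.tmul_add]
        | smul a x _ hx => rw [map_smul, ← algebraMap_smul (A ⊗[R] B) a, map_smul, algebraMap_smul, hx, TensorProduct.smul_tmul', TensorProduct.smul_tmul]
      rw [hw, TensorProduct.smul_tmul', smul_eq_mul, mul_one]
    | add x y hx hy => rw [map_add, map_add, hx, hy]
  have hexact := KaehlerDifferential.exact_mapBaseChange_map R A (A ⊗[R] B)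
  refine ⟨fun ω ω' h => ?_, fun ⟨x, η⟩ => ?_⟩
  · simp only [Prod.mk.injEq] at h
    rw [← sub_eq_zero]
    obtain ⟨x, hx⟩ := (hexact (ω - ω')).1 (by rw [map_sub, h.2, sub_self])
    have h1 : r (ω - ω') = 0 := by rw [map_sub, h.1, sub_self]
    rw [← hx, hret] at h1
    rw [← hx, h1, map_zero]
  · obtain ⟨ω₀, rfl⟩ := KaehlerDifferential.map_surjective R A (A ⊗[R] B) η
    refine ⟨ω₀ + KaehlerDifferential.mapBaseChange R A (A ⊗[R] B) (x - r ω₀), Prod.ext ?_ ?_⟩
    · show r _ = x
      rw [map_add, hret, add_sub_cancel]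
    · show KaehlerDifferential.map R A (A ⊗[R] B) (A ⊗[R] B) _ = _
      rw [map_add, (hexact _).2 ⟨_, rfl⟩, add_zero]

end Groth.Agent.S10956
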