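import Groth.Statements.S10957
import Mathlib.RingTheory.IntegralClosure.IntegrallyClosed
import Mathlib.RingTheory.DiscreteValuationRing.TFAE
import Mathlib.RingTheory.Localization.FractionRing
import Mathlib.RingTheory.IntegralClosure.Algebra.Basic
import Mathlib.Tactic.FieldSimp

set_option autoImplicit false
universe u
open CAlg

namespace Groth.Agent.S10957

/-- Let A be a Noetherian local integral domain that is normal (integrally closed in its field of
fractions). If there is a nonzero element a of A such that the maximal ideal of A is an associated
prime of the A-module A/(a), then A is a discrete valuation ring. (The other conditions listed in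
the published result — normal of dimension one, maximal ideal nonzero principal, regular of
dimension one — are the library's standard characterisations; this row records the criterion through
an associated prime.) -/
theorem result
    (A : Type u) [CommRing A] [IsDomain A] [IsNoetherianRing A] [IsLocalRing A] [IsIntegrallyClosed A]
    (a : A) (ha : a ≠ 0)
    (hass : IsLocalRing.maximalIdeal A ∈ associatedPrimes A (A ⧸ Ideal.span ({a} : Set A))) :
    IsDiscreteValuationRing A := by
  classical
  obtain ⟨_, x, hx⟩ := isAssociatedPrime_iff.1 hass
  obtain ⟨b, rfl⟩ := Submodule.Quotient.mk_surjective _ x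
  have hmem : ∀ z, z ∈ IsLocalRing.maximalIdeal A ↔ a ∣ z * b := fun z => by
    rw [hx, Submodule.mem_colon_singleton, Submodule.mem_bot, ← Submodule.Quotient.mk_smul, Submodule.Quotient.mk_eq_zero, Ideal.mem_span_singleton, smul_eq_mul]
  choose c hc using fun z (hz : z ∈ IsLocalRing.maximalIdeal A) => (hmem z).1 hz
  have hne : IsLocalRing.maximalIdeal A ≠ ⊥ := by
    intro h
    have ha' : a ∈ IsLocalRing.maximalIdeal A := (hmem a).2 (dvd_mul_right a b)
    rw [h, Ideal.mem_bot] at ha'
    exact ha ha'
  have hfield : ¬ IsField A := fun h => hne (IsLocalRing.isField_iff_maximalIdeal_eq.1 h)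
  by_cases hstab : ∀ z hz, c z hz ∈ IsLocalRing.maximalIdeal A
  · exfalso
    let K := FractionRing A
    let X : K := algebraMap A K b / algebraMap A K a
    have ha0 : algebraMap A K a ≠ 0 := by simpa using ha
    let N : Submodule A K := Submodule.map (Algebra.linearMap A K) (IsLocalRing.maximalIdeal A)
    have hint : IsIntegral A X := by
      refine isIntegral_of_smul_mem_submodule (R := A) N ?_ ((IsNoetherian.noetherian _).map _) X ?_
      · intro h
        apply hne
        rw [eq_bot_iff]
        intro z hz
        have : Algebra.linearMap A K z ∈ N := ⟨z, hz, rfl⟩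
        rw [h, Submodule.mem_bot] at this
        exact (IsFractionRing.injective A K) (this.trans (map_zero _).symm)
      · rintro _ ⟨z, hz, rfl⟩
        refine ⟨c z hz, hstab z hz, ?_⟩
        change algebraMap A K (c z hz) = X • algebraMap A K z
        have := congrArg (algebraMap A K) (hc z hz)
        rw [map_mul, map_mul] at this
        simp only [X, smul_eq_mul]
        rw [div_mul_eq_mul_div, eq_div_iff ha0]
        linear_combination -this
    obtain ⟨e, he⟩ := IsIntegrallyClosed.isIntegral_iff.1 hint
    have hdvd : a ∣ 1 * b := by
      refine ⟨e, IsFractionRing.injective A K ?_⟩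
      rw [one_mul, map_mul, he]
      simp only [X]
      rw [mul_div_cancel₀ _ ha0]
    exact (IsLocalRing.maximalIdeal.isMaximal A).ne_top ((Ideal.eq_top_iff_one _).2 ((hmem 1).2 hdvd))
  · push Not at hstab
    obtain ⟨t, ht, hct⟩ := hstab
    have hu : IsUnit (c t ht) := IsLocalRing.notMem_maximalIdeal.1 hct
    have hgen : IsLocalRing.maximalIdeal A = Ideal.span {t} := by
      refine le_antisymm (fun z hz => ?_) ((Ideal.span_singleton_le_iff_mem _).2 ht)
      rw [Ideal.mem_span_singleton]
      have h : z * c t ht = t * c z hz := by
        apply mul_left_cancel₀ ha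
        linear_combination t * hc z hz - z * hc t ht
      exact (IsUnit.dvd_mul_right hu).1 ⟨c z hz, h⟩
    have hpr : (IsLocalRing.maximalIdeal A).IsPrincipal := ⟨⟨t, hgen⟩⟩
    exact ((IsDiscreteValuationRing.TFAE A hfield).out 4 0).1 hpr

end Groth.Agent.S10957
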