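import Groth.Statements.S1866
import Groth.Agent.GrpScheme.AVAmple
import Groth.Agent.S2330
import Groth.Agent.ProperFin.PnBase
import Groth.Agent.ProjProper.Basic
-- import your own Groth.Agent.* helpers here

set_option autoImplicit false
universe u v
open CategoryTheory MonoidalCategory CartesianMonoidalCategory MonObj GrpObj AlgebraicGeometry
open GrpSch

namespace Groth.Agent.S1866

/-- An abelian variety over a field K is projective over K; stated as: there is a closed immersion into
projective n-space over K compatible with the structure morphisms, for some n. -/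
theorem result (K : Type u) [Field K] (A : Over (Spec (CommRingCat.of K))) [GrpObj A] [IsProper A.hom] [GeometricallyIntegral A.hom] : ∃ (n : ℕ) (j : A.left ⟶ CohB1.ProjSpace n K), IsClosedImmersion j ∧ j ≫ CohB1.ProjSpace.toSpec n K = A.hom := by
  obtain ⟨L, hL⟩ := GrpScheme.AVAmple.exists_isAmple A
  obtain ⟨m, -, n, i, hi, hif, -⟩ := (S2330.result A.hom L hL.1).1.mp hL
  obtain ⟨e, he⟩ := ProperFin.exists_iso_projSpaceOver n K
  have hw : (i ≫ e.hom) ≫ CohB1.ProjSpace.toSpec n K = A.hom := by rw [Category.assoc, he]; exact hif
  have := hi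
  have := ProjProper.Basic.isProper_toSpec n K
  have : IsProper ((i ≫ e.hom) ≫ CohB1.ProjSpace.toSpec n K) := by rw [hw]; infer_instance
  have : IsProper (i ≫ e.hom) := IsProper.of_comp (i ≫ e.hom) (CohB1.ProjSpace.toSpec n K)
  exact ⟨n, i ≫ e.hom, .of_isPreimmersion _ (i ≫ e.hom).isClosedMap.isClosed_range, hw⟩

end Groth.Agent.S1866
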