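import Groth.Statements.S10959
import Groth.Agent.AbVarLib.Pointed
import Groth.Agent.GrpScheme.Smooth

set_option autoImplicit false
universe u
open CategoryTheory MonoidalCategory CartesianMonoidalCategory MonObj GrpObj AlgebraicGeometry
open AbVar

namespace Groth.Agent.S10959

/-- Let K be an algebraically closed field and A an abelian variety over K (a group scheme over Spec K
with proper smooth structure morphism and irreducible underlying space). Let Z be a closed subset of
A which is not all of A, and z a K-valued point of A. Then there is a K-valued point x of A such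
that the point underlying z lies neither in the translate of Z by x nor in the translate of Z by the
inverse of x; here the translation by x is the morphism A → A given on points by a ↦ a·x, the
product of the identity and the constant map x in the group of morphisms into A. (The published
statement takes Z to be the support of an effective divisor; this row allows any closed subset other
than A.) -/
theorem result
    (K : Type u) [Field K] [IsAlgClosed K] (A : Over (Spec (CommRingCat.of K)))
    [GrpObj A] [IsProper A.hom] [Smooth A.hom] [IrreducibleSpace A.left]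
    (Z : Set A.left) (hZ : IsClosed Z) (hZne : Z ≠ Set.univ)
    (z : 𝟙_ (Over (Spec (CommRingCat.of K))) ⟶ A) :
    ∃ x : 𝟙_ (Over (Spec (CommRingCat.of K))) ⟶ A,
      Disjoint (Set.range z.left.base)
        ((𝟙 A * (toUnit A ≫ x)).left.base '' Z ∪ (𝟙 A * (toUnit A ≫ x)⁻¹).left.base '' Z) := by
  let a : A ⟶ A := (toUnit A ≫ z) * (𝟙 A)⁻¹
  let b : A ⟶ A := (toUnit A ≫ z) * 𝟙 A
  -- `a` and `b` are bijective
  have haa : a ≫ ((𝟙 A)⁻¹ * (toUnit A ≫ z)) = 𝟙 A := by
    simp only [a, MonObj.comp_mul, GrpObj.comp_inv, Category.comp_id, comp_toUnit_assoc, _root_.mul_inv_rev,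
      _root_.inv_inv, inv_mul_cancel_right]
  have haa' : ((𝟙 A)⁻¹ * (toUnit A ≫ z)) ≫ a = 𝟙 A := by
    simp only [a, MonObj.comp_mul, GrpObj.comp_inv, Category.comp_id, comp_toUnit_assoc, _root_.mul_inv_rev,
      _root_.inv_inv, mul_inv_cancel_left]
  have hsa : Function.Surjective a.left.base := fun w =>
    ⟨(((𝟙 A)⁻¹ * (toUnit A ≫ z)).left.base w), congrArg (fun q => q.left.base w) haa'⟩
  have hsb : Function.Surjective b.left.base := fun w =>
    ⟨(Groth.Agent.GrpScheme.Basic.translate z).inv.left.base w,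
      congrArg (fun q => q.left.base w) (Groth.Agent.GrpScheme.Basic.translate z).inv_hom_id⟩
  obtain ⟨u, hu⟩ : Zᶜ.Nonempty := Set.nonempty_compl.mpr hZne
  obtain ⟨u₁, h₁⟩ := hsa u
  obtain ⟨u₂, h₂⟩ := hsb u
  have hne : ((a.left.base ⁻¹' Zᶜ) ∩ (b.left.base ⁻¹' Zᶜ)).Nonempty :=
    nonempty_preirreducible_inter (hZ.isOpen_compl.preimage a.left.continuous)
      (hZ.isOpen_compl.preimage b.left.continuous)
      ⟨u₁, show a.left.base u₁ ∈ Zᶜ by rw [h₁]; exact hu⟩
      ⟨u₂, show b.left.base u₂ ∈ Zᶜ by rw [h₂]; exact hu⟩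
  have := LocallyOfFiniteType.jacobsonSpace A.hom
  obtain ⟨p, ⟨hpa, hpb⟩, hpc⟩ := nonempty_inter_closedPoints hne
    ((hZ.isOpen_compl.preimage a.left.continuous).inter
      (hZ.isOpen_compl.preimage b.left.continuous)).isLocallyClosed
  let x : 𝟙_ _ ⟶ A := Over.homMk _ ((pointEquivClosedPoint A.hom).symm ⟨p, hpc⟩).2
  refine ⟨x, Set.disjoint_left.mpr ?_⟩
  rintro _ ⟨s, rfl⟩ h
  have hx : x.left.base s = p := pointOfClosedPoint_apply A.hom p hpc _
  rcases h with ⟨w, hw, e⟩ | ⟨w, hw, e⟩
  · apply hpa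
    have h' : (𝟙 A * (toUnit A ≫ x)) ≫ (𝟙 A * (toUnit A ≫ x)⁻¹) = 𝟙 A := by
      simp only [MonObj.comp_mul, GrpObj.comp_inv, Category.comp_id, comp_toUnit_assoc,
        mul_inv_cancel_right]
    have h'' : z ≫ (𝟙 A * (toUnit A ≫ x)⁻¹) = x ≫ a := by
      simp only [a, MonObj.comp_mul, GrpObj.comp_inv, Category.comp_id,
        AbVarLib.Pointed.toUnit_self]
    show a.left.base p ∈ Z
    rw [← hx]
    have e' := congrArg (𝟙 A * (toUnit A ≫ x)⁻¹).left.base e
    have e1 : (𝟙 A * (toUnit A ≫ x)⁻¹).left.base ((𝟙 A * (toUnit A ≫ x)).left.base w) = w :=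
      congrArg (fun q => q.left.base w) h'
    rw [e1] at e'
    have e2 : (𝟙 A * (toUnit A ≫ x)⁻¹).left.base (z.left.base s) = a.left.base (x.left.base s) :=
      congrArg (fun q => q.left.base s) h''
    rw [← e2, ← e']
    exact hw
  · apply hpb
    have h' : (𝟙 A * (toUnit A ≫ x)⁻¹) ≫ (𝟙 A * (toUnit A ≫ x)) = 𝟙 A := by
      simp only [MonObj.comp_mul, GrpObj.comp_inv, Category.comp_id, comp_toUnit_assoc,
        inv_mul_cancel_right]
    have h'' : z ≫ (𝟙 A * (toUnit A ≫ x)) = x ≫ b := by
      simp only [b, MonObj.comp_mul, GrpObj.comp_inv, Category.comp_id,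
        AbVarLib.Pointed.toUnit_self]
    show b.left.base p ∈ Z
    rw [← hx]
    have e' := congrArg (𝟙 A * (toUnit A ≫ x)).left.base e
    have e1 : (𝟙 A * (toUnit A ≫ x)).left.base ((𝟙 A * (toUnit A ≫ x)⁻¹).left.base w) = w :=
      congrArg (fun q => q.left.base w) h'
    rw [e1] at e'
    have e2 : (𝟙 A * (toUnit A ≫ x)).left.base (z.left.base s) = b.left.base (x.left.base s) :=
      congrArg (fun q => q.left.base s) h''
    rw [← e2, ← e']
    exact hw

end Groth.Agent.S10959
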