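import Groth.Statements.S2337
import Groth.Agent.Props.AmpleRel
import Groth.Agent.Props.AmpleQA
import Groth.Agent.LFFrame.Basic

set_option autoImplicit false
universe u
open CategoryTheory CategoryTheory.Limits AlgebraicGeometry
open EGA2

namespace Groth.Agent.S2337

/-- The structure module is ample iff the scheme is quasi-affine. -/
theorem isAmple_structureModule_iff (Z : Scheme.{u}) :
    CohB1.IsAmple (Coh.structureModule Z) ↔ Z.IsQuasiAffine := by
  constructor
  · intro h
    have : CompactSpace Z := h.2.1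
    refine Scheme.IsQuasiAffine.of_forall_exists_mem_basicOpen Z fun z => ?_
    obtain ⟨n, s, hz, hs⟩ := h.2.2 z
    obtain ⟨r, hr⟩ := Groth.Agent.Props.AmpleFrames.exists_fun_of_hom s
    exact ⟨r, hr ▸ hs, hr ▸ hz⟩
  · intro h
    exact Groth.Agent.Props.AmpleQA.isAmple (Groth.Agent.LFFrame.isInvertible_structureModule Z)

/-- Let f : X → Y be quasi-compact. Then f is quasi-affine (preimages of affine opens are quasi-affine)
if and only if O_X is ample relative to f. -/
theorem result {X Y : Scheme.{u}} (f : X ⟶ Y) [QuasiCompact f] :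
    Mor2.IsQuasiAffine f ↔ RelAmple.IsRelAmple f (Coh.structureModule X) := by
  have key : ∀ V : Y.Opens, CohB1.IsAmple ((Coh.structureModule X).restrict (f ⁻¹ᵁ V).ι) ↔
      Scheme.IsQuasiAffine (f ⁻¹ᵁ V : Scheme.{u}) := fun V =>
    ⟨fun h => (isAmple_structureModule_iff _).mp
        (Groth.Agent.Props.AmpleFrames.isAmple_of_iso (Scheme.Modules.restrictUnitIso _) h),
      fun h => Groth.Agent.Props.AmpleFrames.isAmple_of_iso (Scheme.Modules.restrictUnitIso _).symm
        ((isAmple_structureModule_iff _).mpr h)⟩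
  exact ⟨fun h => ⟨h.1, fun V => (key V.1).mpr (h.2 V.1 V.2)⟩,
    fun h => ⟨h.1, fun V hV => (key V).mp (h.2 ⟨V, hV⟩)⟩⟩

end Groth.Agent.S2337
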