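import Groth.Statements.S10962
import Groth.Agent.Props.AmpleTwist
import Groth.Agent.S2337

set_option autoImplicit false
universe u
open CategoryTheory CategoryTheory.Limits AlgebraicGeometry TopologicalSpace
open SDiv

namespace Groth.Agent.S10962

/-- Let R be a nonzero ring and n ≥ 1, and let X be projective n-space over R. For an integer d, the
Serre twist O_X(d) is ample if and only if d > 0. (Ample is taken in the sense that X is
quasi-compact and covered by the affine open non-vanishing loci X_s of global sections s of positive
tensor powers; for the quasi-compact separated scheme X this agrees with the definition through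
finitely many generating sections with quasi-affine non-vanishing loci. The published remark also
asserts that O_X(d) is very ample relative to R for d > 0; that clause is not part of this row.) -/
theorem result (R : Type u) [CommRing R] [Nontrivial R] (n : ℕ) (hn : 1 ≤ n) (d : ℤ) :
    CohB1.IsAmple (Twist.twistProjSpace n R d) ↔ 0 < d := by
  have := Props.AmpleTwist.compactSpace n R
  constructor
  · intro h
    by_contra hd
    refine Props.AmpleTwist.not_isQuasiAffine n R hn ((S2337.isAmple_structureModule_iff _).mp ?_)
    rcases Nat.eq_zero_or_pos (-d).toNat with h0 | hk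
    · obtain rfl : d = 0 := by omega
      unfold Twist.twistProjSpace at h
      exact Props.AmpleFrames.isAmple_of_iso (X := Proj (CohB1.polyGrading n R))
        (L := Twist.twist (CohB1.polyGrading n R) 0) (L' := Coh.structureModule (Proj (CohB1.polyGrading n R)))
        (ProjTwist.twistZeroIso (CohB1.polyGrading n R)).symm h
    · obtain ⟨k, hk', rfl⟩ : ∃ k : ℕ, 0 < k ∧ d = -(k : ℤ) := ⟨(-d).toNat, hk, by omega⟩
      unfold Twist.twistProjSpace at h
      exact Props.AmpleTwist.isQuasiAffine_of_ample_neg (𝒜 := CohB1.polyGrading n R) (D := k)
        (F := fun i : ULift.{u} (Fin (n + 1)) => (MvPolynomial.X i.down : MvPolynomial (Fin (n + 1)) R) ^ k)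
        (fun i => Props.AmpleTwist.X_pow_mem n R k i.down)
        (Props.AmpleTwist.iSup_basicOpen_X_pow n R hk') h
  · intro hd
    obtain ⟨k, rfl⟩ : ∃ k : ℕ, d = (k : ℤ) := ⟨d.toNat, by omega⟩
    have hk : 0 < k := by exact_mod_cast hd
    unfold Twist.twistProjSpace
    exact Props.AmpleTwist.isAmple_twist (𝒜 := CohB1.polyGrading n R) (D := k)
        (F := fun i : ULift.{u} (Fin (n + 1)) => (MvPolynomial.X i.down : MvPolynomial (Fin (n + 1)) R) ^ k)
        hk (fun i => Props.AmpleTwist.X_pow_mem n R k i.down)
        (Props.AmpleTwist.iSup_basicOpen_X_pow n R hk)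

end Groth.Agent.S10962
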