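import Groth.Statements.S10972
import Groth.Agent.FF.RR
-- import your own Groth.Agent.* helpers here

set_option autoImplicit false
open FunFld

namespace Groth.Agent.S10972

/-- A nonconstant element of a function field of one variable has at least one zero and at least one
pole. -/
theorem result (k K : Type*) [Field k] [Field K] [Algebra k K]
    (hK : FunFld.IsFunctionField k K) (x : K) (hx : x ∉ Set.range (algebraMap k K)) :
    (∃ P : FunFld.Place k K, 0 < P.ord x) ∧ ∃ Q : FunFld.Place k K, Q.ord x < 0 := by
  have htr := FF.transcendental_of_notMem hK hx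
  have hx0 : x ≠ 0 := fun e => htr (e ▸ isAlgebraic_zero)
  obtain ⟨P, hP⟩ := FF.exists_zero hK htr
  obtain ⟨Q, hQ⟩ := FF.exists_zero hK (x := x⁻¹) (fun e => htr (by simpa using e.inv))
  refine ⟨⟨P, (FF.val_lt_one_iff P hx0).1 hP⟩, Q, ?_⟩
  have := (FF.val_lt_one_iff Q (inv_ne_zero hx0)).1 hQ
  rw [FF.ord_inv] at this
  omega

end Groth.Agent.S10972
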