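import Groth.Statements.S10973
import Groth.Agent.FF.RR
-- import your own Groth.Agent.* helpers here

set_option autoImplicit false
open FunFld

namespace Groth.Agent.S10973

/-- Two nonzero elements of a function field of one variable with the same principal divisor differ by a
constant multiple. -/
theorem result (k K : Type*) [Field k] [Field K] [Algebra k K]
    (hK : FunFld.IsFunctionField k K) (x y : K) (hx : x ≠ 0) (hy : y ≠ 0)
    (h : ∀ P : FunFld.Place k K, P.ord x = P.ord y) : ∃ c : k, x = c • y := by
  have h0 : x / y ∈ L (0 : Divisor k K) := fun P => by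
    rw [Finsupp.coe_zero, Pi.zero_apply, FF.val_le_exp_iff P (div_ne_zero hx hy), FF.ord_div P hx hy, h P]
    omega
  rw [FF.L_zero hK, Submodule.mem_one] at h0
  obtain ⟨c, hc⟩ := h0
  exact ⟨c, by rw [Algebra.smul_def, hc, div_mul_cancel₀ _ hy]⟩

end Groth.Agent.S10973
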