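import Groth.Statements.S10986
import Groth.Agent.FF.RR
-- import your own Groth.Agent.* helpers here

set_option autoImplicit false
open FunFld

namespace Groth.Agent.S10986

/-- `L(D) · W(C) ⊆ W(C - D)`: if `x ∈ L(D)` and `ω` vanishes on `A(C) + K` then `xω` vanishes on `A(C -
D) + K`. -/
theorem result (k K : Type*) [Field k] [Field K] [Algebra k K]
    (C D : FunFld.Divisor k K) (x : K) (hxD : x ∈ FunFld.L D)
    (hx : ∀ a ∈ FunFld.adele k K, x • a ∈ FunFld.adele k K)
    (ω : Module.Dual k (FunFld.adele k K)) (hω : ω ∈ FunFld.WD C) :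
    FunFld.mulW x hx ω ∈ FunFld.WD (C - D) := by
  rw [FF.mem_L] at hxD
  unfold FunFld.WD FunFld.ADK at *
  rw [Submodule.mem_dualAnnihilator] at *
  intro a ha
  rw [Submodule.mem_comap, Submodule.subtype_apply] at ha
  obtain ⟨y, hy, r, ⟨c, rfl⟩, hyr⟩ := Submodule.mem_sup.1 ha
  refine hω ⟨x • (a : Place k K → K), hx a a.2⟩ ?_
  show x • (a : Place k K → K) ∈ AD C ⊔ LinearMap.range (diag k K)
  rw [← hyr, smul_add]
  refine Submodule.add_mem_sup (fun P => ?_) ⟨x * c, rfl⟩
  rw [Pi.smul_apply, smul_eq_mul, map_mul]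
  refine (mul_le_mul' (hxD P) (hy P)).trans_eq ?_
  rw [← WithZero.exp_add, Finsupp.sub_apply, add_sub_cancel]

end Groth.Agent.S10986
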