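import Groth.Statements.S10989
import Groth.Agent.FF.RR
-- import your own Groth.Agent.* helpers here

set_option autoImplicit false
open FunFld

namespace Groth.Agent.S10989

/-- Any two canonical divisors of a function field of one variable are linearly equivalent. -/
theorem result (k K : Type*) [Field k] [Field K] [Algebra k K]
    (hK : FunFld.IsFunctionField k K) (C₁ C₂ : FunFld.Divisor k K) (h₁ : FunFld.IsCanonical k K C₁) (h₂ : FunFld.IsCanonical k K C₂) :
    ∃ x : K, x ≠ 0 ∧ C₂ = C₁ + FunFld.div k x := by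
  obtain ⟨ω₁, h01, hω₁⟩ := h₁
  obtain ⟨ω₂, h02, hω₂⟩ := h₂
  obtain ⟨x, hx⟩ := FF.exists_mulW_eq hK (FF.isWeil_of_isDivOf hω₁) h01 (FF.isWeil_of_isDivOf hω₂)
  have hx0 : x ≠ 0 := fun e => h02 (by rw [← hx, e, map_zero])
  refine ⟨x, hx0, FF.isDivOf_unique hK hω₂ ?_⟩
  rw [← hx]
  exact FF.isDivOf_mulW hK hx0 (FF.mul_mem_adele hK x) hω₁

end Groth.Agent.S10989
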