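import Groth.Statements.S1099
import Groth.Agent.PerfExt.Affine
import Groth.Agent.PerfExt.Algebra
import Groth.Agent.KFlat.MVExtZero
import Groth.Agent.KFlat.ExtZero
import Groth.Agent.CohDerLib.QC.PerfBound

set_option autoImplicit false
universe u
open CategoryTheory CategoryTheory.Limits AlgebraicGeometry Opposite
attribute [local instance] HasDerivedCategory.standard
open Perf

attribute [-instance] CategoryTheory.ReflQuiver.toQuiver

namespace Groth.Agent.S1099

open DerivedCategory Pretriangulated Groth.Agent.PerfTri Groth.Agent.CohDerLib Groth.Agent.KFlat Groth.Agent.KFlat.TruncHom Groth.Agent.PerfExt TopologicalSpace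

section Ring

variable {A : Type u} [CommRing A]

/-- countable cohomology -/
def HCount (N : DerivedCategory (ModuleCat.{u} A)) : Prop :=
  ∀ m : ℤ, Countable ((homologyFunctor (ModuleCat.{u} A) m).obj N)

/-- countably many maps into objects with countable cohomology -/
def HomCount (M : DerivedCategory (ModuleCat.{u} A)) : Prop :=
  ∀ N, HCount N → Countable (M ⟶ N)

theorem countable_of_exact {G₁ G₂ G₃ : Type*} [AddGroup G₁] [AddGroup G₂] [AddGroup G₃] (f : G₁ →+ G₂)
    (g : G₂ →+ G₃) [Countable G₁] [Countable G₃] (h : ∀ x, g x = 0 → ∃ y, f y = x) : Countable G₂ := by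
  classical
  let sec : G₂ → G₂ := fun x => Classical.choose (⟨x, rfl⟩ : ∃ y, g y = g x)
  have hsec : ∀ x, g (sec x) = g x := fun x => Classical.choose_spec (⟨x, rfl⟩ : ∃ y, g y = g x)
  let q : Set.range g → G₂ := fun z => Classical.choose z.2
  have hq : ∀ z : Set.range g, g (q z) = z.1 := fun z => Classical.choose_spec z.2
  refine Function.Surjective.countable (f := fun z : G₁ × Set.range g => f z.1 + q z.2) fun x => ?_
  obtain ⟨y, hy⟩ := h (x - q ⟨g x, x, rfl⟩) (by rw [map_sub, hq, sub_self])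
  exact ⟨(y, ⟨g x, x, rfl⟩), by simp [hy]⟩

theorem homCount_of_iso {K L : DerivedCategory (ModuleCat.{u} A)} (e : K ≅ L) (h : HomCount K) : HomCount L :=
  fun N hN => by
  have := h N hN
  exact Function.Injective.countable (f := fun φ : L ⟶ N => e.hom ≫ φ) fun a b hab => (cancel_epi e.hom).1 hab

theorem homCount_isZero (K : DerivedCategory (ModuleCat.{u} A)) (h : IsZero K) : HomCount K :=
  fun N _ => have : Subsingleton (K ⟶ N) := ⟨fun a b => h.eq_of_src a b⟩; inferInstance

theorem homCount_mid (T : Triangle (DerivedCategory (ModuleCat.{u} A))) (hT : T ∈ distinguishedTriangles)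
    (h₁ : HomCount T.obj₁) (h₃ : HomCount T.obj₃) : HomCount T.obj₂ := fun N hN => by
  have := h₁ N hN
  have := h₃ N hN
  exact countable_of_exact (Preadditive.leftComp N T.mor₂) (Preadditive.leftComp N T.mor₁)
    fun x hx => (Triangle.yoneda_exact₂ T hT x hx).imp fun _ hy => hy.symm

theorem homCount_single (m : ℤ) (M : ModuleCat.{u} A) [Module.Finite A M] [Module.Projective A M] :
    HomCount ((singleFunctor (ModuleCat.{u} A) m).obj M) := fun N hN => by
  classical
  have : Projective M := (IsProjective.iff_projective (R := A) (P := M)).1 inferInstance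
  obtain ⟨s, hs⟩ := (Module.finite_def (R := A) (M := M)).1 inferInstance
  have := hN m
  refine Function.Injective.countable
    (f := fun φ => fun x : s => (Φ M m N φ).hom (x : M)) fun a b hab => ?_
  refine (Groth.Agent.KFlat.Generator.Φ_bijective_of_projective M m N).1 ?_
  exact ModuleCat.hom_ext (LinearMap.ext_on hs fun x hx => congrFun hab ⟨x, hx⟩)

theorem homCount_perfect (M : DerivedCategory (ModuleCat.{u} A)) (hM : DRing.IsPerfect A M) : HomCount M := by
  obtain ⟨E, a, b, hv, hp, ⟨e⟩⟩ := hM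
  refine homCount_of_iso e ?_
  refine Groth.Agent.DRing.Devissage.of_terms HomCount (fun e h => homCount_of_iso e h)
    homCount_isZero homCount_mid E hv fun i => ?_
  have := (hp i).1
  have := (hp i).2
  exact homCount_of_iso
    (((SingleFunctors.evaluation _ _ i).mapIso (singleFunctorsPostcompQIso (ModuleCat.{u} A))).app (E.X i))
    (homCount_single i (E.X i))

end Ring

variable {X : Scheme.{u}}

/-- countable sections of cohomology on affines -/
def SecCount (K : DCoh.D X) : Prop :=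
  ∀ V : X.Opens, IsAffineOpen V → ∀ i : ℤ, Countable ((DCoh.HD K i).val.obj (op V))

theorem secCount_iso {M M' : X.Modules} (e : M ≅ M') (V : X.Opens) [h : Countable Γ(M, V)] : Countable Γ(M', V) :=
  Function.Surjective.countable (f := fun x : Γ(M, V) => e.hom.app V x) fun y =>
    ⟨e.inv.app V y, congrArg (fun ψ : M' ⟶ M' => ψ.app V y) e.inv_hom_id⟩

theorem secCount_shift {K : DCoh.D X} (h : SecCount K) (n : ℤ) : SecCount (K⟦n⟧) := fun V hV i => by
  have : Countable Γ(DCoh.HD K (n + i), V) := h V hV (n + i)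
  exact @secCount_iso X _ _ (((DerivedCategory.homologyFunctor X.Modules 0).shiftIso n i (n + i) rfl).app K).symm V this

/-- countably many maps after restriction -/
def R {Y : Scheme.{u}} (j : Y ⟶ X) [IsOpenImmersion j] : Prop :=
  ∀ E K : DCoh.D X, DCoh.IsPerfect E → DCoh.IsQCohD K → SecCount K →
    Countable ((DCoh.restrictD j).obj E ⟶ (DCoh.restrictD j).obj K)

theorem R_of_affine {Y : Scheme.{u}} [IsAffine Y] (j : Y ⟶ X) [IsOpenImmersion j] : R j := fun E K hE hK hKc => by
  obtain ⟨M, ⟨eM⟩⟩ := exists_iso_T Y (isQCohD_of_isPerfect (isPerfect_restrict j hE))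
  obtain ⟨N, ⟨eN⟩⟩ := exists_iso_T Y (isQCohD_restrict j hK)
  have hM : DRing.IsPerfect Γ(Y, ⊤) M :=
    (isPerfect_T_iff (X := Y) M).1 (Perfect.isPerfect_of_iso eM.symm (isPerfect_restrict j hE))
  have hN : HCount N := fun i => by
    let k := Y.isoSpec.inv ≫ j
    let e : (tilde.functor (CommRingCat.of Γ(Y, ⊤))).obj ((homologyFunctor _ i).obj N) ≅
        (Scheme.Modules.restrictFunctor k).obj (DCoh.HD K i) :=
      (Groth.Agent.CohDerLib.Kosz.homologyTildeIso (R := CommRingCat.of Γ(Y, ⊤)) N i).symm ≪≫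
        (homologyFunctor _ i).mapIso
          (((restrictDComp Y.isoSpec.inv Y.isoSpec.hom (𝟙 _) Y.isoSpec.inv_hom_id).trans
              (restrictDId _)).app ((DCoh.tildeD (CommRingCat.of Γ(Y, ⊤))).obj N)).symm ≪≫
        (homologyFunctor _ i).mapIso ((DCoh.restrictD Y.isoSpec.inv).mapIso eN ≪≫
          (restrictDComp Y.isoSpec.inv j k rfl).app K) ≪≫
        (Groth.Agent.KFlat.MapHomology.iso (Scheme.Modules.restrictFunctor k) i).app K
    have : Countable Γ(DCoh.HD K i, k ''ᵁ ⊤) :=
      hKc _ ((isAffineOpen_top (Spec (CommRingCat.of Γ(Y, ⊤)))).image_of_isOpenImmersion k) i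
    have : Countable Γ((DCoh.HD K i).restrict k, ⊤) := this
    have := secCount_iso e.symm ⊤
    exact @Function.Injective.countable _ _ this (f := fun x => (tilde.toOpen ((homologyFunctor _ i).obj N) ⊤).hom x)
      (ConcreteCategory.bijective_of_isIso (tilde.toOpen (R := CommRingCat.of Γ(Y, ⊤))
        ((homologyFunctor _ i).obj N) ⊤)).1
  have := homCount_perfect M hM N hN
  refine Function.Surjective.countable (f := fun ψ : M ⟶ N => eM.inv ≫ (T Y).map ψ ≫ eN.hom) fun φ => ?_
  obtain ⟨ψ, hψ⟩ := (T Y).map_surjective (eM.hom ≫ φ ≫ eN.inv)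
  refine ⟨ψ, (congrArg (fun x => eM.inv ≫ x ≫ eN.hom) hψ).trans ?_⟩
  simp

theorem R_of_range {Y Y' : Scheme.{u}} (j : Y ⟶ X) (j' : Y' ⟶ X) [IsOpenImmersion j] [IsOpenImmersion j']
    (h : Set.range j = Set.range j') (hj : R j) : R j' := fun E K hE hK hKc => by
  have := hj E K hE hK hKc
  let e := IsOpenImmersion.isoOfRangeEq j' j h.symm
  let ρ := restrictDComp e.hom j j' (IsOpenImmersion.isoOfRangeEq_hom_fac j' j h.symm)
  refine Function.Surjective.countable (f := fun φ => (ρ.app E).inv ≫ (DCoh.restrictD e.hom).map φ ≫ (ρ.app K).hom)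
    fun ψ => ?_
  let σ := restrictDComp e.inv j' j (IsOpenImmersion.isoOfRangeEq_inv_fac j' j h.symm)
  let τ := (restrictDComp e.hom e.inv (𝟙 _) e.hom_inv_id).trans (restrictDId Y')
  have : (DCoh.restrictD e.hom).Full := by
    let eq : DCoh.D Y ≌ DCoh.D Y' := CategoryTheory.Equivalence.mk (DCoh.restrictD e.hom) (DCoh.restrictD e.inv)
      ((restrictDComp e.inv e.hom (𝟙 _) e.inv_hom_id).trans (restrictDId Y)).symm τ
    exact inferInstanceAs eq.functor.Full
  obtain ⟨φ, hφ⟩ := (DCoh.restrictD e.hom).map_surjective ((ρ.app E).hom ≫ ψ ≫ (ρ.app K).inv)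
  exact ⟨φ, by simp [hφ]⟩

theorem R_sup (U V : X.Opens) (hU : R U.ι) (hV : R V.ι) (hUV : R (U ⊓ V).ι) : R (U ⊔ V).ι := fun E K hE hK hKc => by
  let W := U ⊔ V
  let U' : (W : Scheme.{u}).Opens := W.ι ⁻¹ᵁ U
  let V' : (W : Scheme.{u}).Opens := W.ι ⁻¹ᵁ V
  have hcov : U' ⊔ V' = ⊤ := top_le_iff.1 fun x _ => (show (W.ι x) ∈ (U ⊔ V : X.Opens) from x.2)
  let E' := (DCoh.restrictD W.ι).obj E
  let K' := (DCoh.restrictD W.ι).obj K
  let C := Q.objPreimage E'
  let eC : Q.obj C ≅ E' := Q.objObjPreimageIso E'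
  have key : ∀ (O : X.Opens), O ≤ W → R O.ι → ∀ n : ℤ,
      Countable ((Q.obj ((MVExtZero.Ec (W.ι ⁻¹ᵁ O)).obj C))⟦n⟧ ⟶ K') := fun O hO hR n => by
    let O' : (W : Scheme.{u}).Opens := W.ι ⁻¹ᵁ O
    have hr : Set.range (O'.ι ≫ W.ι) = Set.range O.ι := by
      rw [Scheme.Hom.comp_base, TopCat.coe_comp, Set.range_comp, Scheme.Opens.range_ι, Scheme.Opens.range_ι]
      change W.ι '' (W.ι ⁻¹' (O : Set X)) = _
      rw [Set.image_preimage_eq_inter_range, Scheme.Opens.range_ι]
      exact Set.inter_eq_left.2 hO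
    have := R_of_range O.ι (O'.ι ≫ W.ι) hr.symm hR (E⟦n⟧) K (Perfect.isPerfect_shift hE n) hK hKc
    let ρ := restrictDComp O'.ι W.ι _ rfl
    let adj := ExtZero.extZeroDAdj O'
    let d : (Q.obj ((MVExtZero.Ec O').obj C))⟦n⟧ ≅
        (CxOX.extZeroD O'.ι).obj ((DCoh.restrictD (O'.ι ≫ W.ι)).obj (E⟦n⟧)) :=
      (shiftFunctor _ n).mapIso (MVExtZero.ecIso O' C ≪≫
          (CxOX.extZeroD O'.ι).mapIso ((DCoh.restrictD O'.ι).mapIso eC ≪≫ ρ.app E)) ≪≫
        (((CxOX.extZeroD O'.ι).commShiftIso n).app _).symm ≪≫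
        (CxOX.extZeroD O'.ι).mapIso (((DCoh.restrictD (O'.ι ≫ W.ι)).commShiftIso n).app E).symm
    exact Function.Injective.countable
      (f := fun φ => (adj.homEquiv _ _) (d.inv ≫ φ) ≫ (ρ.app K).hom) fun a b hab =>
        (cancel_epi d.inv).1 ((adj.homEquiv _ _).injective ((cancel_mono (ρ.app K).hom).1 hab))
  have hS := MVExtZero.shortExact_scc' hcov C
  let T := triangleOfSES hS
  have hT : T ∈ distinguishedTriangles := triangleOfSES_distinguished hS
  have h1 : Countable (T.obj₁⟦(1 : ℤ)⟧ ⟶ K') :=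
    key (U ⊓ V) (inf_le_left.trans le_sup_left) hUV 1
  have h2 : Countable (T.obj₂ ⟶ K') := by
    let z : ∀ Z : DCoh.D (W : Scheme.{u}), Z⟦(0 : ℤ)⟧ ≅ Z := fun Z => (shiftFunctorZero _ ℤ).app Z
    have := key U le_sup_left hU 0
    have := key V le_sup_right hV 0
    refine Function.Injective.countable (f := fun φ : T.obj₂ ⟶ K' =>
      ((z _).hom ≫ Q.map (biprod.inl : (MVExtZero.Ec U').obj C ⟶ _) ≫ φ,
        (z _).hom ≫ Q.map (biprod.inr : (MVExtZero.Ec V').obj C ⟶ _) ≫ φ)) fun a b hab => ?_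
    have h₁ := (cancel_epi (z _).hom).1 (congrArg Prod.fst hab)
    have h₂ := (cancel_epi (z _).hom).1 (congrArg Prod.snd hab)
    have hid : 𝟙 (Q.obj ((MVExtZero.Ec U').obj C ⊞ (MVExtZero.Ec V').obj C)) =
        Q.map biprod.fst ≫ Q.map biprod.inl + Q.map biprod.snd ≫ Q.map biprod.inr := by
      rw [← Functor.map_comp, ← Functor.map_comp, ← Functor.map_add, biprod.total, CategoryTheory.Functor.map_id]
    refine (Category.id_comp a).symm.trans (Eq.trans ?_ (Category.id_comp b))
    refine (congrArg (· ≫ a) hid).trans (Eq.trans ?_ (congrArg (· ≫ b) hid).symm)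
    refine (Preadditive.add_comp _ _ _ _ _ _).trans (Eq.trans ?_ (Preadditive.add_comp _ _ _ _ _ _).symm)
    exact congrArg₂ (· + ·) ((Category.assoc _ _ _).trans ((congrArg (_ ≫ ·) h₁).trans (Category.assoc _ _ _).symm))
      ((Category.assoc _ _ _).trans ((congrArg (_ ≫ ·) h₂).trans (Category.assoc _ _ _).symm))
  have : Countable (Q.obj C ⟶ K') :=
    countable_of_exact (Preadditive.leftComp K' T.mor₃) (Preadditive.leftComp K' T.mor₂)
      fun x hx => (Triangle.yoneda_exact₃ T hT x hx).imp fun _ hy => hy.symm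
  exact Function.Injective.countable (f := fun φ => eC.hom ≫ φ) fun a b hab => (cancel_epi eC.hom).1 hab

theorem R_basic {V : X.Opens} (hV : IsAffineOpen V) (n : ℕ) (f : Fin n → Γ(X, V)) :
    R (⨆ k, X.basicOpen (f k)).ι := by
  induction n with
  | zero =>
    have : IsAffine (⨆ k, X.basicOpen (f k) : X.Opens) := by
      rw [iSup_of_empty]; exact isAffineOpen_bot X
    exact R_of_affine _
  | succ n ih =>
    let U : X.Opens := ⨆ k, X.basicOpen (f (Fin.castSucc k))
    let D : X.Opens := X.basicOpen (f (Fin.last n))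
    have h1 : (⨆ k, X.basicOpen (f k)) = U ⊔ D := by
      refine le_antisymm (iSup_le fun k => ?_) (sup_le (iSup_le fun k => le_iSup (fun k => X.basicOpen (f k)) _)
        (le_iSup (fun k => X.basicOpen (f k)) _))
      cases k using Fin.lastCases with
      | last => exact le_sup_right
      | cast k => exact le_sup_of_le_left (le_iSup (fun k => X.basicOpen (f (Fin.castSucc k))) k)
    have h2 : U ⊓ D = ⨆ k, X.basicOpen (f (Fin.castSucc k) * f (Fin.last n)) := by
      rw [iSup_inf_eq]
      simp only [Scheme.basicOpen_mul, D]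
    rw [h1]
    have : IsAffine D := hV.basicOpen _
    exact R_sup U D (ih _) (R_of_affine _) (h2 ▸ ih _)

theorem R_in_affine {V : X.Opens} (hV : IsAffineOpen V) (O : X.Opens) (hO : O ≤ V)
    (hc : IsCompact (O : Set X)) : R O.ι := by
  classical
  choose g hg hxg using fun x : O => hV.exists_basicOpen_le ⟨x.1, x.2⟩ (hO x.2)
  obtain ⟨t, ht⟩ := hc.elim_finite_subcover (fun x : O => (X.basicOpen (g x) : Set X))
    (fun x => (X.basicOpen (g x)).isOpen) (fun y hy => Set.mem_iUnion.2 ⟨⟨y, hy⟩, hxg ⟨y, hy⟩⟩)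
  have : O = ⨆ k, X.basicOpen ((fun k => g (t.equivFin.symm k)) k) := by
    refine le_antisymm (fun y hy => ?_) (iSup_le fun k => hg _)
    obtain ⟨x, hx⟩ := Set.mem_iUnion.1 (ht hy)
    obtain ⟨hxt, hy'⟩ := Set.mem_iUnion.1 hx
    exact Opens.mem_iSup.2 ⟨t.equivFin ⟨x, hxt⟩, by simpa using hy'⟩
  exact this ▸ R_basic hV _ _

/-- Let the scheme X be quasi-compact and quasi-separated, K ∈ D(O_X) with quasi-coherent cohomology
sheaves whose sections over affine opens are countable, E a perfect object of D(O_X), and U ⊆ X a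
quasi-compact open (restriction to U assumed exact). Then for every i the group of morphisms E|_U ⟶
K|_U[i] in D(O_U) is countable. -/
theorem result (X : Scheme.{u}) [CompactSpace ↥X] [QuasiSeparatedSpace ↥X]
    (K : DCoh.D X) (hK : DCoh.IsQCohD K) (hKc : ∀ V : X.Opens, IsAffineOpen V → ∀ i : ℤ, Countable ((DCoh.HD K i).val.obj (op V)))
    (E : DCoh.D X) (hE : DCoh.IsPerfect E) (U : X.Opens) (hU : IsCompact (U : Set X)) [PreservesFiniteLimits (Scheme.Modules.restrictFunctor U.ι)] (i : ℤ) :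
    Countable ((DCoh.restrictD U.ι).obj E ⟶ ((DCoh.restrictD U.ι).obj K)⟦i⟧) := by
  have key : R U.ι := by
    refine compact_open_induction_on (P := fun U => R U.ι) U hU ?_ ?_
    · have : IsAffine (⊥ : X.Opens) := isAffineOpen_bot X
      exact R_of_affine _
    · intro S hS V hSR
      have : IsAffine (V.1 : X.Opens) := V.2
      exact R_sup S V.1 hSR (R_of_affine _) (R_in_affine V.2 _ inf_le_right
        (QuasiSeparatedSpace.inter_isCompact _ _ S.isOpen hS V.1.isOpen V.2.isCompact))
  have := key E (K⟦i⟧) hE (Groth.Agent.CohDerLib.QC.isQCohD_shift hK i) (secCount_shift hKc i)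
  exact @Function.Injective.countable _ _ this (fun φ => φ ≫ (((DCoh.restrictD U.ι).commShiftIso i).app K).inv)
    fun a b hab => (cancel_mono (((DCoh.restrictD U.ι).commShiftIso i).app K).inv).1 hab

end Groth.Agent.S1099
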