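import Groth.Statements.S10992
import Groth.Agent.FF.RR
-- import your own Groth.Agent.* helpers here

set_option autoImplicit false
open FunFld

namespace Groth.Agent.S10992

/-- A divisor `C` of a function field of one variable of genus `g` is canonical iff `ℓ(C) = g` and `deg
C = 2g - 2`. -/
theorem result (k K : Type*) [Field k] [Field K] [Algebra k K]
    (hK : FunFld.IsFunctionField k K) (C : FunFld.Divisor k K) :
    FunFld.IsCanonical k K C ↔ (FunFld.ell C = FunFld.genus k K ∧ C.deg = 2 * FunFld.genus k K - 2) := by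
  refine ⟨fun hC => ⟨FF.ell_canonical hK hC, FF.deg_canonical hK hC⟩, fun ⟨hell, hdeg⟩ => ?_⟩
  obtain ⟨C', hC'⟩ := FF.exists_canonical hK
  have h := FF.riemann_roch hK hC' C
  have hpos : 0 < ell (C' - C) := by omega
  obtain ⟨z, hz, hzD⟩ := FF.exists_nonneg_equiv hK hpos
  have hd : (C' - C + div k z).deg = 0 := by
    rw [FF.deg_add, FF.deg_sub, FF.deg_div hK, FF.deg_canonical hK hC', hdeg]; ring
  have heq : C' - C + div k z = 0 := by
    by_contra hne
    obtain ⟨P, hP⟩ : ∃ P, 0 < (C' - C + div k z) P := by
      by_contra! hle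
      exact hne (le_antisymm hle hzD)
    have h1 : Finsupp.single P (1 : ℤ) ≤ C' - C + div k z := by
      classical
      intro Q
      rw [Finsupp.single_apply]
      split_ifs with he
      · subst he; omega
      · exact hzD Q
    have h2 := FF.deg_mono h1
    rw [FF.deg_single, hd] at h2
    have := FF.deg_pos hK P
    omega
  have hCC : C = C' + div k z := by
    rw [← sub_eq_zero]
    calc C - (C' + div k z) = -(C' - C + div k z) + (0 : Divisor k K) := by abel
      _ = 0 := by rw [heq]; simp
  obtain ⟨ω, h0, hω⟩ := hC'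
  have hd := FF.isDivOf_mulW hK hz (FF.mul_mem_adele hK z) hω
  rw [← hCC] at hd
  exact ⟨_, FF.ne_zero_of_isDivOf hK hd, hd⟩

end Groth.Agent.S10992
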