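import Groth.Statements.S10994
import Groth.Agent.FF.GenusOne
-- import your own Groth.Agent.* helpers here

set_option autoImplicit false
open FunFld

namespace Groth.Agent.S10994

/-- A function field of one variable has genus `0` and a place of degree `1` iff it is a rational
function field `k(x)`. -/
theorem result (k K : Type*) [Field k] [Field K] [Algebra k K]
    (hK : FunFld.IsFunctionField k K) :
    (FunFld.genus k K = 0 ∧ ∃ P : FunFld.Place k K, P.deg = 1) ↔
      ∃ x : K, IntermediateField.adjoin k ({x} : Set K) = ⊤ := by
  constructor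
  · rintro ⟨hg, P, hP⟩
    obtain ⟨x, h1, h2⟩ := (FF.exists_simple_pole_iff_ell hK hP).2 (by
      have := FF.ell_eq_of_deg_ge hK (D := Finsupp.single P 1)
        (by rw [FF.deg_single, hP, hg]; norm_num)
      rw [FF.deg_single, hP, hg] at this
      omega)
    exact ⟨x, FF.rational_of_simple_pole hK hP h1 h2⟩
  · rintro ⟨x, hx⟩
    obtain ⟨P, hP, -, -⟩ := FF.exists_simple_pole_of_rational hK hx
    exact ⟨FF.genus_eq_zero_of_rational hK hx, P, hP⟩

end Groth.Agent.S10994
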