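import Groth.Statements.S10997
import Groth.Agent.FF.GenusOne
-- import your own Groth.Agent.* helpers here

set_option autoImplicit false
open FunFld

namespace Groth.Agent.S10997

/-- Given distinct places `P∞, P_1, …, P_n` of a function field of one variable, elements `x_i` and
integers `m_i`, some `x ∈ K` has `ord_{P_i}(x - x_i) = m_i` for all `i` and is integral outside
`{P∞, P_1, …, P_n}`. -/
theorem result (k K : Type*) [Field k] [Field K] [Algebra k K]
    (hK : FunFld.IsFunctionField k K) (Pinf : FunFld.Place k K) (n : ℕ) (P : Fin n → FunFld.Place k K) (hP : Function.Injective P)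
    (hinf : Pinf ∉ Set.range P) (x : Fin n → K) (m : Fin n → ℤ) :
    ∃ y : K, (∀ i, (P i).1 (y - x i) = WithZero.exp (-(m i))) ∧
      ∀ Q : FunFld.Place k K, Q ≠ Pinf → Q ∉ Set.range P → Q.1 y ≤ 1 := by
  classical
  choose c hc using fun i => FF.exists_val (P i) (-(m i))
  obtain ⟨y, hy1, hy2⟩ := FF.strong_approx hK (P₀ := Pinf) (Finset.univ.image P)
    (by simpa [Set.mem_range] using hinf)
    (fun Q => if h : ∃ i, P i = Q then x h.choose + c h.choose else 0)
    (fun Q => if h : ∃ i, P i = Q then -(m h.choose) - 1 else 0)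
  refine ⟨y, fun i => ?_, fun Q hQ hQr => hy2 Q hQ (by simpa [Set.mem_range] using hQr)⟩
  have h := hy1 (P i) (by simp)
  have hex : ∃ j, P j = P i := ⟨i, rfl⟩
  rw [dif_pos hex, dif_pos hex, hP hex.choose_spec] at h
  rw [show y - x i = (y - (x i + c i)) + c i by ring, Valuation.map_add_eq_of_lt_right _
    (h.trans_lt (by rw [hc, WithZero.exp_lt_exp]; omega)), hc]

end Groth.Agent.S10997
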