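import Groth.Statements.S10998
import Groth.Agent.FF.GenusOne
-- import your own Groth.Agent.* helpers here

set_option autoImplicit false
open FunFld

namespace Groth.Agent.S10998

/-- A genus-one function field with a place `P₀` of degree one is `k(x, y)` with `x ∈ L(2P₀)`, `y ∈
L(3P₀)` of pole orders `2` and `3`, and `y² + f(x) y + g(x) = 0` for polynomials `f` of degree `≤ 1`
and `g` of degree `3`. -/
theorem result (k K : Type*) [Field k] [Field K] [Algebra k K]
    (hK : FunFld.IsFunctionField k K) (hg : FunFld.genus k K = 1) (P₀ : FunFld.Place k K) (hP : P₀.deg = 1) :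
    ∃ x y : K, x ∈ FunFld.L (Finsupp.single P₀ 2) ∧ y ∈ FunFld.L (Finsupp.single P₀ 3) ∧
      P₀.ord x = -2 ∧ P₀.ord y = -3 ∧
      IntermediateField.adjoin k ({x, y} : Set K) = ⊤ ∧
      ∃ f g : Polynomial k, f.natDegree ≤ 1 ∧ g.natDegree = 3 ∧
        y ^ 2 + Polynomial.aeval x f * y + Polynomial.aeval x g = 0 := by
  obtain ⟨x, hx, hx2⟩ := FF.exists_pole_order hK hg hP (n := 2) le_rfl
  obtain ⟨y, hy, hy3⟩ := FF.exists_pole_order hK hg hP (n := 3) (by norm_num)
  exact ⟨x, y, hx, hy, hx2, hy3, FF.adjoin_eq_top_of_orders hK hP hx hx2 hy hy3,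
    FF.weierstrass_relation hK hg hP hx hx2 hy hy3⟩

end Groth.Agent.S10998
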