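import Groth.Statements.S1101
import Groth.Agent.FlatBC.Main
import Groth.Agent.PCohD.FibreGeom
import Groth.Agent.PCohD.PerfTor
import Groth.Agent.PCohD.StalkNhd
import Groth.Agent.FlatOpen.Scheme
import Groth.Agent.FlatMor.FibreStalk
import Groth.Agent.DRing.FlatAwayQuot
import Groth.Agent.KFlat.StalkD
import Groth.Agent.FDesc.Stalk
import Groth.Agent.S12451
-- import your own Groth.Agent.* helpers here

set_option autoImplicit false
universe u
open CategoryTheory CategoryTheory.Limits AlgebraicGeometry Opposite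
attribute [local instance] HasDerivedCategory.standard
open Perf

namespace Groth.Agent.S1101

open Groth.Agent Groth.Agent.DRing Groth.Agent.KFlat MonoidalCategory
open Groth.Agent.PerfTri (Perfect.restrQ Perfect.restrComp)

variable {X S : Scheme.{u}}

/-- Homology below a bound vanishes. -/
theorem isZero_HD_of_isGE {K : DCoh.D X} {a : ℤ} (h : K.IsGE a) {i : ℤ} (hi : i < a) :
    IsZero ((DerivedCategory.homologyFunctor X.Modules i).obj K) :=
  (DerivedCategory.isGE_iff K a).1 h i hi

theorem isGE_of_isGE_le {U V : X.Opens} (hUV : U ≤ V) {K : DCoh.D X} {a c : ℤ} (hc : c ≤ a)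
    (h : ((DCoh.restrictD V.ι).obj K).IsGE a) : ((DCoh.restrictD U.ι).obj K).IsGE c :=
  (DerivedCategory.isGE_iff _ c).2 fun i hi =>
    (PCohD.FTFP.isZero_restr (X.homOfLE hUV) (isZero_HD_of_isGE h (by omega))).of_iso
      ((DerivedCategory.homologyFunctor _ i).mapIso
        (Perfect.restrComp (X.homOfLE hUV) V.ι U.ι (X.homOfLE_ι hUV) K).symm)

/-- Relative finite tor dimension bounds below locally. -/
theorem isGE_of_relTor (f : X ⟶ S) (K : DCoh.D X) (h : DCoh.LocHasFiniteRelTorDim f K) (x : X) :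
    ∃ (V : X.Opens) (a : ℤ), x ∈ V ∧ ((DCoh.restrictD V.ι).obj K).IsGE a := by
  obtain ⟨V, a, b, hx, hV⟩ := h x
  obtain ⟨E', hv, -, ⟨e⟩⟩ := hV _ ⟨DerivedCategory.Q.objObjPreimageIso K⟩
  have : E'.IsStrictlyGE a := (E'.isStrictlyGE_iff a).mpr fun i hi => hv i (Or.inl hi)
  refine ⟨V, a, hx, (DerivedCategory.isGE_iff _ a).2 fun i hi => ?_⟩
  exact ((PCohD.isZero_homology_Q E' i).mpr
    (((HomologicalComplex.exactAt_iff_isZero_homology E' i).1
      (((E'.exactAt_iff i).2 (ShortComplex.exact_of_isZero_X₂ _ (hv i (Or.inl hi)))))))).of_iso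
    ((DerivedCategory.homologyFunctor _ i).mapIso
      ((DCoh.restrictD V.ι).mapIso (DerivedCategory.Q.objObjPreimageIso K).symm ≪≫
        Perfect.restrQ V.ι _ ≪≫ e.symm))

/-- Boundedness of the fibre at `y` gives exactness against the residue field at its image. -/
theorem exactResidue_of_fibre (f : X ⟶ S) [Flat f] (s : S) (y : f.fiber s)
    (P : CochainComplex X.Modules ℤ) (W : (f.fiber s).Opens) (hy : y ∈ W) (a : ℤ)
    (hW : ((DCoh.restrictD W.ι).obj
      (DerivedCategory.Q.obj ((Pull.pullCx (f.fiberι s)).obj P))).IsGE a) :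
    PCohD.FibreGeom.ExactResidue f P a (f.fiberι s y) := by
  intro c hc
  let i := f.fiberι s
  let α := (f.stalkMap (i y)).hom
  let φ := (i.stalkMap y).hom
  let ψ := IsLocalRing.residue (S.presheaf.stalk (f (i y)))
  let T := (StalkCx.stCx (i y)).obj P
  have hz := (KFlat.StalkD.isZero_stalk_restrict_iff (⟨y, hy⟩ : (W : Scheme.{u})) _).1
    (((DerSch.stalkFunctor _ _).map_isZero (isZero_HD_of_isGE hW hc)).of_iso
      ((DerSch.stalkFunctor _ _).mapIso
        ((MapHomology.iso (Scheme.Modules.restrictFunctor W.ι) c).app _).symm))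
  have hex : ((StalkCx.stCx y).obj ((Pull.pullCx i).obj P)).ExactAt c :=
    (HomologicalComplex.exactAt_iff_isZero_homology _ _).2
      ((hz.of_iso ((DerSch.stalkFunctor _ y).mapIso
        ((DerivedCategory.homologyFunctorFactors _ c).app ((Pull.pullCx i).obj P)).symm)).of_iso
        ((MapHomology.cxIso (DerSch.stalkFunctor _ y) c).app _))
  have hex' : ((BaseChange.extCx φ).obj T).ExactAt c := hex.of_iso (Pull.stPullIso i y P)
  have hkill : ∀ r, r ∈ RingHom.ker ψ → (φ.comp α) r = 0 := fun r hr => by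
    have := FlatMor.SepDiff.stalkMap_fiberι_kills f s y r
      (by rwa [← IsLocalRing.ker_residue])
    exact this
  let ρ : IsLocalRing.ResidueField (S.presheaf.stalk (f (i y))) →+* (f.fiber s).presheaf.stalk y :=
    Ideal.Quotient.lift _ (φ.comp α) fun r hr =>
      hkill r (by rwa [IsLocalRing.ker_residue])
  have h : ∀ r, ρ (ψ r) = φ (α r) := fun r => rfl
  have hker : RingHom.ker φ = (RingHom.ker ψ).map α := by
    rw [IsLocalRing.ker_residue]
    exact FlatMor.FibreStalk.ker_stalkMap_fiberι f s y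
  have hψ : Function.Surjective ψ := IsLocalRing.residue_surjective
  have hpo := AffDef.isPushout_of_ker ψ hψ α φ ρ (i.stalkMap_surjective y)
    (RingHom.ext fun r => (h r).symm) hker
  let iAB' : Algebra (S.presheaf.stalk (f (i y))) (X.presheaf.stalk (i y)) := α.toAlgebra
  let iAA : Algebra (S.presheaf.stalk (f (i y))) (IsLocalRing.ResidueField (S.presheaf.stalk (f (i y)))) :=
    ψ.toAlgebra
  let iB'B : Algebra (X.presheaf.stalk (i y)) ((f.fiber s).presheaf.stalk y) := φ.toAlgebra
  let iAB : Algebra (IsLocalRing.ResidueField (S.presheaf.stalk (f (i y)))) ((f.fiber s).presheaf.stalk y) :=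
    ρ.toAlgebra
  let : Algebra (S.presheaf.stalk (f (i y))) ((f.fiber s).presheaf.stalk y) := (φ.comp α).toAlgebra
  have : IsScalarTower (S.presheaf.stalk (f (i y))) (X.presheaf.stalk (i y))
      ((f.fiber s).presheaf.stalk y) := .of_algebraMap_eq fun _ => rfl
  have : IsScalarTower (S.presheaf.stalk (f (i y))) (IsLocalRing.ResidueField (S.presheaf.stalk (f (i y))))
      ((f.fiber s).presheaf.stalk y) := .of_algebraMap_eq fun r => (h r).symm
  have : Algebra.IsPushout (S.presheaf.stalk (f (i y)))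
      (IsLocalRing.ResidueField (S.presheaf.stalk (f (i y))))
      (X.presheaf.stalk (i y)) ((f.fiber s).presheaf.stalk y) :=
    CommRingCat.isPushout_iff_isPushout.mp hpo.flip
  let e := RelPC.sqIso α ψ φ ρ h
    (fun M => RelPC.bijective_sqHom α ψ φ ρ h iAB' iAA iB'B iAB rfl rfl rfl rfl M)
  let e' : (BaseChange.extCx ψ).obj ((BaseChange.resCx α).obj T) ≅
      (BaseChange.resCx ρ).obj ((BaseChange.extCx φ).obj T) :=
    HomologicalComplex.Hom.isoOfComponents (fun n => e.app (T.X n))
      fun c d _ => (e.hom.naturality (T.d c d)).symm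
  have hres : ((BaseChange.resCx ρ).obj ((BaseChange.extCx φ).obj T)).ExactAt c :=
    ShortComplex.Exact.map hex' (ModuleCat.restrictScalars ρ)
  refine Nilp.exactAt_tensor_killed ψ hψ _ _ c (fun r hr z => ?_) fun N' =>
    AwayQuot.exactAt_tensor_field _ c (hres.of_iso e'.symm) N'
  obtain ⟨z, rfl⟩ := IsLocalRing.residue_surjective z
  change IsLocalRing.residue _ (r * z) = 0
  refine (IsLocalRing.residue_eq_zero_iff _).2 (Ideal.mul_mem_right z _ ?_)
  rwa [← IsLocalRing.ker_residue]

/-- A pseudo-coherent complex on an affine open is a tilde. -/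
theorem exists_tilde_rep {R : CommRingCat.{u}} (j : Spec R ⟶ X) [IsOpenImmersion j]
    (P : CochainComplex X.Modules ℤ) (hpc : ∀ m : ℤ, DCoh.IsPseudoCoherentD m (DCoh.toD X P)) :
    ∃ (E : DRing.Cx R) (b : ℤ), DRing.VanishesAbove E b ∧ DRing.TermwiseFiniteFree E ∧
      Nonempty (DerivedCategory.Q.obj (((tilde.functor R).mapHomologicalComplex (ComplexShape.up ℤ)).obj E) ≅
        DerivedCategory.Q.obj ((Pull.pullCx j).obj P)) := by
  have := KFlat.TildeExact.preservesFiniteLimits_tilde R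
  have hK : ∀ m : ℤ, DCoh.IsPseudoCoherentD m (DerivedCategory.Q.obj ((Pull.pullCx j).obj P)) := fun m =>
    PCohD.pc_of_iso (Perfect.restrQ j P ≪≫ DerivedCategory.Q.mapIso ((QCohModel.restrJIso j).app P))
      (PCohD.pc_restrict j (hpc m))
  have hq : DCoh.IsQCohD (DerivedCategory.Q.obj ((Pull.pullCx j).obj P)) := fun i =>
    (Groth.Agent.S7240.result (i - 1) _ (hK (i - 1))).1 i (by omega)
  obtain ⟨M, ⟨eM⟩⟩ := TildeD.exists_iso_of_isQCohD (R := R) _ hq
  obtain ⟨E, b, hb, hE, ⟨eE⟩⟩ := (DRing.PC.pc'_iff M).2 fun m =>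
    TildePC.isPseudoCoherent_of_tildeD (A := R) M m (PCohD.pc_of_iso eM.symm (hK m))
  exact ⟨E, b, hb, hE, ⟨((tilde.functor R).mapDerivedCategoryFactors.app E).symm ≪≫
    (DCoh.tildeD R).mapIso eE ≪≫ eM⟩⟩

/-- Bounded below near `x` and on its fibre gives finite relative tor dimension near `x`. -/
theorem relTor_at (f : X ⟶ S) [Flat f] [LocallyOfFinitePresentation f]
    [∀ s : S, DCoh.HasLpull (f.fiberι s)]
    (K : DCoh.D X) (hK : ∀ m : ℤ, DCoh.IsPseudoCoherentD m K) (x : X)
    (hb : ∃ (V : X.Opens) (a : ℤ), x ∈ V ∧ ((DCoh.restrictD V.ι).obj K).IsGE a)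
    (hfib : ∀ (s : S) (y : ↥(f.fiber s)), ∃ (W : (f.fiber s).Opens) (a : ℤ), y ∈ W ∧
      ((DCoh.restrictD W.ι).obj ((DCoh.Lpull (f.fiberι s)).obj K)).IsGE a) :
    ∃ (V : X.Opens) (a b : ℤ), x ∈ V ∧ ∀ F' : CochainComplex X.Modules ℤ,
      Nonempty (DCoh.toD X F' ≅ K) → DCoh.HasRelFlatAmplitudeIn (V.ι ≫ f) a b
        (DerivedCategory.Q.obj ((DCoh.restrictCx V).obj F')) := by
  obtain ⟨V, a, hxV, hV⟩ := hb
  let P := (Pull.resY X).obj (DerivedCategory.Q.objPreimage K)
  have hP : DCoh.IsKFlat P := Pull.isKFlat_resY _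
  have := Pull.quasiIso_resYπ (DerivedCategory.Q.objPreimage K)
  let eP : DCoh.toD X P ≅ K :=
    asIso (DerivedCategory.Q.map ((Pull.resYπ X).app (DerivedCategory.Q.objPreimage K))) ≪≫
      DerivedCategory.Q.objObjPreimageIso K
  have hPpc : ∀ m : ℤ, DCoh.IsPseudoCoherentD m (DCoh.toD X P) := fun m =>
    PCohD.pc_of_iso eP.symm (hK m)
  -- exactness against the residue field at `x`
  obtain ⟨y, hy⟩ : ∃ y, f.fiberι (f x) y = x := ⟨f.asFiber x, f.fiberι_asFiber x⟩
  obtain ⟨W, a', hyW, hW⟩ := hfib (f x) y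
  let c := min a a'
  have hres : PCohD.FibreGeom.ExactResidue f P c x := by
    have h := exactResidue_of_fibre f (f x) y P W hyW c
      ((DerivedCategory.isGE_iff _ c).2 fun i hi => (isZero_HD_of_isGE hW (show i < a' by omega)).of_iso
        ((DerivedCategory.homologyFunctor _ i).mapIso ((DCoh.restrictD W.ι).mapIso
          ((@asIso _ _ _ _ ((Pull.toPull (f.fiberι (f x))).app _) (Pull.isIso_toPull _ hP)).symm ≪≫
            (DCoh.Lpull (f.fiberι (f x))).mapIso eP))))
    rwa [hy] at h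
  -- the affine model
  obtain ⟨U, hU, hxU, hUV⟩ := exists_isAffineOpen_mem_and_subset hxV
  obtain ⟨b₀, hb₀⟩ := PCohD.FibreGeom.exists_bound_open f hU P hP hPpc
  have hamp := hb₀ c x x (specializes_refl x) hxU hres
  let R := Γ(X, U)
  let j := hU.fromSpec
  obtain ⟨E, b, hEb, hEf, ⟨eE⟩⟩ := exists_tilde_rep j P hPpc
  obtain ⟨p, rfl⟩ : ∃ p, j.base p = x := by rw [← Set.mem_range, hU.range_fromSpec]; exact hxU
  let tE := ((tilde.functor R).mapHomologicalComplex (ComplexShape.up ℤ)).obj E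
  let g := j ≫ f
  let β := (g.stalkMap p).hom
  have hβ : β.Flat := Flat.stalkMap g p
  let EL := (BaseChange.extCx (TildeKFlat.toLocal R p)).obj E
  let T := (BaseChange.resCx β).obj EL
  have hELflat : ∀ i, Module.Flat ((Spec R).presheaf.stalk p) (EL.X i) := fun i =>
    Perfect.flat_extendScalars _ (have := (hEf i).2; inferInstance)
  have hELK : DRing.IsKFlat _ EL := KFlat.isKFlat_of_boundedAbove_flat _ b
    (fun i hi => (ModuleCat.extendScalars.{u, u, u} _).map_isZero (hEb i hi)) hELflat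
  have hTK : DRing.IsKFlat _ T := PCohD.Thick.isKFlat_restrict_flat β hβ hELK
  have hTflat : ∀ i, Module.Flat (S.presheaf.stalk (g.base p)) (T.X i) := fun i => by
    letI : Algebra (S.presheaf.stalk (g.base p)) ((Spec R).presheaf.stalk p) := β.toAlgebra
    letI : Module (S.presheaf.stalk (g.base p)) (EL.X i) := Module.compHom (EL.X i) β
    haveI : IsScalarTower (S.presheaf.stalk (g.base p)) ((Spec R).presheaf.stalk p) (EL.X i) :=
      IsScalarTower.of_algebraMap_smul fun _ _ => rfl
    haveI : Module.Flat (S.presheaf.stalk (g.base p)) ((Spec R).presheaf.stalk p) := hβ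
    haveI := hELflat i
    exact Module.Flat.trans (S.presheaf.stalk (g.base p)) ((Spec R).presheaf.stalk p) (EL.X i)
  have eT : DRing.toD T ≅ DRing.toD ((DerSch.stalkCxOver f (j.base p)).obj P) := by
    have hcomp : β = (j.stalkMap p).hom.comp (f.stalkMap (j.base p)).hom := by
      simp only [β, g, Scheme.Hom.stalkMap_comp]
      rfl
    let u := (PCohD.FibreGeom.nonempty_unit_iso (j.stalkMap p).hom
      (ConcreteCategory.bijective_of_isIso (j.stalkMap p)) ((StalkCx.stCx (j.base p)).obj P)).some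
    refine TensorAmp.restrictDIso β
        ((DerivedCategory.Q.mapIso (TildeKFlat.stTildeIso R p E)).symm ≪≫
          PCohD.FibreGeom.stCxIso p eE ≪≫ DerivedCategory.Q.mapIso (Pull.stPullIso j p P)) ≪≫
      (TensorAmp.restrictDIso β (Iso.refl _)).symm ≪≫ DerivedCategory.Q.mapIso ?_
    exact eqToIso (by rw [hcomp]; rfl) ≪≫ (NatIso.mapHomologicalComplex
      (ModuleCat.restrictScalarsComp'.{u} (f.stalkMap (j.base p)).hom (j.stalkMap p).hom _ rfl)
      (ComplexShape.up ℤ)).app _ ≪≫ ((BaseChange.resCx (f.stalkMap (j.base p)).hom).mapIso u.symm)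
  have hvan := (TorAmp.hasTorAmp_iff hTK eT c b₀).1 hamp
  have hcok : Module.Flat (S.presheaf.stalk (g.base p))
      (T.X c ⧸ LinearMap.range (T.d (c - 1) c).hom) :=
    TorAmp.flat_coker hTflat c fun M => hvan M (c - 1) (Or.inl (by omega))
  -- flatness of the cokernel sheaf
  have hflf : ∀ i, FlatMod.IsFinLocFree (tE.X i) := fun i =>
    (Groth.Agent.S12451.result (E.X i)).2 ⟨(hEf i).1, have := (hEf i).2; inferInstance⟩
  let D := cokernel (tE.d (c - 1) c)
  have hDat : FlatMod.IsFlatOverAt g D p := by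
    let Φ := DerSch.stalkFunctor (Spec R) p ⋙ ModuleCat.restrictScalars.{u} β
    let eTE : ((BaseChange.resCx β).obj ((StalkCx.stCx p).obj tE)) ≅ T :=
      (BaseChange.resCx β).mapIso (TildeKFlat.stTildeIso R p E)
    let eD : Φ.obj D ≅ ModuleCat.of _ (T.X c ⧸ LinearMap.range (T.d (c - 1) c).hom) :=
      PreservesCokernel.iso Φ (tE.d (c - 1) c) ≪≫
        cokernel.mapIso _ (T.d (c - 1) c) ((HomologicalComplex.eval _ _ (c - 1)).mapIso eTE)
          ((HomologicalComplex.eval _ _ c).mapIso eTE) (eTE.hom.comm (c - 1) c).symm ≪≫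
        ModuleCat.cokernelIsoRangeQuotient _
    letI := FlatMod.moduleStalkOver g D p
    unfold FlatMod.IsFlatOverAt
    haveI := hcok
    exact Module.Flat.of_linearEquiv (R := S.presheaf.stalk (g.base p)) eD.toLinearEquiv
  have hAq : ∀ i, (tE.X i).IsQuasicoherent := fun i =>
    PerfTri.Betti.isQuasicoherent_of_isFinLocFree (hflf i)
  have hD : CohB1.IsFP D := by
    have := hAq (c - 1)
    have := hAq c
    have : SheafOfModules.IsFinitePresentation.{u} (R := (Spec R).ringCatSheaf) (tE.X (c - 1)) :=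
      Props.QProj.isFP _ (hflf (c - 1))
    exact LimTop.isFP_cokernel inferInstance (Props.QProj.isFP _ (hflf c)) _
  have : D.IsQuasicoherent := by
    have := hAq (c - 1)
    have := hAq c
    exact QCoh.isQuasicoherent_cokernel _
  let O : (Spec R).Opens := ⟨{q | FlatMod.IsFlatOverAt g D q},
    FlatOpen.Scheme.isOpen_isFlatOverAt g D hD⟩
  let N : X.Opens := j ''ᵁ O
  have hNU : N ≤ V := fun z hz => by
    obtain ⟨q, -, rfl⟩ := hz
    exact hUV (hU.range_fromSpec.le ⟨q, rfl⟩)
  refine ⟨N, c, max b c, ⟨p, hDat, rfl⟩, fun F' hF' => ?_⟩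
  obtain ⟨eF⟩ := hF'
  have hr : Set.range N.ι ⊆ Set.range j := by
    rintro _ ⟨z, rfl⟩
    obtain ⟨q, -, hq⟩ := z.2
    exact ⟨q, hq⟩
  let t := IsOpenImmersion.lift j N.ι hr
  have ht : t ≫ j = N.ι := IsOpenImmersion.lift_fac _ _ hr
  have htO : ∀ z, t z ∈ O := fun z => by
    obtain ⟨q, hqO, hq⟩ := z.2
    have : t z = q := j.isOpenEmbedding.injective (by rw [← Scheme.Hom.comp_apply, ht]; exact hq.symm)
    exact this ▸ hqO
  let G := (PerfTri.Nullhom.resC t).obj tE
  have hEK : DRing.IsKFlat R E :=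
    KFlat.isKFlat_of_boundedAbove_flat _ b hEb fun i => have := (hEf i).2; inferInstance
  let eG : DerivedCategory.Q.obj G ≅ (DCoh.restrictD N.ι).obj K :=
    DerivedCategory.Q.mapIso ((QCohModel.restrJIso t).app tE) ≪≫
      LocalD.pullQIso t (TildeKFlat.isKFlat_tilde R E hEK) (Pull.isKFlat_pullCx j hP) eE ≪≫
      DerivedCategory.Q.mapIso ((Pull.pullCxComp t j).app P ≪≫
        (NatIso.mapHomologicalComplex (Scheme.Modules.pullbackCongr ht) (ComplexShape.up ℤ)).app P ≪≫
        ((QCohModel.restrJIso N.ι).app P).symm) ≪≫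
      (Perfect.restrQ N.ι P).symm ≪≫ (DCoh.restrictD N.ι).mapIso eP
  have hNK := isGE_of_isGE_le hNU (show c ≤ a from min_le_left _ _) hV
  have hGge : G.IsGE c := (CochainComplex.isGE_iff _ _).mpr fun i hi =>
    (HomologicalComplex.exactAt_iff_isZero_homology _ _).mpr ((PCohD.isZero_homology_Q _ i).mp
      ((isZero_HD_of_isGE hNK hi).of_iso ((DerivedCategory.homologyFunctor _ i).mapIso eG)))
  let G' := G.truncGE c
  have hbot : FlatMod.IsFlatOver (N.ι ≫ f) (G'.X c) := by
    let F₀ := Scheme.Modules.restrictFunctor t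
    let e₁ : G'.X c ≅ (Scheme.Modules.pullback t).obj D :=
      (G.truncGEXIsoOpcycles c) ≪≫
        ((cokernelIsCokernel _).coconePointUniqueUpToIso (G.opcyclesIsCokernel (c - 1) c (by simp))).symm ≪≫
        (PreservesCokernel.iso F₀ (tE.d (c - 1) c)).symm ≪≫
        (Scheme.Modules.restrictFunctorIsoPullback t).app D
    intro z
    refine (CBC.isFlatOverAt_congr_iso _ e₁ z).2 ?_
    have h := (FDesc.Stalk.flatOverAt_pullback_iff t g D z (Flat.stalkMap t z)).2 (htO z)
    rwa [← Category.assoc, ht] at h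
  refine ⟨G', fun i hi => ?_, fun i => ?_, ⟨?_⟩⟩
  · rcases hi with hi | hi
    · exact G'.isZero_of_isStrictlyGE c i hi
    · exact (((Scheme.Modules.restrictFunctor t).map_isZero
        ((tilde.functor R).map_isZero (hEb i (by omega))))).of_iso (G.truncGEXIso c i (by omega))
  · rcases lt_trichotomy i c with h | rfl | h
    · exact FlatBC.flatOver_isZero _ (G'.isZero_of_isStrictlyGE c i h)
    · exact hbot
    · exact FlatBC.flatOver_of_flat _ (PCohD.PerfTor.isFlat_of_iso (G.truncGEXIso c i h).symm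
        (PCohD.PerfTor.isFlat_restrict t (PCohD.PerfTor.isFlat_of_isFinLocFree (hflf i))))
  · exact (asIso (DerivedCategory.Q.map (G.πTruncGE c))).symm ≪≫ eG ≪≫
      (DCoh.restrictD N.ι).mapIso eF.symm ≪≫ Perfect.restrQ N.ι F'

end Groth.Agent.S1101

namespace Groth.Agent.S1101

/-- Let f : X ⟶ S be flat and locally of finite presentation and E a pseudo-coherent object of D(O_X).
Assume restrictions to opens are exact and the derived pullbacks to the fibres X_s exist. Then E is
S-perfect (locally of finite tor dimension over S in the flat-representative form) if and only if E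
is locally bounded below on X and, for every s ∈ S, the derived pullback of E to the fibre X_s is
locally bounded below on X_s. -/
theorem result {X S : Scheme.{u}} (f : X ⟶ S) [Flat f] [LocallyOfFinitePresentation f]
    [∀ (Y : Scheme.{u}) (V : Y.Opens), PreservesFiniteLimits (Scheme.Modules.restrictFunctor V.ι)]
    [∀ s : S, DCoh.HasLpull (f.fiberι s)]
    (E : DCoh.D X) (hE : ∀ m : ℤ, DCoh.IsPseudoCoherentD m E) :
    DCoh.LocHasFiniteRelTorDim f E ↔
      ((∀ x : X, ∃ (V : X.Opens) (a : ℤ), x ∈ V ∧ ((DCoh.restrictD V.ι).obj E).IsGE a) ∧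
       ∀ (s : S) (y : ↥(f.fiber s)), ∃ (W : (f.fiber s).Opens) (a : ℤ), y ∈ W ∧
         ((DCoh.restrictD W.ι).obj ((DCoh.Lpull (f.fiberι s)).obj E)).IsGE a) := by
  open Groth.Agent Groth.Agent.DRing Groth.Agent.KFlat in
  constructor
  · intro h
    refine ⟨fun x => Groth.Agent.S1101.isGE_of_relTor f E h x, fun s y => ?_⟩
    have : DCoh.HasLpull (pullback.fst f (S.fromSpecResidueField s)) :=
      ‹∀ s : S, DCoh.HasLpull (f.fiberι s)› s
    exact Groth.Agent.S1101.isGE_of_relTor _ _
      (FlatBC.locHasFiniteRelTorDim_Lpull f (S.fromSpecResidueField s) E h) y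
  · rintro ⟨hb, hfib⟩ x
    exact Groth.Agent.S1101.relTor_at f E hE x (hb x) fun s y => hfib s y

end Groth.Agent.S1101
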