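import Groth.Statements.S11014
import Groth.Agent.FF.Hyper2
-- import your own Groth.Agent.* helpers here

set_option autoImplicit false
open FunFld

namespace Groth.Agent.S11014

/-- For `char k ≠ 2` and `K = k(x, y)` with `y² = f(x)`, `f` squarefree of degree `d ≥ 1`, the genus is
`(d - 2)/2` for `d` even and `(d - 1)/2` for `d` odd. -/
theorem result (k K : Type*) [Field k] [Field K] [Algebra k K]
    (hK : FunFld.IsFunctionField k K) (h2 : ringChar k ≠ 2) (x y : K) (hx : Transcendental k x)
    (hxy : IntermediateField.adjoin k ({x, y} : Set K) = ⊤)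
    (f : Polynomial k) (hf : Squarefree f) (hd : 1 ≤ f.natDegree)
    (heq : y ^ 2 = Polynomial.aeval x f) :
    FunFld.genus k K = (f.natDegree - 1) / 2 := by
  obtain ⟨alg, htow, hX, hpoly, hrange, hfr⟩ := Groth.Agent.FF.exists_ratFunc_algebra hx
  have heq' : y ^ 2 = algebraMap (RatFunc k) K (algebraMap (Polynomial k) (RatFunc k) f) := by
    rw [hpoly]; exact heq
  have hy : ∀ r : RatFunc k, algebraMap (RatFunc k) K r ≠ y := fun r h => by
    rw [← h, ← map_pow] at heq'
    have h1 := (algebraMap (RatFunc k) K).injective heq'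
    have hi : IsIntegral (Polynomial k) r :=
      IsIntegral.of_pow two_pos (by rw [h1]; exact isIntegral_algebraMap)
    obtain ⟨a, rfl⟩ := IsIntegrallyClosed.algebraMap_eq_of_integral hi
    rw [← map_pow] at h1
    have ha := RatFunc.algebraMap_injective k h1
    have := Polynomial.natDegree_eq_zero_of_isUnit (hf a ⟨1, by rw [← ha]; ring⟩)
    rw [← ha, Polynomial.natDegree_pow] at hd
    omega
  have hint : IsIntegral (RatFunc k) y :=
    IsIntegral.of_pow two_pos (by rw [heq']; exact isIntegral_algebraMap)
  have htop : IntermediateField.adjoin (RatFunc k) ({y} : Set K) = ⊤ := by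
    rw [← IntermediateField.restrictScalars_eq_top_iff (K := k), eq_top_iff, ← hxy,
      IntermediateField.adjoin_le_iff]
    rintro z (rfl | rfl) <;> rw [SetLike.mem_coe, IntermediateField.mem_restrictScalars]
    · rw [← hX]; exact IntermediateField.algebraMap_mem _ RatFunc.X
    · exact IntermediateField.mem_adjoin_simple_self (RatFunc k) z
  have hdeg : Module.finrank (RatFunc k) K = 2 := by
    have h1 := IntermediateField.adjoin.finrank hint
    rw [htop, IntermediateField.finrank_top'] at h1
    refine h1.trans (le_antisymm ?_ ((minpoly.two_le_natDegree_iff hint).2 fun ⟨r, hr⟩ => hy r hr))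
    refine (Polynomial.natDegree_le_of_dvd (minpoly.dvd _ _ (p := Polynomial.X ^ 2 -
      Polynomial.C (algebraMap (Polynomial k) (RatFunc k) f)) (by simp [heq']))
      (Polynomial.X_pow_sub_C_ne_zero two_pos _)).trans_eq Polynomial.natDegree_X_pow_sub_C
  exact (Groth.Agent.FF.IsHyper.of h2 hdeg hf hd heq').genus_eq hK

end Groth.Agent.S11014
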