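import Groth.Statements.S11017
import Groth.Agent.FF.RR
-- import your own Groth.Agent.* helpers here

set_option autoImplicit false
open FunFld

namespace Groth.Agent.S11017

/-- For a Weil differential `ω` with divisor `C`, `ord_P [ω] ≥ e` iff `ω` kills every repartition
concentrated at `P` with `P`-component of order at least `-e`. -/
theorem result (k K : Type*) [Field k] [Field K] [Algebra k K] (ω : Module.Dual k (FunFld.adele k K)) (C : FunFld.Divisor k K) (hω : FunFld.IsDivOf ω C)
    (P : FunFld.Place k K) (e : ℤ) :
    e ≤ C P ↔ ∀ (a : FunFld.Place k K → K) (ha : a ∈ FunFld.adele k K),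
      (∀ Q, Q ≠ P → a Q = 0) → P.1 (a P) ≤ WithZero.exp e → ω ⟨a, ha⟩ = 0 := by
  classical
  constructor
  · intro he a ha h0 hP
    have hC := (hω C).2 le_rfl
    unfold FunFld.WD FunFld.ADK at hC
    rw [Submodule.mem_dualAnnihilator] at hC
    refine hC _ ?_
    rw [Submodule.mem_comap]
    refine Submodule.mem_sup_left fun Q => ?_
    rcases eq_or_ne Q P with rfl | hQ
    · exact hP.trans (WithZero.exp_le_exp.2 he)
    · simp [h0 Q hQ]
  · intro h
    by_contra hlt
    set E : Divisor k K := C + Finsupp.single P (e - C P) with hE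
    have hC := (hω C).2 le_rfl
    have hEm : ω ∈ WD E := by
      unfold FunFld.WD FunFld.ADK at hC ⊢
      rw [Submodule.mem_dualAnnihilator] at hC ⊢
      intro a ha
      rw [Submodule.mem_comap, Submodule.subtype_apply] at ha
      obtain ⟨b, hb, r, hr, hbr⟩ := Submodule.mem_sup.1 ha
      have hbA : b ∈ adele k K := FF.AD_le_adele _ hb
      set b₁ : Place k K → K := fun Q => if Q = P then b Q else 0 with hb₁
      have hb₁A : b₁ ∈ adele k K := FF.mem_adele.2 ((FF.mem_adele.1 hbA).subset fun Q hQ => by
        by_cases e : Q = P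
        · simpa [hb₁, e] using hQ
        · simp [hb₁, e] at hQ)
      have h1 : ω ⟨b₁, hb₁A⟩ = 0 := by
        refine h b₁ hb₁A (fun Q hQ => by simp [hb₁, hQ]) ?_
        have := hb P
        simp only [hE, Finsupp.add_apply, Finsupp.single_eq_same, add_sub_cancel] at this
        simpa [hb₁] using this
      have h2 : ω (a - ⟨b₁, hb₁A⟩) = 0 := by
        refine hC _ ?_
        rw [Submodule.mem_comap]
        show (a : Place k K → K) - b₁ ∈ AD C ⊔ LinearMap.range (diag k K)
        rw [← hbr, add_sub_right_comm]
        refine Submodule.add_mem_sup (fun Q => ?_) hr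
        by_cases e : Q = P
        · simp [hb₁, e]
        · have := hb Q
          simp only [hE, Finsupp.add_apply, Finsupp.single_eq_of_ne e, add_zero] at this
          simpa [hb₁, e] using this
      rwa [map_sub, h1, sub_zero] at h2
    have := (hω E).1 hEm P
    simp only [hE, Finsupp.add_apply, Finsupp.single_eq_same] at this
    omega

end Groth.Agent.S11017
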