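import Groth.Statements.S11026
import Groth.Agent.FF.SepCompositum
-- import your own Groth.Agent.* helpers here

set_option autoImplicit false
universe u v
open FunFld

namespace Groth.Agent.S11026

/-- A weakly separable finite extension `K'/k'` of a geometric function field `K/k` (the map `Ω_{K/k} →
Ω_{K'/k'}` injective) is separable over the compositum `k'K`. -/
theorem result (k k' : Type u) (K K' : Type v) [Field k] [Field k'] [Field K] [Field K']
    [Algebra k k'] [Algebra k K] [Algebra K K'] [Algebra k' K'] [Algebra k K']
    [IsScalarTower k k' K'] [IsScalarTower k K K'] [FiniteDimensional K K']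
    (hK : FunFld.IsFunctionField k K) (hg : FunFld.IsGeometric k K)
    (hK' : FunFld.IsFunctionField k' K') (hg' : FunFld.IsGeometric k' K')
    (hw : Function.Injective (KaehlerDifferential.map k k' K K')) :
    Algebra.IsSeparable (IntermediateField.adjoin K (Set.range (algebraMap k' K'))) K' := by
  obtain ⟨x, hx⟩ := Groth.Agent.FF.exists_isSepVar hK (Groth.Agent.FF.good_of_geometric hg)
  have hD := Groth.Agent.FF.D_ne_zero_of_isSepVar hK hx
  have hD' : KaehlerDifferential.D k' K' (algebraMap K K' x) ≠ 0 := fun h0 =>
    hD (hw (by rw [KaehlerDifferential.map_D, h0, map_zero]))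
  haveI := ((Groth.Agent.FF.isSepVar_iff_D_ne_zero hK' (Groth.Agent.FF.good_of_geometric hg')).2 hD').separable
  exact Groth.Agent.FF.isSeparable_of_mem_adjoin x

end Groth.Agent.S11026
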