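import Groth.Statements.S11030
import Groth.Agent.FF.LR.DerivExp
-- import your own Groth.Agent.* helpers here

set_option autoImplicit false
universe u v
open FunFld

namespace Groth.Agent.S11030

/-- In a geometric function field of one variable, a local parameter at a place with separable residue
field is a separating variable: `dt ≠ 0` in `Ω_{K/k}`. (The duality isomorphism `Ω_K ≅ W_K` and the
order of `dt` at `P` are not stated.) -/
theorem result (k : Type u) (K : Type v) [Field k] [Field K] [Algebra k K]
    (hK : FunFld.IsFunctionField k K) (hg : FunFld.IsGeometric k K) (P : FunFld.Place k K)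
    [Algebra.IsSeparable k (IsLocalRing.ResidueField P.O)] (t : K) (ht : P.1 t = WithZero.exp (-1)) :
    KaehlerDifferential.D k K t ≠ 0 := by
  obtain ⟨φ, hφ⟩ := Groth.Agent.FF.exists_expansion hK.1 P
  exact Groth.Agent.FF.D_ne_zero_uniformizer hφ ht

end Groth.Agent.S11030
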