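import Groth.Statements.S11043
import Groth.Agent.FF.Basic
-- import your own Groth.Agent.* helpers here

set_option autoImplicit false
open FunFld

namespace Groth.Agent.S11043

lemma nthRootsFinset_eq_image_pow {R : Type*} [CommRing R] [IsDomain R] [DecidableEq R] {ζ : R} {n : ℕ}
    (h : IsPrimitiveRoot ζ n) (hn : 0 < n) :
    Polynomial.nthRootsFinset n (1 : R) = (Finset.range n).image (fun i => ζ ^ i) := by
  refine (Finset.eq_of_subset_of_card_le (fun x hx => ?_) ?_).symm
  · obtain ⟨i, -, rfl⟩ := Finset.mem_image.1 hx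
    rw [Polynomial.mem_nthRootsFinset hn, ← pow_mul, mul_comm, pow_mul, h.pow_eq_one, one_pow]
  · rw [h.card_nthRootsFinset, Finset.card_image_of_injOn (fun i hi j hj e =>
      h.pow_inj (Finset.mem_range.1 hi) (Finset.mem_range.1 hj) e), Finset.card_range]

/-- For positive integers `n`, `d` with `e = gcd(n, d)`, in `ℂ[t]` one has `(1 - t^{nd/e})^e = ∏_{θⁿ =
1} (1 - (θ t)^d)`, the product over the complex `n`-th roots of unity. -/
theorem result (n d : ℕ) (hn : 0 < n) (hd : 0 < d) :
    ((1 : Polynomial ℂ) - Polynomial.X ^ (n * d / Nat.gcd n d)) ^ Nat.gcd n d =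
      ∏ θ ∈ Polynomial.nthRootsFinset n (1 : ℂ),
        (1 - Polynomial.C (θ ^ d) * Polynomial.X ^ d) := by
  classical
  obtain ⟨e, n', d', he, hcop, rfl, rfl⟩ := Nat.exists_coprime' (Nat.gcd_pos_of_pos_left d hn)
  have hn' : 0 < n' := Nat.pos_of_mul_pos_right hn
  have hgcd : Nat.gcd (n' * e) (d' * e) = e := by
    rw [Nat.gcd_mul_right, hcop, one_mul]
  rw [hgcd, show n' * e * (d' * e) / e = (d' * e) * n' by
    rw [show n' * e * (d' * e) = d' * e * n' * e by ring, Nat.mul_div_cancel _ he]]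
  obtain ⟨ζ, hζ⟩ := Complex.isPrimitiveRoot_exp (n' * e) (by positivity) |>
    fun h => (⟨_, h⟩ : ∃ z, IsPrimitiveRoot z (n' * e))
  rw [nthRootsFinset_eq_image_pow hζ (by positivity), Finset.prod_image (fun i hi j hj h => by
    exact hζ.pow_inj (Finset.mem_range.1 hi) (Finset.mem_range.1 hj) h)]
  have hω : IsPrimitiveRoot (ζ ^ (d' * e)) n' := by
    have h1 : IsPrimitiveRoot (ζ ^ e) n' := hζ.pow (by positivity) (by ring)
    rw [mul_comm d' e, pow_mul]
    exact h1.pow_of_coprime d' (Nat.Coprime.symm hcop)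
  haveI : NeZero n' := ⟨hn'.ne'⟩
  have hA : ∏ j ∈ Finset.range n',
      (1 - Polynomial.C ((ζ ^ (d' * e)) ^ j) * Polynomial.X ^ (d' * e) : Polynomial ℂ) =
      1 - Polynomial.X ^ ((d' * e) * n') := by
    have h := hω.pow_sub_pow_eq_prod_sub_mul (1 : ℂ) 0 hn'
    have key : ∀ (y : Polynomial ℂ), (1 : Polynomial ℂ) ^ n' - y ^ n' =
        ∏ j ∈ Finset.range n', (1 - (Polynomial.C (ζ ^ (d' * e))) ^ j * y) := by
      intro y
      have hC : IsPrimitiveRoot (Polynomial.C (ζ ^ (d' * e))) n' :=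
        hω.map_of_injective Polynomial.C_injective
      rw [hC.pow_sub_pow_eq_prod_sub_mul (1 : Polynomial ℂ) y hn', nthRootsFinset_eq_image_pow hC hn',
        Finset.prod_image (fun i hi j hj h => hC.pow_inj (Finset.mem_range.1 hi) (Finset.mem_range.1 hj) h)]
    have h2 := key (Polynomial.X ^ (d' * e))
    rw [one_pow, ← pow_mul] at h2
    rw [h2]
    simp [map_pow]
  have hper : Function.Periodic (fun i : ℕ =>
      (1 - Polynomial.C ((ζ ^ i) ^ (d' * e)) * Polynomial.X ^ (d' * e) : Polynomial ℂ)) n' := by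
    intro i
    have : (ζ ^ (i + n')) ^ (d' * e) = (ζ ^ i) ^ (d' * e) := by
      rw [pow_add, mul_pow, ← pow_mul ζ n', show n' * (d' * e) = n' * e * d' by ring, pow_mul ζ (n' * e),
        hζ.pow_eq_one, one_pow, mul_one]
    simp only [this]
  have hsplit : ∀ m, ∏ i ∈ Finset.range (n' * m),
      (1 - Polynomial.C ((ζ ^ i) ^ (d' * e)) * Polynomial.X ^ (d' * e) : Polynomial ℂ) =
      (1 - Polynomial.X ^ ((d' * e) * n')) ^ m := by
    intro m
    induction m with
    | zero => simp
    | succ m ih =>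
      rw [Nat.mul_succ, Finset.prod_range_add, ih, pow_succ, ← hA]
      congr 1
      refine Finset.prod_congr rfl fun i _ => ?_
      have := hper.nat_mul m i
      rw [add_comm, mul_comm n' m]
      refine this.trans ?_
      rw [← pow_mul, ← pow_mul, mul_comm i (d' * e)]
  exact (hsplit e).symm

end Groth.Agent.S11043
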