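import Groth.Statements.S11045
import Groth.Agent.FF.Linear
-- import your own Groth.Agent.* helpers here

set_option autoImplicit false
open FunFld

namespace Groth.Agent.S11045

/-- Over an algebraically closed constant field, if `n ≥ 1` is a gap number at the place `P` (no
function has a pole of exact order `n` at `P` and no other pole, i.e. `L(nP) = L((n-1)P)`), then the
gap numbers at `P` make up at least half of the positive integers below `n`. -/
theorem result
    (k K : Type*) [Field k] [IsAlgClosed k] [Field K] [Algebra k K]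
    (hK : FunFld.IsFunctionField k K) (P : FunFld.Place k K) (n : ℕ) (hn : 1 ≤ n)
    (hgap : FunFld.L (Finsupp.single P (n : ℤ)) = FunFld.L (Finsupp.single P ((n : ℤ) - 1))) :
    n - 1 ≤ 2 * Set.ncard {m : ℕ | 1 ≤ m ∧ m < n ∧
      FunFld.L (Finsupp.single P (m : ℤ)) = FunFld.L (Finsupp.single P ((m : ℤ) - 1))} := by
  classical
  set G := {m : ℕ | 1 ≤ m ∧ m < n ∧
      FunFld.L (Finsupp.single P (m : ℤ)) = FunFld.L (Finsupp.single P ((m : ℤ) - 1))} with hG
  have hfin : G.Finite := (Set.finite_Ico 1 n).subset fun m hm => ⟨hm.1, hm.2.1⟩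
  have hmid : ∀ m : ℕ, 1 ≤ m → m < n → m ∈ G ∨ n - m ∈ G := by
    intro m h1 h2
    by_contra hc
    simp only [hG, Set.mem_ofPred_eq, not_or, not_and] at hc
    have hex : ∀ j : ℕ, L (Finsupp.single P (j : ℤ)) ≠ L (Finsupp.single P ((j : ℤ) - 1)) →
        ∃ f ∈ L (Finsupp.single P (j : ℤ)), P.1 f = WithZero.exp (j : ℤ) := by
      intro j hj
      haveI := FF.finiteDimensional_L hK (Finsupp.single P (j : ℤ))
      obtain ⟨f, hf, hf'⟩ := (FF.ell_lt_iff_exists hK (Finsupp.single P (j : ℤ)) P).1 (by
        rw [← Finsupp.single_sub]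
        exact Submodule.finrank_lt_finrank_of_lt (lt_of_le_of_ne
          (FF.L_mono (Finsupp.single_le_single.2 (by omega))) (Ne.symm hj)))
      exact ⟨f, hf, by simpa using hf'⟩
    obtain ⟨f, hf, hf'⟩ := hex m (hc.1 h1 h2)
    obtain ⟨g, hg, hg'⟩ := hex (n - m) (hc.2 (by omega) (by omega))
    have hmem : f * g ∈ L (Finsupp.single P (n : ℤ)) := fun Q => by
      rw [map_mul]
      refine (mul_le_mul' (hf Q) (hg Q)).trans_eq ?_
      rw [← WithZero.exp_add, ← Finsupp.add_apply, ← Finsupp.single_add]
      congr 3; omega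
    rw [hgap] at hmem
    have := hmem P
    rw [map_mul, hf', hg', ← WithZero.exp_add, Finsupp.single_eq_same, WithZero.exp_le_exp] at this
    omega
  rw [Set.ncard_eq_toFinset_card _ hfin]
  have hsub : Finset.Ico 1 n ⊆ hfin.toFinset ∪ hfin.toFinset.image (fun m => n - m) := by
    intro m hm
    rw [Finset.mem_Ico] at hm
    rw [Finset.mem_union, Finset.mem_image]
    rcases hmid m hm.1 hm.2 with h | h
    · exact Or.inl (hfin.mem_toFinset.2 h)
    · exact Or.inr ⟨n - m, hfin.mem_toFinset.2 h, by omega⟩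
  have := (Finset.card_le_card hsub).trans (Finset.card_union_le _ _)
  have := Finset.card_image_le (s := hfin.toFinset) (f := fun m => n - m)
  rw [Nat.card_Ico] at *
  omega

end Groth.Agent.S11045
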