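import Groth.Statements.S11049
import Mathlib.LinearAlgebra.FiniteDimensional.Basic
import Mathlib.LinearAlgebra.Isomorphisms
import Mathlib.Algebra.Algebra.Bilinear
import Mathlib.LinearAlgebra.Dimension.RankNullity
import Mathlib.LinearAlgebra.FiniteDimensional.Lemmas
import Mathlib.LinearAlgebra.Dimension.DivisionRing

set_option autoImplicit false
open CAlg

namespace Groth.Agent.S11049

theorem finrank_tower {k V : Type*} [Field k] [AddCommGroup V] [Module k V] (A B : Submodule k V) (h : A ≤ B)
    [Module.Finite k (V ⧸ B)] (hB : Module.Finite k (B ⧸ A.submoduleOf B)) :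
    Module.Finite k (V ⧸ A) ∧ Module.finrank k (V ⧸ A) = Module.finrank k (V ⧸ B) + Module.finrank k (B ⧸ A.submoduleOf B) := by
  let e₁ := Submodule.quotientQuotientEquivQuotient A B h
  let f : B →ₗ[k] V ⧸ A := A.mkQ.comp B.subtype
  have hker : LinearMap.ker f = A.submoduleOf B := by rw [LinearMap.ker_comp, Submodule.ker_mkQ]; rfl
  have hrange : LinearMap.range f = B.map A.mkQ := by rw [LinearMap.range_comp, Submodule.range_subtype]
  let e₂ : (B ⧸ A.submoduleOf B) ≃ₗ[k] B.map A.mkQ :=
    (Submodule.quotEquivOfEq _ _ hker.symm).trans (f.quotKerEquivRange.trans (LinearEquiv.ofEq _ _ hrange))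
  have : Module.Finite k (B.map A.mkQ) := Module.Finite.equiv e₂
  have : Module.Finite k ((V ⧸ A) ⧸ B.map A.mkQ) := Module.Finite.equiv e₁.symm
  have hfin : Module.Finite k (V ⧸ A) := Module.Finite.of_submodule_quotient (B.map A.mkQ)
  refine ⟨hfin, ?_⟩
  rw [← Submodule.finrank_quotient_add_finrank (B.map A.mkQ), e₁.finrank_eq, e₂.finrank_eq]

/-- For `k`-algebras `S ⊆ R` with `R` an integral domain and a nonzero `x ∈ S`, if `R/S` and `R/Rx` are
finite-dimensional over `k` then `dim_k R/Rx = dim_k S/Sx`. (The published statement allows `x = 0`;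
then `R` is a field finite over `k` and the two sides are `dim_k R` and `dim_k S`, which differ for
`S = k ⊊ R`; the published proof multiplies by `x` as an injection, so `x ≠ 0` is assumed here.) -/
theorem result
    (k R : Type*) [Field k] [CommRing R]
    [IsDomain R] [Algebra k R] (S : Subalgebra k R) (x : S) (hx : (x : R) ≠ 0)
    [Module.Finite k (R ⧸ Subalgebra.toSubmodule S)]
    [Module.Finite k (R ⧸ Ideal.span {(x : R)})] :
    Module.finrank k (R ⧸ Ideal.span {(x : R)}) = Module.finrank k (S ⧸ Ideal.span {x}) := by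
  classical
  let f : R →ₗ[k] R := LinearMap.mulLeft k (x : R)
  have hf : Function.Injective f := fun u v huv => mul_left_cancel₀ hx huv
  set T := Subalgebra.toSubmodule S
  let XR : Submodule k R := LinearMap.range f
  let XS : Submodule k R := T.map f
  have hXR : XR = (Ideal.span {(x : R)}).restrictScalars k := by
    ext y
    simp [XR, f, Ideal.mem_span_singleton', mul_comm, eq_comm]
  have e0 : (R ⧸ XR) ≃ₗ[k] (R ⧸ Ideal.span {(x : R)}) :=
    (Submodule.quotEquivOfEq _ _ hXR).trans (Submodule.Quotient.restrictScalarsEquiv k _)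
  have : Module.Finite k (R ⧸ XR) := Module.Finite.equiv e0.symm
  have h1 : XS ≤ XR := LinearMap.map_le_range
  have h2 : XS ≤ T := by
    rintro _ ⟨s, hs, rfl⟩
    exact S.mul_mem x.2 hs
  let e1 : (R ⧸ T) ≃ₗ[k] (XR ⧸ XS.submoduleOf XR) :=
    Submodule.Quotient.equiv T (XS.submoduleOf XR) (LinearEquiv.ofInjective f hf) (by
      ext y
      simp only [Submodule.mem_map, Submodule.submoduleOf, Submodule.mem_comap, Submodule.coe_subtype, XS]
      constructor
      · rintro ⟨s, hs, rfl⟩; exact ⟨s, hs, rfl⟩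
      · rintro ⟨s, hs, hsy⟩; exact ⟨s, hs, Subtype.ext hsy⟩)
  obtain ⟨hfin, hA⟩ := finrank_tower XS XR h1 (Module.Finite.equiv e1)
  let g : T →ₗ[k] R ⧸ XS := XS.mkQ.comp T.subtype
  have hfinS : Module.Finite k (T ⧸ XS.submoduleOf T) := by
    have hker : LinearMap.ker g = XS.submoduleOf T := by rw [LinearMap.ker_comp, Submodule.ker_mkQ]; rfl
    exact Module.Finite.equiv ((Submodule.quotEquivOfEq _ _ hker.symm).trans g.quotKerEquivRange).symm
  obtain ⟨-, hB⟩ := finrank_tower XS T h2 hfinS
  let e2 : (T ⧸ XS.submoduleOf T) ≃ₗ[k] (S ⧸ (Ideal.span {x}).restrictScalars k) :=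
    Submodule.Quotient.equiv _ _ (LinearEquiv.ofEq T T rfl : T ≃ₗ[k] T) (by
      ext y
      simp only [Submodule.mem_map, Submodule.submoduleOf, Submodule.mem_comap, Submodule.coe_subtype, XS, Submodule.restrictScalars_mem, Ideal.mem_span_singleton']
      constructor
      · rintro ⟨z, ⟨s, hs, hsz⟩, rfl⟩
        exact ⟨⟨s, hs⟩, Subtype.ext ((mul_comm _ _).trans hsz)⟩
      · rintro ⟨s, hs⟩
        exact ⟨y, ⟨s.1, s.2, (mul_comm _ _).trans (congrArg Subtype.val hs)⟩, rfl⟩)
  rw [← e0.finrank_eq, ← (Submodule.Quotient.restrictScalarsEquiv k (Ideal.span {x})).finrank_eq, ← e2.finrank_eq]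
  rw [← e1.finrank_eq] at hA
  omega

end Groth.Agent.S11049
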