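import Groth.Statements.S11063
import Groth.Agent.FF.Linear
-- import your own Groth.Agent.* helpers here

set_option autoImplicit false
open FunFld

namespace Groth.Agent.S11063

/-- Over an algebraically closed constant field, for a place `P` of a function field of genus `g` and `1
≤ l ≤ g`, the `l`-th gap number at `P` is at most `2l - 1`, i.e. at least `l` of the integers `1 ≤ m
≤ 2l - 1` satisfy `L(mP) = L((m-1)P)`. (The published statement bounds the `l`-th order of the
canonical map at `P` by `2l`; the orders of the canonical map at `P` are the gap numbers at `P` less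
one, which gives the form stated here.) -/
theorem result
    (k K : Type*) [Field k] [IsAlgClosed k] [Field K] [Algebra k K]
    (hK : FunFld.IsFunctionField k K) (P : FunFld.Place k K) (l : ℕ)
    (hl : 1 ≤ l) (hlg : l ≤ FunFld.genus k K) :
    l ≤ Set.ncard {m : ℕ | 1 ≤ m ∧ m ≤ 2 * l - 1 ∧
      FunFld.L (Finsupp.single P (m : ℤ)) = FunFld.L (Finsupp.single P ((m : ℤ) - 1))} := by
  classical
  have hP : P.deg = 1 := Groth.Agent.FF.deg_eq_one hK P
  obtain ⟨n, hn⟩ : ∃ n : ℕ, n = 2 * l - 1 := ⟨_, rfl⟩
  set D : Divisor k K := Finsupp.single P (n : ℤ) with hD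
  have hj := Groth.Agent.FF.card_jumps hK hP D n
  rw [show D - Finsupp.single P (n : ℤ) = 0 from sub_self _, Groth.Agent.FF.ell_zero hK] at hj
  have hc := Groth.Agent.FF.clifford hK hP (D := D)
    (by rw [hD, Groth.Agent.FF.deg_single, hP]; omega)
    (by rw [hD, Groth.Agent.FF.deg_single, hP]; omega)
  rw [hD, Groth.Agent.FF.deg_single, hP] at hc
  set J := (Finset.range n).filter fun j : ℕ =>
    ell (D - Finsupp.single P ((j : ℤ) + 1)) < ell (D - Finsupp.single P (j : ℤ)) with hJ
  set G := (Finset.range n).filter fun j : ℕ =>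
    ¬ ell (D - Finsupp.single P ((j : ℤ) + 1)) < ell (D - Finsupp.single P (j : ℤ)) with hG
  have hsum : J.card + G.card = n := by
    rw [hJ, hG, Finset.card_filter_add_card_filter_not, Finset.card_range]
  rw [← hn]
  refine le_trans (b := (G.image fun j => n - j).card) ?_ ?_
  · rw [Finset.card_image_of_injOn]
    · rw [← hD] at hc
      omega
    · intro a ha b hb h
      simp only [hG, Finset.coe_filter, Finset.mem_range, Set.mem_setOf_eq] at ha hb
      simp only at h
      omega
  · rw [← Set.ncard_coe_finset]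
    refine Set.ncard_le_ncard ?_ ((Set.finite_Iic n).subset fun m hm => hm.2.1)
    intro m hm
    simp only [Finset.coe_image, Set.mem_image, Finset.mem_coe, hG, Finset.mem_filter,
      Finset.mem_range] at hm
    obtain ⟨j, ⟨hjn, hje⟩, rfl⟩ := hm
    refine ⟨by omega, by omega, ?_⟩
    rw [hD, ← Finsupp.single_sub, ← Finsupp.single_sub] at hje
    rw [show ((n : ℤ) - (j : ℤ)) = ((n - j : ℕ) : ℤ) by omega,
      show ((n : ℤ) - ((j : ℤ) + 1)) = ((n - j : ℕ) : ℤ) - 1 by omega] at hje
    have hle : FunFld.L (Finsupp.single P (((n - j : ℕ) : ℤ) - 1)) ≤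
        FunFld.L (Finsupp.single P ((n - j : ℕ) : ℤ)) :=
      Groth.Agent.FF.L_mono (Finsupp.single_le_single.2 (by omega))
    haveI := Groth.Agent.FF.finiteDimensional_L hK.1 (Finsupp.single P ((n - j : ℕ) : ℤ))
    exact (Submodule.eq_of_le_of_finrank_le hle (not_lt.1 hje)).symm

end Groth.Agent.S11063
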