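import Groth.Statements.S11080
import Mathlib.RingTheory.DedekindDomain.AdicValuation

set_option autoImplicit false
universe u
open CAlg

namespace Groth.Agent.S11080

/-- Valuation rings over a curve: let A be a Dedekind domain with fraction field K. A valuation subring
O of K contains A and is different from K if and only if O is the valuation ring of the v-adic
valuation of K at some nonzero prime v of A (equivalently O is the local ring of A at a maximal
ideal, a discrete valuation ring). (The published statement takes A to be the coordinate ring of a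
nonsingular affine curve over an algebraically closed field, which is such a Dedekind domain; its
proof uses only that the local rings of A at nonzero primes are discrete valuation rings and that
nonzero primes are maximal.) -/
theorem result (A K : Type u) [CommRing A]
    [IsDedekindDomain A] [Field K] [Algebra A K] [IsFractionRing A K] (O : ValuationSubring K) :
    ((algebraMap A K).range ≤ O.toSubring ∧ O ≠ ⊤) ↔
      ∃ v : IsDedekindDomain.HeightOneSpectrum A, O = (v.valuation K).valuationSubring := by
  constructor
  · rintro ⟨hle, hne⟩
    let ι : A →+* O := (algebraMap A K).codRestrict O.toSubring (fun a => hle ⟨a, rfl⟩)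
    let P : Ideal A := (IsLocalRing.maximalIdeal O).comap ι
    have hP : P ≠ ⊥ := by
      intro h
      apply hne
      rw [eq_top_iff]
      intro z _
      obtain ⟨a, b, hb, rfl⟩ := IsFractionRing.div_surjective A z
      have hu : IsUnit (ι b) := IsLocalRing.notMem_maximalIdeal.1 fun hb' => nonZeroDivisors.ne_zero hb (by
        have : b ∈ P := hb'
        rwa [h, Ideal.mem_bot] at this)
      have e : (hu.unit⁻¹ : Oˣ).1.1 = (algebraMap A K b)⁻¹ := eq_inv_of_mul_eq_one_left (congrArg Subtype.val hu.val_inv_mul)
      rw [div_eq_mul_inv, ← e]
      exact mul_mem (ι a).2 (hu.unit⁻¹ : Oˣ).1.2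
    let v : IsDedekindDomain.HeightOneSpectrum A := ⟨P, inferInstance, hP⟩
    refine ⟨v, ?_⟩
    rw [← IsDedekindDomain.HeightOneSpectrum.valuationSubringAtPrime_eq_valuationSubring]
    refine (ValuationSubring.eq_of_le_of_ne_top _ ?_ hne).symm
    rintro z ⟨a, s, hs, rfl⟩
    have hu : IsUnit (ι s) := IsLocalRing.notMem_maximalIdeal.1 hs
    have e : (hu.unit⁻¹ : Oˣ).1.1 = (algebraMap A K s)⁻¹ := eq_inv_of_mul_eq_one_left (congrArg Subtype.val hu.val_inv_mul)
    rw [← e]
    exact mul_mem (ι a).2 (hu.unit⁻¹ : Oˣ).1.2
  · rintro ⟨v, rfl⟩
    refine ⟨?_, ?_⟩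
    · rintro _ ⟨a, rfl⟩
      exact IsDedekindDomain.HeightOneSpectrum.valuation_le_one v a
    · rw [Ne, Valuation.valuationSubring_eq_top_iff, not_not]
      infer_instance

end Groth.Agent.S11080
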