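import Groth.Statements.S11081
import Groth.Agent.CAlgA.TraceFactors

set_option autoImplicit false
universe u
attribute [local instance] FractionRing.liftAlgebra
open CAlg

namespace Groth.Agent.S11081

/-- Let A be a Dedekind domain, B a Dedekind domain which is a finitely generated torsion-free A-algebra
whose fraction field is separable over that of A (B is the integral closure of A in a finite
separable extension), p a nonzero prime ideal of A and y an element of B. Then the class modulo p of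
the trace of y from B to A is the sum over the primes Q of B lying over p of e(Q|p) times the trace,
from B/Q to A/p, of the class of y modulo Q. -/
theorem result (A B : Type u) [CommRing A] [CommRing B]
    [IsDedekindDomain A] [IsDedekindDomain B] [Algebra A B] [Module.Finite A B] [Module.IsTorsionFree A B]
    [Algebra.IsSeparable (FractionRing A) (FractionRing B)]
    (p : Ideal A) [p.IsMaximal] (hp : p ≠ ⊥) (y : B) :
    Ideal.Quotient.mk p (Algebra.intTrace A B y) =
      ∑ᶠ Q : p.primesOver B,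
        Q.1.ramificationIdx A •
          Algebra.trace (A ⧸ p) (B ⧸ Q.1) (Ideal.Quotient.mk Q.1 y) := by
  classical
  let : Field (A ⧸ p) := Ideal.Quotient.field p
  set pB := Ideal.map (algebraMap A B) p with hpB
  have hpB0 : pB ≠ ⊥ := Ideal.map_ne_bot_of_ne_bot hp
  rw [← Algebra.trace_quotient_eq_of_isDedekindDomain]
  set s := UniqueFactorizationMonoid.normalizedFactors pB with hs
  have hprod : s.prod = pB := Ideal.prod_normalizedFactors_eq_self hpB0
  have hs0 : ∀ Q ∈ s, Q ≠ ⊥ := fun Q hQ => (UniqueFactorizationMonoid.prime_of_normalized_factor Q hQ).ne_zero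
  have hsmax : ∀ Q ∈ s, Q.IsMaximal := fun Q hQ =>
    (Ideal.isPrime_of_prime (UniqueFactorizationMonoid.prime_of_normalized_factor Q hQ)).isMaximal (hs0 Q hQ)
  have h := CAlgA.TraceFactors.tr_prod (A ⧸ p) (Ideal.Quotient.mk pB) Ideal.Quotient.mk_surjective (Ideal.Quotient.mk pB y) s hsmax hs0
    (by rw [Ideal.mk_ker, hprod])
  rw [hprod, Ideal.map_quotient_self] at h
  have h0 : CAlgA.TraceFactors.tr (A ⧸ p) (Ideal.Quotient.mk pB y) (⊥ : Ideal (B ⧸ pB)) = Algebra.trace (A ⧸ p) (B ⧸ pB) (Ideal.Quotient.mk pB y) := by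
    rw [CAlgA.TraceFactors.tr, ← Algebra.trace_eq_of_algEquiv (AlgEquiv.quotientBot (A ⧸ p) (B ⧸ pB))]
    rfl
  rw [← h0, h, finsum_eq_sum_of_fintype]
  have hfin : ∀ Q : Ideal B, Q ∈ s.toFinset ↔ Q ∈ p.primesOver B := fun Q => by
    rw [Multiset.mem_toFinset, hs, ← Ideal.mem_primesOver_iff_mem_normalizedFactors _ hp]
  rw [Finset.sum_multiset_map_count, Finset.sum_subtype s.toFinset hfin (fun Q => s.count Q • CAlgA.TraceFactors.tr (A ⧸ p) (Ideal.Quotient.mk pB y) (Q.map (Ideal.Quotient.mk pB)))]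
  refine Finset.sum_congr rfl fun ⟨Q, hQp⟩ _ => ?_
  have := hQp.2
  have := hQp.1
  show s.count Q • CAlgA.TraceFactors.tr (A ⧸ p) (Ideal.Quotient.mk pB y) (Q.map (Ideal.Quotient.mk pB)) = Q.ramificationIdx A • Algebra.trace (A ⧸ p) (B ⧸ Q) (Ideal.Quotient.mk Q y)
  rw [Ideal.IsDedekindDomain.ramificationIdx_eq_normalizedFactors_count p Q hpB0, ← hpB, ← hs]
  congr 1
  have hle : pB ≤ Q := Ideal.map_le_iff_le_comap.2 (Q.over_def p).le
  let e : ((B ⧸ pB) ⧸ Q.map (Ideal.Quotient.mk pB)) ≃ₐ[A ⧸ p] (B ⧸ Q) :=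
    AlgEquiv.ofRingEquiv (f := DoubleQuot.quotQuotEquivQuotOfLE hle) (by
      rintro x
      obtain ⟨a, rfl⟩ := Ideal.Quotient.mk_surjective x
      rfl)
  rw [CAlgA.TraceFactors.tr, ← Algebra.trace_eq_of_algEquiv e]
  rfl

end Groth.Agent.S11081
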