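import Groth.Statements.S11082
import Groth.Agent.CAlgA.SepDiff
import Mathlib.FieldTheory.IntermediateField.Adjoin.Algebra
import Mathlib.RingTheory.Unramified.Field

set_option autoImplicit false
universe u v
open CAlg

namespace Groth.Agent.S11082

/-- Let k be an algebraically closed field, F a field extension of k which is finitely generated as a
field, and x a transcendence basis of F over k indexed by a type ι. Then F is a separable algebraic
extension of the subfield k(x) generated by the family (x is a separating transcendence basis) if
and only if the differentials d(x i) form a basis of the F-vector space of Kähler differentials of F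
over k, i.e. they are linearly independent over F and span it. -/
theorem result (k : Type u) (F : Type v)
    [Field k] [IsAlgClosed k] [Field F] [Algebra k F] (hF : (⊤ : IntermediateField k F).FG)
    {ι : Type v} (x : ι → F) (hx : IsTranscendenceBasis k x) :
    Algebra.IsSeparable (IntermediateField.adjoin k (Set.range x)) F ↔
      (LinearIndependent F (fun i : ι => KaehlerDifferential.D k F (x i)) ∧
        Submodule.span F (Set.range fun i : ι => KaehlerDifferential.D k F (x i)) = ⊤) := by
  classical
  have : Algebra.EssFiniteType k F := IntermediateField.fg_top_iff.1 hF
  constructor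
  · intro h
    obtain ⟨b, hb⟩ := CAlgA.exists_basis_kaehler hx.1
    have e : (fun i : ι => KaehlerDifferential.D k F (x i)) = b := funext fun i => (hb i).symm
    rw [e]
    exact ⟨b.linearIndependent, b.span_eq⟩
  · rintro ⟨-, hspan⟩
    let F₀ := IntermediateField.adjoin k (Set.range x)
    have hall : ∀ w : Ω[F⁄k], KaehlerDifferential.map k F₀ F F w = 0 := by
      intro w
      have hw : w ∈ Submodule.span F (Set.range fun i : ι => KaehlerDifferential.D k F (x i)) := hspan ▸ trivial
      induction hw using Submodule.span_induction with
      | mem w hw =>
        obtain ⟨i, rfl⟩ := hw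
        rw [KaehlerDifferential.map_D, Algebra.algebraMap_self, RingHom.id_apply]
        exact (KaehlerDifferential.D F₀ F).map_algebraMap (⟨x i, IntermediateField.subset_adjoin k _ ⟨i, rfl⟩⟩ : F₀)
      | zero => rw [map_zero]
      | add a b _ _ ha hb => rw [map_add, ha, hb, add_zero]
      | smul c a _ ha => rw [map_smul, ha, smul_zero]
    have : Subsingleton (Ω[F⁄F₀]) := by
      refine subsingleton_of_forall_eq 0 fun w => ?_
      obtain ⟨z, rfl⟩ := KaehlerDifferential.map_surjective k F₀ F w
      exact hall z
    have : Algebra.FormallyUnramified F₀ F := ⟨this⟩
    have : Algebra.EssFiniteType F₀ F := Algebra.EssFiniteType.of_comp k F₀ F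
    exact Algebra.FormallyUnramified.isSeparable F₀ F

end Groth.Agent.S11082
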