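import Groth.Statements.S11084
import Groth.Agent.S11080
import Mathlib.NumberTheory.RatFunc.Ostrowski

set_option autoImplicit false
universe u
open CAlg

namespace Groth.Agent.S11084

/-- Let k be a field and O a valuation subring of the field of rational functions k(x). Then O contains
the constants k and is different from k(x) if and only if O is the valuation ring of the P-adic
valuation at a nonzero prime P of the polynomial ring k[x], or O is the valuation ring of the
valuation at infinity (given by the degree). (The published statement has k algebraically closed, so
that these valuation rings correspond to the points of the projective line; the published proof does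
not use that k is algebraically closed. The published statement also asserts that distinct points
give distinct valuation rings, which this row does not state, and counts k(x) itself among the
valuation rings containing k; this row excludes it.) -/
theorem result (k : Type u) [Field k] [DecidableEq (RatFunc k)]
    (O : ValuationSubring (RatFunc k)) :
    ((algebraMap k (RatFunc k)).range ≤ O.toSubring ∧ O ≠ ⊤) ↔
      ((∃ v : IsDedekindDomain.HeightOneSpectrum (Polynomial k), O = (v.valuation (RatFunc k)).valuationSubring) ∨
        O = (RatFunc.inftyValuation k).valuationSubring) := by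
  have hC : ∀ c : k, algebraMap k (RatFunc k) c = algebraMap (Polynomial k) (RatFunc k) (Polynomial.C c) := fun c => by
    rw [← Polynomial.algebraMap_eq, ← IsScalarTower.algebraMap_apply]
  constructor
  · rintro ⟨hle, hne⟩
    have : O.valuation.IsTrivialOn k := ⟨fun a ha => le_antisymm ((O.valuation_le_one_iff _).2 (hle ⟨a, rfl⟩)) (by
      have h := (O.valuation_le_one_iff _).2 (hle ⟨a⁻¹, rfl⟩)
      rw [map_inv₀, map_inv₀] at h
      exact (inv_le_one₀ (zero_lt_iff.2 ((O.valuation.ne_zero_iff).2 (by simpa using ha)))).1 h)⟩
    rcases lt_or_ge 1 (O.valuation RatFunc.X) with hlt | hge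
    · refine Or.inr ?_
      rw [← (Valuation.isEquiv_iff_valuationSubring _ _).1 (RatFunc.valuation_isEquiv_inftyValuation_of_one_lt_valuation_X hlt),
        ValuationSubring.valuationSubring_valuation]
    · refine Or.inl ((Groth.Agent.S11080.result (Polynomial k) (RatFunc k) O).1 ⟨?_, hne⟩)
      rintro _ ⟨f, rfl⟩
      induction f using Polynomial.induction_on' with
      | add f g hf hg => rw [map_add]; exact add_mem hf hg
      | monomial n a =>
        rw [← Polynomial.C_mul_X_pow_eq_monomial, map_mul, map_pow, RatFunc.algebraMap_X, ← hC]
        exact mul_mem (hle ⟨a, rfl⟩) (pow_mem ((O.valuation_le_one_iff _).1 hge) n)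
  · rintro (⟨v, rfl⟩ | rfl)
    · obtain ⟨h1, h2⟩ := (Groth.Agent.S11080.result (Polynomial k) (RatFunc k) _).2 ⟨v, rfl⟩
      refine ⟨?_, h2⟩
      rintro _ ⟨c, rfl⟩
      exact hC c ▸ h1 ⟨_, rfl⟩
    · refine ⟨?_, fun h => ?_⟩
      · rintro _ ⟨c, rfl⟩
        rcases eq_or_ne c 0 with rfl | hc
        · rw [map_zero]; exact zero_mem _
        · show RatFunc.inftyValuation k (algebraMap k (RatFunc k) c) ≤ 1
          refine le_of_eq ?_
          rw [RatFunc.algebraMap_eq_C]
          exact RatFunc.inftyValuation.C k hc
      · have hm : RatFunc.X ∈ (RatFunc.inftyValuation k).valuationSubring := h ▸ trivial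
        rw [Valuation.mem_valuationSubring_iff] at hm
        revert hm
        simp [← WithZero.exp_zero]

end Groth.Agent.S11084
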