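import Groth.Statements.S11085
import Groth.Agent.FF.Exist
import Groth.Agent.VarDim.Algebra
import Mathlib.RingTheory.NoetherNormalization
import Mathlib.RingTheory.Algebraic.Integral
import Mathlib.FieldTheory.IntermediateField.Adjoin.Algebra

set_option autoImplicit false
universe u
open CAlg

namespace Groth.Agent.S11085

open IntermediateField in
theorem isFF_of_finite (k A F : Type u) [Field k] [CommRing A] [IsDomain A] [Algebra k A] [Algebra.FiniteType k A]
    [Field F] [Algebra A F] [IsFractionRing A F] [Algebra k F] [IsScalarTower k A F]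
    (φ : MvPolynomial (Fin 1) k →ₐ[k] A) (hφ : Function.Injective φ) (hfin : φ.toRingHom.Finite) :
    Groth.Agent.FF.IsFF k F := by
  let x : F := algebraMap A F (φ (MvPolynomial.X 0))
  let ψ : MvPolynomial (Fin 1) k →ₐ[k] F := (IsScalarTower.toAlgHom k A F).comp φ
  have hψ : Function.Injective ψ := (IsFractionRing.injective A F).comp hφ
  have htr : Transcendental k x := by
    have h : AlgebraicIndependent k (fun _ : Fin 1 => x) := by
      rw [algebraicIndependent_iff_injective_aeval]
      have e : (MvPolynomial.aeval (fun _ : Fin 1 => x) : MvPolynomial (Fin 1) k →ₐ[k] F) = ψ :=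
        MvPolynomial.algHom_ext fun i => by rw [MvPolynomial.aeval_X, Subsingleton.elim i 0]; rfl
      rw [e]; exact hψ
    exact h.transcendental 0
  refine ⟨x, htr, ?_⟩
  have hint : ∀ a : A, IsIntegral k⟮x⟯ (algebraMap A F a) := by
    intro a
    obtain ⟨q, hq, hq0⟩ := (RingHom.IsIntegral.of_finite hfin) a
    let χ : MvPolynomial (Fin 1) k →ₐ[k] k⟮x⟯ := MvPolynomial.aeval fun _ => (⟨x, mem_adjoin_simple_self k x⟩ : k⟮x⟯)
    have e : (algebraMap k⟮x⟯ F).comp χ.toRingHom = ψ.toRingHom :=
      congrArg AlgHom.toRingHom (MvPolynomial.algHom_ext (f := (IsScalarTower.toAlgHom k k⟮x⟯ F).comp χ) (g := ψ) fun i => by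
        rw [Subsingleton.elim i 0]; simp [χ, ψ, x])
    refine ⟨q.map χ.toRingHom, hq.map _, ?_⟩
    rw [Polynomial.eval₂_map, e, show ψ.toRingHom = (algebraMap A F).comp φ.toRingHom from rfl, ← Polynomial.hom_eval₂, hq0, map_zero]
  obtain ⟨G, hG⟩ := (inferInstance : Algebra.FiniteType k A).out
  classical
  have htop : IntermediateField.adjoin k⟮x⟯ ((G.image (algebraMap A F) : Finset F) : Set F) = ⊤ := by
    rw [eq_top_iff]
    intro z _
    obtain ⟨a, b, -, rfl⟩ := IsFractionRing.div_surjective A z
    have hmem : ∀ c : A, algebraMap A F c ∈ IntermediateField.adjoin k⟮x⟯ ((G.image (algebraMap A F) : Finset F) : Set F) := by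
      intro c
      have hc : c ∈ Algebra.adjoin k (G : Set A) := by rw [hG]; trivial
      induction hc using Algebra.adjoin_induction with
      | mem y hy => exact subset_adjoin _ _ (Finset.mem_coe.2 (Finset.mem_image_of_mem _ hy))
      | algebraMap c =>
        rw [← IsScalarTower.algebraMap_apply, IsScalarTower.algebraMap_apply k k⟮x⟯ F]
        exact IntermediateField.algebraMap_mem _ _
      | add x y _ _ hx hy => rw [map_add]; exact add_mem hx hy
      | mul x y _ _ hx hy => rw [map_mul]; exact mul_mem hx hy
    exact div_mem (hmem a) (hmem b)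
  have h2 := finiteDimensional_adjoin (K := k⟮x⟯) (S := ((G.image (algebraMap A F) : Finset F) : Set F)) fun z hz => by
    obtain ⟨a, -, rfl⟩ := Finset.mem_image.1 (Finset.mem_coe.1 hz)
    exact hint a
  rw [htop] at h2
  exact topEquiv.toLinearEquiv.finiteDimensional

/-- Let k be a field, A a finitely generated k-algebra which is an integral domain of Krull dimension
one (the coordinate ring of an affine curve), and F its field of fractions. Then the set of
valuation subrings of F which contain k but do not contain A is finite. (The published statement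
speaks of all valuation rings of F different from F and not containing A, over an algebraically
closed k; valuation rings not containing k must be excluded — for k an algebraic closure of a
rational function field in one variable t over a finite field and F = k(x), the t-adic valuation of
k has infinitely many extensions to F, none of whose rings contains A — and the published proof,
through the valuation at infinity of k(x), treats valuation rings containing k; it does not use that
k is algebraically closed.) -/
theorem result (k A F : Type u) [Field k]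
    [CommRing A] [IsDomain A] [Algebra k A] [Algebra.FiniteType k A] (hA : ringKrullDim A = 1)
    [Field F] [Algebra A F] [IsFractionRing A F] [Algebra k F] [IsScalarTower k A F] :
    {O : ValuationSubring F | (algebraMap k F).range ≤ O.toSubring ∧
        ¬ (algebraMap A F).range ≤ O.toSubring}.Finite := by
  classical
  obtain ⟨n, φ, hφ, hfin⟩ := exists_finite_inj_algHom_of_fg k A
  let := φ.toRingHom.toAlgebra
  have : Algebra.IsIntegral (MvPolynomial (Fin n) k) A := ⟨RingHom.IsIntegral.of_finite hfin⟩
  have : FaithfulSMul (MvPolynomial (Fin n) k) A := (faithfulSMul_iff_algebraMap_injective _ _).mpr hφ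
  rw [Groth.Agent.VarDim.ringKrullDim_eq_of_isIntegral (R := MvPolynomial (Fin n) k),
    MvPolynomial.ringKrullDim_of_isNoetherianRing, ringKrullDim_eq_zero_of_field, Nat.card_fin, zero_add] at hA
  obtain rfl : n = 1 := by exact_mod_cast hA
  have hFF : Groth.Agent.FF.IsFF k F := isFF_of_finite k A F φ hφ hfin
  obtain ⟨G, hG⟩ := (inferInstance : Algebra.FiniteType k A).out
  refine ((G.finite_toSet.biUnion fun a _ => (Groth.Agent.FF.finite_poles hFF (algebraMap A F a)).image fun P => P.O)).subset ?_
  rintro O ⟨hkO, hAO⟩
  have hk : ∀ c : k, algebraMap k F c ∈ O := fun c => hkO ⟨c, rfl⟩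
  obtain ⟨a, ha, haO⟩ : ∃ a ∈ G, algebraMap A F a ∉ O := by
    by_contra hc
    push Not at hc
    apply hAO
    rintro _ ⟨b, rfl⟩
    have hb : b ∈ Algebra.adjoin k (G : Set A) := by rw [hG]; trivial
    induction hb using Algebra.adjoin_induction with
    | mem x hx => exact hc x hx
    | algebraMap c => rw [← IsScalarTower.algebraMap_apply]; exact hk c
    | add x y _ _ hx hy => rw [map_add]; exact add_mem hx hy
    | mul x y _ _ hx hy => rw [map_mul]; exact mul_mem hx hy
  have hO : O ≠ ⊤ := fun h => haO (h ▸ trivial)
  obtain ⟨P, hP⟩ := Groth.Agent.FF.exists_place_O_eq hFF O hk hO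
  refine Set.mem_biUnion ha ⟨P, ?_, hP⟩
  show 1 < P.1 (algebraMap A F a)
  by_contra hle
  exact haO (hP ▸ (not_lt.1 hle))

end Groth.Agent.S11085
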