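import Groth.Statements.S11086
import Mathlib.RingTheory.Localization.Finiteness
import Mathlib.RingTheory.DedekindDomain.Different
import Mathlib.RingTheory.Localization.FractionRing
import Mathlib.Tactic.Ring

set_option autoImplicit false
universe u
attribute [local instance] FractionRing.liftAlgebra
open CAlg

namespace Groth.Agent.S11086

attribute [local instance] FractionRing.liftAlgebra FractionRing.isScalarTower_liftAlgebra

/-- Let A be a Dedekind domain, B a Dedekind domain which is a finitely generated torsion-free A-algebra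
with fraction field separable over that of A (the integral closure of A in a finite separable
extension), and S a submonoid of A consisting of non-zero-divisors. Let A_S and B_S be localizations
of A at S and of B at the image of S, with B_S an algebra over A_S compatibly with A and B (so A_S
is integrally closed and B_S is a Dedekind domain, torsion-free over A_S). Then the ideal of B_S
generated by the different of B over A is the different of B_S over A_S. -/
theorem result (A B : Type u) [CommRing A] [CommRing B]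
    [IsDedekindDomain A] [IsDedekindDomain B] [Algebra A B] [Module.Finite A B] [Module.IsTorsionFree A B]
    [Algebra.IsSeparable (FractionRing A) (FractionRing B)]
    (S : Submonoid A) (hS : S ≤ nonZeroDivisors A)
    (Aₛ Bₛ : Type u) [CommRing Aₛ] [CommRing Bₛ] [Algebra A Aₛ] [Algebra B Bₛ] [Algebra Aₛ Bₛ]
    [Algebra A Bₛ] [IsScalarTower A Aₛ Bₛ] [IsScalarTower A B Bₛ]
    [IsLocalization S Aₛ] [IsLocalization (Algebra.algebraMapSubmonoid B S) Bₛ]
    [IsDomain Aₛ] [IsIntegrallyClosed Aₛ] [IsDedekindDomain Bₛ] [Module.IsTorsionFree Aₛ Bₛ] :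
    Ideal.map (algebraMap B Bₛ) (differentIdeal A B) = differentIdeal Aₛ Bₛ := by
  classical
  have hSB : Algebra.algebraMapSubmonoid B S ≤ nonZeroDivisors B := by
    rintro _ ⟨s, hs, rfl⟩
    exact mem_nonZeroDivisors_of_ne_zero ((map_ne_zero_iff _ (FaithfulSMul.algebraMap_injective A B)).2 (nonZeroDivisors.ne_zero (hS hs)))
  let K := FractionRing A
  let L := FractionRing B
  let : Algebra Aₛ K := (IsLocalization.lift (M := S) (S := Aₛ) (g := algebraMap A K) fun s => IsLocalization.map_units K ⟨s.1, hS s.2⟩).toAlgebra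
  have : IsScalarTower A Aₛ K := .of_algebraMap_eq fun a => (IsLocalization.lift_eq _ a).symm
  let : Algebra Bₛ L := (IsLocalization.lift (M := Algebra.algebraMapSubmonoid B S) (S := Bₛ) (g := algebraMap B L) fun s => IsLocalization.map_units L ⟨s.1, hSB s.2⟩).toAlgebra
  have : IsScalarTower B Bₛ L := .of_algebraMap_eq fun a => (IsLocalization.lift_eq _ a).symm
  have : IsFractionRing Aₛ K := IsFractionRing.isFractionRing_of_isDomain_of_isLocalization S Aₛ K
  have : IsFractionRing Bₛ L := IsFractionRing.isFractionRing_of_isDomain_of_isLocalization (Algebra.algebraMapSubmonoid B S) Bₛ L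
  let : Algebra K L := FractionRing.liftAlgebra A L
  let : Algebra Aₛ L := ((algebraMap K L).comp (algebraMap Aₛ K)).toAlgebra
  have : IsScalarTower Aₛ K L := .of_algebraMap_eq fun _ => rfl
  have : IsScalarTower Aₛ Bₛ L := IsScalarTower.of_algebraMap_eq' (IsLocalization.ringHom_ext S (RingHom.ext fun a => by
    show algebraMap K L (algebraMap Aₛ K (algebraMap A Aₛ a)) = algebraMap Bₛ L (algebraMap Aₛ Bₛ (algebraMap A Aₛ a))
    rw [← IsScalarTower.algebraMap_apply A Aₛ K, ← IsScalarTower.algebraMap_apply A Aₛ Bₛ, IsScalarTower.algebraMap_apply A B Bₛ,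
      ← IsScalarTower.algebraMap_apply B Bₛ L, ← IsScalarTower.algebraMap_apply A K L, ← IsScalarTower.algebraMap_apply A B L]))
  have : FiniteDimensional K L := .of_isLocalization A B (nonZeroDivisors A)
  have : Algebra.IsIntegral A B := Algebra.IsIntegral.of_finite A B
  have : IsIntegralClosure B A L := IsIntegralClosure.of_isIntegrallyClosed B A L
  have : Module.Finite Aₛ Bₛ := Module.Finite.of_isLocalization A B S
  have : Algebra.IsIntegral Aₛ Bₛ := Algebra.IsIntegral.of_finite Aₛ Bₛ
  have : IsIntegralClosure Bₛ Aₛ L := IsIntegralClosure.of_isIntegrallyClosed Bₛ Aₛ L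
  have hD : ∀ x : B, x ∈ differentIdeal A B ↔ ∀ y ∈ Submodule.traceDual A K (1 : Submodule B L), algebraMap B L x * y ∈ (1 : Submodule B L) := fun x => by
    rw [← Submodule.mem_div_iff_forall_mul_mem, ← coeSubmodule_differentIdeal A K (L := L) (B := B)]
    exact ⟨fun h => ⟨x, h, rfl⟩, fun ⟨y, hy, e⟩ => IsFractionRing.injective B L e ▸ hy⟩
  have hDs : ∀ x : Bₛ, x ∈ differentIdeal Aₛ Bₛ ↔ ∀ y ∈ Submodule.traceDual Aₛ K (1 : Submodule Bₛ L), algebraMap Bₛ L x * y ∈ (1 : Submodule Bₛ L) := fun x => by
    rw [← Submodule.mem_div_iff_forall_mul_mem, ← coeSubmodule_differentIdeal Aₛ K (L := L) (B := Bₛ)]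
    exact ⟨fun h => ⟨x, h, rfl⟩, fun ⟨y, hy, e⟩ => IsFractionRing.injective Bₛ L e ▸ hy⟩
  obtain ⟨G, hG⟩ := (inferInstance : Module.Finite A B).fg_top
  -- scaling into the dual
  have hscale : ∀ y ∈ Submodule.traceDual Aₛ K (1 : Submodule Bₛ L), ∃ s ∈ S, algebraMap A L s * y ∈ Submodule.traceDual A K (1 : Submodule B L) := by
    intro y hy
    have hb : ∀ b : B, ∃ s ∈ S, ∃ a : A, algebraMap A K s * Algebra.trace K L (y * algebraMap B L b) = algebraMap A K a := by
      intro b
      obtain ⟨c, hc⟩ := Submodule.mem_traceDual.1 hy (algebraMap B L b) (Submodule.mem_one.2 ⟨algebraMap B Bₛ b, (IsScalarTower.algebraMap_apply B Bₛ L b).symm⟩)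
      obtain ⟨⟨a, s⟩, e⟩ := IsLocalization.surj S c
      refine ⟨s, s.2, a, ?_⟩
      rw [Algebra.traceForm_apply] at hc
      rw [← hc, IsScalarTower.algebraMap_apply A Aₛ K s, IsScalarTower.algebraMap_apply A Aₛ K a, ← map_mul, mul_comm, e]
    choose s hs a ha using hb
    refine ⟨∏ g ∈ G, s g, prod_mem fun g _ => hs g, Submodule.mem_traceDual.2 ?_⟩
    intro z hz
    obtain ⟨b, rfl⟩ := Submodule.mem_one.1 hz
    rw [Algebra.traceForm_apply]
    let T : B →ₗ[A] K := ((Algebra.trace K L).restrictScalars A).comp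
      ((LinearMap.mulLeft A (algebraMap A L (∏ g ∈ G, s g) * y)).comp (IsScalarTower.toAlgHom A B L).toLinearMap)
    change T b ∈ (algebraMap A K).range
    have hle : Submodule.span A (G : Set B) ≤ (LinearMap.range (Algebra.linearMap A K)).comap T := by
      rw [Submodule.span_le]
      intro g hg
      obtain ⟨w, hw⟩ := Finset.dvd_prod_of_mem s hg
      refine ⟨a g * w, ?_⟩
      show algebraMap A K (a g * w) = Algebra.trace K L (algebraMap A L (∏ g ∈ G, s g) * y * algebraMap B L g)
      have e1 : algebraMap A L (∏ g ∈ G, s g) * y * algebraMap B L g = (algebraMap A K (s g * w)) • (y * algebraMap B L g) := by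
        rw [← hw, Algebra.smul_def, ← IsScalarTower.algebraMap_apply A K L, mul_assoc]
      rw [e1, map_smul, smul_eq_mul, map_mul, map_mul, ← ha g]
      ring
    rw [hG] at hle
    obtain ⟨c, hc⟩ := hle (Submodule.mem_top (x := b))
    exact ⟨c, hc⟩
  apply le_antisymm
  · rw [Ideal.map_le_iff_le_comap]
    intro x hx
    rw [Ideal.mem_comap, hDs]
    intro y hy
    obtain ⟨s, hs, hsy⟩ := hscale y hy
    obtain ⟨c, hc⟩ := Submodule.mem_one.1 ((hD x).1 hx _ hsy)
    refine Submodule.mem_one.2 ⟨IsLocalization.mk' Bₛ c (⟨algebraMap A B s, s, hs, rfl⟩ : Algebra.algebraMapSubmonoid B S), ?_⟩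
    have hs0 : algebraMap A L s ≠ 0 := by
      rw [IsScalarTower.algebraMap_apply A K L, map_ne_zero, map_ne_zero_iff _ (IsFractionRing.injective A K)]
      exact nonZeroDivisors.ne_zero (hS hs)
    apply mul_left_cancel₀ hs0
    rw [← IsScalarTower.algebraMap_apply B Bₛ L x]
    calc algebraMap A L s * algebraMap Bₛ L _ = algebraMap Bₛ L (algebraMap B Bₛ (algebraMap A B s) * IsLocalization.mk' Bₛ c (⟨algebraMap A B s, s, hs, rfl⟩ : Algebra.algebraMapSubmonoid B S)) := by
          rw [map_mul, ← IsScalarTower.algebraMap_apply B Bₛ L, ← IsScalarTower.algebraMap_apply A B L]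
      _ = algebraMap B L c := by
          rw [IsLocalization.mk'_spec' Bₛ c (⟨algebraMap A B s, s, hs, rfl⟩ : Algebra.algebraMapSubmonoid B S), ← IsScalarTower.algebraMap_apply B Bₛ L]
      _ = _ := by rw [hc]; ring
  · intro z hz
    obtain ⟨⟨b, u⟩, e⟩ := IsLocalization.surj (Algebra.algebraMapSubmonoid B S) z
    have hb : algebraMap B Bₛ b ∈ differentIdeal Aₛ Bₛ := e ▸ Ideal.mul_mem_right _ _ hz
    obtain ⟨Y, hY⟩ := (FractionalIdeal.coe_dual_one A K (L := L) (B := B)) ▸
      FractionalIdeal.fg_of_isNoetherianRing le_rfl (FractionalIdeal.dual A K (1 : FractionalIdeal (nonZeroDivisors B) L))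
    have hY' : ∀ y : Y, ∃ t ∈ Algebra.algebraMapSubmonoid B S, ∃ c : B, algebraMap B L t * (algebraMap B L b * y.1) = algebraMap B L c := by
      intro y
      have hy : y.1 ∈ Submodule.traceDual A K (1 : Submodule B L) := hY ▸ Submodule.subset_span y.2
      have hys : y.1 ∈ Submodule.traceDual Aₛ K (1 : Submodule Bₛ L) := by
        refine Submodule.mem_traceDual.2 fun z hz => ?_
        obtain ⟨w, rfl⟩ := Submodule.mem_one.1 hz
        obtain ⟨⟨c, ⟨_, s, hs, rfl⟩⟩, ew⟩ := IsLocalization.surj (Algebra.algebraMapSubmonoid B S) w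
        obtain ⟨a, ha⟩ := Submodule.mem_traceDual.1 hy (algebraMap B L c) (Submodule.mem_one.2 ⟨c, rfl⟩)
        refine ⟨IsLocalization.mk' Aₛ a (⟨s, hs⟩ : S), ?_⟩
        have hs0 : algebraMap A K s ≠ 0 := (map_ne_zero_iff _ (IsFractionRing.injective A K)).2 (nonZeroDivisors.ne_zero (hS hs))
        apply mul_left_cancel₀ hs0
        have e1 := congrArg (algebraMap Bₛ L) ew
        rw [map_mul, ← IsScalarTower.algebraMap_apply B Bₛ L, ← IsScalarTower.algebraMap_apply A B L, ← IsScalarTower.algebraMap_apply B Bₛ L] at e1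
        rw [IsScalarTower.algebraMap_apply A Aₛ K s, ← map_mul, IsLocalization.mk'_spec' Aₛ a (⟨s, hs⟩ : S), ← IsScalarTower.algebraMap_apply A Aₛ K, ha,
          ← IsScalarTower.algebraMap_apply A Aₛ K, Algebra.traceForm_apply, Algebra.traceForm_apply]
        rw [← smul_eq_mul (algebraMap A K s), ← LinearMap.map_smul]
        congr 1
        rw [Algebra.smul_def, ← IsScalarTower.algebraMap_apply A K L, ← e1]
        ring
      obtain ⟨w, hw⟩ := Submodule.mem_one.1 ((hDs _).1 hb _ hys)
      obtain ⟨⟨c, t⟩, et⟩ := IsLocalization.surj (Algebra.algebraMapSubmonoid B S) w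
      refine ⟨t, t.2, c, ?_⟩
      have e1 := congrArg (algebraMap Bₛ L) et
      rw [map_mul, hw, ← IsScalarTower.algebraMap_apply B Bₛ L, ← IsScalarTower.algebraMap_apply B Bₛ L, ← IsScalarTower.algebraMap_apply B Bₛ L] at e1
      rw [← e1]; ring
    choose t ht c hc using hY'
    have htb : (∏ y : Y, t y) * b ∈ differentIdeal A B := by
      rw [hD]
      intro y hy
      rw [← hY] at hy
      induction hy using Submodule.span_induction with
      | mem y hy =>
        obtain ⟨w, hw⟩ := Finset.dvd_prod_of_mem t (Finset.mem_univ ⟨y, hy⟩)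
        refine Submodule.mem_one.2 ⟨c ⟨y, hy⟩ * w, ?_⟩
        rw [hw, map_mul, map_mul, map_mul, ← hc ⟨y, hy⟩]; ring
      | zero => rw [mul_zero]; exact zero_mem _
      | add x y _ _ hx hy => rw [mul_add]; exact add_mem hx hy
      | smul r x _ hx => rw [mul_smul_comm]; exact Submodule.smul_mem _ r hx
    have hu : IsUnit (algebraMap B Bₛ ((∏ y : Y, t y) * u)) :=
      IsLocalization.map_units Bₛ (⟨_, Submonoid.mul_mem _ (prod_mem fun y _ => ht y) u.2⟩ : Algebra.algebraMapSubmonoid B S)
    rw [← Ideal.unit_mul_mem_iff_mem _ hu, map_mul, mul_assoc, mul_comm (algebraMap B Bₛ u) z, e, ← map_mul]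
    exact Ideal.mem_map_of_mem _ htb

end Groth.Agent.S11086
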