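import Groth.Statements.S11087
import Groth.Agent.Adic.Basic
import Mathlib.Dynamics.Newton
import Mathlib.RingTheory.Henselian
import Mathlib.FieldTheory.Perfect
import Mathlib.RingTheory.Ideal.GoingUp
import Mathlib.RingTheory.Artinian.Ring
import Mathlib.RingTheory.Algebraic.Integral
import Mathlib.Tactic.Ring
import Mathlib.RingTheory.Finiteness.Quotient

set_option autoImplicit false
universe u
attribute [local instance] FractionRing.liftAlgebra
open CAlg

namespace Groth.Agent.S11087

theorem idem_trivial (B : Type u) [CommRing B] [IsDomain B] (J : Ideal B) [IsAdicComplete J B]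
    (e : B ⧸ J) (he : IsIdempotentElem e) : e = 0 ∨ e = 1 := by
  obtain ⟨x, rfl⟩ := Ideal.Quotient.mk_surjective e
  have hx : x * x - x ∈ J := by rw [← Ideal.Quotient.eq, map_mul]; exact he
  obtain ⟨a, ha, hax⟩ := HenselianRing.is_henselian (I := J) (Polynomial.X ^ 2 - Polynomial.X : Polynomial B)
    (Polynomial.monic_X_pow_sub (by simp)) x (by simpa [pow_two] using hx) (by
      refine IsUnit.of_mul_eq_one (Ideal.Quotient.mk J (2 * x - 1)) ?_
      rw [show (Polynomial.derivative (Polynomial.X ^ 2 - Polynomial.X : Polynomial B)).eval x = 2 * x - 1 by simp [one_add_one_eq_two],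
        ← map_mul, ← map_one (Ideal.Quotient.mk J), Ideal.Quotient.eq,
        show (2 * x - 1) * (2 * x - 1) - 1 = 4 * (x * x - x) by ring]
      exact J.mul_mem_left _ hx)
  have h0 : a * (a - 1) = 0 := by
    have : a ^ 2 - a = 0 := by simpa [Polynomial.IsRoot] using ha
    linear_combination this
  rw [← Ideal.Quotient.eq.2 hax]
  rcases mul_eq_zero.1 h0 with rfl | h
  · exact Or.inl (map_zero _)
  · exact Or.inr (by rw [sub_eq_zero.1 h, map_one])

theorem unit_or_nilpotent {C : Type u} [CommRing C] (hidem : ∀ e : C, IsIdempotentElem e → e = 0 ∨ e = 1)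
    [hart : IsArtinianRing C] (x : C) : IsUnit x ∨ IsNilpotent x := by
  obtain ⟨n, hn⟩ := IsArtinian.exists_pow_succ_smul_dvd (R := C) (M := C) x 1
  obtain ⟨y, hy⟩ := hn
  simp only [smul_eq_mul, mul_one] at hy
  have hk : ∀ m : ℕ, x ^ n = x ^ (n + m) * y ^ m := by
    intro m
    induction m with
    | zero => simp
    | succ m ih =>
      calc x ^ n = x ^ (n + m) * y ^ m := ih
        _ = x ^ m * (x ^ n.succ * y) * y ^ m := by rw [hy, pow_add]; ring
        _ = x ^ (n + (m + 1)) * y ^ (m + 1) := by rw [Nat.succ_eq_add_one]; ring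
  rcases hidem (x ^ n * y ^ n) (show x ^ n * y ^ n * (x ^ n * y ^ n) = x ^ n * y ^ n by
    calc x ^ n * y ^ n * (x ^ n * y ^ n) = (x ^ (n + n) * y ^ n) * y ^ n := by ring
      _ = x ^ n * y ^ n := by rw [← hk n]) with h | h
  · refine Or.inr ⟨n, ?_⟩
    calc x ^ n = x ^ n * (x ^ n * y ^ n) := by rw [← mul_assoc, ← pow_add]; exact hk n
      _ = 0 := by rw [h, mul_zero]
  · rcases Nat.eq_zero_or_pos n with rfl | hn0
    · exact Or.inl (IsUnit.of_mul_eq_one y (by simpa using hy))
    · exact Or.inl ((isUnit_pow_iff hn0.ne').1 (IsUnit.of_mul_eq_one _ h))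

theorem IsArtinianRing.of_finite' (A : Type u) [CommRing A] (m : Ideal A) [m.IsMaximal] (B : Type u) [CommRing B]
    [Algebra A B] [Module.Finite A B] (J : Ideal B) (hJ : J = m.map (algebraMap A B)) : IsArtinianRing (B ⧸ J) := by
  subst hJ
  let : Field (A ⧸ m) := Ideal.Quotient.field m
  have : Module.Finite (A ⧸ m) (B ⧸ m.map (algebraMap A B)) := Module.Finite.of_restrictScalars_finite A _ _
  exact IsArtinianRing.of_finite (A ⧸ m) _

/-- Let A be a complete discrete valuation ring and K a perfect field contained in A such that K → A →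
A/m is bijective. Let B be a Dedekind domain which is a finite torsion-free A-algebra with fraction
field separable over that of A (the integral closure of A in a finite separable extension of its
fraction field). Then for every maximal ideal M of B and every b in B there is exactly one element c
of B which is algebraic over K and congruent to b modulo M; in other words the algebraic closure of
K in B is a subfield mapping isomorphically onto B/M. -/
theorem result (K A B : Type u) [Field K]
    [PerfectField K] [CommRing A] [IsDomain A] [IsDiscreteValuationRing A]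
    [IsAdicComplete (IsLocalRing.maximalIdeal A) A]
    [Algebra K A] (hK : Function.Bijective ((IsLocalRing.residue A).comp (algebraMap K A)))
    [CommRing B] [IsDedekindDomain B] [Algebra A B] [Module.Finite A B] [Module.IsTorsionFree A B]
    [Algebra.IsSeparable (FractionRing A) (FractionRing B)] [Algebra K B] [IsScalarTower K A B]
    (M : Ideal B) [M.IsMaximal] (b : B) :
    ∃! c : B, IsAlgebraic K c ∧ b - c ∈ M := by
  classical
  set mA := IsLocalRing.maximalIdeal A
  set J := mA.map (algebraMap A B) with hJdef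
  have hBA : IsAdicComplete mA B := Groth.Agent.Adic.isAdicComplete_of_finite mA
  have hB : IsAdicComplete J B := (IsAdicComplete.map_algebraMap_iff (I := mA) (M := B)).2 hBA
  have hAint : Algebra.IsIntegral A B := Algebra.IsIntegral.of_finite A B
  have hover : M.comap (algebraMap A B) = mA := by
    have := Ideal.isMaximal_comap_of_isIntegral_of_isMaximal (R := A) M
    exact IsLocalRing.eq_maximalIdeal this
  have hJM : J ≤ M := Ideal.map_le_iff_le_comap.2 hover.ge
  have hnilM : ∀ z ∈ M, IsNilpotent (Ideal.Quotient.mk J z) := fun z hz => by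
    have hart : IsArtinianRing (B ⧸ J) := IsArtinianRing.of_finite' A mA B J rfl
    have hidem : ∀ e : B ⧸ J, IsIdempotentElem e → e = 0 ∨ e = 1 := fun e he => idem_trivial B J e he
    rcases unit_or_nilpotent hidem (Ideal.Quotient.mk J z) with hu | hn
    · exfalso
      obtain ⟨w, hw⟩ := hu.exists_right_inv
      obtain ⟨w, rfl⟩ := Ideal.Quotient.mk_surjective w
      rw [← map_mul, ← map_one (Ideal.Quotient.mk J), Ideal.Quotient.eq] at hw
      exact (Ideal.ne_top_iff_one M).1 (Ideal.IsMaximal.ne_top ‹_›) (by simpa using sub_mem (M.mul_mem_right w hz) (hJM hw))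
    · exact hn
  have huniq : ∀ c₁ c₂ : B, IsAlgebraic K c₁ → IsAlgebraic K c₂ → c₁ - c₂ ∈ M → c₁ = c₂ := by
    intro c₁ c₂ h1 h2 hm
    by_contra hne
    obtain ⟨r, hr, hd⟩ := (h1.sub h2).exists_nonzero_dvd (mem_nonZeroDivisors_of_ne_zero (sub_ne_zero.2 hne))
    have : IsUnit (algebraMap K B r) := (IsUnit.mk0 r hr).map _
    exact (Ideal.IsMaximal.ne_top ‹_›) (Ideal.eq_top_of_isUnit_mem _ (M.mem_of_dvd hd hm) this)
  suffices hex : ∃ c : B, IsAlgebraic K c ∧ b - c ∈ M by
    obtain ⟨c, hc, hcb⟩ := hex
    exact ⟨c, ⟨hc, hcb⟩, fun c' ⟨hc', hcb'⟩ => huniq c' c hc' hc (by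
      rw [show c' - c = (b - c) - (b - c') by ring]; exact sub_mem hcb hcb')⟩
  let : Field (B ⧸ M) := Ideal.Quotient.field M
  have hint : IsIntegral K (Ideal.Quotient.mk M b) := by
    obtain ⟨q, hq, hq0⟩ := Algebra.IsIntegral.isIntegral (R := A) b
    let e : K ≃+* IsLocalRing.ResidueField A := RingEquiv.ofBijective _ hK
    let τ : A →+* K := e.symm.toRingHom.comp (IsLocalRing.residue A)
    refine ⟨q.map τ, hq.map τ, ?_⟩
    have hτ : (algebraMap K (B ⧸ M)).comp τ = (Ideal.Quotient.mk M).comp (algebraMap A B) := by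
      ext a
      have h1 : a - algebraMap K A (τ a) ∈ mA := by
        rw [← IsLocalRing.residue_eq_zero_iff, map_sub, sub_eq_zero]
        exact (e.apply_symm_apply _).symm
      rw [← hover, Ideal.mem_comap, map_sub, ← Ideal.Quotient.eq, ← IsScalarTower.algebraMap_apply] at h1
      exact h1.symm
    rw [Polynomial.eval₂_map, hτ, ← Polynomial.hom_eval₂, hq0, map_zero]
  let f := minpoly K (Ideal.Quotient.mk M b)
  have hfsep : f.Separable := PerfectField.separable_of_irreducible (minpoly.irreducible hint)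
  have hf0 : Polynomial.aeval b f ∈ M := by
    rw [← Ideal.Quotient.eq_zero_iff_mem, ← Ideal.Quotient.mkₐ_eq_mk K, ← Polynomial.aeval_algHom_apply]
    exact minpoly.aeval K _
  have hf1 : Polynomial.aeval b f.derivative ∉ M := by
    rw [← Ideal.Quotient.eq_zero_iff_mem, ← Ideal.Quotient.mkₐ_eq_mk K, ← Polynomial.aeval_algHom_apply]
    exact hfsep.aeval_derivative_ne_zero (minpoly.aeval K _)
  let g := f.map (algebraMap K B)
  have hN1 : IsNilpotent (Polynomial.aeval (Ideal.Quotient.mk J b) g) := by
    rw [Polynomial.aeval_map_algebraMap, ← Ideal.Quotient.mkₐ_eq_mk K, Polynomial.aeval_algHom_apply]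
    exact hnilM _ hf0
  have hN2 : IsUnit (Polynomial.aeval (Ideal.Quotient.mk J b) g.derivative) := by
    rw [Polynomial.derivative_map, Polynomial.aeval_map_algebraMap, ← Ideal.Quotient.mkₐ_eq_mk K, Polynomial.aeval_algHom_apply]
    obtain ⟨u, v, hv, huv⟩ := Ideal.IsMaximal.exists_inv ‹_› hf1
    have : IsUnit (Ideal.Quotient.mk J (u * Polynomial.aeval b f.derivative)) := by
      rw [show u * Polynomial.aeval b f.derivative = 1 - v by rw [← huv]; ring, map_sub, map_one]
      exact (hnilM v hv).isUnit_one_sub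
    rw [map_mul] at this
    exact isUnit_of_mul_isUnit_right this
  obtain ⟨r, ⟨hr1, hr2⟩, -⟩ := Polynomial.existsUnique_nilpotent_sub_and_aeval_eq_zero hN1 hN2
  obtain ⟨b₀, rfl⟩ := Ideal.Quotient.mk_surjective r
  have hbb : b - b₀ ∈ M := by
    rw [← map_sub] at hr1
    obtain ⟨n, hn⟩ := hr1
    rw [← map_pow, Ideal.Quotient.eq_zero_iff_mem] at hn
    exact Ideal.IsPrime.mem_of_pow_mem (Ideal.IsMaximal.isPrime ‹_›) n (hJM hn)
  rw [Polynomial.aeval_map_algebraMap, ← Ideal.Quotient.mkₐ_eq_mk K, Polynomial.aeval_algHom_apply, Ideal.Quotient.mkₐ_eq_mk, Ideal.Quotient.eq_zero_iff_mem] at hr2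
  have hu : IsUnit (Ideal.Quotient.mk J (g.derivative.eval b₀)) := by
    rcases unit_or_nilpotent (fun e he => idem_trivial B J e he) (hart := IsArtinianRing.of_finite' A mA B J rfl) (Ideal.Quotient.mk J (g.derivative.eval b₀)) with hu | hn
    · exact hu
    · exfalso
      obtain ⟨n, hn⟩ := hn
      rw [← map_pow, Ideal.Quotient.eq_zero_iff_mem] at hn
      have h1 := Ideal.IsPrime.mem_of_pow_mem (Ideal.IsMaximal.isPrime ‹M.IsMaximal›) n (hJM hn)
      rw [Polynomial.derivative_map, Polynomial.eval_map_algebraMap] at h1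
      apply hf1
      rw [← Ideal.Quotient.eq_zero_iff_mem, ← Ideal.Quotient.mkₐ_eq_mk K, ← Polynomial.aeval_algHom_apply] at h1 ⊢
      rwa [show Ideal.Quotient.mkₐ K M b = Ideal.Quotient.mkₐ K M b₀ from Ideal.Quotient.eq.2 hbb]
  obtain ⟨c, hc, hcb⟩ := HenselianRing.is_henselian g ((minpoly.monic hint).map _) b₀
    (by rw [Polynomial.eval_map_algebraMap]; exact hr2) hu
  refine ⟨c, ⟨f, minpoly.ne_zero hint, by rwa [← Polynomial.eval_map_algebraMap]⟩, ?_⟩
  rw [show b - c = (b - b₀) - (c - b₀) by ring]
  exact sub_mem hbb (hJM hcb)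

end Groth.Agent.S11087
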