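import Groth.Statements.S11088
import Mathlib
import Groth.Agent.CompleteExt.Basic
-- import your own Groth.Agent.* helpers here

set_option autoImplicit false
universe u
attribute [local instance] FractionRing.liftAlgebra
open CAlg

namespace Groth.Agent.S11088

/-- Let A be a complete discrete valuation ring with maximal ideal m and B a Dedekind domain which is a
finite torsion-free A-algebra with fraction field separable over that of A (the integral closure of
A in a finite separable extension). Then for every maximal ideal M of B, with f the degree of B/M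
over A/m, and every nonzero x in B, the multiplicity of m in the ideal generated by the norm of x
equals f times the multiplicity of M in the ideal generated by x: v(N(x)) = f · w(x). -/
theorem result (A B : Type u) [CommRing A] [IsDomain A] [IsDiscreteValuationRing A]
    [IsAdicComplete (IsLocalRing.maximalIdeal A) A]
    [CommRing B] [IsDedekindDomain B] [Algebra A B] [Module.Finite A B] [Module.IsTorsionFree A B]
    [Algebra.IsSeparable (FractionRing A) (FractionRing B)]
    (M : Ideal B) [M.IsMaximal] (x : B) (hx : x ≠ 0) :
    emultiplicity (IsLocalRing.maximalIdeal A) (Ideal.span {Algebra.intNorm A B x}) =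
      (M.inertiaDeg A : ℕ∞) * emultiplicity M (Ideal.span {x}) := by

  open Groth.Agent.CompleteExt IsLocalRing in
  haveI := localRing A B
  haveI : M.LiesOver (IsLocalRing.maximalIdeal A) := Groth.Agent.CompleteExt.liesOver A B M
  have hm0 : IsLocalRing.maximalIdeal A ≠ ⊥ := IsDiscreteValuationRing.not_a_field A
  have hM0 : M ≠ ⊥ := Ideal.ne_bot_of_liesOver_of_ne_bot hm0 M
  have hmP := Ideal.prime_of_isPrime hm0 (IsLocalRing.maximalIdeal.isMaximal A).isPrime
  have hMP := Ideal.prime_of_isPrime hM0 (inferInstance : M.IsPrime)
  obtain ⟨s, hs⟩ := Ideal.exists_relNorm_eq_pow_of_isPrime M (IsLocalRing.maximalIdeal A)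
  have hsf : s = M.inertiaDeg A := by
    have h := Ideal.relNorm_algebraMap (R := A) B (IsLocalRing.maximalIdeal A)
    rw [Groth.Agent.CompleteExt.map_maximalIdeal A B M, map_pow, hs, ← pow_mul] at h
    have h2 := ((IsLeftCancelMulZero.mul_left_cancel_of_ne_zero hm0).pow_injective (by
      rw [Ideal.one_eq_top]; exact (IsLocalRing.maximalIdeal.isMaximal A).ne_top)) h
    rw [← Groth.Agent.CompleteExt.ramification_mul_inertia A B M, mul_comm s] at h2
    refine Nat.eq_of_mul_eq_mul_left (Nat.pos_of_ne_zero fun h0 => ?_) h2
    have h3 := Groth.Agent.CompleteExt.ramification_mul_inertia A B M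
    rw [h0, zero_mul] at h3
    exact (Module.finrank_pos (R := A) (M := B)).ne' h3.symm
  have hdvr : IsDiscreteValuationRing B :=
    ((IsDiscreteValuationRing.TFAE B (fun hf => hM0 (by
      rw [IsLocalRing.eq_maximalIdeal (inferInstance : M.IsMaximal)]
      exact IsLocalRing.isField_iff_maximalIdeal_eq.1 hf))).out 2 0).1 ‹IsDedekindDomain B›
  obtain ⟨ϖ, hϖ⟩ := IsDiscreteValuationRing.exists_irreducible B
  obtain ⟨k, u, rfl⟩ := IsDiscreteValuationRing.eq_unit_mul_pow_irreducible hx hϖ
  have hspan : Ideal.span {(u : B) * ϖ ^ k} = M ^ k := by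
    rw [IsLocalRing.eq_maximalIdeal (inferInstance : M.IsMaximal), hϖ.maximalIdeal_eq,
      Ideal.span_singleton_pow, Ideal.span_singleton_mul_left_unit u.isUnit]
  have hnorm : Ideal.span {Algebra.intNorm A B ((u : B) * ϖ ^ k)} = IsLocalRing.maximalIdeal A ^ (M.inertiaDeg A * k) := by
    rw [← Ideal.relNorm_singleton, hspan, map_pow, hs, hsf, pow_mul]
  rw [hnorm, hspan, emultiplicity_pow_self_of_prime hmP, emultiplicity_pow_self_of_prime hMP, Nat.cast_mul]

end Groth.Agent.S11088
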