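import Groth.Statements.S11089
import Mathlib
import Groth.Agent.CompleteExt.Basic
import Groth.Agent.CAlgLib.N2Completion
-- import your own Groth.Agent.* helpers here

set_option autoImplicit false
universe u
attribute [local instance] FractionRing.liftAlgebra
open CAlg

namespace Groth.Agent.S11089

/-- Let A be a complete discrete valuation ring containing a field K with K → A → A/m bijective, and B a
Dedekind domain which is a finite torsion-free A-algebra of rank m with fraction field separable
over that of A (the integral closure of A in a finite separable extension E of F = Frac A). If the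
extension is totally ramified — the maximal ideal M of B has ramification index m — and m is a unit
in A, then some uniformizer u of B (an element of M not in M²) satisfies u^m ∈ A and generates E
over F: its minimal polynomial over A has degree m. -/
theorem result (K A B : Type u) [Field K]
    [CommRing A] [IsDomain A] [IsDiscreteValuationRing A]
    [IsAdicComplete (IsLocalRing.maximalIdeal A) A]
    [Algebra K A] (hK : Function.Bijective ((IsLocalRing.residue A).comp (algebraMap K A)))
    [CommRing B] [IsDedekindDomain B] [Algebra A B] [Module.Finite A B] [Module.IsTorsionFree A B]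
    [Algebra.IsSeparable (FractionRing A) (FractionRing B)]
    (M : Ideal B) [M.IsMaximal] (hram : M.ramificationIdx A = Module.finrank A B)
    (hm : IsUnit ((Module.finrank A B : ℕ) : A)) :
    ∃ u : B, u ∈ M ∧ u ∉ M ^ 2 ∧ u ^ Module.finrank A B ∈ (algebraMap A B).range ∧
      (minpoly A u).natDegree = Module.finrank A B := by

  classical
  set m := Module.finrank A B with hmdef
  have hm0 : IsLocalRing.maximalIdeal A ≠ ⊥ := IsDiscreteValuationRing.not_a_field A
  haveI : FaithfulSMul A B := (faithfulSMul_iff_algebraMap_injective A B).2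
    (Module.isTorsionFree_iff_algebraMap_injective.1 inferInstance)
  obtain ⟨hloc, hcomplete⟩ := Groth.Agent.CAlgLib.N2Completion.complete_of_finite A B
  haveI := hloc
  haveI : HenselianLocalRing B :=
    Groth.Agent.Hensel.henselianLocalRing_of_henselianRing inferInstance
  have hMeq : M = IsLocalRing.maximalIdeal B := IsLocalRing.eq_maximalIdeal ‹M.IsMaximal›
  haveI : M.LiesOver (IsLocalRing.maximalIdeal A) := Groth.Agent.CompleteExt.liesOver A B M
  have hM0 : M ≠ ⊥ := Ideal.ne_bot_of_liesOver_of_ne_bot hm0 M
  have hmpos : 0 < m := Module.finrank_pos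
  have hf : M.inertiaDeg A = 1 := by
    have h := Groth.Agent.CompleteExt.ramification_mul_inertia A B M
    rw [hram] at h
    exact Nat.eq_of_mul_eq_mul_left hmpos (by rw [h, mul_one])
  rw [Ideal.inertiaDeg_eq_of_isMaximal (IsLocalRing.maximalIdeal A)] at hf
  have hres : ∀ v : B, ∃ c : K, v - algebraMap A B (algebraMap K A c) ∈ M := by
    intro v
    letI : Field (A ⧸ IsLocalRing.maximalIdeal A) := Ideal.Quotient.field _
    obtain ⟨a, ha⟩ := (finrank_eq_one_iff_of_nonzero' (1 : B ⧸ M) one_ne_zero).1 hf (Ideal.Quotient.mk M v)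
    obtain ⟨a, rfl⟩ := Ideal.Quotient.mk_surjective a
    obtain ⟨c, hc⟩ := hK.2 (IsLocalRing.residue A a)
    refine ⟨c, ?_⟩
    have h1 : a - algebraMap K A c ∈ IsLocalRing.maximalIdeal A := by
      rw [← IsLocalRing.residue_eq_zero_iff, map_sub, ← hc]
      simp
    have h2 : v - algebraMap A B a ∈ M := by
      rw [← Ideal.Quotient.eq_zero_iff_mem, map_sub, sub_eq_zero, ← ha, Algebra.smul_def, mul_one]
      rfl
    have h3 : algebraMap A B (a - algebraMap K A c) ∈ M :=
      (Ideal.mem_of_liesOver M (IsLocalRing.maximalIdeal A) _).1 h1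
    have h4 := M.add_mem h2 h3
    rwa [map_sub, sub_add_sub_cancel] at h4
  haveI hdvr : IsDiscreteValuationRing B :=
    ((IsDiscreteValuationRing.TFAE B (fun hf => hM0 (by
      rw [hMeq]; exact IsLocalRing.isField_iff_maximalIdeal_eq.1 hf))).out 2 0).1 ‹IsDedekindDomain B›
  obtain ⟨π, hπ⟩ := IsDiscreteValuationRing.exists_irreducible A
  obtain ⟨u₀, hu₀⟩ := IsDiscreteValuationRing.exists_irreducible B
  have hspan : Ideal.span {algebraMap A B π} = Ideal.span {u₀ ^ m} := by
    rw [← Ideal.span_singleton_pow, ← hu₀.maximalIdeal_eq, ← hMeq, ← hram,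
      ← Groth.Agent.CompleteExt.map_maximalIdeal A B M, hπ.maximalIdeal_eq, Ideal.map_span, Set.image_singleton]
  obtain ⟨v, hv⟩ := (Ideal.span_singleton_eq_span_singleton.1 hspan).symm
  obtain ⟨c, hc⟩ := hres v
  have hc0 : c ≠ 0 := by
    rintro rfl
    rw [map_zero, map_zero, sub_zero, hMeq] at hc
    exact hc v.isUnit
  set cA : A := algebraMap K A c⁻¹ with hcA
  have hcc : cA * algebraMap K A c = 1 := by rw [hcA, ← map_mul, inv_mul_cancel₀ hc0, map_one]
  set t : B := algebraMap A B cA * (v : B) with ht
  have ht1 : t - 1 ∈ M := by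
    have := M.mul_mem_left (algebraMap A B cA) hc
    rwa [mul_sub, ← map_mul, hcc, map_one] at this
  obtain ⟨w, hw, hw1⟩ := HenselianLocalRing.is_henselian (Polynomial.X ^ m - Polynomial.C t)
    (Polynomial.monic_X_pow_sub_C t hmpos.ne') 1 (by
      rw [Polynomial.eval_sub, Polynomial.eval_pow, Polynomial.eval_X, Polynomial.eval_C, one_pow, ← hMeq]
      simpa using M.neg_mem ht1) (by
      rw [Polynomial.derivative_sub, Polynomial.derivative_C, sub_zero, Polynomial.derivative_X_pow,
        Polynomial.eval_mul, Polynomial.eval_C, Polynomial.eval_pow, Polynomial.eval_X, one_pow, mul_one]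
      have := hm.map (algebraMap A B)
      rwa [map_natCast] at this)
  have hwu : IsUnit w := by
    by_contra h
    have h1 : w ∈ IsLocalRing.maximalIdeal B := h
    have h2 : (1 : B) ∈ IsLocalRing.maximalIdeal B := by
      have := (IsLocalRing.maximalIdeal B).sub_mem h1 hw1
      rwa [sub_sub_cancel] at this
    exact h2 isUnit_one
  set u : B := w * u₀ with hu
  have hum : u ^ m = algebraMap A B (cA * π) := by
    have h : w ^ m = t := by
      simpa [Polynomial.IsRoot, sub_eq_zero] using hw
    rw [hu, mul_pow, h, ht, map_mul, ← hv]; ring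
  have hassoc : Associated u₀ u := ⟨hwu.unit, by rw [IsUnit.unit_spec, hu, mul_comm]⟩
  have huirr : Irreducible u := hassoc.irreducible hu₀
  have hmem : u ∈ M := by rw [hMeq, huirr.maximalIdeal_eq]; exact Ideal.mem_span_singleton_self _
  have hmem2 : u ∉ M ^ 2 := by
    rw [hMeq, huirr.maximalIdeal_eq, Ideal.span_singleton_pow, Ideal.mem_span_singleton]
    intro h
    have := (pow_dvd_pow_iff huirr.ne_zero huirr.not_isUnit (n := 2) (m := 1)).1 (by rwa [pow_one])
    omega
  refine ⟨u, hmem, hmem2, ⟨_, hum.symm⟩, ?_⟩
  set f : Polynomial A := Polynomial.X ^ m - Polynomial.C (cA * π) with hfdef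
  have hfm : f.Monic := Polynomial.monic_X_pow_sub_C _ hmpos.ne'
  have hfd : f.natDegree = m := Polynomial.natDegree_X_pow_sub_C
  have hirr : Irreducible f := by
    refine Polynomial.IsEisensteinAt.irreducible (𝓟 := IsLocalRing.maximalIdeal A) ⟨?_, ?_, ?_⟩
      (IsLocalRing.maximalIdeal.isMaximal A).isPrime hfm.isPrimitive (by rw [hfd]; exact hmpos)
    · rw [hfm.leadingCoeff]
      exact fun h => h isUnit_one
    · intro n hn
      rw [hfd] at hn
      rw [hfdef, Polynomial.coeff_sub, Polynomial.coeff_X_pow, if_neg hn.ne, zero_sub, neg_mem_iff, Polynomial.coeff_C]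
      split
      · exact Ideal.mul_mem_left _ _ (by rw [hπ.maximalIdeal_eq]; exact Ideal.mem_span_singleton_self _)
      · exact zero_mem _
    · rw [hfdef, Polynomial.coeff_sub, Polynomial.coeff_X_pow, if_neg hmpos.ne, zero_sub, neg_mem_iff,
        Polynomial.coeff_C_zero, hπ.maximalIdeal_eq, Ideal.span_singleton_pow, Ideal.mem_span_singleton]
      intro h
      have hcu : IsUnit cA := IsUnit.of_mul_eq_one _ hcc
      rw [hcu.dvd_mul_left] at h
      have := (pow_dvd_pow_iff hπ.ne_zero hπ.not_isUnit (n := 2) (m := 1)).1 (by rwa [pow_one])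
      omega
  have hfu : Polynomial.aeval u f = 0 := by
    rw [hfdef, map_sub, map_pow, Polynomial.aeval_X, Polynomial.aeval_C, hum, sub_self]
  have hint : IsIntegral A u := Algebra.IsIntegral.isIntegral u
  have hdvd := minpoly.isIntegrallyClosed_dvd hint hfu
  have hnu : ¬ IsUnit (minpoly A u) := minpoly.not_isUnit A u
  have := Polynomial.eq_of_monic_of_associated (minpoly.monic hint) hfm
    ((hirr.dvd_iff.1 hdvd).resolve_left hnu).symm
  rw [this, hfd]

end Groth.Agent.S11089
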