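import Groth.Statements.S11090
import Groth.Agent.AbVarLib.Pointed
import Groth.Agent.FBase.BC
import Groth.Agent.GrpScheme.HomFlat
import Mathlib.AlgebraicGeometry.Sites.Fpqc

set_option autoImplicit false
universe u
open CategoryTheory CategoryTheory.Limits MonoidalCategory CartesianMonoidalCategory MonObj GrpObj AlgebraicGeometry
open AbVar

namespace Groth.Agent.S11090

/-- Let k be an algebraically closed field and E, E′, E″ elliptic curves over k, i.e. group schemes over
Spec k whose underlying schemes are proper, smooth, integral and one-dimensional. Let φ : E → E′ be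
a homomorphism which is finite, surjective and étale (a separable isogeny) and ψ : E → E″ a
homomorphism such that every k-valued point of E sent to the unit by φ is sent to the unit by ψ.
Then there is a unique homomorphism ρ : E′ → E″ with ψ = ρ ∘ φ. (The published statement prints ψ as
a map from E″ to E and calls it an isogeny; its proof treats ψ as a map from E to E″, as here, and
this row allows any homomorphism ψ, the extra case of trivial ψ being immediate.) -/
theorem result (k : Type u) [Field k] [IsAlgClosed k]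
    (E E' E'' : Over (Spec (CommRingCat.of k)))
    [GrpObj E] [IsProper E.hom] [Smooth E.hom] [IsIntegral E.left] (hE : topologicalKrullDim E.left = 1)
    [GrpObj E'] [IsProper E'.hom] [Smooth E'.hom] [IsIntegral E'.left] (hE' : topologicalKrullDim E'.left = 1)
    [GrpObj E''] [IsProper E''.hom] [Smooth E''.hom] [IsIntegral E''.left] (hE'' : topologicalKrullDim E''.left = 1)
    (φ : E ⟶ E') [IsMonHom φ] [IsFinite φ.left] [Surjective φ.left] [Etale φ.left]
    (ψ : E ⟶ E'') [IsMonHom ψ]
    (hker : ∀ P : 𝟙_ (Over (Spec (CommRingCat.of k))) ⟶ E, P ≫ φ = η[E'] → P ≫ ψ = η[E'']) :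
    ∃! ρ : E' ⟶ E'', IsMonHom ρ ∧ φ ≫ ρ = ψ := by
  have : GeometricallyReduced E'.hom :=
    FBase.BC.geometricallyReduced_of_isReduced_of_perfectField E'.hom
  have : GeometricallyIrreducible E'.hom := FBase.BC.geometricallyIrreducible_of_isSepClosed E'.hom
  have : GeometricallyIntegral E'.hom :=
    GeometricallyIntegral.of_geometricallyReduced_of_geometricallyIrreducible _
  let p₁ := Limits.pullback.fst φ.left φ.left
  let p₂ := Limits.pullback.snd φ.left φ.left
  have : Etale p₁ := inferInstance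
  have : IsReduced (Limits.pullback φ.left φ.left) :=
    GrpScheme.HomFlat.isReduced_of_smooth (p₁ ≫ E.hom)
  have hw2 : p₂ ≫ E.hom = p₁ ≫ E.hom := by
    rw [← Over.w φ, ← Category.assoc, ← Limits.pullback.condition, Category.assoc]
  have hpair : p₁ ≫ ψ.left = p₂ ≫ ψ.left := by
    have hfi : (p₁ ≫ ψ.left) ≫ E''.hom = p₁ ≫ E.hom := by rw [Category.assoc, Over.w ψ]
    have : LocallyOfFiniteType ((p₁ ≫ ψ.left) ≫ E''.hom) := by rw [hfi]; infer_instance
    have := LocallyOfFiniteType.jacobsonSpace (p₁ ≫ E.hom)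
    refine ext_of_apply_eq E''.hom Set.univ isClosed_univ.isLocallyClosed dense_univ (fun z _ hz => ?_)
      (by rw [Category.assoc, Category.assoc, Over.w ψ, hw2])
    obtain ⟨⟨q, hq⟩, hqz⟩ : ∃ q : {q : Spec (CommRingCat.of k) ⟶ Limits.pullback φ.left φ.left //
        q ≫ p₁ ≫ E.hom = 𝟙 _}, q.1 (IsLocalRing.closedPoint k) = z :=
      ⟨(pointEquivClosedPoint (p₁ ≫ E.hom)).symm ⟨z, hz⟩, pointOfClosedPoint_apply (p₁ ≫ E.hom) z hz _⟩
    let a : 𝟙_ (Over (Spec (CommRingCat.of k))) ⟶ E := Over.homMk (q ≫ p₁) (by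
      rw [Category.assoc]; exact hq)
    let b : 𝟙_ (Over (Spec (CommRingCat.of k))) ⟶ E := Over.homMk (q ≫ p₂) (by
      rw [Category.assoc, hw2]; exact hq)
    have hab : a ≫ φ = b ≫ φ := Over.OverMorphism.ext (by
      show (q ≫ p₁) ≫ φ.left = (q ≫ p₂) ≫ φ.left
      rw [Category.assoc, Category.assoc, Limits.pullback.condition])
    have h1 := hker (a⁻¹ * b) (by
      rw [MonObj.mul_comp, GrpObj.inv_comp, hab, inv_mul_cancel, one_eq_one])
    rw [MonObj.mul_comp, GrpObj.inv_comp, one_eq_one, inv_mul_eq_one] at h1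
    have h2 := congrArg (fun r => r.left (IsLocalRing.closedPoint k)) h1
    rw [← hqz]
    exact h2
  have hdesc : ∀ {W : Scheme.{u}} (g₁ g₂ : W ⟶ E.left), g₁ ≫ φ.left = g₂ ≫ φ.left →
      g₁ ≫ ψ.left = g₂ ≫ ψ.left := fun g₁ g₂ e => by
    rw [← Limits.pullback.lift_fst g₁ g₂ e, Category.assoc, hpair, Limits.pullback.lift_snd_assoc]
  have : Epi φ.left := Flat.epi_of_flat_of_surjective φ.left
  have : Epi φ := Over.epi_of_epi_left φ
  let ρ : E' ⟶ E'' := Over.homMk (EffectiveEpi.desc φ.left ψ.left hdesc) (by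
    rw [← cancel_epi φ.left, EffectiveEpi.fac_assoc, Over.w ψ]; exact (Over.w φ).symm)
  have hρ : φ ≫ ρ = ψ := Over.OverMorphism.ext (EffectiveEpi.fac φ.left ψ.left hdesc)
  refine ⟨ρ, ⟨AbVarLib.Pointed.isMonHom ρ ?_, hρ⟩, fun ρ' h' => ?_⟩
  · rw [← IsMonHom.one_hom (f := φ), Category.assoc, hρ, IsMonHom.one_hom]
  · rw [← cancel_epi φ, hρ, h'.2]

end Groth.Agent.S11090
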