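import Groth.Statements.S11092
import Mathlib
import Groth.Agent.FF.LR.Geom
-- import your own Groth.Agent.* helpers here

set_option autoImplicit false
universe u v
open CAlg

namespace Groth.Agent.S11092


open IntermediateField

theorem isFunctionField_of {k : Type u} {E : Type v} [Field k] [IsAlgClosed k] [Field E] [Algebra k E]
    (x : E) (hx : Transcendental k x) (hfin : FiniteDimensional k⟮x⟯ E) :
    FunFld.IsFunctionField k E := by
  refine ⟨⟨x, hx, hfin⟩, fun y hy => ?_⟩
  have hint : IsIntegral k y := isAlgebraic_iff_isIntegral.mp hy
  exact minpoly.mem_range_of_degree_eq_one k y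
    (IsAlgClosed.degree_eq_one_of_irreducible k (minpoly.irreducible hint))

theorem finrank_one {k : Type u} {E : Type v} [Field k] [IsAlgClosed k] [Field E] [Algebra k E]
    (hE : FunFld.IsFunctionField k E) : Module.finrank E (KaehlerDifferential k E) = 1 := by
  obtain ⟨y, hy⟩ := Groth.Agent.FF.exists_isSepVar hE Groth.Agent.FF.good_of_perfect
  exact Groth.Agent.FF.finrank_kaehler hy

/-- Let k be an algebraically closed field, K a field finitely generated over k admitting a one-element
transcendence basis over k (a function field of dimension one), and L a finite extension field of K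
with the compatible k-algebra structure. Then the K-linear map from the Kähler differentials of K
over k to those of L over k induced by the inclusion is either the zero map or injective, and it is
injective if and only if L is separable over K. (The published statement takes K ⊆ L to be the
function fields of two elliptic curves related by a nonzero homomorphism; its proof uses only that
they are function fields of dimension one over k.) -/
theorem result (k : Type u) (K L : Type v)
    [Field k] [IsAlgClosed k] [Field K] [Field L] [Algebra k K] [Algebra k L] [Algebra K L]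
    [IsScalarTower k K L] (hK : (⊤ : IntermediateField k K).FG)
    (hx : ∃ x : K, IsTranscendenceBasis k (fun _ : Unit => x)) [FiniteDimensional K L] :
    (KaehlerDifferential.map k k K L = 0 ∨ Function.Injective (KaehlerDifferential.map k k K L)) ∧
      (Function.Injective (KaehlerDifferential.map k k K L) ↔ Algebra.IsSeparable K L) := by

  classical
  obtain ⟨x, hx⟩ := hx
  have hxt : Transcendental k x :=
    algebraicIndependent_unique_type_iff.mp hx.1
  haveI : Algebra.EssFiniteType k K := IntermediateField.fg_top_iff.mp hK
  haveI : Algebra.IsAlgebraic k⟮x⟯ K := by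
    have := hx.isAlgebraic_field
    rwa [Set.range_const] at this
  haveI : Algebra.EssFiniteType k⟮x⟯ K := Algebra.EssFiniteType.of_comp k k⟮x⟯ K
  haveI hKfin : FiniteDimensional k⟮x⟯ K := Algebra.finite_of_essFiniteType_of_isAlgebraic
  set x' := algebraMap K L x with hx'
  have hx't : Transcendental k x' :=
    (transcendental_algebraMap_iff (algebraMap K L).injective).mpr hxt
  haveI : Algebra.EssFiniteType k L := Algebra.EssFiniteType.comp k K L
  haveI hLfin : FiniteDimensional k⟮x'⟯ L := by
    haveI : FiniteDimensional k⟮x⟯ L := Module.Finite.trans K L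
    haveI : Algebra.IsAlgebraic k⟮x'⟯ L := by
      refine ⟨fun z => ?_⟩
      have hz : IsAlgebraic k⟮x⟯ z := Algebra.IsAlgebraic.isAlgebraic z
      let j : k⟮x⟯ →+* k⟮x'⟯ := ((algebraMap K L).comp (algebraMap k⟮x⟯ K)).codRestrict
        k⟮x'⟯.toSubfield.toSubring fun w => by
          have hw : ((IsScalarTower.toAlgHom k K L) (w : K)) ∈ k⟮x⟯.map (IsScalarTower.toAlgHom k K L) :=
            ⟨_, w.2, rfl⟩
          rw [adjoin_map, Set.image_singleton] at hw
          exact hw
      letI := j.toAlgebra
      haveI : IsScalarTower k⟮x⟯ k⟮x'⟯ L := IsScalarTower.of_algebraMap_eq fun w => by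
        rw [IsScalarTower.algebraMap_apply k⟮x⟯ K L]
        rfl
      exact hz.extendScalars j.injective
    haveI : Algebra.EssFiniteType k⟮x'⟯ L := Algebra.EssFiniteType.of_comp k k⟮x'⟯ L
    exact Algebra.finite_of_essFiniteType_of_isAlgebraic
  have hdK := finrank_one (isFunctionField_of x hxt hKfin)
  have hdL := finrank_one (isFunctionField_of x' hx't hLfin)
  set Φ := KaehlerDifferential.map k k K L with hΦ
  have h0or : Φ = 0 ∨ Function.Injective Φ := by
    refine or_iff_not_imp_left.mpr fun hne => LinearMap.ker_eq_bot.mp ?_
    haveI : FiniteDimensional K (KaehlerDifferential k K) := Module.finite_of_finrank_eq_succ hdK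
    by_contra hk
    have h1 : 1 ≤ Module.finrank K (LinearMap.ker Φ) :=
      Submodule.one_le_finrank_iff.mpr hk
    exact hne (LinearMap.ker_eq_top.mp (Submodule.eq_top_of_finrank_eq
      (le_antisymm (Submodule.finrank_le _) (hdK ▸ h1))))
  refine ⟨h0or, ?_⟩
  haveI : Algebra.EssFiniteType K L := Algebra.EssFiniteType.of_comp k K L
  rw [← Algebra.FormallyUnramified.iff_isSeparable]
  have hexact := KaehlerDifferential.exact_mapBaseChange_map k K L
  have hnt : Nontrivial (KaehlerDifferential k K) := Module.nontrivial_of_finrank_eq_succ hdK
  constructor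
  · intro hinj
    refine ⟨subsingleton_of_forall_eq 0 fun w => ?_⟩
    obtain ⟨v, rfl⟩ := KaehlerDifferential.map_surjective k K L w
    refine (hexact v).mpr ?_
    obtain ⟨ω, hω⟩ := exists_ne (0 : KaehlerDifferential k K)
    have hne : Φ ω ≠ 0 := fun h => hω (hinj (by rw [h, map_zero]))
    obtain ⟨c, rfl⟩ := exists_smul_eq_of_finrank_eq_one hdL hne v
    exact ⟨TensorProduct.tmul K c ω, by rw [KaehlerDifferential.mapBaseChange_tmul]⟩
  · intro hunr
    refine h0or.resolve_left fun hzero => ?_
    haveI : Subsingleton (KaehlerDifferential K L) := hunr.subsingleton_kaehlerDifferential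
    haveI : Nontrivial (KaehlerDifferential k L) := Module.nontrivial_of_finrank_eq_succ hdL
    obtain ⟨v, hv⟩ := exists_ne (0 : KaehlerDifferential k L)
    obtain ⟨u, hu⟩ := (hexact v).mp (Subsingleton.elim _ _)
    apply hv
    rw [← hu]
    clear hu
    induction u using TensorProduct.induction_on with
    | zero => rw [map_zero]
    | tmul c ω =>
      rw [KaehlerDifferential.mapBaseChange_tmul]
      show c • Φ ω = 0
      rw [hzero, LinearMap.zero_apply, smul_zero]
    | add a b ha hb => rw [map_add, ha, hb, add_zero]

end Groth.Agent.S11092
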