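import Groth.Statements.S11093
import Mathlib
import Groth.Agent.CompleteExt.Basic
-- import your own Groth.Agent.* helpers here

set_option autoImplicit false
universe u
attribute [local instance] FractionRing.liftAlgebra
open CAlg

namespace Groth.Agent.S11093


open Polynomial in
/-- Artin–Schreier: a Galois extension of degree `p` in characteristic `p` is generated by a root of
`X ^ p - X + α`. -/
theorem exists_artinSchreier (p : ℕ) [Fact p.Prime] (F E : Type u) [Field F] [Field E] [Algebra F E]
    [CharP E p] [FiniteDimensional F E] [IsGalois F E] (hdeg : Module.finrank F E = p) :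
    ∃ x : E, x ∉ Set.range (algebraMap F E) ∧ ∃ α : F, x ^ p - x + algebraMap F E α = 0 := by
  classical
  have hpp : p.Prime := Fact.out
  have hcard : Nat.card (E ≃ₐ[F] E) = p := by rw [IsGalois.card_aut_eq_finrank, hdeg]
  haveI : Nontrivial (E ≃ₐ[F] E) := Finite.one_lt_card_iff_nontrivial.mp (by rw [hcard]; exact hpp.one_lt)
  obtain ⟨σ, hσ⟩ := exists_ne (1 : E ≃ₐ[F] E)
  have hord : orderOf σ = p := by
    have := orderOf_dvd_natCard σ
    rw [hcard] at this
    exact (hpp.eq_one_or_self_of_dvd _ this).resolve_left (by rw [orderOf_eq_one_iff]; exact hσ)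
  have himg : (Finset.range p).image (fun i => σ ^ i) = Finset.univ := by
    refine Finset.eq_univ_of_card _ ?_
    rw [Finset.card_image_of_injOn, Finset.card_range, ← Nat.card_eq_fintype_card, hcard]
    intro i hi j hj h
    exact pow_injOn_Iio_orderOf (by simpa [hord] using hi) (by simpa [hord] using hj) h
  obtain ⟨z, hz⟩ := Algebra.trace_surjective F E 1
  have hsum : ∑ i ∈ Finset.range p, (σ ^ i) z = 1 := by
    have h1 := trace_eq_sum_automorphisms (K := F) z
    rw [hz, map_one, ← himg, Finset.sum_image] at h1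
    · exact h1.symm
    · intro i hi j hj h
      exact pow_injOn_Iio_orderOf (by simpa [hord] using hi) (by simpa [hord] using hj) h
  set θ : E := -∑ i ∈ Finset.range p, (i : E) * (σ ^ i) z with hθ
  have hσθ : σ θ = θ + 1 := by
    have hsucc : ∀ i, σ ((σ ^ i) z) = (σ ^ (i + 1)) z := fun i => by
      rw [pow_succ']; rfl
    have h1 : ∑ i ∈ Finset.range p, ((i + 1 : ℕ) : E) * (σ ^ (i + 1)) z =
        ∑ i ∈ Finset.range p, (i : E) * (σ ^ i) z := by
      have e1 := Finset.sum_range_succ' (fun i => (i : E) * (σ ^ i) z) p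
      have e2 := Finset.sum_range_succ (fun i => (i : E) * (σ ^ i) z) p
      simp only [CharP.cast_eq_zero, zero_mul, Nat.cast_zero, add_zero] at e1 e2
      exact e1.symm.trans e2
    have h2 : ∑ i ∈ Finset.range p, (σ ^ (i + 1)) z = 1 := by
      rw [← Finset.sum_congr rfl (fun i _ => hsucc i), ← map_sum, hsum, map_one]
    have h3 : σ θ = -∑ i ∈ Finset.range p, (i : E) * (σ ^ (i + 1)) z := by
      rw [hθ, map_neg, map_sum]
      simp only [map_mul, map_natCast, hsucc]
    rw [h3, hθ, ← h1]
    simp only [Nat.cast_add, Nat.cast_one, add_mul, one_mul, Finset.sum_add_distrib]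
    rw [h2]; ring
  haveI : ExpChar E p := ExpChar.prime hpp
  refine ⟨θ, ?_, ?_⟩
  · rintro ⟨c, hc⟩
    rw [← hc, σ.commutes] at hσθ
    exact one_ne_zero (left_eq_add.mp hσθ)
  · have hfix : σ (θ ^ p - θ) = θ ^ p - θ := by
      rw [map_sub, map_pow, hσθ, add_pow_expChar, one_pow]; ring
    have hall : ∀ τ : E ≃ₐ[F] E, τ (θ ^ p - θ) = θ ^ p - θ := fun τ => by
      have hτ : τ ∈ (Finset.range p).image (fun i => σ ^ i) := himg ▸ Finset.mem_univ τ
      obtain ⟨i, -, rfl⟩ := Finset.mem_image.mp hτ
      clear hτ
      induction i with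
      | zero => rfl
      | succ i ih => rw [pow_succ', AlgEquiv.mul_apply, ih, hfix]
    obtain ⟨α, hα⟩ := (IsGalois.mem_range_algebraMap_iff_fixed _).mpr hall
    exact ⟨-α, by rw [map_neg, hα]; ring⟩

/-- Second assertion: (Artin–Schreier normal form): let K be a perfect field of characteristic p > 0, A
= K[[t]] the power series ring with fraction field F, and B a Dedekind domain which is a finite
torsion-free A-algebra whose fraction field E is Galois of degree p over F and totally ramified:
some maximal ideal of B has ramification index p over A. Then there are x in E generating E over F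
and α in F with x^p − x + α = 0, where α = a / t^m for a power series a with nonzero constant term
and a positive integer m not divisible by p. -/
theorem result (p : ℕ) [Fact p.Prime] (K : Type u) [Field K]
    [CharP K p] [PerfectField K] (B : Type u) [CommRing B] [IsDedekindDomain B]
    [Algebra (PowerSeries K) B] [Module.Finite (PowerSeries K) B] [Module.IsTorsionFree (PowerSeries K) B]
    [IsGalois (FractionRing (PowerSeries K)) (FractionRing B)]
    (hdeg : Module.finrank (FractionRing (PowerSeries K)) (FractionRing B) = p)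
    (M : Ideal B) [M.IsMaximal] (hram : M.ramificationIdx (PowerSeries K) = p) :
    ∃ x : FractionRing B, ∃ m : ℕ, ∃ a : PowerSeries K,
      IntermediateField.adjoin (FractionRing (PowerSeries K)) {x} = ⊤ ∧ 0 < m ∧ ¬ p ∣ m ∧
      PowerSeries.constantCoeff a ≠ 0 ∧
      x ^ p - x + algebraMap (FractionRing (PowerSeries K)) (FractionRing B)
        (algebraMap (PowerSeries K) (FractionRing (PowerSeries K)) a /
          algebraMap (PowerSeries K) (FractionRing (PowerSeries K)) (PowerSeries.X ^ m)) = 0 := by

  classical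
  let A := PowerSeries K
  let F := FractionRing (PowerSeries K)
  let E := FractionRing B
  have hpp : p.Prime := Fact.out
  haveI : FaithfulSMul A B := (faithfulSMul_iff_algebraMap_injective A B).2
    (Module.isTorsionFree_iff_algebraMap_injective.1 inferInstance)
  haveI : FiniteDimensional F E := Module.finite_of_finrank_pos (by rw [hdeg]; exact hpp.pos)
  set ιA : A →+* F := algebraMap A F with hιA
  set φ : F →+* E := algebraMap F E with hφ
  haveI : CharP A p := charP_of_injective_ringHom (f := PowerSeries.C (R := K)) PowerSeries.C_injective p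
  haveI : CharP F p := charP_of_injective_ringHom (f := ιA) (IsFractionRing.injective A F) p
  haveI : CharP E p := charP_of_injective_ringHom (f := φ) φ.injective p
  haveI : ExpChar E p := ExpChar.prime hpp
  haveI : IsAdicComplete (IsLocalRing.maximalIdeal A) A := by
    show IsAdicComplete (IsLocalRing.maximalIdeal (PowerSeries K)) (PowerSeries K)
    rw [PowerSeries.maximalIdeal_eq_span_X]; infer_instance
  have hfr : Module.finrank A B = p := by
    rw [← IsFractionRing.finrank_eq A F B E]; exact hdeg
  haveI := Groth.Agent.CompleteExt.liesOver A B M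
  have hf : M.inertiaDeg A = 1 := by
    have h := Groth.Agent.CompleteExt.ramification_mul_inertia A B M
    rw [hfr, hram] at h
    exact Nat.eq_of_mul_eq_mul_left hpp.pos (by rw [h, mul_one])
  rw [Ideal.inertiaDeg_eq_of_isMaximal (IsLocalRing.maximalIdeal A)] at hf
  have hres : ∀ v : B, ∃ a : A, v - algebraMap A B a ∈ M := by
    intro v
    letI : Field (A ⧸ IsLocalRing.maximalIdeal A) := Ideal.Quotient.field _
    obtain ⟨a, ha⟩ := (finrank_eq_one_iff_of_nonzero' (1 : B ⧸ M) one_ne_zero).1 hf (Ideal.Quotient.mk M v)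
    obtain ⟨a, rfl⟩ := Ideal.Quotient.mk_surjective a
    refine ⟨a, ?_⟩
    rw [← Ideal.Quotient.eq_zero_iff_mem, map_sub, sub_eq_zero, ← ha, Algebra.smul_def, mul_one]
    rfl
  -- no unramified Artin–Schreier generator
  have hno : ∀ (x : E) (a : A), x ^ p - x + φ (ιA a) = 0 → x ∈ Set.range φ := by
    intro x a hx
    haveI : HenselianLocalRing A := Groth.Agent.Hensel.henselianLocalRing_of_henselianRing inferInstance
    set P : Polynomial A := Polynomial.X ^ p - Polynomial.X + Polynomial.C a with hP
    have hm : P.Monic := by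
      rw [hP, sub_add]
      refine Polynomial.monic_X_pow_sub ((Polynomial.degree_sub_le _ _).trans_lt (max_lt ?_ ?_))
      · rw [Polynomial.degree_X]; exact_mod_cast hpp.one_lt
      · exact Polynomial.degree_C_le.trans_lt (by exact_mod_cast hpp.pos)
    have hxint : IsIntegral A x := ⟨P, hm, by
      simp only [hP, Polynomial.eval₂_add, Polynomial.eval₂_sub, Polynomial.eval₂_X_pow, Polynomial.eval₂_X,
        Polynomial.eval₂_C, IsScalarTower.algebraMap_apply A F E]
      exact hx⟩
    obtain ⟨v, hv⟩ := IsIntegrallyClosed.algebraMap_eq_of_integral (hxint.tower_top (A := B))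
    obtain ⟨c, hc⟩ := hres v
    have hvP : v ^ p - v + algebraMap A B a = 0 := by
      apply IsFractionRing.injective B E
      rw [map_add, map_sub, map_pow, hv, map_zero, ← IsScalarTower.algebraMap_apply A B E,
        IsScalarTower.algebraMap_apply A F E]
      exact hx
    have hmem : c ^ p - c + a ∈ IsLocalRing.maximalIdeal A := by
      rw [Ideal.mem_of_liesOver M (IsLocalRing.maximalIdeal A)]
      have h1 : algebraMap A B (c ^ p - c + a) =
          (v - algebraMap A B c) - (v ^ p - algebraMap A B c ^ p) := by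
        simp only [map_add, map_sub, map_pow]
        linear_combination hvP
      rw [h1]
      exact M.sub_mem hc (M.mem_of_dvd (sub_dvd_pow_sub_pow _ _ p) hc)
    obtain ⟨r, hr, -⟩ := HenselianLocalRing.is_henselian P hm c (by simpa [hP] using hmem) (by
      simp [hP, Polynomial.derivative_X_pow, CharP.cast_eq_zero])
    have hr' : r ^ p - r + a = 0 := by simpa [hP, Polynomial.IsRoot] using hr
    have hxr : (x - φ (ιA r)) ^ p = x - φ (ιA r) := by
      have := congrArg (fun z => φ (ιA z)) hr'
      simp only [map_add, map_sub, map_pow, map_zero] at this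
      rw [sub_pow_expChar]
      linear_combination hx - this
    have hb := (Subfield.mem_bot_iff_pow_eq_self E p).mpr hxr
    rw [← ZMod.fieldRange_castHom_eq_bot p] at hb
    obtain ⟨n, hn⟩ := hb
    obtain ⟨n, rfl⟩ := ZMod.natCast_zmod_surjective n
    rw [map_natCast] at hn
    exact ⟨ιA r + n, by rw [map_add, map_natCast, hn]; ring⟩
  obtain ⟨x₀, hx₀, α, hα⟩ := exists_artinSchreier p F E hdeg
  have hX : ιA PowerSeries.X ≠ 0 := by
    rw [ne_eq, map_eq_zero_iff _ (IsFractionRing.injective A F)]; exact PowerSeries.X_ne_zero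
  have hdesc : ∀ (m : ℕ) (a : A) (x : E), x ∉ Set.range φ →
      x ^ p - x + φ (ιA a / ιA (PowerSeries.X ^ m)) = 0 →
      ∃ x : E, ∃ m : ℕ, ∃ a : A, x ∉ Set.range φ ∧ 0 < m ∧ ¬ p ∣ m ∧
        PowerSeries.constantCoeff a ≠ 0 ∧ x ^ p - x + φ (ιA a / ιA (PowerSeries.X ^ m)) = 0 := by
    intro m
    induction m using Nat.strong_induction_on with
    | _ m ih =>
      intro a x hxr hx
      rcases Nat.eq_zero_or_pos m with rfl | hm
      · rw [pow_zero, map_one, div_one] at hx
        exact absurd (hno x a hx) hxr
      obtain ⟨m', rfl⟩ : ∃ m', m = m' + 1 := ⟨m - 1, by omega⟩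
      have hcancel : ∀ a' : A, ιA (PowerSeries.X * a') / ιA (PowerSeries.X ^ (m' + 1)) =
          ιA a' / ιA (PowerSeries.X ^ m') := fun a' => by
        rw [pow_succ', map_mul, map_mul, mul_div_mul_left _ _ hX]
      by_cases h0 : PowerSeries.constantCoeff a = 0
      · obtain ⟨a', rfl⟩ := PowerSeries.X_dvd_iff.mpr h0
        rw [hcancel] at hx
        exact ih m' (by omega) a' x hxr hx
      by_cases hdvd : p ∣ m' + 1
      swap
      · exact ⟨x, m' + 1, a, hxr, hm, hdvd, h0, hx⟩
      obtain ⟨n, hn⟩ := hdvd
      have hn0 : 0 < n := by rcases Nat.eq_zero_or_pos n with rfl | h <;> simp_all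
      have hnlt : n < m' + 1 := by rw [hn]; exact lt_mul_of_one_lt_left hn0 hpp.one_lt
      haveI : ExpChar K p := ExpChar.prime hpp
      obtain ⟨b, hb⟩ := (bijective_frobenius K p).2 (PowerSeries.constantCoeff a)
      rw [frobenius_def] at hb
      have hnum : PowerSeries.constantCoeff (a - PowerSeries.C (PowerSeries.constantCoeff a) +
          PowerSeries.C b * PowerSeries.X ^ (m' + 1 - n)) = 0 := by
        simp only [map_add, map_sub, map_mul, map_pow, PowerSeries.constantCoeff_C,
          PowerSeries.constantCoeff_X, zero_pow (show m' + 1 - n ≠ 0 by omega), sub_self, mul_zero, add_zero]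
      obtain ⟨a', ha'⟩ := PowerSeries.X_dvd_iff.mpr hnum
      set c : F := ιA (PowerSeries.C b) / ιA (PowerSeries.X ^ n) with hc
      have hnew : ιA a / ιA (PowerSeries.X ^ (m' + 1)) - c ^ p + c = ιA a' / ιA (PowerSeries.X ^ m') := by
        have hpow : c ^ p = ιA (PowerSeries.C (PowerSeries.constantCoeff a)) / ιA (PowerSeries.X ^ (m' + 1)) := by
          rw [hc, div_pow, ← map_pow, ← map_pow, ← map_pow, ← pow_mul, hb, hn, mul_comm n p]
        have hc' : c = ιA (PowerSeries.C b * PowerSeries.X ^ (m' + 1 - n)) / ιA (PowerSeries.X ^ (m' + 1)) := by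
          rw [hc, show PowerSeries.X ^ (m' + 1) = PowerSeries.X ^ n * PowerSeries.X ^ (m' + 1 - n) by
            rw [← pow_add]; congr 1; omega, map_mul, map_mul, mul_div_mul_right]
          rw [map_pow]; exact pow_ne_zero _ hX
        rw [← hcancel, ← ha', hpow, hc', map_add, map_sub]
        ring
      refine ih m' (by omega) a' (x + φ c) ?_ ?_
      · rintro ⟨z, hz⟩
        exact hxr ⟨z - c, by rw [map_sub, hz]; ring⟩
      · rw [← hnew, map_add φ, map_sub φ, map_pow φ c p, add_pow_expChar]
        linear_combination hx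
  -- write `α` as a quotient by a power of `X`
  obtain ⟨⟨a₀, s⟩, hs⟩ := IsLocalization.surj (nonZeroDivisors A) α
  have hs0 : (s : A) ≠ 0 := nonZeroDivisors.coe_ne_zero s
  obtain ⟨u, hu⟩ := PowerSeries.isUnit_divided_by_X_pow_order hs0
  set N := (s : A).order.toNat with hN
  have hsd : (s : A) = PowerSeries.X ^ N * (u : A) := by
    rw [hu, hN, PowerSeries.X_pow_order_mul_divXPowOrder]
  have hα' : α = ιA (a₀ * ((u⁻¹ : Aˣ) : A)) / ιA (PowerSeries.X ^ N) := by
    rw [eq_div_iff (by rw [map_pow]; exact pow_ne_zero _ hX)]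
    simp only at hs
    rw [hsd] at hs
    rw [map_mul ιA a₀, ← hs]
    show α * _ = α * ιA _ * _
    rw [mul_assoc, ← map_mul, mul_assoc, Units.mul_inv, mul_one]
  obtain ⟨x, m, a, hxr, hm, hdvd, ha, hx⟩ := hdesc N _ x₀ hx₀ (hα' ▸ hα)
  refine ⟨x, m, a, ?_, hm, hdvd, ha, hx⟩
  haveI := IntermediateField.isSimpleOrder_of_finrank_prime F E (hdeg.symm ▸ hpp)
  refine (eq_bot_or_eq_top _).resolve_left fun h => hxr ?_
  rw [IntermediateField.adjoin_simple_eq_bot_iff, IntermediateField.mem_bot] at h
  exact h

end Groth.Agent.S11093
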