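import Groth.Statements.S11094
import Groth.Agent.FFCurve.PlaneNotHyper
import Groth.Agent.FEtCat.Count

set_option autoImplicit false
universe u
set_option backward.isDefEq.respectTransparency false
set_option backward.isDefEq.respectTransparency.types false
set_option maxHeartbeats 1000000
open CategoryTheory CategoryTheory.Limits MonoidalCategory CartesianMonoidalCategory MonObj GrpObj AlgebraicGeometry
open AbVar

namespace Groth.Agent.S11094

variable {X Y Z : Scheme.{u}} [IsIntegral X] [IsIntegral Y] [IsIntegral Z]

/-- The map of function fields as seen on spectra. -/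
theorem specMap_genMap (f : X ⟶ Y) (e : f (genericPoint X) = genericPoint Y) :
    Spec.map (CommRingCat.ofHom (VBLib.PushTrace.genMap f e)) ≫ Y.fromSpecStalk (genericPoint Y) =
      X.fromSpecStalk (genericPoint X) ≫ f := by
  rw [show CommRingCat.ofHom (VBLib.PushTrace.genMap f e) =
      Y.presheaf.stalkSpecializes (specializes_of_eq e) ≫ f.stalkMap (genericPoint X) from rfl,
    Spec.map_comp, Category.assoc, Scheme.SpecMap_stalkSpecializes_fromSpecStalk,
    Scheme.SpecMap_stalkMap_fromSpecStalk]

/-- Function field maps are functorial. -/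
theorem genMap_comp (f : X ⟶ Y) (g : Y ⟶ Z) (h : X ⟶ Z) (hh : f ≫ g = h) (ef : f (genericPoint X) = genericPoint Y)
    (eg : g (genericPoint Y) = genericPoint Z) (eh : h (genericPoint X) = genericPoint Z) (r : Z.functionField) :
    VBLib.PushTrace.genMap f ef (VBLib.PushTrace.genMap g eg r) = VBLib.PushTrace.genMap h eh r := by
  have : CommRingCat.ofHom (VBLib.PushTrace.genMap g eg) ≫ CommRingCat.ofHom (VBLib.PushTrace.genMap f ef) =
      CommRingCat.ofHom (VBLib.PushTrace.genMap h eh) := Spec.map_injective <| by
    rw [← cancel_mono (Z.fromSpecStalk (genericPoint Z)), Spec.map_comp, Category.assoc, specMap_genMap,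
      reassoc_of% (specMap_genMap f ef), hh, specMap_genMap]
  exact RingHom.congr_fun (congrArg CommRingCat.Hom.hom this) r

/-- Let k be an algebraically closed field, E and E′ elliptic curves over k — group schemes over Spec k
whose underlying schemes are proper, smooth, integral and one-dimensional — and φ : E → E′ a
homomorphism which is finite, surjective and étale (a separable isogeny), sending the generic point
of E to that of E′, so that the function field of E′ maps into the function field of E. Then the
function field of E is a Galois extension of that of E′, and the number of its automorphisms over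
the function field of E′ equals the number of k-valued points of E that φ sends to the unit of E′. -/
theorem result (k : Type u) [Field k] [IsAlgClosed k]
    (E E' : Over (Spec (CommRingCat.of k)))
    [GrpObj E] [IsProper E.hom] [Smooth E.hom] [IsIntegral E.left] (hE : topologicalKrullDim E.left = 1)
    [GrpObj E'] [IsProper E'.hom] [Smooth E'.hom] [IsIntegral E'.left] (hE' : topologicalKrullDim E'.left = 1)
    (φ : E ⟶ E') [IsMonHom φ] [IsFinite φ.left] [Surjective φ.left] [Etale φ.left]
    (e : φ.left (genericPoint E.left) = genericPoint E'.left) :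
    letI := ((E'.left.presheaf.stalkSpecializes (specializes_of_eq e) ≫
      φ.left.stalkMap (genericPoint E.left)).hom).toAlgebra
    IsGalois E'.left.functionField E.left.functionField ∧
      Nat.card (E.left.functionField ≃ₐ[E'.left.functionField] E.left.functionField) =
        Nat.card {P : 𝟙_ (Over (Spec (CommRingCat.of k))) ⟶ E // P ≫ φ = η[E']} := by
  have : LocallyOfFiniteType E'.hom := inferInstance
  have : IsLocallyNoetherian E'.left := LocallyOfFiniteType.isLocallyNoetherian E'.hom
  let _alg := (VBLib.PushTrace.genMap φ.left e).toAlgebra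
  change IsGalois E'.left.functionField E.left.functionField ∧
      Nat.card (E.left.functionField ≃ₐ[E'.left.functionField] E.left.functionField) =
        Nat.card {P : 𝟙_ (Over (Spec (CommRingCat.of k))) ⟶ E // P ≫ φ = η[E']}
  set L := E'.left.functionField with hL
  set K := E.left.functionField with hK
  let ξ : Spec (CommRingCat.of k) ⟶ E'.left := (η[E']).left
  let S := {P : 𝟙_ (Over (Spec (CommRingCat.of k))) ⟶ E // P ≫ φ = η[E']}
  have hdeg : Module.finrank L K = Nat.card S := by
    rw [FFCurve.finrank_genMap φ.left e]
    rw [φ.left.isLocallyConstant_finrank.apply_eq_of_preconnectedSpace (genericPoint E'.left) (ξ default),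
      ← Groth.Agent.FEtCat.Count.natCard_sec φ.left ξ]
    refine Nat.card_congr
      { toFun := fun s => ⟨Over.homMk s.1 (by
          rw [← Over.w φ, ← Category.assoc, s.2]
          exact Over.w (η[E'])), Over.OverMorphism.ext s.2⟩
        invFun := fun P => ⟨P.1.left, congrArg CommaMorphism.left P.2⟩
        left_inv := fun s => rfl
        right_inv := fun P => rfl }
  have hfin : Finite S := by
    refine Nat.finite_of_card_ne_zero ?_
    rw [← hdeg, FFCurve.finrank_genMap φ.left e]
    have := φ.left.one_le_finrank_map (genericPoint E.left)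
    rw [e] at this
    omega
  have : FiniteDimensional L K := Module.finite_of_finrank_pos (by rw [hdeg]; exact Nat.pos_of_ne_zero (by
    rw [← hdeg, FFCurve.finrank_genMap φ.left e]
    have := φ.left.one_le_finrank_map (genericPoint E.left)
    rw [e] at this
    omega))
  let τ : (𝟙_ (Over (Spec (CommRingCat.of k))) ⟶ E) → (E ⟶ E) := fun P => (toUnit E ≫ P) * 𝟙 E
  have hτ : ∀ P Q, τ P ≫ τ Q = (toUnit E ≫ Q) * τ P := fun P Q => by
    simp only [τ]
    rw [MonObj.comp_mul, ← Category.assoc, toUnit_unique (((toUnit E ≫ P) * 𝟙 E) ≫ toUnit E) (toUnit E),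
      Category.comp_id]
  have hiso : ∀ P, IsIso (τ P).left := fun P => by
    have h1 : τ P ≫ τ P⁻¹ = 𝟙 E := by
      rw [hτ]; simp only [τ]; rw [← _root_.mul_assoc, ← MonObj.comp_mul, inv_mul_cancel, MonObj.comp_one, _root_.one_mul]
    have h2 : τ P⁻¹ ≫ τ P = 𝟙 E := by
      rw [hτ]; simp only [τ]; rw [← _root_.mul_assoc, ← MonObj.comp_mul, mul_inv_cancel, MonObj.comp_one, _root_.one_mul]
    have : IsIso (τ P) := ⟨τ P⁻¹, h1, h2⟩
    exact (inferInstance : IsIso ((Over.forget _).map (τ P)))
  have hτφ : ∀ P : S, τ P.1 ≫ φ = φ := fun P => by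
    simp only [τ]
    rw [MonObj.mul_comp, Category.assoc, P.2, one_eq_one, MonObj.comp_one, _root_.one_mul, Category.id_comp]
  have heP : ∀ P, (τ P).left (genericPoint E.left) = genericPoint E.left := fun P => by
    have := hiso P
    exact (genericPoint_eq_of_isOpenImmersion (τ P).left)
  let σ : S → (K →ₐ[L] K) := fun P =>
    { VBLib.PushTrace.genMap (τ P.1).left (heP P.1) with
      commutes' := fun r => genMap_comp (τ P.1).left φ.left φ.left (congrArg CommaMorphism.left (hτφ P)) (heP P.1) e e r }
  have hσ : Function.Injective σ := fun P Q h => by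
    have h' : VBLib.PushTrace.genMap (τ P.1).left (heP P.1) = VBLib.PushTrace.genMap (τ Q.1).left (heP Q.1) :=
      RingHom.ext fun r => DFunLike.congr_fun h r
    have h1 : E.left.fromSpecStalk (genericPoint E.left) ≫ (τ P.1).left =
        E.left.fromSpecStalk (genericPoint E.left) ≫ (τ Q.1).left := by
      rw [← specMap_genMap _ (heP P.1), ← specMap_genMap _ (heP Q.1), h']
    have : IsDominant (E.left.fromSpecStalk (genericPoint E.left)) := ⟨by
      refine dense_iff_closure_eq.2 (Set.eq_univ_of_univ_subset ?_)
      rw [← (genericPoint_spec E.left)]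
      exact closure_mono (Set.singleton_subset_iff.2
        (Scheme.range_fromSpecStalk (X := E.left) (x := genericPoint E.left) ▸ specializes_rfl))⟩
    have h2 : τ P.1 = τ Q.1 := Over.OverMorphism.ext
      (ext_of_isDominant_of_isSeparated E.hom (by rw [Over.w, Over.w]) _ h1)
    refine Subtype.ext ?_
    have h3 : ∀ R : 𝟙_ (Over (Spec (CommRingCat.of k))) ⟶ E, η[E] ≫ τ R = R := fun R => by
      simp only [τ]
      rw [MonObj.comp_mul, ← Category.assoc, toUnit_unique (η[E] ≫ toUnit E) (𝟙 _), Category.id_comp,
        Category.comp_id, one_eq_one, _root_.mul_one]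
    rw [← h3 P.1, h2, h3 Q.1]
  let σ' : S → (K ≃ₐ[L] K) := fun P => AlgEquiv.ofBijective (σ P) (σ P).bijective
  have hσ' : Function.Injective σ' := fun P Q h => hσ (AlgHom.ext fun r => DFunLike.congr_fun h r)
  have hle : Nat.card S ≤ Nat.card (K ≃ₐ[L] K) := Nat.card_le_card_of_injective σ' hσ'
  have hge : Nat.card (K ≃ₐ[L] K) ≤ Module.finrank L K := by
    rw [Nat.card_eq_fintype_card]
    exact AlgEquiv.card_le
  have heq : Nat.card (K ≃ₐ[L] K) = Module.finrank L K := le_antisymm hge (hdeg ▸ hle)
  exact ⟨IsGalois.of_card_aut_eq_finrank L K heq, heq.trans hdeg⟩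

end Groth.Agent.S11094
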