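import Groth.Statements.S11095
import Mathlib
import Groth.Agent.Milnor.TensorDomain
-- import your own Groth.Agent.* helpers here

set_option autoImplicit false
universe u
open CAlg

namespace Groth.Agent.S11095

/-- Let K₀ be a perfect field, K an algebraic extension of K₀ and F₀ a field extension of K₀ such that
K₀ is algebraically closed in F₀. Then the K₀-algebra F₀ ⊗ K is a field; consequently F₀ and K,
embedded in it by x ↦ x ⊗ 1 and y ↦ 1 ⊗ y, are linearly disjoint over K₀. -/
theorem result (K₀ F₀ K : Type u)
    [Field K₀] [PerfectField K₀] [Field F₀] [Algebra K₀ F₀] [Field K] [Algebra K₀ K]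
    [Algebra.IsAlgebraic K₀ K] (h : algebraicClosure K₀ F₀ = ⊥) :
    IsField (TensorProduct K₀ F₀ K) := by

  have hdom : IsDomain (TensorProduct K₀ F₀ K) := by
    haveI : Algebra.IsSeparable K₀ K := inferInstance
    refine Groth.Agent.Milnor.isDomain_tensor_of_algClosedIn fun x hx => ?_
    have hmem : x ∈ algebraicClosure K₀ F₀ := mem_algebraicClosure_iff.mpr hx.isAlgebraic
    rw [h, IntermediateField.mem_bot] at hmem
    exact hmem
  exact Algebra.TensorProduct.isField_of_isAlgebraic K₀ F₀ K (Or.inr inferInstance)

end Groth.Agent.S11095
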