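import Groth.Statements.S11096
-- import your own Groth.Agent.* helpers here

set_option autoImplicit false
universe u
open Neron

namespace Groth.Agent.S11096

/-- Let a Weierstrass equation have coefficients in a commutative ring R and let I be an ideal with a₃,
a₄, a₆ ∈ I. If the discriminant Δ does not lie in I ^ 2, then a₆ does not lie in I ^ 2 and b₂ does
not lie in I. (For a discrete valuation ring with maximal ideal (π): if π divides a₃, a₄, a₆ and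
v(Δ) = 1, then v(a₆) = 1 and π does not divide b₂.) -/
theorem result {R : Type u} [CommRing R] (W : WeierstrassCurve R)
    (I : Ideal R) (h3 : W.a₃ ∈ I) (h4 : W.a₄ ∈ I) (h6 : W.a₆ ∈ I) (hΔ : W.Δ ∉ I ^ 2) :
    W.a₆ ∉ I ^ 2 ∧ W.b₂ ∉ I := by
  have hb4 : W.b₄ ∈ I := by
    rw [WeierstrassCurve.b₄]
    exact I.add_mem (I.mul_mem_left _ h4) (I.mul_mem_left _ h3)
  have hb6 : W.b₆ ∈ I := by
    rw [WeierstrassCurve.b₆, pow_two]
    exact I.add_mem (I.mul_mem_left _ h3) (I.mul_mem_left _ h6)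
  have hsq : ∀ a b : R, a ∈ I → b ∈ I → a * b ∈ I ^ 2 := fun a b ha hb => by
    rw [pow_two]; exact Ideal.mul_mem_mul ha hb
  have hrest : W.a₁ * W.a₃ * W.a₄ ∈ I ^ 2 ∧ W.a₂ * W.a₃ ^ 2 ∈ I ^ 2 ∧ W.a₄ ^ 2 ∈ I ^ 2 := by
    refine ⟨?_, ?_, ?_⟩
    · rw [mul_assoc]; exact Ideal.mul_mem_left _ _ (hsq _ _ h3 h4)
    · exact Ideal.mul_mem_left _ _ (Ideal.pow_mem_pow h3 2)
    · exact Ideal.pow_mem_pow h4 2
  have hb8 : W.b₈ ∈ I := by
    have h2 : ∀ x ∈ I ^ 2, x ∈ I := fun x hx => (Ideal.pow_le_self two_ne_zero) hx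
    rw [WeierstrassCurve.b₈]
    exact I.sub_mem (I.add_mem (I.sub_mem (I.add_mem (I.mul_mem_left _ h6) (I.mul_mem_left _ h6))
      (h2 _ hrest.1)) (h2 _ hrest.2.1)) (h2 _ hrest.2.2)
  have key : W.b₂ ^ 2 * W.b₈ ∈ I ^ 2 → False := fun h => hΔ (by
    rw [WeierstrassCurve.Δ]
    refine (I ^ 2).add_mem ((I ^ 2).sub_mem ((I ^ 2).sub_mem ?_ ?_) ?_) ?_
    · rw [neg_mul]; exact neg_mem h
    · exact Ideal.mul_mem_left _ _ (Ideal.pow_le_pow_right (by norm_num : 2 ≤ 3) (Ideal.pow_mem_pow hb4 3))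
    · exact Ideal.mul_mem_left _ _ (Ideal.pow_mem_pow hb6 2)
    · exact hsq _ _ (I.mul_mem_left _ hb4) hb6)
  refine ⟨fun h => key (Ideal.mul_mem_left _ _ ?_), fun h => key ?_⟩
  · rw [WeierstrassCurve.b₈]
    exact sub_mem (add_mem (sub_mem (add_mem (Ideal.mul_mem_left _ _ h) (Ideal.mul_mem_left _ _ h))
      hrest.1) hrest.2.1) hrest.2.2
  · exact Ideal.mul_mem_right _ _ (Ideal.pow_mem_pow h 2)

end Groth.Agent.S11096
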