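import Groth.Statements.S11100
import Groth.Agent.S2156
import Groth.Agent.GrpScheme.SmoothRegular
import Groth.Agent.FlatMor.FibreStalk
import Groth.Agent.RegLoc.Basic
import Groth.Agent.S19964

set_option autoImplicit false
universe u
open CategoryTheory AlgebraicGeometry
open Neron

namespace Groth.Agent.S11100

/-- Let R be a Dedekind domain and p : X → Spec R flat and locally of finite presentation with X regular
(all local rings regular). Then every section s of p factors through the smooth locus of p: for
every point t of Spec R, p is smooth at s(t). (The published statement is for regular arithmetic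
surfaces over a Dedekind domain with perfect residue fields; this row assumes only that X is flat,
locally of finite presentation and regular.) -/
theorem result {R : Type u} [CommRing R] [IsDedekindDomain R]
    {X : Scheme.{u}} (p : X ⟶ Spec (CommRingCat.of R)) [Flat p] [LocallyOfFinitePresentation p]
    (hreg : ∀ x : X, IsRegularLocalRing (X.presheaf.stalk x))
    (s : Spec (CommRingCat.of R) ⟶ X) (hs : s ≫ p = 𝟙 _) (t : Spec (CommRingCat.of R)) :
    s.base t ∈ p.smoothLocus := by
  open IsLocalRing in
  let S := Spec (CommRingCat.of R)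
  have hts : p.base (s.base t) = t := (Scheme.Hom.comp_apply s p t).symm.trans (by rw [hs]; rfl)
  let x := s.base t
  haveI : LocallyOfFiniteType p := inferInstance
  haveI : IsNoetherianRing ↑(CommRingCat.of R) := inferInstanceAs (IsNoetherianRing R)
  haveI : IsLocallyNoetherian X := LocallyOfFiniteType.isLocallyNoetherian p
  haveI hφ : LocallyOfFinitePresentation (p.fiberToSpecResidueField (p.base x)) :=
    inferInstanceAs (LocallyOfFinitePresentation (Limits.pullback.snd p _))
  refine (S2156.result p x).mpr ⟨Flat.stalkMap p x, ?_⟩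
  -- the rational point of the fibre
  let g := S.fromSpecResidueField (p.base x)
  let r : Spec (S.residueField (p.base x)) ⟶ p.fiber (p.base x) :=
    Limits.pullback.lift (g ≫ s) (𝟙 _) (by rw [Category.assoc, hs, Category.comp_id, Category.id_comp])
  have hr : r ≫ p.fiberToSpecResidueField (p.base x) = 𝟙 _ := Limits.pullback.lift_snd _ _ _
  let pt := closedPoint (S.residueField (p.base x))
  have hrx : r.base pt = p.asFiber x := by
    apply (p.fiberι (p.base x)).isEmbedding.injective
    refine Eq.trans ?_ (p.fiberι_asFiber x).symm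
    refine (Scheme.Hom.comp_apply r (p.fiberι (p.base x)) pt).symm.trans ?_
    show (Limits.pullback.lift (g ≫ s) (𝟙 _) _ ≫ Limits.pullback.fst _ _).base pt = x
    rw [Limits.pullback.lift_fst]
    refine (Scheme.Hom.comp_apply g s pt).trans ?_
    rw [show g pt = p.base x from Scheme.fromSpecResidueField_apply _ _]
    exact congrArg s.base hts
  rw [← hrx]
  refine GrpScheme.SmoothRegular.mem_smoothLocus (k := S.residueField (p.base x)) _ r hr pt ?_
  rw [show r pt = p.asFiber x from hrx]
  -- its local ring is regular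
  haveI := hreg x
  obtain ⟨e⟩ := FlatMor.FibreStalk.exists_fibre_stalk_equiv p x
  suffices hq : IsRegularLocalRing (X.presheaf.stalk x ⧸
      (maximalIdeal (S.presheaf.stalk (p.base x))).map (p.stalkMap x).hom) from
    IsRegularLocalRing.of_ringEquiv e
  obtain ⟨hregS, hdimS⟩ := S19964.regular_stalk R (p.base x)
  haveI : IsRegularLocalRing (S.presheaf.stalk (p.base x)) := hregS
  haveI : IsDomain (S.presheaf.stalk (p.base x)) := RegLoc.isDomain _
  by_cases h0 : maximalIdeal (S.presheaf.stalk (p.base x)) = ⊥
  · rw [h0, Ideal.map_bot]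
    exact IsRegularLocalRing.of_ringEquiv (RingEquiv.quotientBot _).symm
  have hdim1 : ringKrullDim (S.presheaf.stalk (p.base x)) = 1 := by
    refine le_antisymm hdimS ?_
    rw [← IsLocalRing.maximalIdeal_height_eq_ringKrullDim]
    refine WithBot.coe_le_coe.mpr (Order.one_le_iff_pos.mpr (pos_iff_ne_zero.mpr ?_))
    rw [Ne, Ideal.height_eq_zero_iff_eq_bot]
    exact h0
  obtain ⟨_, hdvr⟩ := (RegLoc.Completion.exists_isDiscreteValuationRing_iff _).mpr ⟨hregS, hdim1⟩
  haveI := hdvr
  obtain ⟨ϖ, hϖ⟩ := IsDiscreteValuationRing.exists_irreducible (S.presheaf.stalk (p.base x))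
  rw [hϖ.maximalIdeal_eq, Ideal.map_span, Set.image_singleton]
  have ha : (p.stalkMap x).hom ϖ ∈ maximalIdeal (X.presheaf.stalk x) :=
    map_nonunit (p.stalkMap x).hom ϖ (hϖ.not_isUnit)
  let c := p.stalkMap (s.base t) ≫ s.stalkMap t
  have hc : Function.Bijective c.hom := by
    have : c = (s ≫ p).stalkMap t := (Scheme.Hom.stalkMap_comp s p t).symm
    have h1 : IsIso ((s ≫ p).stalkMap t) := by
      rw [Scheme.Hom.stalkMap_congr_hom _ _ hs t]
      infer_instance
    haveI : IsIso c := this ▸ h1
    exact ConcreteCategory.bijective_of_isIso c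
  haveI : IsLocalHom c.hom :=
    inferInstanceAs (IsLocalHom ((s.stalkMap t).hom.comp (p.stalkMap (s.base t)).hom))
  have ha2 : (p.stalkMap x).hom ϖ ∉ maximalIdeal (X.presheaf.stalk x) ^ 2 := fun hmem => by
    let E := RingEquiv.ofBijective c.hom hc
    have h2 : c.hom ϖ ∈ maximalIdeal (S.presheaf.stalk t) ^ 2 := by
      have := Ideal.mem_map_of_mem (s.stalkMap t).hom hmem
      rw [Ideal.map_pow] at this
      exact Ideal.pow_right_mono (map_maximalIdeal_le _) 2 this
    have hEm : (maximalIdeal (S.presheaf.stalk (p.base (s.base t)))).map E.toRingHom =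
        maximalIdeal (S.presheaf.stalk t) := IsLocalRing.map_ringEquiv_maximalIdeal E
    rw [← hEm, ← Ideal.map_pow] at h2
    obtain ⟨w, hw, hwe⟩ := (Ideal.mem_map_iff_of_surjective _ E.surjective).1 h2
    have hϖ2 : ϖ ∈ maximalIdeal (S.presheaf.stalk (p.base x)) ^ 2 := by
      have : w = ϖ := E.injective hwe
      exact this ▸ hw
    rw [hϖ.maximalIdeal_eq, Ideal.span_singleton_pow, Ideal.mem_span_singleton] at hϖ2
    obtain ⟨d, hd⟩ := hϖ2
    refine hϖ.not_isUnit (IsUnit.of_mul_eq_one d (mul_left_cancel₀ hϖ.ne_zero ?_))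
    rw [mul_one, ← mul_assoc, ← pow_two, ← hd]
  obtain ⟨n, hn⟩ := RegLoc.exists_natCast_eq_ringKrullDim (X.presheaf.stalk x)
  exact (RegLoc.isRegularLocalRing_quotient_span_singleton ha ha2 hn.1).1

end Groth.Agent.S11100
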