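import Groth.Statements.S11103
import Groth.Agent.NeronLib.MapBij

set_option autoImplicit false
universe u
open CategoryTheory CategoryTheory.Limits AlgebraicGeometry
open Neron

namespace Groth.Agent.S11103

/-- Let R be a Dedekind domain with fraction field K, let R' be a Dedekind domain finite étale over R
(the integral closure of R in a finite unramified extension K' of K), and let N be a Néron model
over Spec R of its generic fibre N_K. Then the base change N' = N ×_R R' is a Néron model over Spec
R' of its generic fibre N'_{K'}: it is smooth, separated and of finite type over Spec R', and every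
K'-morphism from the generic fibre of a smooth R'-scheme to N'_{K'} extends uniquely to an
R'-morphism into N'. (The published statement concerns the Néron model of an elliptic curve with the
mapping property for rational maps; this row allows any N and tests the mapping property on
morphisms from smooth schemes. The property generally fails for ramified extensions.) -/
theorem result (R R' : Type u) [CommRing R] [IsDedekindDomain R]
    [CommRing R'] [IsDedekindDomain R'] [Algebra R R'] [Module.Finite R R'] [Algebra.Etale R R']
    (N : Over (Spec (CommRingCat.of R)))
    (hN : Neron.IsNeronModelOf R N ((Neron.genericFibre R).obj N) (Iso.refl _)) :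
    Neron.IsNeronModelOf R'
      ((Over.pullback (Spec.map (CommRingCat.ofHom (algebraMap R R')))).obj N)
      ((Neron.genericFibre R').obj ((Over.pullback (Spec.map (CommRingCat.ofHom (algebraMap R R')))).obj N))
      (Iso.refl _) := by
  obtain ⟨hsm, hsep, hlft, hqc, hbij⟩ := hN
  have hinj : Function.Injective (algebraMap R R') := by
    rw [injective_iff_map_eq_zero]
    intro r hr
    by_contra hr0
    have hreg : IsSMulRegular R' (algebraMap R R' r) :=
      IsSMulRegular.of_flat (fun a b h => by simpa [hr0] using h)
    exact one_ne_zero (hreg (show algebraMap R R' r • (1 : R') = algebraMap R R' r • (0 : R') by simp [hr]))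
  haveI : FaithfulSMul R R' := (faithfulSMul_iff_algebraMap_injective R R').2 hinj
  refine ⟨inferInstanceAs (Smooth (pullback.snd _ _)), inferInstanceAs (IsSeparated (pullback.snd _ _)),
    inferInstanceAs (LocallyOfFiniteType (pullback.snd _ _)),
    inferInstanceAs (QuasiCompact (pullback.snd _ _)), fun Y hY => ?_⟩
  simp only [Iso.refl_hom, Category.comp_id]
  letI : Algebra (FractionRing R) (FractionRing R') := FractionRing.liftAlgebra R (FractionRing R')
  haveI : Algebra.IsAlgebraic R R' := Algebra.IsIntegral.isAlgebraic
  have hP : Algebra.IsPushout R (FractionRing R) R' (FractionRing R') := by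
    haveI : IsLocalization (Algebra.algebraMapSubmonoid R' (nonZeroDivisors R)) (FractionRing R') :=
      inferInstance
    exact (Algebra.isPushout_of_isLocalization (nonZeroDivisors R) (FractionRing R) R' (FractionRing R')).symm
  have sq : IsPullback
      (Spec.map (CommRingCat.ofHom (algebraMap (FractionRing R) (FractionRing R'))))
      (Neron.genPt R') (Neron.genPt R) (Spec.map (CommRingCat.ofHom (algebraMap R R'))) :=
    AlgebraicGeometry.isPullback_SpecMap_of_isPushout _ _ _ _
      (CommRingCat.isPushout_of_isPushout R (FractionRing R) R' (FractionRing R'))
  haveI : Smooth ((Over.map (Spec.map (CommRingCat.ofHom (algebraMap R R')))).obj Y).hom := by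
    haveI : Smooth (Spec.map (CommRingCat.ofHom (algebraMap R R'))) := by
      rw [HasRingHomProperty.Spec_iff (P := @Smooth)]
      rw [CommRingCat.hom_ofHom, RingHom.smooth_algebraMap]
      infer_instance
    show Smooth (Y.hom ≫ Spec.map (CommRingCat.ofHom (algebraMap R R')))
    infer_instance
  refine Groth.Agent.NeronLib.MapBij.bijective_baseChange _ sq Y N ?_
  simpa using hbij _ this

end Groth.Agent.S11103
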