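import Groth.Statements.S11108
import Groth.Agent.Hensel.SmoothLift

set_option autoImplicit false
universe u
open CategoryTheory AlgebraicGeometry
open Neron

namespace Groth.Agent.S11108

/-- Let R be a strictly Henselian discrete valuation ring — Henselian with algebraically closed residue
field — and p : X → Spec R a smooth morphism. Then the image of the reduction map from R-valued
points of X to the special fibre is dense in the special fibre: every point of X over the closed
point of Spec R lies in the closure of the set of points s(𝔪), s a section of p and 𝔪 the closed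
point. -/
theorem result (R : Type u) [CommRing R] [IsDomain R]
    [IsDiscreteValuationRing R] [HenselianLocalRing R] [IsAlgClosed (IsLocalRing.ResidueField R)]
    {X : Scheme.{u}} (p : X ⟶ Spec (CommRingCat.of R)) [Smooth p]
    (x : X) (hx : p.base x = IsLocalRing.closedPoint R) :
    x ∈ closure {y : X | ∃ s : Spec (CommRingCat.of R) ⟶ X, s ≫ p = 𝟙 _ ∧
      s.base (IsLocalRing.closedPoint R) = y} := by
  rw [mem_closure_iff]
  intro o ho hxo
  obtain ⟨W, hW, hxW, hWo⟩ := AlgebraicGeometry.exists_isAffineOpen_mem_and_subset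
    (x := x) (U := (⟨o, ho⟩ : X.Opens)) hxo
  set 𝔪 := IsLocalRing.maximalIdeal R
  have e : W ≤ p ⁻¹ᵁ ⊤ := le_top
  let φ : R →+* Γ(X, W) := (p.appLE ⊤ W e).hom.comp (Scheme.ΓSpecIso (CommRingCat.of R)).inv.hom
  have hφ : Spec.map (CommRingCat.ofHom φ) = hW.fromSpec ≫ p := by
    have h1 := IsAffineOpen.SpecMap_appLE_fromSpec p (isAffineOpen_top (Spec (CommRingCat.of R))) hW e
    rw [IsAffineOpen.fromSpec_top, Scheme.isoSpec_Spec_inv] at h1
    rw [← h1, ← Spec.map_comp]
    rfl
  let _ : Algebra R Γ(X, W) := φ.toAlgebra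
  have : Algebra.Smooth R Γ(X, W) := by
    have h1 : (p.appLE ⊤ W e).hom.Smooth := p.smooth_appLE (isAffineOpen_top _) hW e
    have h2 : φ.Smooth := RingHom.Smooth.propertyIsLocal.respectsIso.2 _
      (Scheme.ΓSpecIso (CommRingCat.of R)).symm.commRingCatIsoToRingEquiv h1
    exact h2
  -- a closed point of the special fibre inside `W`
  have hne : 𝔪.map φ ≠ ⊤ := by
    intro htop
    have hq := hW.fromSpec_primeIdealOf ⟨x, hxW⟩
    set q := hW.primeIdealOf ⟨x, hxW⟩
    have hqx : (Spec.map (CommRingCat.ofHom φ)).base q = IsLocalRing.closedPoint R := by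
      rw [hφ]
      exact (congrArg (fun z => p.base z) hq).trans hx
    have hle : 𝔪.map φ ≤ q.asIdeal := Ideal.map_le_iff_le_comap.mpr
      (le_of_eq (congrArg PrimeSpectrum.asIdeal hqx).symm)
    exact q.isPrime.ne_top (top_le_iff.mp (htop ▸ hle))
  obtain ⟨M, hM, hMle⟩ := Ideal.exists_le_maximal _ hne
  let k := IsLocalRing.ResidueField R
  let _ : Algebra k (Γ(X, W) ⧸ M) := (Ideal.Quotient.lift 𝔪 ((Ideal.Quotient.mk M).comp φ) fun r hr =>
    Ideal.Quotient.eq_zero_iff_mem.mpr (hMle (Ideal.mem_map_of_mem φ hr))).toAlgebra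
  have : IsScalarTower R k (Γ(X, W) ⧸ M) := IsScalarTower.of_algebraMap_eq fun _ => rfl
  have : Algebra.FiniteType k (Γ(X, W) ⧸ M) :=
    Algebra.FiniteType.of_restrictScalars_finiteType R k _
  let _ : Field (Γ(X, W) ⧸ M) := Ideal.Quotient.field M
  have : Module.Finite k (Γ(X, W) ⧸ M) := finite_of_finite_type_of_isJacobsonRing k _
  have hbij : Function.Bijective (algebraMap k (Γ(X, W) ⧸ M)) :=
    IsAlgClosed.algebraMap_bijective_of_isIntegral
  let ek : k ≃ₐ[R] (Γ(X, W) ⧸ M) := AlgEquiv.ofBijective (IsScalarTower.toAlgHom R k _) hbij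
  let σ : Γ(X, W) →ₐ[R] R ⧸ 𝔪 := ek.symm.toAlgHom.comp (Ideal.Quotient.mkₐ R M)
  obtain ⟨τ, -⟩ := Groth.Agent.Hensel.exists_algHom_lift_smooth (I := 𝔪) Γ(X, W) σ
  refine ⟨(Spec.map (CommRingCat.ofHom τ.toRingHom) ≫ hW.fromSpec).base (IsLocalRing.closedPoint R), ?_,
    Spec.map (CommRingCat.ofHom τ.toRingHom) ≫ hW.fromSpec, ?_, rfl⟩
  · exact hWo (hW.range_fromSpec.le ⟨_, rfl⟩)
  · rw [Category.assoc, ← hφ, ← Spec.map_comp, ← CommRingCat.ofHom_comp, ← Spec.map_id]
    congr 1
    ext r
    exact τ.commutes r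

end Groth.Agent.S11108
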