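import Groth.Statements.S11109
import Groth.Agent.CohBase.TorBC.Induction

set_option autoImplicit false
universe u
open CategoryTheory CategoryTheory.Limits AlgebraicGeometry
attribute [local instance] HasDerivedCategory.standard
open Perf

namespace Groth.Agent.S11109

open Groth.Agent.CohBase

/-- Tor-vanishing only depends on the module -/
lemma subsingleton_tor_congr {A : Type u} [CommRing A] {M N N' : Type u} [AddCommGroup M] [Module A M]
    [AddCommGroup N] [Module A N] [AddCommGroup N'] [Module A N'] (e : N ≃ₗ[A] N') (i : ℕ)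
    (h : Subsingleton (DRing.Tor A i M N)) : Subsingleton (DRing.Tor A i M N') :=
  haveI := h
  (((CategoryTheory.Tor (ModuleCat.{u} A) i).obj (ModuleCat.of A M)).mapIso
    e.toModuleIso).symm.toLinearEquiv.toEquiv.subsingleton

lemma torSq_of {X Y Y' : Scheme.{u}} (f : X ⟶ Y) (g : Y' ⟶ Y)
    (htor : ∀ (U : Y.Opens), IsAffineOpen U → ∀ (U' : Y'.Opens), IsAffineOpen U' → ∀ (hU' : U' ≤ g ⁻¹ᵁ U)
      (V : X.Opens), IsAffineOpen V → ∀ (hV : V ≤ f ⁻¹ᵁ U) (i : ℕ), 0 < i →
      Subsingleton (@DRing.Tor Γ(Y, U) _ i Γ(Y', U') Γ(X, V) _ (g.appLE U U' hU').hom.toModule _ (f.appLE U V hV).hom.toModule)) :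
    TorBC.TorSq f g := by
  intro U hU U' hU' hle C k _ ψ e i hi
  let V := k.opensRange
  have hV : IsAffineOpen V := isAffineOpen_opensRange k
  have hVU : V ≤ f ⁻¹ᵁ U := by
    rintro x ⟨z, rfl⟩
    show f (k z) ∈ U
    rw [← Scheme.Hom.comp_apply, ← e, Scheme.Hom.comp_apply]
    exact hU.opensRange_fromSpec.le ⟨_, rfl⟩
  let eV : Spec Γ(X, V) ≅ Spec C := IsOpenImmersion.isoOfRangeEq hV.fromSpec k (by rw [hV.range_fromSpec]; rfl)
  let χ : Γ(X, V) ⟶ C := Spec.preimage eV.inv
  have hχ : Spec.map χ = eV.inv := Spec.map_preimage _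
  have : IsIso (Spec.map χ) := by rw [hχ]; infer_instance
  have : IsIso χ.op := by
    have : IsIso (Scheme.Spec.map χ.op) := ‹IsIso (Spec.map χ)›
    exact isIso_of_reflects_iso χ.op Scheme.Spec
  have : IsIso χ := isIso_of_op χ
  have hψ : f.appLE U V hVU ≫ χ = ψ := by
    apply Spec.map_injective
    rw [← cancel_mono hU.fromSpec, e, Spec.map_comp, Category.assoc, hU.SpecMap_appLE_fromSpec f hV hVU, hχ,
      ← Category.assoc, IsOpenImmersion.isoOfRangeEq_inv_fac]
  have h := htor U hU U' hU' hle V hV hVU i hi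
  subst hψ
  letI := (g.appLE U U' hle).hom.toModule
  letI := (f.appLE U V hVU).hom.toModule
  letI := (f.appLE U V hVU ≫ χ).hom.toModule
  let ε : Γ(X, V) ≃ₗ[Γ(Y, U)] C :=
    { (asIso χ).commRingCatIsoToRingEquiv.toAddEquiv with
      map_smul' := fun a x => map_mul χ.hom ((f.appLE U V hVU).hom a) x }
  exact subsingleton_tor_congr ε i h

/-- Let f : X ⟶ Y be a quasi-compact quasi-separated morphism of schemes, g : Y' ⟶ Y any morphism of
schemes and X' = X ×_Y Y' with projections g' : X' ⟶ X and f' : X' ⟶ Y'. Suppose the square is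
tor-independent in the sense that for every affine open U of Y, every affine open U' of Y' mapped
into U and every affine open V of X mapped into U, the modules Tor_i over Γ(U, O_Y) of Γ(U', O_Y')
and Γ(V, O_X) (computed with a projective resolution of the second argument) vanish for all i > 0.
Assume the unbounded derived direct images and derived pullbacks exist, with adjunctions Lg^* ⊣ Rg_*
and Lg'^* ⊣ Rg'_* given as data. Then for a suitable identification e of the composite Rf_* ∘ Rg'_*
with Rg_* ∘ Rf'_*, the base-change morphism Lg^* Rf_* E ⟶ Rf'_* Lg'^* E built from these data is an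
isomorphism for every E in D(O_X) with quasi-coherent cohomology sheaves. (The published statement
assumes in addition that Y and Y' are quasi-separated and that g is quasi-compact and
quasi-separated, and also gives the converse: if the base-change morphism is an isomorphism for all
such E then the square is tor-independent. This row omits those hypotheses on Y, Y' and g, the
isomorphism assertion being local on Y and on Y', and states only the forward direction.) -/
theorem result {X Y X' Y' : Scheme.{u}} (f : X ⟶ Y) [QuasiCompact f]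
    [QuasiSeparated f] (g : Y' ⟶ Y) (f' : X' ⟶ Y') (g' : X' ⟶ X) (hsq : IsPullback g' f' f g)
    (htor : ∀ (U : Y.Opens), IsAffineOpen U → ∀ (U' : Y'.Opens), IsAffineOpen U' → ∀ (hU' : U' ≤ g ⁻¹ᵁ U)
      (V : X.Opens), IsAffineOpen V → ∀ (hV : V ≤ f ⁻¹ᵁ U) (i : ℕ), 0 < i →
      Subsingleton (@DRing.Tor Γ(Y, U) _ i Γ(Y', U') Γ(X, V) _ (g.appLE U U' hU').hom.toModule _ (f.appLE U V hV).hom.toModule))
    [DCoh.HasRpush f] [DCoh.HasRpush g] [DCoh.HasLpull g] [DCoh.HasRpush f'] [DCoh.HasRpush g']
    [DCoh.HasLpull g'] (adjg : DCoh.Lpull g ⊣ DCoh.Rpush g) (adjg' : DCoh.Lpull g' ⊣ DCoh.Rpush g') :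
    ∃ e : DCoh.Rpush g' ⋙ DCoh.Rpush f ≅ DCoh.Rpush f' ⋙ DCoh.Rpush g,
      ∀ E : DCoh.D X, DCoh.IsQCohD E → IsIso (DCoh.baseChangeApp adjg adjg' e E) := by
  refine ⟨conjugateIsoEquiv ((Groth.Agent.KFlat.DerivedAdj.adj f).comp adjg')
    (adjg.comp (Groth.Agent.KFlat.DerivedAdj.adj f')) (TorBC.sq f g g' f' hsq.w), fun E hE => ?_⟩
  rw [DCoh.baseChangeApp]
  refine (congrArg (fun φ => IsIso φ) (TorBC.transpose_eq adjg (Groth.Agent.KFlat.DerivedAdj.adj f')
    (Groth.Agent.KFlat.DerivedAdj.adj f) adjg' (TorBC.sq f g g' f' hsq.w) E)).mpr ?_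
  exact TorBC.isBC_of_torSq hsq (torSq_of f g htor) E hE

end Groth.Agent.S11109
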