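import Groth.Statements.S11114
import Groth.Agent.KFlat.RGamma
import Groth.Agent.KFlat.ExtZero
import Groth.Agent.KFlat.Products
import Groth.Agent.KFlat.Homological
import Groth.Agent.KFlat.SchemeTor

set_option autoImplicit false
universe u
open CategoryTheory CategoryTheory.Limits AlgebraicGeometry
attribute [local instance] HasDerivedCategory.standard
open DCoh

namespace Groth.Agent.S11114

open Groth.Agent Groth.Agent.KFlat Opposite

variable {X : Scheme.{u}}

/-- A complex whose sections over affine opens are exact is exact. -/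
theorem acyclic_of_gamma (C : CochainComplex X.Modules ℤ)
    (h : ∀ U : X.Opens, IsAffineOpen U →
      ((RGamma.gammaCx (U : Scheme.{u})).obj ((DCoh.restrictCx U).obj C)).Acyclic) : C.Acyclic := fun i => by
  refine (SchemeTor.exactAt_iff_stalk C i).2 fun x => ?_
  rw [HomologicalComplex.exactAt_iff' _ (i - 1) i (i + 1) (by simp) (by simp), ShortComplex.moduleCat_exact_iff]
  intro z hz
  obtain ⟨W, hxW, s, rfl⟩ := TopCat.Presheaf.exists_germ_eq (C.X i).presheaf z
  have hd : (C.X (i + 1)).presheaf.germ W x hxW ((C.d i (i + 1)).app W s) =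
      (C.X (i + 1)).presheaf.germ W x hxW 0 := by
    rw [map_zero]
    exact (TopCat.Presheaf.stalkFunctor_map_germ_apply W x hxW
      ((Scheme.Modules.toPresheaf X).map (C.d i (i + 1))) s).symm.trans hz
  obtain ⟨W', hxW', i₁, i₂, e⟩ := TopCat.Presheaf.germ_eq (C.X (i + 1)).presheaf x hxW hxW _ _ hd
  obtain ⟨U, hU, hxU, hUW⟩ := exists_isAffineOpen_mem_and_subset hxW'
  have hUW' : U.ι ''ᵁ ⊤ ≤ W := U.ι_image_top.le.trans (hUW.trans i₁.le)
  have hx' : x ∈ U.ι ''ᵁ ⊤ := U.ι_image_top.ge hxU
  let s' := (C.X i).presheaf.map (homOfLE hUW').op s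
  have hs' : (C.d i (i + 1)).app (U.ι ''ᵁ ⊤) s' = 0 := by
    have h1 : (C.d i (i + 1)).app (U.ι ''ᵁ ⊤) s' =
        (C.X (i + 1)).presheaf.map (homOfLE hUW').op ((C.d i (i + 1)).app W s) :=
      NatTrans.naturality_apply ((Scheme.Modules.toPresheaf X).map (C.d i (i + 1))) (homOfLE hUW').op s
    rw [h1, show homOfLE hUW' = homOfLE (U.ι_image_top.le.trans hUW) ≫ i₁ from rfl, op_comp,
      Functor.map_comp, ConcreteCategory.comp_apply, e, map_zero, map_zero]
  have hex := h U hU i
  rw [HomologicalComplex.exactAt_iff' _ (i - 1) i (i + 1) (by simp) (by simp), ShortComplex.ab_exact_iff] at hex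
  obtain ⟨t, ht⟩ := hex s' hs'
  refine ⟨(C.X (i - 1)).presheaf.germ (U.ι ''ᵁ ⊤) x hx' t, ?_⟩
  refine (TopCat.Presheaf.stalkFunctor_map_germ_apply (U.ι ''ᵁ ⊤) x hx'
    ((Scheme.Modules.toPresheaf X).map (C.d (i - 1) i)) t).trans ?_
  refine (congrArg ((C.X i).presheaf.germ (U.ι ''ᵁ ⊤) x hx') ht).trans ?_
  exact TopCat.Presheaf.germ_res_apply _ _ _ _ _

theorem exists_Q_map {K L : CochainComplex X.Modules ℤ} [L.IsKInjective]
    (φ : DerivedCategory.Q.obj K ⟶ DerivedCategory.Q.obj L) : ∃ f : K ⟶ L, DerivedCategory.Q.map f = φ := by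
  obtain ⟨g, hg⟩ := (CochainComplex.IsKInjective.Qh_map_bijective
    ((HomotopyCategory.quotient _ _).obj K) L).surjective
      ((DerivedCategory.quotientCompQhIso X.Modules).hom.app K ≫ φ ≫
        (DerivedCategory.quotientCompQhIso X.Modules).inv.app L)
  obtain ⟨f, rfl⟩ := (HomotopyCategory.quotient _ _).map_surjective g
  refine ⟨f, ?_⟩
  have h := (DerivedCategory.quotientCompQhIso X.Modules).hom.naturality f
  simp only [Functor.comp_map] at h
  rw [hg] at h
  simp only [Category.assoc] at h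
  erw [Iso.inv_hom_id_app, Category.comp_id] at h
  exact ((cancel_epi _).1 h).symm


end Groth.Agent.S11114

namespace Groth.Agent.S11114

/-- Let Y be a quasi-compact quasi-separated scheme and assume the unbounded derived functor of global
sections RΓ(U, -) exists for every open U of Y (existence binder). A morphism φ : G₁ ⟶ G₂ in D(O_Y)
is an isomorphism if and only if for every affine open U of Y the morphism RΓ(U, φ|_U) of D(Ab),
obtained from φ through restriction to U and derived global sections, is an isomorphism. -/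
theorem result {Y : Scheme.{u}} [CompactSpace Y] [QuasiSeparatedSpace Y]
    [hR : ∀ U : Y.Opens, DCoh.HasRΓ (U : Scheme.{u})] {G₁ G₂ : DCoh.D Y} (φ : G₁ ⟶ G₂) :
    IsIso φ ↔ ∀ U : Y.Opens, IsAffineOpen U →
      IsIso ((DCoh.RΓ (U : Scheme.{u})).map ((DCoh.restrictD U.ι).map φ)) := by
  open Groth.Agent Groth.Agent.KFlat in
  refine ⟨fun h U _ => inferInstance, fun h => ?_⟩
  obtain ⟨I₁, s₁, hI₁, hs₁⟩ := Products.exists_isKInjective_resolution (DerivedCategory.Q.objPreimage G₁)
  obtain ⟨I₂, s₂, hI₂, hs₂⟩ := Products.exists_isKInjective_resolution (DerivedCategory.Q.objPreimage G₂)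
  let e₁ : DerivedCategory.Q.obj I₁ ≅ G₁ :=
    (asIso (DerivedCategory.Q.map s₁)).symm ≪≫ DerivedCategory.Q.objObjPreimageIso G₁
  let e₂ : DerivedCategory.Q.obj I₂ ≅ G₂ :=
    (asIso (DerivedCategory.Q.map s₂)).symm ≪≫ DerivedCategory.Q.objObjPreimageIso G₂
  obtain ⟨g, hg⟩ := Groth.Agent.S11114.exists_Q_map (e₁.hom ≫ φ ≫ e₂.inv)
  have hmap : φ = e₁.inv ≫ DerivedCategory.Q.map g ≫ e₂.hom := by simp [hg]
  suffices QuasiIso g by
    rw [hmap]
    infer_instance
  refine quasiIso_of_acyclic_mappingCone g (Groth.Agent.S11114.acyclic_of_gamma _ fun U hU => ?_)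
  have := ExtZero.isKInjective_restrict U I₁
  have := ExtZero.isKInjective_restrict U I₂
  have := hR U
  let g' := (DCoh.restrictCx U).map g
  have hQ : IsIso ((DerivedCategory.Q ⋙ DCoh.RΓ (U : Scheme.{u})).map g') := by
    have h1 : IsIso ((DCoh.RΓ (U : Scheme.{u})).map ((DCoh.restrictD U.ι).map (DerivedCategory.Q.map g))) := by
      have := h U hU
      rw [hg, Functor.map_comp, Functor.map_comp, Functor.map_comp, Functor.map_comp]
      infer_instance
    let α := (Scheme.Modules.restrictFunctor U.ι).mapDerivedCategoryFactors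
    have h2 := (NatIso.isIso_map_iff (Functor.isoWhiskerRight α (DCoh.RΓ (U : Scheme.{u}))) g).1 h1
    exact h2
  have := RGamma.isIso_toRΓ (U : Scheme.{u}) ((DCoh.restrictCx U).obj I₁)
  have := RGamma.isIso_toRΓ (U : Scheme.{u}) ((DCoh.restrictCx U).obj I₂)
  have hq : IsIso ((RGamma.gammaQ (U : Scheme.{u})).map g') := by
    have : IsIso ((RGamma.gammaQ (U : Scheme.{u})).map g' ≫ (RGamma.toRΓ (U : Scheme.{u})).app _) := by
      rw [(RGamma.toRΓ (U : Scheme.{u})).naturality g']
      exact IsIso.comp_isIso' inferInstance hQ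
    exact IsIso.of_isIso_comp_right _ ((RGamma.toRΓ (U : Scheme.{u})).app _)
  have : QuasiIso ((RGamma.gammaCx (U : Scheme.{u})).map g') :=
    (DerivedCategory.isIso_Q_map_iff_quasiIso (C := AddCommGrpCat.{u}) ((RGamma.gammaCx (U : Scheme.{u})).map g')).1 hq
  refine acyclic_of_quasiIso_left ((RGamma.gammaCx (U : Scheme.{u})).mapIso
    (CochainComplex.mappingCone.mapHomologicalComplexIso g (Scheme.Modules.restrictFunctor U.ι))).inv ?_
  exact acyclic_of_quasiIso_left
    (CochainComplex.mappingCone.mapHomologicalComplexIso g' (DCoh.gammaAb (U : Scheme.{u}))).inv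
    (acyclic_mappingCone_of_quasiIso _)

end Groth.Agent.S11114
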