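import Groth.Statements.S11119
import Groth.Agent.KFlat.Resolution

set_option autoImplicit false
universe u
open CategoryTheory CategoryTheory.Limits AlgebraicGeometry
attribute [local instance] HasDerivedCategory.standard
open DCoh

namespace Groth.Agent.S11119

/-- On a scheme X there are a functor P from cochain complexes of O_X-modules to cochain complexes of
O_X-modules and a natural transformation ψ : P ⟶ 𝟭 such that, for every complex C, the complex P(C)
is K-flat (tensoring with it preserves acyclic complexes) and ψ_C : P(C) ⟶ C is a quasi-isomorphism.
(The published statement is for ringed spaces and also makes P commute with the shift; this row is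
the case of schemes and does not assert the shift compatibility.) -/
theorem result (X : Scheme.{u}) :
    ∃ (P : CochainComplex X.Modules ℤ ⥤ CochainComplex X.Modules ℤ) (ψ : P ⟶ 𝟭 (CochainComplex X.Modules ℤ)),
      ∀ C : CochainComplex X.Modules ℤ, DCoh.IsKFlat (P.obj C) ∧ QuasiIso (ψ.app C) := by
  exact ⟨Groth.Agent.KFlat.res X.sheaf, Groth.Agent.KFlat.resπ X.sheaf, fun C =>
    ⟨Groth.Agent.KFlat.isKFlat_res (O := X.sheaf) C, Groth.Agent.KFlat.quasiIso_resπ (O := X.sheaf) C⟩⟩

end Groth.Agent.S11119
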