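import Groth.Statements.S1112
import Groth.Agent.PCohD.RpushAffine
import Groth.Agent.ProjTwist.Invertible

set_option autoImplicit false
universe u
open CategoryTheory CategoryTheory.Limits AlgebraicGeometry
attribute [local instance] HasDerivedCategory.standard
open Perf

namespace Groth.Agent.S1112

open Groth.Agent.PCohD in
theorem pc_open_iff {X : Scheme.{u}} {U : X.Opens} (hU : IsAffineOpen U)
    [PreservesFiniteLimits (tilde.functor Γ(X, U))] (K : DCoh.D X) (M : Dual.D Γ(X, U))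
    (e : (DCoh.tildeD Γ(X, U)).obj M ≅ (pushD hU.isoSpec.hom).obj ((DCoh.restrictD U.ι).obj K)) (m : ℤ) :
    DCoh.IsPseudoCoherentD m ((DCoh.restrictD U.ι).obj K) ↔ DRing.IsPseudoCoherent Γ(X, U) m M := by
  have h := test_open (m := m) U.ι hU.isoSpec.hom (𝟙 (U : Scheme.{u})) hU.isoSpec.hom (Category.id_comp _) K
  refine (pc_iff_of_iso (pushDId ((DCoh.restrictD U.ι).obj K))).symm.trans (h.symm.trans ?_)
  exact ⟨fun h => KFlat.TildePC.isPseudoCoherent_of_tildeD (A := Γ(X, U)) _ m (pc_of_iso e.symm h),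
    fun h => pc_of_iso e (KFlat.TildePC.isPseudoCoherentD_tildeD (A := Γ(X, U)) _ m h)⟩

/-- Direct image along an isomorphism is restriction along its inverse. -/
noncomputable def pushIsoRestrict {Z W : Scheme.{u}} (e : Z ≅ W) :
    Scheme.Modules.pushforward e.hom ≅ Scheme.Modules.restrictFunctor e.inv :=
  (Functor.rightUnitor _).symm ≪≫
    Functor.isoWhiskerLeft _ (Scheme.Modules.restrictFunctorAdjCounitIso e.inv).symm ≪≫
    (Functor.associator _ _ _).symm ≪≫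
    Functor.isoWhiskerRight (Scheme.Modules.pushforwardComp e.hom e.inv ≪≫
      Scheme.Modules.pushforwardCongr e.hom_inv_id ≪≫ Scheme.Modules.pushforwardId Z) _ ≪≫
    Functor.leftUnitor _

open Groth.Agent.PCohD in
theorem nonempty_structure_iso {X : Scheme.{u}} {U : X.Opens} (hU : IsAffineOpen U)
    [PreservesFiniteLimits (tilde.functor Γ(X, U))] :
    Nonempty ((DCoh.tildeD Γ(X, U)).obj (Dual.inD Γ(X, U) Γ(X, U)) ≅
      (pushD hU.isoSpec.hom).obj ((DCoh.restrictD U.ι).obj (DCoh.inD X (Coh.structureModule X)))) := by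
  let e₁ : (Scheme.Modules.pushforward hU.isoSpec.hom).obj ((Coh.structureModule X).restrict U.ι) ≅
      (tilde.functor Γ(X, U)).obj (ModuleCat.of Γ(X, U) Γ(X, U)) :=
    (Scheme.Modules.pushforward hU.isoSpec.hom).mapIso (Scheme.Modules.restrictUnitIso U.ι) ≪≫
      (pushIsoRestrict hU.isoSpec).app _ ≪≫ Scheme.Modules.restrictUnitIso hU.isoSpec.inv ≪≫ tildeSelf.symm
  exact ⟨((tilde.functor Γ(X, U)).mapDerivedCategorySingleFunctor 0).app _ ≪≫
    (DerivedCategory.singleFunctor _ 0).mapIso e₁.symm ≪≫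
    (testInD U.ι hU.isoSpec.hom (Coh.structureModule X)).symm⟩

/-- For a finite morphism f : X ⟶ Y whose direct image of the structure sheaf is a pseudo-coherent
O_Y-module, and E ∈ D(O_X) with quasi-coherent cohomology (Rf_* assumed to exist), E is
m-pseudo-coherent exactly when Rf_*E is. -/
theorem result {X Y : Scheme.{u}} (f : X ⟶ Y) [IsFinite f] [DCoh.HasRpush f]
    (hO : ∀ m : ℤ, DCoh.IsPseudoCoherentD m (DCoh.inD Y ((Scheme.Modules.pushforward f).obj (Coh.structureModule X))))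
    (E : DCoh.D X) (hE : DCoh.IsQCohD E) (m : ℤ) :
    DCoh.IsPseudoCoherentD m E ↔ DCoh.IsPseudoCoherentD m ((DCoh.Rpush f).obj E) := by
  have : ∀ V : Y.affineOpens, PreservesFiniteLimits (tilde.functor Γ(X, f ⁻¹ᵁ V.1)) := fun _ =>
    KFlat.TildeExact.preservesFiniteLimits_tilde _
  have key : ∀ (F : DCoh.D X), DCoh.IsQCohD F → ∀ (V : Y.affineOpens) (m : ℤ),
      (DCoh.IsPseudoCoherentD m ((DCoh.restrictD (f ⁻¹ᵁ V.1).ι).obj F) ↔
        ∃ M : Dual.D Γ(X, f ⁻¹ᵁ V.1), Nonempty ((DCoh.tildeD Γ(X, f ⁻¹ᵁ V.1)).obj M ≅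
          (PCohD.pushD (V.2.preimage f).isoSpec.hom).obj ((DCoh.restrictD (f ⁻¹ᵁ V.1).ι).obj F)) ∧
          DRing.IsPseudoCoherent Γ(X, f ⁻¹ᵁ V.1) m M) ∧
      (DCoh.IsPseudoCoherentD m ((DCoh.restrictD V.1.ι).obj ((DCoh.Rpush f).obj F)) ↔
        ∀ M : Dual.D Γ(X, f ⁻¹ᵁ V.1), Nonempty ((DCoh.tildeD Γ(X, f ⁻¹ᵁ V.1)).obj M ≅
          (PCohD.pushD (V.2.preimage f).isoSpec.hom).obj ((DCoh.restrictD (f ⁻¹ᵁ V.1).ι).obj F)) →
          DRing.IsPseudoCoherent Γ(Y, V.1) m ((DRing.restrictD (f.app V.1).hom).obj M)) := by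
    intro F hF V m
    have hU := V.2.preimage f
    have := KFlat.TildeExact.preservesFiniteLimits_tilde Γ(X, f ⁻¹ᵁ V.1)
    have := KFlat.TildeExact.preservesFiniteLimits_tilde Γ(Y, V.1)
    obtain ⟨M, ⟨e⟩⟩ := KFlat.TildeD.exists_iso_of_isQCohD (R := Γ(X, f ⁻¹ᵁ V.1)) _
      (PCohD.isQCohD_pushD_isoSpec hF hU)
    refine ⟨⟨fun h => ⟨M, ⟨e⟩, (pc_open_iff hU F M e m).1 h⟩, fun ⟨M', ⟨e'⟩, h⟩ => (pc_open_iff hU F M' e' m).2 h⟩,
      ⟨fun h M' ⟨e'⟩ => ?_, fun h => ?_⟩⟩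
    · obtain ⟨eR⟩ := PCohD.nonempty_rpush_restrict f F V.2 hU M' e'
      exact (pc_open_iff V.2 _ _ eR m).1 h
    · obtain ⟨eR⟩ := PCohD.nonempty_rpush_restrict f F V.2 hU M e
      exact (pc_open_iff V.2 _ _ eR m).2 (h M ⟨e⟩)
  have hqO : DCoh.IsQCohD (DCoh.inD X (Coh.structureModule X)) :=
    KFlat.QCohModel.isQCohD_of_iso ((DerivedCategory.singleFunctorIsoCompQ X.Modules 0).app _).symm
      (KFlat.QCohModel.isQCohD_Q_of_terms _ fun i => by
        by_cases hi : i = 0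
        · subst hi
          exact @QCoh.isQuasicoherent_of_iso _ _ _ (HomologicalComplex.singleObjXSelf (ComplexShape.up ℤ) 0 _).symm
            (ProjTwist.isQuasicoherent_structureModule X)
        · exact CohDerLib.QC.qcoh_of_isZero (HomologicalComplex.isZero_single_obj_X _ _ _ _ hi))
  have hqsingle : ∀ i : ℤ, (((HomologicalComplex.single X.Modules (ComplexShape.up ℤ) 0).obj
      (Coh.structureModule X)).X i).IsQuasicoherent := fun i => by
    by_cases hi : i = 0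
    · subst hi
      exact @QCoh.isQuasicoherent_of_iso _ _ _ (HomologicalComplex.singleObjXSelf (ComplexShape.up ℤ) 0 _).symm
        (ProjTwist.isQuasicoherent_structureModule X)
    · exact CohDerLib.QC.qcoh_of_isZero (HomologicalComplex.isZero_single_obj_X _ _ _ _ hi)
  let eO : (DCoh.Rpush f).obj (DCoh.inD X (Coh.structureModule X)) ≅
      DCoh.inD Y ((Scheme.Modules.pushforward f).obj (Coh.structureModule X)) :=
    (DCoh.Rpush f).mapIso ((DerivedCategory.singleFunctorIsoCompQ X.Modules 0).app _) ≪≫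
      (@asIso _ _ _ _ _ (PCohD.isIso_toRpush_affine f _ hqsingle)).symm ≪≫
      DerivedCategory.Q.mapIso ((HomologicalComplex.singleMapHomologicalComplex
        (Scheme.Modules.pushforward f) (ComplexShape.up ℤ) 0).app _) ≪≫
      ((DerivedCategory.singleFunctorIsoCompQ Y.Modules 0).app _).symm
  have hmod : ∀ (V : Y.affineOpens),
      letI := (f.app V.1).hom.toAlgebra
      ∀ m, DRing.IsPseudoCoherentModule Γ(Y, V.1) m Γ(X, f ⁻¹ᵁ V.1) := by
    intro V
    letI := (f.app V.1).hom.toAlgebra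
    intro m
    have hU := V.2.preimage f
    have := KFlat.TildeExact.preservesFiniteLimits_tilde Γ(X, f ⁻¹ᵁ V.1)
    obtain ⟨e⟩ := nonempty_structure_iso hU
    have h := (key _ hqO V m).2.1 (PCohD.pc_restrict V.1.ι (PCohD.pc_of_iso eO.symm (hO m))) _ ⟨e⟩
    exact (FlatMor.PC.pc_restrict_inD_iff (P := Γ(Y, V.1)) (B := Γ(X, f ⁻¹ᵁ V.1)) _ m).1 h
  constructor
  · intro h
    refine PCohD.pc_of_local fun y => ?_
    obtain ⟨V, hV, hy, -⟩ := exists_isAffineOpen_mem_and_subset (x := y) (U := ⊤) trivial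
    refine ⟨V, V.ι, inferInstance, ⟨⟨y, hy⟩, rfl⟩, (key E hE ⟨V, hV⟩ m).2.2 fun M ⟨e⟩ => ?_⟩
    let _ := (f.app V).hom.toAlgebra
    have := KFlat.TildeExact.preservesFiniteLimits_tilde Γ(X, f ⁻¹ᵁ V)
    exact DRing.PCRestrict.pc_restrict (hmod ⟨V, hV⟩)
      ((pc_open_iff (hV.preimage f) E M e m).1 (PCohD.pc_restrict _ h))
  · intro h
    refine PCohD.pc_of_local fun x => ?_
    obtain ⟨V, hV, hy, -⟩ := exists_isAffineOpen_mem_and_subset (x := f x) (U := ⊤) trivial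
    refine ⟨f ⁻¹ᵁ V, (f ⁻¹ᵁ V).ι, inferInstance, ⟨⟨x, hy⟩, rfl⟩, ?_⟩
    have := KFlat.TildeExact.preservesFiniteLimits_tilde Γ(X, f ⁻¹ᵁ V)
    obtain ⟨M, ⟨e⟩⟩ := KFlat.TildeD.exists_iso_of_isQCohD (R := Γ(X, f ⁻¹ᵁ V)) _
      (PCohD.isQCohD_pushD_isoSpec hE (hV.preimage f))
    let _ := (f.app V).hom.toAlgebra
    exact (pc_open_iff (hV.preimage f) E M e m).2 (DRing.PCRestrict.pc_of_restrict (hmod ⟨V, hV⟩)
      ((key E hE ⟨V, hV⟩ m).2.1 (PCohD.pc_restrict _ h) M ⟨e⟩))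

end Groth.Agent.S1112
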