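import Groth.Statements.S11124
import Groth.Agent.KFlat.RPushBase


set_option autoImplicit false
universe u
open CategoryTheory CategoryTheory.Limits AlgebraicGeometry
attribute [local instance] HasDerivedCategory.standard
open Perf

namespace Groth.Agent.S11124

/-- Let f : X ⟶ Y be a morphism of schemes, B a K-injective cochain complex of O_X-modules and U an open
subset of Y, and assume the unbounded derived functor of global sections on U exists. Then the
termwise direct image f_*B, restricted to U, is acyclic for global sections: the canonical map Γ(U,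
f_*B) ⟶ RΓ(U, (f_*B)|_U) in D(Ab), the unit of the total right derived functor at this complex, is
an isomorphism. (The published statement is for ringed spaces; this row is the case of schemes.) -/
theorem result {X Y : Scheme.{u}} (f : X ⟶ Y) (B : CochainComplex X.Modules ℤ)
    [B.IsKInjective] (U : Y.Opens) [DCoh.HasRΓ (U : Scheme.{u})] :
    IsIso (((DCoh.gammaKh (U : Scheme.{u})).totalRightDerivedUnit DerivedCategory.Qh
      (HomotopyCategory.quasiIso (U : Scheme.{u}).Modules (ComplexShape.up ℤ))).app
      ((HomotopyCategory.quotient (U : Scheme.{u}).Modules (ComplexShape.up ℤ)).obj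
        ((DCoh.restrictCx U).obj (((Scheme.Modules.pushforward f).mapHomologicalComplex (ComplexShape.up ℤ)).obj B)))) := by
  open Groth.Agent.KFlat in
  have hw : WeakKInj.IsWeaklyKInjective ((DCoh.restrictCx U).obj ((WeakKInj.pushCx f).obj B)) := by
    have h0 := WeakKInj.push (f ∣_ U) (@WeakKInj.of_isKInjective _ _ (ExtZero.isKInjective_restrict (f ⁻¹ᵁ U) B))
    intro P hP hac g
    let e := (RPushBase.pushRestrictCxIso f U).app B
    obtain ⟨k⟩ := h0 P hP hac (g ≫ e.hom)
    exact ⟨(Homotopy.ofEq (by simp)).trans ((k.compRight e.inv).trans (Homotopy.ofEq zero_comp))⟩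
  open Groth.Agent.KFlat in
  have h := RGamma.isIso_toRΓ_of_weak (U : Scheme.{u}) hw
  let A := (DCoh.restrictCx U).obj ((Groth.Agent.KFlat.WeakKInj.pushCx f).obj B)
  let u := (DCoh.gammaKh (U : Scheme.{u})).totalRightDerivedUnit DerivedCategory.Qh
      (HomotopyCategory.quasiIso (U : Scheme.{u}).Modules (ComplexShape.up ℤ))
  have e : (Groth.Agent.KFlat.RGamma.toRΓ (U : Scheme.{u})).app A =
      (Groth.Agent.KFlat.RGamma.gammaKhIso (U : Scheme.{u})).inv.app A ≫ u.app _ ≫
        (DCoh.RΓ (U : Scheme.{u})).map ((DerivedCategory.quotientCompQhIso (U : Scheme.{u}).Modules).hom.app A) := by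
    simp [Groth.Agent.KFlat.RGamma.toRΓ, u]
  have h' : IsIso ((Groth.Agent.KFlat.RGamma.toRΓ (U : Scheme.{u})).app A) := h
  rw [e] at h'
  simp only [isIso_comp_left_iff, isIso_comp_right_iff] at h'
  exact h'

end Groth.Agent.S11124
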