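import Groth.Statements.S11125
import Groth.Agent.KInjExt.Basic
-- import your own Groth.Agent.* helpers here

set_option autoImplicit false
universe v u
open CategoryTheory
open CohDer

namespace Groth.Agent.S11125

/-- In an abelian category, a cochain complex I is K-injective with injective terms if and only if for
every short exact sequence 0 → A → B → C → 0 of cochain complexes whose third term C is acyclic,
every chain map A → I extends to a chain map B → I. -/
theorem result {A : Type u} [Category.{v} A] [Abelian A]
    (I : CochainComplex A ℤ) :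
    (I.IsKInjective ∧ ∀ n : ℤ, Injective (I.X n)) ↔
      ∀ (S : ShortComplex (CochainComplex A ℤ)), S.ShortExact → S.X₃.Acyclic →
        ∀ φ : S.X₁ ⟶ I, ∃ ψ : S.X₂ ⟶ I, S.f ≫ ψ = φ := by
  refine ⟨fun ⟨_, _⟩ S hS h3 φ => ?_, fun h =>
    ⟨Groth.Agent.KInjExt.Basic.isKInjective_of_lifting h,
      Groth.Agent.KInjExt.Basic.injective_of_lifting h⟩⟩
  have := hS.mono_f
  have : ∀ n, Mono (S.f.f n) := fun n => inferInstanceAs (Mono ((HomologicalComplex.eval A _ n).map S.f))
  have : QuasiIso S.f := ⟨fun n => by
    rw [quasiIsoAt_iff_isIso_homologyMap]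
    have h0 := (HomologicalComplex.exactAt_iff_isZero_homology _ _).1 (h3 (n - 1))
    have h1 := (HomologicalComplex.exactAt_iff_isZero_homology _ _).1 (h3 n)
    have : Mono (HomologicalComplex.homologyMap S.f n) :=
      (hS.homology_exact₁ (n - 1) n (by simp)).mono_g (h0.eq_of_src _ _)
    have : Epi (HomologicalComplex.homologyMap S.f n) :=
      (hS.homology_exact₂ n).epi_f (h1.eq_of_tgt _ _)
    exact isIso_of_mono_of_epi _⟩
  exact Groth.Agent.KInjExt.Basic.exists_desc S.f φ

end Groth.Agent.S11125
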