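import Groth.Statements.S11126
import Groth.Agent.FaithAdj.Basic
import Mathlib.CategoryTheory.Abelian.GrothendieckCategory.Subobject
-- import your own Groth.Agent.* helpers here

set_option autoImplicit false
universe w u₁ u₂
open CategoryTheory CategoryTheory.Limits
open CohDer

namespace Groth.Agent.S11126

open CategoryTheory Limits Groth.Agent

/-- Let A and B be abelian categories with small hom-sets and all small colimits, B having exact
filtered colimits and a small family of noetherian objects which is separating. Let F : A ⥤ B be
faithful and exact with a right adjoint G preserving filtered colimits. Then A has exact filtered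
colimits and admits a small separating family of noetherian objects. -/
theorem result
    {A : Type u₁} [Category.{w} A] [Abelian A] [HasColimitsOfSize.{w, w} A]
    {B : Type u₂} [Category.{w} B] [Abelian B] [HasColimitsOfSize.{w, w} B] [AB5OfSize.{w, w} B]
    {ι : Type w} (s : ι → B) (hsN : ∀ i, IsNoetherianObject (s i))
    (hsep : ∀ ⦃X Y : B⦄ (f g : X ⟶ Y), (∀ (i : ι) (h : s i ⟶ X), h ≫ f = h ≫ g) → f = g)
    (F : A ⥤ B) (G : B ⥤ A) (adj : F ⊣ G) [F.Additive] [F.Faithful]
    [PreservesFiniteLimits F] [PreservesFiniteColimits F] [PreservesFilteredColimitsOfSize.{w, w} G] :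
    AB5OfSize.{w, w} A ∧
      ∃ (κ : Type w) (t : κ → A), (∀ k, IsNoetherianObject (t k)) ∧
        ∀ ⦃X Y : A⦄ (f g : X ⟶ Y), (∀ (k : κ) (h : t k ⟶ X), h ≫ f = h ≫ g) → f = g := by
  classical
  have : HasSeparator B := ⟨∐ s, (isSeparator_sigma s).2 fun X Y f g h =>
    hsep f g fun i k => h _ ⟨i⟩ k⟩
  have : IsGrothendieckAbelian.{w} B := { }
  have := FaithAdj.isGrothendieckAbelian adj s hsep
  refine ⟨FaithAdj.ab5 F adj,
    {K : Shrink.{w} (Subobject (separator A)) //
      IsNoetherianObject (((equivShrink _).symm K : Subobject (separator A)) : A)},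
    fun K => (((equivShrink _).symm K.1 : Subobject (separator A)) : A), fun K => K.2,
    fun X Y f g hfg => ?_⟩
  refine (isSeparator_def _).1 (isSeparator_separator A) f g fun h => sub_eq_zero.1 ?_
  refine FaithAdj.eq_zero_of_gen adj s hsep _ fun S x u hu => ?_
  obtain ⟨k, hk⟩ :=
    FaithAdj.exists_mono_of_factors (imageSubobject u).arrow (FaithAdj.factors_image u hu)
  have := FaithAdj.isNoetherian_gen s _ hsN S
  have := isNoetherianObject_of_mono k
  have := FaithAdj.isNoetherian_of_obj F (imageSubobject u : A)
  have e := (equivShrink _).symm_apply_apply (imageSubobject u)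
  let φ : (((equivShrink _).symm (equivShrink _ (imageSubobject u)) : Subobject (separator A)) : A) ≅
      (imageSubobject u : A) := eqToIso (congrArg (fun K : Subobject _ => (K : A)) e)
  have := isNoetherianObject_of_mono φ.hom
  have h0 := hfg ⟨equivShrink _ (imageSubobject u), this⟩ (φ.hom ≫ (imageSubobject u).arrow ≫ h)
  rw [← imageSubobject_arrow_comp u, Category.assoc, Preadditive.comp_sub]
  simp only [Category.assoc, cancel_epi] at h0
  rw [h0, sub_self, comp_zero]

end Groth.Agent.S11126
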