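import Groth.Statements.S1113
import Groth.Agent.DHA.TruncHom
-- import your own Groth.Agent.* helpers here

set_option autoImplicit false
universe w v u
open CategoryTheory CategoryTheory.Limits
open CohDer

namespace Groth.Agent.S1113

/-- Let K : ℕᵒᵖ ⥤ CochainComplex A ℤ be a sequence of cochain maps … → K₂ → K₁ → K₀ in an abelian
category with Hⁱ(K₀) = 0 for i < 0 and such that for every j < n the map Hʲ(Kⱼ₊₁) → Hʲ(Kⱼ) is zero.
Then in the derived category the composite Kₙ → K₀ factors through the canonical truncation Kₙ →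
τ_{≥ n}Kₙ. -/
theorem result {A : Type u} [Category.{v} A] [Abelian A] [HasDerivedCategory.{w} A]
    (K : ℕᵒᵖ ⥤ CochainComplex A ℤ) (n : ℕ)
    (h0 : ∀ i : ℤ, i < 0 → IsZero ((K.obj (Opposite.op 0)).homology i))
    (hz : ∀ j : ℕ, j < n → HomologicalComplex.homologyMap (K.map (homOfLE (Nat.le_succ j)).op) (j : ℤ) = 0) :
    ∃ φ : DerivedCategory.Q.obj ((K.obj (Opposite.op n)).truncGE (n : ℤ)) ⟶ DerivedCategory.Q.obj (K.obj (Opposite.op 0)),
      DerivedCategory.Q.map ((K.obj (Opposite.op n)).πTruncGE (n : ℤ)) ≫ φ = DerivedCategory.Q.map (K.map (homOfLE (Nat.zero_le n)).op) := by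
  let Q := DerivedCategory.Q (C := A)
  let X := fun j : ℕ => K.obj (Opposite.op j)
  suffices ∀ j : ℕ, j ≤ n → ∃ φ : Q.obj ((X j).truncGE (j : ℤ)) ⟶ Q.obj (X 0),
      Q.map ((X j).πTruncGE (j : ℤ)) ≫ φ = Q.map (K.map (homOfLE (Nat.zero_le j)).op) from
    this n le_rfl
  intro j
  induction j with
  | zero =>
    intro _
    have : (X 0).IsGE ((0 : ℕ) : ℤ) := by
      rw [CochainComplex.isGE_iff]
      intro i hi
      replace hi : i < (0 : ℤ) := by simpa using hi
      rw [HomologicalComplex.exactAt_iff_isZero_homology]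
      exact h0 i hi
    have : IsIso (Q.map ((X 0).πTruncGE ((0 : ℕ) : ℤ))) :=
      (DerivedCategory.isIso_Q_map_iff_quasiIso (C := A) _).2 inferInstance
    exact ⟨inv (Q.map ((X 0).πTruncGE ((0 : ℕ) : ℤ))), (IsIso.hom_inv_id _).trans
      (by
        rw [show (homOfLE (Nat.zero_le 0)).op = 𝟙 _ from rfl, K.map_id]
        exact (Q.map_id _).symm)⟩
  | succ j ih =>
    intro hj
    obtain ⟨φ, hφ⟩ := ih (by omega)
    obtain ⟨δ, hT⟩ := Groth.Agent.DHA.TruncHom.exists_truncTriangle (X (j + 1))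
      (j : ℤ) ((j + 1 : ℕ) : ℤ) (by omega)
    let m : X (j + 1) ⟶ X j := K.map (homOfLE (Nat.le_succ j)).op
    let ψ := Q.map m ≫ Q.map ((X j).πTruncGE (j : ℤ)) ≫ φ
    have h1 : Q.map ((X (j + 1)).ιTruncLE (j : ℤ) ≫ m ≫ (X j).πTruncGE (j : ℤ)) = 0 :=
      Groth.Agent.DHA.TruncHom.eq_zero (j : ℤ) _ (by
        rw [← Groth.Agent.DHA.TruncHom.homologyMap_eq_zero_iff, HomologicalComplex.homologyMap_comp,
          HomologicalComplex.homologyMap_comp, hz j (by omega), zero_comp, comp_zero])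
    obtain ⟨φ', hφ'⟩ := Pretriangulated.Triangle.yoneda_exact₂ _ hT ψ (by
      show Q.map ((X (j + 1)).ιTruncLE (j : ℤ)) ≫ ψ = 0
      simp only [ψ, ← Functor.map_comp_assoc]
      rw [h1, zero_comp])
    refine ⟨φ', hφ'.symm.trans ?_⟩
    simp only [ψ, hφ, ← Functor.map_comp, m, ← K.map_comp]
    rfl

end Groth.Agent.S1113
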