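import Groth.Statements.S11135
import Mathlib

set_option autoImplicit false
universe u
open InvTh

namespace Groth.Agent.S11135

theorem isIntegrallyClosed_of_forall {E : Type*} [CommRing E] [IsDomain E]
    (h : ∀ a b : E, b ≠ 0 → (∃ p : Polynomial E, p.Monic ∧
      ∑ i ∈ Finset.range (p.natDegree + 1), p.coeff i * a ^ i * b ^ (p.natDegree - i) = 0) → b ∣ a) :
    IsIntegrallyClosed E := by
  refine (isIntegrallyClosed_iff (FractionRing E)).mpr fun {x} hx => ?_
  obtain ⟨p, hp, hpx⟩ := hx
  obtain ⟨a, b, hb, rfl⟩ := IsFractionRing.div_surjective (A := E) x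
  have hb0 : b ≠ 0 := nonZeroDivisors.ne_zero hb
  have hbK : algebraMap E (FractionRing E) b ≠ 0 := by simpa using hb0
  obtain ⟨c, hc⟩ := h a b hb0 ⟨p, hp, by
    apply IsFractionRing.injective E (FractionRing E)
    rw [Polynomial.eval₂_eq_sum_range] at hpx
    have := congrArg (· * algebraMap E (FractionRing E) b ^ p.natDegree) hpx
    simp only [zero_mul, Finset.sum_mul] at this
    rw [map_zero, map_sum, ← this]
    refine Finset.sum_congr rfl fun i hi => ?_
    have hi' : i ≤ p.natDegree := Nat.lt_succ_iff.mp (Finset.mem_range.mp hi)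
    rw [map_mul, map_mul, map_pow, map_pow, div_pow, mul_assoc, mul_assoc]
    congr 1
    rw [show algebraMap E (FractionRing E) b ^ p.natDegree =
      algebraMap E (FractionRing E) b ^ i * algebraMap E (FractionRing E) b ^ (p.natDegree - i) by
        rw [← pow_add, Nat.add_sub_cancel' hi']]
    field_simp⟩
  exact ⟨c, by rw [hc, map_mul, mul_div_cancel_left₀ _ hbK]⟩

theorem exists_integral_quot {E : Type*} [CommRing E] [IsDomain E] [IsIntegrallyClosed E] (a b : E) (hb : b ≠ 0)
    (n : ℕ) (c : ℕ → E) (hn : c n = 1)
    (h : ∑ i ∈ Finset.range (n + 1), c i * a ^ i * b ^ (n - i) = 0) : b ∣ a := by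
  have hbK : algebraMap E (FractionRing E) b ≠ 0 := by simpa using hb
  have hint : IsIntegral E (algebraMap E (FractionRing E) a / algebraMap E (FractionRing E) b) := by
    refine ⟨Polynomial.X ^ n + ∑ i ∈ Finset.range n, Polynomial.C (c i) * Polynomial.X ^ i, ?_, ?_⟩
    · refine Polynomial.monic_X_pow_add ((Polynomial.degree_sum_le _ _).trans_lt ?_)
      refine (Finset.sup_lt_iff (WithBot.bot_lt_coe n)).mpr fun i hi => ?_
      exact lt_of_le_of_lt (Polynomial.degree_C_mul_X_pow_le i (c i)) (WithBot.coe_lt_coe.mpr (Finset.mem_range.mp hi))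
    · apply mul_right_cancel₀ (pow_ne_zero n hbK)
      rw [zero_mul, ← map_zero (algebraMap E (FractionRing E)), ← h, Finset.sum_range_succ, map_add, map_sum]
      simp only [Polynomial.eval₂_add, Polynomial.eval₂_finsetSum, Polynomial.eval₂_mul,
        Polynomial.eval₂_C, Polynomial.eval₂_X_pow, add_mul, Finset.sum_mul, hn, Nat.sub_self]
      rw [add_comm (∑ i ∈ Finset.range n, _)]
      congr 1
      · simp only [one_mul, pow_zero, mul_one, map_pow, div_pow]; field_simp
      · refine Finset.sum_congr rfl fun i hi => ?_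
        have hi' : i ≤ n := (Finset.mem_range.mp hi).le
        rw [map_mul, map_mul, map_pow, map_pow, div_pow,
          show algebraMap E (FractionRing E) b ^ n = algebraMap E (FractionRing E) b ^ i * algebraMap E (FractionRing E) b ^ (n - i) by
            rw [← pow_add, Nat.add_sub_cancel' hi']]
        field_simp
  obtain ⟨y, hy⟩ := IsIntegrallyClosed.algebraMap_eq_of_integral hint
  refine ⟨y, IsFractionRing.injective E (FractionRing E) ?_⟩
  rw [map_mul, hy, mul_div_cancel₀ _ hbK]

/-- Suppose S is the product of a finite family of integrally closed domains (a finite product of normal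
domains), R is any commutative ring, and F is a family of ring maps S → R each carrying
non-zero-divisors of S to non-zero-divisors of R. Then the subring A of S on which all members of F
coincide (a ∈ A iff f(a) = f'(a) for all f, f' in F) is ring-isomorphic to a product of finitely
many integrally closed domains. -/
theorem result {ι : Type u} [Fintype ι] (D : ι → Type u)
    [∀ i, CommRing (D i)] [∀ i, IsDomain (D i)] [∀ i, IsIntegrallyClosed (D i)]
    (R : Type u) [CommRing R] (F : Set ((Π i, D i) →+* R))
    (hF : ∀ f ∈ F, ∀ s ∈ nonZeroDivisors (Π i, D i), f s ∈ nonZeroDivisors R)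
    (A : Subring (Π i, D i)) (hA : ∀ a, a ∈ A ↔ ∀ f ∈ F, ∀ f' ∈ F, f a = f' a) :
    ∃ (κ : Type u) (_ : Fintype κ) (E : κ → Type u) (_ : ∀ j, CommRing (E j)) (_ : ∀ j, IsDomain (E j))
      (_ : ∀ j, IsIntegrallyClosed (E j)), Nonempty (A ≃+* Π j, E j) := by
  classical
  set supp : (Π i, D i) → (Π i, D i) := fun a i => if a i = 0 then 0 else 1 with hsupp
  have hS : ∀ x : Π i, D i, (∀ i, x i ≠ 0) → x ∈ nonZeroDivisors (Π i, D i) := by
    intro x hx
    rw [mem_nonZeroDivisors_iff_right]
    intro y hy
    funext i
    exact (mul_eq_zero.mp (congrFun hy i)).resolve_right (hx i)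
  have hsA : ∀ a ∈ A, supp a ∈ A := by
    intro a ha
    rw [hA]
    have key : ∀ f ∈ F, ∀ f' ∈ F, f' (supp a) * (1 - f (supp a)) = 0 := by
      intro f hf f' hf'
      have he : a * supp a = a := by funext i; by_cases h : a i = 0 <;> simp [hsupp, h]
      have hnz : a + (1 - supp a) ∈ nonZeroDivisors (Π i, D i) :=
        hS _ fun i => by by_cases h : a i = 0 <;> simp [hsupp, h]
      have h2 := hF f' hf' _ hnz
      have h2' := (mem_nonZeroDivisors_iff_right.mp h2) (f' (supp a) * (1 - f (supp a)))
      apply h2'
      have e1 : f' a * f' (supp a) = f' a := by rw [← map_mul, he]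
      have e2 : f a * f (supp a) = f a := by rw [← map_mul, he]
      have e3 : f a = f' a := (hA a).mp ha f hf f' hf'
      have e4 : f' (supp a) * f' (supp a) = f' (supp a) := by
        rw [← map_mul]; congr 1; funext i; by_cases h : a i = 0 <;> simp [hsupp, h]
      rw [map_add, map_sub, map_one]
      linear_combination (f (supp a) - 1) * e4 + (1 - f (supp a)) * e1 + (f (supp a)) * e3 - e2 - e3 * (1 : R)
    intro f hf f' hf'
    linear_combination key f' hf' f hf - key f hf f' hf'
  let st : Setoid ι :=
    { r := fun i j => ∀ a ∈ A, (a i = 0 ↔ a j = 0)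
      iseqv := ⟨fun i a _ => Iff.rfl, fun h a ha => (h a ha).symm,
        fun h h' a ha => (h a ha).trans (h' a ha)⟩ }
  let rep : Quotient st → ι := Quotient.out
  have hrel : ∀ (q : Quotient st) (j : ι), (Quotient.mk st j = q) ↔ ∀ a ∈ A, (a j = 0 ↔ a (rep q) = 0) := by
    intro q j
    conv_lhs => rw [← Quotient.out_eq q]
    exact Quotient.eq
  let e : Quotient st → (Π i, D i) := fun q i => if Quotient.mk st i = q then 1 else 0
  have he : ∀ q, e q ∈ A := by
    intro q
    have : ∀ j, ∃ s ∈ A, s (rep q) = 1 ∧ (Quotient.mk st j ≠ q → s j = 0) ∧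
        ∀ i, Quotient.mk st i = q → s i = 1 := by
      intro j
      by_cases hj : Quotient.mk st j = q
      · exact ⟨1, A.one_mem, rfl, fun h => absurd hj h, fun i _ => rfl⟩
      · obtain ⟨a, ha⟩ := not_forall.mp (fun h => hj ((hrel q j).mpr h))
        rw [Classical.not_imp] at ha
        obtain ⟨ha, hne⟩ := ha
        by_cases h0 : a (rep q) = 0
        · refine ⟨1 - supp a, A.sub_mem A.one_mem (hsA a ha), by simp [hsupp, h0], fun _ => ?_, fun i hi => ?_⟩
          · have : a j ≠ 0 := fun h => hne (iff_of_true h h0)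
            simp [hsupp, this]
          · have : a i = 0 := ((hrel q i).mp hi a ha).mpr h0
            simp [hsupp, this]
        · refine ⟨supp a, hsA a ha, by simp [hsupp, h0], fun _ => ?_, fun i hi => ?_⟩
          · have : a j = 0 := by by_contra h; exact hne (iff_of_false h h0)
            simp [hsupp, this]
          · have : a i ≠ 0 := fun h => h0 (((hrel q i).mp hi a ha).mp h)
            simp [hsupp, this]
    choose s hs hs1 hs0 hsi using this
    have : e q = ∏ j, s j := by
      funext i
      rw [Finset.prod_apply]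
      by_cases hi : Quotient.mk st i = q
      · simp [e, hi, fun j => hsi j i hi]
      · simp only [e, if_neg hi]
        exact (Finset.prod_eq_zero (Finset.mem_univ i) (hs0 i hi)).symm
    rw [this]; exact prod_mem fun j _ => hs j
  let π : ∀ q : Quotient st, A →+* D (rep q) := fun q => (Pi.evalRingHom D (rep q)).comp A.subtype
  have hnf : ∀ q, IsIntegrallyClosed (π q).range := by
    intro q
    apply isIntegrallyClosed_of_forall
    rintro ⟨_, a, rfl⟩ ⟨_, b, rfl⟩ hb ⟨p, hp, hsum⟩
    have hb : (b : Π i, D i) (rep q) ≠ 0 := fun h => hb (Subtype.ext h)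
    choose c hc using fun i => (p.coeff i).2
    let c' : ℕ → A := fun i => if i = p.natDegree then 1 else c i
    have hc' : ∀ i, π q (c' i) = p.coeff i := by
      intro i
      by_cases h : i = p.natDegree
      · simp [c', h, hp.coeff_natDegree]
      · simp [c', h, hc]
    let P : A := ∑ i ∈ Finset.range (p.natDegree + 1), c' i * a ^ i * b ^ (p.natDegree - i)
    have hP : π q P = 0 := by
      simp only [P, map_sum, map_mul, map_pow, hc']
      simpa using congrArg Subtype.val hsum
    have hcl : ∀ i, Quotient.mk st i = q → (b : Π i, D i) i ∣ (a : Π i, D i) i := by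
      intro i hi
      have hbi : (b : Π i, D i) i ≠ 0 := fun h => hb (((hrel q i).mp hi _ b.2).mp h)
      have hPi : (P : Π i, D i) i = 0 := ((hrel q i).mp hi _ P.2).mpr hP
      refine exists_integral_quot _ _ hbi p.natDegree (fun m => ((c' m : Π i, D i) i)) (by simp [c']) ?_
      rw [← hPi]
      simp [P, Finset.sum_apply]
    have : ∀ i, ∃ y : D i, if Quotient.mk st i = q then (a : Π i, D i) i = (b : Π i, D i) i * y else y = 0 := by
      intro i
      by_cases hi : Quotient.mk st i = q
      · simp only [if_pos hi]; exact hcl i hi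
      · simp only [if_neg hi]; exact ⟨0, rfl⟩
    choose y hy using this
    have hyA : y ∈ A := by
      rw [hA]
      intro f hf f' hf'
      let b' : A := b * ⟨e q, he q⟩ + (1 - ⟨e q, he q⟩)
      have hb'v : ∀ i, (b' : Π i, D i) i = if Quotient.mk st i = q then (b : Π i, D i) i else 1 := by
        intro i; by_cases hi : Quotient.mk st i = q <;> simp [b', e, hi]
      have hb' : (b' : Π i, D i) ∈ nonZeroDivisors (Π i, D i) := hS _ fun i => by
        rw [hb'v]
        split_ifs with hi
        · exact fun h => hb (((hrel q i).mp hi _ b.2).mp h)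
        · exact one_ne_zero
      have hmul : y * (b' : Π i, D i) = ((a * ⟨e q, he q⟩ : A) : Π i, D i) := by
        funext i
        by_cases hi : Quotient.mk st i = q <;>
          (have := hy i; simp [hi] at this; simp [hb'v, e, hi, this, mul_comm])
      apply (mem_nonZeroDivisors_iff_right.mp (hF f hf _ hb') (f y - f' y) ?_) |> sub_eq_zero.mp
      rw [sub_mul, ← map_mul, (hA _).mp b'.2 f hf f' hf', ← map_mul, hmul,
        (hA _).mp (a * ⟨e q, he q⟩ : A).2 f hf f' hf', sub_self]
    refine ⟨⟨π q ⟨y, hyA⟩, _, rfl⟩, Subtype.ext ?_⟩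
    have h := hy (rep q)
    rw [if_pos (Quotient.out_eq q)] at h
    exact h
  refine ⟨Quotient st, Fintype.ofFinite _, fun q => (π q).range, inferInstance, inferInstance, hnf,
    ⟨RingEquiv.ofBijective (RingHom.pi fun q => (π q).rangeRestrict) ⟨?_, ?_⟩⟩⟩
  · intro a b h
    refine Subtype.ext (funext fun i => sub_eq_zero.mp ?_)
    have h0 : ((a - b : A) : Π i, D i) (rep (Quotient.mk st i)) = 0 := by
      have := congrArg Subtype.val (congrFun h (Quotient.mk st i))
      change π _ a = π _ b at this
      simpa [π, sub_eq_zero] using this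
    exact ((hrel _ i).mp rfl _ (a - b).2).mpr h0
  · intro x
    haveI := Fintype.ofFinite (Quotient st)
    choose a ha using fun q => (x q).2
    refine ⟨∑ q, a q * ⟨e q, he q⟩, ?_⟩
    funext q
    apply Subtype.ext
    change π q (∑ q', a q' * ⟨e q', he q'⟩) = _
    rw [map_sum, Finset.sum_eq_single q, map_mul, ha]
    · simp [π, e, rep]
    · intro q' _ hne
      rw [map_mul]
      simp [π, e, rep, hne.symm]
    · simp

end Groth.Agent.S11135
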