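import Groth.Statements.S11136
import Mathlib

set_option autoImplicit false
universe u v
open InvTh

namespace Groth.Agent.S11136

open PrimeSpectrum in
theorem isHomeo {R : Type v} [CommRing R] (G : Type u) [Group G] [MulSemiringAction G R] (g : G) :
    IsHomeomorph (PrimeSpectrum.comap (MulSemiringAction.toRingHom G R g)) :=
  (PrimeSpectrum.homeomorphOfRingEquiv (MulSemiringAction.toRingEquiv G R g)).symm.isHomeomorph

/-- Let a finite group G act on a Noetherian commutative ring R by ring automorphisms, with ring of
invariants A (A → R injective with image the fixed elements). When the prime spectrum of A is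
connected, any two connected components of Spec R are exchanged by some element of G: for all points
x, y of Spec R there is g in G whose induced self-map of Spec R carries the connected component of x
onto the connected component of y. -/
theorem result
    (A : Type u) (R : Type v) [CommRing A] [CommRing R] [Algebra A R] [IsNoetherianRing R]
    (G : Type u) [Group G] [Finite G] [MulSemiringAction G R] [SMulCommClass G A R]
    [Algebra.IsInvariant A R G] [FaithfulSMul A R]
    [ConnectedSpace (PrimeSpectrum A)] (x y : PrimeSpectrum R) :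
    ∃ g : G, PrimeSpectrum.comap (MulSemiringAction.toRingHom G R g) '' connectedComponent x =
      connectedComponent y := by
  classical
  let φ : G → PrimeSpectrum R → PrimeSpectrum R := fun g => PrimeSpectrum.comap (MulSemiringAction.toRingHom G R g)
  have hφ : ∀ g (q : PrimeSpectrum R), φ g '' connectedComponent q = connectedComponent (φ g q) := by
    intro g q
    obtain ⟨e, he⟩ := (isHomeomorph_iff_exists_homeomorph.mp (isHomeo (R := R) G g))
    have := e.image_connectedComponentIn (s := Set.univ) (x := q) (Set.mem_univ q)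
    simp only [connectedComponentIn_univ, Set.image_univ, EquivLike.range_eq_univ] at this
    change (PrimeSpectrum.comap _) '' _ = connectedComponent (PrimeSpectrum.comap _ q)
    rw [← he]; exact this
  have := Algebra.IsInvariant.isIntegral A R G
  have hinj : Function.Injective (algebraMap A R) := FaithfulSMul.algebraMap_injective A R
  let π : PrimeSpectrum R → PrimeSpectrum A := PrimeSpectrum.comap (algebraMap A R)
  have hcl : IsClosedMap π := PrimeSpectrum.isClosedMap_comap_of_isIntegral _ (Algebra.IsIntegral.isIntegral)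
  let U : Set (PrimeSpectrum R) := {q | ∃ g, φ g '' connectedComponent x = connectedComponent q}
  have hsat : ∀ q q', π q = π q' → q ∈ U → q' ∈ U := by
    intro q q' h hq
    obtain ⟨g, hg⟩ := hq
    obtain ⟨g', hg'⟩ := Algebra.IsInvariant.exists_smul_of_under_eq A R G q.asIdeal q'.asIdeal
      (congrArg PrimeSpectrum.asIdeal h)
    have hq' : φ g'⁻¹ q = q' := by
      apply PrimeSpectrum.ext
      rw [hg']
      ext r
      simp only [φ, PrimeSpectrum.comap_asIdeal, Ideal.mem_comap, Ideal.mem_pointwise_smul_iff_inv_smul_mem]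
      rfl
    refine ⟨g * g'⁻¹, ?_⟩
    have e : φ (g * g'⁻¹) = φ g'⁻¹ ∘ φ g := by
      funext r; apply PrimeSpectrum.ext; ext t
      simp [φ, mul_smul]
    rw [e, Set.image_comp, hg, hφ, hq']
  have : TopologicalSpace.NoetherianSpace (PrimeSpectrum R) := inferInstance
  have hfin : (Set.range fun q : PrimeSpectrum R => connectedComponent q).Finite := by
    have : ∀ q : PrimeSpectrum R, ∃ Z ∈ irreducibleComponents (PrimeSpectrum R), q ∈ Z := fun q =>
      ⟨_, irreducibleComponent_mem_irreducibleComponents q, mem_irreducibleComponent⟩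
    choose Z hZ hqZ using this
    have hh := TopologicalSpace.NoetherianSpace.finite_irreducibleComponents (α := PrimeSpectrum R)
    have := hh.to_subtype
    refine (Set.finite_range fun W : irreducibleComponents (PrimeSpectrum R) =>
      connectedComponent W.2.1.nonempty.some).subset ?_
    rintro _ ⟨q, rfl⟩
    refine ⟨⟨Z q, hZ q⟩, ?_⟩
    exact connectedComponent_eq ((hZ q).1.isConnected.isPreconnected.subset_connectedComponent
      (hZ q).1.nonempty.some_mem (hqZ q))
  have hclU : ∀ V : Set (PrimeSpectrum R), (∀ q ∈ V, connectedComponent q ⊆ V) → IsClosed V := by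
    intro V hV
    have hfinV : ((fun q => connectedComponent q) '' V).Finite := hfin.subset (Set.image_subset_range _ _)
    have : V = ⋃ C ∈ (fun q => connectedComponent q) '' V, C := by
      ext q
      simp only [Set.mem_iUnion, Set.mem_image]
      exact ⟨fun h => ⟨_, ⟨q, h, rfl⟩, mem_connectedComponent⟩, fun ⟨_, ⟨r, hr, rfl⟩, hq⟩ => hV r hr hq⟩
    rw [this]
    exact hfinV.isClosed_biUnion fun C ⟨r, _, hr⟩ => hr ▸ isClosed_connectedComponent
  have hU1 : ∀ q ∈ U, connectedComponent q ⊆ U := fun q ⟨g, hg⟩ r hr =>
    ⟨g, hg.trans (connectedComponent_eq hr)⟩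
  have hU2 : ∀ q ∈ Uᶜ, connectedComponent q ⊆ Uᶜ := fun q hq r hr ⟨g, hg⟩ =>
    hq ⟨g, hg.trans (connectedComponent_eq hr).symm⟩
  have hsurj : Function.Surjective π := by
    intro p
    obtain ⟨Q, -, hQ, hQp⟩ := Ideal.exists_ideal_over_prime_of_isIntegral p.asIdeal (⊥ : Ideal R)
      (by simp [Ideal.comap_bot_of_injective _ hinj])
    exact ⟨⟨Q, hQ⟩, PrimeSpectrum.ext hQp⟩
  have hdis : (π '' U)ᶜ = π '' Uᶜ := by
    ext p
    obtain ⟨q, rfl⟩ := hsurj p
    constructor
    · exact fun h => ⟨q, fun hq => h ⟨q, hq, rfl⟩, rfl⟩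
    · rintro ⟨q', hq', he⟩ ⟨q'', hq'', he'⟩
      exact hq' (hsat q'' q' (he'.trans he.symm) hq'')
  have hclopen : IsClopen (π '' U) := ⟨hcl _ (hclU U hU1), by
    rw [← isClosed_compl_iff, hdis]; exact hcl _ (hclU _ hU2)⟩
  have hxU : x ∈ U := ⟨1, by rw [hφ]; congr 1; apply PrimeSpectrum.ext; ext t; simp [φ]⟩
  have huniv : π '' U = Set.univ := hclopen.eq_univ ⟨_, x, hxU, rfl⟩
  obtain ⟨q, hq, hqy⟩ := huniv.ge (Set.mem_univ (π y))
  exact hsat q y hqy hq

end Groth.Agent.S11136
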