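import Groth.Statements.S11140
import Groth.Agent.InvQLib.FiniteHopfHeight

set_option autoImplicit false
universe u
open TensorProduct
open InvTh

namespace Groth.Agent.S11140

open Groth.Agent Groth.Agent.InvQLib

/-- Let k be a field and H a finite-dimensional commutative Hopf algebra over k (the coordinate ring of
a finite k-group scheme G) which is linearly reductive, i.e. every finite-dimensional H-comodule is
semisimple. Let R be a commutative k-algebra of finite type with an H-comodule structure whose
coaction R → R ⊗ H is multiplicative and unital (an action of G on Spec R), and let A be the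
k-subalgebra of invariants. If R is a Cohen–Macaulay ring, then so is A, and R is maximal
Cohen–Macaulay as a module over A: for every prime p of A the localized module R_p over A_p is
Cohen–Macaulay and its support has Krull dimension equal to that of A_p. -/
theorem result (k : Type u) [Field k]
    (H : Type u) [CommRing H] [HopfAlgebra k H] [Module.Finite k H] (hG : HopfRep.IsLinearlyReductive k H)
    (R : Type u) [CommRing R] [Algebra k R] [Algebra.FiniteType k R] [HopfRep.Comod k H R]
    (hmul : ∀ x y : R, HopfRep.Comod.coact (k := k) (A := H) (x * y) =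
        HopfRep.Comod.coact (k := k) (A := H) x * HopfRep.Comod.coact (k := k) (A := H) y)
    (hone : HopfRep.Comod.coact (k := k) (A := H) (1 : R) = 1)
    (A : Subalgebra k R)
    (hA : ∀ a : R, a ∈ A ↔ HopfRep.Comod.coact (k := k) (A := H) a = a ⊗ₜ[k] (1 : H))
    (hR : LocCoh.IsCohenMacaulayRing R) :
    LocCoh.IsCohenMacaulayRing A ∧ ∀ (p : Ideal A) [p.IsPrime],
      LocCoh.IsCohenMacaulayModule (Localization.AtPrime p) (LocalizedModule p.primeCompl R) ∧
        Module.supportDim (Localization.AtPrime p) (LocalizedModule p.primeCompl R) =
          ringKrullDim (Localization.AtPrime p) := by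
  have : GLin.IsCoactAlg k H R := ⟨hone, hmul⟩
  have := FinHopf.moduleFinite A hA
  have := FinHopf.isNoetherianRing A hA
  have : IsNoetherianRing R := Algebra.FiniteType.isNoetherianRing k R
  obtain ⟨π, hπ⟩ := FinHopf.exists_splitting A hA hG
  have hsk : ∀ n : ℕ, LocCoh.HasSk n R R := by
    intro n q hq
    have h := hR.isCohenMacaulayLocalRing_localization q
    have h' : LocCoh.IsCohenMacaulayModule (Localization.AtPrime q) (LocalizedModule q.primeCompl R) :=
      (Depth.isCohenMacaulayModule_congr (Depth.localizedModuleSelfEquiv q.primeCompl)).2
        (Depth.isCohenMacaulayModule_self _)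
    exact (min_le_right _ _).trans (le_of_eq h')
  have hdepth : ∀ (p : Ideal A) [p.IsPrime], p.height ≤ LocCoh.idealDepth p R ∧ p.height ≤ LocCoh.idealDepth p A := by
    intro p _
    obtain ⟨n, hn⟩ := ENat.ne_top_iff_exists.1 (Ideal.height_ne_top_of_isPrime (I := p))
    have h := FinHopf.le_idealDepth A hA n (hsk n) p
    rw [← hn, min_self, hn] at h
    exact ⟨h, h.trans (idealDepth_le_of_retract p (Algebra.linearMap A R) π hπ)⟩
  have hcm : ∀ (M : Type u) [AddCommGroup M] [Module A M] [Module.Finite A M] (p : Ideal A) [p.IsPrime],
      p.height ≤ LocCoh.idealDepth p M →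
      Module.supportDim (Localization.AtPrime p) (LocalizedModule p.primeCompl M) =
          ringKrullDim (Localization.AtPrime p) →
      LocCoh.IsCohenMacaulayModule (Localization.AtPrime p) (LocalizedModule p.primeCompl M) := by
    intro M _ _ _ p _ hle hdim
    have hnt : Nontrivial (LocalizedModule p.primeCompl M) := by
      rw [← Module.supportDim_ne_bot_iff_nontrivial (Localization.AtPrime p), hdim]
      exact ringKrullDim_ne_bot
    refine le_antisymm ?_ Depth.depth_le_supportDim
    rw [hdim, IsLocalization.AtPrime.ringKrullDim_eq_height p]
    exact_mod_cast hle.trans (Depth.idealDepth_le_depth_localizedModule p le_rfl)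
  refine ⟨{ isCohenMacaulayLocalRing_localization := fun p _ => ?_ }, fun p _ => ⟨?_, ?_⟩⟩
  · exact Depth.isCohenMacaulayLocalRing_iff.2 ((Depth.isCohenMacaulayModule_congr
      (Depth.localizedModuleSelfEquiv p.primeCompl)).1 (hcm A p (hdepth p).2
        (supportDim_localizedModule_of_injective (A := A) (R := A) (fun _ _ h => h) p)))
  · exact hcm R p (hdepth p).1
      (supportDim_localizedModule_of_injective (A := A) (R := R) Subtype.val_injective p)
  · exact supportDim_localizedModule_of_injective (A := A) (R := R) Subtype.val_injective p

end Groth.Agent.S11140
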