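import Groth.Statements.S11141
import Mathlib
import Groth.Agent.S11135

set_option autoImplicit false
universe u
open TensorProduct
open InvTh

namespace Groth.Agent.S11141

open TensorProduct
theorem includeLeft_mem (k : Type u) [Field k] (H : Type u) [CommRing H] [Algebra k H]
    (S : Type u) [CommRing S] [Algebra k S]
    (s : S) (hs : s ∈ nonZeroDivisors S) : s ⊗ₜ[k] (1 : H) ∈ nonZeroDivisors (S ⊗[k] H) := by
  rw [mem_nonZeroDivisors_iff_right]
  intro y hy
  have inj : Function.Injective ((LinearMap.mulRight k s).rTensor H) :=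
    Module.Flat.rTensor_preserves_injective_linearMap _ fun u v huv =>
      sub_eq_zero.mp (mem_nonZeroDivisors_iff_right.mp hs (u - v) (by simpa [sub_mul, sub_eq_zero] using huv))
  have e : (LinearMap.mulRight k s).rTensor H = LinearMap.mulRight k (s ⊗ₜ[k] (1 : H)) := by
    apply TensorProduct.ext'; intro u v; simp
  apply inj
  rw [map_zero, e]
  exact hy

theorem coact_mem_nonZeroDivisors (k : Type u) [Field k] (H : Type u) [CommRing H] [HopfAlgebra k H]
    (S : Type u) [CommRing S] [Algebra k S] [HopfRep.Comod k H S]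
    (c : S →ₐ[k] S ⊗[k] H) (hc : c.toLinearMap = HopfRep.Comod.coact (k := k) (A := H))
    (s : S) (hs : s ∈ nonZeroDivisors S) : c s ∈ nonZeroDivisors (S ⊗[k] H) := by
  let anti : H →ₐ[k] H := HopfAlgebra.antipodeAlgHom k H
  let incR : H →ₐ[k] S ⊗[k] H := Algebra.TensorProduct.includeRight
  let c' : S →ₐ[k] S ⊗[k] H := (Algebra.TensorProduct.map (AlgHom.id k S) anti).comp c
  let Φ : S ⊗[k] H →ₐ[k] S ⊗[k] H := Algebra.TensorProduct.productMap c incR
  let Ψ : S ⊗[k] H →ₐ[k] S ⊗[k] H := Algebra.TensorProduct.productMap c' incR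
  have coas : ∀ x : S, (TensorProduct.assoc k S H H) ((HopfRep.Comod.coact (k := k) (A := H)).rTensor H (c x))
      = (CoalgebraStruct.comul (R := k) (A := H)).lTensor S (c x) := fun x => by
    have := LinearMap.congr_fun (HopfRep.Comod.coassoc (k := k) (A := H) (V := S)) x
    simpa [← hc] using this
  have cou : ∀ x : S, (CoalgebraStruct.counit (R := k) (A := H)).lTensor S (c x) = x ⊗ₜ[k] (1 : k) := fun x => by
    have := LinearMap.congr_fun (HopfRep.Comod.counit_comp (k := k) (A := H) (V := S)) x
    simpa [← hc] using this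
  have h1 : ∀ x : S, Ψ (c x) = x ⊗ₜ[k] (1 : H) := by
    intro x
    have e : Ψ.toLinearMap = (LinearMap.mul' k H ∘ₗ (HopfAlgebra.antipode k).rTensor H).lTensor S ∘ₗ
        (TensorProduct.assoc k S H H).toLinearMap ∘ₗ c.toLinearMap.rTensor H := by
      apply TensorProduct.ext'
      intro a b
      simp [Ψ, c', incR]
      generalize c a = z
      induction z using TensorProduct.induction_on with
      | zero => simp
      | tmul u v => simp [anti]
      | add u v hu hv => simp [add_tmul, add_mul, hu, hv]
    have := LinearMap.congr_fun e (c x)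
    simp only [LinearMap.comp_apply, AlgHom.toLinearMap_apply, LinearEquiv.coe_coe, hc, coas,
      ← LinearMap.lTensor_comp_apply, LinearMap.comp_assoc, HopfAlgebra.mul_antipode_rTensor_comul] at this
    rw [this, LinearMap.lTensor_comp_apply, cou]
    simp
  have h2 : ∀ x : S, Φ (c' x) = x ⊗ₜ[k] (1 : H) := by
    intro x
    have e : ∀ z : S ⊗[k] H, Φ ((Algebra.TensorProduct.map (AlgHom.id k S) anti) z)
        = (LinearMap.mul' k H ∘ₗ (HopfAlgebra.antipode k).lTensor H).lTensor S
          ((TensorProduct.assoc k S H H) (c.toLinearMap.rTensor H z)) := by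
      intro z
      induction z using TensorProduct.induction_on with
      | zero => simp
      | tmul a b =>
        simp [Φ, incR]
        generalize c a = w
        induction w using TensorProduct.induction_on with
        | zero => simp
        | tmul u v => simp [anti]
        | add u v hu hv => simp [add_tmul, add_mul, hu, hv]
      | add u v hu hv => simp [hu, hv]
    change Φ (Algebra.TensorProduct.map (AlgHom.id k S) anti (c x)) = _
    rw [e, hc, coas, ← LinearMap.lTensor_comp_apply, LinearMap.comp_assoc,
      HopfAlgebra.mul_antipode_lTensor_comul, LinearMap.lTensor_comp_apply, cou]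
    simp
  have hΦi : ∀ y, Φ y = 0 → y = 0 := by
    intro y hy
    have : Ψ.comp Φ = AlgHom.id k _ := by
      apply Algebra.TensorProduct.ext
      · apply AlgHom.ext; intro a; simp [Φ, h1]
      · apply AlgHom.ext; intro a; simp [Φ, Ψ, incR]
    have h := DFunLike.congr_fun this y
    simpa [hy] using h.symm
  have hΦs : Φ.comp Ψ = AlgHom.id k _ := by
    apply Algebra.TensorProduct.ext
    · apply AlgHom.ext; intro a; simp [Ψ, h2]
    · apply AlgHom.ext; intro a; simp [Φ, Ψ, incR]
  have h0 := includeLeft_mem k H S s hs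
  rw [mem_nonZeroDivisors_iff_right]
  intro y hy
  have hy' : y = Φ (Ψ y) := (DFunLike.congr_fun hΦs y).symm
  have hcs : c s = Φ (s ⊗ₜ[k] (1 : H)) := by simp [Φ]
  rw [hy', hcs, ← map_mul] at hy
  rw [hy', (mem_nonZeroDivisors_iff_right.mp h0) _ (hΦi _ hy), map_zero]

/-- Let k be a field, H a finitely generated commutative Hopf algebra over k (the coordinate ring of a
group scheme affine and of finite type over k), and S a commutative k-algebra which is
ring-isomorphic to a finite product of normal (integrally closed) domains and carries an H-comodule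
structure whose coaction S → S ⊗ H is multiplicative and unital. Then the k-subalgebra of invariants
of S, the elements s whose coaction is s ⊗ 1, is again ring-isomorphic to a finite product of normal
domains. -/
theorem result (k : Type u) [Field k]
    (H : Type u) [CommRing H] [HopfAlgebra k H] [Algebra.FiniteType k H]
    (S : Type u) [CommRing S] [Algebra k S] [HopfRep.Comod k H S]
    (hmul : ∀ x y : S, HopfRep.Comod.coact (k := k) (A := H) (x * y) =
        HopfRep.Comod.coact (k := k) (A := H) x * HopfRep.Comod.coact (k := k) (A := H) y)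
    (hone : HopfRep.Comod.coact (k := k) (A := H) (1 : S) = 1)
    {ι : Type u} [Fintype ι] (D : ι → Type u) [∀ i, CommRing (D i)] [∀ i, IsDomain (D i)]
    [∀ i, IsIntegrallyClosed (D i)] (e : S ≃+* Π i, D i)
    (A : Subalgebra k S)
    (hA : ∀ a : S, a ∈ A ↔ HopfRep.Comod.coact (k := k) (A := H) a = a ⊗ₜ[k] (1 : H)) :
    ∃ (κ : Type u) (_ : Fintype κ) (E : κ → Type u) (_ : ∀ j, CommRing (E j)) (_ : ∀ j, IsDomain (E j))
      (_ : ∀ j, IsIntegrallyClosed (E j)), Nonempty (A ≃+* Π j, E j) := by
  let c : S →ₐ[k] S ⊗[k] H := AlgHom.ofLinearMap (HopfRep.Comod.coact (k := k) (A := H)) hone hmul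
  have hc : c.toLinearMap = HopfRep.Comod.coact (k := k) (A := H) := by ext; rfl
  let i : S →ₐ[k] S ⊗[k] H := Algebra.TensorProduct.includeLeft
  let e' : (Π j, D j) →+* S := e.symm.toRingHom
  let F : Set ((Π j, D j) →+* S ⊗[k] H) := {c.toRingHom.comp e', i.toRingHom.comp e'}
  have hnz : ∀ s ∈ nonZeroDivisors (Π j, D j), e' s ∈ nonZeroDivisors S := by
    intro s hs
    rw [mem_nonZeroDivisors_iff_right] at hs ⊢
    intro y hy
    have := hs (e y) (e.symm.injective (by simpa [e'] using hy))
    simpa using this
  obtain ⟨κ, i₁, E, i₂, i₃, i₄, ⟨f⟩⟩ := Groth.Agent.S11135.result D (S ⊗[k] H) F (by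
    rintro f (rfl | rfl) s hs
    · exact coact_mem_nonZeroDivisors k H S c hc _ (hnz s hs)
    · exact includeLeft_mem k H S _ (hnz s hs))
    ((A.toSubring).map e.toRingHom) (fun a => by
      constructor
      · rintro ⟨s, hs, rfl⟩ f hf f' hf'
        rcases hf with rfl | rfl <;> rcases hf' with rfl | rfl <;>
          simp [e', c, i, (hA s).mp hs]
      · intro h
        refine ⟨e.symm a, (hA _).mpr ?_, by simp⟩
        exact h _ (Or.inl rfl) _ (Or.inr rfl))
  exact ⟨κ, i₁, E, i₂, i₃, i₄, ⟨((A.toSubring).equivMapOfInjective e.toRingHom e.injective).trans f⟩⟩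

end Groth.Agent.S11141
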