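import Groth.Statements.S3623
import Groth.Agent.Gor.LCI
-- import your own Groth.Agent.* helpers here

set_option autoImplicit false
universe u
open CategoryTheory CategoryTheory.Limits AlgebraicGeometry
attribute [local instance] HasDerivedCategory.standard
open Dual3

namespace Groth.Agent.S3623

theorem gorenstein_stalk {X : Scheme.{u}} {U : X.Opens} (hU : IsAffineOpen U)
    (h : LocCoh.IsGorensteinRing Γ(X, U)) (x : X) (hx : x ∈ U) :
    LocCoh.IsGorensteinLocalRing (X.presheaf.stalk x) := by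
  letI := X.presheaf.algebra_section_stalk ⟨x, hx⟩
  haveI := hU.isLocalization_stalk ⟨x, hx⟩
  haveI := h.isGorensteinLocalRing_localization (hU.primeIdealOf ⟨x, hx⟩).asIdeal
  exact Gor.FlatLocal.gorenstein_of_ringEquiv (IsLocalization.algEquiv (hU.primeIdealOf ⟨x, hx⟩).asIdeal.primeCompl
    (Localization.AtPrime (hU.primeIdealOf ⟨x, hx⟩).asIdeal) (X.presheaf.stalk x)).toRingEquiv

theorem gorensteinRing_sections {X : Scheme.{u}} (hX : Dual3.IsGorenstein X) {V : X.Opens}
    (hV : IsAffineOpen V) : LocCoh.IsGorensteinRing Γ(X, V) := by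
  haveI := hX.1
  haveI : IsNoetherianRing Γ(X, V) := IsLocallyNoetherian.component_noetherian ⟨V, hV⟩
  refine { isGorensteinLocalRing_localization := fun p hp => ?_ }
  let y : PrimeSpectrum Γ(X, V) := ⟨p, hp⟩
  let x : X := hV.fromSpec y
  have hx : x ∈ V := hV.range_fromSpec.le ⟨y, rfl⟩
  letI := X.presheaf.algebra_section_stalk ⟨x, hx⟩
  haveI : IsLocalization.AtPrime (X.presheaf.stalk x) p := hV.isLocalization_stalk' y hx
  haveI := hX.2 x
  exact Gor.FlatLocal.gorenstein_of_ringEquiv (IsLocalization.algEquiv p.primeCompl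
    (X.presheaf.stalk x) (Localization.AtPrime p)).toRingEquiv

/-- Let f : Y → X be a local complete intersection morphism (affine-locally given by local complete
intersection ring maps) with X a Gorenstein scheme. Then Y is a Gorenstein scheme. -/
theorem result (Y X : Scheme.{u}) (f : Y ⟶ X) (hf : Dual3.IsLCIMor f) (hX : Dual3.IsGorenstein X) : Dual3.IsGorenstein Y := by
  have key : ∀ y : Y, ∃ U : Y.affineOpens, y ∈ U.1 ∧ LocCoh.IsGorensteinRing Γ(Y, U.1) := by
    intro y
    obtain ⟨U, V, e, hy, hl⟩ := hf y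
    letI := (f.appLE V.1 U.1 e).hom.toAlgebra
    obtain ⟨-, n, φ, hφ, hI⟩ := hl
    have hP : LocCoh.IsGorensteinRing (MvPolynomial (Fin n) Γ(X, V.1)) :=
      Gor.Ring.isGorensteinRing_of_ringEquiv (MvPolynomial.renameEquiv _ Equiv.ulift).toRingEquiv
        (Gor.Ring.isGorensteinRing_mvPolynomial (ULift.{u} (Fin n)) (gorensteinRing_sections hX V.2))
    exact ⟨U, hy, Gor.Ring.isGorensteinRing_of_ringEquiv (RingHom.quotientKerEquivOfSurjective hφ)
      (Gor.LCI.isGorensteinRing_quotient_koszulRegular hP _ hI)⟩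
  choose U hU hG using key
  refine ⟨?_, fun y => gorenstein_stalk (U y).2 (hG y) y (hU y)⟩
  refine (isLocallyNoetherian_iff_of_iSup_eq_top (S := U) ?_).2 fun y => (hG y).toIsNoetherian
  exact top_le_iff.1 fun y _ => TopologicalSpace.Opens.mem_iSup.2 ⟨y, hU y⟩

end Groth.Agent.S3623
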