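import Groth.Statements.S5798
import Groth.Agent.TopDimLib.Basic

set_option autoImplicit false
universe u
open TopDim

namespace Groth.Agent.S5798

open Set Order TopologicalSpace Topology Groth.Agent.TopDimLib

/-- If (U_i) is an open covering of a topological space X, then dim(X) = sup_i dim(U_i). -/
theorem result (X : Type u) [TopologicalSpace X] (ι : Type u)
    (U : ι → TopologicalSpace.Opens X) (hcov : ⨆ i, U i = ⊤) :
    topologicalKrullDim X = ⨆ i, topologicalKrullDim (U i) := by
  refine le_antisymm (topDim_le_iff.2 fun l => ?_)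
    (iSup_le fun i => topologicalKrullDim_subspace_le X (U i : Set X))
  obtain ⟨x, hx⟩ := l.head.isIrreducible.1
  have hxU : x ∈ (⨆ i, U i : Opens X) := by rw [hcov]; trivial
  obtain ⟨i, hi⟩ := Opens.mem_iSup.1 hxU
  exact le_iSup_of_le i (length_le_of_open l (U i).2 hx hi)

end Groth.Agent.S5798
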