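import Groth.Statements.S11146
import Groth.Agent.S11138
import Groth.Agent.S9287
import Groth.Agent.S3623
import Groth.Agent.S5798
import Groth.Agent.RegLoc.Basic
-- import your own Groth.Agent.* helpers here

set_option autoImplicit false
universe u
open CategoryTheory MonoidalCategory CartesianMonoidalCategory MonObj GrpObj AlgebraicGeometry
attribute [local instance] HasDerivedCategory.standard
open GrpSch

namespace Groth.Agent.S11146

lemma topDim_lt_top {R : Type u} [CommRing R] [IsLocalRing R] [IsNoetherianRing R] (X : Scheme.{u})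
    (f : X ⟶ Spec (CommRingCat.of R)) [LocallyOfFiniteType f] [QuasiCompact f] : topologicalKrullDim X < ⊤ := by
  have hc : CompactSpace X := (quasiCompact_iff_compactSpace f).1 inferInstance
  let 𝒰 := X.affineCover.finiteSubcover
  rw [S5798.result X 𝒰.I₀ (fun i => (𝒰.f i).opensRange) (Scheme.OpenCover.iSup_opensRange 𝒰)]
  have hd : ∀ i, topologicalKrullDim ((𝒰.f i).opensRange) < ⊤ := by
    intro i
    have haff : IsAffineOpen (𝒰.f i).opensRange := isAffineOpen_opensRange _
    let φ : R →+* Γ(X, (𝒰.f i).opensRange) :=
      (f.appLE ⊤ _ le_top).hom.comp (Scheme.ΓSpecIso (CommRingCat.of R)).inv.hom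
    have hft : φ.FiniteType := (f.finiteType_appLE (isAffineOpen_top _) haff le_top).comp
      (RingHom.FiniteType.of_surjective _ (Scheme.ΓSpecIso (CommRingCat.of R)).symm.commRingCatIsoToRingEquiv.surjective)
    let _ := φ.toAlgebra
    have : Algebra.FiniteType R Γ(X, (𝒰.f i).opensRange) := hft
    obtain ⟨n, g, hg⟩ := Algebra.FiniteType.iff_quotient_mvPolynomial''.1 this
    have e1 : topologicalKrullDim ↥((𝒰.f i).opensRange) =
        topologicalKrullDim (PrimeSpectrum Γ(X, (𝒰.f i).opensRange)) :=
      (Scheme.homeoOfIso haff.isoSpec).isHomeomorph.topologicalKrullDim_eq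
    refine lt_of_eq_of_lt e1 ?_
    rw [PrimeSpectrum.topologicalKrullDim_eq_ringKrullDim]
    refine lt_of_le_of_lt (ringKrullDim_le_of_surjective g.toRingHom hg) ?_
    rw [MvPolynomial.ringKrullDim_of_isNoetherianRing]
    obtain ⟨m, hm, -⟩ := RegLoc.exists_natCast_eq_ringKrullDim R
    rw [hm]
    rw [← Nat.cast_add]
    exact WithBot.coe_lt_coe.2 (ENat.natCast_lt_top (m + Nat.card (Fin n)))
  rcases isEmpty_or_nonempty 𝒰.I₀ with h | h
  · rw [iSup_of_empty]; exact bot_lt_top
  · obtain ⟨i, hi⟩ := exists_eq_ciSup_of_finite (f := fun i => topologicalKrullDim ((𝒰.f i).opensRange))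
    exact lt_of_eq_of_lt hi.symm (hd i)

/-- Group schemes over Gorenstein rings: let R be a Gorenstein local ring and G a group scheme over Spec
R which is flat and of finite type over Spec R. Then G is a Gorenstein scheme (locally Noetherian
with all local rings Gorenstein) and has finite Krull dimension. (The published statement concerns
every member of the diagram Spec R ← G ⇇ G ×_R G of the action groupoid, each of which is Spec R or
again a flat finite-type group scheme over Spec R, and adds that O_S[d], for S = Spec R and d the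
dimension of R, is then an equivariant dualizing complex; this row states the first assertion for
G.) -/
theorem result (R : Type u) [CommRing R]
    [LocCoh.IsGorensteinLocalRing R] (G : Over (Spec (CommRingCat.of R))) [GrpObj G] [Flat G.hom]
    [LocallyOfFiniteType G.hom] [QuasiCompact G.hom] :
    Dual3.IsGorenstein G.left ∧ topologicalKrullDim G.left < ⊤ := by
  have : IsNoetherianRing R := inferInstance
  have hX : Dual3.IsGorenstein (Spec (CommRingCat.of R)) := by
    refine ⟨inferInstance, fun x => S3623.gorenstein_stalk (isAffineOpen_top _) ?_ x trivial⟩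
    exact Gor.Ring.isGorensteinRing_of_ringEquiv
      (Scheme.ΓSpecIso (CommRingCat.of R)).symm.commRingCatIsoToRingEquiv (Gor.Ring.isGorensteinRing_of_local R)
  refine ⟨S3623.result _ _ G.hom (fun x => ?_) hX, topDim_lt_top G.left G.hom⟩
  obtain ⟨U, V, e, hx, hs⟩ := S11138.result _ G x
  let _ := (G.hom.appLE V.1 U.1 e).hom.toAlgebra
  exact ⟨U, V, e, hx, ((S9287.result _ _).1 hs).2⟩

end Groth.Agent.S11146
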