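import Groth.Statements.S11153
import Groth.Agent.InjAmp.Basic
-- import your own Groth.Agent.* helpers here

set_option autoImplicit false
universe w v u
open CategoryTheory CategoryTheory.Limits
open CohDer

namespace Groth.Agent.S11153

open CategoryTheory Groth.Agent

/-- (i) ⇔ (iii): let A be an abelian category with enough injectives and K a bounded below cochain
complex of objects of A. Then K admits a quasi-isomorphism into a bounded complex of injective
objects of A if and only if there is an integer n₀ such that Hom_{D(A)}(Y[0], K[i]) = 0 for every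
object Y of A and every i > n₀. -/
theorem result {A : Type u} [Category.{v} A] [Abelian A]
    [HasDerivedCategory.{w} A] [EnoughInjectives A]
    (K : CochainComplex A ℤ) (a : ℤ) [K.IsStrictlyGE a] :
    (∃ (I : CochainComplex A ℤ) (b c : ℤ) (f : K ⟶ I), I.IsStrictlyGE b ∧ I.IsStrictlyLE c ∧
        (∀ n : ℤ, Injective (I.X n)) ∧ QuasiIso f) ↔
      ∃ n₀ : ℤ, ∀ (Y : A) (i : ℤ), n₀ < i →
        ∀ φ : (DerivedCategory.singleFunctor A 0).obj Y ⟶ (DerivedCategory.Q.obj K)⟦i⟧, φ = 0 := by
  have sh := fun (n₀ : ℤ) => show (∀ i, n₀ < i → InjAmp.Vanish (DerivedCategory.Q.obj K) i) ↔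
      ∀ (Y : A) (i : ℤ), n₀ < i → ∀ φ : (DerivedCategory.singleFunctor A 0).obj Y ⟶
        (DerivedCategory.Q.obj K)⟦i⟧, φ = 0 from
    ⟨fun h Y i hi => (InjAmp.vanish_iff_shift _ i).1 (h i hi) Y,
      fun h i hi => (InjAmp.vanish_iff_shift _ i).2 (fun Y => h Y i hi)⟩
  constructor
  · rintro ⟨I, b, c, f, _, _, _, _⟩
    have := CochainComplex.isKInjective_of_injective I b
    refine ⟨c, (sh c).1 fun i hi => ?_⟩
    exact (InjAmp.vanish_of_isKInjective I i
      (CochainComplex.isZero_of_isStrictlyLE I c i hi)).of_iso (asIso (DerivedCategory.Q.map f)).symm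
  · rintro ⟨n₀, h⟩
    obtain ⟨L, i, _, _, _⟩ :=
      CochainComplex.Plus.modelCategoryQuillen.exists_quasiIso_injective K a
    have := CochainComplex.isKInjective_of_injective L a
    have hL : ∀ j, n₀ < j → InjAmp.Vanish (DerivedCategory.Q.obj L) j := fun j hj =>
      ((sh n₀).2 h j hj).of_iso (asIso (DerivedCategory.Q.map i))
    have := InjAmp.isStrictlyGE_truncLE L a n₀
    have := InjAmp.injective_truncLE L n₀ hL
    have := InjAmp.quasiIso_ιTruncLE L n₀ hL
    have := CochainComplex.isKInjective_of_injective (L.truncLE n₀) a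
    obtain ⟨e, he⟩ := (CochainComplex.IsKInjective.quasiIso_iff (L.ιTruncLE n₀)).1 inferInstance
    have : QuasiIso e.inv := e.symm.quasiIso_hom
    exact ⟨L.truncLE n₀, a, n₀, i ≫ e.inv, inferInstance, inferInstance, inferInstance,
      inferInstance⟩

end Groth.Agent.S11153
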