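import Groth.Statements.S11158
import Groth.Agent.InjMod.GenExtZero

set_option autoImplicit false
universe u
open CategoryTheory CategoryTheory.Limits AlgebraicGeometry
attribute [local instance] HasDerivedCategory.standard
open Coherent

namespace Groth.Agent.S11158

/-- Let X be a locally Noetherian scheme and j : U ⟶ X an open immersion from an affine scheme. Then the
O_X-module j_! O_U (extension by zero of the structure sheaf of U) is a Noetherian object: every
increasing sequence of subobjects of j_! O_U in the category of O_X-modules is eventually constant. -/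
theorem result {U X : Scheme.{u}} [IsLocallyNoetherian X]
    [IsAffine U] (j : U ⟶ X) [IsOpenImmersion j]
    (c : ℕ →o Subobject (CxOX.extZeroUnit j)) :
    ∃ n : ℕ, ∀ m : ℕ, n ≤ m → c n = c m := by
  let e := Subobject.mapIsoToOrderIso (InjMod.genExtZeroIso j).symm
  obtain ⟨n, hn⟩ := InjMod.exists_stable_gen (U := j ''ᵁ ⊤)
    ((isAffineOpen_top U).image_of_isOpenImmersion j) (e.toOrderEmbedding.toOrderHom.comp c)
  exact ⟨n, fun m hm => e.injective (hn m hm)⟩

end Groth.Agent.S11158
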