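import Groth.Statements.S11159
import Groth.Agent.InjAmp.Basic
-- import your own Groth.Agent.* helpers here

set_option autoImplicit false
universe w v u
open CategoryTheory CategoryTheory.Limits CategoryTheory.Pretriangulated
open CohDer

namespace Groth.Agent.S11159

open CategoryTheory Groth.Agent

/-- Let A be an abelian category with enough injectives and X ⟶ Y ⟶ Z ⟶ X⟦1⟧ a distinguished triangle in
D(A). If X and Z are each isomorphic in D(A) to a bounded complex of injective objects of A, then so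
is Y. -/
theorem result {A : Type u} [Category.{v} A] [Abelian A]
    [HasDerivedCategory.{w} A] [EnoughInjectives A]
    (T : Triangle (DerivedCategory A)) (hT : T ∈ distTriang (DerivedCategory A))
    (h₁ : (∃ (I : CochainComplex A ℤ) (b c : ℤ), I.IsStrictlyGE b ∧ I.IsStrictlyLE c ∧
        (∀ n : ℤ, Injective (I.X n)) ∧ Nonempty (T.obj₁ ≅ DerivedCategory.Q.obj I)))
    (h₃ : (∃ (I : CochainComplex A ℤ) (b c : ℤ), I.IsStrictlyGE b ∧ I.IsStrictlyLE c ∧
        (∀ n : ℤ, Injective (I.X n)) ∧ Nonempty (T.obj₃ ≅ DerivedCategory.Q.obj I))) :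
    (∃ (I : CochainComplex A ℤ) (b c : ℤ), I.IsStrictlyGE b ∧ I.IsStrictlyLE c ∧
        (∀ n : ℤ, Injective (I.X n)) ∧ Nonempty (T.obj₂ ≅ DerivedCategory.Q.obj I)) := by
  obtain ⟨I₁, b₁, c₁, _, _, _, ⟨e₁⟩⟩ := h₁
  obtain ⟨I₃, b₃, c₃, _, _, _, ⟨e₃⟩⟩ := h₃
  have := CochainComplex.isKInjective_of_injective I₁ b₁
  have := CochainComplex.isKInjective_of_injective I₃ b₃
  have key : ∀ i, (i < min b₁ b₃ ∨ max c₁ c₃ < i) → InjAmp.Vanish T.obj₂ i := by
    intro i hi Y φ
    have z₁ : Limits.IsZero (I₁.X i) := by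
      rcases hi with hi | hi
      · exact CochainComplex.isZero_of_isStrictlyGE I₁ b₁ i (by lia)
      · exact CochainComplex.isZero_of_isStrictlyLE I₁ c₁ i (by lia)
    have z₃ : Limits.IsZero (I₃.X i) := by
      rcases hi with hi | hi
      · exact CochainComplex.isZero_of_isStrictlyGE I₃ b₃ i (by lia)
      · exact CochainComplex.isZero_of_isStrictlyLE I₃ c₃ i (by lia)
    obtain ⟨ψ, rfl⟩ := Pretriangulated.Triangle.coyoneda_exact₂ T hT φ
      ((InjAmp.vanish_of_isKInjective I₃ i z₃).of_iso e₃.symm Y _)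
    rw [(InjAmp.vanish_of_isKInjective I₁ i z₁).of_iso e₁.symm Y ψ, Limits.zero_comp]
  have := InjAmp.isGE_of_vanish T.obj₂ (min b₁ b₃) fun i hi => key i (Or.inl hi)
  obtain ⟨I, h1, h2, h3, h4⟩ := InjAmp.exists_bounded_injective T.obj₂ (min b₁ b₃) (max c₁ c₃)
    fun i hi => key i (Or.inr hi)
  exact ⟨I, _, _, h1, h2, h3, h4⟩

end Groth.Agent.S11159
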