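import Groth.Statements.S11167
import Groth.Agent.CohDev.AR
import Groth.Agent.AssSch.Basic
import Groth.Agent.HomShQC.Stalk
-- import your own Groth.Agent.* helpers here

set_option autoImplicit false
universe u
open CategoryTheory CategoryTheory.Limits AlgebraicGeometry
open Coherent

namespace Groth.Agent.S11167

open CategoryTheory AlgebraicGeometry TopologicalSpace Opposite
open Groth.Agent.PullStalk.Sky Groth.Agent.PullStalk.Exact Groth.Agent.AssSch.Stalk

variable {X : Scheme.{u}}

/-- The germs at `x` of the members of a finite family defined at `x`. -/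
def germs (G : X.Modules) (T : Set (Σ U : X.Opens, Γ(G, U))) (x : X) : Set (G.presheaf.stalk x) :=
  {t | ∃ p ∈ T, ∃ h : x ∈ p.1, germM G p.1 x h p.2 = t}

/-- The family generates the stalks on `E`. -/
def Good (G : X.Modules) (E : Set X) : Prop :=
  ∃ T : Finset (Σ U : X.Opens, Γ(G, U)),
    ∀ x ∈ E, Submodule.span (X.presheaf.stalk x) (germs G (T : Set _) x) = ⊤

lemma Good.union {G : X.Modules} {A B : Set X} (hA : Good G A) (hB : Good G B) : Good G (A ∪ B) := by
  classical
  obtain ⟨S, hS⟩ := hA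
  obtain ⟨T, hT⟩ := hB
  refine ⟨S ∪ T, fun x hx => eq_top_iff.mpr ?_⟩
  rcases hx with hx | hx
  · rw [← hS x hx]
    exact Submodule.span_mono fun t ⟨p, hp, h⟩ => ⟨p, Finset.mem_coe.mpr (Finset.mem_union_left _ hp), h⟩
  · rw [← hT x hx]
    exact Submodule.span_mono fun t ⟨p, hp, h⟩ => ⟨p, Finset.mem_coe.mpr (Finset.mem_union_right _ hp), h⟩

/-- Generation near a point along its closure. -/
theorem exists_nhd [IsNoetherian X] {G : X.Modules} (ι : G ⟶ Coh.structureModule X) [Mono ι] (η : X) :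
    ∃ W : X.Opens, η ∈ W ∧ Good G (closure {η} ∩ W) := by
  classical
  let O := Coh.structureModule X
  haveI : O.IsQuasicoherent := WeakAssSch.isQuasicoherent_unit X
  have hO : Coh.IsCoh O := HomShQC.isCoh_structureModule
  haveI : Module.Finite (X.presheaf.stalk η) (O.presheaf.stalk η) := FDesc.QuasiFlat.finite_stalk_of_isCoh O hO η
  haveI : Module.Finite (X.presheaf.stalk η) (G.presheaf.stalk η) :=
    Module.Finite.of_injective (stalkLin ι η) (CohDev.stalk_injective ι η)
  obtain ⟨k, t, ht⟩ := Module.Finite.exists_fin (R := X.presheaf.stalk η) (M := G.presheaf.stalk η)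
  choose U hU s hs using fun i => exists_germM_eq G η (t i)
  obtain ⟨V, hV, hηV, hVU⟩ := exists_isAffineOpen_mem_and_subset (X := X)
    (U := ⨅ i, U i) (x := η) ((TopologicalSpace.Opens.coe_iInf U).ge (Set.mem_iInter.mpr hU))
  have := IsLocallyNoetherian.component_noetherian ⟨V, hV⟩
  haveI : Module.Finite Γ(X, V) Γ(O, V) := CohDev.finite_sections hO hV
  have hle : ∀ i, V ≤ U i := fun i => (SetLike.coe_subset_coe.mp hVU).trans (iInf_le _ i)
  let s' : Fin k → Γ(G, V) := fun i => G.presheaf.map (homOfLE (hle i)).op (s i)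
  have hs' : ∀ i, germM G V η hηV (s' i) = t i := fun i =>
    (G.presheaf.germ_res_apply (homOfLE (hle i)) η hηV (s i)).trans (hs i)
  let m : Fin k → Γ(O, V) := fun i => ι.app V (s' i)
  let J : Submodule Γ(X, V) Γ(O, V) := Submodule.span _ (Set.range m)
  let p := primeOf hV η hηV
  have hfin : {q ∈ associatedPrimes Γ(X, V) (Γ(O, V) ⧸ J) | ¬ q ≤ p}.Finite :=
    (associatedPrimes.finite Γ(X, V) (Γ(O, V) ⧸ J)).subset fun q hq => hq.1
  have hgq : ∀ q ∈ hfin.toFinset, ∃ g ∈ q, g ∉ p := fun q hq =>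
    SetLike.not_le_iff_exists.mp (hfin.mem_toFinset.mp hq).2
  choose g hg hgp using hgq
  let a : Γ(X, V) := ∏ q : hfin.toFinset, g q.1 q.2
  have hap : a ∉ p := fun h => by
    obtain ⟨q, -, hq⟩ := (Ideal.IsPrime.prod_mem_iff (p := p)).mp h
    exact hgp q.1 q.2 hq
  refine ⟨X.basicOpen a, (mem_basicOpen_iff hV η hηV a).mpr hap,
    (Finset.univ : Finset (Fin k)).image (fun i => (⟨V, s' i⟩ : Σ U : X.Opens, Γ(G, U))), ?_⟩
  rintro y ⟨hy, hya⟩
  have hyV : y ∈ V := X.basicOpen_le a hya
  have hspec : η ⤳ y := specializes_iff_mem_closure.mpr hy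
  refine eq_top_iff.mpr fun v _ => ?_
  obtain ⟨c, u, hc, hu⟩ := exists_germ_smul_eq O hV y hyV (stalkLin ι y v)
  have hu1 : ∀ x ∈ Submodule.span (X.presheaf.stalk η) (Set.range fun i => germM O V η hηV (m i)),
      ∃ d : Γ(X, V), d ∉ p ∧ ∃ j ∈ J, X.presheaf.germ V η hηV d • x = germM O V η hηV j := by
    intro x hx
    induction hx using Submodule.span_induction with
    | mem x hx =>
      obtain ⟨i, rfl⟩ := hx
      exact ⟨1, fun h => (inferInstance : p.IsPrime).ne_top ((Ideal.eq_top_iff_one _).mpr h), m i,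
        Submodule.subset_span ⟨i, rfl⟩, by rw [map_one, one_smul]⟩
    | zero => exact ⟨1, fun h => (inferInstance : p.IsPrime).ne_top ((Ideal.eq_top_iff_one _).mpr h), 0,
        J.zero_mem, by rw [smul_zero, germM_zero]⟩
    | add x x' _ _ hx hx' =>
      obtain ⟨d, hd, j, hj, e⟩ := hx
      obtain ⟨d', hd', j', hj', e'⟩ := hx'
      refine ⟨d * d', fun h => ((inferInstance : p.IsPrime).mem_or_mem h).elim hd hd', d' • j + d • j',
        J.add_mem (J.smul_mem _ hj) (J.smul_mem _ hj'), ?_⟩
      rw [germM_add, germM_smul, germM_smul, ← e, ← e', map_mul, smul_add, smul_smul, smul_smul, mul_comm]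
    | smul r x _ hx =>
      obtain ⟨d, hd, j, hj, e⟩ := hx
      obtain ⟨⟨b, c'⟩, hbc⟩ := (by
        letI := TopCat.Presheaf.algebra_section_stalk X.presheaf (⟨η, hηV⟩ : V)
        haveI := hV.isLocalization_stalk ⟨η, hηV⟩
        exact IsLocalization.surj p.primeCompl r :
          ∃ q : Γ(X, V) × p.primeCompl, r * X.presheaf.germ V η hηV q.2.1 = X.presheaf.germ V η hηV q.1)
      refine ⟨c'.1 * d, fun h => ((inferInstance : p.IsPrime).mem_or_mem h).elim c'.2 hd, b • j,
        J.smul_mem _ hj, ?_⟩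
      rw [germM_smul, ← e, ← hbc, map_mul, smul_smul, smul_smul]
      ring_nf
  have hηspan : stalkLin ι η (G.presheaf.stalkSpecializes hspec v) ∈
      Submodule.span (X.presheaf.stalk η) (Set.range fun i => germM O V η hηV (m i)) := by
    have h1 : G.presheaf.stalkSpecializes hspec v ∈ Submodule.span (X.presheaf.stalk η) (Set.range t) := ht ▸ trivial
    have h2 := Submodule.apply_mem_span_image_of_mem_span (stalkLin ι η) h1
    rwa [← Set.range_comp, show (stalkLin ι η ∘ t) = fun i => germM O V η hηV (m i) from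
      funext fun i => (congrArg (stalkLin ι η) (hs' i).symm).trans (stalkLin_germ ι V η hηV _)] at h2
  obtain ⟨d, hd, j, hj, hdj⟩ := hu1 _ hηspan
  have hdη : X.presheaf.germ V η hηV (c * d) • stalkLin ι η (G.presheaf.stalkSpecializes hspec v) =
      germM O V η hηV (d • u) := by
    have h1 : O.presheaf.stalkSpecializes hspec (X.presheaf.germ V y hyV c • stalkLin ι y v) =
        X.presheaf.germ V η hηV c • stalkLin ι η (G.presheaf.stalkSpecializes hspec v) := by
      obtain ⟨O', hyO, w, rfl⟩ := exists_germM_eq G y v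
      let W' := O' ⊓ V
      have hyW : y ∈ W' := ⟨hyO, hyV⟩
      have hηW : η ∈ W' := hspec.mem_open W'.2 hyW
      rw [stalkLin_germ, show G.presheaf.stalkSpecializes hspec (germM G O' y hyO w) = germM G O' η (hspec.mem_open O'.2 hyO) w
          from TopCat.Presheaf.germ_stalkSpecializes_apply G.presheaf hyO hspec w, stalkLin_germ,
        show germM O O' y hyO (ι.app O' w) = germM O W' y hyW (QCoh.res O inf_le_left (ι.app O' w)) from
          (O.presheaf.germ_res_apply (homOfLE (inf_le_left : W' ≤ O')) y hyW _).symm,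
        ← X.presheaf.germ_res_apply (homOfLE (inf_le_right : W' ≤ V)) y hyW c, ← germM_smul,
        show O.presheaf.stalkSpecializes hspec (germM O W' y hyW _) = germM O W' η hηW _
          from TopCat.Presheaf.germ_stalkSpecializes_apply O.presheaf hyW hspec _, germM_smul,
        X.presheaf.germ_res_apply,
        show germM O W' η hηW (QCoh.res O inf_le_left (ι.app O' w)) = germM O O' η _ (ι.app O' w) from
          O.presheaf.germ_res_apply (homOfLE (inf_le_left : W' ≤ O')) η hηW _]
    rw [hu, show O.presheaf.stalkSpecializes hspec (germM O V y hyV u) = germM O V η hηV u from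
      TopCat.Presheaf.germ_stalkSpecializes_apply O.presheaf hyV hspec u] at h1
    rw [germM_smul, map_mul, mul_comm, mul_smul, ← h1]
  have hz : germM O V η hηV (d • u - c • j) = 0 := by
    rw [show germM O V η hηV (d • u - c • j) = germM O V η hηV (d • u) - germM O V η hηV (c • j) from map_sub _ _ _,
      ← hdη, germM_smul O V η hηV c j, ← hdj, map_mul, mul_smul, sub_self]
  obtain ⟨e, he, hez⟩ := (germM_eq_zero_iff O hV η hηV _).mp hz
  rw [smul_sub, sub_eq_zero] at hez
  have hcol : e * d ∈ (⊥ : Submodule Γ(X, V) (Γ(O, V) ⧸ J)).colon {Submodule.Quotient.mk u} := by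
    rw [Submodule.mem_colon_singleton, Submodule.mem_bot, ← Submodule.Quotient.mk_smul,
      Submodule.Quotient.mk_eq_zero, mul_smul, hez]
    exact J.smul_mem _ (J.smul_mem _ hj)
  obtain ⟨b, hb, hby⟩ : ∃ b ∈ (⊥ : Submodule Γ(X, V) (Γ(O, V) ⧸ J)).colon {Submodule.Quotient.mk u},
      b ∉ primeOf hV y hyV := by
    by_contra! hcon
    obtain ⟨q, hqm, hqy⟩ := Ideal.exists_minimalPrimes_le
      (show (⊥ : Submodule Γ(X, V) (Γ(O, V) ⧸ J)).colon {Submodule.Quotient.mk u} ≤ primeOf hV y hyV from hcon)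
    obtain ⟨z, hz'⟩ := Submodule.exists_eq_colon_of_mem_minimalPrimes (x := (Submodule.Quotient.mk u : Γ(O, V) ⧸ J)) hqm
    have hq : q ∈ associatedPrimes Γ(X, V) (Γ(O, V) ⧸ J) := Submodule.isAssociatedPrime_iff.mpr ⟨hqm.1.1, z, hz'⟩
    by_cases hqle : q ≤ p
    · exact ((inferInstance : p.IsPrime).mem_or_mem (hqle (hqm.1.2 hcol))).elim he hd
    · have hmem : q ∈ hfin.toFinset := hfin.mem_toFinset.mpr ⟨hq, hqle⟩
      refine (mem_basicOpen_iff hV y hyV a).mp hya (hqy ?_)
      obtain ⟨r, hr⟩ := Finset.dvd_prod_of_mem (fun q : hfin.toFinset => g q.1 q.2) (Finset.mem_univ ⟨q, hmem⟩)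
      exact (show a = g q hmem * r from hr) ▸ Ideal.mul_mem_right _ _ (hg q hmem)
  rw [Submodule.mem_colon_singleton, Submodule.mem_bot, ← Submodule.Quotient.mk_smul, Submodule.Quotient.mk_eq_zero] at hb
  have h2 := Props.SubMod.germ_mem_spanGerm_of_mem_span hb y hyV
  rw [germM_smul, ← hu, smul_smul] at h2
  have hunit : IsUnit (X.presheaf.germ V y hyV b * X.presheaf.germ V y hyV c) :=
    ((isUnit_germ_iff hV y hyV b).mpr hby).mul ((isUnit_germ_iff hV y hyV c).mpr hc)
  replace h2 := (Submodule.smul_mem_iff_of_isUnit _ hunit).mp h2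
  have himg : Props.SubMod.spanGerm (Set.range m) y hyV =
      (Submodule.span (X.presheaf.stalk y) (Set.range fun i => germM G V y hyV (s' i))).map (stalkLin ι y) := by
    rw [Submodule.map_span, Props.SubMod.spanGerm, ← Set.range_comp, ← Set.range_comp]
    congr 1
    exact congrArg Set.range (funext fun i => (stalkLin_germ ι V y hyV (s' i)).symm)
  rw [himg] at h2
  obtain ⟨v', hv', hvv⟩ := h2
  obtain rfl := CohDev.stalk_injective ι y hvv
  refine Submodule.span_mono ?_ hv'
  rintro _ ⟨i, rfl⟩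
  exact ⟨⟨V, s' i⟩, Finset.mem_coe.mpr (Finset.mem_image_of_mem _ (Finset.mem_univ i)), hyV, rfl⟩

theorem good_closed [IsNoetherian X] {G : X.Modules} (ι : G ⟶ Coh.structureModule X) [Mono ι] :
    ∀ Z : Closeds X, Good G (Z : Set X) := by
  intro Z
  induction Z using WellFoundedLT.induction with
  | _ Z IH =>
    rcases (Z : Set X).eq_empty_or_nonempty with h | h
    · exact ⟨∅, fun x hx => absurd (h ▸ hx : x ∈ (∅ : Set X)) id⟩
    by_cases hi : IsPreirreducible (Z : Set X)
    · obtain ⟨η, hη⟩ := QuasiSober.sober (⟨h, hi⟩ : IsIrreducible (Z : Set X)) Z.isClosed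
      obtain ⟨W, hW, hg⟩ := exists_nhd ι η
      let Z' : Closeds X := ⟨(Z : Set X) ∩ (W : Set X)ᶜ, Z.isClosed.inter W.isOpen.isClosed_compl⟩
      have hlt : Z' < Z := lt_of_le_of_ne (fun x hx => hx.1) fun e =>
        (show η ∈ (Z' : Set X) by rw [e]; exact hη.mem).2 hW
      rw [show (Z : Set X) = (closure {η} ∩ W) ∪ Z' by rw [hη.def]; exact (Set.inter_union_compl _ _).symm]
      exact hg.union (IH Z' hlt)
    · rw [isPreirreducible_iff_isClosed_union_isClosed] at hi
      push Not at hi
      obtain ⟨A, B, hA, hB, hAB, hnA, hnB⟩ := hi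
      let A' : Closeds X := ⟨(Z : Set X) ∩ A, Z.isClosed.inter hA⟩
      let B' : Closeds X := ⟨(Z : Set X) ∩ B, Z.isClosed.inter hB⟩
      have hlA : A' < Z := lt_of_le_of_ne (fun x hx => hx.1) fun e => hnA fun x hx =>
        (show x ∈ (A' : Set X) by rw [e]; exact hx).2
      have hlB : B' < Z := lt_of_le_of_ne (fun x hx => hx.1) fun e => hnB fun x hx =>
        (show x ∈ (B' : Set X) by rw [e]; exact hx).2
      rw [show (Z : Set X) = (A' : Set X) ∪ B' from (Set.inter_eq_left.mpr hAB).symm.trans (Set.inter_union_distrib_left _ _ _)]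
      exact (IH A' hlA).union (IH B' hlB)

/-- Let X be a Noetherian scheme and G ⟶ O_X a sub-O_X-module of the structure sheaf (a sheaf of ideals,
not necessarily quasi-coherent). Then there are finitely many opens U_i of X and finitely many
sections s_{ij} ∈ G(U_i) such that for every point x of X the germs at x of those s_{ij} with x ∈
U_i generate the stalk G_x as an O_{X,x}-module. -/
theorem result {X : Scheme.{u}} [IsNoetherian X]
    (G : X.Modules) (ι : G ⟶ Coh.structureModule X) [Mono ι] :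
    ∃ (m : ℕ) (U : Fin m → X.Opens) (k : Fin m → ℕ)
      (s : (i : Fin m) → Fin (k i) → (G.presheaf.obj (Opposite.op (U i)) : Type u)),
      ∀ x : X, Submodule.span (X.presheaf.stalk x)
          (Set.range (fun p : (Σ i : {i : Fin m // x ∈ U i}, Fin (k i.1)) =>
            (G.presheaf.germ (U p.1.1) x p.1.2) (s p.1.1 p.2))) = ⊤ := by
  classical
  obtain ⟨T, hT⟩ := good_closed ι (⊤ : TopologicalSpace.Closeds X)
  let e := T.equivFin
  refine ⟨T.card, fun i => (e.symm i).1.1, fun _ => 1, fun i _ => (e.symm i).1.2, fun x => ?_⟩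
  rw [← hT x trivial]
  congr 1
  ext t
  constructor
  · rintro ⟨⟨⟨i, hi⟩, j⟩, rfl⟩
    exact ⟨(e.symm i).1, Finset.mem_coe.mpr (e.symm i).2, hi, rfl⟩
  · rintro ⟨p, hp, h, rfl⟩
    obtain ⟨i, hi⟩ : ∃ i, e.symm i = ⟨p, hp⟩ := ⟨e ⟨p, hp⟩, e.symm_apply_apply _⟩
    cases congrArg Subtype.val hi
    exact ⟨⟨⟨i, h⟩, 0⟩, rfl⟩

end Groth.Agent.S11167
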