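import Groth.Statements.S11170
import Groth.Agent.GrModLib.NegTwist
import Groth.Agent.GrModLib.TwistInt
import Groth.Agent.AmpCrit.RelVan

set_option autoImplicit false
universe u
open CategoryTheory CategoryTheory.Limits AlgebraicGeometry
open Coherent

namespace Groth.Agent.S11170

/-- Let Y be a locally Noetherian scheme, f : P^n_Y ⟶ Y the projection, G_j quasi-coherent O_Y-modules
and m_j > 0. Then the direct sum L = ∐_j f^*(G_j) ⊗ O(-m_j) has R^i f_*(L) = 0 (higher direct images
of the underlying abelian sheaf) for every i ≠ n. -/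
theorem result (Y : Scheme.{u}) [IsLocallyNoetherian Y]
    (n : ℕ) {ι : Type u} (G : ι → Y.Modules) (hG : ∀ j, Coh.IsQCoh (G j)) (m : ι → ℕ) (hm : ∀ j, 0 < m j)
    (i : ℕ) (hi : i ≠ n) :
    IsZero ((Coh.RpushAb (CohB1.ProjSpaceOver.toBase n Y) i).obj (Coh.toAb
      (∐ fun j => CohB1.tensorMod ((Scheme.Modules.pullback (CohB1.ProjSpaceOver.toBase n Y)).obj (G j))
        (Twist.twistOver n Y (-((m j : ℕ) : ℤ)))))) := by
  let f := CohB1.ProjSpaceOver.toBase n Y
  let F := fun j => CohB1.tensorMod ((Scheme.Modules.pullback f).obj (G j))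
    (Twist.twistOver n Y (-((m j : ℕ) : ℤ)))
  haveI hFq : ∀ j, (F j).IsQuasicoherent := fun j => by
    haveI : (G j).IsQuasicoherent := hG j
    haveI : (Twist.twistOver n Y (-((m j : ℕ) : ℤ))).IsQuasicoherent :=
      Groth.Agent.TwistFlat.isQCoh_twistOver n Y _
    exact Groth.Agent.LimTop.TensorQC.isQuasicoherent_tensM _ _
  haveI : ∀ j, ((Discrete.functor F).obj j).IsQuasicoherent := fun j => hFq j.as
  haveI : (∐ F).IsQuasicoherent := Groth.Agent.QCoh.isQuasicoherent_colimit (Discrete.functor F)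
  refine Groth.Agent.GrModLib.isZero_RpushAb_of_charts f (∐ F) i fun V hV => ?_
  refine ⟨_, Groth.Agent.TwistFlat.chart n hV, Groth.Agent.TwistFlat.isOpenImmersion_chart n hV,
    Groth.Agent.GrModLib.opensRange_chart n hV, ?_⟩
  letI := Groth.Agent.TwistFlat.isOpenImmersion_chart n hV
  let c := Groth.Agent.TwistFlat.chart n hV
  let R := Scheme.Modules.restrictFunctor c
  haveI : PreservesColimitsOfSize.{u, u} R :=
    (Scheme.Modules.restrictAdjunction c).leftAdjoint_preservesColimits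
  haveI : ∀ j, (R.obj (F j)).IsQuasicoherent := fun j =>
    Scheme.Modules.isQuasicoherent_restrictFunctor c (F j)
  have hsub : ∀ j, Subsingleton (Coh.HH (CohB1.ProjSpace n Γ(Y, V)) (R.obj (F j)) i) := fun j => by
    obtain ⟨k, hk⟩ : ∃ k, m j = k + 1 := ⟨m j - 1, by have := hm j; omega⟩
    haveI : (G j).IsQuasicoherent := hG j
    obtain ⟨et⟩ := Groth.Agent.GrModLib.nonempty_restrict_twistOver n hV (-((m j : ℕ) : ℤ))
    let e₁ : ((Scheme.Modules.pullback f).obj (G j)).restrict c ≅
        (Groth.Agent.GrModLib.NegTwist.pb n Γ(Y, V)).obj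
          ((Scheme.Modules.pullback hV.fromSpec).obj (G j)) :=
      (Scheme.Modules.restrictFunctorIsoPullback c).app _ ≪≫
        (Scheme.Modules.pullbackComp c f).app _ ≪≫
        (Scheme.Modules.pullbackCongr (Groth.Agent.TwistFlat.isPullback_chart n hV).w.symm).app _ ≪≫
        ((Scheme.Modules.pullbackComp _ hV.fromSpec).app _).symm
    let e : R.obj (F j) ≅ Groth.Agent.ProjTwist.Pn.twF ((Groth.Agent.GrModLib.NegTwist.pb n Γ(Y, V)).obj
          ((Scheme.Modules.pullback hV.fromSpec).obj (G j))) (-((m j : ℕ) : ℤ)) :=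
      Groth.Agent.AmpCrit.RelVan.restrictTensIso c _ _ ≪≫ Groth.Agent.ProjTwist.tensCongr e₁ et
    have h := Groth.Agent.GrModLib.NegTwist.subsingleton_neg
      ((Scheme.Modules.pullback hV.fromSpec).obj (G j)) k i hi
    rw [show -((k : ℤ) + 1) = -((m j : ℕ) : ℤ) by rw [hk]; push_cast; ring] at h
    exact @Groth.Agent.ProjTwist.Pn.subsingleton_of_iso n Γ(Y, V) _ _ _ e.symm i h
  have h := Groth.Agent.GrModLib.NegTwist.hh_coprod (fun j => R.obj (F j)) i hsub
  exact @Groth.Agent.ProjTwist.Pn.subsingleton_of_iso n Γ(Y, V) _ _ _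
    (PreservesCoproduct.iso R F).symm i h

end Groth.Agent.S11170
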