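import Groth.Statements.S11175
import Groth.Agent.Gor.LocCohCriterion
import Groth.Agent.DualCx.GorNormal

set_option autoImplicit false
universe u
open CategoryTheory
open Goren

namespace Groth.Agent.S11175

/-- A Noetherian local ring A with maximal ideal m is Gorenstein (A has finite injective dimension as a
module over itself) if and only if there is a natural number d such that the local cohomology
modules H^i_m(A) (direct limits of Ext^i(A/m^n, A)) vanish for all i ≠ d and H^d_m(A) is an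
injective A-module. -/
theorem result (A : Type u) [CommRing A] [IsLocalRing A] [IsNoetherianRing A] : LocCoh.IsGorensteinLocalRing A ↔ ∃ d : ℕ, (∀ i : ℕ, i ≠ d → Subsingleton (LocCoh.H (IsLocalRing.maximalIdeal A) i A)) ∧ Module.Injective A (LocCoh.H (IsLocalRing.maximalIdeal A) d A) := by
  refine ⟨fun hG => ?_, fun ⟨d, h, hinj⟩ => Gor.LocCohCriterion.isGorensteinLocalRing d h hinj⟩
  obtain ⟨d, hd⟩ := Gor.Basic.exists_natCast_ringKrullDim (A := A)
  obtain ⟨E, _, _, f, hf⟩ := InjHull.Basic.exists_isInjectiveHull A (IsLocalRing.ResidueField A)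
  let ω : Dual.D A := (Dual.inD A A)⟦(d : ℤ)⟧
  have e := fun i => DualCx.LocalDuality.nonempty_H_equiv (ω := ω) (DualCx.GorNormal.isDualizing hd)
    (DualCx.GorNormal.isNormalized hd) hf A i
  let eHD : ∀ i : ℕ, (Dual.inD A A ⟶ ω⟦(-(i : ℤ))⟧) ≃ₗ[A] Dual.HD A (Dual.inD A A) ((d : ℤ) - i) := fun i =>
    (DualCx.Normalized.shiftE A (Dual.inD A A) (d : ℤ) _ _ (by ring)).trans (DualCx.Cx.homUnitEquivShift _ _)
  refine ⟨d, fun i hi => ?_, ?_⟩
  · obtain ⟨e⟩ := e i
    have := DRing.PC.subsingleton_HD_inD A A ((d : ℤ) - i) (by omega)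
    have : Subsingleton (Dual.inD A A ⟶ ω⟦(-(i : ℤ))⟧) := (eHD i).toEquiv.subsingleton
    exact e.toEquiv.subsingleton
  · obtain ⟨e⟩ := e d
    have h0 : ((d : ℤ) - d) = 0 := sub_self _
    let e1 : (Dual.inD A A ⟶ ω⟦(-(d : ℤ))⟧) ≃ₗ[A] A :=
      (eHD d).trans (h0 ▸ (DRing.PC.inDIso A A).toLinearEquiv)
    exact InjHull.Basic.injective_of_equiv hf.isInjective
      ((e.trans ((LinearEquiv.congrLeft E A e1).trans (LinearMap.ringLmapEquivSelf A A E))).symm)

end Groth.Agent.S11175
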