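import Groth.Statements.S1787
import Groth.Agent.DualCx.LocalGlobal

set_option autoImplicit false
universe u
open CategoryTheory
attribute [local instance] HasDerivedCategory.standard
open Dual

namespace Groth.Agent.S1787

open scoped TensorProduct

theorem away_finite {A : Type u} [CommRing A] {n : ℕ} (f : Fin n → A)
    (hf : Ideal.span (Set.range f) = ⊤) (N : Type*) [AddCommGroup N] [Module A N]
    (h : ∀ i, Module.Finite (Localization.Away (f i)) (Localization.Away (f i) ⊗[A] N)) :
    Module.Finite A N := by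
  refine Module.Finite.of_localizationSpan _ hf fun ⟨g, hg⟩ => ?_
  obtain ⟨i, rfl⟩ := hg
  have := h i
  exact Module.Finite.equiv
    (LocalizedModule.equivTensorProduct (Submonoid.powers (f i)) N).symm

open scoped TensorProduct in
theorem away_subsingleton {A : Type u} [CommRing A] {n : ℕ} (f : Fin n → A)
    (hf : Ideal.span (Set.range f) = ⊤) (N : Type*) [AddCommGroup N] [Module A N]
    (h : ∀ i, Subsingleton (Localization.Away (f i) ⊗[A] N)) : Subsingleton N := by
  refine subsingleton_of_forall_eq 0 fun x => (Submodule.mem_bot A).mp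
    (Submodule.mem_of_span_eq_top_of_smul_pow_mem _ (Set.range f) hf x ?_)
  rintro ⟨_, i, rfl⟩
  obtain ⟨⟨_, k, rfl⟩, hk⟩ := (IsLocalizedModule.eq_zero_iff (Submonoid.powers (f i))
    (TensorProduct.mk A (Localization.Away (f i)) N 1) (m := x)).mp ((h i).elim _ _)
  exact ⟨k, hk⟩

theorem away_isLocalizedModule_id {A : Type u} [CommRing A] (m : Ideal A) [m.IsMaximal] (g : A)
    (hg : g ∉ m) (N : Type*) [AddCommGroup N] [Module A N] (hN : ∀ a ∈ m, ∀ x : N, a • x = 0) :
    IsLocalizedModule (Submonoid.powers g) (LinearMap.id : N →ₗ[A] N) := by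
  have := DualCx.Extended.isLocalizedModule_id m N hN
  exact IsLocalizedModule.mk
    (fun s => this.map_units ⟨s.1, by
      obtain ⟨k, hk⟩ := s.2
      exact fun hs => hg ((inferInstance : m.IsPrime).mem_of_pow_mem k (by rw [← hk] at hs; exact hs))⟩)
    (fun y => ⟨(y, 1), by simp⟩) (fun {x y} h => ⟨1, by simpa using h⟩)


/-- Let A be a Noetherian ring and f_1, …, f_n elements generating the unit ideal. Let ω be an object of
D(A) such that for each i, assuming the derived base change functor D(A) → D(A_{f_i}) exists, the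
base change of ω is a dualizing complex for A_{f_i}. Then ω is a dualizing complex for A. -/
theorem result (A : Type u) [CommRing A] [IsNoetherianRing A] (n : ℕ) (f : Fin n → A) (hf : Ideal.span (Set.range f) = ⊤) (ω : Dual.D A) (h : ∀ i : Fin n, ∃ _ : DRing.HasLBaseChange (algebraMap A (Localization.Away (f i))), Dual.IsDualizing (Localization.Away (f i)) ((DRing.LBaseChange (algebraMap A (Localization.Away (f i)))).obj ω)) : Dual.IsDualizing A ω := by
  have hh : ∀ i, Dual.IsDualizing (Localization.Away (f i))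
      ((DualCx.BaseChange.FD A (Localization.Away (f i))).obj ω) := fun i => by
    have : Module.Flat A (Localization.Away (f i)) :=
      IsLocalization.flat _ (Submonoid.powers (f i))
    obtain ⟨_, hp⟩ := h i
    obtain ⟨e⟩ := DualCx.FlatBC.nonempty_LBaseChange (A := A) (B := Localization.Away (f i)) ω
    exact DualCx.FlatBC.isDualizing_of_iso e hp
  have hflat : ∀ i, Module.Flat A (Localization.Away (f i)) := fun i =>
    IsLocalization.flat _ (Submonoid.powers (f i))
  classical
  choose c hc using fun i => DualCx.Residue.exists_cohomology_bounds (hh i)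
  choose c' hc using hc
  choose amp₀ amp hamp using fun i => (hh i).finite_injective_dimension
  obtain ⟨a, ha⟩ : ∃ a : ℤ, ∀ i, a ≤ c i :=
    ⟨-∑ i, |c i|, fun i => by
      have := Finset.single_le_sum (f := fun i => |c i|) (fun _ _ => abs_nonneg _) (Finset.mem_univ i)
      have := neg_abs_le (c i)
      omega⟩
  obtain ⟨b, hb⟩ : ∃ b : ℤ, ∀ i, amp i ≤ b :=
    ⟨∑ i, |amp i|, fun i => (le_abs_self _).trans
      (Finset.single_le_sum (f := fun i => |amp i|) (fun _ _ => abs_nonneg _) (Finset.mem_univ i))⟩
  have : ω.IsGE a := (DerivedCategory.isGE_iff ω a).mpr fun j hj =>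
    (DRing.DBasic.subsingleton_HD_iff_isZero ω j).mp (away_subsingleton f hf _ fun i => by
      have := hc i j (Or.inl (by have := ha i; omega))
      exact (DualCx.BaseChange.HDEquiv A (Localization.Away (f i)) ω j).toEquiv.subsingleton)
  have hfin : ∀ j, Module.Finite A (Dual.HD A ω j) := fun j => away_finite f hf _ fun i => by
    have := (hh i).finite_cohomology j
    exact Module.Finite.equiv (DualCx.BaseChange.HDEquiv A (Localization.Away (f i)) ω j).symm
  refine DualCx.Biduality.isDualizing ω a hfin b fun m hm => ?_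
  obtain ⟨i, hi⟩ : ∃ i, f i ∉ m := by
    by_contra! hall
    exact hm.ne_top (top_le_iff.mp (hf ▸ Ideal.span_le.mpr (by rintro _ ⟨i, rfl⟩; exact hall i)))
  let B := Localization.Away (f i)
  have hdisj : Disjoint (Submonoid.powers (f i) : Set A) (m : Set A) :=
    Set.disjoint_left.mpr fun x ⟨k, hk⟩ hxm => hi (hm.isPrime.mem_of_pow_mem k (by rw [← hk] at hxm; exact hxm))
  let mB : Ideal B := m.map (algebraMap A B)
  have hcomap : mB.comap (algebraMap A B) = m :=
    IsLocalization.under_map_of_isPrime_disjoint (Submonoid.powers (f i)) B hm.isPrime hdisj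
  have hmB : mB.IsMaximal := by
    refine ⟨⟨fun h1 => hm.ne_top ?_, fun J hJ => ?_⟩⟩
    · rw [← hcomap, h1, Ideal.comap_top]
    · have hle : m ≤ J.comap (algebraMap A B) := hcomap ▸ Ideal.comap_mono hJ.le
      rw [← IsLocalization.map_under (Submonoid.powers (f i)) B J]
      rcases eq_or_ne (J.comap (algebraMap A B)) ⊤ with h' | h'
      · change (J.comap (algebraMap A B)).map (algebraMap A B) = ⊤
        rw [h', Ideal.map_top]
      · refine absurd ?_ hJ.ne
        exact (congrArg (Ideal.map (algebraMap A B)) (hm.eq_of_le h' hle)).trans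
          (IsLocalization.map_under (Submonoid.powers (f i)) B J)
  obtain ⟨d, hv, ⟨e⟩⟩ := DualCx.Extended.residue_single_maximal (B := Localization.AtPrime mB)
    (hh i) mB
  obtain ⟨eq⟩ := DualCx.FlatBC.nonempty_quotient (B := B) m
  let eE : ∀ j, B ⊗[A] DualCx.Devissage.E (A ⧸ m) ω j ≃ₗ[B]
      DualCx.Devissage.E (B ⧸ mB) ((DualCx.BaseChange.FD A B).obj ω) j :=
    fun j => (DualCx.FlatBC.homLEquiv ω a (A ⧸ m) j).trans (DualCx.Devissage.congrE eq _ j)
  have eloc : ∀ (N : Type (u + 1)) [AddCommGroup N] [Module A N], (∀ a ∈ m, ∀ x : N, a • x = 0) →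
      Nonempty (N ≃ₗ[A] B ⊗[A] N) := fun N _ _ hN =>
    have := away_isLocalizedModule_id m (f i) hi N hN
    ⟨IsLocalizedModule.linearEquiv (Submonoid.powers (f i)) LinearMap.id (TensorProduct.mk A B N 1)⟩
  obtain ⟨eQ⟩ : Nonempty ((A ⧸ m) ≃ₗ[A] B ⊗[A] (A ⧸ m)) :=
    have := away_isLocalizedModule_id m (f i) hi (A ⧸ m) fun r hr x => by
      obtain ⟨x, rfl⟩ := Submodule.Quotient.mk_surjective m x
      rw [← Submodule.Quotient.mk_smul, Submodule.Quotient.mk_eq_zero]
      exact Ideal.mul_mem_right _ _ hr
    ⟨IsLocalizedModule.linearEquiv (Submonoid.powers (f i)) LinearMap.id (TensorProduct.mk A B _ 1)⟩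
  have eD := fun j => eloc _ (DualCx.LocalGlobal.smul_E_quot m (K := ω) j)
  refine ⟨d, ?_, fun j hj => ?_, ?_⟩
  · by_contra hlt
    have := hamp i (B ⧸ mB) d (Or.inr (by have := hb i; omega))
    exact not_subsingleton (B ⧸ mB) e.symm.toEquiv.subsingleton
  · obtain ⟨e'⟩ := eD j
    have := hv j hj
    exact (e'.toEquiv.trans (eE j).toEquiv).subsingleton
  · obtain ⟨e'⟩ := eD d
    exact ⟨e'.trans ((((eE d).trans e).trans eq.symm).restrictScalars A |>.trans eQ.symm)⟩

end Groth.Agent.S1787
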