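import Groth.Statements.S11177
import Groth.Agent.DualCx.Smooth
import Groth.Agent.S1787
import Mathlib.RingTheory.Smooth.Flat

set_option autoImplicit false
universe u
open CategoryTheory
attribute [local instance] HasDerivedCategory.standard
open Dual

namespace Groth.Agent.S11177

/-- Let A be a Noetherian ring, A → B a smooth ring homomorphism (formally smooth and of finite
presentation), and ω a dualizing complex for A. Assuming the derived base change functor D(A) → D(B)
(the total left derived functor of extension of scalars) exists, the derived base change ω ⊗^L_A B
is a dualizing complex for B. (The published statement is for a smooth morphism of finite type to a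
Noetherian scheme and concludes that the pull-back of a dualizing complex twisted by the top
relative differentials, shifted by the relative dimension, is dualizing; removing that invertible
twist does not affect being dualizing.) -/
theorem result (A B : Type u) [CommRing A] [CommRing B] [Algebra A B] [IsNoetherianRing A] [Algebra.Smooth A B] [DRing.HasLBaseChange (algebraMap A B)] (ω : Dual.D A) (hω : Dual.IsDualizing A ω) : Dual.IsDualizing B ((DRing.LBaseChange (algebraMap A B)).obj ω) := by
  have : IsNoetherianRing B := Algebra.FiniteType.isNoetherianRing A B
  obtain ⟨s, hs, hstd⟩ := Algebra.Smooth.exists_span_eq_top_isStandardSmooth A B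
  obtain ⟨t, hts, ht⟩ := (Ideal.span_eq_top_iff_finite s).mp hs
  obtain ⟨e⟩ := DualCx.FlatBC.nonempty_LBaseChange (A := A) (B := B) ω
  refine DualCx.FlatBC.isDualizing_of_iso e.symm (S1787.result B t.card
    (fun i => (t.equivFin.symm i : B)) ?_ _ fun i => ?_)
  · rw [← ht]
    congr 1
    ext x
    exact ⟨fun ⟨i, hi⟩ => hi ▸ (t.equivFin.symm i).2, fun hx => ⟨t.equivFin ⟨x, hx⟩, by simp⟩⟩
  · set g : B := (t.equivFin.symm i : B)
    have := hstd g (hts (t.equivFin.symm i).2)
    have : Module.Flat B (Localization.Away g) := IsLocalization.flat _ (Submonoid.powers g)
    have : Module.Flat A (Localization.Away g) := Module.Flat.trans A B (Localization.Away g)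
    have hd := DualCx.Smooth.isDualizing_standardSmooth (B := Localization.Away g) hω
    obtain ⟨e1⟩ := DualCx.Comp.nonempty_iso A B (Localization.Away g) ω
    have hL : DRing.HasLBaseChange (algebraMap B (Localization.Away g)) :=
      DRing.LTensor.hasLBaseChange _
    obtain ⟨e2⟩ := DualCx.FlatBC.nonempty_LBaseChange (A := B) (B := Localization.Away g)
      ((DualCx.BaseChange.FD A B).obj ω)
    exact ⟨hL, DualCx.FlatBC.isDualizing_of_iso (e1 ≪≫ e2.symm) hd⟩

end Groth.Agent.S11177
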