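import Groth.Statements.S11181
import Groth.Agent.CompleteFlat.Basic
-- import your own Groth.Agent.* helpers here

set_option autoImplicit false
universe u
open scoped TensorProduct
open CAlg

namespace Groth.Agent.S11181

open Groth.Agent.CompleteFlat

variable (A : Type u) [CommRing A]

/-- Families. -/
abbrev Fam (M : Type u) [AddCommGroup M] [Module A M] : Type (u+1) :=
  ∀ (B : Type u) [CommRing B] [Algebra A B] [IsNoetherianRing B] [IsLocalRing B],
    IsAdicComplete (IsLocalRing.maximalIdeal B) B → Module.Flat A B → TensorProduct A B M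

/-- Compatible families. -/
def Compat {M : Type u} [AddCommGroup M] [Module A M] (x : Fam A M) : Prop :=
  ∀ (B : Type u) [CommRing B] [Algebra A B] [IsNoetherianRing B] [IsLocalRing B]
    (hB : IsAdicComplete (IsLocalRing.maximalIdeal B) B) (hBf : Module.Flat A B)
    (B' : Type u) [CommRing B'] [Algebra A B'] [IsNoetherianRing B'] [IsLocalRing B']
    (hB' : IsAdicComplete (IsLocalRing.maximalIdeal B') B') (hB'f : Module.Flat A B') (g : B →ₐ[A] B'),
    LinearMap.rTensor M g.toLinearMap (x B hB hBf) = x B' hB' hB'f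

/-- The property to be proved by dévissage. -/
def Good (M : Type u) [AddCommGroup M] [Module A M] : Prop :=
  ∀ x : Fam A M, Compat A x → ∃ m : M,
    ∀ (B : Type u) [CommRing B] [Algebra A B] [IsNoetherianRing B] [IsLocalRing B]
      (hB : IsAdicComplete (IsLocalRing.maximalIdeal B) B) (hBf : Module.Flat A B), x B hB hBf = (1 : B) ⊗ₜ[A] m

variable {A}

theorem rTensor_one {B B' : Type u} [CommRing B] [Algebra A B] [CommRing B'] [Algebra A B']
    (g : B →ₐ[A] B') {M : Type u} [AddCommGroup M] [Module A M] (m : M) :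
    LinearMap.rTensor M g.toLinearMap ((1 : B) ⊗ₜ[A] m) = (1 : B') ⊗ₜ[A] m := by
  rw [LinearMap.rTensor_tmul, AlgHom.toLinearMap_apply, map_one]

theorem compat_map {M N : Type u} [AddCommGroup M] [Module A M] [AddCommGroup N] [Module A N]
    (l : M →ₗ[A] N) (x : Fam A M) (hx : Compat A x) :
    Compat A (fun B _ _ _ _ hB hBf => LinearMap.lTensor B l (x B hB hBf)) := by
  intro B _ _ _ _ hB hBf B' _ _ _ _ hB' hB'f g
  rw [← LinearMap.comp_apply, LinearMap.rTensor_comp_lTensor, ← LinearMap.lTensor_comp_rTensor,
    LinearMap.comp_apply, hx B hB hBf B' hB' hB'f g]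

theorem good_equiv {M N : Type u} [AddCommGroup M] [Module A M] [AddCommGroup N] [Module A N]
    (e : M ≃ₗ[A] N) (h : Good A N) : Good A M := by
  intro x hx
  obtain ⟨n, hn⟩ := h _ (compat_map e.toLinearMap x hx)
  refine ⟨e.symm n, fun B _ _ _ _ hB hBf => ?_⟩
  have := congrArg (LinearMap.lTensor B e.symm.toLinearMap) (hn B hB hBf)
  rwa [← LinearMap.comp_apply, ← LinearMap.lTensor_comp, LinearEquiv.comp_coe, LinearEquiv.self_trans_symm,
    LinearEquiv.refl_toLinearMap, LinearMap.lTensor_id, LinearMap.id_apply, LinearMap.lTensor_tmul] at this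

theorem good_exact {M₁ M₂ M₃ : Type u} [AddCommGroup M₁] [Module A M₁] [AddCommGroup M₂] [Module A M₂]
    [AddCommGroup M₃] [Module A M₃] (f : M₁ →ₗ[A] M₂) (g : M₂ →ₗ[A] M₃) (hf : Function.Injective f)
    (hg : Function.Surjective g) (hfg : Function.Exact f g) (h₁ : Good A M₁) (h₃ : Good A M₃) : Good A M₂ := by
  intro x hx
  obtain ⟨m₃, hm₃⟩ := h₃ _ (compat_map g x hx)
  obtain ⟨m, rfl⟩ := hg m₃
  have key : ∀ (B : Type u) [CommRing B] [Algebra A B] [IsNoetherianRing B] [IsLocalRing B]
      (hB : IsAdicComplete (IsLocalRing.maximalIdeal B) B) (hBf : Module.Flat A B),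
      ∃ y, LinearMap.lTensor B f y = x B hB hBf - (1 : B) ⊗ₜ[A] m := by
    intro B _ _ _ _ hB hBf
    exact (lTensor_exact B hfg hg _).mp (by rw [map_sub, hm₃ B hB hBf, LinearMap.lTensor_tmul, sub_self])
  choose y hy using key
  obtain ⟨m₁, hm₁⟩ := h₁ y (by
    intro B _ _ _ _ hB hBf B' _ _ _ _ hB' hB'f g'
    apply Module.Flat.lTensor_preserves_injective_linearMap (M := B') f hf
    rw [hy B' hB' hB'f, ← LinearMap.comp_apply, LinearMap.lTensor_comp_rTensor,
      ← LinearMap.rTensor_comp_lTensor, LinearMap.comp_apply, hy B hB hBf, map_sub,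
      hx B hB hBf B' hB' hB'f g', rTensor_one])
  refine ⟨m + f m₁, fun B _ _ _ _ hB hBf => ?_⟩
  rw [TensorProduct.tmul_add, ← LinearMap.lTensor_tmul B f, ← hm₁ B hB hBf, hy B hB hBf, add_sub_cancel]

set_option maxHeartbeats 1000000 in
theorem good_prime [IsNoetherianRing A] (p : Ideal A) [p.IsPrime] : Good A (A ⧸ p) := by
  classical
  intro x hx
  have hsm : ∀ a : A, a ∉ p → Function.Injective (fun z : A ⧸ p => a • z) := by
    intro a ha u v huv
    have h' : Ideal.Quotient.mk p a * u = Ideal.Quotient.mk p a * v := huv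
    exact mul_left_cancel₀ (fun h => ha (Ideal.Quotient.eq_zero_iff_mem.mp h)) h'
  let P₀ := Comp A p
  let xp := x P₀ (comp_isAdicComplete A p) (comp_flat A p Module.Flat.self)
  obtain ⟨a, b, hb, hab⟩ : ∃ a b : A, b ∉ p ∧ b • xp = (1 : P₀) ⊗ₜ[A] Ideal.Quotient.mk p a := by
    let L := Localization.AtPrime p
    have hsurj : Function.Surjective (LinearMap.rTensor (A ⧸ p) (IsScalarTower.toAlgHom A L P₀).toLinearMap) := by
      intro z
      induction z with
      | zero => exact ⟨0, map_zero _⟩
      | add u v hu hv =>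
        obtain ⟨u', rfl⟩ := hu; obtain ⟨v', rfl⟩ := hv; exact ⟨u' + v', map_add _ _ _⟩
      | tmul c d =>
        obtain ⟨d, rfl⟩ := Ideal.Quotient.mk_surjective d
        obtain ⟨y, rfl⟩ := AdicCompletion.mk_surjective (IsLocalRing.maximalIdeal L) L c
        let c₁ : L := y 1
        refine ⟨c₁ ⊗ₜ Ideal.Quotient.mk p d, ?_⟩
        rw [LinearMap.rTensor_tmul, AlgHom.toLinearMap_apply, IsScalarTower.coe_toAlgHom']
        have hmem : AdicCompletion.mk (IsLocalRing.maximalIdeal L) L y - algebraMap L P₀ c₁ ∈ p.map (algebraMap A P₀) := by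
          rw [IsScalarTower.algebraMap_eq A L P₀, ← Ideal.map_map, Localization.AtPrime.map_eq_maximalIdeal,
            ← AdicCompletion.maximalIdeal_eq_map, AdicCompletion.mem_maximalIdeal_iff_eval_one_eq_zero]
          erw [AdicCompletion.val_sub_apply]
          exact sub_eq_zero.mpr (rfl)
        have hkill : ∀ q ∈ p.map (algebraMap A P₀), ∀ e : A ⧸ p, (q : P₀) ⊗ₜ[A] e = 0 := by
          intro q hq
          induction hq using Submodule.span_induction with
          | mem q hq =>
            obtain ⟨r, hr, rfl⟩ := hq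
            intro e
            rw [Algebra.algebraMap_eq_smul_one, TensorProduct.smul_tmul, Algebra.smul_def,
              Ideal.Quotient.algebraMap_eq, Ideal.Quotient.eq_zero_iff_mem.mpr hr, zero_mul, TensorProduct.tmul_zero]
          | zero => simp
          | add _ _ _ _ h1 h2 => intro e; rw [TensorProduct.add_tmul, h1, h2, add_zero]
          | smul s q _ h1 =>
            intro e
            rw [smul_eq_mul, ← smul_eq_mul, ← TensorProduct.smul_tmul', h1, smul_zero]
        have := hkill _ hmem (Ideal.Quotient.mk p d)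
        rw [TensorProduct.sub_tmul, sub_eq_zero] at this
        exact this.symm
    obtain ⟨w, hw⟩ := hsurj xp
    obtain ⟨⟨a', s⟩, hs⟩ := IsLocalizedModule.surj p.primeCompl
      (TensorProduct.mk A L (A ⧸ p) 1) w
    obtain ⟨a, rfl⟩ := Ideal.Quotient.mk_surjective a'
    refine ⟨a, s, s.2, ?_⟩
    rw [← hw, ← map_smul]
    change _ = _
    have hs' : (s : A) • w = (1 : L) ⊗ₜ[A] Ideal.Quotient.mk p a := hs
    rw [hs', rTensor_one]
  have key : ∀ (B : Type u) [CommRing B] [Algebra A B] [IsNoetherianRing B] [IsLocalRing B]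
      (hB : IsAdicComplete (IsLocalRing.maximalIdeal B) B) (hBf : Module.Flat A B),
      b • x B hB hBf = (1 : B) ⊗ₜ[A] Ideal.Quotient.mk p a := by
    intro B _ _ _ _ hB hBf
    rw [← sub_eq_zero]
    by_contra hne
    obtain ⟨P, hP, hle⟩ := exists_le_isAssociatedPrime_of_isNoetherianRing B _ hne
    have := hP.isPrime
    obtain ⟨-, w, hw⟩ := (isAssociatedPrime_iff).mp hP
    have hPp : P.comap (algebraMap A B) = p := by
      ext r
      rw [Ideal.mem_comap, hw, Submodule.mem_colon_singleton, Submodule.mem_bot]
      constructor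
      · intro h
        by_contra hr
        have hinj : Function.Injective (LinearMap.lTensor B (LinearMap.lsmul A (A ⧸ p) r)) :=
          Module.Flat.lTensor_preserves_injective_linearMap (M := B) _ (hsm r hr)
        have hw0 : w = 0 := by
          apply hinj
          rw [map_zero, show LinearMap.lTensor B (LinearMap.lsmul A (A ⧸ p) r) w = r • w from ?_]
          · rwa [algebraMap_smul] at h
          · clear h hw
            induction w using TensorProduct.induction_on with
            | zero => simp
            | tmul u v => simp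
            | add u v hu hv => rw [map_add, hu, hv, smul_add]
        apply hP.isPrime.ne_top
        rw [hw, hw0, Ideal.eq_top_iff_one, Submodule.mem_colon_singleton, smul_zero]
        exact Submodule.zero_mem _
      · intro hr
        rw [algebraMap_smul]
        clear hw
        induction w using TensorProduct.induction_on with
        | zero => simp
        | tmul u v =>
          rw [← TensorProduct.tmul_smul, Algebra.smul_def, Ideal.Quotient.algebraMap_eq,
            Ideal.Quotient.eq_zero_iff_mem.mpr hr, zero_mul, TensorProduct.tmul_zero]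
        | add u v hu hv => rw [smul_add, hu, hv, add_zero]
    let B' := Comp B P
    have hB'f : Module.Flat A B' := comp_flat B P hBf
    have hB' : IsAdicComplete (IsLocalRing.maximalIdeal B') B' := comp_isAdicComplete B P
    have hloc : IsLocalHom (algebraMap (Localization.AtPrime P) B') := inferInstance
    have hmax : (IsLocalRing.maximalIdeal B').comap (algebraMap A B') = p := by
      rw [IsScalarTower.algebraMap_eq A B B', ← Ideal.comap_comap,
        IsScalarTower.algebraMap_eq B (Localization.AtPrime P) B', ← Ideal.comap_comap,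
        IsLocalRing.maximalIdeal_comap,
        show Ideal.comap (algebraMap B (Localization.AtPrime P)) (IsLocalRing.maximalIdeal (Localization.AtPrime P)) = P from Localization.AtPrime.under_maximalIdeal, hPp]
    obtain ⟨g⟩ := exists_algHom_comp p B' hB' hmax
    have h1 := hx P₀ (comp_isAdicComplete A p) (comp_flat A p Module.Flat.self) B' hB' hB'f g
    have h2 := hx B hB hBf B' hB' hB'f (toComp B P)
    have h3 : LinearMap.rTensor (A ⧸ p) (toComp (A := A) B P).toLinearMap
        (b • x B hB hBf - (1 : B) ⊗ₜ[A] Ideal.Quotient.mk p a) = 0 := by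
      rw [map_sub, map_smul, h2, ← h1, rTensor_one, ← map_smul, hab, rTensor_one, sub_self]
    obtain ⟨s, hs, hs'⟩ := exists_smul_eq_zero_of_comp (A ⧸ p) B P _ h3
    exact hs (hle (Submodule.mem_colon_singleton.mpr (by rw [hs']; exact Submodule.zero_mem _)))
  have hdvd : Ideal.Quotient.mk p a ∈ LinearMap.range (LinearMap.lsmul A (A ⧸ p) b) := by
    rw [← Submodule.Quotient.mk_eq_zero]
    apply eq_zero_of_forall (A := A)
    intro B _ _ _ _ hB hBf
    have h1 := congrArg (LinearMap.lTensor B (LinearMap.range (LinearMap.lsmul A (A ⧸ p) b)).mkQ) (key B hB hBf)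
    rw [map_smul, ← LinearMap.smul_apply, ← LinearMap.lTensor_smul] at h1
    have h0 : b • (LinearMap.range (LinearMap.lsmul A (A ⧸ p) b)).mkQ = 0 :=
      LinearMap.ext fun z => (Submodule.Quotient.mk_eq_zero _).mpr ⟨z, rfl⟩
    rw [h0, LinearMap.lTensor_zero, LinearMap.zero_apply, LinearMap.lTensor_tmul] at h1
    exact h1.symm
  obtain ⟨d, hd⟩ := hdvd
  refine ⟨d, fun B _ _ _ _ hB hBf => ?_⟩
  have hinj : Function.Injective (LinearMap.lTensor B (LinearMap.lsmul A (A ⧸ p) b)) :=
    Module.Flat.lTensor_preserves_injective_linearMap (M := B) _ (hsm b hb)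
  have hl : ∀ z, LinearMap.lTensor B (LinearMap.lsmul A (A ⧸ p) b) z = b • z := by
    intro z
    induction z using TensorProduct.induction_on with
    | zero => simp
    | tmul u v => simp
    | add u v hu hv => rw [map_add, hu, hv, smul_add]
  apply hinj
  rw [hl, key B hB hBf, LinearMap.lTensor_tmul, hd]

theorem good_all [IsNoetherianRing A] (M : Type u) [AddCommGroup M] [Module A M] [Module.Finite A M] : Good A M := by
  induction (inferInstance : Module.Finite A M) using IsNoetherianRing.induction_on_isQuotientEquivQuotientPrime A with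
  | subsingleton N => exact fun x _ => ⟨0, fun B _ _ _ _ _ _ => Subsingleton.elim _ _⟩
  | quotient N q e => exact good_equiv e (good_prime q.1)
  | exact N₁ N₂ N₃ f g hf hg hfg h₁ h₃ => exact good_exact f g hf hg hfg h₁ h₃


/-- Bijectivity for a finite module: let A be a Noetherian ring and M a finite A-module. Consider the
A-algebras B which are complete Noetherian local rings flat over A, with all A-algebra homomorphisms
between them. Then every family of elements x_B ∈ B ⊗_A M, one for each such B, compatible under the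
maps B ⊗_A M → B' ⊗_A M induced by A-algebra homomorphisms B → B', comes from a unique element m of
M: x_B = 1 ⊗ m for every such B. (The natural map from M to the limit of the B ⊗_A M is bijective.) -/
theorem result (A : Type u) [CommRing A] [IsNoetherianRing A] (M : Type u) [AddCommGroup M] [Module A M] [Module.Finite A M] (x : ∀ (B : Type u) [CommRing B] [Algebra A B] [IsNoetherianRing B] [IsLocalRing B], IsAdicComplete (IsLocalRing.maximalIdeal B) B → Module.Flat A B → TensorProduct A B M) (hx : ∀ (B : Type u) [CommRing B] [Algebra A B] [IsNoetherianRing B] [IsLocalRing B] (hB : IsAdicComplete (IsLocalRing.maximalIdeal B) B) (hBf : Module.Flat A B) (B' : Type u) [CommRing B'] [Algebra A B'] [IsNoetherianRing B'] [IsLocalRing B'] (hB' : IsAdicComplete (IsLocalRing.maximalIdeal B') B') (hB'f : Module.Flat A B') (g : B →ₐ[A] B'), LinearMap.rTensor M g.toLinearMap (x B hB hBf) = x B' hB' hB'f) : ∃! m : M, ∀ (B : Type u) [CommRing B] [Algebra A B] [IsNoetherianRing B] [IsLocalRing B] (hB : IsAdicComplete (IsLocalRing.maximalIdeal B) B)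 (hBf : Module.Flat A B), x B hB hBf = (1 : B) ⊗ₜ[A] m := by
  obtain ⟨m, hm⟩ := good_all M x hx
  refine ⟨m, fun B _ _ _ _ hB hBf => hm B hB hBf, fun m' hm' => ?_⟩
  rw [← sub_eq_zero]
  refine eq_zero_of_forall (A := A) M _ fun B _ _ _ _ hB hBf => ?_
  rw [TensorProduct.tmul_sub, ← hm B hB hBf, ← hm' B hB hBf, sub_self]

end Groth.Agent.S11181
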