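import Groth.Statements.S11182
import Groth.Agent.DualCx.TensorTop
import Groth.Agent.S6942

set_option autoImplicit false
universe u
open CategoryTheory
attribute [local instance] HasDerivedCategory.standard
open Dual

namespace Groth.Agent.S11182

open CategoryTheory CategoryTheory.Limits MonoidalCategory

lemma unit_HD {A : Type u} [CommRing A] :
    (∀ i : ℤ, i ≠ 0 → Subsingleton (Dual.HD A (Dual.inD A A) i)) ∧
      Nonempty (Dual.HD A (Dual.inD A A) 0 ≃ₗ[A] A) :=
  ⟨fun i hi => DRing.PC.subsingleton_HD_inD A A i hi,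
    ⟨((DerivedCategory.singleFunctorCompHomologyFunctorIso (ModuleCat.{u} A) 0).app
      (ModuleCat.of A A)).toLinearEquiv⟩⟩

open DualCx.TensorTop in
lemma key {A : Type u} [CommRing A] [IsLocalRing A] (P Q : DRing.Cx A) (l e : ℤ)
    (hP : DRing.VanishesAbove P l) (hQ : DRing.VanishesAbove Q e)
    (hPf : DRing.TermwiseFiniteFree P) (hQf : DRing.TermwiseFiniteFree Q)
    (hPn : Nontrivial (P.homology l)) (hQn : Nontrivial (Q.homology e))
    (t : DRing.toD (P ⊗ Q) ≅ Dual.inD A A) :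
    l + e = 0 ∧ Nonempty (DRing.toD Q ≅ (Dual.inD A A)⟦(-e)⟧) := by
  obtain ⟨hu, ⟨u₀⟩⟩ := unit_HD (A := A)
  obtain ⟨eM⟩ := nonempty_topEquiv P l hP
  obtain ⟨eN⟩ := nonempty_topEquiv Q e hQ
  have : ∀ i, Module.Finite A (P.X i) := fun i => (hPf i).1
  have : ∀ i, Module.Finite A (Q.X i) := fun i => (hQf i).1
  have : Nontrivial (top P l) := eM.toEquiv.nontrivial
  have : Nontrivial (top Q e) := eN.toEquiv.nontrivial
  obtain ⟨eT⟩ := nonempty_top_tensor P l Q e hP hQ
  let eH := (eT.trans (DRing.DBasic.hIso (P ⊗ Q) (l + e)).symm.toLinearEquiv).trans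
    ((DRing.DBasic.HF (l + e)).mapIso t).toLinearEquiv
  have := nontrivial_tensor (A := A) (top P l) (top Q e)
  have hle : l + e = 0 := by
    by_contra hne
    have := hu (l + e) hne
    exact not_subsingleton _ eH.toEquiv.subsingleton
  obtain rfl : l = -e := by omega
  let μ : TensorProduct A (top P (-e)) (top Q e) ≃ₗ[A] A :=
    eH.trans (((eqToIso (congrArg DRing.DBasic.HF hle)).app _).toLinearEquiv.trans u₀)
  have : Module.Invertible A (top Q e) := Module.Invertible.right μ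
  have : Module.Invertible A (top P (-e)) := Module.Invertible.left μ
  obtain ⟨fQ⟩ := Module.Invertible.free_iff_linearEquiv.mp
    (inferInstance : Module.Free A (top Q e))
  obtain ⟨fP⟩ := Module.Invertible.free_iff_linearEquiv.mp
    (inferInstance : Module.Free A (top P (-e)))
  let π : P.X (-e) →ₗ[A] A := fP.toLinearMap.comp (Submodule.mkQ _)
  obtain ⟨x, hx⟩ : ∃ x, π x = 1 := (fP.surjective.comp (Submodule.mkQ_surjective _)) 1
  let σ : DRing.PC.sgl (-e) (ModuleCat.of A A) ⟶ P :=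
    HomologicalComplex.mkHomFromSingle (ModuleCat.ofHom (LinearMap.toSpanSingleton A _ x))
      fun j (hj : -e + 1 = j) => (hP j (by omega)).eq_of_tgt _ _
  let ρ : P ⟶ DRing.PC.sgl (-e) (ModuleCat.of A A) :=
    HomologicalComplex.mkHomToSingle (ModuleCat.ofHom π) fun i (hi : i + 1 = -e) => by
      obtain rfl : i = -e - 1 := by omega
      refine ModuleCat.hom_ext (LinearMap.ext fun y => ?_)
      change fP (Submodule.Quotient.mk _) = 0
      rw [(Submodule.Quotient.mk_eq_zero _).mpr (LinearMap.mem_range_self _ y), map_zero]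
  have hσρ : σ ≫ ρ = 𝟙 _ := by
    refine HomologicalComplex.from_single_hom_ext ?_
    rw [HomologicalComplex.comp_f, HomologicalComplex.mkHomFromSingle_f,
      HomologicalComplex.mkHomToSingle_f, HomologicalComplex.id_f, Category.assoc,
      show ModuleCat.ofHom (LinearMap.toSpanSingleton A _ x) ≫ ModuleCat.ofHom π ≫
        (HomologicalComplex.singleObjXSelf (ComplexShape.up ℤ) (-e) (ModuleCat.of A A)).inv =
        (HomologicalComplex.singleObjXSelf (ComplexShape.up ℤ) (-e) (ModuleCat.of A A)).inv from by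
      rw [← Category.assoc, ← ModuleCat.ofHom_comp, show π.comp (LinearMap.toSpanSingleton A _ x) =
        LinearMap.id from LinearMap.ext_ring (by simp [hx]), ModuleCat.ofHom_id, Category.id_comp],
      Iso.hom_inv_id]
  let X := DRing.toD (DRing.PC.sgl (-e) (ModuleCat.of A A) ⊗ Q)
  let i₁ : X ⟶ Dual.inD A A := DerivedCategory.Q.map (σ ▷ Q) ≫ t.hom
  let r₁ : Dual.inD A A ⟶ X := t.inv ≫ DerivedCategory.Q.map (ρ ▷ Q)
  have hir : i₁ ≫ r₁ = 𝟙 X := by
    simp only [i₁, r₁, Category.assoc, Iso.hom_inv_id_assoc]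
    rw [← Functor.map_comp, ← comp_whiskerRight, hσρ, id_whiskerRight]
    exact DerivedCategory.Q.map_id _
  let u₁ : ((tensorRight (ModuleCat.of A A)).mapHomologicalComplex (ComplexShape.up ℤ)).obj Q ≅ Q :=
    (NatIso.mapHomologicalComplex (rightUnitorNatIso (ModuleCat.{u} A)) (ComplexShape.up ℤ)).app Q ≪≫
      (Functor.mapHomologicalComplexIdIso (ModuleCat.{u} A) (ComplexShape.up ℤ)).app Q
  let eX : DRing.PC.sgl (-e) (ModuleCat.of A A) ⊗ Q ≅ Q⟦e⟧ :=
    DRing.Tensor.braid _ Q ≪≫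
      whiskerLeftIso Q (((CochainComplex.singleFunctors (ModuleCat.{u} A)).shiftIso e (-e) 0
        (by omega)).app (ModuleCat.of A A)).symm ≪≫
      DRing.Tensor.shiftIso Q _ e ≪≫
      (shiftFunctor (DRing.Cx A) e).mapIso (DRing.Tensor.braid Q _ ≪≫
        (DRing.SingleTensor.iso (ModuleCat.of A A) Q).symm ≪≫ u₁)
  let eX' : X ≅ (DRing.toD Q)⟦e⟧ := DerivedCategory.Q.mapIso eX ≪≫
    ((DerivedCategory.Q (C := ModuleCat.{u} A)).commShiftIso e).app Q
  have hvan : ∀ i, i ≠ e → Subsingleton (Dual.HD A (DRing.toD Q) i) := fun i hi => by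
    have := hu (i - e) (by omega)
    have hX : Subsingleton (Dual.HD A X (i - e)) := subsingleton_of_forall_eq 0 fun y => by
      have h1 : (DRing.DBasic.HF (i - e)).map (i₁ ≫ r₁) = 𝟙 _ := by
        rw [hir]; exact CategoryTheory.Functor.map_id _ _
      rw [Functor.map_comp] at h1
      have h2 := congrArg (fun f => f.hom y) h1
      simp only [ModuleCat.hom_comp, LinearMap.comp_apply, ModuleCat.hom_id,
        LinearMap.id_apply] at h2
      rw [Subsingleton.elim (((DRing.DBasic.HF (i - e)).map i₁).hom y) 0, map_zero] at h2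
      exact h2.symm
    exact ((DRing.DBasic.HFShiftIso (DRing.toD Q) e (i - e) i (by omega)).symm.toLinearEquiv.trans
      ((DRing.DBasic.HF (i - e)).mapIso eX'.symm).toLinearEquiv).toEquiv.subsingleton
  obtain ⟨s⟩ := DualCx.Devissage.nonempty_single (DRing.toD Q) e hvan
  refine ⟨hle, ⟨s ≪≫ (shiftFunctor (Dual.D A) (-e)).mapIso
    ((DerivedCategory.singleFunctor (ModuleCat.{u} A) 0).mapIso ?_)⟩⟩
  exact (((DRing.DBasic.hIso Q e).toLinearEquiv.trans eN.symm).trans fQ).toModuleIso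

lemma exists_rep {A : Type u} [CommRing A] [IsNoetherianRing A] (K : Dual.D A)
    (hfin : ∀ i : ℤ, Module.Finite A (Dual.HD A K i)) (b : ℤ)
    (hb : ∀ i : ℤ, b < i → Subsingleton (Dual.HD A K i)) :
    ∃ P : DRing.Cx A, DRing.VanishesAbove P b ∧ DRing.TermwiseFiniteFree P ∧
      Nonempty (DRing.toD P ≅ K) :=
  DRing.PC.exists_finiteFree_rep
    (fun m => ((S6942.result A m K A).1).mpr ⟨⟨b, hb⟩, fun i _ => hfin i⟩) hb

lemma exists_max {A : Type u} [CommRing A] [IsNoetherianRing A] (K : Dual.D A)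
    (hbdd : ∃ b : ℤ, ∀ i : ℤ, b < i → Subsingleton (Dual.HD A K i)) :
    (∀ c i : ℤ, c < i → Subsingleton (Dual.HD A K i)) ∨
      ∃ l : ℤ, Nontrivial (Dual.HD A K l) ∧ ∀ i : ℤ, l < i → Subsingleton (Dual.HD A K i) := by
  by_cases h : ∃ i, Nontrivial (Dual.HD A K i)
  · obtain ⟨b, hb⟩ := hbdd
    obtain ⟨l, hl, hl'⟩ := Int.exists_greatest_of_bdd ⟨b, fun z hz => by
      by_contra hlt
      have := hb z (by omega)
      exact (not_subsingleton_iff_nontrivial.mpr hz) this⟩ h
    exact Or.inr ⟨l, hl, fun i hi => not_nontrivial_iff_subsingleton.mp fun hn => by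
      have := hl' i hn; omega⟩
  · exact Or.inl fun _ i _ => not_nontrivial_iff_subsingleton.mp fun hn => h ⟨i, hn⟩


/-- Let A be a Noetherian local ring, L an object of D(A) and E a cochain complex of A-modules, each
with finite cohomology modules which vanish in all sufficiently large degrees (bounded above), and
assume the total left derived functor − ⊗^L_A E exists on D(A). If L ⊗^L_A E is isomorphic in D(A)
to A placed in degree zero, then there is an integer n with L ≅ A[n] and E ≅ A[−n] in D(A). (The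
published statement is for a connected locally Noetherian scheme, concluding that L is a shifted
invertible sheaf; this row is the local case to which its proof reduces.) -/
theorem result (A : Type u) [CommRing A] [IsLocalRing A] [IsNoetherianRing A] (L : Dual.D A) (E : DRing.Cx A) [DRing.HasLTensorCx A E] (hLfin : ∀ i : ℤ, Module.Finite A (Dual.HD A L i)) (hLbdd : ∃ b : ℤ, ∀ i : ℤ, b < i → Subsingleton (Dual.HD A L i)) (hEfin : ∀ i : ℤ, Module.Finite A (Dual.HD A (DRing.toD E) i)) (hEbdd : ∃ b : ℤ, ∀ i : ℤ, b < i → Subsingleton (Dual.HD A (DRing.toD E) i)) (h : Nonempty ((DRing.LTensorCx A E).obj L ≅ Dual.inD A A)) : ∃ n : ℤ, Nonempty (L ≅ (Dual.inD A A)⟦n⟧) ∧ Nonempty (DRing.toD E ≅ (Dual.inD A A)⟦(-n)⟧) := by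
  obtain ⟨h⟩ := h
  have mk : ∀ (l e : ℤ) (hl : ∀ i, l < i → Subsingleton (Dual.HD A L i))
      (he : ∀ i, e < i → Subsingleton (Dual.HD A (DRing.toD E) i)),
      ∃ P Q : DRing.Cx A, DRing.VanishesAbove P l ∧ DRing.VanishesAbove Q e ∧
        DRing.TermwiseFiniteFree P ∧ DRing.TermwiseFiniteFree Q ∧
        Nonempty (DRing.toD P ≅ L) ∧ Nonempty (DRing.toD Q ≅ DRing.toD E) ∧
        Nonempty (DRing.toD (P ⊗ Q) ≅ Dual.inD A A) := by
    intro l e hl he
    obtain ⟨P, hPb, hPf, ⟨eP⟩⟩ := exists_rep L hLfin l hl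
    obtain ⟨Q, hQb, hQf, ⟨eQ⟩⟩ := exists_rep (DRing.toD E) hEfin e he
    have hPp : ∀ i, Module.Projective A (P.X i) := fun i => have := (hPf i).2; inferInstance
    have := DRing.DBasic.isKProjective_of_projective Q e hQb fun i => have := (hQf i).2; inferInstance
    obtain ⟨ι⟩ := DRing.TensorAmp.nonempty_LTensorCxIso (L := E)
      (DRing.TorAmp.isKFlat_of_projective hPb hPp) eP eQ
    exact ⟨P, Q, hPb, hQb, hPf, hQf, ⟨eP⟩, ⟨eQ⟩, ⟨ι.symm ≪≫ h⟩⟩
  have hno : ∀ (l e : ℤ), (∀ i, l < i → Subsingleton (Dual.HD A L i)) →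
      (∀ i, e < i → Subsingleton (Dual.HD A (DRing.toD E) i)) → ¬ l + e < 0 := by
    intro l e hl he hlt
    obtain ⟨P, Q, hP, hQ, -, -, -, -, ⟨t⟩⟩ := mk l e hl he
    obtain ⟨u₀⟩ := (unit_HD (A := A)).2
    have : Subsingleton ((P ⊗ Q).homology 0) := ModuleCat.subsingleton_of_isZero
      (ShortComplex.isZero_homology_of_isZero_X₂ _
        (DualCx.TensorTop.vanishesAbove_tensor P l Q e hP hQ 0 hlt))
    exact not_subsingleton A ((u₀.symm.trans (((DRing.DBasic.HF 0).mapIso t).symm ≪≫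
      DRing.DBasic.hIso (P ⊗ Q) 0).toLinearEquiv).toEquiv.subsingleton)
  rcases exists_max L hLbdd with hl | ⟨l, hln, hl⟩
  · obtain ⟨e, he⟩ := hEbdd
    exact absurd (show (-e - 1) + e < 0 by omega) (hno _ e (hl _) he)
  rcases exists_max (DRing.toD E) hEbdd with he | ⟨e, hen, he⟩
  · exact absurd (show l + (-l - 1) < 0 by omega) (hno l _ hl (he _))
  obtain ⟨P, Q, hP, hQ, hPf, hQf, ⟨eP⟩, ⟨eQ⟩, ⟨t⟩⟩ := mk l e hl he
  have hPn : Nontrivial (P.homology l) :=
    ((DRing.DBasic.hIso P l).symm ≪≫ (DRing.DBasic.HF l).mapIso eP).toLinearEquiv.toEquiv.nontrivial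
  have hQn : Nontrivial (Q.homology e) :=
    ((DRing.DBasic.hIso Q e).symm ≪≫ (DRing.DBasic.HF e).mapIso eQ).toLinearEquiv.toEquiv.nontrivial
  obtain ⟨hle, ⟨s⟩⟩ := key P Q l e hP hQ hPf hQf hPn hQn t
  obtain ⟨-, ⟨s'⟩⟩ := key Q P e l hQ hP hQf hPf hQn hPn
    (DerivedCategory.Q.mapIso (DRing.Tensor.braid Q P) ≪≫ t)
  exact ⟨e, ⟨eP.symm ≪≫ s' ≪≫ eqToIso (congrArg (fun n => (Dual.inD A A)⟦n⟧) (by omega : -l = e))⟩,
    ⟨eQ.symm ≪≫ s⟩⟩

end Groth.Agent.S11182
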