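import Groth.Statements.S11184
import Groth.Agent.InjHull.Semilocal
import Mathlib.Algebra.Category.ModuleCat.Injective

set_option autoImplicit false
universe u
open Matlis

namespace Groth.Agent.S11184

/-- Let A be a Noetherian local ring with residue field k, k → E an injective hull of k, and B a finite
A-algebra (a semilocal ring all of whose maximal ideals lie over the maximal ideal of A). Then the
B-module Hom_A(B, E), with B acting by (b·φ)(b') = φ(bb'), is the internal direct sum over the
maximal ideals n of B of submodules J_n (independent, with supremum everything), where each J_n is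
an injective hull over B of the residue field B/n: each hull occurs exactly once. -/
theorem result (A B : Type u) [CommRing A] [IsLocalRing A] [IsNoetherianRing A] [CommRing B] [Algebra A B] [Module.Finite A B] (E : Type u) [AddCommGroup E] [Module A E] (f : IsLocalRing.ResidueField A →ₗ[A] E) (hf : InjHull.IsInjectiveHull f) : ∃ J : MaximalSpectrum B → Submodule B ((ModuleCat.coextendScalars (algebraMap A B)).obj (ModuleCat.of A E)), iSupIndep J ∧ iSup J = ⊤ ∧ ∀ n : MaximalSpectrum B, ∃ g : (B ⧸ n.asIdeal) →ₗ[B] J n, InjHull.IsInjectiveHull g := by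
  classical
  let H : ModuleCat.{u} B := (ModuleCat.coextendScalars (algebraMap A B)).obj (ModuleCat.of A E)
  -- evaluation
  let Φ : H → (B →ₗ[A] E) := fun h =>
    { toFun := fun b => ModuleCat.CoextendScalars.equiv (algebraMap A B) (ModuleCat.of A E) h b
      map_add' := fun x y => map_add _ _ _
      map_smul' := fun a x => by
        rw [Algebra.smul_def]
        exact (ModuleCat.CoextendScalars.equiv (algebraMap A B) (ModuleCat.of A E) h).map_smul a x }
  have hΦi : Function.Injective Φ := fun h h' e => by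
    refine (ModuleCat.CoextendScalars.equiv (algebraMap A B) (ModuleCat.of A E)).injective (LinearMap.ext fun b => ?_)
    exact LinearMap.congr_fun e b
  have hΦs : ∀ g : B →ₗ[A] E, ∃ h, Φ h = g := fun g =>
    ⟨(ModuleCat.CoextendScalars.equiv (algebraMap A B) (ModuleCat.of A E)).symm
      { toFun := fun b => g b
        map_add' := fun x y => g.map_add x y
        map_smul' := fun a (x : B) => (congrArg g (Algebra.smul_def a x).symm).trans (g.map_smul a x) },
      LinearMap.ext fun b => rfl⟩
  have hΦsmul : ∀ (b c : B) (h : H), Φ (b • h) c = Φ h (c * b) := fun b c h => rfl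
  have hΦadd : ∀ h h', Φ (h + h') = Φ h + Φ h' := fun h h' => LinearMap.ext fun b => rfl
  have hΦ0 : Φ 0 = 0 := LinearMap.ext fun b => rfl
  have hker : ∀ (I : Ideal B) (h : H), (∀ b ∈ I, b • h = 0) ↔ ∀ b ∈ I, Φ h b = 0 := fun I h =>
    ⟨fun hI b hb => by
      have := hΦsmul b 1 h
      rw [hI b hb, hΦ0, one_mul, LinearMap.zero_apply] at this
      exact this.symm,
    fun hI b hb => hΦi (LinearMap.ext fun c => by
      rw [hΦsmul, hΦ0, LinearMap.zero_apply]; exact hI _ (I.mul_mem_left c hb))⟩
  have : IsNoetherianRing B := IsNoetherianRing.of_finite A B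
  have hinj : Module.Injective B H :=
    have : CategoryTheory.Injective (ModuleCat.of A E) :=
      Module.injective_object_of_injective_module (inj := hf.isInjective) A E
    have : CategoryTheory.Injective H :=
      (ModuleCat.restrictCoextendScalarsAdj (algebraMap A B)).map_injective _ this
    Module.injective_module_of_injective_object (inj := this) B H
  let m := IsLocalRing.maximalIdeal A
  have hart : ∀ k : ℕ, IsArtinianRing (B ⧸ (m ^ k).map (algebraMap A B)) := fun k => by
    let J := (m ^ k).map (algebraMap A B)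
    letI : Algebra (A ⧸ m ^ k) (B ⧸ J) := Ideal.Quotient.algebraQuotientOfLEComap Ideal.le_comap_map
    have : IsScalarTower A (A ⧸ m ^ k) (B ⧸ J) := IsScalarTower.of_algebraMap_eq fun a => rfl
    have : Module.Finite A (B ⧸ J) := inferInstance
    have : Module.Finite (A ⧸ m ^ k) (B ⧸ J) := Module.Finite.of_restrictScalars_finite A _ _
    have : IsArtinian A (A ⧸ m ^ k) :=
      (isFiniteLength_iff_isNoetherian_isArtinian.mp (InjHull.Matlis.isFiniteLength_quotient_pow k)).2
    have : IsArtinianRing (A ⧸ m ^ k) := isArtinian_of_tower A inferInstance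
    exact isArtinian_of_tower (A ⧸ m ^ k) inferInstance
  have hpt : ∀ h : H, ∃ J : Ideal B, IsArtinianRing (B ⧸ J) ∧ ∀ b ∈ J, b • h = 0 := fun h => by
    obtain ⟨s, hs⟩ := (Module.Finite.fg_top : (⊤ : Submodule A B).FG)
    choose k hk using fun b : B => InjHull.Matlis.isPowerTorsion_hull hf (Φ h b)
    refine ⟨(m ^ s.sup k).map (algebraMap A B), hart _, (hker _ h).mpr fun b hb => ?_⟩
    have hann : ∀ a ∈ m ^ s.sup k, ∀ c : B, a • Φ h c = 0 := fun a ha c => by
      have hc : c ∈ Submodule.span A (s : Set B) := hs ▸ trivial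
      induction hc using Submodule.span_induction with
      | mem c hc => exact hk c a (Ideal.pow_le_pow_right (Finset.le_sup hc) ha)
      | zero => rw [map_zero, smul_zero]
      | add x y _ _ hx hy => rw [map_add, smul_add, hx, hy, add_zero]
      | smul r x _ hx => rw [map_smul, smul_comm, hx, smul_zero]
    suffices ∀ c : B, Φ h (c * b) = 0 by simpa using this 1
    induction hb using Submodule.span_induction with
    | mem b hb =>
      obtain ⟨a, ha, rfl⟩ := hb
      intro c
      rw [mul_comm, ← Algebra.smul_def, map_smul]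
      exact hann a ha c
    | zero => intro c; rw [mul_zero, map_zero]
    | add x y _ _ hx hy => intro c; rw [mul_add, map_add, hx, hy, add_zero]
    | smul r x _ hx => intro c; rw [smul_eq_mul, ← mul_assoc]; exact hx _
  have hfin : Finite (MaximalSpectrum B) := by
    have hle : ∀ n : MaximalSpectrum B, (m ^ 1).map (algebraMap A B) ≤ n.asIdeal := fun n => by
      rw [pow_one, Ideal.map_le_iff_le_comap]
      exact (IsLocalRing.eq_maximalIdeal (Ideal.isMaximal_comap_of_isIntegral_of_isMaximal n.asIdeal)).ge
    have := hart 1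
    refine Finite.of_injective (β := MaximalSpectrum (B ⧸ (m ^ 1).map (algebraMap A B))) (fun n =>
      ⟨n.asIdeal.map (Ideal.Quotient.mk _),
        Ideal.IsMaximal.map_of_surjective_of_ker_le Ideal.Quotient.mk_surjective
          (by rw [Ideal.mk_ker]; exact hle n)⟩) fun n n' h => MaximalSpectrum.ext ?_
    have h1 := congrArg (fun M => Ideal.comap (Ideal.Quotient.mk ((m ^ 1).map (algebraMap A B))) M)
      (congrArg MaximalSpectrum.asIdeal h)
    simp only [Ideal.comap_map_of_surjective _ Ideal.Quotient.mk_surjective,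
      ← RingHom.ker_eq_comap_bot, Ideal.mk_ker] at h1
    rwa [sup_eq_left.mpr (hle n), sup_eq_left.mpr (hle n')] at h1
  refine ⟨fun n => InjHull.Semilocal.part H n.asIdeal, InjHull.Semilocal.part_iSupIndep,
    InjHull.Semilocal.iSup_part hpt, fun n => ?_⟩
  -- the socle
  let π : B →ₗ[A] B ⧸ n.asIdeal := (Submodule.mkQ n.asIdeal).restrictScalars A
  have : Module.Finite A (B ⧸ n.asIdeal) := inferInstance
  have hkm : ∀ a ∈ m, ∀ x : B ⧸ n.asIdeal, a • x = 0 := fun a ha x => by
    obtain ⟨x, rfl⟩ := Submodule.Quotient.mk_surjective _ x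
    rw [← Submodule.Quotient.mk_smul, Submodule.Quotient.mk_eq_zero, Algebra.smul_def]
    refine Ideal.mul_mem_right _ _ ?_
    have := (IsLocalRing.eq_maximalIdeal
      (Ideal.isMaximal_comap_of_isIntegral_of_isMaximal (R := A) n.asIdeal)).ge ha
    exact this
  have hflq : IsFiniteLength A (B ⧸ n.asIdeal) := by
    obtain ⟨r, g, hg⟩ := Module.Finite.exists_fin' A (B ⧸ n.asIdeal)
    let g' : (Fin r → A ⧸ m) →ₗ[A] B ⧸ n.asIdeal := ∑ i, (Submodule.liftQ m
      (LinearMap.toSpanSingleton A _ (g (Pi.single i 1))) (fun a ha => hkm a ha _)).comp (LinearMap.proj i)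
    have hg' : Function.Surjective g' := fun x => by
      obtain ⟨v, rfl⟩ := hg x
      refine ⟨fun i => Submodule.Quotient.mk (v i), ?_⟩
      simp only [g', LinearMap.sum_apply, LinearMap.comp_apply, LinearMap.proj_apply,
        Submodule.liftQ_apply, LinearMap.toSpanSingleton_apply, ← map_smul, ← map_sum]
      congr 1
      ext j
      simp [Pi.single_apply]
    have : IsSimpleModule A (A ⧸ m) :=
      isSimpleModule_iff_quot_maximal.mpr ⟨m, inferInstance, ⟨LinearEquiv.refl _ _⟩⟩
    have : IsArtinian A (Fin r → A ⧸ m) := inferInstance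
    exact isFiniteLength_iff_isNoetherian_isArtinian.mpr ⟨inferInstance, isArtinian_of_surjective _ g' hg'⟩
  have hflD : IsFiniteLength A (B ⧸ n.asIdeal →ₗ[A] E) := Module.length_ne_top_iff.mp (by
    rw [InjHull.Matlis.length_dual hf hflq]; exact Module.length_ne_top_iff.mpr hflq)
  -- `Ψ` is the inclusion of the socle
  choose Ψ hΨ using fun g : B ⧸ n.asIdeal →ₗ[A] E => hΦs (g.comp π)
  have hΨkill : ∀ g, ∀ a ∈ n.asIdeal, a • Ψ g = 0 := fun g => (hker _ _).mpr fun b hb => by
    rw [hΨ, LinearMap.comp_apply, show π b = 0 from (Submodule.Quotient.mk_eq_zero _).mpr hb, map_zero]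
  have hΨs : ∀ x : H, (∀ a ∈ n.asIdeal, a • x = 0) → ∃ g, Ψ g = x := fun x hx => by
    refine ⟨(Submodule.liftQ (n.asIdeal.restrictScalars A) (Φ x) fun b hb => (hker _ x).mp hx b hb).comp
      (Submodule.Quotient.restrictScalarsEquiv A n.asIdeal).symm.toLinearMap, hΦi ?_⟩
    rw [hΨ]
    exact LinearMap.ext fun b => rfl
  obtain ⟨g₀, hg₀⟩ : ∃ g : B ⧸ n.asIdeal →ₗ[A] E, g ≠ 0 := by
    by_contra! hall
    have : Subsingleton (B ⧸ n.asIdeal →ₗ[A] E) := subsingleton_of_forall_eq 0 hall
    have h1 : Module.length A (B ⧸ n.asIdeal →ₗ[A] E) = 0 := Module.length_eq_zero_iff.mpr this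
    rw [InjHull.Matlis.length_dual hf hflq, Module.length_eq_zero_iff] at h1
    exact n.isMaximal.ne_top (Submodule.Quotient.subsingleton_iff.mp h1)
  let ν : (B ⧸ n.asIdeal) →ₗ[A] (B ⧸ n.asIdeal →ₗ[A] E) :=
    { toFun := fun c => g₀.comp ((LinearMap.mul (B ⧸ n.asIdeal) (B ⧸ n.asIdeal) c).restrictScalars A)
      map_add' := fun x y => by ext z; simp [add_mul]
      map_smul' := fun a x => by
        refine LinearMap.ext fun z => ?_
        change g₀ (a • x * z) = a • g₀ (x * z)
        rw [smul_mul_assoc, map_smul] }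
  have hνi : Function.Injective ν := by
    rw [injective_iff_map_eq_zero]
    intro c hc
    by_contra hc0
    let := Ideal.Quotient.field n.asIdeal
    refine hg₀ (LinearMap.ext fun z => ?_)
    have := LinearMap.congr_fun hc (c⁻¹ * z)
    simp only [ν, LinearMap.coe_mk, AddHom.coe_mk, LinearMap.comp_apply,
      LinearMap.coe_restrictScalars, LinearMap.mul_apply', LinearMap.zero_apply] at this
    rwa [← mul_assoc, mul_inv_cancel₀ hc0, one_mul] at this
  have hνs : Function.Surjective ν := by
    have h3 := Module.length_eq_add_of_exact ν (LinearMap.range ν).mkQ hνi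
      (Submodule.mkQ_surjective _) (LinearMap.exact_map_mkQ_range ν)
    rw [InjHull.Matlis.length_dual hf hflq] at h3
    have h4 := (WithTop.add_left_cancel (Module.length_ne_top_iff.mpr hflq) ((add_zero _).trans h3)).symm
    exact LinearMap.range_eq_top.mp (Submodule.Quotient.subsingleton_iff.mp (Module.length_eq_zero_iff.mp h4))
  refine InjHull.Semilocal.exists_hull hinj hpt n (Ψ g₀) (fun h0 => hg₀ ?_) (hΨkill g₀) fun x hx => ?_
  · refine LinearMap.ext fun z => ?_
    obtain ⟨z, rfl⟩ := Submodule.Quotient.mk_surjective _ z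
    have := LinearMap.congr_fun (hΨ g₀) z
    rw [h0, hΦ0] at this
    exact this.symm
  · obtain ⟨g, rfl⟩ := hΨs x hx
    obtain ⟨c, rfl⟩ := hνs g
    obtain ⟨c, rfl⟩ := Ideal.Quotient.mk_surjective c
    refine ⟨c, hΦi (LinearMap.ext fun z => ?_)⟩
    rw [hΦsmul, hΨ, hΨ]
    change g₀ (Ideal.Quotient.mk n.asIdeal (z * c)) = g₀ (Ideal.Quotient.mk n.asIdeal c * Ideal.Quotient.mk n.asIdeal z)
    rw [map_mul, mul_comm]

end Groth.Agent.S11184
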