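import Groth.Statements.S11186
import Groth.Agent.DualCx.GorFibre
import Groth.Agent.S0342
import Groth.Agent.RelDim.FibreAway
import Groth.Agent.Omega.SmoothFibreDim
import Groth.Agent.CAlg76.SmoothRelDim
import Groth.Agent.FibCodepth.Poly
-- import your own Groth.Agent.* helpers here

set_option autoImplicit false
universe u
open CategoryTheory
attribute [local instance] HasDerivedCategory.standard
open Dual

namespace Groth.Agent.S11186

open scoped TensorProduct

/-- The fibre local ring of a smooth algebra is regular of dimension `n - t`. -/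
theorem regular_fibre (A B : Type u) [CommRing A] [CommRing B] [Algebra A B] [IsNoetherianRing A]
    (n : ℕ) (hs : FlatCA.SmoothRelDim n A B) (p : Ideal A) [p.IsPrime] (q : Ideal B) [q.IsPrime] [q.LiesOver p]
    [Algebra p.ResidueField q.ResidueField] [IsScalarTower A p.ResidueField q.ResidueField]
    (t : ℕ) (ht : Algebra.trdeg p.ResidueField q.ResidueField = t) :
    IsRegularLocalRing (EGA4.FibLocRing A B q) ∧
      ∃ e : ℕ, ringKrullDim (EGA4.FibLocRing A B q) = e ∧ e + t = n := by
  haveI : Algebra.Smooth A B := CAlg76.SmoothRelDim.smooth_of_rel hs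
  obtain ⟨Q, hQ⟩ := RelDim.exists_over' p q
  haveI : Algebra.FormallySmooth (p.Fiber B) (Localization.AtPrime Q.asIdeal) :=
    Algebra.FormallySmooth.of_isLocalization Q.asIdeal.primeCompl
  haveI : Algebra.FormallySmooth p.ResidueField (Localization.AtPrime Q.asIdeal) :=
    Algebra.FormallySmooth.comp p.ResidueField (p.Fiber B) _
  have hreg : IsRegularLocalRing (Localization.AtPrime Q.asIdeal) :=
    Omega.RankDim.isRegularLocalRing_of_isSmoothAt p.ResidueField (p.Fiber B) Q.asIdeal inferInstance
  obtain ⟨eL⟩ := RelDim.nonempty_equiv_fibLocRing p q Q.asIdeal hQ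
  have hregF : IsRegularLocalRing (EGA4.FibLocRing A B q) := IsRegularLocalRing.of_ringEquiv (R := Localization.AtPrime Q.asIdeal) eL.symm
  refine ⟨hregF, ?_⟩
  have h1 := RelDim.localDim_eq_fibLocRing p q Q hQ t ht
  have hrk : Module.rankAtStalk (R := p.Fiber B) Ω[p.Fiber B⁄p.ResidueField] Q = n := by
    letI := Algebra.TensorProduct.rightAlgebra (R := A) (A := p.ResidueField) (B := B)
    rw [← congrFun (Module.rankAtStalk_eq_of_equiv (KaehlerDifferential.tensorKaehlerEquiv A
      p.ResidueField B _)) Q, Module.rankAtStalk_baseChange]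
    exact CAlg76.SmoothRelDim.rankAtStalk_kaehler hs _
  rw [Omega.SmoothFibreDim.localDim_eq_rank p.ResidueField (p.Fiber B) Q, hrk] at h1
  obtain ⟨e, he⟩ := FibCodepth.exists_nat_of_add_eq h1.symm
  refine ⟨e, he, ?_⟩
  rw [he] at h1
  exact_mod_cast h1.symm

/-- Vanishing away from the degree at a localization. -/
theorem eq_deg (A : Type u) [CommRing A] [IsNoetherianRing A] {ω : Dual.D A} (hω : Dual.IsDualizing A ω)
    (p : Ideal A) [p.IsPrime] [Module.Flat A (Localization.AtPrime p)] (d : ℤ)
    (hd : Nontrivial (DualCx.Devissage.E p.ResidueField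
      ((DualCx.BaseChange.FD A (Localization.AtPrime p)).obj ω) d)) :
    d = DualCx.Dimfun.deg hω ⟨p, inferInstance⟩ := by
  by_contra hne
  have h := (DualCx.GorFibre.H_of_flat (B := Localization.AtPrime p) hω ⟨p, inferInstance⟩
    (IsLocalization.AtPrime.comap_maximalIdeal (Localization.AtPrime p) p)).1 d hne
  let eM : (Localization.AtPrime p ⧸ p.map (algebraMap A (Localization.AtPrime p))) ≃ₗ[Localization.AtPrime p] p.ResidueField :=
    Submodule.quotEquivOfEq _ _ (IsLocalization.AtPrime.map_eq_maximalIdeal p (Localization.AtPrime p))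
  exact @not_subsingleton _ hd ((DualCx.Devissage.congrE eM
    ((DualCx.BaseChange.FD A (Localization.AtPrime p)).obj ω) d).symm.toEquiv.subsingleton)

/-- Let A be a Noetherian ring, A → B a smooth ring map of relative dimension n, ω a dualizing complex
for A, and q a prime of B lying over the prime p of A, with residue field extension κ(p) ⊆ κ(q) of
transcendence degree t. Assume the derived base change functors from D(A) to D(A_p) and to D(B_q)
exist. If the module of maps κ(p) → ω_p[d] in D(A_p) is nonzero (so d is the unique such degree, the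
codimension value of ω at p), then the module of maps κ(q) → (ω ⊗^L_A B_q)[d − t + n] in D(B_q) is
nonzero: the codimension function of ω ⊗^L_A B at q equals that of ω at p minus the transcendence
degree plus the relative dimension. (The published formula is stated for the base change twisted by
the top relative differentials and shifted by n, where it reads codimension at q = codimension at p
+ transcendence degree; with the convention that the codimension function rises by one under
immediate specialization, the generic point of the affine line over a field shows that the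
transcendence degree must enter with a minus sign, as here.) -/
theorem result (A B : Type u) [CommRing A] [CommRing B] [Algebra A B] [IsNoetherianRing A] (n : ℕ) (hs : FlatCA.SmoothRelDim n A B) (ω : Dual.D A) (hω : Dual.IsDualizing A ω) (p : Ideal A) [p.IsPrime] (q : Ideal B) [q.IsPrime] [hq : q.LiesOver p] [DRing.HasLBaseChange (algebraMap A (Localization.AtPrime p))] [DRing.HasLBaseChange (algebraMap A (Localization.AtPrime q))] (d : ℤ) (hd : Nontrivial (Dual.inD (Localization.AtPrime p) p.ResidueField ⟶ ((DRing.LBaseChange (algebraMap A (Localization.AtPrime p))).obj ω)⟦d⟧)) (t : ℕ) (ht : @Algebra.trdeg p.ResidueField q.ResidueField _ _ (Ideal.ResidueField.mapₐ p q (Algebra.ofId A B) hq.over).toRingHom.toAlgebra = (t : Cardinal.{u})) : Nontrivial (Dual.inD (Localization.AtPrime q) q.ResidueField ⟶ ((DRing.LBaseChange (algebraMap A (Localization.AtPrime q))).obj ω)⟦(d - (t : ℤ) + (n : ℤ))⟧) := by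
  haveI : Algebra.Smooth A B := CAlg76.SmoothRelDim.smooth_of_rel hs
  haveI : IsNoetherianRing B := Algebra.FiniteType.isNoetherianRing A B
  haveI : Module.Flat A (Localization.AtPrime p) := IsLocalization.flat _ p.primeCompl
  haveI : Module.Flat B (Localization.AtPrime q) := IsLocalization.flat _ q.primeCompl
  haveI : Module.Flat A (Localization.AtPrime q) := Module.Flat.trans A B _
  haveI : IsNoetherianRing (Localization.AtPrime q) := IsLocalization.isNoetherianRing q.primeCompl _ inferInstance
  obtain ⟨ep⟩ := DualCx.FlatBC.nonempty_LBaseChange (A := A) (B := Localization.AtPrime p) ω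
  obtain ⟨eq'⟩ := DualCx.FlatBC.nonempty_LBaseChange (A := A) (B := Localization.AtPrime q) ω
  have hd' : Nontrivial (DualCx.Devissage.E p.ResidueField
      ((DualCx.BaseChange.FD A (Localization.AtPrime p)).obj ω) d) :=
    (CategoryTheory.Linear.homCongr (Localization.AtPrime p) (Iso.refl _)
      ((shiftFunctor _ d).mapIso ep)).symm.toEquiv.nontrivial
  obtain rfl := eq_deg A hω p d hd'
  letI alg : Algebra p.ResidueField q.ResidueField :=
    (Ideal.ResidueField.mapₐ p q (Algebra.ofId A B) hq.over).toRingHom.toAlgebra
  haveI : IsScalarTower A p.ResidueField q.ResidueField :=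
    IsScalarTower.of_algebraMap_eq fun a => ((Ideal.ResidueField.mapₐ p q (Algebra.ofId A B) hq.over).commutes a).symm
  obtain ⟨hreg, e, he, hen⟩ := regular_fibre A B n hs p q t ht
  have hp : q.comap (algebraMap A B) = p := (hq.over).symm
  have hmax : (IsLocalRing.maximalIdeal (Localization.AtPrime q)).comap (algebraMap A (Localization.AtPrime q)) = p := by
    rw [IsScalarTower.algebraMap_eq A B (Localization.AtPrime q), ← Ideal.comap_comap,
      show Ideal.comap (algebraMap B (Localization.AtPrime q)) (IsLocalRing.maximalIdeal (Localization.AtPrime q)) = q from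
        IsLocalization.AtPrime.comap_maximalIdeal (Localization.AtPrime q) q, hp]
  have H := DualCx.GorFibre.H_of_flat (B := Localization.AtPrime q) hω ⟨p, inferInstance⟩ hmax
  let eF : Localization.AtPrime q ⧸ p.map (algebraMap A (Localization.AtPrime q)) ≃+* EGA4.FibLocRing A B q :=
    Ideal.quotEquivOfEq (by rw [hp])
  haveI := hreg
  haveI : LocCoh.IsGorensteinLocalRing (Localization.AtPrime q ⧸ p.map (algebraMap A (Localization.AtPrime q))) :=
    (Gor.FlatLocal.gorenstein_iff_of_ringEquiv eF).2 (S0342.result _)
  obtain ⟨a, ha⟩ := DualCx.Dimfun.exists_isGE hω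
  haveI := DualCx.FlatBC.isGE_FD (B := Localization.AtPrime q) ω a
  obtain ⟨-, ⟨g⟩⟩ := DualCx.Fiber.residue (B := Localization.AtPrime q) a e _ _ ‹_›
    ((ringKrullDim_eq_of_ringEquiv eF).trans he) H
  rw [show DualCx.Dimfun.deg hω ⟨p, inferInstance⟩ - (t : ℤ) + (n : ℤ) =
    DualCx.Dimfun.deg hω ⟨p, inferInstance⟩ + (e : ℤ) by omega]
  exact ((CategoryTheory.Linear.homCongr (Localization.AtPrime q) (Iso.refl _)
    ((shiftFunctor _ _).mapIso eq')).trans g).toEquiv.nontrivial

end Groth.Agent.S11186
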