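import Groth.Statements.S11187
import Groth.Agent.DualCx.TwistHom

set_option autoImplicit false
universe u
open CategoryTheory
attribute [local instance] HasDerivedCategory.standard
open Dual

namespace Groth.Agent.S11187

open scoped TensorProduct in
lemma subsingleton_tensor_iff {A : Type u} [CommRing A] (M P : Type u) [AddCommGroup M]
    [Module A M] [AddCommGroup P] [Module A P] [Module.Invertible A P] :
    Subsingleton (M ⊗[A] P) ↔ Subsingleton M := by
  refine ⟨fun h => ?_, fun h => inferInstance⟩
  let e : (M ⊗[A] P) ⊗[A] Module.Dual A P ≃ₗ[A] M :=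
    (TensorProduct.assoc A M P (Module.Dual A P)).trans
      ((TensorProduct.congr (LinearEquiv.refl A M)
        ((TensorProduct.comm A P (Module.Dual A P)).trans (Module.Invertible.linearEquiv A P))).trans
        (TensorProduct.rid A M))
  exact e.symm.toEquiv.subsingleton

lemma subsingleton_shift_iff {A : Type u} [CommRing A] {ω : Dual.D A} (P : ModuleCat.{u} A)
    [Module.Invertible A P] (n i : ℤ) :
    Subsingleton (Dual.HD A (((DualCx.Twist.T P).obj ω)⟦n⟧) i) ↔
      Subsingleton (Dual.HD A ω (n + i)) :=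
  (((DualCx.Cx.homUnitEquivShift (((DualCx.Twist.T P).obj ω)⟦n⟧) i).symm.trans
      ((DualCx.Normalized.shiftE A ((DualCx.Twist.T P).obj ω) n i (n + i) rfl).trans
        (DualCx.Cx.homUnitEquivShift ((DualCx.Twist.T P).obj ω) (n + i)))).trans
    (DualCx.Twist.HDEquiv P ω (n + i))).toEquiv.subsingleton_congr.trans
      (subsingleton_tensor_iff _ _)

lemma eq_of_iso {A : Type u} [CommRing A] [Nontrivial A] {ω : Dual.D A}
    (hω : Dual.IsDualizing A ω) (P P' : ModuleCat.{u} A) [Module.Invertible A P]
    [Module.Invertible A P'] {n n' : ℤ}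
    (i : ((DualCx.Twist.T P).obj ω)⟦n⟧ ≅ ((DualCx.Twist.T P').obj ω)⟦n'⟧) : n = n' := by
  obtain ⟨a, b, hab⟩ := DualCx.Residue.exists_cohomology_bounds hω
  have hper : ∀ j, Subsingleton (Dual.HD A ω j) ↔ Subsingleton (Dual.HD A ω (j + (n' - n))) := by
    intro j
    have h1 := subsingleton_shift_iff (ω := ω) P n (j - n)
    have h2 := subsingleton_shift_iff (ω := ω) P' n' (j - n)
    rw [show n + (j - n) = j by omega] at h1
    rw [show n' + (j - n) = j + (n' - n) by omega] at h2
    exact h1.symm.trans
      ((((DerivedCategory.homologyFunctor _ (j - n)).mapIso i).toLinearEquiv.toEquiv.subsingleton_congr).trans h2)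
  by_contra hne
  have hall : ∀ j, Subsingleton (Dual.HD A ω j) := by
    intro j
    have hk : ∀ k : ℕ, Subsingleton (Dual.HD A ω j) ↔
        Subsingleton (Dual.HD A ω (j + k * (n' - n))) := by
      intro k
      induction k with
      | zero => simp
      | succ k ih => rw [ih, hper, show j + (k : ℤ) * (n' - n) + (n' - n) = j + ((k + 1 : ℕ) : ℤ) * (n' - n) by push_cast; ring]
    refine (hk ((b - j).natAbs + (j - a).natAbs + 1)).mpr (hab _ ?_)
    rcases lt_or_gt_of_ne hne with h | h
    · right
      push_cast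
      nlinarith [abs_nonneg (b - j), abs_nonneg (j - a), le_abs_self (b - j)]
    · left
      push_cast
      nlinarith [abs_nonneg (b - j), abs_nonneg (j - a), le_abs_self (j - a)]
  have hz : Limits.IsZero ω := by
    have hge : ω.IsGE 1 := (DerivedCategory.isGE_iff ω 1).mpr fun j _ =>
      (DRing.DBasic.subsingleton_HD_iff_isZero ω j).mp (hall j)
    have hle : ω.IsLE 0 := (DerivedCategory.isLE_iff ω 0).mpr fun j _ =>
      (DRing.DBasic.subsingleton_HD_iff_isZero ω j).mp (hall j)
    exact (Limits.IsZero.iff_id_eq_zero ω).mpr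
      (DerivedCategory.TStructure.t.zero (𝟙 ω) 0 1 (by omega))
  exact one_ne_zero (hω.toEnd_bijective.injective (a₁ := 1) (a₂ := 0) (hz.eq_of_src _ _))

lemma nonempty_linearEquiv {A : Type u} [CommRing A] {ω : Dual.D A}
    (hω : Dual.IsDualizing A ω) (P P' : ModuleCat.{u} A) [Module.Invertible A P]
    [Module.Invertible A P'] (i : (DualCx.Twist.T P).obj ω ≅ (DualCx.Twist.T P').obj ω) :
    Nonempty (P ≃ₗ[A] P') := by
  let L := DerivedCategory.Q.objPreimage ω
  let eω : DerivedCategory.Q.obj L ≅ ω := DerivedCategory.Q.objObjPreimageIso ω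
  have hX := DualCx.FlatBC.isDualizing_of_iso eω.symm hω
  exact ⟨(LinearEquiv.ofBijective _ (DualCx.TwistHom.Φ_bijective L P hX.toEnd_bijective)).trans
    ((Linear.homCongr A (Iso.refl _)
      ((DualCx.TwistHom.GIso L P).symm ≪≫ (DualCx.Twist.T P).mapIso eω ≪≫ i ≪≫
        (DualCx.Twist.T P').mapIso eω.symm ≪≫ DualCx.TwistHom.GIso L P')).trans
      (LinearEquiv.ofBijective _ (DualCx.TwistHom.Φ_bijective L P' hX.toEnd_bijective)).symm)⟩


/-- Let A be a nonzero Noetherian ring, ω a dualizing complex for A, P and P' invertible A-modules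
(finite locally free of rank one) and n, n' integers; assume the total left derived functors − ⊗^L_A
P and − ⊗^L_A P' exist on D(A). If (ω ⊗^L_A P)[n] and (ω ⊗^L_A P')[n'] are isomorphic in D(A), then
n = n' and P is A-linearly isomorphic to P'. (The published statement is for a connected scheme; the
uniqueness does not need connectedness, only that A is nonzero, which is assumed here since over the
zero ring every shift of the zero object is zero.) -/
theorem result (A : Type u) [CommRing A] [IsNoetherianRing A] [Nontrivial A] (ω : Dual.D A) (hω : Dual.IsDualizing A ω) (P P' : Type u) [AddCommGroup P] [Module A P] [Module.Invertible A P] [AddCommGroup P'] [Module A P'] [Module.Invertible A P'] [DRing.HasLTensor A (ModuleCat.of A P)] [DRing.HasLTensor A (ModuleCat.of A P')] (n n' : ℤ) (h : Nonempty (((DRing.LTensor A (ModuleCat.of A P)).obj ω)⟦n⟧ ≅ ((DRing.LTensor A (ModuleCat.of A P')).obj ω)⟦n'⟧)) : n = n' ∧ Nonempty (P ≃ₗ[A] P') := by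
  obtain ⟨h⟩ := h
  obtain ⟨e⟩ := DualCx.Twist.nonempty_LTensor_iso (ModuleCat.of A P) ω
  obtain ⟨e'⟩ := DualCx.Twist.nonempty_LTensor_iso (ModuleCat.of A P') ω
  let i : ((DualCx.Twist.T (ModuleCat.of A P)).obj ω)⟦n⟧ ≅
      ((DualCx.Twist.T (ModuleCat.of A P')).obj ω)⟦n'⟧ :=
    (shiftFunctor (Dual.D A) n).mapIso e.symm ≪≫ h ≪≫ (shiftFunctor (Dual.D A) n').mapIso e'
  obtain rfl : n = n' := eq_of_iso hω (ModuleCat.of A P) (ModuleCat.of A P') i
  exact ⟨rfl, nonempty_linearEquiv hω (ModuleCat.of A P) (ModuleCat.of A P')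
    ((shiftFunctor (Dual.D A) n).preimageIso i)⟩

end Groth.Agent.S11187
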