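import Groth.Statements.S11189
import Groth.Agent.AGFObs.AffQuot
import Groth.Agent.AGFObs.Crit
import Groth.Agent.S5369
import Groth.Agent.AlgSp.DescentLqf
import Mathlib.AlgebraicGeometry.ZariskisMainTheorem
-- import your own Groth.Agent.* helpers here

set_option autoImplicit false
universe u
open CategoryTheory MonoidalCategory CartesianMonoidalCategory MonObj GrpObj AlgebraicGeometry
open scoped TensorProduct
open AGF

namespace Groth.Agent.S11189

open Groth.Agent.AGFObs Groth.Agent.AGFPoints.Basic Groth.Agent.AGFLang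

/-- Let k be an algebraically closed field, G a linear algebraic group over k (an affine smooth group
scheme over k) and H a closed subgroup of G (a smooth closed subgroup scheme, i : H → G), and let X,
with G-action a and base point o, be the quotient G/H. Then H is observable in G if and only if X is
quasi-affine (quasi-compact and an open subscheme of an affine scheme). -/
theorem result (k : Type u) [Field k] [IsAlgClosed k]
    (G : Over (Spec (CommRingCat.of k))) [GrpObj G] [IsAffine G.left] [Smooth G.hom]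
    (H : Over (Spec (CommRingCat.of k))) [GrpObj H] [Smooth H.hom] (i : H ⟶ G) [IsMonHom i]
    [IsClosedImmersion i.left]
    (X : Over (Spec (CommRingCat.of k))) (a : AlgGrp.Action G X) (o : 𝟙_ (Over (Spec (CommRingCat.of k))) ⟶ X)
    (hX : AGF.IsQuotient i X a o) :
    AGF.IsObservableIn k i ↔ X.left.IsQuasiAffine := by
  classical
  obtain ⟨hlft, hflat, hsurj, hpb⟩ := hX
  let q := a.orbitMap o
  have : LocallyOfFiniteType X.hom := hlft
  have : Flat q.left := hflat
  have : Surjective q.left := hsurj
  have : LocallyOfFiniteType G.hom := inferInstance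
  have : IsLocallyNoetherian X.left := LocallyOfFiniteType.isLocallyNoetherian X.hom
  have : LocallyOfFiniteType (q.left ≫ X.hom) := by rw [Over.w]; infer_instance
  have : LocallyOfFiniteType q.left := locallyOfFiniteType_of_comp _ X.hom
  have : IsAffine H.left := isAffine_of_isAffineHom i.left
  let qs : G.left → X.left := fun P => q.left.base P
  have hqs : Continuous qs := q.left.continuous
  have hqsurj : Function.Surjective qs := q.left.surjective
  have hinv : ∀ c : Γ(X.left, ⊤), (q.left.appTop c : Coord G) ∈ AGFObs.Inv i := fun c =>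
    (isRTransInv_iff_mem i _).1 <| by
      show ((G ◁ i) ≫ μ[G]).left.appTop (q.left.appTop c) = (fst G H).left.appTop (q.left.appTop c)
      exact congrArg (fun m => m.left.appTop c) hpb.w.symm
  constructor
  · intro hobs
    obtain ⟨t, ht⟩ := exists_sep i ((isObservableIn_iff i).1 hobs)
    have : Mono i := (Over.forget _).mono_of_mono_map (show Mono i.left from inferInstance)
    have : QuasiSeparatedSpace X.left := inferInstance
    have : QuasiSeparated X.hom := HasAffineProperty.iff_of_isAffine.2 ‹_›
    have : QuasiCompact (q.left ≫ X.hom) := by rw [Over.w]; infer_instance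
    have : QuasiCompact q.left := QuasiCompact.of_comp q.left X.hom
    have hsepX : IsSeparated X.hom :=
      (Groth.Agent.S5369.result _ G H X i q
        ⟨G.left, q.left, 𝟙 _, Category.id_comp _, inferInstance, inferInstance, fun V hV =>
          ⟨q.left ⁻¹ᵁ V, q.left.isCompact_preimage hV.isCompact,
            Set.image_preimage_eq _ hqsurj⟩⟩ hpb.flip).2.2.1.2 inferInstance
    have hdesc : ∀ f : t, ∃ c : Γ(X.left, ⊤), (q.left.appTop c : Coord G) = f.1 := fun f =>
      exists_desc i q hpb (ht.inv f.1 f.2)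
    choose c hc using hdesc
    let κ : k →+* Γ(X.left, ⊤) := X.hom.appTop.hom.comp (Scheme.ΓSpecIso (CommRingCat.of k)).inv.hom
    let φ : MvPolynomial t k →+* Γ(X.left, ⊤) := MvPolynomial.eval₂Hom κ c
    let m : X.left ⟶ Spec (CommRingCat.of (MvPolynomial t k)) :=
      X.left.toSpecΓ ≫ Spec.map (CommRingCat.ofHom φ)
    have hm : m ≫ Spec.map (CommRingCat.ofHom (MvPolynomial.C : k →+* MvPolynomial t k)) = X.hom := by
      simp only [m, Category.assoc, ← Spec.map_comp]
      rw [show CommRingCat.ofHom (MvPolynomial.C : k →+* MvPolynomial t k) ≫ CommRingCat.ofHom φ =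
        (Scheme.ΓSpecIso (CommRingCat.of k)).inv ≫ X.hom.appTop from
          CommRingCat.hom_ext (RingHom.ext fun s => MvPolynomial.eval₂Hom_C κ c s), Spec.map_comp,
        ← Scheme.toSpecΓ_naturality_assoc]
      simp
    have : LocallyOfFiniteType (m ≫ Spec.map (CommRingCat.ofHom (MvPolynomial.C : k →+* MvPolynomial t k))) := by
      rw [hm]; infer_instance
    have : LocallyOfFiniteType m := locallyOfFiniteType_of_comp m (Spec.map (CommRingCat.ofHom (MvPolynomial.C : k →+* MvPolynomial t k)))
    have : IsSeparated (m ≫ Spec.map (CommRingCat.ofHom (MvPolynomial.C : k →+* MvPolynomial t k))) := by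
      rw [hm]; infer_instance
    have : IsSeparated m := IsSeparated.of_comp m (Spec.map (CommRingCat.ofHom (MvPolynomial.C : k →+* MvPolynomial t k)))
    have : CompactSpace X.left := ⟨(Set.range_eq_univ.2 hqsurj) ▸ isCompact_range hqs⟩
    have hmem : ∀ (g : Pts G) (f : t) (s : k),
        qs (pz g) ∈ m ⁻¹' (PrimeSpectrum.basicOpen (MvPolynomial.X f - MvPolynomial.C s : MvPolynomial t k) :
          Set (PrimeSpectrum (MvPolynomial t k))) ↔ valHom g f.1 ≠ s := by
      intro g f s
      have e : (q.left.appTop (φ (MvPolynomial.X f - MvPolynomial.C s)) : Coord G) = f.1 - algebraMap k (Coord G) s := by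
        rw [map_sub, map_sub, MvPolynomial.eval₂Hom_X', MvPolynomial.eval₂Hom_C, hc]
        exact congrArg (f.1 - ·) (congr($(congrArg Scheme.Hom.appTop (Over.w q)) ((Scheme.ΓSpecIso (CommRingCat.of k)).inv s)))
      show qs (pz g) ∈ X.left.toSpecΓ ⁻¹ᵁ PrimeSpectrum.basicOpen (φ (MvPolynomial.X f - MvPolynomial.C s)) ↔ _
      rw [Scheme.toSpecΓ_preimage_basicOpen]
      show pz g ∈ q.left ⁻¹ᵁ X.left.basicOpen (φ (MvPolynomial.X f - MvPolynomial.C s)) ↔ _
      rw [Scheme.preimage_basicOpen_top]
      refine (Iff.of_eq (congrArg (fun z => pz g ∈ G.left.basicOpen (U := ⊤) z) e)).trans ?_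
      rw [mem_basicOpen_iff, map_sub, AlgHom.commutes, sub_ne_zero]
      rfl
    have hrep : ∀ p : X.left, IsClosed ({p} : Set X.left) → ∃ g : Pts G, qs (pz g) = p := fun p hp => by
      obtain ⟨P, hP⟩ := hqsurj p
      obtain ⟨g, -, hg⟩ := exists_pz isOpen_univ (hp.preimage hqs) ⟨P, trivial, hP⟩
      exact ⟨g, hg⟩
    have : JacobsonSpace X.left := LocallyOfFiniteType.jacobsonSpace X.hom
    have hfib : ∀ x : X.left, IsClosed ({x} : Set X.left) → m ⁻¹' closure {m x} ⊆ {x} := by
      intro x hx z hz
      by_contra hzx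
      obtain ⟨p, ⟨hp, hpx⟩, hpc⟩ := nonempty_inter_closedPoints (X := X.left)
        (Z := m ⁻¹' closure {m x} ∩ {x}ᶜ) ⟨z, hz, hzx⟩
        ((isClosed_closure.preimage m.continuous).isLocallyClosed.inter hx.isOpen_compl.isLocallyClosed)
      obtain ⟨g₁, h₁⟩ := hrep x hx
      obtain ⟨g₂, h₂⟩ := hrep p hpc
      have hval : ∀ f ∈ t, valHom g₁ f = valHom g₂ f := fun f hf => by
        by_contra hne
        have h3 := (hmem g₂ ⟨f, hf⟩ (valHom g₁ f)).2 (Ne.symm hne)
        rw [h₂] at h3
        have h4 : m x ∈ (PrimeSpectrum.basicOpen (MvPolynomial.X ⟨f, hf⟩ - MvPolynomial.C (valHom g₁ f) : MvPolynomial t k) :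
            Set (PrimeSpectrum (MvPolynomial t k))) :=
          (specializes_iff_mem_closure.2 hp).mem_open (PrimeSpectrum.basicOpen _).isOpen h3
        exact (hmem g₁ ⟨f, hf⟩ (valHom g₁ f)).1 (show qs (pz g₁) ∈ m ⁻¹' _ by rw [h₁]; exact h4) rfl
      obtain ⟨h, hh⟩ := ht.sep g₁ g₂ hval
      have e : g₁ ≫ q = g₂ ≫ q :=
        (AGFQuot.Basic.comp_eq_iff hpb _ _).2 ⟨h, by rw [hh, mul_inv_cancel_left]⟩
      apply hpx
      rw [← h₂, ← h₁]
      show (g₂ ≫ q).left.base _ = (g₁ ≫ q).left.base _
      rw [e]
    have hlqf : LocallyQuasiFinite m := by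
      rw [← Scheme.Hom.quasiFiniteLocus_eq_top_iff]
      refine TopologicalSpace.Opens.ext (Set.eq_univ_of_forall fun z => ?_)
      by_contra hz
      obtain ⟨x, hxz, hxc⟩ := nonempty_inter_closedPoints (X := X.left) ⟨z, hz⟩
        m.quasiFiniteLocus.isOpen.isClosed_compl.isLocallyClosed
      refine hxz (Scheme.Hom.quasiFiniteAt_iff_isOpen_singleton_asFiber.2 ?_)
      have : Subsingleton (m ⁻¹' {m x} : Set X.left) :=
        ⟨fun u v => Subtype.ext ((hfib x hxc (subset_closure (X := Spec (CommRingCat.of (MvPolynomial t k))) u.2)).trans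
          (hfib x hxc (subset_closure (X := Spec (CommRingCat.of (MvPolynomial t k))) v.2)).symm)⟩
      have := (m.fiberHomeo (m x)).toEquiv.subsingleton
      rw [show ({m.asFiber x} : Set (m.fiber (m x))) = Set.univ from Set.eq_univ_of_forall fun y => Subsingleton.elim _ _]
      exact isOpen_univ
    exact Groth.Agent.AlgSp.isQuasiAffine_of_lqf m
  · intro hqa
    refine (isObservableIn_iff i).2 fun g hg => ?_
    have e : (1 : Pts G) ≫ q = g ≫ q := by
      apply Over.OverMorphism.ext
      rw [← cancel_mono X.left.toSpecΓ]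
      apply ext_of_isAffine
      simp only [Scheme.Hom.comp_appTop, Over.comp_left, Category.assoc]
      congr 1
      rw [← cancel_mono (Scheme.ΓSpecIso (CommRingCat.of k)).hom]
      refine CommRingCat.hom_ext (RingHom.ext fun c => ?_)
      show valHom (1 : Pts G) (q.left.appTop c : Coord G) = valHom g (q.left.appTop c : Coord G)
      conv_lhs => rw [← hg _ (hinv c)]
      rw [val_Rt, _root_.one_mul]
    obtain ⟨h, hh⟩ := (AGFQuot.Basic.comp_eq_iff hpb _ _).1 e
    exact ⟨h, (_root_.one_mul _).symm.trans hh⟩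

end Groth.Agent.S11189
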