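import Groth.Statements.S11191
import Groth.Agent.AGFPoints.Basic
import Mathlib.LinearAlgebra.Basis.VectorSpace
import Mathlib.LinearAlgebra.TensorProduct.Basis
-- import your own Groth.Agent.* helpers here

set_option autoImplicit false
universe u
open CategoryTheory MonoidalCategory CartesianMonoidalCategory MonObj GrpObj AlgebraicGeometry
open scoped TensorProduct
open AGF

namespace Groth.Agent.S11191

open Groth.Agent.AGFPoints.Basic

/-- Let k be an algebraically closed field, G a linear algebraic group over k (an affine smooth group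
scheme over k) and H a closed subgroup of G (a smooth closed subgroup scheme, i : H → G), and let M
be a rational G-module. Then every H-invariant element of M is fixed by the observable hull of H: if
a rational point g of G fixes under right translation every right-H-invariant global function on G,
then g fixes every H-invariant element of M. (The published statement is for a commutative algebra
with a rational action by automorphisms; the multiplication plays no role and the row is stated for
modules.) -/
theorem result (k : Type u) [Field k] [IsAlgClosed k]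
    (G : Over (Spec (CommRingCat.of k))) [GrpObj G] [IsAffine G.left] [Smooth G.hom]
    (H : Over (Spec (CommRingCat.of k))) [GrpObj H] [Smooth H.hom] (i : H ⟶ G) [IsMonHom i]
    [IsClosedImmersion i.left]
    (M : Type u) [AddCommGroup M] [Module k M] (ρ : VecGrp.GMod G M)
    (g : VecGrp.pt k k ⟶ G) (hg : ∀ f : Γ(G.left, ⊤), AGF.IsRTransInv i f → AGF.IsRTransInv g f)
    (a : M) (ha : a ∈ ρ.fixedUnder i) :
    ρ.ρ k g ((1 : k) ⊗ₜ[k] a) = (1 : k) ⊗ₜ[k] a := by
  classical
  have : IsAffine (VecGrp.pt k k).left := inferInstanceAs (IsAffine (Spec (CommRingCat.of k)))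
  have : IsAffine H.left := isAffine_of_isAffineHom i.left
  obtain ⟨J, b⟩ : Σ J : Type u, Module.Basis J k M := ⟨_, Module.Basis.ofVectorSpace k M⟩
  obtain ⟨c, hc⟩ := TensorProduct.eq_repr_basis_right b (ρ.ρ (Coord G) (uPt G) ((1 : Coord G) ⊗ₜ[k] a))
  have hval : ∀ (B : Type u) [CommRing B] [Algebra k B] (x : VecGrp.pt k B ⟶ G),
      ρ.ρ B x ((1 : B) ⊗ₜ[k] a) = c.sum (fun j f => val x f ⊗ₜ[k] b j) := by
    intro B _ _ x
    have h := ρ.naturality (valHom x) (uPt G) ((1 : Coord G) ⊗ₜ[k] a)
    rw [← eq_ptMap_uPt, VecGrp.Wmap_tmul, map_one] at h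
    rw [← h, ← hc]
    simp only [Finsupp.sum, map_sum, VecGrp.Wmap_tmul, valHom_apply]
  have hinv : ∀ j, AGF.IsRTransInv i (c j) := by
    intro j
    rw [Groth.Agent.AGFPoints.Basic.isRTransInv_iff]
    intro B _ _ x t
    have h1 : ρ.ρ B (x * (t ≫ i)) ((1 : B) ⊗ₜ[k] a) = ρ.ρ B x ((1 : B) ⊗ₜ[k] a) := by
      rw [map_mul, LinearEquiv.mul_apply, ha B t]
    rw [hval, hval] at h1
    have h2 := congrArg (fun z => (TensorProduct.equivFinsuppOfBasisRight b z) j) h1
    simp [Finsupp.sum, map_sum, Finsupp.single_apply] at h2
    by_cases hj : c j = 0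
    · rw [hj]; exact (map_zero _).trans (map_zero _).symm
    · rw [if_neg hj, if_neg hj] at h2; exact h2
  have hfix : ∀ j, val g (c j) = val (1 : VecGrp.pt k k ⟶ G) (c j) := by
    intro j
    have h := (isRTransInv_iff g (c j)).mp (hg _ (hinv j)) k 1 (𝟙 _)
    rwa [Category.id_comp, _root_.one_mul] at h
  have h1 := hval k 1
  rw [map_one, LinearEquiv.coe_one, id_eq] at h1
  rw [hval k g, h1]
  exact Finsupp.sum_congr fun j _ => congrArg (· ⊗ₜ[k] b j) (hfix j)

end Groth.Agent.S11191
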