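import Groth.Statements.S11192
import Groth.Agent.AGFPoints.Basic
import Groth.Agent.AbVarLib.Basics
import Groth.Agent.S2102
import Groth.Agent.S1535
import Groth.Agent.S9829
import Groth.Agent.S0558

set_option autoImplicit false
universe u
open CategoryTheory MonoidalCategory CartesianMonoidalCategory MonObj GrpObj AlgebraicGeometry
open scoped TensorProduct
open AGF

namespace Groth.Agent.S11192

open Groth.Agent CategoryTheory.Limits

/-- A subring closed under division inside an integrally closed domain is integrally closed. -/
lemma isIntegrallyClosed_of_injective {A R : Type u} [CommRing A] [IsDomain A] [CommRing R] [IsDomain R]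
    [IsIntegrallyClosed R] (jj : A →+* R) (hjj : Function.Injective jj)
    (h : ∀ (a b : A) (r : R), b ≠ 0 → r * jj b = jj a → ∃ c, jj c = r) : IsIntegrallyClosed A := by
  have hinj : Function.Injective ⇑((algebraMap R (FractionRing R)).comp jj) := by
    rw [RingHom.coe_comp]
    exact (IsFractionRing.injective R (FractionRing R)).comp hjj
  refine (isIntegrallyClosed_iff (FractionRing A)).mpr fun {x} hx => ?_
  obtain ⟨a, b, hb, rfl⟩ := IsFractionRing.div_surjective (A := A) x
  have hb0 : b ≠ 0 := nonZeroDivisors.ne_zero hb
  let L : FractionRing A →+* FractionRing R := IsFractionRing.lift (A := A) hinj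
  have hL : ∀ c : A, L (algebraMap A (FractionRing A) c) = algebraMap R (FractionRing R) (jj c) :=
    fun c => IsFractionRing.lift_algebraMap (A := A) hinj c
  have hint : IsIntegral R (L (algebraMap A (FractionRing A) a / algebraMap A (FractionRing A) b)) := by
    obtain ⟨P, hP, hP0⟩ := hx
    refine ⟨P.map jj, hP.map _, ?_⟩
    rw [Polynomial.eval₂_map]
    have h' := congrArg L hP0
    rw [Polynomial.hom_eval₂, map_zero] at h'
    rwa [show L.comp (algebraMap A (FractionRing A)) = (algebraMap R (FractionRing R)).comp jj from
      RingHom.ext hL] at h'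
  obtain ⟨r, hr⟩ := IsIntegrallyClosed.isIntegral_iff.mp hint
  have hbR : jj b ≠ 0 := fun h' => hb0 (hjj (h'.trans jj.map_zero.symm))
  have hrb : r * jj b = jj a := by
    refine IsFractionRing.injective R (FractionRing R) ?_
    rw [map_mul, hr, map_div₀, hL, hL]
    exact div_mul_cancel₀ _ fun h' => hbR (IsFractionRing.injective R (FractionRing R) (h'.trans (map_zero _).symm))
  obtain ⟨c, rfl⟩ := h a b r hb0 hrb
  refine ⟨c, ?_⟩
  rw [eq_div_iff (fun h' => hb0 (IsFractionRing.injective A (FractionRing A) (h'.trans (map_zero _).symm))),
    ← map_mul]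
  exact congrArg _ (hjj (by rw [map_mul, hrb]))

/-- An equalizer of two maps out of an integrally closed domain is integrally closed when one of them
preserves non-zero-divisors. -/
lemma isIntegrallyClosed_eqLocus {R S : Type u} [CommRing R] [IsDomain R] [IsIntegrallyClosed R] [CommRing S]
    (f g : R →+* S) (hg : ∀ b, b ≠ 0 → IsSMulRegular S (g b)) :
    IsIntegrallyClosed ↥(RingHom.eqLocus f g) := by
  refine isIntegrallyClosed_of_injective (RingHom.eqLocus f g).subtype Subtype.val_injective
    fun a b r hb hrb => ⟨⟨r, ?_⟩, rfl⟩
  have hbR : (b : R) ≠ 0 := fun h => hb (Subtype.val_injective h)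
  show f r = g r
  refine hg _ hbR ?_
  show g b * f r = g b * g r
  calc g b * f r = f (r * b) := by rw [map_mul, show f b = g b from b.2, mul_comm]
    _ = g (r * b) := by rw [show r * (b : R) = a from hrb, show f a = g a from a.2]
    _ = _ := by rw [map_mul, mul_comm]

/-- Let k be an algebraically closed field, G a linear algebraic group over k (an affine smooth group
scheme over k) and H a closed subgroup of G (a smooth closed subgroup scheme, i : H → G), with G
connected. Then the ring of global functions on G invariant under right translation by H is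
integrally closed. -/
theorem result (k : Type u) [Field k] [IsAlgClosed k]
    (G : Over (Spec (CommRingCat.of k))) [GrpObj G] [IsAffine G.left] [Smooth G.hom]
    (H : Over (Spec (CommRingCat.of k))) [GrpObj H] [Smooth H.hom] (i : H ⟶ G) [IsMonHom i]
    [IsClosedImmersion i.left] [ConnectedSpace G.left] :
    IsIntegrallyClosed ↥(AGF.rTransInv i) := by
  have : IrreducibleSpace G.left := AbVarLib.Basics.irreducibleSpace_of_connectedSpace G
  let _ : G.left.Over (Spec (CommRingCat.of k)) := ⟨G.hom⟩
  have : Smooth (G.left ↘ Spec (CommRingCat.of k)) := ‹Smooth G.hom›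
  have hreg : ∀ x : G.left, IsRegularLocalRing (G.left.presheaf.stalk x) := fun x => S1535.result k G.left x
  have : ∀ x : G.left, _root_.IsReduced (G.left.presheaf.stalk x) := fun x =>
    have := hreg x
    have := RegLoc.isDomain (G.left.presheaf.stalk x)
    inferInstance
  have : AlgebraicGeometry.IsReduced G.left := isReduced_of_isReduced_stalk G.left
  have : IsIntegral G.left := isIntegral_of_irreducibleSpace_of_isReduced G.left
  have : IsIntegrallyClosed (Γ(G.left, ⊤) : Type u) := S2102.result G.left fun x =>
    have := hreg x
    ⟨RegLoc.isDomain _, S9829.result _⟩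
  have : Flat H.hom := inferInstance
  have : IsAffine H.left := isAffine_of_isAffineHom i.left
  have := AGFPoints.Basic.isAffine_tensor (X := G) (Y := H)
  have hfl : Flat (fst G H).left := MorphismProperty.pullback_fst G.hom H.hom inferInstance
  have hflat := (HasRingHomProperty.iff_of_isAffine (P := @Flat)).1 hfl
  refine isIntegrallyClosed_eqLocus _ _ fun b hb => ?_
  let _ : Algebra Γ(G.left, ⊤) Γ((G ⊗ H).left, ⊤) := (fst G H).left.appTop.hom.toAlgebra
  have : Module.Flat Γ(G.left, ⊤) Γ((G ⊗ H).left, ⊤) := hflat
  exact IsSMulRegular.of_flat (fun x y h => mul_left_cancel₀ hb h)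

end Groth.Agent.S11192
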