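import Groth.Statements.S11193
import Groth.Agent.AGFObs.Extends

set_option autoImplicit false
universe u
open CategoryTheory MonoidalCategory CartesianMonoidalCategory MonObj GrpObj AlgebraicGeometry
open scoped TensorProduct
open AGF

namespace Groth.Agent.S11193

open Groth.Agent.AGFObs Groth.Agent.AGFPoints.Basic

theorem isIdempotentElem_ker {A C : Type u} [CommRing A] [CommRing C] (f : A →+* C) (hf : Function.Surjective f)
    (hflat : f.Flat) : IsIdempotentElem (RingHom.ker f) := by
  letI : Algebra A C := f.toAlgebra
  haveI : Module.Flat A C := hflat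
  refine le_antisymm Ideal.mul_le_right fun x hx => ?_
  obtain ⟨m, a, y, hy, ha⟩ := Module.Flat.isTrivialRelation_of_sum_smul_eq_zero (R := A) (M := C)
    (f := fun _ : Fin 1 => x) (x := fun _ : Fin 1 => (1 : C)) (by
      simp only [Finset.univ_unique, Finset.sum_singleton]
      show f x * 1 = 0
      rw [RingHom.mem_ker.1 hx, zero_mul])
  choose y' hy' using fun j => hf (y j)
  have hι : 1 - ∑ j, a 0 j * y' j ∈ RingHom.ker f := by
    rw [RingHom.mem_ker, map_sub, map_one, map_sum, sub_eq_zero]
    refine (hy 0).trans (Finset.sum_congr rfl fun j _ => ?_)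
    rw [map_mul, hy', Algebra.smul_def, RingHom.algebraMap_toAlgebra]
  have : x * (1 - ∑ j, a 0 j * y' j) = x := by
    rw [mul_sub, _root_.mul_one, Finset.mul_sum, Finset.sum_eq_zero, sub_zero]
    intro j _
    have := ha j
    simp only [Finset.univ_unique, Finset.sum_singleton] at this
    rw [← _root_.mul_assoc]
    exact (congrArg (· * y' j) this).trans (zero_mul _)
  rw [← this]
  exact Ideal.mul_mem_mul hx hι

/-- Let k be an algebraically closed field, G a linear algebraic group over k (an affine smooth group
scheme over k) and H a closed subgroup of G (a smooth closed subgroup scheme, i : H → G), with H of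
finite index in G (equivalently, H is also open in G). Then each finite-dimensional rational
H-module occurs as an H-submodule of some rational G-module of finite dimension. -/
theorem result (k : Type u) [Field k] [IsAlgClosed k]
    (G : Over (Spec (CommRingCat.of k))) [GrpObj G] [IsAffine G.left] [Smooth G.hom]
    (H : Over (Spec (CommRingCat.of k))) [GrpObj H] [Smooth H.hom] (i : H ⟶ G) [IsMonHom i]
    [IsClosedImmersion i.left] [IsOpenImmersion i.left]
    (V : Type u) [AddCommGroup V] [Module k V] [Module.Finite k V] (σ : VecGrp.GMod H V) :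
    σ.ExtendsAlong i := by
  have : IsAffine H.left := isAffine_of_isAffineHom i.left
  refine extendsAlong_of_crit i (crit_of_obs i fun g hg => ?_) σ
  have := finiteType (X := G)
  have : IsNoetherianRing (Coord G) := Algebra.FiniteType.isNoetherianRing k _
  have hflat : RingHom.Flat (res i).toRingHom := HasRingHomProperty.appTop (P := @Flat) i.left inferInstance
  let I : Ideal (Coord G) := RingHom.ker (res i)
  have hI : IsIdempotentElem I := isIdempotentElem_ker (res i).toRingHom (res_surjective i) hflat
  obtain ⟨ε, hε, hεI⟩ := (Ideal.isIdempotentElem_iff_of_fg I (IsNoetherian.noetherian I)).1 hI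
  have hmem : ∀ x : Pts G, x ∈ HP i ↔ valHom x ε = 0 := fun x => by
    rw [mem_HP_iff]
    refine ⟨fun h => h ε (RingHom.mem_ker.1 (show ε ∈ I by rw [hεI]; exact Submodule.mem_span_singleton_self ε)), fun h f hf => ?_⟩
    have : f ∈ I := RingHom.mem_ker.2 hf
    rw [hεI, Submodule.mem_span_singleton] at this
    obtain ⟨r, rfl⟩ := this
    rw [smul_eq_mul, map_mul, h, mul_zero]
  have h01 : ∀ x : Pts G, valHom x ε = 0 ∨ valHom x ε = 1 := fun x =>
    IsIdempotentElem.iff_eq_zero_or_one.1 (hε.map (valHom x))
  have hinv : ε ∈ AGFObs.Inv i := fun x h hh => by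
    have e : x * h ∈ HP i ↔ x ∈ HP i := (HP i).mul_mem_cancel_right hh
    rw [hmem, hmem] at e
    rcases h01 (x * h) with h1 | h1 <;> rcases h01 x with h2 | h2 <;> simp_all [-valHom_apply]
  have h1 := congrArg (valHom (1 : Pts G)) (hg ε hinv)
  rw [val_Rt, _root_.one_mul, (hmem 1).1 (HP i).one_mem] at h1
  exact (hmem g).2 h1

end Groth.Agent.S11193
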