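import Groth.Statements.S11195
import Groth.Agent.AGFObs.Ext

set_option autoImplicit false
universe u
open CategoryTheory MonoidalCategory CartesianMonoidalCategory MonObj GrpObj AlgebraicGeometry
open scoped TensorProduct
open AGF

namespace Groth.Agent.S11195

open Groth.Agent.AGFObs Groth.Agent.AGFPoints.Basic

/-- Let k be an algebraically closed field, G a linear algebraic group over k, K a closed subgroup of G
and H a closed subgroup of K (j : K → G, i : H → K smooth closed subgroup schemes). When H is
observable in K, and K in G, H is also observable in G. -/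
theorem result (k : Type u) [Field k] [IsAlgClosed k]
    (G : Over (Spec (CommRingCat.of k))) [GrpObj G] [IsAffine G.left] [Smooth G.hom]
    (K : Over (Spec (CommRingCat.of k))) [GrpObj K] [Smooth K.hom] (j : K ⟶ G) [IsMonHom j] [IsClosedImmersion j.left]
    (H : Over (Spec (CommRingCat.of k))) [GrpObj H] [Smooth H.hom] (i : H ⟶ K) [IsMonHom i] [IsClosedImmersion i.left]
    (hH : AGF.IsObservableIn k i) (hK : AGF.IsObservableIn k j) :
    AGF.IsObservableIn k (i ≫ j) := by
  have : IsAffine K.left := isAffine_of_isAffineHom j.left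
  have : IsAffine H.left := isAffine_of_isAffineHom i.left
  have : IsClosedImmersion (i ≫ j).left := by rw [Over.comp_left]; infer_instance
  have hcj := (isObservableIn_iff_crit j).1 hK
  refine (isObservableIn_iff (i ≫ j)).2 fun g hg => ?_
  have hHK : ∀ h ∈ HP (i ≫ j), h ∈ HP j := by
    rintro _ ⟨z, rfl⟩
    exact ⟨z ≫ i, Category.assoc _ _ _⟩
  obtain ⟨k₀, rfl⟩ := (isObservableIn_iff j).1 hK g fun f hf => hg f fun x h hh => hf x h (hHK h hh)
  obtain ⟨h₀, hh₀⟩ := (isObservableIn_iff i).1 hH k₀ fun f hf => by
    obtain ⟨P, hPf, hfP, hPst⟩ := exists_stable_Rt ({f} : Finset (Coord K))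
    obtain ⟨s, hs, hst⟩ := exists_section j hcj P hPst
    let f' : P := ⟨f, hfP f (Finset.mem_singleton_self f)⟩
    have hinv : s f' ∈ AGFObs.Inv (i ≫ j) := fun x h hh => by
      obtain ⟨z, rfl⟩ := hh
      rw [← val_Rt, ← Category.assoc, hst]
      congr 2
      exact Subtype.ext (ext_pts fun y => by rw [val_Rt]; exact hf y _ ⟨z, rfl⟩)
    have h1 := congrArg (res j) (hg _ hinv)
    rwa [res_Rt, hs] at h1
  exact ⟨h₀, by rw [← Category.assoc, hh₀]⟩

end Groth.Agent.S11195
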