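import Groth.Statements.S11194
import Groth.Agent.AGFObs.OpenSub
import Groth.Agent.S11195

set_option autoImplicit false
universe u
open CategoryTheory MonoidalCategory CartesianMonoidalCategory MonObj GrpObj AlgebraicGeometry
open scoped TensorProduct
open AGF

namespace Groth.Agent.S11194

open Groth.Agent.AGFObs Groth.Agent.AGFPoints.Basic

/-- observability goes up along subgroups of finite index -/
theorem obs_of_finite_index {k : Type u} [Field k] [IsAlgClosed k] {G H H₀ : Over (Spec (CommRingCat.of k))}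
    [GrpObj G] [GrpObj H] [GrpObj H₀] [IsAffine G.left] [Smooth G.hom] [Smooth H.hom] [Smooth H₀.hom]
    (i : H ⟶ G) [IsMonHom i] [IsClosedImmersion i.left] (j : H₀ ⟶ H) [IsMonHom j]
    [IsClosedImmersion (j ≫ i).left] [Finite (Pts H ⧸ HP j)]
    (h0 : ∀ g : Pts G, (∀ f ∈ AGFObs.Inv (j ≫ i), Rt g f = f) → g ∈ HP (j ≫ i)) :
    ∀ g : Pts G, (∀ f ∈ AGFObs.Inv i, Rt g f = f) → g ∈ HP i := by
  classical
  intro g hg
  by_contra hgH
  let Q := Pts H ⧸ HP j
  have := Fintype.ofFinite Q
  obtain ⟨t, ht⟩ := exists_sep (j ≫ i) h0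
  let c : Q → Pts G := fun q => q.out ≫ i
  have hc : ∀ q, c q ∈ HP i := fun q => ⟨_, rfl⟩
  have hne : ∀ q q', ∃ f ∈ t, valHom (c q) f ≠ valHom (g * c q') f := fun q q' => by
    by_contra hno
    simp only [not_exists, not_and, not_not] at hno
    obtain ⟨h, hh⟩ := ht.sep _ _ hno
    refine hgH ?_
    have h1 : (c q)⁻¹ * (g * c q') ∈ HP i := ⟨h ≫ j, by rw [Category.assoc]; exact hh⟩
    have h2 := (HP i).mul_mem ((HP i).mul_mem (hc q) h1) ((HP i).inv_mem (hc q'))
    simpa [_root_.mul_assoc] using h2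
  choose f hft hfne using hne
  let a : Q → Q → Coord G := fun q q' => (valHom (c q) (f q q') - valHom (g * c q') (f q q'))⁻¹ •
    (f q q' - algebraMap k (Coord G) (valHom (g * c q') (f q q')))
  have ha : ∀ q q', a q q' ∈ AGFObs.Inv (j ≫ i) := fun q q' =>
    (AGFObs.Inv (j ≫ i)).smul_mem ((AGFObs.Inv (j ≫ i)).sub_mem (ht.inv _ (hft q q')) ((AGFObs.Inv (j ≫ i)).algebraMap_mem _)) _
  let F : Coord G := 1 - ∏ q, (1 - ∏ q', a q q')
  have hF : F ∈ AGFObs.Inv (j ≫ i) :=
    Subalgebra.sub_mem _ (Subalgebra.one_mem _) (Subalgebra.prod_mem _ fun q _ =>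
      Subalgebra.sub_mem _ (Subalgebra.one_mem _) (Subalgebra.prod_mem _ fun q' _ => ha q q'))
  have ha1 : ∀ q q', valHom (c q) (a q q') = 1 := fun q q' => by
    rw [map_smul, map_sub, AlgHom.commutes, smul_eq_mul]
    exact inv_mul_cancel₀ (sub_ne_zero.2 (hfne q q'))
  have ha0 : ∀ q q', valHom (g * c q') (a q q') = 0 := fun q q' => by
    rw [map_smul, map_sub, AlgHom.commutes, smul_eq_mul]
    show _ * (valHom _ _ - valHom _ _) = _
    rw [sub_self, mul_zero]
  have hF1 : ∀ q, valHom (c q) F = 1 := fun q => by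
    simp only [F, map_sub, map_one, map_prod]
    rw [Finset.prod_eq_zero (Finset.mem_univ q), sub_zero]
    rw [Finset.prod_eq_one fun q' _ => ha1 q q', sub_self]
  have hF0 : ∀ q', valHom (g * c q') F = 0 := fun q' => by
    simp only [F, map_sub, map_one, map_prod]
    rw [Finset.prod_eq_one fun q _ => by
      rw [Finset.prod_eq_zero (Finset.mem_univ q') (ha0 q q'), sub_zero], sub_self]
  have hFc : ∀ (x : Pts G) (z : Pts H) (q : Q), (QuotientGroup.mk z : Q) = q →
      valHom (x * (z ≫ i)) F = valHom (x * c q) F := fun x z q hzq => by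
    have hm : z⁻¹ * q.out ∈ HP j := QuotientGroup.eq.1 (hzq.trans (QuotientGroup.out_eq' q).symm)
    obtain ⟨w, hw⟩ := hm
    have hz : c q = (z ≫ i) * (w ≫ (j ≫ i)) := by
      rw [← Category.assoc, hw, ← MonObj.mul_comp, mul_inv_cancel_left]
    rw [hz, ← _root_.mul_assoc]
    exact (hF _ _ ⟨w, rfl⟩).symm
  let N : Coord G := ∏ q, Rt (c q) F
  have hN : N ∈ AGFObs.Inv i := fun x h hh => by
    obtain ⟨z, rfl⟩ := hh
    simp only [N, map_prod, val_Rt]
    refine Fintype.prod_equiv (MulAction.toPerm z) _ _ fun q => ?_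
    rw [_root_.mul_assoc, show (z ≫ i) * c q = (z * q.out) ≫ i from (MonObj.mul_comp _ _ _).symm]
    exact hFc x (z * q.out) _ (by
      show (QuotientGroup.mk (z * q.out) : Q) = z • q
      conv_rhs => rw [← QuotientGroup.out_eq' q]
      rfl)
  have h1 := congrArg (valHom (1 : Pts G)) (hg _ hN)
  rw [val_Rt, _root_.one_mul] at h1
  simp only [N, map_prod, val_Rt, _root_.one_mul, hF1, hF0] at h1
  simp [Finset.prod_const, Finset.card_univ] at h1



/-- (i) ⇔ (iii): let k be an algebraically closed field, G a linear algebraic group over k (an affine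
smooth group scheme over k) and H a closed subgroup of G (a smooth closed subgroup scheme, i : H →
G); let G₀ ⊆ G and H₀ ⊆ H be the identity components (connected open subgroup schemes) and i₀ : H₀ →
G₀ the induced homomorphism. Then H is observable in G if and only if H₀ is observable in G₀. -/
theorem result (k : Type u) [Field k] [IsAlgClosed k]
    (G : Over (Spec (CommRingCat.of k))) [GrpObj G] [IsAffine G.left] [Smooth G.hom]
    (H : Over (Spec (CommRingCat.of k))) [GrpObj H] [Smooth H.hom] (i : H ⟶ G) [IsMonHom i]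
    [IsClosedImmersion i.left]
    (G₀ : Over (Spec (CommRingCat.of k))) [GrpObj G₀] [ConnectedSpace G₀.left] (jG : G₀ ⟶ G) [IsMonHom jG]
    [IsOpenImmersion jG.left]
    (H₀ : Over (Spec (CommRingCat.of k))) [GrpObj H₀] [ConnectedSpace H₀.left] (jH : H₀ ⟶ H) [IsMonHom jH]
    [IsOpenImmersion jH.left] (i₀ : H₀ ⟶ G₀) [IsMonHom i₀] (hc : i₀ ≫ jG = jH ≫ i) :
    AGF.IsObservableIn k i ↔ AGF.IsObservableIn k i₀ := by
  have : IsClosedImmersion jG.left := isClosedImmersion_of_open jG
  have : IsClosedImmersion jH.left := isClosedImmersion_of_open jH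
  have : IsAffine G₀.left := isAffine_of_isAffineHom jG.left
  have : IsAffine H.left := isAffine_of_isAffineHom i.left
  have : IsAffine H₀.left := isAffine_of_isAffineHom jH.left
  have : Smooth G₀.hom := by rw [← Over.w jG]; infer_instance
  have : Smooth H₀.hom := by rw [← Over.w jH]; infer_instance
  have : IsClosedImmersion (jH ≫ i).left := by rw [Over.comp_left]; infer_instance
  have : IsClosedImmersion (i₀.left ≫ jG.left) := by rw [← Over.comp_left, hc, Over.comp_left]; infer_instance
  have : IsClosedImmersion i₀.left := IsClosedImmersion.of_comp i₀.left jG.left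
  constructor
  · intro hobs
    have hK : AGF.IsObservableIn k (jH ≫ i) :=
      Groth.Agent.S11195.result k G H i H₀ jH (isObservableIn_of_open jH) hobs
    refine (isObservableIn_iff i₀).2 fun g hg => ?_
    obtain ⟨h₀, hh₀⟩ := (isObservableIn_iff (jH ≫ i)).1 hK (g ≫ jG) fun F hF => ext_pts fun x => by
      have hres : res jG (L x F) ∈ AGFObs.Inv i₀ := fun y h hh => by
        obtain ⟨z, rfl⟩ := hh
        rw [val_res, val_res, MonObj.mul_comp, Category.assoc, hc]
        exact L_mem_Inv (jH ≫ i) x hF _ _ ⟨z, rfl⟩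
      have h1 := congrArg (valHom (1 : Pts G₀)) (hg _ hres)
      rwa [val_Rt, _root_.one_mul, val_res, val_res, MonObj.one_comp, val_L, val_L, _root_.mul_one, ← val_Rt] at h1
    refine ⟨h₀, Over.OverMorphism.ext ((cancel_mono jG.left).1 ?_)⟩
    have h2 : (h₀ ≫ i₀) ≫ jG = g ≫ jG := by rw [Category.assoc, hc]; exact hh₀
    exact congrArg (fun m => m.left) h2
  · intro h₀obs
    have h1 : AGF.IsObservableIn k (i₀ ≫ jG) :=
      Groth.Agent.S11195.result k G G₀ jG H₀ i₀ h₀obs (isObservableIn_of_open jG)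
    rw [hc] at h1
    have : Finite (Pts H ⧸ HP jH) := finite_quotient jH
    exact (isObservableIn_iff i).2 (obs_of_finite_index i jH ((isObservableIn_iff (jH ≫ i)).1 h1))

end Groth.Agent.S11194
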