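import Groth.Statements.S11200
import Groth.Agent.AGFObs.Gm

set_option autoImplicit false
universe u
open CategoryTheory MonoidalCategory CartesianMonoidalCategory MonObj GrpObj AlgebraicGeometry
open scoped TensorProduct
open AGF

namespace Groth.Agent.S11200

open Groth.Agent.AGFObs Groth.Agent.AGFPoints.Basic

/-- Let k be an algebraically closed field, G a linear algebraic group over k (an affine smooth group
scheme over k) and H a closed subgroup of G (a smooth closed subgroup scheme, i : H → G). If H has
no non-trivial character (every homomorphism from H to the multiplicative group is trivial), then H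
is observable in G. -/
theorem result (k : Type u) [Field k] [IsAlgClosed k]
    (G : Over (Spec (CommRingCat.of k))) [GrpObj G] [IsAffine G.left] [Smooth G.hom]
    (H : Over (Spec (CommRingCat.of k))) [GrpObj H] [Smooth H.hom] (i : H ⟶ G) [IsMonHom i]
    [IsClosedImmersion i.left]
    (hχ : ∀ (χ : H ⟶ Red.Gm (Spec (CommRingCat.of k))), IsMonHom χ → χ = 1) :
    AGF.IsObservableIn k i := by
  have hχ0 := hχ
  have : IsAffine H.left := isAffine_of_isAffineHom i.left
  refine (isObservableIn_iff i).2 (obs_of_crit i fun D hD => ⟨1, map_one _, fun x h hh => ?_⟩)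
  obtain ⟨χ, hχ, hf⟩ := exists_char (res i D)
    (fun z => by rw [val_res]; exact hD.ne_zero i ⟨z, rfl⟩)
    (fun z w => by rw [val_res, val_res, val_res, MonObj.mul_comp]; exact hD.mul i ⟨z, rfl⟩ ⟨w, rfl⟩)
  obtain rfl := hχ0 χ hχ
  obtain ⟨z, rfl⟩ := hh
  rw [← val_res, ← hf, map_one, map_one, _root_.one_mul, ← chiVal_eq]
  show (Scheme.ΓSpecIso (CommRingCat.of k)).hom (Red.gmFn (z ≫ 1)) = 1
  rw [MonObj.comp_one, ← GmPts.val_unitOfPt, GmPts.unitOfPt_one, Units.val_one, map_one]

end Groth.Agent.S11200
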