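import Groth.Statements.S11203
import Groth.Agent.AGFObs.FiniteIndex
import Groth.Agent.AGFObs.Transfer

set_option autoImplicit false
universe u
open CategoryTheory MonoidalCategory CartesianMonoidalCategory MonObj GrpObj AlgebraicGeometry
open scoped TensorProduct
open AGF

namespace Groth.Agent.S11203

open Groth.Agent.AGFObs Groth.Agent.AGFPoints.Basic

/-- Let k be an algebraically closed field, G a linear algebraic group over k (an affine smooth group
scheme over k) and H a closed subgroup of G (a smooth closed subgroup scheme, i : H → G); let G₀ ⊆ G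
and H₀ ⊆ H be the identity components and i₀ : H₀ → G₀ the induced homomorphism. If one of the rings
k[G]^H (right-H-invariant global functions on G), k[G]^{H₀}, k[G₀]^{H₀} is finitely generated over
the constants, then all three are. (The published statement also lists the invariants of H ∩ G₀ on
G₀, omitted here.) -/
theorem result (k : Type u) [Field k] [IsAlgClosed k]
    (G : Over (Spec (CommRingCat.of k))) [GrpObj G] [IsAffine G.left] [Smooth G.hom]
    (H : Over (Spec (CommRingCat.of k))) [GrpObj H] [Smooth H.hom] (i : H ⟶ G) [IsMonHom i]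
    [IsClosedImmersion i.left]
    (G₀ : Over (Spec (CommRingCat.of k))) [GrpObj G₀] [ConnectedSpace G₀.left] (jG : G₀ ⟶ G) [IsMonHom jG]
    [IsOpenImmersion jG.left]
    (H₀ : Over (Spec (CommRingCat.of k))) [GrpObj H₀] [ConnectedSpace H₀.left] (jH : H₀ ⟶ H) [IsMonHom jH]
    [IsOpenImmersion jH.left] (i₀ : H₀ ⟶ G₀) [IsMonHom i₀] (hc : i₀ ≫ jG = jH ≫ i) :
    List.TFAE [AGF.SubringFGOver k G (AGF.rTransInv i), AGF.SubringFGOver k G (AGF.rTransInv (jH ≫ i)),
      AGF.SubringFGOver k G₀ (AGF.rTransInv i₀)] := by
  classical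
  have : IsClosedImmersion jG.left := isClosedImmersion_of_open jG
  have : IsClosedImmersion jH.left := isClosedImmersion_of_open jH
  have : IsAffine G₀.left := isAffine_of_isAffineHom jG.left
  have : IsAffine H.left := isAffine_of_isAffineHom i.left
  have : IsAffine H₀.left := isAffine_of_isAffineHom jH.left
  have : Smooth G₀.hom := by rw [← Over.w jG]; infer_instance
  have : Smooth H₀.hom := by rw [← Over.w jH]; infer_instance
  have : IsClosedImmersion (jH ≫ i).left := by rw [Over.comp_left]; infer_instance
  have : IsClosedImmersion (i₀.left ≫ jG.left) := by rw [← Over.comp_left, hc, Over.comp_left]; infer_instance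
  have : IsClosedImmersion i₀.left := IsClosedImmersion.of_comp i₀.left jG.left
  have : Algebra.FiniteType k (Coord G) := finiteType
  have : _root_.IsReduced (Coord G) := isReduced (X := G)
  have : Finite (Pts H ⧸ HP jH) := finite_quotient jH
  have h12 : (AGFObs.Inv i).FG ↔ (AGFObs.Inv (jH ≫ i)).FG := by
    obtain ⟨hle, hint⟩ := AGFObs.FiniteIndex.integral_of_finite_index i jH
    exact AGFObs.FiniteIndex.fg_iff_of_integral hle hint
  obtain ⟨ε, hεinv, hεmem, hε01⟩ := exists_idem jG
  have : Finite (Pts G ⧸ HP jG) := finite_quotient jG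
  have := Fintype.ofFinite (Pts G ⧸ HP jG)
  let S := AGFObs.Inv (jH ≫ i)
  have hres : ∀ f ∈ S, res jG f ∈ AGFObs.Inv i₀ := fun f hf x h hh => by
    obtain ⟨z, rfl⟩ := hh
    rw [val_res, val_res, MonObj.mul_comp, Category.assoc, hc]
    exact hf _ _ ⟨z, rfl⟩
  have hext : ∀ F ∈ AGFObs.Inv i₀, ∀ F' : Coord G, res jG F' = F → (1 - ε) * F' ∈ S := fun F hF F' hF' x h hh => by
    obtain ⟨z, rfl⟩ := hh
    have hmemG : (z ≫ jH ≫ i) ∈ HP jG := ⟨z ≫ i₀, by rw [Category.assoc, hc]⟩
    have e0 : valHom (x * (z ≫ jH ≫ i)) ε = valHom x ε := hεinv x _ hmemG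
    rw [map_mul, map_mul, map_sub, map_sub, map_one, map_one, e0]
    rcases hε01 x with h0 | h0
    · obtain ⟨y, rfl⟩ := (hεmem x).2 h0
      have e1 : (y ≫ jG) * (z ≫ jH ≫ i) = (y * (z ≫ i₀)) ≫ jG := by rw [MonObj.mul_comp, Category.assoc, hc]
      have e2 := hF y _ ⟨z, rfl⟩
      rw [← hF', val_res, val_res] at e2
      rw [e1, e2]
    · rw [h0, sub_self, zero_mul, zero_mul]
  have h23 : S.FG ↔ (AGFObs.Inv i₀).FG := by
    constructor
    · intro hS
      have : S.map (res jG) = AGFObs.Inv i₀ := by
        refine le_antisymm ?_ fun F hF => ?_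
        · rintro _ ⟨f, hf, rfl⟩
          exact hres f hf
        · obtain ⟨F', hF'⟩ := res_surjective jG F
          refine ⟨(1 - ε) * F', hext F hF F' hF', ?_⟩
          show res jG ((1 - ε) * F') = F
          rw [map_mul, hF', map_sub, map_one, show res jG ε = 0 from (res_eq_zero_iff jG).2 fun g hg => (hεmem g).1 hg,
            sub_zero, _root_.one_mul]
      rw [← this]
      exact hS.map _
    · intro hS₀
      obtain ⟨s, hs⟩ := hS₀
      choose lf hlf using fun F : Coord G₀ => res_surjective jG F
      let ex : Coord G₀ → Coord G := fun F => (1 - ε) * lf F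
      let gens : Finset (Coord G) := Finset.univ.biUnion fun q : Pts G ⧸ HP jG =>
        (insert 1 s).image fun F => L q.out⁻¹ (ex F)
      have hexval : ∀ (F : Coord G₀) (x : Pts G), (valHom x ε = 1 → valHom x (ex F) = 0) ∧
          ∀ y : Pts G₀, valHom (y ≫ jG) (ex F) = valHom y F := fun F x => ⟨fun h => by
        rw [map_mul, map_sub, map_one, h, sub_self, zero_mul], fun y => by
        rw [map_mul, map_sub, map_one, (hεmem _).1 ⟨y, rfl⟩, sub_zero, _root_.one_mul, ← val_res, hlf]⟩
      have hex : ∀ (F : Coord G₀) (f : Coord G), (∀ x, valHom x ε = 1 → valHom x f = 0) →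
          (∀ y : Pts G₀, valHom (y ≫ jG) f = valHom y F) → ex F = f := fun F f h1 h2 => ext_pts fun x => by
        rcases hε01 x with h0 | h0
        · obtain ⟨y, rfl⟩ := (hεmem x).2 h0
          rw [(hexval F (y ≫ jG)).2, h2]
        · rw [(hexval F x).1 h0, h1 x h0]
      refine ⟨gens, le_antisymm (Algebra.adjoin_le ?_) fun f hf => ?_⟩
      · intro f hf
        obtain ⟨q, -, hq⟩ := Finset.mem_biUnion.1 (Finset.mem_coe.1 hf)
        obtain ⟨F, hF, rfl⟩ := Finset.mem_image.1 hq
        refine L_mem_Inv _ _ (hext F ?_ _ (hlf F))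
        rcases Finset.mem_insert.1 hF with rfl | hF
        · exact one_mem _
        · exact hs ▸ Algebra.subset_adjoin hF
      · have key : ∀ F ∈ AGFObs.Inv i₀, ∀ q : Pts G ⧸ HP jG,
            L q.out⁻¹ (ex F) ∈ Algebra.adjoin k (gens : Set (Coord G)) := fun F hF q => by
          have hbase : ∀ F' ∈ insert 1 s, L q.out⁻¹ (ex F') ∈ Algebra.adjoin k (gens : Set (Coord G)) := fun F' hF' =>
            Algebra.subset_adjoin (Finset.mem_coe.2 (Finset.mem_biUnion.2 ⟨q, Finset.mem_univ _,
              Finset.mem_image.2 ⟨F', hF', rfl⟩⟩))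
          rw [← hs] at hF
          induction hF using Algebra.adjoin_induction with
          | mem F hF => exact hbase F (Finset.mem_insert_of_mem hF)
          | algebraMap c =>
            have e : ex (algebraMap k (Coord G₀) c) = c • ex 1 := hex _ _ (fun x h => by
              rw [map_smul, (hexval 1 x).1 h, smul_zero]) (fun y => by
              rw [map_smul, (hexval 1 (y ≫ jG)).2, AlgHom.commutes, map_one, Algebra.smul_def, _root_.mul_one])
            rw [e, map_smul]
            exact Subalgebra.smul_mem _ (hbase 1 (Finset.mem_insert_self _ _)) _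
          | add a b _ _ ha hb =>
            have e : ex (a + b) = ex a + ex b := hex _ _ (fun x h => by
              rw [map_add, (hexval a x).1 h, (hexval b x).1 h, add_zero]) (fun y => by
              rw [map_add, map_add, (hexval a (y ≫ jG)).2, (hexval b (y ≫ jG)).2])
            rw [e, map_add]
            exact add_mem ha hb
          | mul a b _ _ ha hb =>
            have e : ex (a * b) = ex a * ex b := hex _ _ (fun x h => by
              rw [map_mul, (hexval a x).1 h, zero_mul]) (fun y => by
              rw [map_mul (valHom (y ≫ jG)) (ex a) (ex b), (hexval a (y ≫ jG)).2, (hexval b (y ≫ jG)).2, map_mul])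
            rw [e, map_mul]
            exact mul_mem ha hb
        have hf' : f = ∑ q : Pts G ⧸ HP jG, L q.out⁻¹ (ex (res jG (L q.out f))) := ext_pts fun x => by
          rw [map_sum, Finset.sum_eq_single (QuotientGroup.mk x : Pts G ⧸ HP jG)]
          · obtain ⟨y, hy⟩ : (QuotientGroup.mk x : Pts G ⧸ HP jG).out⁻¹ * x ∈ HP jG :=
              QuotientGroup.eq.1 (QuotientGroup.out_eq' _)
            rw [val_L, ← hy, (hexval _ (y ≫ jG)).2, val_res, hy, val_L, mul_inv_cancel_left]
          · intro c _ hc'
            rw [val_L]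
            exact (hexval _ _).1 ((hε01 _).resolve_left fun h0 => hc' (by
              rw [← QuotientGroup.out_eq' c]
              exact QuotientGroup.eq.2 ((hεmem _).2 h0)))
          · exact fun h => absurd (Finset.mem_univ _) h
        rw [hf']
        exact Subalgebra.sum_mem _ fun q _ => key _ (hres _ (L_mem_Inv _ _ hf)) q
  rw [subringFGOver_iff, subringFGOver_iff, subringFGOver_iff]
  tfae_have 1 ↔ 2 := h12
  tfae_have 2 ↔ 3 := h23
  tfae_finish

end Groth.Agent.S11203
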