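import Groth.Statements.S11204
import Groth.Agent.AGFObs.Ext

set_option autoImplicit false
universe u
open CategoryTheory MonoidalCategory CartesianMonoidalCategory MonObj GrpObj AlgebraicGeometry
open scoped TensorProduct
open AGF

namespace Groth.Agent.S11204

open Groth.Agent.AGFObs Groth.Agent.AGFPoints.Basic

/-- Let k be an algebraically closed field, G a linear algebraic group over k and K ⊆ H ⊆ G closed
subgroups (smooth closed subgroup schemes κ : K → H, i : H → G) with K and H observable in G. If
k[G]^K is finitely generated over the constants (K is a Grosshans subgroup of G), then K is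
observable in H and k[H]^K is finitely generated over the constants (K is a Grosshans subgroup of
H). -/
theorem result (k : Type u) [Field k] [IsAlgClosed k]
    (G : Over (Spec (CommRingCat.of k))) [GrpObj G] [IsAffine G.left] [Smooth G.hom]
    (H : Over (Spec (CommRingCat.of k))) [GrpObj H] [Smooth H.hom] (i : H ⟶ G) [IsMonHom i]
    [IsClosedImmersion i.left]
    (K : Over (Spec (CommRingCat.of k))) [GrpObj K] [Smooth K.hom] (κ : K ⟶ H) [IsMonHom κ] [IsClosedImmersion κ.left]
    (hK : AGF.IsObservableIn k (κ ≫ i)) (hH : AGF.IsObservableIn k i)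
    (hfg : AGF.SubringFGOver k G (AGF.rTransInv (κ ≫ i))) :
    AGF.IsObservableIn k κ ∧ AGF.SubringFGOver k H (AGF.rTransInv κ) := by
  have : IsAffine H.left := isAffine_of_isAffineHom i.left
  have : IsAffine K.left := isAffine_of_isAffineHom κ.left
  have : IsClosedImmersion (κ ≫ i).left := by rw [Over.comp_left]; infer_instance
  have hci := (isObservableIn_iff_crit i).1 hH
  have hlift : ∀ f ∈ AGFObs.Inv κ, ∃ F ∈ AGFObs.Inv (κ ≫ i), res i F = f := fun f hf => by
    obtain ⟨P, hPf, hfP, hPst⟩ := exists_stable_Rt ({f} : Finset (Coord H))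
    obtain ⟨s, hs, hst⟩ := exists_section i hci P hPst
    let f' : P := ⟨f, hfP f (Finset.mem_singleton_self f)⟩
    refine ⟨s f', fun x h hh => ?_, hs f'⟩
    obtain ⟨z, rfl⟩ := hh
    rw [← val_Rt, ← Category.assoc, hst]
    congr 2
    exact Subtype.ext (ext_pts fun y => by rw [val_Rt]; exact hf y _ ⟨z, rfl⟩)
  have hres : ∀ F ∈ AGFObs.Inv (κ ≫ i), res i F ∈ AGFObs.Inv κ := fun F hF x h hh => by
    obtain ⟨z, rfl⟩ := hh
    rw [val_res, val_res, MonObj.mul_comp, Category.assoc]
    exact hF _ _ ⟨z, rfl⟩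
  constructor
  · refine (isObservableIn_iff κ).2 fun g hg => ?_
    obtain ⟨h₀, hh₀⟩ := (isObservableIn_iff (κ ≫ i)).1 hK (g ≫ i) fun F hF => ext_pts fun x => by
      have h1 := congrArg (valHom (1 : Pts H)) (hg _ (hres _ (L_mem_Inv (κ ≫ i) x hF)))
      rwa [val_Rt, _root_.one_mul, val_res, val_res, MonObj.one_comp, val_L, val_L, _root_.mul_one, ← val_Rt] at h1
    refine ⟨h₀, ?_⟩
    have : Mono i.left := inferInstance
    exact Over.OverMorphism.ext ((cancel_mono i.left).1 (by
      simpa [Category.assoc] using congrArg (fun m => m.left) hh₀))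
  · obtain ⟨s, hs, hle⟩ := hfg
    classical
    refine ⟨s.image (res i : Coord G → Coord H), ?_, fun f hf => ?_⟩
    · intro f hf
      obtain ⟨F, hF, rfl⟩ := Finset.mem_image.1 (Finset.mem_coe.1 hf)
      exact (isRTransInv_iff_mem κ _).2 (hres F ((isRTransInv_iff_mem (κ ≫ i) F).1 (hs hF)))
    · obtain ⟨F, hF, rfl⟩ := hlift f ((isRTransInv_iff_mem κ f).1 hf)
      let S : Set (Coord G) :=
        Set.range (fun c : k => (G.hom.appTop ((Scheme.ΓSpecIso (CommRingCat.of k)).inv c) : Coord G)) ∪ ((↑s : Set Γ(G.left, ⊤)) : Set (Coord G))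
      have hFS : F ∈ (Subring.closure S : Subring (Coord G)) := hle ((isRTransInv_iff_mem (κ ≫ i) F).2 hF)
      have hm : res i F ∈ (Subring.closure S).map (res i : Coord G →+* Coord H) := ⟨F, hFS, rfl⟩
      rw [RingHom.map_closure] at hm
      refine Subring.closure_mono ?_ hm
      rw [Set.image_union, Finset.coe_image]
      refine Set.union_subset_union ?_ subset_rfl
      rintro _ ⟨_, ⟨c, rfl⟩, rfl⟩
      exact ⟨c, ((res i).commutes c).symm⟩

end Groth.Agent.S11204
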