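import Groth.Statements.S7125
import Groth.Agent.S2111
import Mathlib.RingTheory.Flat.EquationalCriterion
import Mathlib.RingTheory.Flat.FaithfullyFlat.Algebra
import Mathlib.RingTheory.Ideal.GoingDown
import Mathlib.RingTheory.Ideal.KrullsHeightTheorem
import Mathlib.RingTheory.DiscreteValuationRing.TFAE
import Mathlib.RingTheory.DedekindDomain.Dvr
import Mathlib.Tactic.Ring


set_option autoImplicit false
set_option linter.style.haveILetI false
universe u
open CAlg

namespace Groth.Agent.S7125

lemma dvd_of_height_one {R : Type u} [CommRing R] [IsDomain R] [IsNoetherianRing R]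
    [IsIntegrallyClosed R] (b a : R) (hb : b ≠ 0)
    (h : ∀ (p : Ideal R) [p.IsPrime], p.height = 1 →
      algebraMap R (Localization.AtPrime p) b ∣ algebraMap R (Localization.AtPrime p) a) : b ∣ a := by
  have hb' : algebraMap R (FractionRing R) b ≠ 0 := (map_ne_zero_iff _ (IsFractionRing.injective R _)).2 hb
  obtain ⟨c, hc⟩ := S2111.result (algebraMap R (FractionRing R) a / algebraMap R (FractionRing R) b)
    (fun p _ hp => by
      obtain ⟨z, hz⟩ := h p hp
      refine ⟨z, (eq_div_iff hb').2 ?_⟩
      rw [IsScalarTower.algebraMap_apply R (Localization.AtPrime p) (FractionRing R) b,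
        ← map_mul, mul_comm, ← hz, ← IsScalarTower.algebraMap_apply])
  refine ⟨c, IsFractionRing.injective R (FractionRing R) ?_⟩
  rw [map_mul, hc, mul_div_cancel₀ _ hb']

lemma exists_dvd {R : Type u} [CommRing R] (M : Submonoid R) {L : Type u} [CommRing L] [Algebra R L]
    [IsLocalization M L] {b a : R} (h : algebraMap R L b ∣ algebraMap R L a) :
    ∃ t ∈ M, b ∣ t * a := by
  obtain ⟨z, hz⟩ := h
  obtain ⟨⟨c, s⟩, hcs⟩ := IsLocalization.surj M z
  have : algebraMap R L ((s : R) * a) = algebraMap R L (b * c) := by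
    rw [map_mul, map_mul, hz, ← hcs]; ring
  obtain ⟨t, ht⟩ := IsLocalization.exists_of_eq (M := M) this
  exact ⟨t * s, M.mul_mem t.2 s.2, ⟨t * c, by rw [mul_assoc, ht]; ring⟩⟩

lemma isDVR_of_height_one {R : Type u} [CommRing R] [IsDomain R] [IsNoetherianRing R]
    [IsIntegrallyClosed R] (p : Ideal R) [p.IsPrime] (hp : p.height = 1) :
    IsDiscreteValuationRing (Localization.AtPrime p) := by
  have hp0 : p ≠ ⊥ := fun h => by rw [h, Ideal.height_bot] at hp; exact zero_ne_one hp
  have hnf : ¬ IsField (Localization.AtPrime p) := IsLocalization.AtPrime.not_isField R hp0 _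
  haveI : IsIntegrallyClosed (Localization.AtPrime p) :=
    isIntegrallyClosed_of_isLocalization _ p.primeCompl p.primeCompl_le_nonZeroDivisors
  refine ((IsDiscreteValuationRing.TFAE _ hnf).out 3 0
    (a := IsIntegrallyClosed (Localization.AtPrime p) ∧
      ∃! Q : Ideal (Localization.AtPrime p), Q ≠ ⊥ ∧ Q.IsPrime)
    (b := IsDiscreteValuationRing (Localization.AtPrime p))).1 ⟨‹_›, ?_⟩
  refine ⟨IsLocalRing.maximalIdeal _, ⟨IsLocalRing.isField_iff_maximalIdeal_eq.not.1 hnf,
    inferInstance⟩, fun Q ⟨hQ0, hQ⟩ => ?_⟩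
  have hd := IsLocalRing.maximalIdeal_height_eq_ringKrullDim (R := Localization.AtPrime p)
  rw [IsLocalization.AtPrime.ringKrullDim_eq_height p, hp] at hd
  by_contra hne
  have hlt : Q < IsLocalRing.maximalIdeal _ :=
    lt_of_le_of_ne (IsLocalRing.le_maximalIdeal Ideal.IsPrime.ne_top') hne
  have h1 := Ideal.height_add_one_le_of_lt_of_isPrime hlt
  have h2 := Ideal.height_add_one_le_of_lt_of_isPrime (I := (⊥ : Ideal (Localization.AtPrime p)))
    (J := Q) (bot_lt_iff_ne_bot.2 hQ0)
  rw [Ideal.height_bot, zero_add] at h2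
  rw [show (IsLocalRing.maximalIdeal (Localization.AtPrime p)).height = 1 by exact_mod_cast hd] at h1
  exact absurd ((add_le_add h2 le_rfl).trans h1) (by decide)

lemma local_root {A B : Type u} [CommRing A] [IsDomain A] [IsNoetherianRing A] [IsIntegrallyClosed A]
    [CommRing B] [IsDomain B] [IsNoetherianRing B] [IsIntegrallyClosed B] [Algebra A B]
    (f : A) (h : B) (n : ℕ) (w : Bˣ) (hf : algebraMap A B f = (w : B) * h ^ n) (hf0 : f ≠ 0)
    (p : Ideal A) [p.IsPrime] (q : Ideal B) [q.IsPrime] (hp : p.height = 1) (hq : q.height = 1)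
    (hqp : q.comap (algebraMap A B) = p)
    (hqm : Ideal.map (algebraMap B (Localization.AtPrime q)) (Ideal.map (algebraMap A B) p) =
          IsLocalRing.maximalIdeal (Localization.AtPrime q)) :
    ∃ g : Localization.AtPrime p, algebraMap A (Localization.AtPrime p) f ∣ g ^ n ∧
        g ^ n ∣ algebraMap A (Localization.AtPrime p) f := by
  haveI := isDVR_of_height_one p hp
  haveI := isDVR_of_height_one q hq
  obtain ⟨π, hπ⟩ := IsDiscreteValuationRing.exists_irreducible (Localization.AtPrime p)
  let φ : Localization.AtPrime p →+* Localization.AtPrime q :=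
    Localization.localRingHom p q (algebraMap A B) hqp.symm
  have hφ : ∀ a, φ (algebraMap A _ a) = algebraMap B _ (algebraMap A B a) :=
    fun a => Localization.localRingHom_to_map _ _ _ _ a
  have hφπ : Irreducible (φ π) := by
    rw [IsDiscreteValuationRing.irreducible_iff_uniformizer, ← hqm]
    have hm : IsLocalRing.maximalIdeal (Localization.AtPrime p) =
        p.map (algebraMap A (Localization.AtPrime p)) := (Localization.AtPrime.map_eq_maximalIdeal).symm
    have := congrArg (Ideal.map φ) ((IsDiscreteValuationRing.irreducible_iff_uniformizer π).1 hπ)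
    rw [Ideal.map_span, Set.image_singleton] at this
    rw [← this, hm, Ideal.map_map, Ideal.map_map]
    congr 1
    ext a; exact (hφ a).symm
  have hfl : algebraMap A (Localization.AtPrime p) f ≠ 0 :=
    (map_ne_zero_iff _ (IsLocalization.injective _ p.primeCompl_le_nonZeroDivisors)).2 hf0
  obtain ⟨k, u, hku⟩ := IsDiscreteValuationRing.eq_unit_mul_pow_irreducible hfl hπ
  have hfB : φ (algebraMap A _ f) = algebraMap B (Localization.AtPrime q) (w : B) *
      (algebraMap B (Localization.AtPrime q) h) ^ n := by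
    rw [hφ, hf, map_mul, map_pow]
  rw [hku, map_mul, map_pow] at hfB
  have hh : algebraMap B (Localization.AtPrime q) h ≠ 0 ∨ n = 0 := by
    by_contra hc
    simp only [not_or, not_not] at hc
    rw [hc.1, zero_pow hc.2, mul_zero] at hfB
    exact ((u.isUnit.map φ).mul_right_eq_zero.1 hfB |> fun hz => pow_ne_zero k hφπ.ne_zero hz)
  rcases hh with hh | hn
  · obtain ⟨j, v, hjv⟩ := IsDiscreteValuationRing.eq_unit_mul_pow_irreducible hh hφπ
    rw [hjv, mul_pow, ← pow_mul, ← mul_assoc] at hfB
    have hkj : k = j * n := by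
      refine IsDiscreteValuationRing.unit_mul_pow_congr_pow hφπ hφπ ((Units.map φ.toMonoidHom) u)
        ((Units.map (algebraMap B (Localization.AtPrime q)).toMonoidHom w) * v ^ n) k (j * n) ?_
      simpa [Units.val_mul] using hfB
    refine ⟨π ^ j, ?_, ?_⟩
    · rw [hku, ← pow_mul, ← hkj]
      exact (Units.mul_left_dvd).2 dvd_rfl
    · rw [hku, ← pow_mul, ← hkj]
      exact dvd_mul_left _ _
  · subst hn
    refine ⟨1, ?_, ?_⟩
    · rw [pow_zero, mul_one] at hf
      have : IsUnit (algebraMap A (Localization.AtPrime p) f) := by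
        refine IsLocalization.map_units (Localization.AtPrime p) (⟨f, fun hfp => ?_⟩ : p.primeCompl)
        rw [← hqp, SetLike.mem_coe, Ideal.mem_comap, hf] at hfp
        exact Ideal.IsPrime.ne_top ‹q.IsPrime› (Ideal.eq_top_of_isUnit_mem _ hfp w.isUnit)
      exact this.dvd
    · simp

lemma flat_colon {A B : Type u} [CommRing A] [IsNoetherianRing A] [CommRing B] [Algebra A B]
    [Module.Flat A B] (f : A) (J : Ideal A) (z : B)
    (h : ∀ y ∈ J, algebraMap A B f ∣ algebraMap A B y * z) :
    ∃ (k : ℕ) (a : Fin k → A) (b : Fin k → B), ∑ j, algebraMap A B (a j) * b j = z ∧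
      ∀ j, ∀ y ∈ J, f ∣ y * a j := by
  classical
  obtain ⟨r, y, hy⟩ := Submodule.fg_iff_exists_fin_generating_family.1 J.fg_of_isNoetherianRing
  choose c hc using fun i => h (y i) (hy ▸ Submodule.subset_span ⟨i, rfl⟩)
  let x : (A × (Fin r → A)) →ₗ[A] B :=
    (LinearMap.toSpanSingleton A B z).coprod (Fintype.linearCombination A c)
  let R : (Fin r → A) →ₗ[A] (A × (Fin r → A)) :=
    Fintype.linearCombination A (fun i => ((y i, -Pi.single i f) : A × (Fin r → A)))
  have hx : x ∘ₗ R = 0 := by
    refine LinearMap.pi_ext' fun i => LinearMap.ext_ring ?_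
    simp [x, R, Fintype.linearCombination_apply, Pi.single_apply, Algebra.smul_def, hc, apply_ite (algebraMap A B), ite_mul]
  obtain ⟨k, a, b, hxba, haR⟩ := Module.Flat.exists_factorization_of_comp_eq_zero_of_free hx
  refine ⟨k, fun j => a (1, 0) j, fun j => b (Finsupp.single j 1), ?_, fun j => ?_⟩
  · have h1 := LinearMap.congr_fun hxba (1, 0)
    simp only [x, LinearMap.coprod_apply, LinearMap.toSpanSingleton_apply, one_smul, map_zero, add_zero,
      LinearMap.comp_apply] at h1
    rw [h1]
    conv_rhs => rw [← Finsupp.univ_sum_single (a (1, 0)), map_sum]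
    refine Finset.sum_congr rfl fun j _ => ?_
    rw [← Algebra.smul_def, ← map_smul, Finsupp.smul_single, smul_eq_mul, mul_one]
  · intro y' hy'
    have hle : J ≤ (Ideal.span {f}).colon {a (1, 0) j} := by
      rw [← hy]
      refine Submodule.span_le.2 ?_
      rintro _ ⟨i, rfl⟩
      rw [SetLike.mem_coe, Submodule.mem_colon_singleton, smul_eq_mul, Ideal.mem_span_singleton]
      have h1 := LinearMap.congr_fun haR (Pi.single i 1)
      have h2 : R (Pi.single i 1) = y i • ((1 : A), (0 : Fin r → A)) - f • ((0 : A), (Pi.single i 1 : Fin r → A)) := by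
        ext l <;> simp [R, Fintype.linearCombination_apply, Pi.single_apply]
      rw [LinearMap.comp_apply, h2, map_sub, map_smul, map_smul, LinearMap.zero_apply, sub_eq_zero] at h1
      exact ⟨a (0, Pi.single i 1) j, by simpa using DFunLike.congr_fun h1 j⟩
    simpa [Submodule.mem_colon_singleton, Ideal.mem_span_singleton] using hle hy'

/-- Let A and B be Noetherian local normal domains and A → B a flat homomorphism that is local, and let
f in A, h in B, n > 1 and a unit w of B satisfy f = w·hⁿ in B. Assume that for every height-one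
prime p of A there is a height-one prime q of B lying over p such that A_p ⊆ B_q is weakly
unramified, i.e. p generates the maximal ideal of B_q. Then f = u·gⁿ for some g in A and some unit u
of A. -/
theorem result (A B : Type u) [CommRing A] [IsDomain A]
    [IsNoetherianRing A] [IsLocalRing A] [IsIntegrallyClosed A] [CommRing B] [IsDomain B] [IsNoetherianRing B]
    [IsLocalRing B] [IsIntegrallyClosed B] [Algebra A B] [IsLocalHom (algebraMap A B)] [Module.Flat A B]
    (f : A) (h : B) (n : ℕ) (hn : 1 < n) (w : Bˣ) (hf : algebraMap A B f = (w : B) * h ^ n)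
    (hram : ∀ (p : Ideal A) [p.IsPrime], p.height = 1 →
      ∃ (q : Ideal B) (_ : q.IsPrime), q.height = 1 ∧ q.comap (algebraMap A B) = p ∧
        Ideal.map (algebraMap B (Localization.AtPrime q)) (Ideal.map (algebraMap A B) p) =
          IsLocalRing.maximalIdeal (Localization.AtPrime q)) :
    ∃ (g : A) (u : Aˣ), f = (u : A) * g ^ n := by
  classical
  haveI : Module.FaithfullyFlat A B := Module.FaithfullyFlat.of_flat_of_isLocalHom
  have hn0 : n ≠ 0 := by omega
  have hdesc : ∀ x y : A, algebraMap A B x ∣ algebraMap A B y → x ∣ y := by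
    intro x y hxy
    rw [← Ideal.mem_span_singleton] at hxy ⊢
    rw [← Ideal.comap_map_eq_self_of_faithfullyFlat (B := B) (Ideal.span {x}), Ideal.mem_comap,
      Ideal.map_span, Set.image_singleton]
    exact hxy
  have hinj : Function.Injective (algebraMap A B) := by
    rw [injective_iff_map_eq_zero]
    intro x hx
    exact zero_dvd_iff.1 (hdesc 0 x (by rw [map_zero, hx]))
  by_cases hf0 : f = 0
  · exact ⟨0, 1, by simp [hf0, hn0]⟩
  let I : Ideal A := (Ideal.span {h}).comap (algebraMap A B)
  have hI1 : ∀ x, x ∈ I → f ∣ x ^ n := by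
    intro x hx
    refine hdesc _ _ ?_
    rw [map_pow, hf, Units.mul_left_dvd]
    exact pow_dvd_pow_of_dvd (Ideal.mem_span_singleton.1 hx) n
  have hI2 : ∀ x, f ∣ x ^ n → x ∈ I := by
    intro x hx
    refine Ideal.mem_span_singleton.2 ((IsIntegrallyClosed.pow_dvd_pow_iff hn0).1 ?_)
    have := map_dvd (algebraMap A B) hx
    rw [map_pow, hf, Units.mul_left_dvd] at this
    exact this
  let J : Ideal A := (Ideal.span {f}).colon (I : Set A)
  have hJ : ∀ y, y ∈ J ↔ ∀ x ∈ I, f ∣ y * x := fun y => by
    simp [J, Submodule.mem_colon, Ideal.mem_span_singleton]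
  -- the local structure at height one primes
  have hloc : ∀ (p : Ideal A) [p.IsPrime], p.height = 1 →
      ∃ g : Localization.AtPrime p, algebraMap A (Localization.AtPrime p) f ∣ g ^ n ∧
        g ^ n ∣ algebraMap A (Localization.AtPrime p) f := by
    intro p hp hp1
    obtain ⟨q, hqp, hq1, hqp', hqm⟩ := hram p hp1
    exact local_root f h n w hf hf0 p q hp1 hq1 hqp' hqm
  have claim1 : ∀ y ∈ J, algebraMap A B f ∣ algebraMap A B y * h := by
    intro y hy
    refine dvd_of_height_one _ _ ((map_ne_zero_iff _ hinj).2 hf0) fun q _ hq => ?_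
    by_cases hp : q.comap (algebraMap A B) = ⊥
    · refine (IsLocalization.map_units (Localization.AtPrime q) (⟨algebraMap A B f, fun hfq => ?_⟩ : q.primeCompl)).dvd
      have : f ∈ q.comap (algebraMap A B) := hfq
      rw [hp] at this
      exact hf0 this
    · set p := q.comap (algebraMap A B) with hpdef
      have hp1 : p.height = 1 := by
        haveI : q.LiesOver p := ⟨rfl⟩
        refine le_antisymm ?_ (Order.one_le_iff_pos.2 (pos_iff_ne_zero.2 fun h0 => hp (Ideal.height_eq_zero_iff_eq_bot.1 h0)))
        rw [← hq, Ideal.height_eq_height_add_of_liesOver_of_hasGoingDown p q]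
        exact le_self_add
      obtain ⟨g, hg1, hg2⟩ := hloc p hp1
      obtain ⟨⟨x, s⟩, hxs⟩ := IsLocalization.surj p.primeCompl g
      have hsu : IsUnit (algebraMap A (Localization.AtPrime p) (s : A)) :=
        IsLocalization.map_units (Localization.AtPrime p) s
      have hx1 : algebraMap A (Localization.AtPrime p) f ∣ algebraMap A (Localization.AtPrime p) (x ^ n) := by
        rw [map_pow, ← hxs, mul_pow]
        exact hg1.mul_right _
      obtain ⟨t, ht, htx⟩ := exists_dvd p.primeCompl hx1
      have htu : IsUnit (algebraMap A (Localization.AtPrime p) t) :=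
        IsLocalization.map_units (Localization.AtPrime p) (⟨t, ht⟩ : p.primeCompl)
      have hi : t * x ∈ I := hI2 _ (by
        rw [mul_pow]
        obtain ⟨k, hk⟩ := Nat.exists_eq_succ_of_ne_zero hn0
        rw [hk] at htx ⊢
        obtain ⟨z, hz⟩ := htx
        exact ⟨z * t ^ k, by rw [← mul_assoc, ← hz, pow_succ t k]; ring⟩)
      have hi2 : algebraMap A (Localization.AtPrime p) ((t * x) ^ n) ∣
          algebraMap A (Localization.AtPrime p) f := by
        rw [map_pow, map_mul, ← hxs, mul_pow, mul_pow,
          (htu.pow n).mul_left_dvd, (hsu.pow n).mul_right_dvd]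
        exact hg2
      let φ : Localization.AtPrime p →+* Localization.AtPrime q :=
        Localization.localRingHom p q (algebraMap A B) rfl
      have hφ : ∀ a, φ (algebraMap A _ a) = algebraMap B _ (algebraMap A B a) :=
        fun a => Localization.localRingHom_to_map _ _ _ _ a
      have hi3 := map_dvd φ hi2
      rw [hφ, hφ, hf, map_mul, map_pow, map_pow, map_pow,
        (w.isUnit.map (algebraMap B (Localization.AtPrime q))).dvd_mul_left] at hi3
      haveI : IsIntegrallyClosed (Localization.AtPrime q) :=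
        isIntegrallyClosed_of_isLocalization _ q.primeCompl q.primeCompl_le_nonZeroDivisors
      have hdi : algebraMap B (Localization.AtPrime q) (algebraMap A B (t * x)) ∣
          algebraMap B (Localization.AtPrime q) h := (IsIntegrallyClosed.pow_dvd_pow_iff hn0).1 hi3
      rw [map_mul]
      refine dvd_trans ?_ (mul_dvd_mul_left _ hdi)
      rw [← map_mul (algebraMap B (Localization.AtPrime q)), ← map_mul]
      exact map_dvd _ (map_dvd _ ((hJ y).1 hy _ hi))
  have claim2 : ∀ x ∈ (Ideal.span {f}).colon (J : Set A), x ∈ I := by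
    intro x hx
    refine hI2 x (dvd_of_height_one _ _ hf0 fun p _ hp => ?_)
    obtain ⟨g, hg1, hg2⟩ := hloc p hp
    haveI : IsIntegrallyClosed (Localization.AtPrime p) :=
      isIntegrallyClosed_of_isLocalization _ p.primeCompl p.primeCompl_le_nonZeroDivisors
    have hg0 : g ≠ 0 := by
      intro h0
      rw [h0, zero_pow hn0, zero_dvd_iff, map_eq_zero_iff _
        (IsLocalization.injective _ p.primeCompl_le_nonZeroDivisors)] at hg2
      exact hf0 hg2
    obtain ⟨⟨y0, s⟩, hys⟩ := IsLocalization.surj p.primeCompl (g ^ (n - 1))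
    have hsu : IsUnit (algebraMap A (Localization.AtPrime p) (s : A)) :=
      IsLocalization.map_units (Localization.AtPrime p) s
    have hgen : ∀ i ∈ I, ∃ t, t ∉ p ∧ f ∣ t * (y0 * i) := by
      intro i hi
      refine exists_dvd p.primeCompl (L := Localization.AtPrime p) ?_
      have : g ^ n ∣ (algebraMap A (Localization.AtPrime p) i) ^ n := by
        rw [← map_pow]
        exact hg2.trans (map_dvd _ (hI1 i hi))
      rw [map_mul, ← hys, mul_right_comm]
      refine Dvd.dvd.mul_right (hg1.trans ?_) _
      calc g ^ n = g ^ (n - 1) * g := by rw [← pow_succ, Nat.sub_add_cancel (by omega : 1 ≤ n)]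
        _ ∣ g ^ (n - 1) * algebraMap A _ i := mul_dvd_mul_left _ ((IsIntegrallyClosed.pow_dvd_pow_iff hn0).1 this)
    obtain ⟨S, hS⟩ : I.FG := I.fg_of_isNoetherianRing
    choose T hT hT' using fun i : S => hgen i (hS ▸ Submodule.subset_span i.2)
    have hy : (∏ i : S, T i) * y0 ∈ J := by
      rw [hJ]
      intro z hz
      have hle : I ≤ (Ideal.span {f}).colon {(∏ i : S, T i) * y0} := by
        rw [← hS, Ideal.span_le]
        intro i hi
        rw [SetLike.mem_coe, Submodule.mem_colon_singleton, smul_eq_mul, Ideal.mem_span_singleton]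
        rw [← Finset.prod_erase_mul _ _ (Finset.mem_univ ⟨i, hi⟩)]
        exact (hT' ⟨i, hi⟩).trans ⟨∏ j ∈ Finset.univ.erase ⟨i, hi⟩, T j, by ring⟩
      have := hle hz
      rw [Submodule.mem_colon_singleton, smul_eq_mul, Ideal.mem_span_singleton, mul_comm] at this
      exact this
    have hfxy : f ∣ x * ((∏ i : S, T i) * y0) := by
      have := (Submodule.mem_colon.1 hx) _ hy
      simpa [Ideal.mem_span_singleton] using this
    have hTu : IsUnit (algebraMap A (Localization.AtPrime p) (∏ i : S, T i)) :=
      IsLocalization.map_units (Localization.AtPrime p)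
        (⟨∏ i : S, T i, prod_mem (S := p.primeCompl) fun i _ => hT i⟩ : p.primeCompl)
    have h1 := map_dvd (algebraMap A (Localization.AtPrime p)) hfxy
    rw [map_mul, map_mul, mul_left_comm, hTu.dvd_mul_left, ← hys, ← mul_assoc, hsu.dvd_mul_right] at h1
    have h2 : g ^ (n - 1) * g ∣ g ^ (n - 1) * algebraMap A _ x := by
      rw [← pow_succ, Nat.sub_add_cancel (by omega : 1 ≤ n), mul_comm]
      exact hg2.trans h1
    have h3 := (mul_dvd_mul_iff_left (pow_ne_zero _ hg0)).1 h2
    rw [map_pow]
    exact hg1.trans (pow_dvd_pow_of_dvd h3 n)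
  obtain ⟨k, a, b, hba, hak⟩ := flat_colon f J h claim1
  -- `h` is in `I B`
  have hhI : h ∈ I.map (algebraMap A B) := by
    rw [← hba]
    refine Ideal.sum_mem _ fun j _ => Ideal.mul_mem_right _ _ (Ideal.mem_map_of_mem _ (claim2 _ ?_))
    rw [Submodule.mem_colon]
    intro y hy
    rw [smul_eq_mul, Ideal.mem_span_singleton, mul_comm]
    exact hak j y hy
  have hh0 : h ≠ 0 := by
    intro h0
    rw [h0, zero_pow hn0, mul_zero, map_eq_zero_iff _ hinj] at hf
    exact hf0 hf
  obtain ⟨g, hgI, hgu⟩ : ∃ g ∈ I, algebraMap A B g ∣ h := by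
    by_contra hne
    have hne' : ∀ g ∈ I, ¬ algebraMap A B g ∣ h := fun g hg hd => hne ⟨g, hg, hd⟩
    have : I.map (algebraMap A B) ≤ Ideal.span {h} * IsLocalRing.maximalIdeal B := by
      rw [Ideal.map_le_iff_le_comap]
      intro g hg
      obtain ⟨c, hc⟩ := Ideal.mem_span_singleton.1 hg
      rw [Ideal.mem_comap, hc]
      refine Ideal.mul_mem_mul (Ideal.mem_span_singleton_self h) ?_
      by_contra hcm
      have hcu : IsUnit c := by simpa [IsLocalRing.mem_maximalIdeal, mem_nonunits_iff] using hcm
      exact hne' g hg (hc ▸ hcu.mul_right_dvd.2 dvd_rfl)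
    obtain ⟨c, hc, hhc⟩ := Ideal.mem_span_singleton_mul.1 (this hhI)
    have hc1 : c = 1 := mul_left_cancel₀ hh0 (by rw [hhc, mul_one])
    exact (IsLocalRing.maximalIdeal.isMaximal B).ne_top ((Ideal.eq_top_iff_one _).2 (hc1 ▸ hc))
  have h1 : f ∣ g ^ n := hI1 g hgI
  have h2 : g ^ n ∣ f := hdesc _ _ (by rw [map_pow, hf]; exact (pow_dvd_pow_of_dvd hgu n).mul_left _)
  obtain ⟨u, hu⟩ := associated_of_dvd_dvd h2 h1
  exact ⟨g, u, by rw [← hu, mul_comm]⟩

end Groth.Agent.S7125
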