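import Groth.Statements.S11205
import Groth.Agent.S7125
import Groth.Agent.EtRamLib.CompositumNoeth
import Mathlib.AlgebraicGeometry.AlgClosed.Basic
import Mathlib.AlgebraicGeometry.Morphisms.UniversallyInjective
import Mathlib.FieldTheory.PurelyInseparable.Basic
-- import your own Groth.Agent.* helpers here

set_option autoImplicit false
universe u
open CategoryTheory MonoidalCategory CartesianMonoidalCategory MonObj GrpObj AlgebraicGeometry
open scoped TensorProduct
open AGF

namespace Groth.Agent.S11205

open Limits TopologicalSpace Opposite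

/-- a morphism injective on the points of varieties over an algebraically closed field is universally injective -/
theorem universallyInjective_of_inj {k : Type u} [Field k] [IsAlgClosed k] {X Y : Scheme.{u}}
    (p : Y ⟶ X) (cX : X ⟶ Spec (CommRingCat.of k)) (cY : Y ⟶ Spec (CommRingCat.of k)) (hc : p ≫ cX = cY)
    [LocallyOfFiniteType cY] [LocallyOfFiniteType p] [IsSeparated p]
    (hp : Function.Injective p.base) : UniversallyInjective p := by
  rw [UniversallyInjective.iff_diagonal, surjective_iff]
  have : LocallyOfFiniteType (pullback.fst p p ≫ cY) := inferInstance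
  have : JacobsonSpace ↥(pullback p p) := LocallyOfFiniteType.jacobsonSpace (pullback.fst p p ≫ cY)
  rw [← Set.range_eq_univ, ← (pullback.diagonal p).isClosedEmbedding.isClosed_range.closure_eq]
  refine Set.eq_univ_of_univ_subset ((closure_closedPoints (X := ↥(pullback p p))).ge.trans (closure_mono fun z hz => ?_))
  let s := pointOfClosedPoint (pullback.fst p p ≫ cY) z hz
  have hs : s ≫ pullback.fst p p ≫ cY = 𝟙 _ := pointOfClosedPoint_comp _ _ _
  have hw : s ≫ pullback.snd p p ≫ cY = 𝟙 _ := by
    rw [← hs, ← hc, pullback.condition_assoc]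
  have he : s ≫ pullback.fst p p = s ≫ pullback.snd p p :=
    ext_of_apply_closedPoint_eq cY (by rw [Category.assoc]; exact hs) (by rw [Category.assoc]; exact hw) (hp (by
      show (((s ≫ pullback.fst p p) ≫ p).base) _ = (((s ≫ pullback.snd p p) ≫ p).base) _
      rw [Category.assoc, pullback.condition, ← Category.assoc]))
  refine ⟨(s ≫ pullback.fst p p) (IsLocalRing.closedPoint k), ?_⟩
  have e : (s ≫ pullback.fst p p) ≫ pullback.diagonal p = s := by
    apply pullback.hom_ext
    · rw [Category.assoc, pullback.diagonal_fst, Category.comp_id]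
    · rw [Category.assoc, pullback.diagonal_snd, Category.comp_id, he]
  rw [← Scheme.Hom.comp_apply, e]
  exact pointOfClosedPoint_apply _ _ _ _

/-- sections on normal varieties descend along bijective morphisms, up to a power -/
theorem exists_pow_descends {X Y : Scheme.{u}} [IsIntegral X] [IsIntegral Y] [IsLocallyNoetherian X]
    (hX : ∀ x : X, IsIntegrallyClosed ↑(X.presheaf.stalk x)) (p : Y ⟶ X) [UniversallyInjective p]
    (hs : Function.Surjective p.base) (f : Γ(Y, ⊤)) :
    ∃ (q : ℕ) (g : Γ(X, ⊤)), 0 < q ∧ p.appTop g = f ^ q := by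
  have hgen : p (genericPoint Y) = genericPoint X := by
    have h1 : IsGenericPoint (p.base (genericPoint Y)) (Set.univ : Set X) := by
      have := (genericPoint_spec Y).image p.continuous
      rwa [Set.image_univ, Set.range_eq_univ.2 hs, closure_univ] at this
    exact h1.eq (genericPoint_spec X)
  haveI : Nonempty (⊤ : Y.Opens) := ⟨⟨genericPoint Y, trivial⟩⟩
  haveI : Nonempty (⊤ : X.Opens) := ⟨⟨genericPoint X, trivial⟩⟩
  let ιh : X.functionField ⟶ Y.functionField :=
    X.presheaf.stalkSpecializes (specializes_of_eq hgen) ≫ p.stalkMap (genericPoint Y)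
  have hne : ∀ V : X.Opens, [Nonempty V] → Nonempty (p ⁻¹ᵁ V) := fun V h => by
    obtain ⟨⟨x, hx⟩⟩ := h
    obtain ⟨y, rfl⟩ := hs x
    exact ⟨⟨y, hx⟩⟩
  have hι : ∀ (V : X.Opens) [Nonempty V] (a : Γ(X, V)), letI := hne V
      ιh (X.germToFunctionField V a) = Y.germToFunctionField (p ⁻¹ᵁ V) (p.app V a) := fun V _ a => by
    haveI := hne V
    have e : X.germToFunctionField V ≫ ιh = p.app V ≫ Y.germToFunctionField (p ⁻¹ᵁ V) := by
      show X.presheaf.germ V _ _ ≫ _ ≫ _ = p.app V ≫ Y.presheaf.germ (p ⁻¹ᵁ V) _ _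
      rw [TopCat.Presheaf.germ_stalkSpecializes_assoc]
      exact Scheme.Hom.germ_stalkMap p V _ _
    exact congr($e a)
  letI : Algebra X.functionField Y.functionField := ιh.hom.toAlgebra
  have hemb : Subsingleton (Field.Emb X.functionField Y.functionField) := ⟨fun σ₁ σ₂ => by
    apply AlgHom.coe_ringHom_injective
    let g : (Y.functionField →+* AlgebraicClosure Y.functionField) → (Spec (CommRingCat.of (AlgebraicClosure Y.functionField)) ⟶ Y) :=
      fun σ => Spec.map (CommRingCat.ofHom σ) ≫ Y.fromSpecStalk (genericPoint Y)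
    have hg : ∀ σ : Y.functionField →ₐ[X.functionField] AlgebraicClosure Y.functionField, g σ.toRingHom ≫ p =
        Spec.map (CommRingCat.ofHom (algebraMap X.functionField (AlgebraicClosure Y.functionField))) ≫ X.fromSpecStalk (genericPoint X) := fun σ => by
      show (_ ≫ _) ≫ p = _
      rw [Category.assoc, ← Scheme.SpecMap_stalkMap_fromSpecStalk, ← Scheme.SpecMap_stalkSpecializes_fromSpecStalk (specializes_of_eq hgen),
        ← Spec.map_comp_assoc, ← Spec.map_comp_assoc]
      congr 2
      exact CommRingCat.hom_ext (RingHom.ext fun a => σ.commutes a)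
    have hinjK : ∀ (K : Type u) [Field K], Function.Injective (fun g : Spec (CommRingCat.of K) ⟶ Y => g ≫ p) :=
      ((tfae_universallyInjective p).out 0 1 rfl rfl).mp ‹UniversallyInjective p›
    have h12 : g σ₁.toRingHom = g σ₂.toRingHom := hinjK _ ((hg σ₁).trans (hg σ₂).symm)
    exact congrArg CommRingCat.Hom.hom (Spec.map_injective ((cancel_mono _).1 h12))⟩
  haveI : IsPurelyInseparable X.functionField Y.functionField := (isPurelyInseparable_iff_subsingleton_emb _ _).2 hemb
  obtain ⟨q, hq⟩ := ExpChar.exists X.functionField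
  obtain ⟨n, g₀, hg₀⟩ := IsPurelyInseparable.pow_mem X.functionField q (Y.germToFunctionField ⊤ f)
  have hloc : ∀ V : X.Opens, IsAffineOpen V → [Nonempty V] → ∃ a : Γ(X, V), X.germToFunctionField V a = g₀ := by
    intro V hV hVne
    haveI := functionField_isFractionRing_of_isAffineOpen X V hV
    haveI : IsNoetherianRing Γ(X, V) := IsLocallyNoetherian.component_noetherian ⟨V, hV⟩
    haveI : IsIntegrallyClosed Γ(X, V) := IsIntegrallyClosed.of_localization_maximal fun P _ hP => by
      have hmem : hV.fromSpec ⟨P, inferInstance⟩ ∈ V := hV.range_fromSpec.le ⟨_, rfl⟩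
      letI := TopCat.Presheaf.algebra_section_stalk X.presheaf (U := V) ⟨_, hmem⟩
      haveI : IsLocalization.AtPrime (X.presheaf.stalk (hV.fromSpec ⟨P, inferInstance⟩)) P :=
        hV.isLocalization_stalk' ⟨P, inferInstance⟩ hmem
      haveI := hX (hV.fromSpec ⟨P, inferInstance⟩)
      exact IsIntegrallyClosed.of_equiv
        (IsLocalization.algEquiv P.primeCompl (X.presheaf.stalk (hV.fromSpec ⟨P, inferInstance⟩)) (Localization.AtPrime P)).toRingEquiv
    refine Groth.Agent.EtRamLib.Compositum.mem_of_height_one (N := Γ(X, V)) g₀ fun P hP h1 => ?_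
    haveI := S7125.isDVR_of_height_one P h1
    obtain ⟨c, d, hd, hcd⟩ := IsFractionRing.div_surjective (A := Γ(X, V)) g₀
    have hd' : algebraMap Γ(X, V) X.functionField d ≠ 0 := IsFractionRing.to_map_ne_zero_of_mem_nonZeroDivisors hd
    have hgd : g₀ * algebraMap Γ(X, V) X.functionField d = algebraMap Γ(X, V) X.functionField c := by
      rw [← hcd, div_mul_cancel₀ _ hd']
    rcases ValuationRing.dvd_total (algebraMap Γ(X, V) (Localization.AtPrime P) d) (algebraMap Γ(X, V) (Localization.AtPrime P) c) with h | h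
    · obtain ⟨t, ht, a, ha⟩ := S7125.exists_dvd P.primeCompl h
      refine ⟨a, t, ht, mul_right_cancel₀ hd' ?_⟩
      rw [mul_right_comm, hgd, ← map_mul, ← map_mul, mul_comm c, ha, mul_comm]
    · obtain ⟨t, ht, a, ha⟩ := S7125.exists_dvd P.primeCompl h
      have hga : g₀ * algebraMap Γ(X, V) X.functionField a = algebraMap Γ(X, V) X.functionField t := by
        refine mul_right_cancel₀ hd' ?_
        rw [mul_right_comm, hgd, ← map_mul, ← map_mul, ha]
      by_cases haP : a ∈ P
      swap
      · exact ⟨t, a, haP, hga⟩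
      exfalso
      obtain ⟨y, hy⟩ := hs (hV.fromSpec ⟨P, hP⟩)
      have hyt : y ∈ p ⁻¹ᵁ X.basicOpen t := by
        show p.base y ∈ X.basicOpen t
        rw [hy]
        show (⟨P, hP⟩ : PrimeSpectrum Γ(X, V)) ∈ hV.fromSpec ⁻¹ᵁ X.basicOpen t
        rw [hV.fromSpec_preimage_basicOpen]
        exact ht
      have hya : y ∉ p ⁻¹ᵁ X.basicOpen a := by
        show p.base y ∉ X.basicOpen a
        rw [hy]
        show (⟨P, hP⟩ : PrimeSpectrum Γ(X, V)) ∉ hV.fromSpec ⁻¹ᵁ X.basicOpen a
        rw [hV.fromSpec_preimage_basicOpen]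
        exact fun h => h haP
      haveI := hne V
      have e : (Y.presheaf.map (homOfLE (le_top : p ⁻¹ᵁ V ≤ ⊤)).op f) ^ (q ^ n) * p.app V a = p.app V t := by
        apply Scheme.germToFunctionField_injective Y (p ⁻¹ᵁ V)
        rw [map_mul, map_pow, ← hι, ← hι, TopCat.Presheaf.germ_res_apply, ← hg₀]
        exact ((map_mul ιh.hom _ _).symm.trans (congrArg ιh.hom hga))
      refine hya ?_
      rw [Scheme.preimage_basicOpen] at hyt ⊢
      rw [← e, Scheme.basicOpen_mul] at hyt
      exact hyt.2
  let I := {V : X.Opens // IsAffineOpen V ∧ Nonempty V}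
  have hloc' : ∀ i : I, ∃ a : Γ(X, i.1), letI := i.2.2; X.germToFunctionField i.1 a = g₀ := fun i =>
    letI := i.2.2; hloc i.1 i.2.1
  choose sec hsec using hloc'
  have hcov : (⊤ : X.Opens) ≤ ⨆ i : I, i.1 := fun x _ => by
    obtain ⟨W, hW, hxW, -⟩ := exists_isAffineOpen_mem_and_subset (X := X) (x := x) (U := ⊤) trivial
    exact Opens.mem_iSup.2 ⟨⟨W, hW, ⟨⟨x, hxW⟩⟩⟩, hxW⟩
  obtain ⟨g, hg, -⟩ := X.sheaf.existsUnique_gluing' (fun i : I => i.1) ⊤ (fun i => homOfLE le_top) hcov sec fun i j => by
    haveI := i.2.2; haveI := j.2.2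
    haveI : Nonempty (i.1 ⊓ j.1 : X.Opens) :=
      ⟨⟨genericPoint X, ⟨((genericPoint_spec X).mem_open_set_iff i.1.isOpen).2 (by simpa using i.2.2),
        ((genericPoint_spec X).mem_open_set_iff j.1.isOpen).2 (by simpa using j.2.2)⟩⟩⟩
    apply Scheme.germToFunctionField_injective X (i.1 ⊓ j.1)
    exact ((TopCat.Presheaf.germ_res_apply _ _ _ _ _).trans (hsec i)).trans
      ((TopCat.Presheaf.germ_res_apply _ _ _ _ _).trans (hsec j)).symm
  refine ⟨q ^ n, g, expChar_pow_pos X.functionField q n, ?_⟩
  obtain ⟨i, -⟩ := Opens.mem_iSup.1 (hcov (Set.mem_univ (genericPoint X)))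
  haveI := i.2.2
  haveI : Nonempty (⊤ : X.Opens) := ⟨⟨genericPoint X, trivial⟩⟩
  apply Scheme.germToFunctionField_injective Y ⊤
  have hgg : X.germToFunctionField ⊤ g = g₀ := by
    rw [← hsec i, ← hg i]
    exact (TopCat.Presheaf.germ_res_apply _ _ _ _ _).symm
  rw [map_pow, ← hg₀]
  exact (hι ⊤ g).symm.trans (congrArg ιh.hom hgg)


/-- Let k be an algebraically closed field and let X and Y be irreducible normal varieties over k
(integral separated schemes of finite type over k all of whose local rings are integrally closed),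
and π : Y → X a k-morphism which is bijective on points. If the ring of global functions of Y is
finitely generated over k, then so is the ring of global functions of X. (The published statement
asks π bijective on rational points; this row asks bijectivity on all points, which for schemes of
finite type over an algebraically closed field is the same condition.) -/
theorem result (k : Type u) [Field k] [IsAlgClosed k] (X Y : Over (Spec (CommRingCat.of k)))
    [IsIntegral X.left] [IsIntegral Y.left] [LocallyOfFiniteType X.hom] [QuasiCompact X.hom]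
    [IsSeparated X.hom] [LocallyOfFiniteType Y.hom] [QuasiCompact Y.hom] [IsSeparated Y.hom]
    (hX : ∀ x : X.left, IsIntegrallyClosed ↑(X.left.presheaf.stalk x))
    (hY : ∀ y : Y.left, IsIntegrallyClosed ↑(Y.left.presheaf.stalk y))
    (π : Y ⟶ X) (hπ : Function.Bijective π.left.base)
    (hfg : ((Scheme.ΓSpecIso (CommRingCat.of k)).inv ≫ Y.hom.appTop).hom.FiniteType) :
    ((Scheme.ΓSpecIso (CommRingCat.of k)).inv ≫ X.hom.appTop).hom.FiniteType := by
  have : IsLocallyNoetherian X.left := LocallyOfFiniteType.isLocallyNoetherian X.hom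
  have hlft : LocallyOfFiniteType (π.left ≫ X.hom) := by rw [Over.w]; infer_instance
  have : LocallyOfFiniteType π.left := locallyOfFiniteType_of_comp π.left X.hom
  have hsep : IsSeparated (π.left ≫ X.hom) := by rw [Over.w]; infer_instance
  have : IsSeparated π.left := IsSeparated.of_comp π.left X.hom
  have : UniversallyInjective π.left := universallyInjective_of_inj π.left X.hom Y.hom (Over.w π) hπ.1
  let φ : Γ(X.left, ⊤) →+* Γ(Y.left, ⊤) := π.left.appTop.hom
  let aX : k →+* Γ(X.left, ⊤) := ((Scheme.ΓSpecIso (CommRingCat.of k)).inv ≫ X.hom.appTop).hom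
  let aY : k →+* Γ(Y.left, ⊤) := ((Scheme.ΓSpecIso (CommRingCat.of k)).inv ≫ Y.hom.appTop).hom
  letI : Algebra k Γ(X.left, ⊤) := aX.toAlgebra
  letI : Algebra k Γ(Y.left, ⊤) := aY.toAlgebra
  letI : Algebra Γ(X.left, ⊤) Γ(Y.left, ⊤) := φ.toAlgebra
  have : IsScalarTower k Γ(X.left, ⊤) Γ(Y.left, ⊤) := IsScalarTower.of_algebraMap_eq fun c => by
    show aY c = φ (aX c)
    exact (congr($((congrArg Scheme.Hom.appTop (Over.w π))) ((Scheme.ΓSpecIso (CommRingCat.of k)).inv c))).symm
  have hft : Algebra.FiniteType k Γ(Y.left, ⊤) := hfg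
  have : Algebra.FiniteType Γ(X.left, ⊤) Γ(Y.left, ⊤) := Algebra.FiniteType.of_restrictScalars_finiteType k _ _
  have : Algebra.IsIntegral Γ(X.left, ⊤) Γ(Y.left, ⊤) := ⟨fun f => by
    obtain ⟨q, g, hq, hg⟩ := exists_pow_descends hX π.left hπ.2 f
    exact IsIntegral.of_pow hq (hg ▸ isIntegral_algebraMap (x := g))⟩
  have : Module.Finite Γ(X.left, ⊤) Γ(Y.left, ⊤) := Algebra.IsIntegral.finite
  have hinj : Function.Injective φ := by
    have hs := hπ.2
    refine (injective_iff_map_eq_zero φ).2 fun c hc => ?_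
    have h : π.left ⁻¹ᵁ X.left.basicOpen c = ⊥ := by
      rw [Scheme.preimage_basicOpen_top, show π.left.appTop c = 0 from hc, Scheme.basicOpen_zero]
    refine (basicOpen_eq_bot_iff c).1 (Opens.ext (Set.eq_empty_of_forall_notMem fun x hx => ?_))
    obtain ⟨y, rfl⟩ := hs x
    exact (h.le hx : y ∈ (⊥ : Y.left.Opens))
  exact ⟨fg_of_fg_of_fg k Γ(X.left, ⊤) Γ(Y.left, ⊤) hft.out Module.Finite.fg_top hinj⟩

end Groth.Agent.S11205
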