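import Groth.Statements.S11211
import Groth.Agent.AGFWeitz.Kernel

set_option autoImplicit false
universe u
open CategoryTheory MonoidalCategory CartesianMonoidalCategory MonObj GrpObj AlgebraicGeometry
open scoped TensorProduct
open AGF

namespace Groth.Agent.S11211

open MvPolynomial Groth.Agent.AGFWeitz

section Lin

variable {k : Type*} [Field k] {σ : Type*} [Fintype σ]

/-- linear forms -/
noncomputable def lf : (σ → k) →ₗ[k] MvPolynomial σ k :=
  Fintype.linearCombination k fun i => (MvPolynomial.X i : MvPolynomial σ k)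

theorem lf_single [DecidableEq σ] (i : σ) : lf (Pi.single i (1 : k)) = MvPolynomial.X i := by
  simp [lf, Fintype.linearCombination_apply, Pi.single_apply]

theorem lf_homog (v : σ → k) : (lf v).IsHomogeneous 1 := by
  rw [lf, Fintype.linearCombination_apply]
  refine IsHomogeneous.sum _ _ _ fun i _ => ?_
  rw [smul_eq_C_mul]
  exact (isHomogeneous_X k i).C_mul _

/-- the derivation of a linear map -/
noncomputable def lin [DecidableEq σ] (a : Module.End k (σ → k)) :
    Derivation k (MvPolynomial σ k) (MvPolynomial σ k) :=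
  mkDerivation k fun j => lf (a (Pi.single j 1))

theorem lin_lf [DecidableEq σ] (a : Module.End k (σ → k)) (v : σ → k) :
    lin a (lf v) = lf (a v) := by
  have : (lin a).toLinearMap ∘ₗ lf = lf ∘ₗ a := by
    refine (Pi.basisFun k σ).ext fun i => ?_
    simp [lf_single, lin]
  exact LinearMap.congr_fun this v

theorem lin_bracket [DecidableEq σ] (a b c : Module.End k (σ → k))
    (h : ∀ v, a (b v) - b (a v) = c v) (p : MvPolynomial σ k) :
    lin a (lin b p) - lin b (lin a p) = lin c p := by
  have : ⁅lin a, lin b⁆ = lin c := by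
    refine MvPolynomial.derivation_ext fun i => ?_
    rw [Derivation.commutator_apply, ← lf_single, lin_lf, lin_lf, lin_lf, lin_lf, lin_lf,
      ← map_sub, h]
  simpa [Derivation.commutator_apply] using DFunLike.congr_fun this p

theorem lin_smul [DecidableEq σ] (c : k) (a : Module.End k (σ → k)) :
    lin (c • a) = c • lin a := by
  refine MvPolynomial.derivation_ext fun i => ?_
  simp [lin]

/-- a triple of derivations from a triple of linear maps -/
noncomputable def mkTriple [DecidableEq σ] (e f h : Module.End k (σ → k)) (w : σ → ℤ)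
    (hh : ∀ i, h (Pi.single i 1) = (w i : k) • Pi.single i 1)
    (hhe : ∀ v, h (e v) - e (h v) = (2 : k) • e v)
    (hhf : ∀ v, h (f v) - f (h v) = -((2 : k) • f v))
    (hef : ∀ v, e (f v) - f (e v) = h v) : AGFWeitz.Triple k σ where
  E := lin e
  F := lin f
  H := lin h
  w := w
  hH i := by simp [lin, hh, map_smul, lf_single]
  homE i := by simpa [lin] using lf_homog _
  homF i := by simpa [lin] using lf_homog _
  hHE p := by
    rw [lin_bracket h e ((2 : k) • e) (fun v => by simpa using hhe v), lin_smul,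
      Derivation.smul_apply]
  hHF p := by
    rw [lin_bracket h f ((-2 : k) • f) (fun v => by simpa [neg_smul] using hhf v), lin_smul,
      Derivation.smul_apply, neg_smul]
  hEF p := lin_bracket e f h hef p

end Lin

open Polynomial in
/-- strings of a nilpotent endomorphism -/
theorem exists_strings {k V : Type u} [Field k] [AddCommGroup V] [Module k V] [Module.Finite k V]
    (φ : Module.End k V) (hφ : IsNilpotent φ) :
    ∃ (d : ℕ) (len : Fin d → ℕ) (g : Fin d → V), (∀ i, (φ ^ len i) (g i) = 0) ∧
      Function.Bijective fun c : (Σ i, Fin (len i)) → k =>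
        ∑ s : Σ i, Fin (len i), c s • (φ ^ (s.2 : ℕ)) (g s.1) := by
  classical
  obtain ⟨r, hr⟩ := hφ
  have htor : Module.IsTorsion' (Module.AEval' φ) (Submonoid.powers (Polynomial.X : k[X])) := by
    intro x
    obtain ⟨v, rfl⟩ := (Module.AEval'.of φ).surjective x
    exact ⟨⟨Polynomial.X ^ r, r, rfl⟩, by
      show (Polynomial.X ^ r : k[X]) • Module.AEval'.of φ v = 0
      rw [Module.AEval'.X_pow_smul_of, hr, zero_smul, map_zero]⟩
  obtain ⟨d, len, ⟨Φ⟩⟩ := Module.torsion_by_prime_power_decomposition.{u, u}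
    Polynomial.irreducible_X htor
  let gen : Fin d → Module.AEval' φ := fun i =>
    Φ.symm (DirectSum.lof k[X] _ (fun i => k[X] ⧸ k[X] ∙ (Polynomial.X : k[X]) ^ (len i)) i
      (Submodule.Quotient.mk 1))
  let g : Fin d → V := fun i => (Module.AEval'.of φ).symm (gen i)
  have hsmul : ∀ (q : k[X]) (i : Fin d),
      Φ (q • gen i) = DirectSum.lof k[X] _ (fun i => k[X] ⧸ k[X] ∙ (Polynomial.X : k[X]) ^ (len i)) i
        (Submodule.Quotient.mk q) := by
    intro q i
    rw [map_smul, LinearEquiv.apply_symm_apply, ← map_smul, ← Submodule.Quotient.mk_smul,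
      smul_eq_mul, _root_.mul_one]
  have hpow : ∀ (i : Fin d) (j : ℕ),
      Module.AEval'.of φ ((φ ^ j) (g i)) = (Polynomial.X ^ j : k[X]) • gen i := by
    intro i j
    rw [← (Module.AEval'.of φ).apply_symm_apply (gen i), Module.AEval'.X_pow_smul_of]
    rfl
  have hzero : ∀ i, (φ ^ len i) (g i) = 0 := by
    intro i
    apply (Module.AEval'.of φ).injective
    rw [hpow, map_zero]
    apply Φ.injective
    rw [hsmul, (Submodule.Quotient.mk_eq_zero _).mpr (Submodule.mem_span_singleton_self _),
      map_zero, map_zero]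
  refine ⟨d, len, g, hzero, ?_⟩
  let poly : ((Σ i, Fin (len i)) → k) → Fin d → k[X] := fun c i =>
    ∑ j : Fin (len i), Polynomial.C (c ⟨i, j⟩) * Polynomial.X ^ (j : ℕ)
  have hof : ∀ c : (Σ i, Fin (len i)) → k,
      Module.AEval'.of φ (∑ s : Σ i, Fin (len i), c s • (φ ^ (s.2 : ℕ)) (g s.1))
        = ∑ i, poly c i • gen i := by
    intro c
    rw [Fintype.sum_sigma, map_sum]
    refine Finset.sum_congr rfl fun i _ => ?_
    rw [map_sum, Finset.sum_smul]
    refine Finset.sum_congr rfl fun j _ => ?_
    rw [map_smul, hpow, mul_smul, Polynomial.C_eq_algebraMap, algebraMap_smul]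
  have hcoeff : ∀ c i (j : Fin (len i)), (poly c i).coeff (j : ℕ) = c ⟨i, j⟩ := by
    intro c i j
    rw [Polynomial.finsetSum_coeff, Finset.sum_eq_single j]
    · simp
    · intro b _ hb
      rw [Polynomial.coeff_C_mul_X_pow, if_neg]
      exact fun h => hb (Fin.ext h.symm)
    · simp
  have hΦ : ∀ c i, Φ (∑ i', poly c i' • gen i') i = Submodule.Quotient.mk (poly c i) := by
    intro c i
    rw [map_sum]
    simp only [hsmul]
    rw [DFinsupp.finsetSum_apply, Finset.sum_eq_single i]
    · exact DirectSum.lof_apply ..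
    · intro b _ hb
      exact DFinsupp.single_eq_of_ne (Ne.symm hb)
    · simp
  constructor
  · intro c c' hcc
    have h1 : ∀ i, (Submodule.Quotient.mk (poly c i) :
        k[X] ⧸ k[X] ∙ (Polynomial.X : k[X]) ^ (len i)) = Submodule.Quotient.mk (poly c' i) := by
      intro i
      rw [← hΦ, ← hΦ, ← hof, ← hof]
      exact congr_arg (fun v => Φ (Module.AEval'.of φ v) i) hcc
    funext ⟨i, j⟩
    have h2 := (Submodule.Quotient.eq _).mp (h1 i)
    rw [Submodule.mem_span_singleton] at h2
    obtain ⟨q, hq⟩ := h2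
    have h3 := congr_arg (fun P : k[X] => P.coeff (j : ℕ)) hq
    simp only [smul_eq_mul, Polynomial.coeff_sub, hcoeff, Polynomial.coeff_mul_X_pow',
      not_le.mpr j.2, if_false] at h3
    exact sub_eq_zero.mp h3.symm
  · intro v
    have hex : ∀ i, ∃ q : k[X], Submodule.Quotient.mk q = Φ (Module.AEval'.of φ v) i :=
      fun i => Submodule.Quotient.mk_surjective _ _
    choose q hq using hex
    refine ⟨fun s => (q s.1).coeff (s.2 : ℕ), (Module.AEval'.of φ).injective (Φ.injective ?_)⟩
    rw [hof]
    rw [map_sum]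
    refine (Finset.sum_congr rfl fun i _ => ?_).trans (DirectSum.sum_univ_of _)
    rw [hsmul, ← DirectSum.lof_eq_of k[X], ← hq i]
    congr 1
    refine (Submodule.Quotient.eq _).mpr (Submodule.mem_span_singleton.mpr ?_)
    have hdvd : (Polynomial.X : k[X]) ^ len i ∣
        poly (fun s => (q s.1).coeff (s.2 : ℕ)) i - q i := by
      rw [Polynomial.X_pow_dvd_iff]
      intro m hm
      rw [Polynomial.coeff_sub, sub_eq_zero]
      exact hcoeff (fun s => (q s.1).coeff (s.2 : ℕ)) i ⟨m, hm⟩
    obtain ⟨z, hz⟩ := hdvd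
    exact ⟨z, by rw [hz, smul_eq_mul, _root_.mul_comm]⟩

/-- an sl₂ triple containing a given nilpotent endomorphism, with diagonal semisimple part -/
theorem exists_triple {k : Type u} [Field k] {n : ℕ} (φ : Module.End k (Fin n → k))
    (hφ : IsNilpotent φ) :
    ∃ (d : ℕ) (len : Fin d → ℕ) (L : ((Σ i, Fin (len i)) → k) ≃ₗ[k] (Fin n → k))
      (t : AGFWeitz.Triple k (Σ i, Fin (len i))) (e : Module.End k ((Σ i, Fin (len i)) → k)),
      t.E = lin e ∧ ∀ v, L (e v) = φ (L v) := by
  classical
  obtain ⟨d, len, g, hg, hbij⟩ := exists_strings φ hφ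
  let Lmap : ((Σ i, Fin (len i)) → k) →ₗ[k] (Fin n → k) :=
    Fintype.linearCombination k fun s : Σ i, Fin (len i) => (φ ^ (s.2 : ℕ)) (g s.1)
  have hb2 : Function.Bijective Lmap := by
    convert hbij using 1
    funext c
    simp [Lmap, Fintype.linearCombination_apply]
  let b : Fin d → ℕ → ((Σ i, Fin (len i)) → k) := fun i j =>
    if h : j < len i then Pi.single (⟨i, ⟨j, h⟩⟩ : Σ i, Fin (len i)) 1 else 0
  have bs : ∀ s : Σ i, Fin (len i), b s.1 s.2 = Pi.single s 1 := fun s => by
    simp [b, s.2.2]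
  let B := Pi.basisFun k (Σ i, Fin (len i))
  let e : Module.End k ((Σ i, Fin (len i)) → k) := B.constr k fun s => b s.1 (s.2 + 1)
  let f : Module.End k ((Σ i, Fin (len i)) → k) := B.constr k fun s =>
    (((s.2 : ℤ) * ((len s.1 : ℤ) - s.2) : ℤ) : k) • b s.1 (s.2 - 1)
  let w : (Σ i, Fin (len i)) → ℤ := fun s => 2 * (s.2 : ℤ) - len s.1 + 1
  let h : Module.End k ((Σ i, Fin (len i)) → k) := B.constr k fun s => (w s : k) • b s.1 s.2
  have hB : ∀ s, B s = Pi.single s 1 := fun s => Pi.basisFun_apply ..
  have eb : ∀ i j, e (b i j) = b i (j + 1) := by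
    intro i j
    by_cases hj : j < len i
    · have := (congr_arg e ((hB ⟨i, ⟨j, hj⟩⟩).trans (bs ⟨i, ⟨j, hj⟩⟩).symm)).symm.trans
        (B.constr_basis k _ _)
      exact this
    · simp [b, dif_neg hj, show ¬ j + 1 < len i by omega]
  have fb : ∀ i j, f (b i j) = ((((j : ℕ) : ℤ) * ((len i : ℤ) - j) : ℤ) : k) • b i (j - 1) := by
    intro i j
    by_cases hj : j < len i
    · have := (congr_arg f ((hB ⟨i, ⟨j, hj⟩⟩).trans (bs ⟨i, ⟨j, hj⟩⟩).symm)).symm.trans
        (B.constr_basis k _ _)
      exact this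
    · rcases eq_or_lt_of_le (not_lt.mp hj) with hjl | hjl
      · simp [b, dif_neg hj, ← hjl]
      · simp [b, dif_neg hj, show ¬ j - 1 < len i by omega]
  have hb : ∀ i j, h (b i j) = ((2 * (j : ℤ) - len i + 1 : ℤ) : k) • b i j := by
    intro i j
    by_cases hj : j < len i
    · have := (congr_arg h ((hB ⟨i, ⟨j, hj⟩⟩).trans (bs ⟨i, ⟨j, hj⟩⟩).symm)).symm.trans
        (B.constr_basis k _ _)
      exact this
    · simp [b, dif_neg hj]
  have ext' : ∀ A A' : Module.End k ((Σ i, Fin (len i)) → k),
      (∀ i j, A (b i j) = A' (b i j)) → ∀ v, A v = A' v := by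
    intro A A' hA v
    have : A = A' := B.ext fun s => by rw [hB, ← bs]; exact hA _ _
    rw [this]
  have hhe : ∀ v, h (e v) - e (h v) = (2 : k) • e v := fun v =>
    ext' (h ∘ₗ e - e ∘ₗ h) ((2 : k) • e) (fun i j => by
      simp only [LinearMap.sub_apply, LinearMap.comp_apply, LinearMap.smul_apply, eb, hb, map_smul]
      push_cast
      module) v
  have hhf : ∀ v, h (f v) - f (h v) = -((2 : k) • f v) := fun v =>
    ext' (h ∘ₗ f - f ∘ₗ h) (-((2 : k) • f)) (fun i j => by
      simp only [LinearMap.sub_apply, LinearMap.comp_apply, LinearMap.neg_apply,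
        LinearMap.smul_apply, fb, hb, map_smul]
      rcases j with _ | j
      · simp
      · simp only [Nat.add_sub_cancel]
        push_cast
        module) v
  have hef : ∀ v, e (f v) - f (e v) = h v := fun v =>
    ext' (e ∘ₗ f - f ∘ₗ e) h (fun i j => by
      simp only [LinearMap.sub_apply, LinearMap.comp_apply, eb, fb, hb, map_smul]
      rcases j with _ | j
      · simp only [Nat.add_sub_cancel, zero_add]
        push_cast
        module
      · simp only [Nat.add_sub_cancel]
        push_cast
        module) v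
  let t := mkTriple e f h w (fun s => by rw [← bs, hb]) hhe hhf hef
  refine ⟨d, len, LinearEquiv.ofBijective Lmap hb2, t, e, rfl, ?_⟩
  have hLb : ∀ i j, Lmap (b i j) = (φ ^ j) (g i) := by
    intro i j
    by_cases hj : j < len i
    · simp [b, dif_pos hj, Lmap, Fintype.linearCombination_apply, Pi.single_apply]
    · simp only [b, dif_neg hj, map_zero]
      obtain ⟨q, rfl⟩ : ∃ q, j = q + len i := ⟨j - len i, by omega⟩
      rw [pow_add, Module.End.mul_apply, hg, map_zero]
  intro v
  have : Lmap ∘ₗ e = φ ∘ₗ Lmap := B.ext fun s => by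
    rw [hB, ← bs, LinearMap.comp_apply, LinearMap.comp_apply, eb, hLb, hLb, pow_succ',
      Module.End.mul_apply]
  exact LinearMap.congr_fun this v

/-- Let k be an algebraically closed field of characteristic zero, n a natural number and M a nilpotent
n × n matrix over k; let δ be the k-derivation of the polynomial ring k[X₁, …, Xₙ] with δ(Xⱼ) = Σᵢ
Mᵢⱼ Xᵢ (the derivation of the linear action of the additive group on an n-dimensional module; its
kernel is the ring of invariant polynomial functions). Assume finite generation of invariants of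
reductive groups over k on finitely generated algebras (a standard result, carried as a hypothesis).
Then the kernel of δ is a finitely generated k-subalgebra. -/
theorem result (k : Type u) [Field k] [IsAlgClosed k] [CharZero k] (thmA : VecGrp.ReductiveInvariantsFG k)
    (n : ℕ) (M : Matrix (Fin n) (Fin n) k) (hM : IsNilpotent M) :
    ∃ S : Subalgebra k (MvPolynomial (Fin n) k), S.FG ∧
      ∀ f : MvPolynomial (Fin n) k, f ∈ S ↔
        MvPolynomial.mkDerivation k (fun j : Fin n => ∑ i : Fin n, M i j • (MvPolynomial.X i : MvPolynomial (Fin n) k)) f = 0 := by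
  classical
  obtain ⟨d, len, L, t, e, hE, hL⟩ :=
    exists_triple (Matrix.toLin' M) (by obtain ⟨r, hr⟩ := hM; exact ⟨r, by rw [← Matrix.toLin'_pow, hr, map_zero]⟩)
  let D := MvPolynomial.mkDerivation k
    (fun j : Fin n => ∑ i : Fin n, M i j • (MvPolynomial.X i : MvPolynomial (Fin n) k))
  have hD : D = lin (Matrix.toLin' M) := by
    refine MvPolynomial.derivation_ext fun j => ?_
    simp [D, lin, lf, Fintype.linearCombination_apply, Matrix.col_apply]
  let Ψ : MvPolynomial (Σ i, Fin (len i)) k →ₐ[k] MvPolynomial (Fin n) k :=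
    MvPolynomial.aeval fun s => lf (L (Pi.single s 1))
  let Ψ' : MvPolynomial (Fin n) k →ₐ[k] MvPolynomial (Σ i, Fin (len i)) k :=
    MvPolynomial.aeval fun i => lf (L.symm (Pi.single i 1))
  have hΨ : ∀ v, Ψ (lf v) = lf (L v) := by
    intro v
    have : Ψ.toLinearMap ∘ₗ lf = lf ∘ₗ L.toLinearMap :=
      (Pi.basisFun k _).ext fun i => by simp [Ψ, lf_single]
    exact LinearMap.congr_fun this v
  have hΨ' : ∀ v, Ψ' (lf v) = lf (L.symm v) := by
    intro v
    have : Ψ'.toLinearMap ∘ₗ lf = lf ∘ₗ L.symm.toLinearMap :=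
      (Pi.basisFun k _).ext fun i => by simp [Ψ', lf_single]
    exact LinearMap.congr_fun this v
  have hinv : Ψ.comp Ψ' = AlgHom.id k _ := MvPolynomial.algHom_ext fun i => by
    simp [Ψ', hΨ, lf_single]
  have hinv' : Ψ'.comp Ψ = AlgHom.id k _ := MvPolynomial.algHom_ext fun i => by
    simp [Ψ, hΨ', lf_single]
  have hcomm : ∀ p, D (Ψ p) = Ψ (t.E p) := by
    intro p
    have hX : ∀ s, D (Ψ (MvPolynomial.X s)) = Ψ (t.E (MvPolynomial.X s)) := fun s => by
      rw [← lf_single, hΨ, hD, hE, lin_lf, lin_lf, hΨ, hL]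
    induction p using MvPolynomial.induction_on with
    | C a => simp [Ψ]
    | add p q hp hq => simp [hp, hq]
    | mul_X p i hp => simp [Derivation.leibniz, hp, hX]
  refine ⟨t.kerE.map Ψ, t.kerE_fg.map Ψ, fun f => ?_⟩
  show f ∈ t.kerE.map Ψ ↔ D f = 0
  have hf : Ψ (Ψ' f) = f := DFunLike.congr_fun hinv f
  constructor
  · rintro ⟨q, hq, rfl⟩
    show D (Ψ q) = 0
    rw [hcomm, (show t.E q = 0 from hq), map_zero]
  · intro h
    refine ⟨Ψ' f, ?_, hf⟩
    show t.E (Ψ' f) = 0
    have h1 := hcomm (Ψ' f)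
    rw [hf, h] at h1
    have h2 := congr_arg Ψ' h1
    rw [map_zero, ← AlgHom.comp_apply, hinv', AlgHom.id_apply] at h2
    exact h2.symm

end Groth.Agent.S11211
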