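import Groth.Statements.S11212
import Groth.Agent.AGFObs.Reg
import Groth.Agent.AGFObs.Ext

set_option autoImplicit false
universe u
open CategoryTheory MonoidalCategory CartesianMonoidalCategory MonObj GrpObj AlgebraicGeometry
open scoped TensorProduct
open AGF

namespace Groth.Agent.S11212

open Groth.Agent.AGFObs Groth.Agent.AGFPoints.Basic

/-- Let k be an algebraically closed field, G a linear algebraic group over k (an affine smooth group
scheme over k) and H a closed subgroup of G (a smooth closed subgroup scheme, i : H → G), with the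
identity component of H reductive. Assume the following standard results of geometric invariant
theory for groups with reductive identity component, carried as hypotheses: finite generation of
invariants on finitely generated algebras, and that for such a group acting on an affine variety the
quotient map sends disjoint closed invariant subsets to disjoint sets. Then H is observable in G. -/
theorem result (k : Type u) [Field k] [IsAlgClosed k]
    (G : Over (Spec (CommRingCat.of k))) [GrpObj G] [IsAffine G.left] [Smooth G.hom]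
    (H : Over (Spec (CommRingCat.of k))) [GrpObj H] [Smooth H.hom] (i : H ⟶ G) [IsMonHom i]
    [IsClosedImmersion i.left]
    (hH : VecGrp.IsReductiveGrp k H) (thmA : VecGrp.ReductiveInvariantsFG k)
    (thmAbiv : AGF.ReductiveQuotSeparates k) :
    AGF.IsObservableIn k i := by
  have : IsAffine H.left := isAffine_of_isAffineHom i.left
  have := isReduced (X := G)
  have := isReduced (X := H)
  refine (isObservableIn_iff i).2 fun g hg => ?_
  by_contra hgH
  let I₁ : Ideal (Coord G) := RingHom.ker (res i)
  let I₂ : Ideal (Coord G) := I₁.comap (L g)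
  have hI₁ : I₁.IsRadical := fun f hf => by
    obtain ⟨n, hn⟩ := hf
    rw [RingHom.mem_ker, map_pow] at hn
    exact RingHom.mem_ker.2 (IsNilpotent.eq_zero ⟨n, hn⟩)
  have hI₂ : I₂.IsRadical := fun f hf => by
    obtain ⟨n, hn⟩ := hf
    exact hI₁ ⟨n, by rw [← map_pow]; exact hn⟩
  have hs₁ : ∀ z : Pts H, ∀ f ∈ I₁, Rt (z ≫ i) f ∈ I₁ := fun z f hf => by
    rw [RingHom.mem_ker, res_Rt, RingHom.mem_ker.1 hf, map_zero]
  have hs₂ : ∀ z : Pts H, ∀ f ∈ I₂, Rt (z ≫ i) f ∈ I₂ := fun z f hf => by
    show L g (Rt (z ≫ i) f) ∈ I₁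
    rw [show L g (Rt (z ≫ i) f) = Rt (z ≫ i) (L g f) from
      ext_pts fun x => by rw [val_L, val_Rt, val_Rt, val_L, _root_.mul_assoc]]
    exact hs₁ z _ hf
  have htop : I₁ ⊔ I₂ = ⊤ := by
    by_contra hne
    obtain ⟨m, hm, hle⟩ := Ideal.exists_le_maximal _ hne
    obtain ⟨z, rfl⟩ := exists_pt m
    have h1 : z ∈ HP i := (mem_HP_iff i).2 fun f hf => RingHom.mem_ker.1 (hle (Ideal.mem_sup_left (RingHom.mem_ker.2 hf)))
    have h2 : g⁻¹ * z ∈ HP i := (mem_HP_iff i).2 fun f hf => by
      have h3 : L g⁻¹ f ∈ I₂ := by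
        show res i (L g (L g⁻¹ f)) = 0
        rw [L_L, inv_mul_cancel, L_one, hf]
      have h4 := RingHom.mem_ker.1 (hle (Ideal.mem_sup_right h3))
      rwa [val_L] at h4
    exact hgH (by simpa [_root_.mul_inv_rev] using (HP i).mul_mem h1 ((HP i).inv_mem h2))
  have key := thmAbiv H hH (Coord G) (regMod i) (regMod_isMult i) finiteType I₁ I₂ hI₁ hI₂
    (stable_of_pts _ _ fun z f hf => by rw [act_regMod]; exact hs₁ z f hf)
    (stable_of_pts _ _ fun z f hf => by rw [act_regMod]; exact hs₂ z f hf) htop
  obtain ⟨a, ha, b, hb, hab⟩ := Submodule.mem_sup.1 (key ▸ Submodule.mem_top : (1 : ↥((regMod i).fixedSubalgebra (regMod_isMult i) (𝟙 H))) ∈ _)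
  have hbinv : (b : Coord G) ∈ AGFObs.Inv i := fun x h hh => by
    obtain ⟨z, rfl⟩ := hh
    have h0 := congrArg (TensorProduct.lid k (Coord G)) (b.2 k z)
    rw [Category.comp_id, ρ_one_tmul, TensorProduct.lid_tmul, TensorProduct.lid_tmul, one_smul, one_smul, act_regMod] at h0
    rw [← val_Rt, h0]
  have ha1 : valHom (1 : Pts G) (a : Coord G) = 0 := (res_eq_zero_iff i).1 ha 1 (HP i).one_mem
  have hb0 : valHom g (b : Coord G) = 0 := by
    have h5 := (res_eq_zero_iff i).1 (show res i (L g (b : Coord G)) = 0 from hb) 1 (HP i).one_mem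
    rwa [val_L, _root_.mul_one] at h5
  have hfix := congrArg (valHom (1 : Pts G)) (hg _ hbinv)
  rw [val_Rt, _root_.one_mul, hb0] at hfix
  have h1 := congrArg (fun c : ↥((regMod i).fixedSubalgebra (regMod_isMult i) (𝟙 H)) => valHom (1 : Pts G) (c : Coord G)) hab
  simp [-valHom_apply, ha1, ← hfix] at h1

end Groth.Agent.S11212
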