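import Groth.Statements.S11213
import Groth.Agent.AGFObs.AffQuot
import Groth.Agent.AGFObs.Transfer

set_option autoImplicit false
universe u
open CategoryTheory MonoidalCategory CartesianMonoidalCategory MonObj GrpObj AlgebraicGeometry
open scoped TensorProduct
open AGF

namespace Groth.Agent.S11213

open Groth.Agent.AGFObs Groth.Agent.AGFPoints.Basic

/-- Let k be an algebraically closed field, G a linear algebraic group over k (an affine smooth group
scheme over k) and H a closed subgroup of G (a smooth closed subgroup scheme, i : H → G), with the
identity component of H reductive, and let X (with action a, base point o) be the quotient G/H.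
Assume the following standard results of geometric invariant theory for groups with reductive
identity component, carried as hypotheses: finite generation of invariants on finitely generated
algebras, and that the quotient map of an affine variety by such a group is surjective and separates
disjoint closed invariant subsets. Then k[G]^H is finitely generated over the constants (H is a
Grosshans subgroup of G) and X is affine. -/
theorem result (k : Type u) [Field k] [IsAlgClosed k]
    (G : Over (Spec (CommRingCat.of k))) [GrpObj G] [IsAffine G.left] [Smooth G.hom]
    (H : Over (Spec (CommRingCat.of k))) [GrpObj H] [Smooth H.hom] (i : H ⟶ G) [IsMonHom i]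
    [IsClosedImmersion i.left]
    (hH : VecGrp.IsReductiveGrp k H) (thmA : VecGrp.ReductiveInvariantsFG k)
    (thmAbi : AGF.ReductiveQuotSurj k) (thmAbiv : AGF.ReductiveQuotSeparates k)
    (X : Over (Spec (CommRingCat.of k))) (a : AlgGrp.Action G X) (o : 𝟙_ (Over (Spec (CommRingCat.of k))) ⟶ X) (hX : AGF.IsQuotient i X a o) :
    AGF.SubringFGOver k G (AGF.rTransInv i) ∧ IsAffine X.left := by
  have : IsAffine H.left := isAffine_of_isAffineHom i.left
  obtain ⟨hlft, hflat, hsurj, hpb⟩ := hX
  have := hlft; have := hflat; have := hsurj
  refine ⟨(subringFGOver_iff i).2 ?_, ?_⟩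
  · obtain ⟨t, htS, htfix⟩ := thmA H hH (Coord G) (regMod i) (regMod_isMult i) finiteType
    have hfix : ∀ f : Coord G, f ∈ (regMod i).fixedUnder (𝟙 H) ↔ f ∈ AGFObs.Inv i := fun f => by
      rw [mem_fixedUnder_iff]
      constructor
      · intro h x g hg
        obtain ⟨z, rfl⟩ := hg
        have h1 := h z
        rw [Category.comp_id, act_regMod] at h1
        rw [← val_Rt, h1]
      · intro h z
        rw [Category.comp_id, act_regMod]
        exact ext_pts fun x => by rw [val_Rt]; exact h x _ ⟨z, rfl⟩
    exact ⟨t, le_antisymm (Algebra.adjoin_le fun f hf => (hfix f).1 (htS hf)) fun f hf => htfix ((hfix f).2 hf)⟩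
  · have : IsLocallyNoetherian X.left := LocallyOfFiniteType.isLocallyNoetherian X.hom
    have : LocallyOfFiniteType ((a.orbitMap o).left ≫ X.hom) := by rw [Over.w]; infer_instance
    have : LocallyOfFiniteType (a.orbitMap o).left := locallyOfFiniteType_of_comp _ X.hom
    exact isAffine_quot i (a.orbitMap o) hpb hH thmAbi thmAbiv

end Groth.Agent.S11213
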