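import Groth.Statements.S11216
import Groth.Agent.AGFHull.Orbit

set_option autoImplicit false
universe u
open CategoryTheory MonoidalCategory CartesianMonoidalCategory MonObj GrpObj AlgebraicGeometry
open scoped TensorProduct
open AGF

namespace Groth.Agent.S11216

/-- (b) ⇒ (i): let k be an algebraically closed field, G a linear algebraic group over k (an affine
smooth group scheme over k) and H a closed subgroup of G (a smooth closed subgroup scheme, i : H →
G), with H observable in G and k[G]^H finitely generated over the constants; let X = Spec k[G]^H and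
φ : G → X the morphism given by the inclusion k[G]^H ⊆ k[G]. Then the image of φ (the orbit of the
base point) is open in X and every point of X outside the image has codimension at least 2 (its
prime ideal has height ≥ 2). (The published statement also asserts that G/H maps isomorphically onto
the image, and that finite generation is equivalent to an orbit-closure condition in a
representation; neither is stated here.) -/
theorem result (k : Type u) [Field k] [IsAlgClosed k]
    (G : Over (Spec (CommRingCat.of k))) [GrpObj G] [IsAffine G.left] [Smooth G.hom]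
    (H : Over (Spec (CommRingCat.of k))) [GrpObj H] [Smooth H.hom] (i : H ⟶ G) [IsMonHom i]
    [IsClosedImmersion i.left]
    (hobs : AGF.IsObservableIn k i) (hfg : AGF.SubringFGOver k G (AGF.rTransInv i)) :
    IsOpen (Set.range ⇑(G.left.toSpecΓ ≫ Spec.map (CommRingCat.ofHom (AGF.rTransInv i).subtype)).base) ∧
      ∀ x : ↥(Spec (CommRingCat.of ↥(AGF.rTransInv i))),
        x ∉ Set.range ⇑(G.left.toSpecΓ ≫ Spec.map (CommRingCat.ofHom (AGF.rTransInv i).subtype)).base →
          (2 : ℕ∞) ≤ x.asIdeal.height := by
  have : IsAffine H.left := isAffine_of_isAffineHom i.left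
  obtain ⟨s, hs, hle⟩ := hfg
  have hft : Algebra.FiniteType k (Groth.Agent.AGFHull.invAlg i) := by
    classical
    let s' : Finset (Groth.Agent.AGFPoints.Basic.Coord G) := s
    refine (Subalgebra.fg_iff_finiteType _).mp ⟨s', le_antisymm ?_ ?_⟩
    · exact Algebra.adjoin_le fun a ha => hs ha
    · intro a ha
      have h := hle (show a ∈ AGF.rTransInv i from ha)
      refine (Subring.closure_le.mpr ?_ :
        Subring.closure _ ≤ (Algebra.adjoin k (↑s' : Set (Groth.Agent.AGFPoints.Basic.Coord G))).toSubring) h
      rintro b (⟨c, rfl⟩ | hb)
      · exact Subalgebra.algebraMap_mem _ c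
      · exact Algebra.subset_adjoin hb
  have : Nontrivial (Groth.Agent.AGFPoints.Basic.Coord G) :=
    (Groth.Agent.AGFPoints.Basic.valHom (1 : VecGrp.pt k k ⟶ G)).toRingHom.domain_nontrivial
  have hrange : Set.range ⇑(G.left.toSpecΓ ≫ Spec.map (CommRingCat.ofHom (AGF.rTransInv i).subtype)).base
      = Set.range (Groth.Agent.AGFHull.φ i) := by
    rw [Scheme.Hom.comp_base, TopCat.coe_comp]
    exact Function.Surjective.range_comp G.left.isoSpec.hom.homeomorph.surjective _
  rw [hrange]
  exact ⟨Groth.Agent.AGFHull.isOpen_range i, fun x hx => Groth.Agent.AGFHull.two_le_height i x hx⟩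

end Groth.Agent.S11216
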