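import Groth.Statements.S11217
-- import your own Groth.Agent.* helpers here

set_option autoImplicit false
universe u
open CategoryTheory MonoidalCategory CartesianMonoidalCategory MonObj GrpObj AlgebraicGeometry
open scoped TensorProduct
open AGF

namespace Groth.Agent.S11217

/-- Let k be a field of characteristic zero and m ≥ 2; in the polynomial ring k[x, y, z, s, t, u, v]
(variables 0, …, 6) let δ be the k-derivation with δ(x) = δ(y) = δ(z) = 0, δ(s) = x^(m+1), δ(t) =
y^(m+1), δ(u) = z^(m+1), δ(v) = (xyz)^m, and grade by total degree in s, t, u, v. If f is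
homogeneous of degree n ≥ 1 for this grading and δ(f) = 0, then every coefficient of f, as a
polynomial in s, t, u, v over k[x, y, z], lies in the ideal (x, y, z): every monomial of f has
positive degree in x, y, z. (The published statement allows n = 0, where the constant 1 is a
counterexample; this row assumes n ≥ 1. The published definition of the derivation gives δ(v) =
(xyz)^(m+1), for which the assertion fails: v − (yz)^(m+1)·s is killed by δ and has the monomial v
with coefficient 1; this row uses δ(v) = (xyz)^m, the exponent of the published action formula and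
of the published examples of invariants.) -/
theorem result (k : Type u) [Field k] [CharZero k] (m : ℕ) (hm : 2 ≤ m) (n : ℕ) (hn : 1 ≤ n)
    (f : MvPolynomial (Fin 7) k)
    (hf : MvPolynomial.IsWeightedHomogeneous (![0, 0, 0, 1, 1, 1, 1] : Fin 7 → ℕ) f n)
    (hδ : MvPolynomial.mkDerivation k
      (![0, 0, 0, MvPolynomial.X 0 ^ (m + 1), MvPolynomial.X 1 ^ (m + 1), MvPolynomial.X 2 ^ (m + 1),
        (MvPolynomial.X 0 * MvPolynomial.X 1 * MvPolynomial.X 2) ^ m] : Fin 7 → MvPolynomial (Fin 7) k) f = 0) :
    ∀ d ∈ f.support, 0 < d 0 + d 1 + d 2 := by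
  classical
  intro d hd
  by_contra h0
  have hd0 : d 0 = 0 := by omega
  have hd1 : d 1 = 0 := by omega
  have hd2 : d 2 = 0 := by omega
  have hne : MvPolynomial.coeff d f ≠ 0 := MvPolynomial.mem_support_iff.mp hd
  set e : Fin 7 → (Fin 7 →₀ ℕ) := ![0, 0, 0, Finsupp.single 0 (m + 1), Finsupp.single 1 (m + 1),
    Finsupp.single 2 (m + 1), Finsupp.single 0 m + Finsupp.single 1 m + Finsupp.single 2 m] with he
  set c : Fin 7 → k := ![0, 0, 0, 1, 1, 1, 1] with hc
  have hv : (![0, 0, 0, MvPolynomial.X 0 ^ (m + 1), MvPolynomial.X 1 ^ (m + 1), MvPolynomial.X 2 ^ (m + 1),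
      (MvPolynomial.X 0 * MvPolynomial.X 1 * MvPolynomial.X 2) ^ m] : Fin 7 → MvPolynomial (Fin 7) k) =
      fun i => MvPolynomial.monomial (e i) (c i) := by
    funext i
    fin_cases i <;> simp [he, hc, MvPolynomial.X_pow_eq_monomial, mul_pow, MvPolynomial.monomial_mul]
  have hD : ∀ v : Fin 7 → MvPolynomial (Fin 7) k,
      MvPolynomial.mkDerivation k v = ∑ i, v i • MvPolynomial.pderiv i := by
    intro v
    refine MvPolynomial.derivation_ext fun i => ?_
    rw [MvPolynomial.mkDerivation_X, ← Derivation.coeFnAddMonoidHom_apply, map_sum, Finset.sum_apply, Finset.sum_eq_single i]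
    · simp
    · intro j _ hj; simp [MvPolynomial.pderiv_X_of_ne hj.symm]
    · simp
  rw [hv, hD] at hδ
  have key : ∀ j : Fin 7, 3 ≤ (j : ℕ) → d j = 0 := by
    intro j hj
    by_contra hdj
    have hcj : c j = 1 := by fin_cases j <;> simp_all
    set dd := d - Finsupp.single j 1 with hdd
    have hddj : dd + Finsupp.single j 1 = d :=
      tsub_add_cancel_of_le (Finsupp.single_le_iff.mpr (Nat.one_le_iff_ne_zero.mpr hdj))
    have hsum := congrArg (MvPolynomial.coeff (e j + dd)) hδ
    rw [← Derivation.coeFnAddMonoidHom_apply, map_sum, Finset.sum_apply, MvPolynomial.coeff_sum, Finset.sum_eq_single j] at hsum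
    · simp only [Derivation.coeFnAddMonoidHom_apply, Derivation.coe_smul, Pi.smul_apply, smul_eq_mul, MvPolynomial.coeff_monomial_mul,
        MvPolynomial.coeff_pderiv, MvPolynomial.coeff_zero, hcj, hddj, mul_eq_zero, hne,
        false_or] at hsum
      exact hsum.elim one_ne_zero (Nat.cast_add_one_ne_zero _)
    · intro i _ hij
      simp only [Derivation.coe_smul, Pi.smul_apply, smul_eq_mul, Derivation.coeFnAddMonoidHom_apply, MvPolynomial.coeff_monomial_mul']
      split_ifs with hle
      · have h1 : dd 0 = 0 ∧ dd 1 = 0 ∧ dd 2 = 0 := by simp [hdd, hd0, hd1, hd2]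
        have a0 := hle 0; have a1 := hle 1; have a2 := hle 2
        fin_cases j <;> fin_cases i <;>
          first
          | exact absurd rfl hij
          | (simp [hc]; done)
          | (simp [he, h1.1, h1.2.1, h1.2.2] at hj a0 a1 a2 ⊢ <;> omega)
      · rfl
    · simp
  have hw : Finsupp.weight (![0, 0, 0, 1, 1, 1, 1] : Fin 7 → ℕ) d = n := hf hne
  rw [Finsupp.weight_apply, Finsupp.sum_fintype _ _ (by simp)] at hw
  simp [Fin.sum_univ_succ] at hw
  have := key 3 (by norm_num); have := key 4 (by norm_num); have := key 5 (by norm_num)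
  have := key 6 (by norm_num)
  simp_all
  omega

end Groth.Agent.S11217
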