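import Groth.Statements.S11218
import Groth.Agent.AGFQuot.Basic

set_option autoImplicit false
universe u
open CategoryTheory MonoidalCategory CartesianMonoidalCategory MonObj GrpObj AlgebraicGeometry
open scoped TensorProduct
open AGF

namespace Groth.Agent.S11218

open Groth.Agent.GrpScheme.Basic Groth.Agent.AGFQuot.Basic Limits

variable {k : Type u} [Field k]

local notation "Sk" => Spec (CommRingCat.of k)

theorem left_comp_apply {A B C : Over Sk} (f : A ⟶ B) (g : B ⟶ C) (z : ↥A.left) :
    (f ≫ g).left z = g.left (f.left z) := by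
  rw [Over.comp_left]; rfl

theorem isOpenMap_snd (A B : Over Sk) : IsOpenMap ⇑(snd A B).left := by
  have : UniversallyOpen A.hom := inferInstance
  have : UniversallyOpen (snd A B).left :=
    inferInstanceAs (UniversallyOpen (pullback.snd A.hom B.hom))
  exact Scheme.Hom.isOpenMap _

theorem preimage_range_snd (A B D : Over Sk) (f : D ⟶ B) :
    ⇑(snd A B).left ⁻¹' Set.range ⇑f.left ⊆ Set.range ⇑(A ◁ f).left := by
  rintro w ⟨d, hd⟩
  let e := (isPullback_whiskerLeft (R := A) f).map (Over.forget Sk)
  obtain ⟨z, hz, -⟩ := Scheme.Pullback.exists_preimage_pullback (f := (snd A B).left) (g := f.left)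
    w d hd.symm
  refine ⟨e.isoPullback.inv z, ?_⟩
  rw [← hz]
  exact congrArg (fun φ : pullback (snd A B).left f.left ⟶ (A ⊗ B).left => φ z) e.isoPullback_inv_fst

/-- closures of stable sets are stable -/
theorem act_closure_subset {G X : Over Sk} [GrpObj G] (a : AlgGrp.Action G X) {H : Over Sk}
    (i : H ⟶ G) {D : Over Sk} (f : D ⟶ X) {E : Set ↥X.left}
    (hE : Set.range ⇑((H ◁ f) ≫ (i ▷ X) ≫ a.act).left ⊆ closure E) :
    ∀ w : ↥(H ⊗ X).left, (snd H X).left w ∈ closure (Set.range ⇑f.left) →
      ((i ▷ X) ≫ a.act).left w ∈ closure E := by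
  intro w hw
  have h1 : w ∈ closure (⇑(snd H X).left ⁻¹' Set.range ⇑f.left) :=
    (isOpenMap_snd H X).preimage_closure_subset_closure_preimage hw
  have h2 := image_closure_subset_closure_image ((i ▷ X) ≫ a.act).left.continuous ⟨w, h1, rfl⟩
  refine (closure_minimal ?_ isClosed_closure) h2
  rintro _ ⟨w', hw', rfl⟩
  obtain ⟨z, rfl⟩ := preimage_range_snd H X D f hw'
  exact hE ⟨z, left_comp_apply _ _ z⟩

/-- Let k be an algebraically closed field, G a linear algebraic group over k (an affine smooth group
scheme over k) and H a closed subgroup of G (a smooth closed subgroup scheme, i : H → G), such that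
the quotient G/H (the scheme Y with action b and base point o′) is proper over k (complete). Let G
act on a variety X over k (separated, of finite type) and let x be a rational point of X; let Z ⊆ X
be the closure of the H-orbit of x. Then the closure of the G-orbit of x is G·Z, the image under the
action map of the preimage of Z in G × X. (The published statement takes X affine; the argument does
not use this, and this row drops it.) -/
theorem result (k : Type u) [Field k] [IsAlgClosed k]
    (G : Over (Spec (CommRingCat.of k))) [GrpObj G] [IsAffine G.left] [Smooth G.hom]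
    (H : Over (Spec (CommRingCat.of k))) [GrpObj H] [Smooth H.hom] (i : H ⟶ G) [IsMonHom i]
    [IsClosedImmersion i.left]
    (Y : Over (Spec (CommRingCat.of k))) (b : AlgGrp.Action G Y) (o' : 𝟙_ (Over (Spec (CommRingCat.of k))) ⟶ Y) (hY : AGF.IsQuotient i Y b o')
    [IsProper Y.hom]
    (X : Over (Spec (CommRingCat.of k))) [IsSeparated X.hom] [LocallyOfFiniteType X.hom] [QuasiCompact X.hom]
    (a : AlgGrp.Action G X) (x : 𝟙_ (Over (Spec (CommRingCat.of k))) ⟶ X) :
    closure (Set.range ⇑(a.orbitMap x).left.base) =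
      ⇑a.act.left.base '' (⇑(snd G X).left.base ⁻¹' closure (Set.range ⇑(i ≫ a.orbitMap x).left.base)) := by
  have hiorb : ∀ (T : Over (Spec (CommRingCat.of k))) (h : T ⟶ H),
      h ≫ i ≫ a.orbitMap x = smul a (h ≫ i) (toUnit T ≫ x) := fun T h => by
    rw [← Category.assoc, orbitMap_comp]
  let E := Set.range ⇑(i ≫ a.orbitMap x).left
  let C := closure E
  -- `C` is stable under `H`
  have hCH : ∀ w : ↥(H ⊗ X).left, (snd H X).left w ∈ C → ((i ▷ X) ≫ a.act).left w ∈ C := by
    refine act_closure_subset a i (i ≫ a.orbitMap x) ?_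
    rintro _ ⟨z, rfl⟩
    refine subset_closure ⟨(μ[H]).left z, ?_⟩
    rw [← left_comp_apply]
    refine congrArg (fun φ : H ⊗ H ⟶ X => φ.left z) ?_
    calc μ[H] ≫ i ≫ a.orbitMap x
        = smul a (μ[H] ≫ i) (toUnit _ ≫ x) := hiorb _ _
      _ = smul a ((fst H H ≫ i) * (snd H H ≫ i)) (toUnit _ ≫ x) := by
          rw [IsMonHom.mul_hom i, Hom.mul_def]
          congr 2
      _ = smul a (fst H H ≫ i) (snd H H ≫ i ≫ a.orbitMap x) := by
          rw [mul_smul', ← hiorb]
      _ = _ := by
          rw [smul, ← Category.assoc (H ◁ _)]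
          congr 1
          apply CartesianMonoidalCategory.hom_ext <;> simp
  -- the shear and its inverse
  let ψ : G ⊗ X ⟶ X := smul a (fst G X)⁻¹ (snd G X)
  let τ : G ⊗ X ⟶ G ⊗ X := lift (fst G X) a.act
  let τ' : G ⊗ X ⟶ G ⊗ X := lift (fst G X) ψ
  have hact : a.act = smul a (fst G X) (snd G X) := by simp [smul]
  have hτψ : τ ≫ ψ = snd G X := by
    simp only [τ, ψ, comp_smul, GrpObj.comp_inv, lift_fst, lift_snd]
    rw [hact, inv_smul_smul']
  have hτ'act : τ' ≫ a.act = snd G X := by
    rw [hact, comp_smul]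
    simp only [τ', ψ, lift_fst, lift_snd, smul_inv_smul']
  let T0 := ⇑ψ.left ⁻¹' C
  have hS : ⇑a.act.left.base '' (⇑(snd G X).left.base ⁻¹' C) = ⇑(snd G X).left '' T0 := by
    ext y
    constructor
    · rintro ⟨w, hw, rfl⟩
      refine ⟨τ.left w, ?_, ?_⟩
      · show ψ.left (τ.left w) ∈ C
        rw [← left_comp_apply, hτψ]; exact hw
      · rw [← left_comp_apply, show τ ≫ snd G X = a.act from lift_snd _ _]
    · rintro ⟨w, hw, rfl⟩
      refine ⟨τ'.left w, ?_, ?_⟩
      · show (snd G X).left (τ'.left w) ∈ C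
        rw [← left_comp_apply, show τ' ≫ snd G X = ψ from lift_snd _ _]
        exact hw
      · show a.act.left (τ'.left w) = _
        rw [← left_comp_apply, hτ'act]
  -- saturation and closedness
  have hclosed : IsClosed (⇑(snd G X).left '' T0) := by
    let q : G ⊗ X ⟶ Y ⊗ X := b.orbitMap o' ▷ X
    have hYlft : LocallyOfFiniteType Y.hom := inferInstance
    have : LocallyOfFiniteType G.hom := inferInstance
    have : Surjective (b.orbitMap o').left := hY.2.2.1
    have : Flat (b.orbitMap o').left := hY.2.1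
    have hGfp : LocallyOfFinitePresentation G.hom := inferInstance
    have hlfp : LocallyOfFinitePresentation (b.orbitMap o').left := Groth.Agent.GrpdLib.GrpOver.lfp_left _
    have hcov : IsCover q := IsCover.whiskerRight ⟨hY.2.2.1, hY.2.1, hlfp⟩ X
    have := hcov.surj
    have := hcov.flat
    have := hcov.lfp
    have hsat : ∀ p p', q.left p = q.left p' → p ∈ T0 → p' ∈ T0 := by
      intro p p' hpp hp
      obtain ⟨z, hz1, hz2⟩ := Scheme.Pullback.exists_preimage_pullback (f := q.left) (g := q.left) p p' hpp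
      let P : Over (Spec (CommRingCat.of k)) := Over.mk (pullback.fst q.left q.left ≫ (G ⊗ X).hom)
      let p₁ : P ⟶ G ⊗ X := Over.homMk (pullback.fst q.left q.left) rfl
      let p₂ : P ⟶ G ⊗ X := Over.homMk (pullback.snd q.left q.left) (by
        show pullback.snd q.left q.left ≫ (G ⊗ X).hom = pullback.fst q.left q.left ≫ (G ⊗ X).hom
        rw [← Over.w q, ← pullback.condition_assoc])
      have hp12 : p₁ ≫ q = p₂ ≫ q := Over.OverMorphism.ext pullback.condition
      have hc : p₁ ≫ snd G X = p₂ ≫ snd G X := by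
        simpa [q, Category.assoc] using congrArg (· ≫ snd Y X) hp12
      obtain ⟨h, hh⟩ := (comp_eq_iff hY.2.2.2 (p₁ ≫ fst G X) (p₂ ≫ fst G X)).mp (by
        simpa [q, Category.assoc] using congrArg (· ≫ fst Y X) hp12)
      have hψ2 : p₂ ≫ ψ = lift h⁻¹ (p₁ ≫ ψ) ≫ (i ▷ X) ≫ a.act := by
        simp only [ψ, comp_smul, GrpObj.comp_inv]
        rw [← hh, _root_.mul_inv_rev, mul_smul', ← hc, lift_whiskerRight_assoc, GrpObj.inv_comp]
        rfl
      show ψ.left p' ∈ C
      rw [← hz2, show pullback.snd q.left q.left z = p₂.left z from rfl, ← left_comp_apply, hψ2,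
        left_comp_apply]
      apply hCH
      rw [← left_comp_apply, lift_snd, left_comp_apply]
      show ψ.left (pullback.fst q.left q.left z) ∈ C
      rw [hz1]
      exact hp
    have hT0 : IsClosed T0 := isClosed_closure.preimage ψ.left.continuous
    have hqT : IsClosed (⇑q.left '' T0) := by
      have heq : (⇑q.left '' T0)ᶜ = ⇑q.left '' T0ᶜ := by
        ext y
        constructor
        · intro hy
          obtain ⟨p, rfl⟩ := q.left.surjective y
          exact ⟨p, fun hp => hy ⟨p, hp, rfl⟩, rfl⟩
        · rintro ⟨p, hp, rfl⟩ ⟨p', hp', e⟩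
          exact hp (hsat p' p e hp')
      rw [← isOpen_compl_iff, heq]
      exact (Scheme.Hom.isOpenMap q.left) _ hT0.isOpen_compl
    have hproper : IsClosedMap ⇑(snd Y X).left := by
      have : UniversallyClosed (snd Y X).left :=
        inferInstanceAs (UniversallyClosed (pullback.snd Y.hom X.hom))
      exact Scheme.Hom.isClosedMap _
    have := hproper _ hqT
    rw [Set.image_image] at this
    convert this using 2 with p
    rw [← left_comp_apply, show q ≫ snd Y X = snd G X from whiskerRight_snd _ _]
  refine Set.Subset.antisymm ?_ ?_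
  · refine closure_minimal ?_ (by rw [hS]; exact hclosed)
    rintro _ ⟨g, rfl⟩
    refine ⟨(lift (𝟙 G) (toUnit G ≫ x)).left g, ?_, ?_⟩
    · show (snd G X).left _ ∈ C
      rw [← left_comp_apply, lift_snd]
      refine subset_closure ⟨(toUnit G ≫ η[H]).left g, ?_⟩
      rw [← left_comp_apply]
      refine congrArg (fun φ : G ⟶ X => φ.left g) ?_
      rw [Category.assoc, hiorb, IsMonHom.one_hom i, comp_smul]
      have h1 : toUnit G ≫ η[G] = (1 : G ⟶ G) := rfl
      rw [h1, one_smul', ← Category.assoc, toUnit_unique (toUnit G ≫ toUnit (𝟙_ _)) (toUnit G)]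
    · exact (left_comp_apply _ _ g).symm
  · rintro _ ⟨w, hw, rfl⟩
    have h1 : w ∈ closure (⇑(snd G X).left ⁻¹' E) :=
      (isOpenMap_snd G X).preimage_closure_subset_closure_preimage hw
    refine closure_mono ?_ (image_closure_subset_closure_image a.act.left.continuous ⟨w, h1, rfl⟩)
    rintro _ ⟨w', hw', rfl⟩
    obtain ⟨z, rfl⟩ := preimage_range_snd G X H (i ≫ a.orbitMap x) hw'
    refine ⟨((G ◁ i) ≫ μ[G]).left z, ?_⟩
    rw [← left_comp_apply]
    refine Eq.trans ?_ (left_comp_apply _ _ z)
    refine congrArg (fun φ : G ⊗ H ⟶ X => φ.left z) ?_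
    have h2 : (G ◁ i) ≫ μ[G] = fst G H * (snd G H ≫ i) := by
      rw [Hom.mul_def]
      congr 1
    rw [orbitMap_comp, h2, mul_smul', ← hiorb, smul]
    congr 1

end Groth.Agent.S11218
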