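import Groth.Statements.S11219
import Groth.Agent.AGFObs.Crit
import Groth.Agent.AbVarLib.Basics

set_option autoImplicit false
universe u
open CategoryTheory MonoidalCategory CartesianMonoidalCategory MonObj GrpObj AlgebraicGeometry
open scoped TensorProduct
open AGF

namespace Groth.Agent.S11219

open Groth.Agent.AGFObs Groth.Agent.AGFPoints.Basic

theorem isDomain_coord {k : Type u} [Field k] [IsAlgClosed k] (G : Over (Spec (CommRingCat.of k))) [GrpObj G]
    [IsAffine G.left] [Smooth G.hom] [ConnectedSpace G.left] : IsDomain (Coord G) := by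
  have : IrreducibleSpace G.left := AbVarLib.Basics.irreducibleSpace_of_connectedSpace G
  have : _root_.IsReduced (Coord G) := AGFObs.isReduced
  have : IrreducibleSpace (PrimeSpectrum (Coord G)) :=
    (irreducibleSpace_def _).2 (by
      show IsIrreducible (Set.univ : Set (PrimeSpectrum (Coord G)))
      erw [← G.left.isoSpec.hom.homeomorph.surjective.range_eq, ← Set.image_univ]
      exact (IrreducibleSpace.isIrreducible_univ _).image _ G.left.isoSpec.hom.homeomorph.continuous.continuousOn)
  have hp : (nilradical (Coord G)).IsPrime := PrimeSpectrum.irreducibleSpace_iff_isPrime_nilradical.1 this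
  rw [nilradical_eq_zero] at hp
  exact IsDomain.of_bot_isPrime _

/-- Let k be an algebraically closed field, G a linear algebraic group over k (an affine smooth group
scheme over k) and H a closed subgroup of G (a smooth closed subgroup scheme, i : H → G), with G
connected. Then H is observable in G if and only if every right-H-invariant rational function on G
is a quotient of two right-H-invariant global functions: whenever global functions a, b with b ≠ 0
satisfy a(xh)·b(x) = a(x)·b(xh) on G × H, there are right-H-invariant global functions a′, b′ with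
b′ ≠ 0 and a·b′ = a′·b. (The published condition concerns the identity component of G and its
intersection with H; for connected G it reads as stated.) -/
theorem result (k : Type u) [Field k] [IsAlgClosed k]
    (G : Over (Spec (CommRingCat.of k))) [GrpObj G] [IsAffine G.left] [Smooth G.hom]
    (H : Over (Spec (CommRingCat.of k))) [GrpObj H] [Smooth H.hom] (i : H ⟶ G) [IsMonHom i]
    [IsClosedImmersion i.left] [ConnectedSpace G.left] :
    AGF.IsObservableIn k i ↔
      ∀ a b : Γ(G.left, ⊤), b ≠ 0 →
        ((G ◁ i) ≫ μ[G]).left.appTop a * (fst G H).left.appTop b = (fst G H).left.appTop a * ((G ◁ i) ≫ μ[G]).left.appTop b →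
        ∃ a' b' : Γ(G.left, ⊤), AGF.IsRTransInv i a' ∧ AGF.IsRTransInv i b' ∧ b' ≠ 0 ∧ a * b' = a' * b := by
  have : IsAffine H.left := isAffine_of_isAffineHom i.left
  have : IsDomain (Coord G) := isDomain_coord G
  have := isAffine_tensor (X := G) (Y := H)
  have : Smooth (G ⊗ H).hom := by
    show Smooth (Limits.pullback.fst G.hom H.hom ≫ G.hom)
    infer_instance
  have hval : ∀ (x : Pts G) (t : Pts H) (f : Coord G),
      valHom (lift x t) (((G ◁ i) ≫ μ[G]).left.appTop f : Coord (G ⊗ H)) = valHom (x * (t ≫ i)) f ∧
      valHom (lift x t) ((fst G H).left.appTop f : Coord (G ⊗ H)) = valHom x f := fun x t f => by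
    constructor
    · show valHom (lift x t ≫ (G ◁ i) ≫ μ[G]) f = _
      rw [Hom.mul_def, ← Category.assoc]
      congr 3
      ext <;> simp
    · show valHom (lift x t ≫ fst G H) f = _
      rw [lift_fst]
  constructor
  · intro hobs (a : Coord G) (b : Coord G) hb heq
    have hab : ∀ x, ∀ h ∈ HP i, valHom (x * h) (a : Coord G) * valHom x (b : Coord G) =
        valHom x (a : Coord G) * valHom (x * h) (b : Coord G) := by
      rintro x _ ⟨t, rfl⟩
      have h1 := congrArg (valHom (lift x t)) (show ((((G ◁ i) ≫ μ[G]).left.appTop a : Coord (G ⊗ H)) *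
        ((fst G H).left.appTop b : Coord (G ⊗ H)) : Coord (G ⊗ H)) = _ from heq)
      erw [map_mul, map_mul] at h1
      rwa [(hval x t a).1, (hval x t b).2, (hval x t a).2, (hval x t b).1] at h1
    let J : Ideal (Coord G) := (Ideal.span {(b : Coord G)}).colon {(a : Coord G)}
    have hRb : ∀ h, Rt h (b : Coord G) ≠ 0 := fun h h0 => hb (by
      have := congrArg (Rt h⁻¹) h0
      rw [Rt_Rt, inv_mul_cancel, Rt_one, map_zero] at this
      exact this)
    have hJmem : ∀ c : Coord G, c ∈ J ↔ c * (a : Coord G) ∈ Ideal.span {(b : Coord G)} := fun c =>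
      Submodule.mem_colon_singleton
    have hJst : ∀ h ∈ HP i, ∀ c ∈ J, Rt h c ∈ J := fun h hh c hc => by
      rw [hJmem] at hc ⊢
      obtain ⟨d, hd⟩ := Ideal.mem_span_singleton'.1 hc
      refine Ideal.mem_span_singleton'.2 ⟨Rt h d, mul_right_cancel₀ (hRb h) ?_⟩
      have h2 : Rt h (a : Coord G) * (b : Coord G) = (a : Coord G) * Rt h (b : Coord G) :=
        ext_pts fun x => by rw [map_mul, map_mul, val_Rt, val_Rt]; exact hab x h hh
      have h3 := congrArg (Rt h) hd
      rw [map_mul, map_mul] at h3
      rw [_root_.mul_assoc (Rt h c), ← h2, ← _root_.mul_assoc, ← h3]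
      ring
    obtain ⟨y, hy⟩ : ∃ y : Pts G, valHom y (b : Coord G) ≠ 0 := by
      by_contra hno
      simp only [not_exists, not_not] at hno
      exact hb (eq_zero_of_pts hno)
    obtain ⟨t, ht⟩ := exists_sep i ((isObservableIn_iff i).1 hobs)
    obtain ⟨a₀, ha₀, ha₀1, ha₀v⟩ := exists_inv_vanish i ht (J.comap (L y⁻¹))
      (fun z hz h hh f hf => by
        rw [← val_Rt]
        refine hz _ ?_
        show L y⁻¹ (Rt h f) ∈ J
        rw [show L y⁻¹ (Rt h f) = Rt h (L y⁻¹ f) from ext_pts fun x => by rw [val_L, val_Rt, val_Rt, val_L, _root_.mul_assoc]]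
        exact hJst h hh _ hf)
      ⟨L y (b : Coord G), by
        show L y⁻¹ (L y (b : Coord G)) ∈ J
        rw [L_L, mul_inv_cancel, L_one, hJmem]
        exact Ideal.mul_mem_right _ _ (Ideal.mem_span_singleton_self _),
        by rwa [val_L, _root_.mul_one]⟩
    let a₁ : Coord G := L y⁻¹ a₀
    have := finiteType (X := G)
    have : IsJacobsonRing (Coord G) := isJacobsonRing_of_finiteType (A := k)
    have hrad : a₁ ∈ J.radical := by
      rw [Ideal.radical_eq_jacobson, Ideal.jacobson, Ideal.mem_sInf]
      rintro m ⟨hm1, hm⟩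
      obtain ⟨z, rfl⟩ := exists_pt m (hm := hm)
      show valHom z (L y⁻¹ a₀) = 0
      rw [val_L]
      refine ha₀v _ fun f hf => ?_
      rw [← val_L]
      exact hm1 hf
    obtain ⟨n, hn⟩ := hrad
    rw [hJmem] at hn
    obtain ⟨d, hd⟩ := Ideal.mem_span_singleton'.1 hn
    have ha₁ : a₁ ^ n ∈ AGFObs.Inv i := Subalgebra.pow_mem _ (L_mem_Inv i _ ha₀) n
    refine ⟨d, a₁ ^ n, (isRTransInv_iff_mem i d).2 ?_, (isRTransInv_iff_mem i _).2 ha₁, ?_, ?_⟩
    · intro x h hh
      have key : Rt h d = d := by
        refine mul_right_cancel₀ (mul_ne_zero (hRb h) hb : Rt h (b : Coord G) * (b : Coord G) ≠ 0) (ext_pts fun z => ?_)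
        have h1 := congrArg (valHom (z * h)) hd
        have h2 := congrArg (valHom z) hd
        erw [map_mul, map_mul, map_pow] at h1 h2
        rw [show valHom (z * h) a₁ = valHom z a₁ from L_mem_Inv i _ ha₀ z h hh] at h1
        rw [map_mul, map_mul, map_mul, map_mul, val_Rt, val_Rt]
        linear_combination (valHom z (b : Coord G)) * h1 - (valHom (z * h) (b : Coord G)) * h2 +
          (valHom z a₁) ^ n * hab z h hh
      rw [← val_Rt, key]
    · intro h0
      have h1 := congrArg (valHom y) (show (a₁ ^ n : Coord G) = 0 from h0)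
      rw [map_zero, map_pow, val_L, inv_mul_cancel, ha₀1, one_pow] at h1
      exact one_ne_zero h1
    · exact (mul_comm _ _).trans hd.symm
  · intro hfrac
    refine (isObservableIn_iff i).2 fun g hg => ?_
    obtain ⟨D, d, f, hD, hf, hcut⟩ := exists_chevalley i
    have hD0 : D ≠ 0 := fun h0 => one_ne_zero (hD.one.symm.trans (by rw [h0, map_zero]))
    have key : ∀ p, Semi i D p → valHom g p * valHom (1 : Pts G) D = valHom (1 : Pts G) p * valHom g D := fun p hp => by
      obtain ⟨(a' : Coord G), (b' : Coord G), ha', hb', hb0, hab⟩ := hfrac p D hD0 (by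
        refine sub_eq_zero.1 (eq_zero_of_pts (X := G ⊗ H) fun z => ?_)
        have hz : z = lift (z ≫ fst G H) (z ≫ snd G H) := by ext <;> simp
        erw [map_sub, map_mul, map_mul]
        rw [hz, (hval _ _ p).1, (hval _ _ D).2, (hval _ _ p).2, (hval _ _ D).1, hp _ _ ⟨_, rfl⟩, hD.semi _ _ ⟨_, rfl⟩]
        ring)
      have hz : Rt g p * D - p * Rt g D = 0 := by
        refine (mul_eq_zero.1 (show (Rt g p * D - p * Rt g D) * (b' : Coord G) = 0 from ?_)).resolve_right hb0
        refine eq_zero_of_pts fun x => ?_
        have e1 := congrArg (valHom x) (show p * (b' : Coord G) = (a' : Coord G) * D from hab)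
        have e2 := congrArg (valHom (x * g)) (show p * (b' : Coord G) = (a' : Coord G) * D from hab)
        have e3 := congrArg (valHom x) (hg _ ((isRTransInv_iff_mem i a').1 ha'))
        have e4 := congrArg (valHom x) (hg _ ((isRTransInv_iff_mem i b').1 hb'))
        rw [val_Rt] at e3 e4
        erw [map_mul, map_mul] at e1 e2
        rw [e3, e4] at e2
        rw [map_mul, map_sub, map_mul, map_mul, val_Rt, val_Rt]
        linear_combination (valHom x D) * e2 - (valHom (x * g) D) * e1
      have := congrArg (valHom (1 : Pts G)) (sub_eq_zero.1 hz)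
      rwa [map_mul, map_mul, val_Rt, val_Rt, _root_.one_mul] at this
    refine hcut g (fun h0 => ?_) fun l => ?_
    · have := key (L g⁻¹ D) (fun x h hh => by rw [val_L, val_L, ← _root_.mul_assoc]; exact hD.semi _ h hh)
      rw [h0, val_L, val_L, inv_mul_cancel, hD.one, mul_zero, _root_.mul_one] at this
      exact one_ne_zero this
    · have := key _ (hf l).1
      rwa [hD.one, _root_.mul_one, (hf l).2, zero_mul] at this

end Groth.Agent.S11219
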