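import Groth.Statements.S11220
import Groth.Agent.AGFObs.Rep

set_option autoImplicit false
universe u
open CategoryTheory MonoidalCategory CartesianMonoidalCategory MonObj GrpObj AlgebraicGeometry
open scoped TensorProduct
open AGF

namespace Groth.Agent.S11220

open Groth.Agent.AGFObs Groth.Agent.AGFPoints.Basic

/-- Let k be an algebraically closed field, G a linear algebraic group over k (an affine smooth group
scheme over k) and H a closed subgroup of G (a smooth closed subgroup scheme, i : H → G). Then H is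
observable in G if and only if, for every character χ of H which occurs on a nonzero
H-semi-invariant vector of some finite-dimensional rational G-module (h·v = χ(h)v), the inverse
character χ⁻¹ also occurs on a nonzero H-semi-invariant vector of some finite-dimensional rational
G-module (every one-dimensional H-module found inside a finite-dimensional G-module has its dual
inside one too). -/
theorem result (k : Type u) [Field k] [IsAlgClosed k]
    (G : Over (Spec (CommRingCat.of k))) [GrpObj G] [IsAffine G.left] [Smooth G.hom]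
    (H : Over (Spec (CommRingCat.of k))) [GrpObj H] [Smooth H.hom] (i : H ⟶ G) [IsMonHom i]
    [IsClosedImmersion i.left] :
    AGF.IsObservableIn k i ↔
      ∀ (χ : H ⟶ Red.Gm (Spec (CommRingCat.of k))), IsMonHom χ →
        (∃ (V : Type u) (_ : AddCommGroup V) (_ : Module k V) (_ : Module.Finite k V) (ρ : VecGrp.GMod G V) (v : V), v ≠ 0 ∧
          ∀ (B : Type u) [CommRing B] [Algebra k B] (h : VecGrp.pt k B ⟶ H),
            ρ.ρ B (h ≫ i) ((1 : B) ⊗ₜ[k] v) = VecGrp.chiVal χ h • ((1 : B) ⊗ₜ[k] v)) →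
        (∃ (V : Type u) (_ : AddCommGroup V) (_ : Module k V) (_ : Module.Finite k V) (ρ : VecGrp.GMod G V) (v : V), v ≠ 0 ∧
          ∀ (B : Type u) [CommRing B] [Algebra k B] (h : VecGrp.pt k B ⟶ H),
            ρ.ρ B (h ≫ i) ((1 : B) ⊗ₜ[k] v) = VecGrp.chiVal χ⁻¹ h • ((1 : B) ⊗ₜ[k] v)) := by
  have : IsAffine H.left := isAffine_of_isAffineHom i.left
  rw [isObservableIn_iff_crit]
  constructor
  · rintro hc χ - ⟨V, _, _, _, ρ, v, hv, hχv⟩
    obtain ⟨D, hD1, hD⟩ := exists_fun_of_vec i (chiFn χ) ρ v hv (fun B _ _ t => hχv B t)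
    have hDh : ∀ z : Pts H, valHom (z ≫ i) D = valHom z (chiFn χ) := fun z => by
      have := hD 1 z
      rwa [_root_.one_mul, hD1, _root_.mul_one] at this
    obtain ⟨e, he1, he⟩ := hc D ⟨fun x h hh => by obtain ⟨z, rfl⟩ := hh; rw [hD, hDh], hD1⟩
    obtain ⟨V', i1, i2, i3, ρ', v', hv', h'⟩ := exists_vec_of_fun i (chiFn χ⁻¹) e he1 (fun x z => by
      have h1 := he x (z ≫ i) ⟨z, rfl⟩
      have h2 : valHom z (chiFn χ⁻¹) * valHom z (chiFn χ) = 1 := chiVal_inv χ z
      rw [hDh] at h1
      calc valHom (x * (z ≫ i)) e = valHom (x * (z ≫ i)) e * (valHom z (chiFn χ⁻¹) * valHom z (chiFn χ)) := by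
              rw [h2, _root_.mul_one]
        _ = valHom z (chiFn χ⁻¹) * valHom x e := by rw [← h1]; ring)
    exact ⟨V', i1, i2, i3, ρ', v', hv', fun B _ _ t => h' B t⟩
  · intro hall D hD
    obtain ⟨χ, hχ, hf⟩ := exists_char (res i D)
      (fun z => by rw [val_res]; exact hD.ne_zero i ⟨z, rfl⟩)
      (fun z w => by rw [val_res, val_res, val_res, MonObj.mul_comp]; exact hD.mul i ⟨z, rfl⟩ ⟨w, rfl⟩)
    obtain ⟨V, i1, i2, i3, ρ, v, hv, h⟩ := exists_vec_of_fun i (chiFn χ) D hD.one
      (fun x z => by rw [hf, val_res]; exact hD.semi x _ ⟨z, rfl⟩)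
    obtain ⟨V', _, _, _, ρ', v', hv', h'⟩ := hall χ hχ ⟨V, i1, i2, i3, ρ, v, hv, fun B _ _ t => h B t⟩
    obtain ⟨e, he1, he⟩ := exists_fun_of_vec i (chiFn χ⁻¹) ρ' v' hv' (fun B _ _ t => h' B t)
    refine ⟨e, he1, fun x hp hhp => ?_⟩
    obtain ⟨z, rfl⟩ := hhp
    have h2 : valHom z (chiFn χ⁻¹) * valHom z (chiFn χ) = 1 := chiVal_inv χ z
    rw [he, ← val_res, ← hf]
    calc valHom z (chiFn χ⁻¹) * valHom x e * valHom z (chiFn χ)
        = (valHom z (chiFn χ⁻¹) * valHom z (chiFn χ)) * valHom x e := by ring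
      _ = valHom x e := by rw [h2, _root_.one_mul]

end Groth.Agent.S11220
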