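import Groth.Statements.S11221
-- import your own Groth.Agent.* helpers here

set_option autoImplicit false
universe u
open CategoryTheory MonoidalCategory CartesianMonoidalCategory MonObj GrpObj AlgebraicGeometry
open scoped TensorProduct
open AGF

namespace Groth.Agent.S11221

/-- Let R be a Noetherian integrally closed domain with fraction field K and let p be a prime ideal of R
of height one. Then there is f ∈ K which is not in R but lies in the local ring R_q ⊆ K of every
height-one prime q ≠ p (f = a/b with b ∉ q): a rational function on Spec R with a pole along V(p)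
only. (The published statement is for the coordinate ring of a normal affine variety; this row is
for any Noetherian integrally closed domain, which is all the argument uses.) -/
theorem result (R : Type u) [CommRing R] [IsDomain R] [IsNoetherianRing R] [IsIntegrallyClosed R]
    (p : Ideal R) [p.IsPrime] (hp : p.height = 1) :
    ∃ f : FractionRing R, f ∉ Set.range ⇑(algebraMap R (FractionRing R)) ∧
      ∀ q : Ideal R, q.IsPrime → q.height = 1 → q ≠ p →
        ∃ a b : R, b ∉ q ∧ f * algebraMap R (FractionRing R) b = algebraMap R (FractionRing R) a := by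
  classical
  have hp0 : p ≠ ⊥ := Ideal.ne_bot_of_height_eq_one hp
  obtain ⟨x, hxp, hx0⟩ := Submodule.exists_mem_ne_zero_of_ne_bot hp0
  have hmin : ∀ q : Ideal R, q.IsPrime → q.height = 1 → x ∈ q → q ∈ (Ideal.span {x}).minimalPrimes := by
    intro q hq hqh hxq
    refine ⟨⟨hq, by simpa using hxq⟩, fun q' ⟨hq', hxq'⟩ hle => ?_⟩
    by_contra hnle
    have : q'.height + 1 ≤ q.height :=
      Ideal.height_add_one_le_of_lt_of_isPrime (lt_of_le_not_ge hle hnle)
    rw [hqh] at this
    have h0 : q'.height = 0 := by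
      have := (ENat.add_le_add_iff_right ENat.one_ne_top).mp (show q'.height + 1 ≤ 0 + 1 by simpa using this)
      simpa using this
    rw [Ideal.height_eq_zero_iff_eq_bot] at h0
    exact hx0 (by simpa [h0] using hxq' (Ideal.mem_span_singleton_self x))
  have hfin := Ideal.finite_minimalPrimes_of_isNoetherianRing R (Ideal.span {x})
  have hpm := hmin p inferInstance hp hxp
  have hy' : ∀ Q ∈ hfin.toFinset.erase p, ∃ y ∈ Q, y ∉ p := by
    intro Q hQ
    rw [Finset.mem_erase, Set.Finite.mem_toFinset] at hQ
    exact SetLike.not_le_iff_exists.mp fun hle => hQ.1 (le_antisymm hle (hpm.2 hQ.2.1 hle))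
  choose y hyQ hyp using hy'
  set Y := ∏ Q ∈ (hfin.toFinset.erase p).attach, y Q.1 Q.2 with hY
  have hYp : Y ∉ p := by
    rw [hY, Ideal.IsPrime.prod_mem_iff]
    rintro ⟨Q, -, h⟩
    exact hyp _ _ h
  have hle : Ideal.span {Y} * p ≤ (Ideal.span {x}).radical := by
    rw [← Ideal.sInf_minimalPrimes, le_sInf_iff]
    intro Q hQ
    by_cases hQp : Q = p
    · exact hQp ▸ Ideal.mul_le_right
    · refine Ideal.mul_le_left.trans ((Ideal.span_singleton_le_iff_mem _).mpr ?_)
      have hQs : Q ∈ hfin.toFinset.erase p := Finset.mem_erase.mpr ⟨hQp, hfin.mem_toFinset.mpr hQ⟩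
      rw [hY, ← Finset.mul_prod_erase _ _ (Finset.mem_attach _ ⟨Q, hQs⟩)]
      exact Ideal.mul_mem_right _ _ (hyQ Q hQs)
  obtain ⟨N, hN⟩ := Ideal.exists_pow_le_of_le_radical_of_fg hle (IsNoetherian.noetherian _)
  have hxK : algebraMap R (FractionRing R) x ≠ 0 :=
    (map_ne_zero_iff _ (IsFractionRing.injective R (FractionRing R))).mpr hx0
  refine ⟨algebraMap R (FractionRing R) (Y ^ N) / algebraMap R (FractionRing R) x, ?_, ?_⟩
  · rintro ⟨r, hr⟩
    rw [eq_div_iff hxK, ← map_mul] at hr
    have := IsFractionRing.injective R (FractionRing R) hr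
    exact hYp (Ideal.IsPrime.mem_of_pow_mem inferInstance N (this ▸ p.mul_mem_left r hxp))
  · intro q hq hqh hqp
    by_cases hxq : x ∈ q
    · obtain ⟨s, hsp, hsq⟩ : ∃ s ∈ p, s ∉ q := SetLike.not_le_iff_exists.mp fun hle' =>
        hqp (le_antisymm ((hmin q hq hqh hxq).2 hpm.1 hle') hle')
      have hmem : (Y * s) ^ N ∈ Ideal.span {x} :=
        hN (Ideal.pow_mem_pow (Ideal.mul_mem_mul (Ideal.mem_span_singleton_self Y) hsp) N)
      obtain ⟨a, ha⟩ := Ideal.mem_span_singleton'.mp hmem
      refine ⟨a, s ^ N, fun h => hsq (hq.mem_of_pow_mem N h), ?_⟩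
      rw [div_mul_eq_mul_div, div_eq_iff hxK, ← map_mul, ← map_mul, ← mul_pow, ← ha]
    · exact ⟨Y ^ N, x, hxq, div_mul_cancel₀ _ hxK⟩

end Groth.Agent.S11221
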