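import Groth.Statements.S11222
import Groth.Agent.AGFObs.Transfer
import Groth.Agent.S11204
import Groth.Agent.S11212
import Groth.Agent.S11195

set_option autoImplicit false
universe u
open CategoryTheory MonoidalCategory CartesianMonoidalCategory MonObj GrpObj AlgebraicGeometry
open scoped TensorProduct
open AGF

namespace Groth.Agent.S11222

open Groth.Agent.AGFObs Groth.Agent.AGFPoints.Basic

/-- Let k be an algebraically closed field, L a linear algebraic group over k, G a closed subgroup of L
whose identity component is reductive, H a closed subgroup of G which is observable in G with k[G]^H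
finitely generated over the constants (a Grosshans subgroup of G), and G₁ a closed subgroup of L,
observable in L, containing H (i₁ : H → G₁ compatible with the inclusions into L). Assume the
following standard results of geometric invariant theory for groups with reductive identity
component, carried as hypotheses: finite generation of invariants on finitely generated algebras,
and that the quotient map of an affine variety by such a group separates disjoint closed invariant
subsets. Then H is observable in G₁ and k[G₁]^H is finitely generated over the constants (H is a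
Grosshans subgroup of G₁). -/
theorem result (k : Type u) [Field k] [IsAlgClosed k]
    (L : Over (Spec (CommRingCat.of k))) [GrpObj L] [IsAffine L.left] [Smooth L.hom]
    (G : Over (Spec (CommRingCat.of k))) [GrpObj G] [Smooth G.hom] (jG : G ⟶ L) [IsMonHom jG] [IsClosedImmersion jG.left]
    (hG : VecGrp.IsReductiveGrp k G)
    (H : Over (Spec (CommRingCat.of k))) [GrpObj H] [Smooth H.hom] (i : H ⟶ G) [IsMonHom i]
    [IsClosedImmersion i.left]
    (hH : AGF.IsObservableIn k i) (hfg : AGF.SubringFGOver k G (AGF.rTransInv i))
    (G₁ : Over (Spec (CommRingCat.of k))) [GrpObj G₁] [Smooth G₁.hom] (j₁ : G₁ ⟶ L) [IsMonHom j₁] [IsClosedImmersion j₁.left]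
    (hG₁ : AGF.IsObservableIn k j₁) (i₁ : H ⟶ G₁) [IsMonHom i₁] (hc : i₁ ≫ j₁ = i ≫ jG)
    (thmA : VecGrp.ReductiveInvariantsFG k) (thmAbiv : AGF.ReductiveQuotSeparates k) :
    AGF.IsObservableIn k i₁ ∧ AGF.SubringFGOver k G₁ (AGF.rTransInv i₁) := by
  have : IsAffine G.left := isAffine_of_isAffineHom jG.left
  have : IsAffine G₁.left := isAffine_of_isAffineHom j₁.left
  have : IsAffine H.left := isAffine_of_isAffineHom i.left
  have : IsClosedImmersion (i ≫ jG).left := by rw [Over.comp_left]; infer_instance
  have : IsClosedImmersion (i₁.left ≫ j₁.left) := by rw [← Over.comp_left, hc, Over.comp_left]; infer_instance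
  have : IsClosedImmersion i₁.left := IsClosedImmersion.of_comp i₁.left j₁.left
  have hGL : AGF.IsObservableIn k jG := Groth.Agent.S11212.result k L G jG hG thmA thmAbiv
  have hHL : AGF.IsObservableIn k (i ≫ jG) := Groth.Agent.S11195.result k L G jG H i hH hGL
  have : Algebra.FiniteType k (Coord L) := finiteType
  have hfix : AGFObs.Inv (i ≫ jG) = (regMod jG).fixedSubalgebra (regMod_isMult jG) i := by
    ext f
    rw [mem_fixedSubalgebra_iff]
    constructor
    · intro hf z
      rw [act_regMod, Category.assoc]
      exact ext_pts fun x => by rw [val_Rt]; exact hf x _ ⟨z, rfl⟩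
    · intro hf x hp hhp
      obtain ⟨z, rfl⟩ := hhp
      have := hf z
      rw [act_regMod, Category.assoc] at this
      rw [← val_Rt, this]
  have hL : AGF.SubringFGOver k L (AGF.rTransInv (i ≫ jG)) := by
    rw [subringFGOver_iff, hfix]
    exact fixed_fg i (regMod jG) (regMod_isMult jG) hG thmA ((subringFGOver_iff i).1 hfg)
  rw [← hc] at hHL hL
  exact Groth.Agent.S11204.result k L G₁ j₁ H i₁ hHL hG₁ hL

end Groth.Agent.S11222
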