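import Groth.Statements.S11223
import Mathlib
-- import your own Groth.Agent.* helpers here

set_option autoImplicit false
universe u
open CAlg

namespace Groth.Agent.S11223

/-- Let k be a field, let z_1, ..., z_m be homogeneous polynomials of positive degree in the polynomial
ring k[x_1, ..., x_n], and suppose the radical of the ideal (z_1, ..., z_m) is the ideal (x_1, ...,
x_n) generated by the variables. Then the polynomial ring is integral over the subalgebra generated
by z_1, ..., z_m. (The published statement is over an algebraically closed field; this row takes any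
field, which its proof allows.) -/
theorem result (k : Type u) [Field k] (n m : ℕ)
    (z : Fin m → MvPolynomial (Fin n) k) (d : Fin m → ℕ) (hd : ∀ i, 0 < d i)
    (hz : ∀ i, (z i).IsHomogeneous (d i))
    (hrad : (Ideal.span (Set.range z)).radical =
      Ideal.span (Set.range (MvPolynomial.X : Fin n → MvPolynomial (Fin n) k))) :
    Algebra.IsIntegral (Algebra.adjoin k (Set.range z)) (MvPolynomial (Fin n) k) := by

  classical
  set S := Algebra.adjoin k (Set.range z) with hS
  obtain ⟨N, hN⟩ := Ideal.exists_pow_le_of_le_radical_of_fg
    (I := MvPolynomial.idealOfVars (Fin n) k) (J := Ideal.span (Set.range z))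
    (le_of_eq hrad.symm) (MvPolynomial.idealOfVars_fg _ _)
  set V := MvPolynomial.restrictTotalDegree (Fin n) k N with hV
  set M : Submodule S (MvPolynomial (Fin n) k) := Submodule.span S (V : Set (MvPolynomial (Fin n) k)) with hM
  have hsum : ∀ (q : MvPolynomial (Fin n) k), (∀ j, MvPolynomial.homogeneousComponent j q ∈ M) → q ∈ M := by
    intro q hq
    rw [← MvPolynomial.sum_homogeneousComponent q]
    exact M.sum_mem fun j _ => hq j
  have key : ∀ e, ∀ p : MvPolynomial (Fin n) k, p.IsHomogeneous e → p ∈ M := by
    intro e
    induction e using Nat.strong_induction_on with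
    | _ e ih =>
      intro p hp
      by_cases he : e ≤ N
      · exact Submodule.subset_span ((MvPolynomial.mem_restrictTotalDegree _ _ _).mpr (hp.totalDegree_le.trans he))
      have hpmem : p ∈ MvPolynomial.idealOfVars (Fin n) k ^ N := by
        rw [MvPolynomial.mem_pow_idealOfVars_iff]
        intro x hx
        have := hp.degree_eq_sum_deg_support hx
        rw [Finsupp.degree_apply]
        omega
      obtain ⟨c, hc⟩ := (Ideal.mem_span_range_iff_exists_fun).mp (hN hpmem)
      rw [← MvPolynomial.homogeneousComponent_of_mem (n := e) (m := e) hp |>.trans (if_pos rfl), ← hc, map_sum]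
      refine M.sum_mem fun i _ => ?_
      rw [← MvPolynomial.sum_homogeneousComponent (c i), Finset.sum_mul, map_sum]
      refine M.sum_mem fun j _ => ?_
      rw [MvPolynomial.homogeneousComponent_of_mem (n := j + d i)
        ((MvPolynomial.homogeneousComponent_isHomogeneous j (c i)).mul (hz i))]
      split_ifs with h
      · have hzS : z i ∈ S := Algebra.subset_adjoin ⟨i, rfl⟩
        rw [mul_comm]
        exact M.smul_mem (⟨z i, hzS⟩ : S)
          (ih j (by have := hd i; omega) _ (MvPolynomial.homogeneousComponent_isHomogeneous j (c i)))
      · exact M.zero_mem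
  have htop : M = ⊤ := by
    rw [eq_top_iff]
    intro q _
    exact hsum q fun j => key j _ (MvPolynomial.homogeneousComponent_isHomogeneous j q)
  have : Module.Finite S (MvPolynomial (Fin n) k) := by
    constructor
    rw [← htop, hM]
    obtain ⟨T, hT⟩ := (Module.Finite.iff_fg.mp (inferInstance : Module.Finite k V))
    refine ⟨T, le_antisymm (Submodule.span_mono ?_) (Submodule.span_le.mpr ?_)⟩
    · rw [← hT]; exact Submodule.subset_span
    · rw [← hT]
      exact Submodule.span_subset_span k S (T : Set (MvPolynomial (Fin n) k))
  exact Algebra.IsIntegral.of_finite S (MvPolynomial (Fin n) k)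

end Groth.Agent.S11223
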