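import Groth.Statements.S11231
import Mathlib.RingTheory.Flat.Basic
import Mathlib.RingTheory.IntegralClosure.IntegrallyClosed
import Mathlib.RingTheory.Localization.FractionRing

set_option autoImplicit false
universe u
open CategoryTheory MonoidalCategory CartesianMonoidalCategory MonObj GrpObj AlgebraicGeometry
open scoped TensorProduct
open AGF

namespace Groth.Agent.S11231

open TensorProduct in
lemma isIntegrallyClosed_fixed {k : Type u} [Field k] {G H : Over (Spec (CommRingCat.of k))} [GrpObj G] [GrpObj H]
    {A : Type u} [CommRing A] [IsDomain A] [Algebra k A] [IsIntegrallyClosed A]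
    (ρ : VecGrp.GMod G A) (hρ : ρ.IsMult) (i : H ⟶ G) :
    IsIntegrallyClosed ↥(ρ.fixedSubalgebra hρ i) := by
  set S := ρ.fixedSubalgebra hρ i
  refine (isIntegrallyClosed_iff (FractionRing S)).2 fun {z} hz => ?_
  obtain ⟨a, b, hb, rfl⟩ := IsFractionRing.div_surjective (A := S) z
  have hb0 : (b : A) ≠ 0 := fun h => nonZeroDivisors.ne_zero hb (Subtype.ext h)
  let emb : FractionRing S →+* FractionRing A :=
    IsFractionRing.lift (A := S) (g := (algebraMap A (FractionRing A)).comp S.val.toRingHom)
      ((IsFractionRing.injective A (FractionRing A)).comp Subtype.val_injective)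
  have hemb : emb (algebraMap S _ a / algebraMap S _ b) =
      algebraMap A (FractionRing A) (a : A) / algebraMap A (FractionRing A) (b : A) := by
    rw [map_div₀]; simp [emb]
  have hint : _root_.IsIntegral A (emb (algebraMap S _ a / algebraMap S _ b)) := by
    obtain ⟨P, hP, hev⟩ := hz
    refine ⟨P.map S.val.toRingHom, hP.map _, ?_⟩
    have h := congrArg emb hev
    rw [map_zero, Polynomial.hom_eval₂] at h
    rw [Polynomial.eval₂_map]
    rw [show (algebraMap A (FractionRing A)).comp S.val.toRingHom = emb.comp (algebraMap S (FractionRing S)) from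
      RingHom.ext fun y => by simp [emb]]
    exact h
  obtain ⟨x, hx⟩ := IsIntegrallyClosed.isIntegral_iff.1 hint
  rw [hemb, eq_div_iff ((map_ne_zero_iff _ (IsFractionRing.injective A (FractionRing A))).2 hb0), ← map_mul] at hx
  have hxb : x * (b : A) = (a : A) := IsFractionRing.injective A (FractionRing A) hx
  have hxS : x ∈ S := by
    intro B _ _ h
    have e : ((1 : B) ⊗ₜ[k] (x * (b : A)) : VecGrp.W k A B) = (1 : B) ⊗ₜ[k] x * (1 : B) ⊗ₜ[k] (b : A) := by
      rw [Algebra.TensorProduct.tmul_mul_tmul, _root_.one_mul]
    have h1 := (hρ B (h ≫ i)).1 ((1 : B) ⊗ₜ[k] x) ((1 : B) ⊗ₜ[k] (b : A))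
    rw [← e, hxb, a.2 B h, b.2 B h, ← hxb, e] at h1
    have hinj : Function.Injective ((LinearMap.mulRight k (b : A)).lTensor B) :=
      Module.Flat.lTensor_preserves_injective_linearMap _ fun p q hpq => mul_right_cancel₀ hb0 hpq
    have hmul : ∀ y : B ⊗[k] A, (LinearMap.mulRight k (b : A)).lTensor B y = y * (1 : B) ⊗ₜ[k] (b : A) := by
      intro y
      induction y using TensorProduct.induction_on with
      | zero => simp
      | tmul p q => simp [Algebra.TensorProduct.tmul_mul_tmul]
      | add p q hp hq => simp only [map_add, add_mul, hp, hq]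
    exact hinj (by rw [hmul, hmul]; exact h1.symm)
  refine ⟨⟨x, hxS⟩, ?_⟩
  rw [eq_div_iff ((map_ne_zero_iff _ (IsFractionRing.injective S (FractionRing S))).2
    (nonZeroDivisors.ne_zero hb)), ← map_mul]
  congr 1
  exact Subtype.ext hxb


/-- Let k an algebraically closed field, G a connected reductive linear algebraic group over k, B a
Borel subgroup of G with unipotent radical U (a maximal unipotent subgroup), and let A be a
commutative k-algebra with a rational action of G by algebra automorphisms. If A is an integrally
closed domain then so is A^U. (The published statement is for A normal; its proof reduces to the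
case of a domain, which is the case stated here.) -/
theorem result (k : Type u) [Field k] [IsAlgClosed k]
    (G : Over (Spec (CommRingCat.of k))) [GrpObj G] (hG : Red.IsReductiveOver k G)
    (Bo : Over (Spec (CommRingCat.of k))) [GrpObj Bo] (iB : Bo ⟶ G) (hB : Red.IsBorelOver k iB)
    (U : Over (Spec (CommRingCat.of k))) [GrpObj U] (u : U ⟶ Bo) (hU : Par.IsUnipotentRadical u)
    (A : Type u) [CommRing A] [IsDomain A] [Algebra k A] [IsIntegrallyClosed A]
    (ρ : VecGrp.GMod G A) (hρ : ρ.IsMult) :
    IsIntegrallyClosed ↥(ρ.fixedSubalgebra hρ (u ≫ iB)) := by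
  exact isIntegrallyClosed_fixed ρ hρ (u ≫ iB)

end Groth.Agent.S11231
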