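import Groth.Statements.S11232
import Groth.Agent.AGFObs.Coact
import Groth.Agent.AGFObs.Gm
import Groth.Agent.GrpScheme.IdComponent
import Groth.Agent.GrpScheme.HomFlat
-- import your own Groth.Agent.* helpers here

set_option autoImplicit false
universe u
open CategoryTheory MonoidalCategory CartesianMonoidalCategory MonObj GrpObj AlgebraicGeometry
open scoped TensorProduct
open AGF

namespace Groth.Agent.S11232

open Groth.Agent.AGFObs Groth.Agent.AGFPoints.Basic Groth.Agent.AGFLang

/-- a prime factor of an invariant is invariant -/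
theorem prime_fixed {k : Type u} [Field k] [IsAlgClosed k]
    {G : Over (Spec (CommRingCat.of k))} [GrpObj G] [IsAffine G.left] [Smooth G.hom] [ConnectedSpace G.left]
    (hχ : ∀ χ : G ⟶ Red.Gm (Spec (CommRingCat.of k)), IsMonHom χ → χ = 1)
    {A : Type u} [CommRing A] [IsDomain A] [Algebra k A] [UniqueFactorizationMonoid A]
    (hunits : ∀ x : Aˣ, (x : A) ∈ Set.range (algebraMap k A))
    (ρ : VecGrp.GMod G A) (hρ : ρ.IsMult) {a : A} (ha : a ≠ 0) (hfix : ∀ z : Pts G, act ρ z a = a)
    {p : A} (hp : Prime p) (hpa : p ∣ a) (z : Pts G) : act ρ z p = p := by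
  classical
  haveI : AlgebraicGeometry.IsReduced G.left := GrpScheme.HomFlat.isReduced_of_smooth G.hom
  haveI : IrreducibleSpace G.left := by
    have h := GrpScheme.IdComponent.connectedComponent_eq G
    rw [PreconnectedSpace.connectedComponent_eq_univ] at h
    exact @IrreducibleSpace.mk _ _ ⟨(h ▸ isIrreducible_irreducibleComponent).2⟩
      ⟨GrpScheme.IdComponent.e₀ G⟩
  haveI : AlgebraicGeometry.IsIntegral G.left := isIntegral_of_irreducibleSpace_of_isReduced G.left
  haveI : Nonempty (⊤ : G.left.Opens) := ⟨⟨GrpScheme.IdComponent.e₀ G, trivial⟩⟩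
  haveI : IsDomain (Coord G) := inferInstanceAs (IsDomain Γ(G.left, ⊤))
  have hmul : ∀ (g : Pts G) (x y : A), act ρ g (x * y) = act ρ g x * act ρ g y := fun g x y => by
    rw [← cAct_coactOf ρ hρ, ← cAct_coactOf ρ hρ, ← cAct_coactOf ρ hρ, map_mul]
  have hinv : ∀ (g : Pts G) (x : A), act ρ g (act ρ g⁻¹ x) = x := fun g x => by
    rw [← act_mul, mul_inv_cancel, act_one]
  have hprime : ∀ g : Pts G, Prime (act ρ g p) := fun g => by
    let e : A ≃* A :=
      { toFun := fun x => act ρ g x
        invFun := fun x => act ρ g⁻¹ x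
        left_inv := fun x => by simpa using hinv g⁻¹ x
        right_inv := hinv g
        map_mul' := hmul g }
    exact (MulEquiv.prime_iff e).2 hp
  obtain ⟨f, hf, hfa⟩ := UniqueFactorizationMonoid.exists_prime_factors a ha
  have hline : ∀ g : Pts G, ∃ q ∈ f, act ρ g p ∈ Submodule.span k ({q} : Set A) := fun g => by
    have h1 : act ρ g p ∣ f.prod := hfa.dvd_iff_dvd_right.2 (by
      obtain ⟨c, hc⟩ := hpa
      exact ⟨act ρ g c, by rw [← hmul, ← hc, hfix]⟩)
    obtain ⟨q, hq, hq'⟩ := (hprime g).exists_mem_multiset_dvd h1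
    obtain ⟨u, hu⟩ := (hprime g).associated_of_dvd (hf q hq) hq'
    obtain ⟨c, hc⟩ := hunits u⁻¹
    refine ⟨q, hq, Submodule.mem_span_singleton.2 ⟨c, ?_⟩⟩
    rw [Algebra.smul_def, hc, ← hu, mul_comm (act ρ g p), ← _root_.mul_assoc, ← Units.val_mul, inv_mul_cancel,
      Units.val_one, _root_.one_mul]
  obtain ⟨q, hq, hall⟩ : ∃ q ∈ f, ∀ g : Pts G, act ρ g p ∈ Submodule.span k ({q} : Set A) := by
    by_contra hne
    simp only [not_exists, not_and, not_forall] at hne
    have hsep : ∀ q ∈ f.toFinset, ∃ c : Coord G, c ≠ 0 ∧ ∀ g, act ρ g p ∈ Submodule.span k ({q} : Set A) → valHom g c = 0 := by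
      intro q hq
      obtain ⟨g, hg⟩ := hne q (Multiset.mem_toFinset.1 hq)
      obtain ⟨ψ, hψ, hψ'⟩ := Submodule.exists_le_ker_of_notMem hg
      refine ⟨coef ρ ψ p, fun h0 => hψ ?_, fun g' hg' => ?_⟩
      · rw [← val_coef, h0, map_zero]
      · rw [val_coef]; exact hψ' hg'
    choose! c hc hc' using hsep
    refine Finset.prod_ne_zero_iff.2 hc (eq_zero_of_pts fun g => ?_)
    obtain ⟨q, hq, hq'⟩ := hline g
    rw [map_prod]
    exact Finset.prod_eq_zero (Multiset.mem_toFinset.2 hq) (hc' q (Multiset.mem_toFinset.2 hq) g hq')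
  obtain ⟨r, hr⟩ := Submodule.mem_span_singleton.1 (hall 1)
  rw [act_one] at hr
  have hr0 : r ≠ 0 := fun h => hp.ne_zero (by rw [← hr, h, zero_smul])
  have hsc : ∀ g : Pts G, ∃ c : k, act ρ g p = c • p := fun g => by
    obtain ⟨s, hs⟩ := Submodule.mem_span_singleton.1 (hall g)
    exact ⟨s * r⁻¹, by rw [← hs, ← hr, smul_smul, _root_.mul_assoc, inv_mul_cancel₀ hr0, _root_.mul_one]⟩
  choose c hc using hsc
  obtain ⟨ψ, hψ⟩ : ∃ ψ : Module.Dual k A, ψ p = 1 := by
    obtain ⟨ψ, hψ⟩ : ∃ ψ : Module.Dual k A, ψ p ≠ 0 := by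
      by_contra h
      simp only [not_exists, not_not] at h
      exact hp.ne_zero ((Module.forall_dual_apply_eq_zero_iff k p).1 h)
    exact ⟨(ψ p)⁻¹ • ψ, by simp [hψ]⟩
  have hD : ∀ g : Pts G, valHom g (coef ρ ψ p) = c g := fun g => by
    rw [val_coef, hc, map_smul, hψ, smul_eq_mul, _root_.mul_one]
  have hcm : ∀ g h : Pts G, c (g * h) = c g * c h := fun g h => by
    refine smul_left_injective k hp.ne_zero ?_
    show c (g * h) • p = (c g * c h) • p
    rw [← hc, act_mul, hc h, map_smul, hc g, smul_smul, mul_comm]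
  obtain ⟨χ, hχm, hχD⟩ := exists_char (coef ρ ψ p) (fun g => by
      rw [hD]
      intro h0
      exact (hprime g).ne_zero (by rw [hc, h0, zero_smul]))
    (fun g h => by rw [hD, hD, hD, hcm])
  have h1 : coef ρ ψ p = 1 := by
    rw [← hχD, hχ χ hχm]
    exact GmPts.gmFn_one
  rw [hc z, ← hD, h1, map_one, one_smul]


/-- Let k be an algebraically closed field, G a connected linear algebraic group over k (affine, smooth,
connected) admitting no nontrivial character (every homomorphism to the multiplicative group is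
trivial), and A a commutative k-algebra which is a unique factorization domain whose group of units
consists of the nonzero scalars, carrying a rational action of G by algebra automorphisms. Then the
algebra of invariants A^G is a unique factorization domain. -/
theorem result (k : Type u) [Field k] [IsAlgClosed k]
    (G : Over (Spec (CommRingCat.of k))) [GrpObj G] [IsAffine G.left] [Smooth G.hom] [ConnectedSpace G.left]
    (hχ : ∀ χ : G ⟶ Red.Gm (Spec (CommRingCat.of k)), IsMonHom χ → χ = 1)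
    (A : Type u) [CommRing A] [IsDomain A] [Algebra k A] [UniqueFactorizationMonoid A]
    (hunits : ∀ x : Aˣ, (x : A) ∈ Set.range (algebraMap k A))
    (ρ : VecGrp.GMod G A) (hρ : ρ.IsMult) :
    UniqueFactorizationMonoid ↥(ρ.fixedSubalgebra hρ (𝟙 G)) := by
  classical
  let F := ρ.fixedSubalgebra hρ (𝟙 G)
  have hF : ∀ x : A, x ∈ F ↔ ∀ z : Pts G, act ρ z x = x := fun x =>
    (mem_fixedSubalgebra_iff ρ hρ (𝟙 G) x).trans (forall_congr' fun z => by rw [Category.comp_id])
  have hmul : ∀ (g : Pts G) (x y : A), act ρ g (x * y) = act ρ g x * act ρ g y := fun g x y => by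
    rw [← cAct_coactOf ρ hρ, ← cAct_coactOf ρ hρ, ← cAct_coactOf ρ hρ, map_mul]
  have hquot : ∀ (x y : F) (c : A), (x : A) ≠ 0 → (x : A) * c = (y : A) → c ∈ F := fun x y c hx h => by
    refine (hF c).2 fun z => mul_left_cancel₀ hx ?_
    conv_lhs => rw [← (hF x).1 x.2 z]
    rw [← hmul, h, (hF y).1 y.2 z]
  have hdvd : ∀ x y : F, (x : A) ≠ 0 → (x : A) ∣ (y : A) → x ∣ y := fun x y hx ⟨c, hc⟩ =>
    ⟨⟨c, hquot x y c hx hc.symm⟩, Subtype.ext hc⟩
  have hpr : ∀ x : F, Prime (x : A) → Prime x := fun x hx =>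
    ⟨fun h => hx.ne_zero (congrArg Subtype.val h), fun h => hx.not_unit (h.map F.val),
      fun y z h => (hx.dvd_or_dvd (map_dvd F.val h : (x : A) ∣ ((y * z : F) : A))).imp
        (hdvd x y hx.ne_zero) (hdvd x z hx.ne_zero)⟩
  refine UniqueFactorizationMonoid.of_exists_prime_factors fun a ha => ?_
  have ha' : (a : A) ≠ 0 := fun h => ha (Subtype.ext h)
  obtain ⟨f, hf, u, hu⟩ := UniqueFactorizationMonoid.exists_prime_factors (a : A) ha'
  have hmem : ∀ p ∈ f, p ∈ F := fun p hp => (hF p).2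
    (prime_fixed hχ hunits ρ hρ ha' ((hF a).1 a.2) (hf p hp) (hu ▸ dvd_mul_of_dvd_left (Multiset.dvd_prod hp) _))
  refine ⟨f.attach.map fun p => (⟨p.1, hmem p.1 p.2⟩ : F), fun b hb => ?_, ?_⟩
  · obtain ⟨p, -, rfl⟩ := Multiset.mem_map.1 hb
    exact hpr _ (hf p.1 p.2)
  · obtain ⟨c, hc⟩ := hunits u
    obtain ⟨d, hd⟩ := hunits u⁻¹
    let w : Fˣ :=
      ⟨algebraMap k F c, algebraMap k F d,
        Subtype.ext (show algebraMap k A c * algebraMap k A d = 1 by rw [hc, hd, ← Units.val_mul, mul_inv_cancel, Units.val_one]),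
        Subtype.ext (show algebraMap k A d * algebraMap k A c = 1 by rw [hc, hd, ← Units.val_mul, inv_mul_cancel, Units.val_one])⟩
    refine ⟨w, Subtype.ext ?_⟩
    show ((f.attach.map fun p => (⟨p.1, hmem p.1 p.2⟩ : F)).prod : A) * algebraMap k A c = (a : A)
    rw [hc, ← hu]
    congr 1
    rw [show (((f.attach.map fun p => (⟨p.1, hmem p.1 p.2⟩ : F)).prod : F) : A) = F.val _ from rfl, map_multiset_prod,
      Multiset.map_map]
    exact congrArg Multiset.prod f.attach_map_val

end Groth.Agent.S11232
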