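import Groth.Statements.S11233
import Mathlib.Algebra.MvPolynomial.Funext
import Mathlib.LinearAlgebra.Matrix.NonsingularInverse
-- import your own Groth.Agent.* helpers here

set_option autoImplicit false
universe u
open CAlg

namespace Groth.Agent.S11233

/-- Let k be an algebraically closed field, A an integral domain which is a k-algebra, T an m by m
matrix over A with invertible determinant, and let the additive group k^m act on the polynomial ring
A[y_1, ..., y_m] by the A-algebra maps y_s ↦ y_s + Σ_r h_r T_rs. Then the only invariant polynomials
are the constants: a polynomial fixed by all these substitutions lies in A. -/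
theorem result (k : Type u) [Field k] [IsAlgClosed k]
    (A : Type u) [CommRing A] [IsDomain A] [Algebra k A] (m : ℕ) (T : Matrix (Fin m) (Fin m) A)
    (hT : IsUnit T.det) (f : MvPolynomial (Fin m) A)
    (hf : ∀ h : Fin m → k, MvPolynomial.aeval
      (fun s : Fin m => MvPolynomial.X s + MvPolynomial.C (∑ r : Fin m, algebraMap k A (h r) * T r s)) f = f) :
    ∃ a : A, f = MvPolynomial.C a := by
  classical
  obtain ⟨U, hU⟩ : ∃ U : Matrix (Fin m) (Fin m) A, U * T = 1 := ⟨T⁻¹, Matrix.nonsing_inv_mul T hT⟩
  set L : Fin m → MvPolynomial (Fin m) A := fun s => ∑ r, MvPolynomial.C (T r s) * MvPolynomial.X r with hL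
  set L' : Fin m → MvPolynomial (Fin m) A := fun r => ∑ t, MvPolynomial.C (U t r) * MvPolynomial.X t with hL'
  set g := MvPolynomial.aeval L f with hg
  refine ⟨MvPolynomial.eval 0 f, ?_⟩
  have key : g = MvPolynomial.C (MvPolynomial.eval 0 f) := by
    refine MvPolynomial.funext_set (fun _ => Set.range (algebraMap k A))
      (fun _ => Set.infinite_range_of_injective (FaithfulSMul.algebraMap_injective k A)) fun x hx => ?_
    choose h hh using fun i => hx i (Set.mem_univ i)
    have comp : ∀ (q : MvPolynomial (Fin m) A) (v : Fin m → MvPolynomial (Fin m) A) (y : Fin m → A),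
        MvPolynomial.eval y (MvPolynomial.aeval v q) = MvPolynomial.eval (fun s => MvPolynomial.eval y (v s)) q := by
      intro q v y
      induction q using MvPolynomial.induction_on with
      | C a => simp
      | add a b ha hb => simp [map_add, *]
      | mul_X a i ha => simp [*]
    have he := congrArg (MvPolynomial.eval (0 : Fin m → A)) (hf h)
    rw [MvPolynomial.eval_C, hg, comp]
    rw [comp] at he
    rw [← he]
    congr 1
    congr 1
    funext s
    simp [hL, hh, mul_comm]
  have hsub : f = MvPolynomial.aeval L' g := by
    rw [hg, ← AlgHom.comp_apply, MvPolynomial.comp_aeval]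
    have : (fun i => MvPolynomial.aeval L' (L i)) = MvPolynomial.X := by
      funext s
      simp only [hL, hL', map_sum, map_mul, MvPolynomial.aeval_C, MvPolynomial.aeval_X, MvPolynomial.algebraMap_eq]
      simp only [Finset.mul_sum, ← mul_assoc, ← map_mul]
      rw [Finset.sum_comm]
      simp only [← Finset.sum_mul, ← map_sum]
      have : ∀ t, ∑ r, T r s * U t r = (U * T) t s := fun t => by
        simp [Matrix.mul_apply, mul_comm]
      simp only [this, hU, Matrix.one_apply]
      simp
    rw [this, MvPolynomial.aeval_X_left_apply]
  rw [hsub, key]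
  simp

end Groth.Agent.S11233
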