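import Groth.Statements.S11234
import Groth.Agent.AGFObs.GlHom
-- import your own Groth.Agent.* helpers here

set_option autoImplicit false
universe u
open CategoryTheory MonoidalCategory CartesianMonoidalCategory MonObj GrpObj AlgebraicGeometry
open scoped TensorProduct
open AGF

namespace Groth.Agent.S11234

open Groth.Agent.AGFObs Groth.Agent.AGFPoints.Basic Groth.Agent.AGFLang

theorem eq_of_pts {k : Type u} [Field k] [IsAlgClosed k] {G G' : Over (Spec (CommRingCat.of k))} [IsAffine G.left]
    [Smooth G.hom] [IsAffine G'.left] {r s : G ⟶ G'} (h : ∀ x : Pts G, x ≫ r = x ≫ s) : r = s := by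
  refine Over.OverMorphism.ext (ext_of_isAffine (CommRingCat.hom_ext (RingHom.ext fun f => ?_)))
  refine ext_pts (X := G) fun x => ?_
  show valHom (x ≫ r) f = valHom (x ≫ s) f
  rw [h x]

theorem fixed_of_homs {k : Type u} [Field k] [IsAlgClosed k]
    {G : Over (Spec (CommRingCat.of k))} [GrpObj G] [IsAffine G.left] [Smooth G.hom]
    {H : Over (Spec (CommRingCat.of k))} [GrpObj H] [Smooth H.hom] (i : H ⟶ G) [IsMonHom i] [IsClosedImmersion i.left]
    (he : ∀ (G' : Over (Spec (CommRingCat.of k))) [GrpObj G'] [IsAffine G'.left] [Smooth G'.hom]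
        (r s : G ⟶ G') [IsMonHom r] [IsMonHom s], i ≫ r = i ≫ s → r = s)
    {V : Type u} [AddCommGroup V] [Module k V] [Module.Finite k V] (ρ : VecGrp.GMod G V) (v : V)
    (hv : ∀ h : Pts H, act ρ (h ≫ i) v = v) (g : Pts G) : act ρ g v = v := by
  have : IsAffine H.left := isAffine_of_isAffineHom i.left
  let b := Module.finBasis k V
  let d := Module.finrank k V
  let M : Matrix (Fin d) (Fin d) (Coord G) := Matrix.of fun l j => coef ρ (b.coord l) (b j)
  let c : Matrix (Fin d) (Fin 1) k := Matrix.of fun l _ => b.repr v l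
  have hMx : ∀ x : Pts G, M.map (valHom x) = LinearMap.toMatrix b b (act ρ x) := fun x =>
    Matrix.ext fun l j => by
      show valHom x (coef ρ (b.coord l) (b j)) = _
      rw [val_coef, LinearMap.toMatrix_apply]
      rfl
  have hM1 : M.map (valHom (1 : Pts G)) = 1 := by
    rw [hMx, show act ρ (1 : Pts G) = LinearMap.id from LinearMap.ext (act_one ρ), LinearMap.toMatrix_id]
  have hMm : ∀ x y : Pts G, M.map (valHom (x * y)) = M.map (valHom x) * M.map (valHom y) := fun x y => by
    rw [hMx, hMx, hMx, ← LinearMap.toMatrix_comp, show act ρ (x * y) = act ρ x ∘ₗ act ρ y from LinearMap.ext (act_mul ρ x y)]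
  have hMc : ∀ x : Pts G, ∀ l, (M.map (valHom x) * c) l 0 = b.repr (act ρ x v) l := fun x l => by
    rw [hMx, ← LinearMap.toMatrix_mulVec_repr b b (act ρ x) v]
    rfl
  let cG : Matrix (Fin d) (Fin 1) (Coord G) := c.map (algebraMap k (Coord G))
  let e : Fin d ⊕ Fin 1 ≃ Fin (d + 1) := finSumFinEquiv
  let A : Matrix (Fin (d + 1)) (Fin (d + 1)) (Coord G) := Matrix.reindex e e (Matrix.fromBlocks M 0 0 1)
  let B : Matrix (Fin (d + 1)) (Fin (d + 1)) (Coord G) := Matrix.reindex e e (Matrix.fromBlocks M (cG - M * cG) 0 1)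
  have hA : ∀ x : Pts G, A.map (valHom x) = Matrix.reindex e e (Matrix.fromBlocks (M.map (valHom x)) 0 0 1) := fun x => by
    show ((Matrix.fromBlocks M 0 0 (1 : Matrix (Fin 1) (Fin 1) (Coord G))).map (valHom x)).submatrix e.symm e.symm = _
    rw [Matrix.fromBlocks_map, Matrix.map_zero _ (map_zero _), Matrix.map_zero _ (map_zero _),
      Matrix.map_one _ (map_zero _) (map_one _)]
    rfl
  have hB : ∀ x : Pts G, B.map (valHom x) =
      Matrix.reindex e e (Matrix.fromBlocks (M.map (valHom x)) (c - M.map (valHom x) * c) 0 1) := fun x => by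
    show ((Matrix.fromBlocks M (cG - M * cG) 0 (1 : Matrix (Fin 1) (Fin 1) (Coord G))).map (valHom x)).submatrix e.symm e.symm = _
    have e1 : cG.map (valHom x) = c := Matrix.ext fun l j => (valHom x).commutes _
    have e2 : (M * cG).map (valHom x) = M.map (valHom x) * cG.map (valHom x) := Matrix.map_mul (f := (valHom x).toRingHom)
    rw [Matrix.fromBlocks_map, Matrix.map_sub _ (map_sub _), e1, e2, e1, Matrix.map_zero _ (map_zero _),
      Matrix.map_one _ (map_zero _) (map_one _)]
    rfl
  obtain ⟨r, hr, hrA⟩ := GlHom.exists_glHom A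
    (by rw [hA, hM1]; simp)
    (fun x y => by
      rw [hA, hA, hA, hMm]
      simp [Matrix.fromBlocks_multiply])
  obtain ⟨s, hs, hsB⟩ := GlHom.exists_glHom B
    (by rw [hB, hM1]; simp)
    (fun x y => by
      rw [hB, hB, hB, hMm]
      simp only [Matrix.reindex_apply, Matrix.submatrix_mul_equiv, Matrix.fromBlocks_multiply]
      congr 1
      simp only [Matrix.mul_zero, Matrix.zero_mul, Matrix.mul_one, Matrix.one_mul, add_zero, zero_add,
        Matrix.mul_sub, Matrix.mul_assoc]
      congr 1 <;> abel)
  have := hr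
  have := hs
  have hirs : i ≫ r = i ≫ s := by
    refine (GrpScheme.DiagRep.glPts k (d + 1)).mat_inj ?_
    rw [(GrpScheme.DiagRep.glPts k (d + 1)).mat_comp, (GrpScheme.DiagRep.glPts k (d + 1)).mat_comp, hrA, hsB]
    refine GlHom.mat_ext (Y := H) fun z => ?_
    show A.map (valHom (z ≫ i)) = B.map (valHom (z ≫ i))
    rw [hA, hB]
    congr
    refine (Matrix.ext fun l j => ?_)
    rw [Matrix.sub_apply, Subsingleton.elim j 0, hMc, hv z, Matrix.zero_apply]
    exact (sub_self _).symm
  have hAB : A = B := by
    rw [← hrA, ← hsB, he (GlHom.GL' k (d + 1)) r s hirs]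
  apply b.repr.injective
  ext l
  have h := congrFun (congrFun ((hA g).symm.trans ((congrArg (fun N => N.map (valHom g)) hAB).trans (hB g))) (e (Sum.inl l))) (e (Sum.inr 0))
  simp only [Matrix.reindex_apply, Matrix.submatrix_apply, Equiv.symm_apply_apply, Matrix.fromBlocks_apply₁₂,
    Matrix.zero_apply, Matrix.sub_apply, hMc] at h
  exact (sub_eq_zero.1 h.symm).symm


/-- Let k be an algebraically closed field, G a linear algebraic group over k (affine, smooth) and H a
smooth closed subgroup of G. The following are equivalent: (b) every global function on G invariant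
under right translation by H is a constant; (c) for every rational G-module E, the H-invariants of E
coincide with the G-invariants; (e) two homomorphisms from G to a linear algebraic group which agree
on H are equal. (The published list also contains the statement that H is epimorphic in the sense of
its hull under the stabilizer correspondence, and the statement that complementary H-stable
subspaces of a rational G-module are G-stable; this row states the other three.) -/
theorem result (k : Type u) [Field k] [IsAlgClosed k]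
    (G : Over (Spec (CommRingCat.of k))) [GrpObj G] [IsAffine G.left] [Smooth G.hom]
    (H : Over (Spec (CommRingCat.of k))) [GrpObj H] [Smooth H.hom] (i : H ⟶ G) [IsMonHom i]
    [IsClosedImmersion i.left] :
    List.TFAE [
      ∀ f : Γ(G.left, ⊤), ((G ◁ i) ≫ μ[G]).left.appTop f = (fst G H).left.appTop f →
        ∃ c : k, f = G.hom.appTop ((Scheme.ΓSpecIso (CommRingCat.of k)).inv c),
      ∀ (E : Type u) [AddCommGroup E] [Module k E] (ρ : VecGrp.GMod G E),
        ρ.fixedUnder i = ρ.fixedUnder (𝟙 G),
      ∀ (G' : Over (Spec (CommRingCat.of k))) [GrpObj G'] [IsAffine G'.left] [Smooth G'.hom]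
        (r s : G ⟶ G') [IsMonHom r] [IsMonHom s], i ≫ r = i ≫ s → r = s] := by
  have : IsAffine H.left := isAffine_of_isAffineHom i.left
  tfae_have 1 → 2 := fun hb E _ _ ρ => by
    refine le_antisymm (fun v hv => ?_) fun v hv => ?_
    · rw [mem_fixedUnder_iff] at hv
      rw [mem_fixedUnder_iff]
      intro z
      rw [Category.comp_id, ← sub_eq_zero]
      refine (Module.forall_dual_apply_eq_zero_iff k _).1 fun φ => ?_
      have hinv : coef ρ φ v ∈ AGFObs.Inv i := by
        rintro x _ ⟨h, rfl⟩
        rw [val_coef, val_coef, act_mul, hv h]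
      obtain ⟨c, hc⟩ := hb _ ((isRTransInv_iff_mem i _).2 hinv)
      have h1 : ∀ x : Pts G, φ (act ρ x v) = c := fun x => by
        rw [← val_coef, hc]
        exact AlgHom.commutes (valHom x) c
      rw [map_sub, h1 z, ← h1 1, act_one, sub_self]
    · rw [mem_fixedUnder_iff] at hv
      rw [mem_fixedUnder_iff]
      intro z
      simpa using hv (z ≫ i)
  tfae_have 2 → 1 := fun hc f hf => by
    revert f
    intro (f : Coord G) hf
    have hf' : f ∈ AGFObs.Inv i := (isRTransInv_iff_mem i f).1 hf
    have h1 : f ∈ (regMod (𝟙 G)).fixedUnder i := (mem_fixedUnder_iff _ i f).2 fun z => ext_pts fun x => by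
      rw [act_regMod, val_Rt, Category.comp_id]
      exact hf' x _ ⟨z, rfl⟩
    rw [hc] at h1
    rw [mem_fixedUnder_iff] at h1
    refine ⟨valHom (1 : Pts G) f, ?_⟩
    show f = algebraMap k (Coord G) (valHom (1 : Pts G) f)
    refine ext_pts fun x => ?_
    rw [AlgHom.commutes]
    conv_rhs => rw [← h1 x]
    rw [act_regMod, val_Rt, _root_.one_mul, Category.comp_id, Category.comp_id]
    rfl
  tfae_have 1 → 3 := fun hb G' _ _ _ r s _ _ hrs => by
    refine eq_of_pts fun x => ?_
    have hψ : ∀ h : Pts H, (h ≫ i) ≫ r = (h ≫ i) ≫ s := fun h => by rw [Category.assoc, hrs, Category.assoc]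
    have key : ∀ y : Pts G, ∀ h : Pts H, (y * (h ≫ i)) ≫ r * ((y * (h ≫ i)) ≫ s)⁻¹ = y ≫ r * (y ≫ s)⁻¹ := fun y h => by
      rw [MonObj.mul_comp, MonObj.mul_comp, hψ h]
      simp [_root_.mul_assoc]
    let ψ : G ⟶ G' := r * s⁻¹
    have hψc : ∀ y : Pts G, y ≫ ψ = y ≫ r * (y ≫ s)⁻¹ := fun y => by
      rw [MonObj.comp_mul, GrpObj.comp_inv]
    have : x ≫ ψ = (1 : Pts G) ≫ ψ := valHom_inj (AlgHom.ext fun f => by
      have hinv : (ψ.left.appTop f : Coord G) ∈ AGFObs.Inv i := by
        rintro y _ ⟨h, rfl⟩
        show valHom ((y * (h ≫ i)) ≫ ψ) f = valHom (y ≫ ψ) f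
        rw [hψc, hψc, key]
      obtain ⟨c, hc⟩ := hb _ ((isRTransInv_iff_mem i _).2 hinv)
      have h1 : ∀ y : Pts G, valHom (y ≫ ψ) f = c := fun y => by
        show valHom y (ψ.left.appTop f : Coord G) = c
        rw [hc]
        exact AlgHom.commutes (valHom y) c
      rw [h1, h1])
    rw [hψc, hψc, MonObj.one_comp, MonObj.one_comp, mul_inv_cancel] at this
    exact mul_inv_eq_one.1 this
  tfae_have 3 → 1 := fun he f hf => by
    have hf' : f ∈ AGFObs.Inv i := (isRTransInv_iff_mem i f).1 hf
    obtain ⟨W, hWfin, hfW, hW⟩ := exists_stable_Rt {f}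
    refine ⟨valHom (1 : Pts G) f, ?_⟩
    show f = algebraMap k (Coord G) (valHom (1 : Pts G) f)
    have hfix := fixed_of_homs i (fun G' _ _ _ r s _ _ => he G' r s) (funMod hW)
      (⟨f, hfW f (Finset.mem_singleton_self f)⟩ : W) (fun h => Subtype.ext (by
        rw [act_funMod]; exact ext_pts fun x => by rw [val_Rt]; exact hf' x _ ⟨h, rfl⟩))
    refine ext_pts fun x => ?_
    have h := congrArg (fun w : W => valHom (1 : Pts G) (w : Coord G)) (hfix x)
    simp only [act_funMod, val_Rt, _root_.one_mul] at h
    rw [AlgHom.commutes, h]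
    rfl
  tfae_finish

end Groth.Agent.S11234
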