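import Groth.Statements.S11235
import Mathlib
-- import your own Groth.Agent.* helpers here

set_option autoImplicit false
universe u
open CAlg

namespace Groth.Agent.S11235

/-- Let k be an algebraically closed field, A a commutative k-algebra, α ∈ k, and M a maximal ideal of
the polynomial ring A[x] containing x - α. Let I ⊆ M be an ideal whose zero set in Spec A[x] is
invariant under the automorphisms x ↦ c·x, c ∈ k nonzero (equivalently: the image of I under each
such A-algebra automorphism has the same radical as I). Then there is a maximal ideal of A[x]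
containing I and x. -/
theorem result (k : Type u) [Field k] [IsAlgClosed k]
    (A : Type u) [CommRing A] [Algebra k A] (α : k)
    (M : Ideal (Polynomial A)) (hM : M.IsMaximal)
    (hα : Polynomial.X - Polynomial.C (algebraMap k A α) ∈ M)
    (I : Ideal (Polynomial A)) (hIM : I ≤ M)
    (hI : ∀ c : kˣ, (I.map (Polynomial.aeval (R := A)
      (algebraMap k A (c : k) • (Polynomial.X : Polynomial A)))).radical = I.radical) :
    ∃ N : Ideal (Polynomial A), N.IsMaximal ∧ I ≤ N ∧ Polynomial.X ∈ N := by

  classical
  by_cases h0 : α = 0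
  · refine ⟨M, hM, hIM, ?_⟩
    simpa [h0] using hα
  letI : Field (Polynomial A ⧸ M) := Ideal.Quotient.field M
  set π := Ideal.Quotient.mk M
  set ε : A →+* Polynomial A ⧸ M := π.comp Polynomial.C with hε
  set ι : k →+* Polynomial A ⧸ M := ε.comp (algebraMap k A) with hι
  have hX : π Polynomial.X = ι α := by
    rw [← sub_eq_zero]
    show π Polynomial.X - π (Polynomial.C (algebraMap k A α)) = 0
    rw [← map_sub, Ideal.Quotient.eq_zero_iff_mem]
    exact hα
  have hπ : ∀ f : Polynomial A, π f = f.eval₂ ε (ι α) := fun f => by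
    conv_lhs => rw [← Polynomial.eval₂_C_X (p := f), Polynomial.hom_eval₂, hX]
  have hvan : ∀ f ∈ I, ∀ c : kˣ, f.eval₂ ε (ι ((c : k) * α)) = 0 := by
    intro f hf c
    have h1 : Polynomial.aeval (R := A) (algebraMap k A (c : k) • (Polynomial.X : Polynomial A)) f ∈ M := by
      have : I.radical ≤ M := hM.isPrime.isRadical.radical_le_iff.mpr hIM
      refine this ?_
      rw [← hI c]
      exact Ideal.le_radical (Ideal.mem_map_of_mem _ hf)
    rw [← Ideal.Quotient.eq_zero_iff_mem, Polynomial.aeval_def, Polynomial.hom_eval₂,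
      Polynomial.smul_eq_C_mul, map_mul] at h1
    rw [map_mul, ← hX]
    exact h1
  have hεsurj : Function.Surjective ε := by
    intro z
    obtain ⟨f, rfl⟩ := Ideal.Quotient.mk_surjective z
    refine ⟨f.eval (algebraMap k A α), ?_⟩
    rw [hπ, ← Polynomial.eval₂_at_apply]
    rfl
  set φ := Polynomial.eval₂RingHom ε 0 with hφ
  refine ⟨RingHom.ker φ, RingHom.ker_isMaximal_of_surjective φ ?_, ?_, ?_⟩
  · intro z
    obtain ⟨a, rfl⟩ := hεsurj z
    exact ⟨Polynomial.C a, Polynomial.eval₂_C _ _⟩
  · intro f hf
    rw [RingHom.mem_ker, hφ, Polynomial.coe_eval₂RingHom, ← Polynomial.eval_map]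
    have hz : f.map ε = 0 := by
      refine Polynomial.eq_zero_of_infinite_isRoot _ (Set.Infinite.mono (s := ι '' ({0}ᶜ : Set k)) ?_ ?_)
      · rintro _ ⟨z, hz, rfl⟩
        have := hvan f hf (Units.mk0 (z / α) (div_ne_zero hz h0))
        rw [Units.val_mk0, div_mul_cancel₀ z h0, ← Polynomial.eval_map] at this
        exact this
      · exact ((Set.finite_singleton (0 : k)).infinite_compl).image ι.injective.injOn
    rw [hz, Polynomial.eval_zero]
  · rw [RingHom.mem_ker, hφ, Polynomial.coe_eval₂RingHom, Polynomial.eval₂_X]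

end Groth.Agent.S11235
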