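import Groth.Statements.S11237
import Groth.Agent.AGFObs.Coact
import Mathlib.Algebra.TrivSqZeroExt.Basic
-- import your own Groth.Agent.* helpers here

set_option autoImplicit false
universe u
open CategoryTheory MonoidalCategory CartesianMonoidalCategory MonObj GrpObj AlgebraicGeometry
open scoped TensorProduct
open AGF

namespace Groth.Agent.S11237

open Groth.Agent.AGFObs Groth.Agent.AGFPoints.Basic Groth.Agent.AGFLang


/-- Let k be an algebraically closed field and G a linear algebraic group over k (affine, smooth) whose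
identity component is reductive. Assume finite generation of invariants of reductive groups over k
on finitely generated algebras (a true result which the published text assumes without proof,
carried here as a hypothesis). Let A be a finitely generated commutative k-algebra with a rational
action of G by algebra automorphisms and M a finitely generated A-module with a compatible rational
G-action. Then the invariants M^G form a finitely generated A^G-module (the A^G-span of finitely
many invariant elements). -/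
theorem result (k : Type u) [Field k] [IsAlgClosed k]
    (G : Over (Spec (CommRingCat.of k))) [GrpObj G] (hG : VecGrp.IsReductiveGrp k G)
    (thmA : VecGrp.ReductiveInvariantsFG k)
    (A : Type u) [CommRing A] [Algebra k A] [Algebra.FiniteType k A] (ρA : VecGrp.GMod G A) (hρ : ρA.IsMult)
    (M : Type u) [AddCommGroup M] [Module A M] [Module k M] [IsScalarTower k A M] [Module.Finite A M]
    (ρM : VecGrp.GMod G M) (hc : VecGrp.GMod.IsCompat ρA ρM) :
    ∃ s : Finset M, (↑s : Set M) ⊆ ρM.fixedUnder (𝟙 G) ∧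
      ρM.fixedUnder (𝟙 G) ≤ (Submodule.span ↥(ρA.fixedSubalgebra hρ (𝟙 G)) (↑s : Set M)).restrictScalars k := by
  classical
  obtain ⟨hGa, hGs, hrest⟩ := id hG
  letI : Module Aᵐᵒᵖ M := Module.compHom M ((RingHom.id A).fromOpposite mul_comm)
  have hcen : IsCentralScalar A M := ⟨fun _ _ => rfl⟩
  have : IsScalarTower k Aᵐᵒᵖ M := ⟨fun c a m => (smul_assoc c a.unop m : (c • a.unop) • m = c • a.unop • m)⟩
  let T := TrivSqZeroExt A M
  let il : A →ₐ[k] T := TrivSqZeroExt.inlAlgHom k A M
  let ir : M →ₗ[k] T := (TrivSqZeroExt.inrHom A M).restrictScalars k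
  let C := Coord G
  let dA : A →ₐ[k] C ⊗[k] A := coactOf ρA hρ
  let dM : M →ₗ[k] C ⊗[k] M := ((ρM.ρ C (uPt G)).toLinearMap.restrictScalars k) ∘ₗ TensorProduct.mk k C M 1
  let IL : C ⊗[k] A →ₐ[k] C ⊗[k] T := Algebra.TensorProduct.map (AlgHom.id k C) il
  let IR : C ⊗[k] M →ₗ[k] C ⊗[k] T := ir.lTensor C
  have eRR : ∀ y y' : C ⊗[k] M, IR y * IR y' = 0 := fun y y' => by
    induction y with
    | zero => simp
    | add a b ha hb => rw [map_add, add_mul, ha, hb, add_zero]
    | tmul c m =>
      induction y' with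
      | zero => simp
      | add a b ha hb => rw [map_add, mul_add, ha, hb, add_zero]
      | tmul c' m' =>
        show (c ⊗ₜ[k] (TrivSqZeroExt.inr m : T)) * (c' ⊗ₜ[k] (TrivSqZeroExt.inr m' : T)) = 0
        rw [Algebra.TensorProduct.tmul_mul_tmul, TrivSqZeroExt.inr_mul_inr, TensorProduct.tmul_zero]
  have eLR : ∀ (x : C ⊗[k] A) (y : C ⊗[k] M), IL x * IR y = IR (VecGrp.GMod.smulW k A M C x y) := fun x y => by
    induction x with
    | zero => simp
    | add a b ha hb => rw [map_add, add_mul, ha, hb, map_add, LinearMap.add_apply, map_add]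
    | tmul c a =>
      induction y with
      | zero => simp
      | add a b ha hb => rw [map_add, mul_add, ha, hb, map_add, map_add]
      | tmul c' m' =>
        show (c ⊗ₜ[k] (TrivSqZeroExt.inl a : T)) * (c' ⊗ₜ[k] (TrivSqZeroExt.inr m' : T)) =
          (c * c') ⊗ₜ[k] (TrivSqZeroExt.inr (a • m') : T)
        rw [Algebra.TensorProduct.tmul_mul_tmul, TrivSqZeroExt.inl_mul_inr]
  have hdM : ∀ (a : A) (m : M), dM (a • m) = VecGrp.GMod.smulW k A M C (dA a) (dM m) := fun a m => by
    refine Eq.trans ?_ (hc C (uPt G) ((1 : C) ⊗ₜ[k] a) ((1 : C) ⊗ₜ[k] m))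
    show ρM.ρ C (uPt G) ((1 : C) ⊗ₜ[k] (a • m)) = _
    congr 1
    simp [VecGrp.GMod.smulW]
  let dT : T →ₗ[k] C ⊗[k] T :=
    (IL.comp dA).toLinearMap ∘ₗ (TrivSqZeroExt.fstHom k A M).toLinearMap + (IR ∘ₗ dM) ∘ₗ ((TrivSqZeroExt.sndHom A M).restrictScalars k)
  let δ : T →ₐ[k] C ⊗[k] T := AlgHom.ofLinearMap dT
    (by show IL (dA (1 : T).fst) + IR (dM (1 : T).snd) = 1
        simp [TrivSqZeroExt.fst_one, TrivSqZeroExt.snd_one])
    (fun x y => by
      show IL (dA (x * y).fst) + IR (dM (x * y).snd) = (IL (dA x.fst) + IR (dM x.snd)) * (IL (dA y.fst) + IR (dM y.snd))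
      rw [TrivSqZeroExt.fst_mul, TrivSqZeroExt.snd_mul, map_mul, map_mul, map_add, map_add, op_smul_eq_smul, hdM, hdM,
        ← eLR, ← eLR, add_mul, mul_add, mul_add, eRR, mul_comm (IR (dM x.snd)) (IL (dA y.fst))]
      abel)
  have hact : ∀ (g : Pts G) (x : T), cAct δ g x = il (act ρA g x.fst) + ir (act ρM g x.snd) := fun g x => by
    rw [cAct_eq]
    show TensorProduct.lid k T ((valHom g).toLinearMap.rTensor T (IL (dA x.fst) + IR (dM x.snd))) = _
    have e1 : ∀ w : C ⊗[k] A, TensorProduct.lid k T ((valHom g).toLinearMap.rTensor T (IL w)) =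
        il (TensorProduct.lid k A ((valHom g).toLinearMap.rTensor A w)) := fun w => by
      induction w with
      | zero => simp
      | add a b ha hb => simp only [map_add, ha, hb]
      | tmul c a => simp [IL, -valHom_apply]
    have e2 : ∀ w : C ⊗[k] M, TensorProduct.lid k T ((valHom g).toLinearMap.rTensor T (IR w)) =
        ir (TensorProduct.lid k M ((valHom g).toLinearMap.rTensor M w)) := fun w => by
      induction w with
      | zero => simp
      | add a b ha hb => simp only [map_add, ha, hb]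
      | tmul c a => simp [IR, -valHom_apply]
    rw [map_add, map_add, e1, e2]
    congr 1
    · rw [← cAct_coactOf ρA hρ g x.fst, cAct_eq]
    · show ir _ = ir (TensorProduct.lid k M (ρM.ρ k g ((1 : k) ⊗ₜ x.snd)))
      rw [ρ_eq]
      rfl
  have hil : ∀ a : A, il a = TrivSqZeroExt.inl a := fun _ => rfl
  have hir : ∀ m : M, ir m = TrivSqZeroExt.inr m := fun _ => rfl
  have hfst : ∀ (g : Pts G) (x : T), (cAct δ g x).fst = act ρA g x.fst := fun g x => by
    rw [hact, hil, hir]; exact add_zero _
  have hsnd : ∀ (g : Pts G) (x : T), (cAct δ g x).snd = act ρM g x.snd := fun g x => by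
    rw [hact, hil, hir]; exact zero_add _
  have h1 : ∀ x : T, cAct δ (1 : Pts G) x = x := fun x =>
    TrivSqZeroExt.ext (by rw [hfst, act_one]) (by rw [hsnd, act_one])
  have hm : ∀ (g h : Pts G) (x : T), cAct δ (g * h) x = cAct δ g (cAct δ h x) := fun g h x =>
    TrivSqZeroExt.ext (by rw [hfst, hfst, hfst, act_mul]) (by rw [hsnd, hsnd, hsnd, act_mul])
  have : Module.Finite A T := inferInstanceAs (Module.Finite A (A × M))
  have : Algebra.FiniteType A T := inferInstance
  have hTft : Algebra.FiniteType k T := Algebra.FiniteType.trans ‹Algebra.FiniteType k A› this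
  obtain ⟨t, htS, htfix⟩ := thmA G hG T (ofCoact δ h1 hm) (ofCoact_isMult δ h1 hm) hTft
  have hfix : ∀ x : T, x ∈ (ofCoact δ h1 hm).fixedUnder (𝟙 G) ↔
      ∀ g : Pts G, act ρA g x.fst = x.fst ∧ act ρM g x.snd = x.snd := fun x => by
    rw [mem_fixedUnder_iff]
    refine forall_congr' fun g => ?_
    rw [Category.comp_id, act_ofCoact]
    exact ⟨fun h => ⟨by rw [← hfst, h], by rw [← hsnd, h]⟩, fun h => TrivSqZeroExt.ext (by rw [hfst, h.1]) (by rw [hsnd, h.2])⟩
  let s : Finset M := t.image TrivSqZeroExt.snd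
  refine ⟨s, fun m hm' => ?_, fun m hm' => ?_⟩
  · obtain ⟨x, hx, rfl⟩ := Finset.mem_image.1 hm'
    exact (mem_fixedUnder_iff ρM (𝟙 G) _).2 fun g => by rw [Category.comp_id]; exact (((hfix x).1 (htS hx)) g).2
  · let A0 := ρA.fixedSubalgebra hρ (𝟙 G)
    let P : Submodule A0 M := Submodule.span A0 (↑s : Set M)
    let S : Subalgebra k T :=
      { carrier := {x | x.fst ∈ A0 ∧ x.snd ∈ P}
        mul_mem' := fun {x y} hx hy => ⟨by rw [TrivSqZeroExt.fst_mul]; exact A0.mul_mem hx.1 hy.1, by
          rw [TrivSqZeroExt.snd_mul, op_smul_eq_smul]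
          exact P.add_mem (P.smul_mem ⟨x.fst, hx.1⟩ hy.2) (P.smul_mem ⟨y.fst, hy.1⟩ hx.2)⟩
        add_mem' := fun {x y} hx hy => ⟨A0.add_mem hx.1 hy.1, P.add_mem hx.2 hy.2⟩
        algebraMap_mem' := fun c => ⟨by
            rw [TrivSqZeroExt.algebraMap_eq_inl', TrivSqZeroExt.fst_inl]; exact A0.algebraMap_mem c, by
            rw [TrivSqZeroExt.algebraMap_eq_inl', TrivSqZeroExt.snd_inl]; exact P.zero_mem⟩ }
    have hle : Algebra.adjoin k (↑t : Set T) ≤ S := Algebra.adjoin_le fun x hx =>
      ⟨(mem_fixedSubalgebra_iff ρA hρ (𝟙 G) _).2 fun g => by rw [Category.comp_id]; exact (((hfix x).1 (htS hx)) g).1,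
        Submodule.subset_span (Finset.mem_coe.2 (Finset.mem_image_of_mem _ hx))⟩
    have hmem : (TrivSqZeroExt.inr m : T) ∈ (ofCoact δ h1 hm).fixedUnder (𝟙 G) := (hfix _).2 fun g => by
      have h := (mem_fixedUnder_iff ρM (𝟙 G) m).1 hm' g
      rw [Category.comp_id] at h
      exact ⟨by simp, by simpa using h⟩
    have := (hle (htfix hmem)).2
    simpa using this

end Groth.Agent.S11237
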