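import Groth.Statements.S11238
import Mathlib

set_option autoImplicit false
universe u
open AGF

namespace Groth.Agent.S11238

open Polynomial in
/-- evaluation along the line through two points -/
noncomputable def line {k : Type u} [Field k] {n : ℕ} (a c : Fin n → k) :
    MvPolynomial (Fin n) k →ₐ[k] k[X] :=
  MvPolynomial.aeval fun i => C (a i) + C (c i - a i) * X

theorem eval_line {k : Type u} [Field k] {n : ℕ} (a c : Fin n → k) (p : MvPolynomial (Fin n) k) :
    (line a c p).eval 0 = MvPolynomial.eval a p ∧ (line a c p).eval 1 = MvPolynomial.eval c p := by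
  constructor <;>
    induction p using MvPolynomial.induction_on with
    | C r => simp [line]
    | add p q hp hq => simp [hp, hq]
    | mul_X p i hp => simp [hp]; simp [line]

/-- two points separating a nonconstant fraction -/
theorem exists_points {k : Type u} [Field k] [Infinite k] {n : ℕ}
    (p q g : MvPolynomial (Fin n) k) (hq : q ≠ 0) (hg : g ≠ 0)
    (hpq : ∀ e : k, p ≠ MvPolynomial.C e * q) :
    ∃ a c : Fin n → k, MvPolynomial.eval a g ≠ 0 ∧ MvPolynomial.eval c g ≠ 0 ∧
      MvPolynomial.eval a q ≠ 0 ∧ MvPolynomial.eval c q ≠ 0 ∧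
      MvPolynomial.eval a p * MvPolynomial.eval c q ≠ MvPolynomial.eval c p * MvPolynomial.eval a q := by
  have hex : ∀ f : MvPolynomial (Fin n) k, f ≠ 0 → ∃ z, MvPolynomial.eval z f ≠ 0 := fun f hf => by
    by_contra hcon
    push Not at hcon
    exact hf (MvPolynomial.funext fun z => by rw [hcon z, map_zero])
  obtain ⟨c, hc⟩ := hex (g * q) (mul_ne_zero hg hq)
  rw [map_mul] at hc
  have hcq : MvPolynomial.eval c q ≠ 0 := right_ne_zero_of_mul hc
  have hne : p * MvPolynomial.C (MvPolynomial.eval c q) - MvPolynomial.C (MvPolynomial.eval c p) * q ≠ 0 := by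
    intro h
    refine hpq (MvPolynomial.eval c p / MvPolynomial.eval c q) ?_
    have h1 : p * MvPolynomial.C (MvPolynomial.eval c q) * MvPolynomial.C (MvPolynomial.eval c q)⁻¹
        = MvPolynomial.C (MvPolynomial.eval c p) * q * MvPolynomial.C (MvPolynomial.eval c q)⁻¹ := by
      rw [sub_eq_zero.mp h]
    rw [mul_assoc, ← map_mul, mul_inv_cancel₀ hcq, map_one, mul_one] at h1
    refine h1.trans ?_
    rw [div_eq_mul_inv, map_mul]
    ring
  obtain ⟨a, ha⟩ := hex _ (mul_ne_zero hne (mul_ne_zero hg hq))
  simp only [map_mul, map_sub, MvPolynomial.eval_C] at ha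
  exact ⟨a, c, left_ne_zero_of_mul (right_ne_zero_of_mul ha), left_ne_zero_of_mul hc,
    right_ne_zero_of_mul (right_ne_zero_of_mul ha), hcq, sub_ne_zero.mp (left_ne_zero_of_mul ha)⟩

/-- Over an algebraically closed field k, a unirational variety of dimension one is rational. Field
form: let K be a finitely generated field extension of k of transcendence degree one (K is algebraic
over k(x) for some x ∈ K transcendental over k) admitting a k-embedding into a purely transcendental
extension k(t_1, ..., t_n). Then K = k(t) for some t ∈ K transcendental over k. -/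
theorem result (k : Type u) [Field k] [IsAlgClosed k]
    (K : Type u) [Field K] [Algebra k K] (hfg : (⊤ : IntermediateField k K).FG)
    (x : K) (hx : Transcendental k x) (halg : Algebra.IsAlgebraic ↥(IntermediateField.adjoin k {x}) K)
    (n : ℕ) (φ : K →ₐ[k] FractionRing (MvPolynomial (Fin n) k)) :
    ∃ t : K, Transcendental k t ∧ IntermediateField.adjoin k {t} = ⊤ := by
  classical
  let P := MvPolynomial (Fin n) k
  let F := FractionRing P
  obtain ⟨s, hs⟩ := hfg
  let S : Finset K := insert x s
  have hS : IntermediateField.adjoin k (↑S : Set K) = ⊤ :=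
    top_le_iff.mp (hs.ge.trans (IntermediateField.adjoin.mono k _ _ (by simp [S])))
  have hnd : ∀ r : K, ∃ a b : P, b ≠ 0 ∧ φ r * algebraMap P F b = algebraMap P F a := fun r => by
    obtain ⟨a, b, hb, hab⟩ := IsFractionRing.div_surjective (A := P) (φ r)
    refine ⟨a, b, nonZeroDivisors.ne_zero hb, ?_⟩
    rw [← hab, div_mul_cancel₀]
    exact IsFractionRing.to_map_ne_zero_of_mem_nonZeroDivisors hb
  choose num den hden hnum using hnd
  let g : P := ∏ r ∈ S, den r
  have hg : g ≠ 0 := Finset.prod_ne_zero_iff.mpr fun r _ => hden r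
  have hxS : x ∈ S := Finset.mem_insert_self _ _
  have hxc : ∀ e : k, num x ≠ MvPolynomial.C e * den x := fun e he => by
    have h1 := hnum x
    rw [he, map_mul] at h1
    have h2 := mul_right_cancel₀ ((map_ne_zero_iff _ (IsFractionRing.injective P F)).mpr (hden x)) h1
    have h3 : φ x = φ (algebraMap k K e) := by
      rw [h2, φ.commutes, IsScalarTower.algebraMap_apply k P F]; rfl
    exact hx (by rw [φ.injective h3]; exact isAlgebraic_algebraMap e)
  obtain ⟨a, c, hag, -, -, -, hsep⟩ := exists_points _ _ g (hden x) hg hxc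
  let ψ₀ : P →ₐ[k] RatFunc k := (IsScalarTower.toAlgHom k (Polynomial k) (RatFunc k)).comp (line a c)
  have hψ₀ : ψ₀ g ≠ 0 := by
    intro h
    have h1 : line a c g = 0 := RatFunc.algebraMap_injective k (h.trans (map_zero _).symm)
    exact hag (by rw [← (eval_line a c g).1, h1, Polynomial.eval_zero])
  let L := Localization.Away g
  have hu : ∀ y : Submonoid.powers g, IsUnit (ψ₀ y) := by
    rintro ⟨_, m, rfl⟩
    rw [map_pow]
    exact (Ne.isUnit hψ₀).pow m
  let ψ : L →ₐ[k] RatFunc k :=
    IsLocalization.liftAlgHom (M := Submonoid.powers g) (A := k) (f := ψ₀) hu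
  have hgF : algebraMap P F g ≠ 0 := (map_ne_zero_iff _ (IsFractionRing.injective P F)).mpr hg
  have hu' : ∀ y : Submonoid.powers g, IsUnit ((IsScalarTower.toAlgHom k P F) y) := by
    rintro ⟨_, m, rfl⟩
    rw [map_pow]
    exact (Ne.isUnit hgF).pow m
  let ι : L →ₐ[k] F := IsLocalization.liftAlgHom (M := Submonoid.powers g) (A := k) hu'
  have hι : Function.Injective ι := by
    show Function.Injective (IsLocalization.lift hu')
    rw [IsLocalization.lift_injective_iff]
    refine fun u v => ⟨fun h => congrArg _ ?_, fun h => ?_⟩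
    · exact IsLocalization.injective L
        (powers_le_nonZeroDivisors_of_noZeroDivisors hg) h
    · exact congrArg _ (IsFractionRing.injective P F h)
  let A := Algebra.adjoin k (↑S : Set K)
  have hA : A ≤ ι.range.comap φ := Algebra.adjoin_le fun r hr => by
    obtain ⟨w, hw⟩ : den r ∣ g := Finset.dvd_prod_of_mem _ hr
    refine ⟨IsLocalization.mk' L (num r * w) ⟨g, Submonoid.mem_powers g⟩, ?_⟩
    show IsLocalization.lift hu' _ = φ r
    rw [IsLocalization.lift_mk'_spec]
    show algebraMap P F (num r * w) = algebraMap P F g * φ r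
    rw [hw, map_mul, map_mul, ← hnum r]
    ring
  let θ : A →ₐ[k] RatFunc k :=
    (ψ.comp (AlgEquiv.ofInjective ι hι).symm.toAlgHom).comp
      ((φ.comp A.val).codRestrict ι.range fun z => hA z.2)
  have hθ : ∀ (z : A) (l : L), ι l = φ z → θ z = ψ l := fun z l hl => by
    show ψ ((AlgEquiv.ofInjective ι hι).symm _) = ψ l
    congr 1
    rw [AlgEquiv.symm_apply_eq]
    exact Subtype.ext hl.symm
  let xA : A := ⟨x, Algebra.subset_adjoin hxS⟩
  have hθx : θ xA * ψ₀ (den x) = ψ₀ (num x) := by
    obtain ⟨l, hl⟩ := hA xA.2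
    rw [hθ xA l hl]
    have h1 : ι (l * algebraMap P L (den x)) = ι (algebraMap P L (num x)) := by
      rw [map_mul, show ι l = φ x from hl,
        show ι (algebraMap P L (den x)) = algebraMap P F (den x) from IsLocalization.lift_eq hu' _,
        show ι (algebraMap P L (num x)) = algebraMap P F (num x) from IsLocalization.lift_eq hu' _]
      exact hnum x
    have h2 := congrArg ψ (hι h1)
    rw [map_mul, show ψ (algebraMap P L (den x)) = ψ₀ (den x) from IsLocalization.lift_eq hu _,
      show ψ (algebraMap P L (num x)) = ψ₀ (num x) from IsLocalization.lift_eq hu _] at h2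
    exact h2
  have hθt : Transcendental k (θ xA) := by
    refine RatFunc.transcendental_of_ne_C _ ?_
    rintro ⟨e, he⟩
    rw [he, ← RatFunc.algebraMap_C] at hθx
    have h1 : Polynomial.C e * line a c (den x) = line a c (num x) := by
      apply RatFunc.algebraMap_injective k
      rw [map_mul]
      exact hθx
    have h2 := congrArg (Polynomial.eval 0) h1
    have h3 := congrArg (Polynomial.eval 1) h1
    simp only [Polynomial.eval_mul, Polynomial.eval_C, (eval_line a c _).1, (eval_line a c _).2] at h2 h3
    exact hsep (by rw [← h2, ← h3]; ring)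
  have hθinj : Function.Injective θ := by
    rw [injective_iff_map_eq_zero]
    intro y hy
    by_contra hy0
    have halgy : IsAlgebraic (Algebra.adjoin k ({x} : Set K)) (y : K) :=
      IntermediateField.isAlgebraic_adjoin_iff.mp (halg.isAlgebraic (y : K))
    obtain ⟨q, hq0, hq⟩ := halgy.exists_nonzero_coeff_and_aeval_eq_zero
      (mem_nonZeroDivisors_of_ne_zero fun h => hy0 (Subtype.ext h))
    let B := Algebra.adjoin k ({x} : Set K)
    have hBA : B ≤ A := Algebra.adjoin_mono (by simpa using hxS)
    let qA : Polynomial A := q.map (Subalgebra.inclusion hBA).toRingHom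
    have h1 : qA.eval y = 0 := by
      apply Subtype.val_injective
      show A.val (qA.eval y) = 0
      rw [show A.val (qA.eval y) = (qA.map A.val.toRingHom).eval (y : K) from
        (Polynomial.eval_map_apply _ _).symm, Polynomial.map_map]
      rw [Polynomial.aeval_def, ← Polynomial.eval_map] at hq
      exact hq
    have h2 : θ (qA.coeff 0) = 0 := by
      have h3 : qA.eval y = y * qA.divX.eval y + qA.coeff 0 := by
        refine (congrArg (Polynomial.eval y) (Polynomial.X_mul_divX_add qA).symm).trans ?_
        rw [Polynomial.eval_add, Polynomial.eval_C, Polynomial.eval_mul, Polynomial.eval_X]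
      rw [h3] at h1
      have h4 := congrArg θ h1
      rw [map_add, map_mul, hy, zero_mul, zero_add, map_zero] at h4
      exact h4
    obtain ⟨P₀, hP₀⟩ : ∃ P₀ : Polynomial k, Polynomial.aeval x P₀ = ((q.coeff 0 : B) : K) := by
      have h := (q.coeff 0).2
      exact (le_of_eq (Algebra.adjoin_singleton_eq_range_aeval k x)) h
    have h5 : qA.coeff 0 = Polynomial.aeval xA P₀ := by
      apply Subtype.val_injective
      show A.val (qA.coeff 0) = A.val (Polynomial.aeval xA P₀)
      rw [← Polynomial.aeval_algHom_apply, Polynomial.coeff_map]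
      exact hP₀.symm
    rw [h5, ← Polynomial.aeval_algHom_apply] at h2
    have hP0 : P₀ = 0 := transcendental_iff.mp hθt P₀ h2
    apply hq0
    apply Subtype.val_injective
    show ((q.coeff 0 : B) : K) = 0
    rw [← hP₀, hP0, map_zero]
  have : IsFractionRing A K := IsFractionRing.of_field A K fun z => by
    obtain ⟨u, hu, v, hv, hz⟩ := IntermediateField.mem_adjoin_iff_div.mp (hS.symm ▸ IntermediateField.mem_top (x := z))
    exact ⟨⟨u, hu⟩, ⟨v, hv⟩, hz⟩
  let Θ : K →ₐ[k] RatFunc k := IsFractionRing.liftAlgHom hθinj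
  have hΘx : Transcendental k (Θ x) := by
    rw [show x = algebraMap A K xA from rfl, show Θ (algebraMap A K xA) = θ xA from
      IsFractionRing.lift_algebraMap hθinj xA]
    exact hθt
  let E : IntermediateField k (RatFunc k) := Θ.fieldRange
  have hE : E ≠ ⊥ := fun h => by
    have : Θ x ∈ (⊥ : IntermediateField k (RatFunc k)) := h ▸ ⟨x, rfl⟩
    obtain ⟨e, he⟩ := IntermediateField.mem_bot.mp this
    exact hΘx (he ▸ isAlgebraic_algebraMap e)
  obtain ⟨t, ht⟩ := RatFunc.Luroth.generator_mem (E := E)
  refine ⟨t, fun halgt => RatFunc.Luroth.transcendental_generator hE ?_, ?_⟩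
  · rw [← ht]; exact halgt.algHom Θ
  · have h1 : (IntermediateField.adjoin k {t}).map Θ = E := by
      rw [IntermediateField.adjoin_map, Set.image_singleton, show Θ t = _ from ht]
      exact RatFunc.Luroth.eq_adjoin_generator.symm
    refine top_le_iff.mp fun z _ => ?_
    obtain ⟨w, hw, hwz⟩ : Θ z ∈ (IntermediateField.adjoin k {t}).map Θ := h1 ▸ ⟨z, rfl⟩
    exact Θ.injective hwz ▸ hw

end Groth.Agent.S11238
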