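import Groth.Statements.S11239
import Mathlib.LinearAlgebra.Matrix.Block
-- import your own Groth.Agent.* helpers here

set_option autoImplicit false
universe u
open AGF

namespace Groth.Agent.S11239

/-- Let X be an m × n matrix over a commutative ring, u an upper triangular n × n matrix with ones on
the diagonal, t a diagonal n × n matrix and p ≤ n. For any choice of p rows, the minor of X·t·u
formed with these rows and the first p columns equals (t_11 ⋯ t_pp) times the corresponding minor of
X: the minors on the first p columns are semi-invariant of weight ω_p under right multiplication by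
the upper triangular group. (The published statement is for the generic matrix over an algebraically
closed field; this row states the identity over any commutative ring.) -/
theorem result (R : Type u) [CommRing R] (m n p : ℕ) (hp : p ≤ n)
    (X : Matrix (Fin m) (Fin n) R) (d : Fin n → R) (u : Matrix (Fin n) (Fin n) R)
    (hu1 : ∀ i, u i i = 1) (hu0 : ∀ i j, j < i → u i j = 0) (I : Fin p → Fin m) :
    ((X * Matrix.diagonal d * u).submatrix I (Fin.castLE hp)).det =
      (∏ i : Fin p, d (Fin.castLE hp i)) * (X.submatrix I (Fin.castLE hp)).det := by
  classical
  set c : Fin p → Fin n := Fin.castLE hp with hc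
  have hc' : Function.Injective c := Fin.castLE_injective hp
  have key : (X * Matrix.diagonal d * u).submatrix I c =
      X.submatrix I c * (Matrix.diagonal (d ∘ c) * u.submatrix c c) := by
    ext i j
    simp only [Matrix.submatrix_apply, Matrix.mul_assoc, Matrix.mul_apply, Matrix.diagonal_apply]
    simp only [ite_mul, zero_mul, Finset.sum_ite_eq, Finset.mem_univ, if_true, Function.comp_apply]
    symm
    refine Finset.sum_of_injOn c hc'.injOn (by simp) ?_ (fun a _ => rfl)
    intro l _ hl
    have hl' : p ≤ (l : ℕ) := by
      by_contra h
      exact hl ⟨⟨l, by omega⟩, by simp, Fin.ext (by simp [hc])⟩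
    have : c j < l := by
      rw [hc, Fin.lt_def, Fin.val_castLE]; omega
    rw [hu0 l (c j) this]; simp
  have hu : (u.submatrix c c).det = 1 := by
    rw [Matrix.det_of_isUpperTriangular]
    · simp [hu1]
    · intro i j hij
      exact hu0 (c i) (c j) hij
  rw [key, Matrix.det_mul, Matrix.det_mul, Matrix.det_diagonal, hu, mul_one, mul_comm]
  rfl

end Groth.Agent.S11239
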