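import Groth.Statements.S1124
import Groth.Agent.AlgSp.DescentImm
import Groth.Agent.FDesc.QuasiFlat
import Groth.Agent.S2488
import Mathlib.AlgebraicGeometry.Morphisms.Immersion
import Mathlib.AlgebraicGeometry.Morphisms.QuasiCompact

set_option autoImplicit false
open CategoryTheory CategoryTheory.Limits AlgebraicGeometry Opposite
universe u
open Desc

namespace Groth.Agent.S1124


set_option backward.isDefEq.respectTransparency.types false in
theorem descends : MorphismProperty.DescendsAlong (@IsImmersion ⊓ @QuasiCompact : MorphismProperty Scheme.{u})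
    (@Surjective ⊓ @Flat ⊓ @QuasiCompact : MorphismProperty Scheme.{u}) := by
  have hI : MorphismProperty.RespectsIso (@IsImmersion : MorphismProperty Scheme.{u}) := inferInstance
  haveI : (@IsImmersion ⊓ @QuasiCompact : MorphismProperty Scheme.{u}).RespectsIso := inferInstance
  refine MorphismProperty.DescendsAlong.mk' fun {X Y Z} f g _ hf hg => ?_
  obtain ⟨⟨hs, hfl⟩, hqc⟩ := hf
  obtain ⟨himm0, hqcp⟩ := hg
  have hgq : QuasiCompact g :=
    Groth.Agent.S2488.quasiCompact_of_pullback (IsPullback.of_hasPullback f g)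
  refine ⟨?_, hgq⟩
  have hA : f ⁻¹' Set.range g = Set.range (pullback.fst f g) := by
    ext x
    constructor
    · rintro ⟨y, hy⟩
      obtain ⟨z, hz, -⟩ := Scheme.Pullback.exists_preimage_pullback (f := f) (g := g) x y hy.symm
      exact ⟨z, hz⟩
    · rintro ⟨z, rfl⟩
      exact ⟨pullback.snd f g z, by rw [← Scheme.Hom.comp_apply, ← pullback.condition, Scheme.Hom.comp_apply]⟩
  have hcb : f ⁻¹' coborder (Set.range g) = coborder (Set.range (pullback.fst f g)) := by
    rw [coborder_eq_union_closure_compl, coborder_eq_union_closure_compl, Set.preimage_union, Set.preimage_compl,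
      ← hA, Groth.Agent.FDesc.QuasiFlat.preimage_closure_range f (Flat.generalizingMap f) g]
  have hqm : Topology.IsQuotientMap f := Flat.isQuotientMap_of_surjective f
  let O : Z.Opens := ⟨coborder (Set.range g), by
    rw [← hqm.isOpen_preimage, hcb]
    exact (pullback.fst f g).isLocallyClosed_range.isOpen_coborder⟩
  let g₀ : Y ⟶ O := IsOpenImmersion.lift O.ι g (by rw [Scheme.Opens.range_ι]; exact subset_coborder)
  have hg₀ : g₀ ≫ O.ι = g := IsOpenImmersion.lift_fac _ _ _
  suffices IsClosedImmersion g₀ by rw [← hg₀]; infer_instance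
  let f₀ := f ∣_ O
  have hps : Surjective f₀ := IsZariskiLocalAtTarget.restrict hs O
  have hpq : QuasiCompact f₀ := inferInstance
  have sqA : IsPullback (f ⁻¹ᵁ O).ι f₀ f O.ι := (isPullback_morphismRestrict f O).flip
  have sqB := IsPullback.of_hasPullback f₀ g₀
  have sqC : IsPullback (pullback.fst f₀ g₀ ≫ (f ⁻¹ᵁ O).ι) (pullback.snd f₀ g₀) f g := by
    rw [← hg₀]
    exact sqB.paste_horiz sqA |>.flip |>.flip
  have himm : IsImmersion (pullback.fst f₀ g₀ ≫ (f ⁻¹ᵁ O).ι) := by
    rw [← sqC.isoPullback_hom_fst]
    exact (MorphismProperty.cancel_left_of_respectsIso @IsImmersion _ _).2 himm0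
  have : IsPreimmersion (pullback.fst f₀ g₀) := IsPreimmersion.of_comp _ (f ⁻¹ᵁ O).ι
  have hr : Set.range (pullback.fst f₀ g₀) = (f ⁻¹ᵁ O).ι ⁻¹' Set.range (pullback.fst f g) := by
    ext x
    constructor
    · rintro ⟨z, rfl⟩
      exact ⟨sqC.isoPullback.hom z, by rw [← Scheme.Hom.comp_apply, sqC.isoPullback_hom_fst]; rfl⟩
    · rintro ⟨z, hz⟩
      refine ⟨sqC.isoPullback.inv z, (f ⁻¹ᵁ O).ι.injective ?_⟩
      rw [← Scheme.Hom.comp_apply, ← Scheme.Hom.comp_apply, sqC.isoPullback_inv_fst, hz]
  have hci : IsClosedImmersion (pullback.fst f₀ g₀) := by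
    refine .of_isPreimmersion _ ?_
    rw [hr]
    convert! isClosed_preimage_val_coborder (s := Set.range (pullback.fst f g)) |>.preimage
      (f := fun x : (f ⁻¹ᵁ O).toScheme => (⟨x.1, show x.1 ∈ coborder (Set.range (pullback.fst f g)) by
        rw [← hcb]; exact x.2⟩ : ↥(coborder (Set.range (pullback.fst f g)))))
      (Continuous.subtype_mk continuous_subtype_val _) using 1
  have := Groth.Agent.FpqcDesc.descendsAlong_isClosedImmersion.{u}
  exact MorphismProperty.of_pullback_fst_of_descendsAlong (P := @IsClosedImmersion)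
    (Q := @Surjective ⊓ @Flat ⊓ @QuasiCompact) (f := f₀) ⟨⟨hps, inferInstance⟩, hpq⟩ hci


/-- If the base change of a morphism of schemes along a quasi-compact, flat, surjective morphism is a
quasi-compact immersion, then the morphism itself is a quasi-compact immersion. (Stated for a single
quasi-compact flat surjective base change; together with Zariski-locality on the target this is fpqc
descent for quasi-compact immersions.) -/
theorem result :
    MorphismProperty.DescendsAlong (@IsImmersion ⊓ @QuasiCompact : MorphismProperty Scheme.{u})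
      (@Surjective ⊓ @Flat ⊓ @QuasiCompact : MorphismProperty Scheme.{u}) := by
  exact descends

end Groth.Agent.S1124
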