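import Groth.Statements.S11240
-- import your own Groth.Agent.* helpers here

set_option autoImplicit false
universe u
open AGF

namespace Groth.Agent.S11240

theorem det_generic_submatrix_ne_zero {k : Type u} [Field k] {n m p : ℕ}
    (I : Fin p → Fin n) (J : Fin p → Fin m) (hI : Function.Injective I) (hJ : Function.Injective J) :
    ((Matrix.of fun a c => (MvPolynomial.X (a, c) : MvPolynomial (Fin n × Fin m) k)).submatrix I J).det ≠ 0 := by
  classical
  intro h
  have := congrArg (MvPolynomial.eval (fun x : Fin n × Fin m => if ∃ t, I t = x.1 ∧ J t = x.2 then (1 : k) else 0)) h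
  rw [RingHom.map_det, map_zero] at this
  have h1 : ((MvPolynomial.eval (fun x : Fin n × Fin m => if ∃ t, I t = x.1 ∧ J t = x.2 then (1 : k) else 0)).mapMatrix
      ((Matrix.of fun a c => (MvPolynomial.X (a, c) : MvPolynomial (Fin n × Fin m) k)).submatrix I J)) = 1 := by
    ext a b
    simp only [RingHom.mapMatrix_apply, Matrix.map_apply, Matrix.submatrix_apply, Matrix.of_apply,
      MvPolynomial.eval_X, Matrix.one_apply]
    refine if_congr ⟨?_, fun e => ⟨a, rfl, e ▸ rfl⟩⟩ rfl rfl
    rintro ⟨t, ht, ht'⟩
    exact (hI ht).symm.trans (hJ ht')
  rw [h1, Matrix.det_one] at this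
  exact one_ne_zero this

/-- For a single root subgroup: let k be an algebraically closed field and X = (x_ab) the generic n × m
matrix over the polynomial ring k[x_ab]. Let i ≠ j be row indices and let I (rows) and J (columns)
be strictly increasing sequences of length p. The minor of X with rows I and columns J is invariant
under replacing X by (1 + b·E_ij)·X for every b ∈ k (the one-parameter unipotent group adding b
times row j to row i) if and only if j occurs in I whenever i does. (The published statement gives
the criterion for the group generated by several such root subgroups, which is the conjunction of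
these.) -/
theorem result (k : Type u) [Field k] [IsAlgClosed k] (n m p : ℕ)
    (i j : Fin n) (hij : i ≠ j) (I : Fin p ↪o Fin n) (J : Fin p ↪o Fin m) :
    (∀ b : k, ((Matrix.transvection i j (MvPolynomial.C b) *
        (Matrix.of fun a c => (MvPolynomial.X (a, c) : MvPolynomial (Fin n × Fin m) k))).submatrix I J).det =
        ((Matrix.of fun a c => (MvPolynomial.X (a, c) : MvPolynomial (Fin n × Fin m) k)).submatrix I J).det) ↔
      (i ∈ Set.range I → j ∈ Set.range I) := by
  classical
  set X := (Matrix.of fun a c => (MvPolynomial.X (a, c) : MvPolynomial (Fin n × Fin m) k)) with hX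
  by_cases hi : i ∈ Set.range I
  · obtain ⟨r, hr⟩ := hi
    have key : ∀ b : k, ((Matrix.transvection i j (MvPolynomial.C b) * X).submatrix I J).det =
        (X.submatrix I J).det + MvPolynomial.C b * ((X.submatrix (Function.update I r j) J)).det := by
      intro b
      have e : (Matrix.transvection i j (MvPolynomial.C b) * X).submatrix I J =
          (X.submatrix I J).updateRow r ((X.submatrix I J) r + (MvPolynomial.C b : MvPolynomial (Fin n × Fin m) k) • fun t => X j (J t)) := by
        ext a t
        by_cases ha : a = r
        · subst ha
          simp [hr]
        · have : I a ≠ i := fun e => ha (I.injective (e.trans hr.symm))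
          simp [ha, this]
      have e2 : (X.submatrix I J).updateRow r (fun t => X j (J t)) = X.submatrix (Function.update I r j) J := by
        ext a t
        by_cases ha : a = r
        · subst ha; simp
        · simp [ha]
      rw [e, Matrix.det_updateRow_add, Matrix.det_updateRow_smul, Matrix.updateRow_eq_self, e2]
    constructor
    · intro h _
      by_contra hj
      have h1 := h 1
      rw [key 1, map_one, one_mul, add_eq_left] at h1
      refine det_generic_submatrix_ne_zero _ J ?_ J.injective h1
      intro a b hab
      by_cases ha : a = r <;> by_cases hb : b = r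
      · rw [ha, hb]
      · subst ha; simp [hb] at hab; exact absurd ⟨b, hab.symm⟩ hj
      · subst hb; simp [ha] at hab; exact absurd ⟨a, hab⟩ hj
      · simp [ha, hb] at hab; exact hab
    · intro h b
      obtain ⟨s, hs⟩ := h ⟨r, hr⟩
      have hsr : r ≠ s := fun e => hij (by rw [← hr, e, hs])
      rw [key b, Matrix.det_zero_of_row_eq (M := X.submatrix (Function.update I r j) J) hsr, mul_zero, add_zero]
      funext t
      simp [Ne.symm hsr, hs]
  · refine iff_of_true (fun b => ?_) (fun h => absurd h hi)
    congr 1
    ext a t
    have : I a ≠ i := fun e => hi ⟨a, e⟩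
    simp [this]

end Groth.Agent.S11240
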