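import Groth.Statements.S11241
import Groth.Agent.AGFObs.Fixed
-- import your own Groth.Agent.* helpers here

set_option autoImplicit false
universe u
open CategoryTheory MonoidalCategory CartesianMonoidalCategory MonObj GrpObj AlgebraicGeometry
open scoped TensorProduct
open AGF

namespace Groth.Agent.S11241

open Groth.Agent.AGFObs Groth.Agent.AGFPoints.Basic Groth.Agent.AGFLang

/-- Let k be an algebraically closed field and H a connected unipotent linear algebraic group over k
(affine, smooth, connected, with no nontrivial subtorus), acting rationally by algebra automorphisms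
on a commutative k-algebra A which is an integral domain. An H-invariant element of the fraction
field of A is a quotient of two H-invariant elements of A: if a₀, b₀ ∈ A with b₀ ≠ 0 satisfy
(h·a₀)·b₀ = a₀·(h·b₀) for every point h of H (invariance of a₀/b₀), then there are a, b ∈ A^H with b
≠ 0 and a·b₀ = b·a₀. (The published statement allows any unipotent H; this row takes H connected.) -/
theorem result (k : Type u) [Field k] [IsAlgClosed k]
    (H : Over (Spec (CommRingCat.of k))) [GrpObj H] [IsAffine H.left] [Smooth H.hom] [ConnectedSpace H.left]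
    (hH : Red.HasNoSubtorus k H)
    (A : Type u) [CommRing A] [IsDomain A] [Algebra k A] (ρ : VecGrp.GMod H A) (hρ : ρ.IsMult)
    (a₀ b₀ : A) (hb₀ : b₀ ≠ 0)
    (hinv : ∀ (B : Type u) [CommRing B] [Algebra k B] (h : VecGrp.pt k B ⟶ H),
      ρ.ρ B h ((1 : B) ⊗ₜ[k] a₀) * ((1 : B) ⊗ₜ[k] b₀) = ((1 : B) ⊗ₜ[k] a₀) * ρ.ρ B h ((1 : B) ⊗ₜ[k] b₀)) :
    ∃ a b : A, a ∈ ρ.fixedUnder (𝟙 H) ∧ b ∈ ρ.fixedUnder (𝟙 H) ∧ b ≠ 0 ∧ a * b₀ = b * a₀ := by
  classical
  have hmul : ∀ (z : Pts H) (x y : A), act ρ z (x * y) = act ρ z x * act ρ z y := fun z x y => by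
    rw [← cAct_coactOf ρ hρ, ← cAct_coactOf ρ hρ, ← cAct_coactOf ρ hρ, map_mul]
  have hinv' : ∀ z : Pts H, act ρ z a₀ * b₀ = a₀ * act ρ z b₀ := fun z => by
    have h := congrArg (Algebra.TensorProduct.lid k A) (hinv k z)
    rw [map_mul, map_mul, ρ_one_tmul, ρ_one_tmul] at h
    simpa using h
  have hne : ∀ z : Pts H, act ρ z b₀ ≠ 0 := fun z h0 => hb₀ (by
    rw [← act_one ρ b₀, ← inv_mul_cancel z, act_mul, h0, map_zero])
  let S : Set A := Set.range fun z : Pts H => act ρ z b₀
  have hfin : Module.Finite k (Submodule.span k S) := by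
    obtain ⟨W, hW, hSW⟩ : ∃ W : Submodule k A, Module.Finite k W ∧ S ⊆ W := by
      obtain ⟨s, hs⟩ := TensorProduct.exists_finset (ρ.ρ (Coord H) (uPt H) ((1 : Coord H) ⊗ₜ[k] b₀))
      refine ⟨Submodule.span k (s.image Prod.snd : Finset A), Module.Finite.span_of_finite k (Finset.finite_toSet _), ?_⟩
      rintro _ ⟨z, rfl⟩
      show TensorProduct.lid k A (ρ.ρ k z ((1 : k) ⊗ₜ b₀)) ∈ _
      rw [ρ_eq, hs, map_sum, map_sum]
      refine Submodule.sum_mem _ fun p hp => ?_
      simp only [LinearMap.rTensor_tmul, TensorProduct.lid_tmul]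
      exact Submodule.smul_mem _ _ (Submodule.subset_span (Finset.mem_coe.2 (Finset.mem_image_of_mem _ hp)))
    exact Module.Finite.of_injective _ (Submodule.inclusion_injective (Submodule.span_le.2 hSW))
  let W := Submodule.span k S
  have hWs : ∀ z : Pts H, ∀ w ∈ W, act ρ z w ∈ W := fun z w hw => by
    have : W ≤ W.comap (act ρ z) := Submodule.span_le.2 (by
      rintro _ ⟨y, rfl⟩
      exact Submodule.subset_span ⟨z * y, act_mul ρ z y b₀⟩)
    exact this hw
  let J : Submodule k A :=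
    { carrier := {b | ∃ c, b * a₀ = c * b₀}
      add_mem' := by rintro x y ⟨c, hc⟩ ⟨d, hd⟩; exact ⟨c + d, by rw [add_mul, add_mul, hc, hd]⟩
      zero_mem' := ⟨0, by simp⟩
      smul_mem' := by rintro r x ⟨c, hc⟩; exact ⟨r • c, by rw [smul_mul_assoc, smul_mul_assoc, hc]⟩ }
  have hJ : W ≤ J := Submodule.span_le.2 (by
    rintro _ ⟨z, rfl⟩
    exact ⟨act ρ z a₀, by rw [hinv' z, mul_comm]⟩)
  have : Nontrivial W := ⟨⟨⟨b₀, Submodule.subset_span ⟨1, act_one ρ b₀⟩⟩, 0, fun h => hb₀ (congrArg Subtype.val h)⟩⟩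
  obtain ⟨v, hv0, hv⟩ := Fixed.exists_fixed hH (V := W) (fun z => (act ρ z).restrict (hWs z))
    (fun v => Subtype.ext (act_one ρ (v : A))) (fun g h v => Subtype.ext (act_mul ρ g h (v : A)))
    (fun φ v => by
      obtain ⟨ψ, hψ⟩ := LinearMap.exists_extend φ
      refine ⟨coef ρ ψ (v : A), fun z => ?_⟩
      rw [val_coef, ← hψ]
      rfl)
  have hbfix : ∀ z : Pts H, act ρ z (v : A) = v := fun z => congrArg Subtype.val (hv z)
  have hv0' : (v : A) ≠ 0 := fun h => hv0 (Subtype.ext h)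
  obtain ⟨a, ha⟩ := hJ v.2
  refine ⟨a, v, (mem_fixedUnder_iff ρ (𝟙 H) a).2 fun z => ?_, (mem_fixedUnder_iff ρ (𝟙 H) (v : A)).2 fun z => ?_, hv0', ha.symm⟩
  · rw [Category.comp_id]
    have h := congrArg (act ρ z) ha
    rw [hmul, hmul, hbfix] at h
    refine mul_right_cancel₀ (mul_ne_zero hb₀ (hne z)) ?_
    calc act ρ z a * (b₀ * act ρ z b₀) = (act ρ z a * act ρ z b₀) * b₀ := by ring
      _ = (v : A) * (act ρ z a₀ * b₀) := by rw [← h]; ring
      _ = ((v : A) * a₀) * act ρ z b₀ := by rw [hinv' z]; ring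
      _ = a * (b₀ * act ρ z b₀) := by rw [ha]; ring
  · rw [Category.comp_id]
    exact hbfix z

end Groth.Agent.S11241
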