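import Groth.Statements.S5491
import Groth.Agent.RootDatum.Sat
import Groth.Agent.RootDatum.Forms
-- import your own Groth.Agent.* helpers here

set_option autoImplicit false
open RootD

namespace Groth.Agent.S5491

open Classical in
/-- With ρ^v the half-sum of the positive coroots, the order (height) of any root α relative to the
simple system equals (ρ^v, α); equivalently 2·height(α) = Σ_{β > 0} (β^v, α). -/
theorem result {ι M N : Type*} [AddCommGroup M] [AddCommGroup N]
    (P : RootPairing ι ℤ M N) [Finite ι] [Fintype ι] [P.IsReduced] (b : P.Base) (i : ι) :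
    2 * b.height i = ∑ j, if b.IsPos j then P.pairing i j else 0 := by
  classical
  have h := RootDatum.isSimple_of_base P b
  have e' : P.root i = ∑ j ∈ b.support, h.coeff i j • P.root j := by
    conv_lhs => rw [← h.lc_coeff i, Finsupp.linearCombination_apply]
    exact Finsupp.sum_of_support_subset _ (by simpa using h.coeff_support i) _ (by simp)
  rw [RootPairing.Base.height_eq_sum e', ← Finset.sum_filter, Finset.mul_sum]
  have h1 : ∀ j, P.pairing i j = ∑ l ∈ b.support, h.coeff i l * P.pairing l j := fun j => by
    rw [← P.root_coroot'_eq_pairing, e', map_sum]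
    simp
  simp only [h1]
  rw [Finset.sum_comm]
  refine Finset.sum_congr rfl fun l hl => ?_
  rw [← Finset.mul_sum, mul_comm]
  congr 1
  have hS : ∀ k, k ∈ (Finset.univ.filter fun j => b.IsPos j) ↔
      k ∈ RootD.posOf P (b.support : Set ι) := fun k => by
    simp [RootDatum.isPos_iff_mem_posOf P b]
  have := (RootDatum.sum_pairingIn_reduced P h hl _ hS).2
  simp only [RootDatum.pairingIn_int] at this
  exact this.symm

end Groth.Agent.S5491
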