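import Groth.Statements.S11243
import Groth.Agent.RootDatum.Misc
import Groth.Agent.RootDatum.Dominant
import Groth.Agent.S5491
-- import your own Groth.Agent.* helpers here

set_option autoImplicit false
universe u v w
open RootD

namespace Groth.Agent.S11243

/-- (b), for a connected group, as a statement about its root datum: let P be a finite reduced
crystallographic root pairing over ℤ with weight lattice M, and b a base of P (simple roots,
determining the positive roots). Then there is an additive map h : M → ℤ which is positive on every
positive root (so that h strictly increases along the dominance order) and non-negative on every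
dominant weight, i.e. on every ω ∈ M pairing non-negatively with all simple coroots. (Part (c),
invariance under the component group of a disconnected group, is not stated.) -/
theorem result {ι : Type u} {M : Type v} {N : Type w}
    [Fintype ι] [AddCommGroup M] [AddCommGroup N]
    (P : RootPairing ι ℤ M N) [P.IsReduced] [P.IsCrystallographic] (b : P.Base) :
    ∃ h : M →+ ℤ, (∀ i : ι, b.IsPos i → 0 < h (P.root i)) ∧
      ∀ ω : M, (∀ j ∈ b.support, 0 ≤ P.toLinearMap ω (P.coroot j)) → 0 ≤ h ω := by
  classical
  have hs := RootDatum.isSimple_of_base P b
  let h : M →ₗ[ℤ] ℤ := ∑ k ∈ Finset.univ.filter (fun k => b.IsPos k), P.coroot' k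
  refine ⟨h.toAddMonoidHom, fun i hi => ?_, fun ω hω => ?_⟩
  · have := Groth.Agent.S5491.result P b i
    rw [← Finset.sum_filter] at this
    have h2 : 0 < b.height i := hi
    simp only [LinearMap.toAddMonoidHom_coe, h, LinearMap.coe_sum, Finset.sum_apply,
      P.root_coroot'_eq_pairing]
    omega
  · simp only [LinearMap.toAddMonoidHom_coe, h, LinearMap.coe_sum, Finset.sum_apply]
    exact Finset.sum_nonneg fun k hk => hs.coroot'_nonneg (x := ω) (fun j hj => hω j hj)
      ((RootDatum.isPos_iff_mem_posOf P b).mp (Finset.mem_filter.mp hk).2)

end Groth.Agent.S11243
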