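import Groth.Statements.S5329
import Groth.Agent.GrpSGA.Fibre
import Groth.Agent.S5341
import Groth.Agent.S3022
import Groth.Agent.FlatMisc.FibreDimScheme
import Groth.Agent.AlgSpD.RelDim
import Groth.Agent.Omega.SmoothFibreDim
import Groth.Agent.S9176

set_option autoImplicit false
universe u
open CategoryTheory CategoryTheory.Limits MonoidalCategory CartesianMonoidalCategory MonObj GrpObj AlgebraicGeometry
open SGA3

namespace Groth.Agent.S5329

open Groth.Agent.GrpSGA in
lemma dim_eq (S : Scheme.{u}) (G : Over S) [GrpObj G] [LocallyOfFiniteType G.hom] (s : S) :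
    topologicalKrullDim ↥(G.hom.base ⁻¹' {s}) = FlatMor.fibreDimAt G.hom (η[G].left s) := by
  let x₀ : (Fibre.fib G s).left := Groth.Agent.GrpScheme.IdComponent.e₀ (Fibre.fib G s)
  have hs : G.hom (η[G].left s) = s := by
    rw [← Scheme.Hom.comp_apply, Over.w η[G]]
    rfl
  have : LocallyOfFiniteType (Fibre.fib G s).hom :=
    inferInstanceAs (LocallyOfFiniteType (pullback.snd G.hom (S.fromSpecResidueField s)))
  have h := (Groth.Agent.S5341.result (S.residueField s) (Fibre.fib G s)).2 x₀
  rw [Groth.Agent.S3022.fibreDimAt_eq G.hom _ s hs x₀ (Fibre.fibι_unit G s)]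
  refine Eq.trans ?_ h.symm
  exact (G.hom.fiberHomeo s).symm.isHomeomorph.topologicalKrullDim_eq

lemma exists_nat (S : Scheme.{u}) (G : Over S) [GrpObj G] [LocallyOfFiniteType G.hom] (s : S) :
    ∃ n : ℕ, topologicalKrullDim ↥(G.hom.base ⁻¹' {s}) = (n : ℕ) := by
  obtain ⟨n, m, -, -, -, h⟩ := Groth.Agent.AlgSpD.exists_fibre_dims G.hom (η[G].left s)
  exact ⟨n + m, (dim_eq S G s).trans h⟩

/-- Over affine opens the set of points of fibre dimension at most `n` is quasi-compact. -/
lemma isCompact_inter {X Y : Scheme.{u}} (f : X ⟶ Y) [LocallyOfFinitePresentation f] {V : Y.Opens}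
    (hV : IsAffineOpen V) {W : X.Opens} (hW : IsAffineOpen W) (hWV : W ≤ f ⁻¹ᵁ V) (n : ℕ) :
    IsCompact ((W : Set X) ∩ {x | FlatMor.fibreDimAt f x ≤ n}) := by
  have hfp : (f.appLE V W hWV).hom.FinitePresentation := f.finitePresentation_appLE hV hW hWV
  algebraize [(f.appLE V W hWV).hom]
  have hc := (Groth.Agent.S9176.result Γ(Y, V) Γ(X, W) n).2
  have heq : (W : Set X) ∩ {x | FlatMor.fibreDimAt f x ≤ n} = hW.fromSpec ''
      {q : PrimeSpectrum Γ(X, W) | ∀ Q : PrimeSpectrum ((q.asIdeal.under Γ(Y, V)).Fiber Γ(X, W)),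
        Q.asIdeal.comap (Algebra.TensorProduct.includeRight.toRingHom) = q.asIdeal →
          FlatMor.localDim (PrimeSpectrum ((q.asIdeal.under Γ(Y, V)).Fiber Γ(X, W))) Q ≤
            (n : WithBot ℕ∞)} := by
    have key : ∀ q : PrimeSpectrum Γ(X, W), FlatMor.fibreDimAt f (hW.fromSpec q) ≤ n ↔
        ∀ Q : PrimeSpectrum ((q.asIdeal.under Γ(Y, V)).Fiber Γ(X, W)),
          Q.asIdeal.comap (Algebra.TensorProduct.includeRight.toRingHom) = q.asIdeal →
            FlatMor.localDim (PrimeSpectrum ((q.asIdeal.under Γ(Y, V)).Fiber Γ(X, W))) Q ≤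
              (n : WithBot ℕ∞) := by
      intro q
      obtain ⟨P, hP, hd⟩ :=
        Groth.Agent.Omega.SmoothFibreDim.fibreDimAt_eq_localDim_fiber Γ(Y, V) Γ(X, W) q
      have hd' : FlatMor.fibreDimAt f (hW.fromSpec q) = FlatMor.localDim _ P :=
        (Groth.Agent.Omega.SmoothFibreDim.fibreDimAt_appLE f hV hW hWV q).symm.trans hd
      rw [hd']
      constructor
      · intro h Q hQ
        have hPQ : Q = P := (PrimeSpectrum.preimageEquivFiber Γ(Y, V) Γ(X, W)
          ⟨q.asIdeal.under Γ(Y, V), inferInstance⟩).symm.injective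
          (Subtype.ext (PrimeSpectrum.ext (hQ.trans (congrArg PrimeSpectrum.asIdeal hP).symm)))
        rw [hPQ]
        exact h
      · intro h
        exact h P (congrArg PrimeSpectrum.asIdeal hP)
    ext x
    constructor
    · rintro ⟨hx, hxn⟩
      obtain ⟨q, rfl⟩ : x ∈ Set.range hW.fromSpec := by rw [hW.range_fromSpec]; exact hx
      exact ⟨q, (key q).mp hxn, rfl⟩
    · rintro ⟨q, hq, rfl⟩
      exact ⟨hW.range_fromSpec ▸ Set.mem_range_self q, (key q).mpr hq⟩
  rw [heq]
  exact hc.image hW.fromSpec.continuous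

/-- Let G be an S-group scheme locally of finite type over S. Then (i) s ↦ dim G_s is upper
semicontinuous on S; (ii) if G is locally of finite presentation over S, this function is locally
constructible: every point of S has an open neighbourhood V on which it takes finitely many values
and on which each of its level sets is constructible. (The published statement is for an S-scheme
locally of finite type with a section ε such that dim G_s = dim_{ε(s)} G_s for all s; this row takes
the case of a group scheme, where that condition holds.) -/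
theorem result (S : Scheme.{u}) (G : Over S) [GrpObj G] [LocallyOfFiniteType G.hom] :
    UpperSemicontinuous (fun s : S => topologicalKrullDim ↥(G.hom.base ⁻¹' {s})) ∧
    (LocallyOfFinitePresentation G.hom → ∀ s : S, ∃ V : S.Opens, s ∈ V ∧
      ((fun t : S => topologicalKrullDim ↥(G.hom.base ⁻¹' {t})) '' (V : Set S)).Finite ∧
      ∀ d : WithBot ℕ∞, Topology.IsConstructible {t : V | topologicalKrullDim ↥(G.hom.base ⁻¹' {(t : S)}) = d}) := by
  let d : S → WithBot ℕ∞ := fun t => topologicalKrullDim ↥(G.hom.base ⁻¹' {t})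
  have hopen : ∀ n : ℕ, IsOpen {t : S | d t ≤ (n : WithBot ℕ∞)} := fun n => by
    let e : S ⟶ G.left := η[G].left
    have h := (Groth.Agent.FlatMisc.FibreDimScheme.isOpen_fibreDimAt_le G.hom n).preimage e.continuous
    refine Eq.subst (motive := IsOpen) ?_ h
    symm
    ext t
    show d t ≤ _ ↔ FlatMor.fibreDimAt G.hom (η[G].left t) ≤ _
    rw [← dim_eq S G t]
  refine ⟨fun t y hy => ?_, fun hfp s => ?_⟩
  · obtain ⟨m, hm⟩ := exists_nat S G t
    refine Filter.mem_of_superset ((hopen m).mem_nhds hm.le) fun t' ht' => ?_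
    exact lt_of_le_of_lt (ht' : d t' ≤ _) (lt_of_eq_of_lt hm.symm hy)
  · obtain ⟨V, hV, hsV⟩ : ∃ V : S.Opens, IsAffineOpen V ∧ s ∈ V := by
      obtain ⟨_, ⟨V, hV, rfl⟩, hsV, -⟩ :=
        S.isBasis_affineOpens.exists_subset_of_mem_open (Set.mem_univ s) isOpen_univ
      exact ⟨V, hV, hsV⟩
    refine ⟨V, hsV, ?_⟩
    let e : S ⟶ G.left := η[G].left
    let A : ℕ → Set {x : S // x ∈ V} := fun n => {t | d t.1 ≤ (n : WithBot ℕ∞)}
    have hAo : ∀ n, IsOpen (A n) := fun n => (hopen n).preimage continuous_subtype_val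
    have hVc : CompactSpace {x : S // x ∈ V} := isCompact_iff_compactSpace.mp hV.isCompact
    have hη : ∀ t ∈ V, η[G].left t ∈ G.hom ⁻¹ᵁ V := fun t ht => by
      have : G.hom (η[G].left t) = t := by
        rw [← Scheme.Hom.comp_apply, Over.w η[G]]
        rfl
      show G.hom _ ∈ V
      rwa [this]
    have hAc : ∀ n, IsCompact (A n) := fun n => by
      have hloc : ∀ t : {x : S // x ∈ V}, ∃ D : S.Opens, IsAffineOpen D ∧ (t : S) ∈ D ∧ D ≤ V ∧
          IsCompact ((D : Set S) ∩ {t | d t ≤ (n : WithBot ℕ∞)}) := fun t => by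
        obtain ⟨W, hW, htW, hWV⟩ : ∃ W : G.left.Opens, IsAffineOpen W ∧ e t ∈ W ∧
            W ≤ G.hom ⁻¹ᵁ V := by
          obtain ⟨_, ⟨W, hW, rfl⟩, htW, hWV⟩ := G.left.isBasis_affineOpens.exists_subset_of_mem_open
            (hη t t.2) (G.hom ⁻¹ᵁ V).2
          exact ⟨W, hW, htW, hWV⟩
        obtain ⟨D, hD, htD, hDW⟩ : ∃ D : S.Opens, IsAffineOpen D ∧ (t : S) ∈ D ∧
            D ≤ e ⁻¹ᵁ W ⊓ V := by
          obtain ⟨_, ⟨D, hD, rfl⟩, htD, hDW⟩ := S.isBasis_affineOpens.exists_subset_of_mem_open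
            (show (t : S) ∈ (e ⁻¹ᵁ W ⊓ V : S.Opens) from ⟨htW, t.2⟩) (e ⁻¹ᵁ W ⊓ V).2
          exact ⟨D, hD, htD, hDW⟩
        refine ⟨D, hD, htD, fun x hx => (hDW hx).2, ?_⟩
        have hc := isCompact_inter G.hom hV hW hWV n
        have hoW : IsOpen ((W : Set G.left) ∩ {x | FlatMor.fibreDimAt G.hom x ≤ n}) :=
          W.2.inter (Groth.Agent.FlatMisc.FibreDimScheme.isOpen_fibreDimAt_le G.hom n)
        let g : D.toScheme ⟶ W.toScheme := e.resLE W D (fun x hx => (hDW hx).1)
        have : IsAffine D.toScheme := hD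
        have : IsAffine W.toScheme := hW
        have hgq : QuasiCompact g := quasiCompact_iff_compactSpace g |>.mpr inferInstance
        have hc' : IsCompact (W.ι ⁻¹' ((W : Set G.left) ∩ {x | FlatMor.fibreDimAt G.hom x ≤ n})) :=
          W.ι.isOpenEmbedding.isInducing.isCompact_preimage' hc (by
            rintro x ⟨hx, -⟩
            exact ⟨⟨x, hx⟩, rfl⟩)
        have h2 := (hgq.isCompact_preimage _ (hoW.preimage W.ι.continuous) hc').image D.ι.continuous
        convert h2 using 1
        ext x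
        constructor
        · rintro ⟨hx, hxn⟩
          refine ⟨⟨x, hx⟩, ?_, rfl⟩
          have h3 : W.ι (g ⟨x, hx⟩) = e x := by
            rw [← Scheme.Hom.comp_apply, Scheme.Hom.resLE_comp_ι, Scheme.Hom.comp_apply]
            rfl
          show W.ι (g ⟨x, hx⟩) ∈ (W : Set G.left) ∩ {x | FlatMor.fibreDimAt G.hom x ≤ n}
          rw [h3]
          exact ⟨(hDW hx).1, (dim_eq S G x).ge.trans hxn⟩
        · rintro ⟨y, hy, rfl⟩
          refine ⟨y.2, ?_⟩
          have h3 : W.ι (g y) = e (D.ι y) := by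
            rw [← Scheme.Hom.comp_apply, Scheme.Hom.resLE_comp_ι, Scheme.Hom.comp_apply]
          have h4 : W.ι (g y) ∈ (W : Set G.left) ∩ {x | FlatMor.fibreDimAt G.hom x ≤ n} := hy
          rw [h3] at h4
          exact (dim_eq S G _).le.trans h4.2
      choose D hD htD hDV hDc using hloc
      obtain ⟨T, hT⟩ := hV.isCompact.elim_finite_subcover (fun t : {x : S // x ∈ V} => (D t : Set S))
        (fun t => (D t).2) (fun x hx => Set.mem_iUnion.mpr ⟨⟨x, hx⟩, htD _⟩)
      rw [Subtype.isCompact_iff]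
      have : Subtype.val '' A n = ⋃ t ∈ T, ((D t : Set S) ∩ {t | d t ≤ (n : WithBot ℕ∞)}) := by
        ext x
        constructor
        · rintro ⟨x, hx, rfl⟩
          obtain ⟨t, ht, hxt⟩ := Set.mem_iUnion₂.mp (hT x.2)
          exact Set.mem_iUnion₂.mpr ⟨t, ht, hxt, hx⟩
        · intro hx
          obtain ⟨t, -, hxt, hxn⟩ := Set.mem_iUnion₂.mp hx
          exact ⟨⟨x, hDV t hxt⟩, hxn, rfl⟩
      rw [this]
      exact T.isCompact_biUnion fun t _ => hDc t
    refine ⟨?_, fun v => ?_⟩
    · obtain ⟨T, hT⟩ := isCompact_univ.elim_finite_subcover A hAo fun x _ => by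
        obtain ⟨m, hm⟩ := exists_nat S G x.1
        exact Set.mem_iUnion.mpr ⟨m, hm.le⟩
      refine ((Finset.range (T.sup id + 1)).image fun k : ℕ => ((k : ℕ∞) : WithBot ℕ∞)).finite_toSet.subset ?_
      rintro _ ⟨x, hx, rfl⟩
      obtain ⟨m, hm⟩ := exists_nat S G x
      obtain ⟨k, hk, hxk⟩ := Set.mem_iUnion₂.mp (hT (Set.mem_univ (⟨x, hx⟩ : {x : S // x ∈ V})))
      have h1 : m ≤ T.sup id := by
        have : (m : WithBot ℕ∞) ≤ (k : WithBot ℕ∞) := hm.ge.trans hxk
        have h2 : m ≤ k := by exact_mod_cast this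
        exact h2.trans (Finset.le_sup (f := id) hk)
      simp only [Finset.coe_image, Set.mem_image, Finset.mem_coe, Finset.mem_range]
      exact ⟨m, by omega, hm.symm⟩
    · have : IsAffine V.toScheme := hV
      have : QuasiSeparatedSpace {x : S // x ∈ V} := inferInstanceAs (QuasiSeparatedSpace V.toScheme)
      have hcons : ∀ n, Topology.IsConstructible (A n) := fun n =>
        ((QuasiSeparatedSpace.isRetrocompact_iff_isCompact (hAo n)).mpr (hAc n)).isConstructible (hAo n)
      by_cases hv : ∃ m : ℕ, v = (m : WithBot ℕ∞)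
      · obtain ⟨m, rfl⟩ := hv
        cases m with
        | zero =>
          convert hcons 0 using 1
          ext t
          obtain ⟨k, hk⟩ := exists_nat S G t.1
          show d t.1 = _ ↔ d t.1 ≤ _
          simp only [d, hk]
          norm_cast
          omega
        | succ m =>
          convert (hcons (m + 1)).sdiff (hcons m) using 1
          ext t
          obtain ⟨k, hk⟩ := exists_nat S G t.1
          show d t.1 = _ ↔ d t.1 ≤ _ ∧ ¬ d t.1 ≤ _
          simp only [d, hk]
          norm_cast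
          omega
      · convert Topology.IsConstructible.empty using 1
        refine Set.eq_empty_of_forall_notMem fun t ht => hv ?_
        obtain ⟨k, hk⟩ := exists_nat S G t.1
        exact ⟨k, ht.symm.trans hk⟩

end Groth.Agent.S5329
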