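import Groth.Statements.S5330
import Groth.Agent.S5329
import Groth.Agent.GrpSGA.Homog
import Groth.Agent.GrpSGA.NeutralCons
import Groth.Agent.SecDim.General
import Groth.Agent.SecDim.Open
import Groth.Agent.SecDim.DimConstr
import Groth.Agent.SecDim.Basic

set_option autoImplicit false
universe u
open CategoryTheory CategoryTheory.Limits MonoidalCategory CartesianMonoidalCategory MonObj GrpObj AlgebraicGeometry
open SGA3

namespace Groth.Agent.S5330

open Groth.Agent.GrpSGA Groth.Agent.GrpSGA.Fibre

variable {S : Scheme.{u}} (G : Over S) [GrpObj G] [LocallyOfFiniteType G.hom]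

lemma dim_at (s : S) (x : G.left) (hx : G.hom x = s) :
    topologicalKrullDim ↥(G.hom.base ⁻¹' {s}) = FlatMor.fibreDimAt G.hom x := by
  obtain ⟨x₀, hx₀⟩ := exists_mem_fib G hx
  have : LocallyOfFiniteType (fib G s).hom :=
    inferInstanceAs (LocallyOfFiniteType (pullback.snd G.hom (S.fromSpecResidueField s)))
  have h := (Groth.Agent.S5341.result (S.residueField s) (fib G s)).2 x₀
  rw [Groth.Agent.S3022.fibreDimAt_eq G.hom x s hx x₀ hx₀]
  refine Eq.trans ?_ h.symm
  exact (G.hom.fiberHomeo s).symm.isHomeomorph.topologicalKrullDim_eq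

omit [LocallyOfFiniteType G.hom] in
lemma component_eq (s : S) :
    connectedComponentIn (G.hom ⁻¹' {s}) (NeutralCons.unitSec G s) =
      fibι G s '' connectedComponent (GrpScheme.IdComponent.e₀ (fib G s)) := by
  rw [← neutralSet_inter]
  ext x
  constructor
  · intro hx
    have hxs : G.hom x = s := connectedComponentIn_subset (G.hom ⁻¹' {s}) _ hx
    exact ⟨(NeutralCons.connected_eq G hxs).mpr hx, hxs⟩
  · rintro ⟨hx, hxs⟩
    exact (NeutralCons.connected_eq G hxs).mp hx

omit [LocallyOfFiniteType G.hom] in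
lemma preimage_component_irreducible (s : S) (K : Type u) [Field K] [i : Algebra (IsLocalRing.ResidueField (S.presheaf.stalk s)) K] :
    IsIrreducible ((FBase.bcπ (G.hom.fiberToSpecResidueField s) K ≫ G.hom.fiberι s).base ⁻¹'
      connectedComponentIn (G.hom.base ⁻¹' {s}) (NeutralCons.unitSec G s)) := by
  let _ : Algebra (S.residueField s) K := i
  have : GeometricallyIrreducible ((GrpScheme.IdComponent.zι (fib G s)).left ≫ (fib G s).hom) := by
    rw [Over.w]; infer_instance
  have h := Homog.isIrreducible_preimage (X := fib G s) K (GrpScheme.IdComponent.zι (fib G s)).left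
  rw [GrpScheme.IdComponent.range_zι, ← GrpScheme.IdComponent.connectedComponent_eq] at h
  show IsIrreducible ((pullback.fst (fib G s).hom (FBase.BC.specMap (S.residueField s) K) ≫ fibι G s) ⁻¹'
      connectedComponentIn (G.hom ⁻¹' {s}) (NeutralCons.unitSec G s))
  rw [component_eq, Scheme.Hom.comp_base, TopCat.coe_comp, Set.preimage_comp,
    Set.preimage_image_eq _ (isEmbedding_fibι G s).injective]
  exact h

/-- Let G be an S-group scheme locally of finite presentation over S, s a point of S and G_s⁰ the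
connected component of the unit in the fibre G_s. The following are equivalent: (i) G → S is
universally open at every point of G_s⁰; (i bis) G → S is universally open at every point of W ∩
G_s⁰ for some open W of G containing the unit point of G_s; (ii) t ↦ dim G_t is constant on some
neighbourhood of s. (The published statement is for an S-scheme locally of finite presentation with
a section, equidimensional fibres and geometrically irreducible neutral components; this row takes
the case of a group scheme, where these hold. The published statement has a fourth equivalent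
condition, not stated here.) -/
theorem result (S : Scheme.{u}) (G : Over S) [GrpObj G]
    [LocallyOfFinitePresentation G.hom] (s : S) :
    ((∀ x ∈ (SGA3x.neutralSet G ∩ G.hom.base ⁻¹' {s}), EGA43.IsUnivOpenAt G.hom x) ↔
      ∃ W : G.left.Opens, (∀ p : ↥(𝟙_ (Over S)).left, (𝟙_ (Over S)).hom.base p = s → η[G].left.base p ∈ W) ∧
        ∀ x ∈ (SGA3x.neutralSet G ∩ G.hom.base ⁻¹' {s}), x ∈ W → EGA43.IsUnivOpenAt G.hom x) ∧
    ((∀ x ∈ (SGA3x.neutralSet G ∩ G.hom.base ⁻¹' {s}), EGA43.IsUnivOpenAt G.hom x) ↔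
      ∃ U : Set S, U ∈ nhds s ∧ ∀ t ∈ U, topologicalKrullDim ↥(G.hom.base ⁻¹' {t}) = topologicalKrullDim ↥(G.hom.base ⁻¹' {s})) := by
  let d : S → WithBot ℕ∞ := fun t => topologicalKrullDim ↥(G.hom.base ⁻¹' {t})
  let e := Groth.Agent.GrpSGA.NeutralCons.unitSec G
  have heq : ∀ x, x ∈ SGA3x.neutralSet G ∩ G.hom.base ⁻¹' {s} ↔
      x ∈ connectedComponentIn (G.hom.base ⁻¹' {s}) (e s) := fun x => by
    rw [component_eq G s, ← Groth.Agent.GrpSGA.Fibre.neutralSet_inter]
  have toI : (∃ U : Set S, U ∈ nhds s ∧ ∀ t ∈ U, d t = d s) →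
      ∀ x ∈ (SGA3x.neutralSet G ∩ G.hom.base ⁻¹' {s}), EGA43.IsUnivOpenAt G.hom x := by
    rintro ⟨U, hU, hd⟩ x hx
    refine Groth.Agent.SecDim.isUnivOpenAt_of_fibreDimAt_const G.hom e (Over.w η[G])
      (fun K _ _ => preimage_component_irreducible G s K) (fun z hz => ?_) x ((heq x).mp hx)
    rw [← dim_at G s _ (Groth.Agent.GrpSGA.NeutralCons.hom_unitSec G s),
      ← dim_at G z _ (Groth.Agent.GrpSGA.NeutralCons.hom_unitSec G z)]
    exact (hd z (mem_of_mem_nhds ((hz : z ⤳ s).mem_open isOpen_interior (mem_interior_iff_mem_nhds.mpr hU) |>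
      fun h => mem_interior_iff_mem_nhds.mp h))).ge
  have toII : (∃ W : G.left.Opens, (∀ p : ↥(𝟙_ (Over S)).left, (𝟙_ (Over S)).hom.base p = s → η[G].left.base p ∈ W) ∧
      ∀ x ∈ (SGA3x.neutralSet G ∩ G.hom.base ⁻¹' {s}), x ∈ W → EGA43.IsUnivOpenAt G.hom x) →
      ∃ U : Set S, U ∈ nhds s ∧ ∀ t ∈ U, d t = d s := by
    rintro ⟨W, hW, hopen⟩
    have hirr : IsIrreducible (connectedComponentIn (G.hom ⁻¹' {s}) (e s)) := by
      rw [component_eq G s, Groth.Agent.GrpScheme.IdComponent.connectedComponent_eq]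
      exact isIrreducible_irreducibleComponent.image _
        (Groth.Agent.GrpSGA.Fibre.fibι G s).continuous.continuousOn
    obtain ⟨c, hcs, hce, hcm, hC, -⟩ := Groth.Agent.SecDim.exists_generic G.hom
      (Groth.Agent.GrpSGA.NeutralCons.hom_unitSec G s) hirr
    have hcC : c ∈ connectedComponentIn (G.hom ⁻¹' {s}) (e s) := hC.ge ⟨subset_closure rfl, hcs⟩
    have hcW : c ∈ W := hce.mem_open W.2 (hW s rfl)
    have hξ := hopen c ((heq c).mpr hcC) hcW
    have hgen : ∀ z, z ⤳ s → d z = d s := by
      intro z hz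
      refine le_antisymm ?_ ?_
      · obtain ⟨m, hm⟩ := Groth.Agent.S5329.exists_nat S G s
        have hopen' : IsOpen {t : S | d t ≤ (m : WithBot ℕ∞)} := by
          have h := (Groth.Agent.S5329.result S G).1
          by_contra hno
          apply hno
          rw [isOpen_iff_mem_nhds]
          intro t ht
          obtain ⟨k, hk⟩ := Groth.Agent.S5329.exists_nat S G t
          have hkm : k ≤ m := by
            have ht' : d t ≤ (m : WithBot ℕ∞) := ht
            simp only [d, hk] at ht'
            exact_mod_cast ht'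
          refine Filter.mem_of_superset (h t ((m + 1 : ℕ) : WithBot ℕ∞) ?_) fun t' ht' => ?_
          · show topologicalKrullDim _ < _
            rw [hk]
            exact_mod_cast Nat.lt_succ_of_le hkm
          · obtain ⟨k', hk'⟩ := Groth.Agent.S5329.exists_nat S G t'
            have h' : topologicalKrullDim ↥(G.hom.base ⁻¹' {t'}) < ((m + 1 : ℕ) : WithBot ℕ∞) := ht'
            show topologicalKrullDim ↥(G.hom.base ⁻¹' {t'}) ≤ _
            rw [hk'] at h' ⊢
            have h'' : k' < m + 1 := by exact_mod_cast h'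
            exact_mod_cast Nat.le_of_lt_succ h''
        exact (le_of_le_of_eq (hz.mem_open hopen' (show s ∈ {t : S | d t ≤ (m : WithBot ℕ∞)} from hm.le)) hm.symm)
      · obtain ⟨w, hw, hdw⟩ := Groth.Agent.SecDim.exists_gen_dim_of_univOpen G.hom hξ
          (fun z hz => hcm z (hz.trans hcs)) (show z ⤳ G.hom c from hcs.symm ▸ hz)
        rw [← dim_at G s c hcs, ← dim_at G z w hw] at hdw
        exact hdw
    obtain ⟨V, hsV, -, hcons⟩ := (Groth.Agent.S5329.result S G).2 ‹_› s
    have hnhds := Groth.Agent.SecDim.mem_nhds_of_generizations (X := V.toScheme)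
      (E := {t | topologicalKrullDim ↥(G.hom.base ⁻¹' {(t.1 : S)}) = d s})
      (x := ⟨s, hsV⟩) (hcons (d s)).isLocallyConstructible (fun t ht => hgen t.1 (ht.map V.ι.continuous))
    refine ⟨_, V.ι.isOpenMap.image_mem_nhds hnhds, ?_⟩
    rintro _ ⟨t, ht, rfl⟩
    exact ht
  refine ⟨⟨fun h => ⟨⊤, fun _ _ => trivial, fun x hx _ => h x hx⟩, fun h => toI (toII h)⟩,
    ⟨fun h => toII ⟨⊤, fun _ _ => trivial, fun x hx _ => h x hx⟩, toI⟩⟩

end Groth.Agent.S5330
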