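import Groth.Statements.S11244
import Groth.Agent.HomDim.Basic
import Groth.Agent.GrpScheme.SubgroupObj
import Groth.Agent.S5330
import Groth.Agent.AlgSpD.FibreDimBC
import Groth.Agent.FlatMisc.FibreDimScheme

set_option autoImplicit false
universe u
open CategoryTheory MonoidalCategory CartesianMonoidalCategory MonObj GrpObj AlgebraicGeometry
open scoped TensorProduct
open AGF

namespace Groth.Agent.S11244

open Groth.Agent Groth.Agent.GrpScheme CategoryTheory.Limits

variable {k : Type u} [Field k] {G X : Over (Spec (CommRingCat.of k))} [GrpObj G]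

/-- The dimension of a stabiliser is the fibre dimension of the orbit map at the unit. -/
lemma topDim_stab [LocallyOfFiniteType G.hom] [LocallyOfFiniteType X.hom] (a : AlgGrp.Action G X)
    (o : 𝟙_ (Over (Spec (CommRingCat.of k))) ⟶ X) :
    (∃ d : ℕ, topologicalKrullDim ↥(pullback (a.orbitMap o).left o.left) = d) ∧
      FlatMor.fibreDimAt (a.orbitMap o).left (η[G].left (IsLocalRing.closedPoint k)) =
        topologicalKrullDim ↥(pullback (a.orbitMap o).left o.left) := by
  let f := a.orbitMap o
  let P := pullback f o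
  let iP : P ⟶ G := pullback.fst f o
  have : Mono o := (IsSplitMono.mk' ⟨toUnit X, toUnit_unique _ _⟩).mono
  have : Mono iP := inferInstanceAs (Mono (pullback.fst f o))
  have hf : ∀ {T : Over (Spec (CommRingCat.of k))} (g : T ⟶ G),
      g ≫ f = toUnit T ≫ o → ∃ h : T ⟶ P, h ≫ iP = g :=
    fun g hg => ⟨pullback.lift g (toUnit _) hg, pullback.lift_fst _ _ _⟩
  have hP : ∀ {T : Over (Spec (CommRingCat.of k))} (h : T ⟶ P),
      Basic.smul a (h ≫ iP) (toUnit T ≫ o) = toUnit T ≫ o := fun h => by
    rw [← S7984.orbit_apply, Category.assoc, pullback.condition, ← Category.assoc]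
    exact congrArg (· ≫ o) (toUnit_unique _ _)
  obtain ⟨_, _⟩ := SubgroupObj.exists_grpObj iP
    (hf ((iP ⊗ₘ iP) ≫ μ[G]) (by
      rw [MonObj.mul_eq_mul, MonObj.comp_mul, tensorHom_fst, tensorHom_snd, S7984.orbit_apply,
        Basic.mul_smul', hP, hP]))
    (hf η[G] (by
      rw [S7984.orbit_apply, show η[G] = (1 : 𝟙_ _ ⟶ G) from MonObj.one_eq_one _, Basic.one_smul']))
    (hf (iP ≫ ι[G]) (by
      have h := hP (𝟙 P)
      rw [Category.id_comp] at h
      rw [GrpObj.inv_eq_inv, GrpObj.comp_inv, Category.comp_id, S7984.orbit_apply]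
      conv_lhs => rw [← h]
      exact Basic.inv_smul_smul' a iP _))
  have hsq : IsPullback iP.left (pullback.snd f o).left f.left o.left :=
    (IsPullback.of_hasPullback f o).map (Over.forget _)
  have hsnd : (pullback.snd f o).left = P.hom :=
    (Category.comp_id _).symm.trans (Over.w (pullback.snd f o))
  rw [hsnd] at hsq
  have : LocallyOfFiniteType (o.left ≫ X.hom) := by
    rw [Over.w o]; exact inferInstanceAs (LocallyOfFiniteType (𝟙 _))
  have : LocallyOfFiniteType o.left := locallyOfFiniteType_of_comp o.left X.hom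
  have : LocallyOfFiniteType iP.left := MorphismProperty.of_isPullback hsq.flip ‹LocallyOfFiniteType o.left›
  have : LocallyOfFiniteType P.hom := by rw [← Over.w iP]; infer_instance
  have : LocallyOfFiniteType (f.left ≫ X.hom) := by rw [Over.w]; infer_instance
  have : LocallyOfFiniteType f.left := locallyOfFiniteType_of_comp f.left X.hom
  have hs : P.hom (η[P].left (IsLocalRing.closedPoint k)) = IsLocalRing.closedPoint k :=
    Subsingleton.elim (α := PrimeSpectrum k) _ _
  have huniv : P.hom.base ⁻¹' {IsLocalRing.closedPoint k} = Set.univ :=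
    Set.eq_univ_of_forall fun _ => Subsingleton.elim (α := PrimeSpectrum k) _ _
  have e1 : topologicalKrullDim ↥(pullback f.left o.left) = topologicalKrullDim P.left :=
    IsHomeomorph.topologicalKrullDim_eq _ (hsq.isoPullback.hom.homeomorph.symm.isHomeomorph)
  have e2 : topologicalKrullDim ↥(P.hom.base ⁻¹' {IsLocalRing.closedPoint k}) = topologicalKrullDim P.left :=
    IsHomeomorph.topologicalKrullDim_eq _ ((Homeomorph.setCongr huniv).trans
      (Homeomorph.Set.univ P.left)).isHomeomorph
  obtain ⟨d, hd⟩ := S5329.exists_nat _ P (IsLocalRing.closedPoint k)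
  refine ⟨⟨d, e1.trans (e2.symm.trans hd)⟩, ?_⟩
  refine Eq.trans ?_ ((S5330.dim_at P _ _ hs).symm.trans (e2.trans e1.symm))
  rw [AlgSpD.fibreDimAt_of_isPullback f.left hsq]
  congr 1
  rw [← Points.comp_apply, IsMonHom.one_hom]

/-- The closure of an orbit has the dimension of the orbit. -/
lemma topDim_closure [LocallyOfFiniteType G.hom] [QuasiCompact G.hom] [LocallyOfFiniteType X.hom]
    (a : AlgGrp.Action G X) (o : 𝟙_ (Over (Spec (CommRingCat.of k))) ⟶ X) (r : ℕ) :
    topologicalKrullDim ↥(closure (Set.range (a.orbitMap o).left)) ≤ r ↔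
      topologicalKrullDim ↥(Set.range (a.orbitMap o).left) ≤ r := by
  let : X.left.Over (Spec (CommRingCat.of k)) := ⟨X.hom⟩
  have : LocallyOfFiniteType (X.left ↘ Spec (CommRingCat.of k)) := ‹LocallyOfFiniteType X.hom›
  have hO := S7984.isLocallyClosed_orbit a o
  constructor
  · exact fun h => (Topology.IsInducing.topologicalKrullDim_le
      (Topology.IsEmbedding.inclusion (subset_closure (s := Set.range (a.orbitMap o).left))).isInducing).trans h
  · intro h
    refine OrbitDim.topDim_le k isClosed_closure.isLocallyClosed fun z hz => ?_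
    have := QuasiCompact.compactSpace_of_compactSpace G.hom
    have : IsLocallyNoetherian G.left := LocallyOfFiniteType.isLocallyNoetherian G.hom
    have : IsNoetherian G.left := { }
    have : QuasiCompact (a.orbitMap o).left := ⟨fun U _ _ => TopologicalSpace.NoetherianSpace.isCompact _⟩
    obtain ⟨q, hq⟩ := SchPoints.exists_specializes_of_mem_closure_range (a.orbitMap o).left hz
    have h1 := (VarDim.exists_ltSeries_of_le k (hq : z ≤ _)).1
    have h2 := (OrbitDim.le_topDim k hO (Set.mem_range_self q)).trans h
    have h3 : VarDim.dimPt k X.left ((a.orbitMap o).left q) ≤ r := by exact_mod_cast h2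
    omega

/-- Let k be an algebraically closed field, G a linear algebraic group over k (affine, smooth) acting on
an irreducible variety X over k (reduced, separated, of finite type). For a rational point x of X
let dim G·x be the dimension of the closure of its orbit. Then for every r the set of rational
points x with dim G·x ≤ r is closed: there is a closed subset Z of X whose rational points are
exactly those x. (The second assertion, that the points of maximal orbit dimension form a dense open
subset, follows.) -/
theorem result (k : Type u) [Field k] [IsAlgClosed k]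
    (G : Over (Spec (CommRingCat.of k))) [GrpObj G] [IsAffine G.left] [Smooth G.hom]
    (X : Over (Spec (CommRingCat.of k))) [IrreducibleSpace ↥X.left] [IsReduced X.left]
    [IsSeparated X.hom] [LocallyOfFiniteType X.hom] [QuasiCompact X.hom]
    (a : AlgGrp.Action G X) (r : ℕ) :
    ∃ Z : Set ↥X.left, IsClosed Z ∧
      ∀ x : 𝟙_ (Over (Spec (CommRingCat.of k))) ⟶ X,
        topologicalKrullDim ↥(closure (Set.range ⇑(a.orbitMap x).left.base)) ≤ (r : WithBot ℕ∞) ↔
          Set.range ⇑x.left.base ⊆ Z := by
  classical
  have : QuasiCompact G.hom := inferInstance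
  let Φ := (lift a.act (snd G X)).left
  let ψ := (lift (toUnit X ≫ η[G]) (𝟙 X)).left
  have : LocallyOfFiniteType (G ⊗ X).hom :=
    inferInstanceAs (LocallyOfFiniteType (pullback.fst G.hom X.hom ≫ G.hom))
  have : LocallyOfFiniteType (Φ ≫ (X ⊗ X).hom) := by rw [Over.w (lift a.act (snd G X))]; infer_instance
  have : LocallyOfFiniteType Φ := locallyOfFiniteType_of_comp Φ (X ⊗ X).hom
  have key : ∀ x : 𝟙_ (Over (Spec (CommRingCat.of k))) ⟶ X,
      FlatMor.fibreDimAt Φ (ψ (x.left (IsLocalRing.closedPoint k))) =
        topologicalKrullDim ↥(pullback (a.orbitMap x).left x.left) := fun x => by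
    have hsq : IsPullback (lift (𝟙 G) (toUnit G ≫ x)) (a.orbitMap x) (lift a.act (snd G X))
        (lift (𝟙 X) (toUnit X ≫ x)) := by
      refine IsPullback.of_isLimit' ⟨?_⟩ (PullbackCone.IsLimit.mk _ (fun c => c.fst ≫ fst G X)
        (fun c => ?_) (fun c => ?_) (fun c m h₁ h₂ => ?_))
      · simp [AlgGrp.Action.orbitMap, comp_lift]
      · have h := c.condition =≫ snd X X
        simp at h
        refine CartesianMonoidalCategory.hom_ext _ _ (by simp) ?_
        simp [h]
      · have h := c.condition =≫ fst X X
        have h' := c.condition =≫ snd X X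
        simp at h h'
        rw [AlgGrp.Action.orbitMap, ← Category.assoc, comp_lift, ← h]
        congr 1
        refine CartesianMonoidalCategory.hom_ext _ _ (by simp) ?_
        simp [h']
      · rw [← h₁]; simp
    have : LocallyOfFiniteType Φ := ‹_›
    have hsqL : IsPullback (lift (𝟙 G) (toUnit G ≫ x)).left (a.orbitMap x).left Φ
        (lift (𝟙 X) (toUnit X ≫ x)).left := hsq.map (Over.forget _)
    rw [← (topDim_stab a x).2, AlgSpD.fibreDimAt_of_isPullback Φ hsqL]
    congr 1
    show (lift (toUnit X ≫ η[G]) (𝟙 X)).left _ = (lift (𝟙 G) (toUnit G ≫ x)).left _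
    rw [← Points.comp_apply, ← Points.comp_apply]
    refine congrArg (fun q : 𝟙_ (Over (Spec (CommRingCat.of k))) ⟶ G ⊗ X => q.left (IsLocalRing.closedPoint k)) ?_
    refine CartesianMonoidalCategory.hom_ext _ _ ?_ ?_
    · simp
    · simp
  obtain ⟨dG, hdG⟩ : ∃ d : ℕ, topologicalKrullDim G.left = d := by
    obtain ⟨d, hd⟩ := S5329.exists_nat _ G (IsLocalRing.closedPoint k)
    refine ⟨d, Eq.trans ?_ hd⟩
    have huniv : G.hom.base ⁻¹' {IsLocalRing.closedPoint k} = Set.univ :=
      Set.eq_univ_of_forall fun _ => Subsingleton.elim (α := PrimeSpectrum k) _ _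
    exact ((IsHomeomorph.topologicalKrullDim_eq _ ((Homeomorph.setCongr huniv).trans
      (Homeomorph.Set.univ G.left)).isHomeomorph)).symm
  refine ⟨{p | r < dG → ¬ FlatMor.fibreDimAt Φ (ψ p) ≤ ((dG - r - 1 : ℕ) : WithBot ℕ∞)}, ?_, fun x => ?_⟩
  · by_cases h : r < dG
    · simp only [h, forall_const]
      exact ((FlatMisc.FibreDimScheme.isOpen_fibreDimAt_le Φ _).preimage ψ.continuous).isClosed_compl
    · simp [h]
  rw [show Set.range ⇑x.left.base = {x.left (IsLocalRing.closedPoint k)} from
    Set.Subset.antisymm (by rintro _ ⟨p, rfl⟩; exact congrArg x.left (Subsingleton.elim (α := PrimeSpectrum k) _ _))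
      (Set.singleton_subset_iff.2 ⟨_, rfl⟩), Set.singleton_subset_iff]
  show _ ↔ (r < dG → ¬ FlatMor.fibreDimAt Φ (ψ (x.left (IsLocalRing.closedPoint k))) ≤ _)
  rw [key x, topDim_closure a x r]
  obtain ⟨⟨dK, hdK⟩, -⟩ := topDim_stab a x
  have : CompactSpace G.left := QuasiCompact.compactSpace_of_compactSpace G.hom
  have : IsLocallyNoetherian G.left := LocallyOfFiniteType.isLocallyNoetherian G.hom
  have : IsNoetherian G.left := { }
  have : QuasiCompact (a.orbitMap x).left := ⟨fun U _ _ => TopologicalSpace.NoetherianSpace.isCompact _⟩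
  have hadd := HomDim.dim_eq_add a x (S7984.isLocallyClosed_orbit a x)
  rw [hdG, hdK] at hadd
  rw [hdK]
  generalize topologicalKrullDim ↥(Set.range (a.orbitMap x).left) = d at hadd ⊢
  induction d with
  | bot => simp at hadd
  | coe d =>
    induction d with
    | top =>
      exfalso
      rw [← WithBot.coe_natCast, ← WithBot.coe_natCast, ← WithBot.coe_add, top_add] at hadd
      exact ENat.natCast_ne_top dG (WithBot.coe_injective hadd)
    | coe n =>
      have h1 : dG = n + dK := by exact_mod_cast hadd
      constructor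
      · intro h hr hle
        have h2 : n ≤ r := by exact_mod_cast h
        have h3 : dK ≤ dG - r - 1 := by exact_mod_cast hle
        omega
      · intro h
        by_cases hn : n ≤ r
        · exact_mod_cast hn
        · exact absurd (by exact_mod_cast (by omega : dK ≤ dG - r - 1)) (h (by omega))

end Groth.Agent.S11244
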