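import Groth.Statements.S11246
import Groth.Agent.AGFObs.UnipChar
import Groth.Agent.AGFObs.Gm
import Groth.Agent.AGFObs.Mods
import Groth.Agent.AGFObs.Solvable
import Groth.Agent.AbSch51.TorusToProper

set_option autoImplicit false
universe u
open CategoryTheory MonoidalCategory CartesianMonoidalCategory MonObj GrpObj AlgebraicGeometry
open scoped TensorProduct
open AGF

namespace Groth.Agent.S11246

open Groth.Agent.AGFPoints.Basic Groth.Agent.AGFLang Groth.Agent.AGFObs
open Groth.Agent.Borel50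

theorem chiVal_inv {k : Type u} [Field k] {H : Over (Spec (CommRingCat.of k))} {B : Type u} [CommRing B] [Algebra k B]
    (χ : H ⟶ Red.Gm (Spec (CommRingCat.of k))) (h : VecGrp.pt k B ⟶ H) :
    VecGrp.chiVal χ⁻¹ h * VecGrp.chiVal χ h = 1 := by
  unfold VecGrp.chiVal
  rw [← map_mul, ← GmPts.gmFn_mul, ← MonObj.comp_mul, inv_mul_cancel, MonObj.comp_one, ← GmPts.val_unitOfPt,
    GmPts.unitOfPt_one, Units.val_one, map_one]

theorem chiVal_mul {k : Type u} [Field k] {H : Over (Spec (CommRingCat.of k))} [GrpObj H] {B : Type u} [CommRing B]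
    [Algebra k B] (χ : H ⟶ Red.Gm (Spec (CommRingCat.of k))) [IsMonHom χ] (g h : VecGrp.pt k B ⟶ H) :
    VecGrp.chiVal χ (g * h) = VecGrp.chiVal χ g * VecGrp.chiVal χ h := by
  unfold VecGrp.chiVal
  rw [MonObj.mul_comp g h χ, GmPts.gmFn_mul, map_mul]

set_option backward.isDefEq.respectTransparency false
set_option backward.isDefEq.respectTransparency.types false
set_option maxHeartbeats 800000

theorem val_restrict {k : Type u} [Field k] {X Y : Over (Spec (CommRingCat.of k))} [IsAffine X.left]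
    (i : X ⟶ Y) (f : Coord Y) {B : Type u} [CommRing B] [Algebra k B] (t : VecGrp.pt k B ⟶ X) :
    valHom t (valHom (uPt X ≫ i) f) = valHom (t ≫ i) f := by
  conv_rhs => rw [eq_ptMap_uPt t, Category.assoc]
  rw [valHom_ptMap]
  rfl

theorem mem_idComp_all {k : Type u} [Field k] [IsAlgClosed k] {H : Over (Spec (CommRingCat.of k))} [GrpObj H]
    [IsAffine H.left] [Smooth H.hom] [ConnectedSpace H.left] (z : Pts H) : z ∈ idComp H := by
  have hconn : PreconnectedSpace (PrimeSpectrum Γ(H.left, ⊤)) :=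
    H.left.isoSpec.hom.surjective.denseRange.preconnectedSpace H.left.isoSpec.hom.continuous
  rw [mem_idComp]
  rcases preconnectedSpace_iff_clopen.1 hconn _
    (PrimeSpectrum.isClopen_iff.2 ⟨idOne H, idOne_idem, rfl⟩) with h | h
  · exfalso
    have h1 : (⟨RingHom.ker (valHom (1 : Pts H)), RingHom.ker_isPrime _⟩ : PrimeSpectrum (Coord H)) ∈
        PrimeSpectrum.basicOpen (idOne H) := by
      show idOne H ∉ RingHom.ker (valHom (1 : Pts H))
      rw [RingHom.mem_ker, idOne_one]
      exact one_ne_zero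
    exact Set.eq_empty_iff_forall_notMem.1 h _ h1
  · have h1 : (⟨RingHom.ker (valHom z), RingHom.ker_isPrime _⟩ : PrimeSpectrum (Coord H)) ∈
        (PrimeSpectrum.basicOpen (idOne H) : Set (PrimeSpectrum (Coord H))) := h ▸ trivial
    rcases IsIdempotentElem.iff_eq_zero_or_one.1 (idOne_idem.map (valHom z)) with e | e
    · exact absurd e h1
    · exact e

theorem isIso_geomPt {k : Type u} [Field k] [IsAlgClosed k] (s : Spec (CommRingCat.of k)) : IsIso (Red.geomPt s) := by
  let κ := (Spec (CommRingCat.of k)).residueField s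
  have hci : IsClosedImmersion ((Spec (CommRingCat.of k)).fromSpecResidueField s) :=
    IsClosedImmersion.of_isPreimmersion _ (by
      rw [Scheme.range_fromSpecResidueField]
      convert isClosed_univ
      exact Set.eq_univ_of_forall fun y => Subsingleton.elim (α := PrimeSpectrum k) y s)
  obtain ⟨ψ, hψ⟩ : ∃ ψ : CommRingCat.of k ⟶ κ, Spec.map ψ = (Spec (CommRingCat.of k)).fromSpecResidueField s :=
    ⟨Spec.preimage _, Spec.map_preimage _⟩
  have hψb : Function.Bijective ψ.hom := ⟨ψ.hom.injective,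
    by
      have : IsClosedImmersion (Spec.map ψ) := hψ ▸ hci
      have h2 := (IsClosedImmersion.isAffine_surjective_of_isAffine (Spec.map ψ)).2
      intro y
      obtain ⟨x, hx⟩ := h2 ((Scheme.ΓSpecIso κ).inv y)
      refine ⟨(Scheme.ΓSpecIso _).hom x, ?_⟩
      have e := congr($(Scheme.ΓSpecIso_naturality ψ) x)
      simp only [CommRingCat.hom_comp, RingHom.comp_apply] at e
      rw [← e, hx]
      simp⟩
  have : IsAlgClosed κ := IsAlgClosed.of_ringEquiv _ _ (RingEquiv.ofBijective ψ.hom hψb)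
  have ha : Function.Bijective (algebraMap κ (AlgebraicClosure κ)) := IsAlgClosed.algebraMap_bijective_of_isIntegral
  have h1 : IsIso (CommRingCat.ofHom (algebraMap κ (AlgebraicClosure κ))) :=
    (ConcreteCategory.isIso_iff_bijective _).2 ha
  have h2 : IsIso ψ := (ConcreteCategory.isIso_iff_bijective _).2 hψb
  show IsIso (_ ≫ (Spec (CommRingCat.of k)).fromSpecResidueField s)
  rw [← hψ]
  infer_instance

theorem finite_orbit {k : Type u} [Field k] {H : Over (Spec (CommRingCat.of k))} [GrpObj H] [IsAffine H.left]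
    {A : Type u} [AddCommGroup A] [Module k A] (ρ : VecGrp.GMod H A) (b : A) :
    FiniteDimensional k (Submodule.span k (Set.range fun g : Pts H => act ρ g b)) := by
  classical
  obtain ⟨S, hS⟩ := TensorProduct.exists_finset (ρ.ρ (Coord H) (uPt H) ((1 : Coord H) ⊗ₜ[k] b))
  let F : Submodule k A := Submodule.span k (S.image Prod.snd : Set A)
  have : Module.Finite k F := Module.Finite.span_of_finite k (Finset.finite_toSet _)
  refine Module.Finite.of_injective _ (Submodule.inclusion_injective (show _ ≤ F from Submodule.span_le.2 ?_))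
  rintro _ ⟨g, rfl⟩
  have e : act ρ g b = TensorProduct.lid k A ((valHom g).toLinearMap.rTensor A
      (ρ.ρ (Coord H) (uPt H) ((1 : Coord H) ⊗ₜ[k] b))) := by rw [← ρ_eq]; rfl
  show act ρ g b ∈ F
  rw [e, hS, map_sum, map_sum]
  refine Submodule.sum_mem _ fun p hp => ?_
  rw [LinearMap.rTensor_tmul, TensorProduct.lid_tmul]
  exact Submodule.smul_mem _ _ (Submodule.subset_span (Finset.mem_image_of_mem Prod.snd hp))

/-- Let k be an algebraically closed field and H a connected solvable linear algebraic group over k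
(affine, smooth, connected, solvable) with maximal torus T and unipotent radical U (so H = T·U),
acting rationally by algebra automorphisms on a commutative k-algebra A which is an integral domain.
Let χ be a character of H and let a₀, b₀ ∈ A, b₀ ≠ 0, be such that H acts on the fraction a₀/b₀
through χ: (h·a₀)·b₀ = χ(h)·a₀·(h·b₀) for every point h of H. Then there are U-invariant elements a,
b ∈ A with b ≠ 0 and a·b₀ = b·a₀ (so a₀/b₀ = a/b), and a character θ of T such that b is a
T-semi-invariant of weight θ and a is a T-semi-invariant of weight θ + χ|_T. -/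
theorem result (k : Type u) [Field k] [IsAlgClosed k]
    (H : Over (Spec (CommRingCat.of k))) [GrpObj H] [IsAffine H.left] [Smooth H.hom] [ConnectedSpace H.left]
    (hsolv : Red.IsSolvableGrp H)
    (T : Over (Spec (CommRingCat.of k))) [GrpObj T] (iT : T ⟶ H) [IsMonHom iT] (hT : AGF.IsMaxTorus iT)
    (U : Over (Spec (CommRingCat.of k))) [GrpObj U] (uH : U ⟶ H) (hU : Par.IsUnipotentRadical uH)
    (χ : H ⟶ Red.Gm (Spec (CommRingCat.of k))) [IsMonHom χ]
    (A : Type u) [CommRing A] [IsDomain A] [Algebra k A] (ρ : VecGrp.GMod H A) (hρ : ρ.IsMult)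
    (a₀ b₀ : A) (hb₀ : b₀ ≠ 0)
    (hχ : ∀ (B : Type u) [CommRing B] [Algebra k B] (h : VecGrp.pt k B ⟶ H),
      ρ.ρ B h ((1 : B) ⊗ₜ[k] a₀) * ((1 : B) ⊗ₜ[k] b₀) =
        VecGrp.chiVal χ h • (((1 : B) ⊗ₜ[k] a₀) * ρ.ρ B h ((1 : B) ⊗ₜ[k] b₀))) :
    ∃ a b : A, a ∈ ρ.fixedUnder uH ∧ b ∈ ρ.fixedUnder uH ∧ b ≠ 0 ∧ a * b₀ = b * a₀ ∧
      ∃ θ : T ⟶ Red.Gm (Spec (CommRingCat.of k)), IsMonHom θ ∧
        (∀ (B : Type u) [CommRing B] [Algebra k B] (t : VecGrp.pt k B ⟶ T),
          ρ.ρ B (t ≫ iT) ((1 : B) ⊗ₜ[k] b) = VecGrp.chiVal θ t • ((1 : B) ⊗ₜ[k] b)) ∧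
        (∀ (B : Type u) [CommRing B] [Algebra k B] (t : VecGrp.pt k B ⟶ T),
          ρ.ρ B (t ≫ iT) ((1 : B) ⊗ₜ[k] a) =
            (VecGrp.chiVal θ t * VecGrp.chiVal χ (t ≫ iT)) • ((1 : B) ⊗ₜ[k] a)) := by
  classical
  obtain ⟨hum, huc, -, hUs, -, hUgeo, -⟩ := hU
  have := hum
  have := huc
  have := hUs
  have : IsAffine U.left := isAffine_of_isAffineHom uH.left
  obtain ⟨s₀⟩ : Nonempty ↥(Spec (CommRingCat.of k)) := inferInstanceAs (Nonempty (PrimeSpectrum k))
  obtain ⟨hUc, hUn⟩ := hUgeo s₀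
  have := isIso_geomPt (k := k) s₀
  have hUnS : Red.HasNoSubtorus k U := fun S' _ j _ _ hS' => by
    have := DiagRig.isMonHom_bcMap (Red.geomPt s₀) j
    have h := hUn (Red.bc (Red.geomPt s₀) S') ((Over.pullback (Red.geomPt s₀)).map j)
      (AbSch51.TorusToProper.isTorus_bc (Red.geomPt s₀) hS')
    have : IsIso (Limits.pullback.snd S'.hom (Red.geomPt s₀)) := h
    have h2 : IsIso (Limits.pullback.fst S'.hom (Red.geomPt s₀) ≫ S'.hom) := by
      rw [Limits.pullback.condition]
      infer_instance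
    exact IsIso.of_isIso_comp_left (Limits.pullback.fst S'.hom (Red.geomPt s₀)) S'.hom
  have : ConnectedSpace ↥U.left := by
    have : ConnectedSpace ↥(Limits.pullback U.hom (Red.geomPt s₀)) := hUc
    have hsurj := (Limits.pullback.fst U.hom (Red.geomPt s₀)).surjective
    exact hsurj.connectedSpace (Limits.pullback.fst U.hom (Red.geomPt s₀)).continuous
  obtain ⟨hTm, -, hTt, -⟩ := hT
  have := hTm
  obtain ⟨hTa, -, -, hTs, -, -⟩ := Lin.TorusSch.torus_facts hTt
  have := hTa
  have := hTs
  -- the action of points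
  have hmul : ∀ (g : Pts H) (x y : A), act ρ g (x * y) = act ρ g x * act ρ g y := fun g x y => by
    have h := (hρ k g).1 ((1 : k) ⊗ₜ[k] x) ((1 : k) ⊗ₜ[k] y)
    rw [Algebra.TensorProduct.tmul_mul_tmul, _root_.mul_one, ρ_one_tmul, ρ_one_tmul, ρ_one_tmul,
      Algebra.TensorProduct.tmul_mul_tmul, _root_.mul_one] at h
    simpa using congrArg (TensorProduct.lid k A) h
  have hinj : ∀ (g : Pts H) (x : A), x ≠ 0 → act ρ g x ≠ 0 := fun g x hx h0 => hx (by
    rw [← act_one ρ x, ← inv_mul_cancel g, act_mul, h0, map_zero])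
  let fχ : Coord H := chiFn χ
  have hrel : ∀ g : Pts H, act ρ g a₀ * b₀ = valHom g fχ • (a₀ * act ρ g b₀) := fun g => by
    have h := hχ k g
    rw [ρ_one_tmul, ρ_one_tmul, Algebra.TensorProduct.tmul_mul_tmul, Algebra.TensorProduct.tmul_mul_tmul,
      _root_.mul_one, chiVal_eq] at h
    simpa [-valHom_apply] using congrArg (TensorProduct.lid k A) h
  have hfχ : ∀ g : Pts H, valHom g fχ ≠ 0 := fun g h0 => by
    have := chiVal_inv χ g
    rw [chiVal_eq χ g, show valHom g (chiFn χ) = 0 from h0, mul_zero] at this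
    exact zero_ne_one this
  have hχmul : ∀ g h : Pts H, valHom (g * h) fχ = valHom g fχ * valHom h fχ := fun g h => chiVal_mul χ g h
  have hstep : ∀ (g : Pts H) (a b : A), a * b₀ = b * a₀ →
      act ρ g a * b₀ = valHom g fχ • (act ρ g b * a₀) := fun g a b hab => by
    refine mul_right_cancel₀ (hinj g b₀ hb₀) ?_
    have h := congrArg (act ρ g) hab
    rw [hmul, hmul] at h
    calc act ρ g a * b₀ * act ρ g b₀ = (act ρ g a * act ρ g b₀) * b₀ := mul_right_comm _ _ _
      _ = act ρ g b * (act ρ g a₀ * b₀) := by rw [h, _root_.mul_assoc]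
      _ = _ := by rw [hrel, mul_smul_comm, smul_mul_assoc, _root_.mul_assoc]
  -- the stable finite dimensional space
  let W : Submodule k A := Submodule.span k (Set.range fun g : Pts H => act ρ g b₀)
  have : FiniteDimensional k W := finite_orbit ρ b₀
  have hb₀W : b₀ ∈ W := Submodule.subset_span ⟨1, act_one ρ b₀⟩
  have : Nontrivial W := nontrivial_of_ne (⟨b₀, hb₀W⟩ : W) 0 fun h => hb₀ (congrArg Subtype.val h)
  have hI : ∀ b ∈ W, ∃ a : A, a * b₀ = b * a₀ := by
    intro b hb
    induction hb using Submodule.span_induction with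
    | mem x hx =>
      obtain ⟨g, rfl⟩ := hx
      exact ⟨(valHom g fχ)⁻¹ • act ρ g a₀, by
        rw [smul_mul_assoc, hrel, inv_smul_smul₀ (hfχ g), mul_comm a₀]⟩
    | zero => exact ⟨0, by rw [zero_mul, zero_mul]⟩
    | add x y _ _ hx hy =>
      obtain ⟨p, hp⟩ := hx
      obtain ⟨q, hq⟩ := hy
      exact ⟨p + q, by rw [add_mul, add_mul, hp, hq]⟩
    | smul c x _ hx =>
      obtain ⟨p, hp⟩ := hx
      exact ⟨c • p, by rw [smul_mul_assoc, smul_mul_assoc, hp]⟩
  have hst : ∀ g : Pts H, ∀ b ∈ W, act ρ g b ∈ W := fun g b hb => by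
    have h : W ≤ W.comap (act ρ g) := Submodule.span_le.2 (by
      rintro _ ⟨y, rfl⟩
      exact Submodule.subset_span ⟨g * y, act_mul ρ g y b₀⟩)
    exact h hb
  let σ : idComp H →* Module.End k W :=
    { toFun := fun g => (act ρ (g : Pts H)).restrict (hst _)
      map_one' := LinearMap.ext fun v => Subtype.ext (act_one ρ _)
      map_mul' := fun g h => LinearMap.ext fun v => Subtype.ext (act_mul ρ _ _ _) }
  letI := zar H
  have := preconnected_idComp (G := H)
  obtain ⟨n, hn⟩ := hsolv
  have : Mono uH := Over.mono_of_mono_left uH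
  have hnU : derivedSeries (Borel50.Pts.Pt U) n = ⊥ := by
    rw [eq_bot_iff]
    intro x hx
    let q : Borel50.Pts.Pt U →* Borel50.Pts.Pt H :=
      { toFun := fun y => y ≫ uH
        map_one' := MonObj.one_comp uH
        map_mul' := fun y z => MonObj.mul_comp y z uH }
    have h1 := map_derivedSeries_le_derivedSeries q n (Subgroup.mem_map_of_mem q hx)
    rw [hn, Subgroup.mem_bot] at h1
    exact Subgroup.mem_bot.2 ((cancel_mono uH).1 (h1.trans (MonObj.one_comp uH).symm))
  have hn' : derivedSeries (idComp H) n = ⊥ := by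
    rw [eq_bot_iff]
    intro x hx
    have h1 : (x : Pts H) ∈ derivedSeries (Pts H) n :=
      map_derivedSeries_le_derivedSeries (idComp H).subtype n (Subgroup.mem_map_of_mem _ hx)
    rw [hn, Subgroup.mem_bot] at h1
    exact Subgroup.mem_bot.2 (Subtype.ext h1)
  have hadm : LieKolchin.Adm σ := fun v φ c => by
    obtain ⟨φ', hφ'⟩ := φ.exists_extend
    have : {x : idComp H | φ (σ x v) = c} = Subtype.val ⁻¹' {x : Pts H | valHom x (coef ρ φ' (v : A)) = c} := by
      ext x
      simp only [Set.mem_setOf_eq, Set.mem_preimage, val_coef, ← hφ']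
      rfl
    rw [this]
    exact (isClosed_level _ _).preimage continuous_subtype_val
  obtain ⟨v, hv, hev⟩ := LieKolchin.exists_common_eigen n (idComp H) ((goodTop (G := H)).subgroup _) hn' W σ hadm
  set b : A := (v : A) with hb
  have hb0 : b ≠ 0 := fun h => hv (Subtype.ext h)
  obtain ⟨φ, hφ⟩ : ∃ φ : Module.Dual k A, φ b = 1 := by
    obtain ⟨φ, hφ⟩ : ∃ φ : Module.Dual k A, φ b ≠ 0 := by
      by_contra hno
      simp only [not_exists, not_not] at hno
      exact hb0 ((Module.forall_dual_apply_eq_zero_iff k b).1 hno)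
    exact ⟨(φ b)⁻¹ • φ, inv_mul_cancel₀ hφ⟩
  let f : Coord H := coef ρ φ b
  have hf : ∀ g : Pts H, act ρ g b = valHom g f • b := fun g => by
    obtain ⟨c, hc⟩ := Submodule.mem_span_singleton.1 (hev ⟨g, mem_idComp_all g⟩)
    have hc' : c • b = act ρ g b := congrArg Subtype.val hc
    rw [val_coef, ← hc', map_smul, hφ, smul_eq_mul, _root_.mul_one]
  have hfne : ∀ g : Pts H, valHom g f ≠ 0 := fun g h0 => hinj g b hb0 (by rw [hf g, h0, zero_smul])
  have hfmul : ∀ g h : Pts H, valHom (g * h) f = valHom g f * valHom h f := fun g h => by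
    refine smul_left_injective k hb0 ?_
    show valHom (g * h) f • b = (valHom g f * valHom h f) • b
    rw [← hf, act_mul, hf h, map_smul, hf g, smul_smul, mul_comm]
  obtain ⟨a, ha⟩ := hI b v.2
  have hga : ∀ g : Pts H, act ρ g a = (valHom g f * valHom g fχ) • a := fun g => by
    refine mul_right_cancel₀ hb₀ ?_
    rw [hstep g a b ha, hf, smul_mul_assoc, smul_smul, ← ha, smul_mul_assoc, mul_comm (valHom g fχ)]
  -- trivial on the unipotent radical
  have hU1 : ∀ (e : Coord H), (∀ g : Pts H, valHom g e ≠ 0) →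
      (∀ g h : Pts H, valHom (g * h) e = valHom g e * valHom h e) → ∀ z : Pts U, valHom (z ≫ uH) e = 1 := by
    intro e hne he z
    have hone : valHom (1 : Pts H) e = 1 := by
      have := he 1 1
      rw [_root_.one_mul] at this
      exact mul_left_cancel₀ (hne 1) (this.symm.trans (_root_.mul_one _).symm)
    rw [← val_restrict uH e z]
    refine AGFObs.UnipChar.eq_one_of_mul hUnS hnU _ ?_ (fun z w => ?_) z
    · rw [val_restrict, MonObj.one_comp, hone]
    · rw [val_restrict, val_restrict, val_restrict, MonObj.mul_comp, he]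
  have hfix : ∀ x : A, (∀ z : Pts U, act ρ (z ≫ uH) x = x) → x ∈ ρ.fixedUnder uH := fun x h B _ _ t => by
    rw [ρ_smul_of_pts ρ uH x 1 (fun z => by rw [map_one, one_smul, h z]) B t, map_one, one_smul]
  obtain ⟨θ, hθ, hθf⟩ := exists_char (valHom (uPt T ≫ iT) f)
    (fun z => by rw [val_restrict]; exact hfne _)
    (fun z w => by rw [val_restrict, val_restrict, val_restrict, MonObj.mul_comp, hfmul])
  refine ⟨a, b, hfix a fun z => ?_, hfix b fun z => ?_,
    hb0, ha, θ, hθ, fun B _ _ t => ?_, fun B _ _ t => ?_⟩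
  · rw [hga, hU1 f hfne hfmul, hU1 fχ hfχ hχmul, _root_.mul_one, one_smul]
  · rw [hf, hU1 f hfne hfmul, one_smul]
  · rw [chiVal_eq θ t, hθf]
    exact ρ_smul_of_pts ρ iT b _ (fun z => by rw [val_restrict]; exact hf _) B t
  · rw [chiVal_eq θ t, hθf, chiVal_eq χ (t ≫ iT), ← val_restrict iT (chiFn χ) t, ← map_mul]
    exact ρ_smul_of_pts ρ iT a _ (fun z => by rw [map_mul, val_restrict, val_restrict]; exact hga _) B t

end Groth.Agent.S11246
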