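import Groth.Statements.S11249
import Groth.Agent.W4bk4.Plucker
-- import your own Groth.Agent.* helpers here

set_option autoImplicit false
universe u
open W4bk4grassmannian

namespace Groth.Agent.S11249

open W4bk4grassmannian in
/-- Injectivity of the Plücker map, in matrix form: let K be a field, A and A' two n × d matrices over K
with linearly independent columns, and suppose there is a nonzero scalar c with det A_θ = c · det
A'_θ for every strictly increasing d-tuple θ of row indices (A_θ the d × d submatrix on the rows θ).
Then the columns of A and of A' span the same subspace of K^n. (The published statement is over an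
algebraically closed field; this row allows any field K.) -/
theorem result (K : Type u) [Field K] (d n : ℕ)
    (A A' : Matrix (Fin n) (Fin d) K) (hA : LinearIndependent K A.transpose)
    (hA' : LinearIndependent K A'.transpose) (c : K) (hc : c ≠ 0)
    (h : ∀ θ : Idx d n, (A.submatrix θ.1 id).det = c * (A'.submatrix θ.1 id).det) :
    Submodule.span K (Set.range A.transpose) = Submodule.span K (Set.range A'.transpose) := by
  classical
  obtain ⟨θ, hθ⟩ := (Groth.Agent.W4bk4.Plucker.linearIndependent_cols_iff_exists_minor A).1 hA
  have hθ' : (A'.submatrix θ.1 id).det ≠ 0 := fun h0 => hθ (by rw [h θ, h0, mul_zero])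
  have hall := Groth.Agent.W4bk4.Plucker.det_submatrix_proportional A A' c h
  have key : ∀ i, (A.submatrix θ.1 id).transpose.cramer (A i) =
      c • (A'.submatrix θ.1 id).transpose.cramer (A' i) := by
    intro i
    funext j
    rw [Pi.smul_apply, Matrix.cramer_transpose_apply, Matrix.cramer_transpose_apply, smul_eq_mul]
    have hu : ∀ B : Matrix (Fin n) (Fin d) K, (B.submatrix θ.1 id).updateRow j (B i) =
        B.submatrix (Function.update θ.1 j i) id := by
      intro B; ext a b
      by_cases ha : a = j
      · subst ha; simp
      · simp [Matrix.updateRow_ne ha, Function.update_of_ne ha]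
    rw [hu, hu, hall]
  have hmul : A * (A.submatrix θ.1 id).adjugate = c • (A' * (A'.submatrix θ.1 id).adjugate) := by
    ext i j
    have := congrFun (key i) j
    rw [Matrix.cramer_eq_adjugate_mulVec, Matrix.cramer_eq_adjugate_mulVec,
      ← Matrix.adjugate_transpose, ← Matrix.adjugate_transpose, Pi.smul_apply,
      Matrix.mulVec_transpose, Matrix.mulVec_transpose] at this
    exact this
  have sub : ∀ (B B' : Matrix (Fin n) (Fin d) K) (M : Matrix (Fin d) (Fin d) K),
      B = B' * M → Submodule.span K (Set.range B.transpose) ≤
        Submodule.span K (Set.range B'.transpose) := by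
    intro B B' M hB
    rw [Submodule.span_le]
    rintro _ ⟨j, rfl⟩
    have : B.transpose j = ∑ k, M k j • B'.transpose k := by
      funext i
      simp [hB, Matrix.mul_apply, mul_comm]
    rw [this]
    exact sum_mem fun k _ => Submodule.smul_mem _ _ (Submodule.subset_span ⟨k, rfl⟩)
  apply le_antisymm
  · refine sub A A' ((c / (A.submatrix θ.1 id).det) •
      ((A'.submatrix θ.1 id).adjugate * A.submatrix θ.1 id)) ?_
    have h2 := congrArg (· * A.submatrix θ.1 id) hmul
    simp only [Matrix.mul_assoc, Matrix.adjugate_mul, Matrix.smul_mul, Matrix.mul_smul,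
      Matrix.mul_one] at h2
    rw [Matrix.mul_smul, div_eq_inv_mul, mul_smul, ← h2, smul_smul, inv_mul_cancel₀ hθ, one_smul]
  · refine sub A' A ((c⁻¹ / (A'.submatrix θ.1 id).det) •
      ((A.submatrix θ.1 id).adjugate * A'.submatrix θ.1 id)) ?_
    have h2 := congrArg (· * A'.submatrix θ.1 id) hmul
    simp only [Matrix.mul_assoc, Matrix.adjugate_mul, Matrix.smul_mul, Matrix.mul_smul,
      Matrix.mul_one] at h2
    rw [Matrix.mul_smul, h2, smul_smul, smul_smul]
    rw [show c⁻¹ / (A'.submatrix θ.1 id).det * c * (A'.submatrix θ.1 id).det = 1 by field_simp,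
      one_smul]

end Groth.Agent.S11249
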