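import Groth.Statements.S11252
import Groth.Agent.W4bk4.Basis
-- import your own Groth.Agent.* helpers here

set_option autoImplicit false
universe u
open W4bk4grassmannian

namespace Groth.Agent.S11252

open W4bk4grassmannian in
/-- Standard monomial basis for a union of Schubert varieties: let K be an algebraically closed field, 0
< d < n, and I(d,n) the strictly increasing maps Fin d → Fin n ordered entrywise; S = K[X_θ : θ ∈
I(d,n)] is the Plücker polynomial ring and, for τ ∈ I(d,n), J(τ) ⊆ S is the ideal of polynomials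
vanishing at the d × d row-minors of every n × d matrix over K whose minors on rows φ ≰ τ are zero
(the homogeneous ideal of the Schubert variety X(τ) ⊆ G(d,n)). Let τ_1, …, τ_r ∈ I(d,n) and let J =
⋂_i J(τ_i) be the homogeneous ideal of the union ⋃_i X(τ_i). Then the classes in S/J of the
monomials X_{θ_1} ⋯ X_{θ_m} (m ≥ 0) along chains θ_1 ≥ ⋯ ≥ θ_m all of whose members lie below some
τ_i are linearly independent over K and span S/J. -/
theorem result (K : Type u) [Field K] [IsAlgClosed K] (d n : ℕ)
    (hd : 0 < d) (hdn : d < n) (r : ℕ) (τs : Fin r → Idx d n) :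
    LinearIndependent K (fun c : (Σ m : ℕ, {c : Fin m → Idx d n // Antitone c ∧ ∃ i, ∀ k, c k ≤ τs i}) =>
        Ideal.Quotient.mk (⨅ i, schubertVanishing K d n (τs i)) (chainMon K c.2.1)) ∧
      Submodule.span K (Set.range fun c : (Σ m : ℕ, {c : Fin m → Idx d n // Antitone c ∧ ∃ i, ∀ k, c k ≤ τs i}) =>
        Ideal.Quotient.mk (⨅ i, schubertVanishing K d n (τs i)) (chainMon K c.2.1)) = ⊤ := by
  classical
  constructor
  · rw [linearIndependent_iff]
    intro l hl
    let emb : (Σ m : ℕ, {c : Fin m → Idx d n // Antitone c ∧ ∃ i, ∀ k, c k ≤ τs i}) →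
        Groth.Agent.W4bk4.Basis.Chain d n := fun c => ⟨c.1, c.2.1, c.2.2.1⟩
    have hemb : Function.Injective emb := by
      rintro ⟨m, c, hc⟩ ⟨m', c', hc'⟩ h
      cases h
      rfl
    have hmem : Finsupp.linearCombination K (Groth.Agent.W4bk4.Basis.mon K) (l.mapDomain emb) ∈
        ⨅ i, schubertVanishing K d n (τs i) := by
      rw [Finsupp.linearCombination_mapDomain, ← Ideal.Quotient.eq_zero_iff_mem, ← hl,
        Finsupp.linearCombination_apply, Finsupp.linearCombination_apply, Finsupp.sum, Finsupp.sum,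
        map_sum]
      refine Finset.sum_congr rfl fun c _ => ?_
      exact map_smul (Ideal.Quotient.mkₐ K (⨅ i, schubertVanishing K d n (τs i))) _ _
    ext c
    obtain ⟨i, hi⟩ := c.2.2.2
    have h0 := (Groth.Agent.W4bk4.Basis.schubert_iff_repr K hd (τs i)
      (zero_mem (plIdealTop (d := d) (n := n) K)) (zero_add _).symm).1 ((Ideal.mem_iInf.1 hmem) i)
      (emb c) hi
    rw [Finsupp.mapDomain_apply hemb] at h0
    simpa using h0
  · rw [eq_top_iff]
    intro x _
    obtain ⟨f, rfl⟩ := Ideal.Quotient.mk_surjective x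
    obtain ⟨l, g, hg, rfl⟩ := Groth.Agent.W4bk4.Basis.exists_repr K f
    rw [map_add, Ideal.Quotient.eq_zero_iff_mem.2 (Ideal.mem_iInf.2 fun i =>
      Groth.Agent.W4bk4.Basis.plIdealTop_le K hd (τs i) hg), zero_add,
      Finsupp.linearCombination_apply, Finsupp.sum, map_sum]
    refine sum_mem fun c _ => ?_
    have e := map_smul (Ideal.Quotient.mkₐ K (⨅ i, schubertVanishing K d n (τs i))) (l c)
      (Groth.Agent.W4bk4.Basis.mon K c)
    rw [Ideal.Quotient.mkₐ_eq_mk] at e
    rw [e]
    refine Submodule.smul_mem _ _ ?_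
    by_cases hc : ∃ i, ∀ k, c.2.1 k ≤ τs i
    · exact Submodule.subset_span ⟨⟨c.1, c.2.1, c.2.2, hc⟩, rfl⟩
    · have h0 : Ideal.Quotient.mk (⨅ i, schubertVanishing K d n (τs i))
          (Groth.Agent.W4bk4.Basis.mon K c) = 0 :=
        Ideal.Quotient.eq_zero_iff_mem.2 (Ideal.mem_iInf.2 fun i =>
          Groth.Agent.W4bk4.Basis.mon_mem_of_not_below K hd fun hb => hc ⟨i, hb⟩)
      rw [h0]
      exact zero_mem _

end Groth.Agent.S11252
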