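import Groth.Statements.S11253
import Groth.Agent.W4bk4.Basis
-- import your own Groth.Agent.* helpers here

set_option autoImplicit false
universe u
open W4bk4grassmannian

namespace Groth.Agent.S11253

open W4bk4grassmannian in
/-- Intersections of Schubert varieties are reduced: let K be an algebraically closed field, 0 < d < n,
and I(d,n) the strictly increasing maps Fin d → Fin n ordered entrywise; S = K[X_θ : θ ∈ I(d,n)] is
the Plücker polynomial ring and, for τ ∈ I(d,n), J(τ) ⊆ S is the ideal of polynomials vanishing at
the d × d row-minors of every n × d matrix over K whose minors on rows φ ≰ τ are zero (the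
homogeneous ideal of the Schubert variety X(τ) ⊆ G(d,n)). Then for all w₁, w₂ ∈ I(d,n) the ideal
J(w₁) + J(w₂) of S is radical. -/
theorem result (K : Type u) [Field K] [IsAlgClosed K] (d n : ℕ)
    (hd : 0 < d) (hdn : d < n) (w₁ w₂ : Idx d n) :
    (schubertVanishing K d n w₁ ⊔ schubertVanishing K d n w₂).IsRadical := by
  have h : schubertVanishing K d n w₁ ⊔ schubertVanishing K d n w₂ =
      schubertVanishing K d n (W4bk4grassmannian.inf w₁ w₂) := by
    apply le_antisymm
    · have hmono : ∀ a b : Idx d n, a ≤ b →
          schubertVanishing K d n b ≤ schubertVanishing K d n a := by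
        intro a b hab f hf
        simp only [schubertVanishing, Ideal.mem_iInf] at hf ⊢
        exact fun A hA => hf A fun φ hφ => hA φ fun h => hφ (h.trans hab)
      exact sup_le (hmono _ _ fun t => min_le_left _ _) (hmono _ _ fun t => min_le_right _ _)
    · intro f hf
      obtain ⟨l, g, hg, hfg⟩ := Groth.Agent.W4bk4.Basis.exists_repr K f
      have h0 := (Groth.Agent.W4bk4.Basis.schubert_iff_repr K hd _ hg hfg).1 hf
      refine Groth.Agent.W4bk4.Basis.mem_of_repr K
        ((Groth.Agent.W4bk4.Basis.plIdealTop_le K hd w₁).trans le_sup_left) hg hfg fun c hc => ?_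
      by_cases h1 : Groth.Agent.W4bk4.Basis.Below' w₁ c
      · refine Ideal.mem_sup_right (Groth.Agent.W4bk4.Basis.mon_mem_of_not_below K hd fun h2 => hc ?_)
        exact h0 c fun k t => le_min (h1 k t) (h2 k t)
      · exact Ideal.mem_sup_left (Groth.Agent.W4bk4.Basis.mon_mem_of_not_below K hd h1)
  rw [h]
  exact (Groth.Agent.W4bk4.Schubert.schubertVanishing_isPrime K hd _).isRadical

end Groth.Agent.S11253
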