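import Groth.Statements.S11268
-- import your own Groth.Agent.* helpers here

set_option autoImplicit false
open W4bk4grassmannian

namespace Groth.Agent.S11268

open W4bk4grassmannian in
/-- Let τ < w in I(d,n), the strictly increasing maps Fin d → Fin n ordered entrywise. Then there is a
Schubert divisor φ of w, i.e. φ < w with Σ_t (φ_t - t) + 1 = Σ_t (w_t - t), such that τ ≤ φ: every
proper Schubert subvariety of X(w) lies in a Schubert divisor of X(w). -/
theorem result (d n : ℕ) (τ w : Idx d n) (h : τ < w) :
    ∃ φ ∈ divisors w, τ ≤ φ := by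
  classical
  have hne : (Finset.univ.filter fun t => τ.1 t < w.1 t).Nonempty := by
    by_contra hc
    simp only [Finset.not_nonempty_iff_eq_empty, Finset.filter_eq_empty_iff, Finset.mem_univ,
      not_lt, forall_true_left] at hc
    exact h.ne (le_antisymm h.le fun t => hc (x := t))
  set t₀ := (Finset.univ.filter fun t => τ.1 t < w.1 t).min' hne with ht₀
  have h₀ : τ.1 t₀ < w.1 t₀ :=
    (Finset.mem_filter.1 (Finset.min'_mem _ hne)).2
  have hlow : ∀ s, s < t₀ → w.1 s = τ.1 s := fun s hs =>
    le_antisymm (le_of_not_gt fun hlt => absurd (Finset.min'_le _ s (by simp [hlt])) (not_le.2 hs))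
      (h.le s)
  have h0v : (τ.1 t₀).val < (w.1 t₀).val := h₀
  let v : Fin n := ⟨(w.1 t₀).val - 1, by omega⟩
  have hv : v.val + 1 = (w.1 t₀).val := by simp only [v]; omega
  have hmono : StrictMono (Function.update w.1 t₀ v) := by
    intro a b hab
    have hwab : (w.1 a).val < (w.1 b).val := w.2 hab
    by_cases ha : a = t₀
    · subst ha
      rw [Function.update_self, Function.update_of_ne hab.ne']
      change v.val < _
      omega
    · rw [Function.update_of_ne ha]
      by_cases hb : b = t₀
      · subst hb
        rw [Function.update_self, hlow a hab]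
        have h1 : (τ.1 a).val < (τ.1 t₀).val := τ.2 hab
        change (τ.1 a).val < v.val
        omega
      · rw [Function.update_of_ne hb]; exact hwab
  have hge : ∀ t : Fin d, t.val ≤ (τ.1 t).val := fun t => by
    obtain ⟨t, ht⟩ := t
    induction t with
    | zero => exact Nat.zero_le _
    | succ k ih =>
      have h1 : (τ.1 ⟨k, by omega⟩).val < (τ.1 ⟨k + 1, ht⟩).val := τ.2 (Fin.mk_lt_mk.2 (by omega))
      have := ih (by omega)
      dsimp only at *
      omega
  refine ⟨⟨Function.update w.1 t₀ v, hmono⟩, ⟨lt_of_le_of_ne ?_ ?_, ?_⟩, ?_⟩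
  · intro t
    by_cases ht : t = t₀
    · subst ht; change Function.update w.1 _ v _ ≤ _; rw [Function.update_self]
      change v.val ≤ _; omega
    · change Function.update w.1 _ v _ ≤ _; rw [Function.update_of_ne ht]
  · intro he
    have := congrArg (fun z : Idx d n => (z.1 t₀).val) he
    simp only [Function.update_self] at this
    omega
  · have := hge t₀
    unfold codeg
    simp only
    rw [← Finset.add_sum_erase _ _ (Finset.mem_univ t₀),
      ← Finset.add_sum_erase _ _ (Finset.mem_univ t₀), Function.update_self,
      Finset.sum_congr rfl fun t ht => by rw [Function.update_of_ne (Finset.ne_of_mem_erase ht)]]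
    omega
  · intro t
    change _ ≤ Function.update w.1 _ v _
    by_cases ht : t = t₀
    · subst ht; rw [Function.update_self]; change _ ≤ v.val; omega
    · rw [Function.update_of_ne ht]; exact h.le t

end Groth.Agent.S11268
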