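import Groth.Statements.S11254
import Groth.Agent.W4bk4.Basis
import Groth.Agent.S11268
-- import your own Groth.Agent.* helpers here

set_option autoImplicit false
universe u
open W4bk4grassmannian

namespace Groth.Agent.S11254

open W4bk4grassmannian in
/-- Let K be an algebraically closed field, 0 < d < n, and I(d,n) the strictly increasing maps Fin d →
Fin n ordered entrywise; S = K[X_θ : θ ∈ I(d,n)] is the Plücker polynomial ring and, for τ ∈ I(d,n),
J(τ) ⊆ S is the ideal of polynomials vanishing at the d × d row-minors of every n × d matrix over K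
whose minors on rows φ ≰ τ are zero (the homogeneous ideal of the Schubert variety X(τ) ⊆ G(d,n)).
Let τ ∈ I(d,n) admit some φ < τ (X(τ) has positive dimension). Then J(τ) + (X_τ) = ⋂_φ J(φ), the
intersection over the Schubert divisors φ of τ, i.e. the φ < τ with Σ_t (φ_t - t) + 1 = Σ_t (τ_t -
t). (For the zero-dimensional Schubert variety there is no divisor and the left side is the
irrelevant ideal, so positive dimension is required at the level of ideals.) -/
theorem result (K : Type u) [Field K] [IsAlgClosed K]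
    (d n : ℕ) (hd : 0 < d) (hdn : d < n) (τ : Idx d n) (hτ : ∃ φ : Idx d n, φ < τ) :
    schubertVanishing K d n τ ⊔ Ideal.span {MvPolynomial.X τ} =
      ⨅ φ ∈ divisors τ, schubertVanishing K d n φ := by
  classical
  apply le_antisymm
  · refine le_iInf₂ fun φ hφ => sup_le ?_ ?_
    · intro f hf
      simp only [schubertVanishing, Ideal.mem_iInf] at hf ⊢
      exact fun A hA => hf A fun ψ hψ => hA ψ fun h => hψ (h.trans hφ.1.le)
    · rw [Ideal.span_singleton_le_iff_mem,
        Groth.Agent.W4bk4.Basis.mem_schubertVanishing_iff K hd]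
      exact Groth.Agent.W4bk4.Schubert.phi_X_eq_zero K (fun h => absurd h (not_le_of_gt hφ.1))
  · intro f hf
    obtain ⟨φ₀, hφ₀⟩ := hτ
    obtain ⟨φ₁, hφ₁, -⟩ := Groth.Agent.S11268.result d n φ₀ τ hφ₀
    obtain ⟨l, g, hg, hfg⟩ := Groth.Agent.W4bk4.Basis.exists_repr K f
    have h0 : ∀ φ ∈ divisors τ, ∀ c, Groth.Agent.W4bk4.Basis.Below' φ c → l c = 0 := fun φ hφ =>
      (Groth.Agent.W4bk4.Basis.schubert_iff_repr K hd φ hg hfg).1
        (Ideal.mem_iInf.1 (Ideal.mem_iInf.1 hf φ) hφ)
    refine Groth.Agent.W4bk4.Basis.mem_of_repr K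
      ((Groth.Agent.W4bk4.Basis.plIdealTop_le K hd τ).trans le_sup_left) hg hfg fun c hc => ?_
    by_cases h1 : Groth.Agent.W4bk4.Basis.Below' τ c
    swap
    · exact Ideal.mem_sup_left (Groth.Agent.W4bk4.Basis.mon_mem_of_not_below K hd h1)
    by_cases h2 : ∃ k, c.2.1 k = τ
    · obtain ⟨k, hk⟩ := h2
      refine Ideal.mem_sup_right (Ideal.mem_span_singleton.2 ?_)
      rw [Groth.Agent.W4bk4.Basis.mon, chainMon, ← hk]
      exact Finset.dvd_prod_of_mem _ (Finset.mem_univ k)
    · exfalso
      apply hc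
      obtain ⟨m, c, hanti⟩ := c
      cases m with
      | zero => exact h0 φ₁ hφ₁ _ fun k => k.elim0
      | succ m =>
        obtain ⟨φ, hφ, hle⟩ := Groth.Agent.S11268.result d n (c 0) τ
          (lt_of_le_of_ne (h1 0) fun h => h2 ⟨0, h⟩)
        exact h0 φ hφ _ fun k => (hanti (Fin.zero_le k)).trans hle

end Groth.Agent.S11254
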