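import Groth.Statements.S11255
import Groth.Agent.W4bk4.Levels
-- import your own Groth.Agent.* helpers here

set_option autoImplicit false
universe u
open W4bk4grassmannian

namespace Groth.Agent.S11255

open W4bk4grassmannian in
/-- Dimension of a Schubert variety, stated for its affine cone: let K be an algebraically closed field,
0 < d < n, and I(d,n) the strictly increasing maps Fin d → Fin n ordered entrywise; S = K[X_θ : θ ∈
I(d,n)] is the Plücker polynomial ring and, for τ ∈ I(d,n), J(τ) ⊆ S is the ideal of polynomials
vanishing at the d × d row-minors of every n × d matrix over K whose minors on rows φ ≰ τ are zero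
(the homogeneous ideal of the Schubert variety X(τ) ⊆ G(d,n)). Then for w ∈ I(d,n) the ring S/J(w),
the coordinate ring of the cone over X(w), has Krull dimension Σ_t (w_t - t) + 1 (0-indexed
entries), so that dim X(w) = Σ_t (w_t - t). (The published statement gives the dimension of the
projective variety X(w); this row states the Krull dimension of its affine cone, one more.) -/
theorem result (K : Type u) [Field K] [IsAlgClosed K] (d n : ℕ)
    (hd : 0 < d) (hdn : d < n) (w : Idx d n) :
    ringKrullDim (PlRing K d n ⧸ schubertVanishing K d n w) = ((codeg w + 1 : ℕ) : WithBot ℕ∞) := by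
  exact (Groth.Agent.W4bk4.Levels.cm_dim K (codeg w) _
    (Groth.Agent.W4bk4.Basis.plIdealTop_le K hd w)
    (Groth.Agent.W4bk4.Levels.isHomog_schubert K hd w)
    (Groth.Agent.W4bk4.Levels.wreg_levList K hd hdn w).1
    (fun k hk => Groth.Agent.W4bk4.Levels.lev_mem_of_lt K hd hk)).2
    (Groth.Agent.W4bk4.Schubert.schubertVanishing_isPrime K hd w).ne_top

end Groth.Agent.S11255
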