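import Groth.Statements.S11256
import Groth.Agent.W4bk4.Plucker
-- import your own Groth.Agent.* helpers here

set_option autoImplicit false
universe u
open W4bk4grassmannian

namespace Groth.Agent.S11256

open W4bk4grassmannian in
/-- The Grassmannian is cut out set-theoretically by the Plücker quadrics: let K be a field, e, n
natural numbers, and q : I(e+1,n) → K a nonzero vector (a point of the projective space of the
Plücker embedding of G(e+1,n)). Then q is the vector of (e+1) × (e+1) row-minors of some n × (e+1)
matrix over K if and only if all the quadrics attached to i' ∈ I(e,n), j' ∈ I(e+2,n) (the signed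
sums Σ_h (-1)^(h+1) [i', j'_h] [j' with j'_h removed], brackets of arbitrary tuples meaning signed
sorted coordinates, zero on repeated rows) vanish at q. (The published statement is over an
algebraically closed field; this row allows any field K.) -/
theorem result (K : Type u) [Field K] (e n : ℕ)
    (q : Idx (e + 1) n → K) (hq : q ≠ 0) :
    (∀ (i' : Idx e n) (j' : Idx (e + 2) n), MvPolynomial.eval q (quadric K i' j') = 0) ↔
      ∃ A : Matrix (Fin n) (Fin (e + 1)) K, ∀ θ : Idx (e + 1) n, q θ = (A.submatrix θ.1 id).det := by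
  classical
  let P : (Fin (e + 1) → Fin n) → K := fun a => MvPolynomial.eval q (coord K (e + 1) n a)
  have hPidx : ∀ φ : Idx (e + 1) n, P φ.1 = q φ := fun φ => by
    simp [P, Groth.Agent.W4bk4.Plucker.coord_idx]
  have hPperm : ∀ (φ : Idx (e + 1) n) (σ : Equiv.Perm (Fin (e + 1))),
      P (φ.1 ∘ σ) = ((Equiv.Perm.sign σ : ℤ) : K) * q φ := fun φ σ => by
    simp [P, Groth.Agent.W4bk4.Plucker.coord_comp_perm]
  have hPzero : ∀ a : Fin (e + 1) → Fin n, ¬ Function.Injective a → P a = 0 := fun a ha => by
    simp [P, Groth.Agent.W4bk4.Plucker.coord_eq_zero a ha]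
  have hquad : ∀ (i' : Idx e n) (j' : Idx (e + 2) n), MvPolynomial.eval q (quadric K i' j') =
      - ∑ h : Fin (e + 2), (-1 : K) ^ (h : ℕ) * P (Fin.snoc i'.1 (j'.1 h)) *
        P (j'.1 ∘ h.succAbove) := by
    intro i' j'
    rw [quadric, map_sum, ← Finset.sum_neg_distrib]
    refine Finset.sum_congr rfl fun h _ => ?_
    simp only [map_mul, map_pow, map_neg, map_one, P]
    ring
  constructor
  swap
  · rintro ⟨A, hA⟩ i' j'
    rw [hquad, neg_eq_zero]
    have hP : ∀ a, P a = (A.submatrix a id).det := by
      intro a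
      by_cases ha : Function.Injective a
      · obtain ⟨φ, σ, rfl⟩ := Groth.Agent.W4bk4.Plucker.exists_idx_perm a ha
        rw [hPperm, hA, Groth.Agent.W4bk4.Plucker.det_submatrix_perm]
      · rw [hPzero a ha, Groth.Agent.W4bk4.Plucker.det_submatrix_eq_zero A a ha]
    simp only [hP]
    exact Groth.Agent.W4bk4.Plucker.plucker_relation A i'.1 j'.1
  intro hrel
  obtain ⟨θ, hθ⟩ : ∃ θ, q θ ≠ 0 := Function.ne_iff.1 hq
  let B : Matrix (Fin n) (Fin (e + 1)) K := Matrix.of fun i c => P (Function.update θ.1 c i) / q θ
  let w : Fin (e + 1) → K := fun c => if c = 0 then q θ else 1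
  let A := B * Matrix.diagonal w
  let D : (Fin (e + 1) → Fin n) → K := fun a => (A.submatrix a id).det
  have hDB : ∀ a, D a = (B.submatrix a id).det * q θ := by
    intro a
    have : A.submatrix a id = B.submatrix a id * Matrix.diagonal w := by
      ext x y; simp [A, Matrix.mul_diagonal]
    change (A.submatrix a id).det = _
    rw [this, Matrix.det_mul, Matrix.det_diagonal]
    simp [w]
  have hB1 : B.submatrix θ.1 id = 1 := by
    ext s c
    simp only [Matrix.submatrix_apply, id_eq, B, Matrix.of_apply]
    by_cases hsc : s = c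
    · subst hsc
      simp [hPidx, div_self hθ]
    · rw [hPzero, zero_div, Matrix.one_apply_ne hsc]
      intro hinj
      exact hsc (hinj (a₁ := s) (a₂ := c) (by simp [Function.update_of_ne hsc]))
  have hupd : ∀ (t : Fin (e + 1)) (x : Fin n),
      P (Function.update θ.1 t x) = D (Function.update θ.1 t x) := by
    intro t x
    have : B.submatrix (Function.update θ.1 t x) id =
        (1 : Matrix (Fin (e + 1)) (Fin (e + 1)) K).updateRow t (B x) := by
      rw [← hB1]; ext a b
      by_cases ha : a = t
      · subst ha; simp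
      · simp [Matrix.updateRow_ne ha, Function.update_of_ne ha]
    rw [hDB, this, ← Matrix.cramer_transpose_apply, Matrix.transpose_one, Matrix.cramer_one]
    simp [B, hθ]
  let S := Finset.univ.image θ.1
  have hS : S.card = e + 1 := (Groth.Agent.W4bk4.Plucker.card_image_iff _).2 θ.2.injective
  have hDperm : ∀ (φ : Idx (e + 1) n) (σ : Equiv.Perm (Fin (e + 1))),
      D (φ.1 ∘ σ) = ((Equiv.Perm.sign σ : ℤ) : K) * D φ.1 := fun φ σ =>
    Groth.Agent.W4bk4.Plucker.det_submatrix_perm A φ.1 σ
  have himg : ∀ (a : Fin (e + 1) → Fin n) (σ : Equiv.Perm (Fin (e + 1))),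
      Finset.univ.image (a ∘ σ) = Finset.univ.image a := by
    intro a σ
    rw [← Finset.image_image, Finset.image_univ_equiv]
  have key : ∀ (k : ℕ) (φ : Idx (e + 1) n),
      (Finset.univ.image φ.1 \ S).card ≤ k → q φ = D φ.1 := by
    intro k
    induction k using Nat.strong_induction_on with
    | _ k ih =>
    have hall : ∀ (a : Fin (e + 1) → Fin n),
        (Finset.univ.image a \ S).card < k → P a = D a := by
      intro a hak
      by_cases ha : Function.Injective a
      · obtain ⟨ψ, σ, rfl⟩ := Groth.Agent.W4bk4.Plucker.exists_idx_perm a ha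
        rw [hPperm, hDperm, ih _ hak ψ (by rw [himg])]
      · rw [hPzero a ha]
        exact (Groth.Agent.W4bk4.Plucker.det_submatrix_eq_zero A a ha).symm
    intro φ hφ
    have hφcard : (Finset.univ.image φ.1).card = e + 1 :=
      (Groth.Agent.W4bk4.Plucker.card_image_iff _).2 φ.2.injective
    have hone : ∀ ψ : Idx (e + 1) n, (Finset.univ.image ψ.1 \ S).card ≤ 1 → q ψ = D ψ.1 := by
      intro ψ hψ
      have hψcard : (Finset.univ.image ψ.1).card = e + 1 :=
        (Groth.Agent.W4bk4.Plucker.card_image_iff _).2 ψ.2.injective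
      by_cases hsub : Finset.univ.image ψ.1 ⊆ S
      · have heq := Finset.eq_of_subset_of_card_le hsub (by rw [hψcard, hS])
        have : ψ = θ := by
          refine Subtype.ext ((ψ.2.range_inj θ.2).1 ?_)
          have h2 := congrArg (fun s : Finset (Fin n) => (s : Set (Fin n))) heq
          simpa [S] using h2
        subst this
        have h1 := hupd 0 (ψ.1 0)
        rw [Function.update_eq_self, hPidx] at h1
        exact h1
      · obtain ⟨x, hxψ, hxS⟩ := Finset.not_subset.1 hsub
        obtain ⟨z, hzS, hzψ⟩ : ∃ z ∈ S, z ∉ Finset.univ.image ψ.1 := by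
          rw [← Finset.not_subset]
          intro hs
          exact hsub (Finset.eq_of_subset_of_card_le hs (by rw [hψcard, hS])).ge
        obtain ⟨t, -, rfl⟩ := Finset.mem_image.1 hzS
        have hex : ∀ y ∈ Finset.univ.image ψ.1, y ∉ S → y = x := fun y hy hyS =>
          Finset.card_le_one.1 hψ y (Finset.mem_sdiff.2 ⟨hy, hyS⟩) x (Finset.mem_sdiff.2 ⟨hxψ, hxS⟩)
        have hinj : Function.Injective (Function.update θ.1 t x) := by
          intro a b hab
          by_cases ha : a = t <;> by_cases hb : b = t
          · rw [ha, hb]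
          · subst ha
            rw [Function.update_self, Function.update_of_ne hb] at hab
            exact absurd (Finset.mem_image.2 ⟨b, Finset.mem_univ _, hab.symm⟩) hxS
          · subst hb
            rw [Function.update_self, Function.update_of_ne ha] at hab
            exact absurd (Finset.mem_image.2 ⟨a, Finset.mem_univ _, hab⟩) hxS
          · rw [Function.update_of_ne ha, Function.update_of_ne hb] at hab
            exact θ.2.injective hab
        obtain ⟨χ, σ, hσ⟩ := Groth.Agent.W4bk4.Plucker.exists_idx_perm _ hinj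
        have hχψ : χ = ψ := by
          refine Subtype.ext ((χ.2.range_inj ψ.2).1 (Eq.symm ?_))
          have hsub2 : Finset.univ.image ψ.1 ⊆ Finset.univ.image χ.1 := by
            intro y hy
            rw [← himg χ.1 σ, ← hσ]
            by_cases hyS : y ∈ S
            · obtain ⟨s, -, rfl⟩ := Finset.mem_image.1 hyS
              have hst : s ≠ t := fun h => hzψ (h ▸ hy)
              exact Finset.mem_image.2 ⟨s, Finset.mem_univ _, Function.update_of_ne hst _ _⟩
            · rw [hex y hy hyS]
              exact Finset.mem_image.2 ⟨t, Finset.mem_univ _, Function.update_self _ _ _⟩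
          have heq := Finset.eq_of_subset_of_card_le hsub2
            (le_of_eq (((Groth.Agent.W4bk4.Plucker.card_image_iff _).2 χ.2.injective).trans hψcard.symm))
          have h2 := congrArg (fun s : Finset (Fin n) => (s : Set (Fin n))) heq
          simpa using h2
        subst hχψ
        have h1 := hupd t x
        rw [hσ, hPperm, hDperm] at h1
        rcases Int.units_eq_one_or (Equiv.Perm.sign σ) with hs | hs <;> simpa [hs] using h1
    by_cases hk1 : (Finset.univ.image φ.1 \ S).card ≤ 1
    · exact hone φ hk1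
    obtain ⟨x, hx⟩ : (Finset.univ.image φ.1 \ S).Nonempty := Finset.card_pos.1 (by omega)
    obtain ⟨hxφ, hxS⟩ := Finset.mem_sdiff.1 hx
    obtain ⟨t, -, rfl⟩ := Finset.mem_image.1 hxφ
    let i' : Idx e n := ⟨φ.1 ∘ t.succAbove, φ.2.comp (Fin.strictMono_succAbove t)⟩
    have hJ : (insert (φ.1 t) S).card = e + 2 := by rw [Finset.card_insert_of_notMem hxS, hS]
    let j' : Idx (e + 2) n :=
      ⟨fun h => Finset.orderEmbOfFin _ hJ h, (Finset.orderEmbOfFin _ hJ).strictMono⟩
    have hjmem : ∀ h, j'.1 h ∈ insert (φ.1 t) S := fun h => Finset.orderEmbOfFin_mem _ hJ h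
    obtain ⟨h₀, hh₀⟩ : ∃ h₀, j'.1 h₀ = φ.1 t := by
      have : φ.1 t ∈ Set.range j'.1 := by
        change _ ∈ Set.range fun h => Finset.orderEmbOfFin _ hJ h
        rw [Finset.range_orderEmbOfFin]
        simp
      exact this
    have hjθ : j'.1 ∘ h₀.succAbove = θ.1 := by
      refine ((j'.2.comp (Fin.strictMono_succAbove h₀)).range_inj θ.2).1 ?_
      ext y
      constructor
      · rintro ⟨a, rfl⟩
        rcases Finset.mem_insert.1 (hjmem (h₀.succAbove a)) with h | h
        · exact absurd (j'.2.injective (h.trans hh₀.symm)) (Fin.succAbove_ne h₀ a)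
        · obtain ⟨s, -, hs⟩ := Finset.mem_image.1 h
          exact ⟨s, hs⟩
      · rintro ⟨s, rfl⟩
        have : θ.1 s ∈ Set.range j'.1 := by
          change _ ∈ Set.range fun h => Finset.orderEmbOfFin _ hJ h
          rw [Finset.range_orderEmbOfFin]
          simp [S]
        obtain ⟨h, hh⟩ := this
        have hne : h ≠ h₀ := by
          rintro rfl
          exact hxS (Finset.mem_image.2 ⟨s, Finset.mem_univ _, hh.symm.trans hh₀⟩)
        obtain ⟨a, rfl⟩ := Fin.exists_succAbove_eq hne
        exact ⟨a, hh⟩
    have hsn : Function.Injective (Fin.snoc i'.1 (φ.1 t) : Fin (e + 1) → Fin n) := by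
      rw [Fin.snoc_injective_iff]
      exact ⟨φ.2.injective.comp Fin.succAbove_right_injective,
        fun ⟨a, ha⟩ => Fin.succAbove_ne t a (φ.2.injective ha)⟩
    obtain ⟨ψ, σ, hσ⟩ := Groth.Agent.W4bk4.Plucker.exists_idx_perm _ hsn
    have hψφ : ψ = φ := by
      refine Subtype.ext ((ψ.2.range_inj φ.2).1 ?_)
      have h1 : Set.range ψ.1 = Set.range (ψ.1 ∘ σ) := (σ.surjective.range_comp _).symm
      rw [h1, ← hσ]
      ext y
      simp only [Set.mem_range]
      constructor
      · rintro ⟨a, rfl⟩
        induction a using Fin.lastCases with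
        | last => exact ⟨t, by simp⟩
        | cast a => exact ⟨t.succAbove a, by simp [i']⟩
      · rintro ⟨a, rfl⟩
        by_cases ha : a = t
        · exact ⟨Fin.last e, by simp [ha]⟩
        · obtain ⟨b, rfl⟩ := Fin.exists_succAbove_eq ha
          exact ⟨b.castSucc, by simp [i']⟩
    subst hψφ
    have hothers : ∀ h, h ≠ h₀ → P (Fin.snoc i'.1 (j'.1 h)) * P (j'.1 ∘ h.succAbove) =
        D (Fin.snoc i'.1 (j'.1 h)) * D (j'.1 ∘ h.succAbove) := by
      intro h hh
      have hS' : j'.1 h ∈ S := by
        rcases Finset.mem_insert.1 (hjmem h) with h' | h'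
        · exact absurd (j'.2.injective (h'.trans hh₀.symm)) hh
        · exact h'
      have h1 : (Finset.univ.image (Fin.snoc i'.1 (j'.1 h) : Fin (e + 1) → Fin n) \ S).card <
          (Finset.univ.image ψ.1 \ S).card := by
        refine Finset.card_lt_card ((Finset.ssubset_iff_of_subset ?_).2 ⟨ψ.1 t, hx, ?_⟩)
        · intro y hy
          obtain ⟨hy1, hy2⟩ := Finset.mem_sdiff.1 hy
          obtain ⟨a, -, rfl⟩ := Finset.mem_image.1 hy1
          induction a using Fin.lastCases with
          | last => simp [hS'] at hy2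
          | cast a => exact Finset.mem_sdiff.2 ⟨by simp [i'], hy2⟩
        · intro hy
          obtain ⟨hy1, -⟩ := Finset.mem_sdiff.1 hy
          obtain ⟨a, -, ha⟩ := Finset.mem_image.1 hy1
          induction a using Fin.lastCases with
          | last => simp only [Fin.snoc_last] at ha; exact hxS (ha ▸ hS')
          | cast a =>
            simp only [Fin.snoc_castSucc, i', Function.comp_apply] at ha
            exact Fin.succAbove_ne t a (ψ.2.injective ha)
      have h2 : (Finset.univ.image (j'.1 ∘ h.succAbove) \ S).card ≤ 1 := by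
        refine (Finset.card_le_card (t := {ψ.1 t}) ?_).trans (Finset.card_singleton _).le
        intro y hy
        obtain ⟨hy1, hy2⟩ := Finset.mem_sdiff.1 hy
        obtain ⟨a, -, rfl⟩ := Finset.mem_image.1 hy1
        rcases Finset.mem_insert.1 (hjmem (h.succAbove a)) with h' | h'
        · exact Finset.mem_singleton.2 h'
        · exact absurd h' hy2
      rw [hall _ (lt_of_lt_of_le h1 hφ),
        show P (j'.1 ∘ h.succAbove) = D (j'.1 ∘ h.succAbove) from ?_]
      exact (hPidx ⟨_, j'.2.comp (Fin.strictMono_succAbove h)⟩).trans (hone _ h2)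
    have hr := hrel i' j'
    rw [hquad, neg_eq_zero] at hr
    have hdr : ∑ h : Fin (e + 2), (-1 : K) ^ (h : ℕ) * D (Fin.snoc i'.1 (j'.1 h)) *
        D (j'.1 ∘ h.succAbove) = 0 :=
      Groth.Agent.W4bk4.Plucker.plucker_relation A i'.1 j'.1
    rw [← hdr, ← sub_eq_zero, ← Finset.sum_sub_distrib, Finset.sum_eq_single h₀] at hr
    · rw [hh₀, hjθ, hσ, hPidx, hPperm, hDperm, ← hone θ (by simp [S])] at hr
      have : (-1 : K) ^ (h₀ : ℕ) * (((Equiv.Perm.sign σ : ℤ) : K) * (q θ * (q ψ - D ψ.1))) = 0 := by
        rw [← hr]; ring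
      rcases Int.units_eq_one_or (Equiv.Perm.sign σ) with hs | hs <;>
        simpa [hs, hθ, sub_eq_zero, pow_eq_zero_iff', mul_eq_zero] using this
    · intro h _ hh
      rw [mul_assoc, mul_assoc, hothers h hh, sub_self]
    · simp
  exact ⟨A, fun φ => key _ φ le_rfl⟩

end Groth.Agent.S11256
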