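import Groth.Statements.S11257
import Groth.Agent.W4bk4.WReg
-- import your own Groth.Agent.* helpers here

set_option autoImplicit false
universe u
open W4bk4grassmannian

namespace Groth.Agent.S11257

open Groth.Agent.W4bk4 Pointwise

theorem isWeaklyRegular_iff_wreg {R : Type u} [CommRing R] (l : List R) (N : Ideal R) :
    RingTheory.Sequence.IsWeaklyRegular (R ⧸ N) l ↔ WReg.WReg (A := R) l N := by
  induction l generalizing N with
  | nil => simp [WReg.WReg]
  | cons x l ih =>
    rw [RingTheory.Sequence.isWeaklyRegular_cons_iff]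
    change _ ↔ (∀ a : R, x • a ∈ N → a ∈ N) ∧ WReg.WReg l (WReg.step x (A := R) N)
    refine and_congr ?_ ?_
    · rw [isSMulRegular_iff_right_eq_zero_of_smul]
      constructor
      · intro h a ha
        exact Ideal.Quotient.eq_zero_iff_mem.1 (h (Ideal.Quotient.mk N a)
          ((Submodule.Quotient.mk_smul N x a).symm.trans (Ideal.Quotient.eq_zero_iff_mem.2 ha)))
      · intro h z hz
        obtain ⟨a, rfl⟩ := Ideal.Quotient.mk_surjective z
        exact Ideal.Quotient.eq_zero_iff_mem.2 (h a (Ideal.Quotient.eq_zero_iff_mem.1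
          ((Submodule.Quotient.mk_smul N x a).trans hz)))
    · rw [← ih]
      have hle : (N : Submodule R R) ≤ WReg.step x (A := R) N := le_sup_left
      refine LinearEquiv.isWeaklyRegular_congr ?_ l
      refine (Submodule.quotEquivOfEq _ _ ?_).trans
        (Submodule.quotientQuotientEquivQuotient (N : Submodule R R) (WReg.step x (A := R) N) hle)
      ext z
      obtain ⟨a, rfl⟩ := Submodule.mkQ_surjective _ z
      rw [Submodule.mem_map, Submodule.mem_smul_pointwise_iff_exists]
      constructor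
      · rintro ⟨y, -, hy⟩
        obtain ⟨b, rfl⟩ := Submodule.mkQ_surjective _ y
        refine ⟨x • b, WReg.mem_step.2 ⟨0, N.zero_mem, b, zero_add _⟩, ?_⟩
        rw [map_smul, hy]
      · rintro ⟨y, hy, hy'⟩
        obtain ⟨m, hm, b, rfl⟩ := WReg.mem_step.1 hy
        refine ⟨Submodule.mkQ _ b, trivial, ?_⟩
        rw [← hy', map_add, map_smul, Submodule.mkQ_apply _ m, (Submodule.Quotient.mk_eq_zero _).2 hm,
          zero_add]

theorem wreg_sub' {R : Type u} [CommRing R] {A B C : Type*} [AddCommGroup A] [Module R A]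
    [AddCommGroup B] [Module R B] [AddCommGroup C] [Module R C]
    (l : List R) {i : A →ₗ[R] B} {q : B →ₗ[R] C} {NA : Submodule R A} {NB : Submodule R B}
    {NC : Submodule R C} (h : WReg.SES i q NA NB NC) (hB : WReg.WReg l NB)
    (hC : WReg.WReg (l.take (l.length - 1)) NC) : WReg.WReg l NA := by
  induction l generalizing NA NB NC with
  | nil => trivial
  | cons x l ih =>
    refine ⟨h.reg_sub hB.1, ?_⟩
    rcases l with _ | ⟨y, l⟩
    · trivial
    · exact ih (h.step hC.1) hB.2 hC.2

end Groth.Agent.S11257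

namespace Groth.Agent.S11257

/-- Let A be a Noetherian local integral domain with maximal ideal m, I and J ideals of A, d ≥ 1, and
f_1, …, f_d ∈ m. Assume depth A/(I+J) ≥ d - 1, depth A/I ≥ d and depth A/J ≥ d (depths of the
quotients as A-modules), that f_1, …, f_d is a regular sequence on A/I and on A/J, and that f_1, …,
f_{d-1} is a regular sequence on A/(I+J). Then f_1, …, f_d is a regular sequence on A/(I ∩ J). -/
theorem result (A : Type u) [CommRing A] [IsDomain A]
    [IsNoetherianRing A] [IsLocalRing A] (I J : Ideal A) (d : ℕ) (hd : 0 < d) (f : Fin d → A)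
    (hf : ∀ k, f k ∈ IsLocalRing.maximalIdeal A)
    (hIJd : ((d - 1 : ℕ) : ℕ∞) ≤ LocCoh.depth A (A ⧸ (I ⊔ J)))
    (hId : (d : ℕ∞) ≤ LocCoh.depth A (A ⧸ I)) (hJd : (d : ℕ∞) ≤ LocCoh.depth A (A ⧸ J))
    (hI : RingTheory.Sequence.IsRegular (A ⧸ I) (List.ofFn f))
    (hJ : RingTheory.Sequence.IsRegular (A ⧸ J) (List.ofFn f))
    (hIJ : RingTheory.Sequence.IsRegular (A ⧸ (I ⊔ J)) ((List.ofFn f).take (d - 1))) :
    RingTheory.Sequence.IsRegular (A ⧸ (I ⊓ J)) (List.ofFn f) := by
  classical
  have key : Groth.Agent.W4bk4.WReg.WReg (A := A) (List.ofFn f) (I ⊓ J) := by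
    refine wreg_sub' (List.ofFn f) (B := A × A) (C := A)
      (i := LinearMap.prod LinearMap.id LinearMap.id) (q := LinearMap.fst A A A - LinearMap.snd A A A)
      (NB := Submodule.prod I J) (NC := I ⊔ J) ⟨fun a => Iff.rfl, ?_, fun c => ⟨(c, 0), by simp⟩⟩
      (Groth.Agent.W4bk4.WReg.wreg_prod ((isWeaklyRegular_iff_wreg _ _).1 hI.toIsWeaklyRegular)
        ((isWeaklyRegular_iff_wreg _ _).1 hJ.toIsWeaklyRegular)) ?_
    · rintro ⟨a, b⟩
      change a - b ∈ I ⊔ J ↔ ∃ c : A, a - c ∈ I ∧ b - c ∈ J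
      constructor
      · intro h
        obtain ⟨u, hu, v, hv, huv⟩ := Submodule.mem_sup.1 h
        refine ⟨a - u, by rwa [sub_sub_cancel], ?_⟩
        rw [show b - (a - u) = -v by linear_combination huv]
        exact neg_mem hv
      · rintro ⟨c, h1, h2⟩
        have := Submodule.sub_mem (I ⊔ J) (Submodule.mem_sup_left h1) (Submodule.mem_sup_right h2)
        simpa using this
    · rw [List.length_ofFn]
      exact (isWeaklyRegular_iff_wreg _ _).1 hIJ.toIsWeaklyRegular
  haveI : Nontrivial (A ⧸ I) := nontrivial_of_ne _ _ (fun h => hI.top_ne_smul (by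
    rw [eq_comm, Submodule.eq_top_iff']
    intro z
    have : Subsingleton (A ⧸ I) := subsingleton_of_zero_eq_one (M₀ := A ⧸ I) h
    rw [Subsingleton.elim z 0]
    exact zero_mem _) : (0 : A ⧸ I) ≠ 1)
  haveI : Nontrivial (A ⧸ (I ⊓ J)) :=
    (Ideal.Quotient.factor (inf_le_left : I ⊓ J ≤ I)).domain_nontrivial
  refine ⟨(isWeaklyRegular_iff_wreg _ _).2 key, ?_⟩
  refine (Submodule.top_ne_ideal_smul_of_le_jacobson_annihilator ?_)
  refine le_trans ?_ (IsLocalRing.maximalIdeal_le_jacobson _)
  rw [Ideal.ofList, Ideal.span_le]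
  intro x hx
  obtain ⟨k, rfl⟩ := List.mem_ofFn.1 hx
  exact hf k

end Groth.Agent.S11257
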