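import Groth.Statements.S1126
import Mathlib.AlgebraicGeometry.Morphisms.FlatDescent

set_option autoImplicit false
open CategoryTheory CategoryTheory.Limits AlgebraicGeometry Opposite
universe u
open Desc

namespace Groth.Agent.S1126

/-- If the base change of a morphism along a quasi-compact flat surjective morphism to its target is a
universal homeomorphism, then the morphism is a universal homeomorphism. (Stated for a single
quasi-compact flat surjective base change; combined with Zariski-locality on the target this gives
the fpqc-local form.) -/
theorem result :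
    MorphismProperty.DescendsAlong (FlatMor.IsUnivHomeo.{u})
      (@Surjective ⊓ @Flat ⊓ @QuasiCompact : MorphismProperty Scheme.{u}) := by
  refine ⟨fun {A X Y Z fst snd f g} h hf hfst => ?_⟩
  have hf' := hf
  obtain ⟨⟨hs, -⟩, -⟩ := hf
  have hO : UniversallyOpen fst :=
    ⟨MorphismProperty.universally_mono (fun _ _ _ H => IsHomeomorph.isOpenMap H) _ hfst⟩
  have hI : UniversallyInjective fst :=
    ⟨MorphismProperty.universally_mono (fun _ _ _ H => IsHomeomorph.bijective H |>.1) _ hfst⟩
  have hS : Surjective fst := ⟨(IsHomeomorph.bijective (hfst _ _ _ (IsPullback.of_id_snd (f := fst)))).2⟩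
  have hgO : UniversallyOpen g := MorphismProperty.of_isPullback_of_descendsAlong h hf' hO
  have hgI : UniversallyInjective g := MorphismProperty.of_isPullback_of_descendsAlong h hf' hI
  have hgS : Surjective g := ⟨fun z => by
    obtain ⟨x, rfl⟩ := hs.surj z
    obtain ⟨a, rfl⟩ := hS.surj x
    exact ⟨snd a, by rw [← Scheme.Hom.comp_apply, ← h.w, Scheme.Hom.comp_apply]⟩⟩
  intro X' Y' i₁ i₂ f' hf'
  have h1 : UniversallyOpen f' := MorphismProperty.of_isPullback hf'.flip hgO
  have h2 : UniversallyInjective f' := MorphismProperty.of_isPullback hf'.flip hgI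
  have h3 : Surjective f' := MorphismProperty.of_isPullback hf'.flip hgS
  exact ⟨f'.continuous, f'.isOpenMap, f'.injective, h3.surj⟩


end Groth.Agent.S1126
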