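import Groth.Statements.S11260
import Groth.Agent.W4bk4.Cell
-- import your own Groth.Agent.* helpers here

set_option autoImplicit false
universe u
open W4bk4grassmannian

namespace Groth.Agent.S11260

open W4bk4grassmannian in
/-- (2) ⇔ (3) ⇔ (4): let K be an algebraically closed field, 0 < d < n, and I(d,n) the strictly
increasing maps Fin d → Fin n ordered entrywise; S = K[X_θ : θ ∈ I(d,n)] is the Plücker polynomial
ring and, for τ ∈ I(d,n), J(τ) ⊆ S is the ideal of polynomials vanishing at the d × d row-minors of
every n × d matrix over K whose minors on rows φ ≰ τ are zero (the homogeneous ideal of the Schubert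
variety X(τ) ⊆ G(d,n)). Let R = S/J(τ). The following are equivalent: (1) R is a unique
factorization domain; (2) the class of X_τ is a prime element of R; (3) τ has at most one Schubert
divisor (φ < τ with Σ_t (φ_t - t) + 1 = Σ_t (τ_t - t)); (4) for some s, τ_t = t for all t < s and
the entries τ_t with t ≥ s are consecutive (0-indexed; τ is a single run of consecutive values, or
begins with 0, 1, …, s - 1 followed by a single run). (The published (3) reads: exactly one Schubert
divisor; for the zero-dimensional Schubert variety there is none while (1), (2), (4) hold, so (3) is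
stated as: at most one.) -/
theorem result (K : Type u) [Field K] [IsAlgClosed K] (d n : ℕ)
    (hd : 0 < d) (hdn : d < n) (τ : Idx d n) :
    (UniqueFactorizationMonoid (PlRing K d n ⧸ schubertVanishing K d n τ) ↔
        Prime (Ideal.Quotient.mk (schubertVanishing K d n τ) (MvPolynomial.X τ))) ∧
      (Prime (Ideal.Quotient.mk (schubertVanishing K d n τ) (MvPolynomial.X τ)) ↔
        (divisors τ).Subsingleton) ∧
      ((divisors τ).Subsingleton ↔
        ∃ s : ℕ, (∀ t : Fin d, t.val < s → (τ.1 t).val = t.val) ∧
          ∀ t t' : Fin d, s ≤ t.val → t.val + 1 = t'.val → (τ.1 t).val + 1 = (τ.1 t').val) := by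
  classical
  haveI := Groth.Agent.W4bk4.Schubert.schubertVanishing_isPrime K hd τ
  refine ⟨⟨fun h => ?_, Groth.Agent.W4bk4.Cell.ufd_of_prime_X K τ hd⟩, ?_, ?_⟩
  · haveI := h
    exact UniqueFactorizationMonoid.irreducible_iff_prime.1
      (Groth.Agent.W4bk4.Cell.irreducible_X K τ hd)
  · rw [Groth.Agent.W4bk4.Cell.prime_mk_iff _ _ (Groth.Agent.W4bk4.Levels.X_notMem K hd τ),
      Groth.Agent.W4bk4.Cell.isPrime_sup_span_iff K τ hd hdn]
  · constructor
    · intro hsub
      -- a corner `t` gives a divisor
      have hcorner : ∀ t : Fin d, t.val < (τ.1 t).val →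
          (∀ t' : Fin d, t'.val + 1 = t.val → (τ.1 t').val + 1 < (τ.1 t).val) →
          ∃ φ ∈ divisors τ, (φ.1 t).val + 1 = (τ.1 t).val := by
        intro t ht hgap
        let a : Fin d → Fin n := Function.update τ.1 t ⟨(τ.1 t).val - 1, by omega⟩
        have hav : ∀ s, (a s).val = if s = t then (τ.1 t).val - 1 else (τ.1 s).val := by
          intro s
          by_cases hs : s = t
          · subst hs; simp [a]
          · simp [a, hs, Function.update_of_ne hs]
        have ha : StrictMono a := by
          intro x y hxy
          rw [Fin.lt_def, hav, hav]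
          have hv := Fin.lt_def.1 (τ.2 hxy)
          by_cases hy : y = t
          · subst hy
            rw [if_neg hxy.ne, if_pos rfl]
            have hlt : x.val < y.val := hxy
            by_cases hadj : x.val + 1 = y.val
            · have := hgap x hadj; omega
            · have hm : x.val + 1 < y.val := by omega
              let z : Fin d := ⟨x.val + 1, by omega⟩
              have h1 := Fin.lt_def.1 (τ.2 (show x < z from Fin.lt_def.2 (Nat.lt_succ_self _)))
              have h2 := Fin.lt_def.1 (τ.2 (show z < y from Fin.lt_def.2 hm))
              omega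
          · rw [if_neg hy]
            by_cases hx : x = t
            · subst hx; rw [if_pos rfl]; omega
            · rw [if_neg hx]; omega
        have hle : (⟨a, ha⟩ : Idx d n) ≤ τ := by
          intro s
          rw [Fin.le_def]
          change (a s).val ≤ _
          rw [hav]
          split
          · subst_vars; omega
          · exact le_rfl
        refine ⟨⟨a, ha⟩, ⟨lt_of_le_of_ne hle fun h => ?_, ?_⟩, ?_⟩
        · have := congrArg (fun z : Idx d n => (z.1 t).val) h
          simp only [hav, if_pos] at this
          omega
        · have h1 := Groth.Agent.W4bk4.Shuffle.codeg_add τ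
          have h2 := Groth.Agent.W4bk4.Shuffle.codeg_add (⟨a, ha⟩ : Idx d n)
          simp only [hav] at h2
          have h4 : (∑ x, if x = t then (τ.1 t).val - 1 else (τ.1 x).val) =
              ((τ.1 t).val - 1) + ∑ x ∈ Finset.univ.erase t, (τ.1 x).val := by
            rw [← Finset.add_sum_erase _ _ (Finset.mem_univ t), if_pos rfl]
            exact congrArg _ (Finset.sum_congr rfl fun x hx => if_neg (Finset.ne_of_mem_erase hx))
          rw [h4] at h2
          have h3 : (∑ s, (τ.1 s).val) = (τ.1 t).val + ∑ s ∈ Finset.univ.erase t, (τ.1 s).val :=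
            (Finset.add_sum_erase _ _ (Finset.mem_univ t)).symm
          omega
        · change (a t).val + 1 = _
          rw [hav, if_pos rfl]; omega
      by_cases hall : ∀ t : Fin d, (τ.1 t).val = t.val
      · exact ⟨d, fun t _ => hall t, fun t _ h => absurd h (not_le.2 t.isLt)⟩
      push Not at hall
      obtain ⟨t₁, ht₁⟩ := hall
      have hge : ∀ t : Fin d, t.val ≤ (τ.1 t).val := fun t =>
        Groth.Agent.W4bk4.Shuffle.val_le_apply τ.1 τ.2 t
      let S := Finset.univ.filter fun t : Fin d => (τ.1 t).val ≠ t.val
      have hS : S.Nonempty := ⟨t₁, by simp [S, ht₁]⟩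
      let s := S.min' hS
      have hs : (τ.1 s).val ≠ s.val := (Finset.mem_filter.1 (S.min'_mem hS)).2
      have hlow : ∀ t : Fin d, t.val < s.val → (τ.1 t).val = t.val := by
        intro t ht
        by_contra h
        have := S.min'_le t (by simp [S, h])
        exact absurd (Fin.le_def.1 this) (not_le.2 ht)
      refine ⟨s.val, hlow, fun t t' hst htt => ?_⟩
      by_contra hne
      have hlt : (τ.1 t).val < (τ.1 t').val := Fin.lt_def.1 (τ.2 (Fin.lt_def.2 (by omega)))
      obtain ⟨φ, hφ, hφs⟩ := hcorner s (lt_of_le_of_ne (hge s) (Ne.symm hs)) fun t'' h'' => by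
        have := hlow t'' (by omega)
        have := hge s
        omega
      obtain ⟨ψ, hψ, hψs⟩ := hcorner t' (by have := hge t; omega) fun t'' h'' => by
        have : t'' = t := Fin.ext (by omega)
        subst this; omega
      obtain rfl := hsub hφ hψ
      obtain ⟨c, hc, hc'⟩ := Groth.Agent.W4bk4.Levels.divisor_spec hφ
      have h1 : s = c := by
        by_contra h
        rw [hc' s h] at hφs; omega
      have h2 : t' = c := by
        by_contra h
        rw [hc' t' h] at hψs; omega
      have h3 := congrArg Fin.val (h1.trans h2.symm)
      omega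
    · rintro ⟨s, h1, h2⟩ φ hφ ψ hψ
      have hkey : ∀ χ ∈ divisors τ, ∀ t : Fin d, t.val ≠ s → χ.1 t = τ.1 t := by
        intro χ hχ t hts
        obtain ⟨c, hc, hc'⟩ := Groth.Agent.W4bk4.Levels.divisor_spec hχ
        refine hc' t fun htc => ?_
        subst htc
        rcases lt_or_gt_of_ne hts with h | h
        · have := h1 t h
          have := Groth.Agent.W4bk4.Shuffle.val_le_apply χ.1 χ.2 t
          omega
        · let p : Fin d := ⟨t.val - 1, by omega⟩
          have := h2 p t (show s ≤ t.val - 1 by omega) (show t.val - 1 + 1 = t.val by omega)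
          have hp := Fin.lt_def.1 (χ.2 (show p < t from Fin.lt_def.2 (show t.val - 1 < t.val by omega)))
          rw [hc' p (Fin.ne_of_val_ne (show t.val - 1 ≠ t.val by omega))] at hp
          omega
      obtain ⟨a, ha, ha'⟩ := Groth.Agent.W4bk4.Levels.divisor_spec hφ
      obtain ⟨b, hb, hb'⟩ := Groth.Agent.W4bk4.Levels.divisor_spec hψ
      have has : a.val = s := by
        by_contra h
        rw [hkey φ hφ a h] at ha; omega
      have hbs : b.val = s := by
        by_contra h
        rw [hkey ψ hψ b h] at hb; omega
      obtain rfl : a = b := Fin.ext (by omega)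
      refine Subtype.ext (funext fun x => Fin.ext ?_)
      by_cases hx : x = a
      · subst hx; omega
      · rw [ha' x hx, hb' x hx]

end Groth.Agent.S11260
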