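import Groth.Statements.S11261
import Groth.Agent.W4bk4.Richardson
-- import your own Groth.Agent.* helpers here

set_option autoImplicit false
universe u
open W4bk4grassmannian

namespace Groth.Agent.S11261

open W4bk4grassmannian in
/-- Shape of the straightening relations of a skew pair: let K be an algebraically closed field, 0 < d <
n, S = K[X_θ : θ ∈ I(d,n)] the Plücker polynomial ring on the strictly increasing maps Fin d → Fin n
ordered entrywise, and J ⊆ S the ideal of polynomials vanishing at the row-minors of every n × d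
matrix over K (the homogeneous ideal of G(d,n)). Let τ, φ ∈ I(d,n) be incomparable, with entrywise
maximum τ ∨ φ and minimum τ ∧ φ. Then there is a K-linear combination g of monomials X_α X_β with β
≤ α, τ ∨ φ < α and β < τ ∧ φ such that X_τ X_φ - X_{τ∨φ} X_{τ∧φ} - g lies in J. -/
theorem result (K : Type u) [Field K] [IsAlgClosed K] (d n : ℕ)
    (hd : 0 < d) (hdn : d < n) (τ φ : Idx d n) (h₁ : ¬ τ ≤ φ) (h₂ : ¬ φ ≤ τ) :
    ∃ g ∈ Submodule.span K {f : PlRing K d n | ∃ α β : Idx d n,
        β ≤ α ∧ W4bk4grassmannian.sup τ φ < α ∧ β < W4bk4grassmannian.inf τ φ ∧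
          f = MvPolynomial.X α * MvPolynomial.X β},
      MvPolynomial.X τ * MvPolynomial.X φ -
          MvPolynomial.X (W4bk4grassmannian.sup τ φ) * MvPolynomial.X (W4bk4grassmannian.inf τ φ) - g ∈
        vanishing K d n := by
  classical
  obtain ⟨l, hl, hone, hsupp⟩ :=
    Groth.Agent.W4bk4.Richardson.straightening_pattern (K := K) hd hdn τ φ
  set p := Groth.Agent.W4bk4.Richardson.pair (W4bk4grassmannian.sup τ φ)
    (W4bk4grassmannian.inf τ φ) (fun t => min_le_max (a := τ.1 t) (b := φ.1 t)) with hp
  have hpm : p ∈ l.support := by rw [Finsupp.mem_support_iff, hone]; exact one_ne_zero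
  refine ⟨∑ c ∈ l.support.erase p, l c • Groth.Agent.W4bk4.Basis.mon K c, sum_mem fun c hc => ?_, ?_⟩
  · refine Submodule.smul_mem _ _ (Submodule.subset_span ?_)
    obtain ⟨hne, hc'⟩ := Finset.mem_erase.1 hc
    obtain ⟨α, β, hle, rfl, hor⟩ := hsupp c hc'
    rcases hor with h' | ⟨hS, hI⟩
    · exact absurd h' hne
    · exact ⟨α, β, hle, hS, hI, Groth.Agent.W4bk4.Richardson.mon_pair K α β hle⟩
  · rw [Finsupp.linearCombination_apply, Finsupp.sum, ← Finset.add_sum_erase _ _ hpm, hone,
      one_smul, hp] at hl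
    have e : Groth.Agent.W4bk4.Basis.mon K p =
        MvPolynomial.X (W4bk4grassmannian.sup τ φ) * MvPolynomial.X (W4bk4grassmannian.inf τ φ) :=
      Groth.Agent.W4bk4.Richardson.mon_pair K _ _ _
    rw [sub_sub, ← e]
    exact hl

end Groth.Agent.S11261
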