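import Groth.Statements.S11262
import Mathlib.Algebra.Order.Antidiag.FinsuppEquiv
import Mathlib.RingTheory.MvPolynomial.Ideal
import Mathlib.LinearAlgebra.Dimension.Constructions
-- import your own Groth.Agent.* helpers here

set_option autoImplicit false
universe u v
open W4bk4grassmannian

namespace Groth.Agent.S11262

/-- Hilbert function of the Stanley–Reisner ring of a finite distributive lattice: let K be a field, L a
finite distributive lattice, R = K[x_α : α ∈ L], I ⊆ R the ideal generated by the products x_α x_β
over the incomparable (skew) pairs α, β, and m ≥ 1. Then the image in R/I of the homogeneous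
polynomials of degree m has K-dimension equal to the sum, over the nonempty chains C ⊆ L, of the
binomial coefficient (m - 1 choose |C| - 1). (The published statement is that the degree of R/I
equals the number of maximal chains of L; this row states the Hilbert function from which that
degree is read off.) -/
theorem result (K : Type u) [Field K] (L : Type v) [DistribLattice L]
    [Fintype L] (m : ℕ) (hm : 1 ≤ m) :
    Module.finrank K ((MvPolynomial.homogeneousSubmodule L K m).map
        (Ideal.Quotient.mkₐ K (Ideal.span {f : MvPolynomial L K | ∃ a b : L, ¬ a ≤ b ∧ ¬ b ≤ a ∧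
          f = MvPolynomial.X a * MvPolynomial.X b})).toLinearMap) =
      ∑ᶠ C : {C : Finset L // C.Nonempty ∧ IsChain (fun a b : L => a ≤ b) (↑C : Set L)},
        Nat.choose (m - 1) (C.1.card - 1) := by
  classical
  let S : Set (L →₀ ℕ) := {s | ∃ a b : L, ¬ a ≤ b ∧ ¬ b ≤ a ∧
    s = Finsupp.single a 1 + Finsupp.single b 1}
  set I : Ideal (MvPolynomial L K) := Ideal.span {f : MvPolynomial L K | ∃ a b : L, ¬ a ≤ b ∧ ¬ b ≤ a ∧
    f = MvPolynomial.X a * MvPolynomial.X b} with hI
  have hgen : I = Ideal.span ((fun s => MvPolynomial.monomial s (1 : K)) '' S) := by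
    rw [hI]; congr 1; ext f
    constructor
    · rintro ⟨a, b, h1, h2, rfl⟩
      exact ⟨_, ⟨a, b, h1, h2, rfl⟩, by simp [MvPolynomial.X, MvPolynomial.monomial_mul]⟩
    · rintro ⟨s, ⟨a, b, h1, h2, rfl⟩, rfl⟩
      exact ⟨a, b, h1, h2, by simp [MvPolynomial.X, MvPolynomial.monomial_mul]⟩
  let good : (L →₀ ℕ) → Prop := fun e => IsChain (fun a b : L => a ≤ b) (↑e.support : Set L)
  have hbad : ∀ e : L →₀ ℕ, (∃ s ∈ S, s ≤ e) ↔ ¬ good e := by
    intro e
    constructor
    · rintro ⟨s, ⟨a, b, h1, h2, rfl⟩, hle⟩ hg
      have hne : a ≠ b := fun h => h1 (h ▸ le_rfl)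
      have ha : a ∈ e.support := by
        have := hle a; simp [hne] at this
        rw [Finsupp.mem_support_iff]; omega
      have hb : b ∈ e.support := by
        have := hle b; simp [hne.symm] at this
        rw [Finsupp.mem_support_iff]; omega
      rcases hg ha hb hne with h | h
      exacts [h1 h, h2 h]
    · intro hg
      simp only [good, IsChain, Set.Pairwise] at hg
      push Not at hg
      obtain ⟨a, ha, b, hb, hne, h1, h2⟩ := hg
      refine ⟨_, ⟨a, b, h1, h2, rfl⟩, fun c => ?_⟩
      have ha' := Finsupp.mem_support_iff.1 ha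
      have hb' := Finsupp.mem_support_iff.1 hb
      by_cases hca : c = a
      · subst hca; simp [hne]; omega
      · by_cases hcb : c = b
        · subst hcb; simp [hne.symm]; omega
        · simp [Ne.symm hca, Ne.symm hcb]
  have hmem : ∀ x : MvPolynomial L K, x ∈ I ↔ ∀ e ∈ x.support, ¬ good e := by
    intro x
    rw [hgen, MvPolynomial.mem_ideal_span_monomial_image]
    exact forall₂_congr fun e _ => hbad e
  let G : Finset (L →₀ ℕ) := (Finset.univ.finsuppAntidiag m).filter good
  have hdeg : ∀ e : L →₀ ℕ, e ∈ Finset.univ.finsuppAntidiag m ↔ Finsupp.degree e = m := by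
    intro e
    rw [Finset.mem_finsuppAntidiag, Finsupp.degree_eq_sum]
    simp
  let v : G → MvPolynomial L K ⧸ I := fun e => Ideal.Quotient.mkₐ K I (MvPolynomial.monomial e.1 1)
  have hli : LinearIndependent K v := by
    rw [Fintype.linearIndependent_iff]
    intro c hc e
    have h0 : (∑ g : G, c g • MvPolynomial.monomial g.1 (1 : K)) ∈ I := by
      rw [← Ideal.Quotient.eq_zero_iff_mem, ← hc, ← Ideal.Quotient.mkₐ_eq_mk K, map_sum]
      simp [v, map_smul]
    by_contra hce
    refine (hmem _).1 h0 e.1 ?_ (Finset.mem_filter.1 e.2).2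
    rw [MvPolynomial.mem_support_iff, MvPolynomial.coeff_sum, Finset.sum_eq_single e]
    · simpa [MvPolynomial.coeff_smul] using hce
    · intro g _ hg
      simp [MvPolynomial.coeff_smul, MvPolynomial.coeff_monomial, Subtype.val_inj, hg]
    · simp
  have hspan : (MvPolynomial.homogeneousSubmodule L K m).map
      (Ideal.Quotient.mkₐ K I).toLinearMap = Submodule.span K (Set.range v) := by
    apply le_antisymm
    · rintro _ ⟨x, hx, rfl⟩
      rw [SetLike.mem_coe, MvPolynomial.mem_homogeneousSubmodule] at hx
      rw [← x.support_sum_monomial_coeff, map_sum]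
      refine sum_mem fun e he => ?_
      by_cases hg : good e
      · have hd : Finsupp.degree e = m := by
          rw [Finsupp.degree_apply]
          exact (hx.degree_eq_sum_deg_support he).symm
        have heG : e ∈ G := Finset.mem_filter.2 ⟨(hdeg e).2 hd, hg⟩
        have : MvPolynomial.monomial e (x.coeff e) = x.coeff e • MvPolynomial.monomial e (1 : K) := by
          simp [MvPolynomial.smul_monomial]
        rw [this, map_smul]
        exact Submodule.smul_mem _ _ (Submodule.subset_span ⟨⟨e, heG⟩, rfl⟩)
      · have h0 : MvPolynomial.monomial e (x.coeff e) ∈ I := by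
          rw [hmem]
          intro e' he'
          rwa [Finset.mem_singleton.1 (MvPolynomial.support_monomial_subset he')]
        change Ideal.Quotient.mk I _ ∈ _
        rw [Ideal.Quotient.eq_zero_iff_mem.2 h0]
        exact Submodule.zero_mem _
    · rw [Submodule.span_le]
      rintro _ ⟨e, rfl⟩
      refine ⟨_, ?_, rfl⟩
      rw [SetLike.mem_coe, MvPolynomial.mem_homogeneousSubmodule]
      exact MvPolynomial.isHomogeneous_monomial 1 ((hdeg e.1).1 (Finset.mem_filter.1 e.2).1)
  rw [hspan, finrank_span_eq_card hli, Fintype.card_coe, finsum_eq_sum_of_fintype]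
  let T : Finset (Finset L) := Finset.univ.filter fun C =>
    C.Nonempty ∧ IsChain (fun a b : L => a ≤ b) (↑C : Set L)
  rw [← Finset.sum_subtype T (fun C => by simp [T]) (fun C => Nat.choose (m - 1) (C.card - 1))]
  have hfib : ∀ e ∈ G, e.support ∈ T := by
    intro e he
    obtain ⟨he1, he2⟩ := Finset.mem_filter.1 he
    refine Finset.mem_filter.2 ⟨Finset.mem_univ _, ?_, he2⟩
    rw [Finsupp.support_nonempty_iff]
    rintro rfl
    have := (hdeg 0).1 he1
    simp at this
    omega
  rw [Finset.card_eq_sum_card_fiberwise hfib]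
  refine Finset.sum_congr rfl fun C hC => ?_
  obtain ⟨-, hCne, hCch⟩ := Finset.mem_filter.1 hC
  have hc1 : 1 ≤ C.card := hCne.card_pos
  have hfilt : G.filter (fun e => e.support = C) =
      (Finset.univ.finsuppAntidiag m).filter (fun e : L →₀ ℕ => e.support = C) := by
    ext e
    simp only [G, Finset.mem_filter]
    constructor
    · rintro ⟨⟨h1, -⟩, h3⟩; exact ⟨h1, h3⟩
    · rintro ⟨h1, h3⟩; exact ⟨⟨h1, by simpa [good, h3] using hCch⟩, h3⟩
  rw [hfilt]
  have hsupsum : ∀ (e : L →₀ ℕ), e.support ⊆ C → Finsupp.degree e = ∑ i ∈ C, e i := by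
    intro e he
    rw [Finsupp.degree_apply]
    exact Finset.sum_subset he fun i _ hi => Finsupp.notMem_support_iff.1 hi
  by_cases hcm : C.card ≤ m
  swap
  · rw [Nat.choose_eq_zero_of_lt (by omega), Finset.card_eq_zero, Finset.filter_eq_empty_iff]
    intro e he hsupp
    have h1 := hsupsum e hsupp.le
    rw [(hdeg e).1 he] at h1
    have h2 : ∑ i ∈ C, 1 ≤ ∑ i ∈ C, e i :=
      Finset.sum_le_sum fun i hi => Nat.one_le_iff_ne_zero.2 (Finsupp.mem_support_iff.1 (hsupp ▸ hi))
    simp at h2
    omega
  let one : L →₀ ℕ := Finsupp.indicator C fun _ _ => 1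
  have hone : ∀ i, one i = if i ∈ C then 1 else 0 := fun i => by simp [one, Finsupp.indicator_apply]
  trans (C.finsuppAntidiag (m - C.card)).card
  · refine Finset.card_nbij' (fun e => e - one) (fun e => e + one) ?_ ?_ ?_ ?_
    · intro e he
      obtain ⟨he1, he2⟩ := Finset.mem_filter.1 he
      refine Finset.mem_finsuppAntidiag.2 ⟨?_, ?_⟩
      · have h1 := hsupsum e he2.le
        rw [(hdeg e).1 he1] at h1
        rw [Finset.sum_congr rfl (g := fun i => e i - 1) (fun i hi => by simp [hone, hi]),
          Finset.sum_tsub_distrib, ← h1]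
        · simp
        · intro i hi
          exact Nat.one_le_iff_ne_zero.2 (Finsupp.mem_support_iff.1 (he2 ▸ hi))
      · intro i hi
        simp only [Finsupp.mem_support_iff, Finsupp.tsub_apply] at hi
        rw [← he2, Finsupp.mem_support_iff]
        omega
    · intro e he
      obtain ⟨he1, he2⟩ := Finset.mem_finsuppAntidiag.1 he
      have hsupp : (e + one).support = C := by
        ext i
        by_cases hi : i ∈ C
        · simp [hone, hi]
        · simp [hone, hi, Finsupp.notMem_support_iff.1 (fun h => hi (he2 h))]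
      refine Finset.mem_filter.2 ⟨(hdeg _).2 ?_, hsupp⟩
      rw [hsupsum _ hsupp.le, Finset.sum_congr rfl (g := fun i => e i + 1)
        (fun i hi => by simp [hone, hi]), Finset.sum_add_distrib, he1]
      simp; omega
    · intro e he
      obtain ⟨-, he2⟩ := Finset.mem_filter.1 he
      ext i
      by_cases hi : i ∈ C
      · have := Nat.one_le_iff_ne_zero.2 (Finsupp.mem_support_iff.1 (he2 ▸ hi))
        simp [hone, hi]; omega
      · simp [hone, hi]
    · intro e _
      ext i
      simp
  · rw [Finset.card_finsuppAntidiag_nat_eq_choose,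
      show C.card + (m - C.card) - 1 = m - 1 by omega]
    rw [← Nat.choose_symm (show C.card - 1 ≤ m - 1 by omega),
      show m - 1 - (C.card - 1) = m - C.card by omega]

end Groth.Agent.S11262
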