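import Groth.Statements.S11263
import Groth.Agent.W4bk4.Bottom
import Mathlib.RingTheory.Adjoin.Polynomial.Basic
-- import your own Groth.Agent.* helpers here

set_option autoImplicit false
universe u
open W4bk4grassmannian

namespace Groth.Agent.S11263

open W4bk4grassmannian in
/-- First Fundamental Theorem of invariant theory for the special linear group acting on matrices by
right multiplication: let K be an algebraically closed field, 0 < d < n, and R = K[x_{ij}] the
coordinate ring of n × d matrices, on which g ∈ SL_d(K) acts by (g • f)(A) = f(A g). Then f ∈ R is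
fixed by every g ∈ SL_d(K) if and only if f belongs to the K-subalgebra of R generated by the d × d
minors on the rows θ ∈ I(d,n). -/
theorem result (K : Type u) [Field K] [IsAlgClosed K] (d n : ℕ)
    (hd : 0 < d) (hdn : d < n) (f : MatRing K d n) :
    (∀ g : Matrix.SpecialLinearGroup (Fin d) K, rightTranslate K d n g f = f) ↔
      f ∈ Algebra.adjoin K (Set.range fun θ : Idx d n => minor K d n θ.1) := by
  classical
  have hrange : Algebra.adjoin K (Set.range fun θ : Idx d n => minor K d n θ.1) =
      (pluckerMap K d n).range := Algebra.adjoin_range_eq_range_aeval K _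
  rw [hrange]
  constructor
  swap
  · rintro ⟨h, rfl⟩ g
    change rightTranslate K d n g (pluckerMap K d n h) = pluckerMap K d n h
    rw [← AlgHom.comp_apply]
    congr 1
    refine MvPolynomial.algHom_ext fun θ => ?_
    simp only [AlgHom.comp_apply, pluckerMap, MvPolynomial.aeval_X]
    have e : (rightTranslate K d n g).mapMatrix
        (Matrix.of fun s t : Fin d => (MvPolynomial.X (θ.1 s, t) : MatRing K d n)) =
        (Matrix.of fun s t : Fin d => (MvPolynomial.X (θ.1 s, t) : MatRing K d n)) *
          ((g : Matrix (Fin d) (Fin d) K).map MvPolynomial.C) := by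
      ext s t : 1
      simp [rightTranslate, Matrix.mul_apply]
    have hg : ((g : Matrix (Fin d) (Fin d) K).map
        (MvPolynomial.C : K →+* MatRing K d n)).det = 1 := by
      rw [← RingHom.mapMatrix_apply, ← RingHom.map_det, g.2, map_one]
    rw [minor, AlgHom.map_det, e, Matrix.det_mul, hg, mul_one]
  intro hf
  let bot := Groth.Agent.W4bk4.Bottom.botIdx (d := d) hdn.le
  let z : Fin d := ⟨0, hd⟩
  let cnt : ((Fin n × Fin d) →₀ ℕ) → ℕ := fun e => ∑ p ∈ e.support, if p.2 = z then 0 else e p
  let N := f.support.sup cnt
  let G : PlRing K d n := ∑ e ∈ f.support, f.coeff e •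
    ((∏ p ∈ e.support, coord K d n (Function.update bot.1 p.2 p.1) ^ e p) *
      MvPolynomial.X bot ^ (N - cnt e))
  have key : pluckerMap K d n G = minor K d n bot.1 ^ N * f := by
    have hmb : pluckerMap K d n (MvPolynomial.X bot) = minor K d n bot.1 := by simp [pluckerMap]
    have hne : minor K d n bot.1 ≠ 0 := by
      intro h0
      have := congrArg
        (MvPolynomial.eval fun p : Fin n × Fin d => if p.1.val = p.2.val then (1 : K) else 0) h0
      rw [Groth.Agent.W4bk4.Bottom.eval_minor, map_zero] at this
      have h1 : (Matrix.of fun (i : Fin n) (t : Fin d) => if i.val = t.val then (1 : K) else 0).submatrix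
          bot.1 id = 1 := by
        ext s t
        simp [bot, Groth.Agent.W4bk4.Bottom.botIdx, Matrix.one_apply, Fin.ext_iff]
      rw [h1, Matrix.det_one] at this
      exact one_ne_zero this
    refine mul_left_cancel₀ hne (MvPolynomial.funext fun v => ?_)
    rw [map_mul, map_mul]
    by_cases hδ : MvPolynomial.eval v (minor K d n bot.1) = 0
    · rw [hδ, zero_mul, zero_mul]
    congr 1
    let A : Matrix (Fin n) (Fin d) K := Matrix.of fun i t => v (i, t)
    set δ := MvPolynomial.eval v (minor K d n bot.1) with hδdef
    have hδA : δ = (A.submatrix bot.1 id).det := Groth.Agent.W4bk4.Bottom.eval_minor K v bot.1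
    let Ab : Matrix (Fin d) (Fin d) K := A.submatrix bot.1 id
    let w : Fin d → K := fun t => if t = z then δ else 1
    have hAb : Ab.det ≠ 0 := by rw [← hδA]; exact hδ
    have hdet : (Ab⁻¹ * Matrix.diagonal w).det = 1 := by
      rw [Matrix.det_mul, Matrix.det_nonsing_inv, Matrix.det_diagonal, Ring.inverse_eq_inv']
      simp only [w, Finset.prod_ite_eq', Finset.mem_univ, if_true]
      rw [hδA]
      exact inv_mul_cancel₀ hAb
    have hinv := congrArg (MvPolynomial.eval v) (hf ⟨_, hdet⟩)
    simp only [rightTranslate, MvPolynomial.map_aeval] at hinv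
    let q : Fin n × Fin d → K := fun p => MvPolynomial.eval v
      (pluckerMap K d n (coord K d n (Function.update bot.1 p.2 p.1)))
    have hq : ∀ i t, (A * Ab⁻¹) i t = q (i, t) / δ := by
      intro i t
      have e1 : q (i, t) = (A.submatrix (Function.update bot.1 t i) id).det := by
        simp only [q]
        rw [Groth.Agent.W4bk4.Bottom.eval_pluckerMap,
          Groth.Agent.W4bk4.Plucker.evalMinors_coord]
      have e2 : A.submatrix (Function.update bot.1 t i) id = Ab.updateRow t (A i) := by
        ext a b
        by_cases ha : a = t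
        · subst ha; simp
        · simp [Matrix.updateRow_ne ha, Function.update_of_ne ha, Ab]
      rw [e1, e2, ← Matrix.cramer_transpose_apply, Matrix.cramer_eq_adjugate_mulVec,
        ← Matrix.adjugate_transpose, Matrix.mulVec_transpose, Matrix.inv_def, Ring.inverse_eq_inv',
        hδA]
      rw [Matrix.mul_smul, Matrix.smul_apply, smul_eq_mul, div_eq_inv_mul]
      rfl
    have hev : MvPolynomial.eval v f =
        MvPolynomial.eval (fun p => q p * (if p.2 = z then 1 else δ⁻¹)) f := by
      rw [← hinv]
      refine MvPolynomial.eval₂Hom_congr (RingHom.ext fun a => by simp) (funext fun p => ?_) rfl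
      have : MvPolynomial.eval v (Finset.univ.sum fun k : Fin d => MvPolynomial.X (p.1, k) *
          MvPolynomial.C ((Ab⁻¹ * Matrix.diagonal w : Matrix (Fin d) (Fin d) K) k p.2)) =
          (A * (Ab⁻¹ * Matrix.diagonal w)) p.1 p.2 := by
        simp [Matrix.mul_apply, A]
      rw [this, ← Matrix.mul_assoc, Matrix.mul_diagonal, hq]
      by_cases hp : p.2 = z
      · simp only [w, hp, if_true]
        rw [div_mul_cancel₀ _ hδ, mul_one, ← hp]
      · simp only [w, hp, if_false]
        rw [mul_one, div_eq_mul_inv]
    rw [map_mul, map_pow, ← hδdef, hev, map_sum, map_sum,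
      MvPolynomial.eval_eq (fun p => q p * if p.2 = z then 1 else δ⁻¹), Finset.mul_sum]
    refine Finset.sum_congr rfl fun e he => ?_
    rw [map_smul, MvPolynomial.smul_eval, map_mul, map_mul, map_pow, map_pow, hmb, ← hδdef,
      map_prod, map_prod]
    have hsplit : ∏ p ∈ e.support, (q p * (if p.2 = z then 1 else δ⁻¹)) ^ e p =
        (∏ p ∈ e.support, q p ^ e p) * (δ⁻¹) ^ cnt e := by
      simp only [cnt]
      rw [← Finset.prod_pow_eq_pow_sum, ← Finset.prod_mul_distrib]
      refine Finset.prod_congr rfl fun p _ => ?_
      by_cases hp : p.2 = z <;> simp [hp, mul_pow]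
    rw [hsplit]
    have hN : cnt e ≤ N := Finset.le_sup he
    simp only [map_pow, q]
    rw [inv_pow, pow_sub₀ _ hδ hN]
    ring
  suffices h : ∀ (M : ℕ) (G : PlRing K d n) (f : MatRing K d n),
      pluckerMap K d n G = minor K d n bot.1 ^ M * f → ∃ g, pluckerMap K d n g = f from h N G f key
  intro M
  induction M with
  | zero => intro G f h; exact ⟨G, by simpa using h⟩
  | succ M ih =>
    intro G f h
    rw [pow_succ', mul_assoc] at h
    obtain ⟨g', hg'⟩ := Groth.Agent.W4bk4.Bottom.exists_div_bot hd hdn.le G _ h
    exact ih g' f hg'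

end Groth.Agent.S11263
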