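import Groth.Statements.S11267
import Groth.Agent.W4bk4.Det
-- import your own Groth.Agent.* helpers here

set_option autoImplicit false
universe u
open W4bk4grassmannian MvPolynomial

namespace Groth.Agent.S11267

open W4bk4grassmannian in
/-- Second Fundamental Theorem of invariant theory for the general linear group acting on pairs of
matrices: let K be an algebraically closed field and m, n, q natural numbers. The kernel of the
K-algebra map K[y_{ij}] → K[u_{ik}, ξ_{kj}] (coordinate rings of M_{m,q} and of M_{m,n} × M_{n,q})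
sending y_{ij} to Σ_k u_{ik} ξ_{kj}, the (i, j) entry of the product matrix, is the ideal generated
by the (n + 1) × (n + 1) minors of the generic m × q matrix (y_{ij}). -/
theorem result (K : Type u) [Field K] [IsAlgClosed K] (m n q : ℕ) :
    RingHom.ker (pairingMap K n m q).toRingHom = CAlgX.minorIdeal (genMatrix K m q) (n + 1) := by
  classical
  have hle : CAlgX.minorIdeal (genMatrix K m q) (n + 1) ≤ RingHom.ker (pairingMap K n m q).toRingHom := by
    rw [CAlgX.minorIdeal, Ideal.span_le]
    rintro _ ⟨⟨f, g⟩, rfl⟩
    change pairingMap K n m q ((genMatrix K m q).submatrix f g).det = 0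
    rw [AlgHom.map_det]
    let U : Matrix (Fin (n + 1)) (Fin (n + 1)) (PairRing K n m q) :=
      Matrix.of fun i k => if h : k.val < n then X (Sum.inl (f i, ⟨k.val, h⟩)) else 0
    let W : Matrix (Fin (n + 1)) (Fin (n + 1)) (PairRing K n m q) :=
      Matrix.of fun k j => if h : k.val < n then X (Sum.inr (⟨k.val, h⟩, g j)) else 0
    have h1 : (pairingMap K n m q).mapMatrix ((genMatrix K m q).submatrix f g) = U * W := by
      refine Matrix.ext fun i j => ?_
      rw [Matrix.mul_apply, Fin.sum_univ_castSucc]
      simp [U, W, pairingMap, genMatrix]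
    rw [h1, Matrix.det_mul, Matrix.det_eq_zero_of_column_eq_zero (Fin.last n) (fun i => by simp [U]),
      zero_mul]
  refine le_antisymm ?_ hle
  rcases Nat.eq_zero_or_pos (min m q) with h0 | h0
  · intro f hf
    have : IsEmpty (Fin m × Fin q) := by
      rcases Nat.min_eq_zero_iff.1 h0 with h | h <;> subst h <;> infer_instance
    rw [MvPolynomial.eq_C_of_isEmpty f] at hf ⊢
    change pairingMap K n m q (C _) = 0 at hf
    simp only [pairingMap, aeval_C, MvPolynomial.algebraMap_eq, C_eq_zero] at hf
    rw [hf, map_zero]; exact zero_mem _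
  intro f hf
  change pairingMap K n m q f = 0 at hf
  set t := min (n + 1) (min m q + 1) with htdef
  have ht : 1 ≤ t := by omega
  have hq : 0 < q := by omega
  have htr : t ≤ m + 1 := by omega
  have htd : t ≤ q + 1 := by omega
  let w : Idx q (q + m) := Groth.Agent.W4bk4.Det.wIdx t ht htr
  let b : Idx q (q + m) := Groth.Agent.W4bk4.Bottom.botIdx (Nat.le_add_right q m)
  haveI := Groth.Agent.W4bk4.Schubert.schubertVanishing_isPrime K hq w
  have hbJ := Groth.Agent.W4bk4.Opp.bot_notMem K hq (Nat.le_add_right q m) w
  obtain ⟨P, rfl⟩ := Groth.Agent.W4bk4.Det.cmap_surjective K f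
  obtain ⟨G, hG, hPG, -⟩ := Groth.Agent.W4bk4.Dehom.exists_homogenize
    (schubertVanishing K q (q + m) w) (X b) (isHomogeneous_X K _) hbJ P P.totalDegree le_rfl
  have hfG : Groth.Agent.W4bk4.Det.cmap q m K G = Groth.Agent.W4bk4.Det.cmap q m K P := by
    obtain ⟨c, hc⟩ := Ideal.mem_span_singleton'.1 hPG
    have := congrArg (Groth.Agent.W4bk4.Det.cmap q m K) hc
    rw [map_mul, map_sub, map_sub, Groth.Agent.W4bk4.Det.cmap_bot, map_one, sub_self, mul_zero] at this
    exact (sub_eq_zero.1 this.symm).symm
  rw [← hfG] at hf ⊢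
  -- rank factorisation
  have hrank : ∀ Z : Matrix (Fin m) (Fin q) K,
      (∀ (f : Fin t → Fin m) (g : Fin t → Fin q), (Z.submatrix f g).det = 0) →
      ∃ (U : Matrix (Fin m) (Fin n) K) (W : Matrix (Fin n) (Fin q) K), Z = U * W := by
    intro Z hZ
    obtain ⟨κ, a, ha, hspan, hli⟩ := exists_linearIndependent' K Z.row
    haveI : Fintype κ := Fintype.ofInjective a ha
    have hcard : Fintype.card κ ≤ n := by
      by_contra hc
      have h1 : Fintype.card κ ≤ m := by simpa using Fintype.card_le_of_injective a ha
      have h2 : Fintype.card κ ≤ q := by simpa using hli.fintype_card_le_finrank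
      have htk : t ≤ Fintype.card κ := by omega
      let ι : Fin t → κ := fun i => (Fintype.equivFin κ).symm (Fin.castLE htk i)
      have hι : Function.Injective ι :=
        (Fintype.equivFin κ).symm.injective.comp (Fin.castLE_injective htk)
      let B : Matrix (Fin q) (Fin t) K := Matrix.of fun j i => Z (a (ι i)) j
      obtain ⟨θ, hθ⟩ := (Groth.Agent.W4bk4.Plucker.linearIndependent_cols_iff_exists_minor B).1
        (hli.comp ι hι)
      refine hθ ?_
      rw [← hZ (a ∘ ι) θ.1, ← Matrix.det_transpose]
      rfl
    let e : κ → Fin n := fun x => Fin.castLE hcard (Fintype.equivFin κ x)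
    have he : Function.Injective e := (Fin.castLE_injective hcard).comp (Fintype.equivFin κ).injective
    have hrow : ∀ i, ∃ c : κ → K, ∑ x, c x • Z.row (a x) = Z.row i := fun i =>
      (Submodule.mem_span_range_iff_exists_fun K).1
        (hspan ▸ Submodule.subset_span ⟨i, rfl⟩ : Z.row i ∈ Submodule.span K (Set.range (Z.row ∘ a)))
    choose c hc using hrow
    refine ⟨Matrix.of fun i k => Function.extend e (c i) 0 k,
      Matrix.of fun k j => Function.extend e (fun x => Z (a x) j) 0 k, Matrix.ext fun i j => ?_⟩
    rw [Matrix.mul_apply]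
    simp only [Matrix.of_apply]
    rw [← Finset.sum_subset (Finset.subset_univ (Finset.univ.image e)),
      Finset.sum_image he.injOn]
    · simp only [he.extend_apply]
      have := congrFun (hc i) j
      simp only [Finset.sum_apply, Pi.smul_apply, smul_eq_mul, Matrix.row] at this
      exact this.symm
    · intro k _ hk
      rw [Function.extend_apply' _ _ _ (fun ⟨x, hx⟩ => hk (Finset.mem_image.2 ⟨x, Finset.mem_univ _, hx⟩))]
      simp
  have hGJ : G ∈ schubertVanishing K q (q + m) w := by
    refine (Ideal.IsPrime.mem_or_mem (inferInstance : (schubertVanishing K q (q + m) w).IsPrime) ?_).resolve_left hbJ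
    simp only [schubertVanishing, Ideal.mem_iInf]
    intro A hA
    change evalMinors K q (q + m) A (X b * G) = 0
    have hX : ∀ φ : Idx q (q + m), evalMinors K q (q + m) A (X φ) = (A.submatrix φ.1 id).det := fun φ => by
      simp [evalMinors]
    rw [map_mul, hX]
    by_cases hδ : (A.submatrix b.1 id).det = 0
    · rw [hδ, zero_mul]
    refine mul_eq_zero_of_right _ ?_
    let A0 := A.submatrix b.1 id
    let A' := A * A0⁻¹
    have hA' : ∀ a : Fin q → Fin (q + m),
        (A.submatrix a id).det = (A'.submatrix a id).det * A0.det := by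
      intro a
      rw [show A'.submatrix a id = A.submatrix a id * A0⁻¹ from
        (Matrix.submatrix_mul A A0⁻¹ a id id Function.bijective_id).trans (by simp),
        Matrix.det_mul, Matrix.det_nonsing_inv, Ring.inverse_eq_inv', mul_assoc,
        inv_mul_cancel₀ hδ, mul_one]
    have h1 : A'.submatrix b.1 id = 1 := by
      rw [show A'.submatrix b.1 id = A0 * A0⁻¹ from
        (Matrix.submatrix_mul A A0⁻¹ b.1 id id Function.bijective_id).trans (by simp [A0]),
        Matrix.mul_nonsing_inv _ (isUnit_iff_ne_zero.2 hδ)]
    let Z : Matrix (Fin m) (Fin q) K := Matrix.of fun i j => A' (Fin.natAdd q i.rev) j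
    let ev : CellRing K q m →ₐ[K] K := aeval fun p => Z p.1 p.2
    have hev : (ev.comp (Groth.Agent.W4bk4.Det.cmap q m K)) = evalMinors K q (q + m) A' := by
      refine MvPolynomial.algHom_ext fun φ => ?_
      rw [AlgHom.comp_apply, Groth.Agent.W4bk4.Det.cmap, aeval_X, AlgHom.map_det, evalMinors, aeval_X]
      refine congrArg Matrix.det (Matrix.ext fun s u => ?_)
      simp only [AlgHom.mapMatrix_apply, Matrix.map_apply, Matrix.submatrix_apply, id_eq]
      generalize φ.1 s = i
      induction i using Fin.addCases with
      | left s =>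
        rw [Groth.Agent.W4bk4.Det.cmat_top]
        have := congrFun (congrFun h1 s) u
        simp only [Matrix.submatrix_apply, id_eq] at this
        rw [show Fin.castAdd m s = b.1 s from rfl, this, Matrix.one_apply]
        split <;> simp
      | right i =>
        rw [Groth.Agent.W4bk4.Det.cmat_bot]
        simp [ev, Z]
    have hminor : ∀ g ∈ CAlgX.minorIdeal (genMatrix K m q) t, ev g = 0 := by
      rw [← Groth.Agent.W4bk4.Det.cellIdeal_wIdx K t hq ht htr htd]
      suffices Groth.Agent.W4bk4.Det.cellIdeal K w ≤ RingHom.ker ev.toRingHom from fun g hg => this hg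
      rw [Groth.Agent.W4bk4.Det.cellIdeal, Ideal.span_le]
      rintro _ ⟨φ, hφ, rfl⟩
      change (ev.comp (Groth.Agent.W4bk4.Det.cmap q m K)) (X φ) = 0
      rw [hev, evalMinors, aeval_X]
      have h2 := hA' φ.1
      rw [hA φ hφ] at h2
      exact (mul_eq_zero.1 h2.symm).resolve_right hδ
    obtain ⟨U, W, hUW⟩ := hrank Z fun f g => by
      have h3 := hminor _ (Ideal.subset_span ⟨(f, g), rfl⟩)
      simp only [AlgHom.map_det] at h3
      rw [← h3]
      refine congrArg Matrix.det (Matrix.ext fun i j => ?_)
      simp [ev, genMatrix]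
    -- evaluate
    let evp : PairRing K n m q →ₐ[K] K :=
      aeval (Sum.elim (fun p => U p.1 p.2) fun p => W p.1 p.2)
    have hevp : evp.comp (pairingMap K n m q) = ev := by
      refine MvPolynomial.algHom_ext fun p => ?_
      simp [evp, ev, pairingMap, hUW, Matrix.mul_apply]
    have h4 : evalMinors K q (q + m) A' G = 0 := by
      rw [← hev, AlgHom.comp_apply, ← hevp, AlgHom.comp_apply, hf, map_zero]
    have h5 : evalMinors K q (q + m) A G = A0.det ^ P.totalDegree * evalMinors K q (q + m) A' G := by
      rw [← G.support_sum_monomial_coeff, map_sum, map_sum, Finset.mul_sum]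
      refine Finset.sum_congr rfl fun e he => ?_
      have hk : e.sum (fun _ a => a) = P.totalDegree := by
        rw [hG.degree_eq_sum_deg_support he]; rfl
      simp only [evalMinors, aeval_monomial, Finsupp.prod]
      rw [← hk, Finsupp.sum, ← Finset.prod_pow_eq_pow_sum, mul_left_comm (∏ x ∈ e.support, A0.det ^ e x),
        ← Finset.prod_mul_distrib]
      congr 1
      refine Finset.prod_congr rfl fun φ _ => ?_
      rw [hA' φ.1, mul_pow, mul_comm]
    rw [h5, h4, mul_zero]
  have hmem : Groth.Agent.W4bk4.Det.cmap q m K G ∈ CAlgX.minorIdeal (genMatrix K m q) t := by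
    rw [← Groth.Agent.W4bk4.Det.cellIdeal_wIdx K t hq ht htr htd, Groth.Agent.W4bk4.Det.ker_cmap K hq]
    exact Ideal.mem_sup_left hGJ
  by_cases hn : n + 1 ≤ min m q + 1
  · rwa [show t = n + 1 by omega] at hmem
  · have hbot : CAlgX.minorIdeal (genMatrix K m q) t = ⊥ := by
      rw [CAlgX.minorIdeal, Ideal.span_eq_bot]
      rintro _ ⟨⟨f, g⟩, rfl⟩
      by_cases hf : Function.Injective f
      swap
      · obtain ⟨x, y, hxy, hne⟩ := Function.not_injective_iff.1 hf
        exact Matrix.det_zero_of_row_eq hne (funext fun c => by simp [hxy])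
      by_cases hg : Function.Injective g
      swap
      · obtain ⟨x, y, hxy, hne⟩ := Function.not_injective_iff.1 hg
        exact Matrix.det_zero_of_column_eq hne (fun c => by simp [hxy])
      have := Fintype.card_le_of_injective f hf
      have := Fintype.card_le_of_injective g hg
      simp at *
      omega
    rw [hbot, Ideal.mem_bot] at hmem
    rw [hmem]; exact zero_mem _

end Groth.Agent.S11267
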