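import Groth.Statements.S11266
import Groth.Agent.S11267
import Groth.Agent.W4bk4.Points
-- import your own Groth.Agent.* helpers here

set_option autoImplicit false
universe u
open W4bk4grassmannian MvPolynomial Matrix

namespace Groth.Agent.S11266

variable {K : Type u} [Field K] {m n q : ℕ}

/-- evaluation at a pair of matrices -/
noncomputable def evp (U : Matrix (Fin m) (Fin n) K) (W : Matrix (Fin n) (Fin q) K) :
    PairRing K n m q →ₐ[K] K :=
  aeval (Sum.elim (fun p => U p.1 p.2) fun p => W p.1 p.2)

theorem evp_translate (U : Matrix (Fin m) (Fin n) K) (W : Matrix (Fin n) (Fin q) K) (A : GL (Fin n) K)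
    (f : PairRing K n m q) :
    evp U W (glTranslate K n m q A f) =
      evp (U * ((A⁻¹ : GL (Fin n) K) : Matrix (Fin n) (Fin n) K)) ((A : Matrix (Fin n) (Fin n) K) * W) f := by
  refine AlgHom.congr_fun (φ₁ := (evp U W).comp (glTranslate K n m q A)) ?_ f
  refine MvPolynomial.algHom_ext fun x => ?_
  cases x <;> simp [evp, glTranslate, Matrix.mul_apply]

theorem evp_pairing (U : Matrix (Fin m) (Fin n) K) (W : Matrix (Fin n) (Fin q) K)
    (P : MvPolynomial (Fin m × Fin q) K) :
    evp U W (pairingMap K n m q P) = W4bk4.Points.ev K (U * W) P := by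
  refine AlgHom.congr_fun (φ₁ := (evp U W).comp (pairingMap K n m q)) ?_ P
  refine MvPolynomial.algHom_ext fun x => ?_
  simp [evp, pairingMap, W4bk4.Points.ev, Matrix.mul_apply]

theorem eval_eq_evp (v : (Fin m × Fin n) ⊕ (Fin n × Fin q) → K) (g : PairRing K n m q) :
    MvPolynomial.eval v g = evp (Matrix.of fun i k => v (Sum.inl (i, k)))
      (Matrix.of fun k j => v (Sum.inr (k, j))) g := by
  rw [evp, aeval_def, Algebra.algebraMap_self]
  refine eval₂Hom_congr (f₁ := RingHom.id K) (f₂ := RingHom.id K) rfl (funext fun x => ?_) rfl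
  cases x <;> rfl

theorem rank_factor (Z : Matrix (Fin m) (Fin q) K)
    (hZ : ∀ (f : Fin (n + 1) → Fin m) (g : Fin (n + 1) → Fin q), (Z.submatrix f g).det = 0) :
    ∃ (U : Matrix (Fin m) (Fin n) K) (W : Matrix (Fin n) (Fin q) K), Z = U * W := by
  classical
  obtain ⟨κ, a, ha, hspan, hli⟩ := exists_linearIndependent' K Z.row
  haveI : Fintype κ := Fintype.ofInjective a ha
  have hcard : Fintype.card κ ≤ n := by
    by_contra hc
    have htk : n + 1 ≤ Fintype.card κ := by omega
    let ι : Fin (n + 1) → κ := fun i => (Fintype.equivFin κ).symm (Fin.castLE htk i)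
    have hι : Function.Injective ι :=
      (Fintype.equivFin κ).symm.injective.comp (Fin.castLE_injective htk)
    let B : Matrix (Fin q) (Fin (n + 1)) K := Matrix.of fun j i => Z (a (ι i)) j
    obtain ⟨θ, hθ⟩ := (Groth.Agent.W4bk4.Plucker.linearIndependent_cols_iff_exists_minor B).1
      (hli.comp ι hι)
    refine hθ ?_
    rw [← hZ (a ∘ ι) θ.1, ← Matrix.det_transpose]
    rfl
  let e : κ → Fin n := fun x => Fin.castLE hcard (Fintype.equivFin κ x)
  have he : Function.Injective e := (Fin.castLE_injective hcard).comp (Fintype.equivFin κ).injective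
  have hrow : ∀ i, ∃ c : κ → K, ∑ x, c x • Z.row (a x) = Z.row i := fun i =>
    (Submodule.mem_span_range_iff_exists_fun K).1
      (hspan ▸ Submodule.subset_span ⟨i, rfl⟩ : Z.row i ∈ Submodule.span K (Set.range (Z.row ∘ a)))
  choose c hc using hrow
  refine ⟨Matrix.of fun i k => Function.extend e (c i) 0 k,
    Matrix.of fun k j => Function.extend e (fun x => Z (a x) j) 0 k, Matrix.ext fun i j => ?_⟩
  rw [Matrix.mul_apply]
  simp only [Matrix.of_apply]
  rw [← Finset.sum_subset (Finset.subset_univ (Finset.univ.image e)),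
    Finset.sum_image he.injOn]
  · simp only [he.extend_apply]
    have := congrFun (hc i) j
    simp only [Finset.sum_apply, Pi.smul_apply, smul_eq_mul, Matrix.row] at this
    exact this.symm
  · intro k _ hk
    rw [Function.extend_apply' _ _ _ (fun ⟨x, hx⟩ => hk (Finset.mem_image.2 ⟨x, Finset.mem_univ _, hx⟩))]
    simp

/-- invariants, when `n` is at most both sizes -/
theorem big [IsAlgClosed K] {k : ℕ} (hm : k + 1 ≤ m) (hq : k + 1 ≤ q)
    (f : PairRing K (k + 1) m q) (hf : ∀ A : GL (Fin (k + 1)) K, glTranslate K (k + 1) m q A f = f) :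
    f ∈ (pairingMap K (k + 1) m q).range := by
  classical
  let cI : Fin (k + 1) → Fin m := Fin.castLE hm
  let cJ : Fin (k + 1) → Fin q := Fin.castLE hq
  let M : MinorIdx m q := ⟨k, ⟨cI, Fin.strictMono_castLE hm⟩, ⟨cJ, Fin.strictMono_castLE hq⟩⟩
  let G := genMatrix K m q
  let Δ : MvPolynomial (Fin m × Fin q) K := (G.submatrix cI cJ).det
  have hq0 : 0 < q := by omega
  have ht : 1 ≤ k + 1 + 1 := by omega
  let w : Idx q (q + m) := W4bk4.Det.wIdx (k + 1 + 1) ht (by omega)
  have hwne : w ≠ W4bk4.Bottom.botIdx (Nat.le_add_right q m) := by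
    intro h
    have h1 := (W4bk4.Tableau.idx_le_wIdx (k + 1 + 1) hq0 ht (by omega) (by omega) M).2 le_rfl
    change W4bk4.Tableau.idx M ≤ w at h1
    rw [h] at h1
    exact W4bk4.Tableau.idx_ne_bot M (le_antisymm h1 (W4bk4.Bottom.botIdx_le _ _))
  have hwM : W4bk4.Tableau.idx M = w := by
    refine le_antisymm ((W4bk4.Tableau.idx_le_wIdx (k + 1 + 1) hq0 ht (by omega) (by omega) M).2 le_rfl) ?_
    obtain ⟨M', hM'⟩ := W4bk4.Tableau.exists_idx w hwne
    rw [← hM']
    have hsize := (W4bk4.Tableau.idx_le_wIdx (k + 1 + 1) hq0 ht (by omega) (by omega) M').1 hM'.le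
    refine (W4bk4.Tableau.minorGE_iff _ _).1 ⟨(show M'.1 ≤ k by omega), fun j j' hj => ⟨?_, ?_⟩⟩
    · have h := W4bk4.Shuffle.val_le_apply M'.2.1.1 M'.2.1.2 j
      exact Fin.le_def.2 (show j'.val ≤ _ by omega)
    · have h := W4bk4.Shuffle.val_le_apply M'.2.2.1 M'.2.2.2 j
      exact Fin.le_def.2 (show j'.val ≤ _ by omega)
  obtain ⟨c, hc⟩ := W4bk4.Tableau.exists_unit_minor K M
  rw [hwM] at hc
  change Δ = (c : K) • W4bk4.Det.cmap q m K (X w) at hc
  have hΔ : ∀ (U : Matrix (Fin m) (Fin (k + 1)) K) (W : Matrix (Fin (k + 1)) (Fin q) K),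
      W4bk4.Points.ev K (U * W) Δ = (U.submatrix cI id).det * (W.submatrix id cJ).det := by
    intro U W
    rw [← Matrix.det_mul, AlgHom.map_det]
    refine congrArg Matrix.det (Matrix.ext fun a b => ?_)
    simp [W4bk4.Points.ev, G, genMatrix, Matrix.mul_apply]
  -- clearing denominators
  have hsub : ∀ g : PairRing K (k + 1) m q, ∃ (N : ℕ) (P : MvPolynomial (Fin m × Fin q) K),
      ∀ (U : Matrix (Fin m) (Fin (k + 1)) K) (W : Matrix (Fin (k + 1)) (Fin q) K),
        W4bk4.Points.ev K (U * W) Δ ≠ 0 → W4bk4.Points.ev K (U * W) P =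
          W4bk4.Points.ev K (U * W) Δ ^ N *
            evp (U * (U.submatrix cI id)⁻¹) (U.submatrix cI id * W) g := by
    intro g
    induction g using MvPolynomial.induction_on with
    | C a => exact ⟨0, C a, fun U W _ => by simp [evp, W4bk4.Points.ev]⟩
    | add g h hg hh =>
      obtain ⟨N, P, hP⟩ := hg
      obtain ⟨N', P', hP'⟩ := hh
      exact ⟨N + N', P * Δ ^ N' + P' * Δ ^ N, fun U W hne => by
        rw [map_add, map_mul, map_mul, map_pow, map_pow, hP U W hne, hP' U W hne, map_add, pow_add]
        ring⟩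
    | mul_X g x hg =>
      obtain ⟨N, P, hP⟩ := hg
      rcases x with ⟨i, p⟩ | ⟨p, j⟩
      · refine ⟨N + 1, P * (G.submatrix id cJ * (G.submatrix cI cJ).adjugate) i p, fun U W hne => ?_⟩
        have h1 : W4bk4.Points.ev K (U * W) ((G.submatrix id cJ * (G.submatrix cI cJ).adjugate) i p) =
            ((U * W.submatrix id cJ) * (U.submatrix cI id * W.submatrix id cJ).adjugate) i p := by
          have ha : ∀ l, W4bk4.Points.ev K (U * W) ((G.submatrix cI cJ).adjugate l p) =
              (U.submatrix cI id * W.submatrix id cJ).adjugate l p := by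
            intro l
            have hm : (W4bk4.Points.ev K (U * W)).mapMatrix (G.submatrix cI cJ) =
                U.submatrix cI id * W.submatrix id cJ := Matrix.ext fun a b => by
              simp [W4bk4.Points.ev, G, genMatrix, Matrix.mul_apply]
            rw [← hm, ← AlgHom.map_adjugate]
            rfl
          rw [Matrix.mul_apply, map_sum, Matrix.mul_apply]
          refine Finset.sum_congr rfl fun l _ => ?_
          rw [map_mul, ha]
          simp [W4bk4.Points.ev, G, genMatrix, Matrix.mul_apply]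
        rw [map_mul, map_mul, hP U W hne, h1]
        rw [hΔ] at hne
        have hW0 : IsUnit (W.submatrix id cJ).det := isUnit_iff_ne_zero.2 (right_ne_zero_of_mul hne)
        set U0 := U.submatrix cI id with hU0
        set W0 := W.submatrix id cJ with hW0'
        have h2 : U * W0 * (U0 * W0).adjugate = (U0 * W0).det • (U * U0⁻¹) := by
          have h3 : (U0 * W0).adjugate = (U0 * W0).det • (U0 * W0)⁻¹ := by
            rw [Matrix.inv_def, smul_smul, Matrix.det_mul, Ring.inverse_eq_inv',
              mul_inv_cancel₀ hne, one_smul]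
          rw [h3, Matrix.mul_smul, Matrix.mul_inv_rev, Matrix.mul_assoc, ← Matrix.mul_assoc W0,
            Matrix.mul_nonsing_inv _ hW0, Matrix.one_mul]
        rw [h2, hΔ, Matrix.det_mul, Matrix.smul_apply, smul_eq_mul]
        simp [evp]
        ring
      · refine ⟨N, P * X (cI p, j), fun U W hne => ?_⟩
        rw [map_mul, map_mul, hP U W hne]
        simp [evp, W4bk4.Points.ev, Matrix.mul_apply]
        ring
  obtain ⟨N, P, hP⟩ := hsub f
  have hpΔ : pairingMap K (k + 1) m q Δ ≠ 0 := by
    intro h
    have h1 := evp_pairing (Matrix.of fun (i : Fin m) (a : Fin (k + 1)) => if i.val = a.val then (1 : K) else 0)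
      (Matrix.of fun (a : Fin (k + 1)) (j : Fin q) => if j.val = a.val then (1 : K) else 0) Δ
    rw [h, map_zero, hΔ] at h1
    have e1 : ((Matrix.of fun (i : Fin m) (a : Fin (k + 1)) =>
        if i.val = a.val then (1 : K) else 0).submatrix cI id) = 1 := by
      ext a b; simp [cI, Matrix.one_apply, Fin.ext_iff]
    have e2 : ((Matrix.of fun (a : Fin (k + 1)) (j : Fin q) =>
        if j.val = a.val then (1 : K) else 0).submatrix id cJ) = 1 := by
      ext a b; simp [cJ, Matrix.one_apply, Fin.ext_iff, eq_comm]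
    rw [e1, e2, Matrix.det_one, one_mul] at h1
    exact zero_ne_one h1
  have key : pairingMap K (k + 1) m q P = pairingMap K (k + 1) m q Δ ^ N * f := by
    refine mul_right_cancel₀ hpΔ (MvPolynomial.funext fun v => ?_)
    rw [eval_eq_evp, eval_eq_evp]
    simp only [map_mul, map_pow, evp_pairing]
    set U : Matrix (Fin m) (Fin (k + 1)) K := Matrix.of fun i a => v (Sum.inl (i, a))
    set W : Matrix (Fin (k + 1)) (Fin q) K := Matrix.of fun a j => v (Sum.inr (a, j))
    by_cases hne : W4bk4.Points.ev K (U * W) Δ = 0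
    · rw [hne, mul_zero, mul_zero]
    · rw [hP U W hne]
      rw [hΔ] at hne
      let A : GL (Fin (k + 1)) K := Matrix.GeneralLinearGroup.mkOfDetNeZero (U.submatrix cI id)
        (left_ne_zero_of_mul hne)
      have h1 := evp_translate U W A f
      rw [hf A, Matrix.coe_units_inv] at h1
      rw [h1]
      rfl
  clear hP hsub
  induction N generalizing P with
  | zero => exact ⟨P, by simpa using key⟩
  | succ N ih =>
    have hmem : P ∈ CAlgX.minorIdeal G (k + 1 + 1) ⊔ Ideal.span {Δ} := by
      have h2 : P ∈ W4bk4.Det.cellIdeal K w ⊔ Ideal.span {W4bk4.Det.cmap q m K (X w)} := by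
        refine W4bk4.Points.mem_of_mem_divisors K hq0 (by omega) w hwne P fun φ hφ => ?_
        refine W4bk4.Points.mem_cellIdeal K hq0 φ P fun Z hZ => ?_
        have hzero : ∀ g ∈ CAlgX.minorIdeal G (k + 1 + 1), W4bk4.Points.ev K Z g = 0 := by
          rw [← W4bk4.Det.cellIdeal_wIdx K (k + 1 + 1) hq0 ht (by omega) (by omega)]
          suffices W4bk4.Det.cellIdeal K w ≤ RingHom.ker (W4bk4.Points.ev K Z).toRingHom from
            fun g hg => this hg
          rw [W4bk4.Det.cellIdeal, Ideal.span_le]
          rintro _ ⟨ψ, hψ, rfl⟩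
          exact hZ ψ fun h => hψ (h.trans hφ.1.le)
        obtain ⟨U, W, hUW⟩ := rank_factor (n := k + 1) Z fun a b => by
          have h3 := hzero _ (Ideal.subset_span ⟨(a, b), rfl⟩)
          simp only [AlgHom.map_det] at h3
          rw [← h3]
          refine congrArg Matrix.det (Matrix.ext fun i j => ?_)
          simp [W4bk4.Points.ev, G, genMatrix]
        have hΔ0 : W4bk4.Points.ev K (U * W) Δ = 0 := by
          rw [← hUW, hc, map_smul, hZ w (fun h => absurd h (not_le_of_gt hφ.1)), smul_zero]
        rw [hUW, ← evp_pairing, key, map_mul, map_pow, evp_pairing, hΔ0, zero_pow (Nat.succ_ne_zero N),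
          zero_mul]
      rw [W4bk4.Det.cellIdeal_wIdx K (k + 1 + 1) hq0 ht (by omega) (by omega)] at h2
      refine (sup_le le_sup_left ((Ideal.span_singleton_le_iff_mem _).2 (Ideal.mem_sup_right ?_)) : _ ≤
        CAlgX.minorIdeal G (k + 1 + 1) ⊔ Ideal.span {Δ}) h2
      rw [Ideal.mem_span_singleton']
      refine ⟨C ((c⁻¹ : Kˣ) : K), ?_⟩
      rw [hc, ← smul_eq_C_mul, smul_smul, Units.inv_mul, one_smul]
    obtain ⟨a, ha, b, hb, rfl⟩ := Submodule.mem_sup.1 hmem
    obtain ⟨P', rfl⟩ := Ideal.mem_span_singleton'.1 hb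
    refine ih P' (mul_right_cancel₀ hpΔ ?_)
    have ha0 : pairingMap K (k + 1) m q a = 0 := by
      have := (Groth.Agent.S11267.result K m (k + 1) q).ge ha
      exact this
    rw [map_add, ha0, zero_add, map_mul, pow_succ] at key
    rw [key]; ring

end Groth.Agent.S11266

namespace Groth.Agent.S11266

open W4bk4grassmannian in
/-- First Fundamental Theorem of invariant theory for the general linear group acting on pairs of
matrices: let K be an algebraically closed field and m, n, q natural numbers; GL_n(K) acts on the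
coordinate ring of M_{m,n} × M_{n,q} by (A • f)(U, W) = f(U A⁻¹, A W). Then f is fixed by every A ∈
GL_n(K) if and only if f lies in the image of the comorphism of (U, W) ↦ U W, i.e. f is a polynomial
in the entries Σ_k u_{ik} ξ_{kj} of the product matrix. -/
theorem result (K : Type u) [Field K] [IsAlgClosed K] (m n q : ℕ)
    (f : PairRing K n m q) :
    (∀ A : GL (Fin n) K, glTranslate K n m q A f = f) ↔ f ∈ (pairingMap K n m q).range := by
  classical
  constructor
  · intro hf
    rcases n with _ | k
    · exact ⟨C (constantCoeff f), by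
        have : IsEmpty ((Fin m × Fin 0) ⊕ (Fin 0 × Fin q)) := inferInstance
        change pairingMap K 0 m q (C (constantCoeff f)) = f
        rw [MvPolynomial.eq_C_of_isEmpty f]
        simp [pairingMap]⟩
    -- pad with zero rows and columns
    let up : PairRing K (k + 1) m q →ₐ[K] PairRing K (k + 1) (m + (k + 1)) (q + (k + 1)) :=
      rename (Sum.map (fun p => (Fin.castAdd (k + 1) p.1, p.2)) fun p => (p.1, Fin.castAdd (k + 1) p.2))
    let dn : PairRing K (k + 1) (m + (k + 1)) (q + (k + 1)) →ₐ[K] PairRing K (k + 1) m q :=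
      aeval (Sum.elim (fun p => Fin.addCases (fun i => X (Sum.inl (i, p.2))) (fun _ => 0) p.1)
        fun p => Fin.addCases (fun j => X (Sum.inr (p.1, j))) (fun _ => 0) p.2)
    let σ : MvPolynomial (Fin (m + (k + 1)) × Fin (q + (k + 1))) K →ₐ[K] MvPolynomial (Fin m × Fin q) K :=
      aeval fun p => Fin.addCases (fun i => Fin.addCases (fun j => X (i, j)) (fun _ => 0) p.2) (fun _ => 0) p.1
    have hdu : ∀ g, dn (up g) = g := by
      intro g
      refine AlgHom.congr_fun (φ₁ := dn.comp up) (φ₂ := AlgHom.id K _) ?_ g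
      refine MvPolynomial.algHom_ext fun x => ?_
      rcases x with x | x <;> simp [dn, up]
    have hcomm : ∀ A : GL (Fin (k + 1)) K, glTranslate K (k + 1) (m + (k + 1)) (q + (k + 1)) A (up f) =
        up (glTranslate K (k + 1) m q A f) := by
      intro A
      refine AlgHom.congr_fun
        (φ₁ := (glTranslate K (k + 1) (m + (k + 1)) (q + (k + 1)) A).comp up)
        (φ₂ := up.comp (glTranslate K (k + 1) m q A)) ?_ f
      refine MvPolynomial.algHom_ext fun x => ?_
      rcases x with x | x <;> simp [up, glTranslate]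
    obtain ⟨P, hP⟩ := big (Nat.le_add_left _ m) (Nat.le_add_left _ q) (up f) fun A => by rw [hcomm, hf]
    refine ⟨σ P, ?_⟩
    change pairingMap K (k + 1) m q (σ P) = f
    change pairingMap K (k + 1) _ _ P = up f at hP
    rw [← hdu f, ← hP]
    refine AlgHom.congr_fun (φ₁ := (pairingMap K (k + 1) m q).comp σ)
      (φ₂ := dn.comp (pairingMap K (k + 1) (m + (k + 1)) (q + (k + 1)))) ?_ P
    refine MvPolynomial.algHom_ext fun p => ?_
    obtain ⟨i, j⟩ := p
    induction i using Fin.addCases <;> induction j using Fin.addCases <;> simp [σ, dn, pairingMap]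
  · rintro ⟨P, rfl⟩ A
    refine MvPolynomial.funext fun v => ?_
    rw [eval_eq_evp, eval_eq_evp]
    change evp _ _ (glTranslate K n m q A (pairingMap K n m q P)) = evp _ _ (pairingMap K n m q P)
    rw [evp_translate, evp_pairing, evp_pairing, Matrix.mul_assoc,
      ← Matrix.mul_assoc ((A⁻¹ : GL (Fin n) K) : Matrix (Fin n) (Fin n) K),
      Units.inv_mul, Matrix.one_mul]

end Groth.Agent.S11266
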