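import Groth.Statements.S11269
import Groth.Agent.RegLoc.Serre
import Mathlib.RingTheory.Ideal.AssociatedPrime.Localization
-- import your own Groth.Agent.* helpers here

set_option autoImplicit false
universe u
open W4bk4grassmannian

namespace Groth.Agent.S11269

/-- Let R be a Noetherian integral domain. Then R satisfies Serre's condition (S_2) (depth R_P ≥ min(2,
dim R_P) for all primes P) if and only if, for every nonzero a ∈ R, every associated prime of the
R-module R/(a) has height one. -/
theorem result (R : Type u) [CommRing R] [IsDomain R]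
    [IsNoetherianRing R] :
    LocCoh.HasSk 2 R R ↔
      ∀ a : R, a ≠ 0 → ∀ P : Ideal R, P ∈ associatedPrimes R (R ⧸ Ideal.span {a}) → P.height = 1 := by
  classical
  have hreg : ∀ a : R, a ≠ 0 → IsSMulRegular R a := fun a ha => (isRegular_of_ne_zero ha).left
  have hass : ∀ a : R, associatedPrimes R (QuotSMulTop a R) = associatedPrimes R (R ⧸ Ideal.span {a}) := by
    intro a
    exact LinearEquiv.AssociatedPrimes.eq (Submodule.quotEquivOfEq _ _ (by
      ext z
      rw [Submodule.mem_smul_pointwise_iff_exists, Ideal.mem_span_singleton]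
      exact ⟨fun ⟨v, _, hv⟩ => ⟨v, hv.symm⟩, fun ⟨v, hv⟩ => ⟨v, trivial, hv.symm⟩⟩))
  constructor
  · intro h a ha P hP
    haveI : P.IsPrime := Groth.Agent.Depth.isPrime_of_mem_associatedPrimes hP
    have haP : a ∈ P := Groth.Agent.Depth.annihilator_le_associatedPrime hP
      (by rw [Ideal.annihilator_quotient]; exact Ideal.mem_span_singleton_self a)
    have h0 : P.height ≠ 0 := by
      intro h0
      rw [Ideal.height_eq_zero_iff_eq_bot] at h0
      exact ha (by simpa [h0] using haP)
    rw [← hass] at hP
    have hd : LocCoh.depth (Localization.AtPrime P) (LocalizedModule P.primeCompl R) ≤ 1 := by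
      rw [Groth.Agent.Depth.depth_eq_idealDepth, ← Groth.Agent.Depth.idealDepth_quotSMulTop_add_one
        (Groth.Agent.Depth.map_le_maximalIdeal (le_refl P) (Ideal.mem_map_of_mem _ haP))
        (Groth.Agent.Depth.isSMulRegular_localizedModule P.primeCompl (hreg a ha)),
        Groth.Agent.Depth.idealDepth_congr (Groth.Agent.Depth.quotSMulTopLocalizedEquiv R P.primeCompl a),
        Groth.Agent.Depth.idealDepth_eq_zero_iff.2
          ⟨_, Module.associatedPrimes.mem_associatedPrimes_atPrime_of_mem_associatedPrimes hP, le_rfl⟩]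
      simp
    have h2 := h P
    rw [Groth.Agent.RegLoc.Serre.supportDim_localizedModule_self] at h2
    have h3 : min (2 : WithBot ℕ∞) (P.height : WithBot ℕ∞) ≤ ((1 : ℕ∞) : WithBot ℕ∞) :=
      h2.trans (WithBot.coe_le_coe.2 hd)
    rcases min_le_iff.1 h3 with h4 | h4
    · exact absurd (WithBot.coe_le_coe.1 h4) (by decide)
    · exact le_antisymm (WithBot.coe_le_coe.1 h4) (Order.one_le_iff_pos.2 (pos_iff_ne_zero.2 h0))
  · intro h P hP
    rw [Groth.Agent.RegLoc.Serre.supportDim_localizedModule_self]
    by_cases h0 : P = ⊥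
    · have : P.height = 0 := by subst h0; exact Ideal.height_bot
      rw [this]
      exact min_le_of_right_le (WithBot.coe_le_coe.2 zero_le)
    obtain ⟨a, haP, ha⟩ := Submodule.exists_mem_ne_zero_of_ne_bot h0
    have key : ∀ k : ℕ∞, k ≤ 1 → k ≤ LocCoh.idealDepth P (QuotSMulTop a R) →
        k + 1 ≤ LocCoh.depth (Localization.AtPrime P) (LocalizedModule P.primeCompl R) := by
      intro k _ hk
      refine le_trans ?_ (Groth.Agent.Depth.idealDepth_le_depth_localizedModule P le_rfl)
      rw [← Groth.Agent.Depth.idealDepth_quotSMulTop_add_one haP (hreg a ha)]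
      exact add_le_add hk le_rfl
    by_cases h1 : P.height ≤ 1
    · refine min_le_of_right_le ((WithBot.coe_le_coe.2 h1).trans (WithBot.coe_le_coe.2 ?_))
      simpa using key 0 zero_le zero_le
    · refine min_le_of_left_le ?_
      change ((2 : ℕ∞) : WithBot ℕ∞) ≤ _
      refine WithBot.coe_le_coe.2 (le_trans (le_of_eq (one_add_one_eq_two).symm) (key 1 le_rfl ?_))
      refine Groth.Agent.Depth.one_le_idealDepth_iff.2 fun p hp hle => h1 ?_
      rw [hass] at hp
      haveI := Groth.Agent.Depth.isPrime_of_mem_associatedPrimes hp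
      exact (Ideal.height_mono hle).trans (h a ha p hp).le

end Groth.Agent.S11269
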