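import Groth.Statements.S1127
import Groth.Agent.Wt.IndQA
import Groth.Agent.Wt.IndQADescent
import Groth.Agent.FpqcDesc.Props

set_option autoImplicit false
open CategoryTheory CategoryTheory.Limits AlgebraicGeometry Opposite
universe u
open Desc

namespace Groth.Agent.S1127

/-- If the base change of a morphism along a quasi-compact, flat, surjective morphism is quasi-affine
(quasi-compact, with quasi-affine preimages of affine opens), then the morphism is quasi-affine.
(The published statement is the fpqc-local form; stated here for a single quasi-compact flat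
surjective base change, from which that form follows by Zariski-locality on the target.) -/
theorem result :
    MorphismProperty.DescendsAlong (fun _ _ f => Mor2.IsQuasiAffine f : MorphismProperty Scheme.{u})
      (@Surjective ⊓ @Flat ⊓ @QuasiCompact : MorphismProperty Scheme.{u}) := by
  refine ⟨fun {A X Y Z fst snd f g} h hf hfst => ?_⟩
  haveI : QuasiCompact f := hf.2
  haveI : Flat f := hf.1.2
  haveI : Surjective f := hf.1.1
  haveI := Groth.Agent.FpqcDesc.descendsAlong_quasiCompact.{u}
  have hqc : QuasiCompact g :=
    MorphismProperty.of_isPullback_of_descendsAlong (P := @QuasiCompact)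
      (Q := (@Surjective ⊓ @Flat ⊓ @QuasiCompact : MorphismProperty Scheme.{u})) h hf hfst.1
  have hi : MoreMor.IsIndQuasiAffineHom g :=
    Groth.Agent.Wt.IndQADescent.isIndQuasiAffineHom_of_descent g fst snd f h.flip
      (Groth.Agent.Wt.IndQA.of_isQuasiAffineHom fst hfst)
  refine ⟨hqc, fun V hV => ?_⟩
  haveI : CompactSpace (g ⁻¹ᵁ V : Scheme.{u}) :=
    isCompact_iff_compactSpace.mp (QuasiCompact.isCompact_preimage (f := g) _ V.2 hV.isCompact)
  haveI := hi V hV ⊤ isCompact_univ
  exact Scheme.IsQuasiAffine.of_isImmersion (Scheme.topIso (g ⁻¹ᵁ V : Scheme.{u})).inv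


end Groth.Agent.S1127
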