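import Groth.Statements.S11270
import Groth.Agent.W4bk4.Basis
-- import your own Groth.Agent.* helpers here

set_option autoImplicit false
universe u
open W4bk4grassmannian

namespace Groth.Agent.S11270

open W4bk4grassmannian in
/-- The least Plücker coordinate is a prime element on every Schubert variety: let K be an algebraically
closed field, 0 < d < n, and I(d,n) the strictly increasing maps Fin d → Fin n ordered entrywise; S
= K[X_θ : θ ∈ I(d,n)] is the Plücker polynomial ring and, for τ ∈ I(d,n), J(τ) ⊆ S is the ideal of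
polynomials vanishing at the d × d row-minors of every n × d matrix over K whose minors on rows φ ≰
τ are zero (the homogeneous ideal of the Schubert variety X(τ) ⊆ G(d,n)). Let w ∈ I(d,n) and let ι =
(0, 1, …, d - 1) be the least element of I(d,n), written (1, …, d) in 1-based indexing. Then the
class of X_ι in S/J(w) is a prime element; it generates the kernel of the restriction to the section
of X(w) by the opposite Schubert divisor. -/
theorem result (K : Type u) [Field K] [IsAlgClosed K] (d n : ℕ)
    (hd : 0 < d) (hdn : d < n) (w : Idx d n) :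
    Prime (Ideal.Quotient.mk (schubertVanishing K d n w)
      (MvPolynomial.X (⟨fun t => ⟨t.val, lt_trans t.isLt hdn⟩, fun a b h => h⟩ : Idx d n))) := by
  classical
  let bot : Idx d n := ⟨fun t => ⟨t.val, lt_trans t.isLt hdn⟩, fun a b h => h⟩
  change Prime (Ideal.Quotient.mk (schubertVanishing K d n w) (MvPolynomial.X bot))
  have hbot : ∀ θ : Idx d n, bot ≤ θ := fun θ t =>
    Fin.le_def.2 (Groth.Agent.W4bk4.Shuffle.val_le_apply θ.1 θ.2 t)
  let last : Fin d := ⟨d - 1, by omega⟩
  let p : Fin n × Fin d → Prop := fun x => x.2 = last → d ≤ x.1.val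
  haveI : DecidablePred p := fun x => Classical.dec _
  let ψ : PlRing K d n →ₐ[K] MatRing K d n :=
    (Groth.Agent.W4bk4.Basis.kill p).comp (Groth.Agent.W4bk4.Schubert.phi K w)
  have hψbot : ψ (MvPolynomial.X bot) = 0 := by
    simp only [ψ, AlgHom.comp_apply, Groth.Agent.W4bk4.Schubert.phi, MvPolynomial.aeval_X]
    rw [AlgHom.map_det]
    refine Matrix.det_eq_zero_of_column_eq_zero last fun s => ?_
    simp only [AlgHom.mapMatrix_apply, Matrix.map_apply, Matrix.submatrix_apply, id_eq,
      Groth.Agent.W4bk4.Schubert.genE, Matrix.of_apply]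
    split
    · simp only [Groth.Agent.W4bk4.Basis.kill, MvPolynomial.aeval_X]
      rw [if_neg]
      intro hp
      have := hp rfl
      simp [bot] at this
      omega
    · exact map_zero _
  have hsurv : ∀ c : Groth.Agent.W4bk4.Basis.Chain d n, (∀ k, c.2.1 k ≠ bot) →
      ∀ x ∈ (Groth.Agent.W4bk4.Basis.dg c).support, p x := by
    rintro c hc ⟨i, t⟩ hx (rfl : t = last)
    rw [Finsupp.mem_support_iff, Groth.Agent.W4bk4.Basis.dg,
      Groth.Agent.W4bk4.Schubert.chainDiag_apply] at hx
    obtain ⟨k, hk⟩ := Finset.card_pos.1 (Nat.pos_of_ne_zero hx)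
    rw [Finset.mem_filter] at hk
    rw [← hk.2]
    by_contra hlt
    apply hc k
    refine Subtype.ext (funext fun t => Fin.ext ?_)
    have h1 := Groth.Agent.W4bk4.Shuffle.val_le_apply (c.2.1 k).1 (c.2.1 k).2 t
    suffices h : ∀ j : ℕ, ∀ t : Fin d, t.val + j + 1 = d → ((c.2.1 k).1 t).val ≤ t.val by
      have := h (d - t.val - 1) t (by have := t.isLt; omega)
      change ((c.2.1 k).1 t).val = t.val
      omega
    intro j
    induction j with
    | zero =>
      intro t ht
      have : t = last := Fin.ext (by simp [last]; omega)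
      subst this
      simp only [last] at hlt ⊢
      omega
    | succ j ih =>
      intro t ht
      have h2 : ((c.2.1 k).1 t).val < ((c.2.1 k).1 ⟨t.val + 1, by omega⟩).val :=
        (c.2.1 k).2 (Fin.lt_def.2 (Nat.lt_succ_self _))
      have := ih ⟨t.val + 1, by omega⟩ (by simp; omega)
      simp only at this
      omega
  have hker : schubertVanishing K d n w ⊔ Ideal.span {MvPolynomial.X bot} =
      RingHom.ker ψ.toRingHom := by
    apply le_antisymm
    · refine sup_le (fun f hf => ?_) ((Ideal.span_singleton_le_iff_mem _).2 hψbot)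
      rw [Groth.Agent.W4bk4.Basis.mem_schubertVanishing_iff K hd] at hf
      change ψ f = 0
      simp [ψ, hf]
    · intro f hf
      obtain ⟨l, g, hg, hfg⟩ := Groth.Agent.W4bk4.Basis.exists_repr K f
      refine Groth.Agent.W4bk4.Basis.mem_of_repr K
        ((Groth.Agent.W4bk4.Basis.plIdealTop_le K hd w).trans le_sup_left) hg hfg fun c hc => ?_
      by_cases h1 : Groth.Agent.W4bk4.Basis.Below' w c
      swap
      · exact Ideal.mem_sup_left (Groth.Agent.W4bk4.Basis.mon_mem_of_not_below K hd h1)
      by_cases h2 : ∃ k, c.2.1 k = bot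
      · obtain ⟨k, hk⟩ := h2
        refine Ideal.mem_sup_right (Ideal.mem_span_singleton.2 ?_)
        rw [Groth.Agent.W4bk4.Basis.mon, chainMon, ← hk]
        exact Finset.dvd_prod_of_mem _ (Finset.mem_univ k)
      exfalso
      apply hc
      refine Groth.Agent.W4bk4.Basis.coeff_eq_zero K hd p w
        {c | Groth.Agent.W4bk4.Basis.Below' w c ∧ ∀ k, c.2.1 k ≠ bot}
        (fun x hx => ⟨hx.1, hsurv x hx.2⟩) l (fun x hx => Or.inr ?_) ?_ ⟨h1, not_exists.1 h2⟩
      · by_cases hb : Groth.Agent.W4bk4.Basis.Below' w x
        · have : ∃ k, x.2.1 k = bot := by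
            by_contra hne
            exact hx ⟨hb, not_exists.1 hne⟩
          obtain ⟨k, hk⟩ := this
          change ψ (Groth.Agent.W4bk4.Basis.mon K x) = 0
          rw [Groth.Agent.W4bk4.Basis.mon, chainMon, map_prod]
          exact Finset.prod_eq_zero (Finset.mem_univ k) (by rw [hk]; exact hψbot)
        · rw [Groth.Agent.W4bk4.Basis.phi_eq_zero K hb, map_zero]
      · have h3 : ψ f = 0 := hf
        simp only [ψ, AlgHom.comp_apply] at h3
        rw [hfg, map_add, Groth.Agent.W4bk4.Basis.phi_plIdealTop K hg, zero_add] at h3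
        exact h3
  have hne : Ideal.Quotient.mk (schubertVanishing K d n w) (MvPolynomial.X bot) ≠ 0 := by
    rw [Ne, Ideal.Quotient.eq_zero_iff_mem, Groth.Agent.W4bk4.Basis.mem_schubertVanishing_iff K hd]
    intro h0
    have hl := (Groth.Agent.W4bk4.Schubert.isLead_phi_X K (hbot w)).1
    rw [h0, MvPolynomial.coeff_zero] at hl
    exact zero_ne_one hl
  rw [← Ideal.span_singleton_prime hne, ← Set.image_singleton, ← Ideal.map_span]
  have hprime : (schubertVanishing K d n w ⊔ Ideal.span {MvPolynomial.X bot}).IsPrime := by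
    rw [hker]; exact RingHom.ker_isPrime _
  have hm : Ideal.map (Ideal.Quotient.mk (schubertVanishing K d n w))
      (Ideal.span {MvPolynomial.X bot}) = Ideal.map (Ideal.Quotient.mk (schubertVanishing K d n w))
      (schubertVanishing K d n w ⊔ Ideal.span {MvPolynomial.X bot}) := by
    rw [Ideal.map_sup, Ideal.map_quotient_self, bot_sup_eq]
  rw [hm]
  exact Ideal.map_isPrime_of_surjective Ideal.Quotient.mk_surjective
    (by rw [Ideal.mk_ker]; exact le_sup_left)

end Groth.Agent.S11270
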