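import Groth.Statements.S11271
import Groth.Agent.W4bk4.Plucker
import Mathlib.Algebra.Polynomial.Roots
import Mathlib.FieldTheory.IsAlgClosed.Basic
-- import your own Groth.Agent.* helpers here

set_option autoImplicit false
universe u
open W4bk4grassmannian

namespace Groth.Agent.S11271

open W4bk4grassmannian in
/-- Semistable matrices are the matrices of full rank: let K be an algebraically closed field, 0 < d <
n, and let SL_d(K) act on n × d matrices by right multiplication; a matrix A is semistable when the
zero matrix is not in the Zariski closure of its orbit, i.e. when some polynomial in the entries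
vanishes at A g for every g ∈ SL_d(K) but not at 0. Then A is semistable if and only if its columns
are linearly independent. -/
theorem result (K : Type u) [Field K]
    [IsAlgClosed K] (d n : ℕ) (hd : 0 < d) (hdn : d < n) (A : Matrix (Fin n) (Fin d) K) :
    LinearIndependent K A.transpose ↔
      ∃ f : MatRing K d n, (∀ g : Matrix.SpecialLinearGroup (Fin d) K,
        MvPolynomial.eval (fun p : Fin n × Fin d => (A * (g : Matrix (Fin d) (Fin d) K)) p.1 p.2) f = 0) ∧
        MvPolynomial.eval (fun _ : Fin n × Fin d => (0 : K)) f ≠ 0 := by
  classical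
  constructor
  · intro hA
    obtain ⟨θ, hθ⟩ := (Groth.Agent.W4bk4.Plucker.linearIndependent_cols_iff_exists_minor A).1 hA
    refine ⟨minor K d n θ.1 - MvPolynomial.C (A.submatrix θ.1 id).det, fun g => ?_, ?_⟩
    · rw [map_sub, MvPolynomial.eval_C, sub_eq_zero, minor, RingHom.map_det]
      have : (MvPolynomial.eval fun p : Fin n × Fin d =>
          (A * (g : Matrix (Fin d) (Fin d) K)) p.1 p.2).mapMatrix
          (Matrix.of fun s t : Fin d => (MvPolynomial.X (θ.1 s, t) : MatRing K d n)) =
          A.submatrix θ.1 id * (g : Matrix (Fin d) (Fin d) K) := by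
        ext s t; simp [Matrix.mul_apply]
      rw [this, Matrix.det_mul, g.2, mul_one]
    · rw [map_sub, MvPolynomial.eval_C, minor, RingHom.map_det]
      haveI : Nonempty (Fin d) := ⟨⟨0, hd⟩⟩
      have : (MvPolynomial.eval fun _ : Fin n × Fin d => (0 : K)).mapMatrix
          (Matrix.of fun s t : Fin d => (MvPolynomial.X (θ.1 s, t) : MatRing K d n)) = 0 := by
        ext s t; simp
      rw [this, Matrix.det_zero]
      simpa using hθ
  · rintro ⟨f, hf, hf0⟩
    by_contra hA
    apply hf0
    obtain ⟨v, hv, t₀, ht₀⟩ :=
      (Fintype.not_linearIndependent_iff (v := fun j => A.transpose j)).1 hA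
    have hAv : A.mulVec v = 0 := by
      funext i
      have := congrFun hv i
      simpa [Matrix.mulVec, dotProduct, mul_comm] using this
    let Q : Matrix (Fin d) (Fin d) K := (1 : Matrix (Fin d) (Fin d) K).updateCol t₀ v
    have hQ : Q.det = v t₀ := by
      simp [Q, ← Matrix.cramer_apply, Matrix.cramer_one]
    let P : Matrix (Fin d) (Fin d) K := Q.updateCol t₀ ((v t₀)⁻¹ • v)
    have hP : P.det = 1 := by
      have : P = (1 : Matrix (Fin d) (Fin d) K).updateCol t₀ ((v t₀)⁻¹ • v) := by
        ext a b; by_cases hb : b = t₀
        · subst hb; simp [P]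
        · simp [P, Q, hb]
      rw [this, Matrix.det_updateCol_smul]
      change (v t₀)⁻¹ * Q.det = 1
      rw [hQ, inv_mul_cancel₀ ht₀]
    have hcol : ∀ i, (A * P) i t₀ = 0 := by
      intro i
      have := congrFun hAv i
      rw [Matrix.mul_apply]
      simp only [P, Matrix.updateCol_self, Pi.smul_apply, smul_eq_mul]
      simp only [Matrix.mulVec, dotProduct, Pi.zero_apply] at this
      rw [Finset.sum_congr rfl fun k _ => mul_left_comm _ _ _, ← Finset.mul_sum, this, mul_zero]
    let q : Polynomial K :=
      MvPolynomial.aeval (fun p : Fin n × Fin d => Polynomial.C ((A * P) p.1 p.2) * Polynomial.X) f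
    have hq : ∀ s, q.eval s = MvPolynomial.eval (fun p : Fin n × Fin d => (A * P) p.1 p.2 * s) f := by
      intro s
      have := MvPolynomial.map_aeval
        (fun p : Fin n × Fin d => Polynomial.C ((A * P) p.1 p.2) * Polynomial.X)
        (Polynomial.evalRingHom s) f
      rw [show q.eval s = Polynomial.evalRingHom s q from rfl, this]
      refine MvPolynomial.eval₂Hom_congr (RingHom.ext fun a => by simp) (funext fun p => by simp) rfl
    have hroot : ∀ s, s ≠ 0 → q.eval s = 0 := by
      intro s hs
      let w : Fin d → K := fun t => if t = t₀ then (s ^ (d - 1))⁻¹ else s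
      have hD : (Matrix.diagonal w).det = 1 := by
        rw [Matrix.det_diagonal, ← Finset.mul_prod_erase _ _ (Finset.mem_univ t₀)]
        rw [Finset.prod_congr rfl (g := fun _ => s) fun t ht => by
          simp [w, Finset.ne_of_mem_erase ht]]
        simp [w, Finset.prod_const, inv_mul_cancel₀ (pow_ne_zero _ hs)]
      rw [hq, ← hf ⟨P * Matrix.diagonal w, by rw [Matrix.det_mul, hP, hD, one_mul]⟩]
      congr 1
      congr 1
      funext p
      simp only [← Matrix.mul_assoc]
      rw [Matrix.mul_diagonal]
      by_cases hp : p.2 = t₀
      · simp [hp, hcol]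
      · simp [w, hp]
    have hq0 : q = 0 := by
      refine Polynomial.eq_zero_of_infinite_isRoot q ?_
      exact ((Set.finite_singleton (0 : K)).infinite_compl).mono fun s hs => hroot s hs
    have := hq 0
    simpa [hq0] using this.symm

end Groth.Agent.S11271
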