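import Groth.Statements.S11272
import Groth.Agent.W4bk4.FreeGraded
import Groth.Agent.W4bk4.FiniteFreeCM
import Mathlib.RingTheory.GradedAlgebra.Radical
import Mathlib.RingTheory.MvPolynomial.Homogeneous
import Mathlib.Algebra.Module.Submodule.Union
import Mathlib.Algebra.Module.LocalizedModule.IsLocalization
-- import your own Groth.Agent.* helpers here

set_option autoImplicit false
universe u
open W4bk4grassmannian

namespace Groth.Agent.S11272

open MvPolynomial Groth.Agent.W4bk4 Pointwise

variable {K : Type u} [Field K] {N : ℕ}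

/-- the vertex -/
noncomputable abbrev vert (K : Type u) [Field K] (N : ℕ) : Ideal (MvPolynomial (Fin N) K) :=
  RingHom.ker (MvPolynomial.constantCoeff : MvPolynomial (Fin N) K →+* K)

instance vert_isPrime : (vert K N).IsPrime := RingHom.ker_isPrime _

instance vert_isMaximal : (vert K N).IsMaximal :=
  RingHom.ker_isMaximal_of_surjective _ fun a => ⟨C a, constantCoeff_C _ a⟩

theorem le_vert {p : Ideal (MvPolynomial (Fin N) K)} (hp : p ≠ ⊤) (hh : FreeGraded.IsHomog K p) :
    p ≤ vert K N := by
  intro f hf
  have h := hh f hf 0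
  rw [homogeneousComponent_zero] at h
  by_contra hne
  have hne' : constantCoeff f ≠ 0 := hne
  exact hp (Ideal.eq_top_of_isUnit_mem _ h ((isUnit_iff_ne_zero.2 (by simpa [constantCoeff_eq] using hne')).map C))

theorem vert_le_of_forall_X {p : Ideal (MvPolynomial (Fin N) K)} (h : ∀ i, X i ∈ p) : vert K N ≤ p := by
  intro f hf
  have key : f - C (constantCoeff f) ∈ p := by
    clear hf
    induction f using MvPolynomial.induction_on with
    | C a => simp
    | add a b ha hb => convert add_mem ha hb using 1; simp only [map_add]; ring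
    | mul_X a i ha => simpa using Ideal.mul_mem_left _ a (h i)
  rw [show constantCoeff f = 0 from hf, map_zero, sub_zero] at key
  exact key

theorem minimal_prime_le_vert {I p : Ideal (MvPolynomial (Fin N) K)} (hI : FreeGraded.IsHomog K I)
    (hp : p ∈ I.minimalPrimes) : p ≤ vert K N := by
  letI := MvPolynomial.gradedAlgebra (σ := Fin N) (R := K)
  let 𝒜 := homogeneousSubmodule (Fin N) K
  have hI' : I.IsHomogeneous 𝒜 := fun i f hf => by
    change (DirectSum.decompose 𝒜 f i : MvPolynomial (Fin N) K) ∈ I
    rw [show (DirectSum.decompose 𝒜 f i : MvPolynomial (Fin N) K) = homogeneousComponent i f from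
      decomposition.decompose'_apply f i]
    exact hI f hf i
  haveI := hp.1.1
  have hc : (p.homogeneousCore 𝒜).toIdeal.IsPrime := Ideal.IsPrime.homogeneousCore hp.1.1
  have hle : I ≤ (p.homogeneousCore 𝒜).toIdeal :=
    hI'.toIdeal_homogeneousCore_eq_self.symm.trans_le (Ideal.homogeneousCore_mono _ hp.1.2)
  have heq : p = (p.homogeneousCore 𝒜).toIdeal :=
    le_antisymm (hp.2 ⟨hc, hle⟩ (p.toIdeal_homogeneousCore_le 𝒜)) (p.toIdeal_homogeneousCore_le 𝒜)
  refine le_vert hp.1.1.ne_top fun f hf k => ?_
  rw [heq] at hf ⊢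
  exact MvPolynomial.homogeneousComponent_mem_of_mem (HomogeneousIdeal.isHomogeneous _) hf k

theorem isHomog_sup_span {I : Ideal (MvPolynomial (Fin N) K)} (hI : FreeGraded.IsHomog K I)
    {x : MvPolynomial (Fin N) K} (hx : x.IsHomogeneous 1) : FreeGraded.IsHomog K (I ⊔ Ideal.span {x}) := by
  intro f hf k
  obtain ⟨a, ha, b, hb, rfl⟩ := Submodule.mem_sup.1 hf
  obtain ⟨g, rfl⟩ := Ideal.mem_span_singleton'.1 hb
  rw [map_add]
  refine add_mem (Ideal.mem_sup_left (hI a ha k)) (Ideal.mem_sup_right ?_)
  cases k with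
  | zero => rw [FreeGraded.homogeneousComponent_zero_mul_linear K hx]; exact zero_mem _
  | succ k =>
    rw [FreeGraded.homogeneousComponent_mul_linear K hx]
    exact Ideal.mul_mem_left _ _ (Ideal.mem_span_singleton_self x)

/-- a sequence of linear forms -/
theorem exists_seq [Infinite K] : ∀ I : Ideal (MvPolynomial (Fin N) K), FreeGraded.IsHomog K I →
    LocCoh.IsCohenMacaulayModule (Localization.AtPrime (vert K N))
      (LocalizedModule (vert K N).primeCompl (MvPolynomial (Fin N) K ⧸ I)) →
    ∃ (r : ℕ) (th : Fin r → MvPolynomial (Fin N) K), (∀ i, (th i).IsHomogeneous 1) ∧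
      WReg.WReg (A := MvPolynomial (Fin N) K) (List.ofFn th) I ∧
      ∀ i, X i ∈ (I ⊔ Ideal.span (Set.range th)).radical := by
  intro I
  induction I using IsNoetherian.induction with
  | _ I ih =>
  intro hI hcm
  classical
  set S := MvPolynomial (Fin N) K
  set m := vert K N
  have hIne : I ≠ ⊤ := by
    rintro rfl
    haveI := Depth.nontrivial_of_isCohenMacaulayModule hcm
    haveI : Subsingleton (S ⧸ (⊤ : Ideal S)) := Ideal.Quotient.subsingleton_iff.2 rfl
    exact not_subsingleton (LocalizedModule m.primeCompl (S ⧸ (⊤ : Ideal S))) inferInstance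
  by_cases hass : m ∈ associatedPrimes S (S ⧸ I)
  · refine ⟨0, Fin.elim0, fun i => i.elim0, by simp [WReg.WReg], fun i => ?_⟩
    rw [Set.range_eq_empty, Ideal.span_empty, sup_bot_eq, Ideal.radical_eq_sInf]
    have hdim : Module.supportDim (Localization.AtPrime m) (LocalizedModule m.primeCompl (S ⧸ I)) = 0 := by
      rw [hcm, Depth.depth_eq_idealDepth, Depth.idealDepth_eq_zero_iff.2
        ⟨_, Module.associatedPrimes.mem_associatedPrimes_atPrime_of_mem_associatedPrimes hass, le_rfl⟩]
      rfl
    refine Ideal.mem_sInf.2 fun {J} hJ => ?_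
    obtain ⟨hIJ, hJp⟩ := hJ
    obtain ⟨p, hp, hpJ⟩ := Ideal.exists_minimalPrimes_le (I := I) (J := J) hIJ
    refine hpJ ?_
    have hpm := minimal_prime_le_vert hI hp
    haveI := hp.1.1
    by_contra hX
    have hlt : p < m := lt_of_le_of_ne hpm fun e => hX (by rw [e]; exact RingHom.mem_ker.2 (constantCoeff_X (R := K) _))
    let L := Localization.AtPrime m
    have hdisj : Disjoint (m.primeCompl : Set S) (p : Set S) :=
      Set.disjoint_left.2 fun x hx hxp => hx (hpm hxp)
    haveI : (p.map (algebraMap S L)).IsPrime :=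
      IsLocalization.isPrime_of_isPrime_disjoint m.primeCompl L p inferInstance hdisj
    have hlt' : p.map (algebraMap S L) < IsLocalRing.maximalIdeal L := by
      refine lt_of_le_of_ne (IsLocalRing.le_maximalIdeal (Ideal.IsPrime.ne_top inferInstance)) fun e => hlt.ne ?_
      have h1 := congrArg (Ideal.comap (algebraMap S L)) e
      exact ((IsLocalization.comap_map_of_isPrime_disjoint m.primeCompl L inferInstance hdisj).symm.trans
        h1).trans Localization.AtPrime.comap_maximalIdeal
    have hann : Module.annihilator L (LocalizedModule m.primeCompl (S ⧸ I)) ≤ p.map (algebraMap S L) := by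
      intro z hz
      obtain ⟨⟨a, t⟩, rfl⟩ := IsLocalization.mk'_surjective m.primeCompl z
      have h1 := Module.mem_annihilator.1 hz (LocalizedModule.mkLinearMap m.primeCompl (S ⧸ I) 1)
      rw [LocalizedModule.mkLinearMap_apply, ← Localization.mk_eq_mk', LocalizedModule.mk_smul_mk,
        mul_one, ← LocalizedModule.zero_mk (1 : m.primeCompl), LocalizedModule.mk_eq] at h1
      obtain ⟨u, hu⟩ := h1
      simp only [smul_zero, one_smul] at hu
      have hau : u.1 * a ∈ I := by
        rw [← Ideal.Quotient.eq_zero_iff_mem, ← hu]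
        change Ideal.Quotient.mk I (u.1 * a) = Ideal.Quotient.mk I (u.1 * (a * 1))
        rw [mul_one]
      have hap : a ∈ p := (hp.1.1.mem_or_mem (hp.1.2 hau)).resolve_left fun h => u.2 (hpm h)
      exact IsLocalization.mk'_mem_iff.2 (Ideal.mem_map_of_mem _ hap)
    have h2 := Depth.ringKrullDim_quotient_succ_le hlt'
    have h3 := Depth.le_ringKrullDim_quotient_of_le (R := L) hann
    rw [Module.supportDim_eq_ringKrullDim_quotient_annihilator] at hdim
    rw [hdim] at h3
    have h4 : ringKrullDim (L ⧸ IsLocalRing.maximalIdeal L) = 0 :=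
      ringKrullDim_eq_zero_of_field (IsLocalRing.ResidueField L)
    rw [h4, zero_add] at h2
    exact absurd (h2.trans h3) (by decide)
  · -- a linear form regular on `S/I`
    have hfin := associatedPrimes.finite S (S ⧸ I)
    haveI := hfin.to_subtype
    let lin : (Fin N → K) →ₗ[K] S := ∑ i, (LinearMap.proj i).smulRight (X i)
    have hlin : ∀ c, lin c = ∑ i, c i • (X i : S) := fun c => by simp [lin]
    let P : associatedPrimes S (S ⧸ I) → Submodule K (Fin N → K) := fun p =>
      (p.1.restrictScalars K).comap lin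
    have hP : ∀ p, P p ≠ ⊤ := by
      intro p htop
      haveI := Depth.isPrime_of_mem_associatedPrimes p.2
      refine hass ?_
      have : p.1 = m := by
        refine (Ideal.IsMaximal.eq_of_le inferInstance (Ideal.IsPrime.ne_top inferInstance)
          (vert_le_of_forall_X fun i => ?_)).symm
        have h1 : (Pi.single i 1 : Fin N → K) ∈ P p := htop ▸ Submodule.mem_top
        change lin (Pi.single i 1) ∈ p.1 at h1
        rw [hlin, Finset.sum_eq_single i (fun j _ hj => by simp [hj]) (by simp), Pi.single_eq_same,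
          one_smul] at h1
        exact h1
      rw [← this]; exact p.2
    obtain ⟨c, hc⟩ := Submodule.exists_forall_notMem_of_forall_ne_top P hP
    set x := lin c
    have hx : x.IsHomogeneous 1 := by
      rw [show x = ∑ i, c i • (X i : S) from hlin c]
      refine IsHomogeneous.sum _ _ _ fun i _ => ?_
      rw [smul_eq_C_mul]
      exact (isHomogeneous_X K i).C_mul _
    have hregQ : IsSMulRegular (S ⧸ I) x := by
      by_contra hc'
      have : x ∈ ⋃ p ∈ associatedPrimes S (S ⧸ I), (p : Set S) := by
        rw [biUnion_associatedPrimes_eq_compl_regular]; exact hc'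
      obtain ⟨p, hp, hxp⟩ := Set.mem_iUnion₂.1 this
      exact hc ⟨p, hp⟩ hxp
    have hreg : ∀ a : S, x • a ∈ I → a ∈ I := fun a ha =>
      Ideal.Quotient.eq_zero_iff_mem.1 (hregQ.right_eq_zero_of_smul
        ((Submodule.Quotient.mk_smul I x a).symm.trans (Ideal.Quotient.eq_zero_iff_mem.2 ha)))
    have hxm : x ∈ m := by
      change constantCoeff x = 0
      rw [show x = ∑ i, c i • (X i : S) from hlin c, map_sum]
      refine Finset.sum_eq_zero fun i _ => ?_
      rw [smul_eq_C_mul, map_mul, constantCoeff_X, mul_zero]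
    have hlt : I < I ⊔ Ideal.span {x} := by
      refine lt_of_le_of_ne le_sup_left fun e => hIne ?_
      have hxI : x ∈ I := by rw [e]; exact Ideal.mem_sup_right (Ideal.mem_span_singleton_self x)
      rw [Ideal.eq_top_iff_one]
      exact hreg 1 (by simpa using hxI)
    let e1 : QuotSMulTop x (S ⧸ I) ≃ₗ[S] S ⧸ (I ⊔ Ideal.span {x}) :=
      (Submodule.quotEquivOfEq _ _ (by
        ext z
        obtain ⟨a, rfl⟩ := Submodule.mkQ_surjective _ z
        rw [Submodule.mem_map, Submodule.mem_smul_pointwise_iff_exists]
        constructor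
        · rintro ⟨y, -, hy⟩
          obtain ⟨b, rfl⟩ := Submodule.mkQ_surjective _ y
          exact ⟨x • b, Ideal.mem_sup_right (Ideal.mem_span_singleton'.2 ⟨b, mul_comm b x⟩),
            by rw [map_smul, hy]⟩
        · rintro ⟨y, hy, hy'⟩
          obtain ⟨u, hu, v, hv, rfl⟩ := Submodule.mem_sup.1 hy
          obtain ⟨b, rfl⟩ := Ideal.mem_span_singleton'.1 hv
          refine ⟨Submodule.mkQ _ b, trivial, ?_⟩
          rw [← hy', map_add, Submodule.mkQ_apply _ u, (Submodule.Quotient.mk_eq_zero _).2 hu, zero_add,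
            mul_comm, ← smul_eq_mul, map_smul])).trans
        (Submodule.quotientQuotientEquivQuotient (I : Submodule S S) (I ⊔ Ideal.span {x} : Ideal S) le_sup_left)
    have hcm' : LocCoh.IsCohenMacaulayModule (Localization.AtPrime m)
        (LocalizedModule m.primeCompl (S ⧸ (I ⊔ Ideal.span {x}))) := by
      refine (Depth.isCohenMacaulayModule_congr ((IsLocalizedModule.mapEquiv m.primeCompl
        (LocalizedModule.mkLinearMap m.primeCompl _) (LocalizedModule.mkLinearMap m.primeCompl _)
        (Localization.AtPrime m) e1))).1 ?_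
      refine (Depth.isCohenMacaulayModule_congr (Depth.quotSMulTopLocalizedEquiv (S ⧸ I) m.primeCompl x)).1 ?_
      exact (Depth.isCohenMacaulayModule_quotSMulTop_iff
        (Depth.map_le_maximalIdeal le_rfl (Ideal.mem_map_of_mem _ hxm))
        (Depth.isSMulRegular_localizedModule m.primeCompl hregQ)).2 hcm
    obtain ⟨r, th, hth, hw, hrad⟩ := ih _ hlt (isHomog_sup_span hI hx) hcm'
    refine ⟨r + 1, Fin.cons x th, fun i => ?_, ?_, fun i => ?_⟩
    · cases i using Fin.cases with
      | zero => simpa using hx
      | succ i => simpa using hth i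
    · rw [List.ofFn_cons]
      refine ⟨hreg, ?_⟩
      rw [WReg.step_ideal]
      exact hw
    · rw [Fin.range_cons, Ideal.span_insert, ← sup_assoc]
      exact hrad i

end Groth.Agent.S11272

namespace Groth.Agent.S11272

/-- A cone is Cohen–Macaulay iff it is so at its vertex: let K be an algebraically closed field, N a
natural number, S = K[x_1, …, x_N] graded by degree, I ⊆ S a proper ideal generated by homogeneous
polynomials, and m ⊆ S/I the image of the irrelevant ideal (x_1, …, x_N) (the vertex of the cone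
Spec S/I), assumed prime. Then S/I is a Cohen–Macaulay ring if and only if the local ring (S/I)_m is
Cohen–Macaulay. -/
theorem result (K : Type u) [Field K] [IsAlgClosed K] (N : ℕ)
    (I : Ideal (MvPolynomial (Fin N) K))
    (hI : ∃ T : Set (MvPolynomial (Fin N) K), (∀ f ∈ T, ∃ k : ℕ, f.IsHomogeneous k) ∧ I = Ideal.span T)
    (hI' : I ≠ ⊤)
    [hm : ((RingHom.ker (MvPolynomial.constantCoeff : MvPolynomial (Fin N) K →+* K)).map
      (Ideal.Quotient.mk I)).IsPrime] :
    LocCoh.IsCohenMacaulayRing (MvPolynomial (Fin N) K ⧸ I) ↔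
      LocCoh.IsCohenMacaulayLocalRing (Localization.AtPrime
        ((RingHom.ker (MvPolynomial.constantCoeff : MvPolynomial (Fin N) K →+* K)).map
          (Ideal.Quotient.mk I))) := by
  classical
  constructor
  · intro h
    exact h.isCohenMacaulayLocalRing_localization _
  intro hloc
  haveI := hloc
  haveI : Infinite K := IsAlgClosed.instInfinite
  set S := MvPolynomial (Fin N) K
  have hhom : Groth.Agent.W4bk4.FreeGraded.IsHomog K I := by
    obtain ⟨T, hT, rfl⟩ := hI
    letI := MvPolynomial.gradedAlgebra (σ := Fin N) (R := K)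
    have hh : (Ideal.span T).IsHomogeneous (MvPolynomial.homogeneousSubmodule (Fin N) K) :=
      Ideal.homogeneous_span _ _ fun f hf => by
        obtain ⟨k, hk⟩ := hT f hf; exact ⟨k, hk⟩
    exact fun f hf k => MvPolynomial.homogeneousComponent_mem_of_mem hh hf k
  let m := vert K N
  have hIm : I ≤ m := le_vert hI' hhom
  let mb : Ideal (S ⧸ I) := m.map (Ideal.Quotient.mk I)
  let L := Localization.AtPrime m
  let Lq := Localization.AtPrime mb
  have hcomap : m = mb.comap (Ideal.Quotient.mk I) := by
    rw [Ideal.comap_map_of_surjective' _ Ideal.Quotient.mk_surjective, Ideal.mk_ker, sup_eq_left.2 hIm]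
  have hsub : Algebra.algebraMapSubmonoid (S ⧸ I) m.primeCompl = mb.primeCompl := by
    ext z
    constructor
    · rintro ⟨a, ha, rfl⟩ hz
      exact ha (by rw [hcomap]; exact hz)
    · intro hz
      obtain ⟨a, rfl⟩ := Ideal.Quotient.mk_surjective z
      exact ⟨a, fun h => hz (by rw [hcomap] at h; exact h), rfl⟩
  haveI : IsLocalization (Algebra.algebraMapSubmonoid (S ⧸ I) m.primeCompl) Lq := by
    rw [hsub]; infer_instance
  haveI := (isLocalizedModule_iff_isLocalization (R := S) (A := S ⧸ I) (Aₛ := Lq) (S := m.primeCompl)).2 inferInstance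
  letI : Algebra L Lq := (Localization.localRingHom m mb (Ideal.Quotient.mk I) hcomap).toAlgebra
  haveI : IsScalarTower S L Lq := IsScalarTower.of_algebraMap_eq fun a => by
    rw [RingHom.algebraMap_toAlgebra, Localization.localRingHom_to_map]
    rfl
  have hsurj : Function.Surjective (algebraMap L Lq) := by
    intro z
    obtain ⟨⟨b, u⟩, rfl⟩ := IsLocalization.mk'_surjective mb.primeCompl z
    obtain ⟨a, rfl⟩ := Ideal.Quotient.mk_surjective b
    obtain ⟨u', hu'⟩ := Ideal.Quotient.mk_surjective u.1
    have hu'm : u' ∈ m.primeCompl := fun h => u.2 (by rw [← hu']; exact Ideal.mem_map_of_mem _ h)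
    refine ⟨IsLocalization.mk' L a ⟨u', hu'm⟩, ?_⟩
    rw [RingHom.algebraMap_toAlgebra, Localization.localRingHom_mk']
    congr 1
    exact Subtype.ext hu'
  haveI : Module.Finite L Lq := Module.Finite.of_surjective (Algebra.linearMap L Lq) hsurj
  let e : LocalizedModule m.primeCompl (S ⧸ I) ≃ₗ[L] Lq :=
    (IsLocalizedModule.iso m.primeCompl
      (IsScalarTower.toAlgHom S (S ⧸ I) Lq).toLinearMap).extendScalarsOfIsLocalization m.primeCompl L
  have hcm : LocCoh.IsCohenMacaulayModule L (LocalizedModule m.primeCompl (S ⧸ I)) := by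
    rw [Groth.Agent.Depth.isCohenMacaulayModule_congr (R := L) (N := Lq) e,
      ← Groth.Agent.Depth.isCohenMacaulayModule_iff_of_surjective (S := Lq) hsurj]
    exact Groth.Agent.Depth.isCohenMacaulayModule_self Lq
  obtain ⟨r, th, hth, hw, hrad⟩ := exists_seq I hhom hcm
  obtain ⟨hfree, hfin⟩ := Groth.Agent.W4bk4.FreeGraded.free_finite K th I hth hhom hw hrad
  letI := Groth.Agent.W4bk4.FreeGraded.algQ K th I
  haveI := hfree
  haveI := hfin
  haveI : IsRegularRing (MvPolynomial (Fin r) K) := inferInstance
  exact Groth.Agent.W4bk4.FiniteFreeCM.isCohenMacaulayRing (MvPolynomial (Fin r) K) (S ⧸ I)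

end Groth.Agent.S11272
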