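import Groth.Statements.S11273
import Groth.Agent.W4bk4.Degen
-- import your own Groth.Agent.* helpers here

set_option autoImplicit false
universe u
open W4bk4grassmannian MvPolynomial Groth.Agent.W4bk4

namespace Groth.Agent.S11273

open W4bk4grassmannian in
/-- Toric degeneration of the cone over a Schubert variety to a Hibi ring: let K be an algebraically
closed field, 0 < d < n, and I(d,n) the strictly increasing maps Fin d → Fin n ordered entrywise; S
= K[X_θ : θ ∈ I(d,n)] is the Plücker polynomial ring and, for τ ∈ I(d,n), J(τ) ⊆ S is the ideal of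
polynomials vanishing at the d × d row-minors of every n × d matrix over K whose minors on rows φ ≰
τ are zero (the homogeneous ideal of the Schubert variety X(τ) ⊆ G(d,n)). Let w ∈ I(d,n), H(w) = {θ
≤ w} (a distributive lattice under entrywise max and min) and K[x_θ : θ ∈ H(w)] the polynomial ring
on it. Then there is a commutative K[t]-algebra R, free as a K[t]-module, whose fibre R/tR at t = 0
is K-isomorphic to the Hibi ring K[H(w)] = K[x_θ : θ ≤ w]/(x_α x_β - x_{α∨β} x_{α∧β}) and whose
fibre R/(t - c)R at every c ≠ 0 in K is K-isomorphic to S/J(w): the cone over the Schubert variety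
X(w) degenerates flatly to the Hibi ring K[H(w)] = K[x_θ : θ ≤ w]/(x_α x_β - x_{α∨β} x_{α∧β}).
(Existence of the family and of the fibre isomorphisms only; the published statement constructs the
family explicitly, by deforming the straightening relations, and identifies R[1/t] with (S/J(w))[t,
1/t], which gives the fibres at c ≠ 0.) -/
theorem result (K : Type u) [Field K] [IsAlgClosed K] (d n : ℕ)
    (hd : 0 < d) (hdn : d < n) (w : Idx d n) :
    ∃ (R : Type u) (_ : CommRing R) (_ : Algebra K R) (_ : Algebra (Polynomial K) R)
      (_ : IsScalarTower K (Polynomial K) R),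
      Module.Free (Polynomial K) R ∧
      Nonempty ((R ⧸ Ideal.span {algebraMap (Polynomial K) R Polynomial.X}) ≃ₐ[K]
        (MvPolynomial (Below w) K ⧸ hibiIdeal K w)) ∧
      ∀ c : K, c ≠ 0 →
        Nonempty ((R ⧸ Ideal.span {algebraMap (Polynomial K) R (Polynomial.X - Polynomial.C c)}) ≃ₐ[K]
          (PlRing K d n ⧸ schubertVanishing K d n w)) := by
  classical
  let top := Schubert.topIdx (d := d) hdn.le
  have htop : ∀ θ : Idx d n, θ ≤ top := Schubert.le_topIdx hdn.le
  let wf : ((Fin n × Fin d) →₀ ℕ) →+ ℕ := Finsupp.weight (Schubert.wt (n := n) (d := d))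
  let om : Idx d n → ℕ := fun θ => wf (Schubert.diag θ)
  have hwt : ∀ (m : ℕ) (c : Fin m → Idx d n), Degen.wtT om c = wf (Schubert.chainDiag c) := fun m c =>
    (map_sum wf _ _).symm
  -- leading exponents and coefficients
  have key : ∀ (m : ℕ) (c : Fin m → Idx d n) (l : Basis.Chain d n →₀ K) (g : PlRing K d n),
      g ∈ plIdealTop (d := d) (n := n) K → chainMon K c = g + Finsupp.linearCombination K (Basis.mon K) l →
      (∀ x ∈ l.support, wf (Basis.dg x) < wf (Schubert.chainDiag c) ∨ Basis.dg x = Schubert.chainDiag c) ∧
      ∀ x₀, Basis.dg x₀ = Schubert.chainDiag c → l x₀ = 1 := by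
    intro m c l g hg hf
    have hlead := Schubert.isLead_phi_chain K c fun k => htop (c k)
    have hphi : Schubert.phi K top (chainMon K c) =
        ∑ x ∈ l.support, l x • Schubert.phi K top (Basis.mon K x) := by
      rw [hf, map_add, Basis.phi_plIdealTop K hg, zero_add, Finsupp.linearCombination_apply,
        Finsupp.sum, map_sum]
      simp only [map_smul]
    have hb : ∀ x : Basis.Chain d n, Basis.Below' top x := fun x k => htop _
    have hcoef : ∀ x₁ : Basis.Chain d n, (∀ x ∈ l.support, wf (Basis.dg x) ≤ wf (Basis.dg x₁)) →
        (Schubert.phi K top (chainMon K c)).coeff (Basis.dg x₁) = l x₁ := by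
      intro x₁ hmax
      rw [hphi, MvPolynomial.coeff_sum, Finset.sum_eq_single x₁]
      · rw [MvPolynomial.coeff_smul, (Basis.isLead_phi K (hb x₁)).1, smul_eq_mul, mul_one]
      · intro x hx hne
        rw [MvPolynomial.coeff_smul]
        suffices (Schubert.phi K top (Basis.mon K x)).coeff (Basis.dg x₁) = 0 by rw [this, smul_zero]
        rw [← MvPolynomial.notMem_support_iff]
        intro hs
        rcases (Basis.isLead_phi K (hb x)).2 _ hs with h | h
        · exact hne (Basis.dg_injective hd h.symm)
        · exact absurd (hmax x hx) (not_le.2 h)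
      · intro h
        rw [Finsupp.notMem_support_iff.1 h, zero_smul, MvPolynomial.coeff_zero]
    have hmaxE : ∀ x ∈ l.support, wf (Basis.dg x) ≤ wf (Schubert.chainDiag c) := by
      intro x hx
      obtain ⟨x₁, hx₁, hmax⟩ := Finset.exists_max_image l.support (fun x => wf (Basis.dg x)) ⟨x, hx⟩
      have h1 := hcoef x₁ hmax
      refine le_trans (hmax x hx) (hlead.weight_le ?_)
      rw [MvPolynomial.mem_support_iff, h1]
      exact Finsupp.mem_support_iff.1 hx₁
    refine ⟨fun x hx => ?_, fun x₀ hx₀ => ?_⟩
    · rcases (hmaxE x hx).lt_or_eq with h | h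
      · exact Or.inl h
      · have h1 := hcoef x fun y hy => (hmaxE y hy).trans h.ge
        have hs : Basis.dg x ∈ (Schubert.phi K top (chainMon K c)).support := by
          rw [MvPolynomial.mem_support_iff, h1]; exact Finsupp.mem_support_iff.1 hx
        rcases hlead.2 _ hs with h2 | h2
        · exact Or.inr h2
        · exact Or.inl h2
    · rw [← hcoef x₀ fun y hy => (hmaxE y hy).trans (by rw [hx₀]), hx₀]
      exact hlead.1
  refine Degen.main_gens K w om hd _ (fun m c => ?_) ?_ ?_
  · obtain ⟨l, g, hg, hf⟩ := Basis.exists_repr K (chainMon K c)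
    have h := (key m c l g hg hf).1
    rw [hf, map_add, show Degen.mkA K w g = 0 from
      Ideal.Quotient.eq_zero_iff_mem.2 (Basis.plIdealTop_le K hd w hg), zero_add,
      Finsupp.linearCombination_apply, Finsupp.sum, map_sum]
    refine sum_mem fun x hx => ?_
    rw [map_smul]
    refine Submodule.smul_mem _ _ ?_
    by_cases hbel : Basis.Below' w x
    · refine Submodule.subset_span ⟨⟨x, hbel⟩, ?_, rfl⟩
      change Degen.wtT om x.2.1 ≤ Degen.wtT om c
      rw [hwt, hwt]
      rcases h x hx with h' | h'
      · exact h'.le
      · exact (congrArg wf h').le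
    · rw [show Degen.mkA K w (Basis.mon K x) = 0 from
        Ideal.Quotient.eq_zero_iff_mem.2 (Basis.mon_mem_of_not_below K hd hbel)]
      exact zero_mem _
  · rintro f ⟨a, b, rfl⟩
    let s' := W4bk4grassmannian.sup a.1 b.1
    let i' := W4bk4grassmannian.inf a.1 b.1
    have hle : i' ≤ s' := fun t => min_le_max
    let x₀ := Richardson.pair s' i' hle
    refine ⟨Degen.mkA K w (chainMon K ![a.1, b.1] - Basis.mon K x₀), Degen.wtT om ![a.1, b.1], ?_, ?_⟩
    · obtain ⟨l, g, hg, hf⟩ := Basis.exists_repr K (chainMon K ![a.1, b.1])
      obtain ⟨h, h1⟩ := key 2 _ l g hg hf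
      have hx₀ : Basis.dg x₀ = Schubert.chainDiag ![a.1, b.1] := by
        change (∑ k : Fin 2, Schubert.diag (![s', i'] k)) = ∑ k : Fin 2, Schubert.diag (![a.1, b.1] k)
        rw [Fin.sum_univ_two, Fin.sum_univ_two]
        exact Richardson.diag_sup_add_inf a.1 b.1
      have hl1 := h1 x₀ hx₀
      have e : chainMon K ![a.1, b.1] - Basis.mon K x₀ =
          g + ∑ x ∈ l.support.erase x₀, l x • Basis.mon K x := by
        rw [hf, Finsupp.linearCombination_apply, Finsupp.sum,
          ← Finset.add_sum_erase _ _ (Finsupp.mem_support_iff.2 (by rw [hl1]; exact one_ne_zero) :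
            x₀ ∈ l.support), hl1, one_smul]
        ring
      rw [e, map_add, show Degen.mkA K w g = 0 from
        Ideal.Quotient.eq_zero_iff_mem.2 (Basis.plIdealTop_le K hd w hg), zero_add, map_sum]
      refine sum_mem fun x hx => ?_
      rw [map_smul]
      refine Submodule.smul_mem _ _ ?_
      by_cases hbel : Basis.Below' w x
      · refine Submodule.subset_span ⟨⟨x, hbel⟩, ?_, rfl⟩
        change Degen.wtT om x.2.1 < Degen.wtT om ![a.1, b.1]
        rw [hwt, hwt]
        rcases h x (Finset.mem_of_mem_erase hx) with h' | h'
        · exact h'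
        · exact absurd (Basis.dg_injective hd (h'.trans hx₀.symm)) (Finset.ne_of_mem_erase hx)
      · rw [show Degen.mkA K w (Basis.mon K x) = 0 from
          Ideal.Quotient.eq_zero_iff_mem.2 (Basis.mon_mem_of_not_below K hd hbel)]
        exact zero_mem _
    · have h := Degen.Phi_tuple K w om ![a, b]
      have h' := Degen.Phi_tuple K w om ![Below.sup a b, Below.inf a b]
      have e : (fun k => ((![a, b] k : Below w) : Idx d n)) = ![a.1, b.1] := by
        funext k; fin_cases k <;> rfl
      have e' : (fun k => ((![Below.sup a b, Below.inf a b] k : Below w) : Idx d n)) = ![s', i'] := by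
        funext k; fin_cases k <;> rfl
      have ew : Degen.wtT om ![s', i'] = Degen.wtT om ![a.1, b.1] := by
        simp only [Degen.wtT, Fin.sum_univ_two, om, ← map_add]
        exact congrArg wf (Richardson.diag_sup_add_inf a.1 b.1)
      rw [e, Fin.prod_univ_two] at h
      rw [e', Fin.prod_univ_two, ew] at h'
      simp only [map_sub, sub_mul]
      refine congrArg₂ (· - ·) ?_ ?_
      · simpa using h
      · simpa [Basis.mon, x₀, Richardson.pair] using h'
  · intro m c
    induction hk : (m * (d * n) ^ 2 - Straighten.sq fun k => (c k).1) using Nat.strong_induction_on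
      generalizing c with
    | _ N ih =>
    subst hk
    by_cases h : ∀ k l, (c k).1 ≤ (c l).1 ∨ (c l).1 ≤ (c k).1
    · obtain ⟨σ, hσ⟩ := Straighten.exists_antitone_perm (fun k => (c k).1) h
      refine Submodule.mem_sup_right (Submodule.subset_span
        ⟨⟨⟨m, _, hσ⟩, fun k => (c (σ k)).2⟩, ?_⟩)
      exact Equiv.prod_comp σ fun k => (X (c k) : MvPolynomial (Below w) K)
    · push Not at h
      obtain ⟨k, l, h1, h2⟩ := h
      have hkl : k ≠ l := fun e => h1 (e ▸ le_rfl)
      have hmem : l ∈ Finset.univ.erase k := Finset.mem_erase.2 ⟨hkl.symm, Finset.mem_univ l⟩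
      let c' := Function.update (Function.update c k (Below.sup (c k) (c l))) l (Below.inf (c k) (c l))
      let rest : MvPolynomial (Below w) K := ∏ x ∈ (Finset.univ.erase k).erase l, X (c x)
      have hc'k : c' k = Below.sup (c k) (c l) := by simp [c', hkl]
      have hc'l : c' l = Below.inf (c k) (c l) := by simp [c']
      have hrest : ∀ x ∈ (Finset.univ.erase k).erase l, c' x = c x := by
        intro x hx
        simp [c', Function.update_of_ne (Finset.ne_of_mem_erase hx),
          Function.update_of_ne (Finset.ne_of_mem_erase (Finset.mem_of_mem_erase hx))]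
      have hsq : Straighten.sq (fun x => (c x).1) < Straighten.sq fun x => (c' x).1 := by
        unfold Straighten.sq
        rw [← Finset.add_sum_erase _ _ (Finset.mem_univ k), ← Finset.add_sum_erase _ _ hmem,
          ← Finset.add_sum_erase _ _ (Finset.mem_univ k), ← Finset.add_sum_erase _ _ hmem,
          ← add_assoc, ← add_assoc,
          Finset.sum_congr rfl (fun x hx => by rw [hrest x hx] :
            ∀ x ∈ (Finset.univ.erase k).erase l, codeg (c' x).1 ^ 2 = codeg (c x).1 ^ 2)]
        refine Nat.add_lt_add_right ?_ _
        simp only [hc'k, hc'l]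
        change codeg (c k).1 ^ 2 + codeg (c l).1 ^ 2 <
          codeg (W4bk4grassmannian.sup (c k).1 (c l).1) ^ 2 + codeg (W4bk4grassmannian.inf (c k).1 (c l).1) ^ 2
        set p := (c k).1
        set q := (c l).1
        have hsum : codeg (W4bk4grassmannian.sup p q) + codeg (W4bk4grassmannian.inf p q) =
            codeg p + codeg q := by
          simp only [codeg, ← Finset.sum_add_distrib]
          refine Finset.sum_congr rfl fun t _ => ?_
          change ((max (p.1 t) (q.1 t)).val - t.val) + ((min (p.1 t) (q.1 t)).val - t.val) = _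
          rcases le_total (p.1 t) (q.1 t) with h | h
          · rw [max_eq_right h, min_eq_left h, add_comm]
          · rw [max_eq_left h, min_eq_right h]
        have hp : codeg p < codeg (W4bk4grassmannian.sup p q) := by
          by_contra hh
          have e := Straighten.eq_of_le_of_codeg (a := p) (b := W4bk4grassmannian.sup p q)
            (fun t => le_max_left _ _) (not_lt.1 hh)
          exact h2 (by rw [e]; exact fun t => le_max_right _ _)
        have hq : codeg q < codeg (W4bk4grassmannian.sup p q) := by
          by_contra hh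
          have e := Straighten.eq_of_le_of_codeg (a := q) (b := W4bk4grassmannian.sup p q)
            (fun t => le_max_right _ _) (not_lt.1 hh)
          exact h1 (by rw [e]; exact fun t => le_max_left _ _)
        nlinarith
      have hprod : ∀ e : Fin m → Below w, (∀ x ∈ (Finset.univ.erase k).erase l, e x = c x) →
          (∏ x, X (e x) : MvPolynomial (Below w) K) = X (e k) * X (e l) * rest := by
        intro e he
        rw [← Finset.mul_prod_erase _ _ (Finset.mem_univ k), ← Finset.mul_prod_erase _ _ hmem,
          ← mul_assoc, Finset.prod_congr rfl fun x hx => by rw [he x hx]]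
      have hsub : (∏ x, X (c x) : MvPolynomial (Below w) K) - ∏ x, X (c' x) ∈
          (hibiIdeal K w).restrictScalars K := by
        rw [hprod c (fun _ _ => rfl), hprod c' hrest, hc'k, hc'l, ← sub_mul]
        exact Ideal.mul_mem_right rest _ (Ideal.subset_span ⟨c k, c l, rfl⟩)
      have h' := ih _ (by have := Straighten.sq_le (fun x => (c' x).1); omega) c' rfl
      have := add_mem (Submodule.mem_sup_left hsub) h'
      rw [sub_add_cancel] at this
      exact this

end Groth.Agent.S11273
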