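import Groth.Statements.S11274
import Groth.Agent.W4bk4.Degen
-- import your own Groth.Agent.* helpers here

set_option autoImplicit false
universe u
open W4bk4grassmannian MvPolynomial Groth.Agent.W4bk4

namespace Groth.Agent.S11274

open W4bk4grassmannian in
/-- Degeneration of the cone over a Schubert variety to a Stanley–Reisner ring: let K be an
algebraically closed field, 0 < d < n, and I(d,n) the strictly increasing maps Fin d → Fin n ordered
entrywise; S = K[X_θ : θ ∈ I(d,n)] is the Plücker polynomial ring and, for τ ∈ I(d,n), J(τ) ⊆ S is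
the ideal of polynomials vanishing at the d × d row-minors of every n × d matrix over K whose minors
on rows φ ≰ τ are zero (the homogeneous ideal of the Schubert variety X(τ) ⊆ G(d,n)). Let w ∈
I(d,n), H(w) = {θ ≤ w} (a distributive lattice under entrywise max and min) and K[x_θ : θ ∈ H(w)]
the polynomial ring on it. Then there is a commutative K[t]-algebra R, free as a K[t]-module, whose
fibre R/tR at t = 0 is K-isomorphic to the Stanley–Reisner ring K[x_θ : θ ≤ w]/(x_α x_β : α, β
incomparable) and whose fibre R/(t - c)R at every c ≠ 0 in K is K-isomorphic to S/J(w): the cone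
over the Schubert variety X(w) degenerates flatly to the Stanley–Reisner ring K[x_θ : θ ≤ w]/(x_α
x_β : α, β incomparable). (Existence of the family and of the fibre isomorphisms only; the published
statement constructs the family explicitly, by deforming the straightening relations, and identifies
R[1/t] with (S/J(w))[t, 1/t], which gives the fibres at c ≠ 0.) -/
theorem result (K : Type u) [Field K] [IsAlgClosed K] (d n : ℕ)
    (hd : 0 < d) (hdn : d < n) (w : Idx d n) :
    ∃ (R : Type u) (_ : CommRing R) (_ : Algebra K R) (_ : Algebra (Polynomial K) R)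
      (_ : IsScalarTower K (Polynomial K) R),
      Module.Free (Polynomial K) R ∧
      Nonempty ((R ⧸ Ideal.span {algebraMap (Polynomial K) R Polynomial.X}) ≃ₐ[K]
        (MvPolynomial (Below w) K ⧸ srIdeal K w)) ∧
      ∀ c : K, c ≠ 0 →
        Nonempty ((R ⧸ Ideal.span {algebraMap (Polynomial K) R (Polynomial.X - Polynomial.C c)}) ≃ₐ[K]
          (PlRing K d n ⧸ schubertVanishing K d n w)) := by
  classical
  set B := (d * n) ^ 2 with hB
  let om : Idx d n → ℕ := fun θ => B - codeg θ ^ 2
  have hom : ∀ (m : ℕ) (c : Fin m → Idx d n), Degen.wtT om c + Straighten.sq c = m * B := by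
    intro m c
    rw [Degen.wtT, Straighten.sq, ← Finset.sum_add_distrib]
    rw [Finset.sum_congr rfl fun k _ => Nat.sub_add_cancel (Nat.pow_le_pow_left (Straighten.codeg_le (c k)) 2)]
    simp [hB]
  have hmem : ∀ (m s : ℕ) (f : PlRing K d n), f ∈ Straighten.stdFrom K d n m s →
      Degen.mkA K w f ∈ Submodule.span K (Degen.v K w '' {x | Degen.W w om x + s ≤ m * B}) := by
    intro m s f hf
    obtain ⟨g, hg, h, hh, rfl⟩ := Submodule.mem_sup.1 hf
    have hg0 : Degen.mkA K w g = 0 :=
      Ideal.Quotient.eq_zero_iff_mem.2 (Basis.plIdealTop_le K hd w hg)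
    rw [map_add, hg0, zero_add]
    refine Submodule.span_induction (p := fun y _ => Degen.mkA K w y ∈ Submodule.span K
      (Degen.v K w '' {x | Degen.W w om x + s ≤ m * B})) ?_ ?_ ?_ ?_ hh
    · rintro _ ⟨c, hc, hs, rfl⟩
      by_cases hbel : Basis.Below' w ⟨m, c, hc⟩
      · refine Submodule.subset_span ⟨⟨⟨m, c, hc⟩, hbel⟩, ?_, rfl⟩
        change Degen.wtT om c + s ≤ m * B
        have := hom m c; omega
      · have : Degen.mkA K w (chainMon K c) = 0 :=
          Ideal.Quotient.eq_zero_iff_mem.2 (Basis.mon_mem_of_not_below K hd hbel)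
        rw [this]; exact zero_mem _
    · rw [map_zero]; exact zero_mem _
    · intro a b _ _ ha hb; rw [map_add]; exact add_mem ha hb
    · intro a y _ hy; rw [map_smul]; exact Submodule.smul_mem _ _ hy
  refine Degen.main_gens K w om hd _ (fun m c => ?_) ?_ ?_
  · refine Submodule.span_mono ?_ (hmem m _ _ (Straighten.mem_stdFrom K c))
    rintro _ ⟨x, hx, rfl⟩
    refine ⟨x, ?_, rfl⟩
    change Degen.W w om x + Straighten.sq c ≤ m * B at hx
    change Degen.W w om x ≤ Degen.wtT om c
    have := hom m c; omega
  · rintro f ⟨a, b, hab, hba, rfl⟩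
    refine ⟨Degen.mkA K w (chainMon K ![a.1, b.1]), Degen.wtT om ![a.1, b.1], ?_, ?_⟩
    · refine Submodule.span_mono ?_ (hmem 2 _ _ (Straighten.mem_stdFrom_succ K ![a.1, b.1] 0 1
        (fun h => hba h) (fun h => hab h)))
      rintro _ ⟨x, hx, rfl⟩
      refine ⟨x, ?_, rfl⟩
      change Degen.W w om x + (Straighten.sq ![a.1, b.1] + 1) ≤ 2 * B at hx
      change Degen.W w om x < Degen.wtT om ![a.1, b.1]
      have := hom 2 ![a.1, b.1]; omega
    · have h := Degen.Phi_tuple K w om ![a, b]
      have e : (fun k => ((![a, b] k : Below w) : Idx d n)) = ![a.1, b.1] := by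
        funext k; fin_cases k <;> rfl
      rw [e, Fin.prod_univ_two] at h
      simpa using h
  · intro m c
    by_cases h : ∀ k l, (c k).1 ≤ (c l).1 ∨ (c l).1 ≤ (c k).1
    · obtain ⟨σ, hσ⟩ := Straighten.exists_antitone_perm (fun k => (c k).1) h
      refine Submodule.mem_sup_right (Submodule.subset_span
        ⟨⟨⟨m, _, hσ⟩, fun k => (c (σ k)).2⟩, ?_⟩)
      exact Equiv.prod_comp σ fun k => (X (c k) : MvPolynomial (Below w) K)
    · push Not at h
      obtain ⟨k, l, h1, h2⟩ := h
      have hkl : k ≠ l := fun e => h1 (e ▸ le_rfl)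
      refine Submodule.mem_sup_left ?_
      change (∏ x, X (c x)) ∈ srIdeal K w
      rw [← Finset.mul_prod_erase _ _ (Finset.mem_univ k),
        ← Finset.mul_prod_erase _ _ (Finset.mem_erase.2 ⟨hkl.symm, Finset.mem_univ l⟩), ← mul_assoc]
      exact Ideal.mul_mem_right _ _ (Ideal.subset_span ⟨c k, c l, h1, h2, rfl⟩)

end Groth.Agent.S11274
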