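import Groth.Statements.S11276
import Groth.Agent.Depth.CM
import Groth.Agent.VarDim.Algebra
import Mathlib.RingTheory.GradedAlgebra.Radical
import Mathlib.Algebra.Module.LocalizedModule.IsLocalization
-- import your own Groth.Agent.* helpers here

set_option autoImplicit false
universe u v
open W4bk4grassmannian

namespace Groth.Agent.S11276

open DirectSum

variable {K : Type u} [Field K] {A : Type v} [CommRing A] [Algebra K A] (𝒜 : ℕ → Submodule K A)
  [GradedAlgebra 𝒜] (h0 : ∀ a ∈ 𝒜 0, ∃ c : K, algebraMap K A c = a)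

/-- the irrelevant ideal -/
noncomputable abbrev irr : Ideal A := (HomogeneousIdeal.irrelevant 𝒜).toIdeal

theorem mem_irr_iff (a : A) : a ∈ irr 𝒜 ↔ (decompose 𝒜 a 0 : A) = 0 := Iff.rfl

theorem mem_irr_of_pos {k : ℕ} (hk : k ≠ 0) {a : A} (ha : a ∈ 𝒜 k) : a ∈ irr 𝒜 :=
  (mem_irr_iff 𝒜 a).2 (decompose_of_mem_ne 𝒜 ha hk)

include h0 in
theorem isMaximal_irr [Nontrivial A] : (irr 𝒜).IsMaximal := by
  refine Ideal.isMaximal_iff.2 ⟨fun h => ?_, fun J x hle hx hxJ => ?_⟩
  · rw [mem_irr_iff, decompose_of_mem_same 𝒜 (SetLike.one_mem_graded 𝒜)] at h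
    exact one_ne_zero h
  · obtain ⟨c, hc⟩ := h0 _ (decompose 𝒜 x 0).2
    have hc0 : c ≠ 0 := by
      rintro rfl
      exact hx ((mem_irr_iff 𝒜 x).2 (by rw [← hc, map_zero]))
    have : algebraMap K A c ∈ J := by
      have hd : x - algebraMap K A c ∈ irr 𝒜 := by
        rw [mem_irr_iff, decompose_sub, DirectSum.sub_apply, AddSubgroupClass.coe_sub, hc,
          decompose_of_mem_same 𝒜 (decompose 𝒜 x 0).2, sub_self]
      have := J.sub_mem hxJ (hle hd)
      rwa [sub_sub_cancel] at this
    rw [Ideal.eq_top_of_isUnit_mem _ this ((isUnit_iff_ne_zero.2 hc0).map _)]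
    exact trivial

include h0 in
theorem le_irr {P : Ideal A} (hP : P.IsHomogeneous 𝒜) (hne : P ≠ ⊤) : P ≤ irr 𝒜 := by
  intro f hf
  obtain ⟨c, hc⟩ := h0 _ (decompose 𝒜 f 0).2
  rw [mem_irr_iff]
  have hcomp : (decompose 𝒜 f 0 : A) ∈ P := hP 0 hf
  by_contra hne0
  have hc0 : c ≠ 0 := by rintro rfl; exact hne0 (by rw [← hc, map_zero])
  exact hne (Ideal.eq_top_of_isUnit_mem _ (hc ▸ hcomp) ((isUnit_iff_ne_zero.2 hc0).map _))

include h0 in
theorem minimal_le_irr {I p : Ideal A} (hI : I.IsHomogeneous 𝒜) (hp : p ∈ I.minimalPrimes) :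
    p ≤ irr 𝒜 := by
  haveI := hp.1.1
  have hle : I ≤ (p.homogeneousCore 𝒜).toIdeal :=
    hI.toIdeal_homogeneousCore_eq_self.symm.trans_le (Ideal.homogeneousCore_mono _ hp.1.2)
  have heq : p = (p.homogeneousCore 𝒜).toIdeal :=
    le_antisymm (hp.2 ⟨Ideal.IsPrime.homogeneousCore hp.1.1, hle⟩ (p.toIdeal_homogeneousCore_le 𝒜))
      (p.toIdeal_homogeneousCore_le 𝒜)
  refine le_irr 𝒜 h0 ?_ hp.1.1.ne_top
  rw [heq]
  exact HomogeneousIdeal.isHomogeneous _

include h0 in
theorem finiteType_range [IsNoetherianRing A] : Algebra.FiniteType (algebraMap K A).range A := by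
  classical
  obtain ⟨s, hs⟩ := IsNoetherian.noetherian (irr 𝒜)
  let T : Finset A := s.biUnion fun f =>
    ((decompose 𝒜 f).support.filter fun i => i ≠ 0).image fun i => (decompose 𝒜 f i : A)
  have hspan : irr 𝒜 ≤ Ideal.span (T : Set A) := by
    rw [← hs, Submodule.span_le]
    intro f hf
    rw [← sum_support_decompose 𝒜 f]
    refine sum_mem fun i hi => Ideal.subset_span ?_
    have hfirr : f ∈ irr 𝒜 := hs ▸ Submodule.subset_span hf
    refine Finset.mem_biUnion.2 ⟨f, hf, Finset.mem_image.2 ⟨i, Finset.mem_filter.2 ⟨hi, ?_⟩, rfl⟩⟩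
    rintro rfl
    exact DFinsupp.mem_support_toFun _ _ |>.1 hi (Subtype.ext ((mem_irr_iff 𝒜 f).1 hfirr))
  have hT : ∀ t ∈ T, ∃ i, i ≠ 0 ∧ t ∈ 𝒜 i := by
    intro t ht
    obtain ⟨f, -, ht⟩ := Finset.mem_biUnion.1 ht
    obtain ⟨i, hi, rfl⟩ := Finset.mem_image.1 ht
    exact ⟨i, (Finset.mem_filter.1 hi).2, (decompose 𝒜 f i).2⟩
  choose! dT hdT hdT' using hT
  let B := Algebra.adjoin (algebraMap K A).range (T : Set A)
  have hB : ∀ k, ∀ x ∈ 𝒜 k, x ∈ B := by
    intro k
    induction k using Nat.strong_induction_on with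
    | _ k ih =>
    intro x hx
    rcases eq_or_ne k 0 with rfl | hk
    · obtain ⟨c, rfl⟩ := h0 x hx
      exact B.algebraMap_mem (⟨algebraMap K A c, c, rfl⟩ : (algebraMap K A).range)
    · obtain ⟨a, -, ha⟩ := Submodule.mem_span_finset.1 (hspan (mem_irr_of_pos 𝒜 hk hx))
      have h1 := congrArg (fun z => (decompose 𝒜 z k : A)) ha
      simp only [decompose_sum, decompose_of_mem_same 𝒜 hx] at h1
      rw [← h1, DFinsupp.finset_sum_apply, AddSubmonoidClass.coe_finset_sum]
      refine sum_mem fun t ht => ?_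
      rw [smul_eq_mul, coe_decompose_mul_of_right_mem 𝒜 k (hdT' t ht)]
      split
      · exact mul_mem (ih _ (by have := hdT t ht; omega) _ (decompose 𝒜 (a t) _).2)
          (Algebra.subset_adjoin ht)
      · exact zero_mem _
  refine ⟨⟨T, eq_top_iff.2 fun x _ => ?_⟩⟩
  rw [← sum_support_decompose 𝒜 x]
  exact sum_mem fun i _ => hB i _ (decompose 𝒜 x i).2

include h0 in
/-- every chain of primes above a homogeneous ideal is no longer than the height of the vertex -/
theorem ringKrullDim_le_height [IsNoetherianRing A] [Nontrivial A] {I : Ideal A}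
    (hI : I.IsHomogeneous 𝒜) [hm : ((irr 𝒜).map (Ideal.Quotient.mk I)).IsPrime] :
    ringKrullDim (A ⧸ I) ≤ (((irr 𝒜).map (Ideal.Quotient.mk I)).height : WithBot ℕ∞) := by
  classical
  have hmax := isMaximal_irr 𝒜 h0
  let k := (algebraMap K A).range
  letI : Field k := (MulEquiv.isField (Field.toIsField K)
    (RingEquiv.ofBijective (algebraMap K A).rangeRestrict
      ⟨fun x y h => (algebraMap K A).injective (congrArg Subtype.val h),
        (algebraMap K A).rangeRestrict_surjective⟩).symm.toMulEquiv).toField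
  refine iSup_le fun l => ?_
  let q := l.head.asIdeal.comap (Ideal.Quotient.mk I)
  obtain ⟨p, hp, hpq⟩ := Ideal.exists_minimalPrimes_le (I := I) (J := q)
    (fun x hx => by
      change Ideal.Quotient.mk I x ∈ l.head.asIdeal
      rw [Ideal.Quotient.eq_zero_iff_mem.2 hx]; exact zero_mem _)
  haveI := hp.1.1
  have hpm : p ≤ irr 𝒜 := minimal_le_irr 𝒜 h0 hI hp
  let π : (A ⧸ I) →+* (A ⧸ p) := Ideal.Quotient.factor hp.1.2
  have hπ : Function.Surjective π := Ideal.Quotient.factor_surjective _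
  have hker : ∀ i, RingHom.ker π ≤ (l i).asIdeal := by
    intro i x hx
    obtain ⟨a, rfl⟩ := Ideal.Quotient.mk_surjective x
    have : a ∈ p := Ideal.Quotient.eq_zero_iff_mem.1 hx
    exact (LTSeries.monotone l (Fin.zero_le i)) (hpq this)
  haveI := finiteType_range 𝒜 h0
  haveI : Algebra.FiniteType k (A ⧸ p) :=
    Algebra.FiniteType.of_surjective (Ideal.Quotient.mkₐ k p) Ideal.Quotient.mk_surjective
  let M : Ideal (A ⧸ p) := (irr 𝒜).map (Ideal.Quotient.mk p)
  haveI : M.IsMaximal := by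
    refine (Ideal.map_eq_top_or_isMaximal_of_surjective _ Ideal.Quotient.mk_surjective hmax).resolve_left fun h => ?_
    have := congrArg (Ideal.comap (Ideal.Quotient.mk p)) h
    rw [Ideal.comap_map_of_surjective' _ Ideal.Quotient.mk_surjective, Ideal.mk_ker, Ideal.comap_top,
      sup_eq_left.2 hpm] at this
    exact hmax.ne_top this
  let l' : LTSeries (PrimeSpectrum (A ⧸ p)) :=
    LTSeries.mk l.length
      (fun i => ⟨(l i).asIdeal.map π,
        Ideal.map_isPrime_of_surjective hπ (hker i)⟩)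
      (fun i j hij => by
        have h : (l i).asIdeal < (l j).asIdeal := l.strictMono hij
        change (l i).asIdeal.map π < (l j).asIdeal.map π
        refine lt_of_le_of_ne (Ideal.map_mono h.le) fun e => h.ne ?_
        have e' := congrArg (Ideal.comap π) e
        simpa [Ideal.comap_map_of_surjective' _ hπ, sup_eq_left.2 (hker i), sup_eq_left.2 (hker j)] using e')
  have h1 : ((l.length : ℕ) : WithBot ℕ∞) ≤ ringKrullDim (A ⧸ p) := le_iSup (fun m : LTSeries (PrimeSpectrum (A ⧸ p)) => (m.length : WithBot ℕ∞)) l'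
  rw [← Groth.Agent.VarDim.height_eq_ringKrullDim_of_isMaximal k (A ⧸ p) M] at h1
  refine h1.trans (WithBot.coe_le_coe.2 ?_)
  have hcm : M.comap π = (irr 𝒜).map (Ideal.Quotient.mk I) := by
    have h2 : M = ((irr 𝒜).map (Ideal.Quotient.mk I)).map π := by
      rw [Ideal.map_map]; rfl
    rw [h2, Ideal.comap_map_of_surjective' _ hπ, sup_eq_left]
    intro x hx
    obtain ⟨a, rfl⟩ := Ideal.Quotient.mk_surjective x
    exact Ideal.mem_map_of_mem _ (hpm (Ideal.Quotient.eq_zero_iff_mem.1 hx))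
  haveI : ((irr 𝒜).map (Ideal.Quotient.mk I)).IsPrime := hm
  rw [show M.height = Order.height (⟨M, inferInstance⟩ : PrimeSpectrum (A ⧸ p)) from
      PrimeSpectrum.height_eq_orderHeight ⟨M, inferInstance⟩,
    show ((irr 𝒜).map (Ideal.Quotient.mk I)).height =
      Order.height (⟨(irr 𝒜).map (Ideal.Quotient.mk I), hm⟩ : PrimeSpectrum (A ⧸ I)) from
      PrimeSpectrum.height_eq_orderHeight ⟨(irr 𝒜).map (Ideal.Quotient.mk I), hm⟩,
    show (⟨(irr 𝒜).map (Ideal.Quotient.mk I), hm⟩ : PrimeSpectrum (A ⧸ I)) =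
      PrimeSpectrum.comap π ⟨M, inferInstance⟩ from PrimeSpectrum.ext hcm.symm]
  refine Order.height_le_height_apply_of_strictMono _ ?_ _
  intro P Q hPQ
  have hlt : P.asIdeal < Q.asIdeal := hPQ
  refine lt_of_le_of_ne (Ideal.comap_mono hlt.le) fun e => hlt.ne ?_
  exact Ideal.comap_injective_of_surjective π hπ (congrArg PrimeSpectrum.asIdeal e)

/-- modules at a prime containing `J` and the corresponding local ring of the quotient -/
theorem vertex_local [IsNoetherianRing A] (m J : Ideal A) [m.IsPrime] (hJm : J ≤ m)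
    [hm : (m.map (Ideal.Quotient.mk J)).IsPrime] :
    Module.supportDim (Localization.AtPrime m) (LocalizedModule m.primeCompl (A ⧸ J)) =
        ((m.map (Ideal.Quotient.mk J)).height : WithBot ℕ∞) ∧
      (LocCoh.IsCohenMacaulayModule (Localization.AtPrime m) (LocalizedModule m.primeCompl (A ⧸ J)) ↔
        LocCoh.IsCohenMacaulayLocalRing (Localization.AtPrime (m.map (Ideal.Quotient.mk J)))) := by
  let mb : Ideal (A ⧸ J) := m.map (Ideal.Quotient.mk J)
  let L := Localization.AtPrime m
  let Lq := Localization.AtPrime mb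
  have hcomap : m = mb.comap (Ideal.Quotient.mk J) := by
    rw [Ideal.comap_map_of_surjective' _ Ideal.Quotient.mk_surjective, Ideal.mk_ker, sup_eq_left.2 hJm]
  have hsub : Algebra.algebraMapSubmonoid (A ⧸ J) m.primeCompl = mb.primeCompl := by
    ext z
    constructor
    · rintro ⟨a, ha, rfl⟩ hz
      exact ha (by rw [hcomap]; exact hz)
    · intro hz
      obtain ⟨a, rfl⟩ := Ideal.Quotient.mk_surjective z
      exact ⟨a, fun h => hz (by rw [hcomap] at h; exact h), rfl⟩
  haveI : IsLocalization (Algebra.algebraMapSubmonoid (A ⧸ J) m.primeCompl) Lq := by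
    rw [hsub]; infer_instance
  haveI := (isLocalizedModule_iff_isLocalization (R := A) (A := A ⧸ J) (Aₛ := Lq) (S := m.primeCompl)).2 inferInstance
  letI : Algebra L Lq := (Localization.localRingHom m mb (Ideal.Quotient.mk J) hcomap).toAlgebra
  haveI : IsScalarTower A L Lq := IsScalarTower.of_algebraMap_eq fun a => by
    rw [RingHom.algebraMap_toAlgebra, Localization.localRingHom_to_map]
    rfl
  have hsurj : Function.Surjective (algebraMap L Lq) := by
    intro z
    obtain ⟨⟨b, u⟩, rfl⟩ := IsLocalization.mk'_surjective mb.primeCompl z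
    obtain ⟨a, rfl⟩ := Ideal.Quotient.mk_surjective b
    obtain ⟨u', hu'⟩ := Ideal.Quotient.mk_surjective u.1
    have hu'm : u' ∈ m.primeCompl := fun h => u.2 (by rw [← hu']; exact Ideal.mem_map_of_mem _ h)
    refine ⟨IsLocalization.mk' L a ⟨u', hu'm⟩, ?_⟩
    rw [RingHom.algebraMap_toAlgebra, Localization.localRingHom_mk']
    congr 1
    exact Subtype.ext hu'
  haveI : Module.Finite L Lq := Module.Finite.of_surjective (Algebra.linearMap L Lq) hsurj
  let e : LocalizedModule m.primeCompl (A ⧸ J) ≃ₗ[L] Lq :=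
    (IsLocalizedModule.iso m.primeCompl
      (IsScalarTower.toAlgHom A (A ⧸ J) Lq).toLinearMap).extendScalarsOfIsLocalization m.primeCompl L
  constructor
  · rw [Module.supportDim_eq_of_equiv (R := L) (N := Lq) e, ← Groth.Agent.Depth.supportDim_of_surjective (S := Lq) hsurj,
      Module.supportDim_self_eq_ringKrullDim, IsLocalization.AtPrime.ringKrullDim_eq_height mb Lq]
  · rw [Groth.Agent.Depth.isCohenMacaulayModule_congr (R := L) (N := Lq) e,
      ← Groth.Agent.Depth.isCohenMacaulayModule_iff_of_surjective (S := Lq) hsurj,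
      Groth.Agent.Depth.isCohenMacaulayLocalRing_iff (R := Lq)]

end Groth.Agent.S11276

namespace Groth.Agent.S11276

/-- With the conclusion at the irrelevant ideal: let K be a field, A a commutative Noetherian K-algebra
graded by ℕ with degree-zero part K, I and J homogeneous ideals of A such that A/I and A/J are
Cohen–Macaulay rings of Krull dimension e and A/(I + J) is a Cohen–Macaulay ring of Krull dimension
e - 1, where e ≥ 1. Let m be the image in A/(I ∩ J) of the irrelevant ideal A_+ (assumed prime; it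
is maximal). Then the local ring (A/(I ∩ J))_m is Cohen–Macaulay of Krull dimension e. (The
published lemma concludes that A/(I ∩ J) itself is Cohen–Macaulay of dimension e; this row states
the conclusion at the irrelevant ideal only, from which the global one follows by the graded
local–global principle.) -/
theorem result (K : Type u) [Field K] (A : Type v) [CommRing A]
    [Algebra K A] [IsNoetherianRing A] (𝒜 : ℕ → Submodule K A) [GradedAlgebra 𝒜]
    (h0 : ∀ a ∈ 𝒜 0, ∃ c : K, algebraMap K A c = a) (I J : Ideal A) (hI : I.IsHomogeneous 𝒜)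
    (hJ : J.IsHomogeneous 𝒜) (e : ℕ) (he : 1 ≤ e)
    (hIcm : LocCoh.IsCohenMacaulayRing (A ⧸ I)) (hJcm : LocCoh.IsCohenMacaulayRing (A ⧸ J))
    (hIJcm : LocCoh.IsCohenMacaulayRing (A ⧸ (I ⊔ J)))
    (hIdim : ringKrullDim (A ⧸ I) = (e : WithBot ℕ∞)) (hJdim : ringKrullDim (A ⧸ J) = (e : WithBot ℕ∞))
    (hIJdim : ringKrullDim (A ⧸ (I ⊔ J)) = ((e - 1 : ℕ) : WithBot ℕ∞))
    [hm : ((HomogeneousIdeal.irrelevant 𝒜).toIdeal.map (Ideal.Quotient.mk (I ⊓ J))).IsPrime] :
    LocCoh.IsCohenMacaulayLocalRing (Localization.AtPrime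
        ((HomogeneousIdeal.irrelevant 𝒜).toIdeal.map (Ideal.Quotient.mk (I ⊓ J)))) ∧
      ringKrullDim (Localization.AtPrime
        ((HomogeneousIdeal.irrelevant 𝒜).toIdeal.map (Ideal.Quotient.mk (I ⊓ J)))) = (e : WithBot ℕ∞) := by
  classical
  let m := irr 𝒜
  haveI : Nontrivial A := by
    by_contra h
    rw [not_nontrivial_iff_subsingleton] at h
    exact hm.ne_top (Subsingleton.elim _ _)
  have hmax : m.IsMaximal := isMaximal_irr 𝒜 h0
  have hbar : ∀ P : Ideal A, P.IsHomogeneous 𝒜 → P ≠ ⊤ →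
      P ≤ m ∧ (m.map (Ideal.Quotient.mk P)).IsPrime := fun P hP hne =>
    ⟨le_irr 𝒜 h0 hP hne, Ideal.map_isPrime_of_surjective Ideal.Quotient.mk_surjective
      (by rw [Ideal.mk_ker]; exact le_irr 𝒜 h0 hP hne)⟩
  have hne : ∀ (P : Ideal A) (k : ℕ), ringKrullDim (A ⧸ P) = (k : WithBot ℕ∞) → P ≠ ⊤ := by
    rintro P k h rfl
    haveI : Subsingleton (A ⧸ (⊤ : Ideal A)) := Ideal.Quotient.subsingleton_iff.2 rfl
    rw [ringKrullDim_eq_bot_of_subsingleton] at h
    exact WithBot.bot_ne_coe h
  let L := Localization.AtPrime m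
  -- vertex depth of a Cohen–Macaulay quotient
  have hdepth : ∀ (P : Ideal A) (k : ℕ), P.IsHomogeneous 𝒜 → LocCoh.IsCohenMacaulayRing (A ⧸ P) →
      ringKrullDim (A ⧸ P) = (k : WithBot ℕ∞) →
      LocCoh.depth L (LocalizedModule m.primeCompl (A ⧸ P)) = (k : ℕ∞) := by
    intro P k hP hcm hdim
    obtain ⟨hPm, hp⟩ := hbar P hP (hne P k hdim)
    obtain ⟨h1, h2⟩ := vertex_local m P hPm
    have h3 : LocCoh.IsCohenMacaulayModule L (LocalizedModule m.primeCompl (A ⧸ P)) :=
      h2.2 (hcm.isCohenMacaulayLocalRing_localization _)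
    have h4 : ((m.map (Ideal.Quotient.mk P)).height : WithBot ℕ∞) = (k : WithBot ℕ∞) :=
      le_antisymm ((Ideal.height_le_ringKrullDim_of_ne_top hp.ne_top).trans hdim.le)
        (hdim.ge.trans (ringKrullDim_le_height 𝒜 h0 hP))
    exact WithBot.coe_inj.1 (h3.symm.trans (h1.trans h4))
  have dI := hdepth I e hI hIcm hIdim
  have dJ := hdepth J e hJ hJcm hJdim
  have dIJ := hdepth (I ⊔ J) (e - 1) (Ideal.IsHomogeneous.sup hI hJ) hIJcm hIJdim
  -- the two exact sequences
  let g : (A ⧸ (I ⊓ J)) →ₗ[A] (A ⧸ I) := Submodule.factor (inf_le_left : I ⊓ J ≤ I)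
  let C := LinearMap.ker g
  let f₂ : C →ₗ[A] (A ⧸ J) := (Submodule.factor (inf_le_right : I ⊓ J ≤ J)).comp C.subtype
  let g₂ : (A ⧸ J) →ₗ[A] (A ⧸ (I ⊔ J)) := Submodule.factor (le_sup_right : J ≤ I ⊔ J)
  have hg : Function.Surjective g := Submodule.factor_surjective _
  have hfg : Function.Exact C.subtype g := LinearMap.exact_subtype_ker_map g
  have hf₂ : Function.Injective f₂ := by
    rw [← LinearMap.ker_eq_bot, LinearMap.ker_eq_bot']
    rintro ⟨z, hz⟩ h
    obtain ⟨a, rfl⟩ := Submodule.Quotient.mk_surjective _ z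
    change g (Submodule.Quotient.mk a) = 0 at hz
    change Submodule.Quotient.mk a = (0 : A ⧸ J) at h
    change Submodule.Quotient.mk a = (0 : A ⧸ I) at hz
    rw [Submodule.Quotient.mk_eq_zero] at h hz
    exact Subtype.ext ((Submodule.Quotient.mk_eq_zero _).2 ⟨hz, h⟩)
  have hg₂ : Function.Surjective g₂ := Submodule.factor_surjective _
  have hfg₂ : Function.Exact f₂ g₂ := by
    intro y
    obtain ⟨a, rfl⟩ := Submodule.Quotient.mk_surjective _ y
    change Submodule.Quotient.mk a = (0 : A ⧸ (I ⊔ J)) ↔ _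
    rw [Submodule.Quotient.mk_eq_zero]
    constructor
    · intro ha
      obtain ⟨u, hu, v, hv, rfl⟩ := Submodule.mem_sup.1 ha
      refine ⟨⟨Submodule.Quotient.mk u, (Submodule.Quotient.mk_eq_zero I).2 hu⟩, ?_⟩
      change Submodule.Quotient.mk u = (Submodule.Quotient.mk (u + v) : A ⧸ J)
      rw [Submodule.Quotient.eq]
      simpa using hv
    · rintro ⟨⟨z, hz⟩, h⟩
      obtain ⟨u, rfl⟩ := Submodule.Quotient.mk_surjective _ z
      change Submodule.Quotient.mk u = (0 : A ⧸ I) at hz
      change Submodule.Quotient.mk u = (Submodule.Quotient.mk a : A ⧸ J) at h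
      rw [Submodule.Quotient.mk_eq_zero] at hz
      rw [Submodule.Quotient.eq] at h
      have := Submodule.sub_mem _ (Submodule.mem_sup_left hz : u ∈ I ⊔ J) (Submodule.mem_sup_right h)
      simpa using this
  haveI : Module.Finite A C := Module.IsNoetherian.finite A C
  have hC : (e : ℕ∞) ≤ LocCoh.depth L (LocalizedModule m.primeCompl C) := by
    refine le_trans ?_ (Groth.Agent.Depth.min_le_idealDepth_X₁
      (LocalizedModule.map_injective m.primeCompl f₂ hf₂)
      (LocalizedModule.map_surjective m.primeCompl g₂ hg₂)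
      (LocalizedModule.map_exact m.primeCompl f₂ g₂ hfg₂))
    rw [← Groth.Agent.Depth.depth_eq_idealDepth, ← Groth.Agent.Depth.depth_eq_idealDepth, dJ, dIJ]
    refine le_min le_rfl ?_
    exact_mod_cast (show e ≤ e - 1 + 1 by omega)
  have hInf : (e : ℕ∞) ≤ LocCoh.depth L (LocalizedModule m.primeCompl (A ⧸ (I ⊓ J))) := by
    have hi : Function.Injective (LocalizedModule.map m.primeCompl C.subtype) :=
      LocalizedModule.map_injective m.primeCompl C.subtype (Submodule.injective_subtype C)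
    have hs : Function.Surjective (LocalizedModule.map m.primeCompl g) :=
      LocalizedModule.map_surjective m.primeCompl g hg
    have he' : Function.Exact (LocalizedModule.map m.primeCompl C.subtype) (LocalizedModule.map m.primeCompl g) :=
      LocalizedModule.map_exact m.primeCompl C.subtype g hfg
    refine le_trans ?_ (Groth.Agent.Depth.min_le_idealDepth_X₂
      (M' := LocalizedModule m.primeCompl C) (M := LocalizedModule m.primeCompl (A ⧸ (I ⊓ J))) hi hs he')
    exact le_min hC dI.ge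
  have hne' : I ⊓ J ≠ ⊤ := fun h => hne I e hIdim (top_le_iff.1 (h ▸ inf_le_left))
  obtain ⟨hle, -⟩ := hbar _ (Ideal.IsHomogeneous.inf hI hJ) hne'
  obtain ⟨h1, h2⟩ := vertex_local m (I ⊓ J) hle
  -- the union has dimension at most `e`
  have hdimle : ringKrullDim (A ⧸ (I ⊓ J)) ≤ (e : WithBot ℕ∞) := by
    refine iSup_le fun l => ?_
    have key : ∀ P : Ideal A, ∀ hP : I ⊓ J ≤ P, ringKrullDim (A ⧸ P) = (e : WithBot ℕ∞) →
        P ≤ l.head.asIdeal.comap (Ideal.Quotient.mk (I ⊓ J)) → (l.length : WithBot ℕ∞) ≤ (e : WithBot ℕ∞) := by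
      intro P hP hdim hPl
      let π : (A ⧸ (I ⊓ J)) →+* (A ⧸ P) := Ideal.Quotient.factor hP
      have hπ : Function.Surjective π := Ideal.Quotient.factor_surjective _
      have hker : ∀ i, RingHom.ker π ≤ (l i).asIdeal := by
        intro i x hx
        obtain ⟨a, rfl⟩ := Ideal.Quotient.mk_surjective x
        exact (LTSeries.monotone l (Fin.zero_le i)) (hPl (Ideal.Quotient.eq_zero_iff_mem.1 hx))
      let l' : LTSeries (PrimeSpectrum (A ⧸ P)) :=
        LTSeries.mk l.length
          (fun i => ⟨(l i).asIdeal.map π, Ideal.map_isPrime_of_surjective hπ (hker i)⟩)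
          (fun i j hij => by
            have h : (l i).asIdeal < (l j).asIdeal := l.strictMono hij
            change (l i).asIdeal.map π < (l j).asIdeal.map π
            refine lt_of_le_of_ne (Ideal.map_mono h.le) fun e' => h.ne ?_
            have e'' := congrArg (Ideal.comap π) e'
            simpa [Ideal.comap_map_of_surjective' _ hπ, sup_eq_left.2 (hker i), sup_eq_left.2 (hker j)] using e'')
      exact (le_iSup (fun m : LTSeries (PrimeSpectrum (A ⧸ P)) => (m.length : WithBot ℕ∞)) l').trans hdim.le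
    have hprod : I * J ≤ l.head.asIdeal.comap (Ideal.Quotient.mk (I ⊓ J)) := fun x hx => by
      change Ideal.Quotient.mk (I ⊓ J) x ∈ l.head.asIdeal
      rw [Ideal.Quotient.eq_zero_iff_mem.2 (Ideal.mul_le_inf hx)]
      exact zero_mem _
    rcases (Ideal.IsPrime.mul_le (Ideal.IsPrime.comap _)).1 hprod with h | h
    · exact key I inf_le_left hIdim h
    · exact key J inf_le_right hJdim h
  have hup : Module.supportDim L (LocalizedModule m.primeCompl (A ⧸ (I ⊓ J))) ≤ (e : WithBot ℕ∞) := by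
    rw [h1]
    exact (Ideal.height_le_ringKrullDim_of_ne_top hm.ne_top).trans hdimle
  haveI : Nontrivial (LocalizedModule m.primeCompl (A ⧸ (I ⊓ J))) := by
    rw [← Module.supportDim_ne_bot_iff_nontrivial L, h1]
    exact WithBot.coe_ne_bot
  have hlow : ((LocCoh.depth L (LocalizedModule m.primeCompl (A ⧸ (I ⊓ J))) : ℕ∞) : WithBot ℕ∞) ≤
      Module.supportDim L (LocalizedModule m.primeCompl (A ⧸ (I ⊓ J))) := Groth.Agent.Depth.depth_le_supportDim
  have hdimeq : Module.supportDim L (LocalizedModule m.primeCompl (A ⧸ (I ⊓ J))) = (e : WithBot ℕ∞) :=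
    le_antisymm hup ((WithBot.coe_le_coe.2 hInf).trans hlow)
  refine ⟨h2.1 (le_antisymm (hdimeq.le.trans (WithBot.coe_le_coe.2 hInf)) hlow), ?_⟩
  rw [IsLocalization.AtPrime.ringKrullDim_eq_height
    ((HomogeneousIdeal.irrelevant 𝒜).toIdeal.map (Ideal.Quotient.mk (I ⊓ J))), ← hdimeq, h1]

end Groth.Agent.S11276
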