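import Groth.Statements.S11277
-- import your own Groth.Agent.* helpers here

set_option autoImplicit false
universe u v
open W4bk4grassmannian

namespace Groth.Agent.S11277

/-- Let K be a field, R = ⊕_{i ≥ 0} R_i an ℕ-graded commutative K-algebra which is an integral domain,
and s ∈ R_e a homogeneous element of degree e > 0. Let R_(s) ⊆ R[1/s] be the homogeneous
localization (fractions f / s^k with f homogeneous of degree k e). Then the image of s in R[1/s] is
transcendental over R_(s). -/
theorem result (K : Type u) [Field K] (R : Type v) [CommRing R]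
    [IsDomain R] [Algebra K R] (𝒜 : ℕ → Submodule K R) [GradedAlgebra 𝒜] (e : ℕ) (he : 0 < e) (s : R)
    (hs : s ∈ 𝒜 e) :
    Transcendental (HomogeneousLocalization.Away 𝒜 s) (algebraMap R (Localization.Away s) s) := by
  intro hT
  obtain ⟨P, hP0, hP⟩ := hT
  apply hP0
  classical
  let N := P.natDegree + 1
  have hnum : ∀ k, ∃ (m : ℕ) (r : R), r ∈ 𝒜 (m * e) ∧
      ∃ q : Submonoid.powers s, (q : R) = s ^ m ∧ (P.coeff k).val = Localization.mk r q := by
    intro k
    obtain ⟨m, r, hr, hmk⟩ := HomogeneousLocalization.Away.mk_surjective 𝒜 hs (P.coeff k)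
    refine ⟨m, r, ?_, ⟨s ^ m, ⟨m, rfl⟩⟩, rfl, ?_⟩
    · simpa using hr
    · rw [← hmk, HomogeneousLocalization.Away.val_mk]
  choose m r hr q hq hval using hnum
  let M := ∑ k ∈ Finset.range N, m k
  have hm : ∀ k ∈ Finset.range N, m k ≤ M := fun k hk =>
    Finset.single_le_sum (fun _ _ => Nat.zero_le _) hk
  have hmul : ∀ k, (P.coeff k).val * algebraMap R (Localization.Away s) (s ^ m k) =
      algebraMap R (Localization.Away s) (r k) := by
    intro k
    rw [hval, ← hq, Localization.mk_eq_mk', IsLocalization.mk'_spec]
  have hsum : algebraMap R (Localization.Away s)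
      (∑ k ∈ Finset.range N, r k * s ^ (M - m k + k)) = 0 := by
    rw [map_sum]
    have h1 : ∑ k ∈ Finset.range N,
        (P.coeff k).val * (algebraMap R (Localization.Away s) s) ^ k = 0 := by
      rw [← hP, Polynomial.aeval_eq_sum_range]
      exact Finset.sum_congr rfl fun k _ => by rw [Algebra.smul_def]; rfl
    rw [← mul_zero ((algebraMap R (Localization.Away s) s) ^ M), ← h1, Finset.mul_sum]
    refine Finset.sum_congr rfl fun k hk => ?_
    rw [map_mul, map_pow, ← hmul k, map_pow]
    have : algebraMap R (Localization.Away s) s ^ M =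
        algebraMap R (Localization.Away s) s ^ m k * algebraMap R (Localization.Away s) s ^ (M - m k) := by
      rw [← pow_add, Nat.add_sub_cancel' (hm k hk)]
    rw [this, pow_add]
    ring
  obtain ⟨⟨_, j, rfl⟩, hj⟩ := (IsLocalization.map_eq_zero_iff (Submonoid.powers s) _ _).1 hsum
  simp only [Finset.mul_sum] at hj
  refine Polynomial.ext fun k => ?_
  simp only [Polynomial.coeff_zero]
  by_cases hk : k ∈ Finset.range N
  · have hmem : ∀ i ∈ Finset.range N, s ^ j * (r i * s ^ (M - m i + i)) ∈ 𝒜 ((j + M + i) * e) := by
      intro i hi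
      have h1 := SetLike.mul_mem_graded (SetLike.pow_mem_graded j hs)
        (SetLike.mul_mem_graded (hr i) (SetLike.pow_mem_graded (M - m i + i) hs))
      convert h1 using 2
      have := hm i hi
      obtain ⟨c, hc⟩ := Nat.exists_eq_add_of_le this
      rw [hc, Nat.add_sub_cancel_left]
      simp only [smul_eq_mul]
      ring
    have hproj := congrArg (fun z : R => GradedRing.proj 𝒜 ((j + M + k) * e) z) hj
    simp only [map_sum, map_zero] at hproj
    rw [Finset.sum_eq_single k] at hproj
    · rw [GradedRing.proj_apply, DirectSum.decompose_of_mem_same _ (hmem k hk)] at hproj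
      apply HomogeneousLocalization.val_injective
      rw [HomogeneousLocalization.val_zero, hval]
      rw [Localization.mk_eq_mk', IsLocalization.mk'_eq_zero_iff]
      refine ⟨⟨s ^ (j + (M - m k + k)), _, rfl⟩, ?_⟩
      change s ^ (j + (M - m k + k)) * r k = 0
      calc s ^ (j + (M - m k + k)) * r k = s ^ j * (r k * s ^ (M - m k + k)) := by ring
        _ = 0 := hproj
    · intro i hi hik
      rw [GradedRing.proj_apply, DirectSum.decompose_of_mem_ne _ (hmem i hi)]
      intro h
      have := Nat.eq_of_mul_eq_mul_right he h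
      omega
    · exact absurd hk
  · exact Polynomial.coeff_eq_zero_of_natDegree_lt (by simp [N] at hk; omega)

end Groth.Agent.S11277
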