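import Groth.Statements.S11278
import Groth.Agent.W4bk4.Cell
-- import your own Groth.Agent.* helpers here

set_option autoImplicit false
universe u v
open W4bk4grassmannian

namespace Groth.Agent.S11278

/-- Unique factorization lifts from the homogeneous localization at a prime element of degree one, in
the generality of the published argument: let K be a field, R = ⊕_{i ≥ 0} R_i a Noetherian ℕ-graded
commutative K-algebra which is an integral domain, and s ∈ R_1 a homogeneous element of degree one
which is a prime element of R. If the homogeneous localization R_(s) (degree-zero part of R[1/s])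
has unique factorization, then R is a unique factorization domain. (The published statement is the
case where R is the homogeneous coordinate ring of a Schubert variety, s the Plücker coordinate of
the least index, which is a prime element there, and R_(s) the coordinate ring of the opposite
cell.) -/
theorem result (K : Type u) [Field K] (R : Type v)
    [CommRing R] [IsDomain R] [IsNoetherianRing R] [Algebra K R] (𝒜 : ℕ → Submodule K R) [GradedAlgebra 𝒜]
    (s : R) (hs : s ∈ 𝒜 1) (hp : Prime s)
    (h : UniqueFactorizationMonoid (HomogeneousLocalization.Away 𝒜 s)) :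
    UniqueFactorizationMonoid R := by
  classical
  let A0 := HomogeneousLocalization.Away 𝒜 s
  have hs0 : s ≠ 0 := hp.ne_zero
  have hle : Submonoid.powers s ≤ nonZeroDivisors R := powers_le_nonZeroDivisors_of_noZeroDivisors hs0
  haveI : IsDomain (Localization.Away s) := IsLocalization.isDomain_localization hle
  haveI : Nontrivial A0 :=
    ⟨⟨0, 1, fun h => by
      have := congrArg HomogeneousLocalization.val h
      rw [HomogeneousLocalization.val_zero, HomogeneousLocalization.val_one] at this
      exact zero_ne_one this⟩⟩
  haveI : IsDomain A0 := by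
    haveI : NoZeroDivisors A0 := ⟨fun {a b} hab => by
      have h := congrArg HomogeneousLocalization.val hab
      rw [HomogeneousLocalization.val_mul, HomogeneousLocalization.val_zero] at h
      exact (mul_eq_zero.1 h).imp (fun h => HomogeneousLocalization.val_injective _ (by simpa using h))
        (fun h => HomogeneousLocalization.val_injective _ (by simpa using h))⟩
    exact NoZeroDivisors.to_isDomain A0
  haveI : UniqueFactorizationMonoid A0 := h
  haveI : IsDomain (Polynomial A0) := inferInstance
  let P := Polynomial A0
  let L := Localization.Away (Polynomial.X : P)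
  have hX0 : (Polynomial.X : P) ≠ 0 := Polynomial.X_ne_zero
  haveI : IsDomain L :=
    IsLocalization.isDomain_localization (powers_le_nonZeroDivisors_of_noZeroDivisors hX0)
  have hm : ∀ m, ∀ r : 𝒜 m, (r : R) ∈ 𝒜 (m • 1) := fun m r => by simp
  let deh : ∀ m, 𝒜 m →+ A0 := fun m =>
    { toFun := fun r => HomogeneousLocalization.Away.mk 𝒜 hs m r (hm m r)
      map_zero' := HomogeneousLocalization.val_injective _ (by
        simp [HomogeneousLocalization.Away.val_mk, Localization.mk_zero])
      map_add' := fun a b => HomogeneousLocalization.val_injective _ (by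
        rw [HomogeneousLocalization.val_add]
        simp only [HomogeneousLocalization.Away.val_mk, Localization.add_mk_self, Submodule.coe_add]) }
  let comp : ∀ m, 𝒜 m →+ P := fun m => (Polynomial.monomial m).toAddMonoidHom.comp (deh m)
  let G : DirectSum ℕ (fun i => ↥(𝒜 i)) →+* P := DirectSum.toSemiring comp
    (by
      change Polynomial.monomial 0 (deh 0 (GradedMonoid.GOne.one (A := fun i => ↥(𝒜 i)))) = 1
      rw [show deh 0 (GradedMonoid.GOne.one (A := fun i => ↥(𝒜 i))) = 1 from
        HomogeneousLocalization.val_injective _ (by
          simp [deh, HomogeneousLocalization.Away.val_mk, HomogeneousLocalization.val_one,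
            Localization.mk_eq_mk'])]
      rfl)
    (fun {i j} a b => by
      change Polynomial.monomial (i + j) (deh (i + j) (GradedMonoid.GMul.mul (A := fun i => ↥(𝒜 i)) a b)) =
        Polynomial.monomial i (deh i a) * Polynomial.monomial j (deh j b)
      rw [Polynomial.monomial_mul_monomial]
      congr 1
      refine HomogeneousLocalization.val_injective _ ?_
      simp only [deh, AddMonoidHom.coe_mk, ZeroHom.coe_mk]
      rw [HomogeneousLocalization.val_mul]
      simp [HomogeneousLocalization.Away.val_mk, Localization.mk_mul, pow_add])
  obtain ⟨F, hFof⟩ : ∃ F : R →+* P,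
      ∀ m (r : R) (hr : r ∈ 𝒜 m), F r = Polynomial.monomial m (deh m ⟨r, hr⟩) := by
    refine ⟨G.comp (DirectSum.decomposeRingEquiv 𝒜).toRingHom, fun m r hr => ?_⟩
    change G (DirectSum.decompose 𝒜 r) = _
    rw [DirectSum.decompose_of_mem 𝒜 hr]
    exact DirectSum.toSemiring_of comp _ _ m _
  have hcoeff : ∀ (r : R) m, (F r).coeff m = deh m (DirectSum.decompose 𝒜 r m) := by
    intro r m
    induction r using DirectSum.Decomposition.inductionOn 𝒜 with
    | zero => simp
    | homogeneous x =>
      rename_i i
      rw [hFof i x x.2, Polynomial.coeff_monomial]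
      by_cases h : i = m
      · subst h
        rw [if_pos rfl]
        congr 1
        exact Subtype.ext (DirectSum.decompose_of_mem_same 𝒜 x.2).symm
      · rw [if_neg h, show DirectSum.decompose 𝒜 (x : R) m = 0 from
          Subtype.ext (DirectSum.decompose_of_mem_ne 𝒜 x.2 h), map_zero]
    | add a b ha hb =>
      rw [map_add, Polynomial.coeff_add, ha, hb, DirectSum.decompose_add, DirectSum.add_apply, map_add]
  have hFinj : Function.Injective F := by
    rw [injective_iff_map_eq_zero]
    intro r hr
    refine (DirectSum.decompose 𝒜).injective ?_
    rw [DirectSum.decompose_zero]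
    refine DFinsupp.ext fun m => Subtype.ext ?_
    have h1 := hcoeff r m
    rw [hr, Polynomial.coeff_zero] at h1
    have h2 := congrArg HomogeneousLocalization.val h1.symm
    simp only [deh, AddMonoidHom.coe_mk, ZeroHom.coe_mk, HomogeneousLocalization.Away.val_mk,
      HomogeneousLocalization.val_zero, Localization.mk_eq_mk', IsLocalization.mk'_eq_zero_iff] at h2
    obtain ⟨c, hc⟩ := h2
    exact (mul_eq_zero.1 hc).resolve_left (nonZeroDivisors.ne_zero (hle c.2))
  have hFs : F s = Polynomial.X := by
    rw [hFof 1 s hs, show deh 1 ⟨s, hs⟩ = 1 from HomogeneousLocalization.val_injective _ (by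
      simp [deh, HomogeneousLocalization.Away.val_mk, HomogeneousLocalization.val_one,
        Localization.mk_eq_mk', IsLocalization.mk'_eq_iff_eq_mul])]
    rfl
  have hloc : ∀ a : P, ∃ (k : ℕ) (r : R), F r = Polynomial.X ^ k * a := by
    intro a
    induction a using Polynomial.induction_on' with
    | add p q hp hq =>
      obtain ⟨k, r, hr⟩ := hp
      obtain ⟨l, t, ht⟩ := hq
      exact ⟨k + l, s ^ l * r + s ^ k * t, by
        simp only [map_add, map_mul, map_pow, hFs, hr, ht, pow_add]; ring⟩
    | monomial m x =>
      obtain ⟨j, r, hr, rfl⟩ := HomogeneousLocalization.Away.mk_surjective 𝒜 hs x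
      have hr' : r ∈ 𝒜 j := by simpa using hr
      refine ⟨j, s ^ m * r, ?_⟩
      rw [map_mul, map_pow, hFs, hFof j r hr', Polynomial.X_pow_eq_monomial,
        Polynomial.X_pow_eq_monomial, Polynomial.monomial_mul_monomial,
        Polynomial.monomial_mul_monomial, one_mul, one_mul, add_comm m j]
      rfl
  refine Groth.Agent.W4bk4.Cell.ufd_of_prime ((algebraMap P L).comp F)
    ((IsLocalization.injective L (powers_le_nonZeroDivisors_of_noZeroDivisors hX0)).comp hFinj)
    s hp ?_ fun l => ?_
  · rw [RingHom.comp_apply, hFs]
    exact IsLocalization.Away.algebraMap_isUnit _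
  · obtain ⟨m, a, ha⟩ := IsLocalization.Away.surj (Polynomial.X : P) l
    obtain ⟨k, r, hr⟩ := hloc a
    refine ⟨k + m, r, ?_⟩
    rw [RingHom.comp_apply, RingHom.comp_apply, hr, hFs, map_mul, map_pow, ← ha, pow_add]
    ring

end Groth.Agent.S11278
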