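import Groth.Statements.S11279
import Groth.Agent.W4bk4.Levels
-- import your own Groth.Agent.* helpers here

set_option autoImplicit false
universe u
open W4bk4grassmannian

namespace Groth.Agent.S11279

open W4bk4grassmannian in
/-- The cone over a union of Schubert divisors of a Schubert variety is Cohen–Macaulay: let K be an
algebraically closed field, 0 < d < n, and I(d,n) the strictly increasing maps Fin d → Fin n ordered
entrywise; S = K[X_θ : θ ∈ I(d,n)] is the Plücker polynomial ring and, for τ ∈ I(d,n), J(τ) ⊆ S is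
the ideal of polynomials vanishing at the d × d row-minors of every n × d matrix over K whose minors
on rows φ ≰ τ are zero (the homogeneous ideal of the Schubert variety X(τ) ⊆ G(d,n)). Let τ ∈ I(d,n)
and let φ_1, …, φ_s be Schubert divisors of τ (φ_i < τ with Σ_t ((φ_i)_t - t) + 1 = Σ_t (τ_t - t)).
Then S/⋂_i J(φ_i), the coordinate ring of the cone over the union ⋃_i X(φ_i), is a Cohen–Macaulay
ring. (The published proposition assumes the Schubert varieties of smaller dimension arithmetically
Cohen–Macaulay; this row drops that hypothesis, which holds for all Schubert varieties.) -/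
theorem result (K : Type u) [Field K] [IsAlgClosed K] (d n : ℕ)
    (hd : 0 < d) (hdn : d < n) (τ : Idx d n) (s : ℕ) (φ : Fin s → Idx d n) (hφ : ∀ i, φ i ∈ divisors τ) :
    LocCoh.IsCohenMacaulayRing (PlRing K d n ⧸ ⨅ i, schubertVanishing K d n (φ i)) := by
  classical
  have hI : (⨅ i, schubertVanishing K d n (φ i)) =
      ⨅ ψ ∈ Finset.univ.image φ, schubertVanishing K d n ψ := by
    refine le_antisymm (le_iInf₂ fun ψ hψ => ?_) (le_iInf fun i => ?_)
    · obtain ⟨i, -, rfl⟩ := Finset.mem_image.1 hψ
      exact iInf_le _ i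
    · exact iInf₂_le (φ i) (Finset.mem_image_of_mem _ (Finset.mem_univ _))
  rcases Nat.eq_zero_or_pos s with rfl | hs
  · haveI : Subsingleton (PlRing K d n ⧸ ⨅ i, schubertVanishing K d n (φ i)) := by
      rw [Ideal.Quotient.subsingleton_iff]
      exact iInf_of_empty _
    exact { isCohenMacaulayLocalRing_localization := fun p hp =>
      absurd (Subsingleton.elim p ⊤) hp.ne_top }
  rw [hI]
  have hmem : ∀ ψ ∈ Finset.univ.image φ, ψ ∈ divisors τ := by
    intro ψ hψ
    obtain ⟨i, -, rfl⟩ := Finset.mem_image.1 hψ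
    exact hφ i
  have hne : (Finset.univ.image φ).Nonempty := ⟨φ ⟨0, hs⟩, Finset.mem_image_of_mem _ (Finset.mem_univ _)⟩
  refine (Groth.Agent.W4bk4.Levels.cm_dim K (codeg τ - 1) _
    (le_iInf₂ fun ψ _ => Groth.Agent.W4bk4.Basis.plIdealTop_le K hd ψ)
    (Groth.Agent.W4bk4.Levels.isHomog_iInf K hd _)
    ((Groth.Agent.W4bk4.Levels.wreg_levList K hd hdn τ).2 _ hne hmem)
    (fun k hk => ?_)).1
  refine Ideal.mem_iInf.2 fun ψ => Ideal.mem_iInf.2 fun hψ =>
    Groth.Agent.W4bk4.Levels.lev_mem_of_lt K hd ?_
  have := (hmem ψ hψ).2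
  omega

end Groth.Agent.S11279
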