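import Groth.Statements.S11280
import Mathlib.RingTheory.Smooth.Quotient
import Mathlib.RingTheory.TensorProduct.Quotient
import Mathlib.RingTheory.RingHom.Smooth
import Mathlib.RingTheory.Ideal.Quotient.PowTransition
import Mathlib.RingTheory.Artinian.Ring
import Mathlib.RingTheory.HopkinsLevitzki

set_option autoImplicit false
universe u
open Deform

namespace Groth.Agent.S11280

section Aux

open TensorProduct

variable {A B : Type u} [CommRing A] [CommRing B] [Algebra A B]

/-- The induced map on quotients. -/
noncomputable abbrev quotAlgMap (I : Ideal A) : A ⧸ I →+* B ⧸ I.map (algebraMap A B) :=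
  Ideal.quotientMap (I.map (algebraMap A B)) (algebraMap A B) Ideal.le_comap_map

lemma flat_quotAlgMap [Module.Flat A B] (I : Ideal A) : (quotAlgMap (B := B) I).Flat := by
  letI := (quotAlgMap (B := B) I).toAlgebra
  haveI : IsScalarTower A (A ⧸ I) (B ⧸ I.map (algebraMap A B)) := IsScalarTower.of_algebraMap_eq fun _ => rfl
  exact Module.Flat.of_linearEquiv ((((Algebra.TensorProduct.quotIdealMapEquivTensorQuot B I).restrictScalars A).trans
    (Algebra.TensorProduct.comm A B (A ⧸ I))).extendScalarsOfSurjective
      (Ideal.Quotient.mk_surjective : Function.Surjective (algebraMap A (A ⧸ I)))).toLinearEquiv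

/-- Formal smoothness of a flat algebra from a nilpotent thickening. -/
theorem formallySmooth_of_nilpotent [Module.Flat A B] (k : ℕ) :
    ∀ I : Ideal A, I ^ (2 ^ k) = ⊥ → (quotAlgMap (B := B) I).FormallySmooth →
      (algebraMap A B).FormallySmooth := by
  have step : ∀ (I I₂ : Ideal A), I₂ ≤ I → I ^ 2 ≤ I₂ → (quotAlgMap (B := B) I).FormallySmooth →
      (quotAlgMap (B := B) I₂).FormallySmooth := fun I I₂ h₂ hsq h => by
    refine RingHom.FormallySmooth.of_flat_of_ker_eq_map_of_square_zero _ (flat_quotAlgMap I₂)
      (Ideal.Quotient.factor h₂) (Ideal.Quotient.factor (Ideal.map_mono h₂)) (quotAlgMap I)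
      (Ideal.Quotient.factor_surjective h₂) (Ideal.Quotient.factor_surjective _) ?_ ?_ ?_ h
    · refine Ideal.Quotient.ringHom_ext (RingHom.ext fun a => ?_)
      rfl
    · rw [Ideal.Quotient.factor_ker, ← Ideal.map_pow, Ideal.map_eq_bot_iff_le_ker, Ideal.mk_ker]
      exact hsq
    · rw [Ideal.Quotient.factor_ker, Ideal.Quotient.factor_ker, Ideal.map_map, Ideal.map_map]
      rfl
  induction k with
  | zero =>
    intro I hI h
    have h0 : I = ⊥ := by rwa [pow_zero, pow_one] at hI
    subst h0
    have e1 : Function.Bijective (Ideal.Quotient.mk (⊥ : Ideal A)) :=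
      ⟨(injective_iff_map_eq_zero _).2 fun a ha => Ideal.mem_bot.1 (Ideal.Quotient.eq_zero_iff_mem.1 ha),
        Ideal.Quotient.mk_surjective⟩
    have e2 : Function.Bijective (Ideal.Quotient.mk ((⊥ : Ideal A).map (algebraMap A B))) :=
      ⟨(injective_iff_map_eq_zero _).2 fun a ha => by
          have := Ideal.Quotient.eq_zero_iff_mem.1 ha
          rwa [Ideal.map_bot, Ideal.mem_bot] at this,
        Ideal.Quotient.mk_surjective⟩
    let e := RingEquiv.ofBijective _ e2
    have hcomp : algebraMap A B = e.symm.toRingHom.comp ((quotAlgMap ⊥).comp (Ideal.Quotient.mk ⊥)) :=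
      RingHom.ext fun a => (e.symm_apply_apply (algebraMap A B a)).symm
    rw [hcomp]
    exact ((RingHom.FormallySmooth.of_bijective e1).comp h).comp (RingHom.FormallySmooth.of_bijective e.symm.bijective)
  | succ k ih =>
    intro I hI h
    exact ih (I ^ 2) (by rw [← pow_mul, ← pow_succ']; exact hI) (step I (I ^ 2) (Ideal.pow_le_self two_ne_zero) le_rfl h)

end Aux

/-- Let k be an algebraically closed field, A a local Artinian k-algebra with residue field k and t an
element of the maximal ideal of A annihilated by the maximal ideal, so that A is a small extension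
of A/tA. Let B be a flat A-algebra whose closed fibre B/m_A B is a formally smooth k-algebra (an
infinitesimal deformation over A of a formally smooth k-algebra). Then every A-algebra automorphism
of B/tB is induced by an A-algebra automorphism of B. (The published statement asks the automorphism
of B/tB to induce the identity on B/m_A B; this row does not. The published statement takes the
closed fibre smooth, that is formally smooth and essentially of finite type; this row asks the
closed fibre to be formally smooth over k in the sense of lifting along all square-zero surjections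
of commutative k-algebras, with no finiteness condition.) -/
theorem result
    {k : Type u} [Field k] [IsAlgClosed k]
    {A : Type u} [CommRing A] [Algebra k A] [IsLocalRing A] [IsArtinianRing A]
    (hres : ∀ a : A, ∃ c : k, a - algebraMap k A c ∈ IsLocalRing.maximalIdeal A)
    (t : A) (ht : t ∈ IsLocalRing.maximalIdeal A)
    (htm : ∀ a ∈ IsLocalRing.maximalIdeal A, a * t = 0)
    {B : Type u} [CommRing B] [Algebra A B] [Module.Flat A B] [Algebra k B] [IsScalarTower k A B]
    (hsm : Algebra.FormallySmooth k (B ⧸ (IsLocalRing.maximalIdeal A).map (algebraMap A B)))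
    (σ : (B ⧸ Ideal.span {algebraMap A B t}) ≃ₐ[A] (B ⧸ Ideal.span {algebraMap A B t})) :
    ∃ τ : B ≃ₐ[A] B, ∀ b : B,
      Ideal.Quotient.mk (Ideal.span {algebraMap A B t}) (τ b) =
        σ (Ideal.Quotient.mk (Ideal.span {algebraMap A B t}) b) := by
  obtain ⟨n, hn⟩ := (isArtinianRing_iff_isNilpotent_maximalIdeal A).1 inferInstance
  let m := IsLocalRing.maximalIdeal A
  have hm : m ^ (2 ^ n) = ⊥ := le_bot_iff.1 ((Ideal.pow_le_pow_right Nat.lt_two_pow_self.le).trans hn.le)
  have hbase : (quotAlgMap (B := B) m).FormallySmooth := by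
    let e₀ : k →+* A ⧸ m := algebraMap k (A ⧸ m)
    have he : Function.Bijective e₀ := ⟨e₀.injective, fun x => by
      obtain ⟨a, rfl⟩ := Ideal.Quotient.mk_surjective x
      obtain ⟨c, hc⟩ := hres a
      exact ⟨c, (Ideal.Quotient.eq.2 hc).symm⟩⟩
    let e := RingEquiv.ofBijective e₀ he
    have hcomp : quotAlgMap (B := B) m = (algebraMap k (B ⧸ m.map (algebraMap A B))).comp e.symm.toRingHom := by
      refine RingHom.ext fun x => ?_
      obtain ⟨c, rfl⟩ := he.2 x
      rw [RingHom.comp_apply, RingEquiv.toRingHom_eq_coe, RingHom.coe_coe, show e.symm (e₀ c) = c from e.symm_apply_apply c]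
      change Ideal.Quotient.mk _ (algebraMap A B (algebraMap k A c)) = Ideal.Quotient.mk _ (algebraMap k B c)
      rw [← IsScalarTower.algebraMap_apply]
    rw [hcomp]
    exact (RingHom.FormallySmooth.of_bijective e.symm.bijective).comp (RingHom.formallySmooth_algebraMap.2 hsm)
  haveI : Algebra.FormallySmooth A B :=
    RingHom.formallySmooth_algebraMap.1 (formallySmooth_of_nilpotent n m hm hbase)
  let K := Ideal.span {algebraMap A B t}
  have htt : algebraMap A B t * algebraMap A B t = 0 := by rw [← map_mul, htm t ht, map_zero]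
  have hK : IsNilpotent (RingHom.ker (Ideal.Quotient.mkₐ A K)) := ⟨2, by
    rw [show RingHom.ker (Ideal.Quotient.mkₐ A K) = K from Ideal.mk_ker, Ideal.span_singleton_pow, pow_two, htt, Ideal.span_singleton_eq_bot.2 rfl]
    rfl⟩
  let lift : ((B ⧸ K) →ₐ[A] (B ⧸ K)) → (B →ₐ[A] B) := fun f =>
    Algebra.FormallySmooth.liftOfSurjective (f.comp (Ideal.Quotient.mkₐ A K)) (Ideal.Quotient.mkₐ A K)
      (Ideal.Quotient.mkₐ_surjective A K) hK
  have hlift : ∀ f b, Ideal.Quotient.mk K (lift f b) = f (Ideal.Quotient.mk K b) := fun f b =>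
    Algebra.FormallySmooth.liftOfSurjective_apply _ _ _ hK b
  have key : ∀ φ : B →ₐ[A] B, (∀ b, φ b - b ∈ K) → Function.Bijective φ := fun φ hφ => by
    have hdd : ∀ b, φ (φ b - b) = φ b - b := fun b => by
      obtain ⟨c, hc⟩ := Ideal.mem_span_singleton'.1 (hφ b)
      obtain ⟨d, hd⟩ := Ideal.mem_span_singleton'.1 (hφ c)
      rw [← hc, map_mul, AlgHom.commutes, show φ c = c + d * algebraMap A B t by rw [hd]; ring, add_mul,
        mul_assoc, htt, mul_zero, add_zero]
    refine ⟨fun x y h => ?_, fun y => ⟨y - (φ y - y), ?_⟩⟩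
    · have := hdd (x - y)
      rw [map_sub φ x y, h, sub_self, zero_sub, map_neg, map_sub, h, sub_self, neg_zero] at this
      exact sub_eq_zero.1 (neg_eq_zero.1 this.symm)
    · rw [map_sub, hdd]
      ring
  have hb : ∀ f g : (B ⧸ K) →ₐ[A] (B ⧸ K), (∀ x, f (g x) = x) → Function.Bijective ((lift f).comp (lift g)) :=
    fun f g hfg => key _ fun b => Ideal.Quotient.eq.1 (by rw [AlgHom.comp_apply, hlift, hlift, hfg])
  have h1 := hb σ.symm.toAlgHom σ.toAlgHom σ.symm_apply_apply
  have h2 := hb σ.toAlgHom σ.symm.toAlgHom σ.apply_symm_apply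
  exact ⟨AlgEquiv.ofBijective (lift σ.toAlgHom)
    ⟨(Function.Injective.of_comp (h1.1 : Function.Injective ((lift σ.symm.toAlgHom) ∘ (lift σ.toAlgHom)))),
      Function.Surjective.of_comp (h2.2 : Function.Surjective ((lift σ.toAlgHom) ∘ (lift σ.symm.toAlgHom)))⟩,
    hlift _⟩

end Groth.Agent.S11280
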