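import Groth.Statements.S11281
import Groth.Agent.Exal.Basic
import Groth.Agent.ArtFunLib.FlatSeq

set_option autoImplicit false
universe u
open Deform

namespace Groth.Agent.S11281

/-- Let k be an algebraically closed field, Λ a local Noetherian k-algebra with residue field k, and R a
local Noetherian Λ-algebra, with local structure map and residue field k. The following are
equivalent: (a) every Λ-extension of R by its residue field k is trivial, i.e. the relative
obstruction space o(R/Λ) = Ex_Λ(R, k) vanishes; (b) for every local Artinian Λ-algebra B with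
residue field k and every t in the maximal ideal of B annihilated by the maximal ideal, every
Λ-algebra map R → B/tB lifts to a Λ-algebra map R → B (formal smoothness of R over Λ tested on small
extensions of Artinian rings). The test algebras B range over the universe of R. -/
theorem result
    {k : Type u} [Field k] [IsAlgClosed k]
    {Λ : Type u} [CommRing Λ] [Algebra k Λ] [IsLocalRing Λ] [IsNoetherianRing Λ]
    (hΛ : ∀ a : Λ, ∃ c : k, a - algebraMap k Λ c ∈ IsLocalRing.maximalIdeal Λ)
    {R : Type u} [CommRing R] [Algebra Λ R] [IsLocalRing R] [IsNoetherianRing R]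
    [IsLocalHom (algebraMap Λ R)]
    (hR : ∀ r : R, ∃ c : k, r - algebraMap Λ R (algebraMap k Λ c) ∈ IsLocalRing.maximalIdeal R) :
    (∀ X : Exal.Ext Λ R (IsLocalRing.ResidueField R), X.IsTrivial) ↔
    (∀ (B : Type u) [CommRing B] [Algebra Λ B] [IsLocalRing B] [IsArtinianRing B],
      (∀ b : B, ∃ c : k, b - algebraMap Λ B (algebraMap k Λ c) ∈ IsLocalRing.maximalIdeal B) →
      ∀ t : B, t ∈ IsLocalRing.maximalIdeal B → (∀ b ∈ IsLocalRing.maximalIdeal B, b * t = 0) →
      ∀ φ : R →ₐ[Λ] B ⧸ Ideal.span {t},
        ∃ φ' : R →ₐ[Λ] B, (Ideal.Quotient.mkₐ Λ (Ideal.span {t})).comp φ' = φ) := by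
  open IsLocalRing in
  classical
  refine ⟨fun h B _ _ _ _ hB t ht htm φ => ?_, fun h X => ?_⟩
  · let mkB : B →ₐ[Λ] B ⧸ Ideal.span {t} := Ideal.Quotient.mkₐ Λ _
    have hmk : Function.Surjective mkB := Ideal.Quotient.mk_surjective
    by_cases ht0 : t = 0
    · have hi : Function.Injective mkB := (injective_iff_map_eq_zero mkB).2 fun b hb => by
        have := Ideal.Quotient.eq_zero_iff_mem.1 (show Ideal.Quotient.mk _ b = 0 from hb)
        simpa [ht0] using this
      let e := AlgEquiv.ofBijective mkB ⟨hi, hmk⟩
      exact ⟨e.symm.toAlgHom.comp φ, AlgHom.ext fun r => e.apply_symm_apply (φ r)⟩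
    let S : Subalgebra Λ (R × B) := AlgHom.equalizer (φ.comp (AlgHom.fst Λ R B)) (mkB.comp (AlgHom.snd Λ R B))
    choose lift hlift using fun r => hmk (φ r)
    let ψ : R →+ B := AddMonoidHom.mk' (fun r => t * lift r) fun a b => by
      rw [← mul_add]
      have h1 : mkB (lift (a + b) - (lift a + lift b)) = 0 := by
        rw [map_sub, map_add, hlift, hlift, hlift, map_add, sub_self]
      obtain ⟨c, hc⟩ := Ideal.mem_span_singleton'.1 (Ideal.Quotient.eq_zero_iff_mem.1
        (show Ideal.Quotient.mk _ (lift (a + b) - (lift a + lift b)) = 0 from h1))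
      rw [← sub_eq_zero, ← mul_sub, ← hc, mul_left_comm, htm t ht, mul_zero]
    have hψ : ∀ r b, mkB b = φ r → ψ r = t * b := fun r b hb => by
      obtain ⟨c, hc⟩ := Ideal.mem_span_singleton'.1 (Ideal.Quotient.eq_zero_iff_mem.1
        (show Ideal.Quotient.mk _ (lift r - b) = 0 by
          rw [map_sub]
          exact sub_eq_zero.2 ((hlift r).trans hb.symm)))
      change t * lift r = t * b
      rw [← sub_eq_zero, ← mul_sub, ← hc, mul_left_comm, htm t ht, mul_zero]
    have hker : ∀ r, ψ r = 0 ↔ r ∈ maximalIdeal R := by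
      have hne : Ideal.span {t} ≠ (⊤ : Ideal B) := fun h' => (maximalIdeal.isMaximal B).ne_top
        (top_le_iff.1 (h' ▸ (Ideal.span_singleton_le_iff_mem _).2 ht))
      have hnu : ∀ b, b ∈ maximalIdeal B ↔ t * b = 0 := fun b => ⟨fun hb => by rw [mul_comm]; exact htm b hb,
        fun hb => (mem_maximalIdeal b).2 fun hu => ht0 ((hu.mul_left_eq_zero).1 hb)⟩
      let K : Ideal R :=
        { carrier := {r | lift r ∈ maximalIdeal B}
          add_mem' := fun {a b} ha hb => (hnu _).2 (by
            change ψ (a + b) = 0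
            rw [map_add, show ψ a = 0 from (hnu _).1 ha, show ψ b = 0 from (hnu _).1 hb, add_zero])
          zero_mem' := (hnu _).2 (map_zero ψ)
          smul_mem' := fun c a ha => (hnu _).2 (by
            refine (hψ (c • a) (lift c * lift a) (by rw [map_mul, hlift, hlift, smul_eq_mul, map_mul])).trans ?_
            rw [mul_left_comm, (hnu _).1 ha, mul_zero]) }
      have hK1 : (1 : R) ∉ K := fun h1 => by
        have : ψ 1 = t * 1 := hψ 1 1 (by rw [map_one, map_one])
        rw [mul_one] at this
        exact ht0 (this ▸ (hnu _).1 h1)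
      intro r
      have hrK : ψ r = 0 ↔ r ∈ K := (hnu _).symm
      rw [hrK]
      refine ⟨fun hr => IsLocalRing.le_maximalIdeal (fun h' => hK1 ((Ideal.eq_top_iff_one K).1 h')) hr, fun hr => ?_⟩
      obtain ⟨c, hc⟩ := hB (lift r)
      by_cases hc0 : c = 0
      · rw [hc0, map_zero, map_zero, sub_zero] at hc
        exact hc
      exfalso
      have h1 : r - algebraMap Λ R (algebraMap k Λ c) ∈ K := by
        apply (hnu _).2
        change ψ _ = 0
        rw [hψ (r - algebraMap Λ R (algebraMap k Λ c)) (lift r - algebraMap Λ B (algebraMap k Λ c))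
          (by rw [map_sub, map_sub, hlift, AlgHom.commutes, AlgHom.commutes])]
        rw [mul_comm]; exact htm _ hc
      have h2 := IsLocalRing.le_maximalIdeal (fun h' => hK1 ((Ideal.eq_top_iff_one K).1 h')) h1
      have h3 := sub_mem hr h2
      rw [sub_sub_cancel] at h3
      exact (mem_maximalIdeal _).1 h3 (((isUnit_iff_ne_zero.2 hc0).map (algebraMap k Λ)).map (algebraMap Λ R))
    have hle : (maximalIdeal R).toAddSubgroup ≤ ψ.ker := fun r hr => (hker r).2 hr
    let incl₀ : ResidueField R →+ B := QuotientAddGroup.lift _ ψ hle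
    have hincl₀ : ∀ r, incl₀ (residue R r) = ψ r := fun r => rfl
    have hmem : ∀ z, (0, incl₀ z) ∈ S := fun z => by
      obtain ⟨r, rfl⟩ := residue_surjective z
      change φ 0 = mkB (incl₀ (residue R r))
      rw [map_zero, hincl₀]
      exact (Ideal.Quotient.eq_zero_iff_mem.2 (Ideal.mul_mem_right _ _ (Ideal.mem_span_singleton_self t))).symm
    let X : Exal.Ext Λ R (ResidueField R) :=
      { E := S
        proj := (AlgHom.fst Λ R B).comp S.val
        incl := AddMonoidHom.mk' (fun z => ⟨(0, incl₀ z), hmem z⟩) fun a b =>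
          Subtype.ext (Prod.ext (add_zero 0).symm (map_add incl₀ a b))
        isExtension :=
          { proj_surjective := fun r => ⟨⟨(r, lift r), (hlift r).symm⟩, rfl⟩
            incl_injective := fun a b hab => by
              obtain ⟨a, rfl⟩ := residue_surjective a
              obtain ⟨b, rfl⟩ := residue_surjective b
              have h1 : ψ a = ψ b := congrArg Prod.snd (congrArg Subtype.val hab)
              rw [← sub_eq_zero, ← map_sub, hker] at h1
              exact Ideal.Quotient.eq.2 h1
            exact := fun p => by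
              refine ⟨fun hp => ?_, ?_⟩
              · have h1 : p.1.1 = 0 := hp
                have h2 : φ p.1.1 = mkB p.1.2 := p.2
                rw [h1, map_zero] at h2
                obtain ⟨c, hc⟩ := Ideal.mem_span_singleton'.1 (Ideal.Quotient.eq_zero_iff_mem.1
                  (show Ideal.Quotient.mk _ p.1.2 = 0 from h2.symm))
                obtain ⟨a, ha⟩ := hB c
                refine ⟨residue R (algebraMap Λ R (algebraMap k Λ a)), Subtype.ext (Prod.ext h1.symm ?_)⟩
                change ψ _ = p.1.2
                rw [hψ _ (algebraMap Λ B (algebraMap k Λ a)) (by rw [AlgHom.commutes, AlgHom.commutes]), ← hc,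
                  eq_comm, mul_comm c, ← sub_eq_zero, ← mul_sub, mul_comm]
                exact htm _ ha
              · rintro ⟨z, rfl⟩
                rfl
            mul_incl := fun p z => by
              obtain ⟨r, rfl⟩ := residue_surjective z
              refine Subtype.ext (Prod.ext (mul_zero _) ?_)
              change p.1.2 * ψ r = ψ (p.1.1 * r)
              rw [hψ (p.1.1 * r) (p.1.2 * lift r) (by
                rw [map_mul, map_mul, hlift, show φ p.1.1 = mkB p.1.2 from p.2])]
              exact mul_left_comm _ _ _ } }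
    obtain ⟨s, hs⟩ := (h X : ∃ s : R →ₐ[Λ] X.E, ∀ r, X.proj (s r) = r)
    refine ⟨((AlgHom.snd Λ R B).comp S.val).comp s, AlgHom.ext fun r => ?_⟩
    exact ((s r).2).symm.trans (congrArg φ (hs r))
  · let E := X.E
    let N : Ideal E := RingHom.ker X.proj.toRingHom
    have hN : IsNilpotent N := ⟨2, by
      rw [pow_two, Submodule.zero_eq_bot, eq_bot_iff, Ideal.mul_le]
      intro x hx y hy
      obtain ⟨z, rfl⟩ := (X.isExtension.exact x).1 hx
      obtain ⟨z', rfl⟩ := (X.isExtension.exact y).1 hy
      rw [Exal.incl_mul_incl]; exact zero_mem _⟩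
    have hNs : N = Ideal.span {X.incl 1} := by
      refine le_antisymm (fun x hx => ?_) ((Ideal.span_singleton_le_iff_mem _).2 (Exal.proj_incl X 1))
      obtain ⟨z, rfl⟩ := (X.isExtension.exact x).1 hx
      obtain ⟨r, rfl⟩ := residue_surjective z
      obtain ⟨e, he⟩ := X.isExtension.proj_surjective r
      refine Ideal.mem_span_singleton'.2 ⟨e, ?_⟩
      rw [X.isExtension.mul_incl, he]
      exact congrArg X.incl (Algebra.algebraMap_eq_smul_one r).symm
    let eq := RingHom.quotientKerEquivOfSurjective (f := X.proj.toRingHom) X.isExtension.proj_surjective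
    haveI : IsNoetherianRing (E ⧸ N) := isNoetherianRing_of_ringEquiv R eq.symm
    haveI : IsLocalRing (E ⧸ N) := eq.symm.isLocalRing
    haveI : IsNoetherianRing E := ArtFunLib.FlatSeq.isNoetherianRing_of_nilpotent N hN (hNs ▸ Submodule.fg_span_singleton _)
    haveI : IsLocalRing E := ArtFunLib.FlatSeq.isLocalRing_of_nilpotent N hN
    have hm : maximalIdeal E = (maximalIdeal R).comap X.proj.toRingHom := by
      haveI := Ideal.comap_isMaximal_of_surjective X.proj.toRingHom X.isExtension.proj_surjective
        (K := maximalIdeal R)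
      exact (IsLocalRing.eq_maximalIdeal this).symm
    have h1 : X.incl 1 ≠ 0 := fun h0 => one_ne_zero (X.isExtension.incl_injective (h0.trans (map_zero _).symm))
    obtain ⟨n, hn⟩ : ∃ n, X.incl 1 ∉ maximalIdeal E ^ n := by
      by_contra hall
      push Not at hall
      apply h1
      rw [← Ideal.mem_bot, ← Ideal.iInf_pow_eq_bot_of_isLocalRing _ (maximalIdeal.isMaximal E).ne_top]
      exact (Submodule.mem_iInf _).2 hall
    let I := maximalIdeal E ^ n
    have hIne : I ≠ ⊤ := fun h' => hn (by rw [show maximalIdeal E ^ n = ⊤ from h']; trivial)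
    haveI : Nontrivial (E ⧸ I) := Ideal.Quotient.nontrivial_iff.2 hIne
    haveI : IsLocalRing (E ⧸ I) := IsLocalRing.of_surjective' (Ideal.Quotient.mk I) Ideal.Quotient.mk_surjective
    have hmI : maximalIdeal (E ⧸ I) = (maximalIdeal E).map (Ideal.Quotient.mk I) :=
      (IsLocalRing.eq_maximalIdeal ((Ideal.map_eq_top_or_isMaximal_of_surjective (Ideal.Quotient.mk I)
        Ideal.Quotient.mk_surjective (maximalIdeal.isMaximal E)).resolve_left fun h' => by
          have := congrArg (Ideal.comap (Ideal.Quotient.mk I)) h'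
          rw [Ideal.comap_top, Ideal.comap_map_of_surjective _ Ideal.Quotient.mk_surjective, ← RingHom.ker_eq_comap_bot,
            Ideal.mk_ker] at this
          refine (maximalIdeal.isMaximal E).ne_top ?_
          rw [← top_le_iff, ← this]
          exact sup_le le_rfl (IsLocalRing.le_maximalIdeal hIne))).symm
    haveI : IsArtinianRing (E ⧸ I) := by
      rw [isArtinianRing_iff_isNilpotent_maximalIdeal, hmI]
      exact ⟨n, by rw [← Ideal.map_pow, Submodule.zero_eq_bot, Ideal.map_quotient_self]⟩
    let mkI : E →ₐ[Λ] E ⧸ I := Ideal.Quotient.mkₐ Λ I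
    let t := mkI (X.incl 1)
    have hproj1 : ∀ e ∈ maximalIdeal E, e * X.incl 1 = 0 := fun e he => by
      rw [hm] at he
      rw [X.isExtension.mul_incl]
      have : residue R (X.proj e) = 0 := Ideal.Quotient.eq_zero_iff_mem.2 he
      rw [show X.proj e • (1 : ResidueField R) = residue R (X.proj e) from
        (Algebra.algebraMap_eq_smul_one _).symm, this, map_zero]
    have htm : t ∈ maximalIdeal (E ⧸ I) := by
      rw [hmI]
      refine Ideal.mem_map_of_mem _ ?_
      rw [hm, Ideal.mem_comap]
      change X.proj (X.incl 1) ∈ maximalIdeal R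
      rw [Exal.proj_incl]; exact zero_mem _
    let F : E →ₐ[Λ] (E ⧸ I) ⧸ Ideal.span {t} := (Ideal.Quotient.mkₐ Λ (Ideal.span {t})).comp mkI
    have hF : ∀ x, X.proj x = 0 → F x = 0 := fun x hx => by
      have hxN : x ∈ N := hx
      rw [hNs] at hxN
      obtain ⟨c, rfl⟩ := Ideal.mem_span_singleton'.1 hxN
      exact Ideal.Quotient.eq_zero_iff_mem.2 (by rw [map_mul]; exact Ideal.mul_mem_left _ _ (Ideal.mem_span_singleton_self t))
    let φ : R →ₐ[Λ] (E ⧸ I) ⧸ Ideal.span {t} :=
      AlgHom.liftOfSurjective X.proj X.isExtension.proj_surjective F hF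
    have hφ : ∀ e, φ (X.proj e) = F e := fun e => AlgHom.liftOfSurjective_apply _ _ _ _ e
    obtain ⟨φ', hφ'⟩ := h (E ⧸ I) (fun b => by
        obtain ⟨e, rfl⟩ := Ideal.Quotient.mk_surjective b
        obtain ⟨c, hc⟩ := hR (X.proj e)
        refine ⟨c, ?_⟩
        rw [hmI, show algebraMap Λ (E ⧸ I) (algebraMap k Λ c) = Ideal.Quotient.mk I (algebraMap Λ E (algebraMap k Λ c))
          from rfl, ← map_sub]
        refine Ideal.mem_map_of_mem _ ?_
        rw [hm, Ideal.mem_comap]
        change X.proj _ ∈ _
        rw [map_sub, AlgHom.commutes]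
        exact hc) t htm (fun b hb => by
        rw [hmI, Ideal.mem_map_iff_of_surjective _ Ideal.Quotient.mk_surjective] at hb
        obtain ⟨e, he, rfl⟩ := hb
        change mkI e * mkI (X.incl 1) = 0
        rw [← map_mul, hproj1 e he, map_zero]) φ
    have huniq : ∀ x, X.proj x = 0 → mkI x = 0 → x = 0 := fun x hx hxI => by
      have hxN : x ∈ N := hx
      rw [hNs] at hxN
      obtain ⟨c, rfl⟩ := Ideal.mem_span_singleton'.1 hxN
      by_cases hcm : c ∈ maximalIdeal E
      · exact hproj1 c hcm
      exfalso
      exact hn ((Ideal.unit_mul_mem_iff_mem _ (Classical.not_not.1 fun hu => hcm ((mem_maximalIdeal _).2 hu))).1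
        (Ideal.Quotient.eq_zero_iff_mem.1 hxI))
    have hex : ∀ r, ∃ e, X.proj e = r ∧ mkI e = φ' r := fun r => by
      obtain ⟨e₀, rfl⟩ := X.isExtension.proj_surjective r
      have : mkI e₀ - φ' (X.proj e₀) ∈ Ideal.span {t} := by
        rw [← Ideal.Quotient.eq]
        exact ((hφ e₀).symm.trans (AlgHom.congr_fun hφ' (X.proj e₀)).symm)
      obtain ⟨c, hc⟩ := Ideal.mem_span_singleton'.1 this
      obtain ⟨c, rfl⟩ := Ideal.Quotient.mk_surjective c
      refine ⟨e₀ - c * X.incl 1, by rw [map_sub, map_mul, Exal.proj_incl, mul_zero, sub_zero], ?_⟩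
      rw [map_sub, map_mul, show mkI c = Ideal.Quotient.mk I c from rfl, hc, sub_sub_cancel]
    choose s hs1 hs2 using hex
    have huniq' : ∀ x y, X.proj x = X.proj y → mkI x = mkI y → x = y := fun x y h h' =>
      sub_eq_zero.1 (huniq _ (by rw [map_sub, h, sub_self]) (by rw [map_sub, h', sub_self]))
    exact ⟨{
      toFun := s
      map_one' := huniq' _ _ (by rw [hs1, map_one]) (by rw [hs2, map_one, map_one])
      map_mul' := fun a b => huniq' _ _ (by rw [hs1, map_mul, hs1, hs1]) (by rw [hs2, map_mul, map_mul, hs2, hs2])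
      map_zero' := huniq' _ _ (by rw [hs1, map_zero]) (by rw [hs2, map_zero, map_zero])
      map_add' := fun a b => huniq' _ _ (by rw [hs1, map_add, hs1, hs1]) (by rw [hs2, map_add, map_add, hs2, hs2])
      commutes' := fun a => huniq' _ _ (by rw [hs1, AlgHom.commutes]) (by rw [hs2, AlgHom.commutes, AlgHom.commutes]) },
      hs1⟩

end Groth.Agent.S11281
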