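import Groth.Statements.S11282
import Groth.Agent.ExalObs.Basic

set_option autoImplicit false
universe u
open Deform

namespace Groth.Agent.S11282

/-- Let k be an algebraically closed field, Λ a complete local Noetherian k-algebra with residue field
k, and R a local Noetherian Λ-algebra with local structure map, residue field k and maximal ideal m.
Then for some n the pull-back map o((R/m^(n+1))/Λ) → o(R/Λ) on obstruction spaces is onto: every
Λ-extension 0 → k → E → R → 0 of R by its residue field is the inverse image of a Λ-extension of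
R/m^(n+1) by k. Concretely, the middle ring E of every such extension contains an ideal I which
meets the kernel k only in 0 and whose image in R is exactly m^(n+1) (then E/I is an extension of
R/m^(n+1) by k whose inverse image along R → R/m^(n+1) is E). -/
theorem result
    {k : Type u} [Field k] [IsAlgClosed k]
    {Λ : Type u} [CommRing Λ] [Algebra k Λ] [IsLocalRing Λ] [IsNoetherianRing Λ]
    [IsAdicComplete (IsLocalRing.maximalIdeal Λ) Λ]
    (hΛ : ∀ a : Λ, ∃ c : k, a - algebraMap k Λ c ∈ IsLocalRing.maximalIdeal Λ)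
    {R : Type u} [CommRing R] [Algebra Λ R] [IsLocalRing R] [IsNoetherianRing R]
    [IsLocalHom (algebraMap Λ R)]
    (hR : ∀ r : R, ∃ c : k, r - algebraMap Λ R (algebraMap k Λ c) ∈ IsLocalRing.maximalIdeal R) :
    ∃ n : ℕ, ∀ X : Exal.Ext Λ R (IsLocalRing.ResidueField R),
      ∃ I : Ideal X.E, (∀ x ∈ I, X.proj x = 0 → x = 0) ∧
        Ideal.map X.proj I = IsLocalRing.maximalIdeal R ^ (n + 1) := by
  open IsLocalRing in
  classical
  obtain ⟨d, x, hx⟩ := (Submodule.fg_iff_exists_fin_generating_family.1 (IsNoetherian.noetherian (maximalIdeal R)) :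
    ∃ (d : ℕ) (x : Fin d → R), Submodule.span R (Set.range x) = maximalIdeal R)
  let P := MvPolynomial (Fin d) Λ
  let φ : P →ₐ[Λ] R := MvPolynomial.aeval x
  let M : Ideal P := (maximalIdeal R).comap φ.toRingHom
  have hφM : M.map φ.toRingHom = maximalIdeal R := by
    refine le_antisymm Ideal.map_comap_le ?_
    rw [← hx]
    refine Ideal.span_le.2 ?_
    rintro _ ⟨i, rfl⟩
    have hmem : MvPolynomial.X i ∈ M := by
      change φ (MvPolynomial.X i) ∈ maximalIdeal R
      rw [MvPolynomial.aeval_X, ← hx]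
      exact Submodule.subset_span ⟨i, rfl⟩
    have := Ideal.mem_map_of_mem φ.toRingHom hmem
    change φ (MvPolynomial.X i) ∈ _ at this
    rw [MvPolynomial.aeval_X] at this
    exact this
  have surjmod : ∀ (E : Type u) [CommRing E] (f : P →+* E) (m : Ideal E), M.map f = m →
      (∀ r, ∃ p, r - f p ∈ m) → ∀ N r, ∃ p, r - f p ∈ m ^ N := by
    intro E _ f m hm h1 N
    induction N with
    | zero => exact fun r => ⟨0, by simp⟩
    | succ N ih =>
      intro r
      obtain ⟨p, hp⟩ := ih r
      suffices h : ∀ z ∈ (M ^ N).map f, ∀ s : E, ∃ q, s * z - f q ∈ m ^ (N + 1) by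
        obtain ⟨q, hq⟩ := h _ (by rw [Ideal.map_pow, hm]; exact hp) 1
        exact ⟨p + q, by rwa [map_add, ← sub_sub, ← one_mul (r - f p)]⟩
      intro z hz
      induction hz using Submodule.span_induction with
      | mem z hz =>
        obtain ⟨a, ha, rfl⟩ := hz
        intro s
        obtain ⟨c, hc⟩ := h1 s
        refine ⟨c * a, ?_⟩
        rw [map_mul, ← sub_mul, pow_succ', ]
        refine Ideal.mul_mem_mul hc ?_
        have := Ideal.mem_map_of_mem f ha
        rwa [Ideal.map_pow, hm] at this
      | zero => exact fun s => ⟨0, by simp⟩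
      | add a b _ _ ha hb =>
        intro s
        obtain ⟨qa, hqa⟩ := ha s
        obtain ⟨qb, hqb⟩ := hb s
        exact ⟨qa + qb, by rw [map_add, mul_add, add_sub_add_comm]; exact add_mem hqa hqb⟩
      | smul c a _ ha =>
        intro s
        rw [smul_eq_mul, ← mul_assoc]
        exact ha _
  have hres : ∀ r, ∃ p, r - φ.toRingHom p ∈ maximalIdeal R := fun r => by
    obtain ⟨c, hc⟩ := hR r
    exact ⟨MvPolynomial.C (algebraMap k Λ c), by
      change r - φ (MvPolynomial.C _) ∈ _
      rw [MvPolynomial.aeval_C]; exact hc⟩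
  -- the filtration
  let F : M.Filtration P :=
    { N := fun j => (M ^ j ⊓ (maximalIdeal R ^ (j + 1)).comap φ.toRingHom : Ideal P)
      mono := fun j => inf_le_inf (Ideal.pow_le_pow_right (Nat.le_succ j))
        (Ideal.comap_mono (Ideal.pow_le_pow_right (Nat.le_succ _)))
      smul_le := fun j => by
        refine Submodule.smul_le.2 fun a ha q hq => ⟨?_, ?_⟩
        · rw [smul_eq_mul, pow_succ']
          exact Ideal.mul_mem_mul ha hq.1
        · change φ.toRingHom (a * q) ∈ maximalIdeal R ^ (j + 1 + 1)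
          rw [map_mul, pow_succ']
          exact Ideal.mul_mem_mul ha hq.2 }
  have hFs : F.Stable := (M.stableFiltration_stable (⊤ : Submodule P P)).of_le fun j => by
    intro p hp
    change p ∈ M ^ j • (⊤ : Submodule P P)
    rw [smul_eq_mul, Ideal.mul_top]
    exact hp.1
  obtain ⟨n₀, hn₀⟩ := hFs
  have key : ∀ N i j, i + j = N → n₀ < j → ∀ p ∈ M ^ j, φ p ∈ maximalIdeal R ^ N →
      p ∈ M * (maximalIdeal R ^ N).comap φ.toRingHom ⊔ M ^ N := by
    intro N i
    induction i with
    | zero => intro j hj _ p hp _; rw [zero_add] at hj; subst hj; exact Submodule.mem_sup_right hp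
    | succ i ih =>
      intro j hj hn p hp hφp
      obtain ⟨j, rfl⟩ := Nat.exists_eq_succ_of_ne_zero (show j ≠ 0 by omega)
      have hpF : p ∈ F.N (j + 1) := ⟨hp, Ideal.pow_le_pow_right (show j + 1 + 1 ≤ N by omega) hφp⟩
      rw [← hn₀ j (by omega)] at hpF
      have hdec : ∃ u ∈ M * (maximalIdeal R ^ N).comap φ.toRingHom, ∃ v ∈ M ^ (j + 1 + 1), p = u + v := by
        refine Submodule.smul_induction_on hpF (fun a ha q hq => ?_) ?_
        · have hq2 : φ q ∈ (M ^ (j + 1)).map φ.toRingHom := by
            rw [Ideal.map_pow, hφM]; exact hq.2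
          have : ∀ z ∈ (M ^ (j + 1)).map φ.toRingHom, ∀ s : R, ∃ q' ∈ M ^ (j + 1), s * z - φ q' ∈ maximalIdeal R ^ N := by
            intro z hz
            induction hz using Submodule.span_induction with
            | mem z hz =>
              obtain ⟨b, hb, rfl⟩ := hz
              intro s
              obtain ⟨c, hc⟩ := surjmod R φ.toRingHom _ hφM hres N s
              refine ⟨c * b, Ideal.mul_mem_left _ _ hb, ?_⟩
              rw [map_mul, show φ b = φ.toRingHom b from rfl, show φ c = φ.toRingHom c from rfl, ← sub_mul]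
              exact Ideal.mul_mem_right _ _ hc
            | zero => exact fun s => ⟨0, zero_mem _, by simp⟩
            | add a b _ _ ha hb =>
              intro s
              obtain ⟨qa, ma, hqa⟩ := ha s
              obtain ⟨qb, mb, hqb⟩ := hb s
              exact ⟨qa + qb, add_mem ma mb, by rw [map_add, mul_add, add_sub_add_comm]; exact add_mem hqa hqb⟩
            | smul c a _ ha =>
              intro s
              rw [smul_eq_mul, ← mul_assoc]
              exact ha _
          obtain ⟨q', hq', hqq⟩ := this _ hq2 1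
          refine ⟨a * (q - q'), Ideal.mul_mem_mul ha ?_, a * q', ?_, ?_⟩
          · change φ (q - q') ∈ maximalIdeal R ^ N
            rw [map_sub, ← one_mul (φ q)]
            exact hqq
          · rw [pow_succ' _ (j + 1)]
            exact Ideal.mul_mem_mul ha hq'
          · rw [smul_eq_mul]; ring
        · rintro _ _ ⟨u, hu, v, hv, rfl⟩ ⟨u', hu', v', hv', rfl⟩
          exact ⟨u + u', add_mem hu hu', v + v', add_mem hv hv', by abel⟩
      obtain ⟨u, hu, v, hv, rfl⟩ := hdec
      refine add_mem (Submodule.mem_sup_left hu) (ih (j + 1 + 1) (by omega) (by omega) v hv ?_)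
      have hu' : φ u ∈ maximalIdeal R ^ N := by
        have : M * (maximalIdeal R ^ N).comap φ.toRingHom ≤ (maximalIdeal R ^ N).comap φ.toRingHom :=
          Ideal.mul_le.2 fun a _ q hq => Ideal.mul_mem_left _ _ hq
        exact this hu
      have := sub_mem hφp hu'
      rwa [map_add, add_sub_cancel_left] at this
  refine ⟨n₀ + 1, fun X => ?_⟩
  haveI := ExalObs.isLocalRing X
  haveI := ExalObs.isNoetherianRing X
  have hmE := ExalObs.maximalIdeal_eq X
  have hmap : (maximalIdeal X.E).map X.proj.toRingHom = maximalIdeal R := by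
    rw [hmE]
    exact Ideal.map_comap_of_surjective X.proj.toRingHom X.isExtension.proj_surjective _
  have hI : ∀ j, (maximalIdeal X.E ^ j).map X.proj = maximalIdeal R ^ j := fun j => by
    change (maximalIdeal X.E ^ j).map X.proj.toRingHom = _
    rw [Ideal.map_pow, hmap]
  refine ⟨maximalIdeal X.E ^ (n₀ + 1 + 1), fun z hz hz0 => ?_, hI _⟩
  by_contra hne
  obtain ⟨w, rfl⟩ := (X.isExtension.exact z).1 hz0
  have he : X.incl 1 ∈ maximalIdeal X.E ^ (n₀ + 1 + 1) := by
    obtain ⟨r, rfl⟩ := residue_surjective w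
    obtain ⟨e, rfl⟩ := X.isExtension.proj_surjective r
    have h1 : X.incl (residue R (X.proj e)) = e * X.incl 1 := by
      rw [X.isExtension.mul_incl]
      exact congrArg X.incl (Algebra.algebraMap_eq_smul_one _)
    rw [h1] at hz hne
    refine (Ideal.unit_mul_mem_iff_mem _ ?_).1 hz
    by_contra hu
    exact hne (ExalObs.mul_incl_one X (by
      have : e ∈ maximalIdeal X.E := (mem_maximalIdeal _).2 hu
      rwa [hmE] at this))
  obtain ⟨N, hN⟩ : ∃ N, X.incl 1 ∉ maximalIdeal X.E ^ N := by
    by_contra hall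
    push Not at hall
    refine one_ne_zero (X.isExtension.incl_injective (a₁ := (1 : ResidueField R)) (a₂ := 0) ?_)
    rw [map_zero, ← Ideal.mem_bot, ← Ideal.iInf_pow_eq_bot_of_isLocalRing _ (maximalIdeal.isMaximal X.E).ne_top]
    exact (Submodule.mem_iInf _).2 hall
  have hN2 : n₀ + 1 + 1 < N := by
    by_contra hle
    exact hN (Ideal.pow_le_pow_right (by omega) he)
  choose y hy using fun i => X.isExtension.proj_surjective (x i)
  let ψ : P →ₐ[Λ] X.E := MvPolynomial.aeval y
  have hψ : ∀ p, X.proj (ψ p) = φ p := fun p => by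
    have : X.proj.comp ψ = φ := MvPolynomial.algHom_ext fun i => by simp [ψ, φ, hy]
    exact AlgHom.congr_fun this p
  have hker2 : ∀ e, X.proj e = 0 → e ∈ maximalIdeal X.E ^ 2 := fun e h0 => by
    have hmem : e ∈ Ideal.span {X.incl 1} := by rw [← ExalObs.ker_eq_span]; exact h0
    obtain ⟨c, rfl⟩ := Ideal.mem_span_singleton'.1 hmem
    exact Ideal.mul_mem_left _ _ (Ideal.pow_le_pow_right (by omega) he)
  have hψle : M.map ψ.toRingHom ≤ maximalIdeal X.E := by
    rw [Ideal.map_le_iff_le_comap]
    intro p hp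
    rw [Ideal.mem_comap, hmE, Ideal.mem_comap]
    change X.proj (ψ p) ∈ _
    rw [hψ]; exact hp
  have hψM : M.map ψ.toRingHom = maximalIdeal X.E := by
    refine le_antisymm hψle ?_
    refine Submodule.le_of_le_smul_of_le_jacobson_bot (IsNoetherian.noetherian _)
      (IsLocalRing.maximalIdeal_le_jacobson _) fun z hz => ?_
    have h1 : X.proj z ∈ maximalIdeal R := by rw [hmE] at hz; exact hz
    have h2 : maximalIdeal R = ((M.map ψ.toRingHom).map X.proj.toRingHom) := by
      rw [Ideal.map_map, show X.proj.toRingHom.comp ψ.toRingHom = φ.toRingHom from RingHom.ext hψ, hφM]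
    rw [h2] at h1
    obtain ⟨z', hz', hzz⟩ := (Ideal.mem_map_iff_of_surjective X.proj.toRingHom X.isExtension.proj_surjective).1 h1
    rw [show z = z' + (z - z') by ring]
    refine Submodule.add_mem_sup hz' ?_
    rw [smul_eq_mul, ← pow_two]
    exact hker2 _ (by rw [map_sub]; exact sub_eq_zero.2 hzz.symm)
  have hψres : ∀ e, ∃ p, e - ψ.toRingHom p ∈ maximalIdeal X.E := fun e => by
    obtain ⟨p, hp⟩ := hres (X.proj e)
    refine ⟨p, ?_⟩
    rw [hmE, Ideal.mem_comap]
    change X.proj (e - ψ p) ∈ _
    rw [map_sub, hψ]; exact hp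
  obtain ⟨p, hpM, hp⟩ : ∃ p ∈ M ^ (n₀ + 1 + 1), X.incl 1 - ψ p ∈ maximalIdeal X.E ^ N := by
    have hmem : X.incl 1 ∈ (M ^ (n₀ + 1 + 1)).map ψ.toRingHom := by rw [Ideal.map_pow, hψM]; exact he
    suffices h : ∀ z ∈ (M ^ (n₀ + 1 + 1)).map ψ.toRingHom, ∀ s : X.E,
        ∃ p ∈ M ^ (n₀ + 1 + 1), s * z - ψ p ∈ maximalIdeal X.E ^ N by
      obtain ⟨p, h1, h2⟩ := h _ hmem 1
      exact ⟨p, h1, by rwa [one_mul] at h2⟩
    intro z hz
    induction hz using Submodule.span_induction with
    | mem z hz =>
      obtain ⟨b, hb, rfl⟩ := hz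
      intro s
      obtain ⟨c, hc⟩ := surjmod X.E ψ.toRingHom _ hψM hψres N s
      refine ⟨c * b, Ideal.mul_mem_left _ _ hb, ?_⟩
      rw [map_mul, show ψ b = ψ.toRingHom b from rfl, show ψ c = ψ.toRingHom c from rfl, ← sub_mul]
      exact Ideal.mul_mem_right _ _ hc
    | zero => exact fun s => ⟨0, zero_mem _, by simp⟩
    | add a b _ _ ha hb =>
      intro s
      obtain ⟨qa, ma, hqa⟩ := ha s
      obtain ⟨qb, mb, hqb⟩ := hb s
      exact ⟨qa + qb, add_mem ma mb, by rw [map_add, mul_add, add_sub_add_comm]; exact add_mem hqa hqb⟩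
    | smul c a _ ha =>
      intro s
      rw [smul_eq_mul, ← mul_assoc]
      exact ha _
  have hφp : φ p ∈ maximalIdeal R ^ N := by
    have h1 := Ideal.mem_map_of_mem X.proj hp
    rw [hI, map_sub, Exal.proj_incl, zero_sub, hψ, neg_mem_iff] at h1
    exact h1
  obtain ⟨i, hi⟩ := Nat.exists_eq_add_of_le hN2.le
  have hpk := key N i (n₀ + 1 + 1) (by omega) (by omega) p hpM hφp
  have hsup : M * (maximalIdeal R ^ N).comap φ.toRingHom ⊔ M ^ N ≤
      (maximalIdeal X.E ^ N).comap ψ.toRingHom := by
    refine sup_le (Ideal.mul_le.2 fun a ha q hq => ?_) ?_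
    · have hq' : X.proj (ψ q) ∈ (maximalIdeal X.E ^ N).map X.proj.toRingHom := by
        rw [Ideal.map_pow, hmap, hψ]; exact hq
      obtain ⟨e', he', hee⟩ := (Ideal.mem_map_iff_of_surjective X.proj.toRingHom X.isExtension.proj_surjective).1 hq'
      have hd : ψ q - e' ∈ Ideal.span {X.incl 1} := by
        rw [← ExalObs.ker_eq_span, RingHom.mem_ker, map_sub]
        exact sub_eq_zero.2 hee.symm
      obtain ⟨c, hc⟩ := Ideal.mem_span_singleton'.1 hd
      rw [Ideal.mem_comap, map_mul]
      change ψ a * ψ q ∈ _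
      rw [show ψ q = c * X.incl 1 + e' by rw [hc, sub_add_cancel], mul_add]
      refine add_mem ?_ (Ideal.mul_mem_left _ _ he')
      rw [mul_left_comm, ExalObs.mul_incl_one X (by rw [hψ]; exact ha), mul_zero]
      exact zero_mem _
    · rw [← Ideal.map_le_iff_le_comap, Ideal.map_pow, hψM]
  exact hN (by
    have h : ψ p ∈ maximalIdeal X.E ^ N := hsup hpk
    have := add_mem hp h
    rwa [sub_add_cancel] at this)

end Groth.Agent.S11282
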