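import Groth.Statements.S11283
import Groth.Agent.ExalObs.Simple
import Groth.Agent.RegLoc.Completion
import Mathlib.RingTheory.AdicCompletion.LocalRing

set_option autoImplicit false
universe u
open Deform

namespace Groth.Agent.S11283

/-- Let k be an algebraically closed field, Λ a complete local Noetherian k-algebra with residue field
k, R a local Noetherian Λ-algebra with local structure map and residue field k, and R̂ the
completion of R at its maximal ideal. Let L be a simple R-module (a one-dimensional k-vector space
on which R acts through its residue field) carrying a compatible R̂-module structure. Then inverse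
image of Λ-extensions along R → R̂ induces a bijection o(R̂/Λ) → o(R/Λ) on classes of Λ-extensions
by L: two Λ-extensions of R̂ by L whose inverse images over R are equivalent are equivalent, and
every Λ-extension of R by L is equivalent to the inverse image of one of R̂. -/
theorem result
    {k : Type u} [Field k] [IsAlgClosed k]
    {Λ : Type u} [CommRing Λ] [Algebra k Λ] [IsLocalRing Λ] [IsNoetherianRing Λ]
    [IsAdicComplete (IsLocalRing.maximalIdeal Λ) Λ]
    (hΛ : ∀ a : Λ, ∃ c : k, a - algebraMap k Λ c ∈ IsLocalRing.maximalIdeal Λ)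
    {R : Type u} [CommRing R] [Algebra Λ R] [IsLocalRing R] [IsNoetherianRing R]
    [IsLocalHom (algebraMap Λ R)]
    (hR : ∀ r : R, ∃ c : k, r - algebraMap Λ R (algebraMap k Λ c) ∈ IsLocalRing.maximalIdeal R)
    (L : Type u) [AddCommGroup L] [Module (AdicCompletion (IsLocalRing.maximalIdeal R) R) L] [Module R L]
    [IsScalarTower R (AdicCompletion (IsLocalRing.maximalIdeal R) R) L] [IsSimpleModule R L] :
    (∀ X X' : Exal.Ext Λ (AdicCompletion (IsLocalRing.maximalIdeal R) R) L,
        Nonempty ((X.pullback R).Equiv (X'.pullback R)) → Nonempty (X.Equiv X')) ∧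
    (∀ Y : Exal.Ext Λ R L, ∃ X : Exal.Ext Λ (AdicCompletion (IsLocalRing.maximalIdeal R) R) L,
        Nonempty ((X.pullback R).Equiv Y)) := by
  open IsLocalRing in
  classical
  haveI : IsNoetherianRing (AdicCompletion (maximalIdeal R) R) := RegLoc.Completion.isNoetherianRing_adicCompletion' _
  haveI : Module.FaithfullyFlat R (AdicCompletion (maximalIdeal R) R) := Module.FaithfullyFlat.of_flat_of_isLocalHom
  haveI : Nontrivial L := IsSimpleModule.nontrivial R L
  obtain ⟨z₀, hz₀⟩ := exists_ne (0 : L)
  have hspan := IsSimpleModule.toSpanSingleton_surjective R hz₀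
  have hgen : ∀ z : L, ∃ r : R, r • z₀ = z := hspan
  have hgenS : ∀ z : L, ∃ s : AdicCompletion (maximalIdeal R) R, s • z₀ = z := fun z => by
    obtain ⟨r, rfl⟩ := hgen z
    exact ⟨algebraMap R _ r, algebraMap_smul _ r z₀⟩
  have hm : ∀ r ∈ maximalIdeal R, ∀ z : L, r • z = 0 := by
    intro r hr z
    have h : (Module.annihilator R L) = maximalIdeal R := IsLocalRing.eq_maximalIdeal IsSimpleModule.annihilator_isMaximal
    exact Module.mem_annihilator.1 (h ▸ hr) z
  have hmS : ∀ s ∈ maximalIdeal (AdicCompletion (maximalIdeal R) R), ∀ z : L, s • z = 0 := by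
    intro s hs
    rw [AdicCompletion.maximalIdeal_eq_map] at hs
    induction hs using Submodule.span_induction with
    | mem s hs =>
      obtain ⟨r, hr, rfl⟩ := hs
      intro z
      rw [algebraMap_smul]
      exact hm r hr z
    | zero => exact fun z => zero_smul _ z
    | add a b _ _ ha hb => exact fun z => by rw [add_smul, ha z, hb z, add_zero]
    | smul c a _ ha => exact fun z => by rw [smul_eq_mul, mul_smul, ha z, smul_zero]
  have hcomap : ∀ n r, algebraMap R (AdicCompletion (maximalIdeal R) R) r ∈
      maximalIdeal (AdicCompletion (maximalIdeal R) R) ^ n → r ∈ maximalIdeal R ^ n := by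
    intro n r hr
    rw [AdicCompletion.maximalIdeal_eq_map, ← Ideal.map_pow] at hr
    rw [← Ideal.comap_map_eq_self_of_faithfullyFlat (B := AdicCompletion (maximalIdeal R) R) (maximalIdeal R ^ n)]
    exact hr
  have hsurj : ∀ n s, ∃ r, s - algebraMap R (AdicCompletion (maximalIdeal R) R) r ∈
      maximalIdeal (AdicCompletion (maximalIdeal R) R) ^ n := by
    intro n s
    obtain ⟨l, hl⟩ := Submodule.Quotient.mk_surjective _ (s.1 n)
    refine ⟨l, ?_⟩
    rw [AdicCompletion.maximalIdeal_eq_map, ← Ideal.map_pow, ← Submodule.restrictScalars_mem R,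
      ← Ideal.smul_top_eq_map, AdicCompletion.pow_smul_top_eq_ker_eval (maximalIdeal R).fg_of_isNoetherianRing,
      LinearMap.mem_ker, map_sub, sub_eq_zero]
    exact hl.symm
  refine ⟨fun X X' ⟨φ⟩ => ?_, fun Y => ?_⟩
  · haveI := ExalObs.Simple.isLocalRing X
    haveI := ExalObs.Simple.isLocalRing X'
    haveI := ExalObs.Simple.isLocalRing (X.pullback R)
    haveI := ExalObs.Simple.isLocalRing (X'.pullback R)
    obtain ⟨n₁, hn₁⟩ := ExalObs.Simple.exists_disjoint X hgenS hmS
    obtain ⟨n₂, hn₂⟩ := ExalObs.Simple.exists_disjoint X' hgenS hmS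
    obtain ⟨N, hN1, hN2⟩ : ∃ N, n₁ ≤ N ∧ n₂ ≤ N := ⟨n₁ + n₂, Nat.le_add_right _ _, Nat.le_add_left _ _⟩
    let j : (X.pullback R).E →ₐ[Λ] X.E := (AlgHom.fst Λ X.E R).comp (X.fiberProd R).val
    let j' : (X'.pullback R).E →ₐ[Λ] X'.E := (AlgHom.fst Λ X'.E R).comp (X'.fiberProd R).val
    have hjm : ∀ y ∈ maximalIdeal (X.pullback R).E, j y ∈ maximalIdeal X.E := fun y hy => by
      rw [ExalObs.Simple.maximalIdeal_eq] at hy ⊢
      change X.proj y.1.1 ∈ maximalIdeal (AdicCompletion (maximalIdeal R) R)
      rw [show X.proj y.1.1 = algebraMap R _ y.1.2 from y.2, AdicCompletion.maximalIdeal_eq_map]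
      exact Ideal.mem_map_of_mem _ hy
    have hjm' : ∀ y ∈ maximalIdeal (X'.pullback R).E, j' y ∈ maximalIdeal X'.E := fun y hy => by
      rw [ExalObs.Simple.maximalIdeal_eq] at hy ⊢
      change X'.proj y.1.1 ∈ maximalIdeal (AdicCompletion (maximalIdeal R) R)
      rw [show X'.proj y.1.1 = algebraMap R _ y.1.2 from y.2, AdicCompletion.maximalIdeal_eq_map]
      exact Ideal.mem_map_of_mem _ hy
    have hsur : ∀ e : X.E, ∃ y : (X.pullback R).E, e - j y ∈ maximalIdeal X.E ^ N := fun e => by
      obtain ⟨r, hr⟩ := hsurj N (X.proj e)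
      obtain ⟨y, hy⟩ := (X.pullback R).isExtension.proj_surjective r
      have h1 : X.proj (e - j y) ∈ maximalIdeal (AdicCompletion (maximalIdeal R) R) ^ N := by
        rw [map_sub, show X.proj (j y) = algebraMap R _ y.1.2 from y.2, show y.1.2 = r from hy]
        exact hr
      rw [← ExalObs.Simple.map_pow_maximalIdeal X N] at h1
      obtain ⟨w, hw, hww⟩ := (Ideal.mem_map_iff_of_surjective X.proj.toRingHom X.isExtension.proj_surjective).1 h1
      obtain ⟨z, hz⟩ := (X.isExtension.exact (e - j y - w)).1 (by rw [map_sub]; exact sub_eq_zero.2 hww.symm)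
      refine ⟨y + (X.pullback R).incl z, ?_⟩
      rw [map_add, show j ((X.pullback R).incl z) = X.incl z from rfl, hz]
      rw [show e - (j y + (e - j y - w)) = w by ring]
      exact hw
    have hkey : ∀ y, j y ∈ maximalIdeal X.E ^ N → y ∈ maximalIdeal (X.pullback R).E ^ N := fun y hy => by
      have h1 : algebraMap R _ y.1.2 ∈ maximalIdeal (AdicCompletion (maximalIdeal R) R) ^ N := by
        rw [← show X.proj (j y) = algebraMap R _ y.1.2 from y.2, ← ExalObs.Simple.map_pow_maximalIdeal X N]
        exact Ideal.mem_map_of_mem X.proj.toRingHom hy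
      have h2 := hcomap N _ h1
      rw [← ExalObs.Simple.map_pow_maximalIdeal (X.pullback R) N] at h2
      obtain ⟨w, hw, hww⟩ := (Ideal.mem_map_iff_of_surjective (X.pullback R).proj.toRingHom
        (X.pullback R).isExtension.proj_surjective).1 h2
      obtain ⟨z, hz⟩ := ((X.pullback R).isExtension.exact (y - w)).1 (by rw [map_sub]; exact sub_eq_zero.2 hww.symm)
      have h3 : j w ∈ maximalIdeal X.E ^ N := by
        have := Ideal.mem_map_of_mem j.toRingHom hw
        rw [Ideal.map_pow] at this
        exact Ideal.pow_right_mono (Ideal.map_le_iff_le_comap.2 hjm) N this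
      have hz0 : z = 0 := hn₁ z (Ideal.pow_le_pow_right hN1 (by
        have := sub_mem hy h3
        rw [← map_sub, ← hz] at this
        exact this))
      rw [hz0, map_zero, eq_comm, sub_eq_zero] at hz
      rw [hz]; exact hw
    choose y hy using hsur
    have hfm : ∀ w ∈ maximalIdeal (X.pullback R).E ^ N, j' (φ.toAlgEquiv w) ∈ maximalIdeal X'.E ^ N := by
      let f : (X.pullback R).E →+* X'.E := j'.toRingHom.comp φ.toAlgEquiv.toAlgHom.toRingHom
      have h1 : (maximalIdeal (X.pullback R).E).map f ≤ maximalIdeal X'.E :=
        Ideal.map_le_iff_le_comap.2 fun w hw => hjm' _ (by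
          rw [ExalObs.Simple.maximalIdeal_eq] at hw ⊢
          change (X'.pullback R).proj (φ.toAlgEquiv w) ∈ maximalIdeal R
          rw [φ.proj_apply]; exact hw)
      intro w hw
      have h2 := Ideal.mem_map_of_mem f hw
      rw [Ideal.map_pow] at h2
      exact Ideal.pow_right_mono h1 N h2
    let G : X.E →+* X'.E ⧸ maximalIdeal X'.E ^ N :=
      { toFun := fun e => Ideal.Quotient.mk _ (j' (φ.toAlgEquiv (y e)))
        map_one' := by
          rw [← map_one (Ideal.Quotient.mk (maximalIdeal X'.E ^ N)), ← map_one j', ← map_one φ.toAlgEquiv,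
            Ideal.Quotient.eq, ← map_sub, ← map_sub]
          exact hfm _
            (hkey _ (by
              have := hy 1
              rw [map_sub, map_one, ← neg_sub]
              exact neg_mem this))
        map_mul' := fun a b => by
          rw [← map_mul, ← map_mul, ← map_mul, Ideal.Quotient.eq, ← map_sub, ← map_sub]
          exact hfm _
            (hkey _ (by
              have h1 := Ideal.mul_mem_right (j (y b)) _ (hy a)
              have h2 := Ideal.mul_mem_left _ a (hy b)
              have := sub_mem (add_mem h2 h1) (hy (a * b))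
              rw [map_sub, map_mul]
              convert this using 1
              ring))
        map_zero' := by
          rw [← map_zero (Ideal.Quotient.mk (maximalIdeal X'.E ^ N)), ← map_zero j', ← map_zero φ.toAlgEquiv,
            Ideal.Quotient.eq, ← map_sub, ← map_sub]
          exact hfm _
            (hkey _ (by
              have := hy 0
              rw [map_sub, map_zero, ← neg_sub]
              exact neg_mem this))
        map_add' := fun a b => by
          rw [← map_add, ← map_add, ← map_add, Ideal.Quotient.eq, ← map_sub, ← map_sub]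
          exact hfm _
            (hkey _ (by
              have := sub_mem (add_mem (hy a) (hy b)) (hy (a + b))
              rw [map_sub, map_add]
              convert this using 1
              ring)) }
    have hGj : ∀ w, G (j w) = Ideal.Quotient.mk _ (j' (φ.toAlgEquiv w)) := fun w => by
      refine Ideal.Quotient.eq.2 ?_
      rw [← map_sub, ← map_sub]
      exact hfm _
        (hkey _ (by
          have := hy (j w)
          rw [map_sub, ← neg_sub]
          exact neg_mem this))
    have hex : ∀ e, ∃ e', X'.proj e' = X.proj e ∧ Ideal.Quotient.mk _ e' = G e := fun e => by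
      have hp : X'.proj (j' (φ.toAlgEquiv (y e))) = X.proj (j (y e)) := by
        rw [show X'.proj (j' (φ.toAlgEquiv (y e))) = algebraMap R _ (φ.toAlgEquiv (y e)).1.2 from (φ.toAlgEquiv (y e)).2,
          show (φ.toAlgEquiv (y e)).1.2 = (y e).1.2 from φ.proj_apply (y e)]
        exact (y e).2.symm
      have h1 : X.proj (e - j (y e)) ∈ (maximalIdeal X'.E ^ N).map X'.proj.toRingHom := by
        rw [ExalObs.Simple.map_pow_maximalIdeal, ← ExalObs.Simple.map_pow_maximalIdeal X N]
        exact Ideal.mem_map_of_mem X.proj.toRingHom (hy e)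
      obtain ⟨w, hw, hww⟩ := (Ideal.mem_map_iff_of_surjective X'.proj.toRingHom X'.isExtension.proj_surjective).1 h1
      refine ⟨j' (φ.toAlgEquiv (y e)) + w, ?_, ?_⟩
      · rw [map_add, hp, show X'.proj w = X.proj (e - j (y e)) from hww, map_sub, add_sub_cancel]
      · exact Ideal.Quotient.eq.2 (by rw [add_sub_cancel_left]; exact hw)
    choose f hf1 hf2 using hex
    have huniq : ∀ a b : X'.E, X'.proj a = X'.proj b →
        Ideal.Quotient.mk (maximalIdeal X'.E ^ N) a = Ideal.Quotient.mk _ b → a = b := fun a b h h' => by
      obtain ⟨z, hz⟩ := (X'.isExtension.exact (a - b)).1 (by rw [map_sub, h, sub_self])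
      have := hn₂ z (Ideal.pow_le_pow_right hN2 (hz ▸ Ideal.Quotient.eq.1 h'))
      rw [this, map_zero, eq_comm, sub_eq_zero] at hz
      exact hz
    refine ⟨Exal.mkEquiv
      { toFun := f
        map_one' := huniq _ _ (by rw [hf1, map_one, map_one]) (by rw [hf2, map_one, map_one])
        map_mul' := fun a b => huniq _ _ (by rw [hf1, map_mul, map_mul, hf1, hf1]) (by rw [hf2, map_mul, map_mul, hf2, hf2])
        map_zero' := huniq _ _ (by rw [hf1, map_zero, map_zero]) (by rw [hf2, map_zero, map_zero])
        map_add' := fun a b => huniq _ _ (by rw [hf1, map_add, map_add, hf1, hf1]) (by rw [hf2, map_add, map_add, hf2, hf2])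
        commutes' := fun a => huniq _ _ (by rw [hf1, AlgHom.commutes, AlgHom.commutes]) (by
          rw [hf2, show algebraMap Λ X.E a = j (algebraMap Λ _ a) from (j.commutes a).symm, hGj,
            AlgEquiv.commutes, AlgHom.commutes]) }
      hf1 fun z => huniq _ _ ((hf1 _).trans (by rw [Exal.proj_incl, Exal.proj_incl])) ((hf2 _).trans (by
        rw [show X.incl z = j ((X.pullback R).incl z) from rfl, hGj, φ.apply_incl]; rfl))⟩
  · haveI := ExalObs.Simple.isLocalRing Y
    obtain ⟨n, hn⟩ := ExalObs.Simple.exists_disjoint Y hgen hm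
    let ev : AdicCompletion (maximalIdeal R) R →ₐ[Λ] R ⧸ maximalIdeal R ^ n :=
      (AdicCompletion.evalₐ (maximalIdeal R) n).restrictScalars Λ
    let q : Y.E →ₐ[Λ] Y.E ⧸ maximalIdeal Y.E ^ n := Ideal.Quotient.mkₐ Λ _
    let pbar : Y.E ⧸ maximalIdeal Y.E ^ n →ₐ[Λ] R ⧸ maximalIdeal R ^ n :=
      Ideal.Quotient.liftₐ _ ((Ideal.Quotient.mkₐ Λ _).comp Y.proj) fun a ha => by
        refine Ideal.Quotient.eq_zero_iff_mem.2 ?_
        rw [← ExalObs.Simple.map_pow_maximalIdeal Y n]
        exact Ideal.mem_map_of_mem Y.proj.toRingHom ha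
    let S : Subalgebra Λ (AdicCompletion (maximalIdeal R) R × (Y.E ⧸ maximalIdeal Y.E ^ n)) :=
      AlgHom.equalizer (ev.comp (AlgHom.fst Λ _ _)) (pbar.comp (AlgHom.snd Λ _ _))
    have hinc : ∀ z, ((0 : AdicCompletion (maximalIdeal R) R), q (Y.incl z)) ∈ S := fun z => by
      change ev 0 = pbar (q (Y.incl z))
      rw [map_zero]
      exact (Ideal.Quotient.eq_zero_iff_mem.2 (by
        change Y.proj (Y.incl z) ∈ maximalIdeal R ^ n
        rw [Exal.proj_incl]; exact zero_mem _)).symm
    let X : Exal.Ext Λ (AdicCompletion (maximalIdeal R) R) L :=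
      { E := S
        proj := (AlgHom.fst Λ _ _).comp S.val
        incl := AddMonoidHom.mk' (fun z => ⟨(0, q (Y.incl z)), hinc z⟩) fun a b =>
          Subtype.ext (Prod.ext (add_zero 0).symm (by
            change q (Y.incl (a + b)) = q (Y.incl a) + q (Y.incl b)
            rw [map_add, map_add]))
        isExtension :=
          { proj_surjective := fun s => by
              obtain ⟨r, hr⟩ := Ideal.Quotient.mk_surjective (ev s)
              obtain ⟨e, rfl⟩ := Y.isExtension.proj_surjective r
              exact ⟨⟨(s, q e), hr.symm⟩, rfl⟩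
            incl_injective := fun a b hab => by
              have h1 : q (Y.incl a) = q (Y.incl b) := congrArg Prod.snd (congrArg Subtype.val hab)
              rw [← sub_eq_zero] at h1 ⊢
              exact hn _ (by rw [map_sub]; exact Ideal.Quotient.eq_zero_iff_mem.1 (by rw [map_sub]; exact h1))
            exact := fun p => by
              refine ⟨fun hp => ?_, ?_⟩
              · have h1 : p.1.1 = 0 := hp
                have h2 : ev p.1.1 = pbar p.1.2 := p.2
                obtain ⟨e, he⟩ := Ideal.Quotient.mk_surjective p.1.2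
                rw [h1, map_zero, ← he] at h2
                have h3 : Y.proj e ∈ (maximalIdeal Y.E ^ n).map Y.proj.toRingHom := by
                  rw [ExalObs.Simple.map_pow_maximalIdeal]
                  exact Ideal.Quotient.eq_zero_iff_mem.1 h2.symm
                obtain ⟨w, hw, hww⟩ := (Ideal.mem_map_iff_of_surjective Y.proj.toRingHom Y.isExtension.proj_surjective).1 h3
                obtain ⟨z, hz⟩ := (Y.isExtension.exact (e - w)).1 (by rw [map_sub]; exact sub_eq_zero.2 hww.symm)
                refine ⟨z, Subtype.ext (Prod.ext h1.symm ?_)⟩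
                change q (Y.incl z) = p.1.2
                rw [hz, ← he, map_sub, show q w = 0 from Ideal.Quotient.eq_zero_iff_mem.2 hw, sub_zero]
                rfl
              · rintro ⟨z, rfl⟩
                rfl
            mul_incl := fun p z => by
              refine Subtype.ext (Prod.ext (mul_zero _) ?_)
              change p.1.2 * q (Y.incl z) = q (Y.incl (p.1.1 • z))
              obtain ⟨e, he⟩ := Ideal.Quotient.mk_surjective p.1.2
              have h2 : ev p.1.1 = pbar p.1.2 := p.2
              obtain ⟨r, hr⟩ := hsurj (n + 1) p.1.1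
              have h3 : p.1.1 • z = r • z := by
                rw [← sub_eq_zero, ← algebraMap_smul (AdicCompletion (maximalIdeal R) R) r z, ← sub_smul]
                exact hmS _ (Ideal.pow_le_self (by omega) hr) z
              rw [h3, ← he, show Ideal.Quotient.mk _ e = q e from rfl, ← map_mul, Y.isExtension.mul_incl]
              congr 2
              by_cases hn0 : n = 0
              · subst hn0
                have hzero : ∀ w : L, w = 0 := fun w => hn w (by rw [pow_zero, Ideal.one_eq_top]; trivial)
                rw [hzero (Y.proj e • z), hzero (r • z)]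
              rw [← sub_eq_zero, ← sub_smul]
              refine hm _ ?_ z
              have h4 : Ideal.Quotient.mk (maximalIdeal R ^ n) (Y.proj e) = Ideal.Quotient.mk _ r := by
                have h5 : ev (algebraMap R _ r) = Ideal.Quotient.mk (maximalIdeal R ^ n) r :=
                  AdicCompletion.evalₐ_of _ n r
                have h6 : ev (p.1.1 - algebraMap R _ r) = 0 := by
                  have h7 : p.1.1 - algebraMap R _ r ∈ (maximalIdeal R ^ n).map
                      (algebraMap R (AdicCompletion (maximalIdeal R) R)) := by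
                    rw [Ideal.map_pow, ← AdicCompletion.maximalIdeal_eq_map]
                    exact Ideal.pow_le_pow_right (by omega) hr
                  have h8 := Ideal.mem_map_of_mem (AdicCompletion.evalₐ (maximalIdeal R) n).toRingHom h7
                  rw [Ideal.map_map, show (AdicCompletion.evalₐ (maximalIdeal R) n).toRingHom.comp
                    (algebraMap R (AdicCompletion (maximalIdeal R) R)) = algebraMap R (R ⧸ maximalIdeal R ^ n) from
                    (AdicCompletion.evalₐ (maximalIdeal R) n).comp_algebraMap] at h8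
                  rw [show (Ideal.map (algebraMap R (R ⧸ maximalIdeal R ^ n)) (maximalIdeal R ^ n)) = ⊥ from
                    Ideal.map_quotient_self _] at h8
                  exact h8
                rw [map_sub, sub_eq_zero, h5, h2, ← he] at h6
                exact h6
              exact Ideal.pow_le_self hn0 (Ideal.Quotient.eq.1 h4) } }
    have hmem : ∀ e : Y.E, ((algebraMap R (AdicCompletion (maximalIdeal R) R) (Y.proj e)), q e) ∈ S := fun e => by
      exact AdicCompletion.evalₐ_of _ n _
    let F : Y.E →ₐ[Λ] (X.pullback R).E :=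
      { toFun := fun e => ⟨(⟨_, hmem e⟩, Y.proj e), rfl⟩
        map_one' := Subtype.ext (Prod.ext (Subtype.ext (Prod.ext (by change algebraMap R (AdicCompletion (maximalIdeal R) R) (Y.proj 1) = 1; rw [map_one, map_one]) (map_one q))) (map_one _))
        map_mul' := fun a b => Subtype.ext (Prod.ext (Subtype.ext (Prod.ext (by change algebraMap R (AdicCompletion (maximalIdeal R) R) (Y.proj (a * b)) = algebraMap R (AdicCompletion (maximalIdeal R) R) (Y.proj a) * algebraMap R (AdicCompletion (maximalIdeal R) R) (Y.proj b); rw [map_mul, map_mul]) (map_mul q a b))) (map_mul _ a b))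
        map_zero' := Subtype.ext (Prod.ext (Subtype.ext (Prod.ext (by change algebraMap R (AdicCompletion (maximalIdeal R) R) (Y.proj 0) = 0; rw [map_zero, map_zero]) (map_zero q))) (map_zero _))
        map_add' := fun a b => Subtype.ext (Prod.ext (Subtype.ext (Prod.ext (by change algebraMap R (AdicCompletion (maximalIdeal R) R) (Y.proj (a + b)) = algebraMap R (AdicCompletion (maximalIdeal R) R) (Y.proj a) + algebraMap R (AdicCompletion (maximalIdeal R) R) (Y.proj b); rw [map_add, map_add]) (map_add q a b))) (map_add _ a b))
        commutes' := fun a => Subtype.ext (Prod.ext (Subtype.ext (Prod.ext (by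
          change algebraMap R _ (Y.proj (algebraMap Λ Y.E a)) = algebraMap Λ (AdicCompletion (maximalIdeal R) R) a
          rw [AlgHom.commutes, ← IsScalarTower.algebraMap_apply]) (q.commutes a))) (Y.proj.commutes a)) }
    refine ⟨X, ⟨(Exal.mkEquiv F (fun _ => rfl) fun z => Subtype.ext (Prod.ext (Subtype.ext (Prod.ext ?_ rfl)) ?_)).symm⟩⟩
    · change algebraMap R _ (Y.proj (Y.incl z)) = 0
      rw [Exal.proj_incl, map_zero]
    · exact Exal.proj_incl Y z

end Groth.Agent.S11283
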