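import Groth.Statements.S11287
import Groth.Agent.ArtFunLib.PowerSeries
import Groth.Agent.ArtFunLib.Obs
import Groth.Agent.ArtFunLib.FlatSeq
import Groth.Agent.Exal.Lift
import Groth.Agent.CAlg48.PSEval
import Groth.Agent.Adic.Basic

set_option autoImplicit false
universe u
open Deform

namespace Groth.Agent.S11287

section Aux

open Groth.Agent.Exal IsLocalRing

variable {Λ : Type u} [CommRing Λ] {R : Type u} [CommRing R] [Algebra Λ R] [IsLocalRing R]
  {L : Type u} [AddCommGroup L] [Module R L]

lemma smul_eq_zero [IsSimpleModule R L] {r : R} (hr : r ∈ maximalIdeal R) (z : L) : r • z = 0 := by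
  obtain ⟨m, hm, ⟨e⟩⟩ := isSimpleModule_iff_quot_maximal.mp ‹IsSimpleModule R L›
  obtain rfl := IsLocalRing.eq_maximalIdeal hm
  apply e.injective
  rw [map_smul, map_zero]
  obtain ⟨a, ha⟩ := Submodule.Quotient.mk_surjective _ (e z)
  rw [← ha, ← Submodule.Quotient.mk_smul, Submodule.Quotient.mk_eq_zero, smul_eq_mul]
  exact Ideal.mul_mem_right _ _ hr

/-- The middle ring is complete for the preimage of the maximal ideal. -/
theorem isAdicComplete_mid [IsSimpleModule R L] [IsNoetherianRing R] [IsAdicComplete (maximalIdeal R) R]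
    (X : Exal.Ext Λ R L) : IsAdicComplete ((maximalIdeal R).comap X.proj) X.E := by
  let I := (maximalIdeal R).comap X.proj
  let Lk : Ideal X.E := RingHom.ker X.proj
  have hIL : ∀ a ∈ I, ∀ x ∈ Lk, a * x = 0 := fun a ha x hx => by
    obtain ⟨z, rfl⟩ := (X.isExtension.exact x).1 hx
    rw [X.isExtension.mul_incl, smul_eq_zero ha, map_zero]
  have hLI : Lk ≤ I := fun x hx => by
    rw [Ideal.mem_comap, show X.proj x = 0 from hx]
    exact zero_mem _
  have hsurj := X.isExtension.proj_surjective
  -- the middle ring is Noetherian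
  haveI : IsNoetherianRing (X.E ⧸ Lk) :=
    isNoetherianRing_of_ringEquiv R (RingHom.quotientKerEquivOfSurjective (f := X.proj.toRingHom) hsurj).symm
  obtain ⟨z₀, hz₀⟩ : ∃ z₀ : L, ∀ z, ∃ r : R, r • z₀ = z := by
    haveI := IsSimpleModule.nontrivial R L
    obtain ⟨z₀, hz₀⟩ := exists_ne (0 : L)
    exact ⟨z₀, fun z => IsSimpleModule.toSpanSingleton_surjective R hz₀ z⟩
  have hfg : Lk.FG := ⟨{X.incl z₀}, le_antisymm (Submodule.span_le.2 (by
      simp only [Finset.coe_singleton, Set.singleton_subset_iff]
      exact Groth.Agent.Exal.proj_incl X z₀)) fun x hx => by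
    obtain ⟨z, rfl⟩ := (X.isExtension.exact x).1 hx
    obtain ⟨r, rfl⟩ := hz₀ z
    obtain ⟨e, rfl⟩ := hsurj r
    rw [← X.isExtension.mul_incl]
    exact Submodule.smul_mem _ e (Submodule.subset_span (by simp))⟩
  have hnil : IsNilpotent Lk := ⟨2, (Groth.Agent.Exal.ker_proj_sq X).trans Ideal.zero_eq_bot.symm⟩
  haveI : IsNoetherianRing X.E := Groth.Agent.ArtFunLib.FlatSeq.isNoetherianRing_of_nilpotent Lk hnil hfg
  obtain ⟨N, -, hN⟩ := Groth.Agent.ArtFunLib.exists_inf_pow_le I Lk
  have hN' : ∀ x ∈ Lk, x ∈ I ^ N → x = 0 := fun x hx hxN => by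
    have hzero : I * Lk = ⊥ := le_bot_iff.1 (Ideal.mul_le.2 fun a ha b hb => Ideal.mem_bot.2 (hIL a ha b hb))
    have := hN ⟨hx, hxN⟩
    rwa [hzero, Ideal.mem_bot] at this
  have hmap : ∀ m, (I ^ m).map X.proj.toRingHom = maximalIdeal R ^ m := fun m => by
    rw [Ideal.map_pow]
    exact congrArg (· ^ m) (Ideal.map_comap_of_surjective _ hsurj _)
  exact
    { haus' := fun x hx => by
        have h0 : X.proj x = 0 := IsHausdorff.haus (I := maximalIdeal R) inferInstance _ fun m => by
          rw [SModEq.zero, smul_eq_mul, Ideal.mul_top, ← hmap]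
          have := hx m
          rw [SModEq.zero, smul_eq_mul, Ideal.mul_top] at this
          exact Ideal.mem_map_of_mem _ this
        have hxN := hx N
        rw [SModEq.zero, smul_eq_mul, Ideal.mul_top] at hxN
        exact hN' x h0 hxN
      prec' := fun f hf => by
        obtain ⟨r, hr⟩ := IsPrecomplete.prec (I := maximalIdeal R) inferInstance (f := fun n => X.proj (f n))
          (fun {m n} h => by
            rw [SModEq.sub_mem, smul_eq_mul, Ideal.mul_top, ← hmap, ← map_sub]
            have := hf h
            rw [SModEq.sub_mem, smul_eq_mul, Ideal.mul_top] at this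
            exact Ideal.mem_map_of_mem _ this)
        obtain ⟨e, rfl⟩ := hsurj r
        have hdec : ∀ n, ∃ l ∈ Lk, f n - e - l ∈ I ^ n := fun n => by
          have h := hr n
          rw [SModEq.sub_mem, smul_eq_mul, Ideal.mul_top, ← hmap, ← map_sub] at h
          obtain ⟨w, hw, hwe⟩ := (Ideal.mem_map_iff_of_surjective _ hsurj).1 h
          refine ⟨f n - e - w, ?_, by rw [sub_sub_cancel]; exact hw⟩
          rw [RingHom.mem_ker, map_sub]
          exact sub_eq_zero.2 hwe.symm
        choose l hl hl' using hdec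
        refine ⟨e + l N, fun n => ?_⟩
        rw [SModEq.sub_mem, smul_eq_mul, Ideal.mul_top]
        have hcmp : ∀ a b, a ≤ b → f a - f b ∈ I ^ a := fun a b h => by
          have := hf h
          rwa [SModEq.sub_mem, smul_eq_mul, Ideal.mul_top] at this
        have heq : l (max n N) = l N := sub_eq_zero.1 (hN' _ (sub_mem (hl _) (hl _)) (by
          rw [show l (max n N) - l N = (f (max n N) - f N) - (f (max n N) - e - l (max n N)) + (f N - e - l N) by ring]
          refine add_mem (sub_mem ?_ (Ideal.pow_le_pow_right (le_max_right n N) (hl' _))) (hl' N)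
          rw [← neg_sub]
          exact neg_mem (hcmp _ _ (le_max_right n N))))
        rw [show f n - (e + l N) = (f n - f (max n N)) + (f (max n N) - e - l (max n N)) by rw [heq]; ring]
        exact add_mem (hcmp _ _ (le_max_left n N)) (Ideal.pow_le_pow_right (le_max_left n N) (hl' _)) }

/-- Two algebra maps from power series into a complete ring agreeing on the variables agree. -/
theorem ps_hom_ext {Λ : Type u} [CommRing Λ] {σ : Type} [Finite σ] {C : Type u} [CommRing C] [Algebra Λ C] (I : Ideal C) [IsHausdorff I C]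
    (f g : MvPowerSeries σ Λ →ₐ[Λ] C) (hX : ∀ i, f (MvPowerSeries.X i) = g (MvPowerSeries.X i))
    (hI : ∀ i, f (MvPowerSeries.X i) ∈ I) : f = g := by
  refine AlgHom.ext fun p => sub_eq_zero.1 (IsHausdorff.haus (I := I) inferInstance _ fun n => ?_)
  rw [SModEq.zero, smul_eq_mul, Ideal.mul_top]
  have hsp : ∀ h : MvPowerSeries σ Λ →ₐ[Λ] C, (∀ i, h (MvPowerSeries.X i) ∈ I) →
      ∀ q ∈ Ideal.span (Set.range (MvPowerSeries.X : σ → MvPowerSeries σ Λ)) ^ n, h q ∈ I ^ n := fun h hh q hq =>
    Groth.Agent.ArtFunLib.apply_mem_pow h _ I (fun a ha => by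
      induction ha using Submodule.span_induction with
      | mem a ha => obtain ⟨i, rfl⟩ := ha; exact hh i
      | zero => rw [map_zero]; exact zero_mem _
      | add a b _ _ iha ihb => rw [map_add]; exact add_mem iha ihb
      | smul c a _ ih => rw [smul_eq_mul, map_mul]; exact Ideal.mul_mem_left _ _ ih) n hq
  have hpoly : ∀ q : MvPolynomial σ Λ, f (q : MvPowerSeries σ Λ) = g (q : MvPowerSeries σ Λ) := fun q => by
    induction q using MvPolynomial.induction_on with
    | C r => rw [MvPolynomial.coe_C, MvPowerSeries.c_eq_algebraMap, AlgHom.commutes, AlgHom.commutes]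
    | add a b ha hb => rw [MvPolynomial.coe_add, map_add, map_add, ha, hb]
    | mul_X a i ha => rw [MvPolynomial.coe_mul, MvPolynomial.coe_X, map_mul, map_mul, ha, hX]
  have h1 := CAlg48.PowerSeriesAFS.sub_truncTotal_mem p n
  have hf' := hsp f hI _ h1
  have hg' := hsp g (fun i => hX i ▸ hI i) _ h1
  rw [map_sub] at hf' hg'
  rw [show f p - g p = (f p - f (MvPowerSeries.truncTotal n p : MvPolynomial σ Λ)) -
    (g p - g (MvPowerSeries.truncTotal n p : MvPolynomial σ Λ)) by rw [hpoly]; ring]
  exact sub_mem hf' hg'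

end Aux

/-- Let k be an algebraically closed field, Λ a complete local Noetherian k-algebra with residue field
k, P = Λ[[X_1, …, X_d]] the power series ring, J an ideal of P contained in (X_1, …, X_d)^2, R =
P/J, and L a simple R-module (a copy of the residue field k). Then: (a) for every Λ-extension 0 → L
→ E → R → 0 the quotient map P → R lifts to a Λ-algebra map u : P → E; (b) for two such extensions
E, E' with lifts u, u', the extensions are equivalent if and only if u and u' send every element of
J to the images of the same element of L (the restrictions J → L of the lifts agree); (c) every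
P-linear map J → L is the restriction of a lift for some extension. Thus the classes of Λ-extensions
of R by L correspond bijectively to Hom_P(J, L), the dual of J/m_P J; this is the identification of
the obstruction space o(R/Λ) for a complete R (the general case reduces to it by passing to the
completion). -/
theorem result
    {k : Type u} [Field k] [IsAlgClosed k]
    {Λ : Type u} [CommRing Λ] [Algebra k Λ] [IsLocalRing Λ] [IsNoetherianRing Λ]
    [IsAdicComplete (IsLocalRing.maximalIdeal Λ) Λ]
    (hΛ : ∀ a : Λ, ∃ c : k, a - algebraMap k Λ c ∈ IsLocalRing.maximalIdeal Λ)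
    (d : ℕ) (J : Ideal (MvPowerSeries (Fin d) Λ))
    (hJ : J ≤ Ideal.span (Set.range (MvPowerSeries.X : Fin d → MvPowerSeries (Fin d) Λ)) ^ 2)
    (L : Type u) [AddCommGroup L] [Module (MvPowerSeries (Fin d) Λ ⧸ J) L] [Module (MvPowerSeries (Fin d) Λ) L]
    [IsScalarTower (MvPowerSeries (Fin d) Λ) (MvPowerSeries (Fin d) Λ ⧸ J) L] [IsSimpleModule (MvPowerSeries (Fin d) Λ ⧸ J) L] :
    (∀ X : Exal.Ext Λ (MvPowerSeries (Fin d) Λ ⧸ J) L,
        ∃ u : MvPowerSeries (Fin d) Λ →ₐ[Λ] X.E, ∀ p, X.proj (u p) = Ideal.Quotient.mk J p) ∧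
    (∀ (X X' : Exal.Ext Λ (MvPowerSeries (Fin d) Λ ⧸ J) L) (u : MvPowerSeries (Fin d) Λ →ₐ[Λ] X.E) (u' : MvPowerSeries (Fin d) Λ →ₐ[Λ] X'.E),
        (∀ p, X.proj (u p) = Ideal.Quotient.mk J p) → (∀ p, X'.proj (u' p) = Ideal.Quotient.mk J p) →
        (Nonempty (X.Equiv X') ↔ ∀ j ∈ J, ∃ z : L, X.incl z = u j ∧ X'.incl z = u' j)) ∧
    (∀ δ : J →ₗ[MvPowerSeries (Fin d) Λ] L, ∃ (X : Exal.Ext Λ (MvPowerSeries (Fin d) Λ ⧸ J) L) (u : MvPowerSeries (Fin d) Λ →ₐ[Λ] X.E),
        (∀ p, X.proj (u p) = Ideal.Quotient.mk J p) ∧ ∀ j : J, X.incl (δ j) = u j) := by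
  open Groth.Agent.Exal Groth.Agent.ArtFunLib IsLocalRing in
  classical
  let P := MvPowerSeries (Fin d) Λ
  let nX : Ideal P := Ideal.span (Set.range (MvPowerSeries.X : Fin d → P))
  haveI : IsNoetherianRing P := inferInstance
  have hcomplete : IsAdicComplete (IsLocalRing.maximalIdeal P) P := isAdicComplete_ps
  have hXm : ∀ i, (MvPowerSeries.X i : P) ∈ IsLocalRing.maximalIdeal P := fun i => by
    rw [maximalIdeal_ps_eq]; exact Submodule.mem_sup_right (Ideal.subset_span ⟨i, rfl⟩)
  have hnX : nX ≤ IsLocalRing.maximalIdeal P := Ideal.span_le.2 (by rintro _ ⟨i, rfl⟩; exact hXm i)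
  have hJm : J ≤ IsLocalRing.maximalIdeal P := hJ.trans ((Ideal.pow_le_self two_ne_zero).trans hnX)
  haveI : Nontrivial (P ⧸ J) := Ideal.Quotient.nontrivial_iff.2 fun h =>
    (IsLocalRing.maximalIdeal.isMaximal P).ne_top (top_le_iff.1 (h ▸ hJm))
  haveI : IsLocalRing (P ⧸ J) := IsLocalRing.of_surjective' (Ideal.Quotient.mk J) Ideal.Quotient.mk_surjective
  haveI : IsNoetherianRing (P ⧸ J) := inferInstance
  have hmmap : (IsLocalRing.maximalIdeal P).map (algebraMap P (P ⧸ J)) = IsLocalRing.maximalIdeal (P ⧸ J) :=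
    IsLocalRing.eq_maximalIdeal (Ideal.IsMaximal.map_of_surjective_of_ker_le
      Ideal.Quotient.mk_surjective (by rw [Ideal.mk_ker]; exact hJm))
  haveI : IsPrecomplete (IsLocalRing.maximalIdeal P) (P ⧸ J) :=
    Adic.isPrecomplete_of_surjective _ (Algebra.linearMap P (P ⧸ J)) Ideal.Quotient.mk_surjective
  haveI : IsPrecomplete (IsLocalRing.maximalIdeal (P ⧸ J)) (P ⧸ J) :=
    hmmap ▸ IsPrecomplete.map_algebraMap_iff.2 inferInstance
  haveI : IsAdicComplete (IsLocalRing.maximalIdeal (P ⧸ J)) (P ⧸ J) := {}
  have hmk : ∀ i, Ideal.Quotient.mk J (MvPowerSeries.X i) ∈ IsLocalRing.maximalIdeal (P ⧸ J) := fun i =>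
    hmmap ▸ Ideal.mem_map_of_mem _ (hXm i)
  have htower : ∀ (p : P) (z : L), Ideal.Quotient.mk J p • z = p • z := fun p z => algebraMap_smul (P ⧸ J) p z
  -- the restriction of a lift to `J` does not depend on the lift
  have huniq : ∀ (X : Exal.Ext Λ (P ⧸ J) L) (f g : P →ₐ[Λ] X.E),
      (∀ p, X.proj (f p) = Ideal.Quotient.mk J p) → (∀ p, X.proj (g p) = Ideal.Quotient.mk J p) →
      ∀ j ∈ J, f j = g j := fun X f g hf hg j hj => by
    have hk : ∀ h : P →ₐ[Λ] X.E, (∀ p, X.proj (h p) = Ideal.Quotient.mk J p) →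
        ∀ a ∈ nX, ∀ x ∈ RingHom.ker X.proj, h a * x = 0 := fun h hh a ha x hx => by
      obtain ⟨z, rfl⟩ := (X.isExtension.exact x).1 hx
      rw [X.isExtension.mul_incl, hh, smul_eq_zero (hmmap ▸ Ideal.mem_map_of_mem _ (hnX ha)), map_zero]
    exact sub_mul_eq_zero nX (RingHom.ker X.proj) f.toRingHom g.toRingHom
      (fun a _ => RingHom.mem_ker.2 ((map_sub X.proj _ _).trans (sub_eq_zero.2 ((hf a).trans (hg a).symm))))
      (hk f hf) (hk g hg) (hJ hj)
  refine ⟨fun X => ?_, fun X X' u u' hu hu' => ⟨fun ⟨φ⟩ j hj => ?_, fun h => ?_⟩, fun δ => ?_⟩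
  · choose b hb using fun i => X.isExtension.proj_surjective (Ideal.Quotient.mk J (MvPowerSeries.X i))
    haveI := isAdicComplete_mid X
    obtain ⟨u, hu⟩ := Groth.Agent.CAlg48.PSEval.exists_algHom (k := Λ)
      ((IsLocalRing.maximalIdeal (P ⧸ J)).comap X.proj) b (fun i => by rw [Ideal.mem_comap, hb]; exact hmk i)
    refine ⟨u, fun p => ?_⟩
    have := ps_hom_ext (IsLocalRing.maximalIdeal (P ⧸ J)) (X.proj.comp u) (Ideal.Quotient.mkₐ Λ J)
      (fun i => by rw [AlgHom.comp_apply, hu, hb]; rfl) (fun i => by rw [AlgHom.comp_apply, hu, hb]; exact hmk i)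
    exact congrArg (fun f : P →ₐ[Λ] P ⧸ J => f p) this
  · have h0 : X.proj (u j) = 0 := by rw [hu, Ideal.Quotient.eq_zero_iff_mem.2 hj]
    refine ⟨X.kerLift _ h0, X.incl_kerLift _ h0, ?_⟩
    rw [← φ.apply_incl, X.incl_kerLift _ h0]
    exact huniq X' (φ.toAlgEquiv.toAlgHom.comp u) u' (fun p => (φ.proj_apply _).trans (hu p)) hu' j hj
  · choose p hp using fun x : X.E => Ideal.Quotient.mk_surjective (X.proj x)
    have hpx : ∀ x, X.proj x = X.proj (u (p x)) := fun x => by rw [hu, hp]
    let F : X.E → X'.E := fun x => u' (p x) + X'.incl (diff X x (u (p x)) (hpx x))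
    have hF : ∀ (q : P) (z : L), F (u q + X.incl z) = u' q + X'.incl z := fun q z => by
      let x := u q + X.incl z
      have hj : q - p x ∈ J := Ideal.Quotient.eq.1 (by
        rw [hp, map_add, hu, Groth.Agent.Exal.proj_incl, add_zero])
      obtain ⟨w, hw, hw'⟩ := h _ hj
      have hd : diff X x (u (p x)) (hpx x) = z + w := (diff_eq_iff X _ _).2 (by
        rw [map_add, hw, map_sub]; simp only [x]; ring)
      change u' (p x) + X'.incl (diff X x (u (p x)) (hpx x)) = _
      rw [hd, map_add, hw', map_sub]
      ring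
    have hdec : ∀ x : X.E, ∃ q z, x = u q + X.incl z := fun x =>
      ⟨p x, diff X x (u (p x)) (hpx x), by rw [incl_diff]; ring⟩
    let φ : X.E →ₐ[Λ] X'.E :=
      { toFun := F
        map_one' := by
          have := hF 1 0
          rwa [map_one, map_one, map_zero, map_zero, add_zero, add_zero] at this
        map_mul' := fun x y => by
          obtain ⟨q, z, rfl⟩ := hdec x
          obtain ⟨q', z', rfl⟩ := hdec y
          rw [hF, hF, show (u q + X.incl z) * (u q' + X.incl z') =
            u (q * q') + X.incl (q • z' + q' • z) by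
              rw [map_mul, map_add, ← htower q, ← htower q', ← hu q, ← hu q', ← X.isExtension.mul_incl,
                ← X.isExtension.mul_incl, add_mul, mul_add, mul_add, incl_mul_incl]
              ring, hF, map_mul, map_add, ← htower q, ← htower q', ← hu' q, ← hu' q', ← X'.isExtension.mul_incl,
            ← X'.isExtension.mul_incl, add_mul, mul_add, mul_add, incl_mul_incl]
          ring
        map_zero' := by
          have := hF 0 0
          rwa [map_zero, map_zero, map_zero, map_zero, add_zero, add_zero] at this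
        map_add' := fun x y => by
          obtain ⟨q, z, rfl⟩ := hdec x
          obtain ⟨q', z', rfl⟩ := hdec y
          rw [hF, hF, show (u q + X.incl z) + (u q' + X.incl z') = u (q + q') + X.incl (z + z') by
            rw [map_add, map_add]; ring, hF, map_add, map_add]
          ring
        commutes' := fun r => by
          have := hF (algebraMap Λ P r) 0
          rwa [map_zero, map_zero, add_zero, add_zero, AlgHom.commutes, AlgHom.commutes] at this }
    refine ⟨mkEquiv φ (fun x => ?_) fun z => ?_⟩
    · obtain ⟨q, z, rfl⟩ := hdec x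
      change X'.proj (F _) = _
      rw [hF, map_add, map_add, hu, hu', Groth.Agent.Exal.proj_incl, Groth.Agent.Exal.proj_incl]
    · have := hF 0 z
      rwa [map_zero, map_zero, zero_add, zero_add] at this
  · let T := Exal.Ext.trivial Λ P L
    let s : P →ₐ[Λ] T.E :=
      { toFun := fun p => TrivSqZeroExt.inl p
        map_one' := rfl
        map_mul' := fun a b => by
          letI := Exal.opModule P L
          exact TrivSqZeroExt.inl_mul L a b
        map_zero' := rfl
        map_add' := fun a b => TrivSqZeroExt.inl_add L a b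
        commutes' := fun r => rfl }
    have hs : ∀ p, T.proj (s p) = p := fun p => rfl
    let K : Ideal T.E :=
      { carrier := {x | ∃ j : J, x = s (j : P) - T.incl (δ j)}
        add_mem' := fun {a b} ⟨j, hj⟩ ⟨j', hj'⟩ => ⟨j + j', by
          rw [hj, hj', map_add δ, map_add T.incl, Submodule.coe_add, map_add]
          ring⟩
        zero_mem' := ⟨0, by simp⟩
        smul_mem' := fun c x ⟨j, hj⟩ => ⟨T.proj c • j, by
          obtain ⟨z, hz⟩ := (T.isExtension.exact (c - s (T.proj c))).1 (by rw [map_sub, hs, sub_self])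
          have h0 : T.incl z * s (j : P) = 0 := by
            rw [mul_comm, T.isExtension.mul_incl, hs, ← htower, Ideal.Quotient.eq_zero_iff_mem.2 j.2]
            refine Eq.trans (congrArg T.incl ?_) (map_zero _)
            exact zero_smul (P ⧸ J) z
          rw [hj, smul_eq_mul, map_smul, Submodule.coe_smul, smul_eq_mul, map_mul,
            show c = s (T.proj c) + T.incl z by rw [hz]; ring]
          rw [show T.proj (s (T.proj c) + T.incl z) = T.proj c by rw [map_add, hs, Groth.Agent.Exal.proj_incl, add_zero],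
            add_mul, mul_sub, mul_sub, h0, incl_mul_incl, T.isExtension.mul_incl, hs]
          ring⟩ }
    have hKker : ∀ x ∈ K, Ideal.Quotient.mk J (T.proj x) = 0 := by
      rintro x ⟨j, rfl⟩
      rw [map_sub, hs, Groth.Agent.Exal.proj_incl, sub_zero]
      exact Ideal.Quotient.eq_zero_iff_mem.2 j.2
    let proj : (T.E ⧸ K) →ₐ[Λ] (P ⧸ J) :=
      Ideal.Quotient.liftₐ K ((Ideal.Quotient.mkₐ Λ J).comp T.proj) hKker
    let incl : L →+ T.E ⧸ K := (Ideal.Quotient.mk K).toAddMonoidHom.comp T.incl
    let X : Exal.Ext Λ (P ⧸ J) L :=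
      { E := T.E ⧸ K
        proj := proj
        incl := incl
        isExtension :=
          { proj_surjective := fun y => by
              obtain ⟨p, rfl⟩ := Ideal.Quotient.mk_surjective y
              exact ⟨Ideal.Quotient.mk K (s p), congrArg (Ideal.Quotient.mk J) (hs p)⟩
            incl_injective := (injective_iff_map_eq_zero incl).2 fun z hz => by
              obtain ⟨j, hj⟩ := Ideal.Quotient.eq_zero_iff_mem.1 hz
              have h1 := congrArg T.proj hj
              rw [Groth.Agent.Exal.proj_incl, map_sub, hs, Groth.Agent.Exal.proj_incl, sub_zero] at h1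
              obtain rfl : j = 0 := Subtype.ext h1.symm
              rw [map_zero, map_zero, sub_zero, Submodule.coe_zero, map_zero, ← map_zero T.incl] at hj
              exact T.isExtension.incl_injective hj
            exact := fun x => by
              obtain ⟨y, rfl⟩ := Ideal.Quotient.mk_surjective x
              refine ⟨fun hy => ?_, ?_⟩
              · have hjJ : T.proj y ∈ J := Ideal.Quotient.eq_zero_iff_mem.1 hy
                obtain ⟨z, hz⟩ := (T.isExtension.exact (y - s (T.proj y))).1 (by rw [map_sub, hs, sub_self])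
                refine ⟨z + δ ⟨_, hjJ⟩, Ideal.Quotient.eq.2 ?_⟩
                refine (neg_mem_iff (H := K)).1 ?_
                refine Exists.intro (⟨_, hjJ⟩ : J) ?_
                rw [map_add, hz]
                ring
              · rintro ⟨z, hz⟩
                rw [← hz]
                change Ideal.Quotient.mk J (T.proj (T.incl z)) = 0
                rw [Groth.Agent.Exal.proj_incl, map_zero]
            mul_incl := fun x z => by
              obtain ⟨y, rfl⟩ := Ideal.Quotient.mk_surjective x
              change Ideal.Quotient.mk K y * Ideal.Quotient.mk K (T.incl z) = _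
              rw [← map_mul, T.isExtension.mul_incl, ← htower]
              rfl } }
    refine ⟨X, (Ideal.Quotient.mkₐ Λ K).comp s, fun p => congrArg (Ideal.Quotient.mk J) (hs p), fun j => ?_⟩
    change Ideal.Quotient.mk K (T.incl (δ j)) = Ideal.Quotient.mk K (s (j : P))
    exact (Ideal.Quotient.eq.2 (show s (j : P) - T.incl (δ j) ∈ K from ⟨j, rfl⟩)).symm

end Groth.Agent.S11287
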