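import Groth.Statements.S11288
import Mathlib.LinearAlgebra.Dual.Lemmas
import Mathlib.Tactic.LinearCombination

set_option autoImplicit false
universe u
open Deform

namespace Groth.Agent.S11288

/-- Let K be a field, R' a local Artinian K-algebra with residue field K, and t a nonzero element of the
maximal ideal m' of R' with m' t = 0, so that R' → R = R'/(t) is a small extension of R. Then the
extension is trivial, i.e. the projection admits a section which is a K-algebra map, if and only if
t is not in m'^2; equivalently, iff the surjection m'/m'^2 → m_R/m_R^2 induced on cotangent spaces,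
whose kernel is spanned by the class of t, is not bijective. For instance K[t]/(t^(n+1)) →
K[t]/(t^n) is a non-trivial small extension for n ≥ 2. (The published example allows any local
K-algebra with residue field K; the row takes R' Artinian, the case in which the subalgebra
generated by lifts of a basis of the cotangent space maps onto R.) -/
theorem result
    {K : Type u} [Field K]
    {R' : Type u} [CommRing R'] [Algebra K R'] [IsLocalRing R'] [IsArtinianRing R']
    (hres : ∀ a : R', ∃ c : K, a - algebraMap K R' c ∈ IsLocalRing.maximalIdeal R')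
    (t : R') (ht : t ∈ IsLocalRing.maximalIdeal R') (ht0 : t ≠ 0)
    (htm : ∀ a ∈ IsLocalRing.maximalIdeal R', a * t = 0) :
    (∃ s : (R' ⧸ Ideal.span {t}) →ₐ[K] R', ∀ x, Ideal.Quotient.mk (Ideal.span {t}) (s x) = x) ↔
      t ∉ IsLocalRing.maximalIdeal R' ^ 2 := by
  let m := IsLocalRing.maximalIdeal R'
  choose c hc using hres
  constructor
  · rintro ⟨s, hs⟩ h2
    let g : R' →ₐ[K] R' := s.comp (Ideal.Quotient.mkₐ K (Ideal.span {t}))
    have hg : ∀ a, g a - a ∈ Ideal.span {t} := fun a => Ideal.Quotient.eq.1 (hs _)
    have hfix : ∀ x ∈ m ^ 2, g x = x := by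
      intro x hx
      rw [pow_two] at hx
      refine Submodule.mul_induction_on hx (fun a ha b hb => ?_) fun a b ha hb => by rw [map_add, ha, hb]
      obtain ⟨u, hu⟩ := Ideal.mem_span_singleton'.1 (hg a)
      obtain ⟨v, hv⟩ := Ideal.mem_span_singleton'.1 (hg b)
      rw [map_mul, sub_eq_iff_eq_add.1 hu.symm, sub_eq_iff_eq_add.1 hv.symm]
      linear_combination v * htm a ha + u * htm b hb + u * v * htm t ht
    have : g t = 0 := by
      change s (Ideal.Quotient.mk _ t) = 0
      rw [Ideal.Quotient.eq_zero_iff_mem.2 (Ideal.mem_span_singleton_self t), map_zero]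
    exact ht0 ((hfix t h2).symm.trans this)
  · intro h2
    let S : Submodule K R' := Submodule.span K {1} ⊔ (m ^ 2).restrictScalars K
    have htS : t ∉ S := by
      intro h
      obtain ⟨a, ha, b, hb, e⟩ := Submodule.mem_sup.1 h
      obtain ⟨r, rfl⟩ := Submodule.mem_span_singleton.1 ha
      have hb' : b ∈ m := Ideal.pow_le_self two_ne_zero hb
      have : algebraMap K R' r ∈ m := by
        have : r • (1 : R') = t - b := eq_sub_of_add_eq e
        rw [Algebra.algebraMap_eq_smul_one, this]
        exact m.sub_mem ht hb'
      have hr : r = 0 := by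
        by_contra hr
        exact (IsLocalRing.maximalIdeal.isMaximal R').ne_top (Ideal.eq_top_of_isUnit_mem _ this ((IsUnit.mk0 r hr).map _))
      rw [hr, zero_smul, zero_add] at e
      exact h2 (e ▸ hb)
    obtain ⟨ℓ₀, hℓ₀, hS⟩ := Submodule.exists_dual_map_eq_bot_of_notMem htS inferInstance
    let ℓ : R' →ₗ[K] K := (ℓ₀ t)⁻¹ • ℓ₀
    have hℓt : ℓ t = 1 := inv_mul_cancel₀ hℓ₀
    have hℓS : ∀ x ∈ S, ℓ x = 0 := fun x hx => by
      have : ℓ₀ x = 0 := (Submodule.mem_bot K).1 (hS ▸ Submodule.mem_map_of_mem hx)
      simp [ℓ, this]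
    have hℓ1 : ℓ 1 = 0 := hℓS _ (Submodule.mem_sup_left (Submodule.mem_span_singleton_self _))
    have hmul : ∀ a b, ℓ (a * b) = c a * ℓ b + c b * ℓ a := fun a b => by
      have e : a * b = c a • b + c b • a - (c a * c b) • (1 : R')
          + (a - algebraMap K R' (c a)) * (b - algebraMap K R' (c b)) := by
        simp only [Algebra.smul_def, map_mul]; ring
      have h3 : ℓ ((a - algebraMap K R' (c a)) * (b - algebraMap K R' (c b))) = 0 :=
        hℓS _ (Submodule.mem_sup_right (by rw [Submodule.restrictScalars_mem, pow_two]; exact Ideal.mul_mem_mul (hc a) (hc b)))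
      rw [e, map_add, map_sub, map_add, map_smul, map_smul, map_smul, h3, hℓ1]
      simp
    have hat : ∀ a, a * t = algebraMap K R' (c a) * t := fun a => by
      have := htm _ (hc a)
      linear_combination this
    let φ : R' →ₐ[K] R' := AlgHom.ofLinearMap (LinearMap.id - ℓ.smulRight t)
      (by simp [hℓ1])
      (fun a b => by
        simp only [LinearMap.sub_apply, LinearMap.id_apply, LinearMap.smulRight_apply, hmul, Algebra.smul_def, map_add, map_mul]
        linear_combination (algebraMap K R' (ℓ b)) * hat a + (algebraMap K R' (ℓ a)) * hat b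
          - (algebraMap K R' (ℓ a) * algebraMap K R' (ℓ b)) * htm t ht)
    refine ⟨Ideal.Quotient.liftₐ (Ideal.span {t}) φ fun x hx => ?_, fun x => ?_⟩
    · obtain ⟨a, rfl⟩ := Ideal.mem_span_singleton'.1 hx
      rw [map_mul]
      simp [φ, hℓt]
    · obtain ⟨a, rfl⟩ := Ideal.Quotient.mk_surjective x
      refine Ideal.Quotient.eq.2 ?_
      change φ a - a ∈ _
      simp [φ, Ideal.mem_span_singleton', Algebra.smul_def]

end Groth.Agent.S11288
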