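import Groth.Statements.S11291
import Groth.Agent.ArtFunLib.ObsBounds
import Groth.Agent.PSLoc.Basic
import Groth.Agent.Exal.Basic
import Mathlib.LinearAlgebra.Dual.Lemmas

set_option autoImplicit false
universe u
open Deform

namespace Groth.Agent.S11291

/-- Let k be an algebraically closed field and A a local Artinian k-algebra with residue field k and
non-zero maximal ideal, i.e. A is not k. Then the obstruction space o(A) = Ex_k(A, k) is not zero:
there is a k-extension 0 → k → E → A → 0 of A by its residue field which is not trivial (admits no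
k-algebra section). Equivalently, k is the only formally smooth object among local Artinian
k-algebras with residue field k. -/
theorem result
    {k : Type u} [Field k] [IsAlgClosed k]
    {A : Type u} [CommRing A] [Algebra k A] [IsLocalRing A] [IsArtinianRing A]
    (hres : ∀ a : A, ∃ c : k, a - algebraMap k A c ∈ IsLocalRing.maximalIdeal A)
    (hA : IsLocalRing.maximalIdeal A ≠ ⊥) :
    ∃ X : Exal.Ext k A (IsLocalRing.ResidueField A), ¬ X.IsTrivial := by
  open Groth.Agent.ArtFunLib IsLocalRing in
  classical
  let κ := IsLocalRing.ResidueField A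
  have he : Function.Bijective (algebraMap k κ) := ⟨(algebraMap k κ).injective, fun z => by
    obtain ⟨a, rfl⟩ := IsLocalRing.residue_surjective z
    obtain ⟨c, hc⟩ := hres a
    exact ⟨c, (Ideal.Quotient.eq.2 hc).symm⟩⟩
  let e : k ≃ₐ[k] κ := AlgEquiv.ofBijective (Algebra.ofId k κ) he
  let resA : A →ₐ[k] k := e.symm.toAlgHom.comp (IsScalarTower.toAlgHom k A κ)
  have hresA : ∀ a, algebraMap k κ (resA a) = residue A a := fun a => e.apply_symm_apply _
  have hresA_surj : Function.Surjective resA := fun c => ⟨algebraMap k A c, resA.commutes c⟩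
  let A' : ArtFun.Art k k := ArtFun.Art.of A resA hresA_surj
  obtain ⟨d, θ₀, hθ, hθr, hθJ⟩ := exists_presentation_field (artCRing A')
  let P := psRing (fieldCRing k) d
  let θ : P.carrier →ₐ[k] A := θ₀
  let n := IsLocalRing.maximalIdeal P.carrier
  let J := RingHom.ker θ
  have hkm : RingHom.ker P.res = n := IsLocalRing.eq_maximalIdeal (isMaximal_ker P.res_surjective)
  -- the relations are not zero
  have hJ0 : J ≠ ⊥ := by
    intro h0
    have hinj : Function.Injective θ := (RingHom.injective_iff_ker_eq_bot θ).2 h0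
    haveI : IsArtinianRing P.carrier :=
      (RingEquiv.ofBijective θ.toRingHom ⟨hinj, hθ⟩).symm.surjective.isArtinianRing
    have hdim : ringKrullDim (MvPowerSeries (Fin d) k) = (d : WithBot ℕ∞) := Groth.Agent.PSLoc.ringKrullDim_eq k d
    haveI : IsArtinianRing (MvPowerSeries (Fin d) k) := ‹IsArtinianRing P.carrier›
    rw [ringKrullDimZero_iff_ringKrullDim_eq_zero.1 inferInstance] at hdim
    obtain rfl : d = 0 := by exact_mod_cast hdim.symm
    apply hA
    rw [← map_maximalIdeal_eq θ.toRingHom hθ,
      show IsLocalRing.maximalIdeal P.carrier = ⊥ by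
        change IsLocalRing.maximalIdeal (MvPowerSeries (Fin 0) k) = ⊥
        rw [Groth.Agent.PSLoc.maximalIdeal_eq]; simp,
      Ideal.map_bot]
  haveI := finite_quot_smul_top P.res P.res_surjective J
  let W := RingHom.ker P.res • (⊤ : Submodule P.carrier ↥J)
  have hW : W ≠ ⊤ := fun h => hJ0 (Submodule.eq_bot_of_le_smul_of_le_jacobson_bot n J (IsNoetherian.noetherian _)
    (fun x hx => by
      have hm : (⟨x, hx⟩ : J) ∈ W := h ▸ Submodule.mem_top
      have h2 := Submodule.mem_map_of_mem (f := J.subtype) hm
      rw [Submodule.map_smul'', Submodule.map_top, Submodule.range_subtype, hkm] at h2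
      exact h2) (IsLocalRing.maximalIdeal_le_jacobson _))
  haveI : Nontrivial (↥J ⧸ W) := Submodule.Quotient.nontrivial_iff.2 hW
  obtain ⟨w, hw⟩ := exists_ne (0 : ↥J ⧸ W)
  obtain ⟨l, hl⟩ : ∃ l : (↥J ⧸ W) →ₗ[k] k, l w = 1 := by
    obtain ⟨f, hf⟩ : ∃ f : Module.Dual k (↥J ⧸ W), f w ≠ 0 := by
      by_contra h
      push Not at h
      exact hw ((Module.forall_dual_apply_eq_zero_iff k w).1 h)
    exact ⟨(f w)⁻¹ • f, by rw [LinearMap.smul_apply, smul_eq_mul, inv_mul_cancel₀ hf]⟩
  obtain ⟨y, rfl⟩ := Submodule.Quotient.mk_surjective _ w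
  let lam : ↥J → k := fun j => l (Submodule.Quotient.mk j)
  have hsmul : ∀ (c : P.carrier) (j : J), lam (c • j) = P.res c * lam j := fun c j => by
    have h1 : (Submodule.Quotient.mk (c • j) : ↥J ⧸ W) = P.res c • Submodule.Quotient.mk j := by
      rw [← algebraMap_smul P.carrier (P.res c) (Submodule.Quotient.mk j : ↥J ⧸ W), ← Submodule.Quotient.mk_smul,
        Submodule.Quotient.eq, ← sub_smul]
      refine Submodule.smul_mem_smul ?_ Submodule.mem_top
      rw [RingHom.mem_ker, map_sub, AlgHom.commutes, Algebra.algebraMap_self, RingHom.id_apply, sub_self]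
    simp only [lam, h1, map_smul, smul_eq_mul]
  let K : Ideal P.carrier :=
    { carrier := {a | ∃ h : a ∈ J, lam ⟨a, h⟩ = 0}
      add_mem' := fun {a b} ⟨ha, ea⟩ ⟨hb, eb⟩ => ⟨add_mem ha hb, by
        have : lam (⟨a, ha⟩ + ⟨b, hb⟩) = 0 := by simp only [lam, Submodule.Quotient.mk_add, map_add]; rw [show l _ = 0 from ea, show l _ = 0 from eb, add_zero]
        exact this⟩
      zero_mem' := ⟨zero_mem J, by
        change l (Submodule.Quotient.mk (0 : J)) = 0
        rw [Submodule.Quotient.mk_zero, map_zero]⟩
      smul_mem' := fun c a ⟨ha, ea⟩ => ⟨J.mul_mem_left c ha, (hsmul c ⟨a, ha⟩).trans (by rw [ea, mul_zero])⟩ }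
  have hKJ : K ≤ J := fun a ha => ha.1
  let E := P.carrier ⧸ K
  let q : P.carrier →ₐ[k] E := Ideal.Quotient.mkₐ k K
  let proj : E →ₐ[k] A := Ideal.Quotient.liftₐ K θ fun a ha => hKJ ha
  have hkill : ∀ (c : P.carrier) (j : J), q (c * j) = algebraMap k E (P.res c) * q j := fun c j => by
    rw [← q.commutes, ← map_mul]
    refine Ideal.Quotient.eq.2 ⟨sub_mem (J.mul_mem_left _ j.2) (J.mul_mem_left _ j.2), ?_⟩
    have := hsmul (c - algebraMap k _ (P.res c)) j
    rw [map_sub, AlgHom.commutes, Algebra.algebraMap_self, RingHom.id_apply, sub_self, zero_mul] at this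
    refine Eq.trans (congrArg lam (Subtype.ext ?_)) this
    change c * (j : P.carrier) - algebraMap k P.carrier (P.res c) * (j : P.carrier) = (c - algebraMap k _ (P.res c)) * j
    ring
  let incl : κ →+ E := AddMonoidHom.mk' (fun z => algebraMap k E (e.symm z) * q y) fun a b => by
    rw [map_add, map_add, add_mul]
  have hincl0 : ∀ c : k, algebraMap k E c * q y = 0 → c = 0 := fun c hc => by
    rw [← q.commutes, ← map_mul] at hc
    obtain ⟨h, e'⟩ := Ideal.Quotient.eq_zero_iff_mem.1 hc
    have h2 := hsmul (algebraMap k P.carrier c) y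
    rw [AlgHom.commutes, Algebra.algebraMap_self, RingHom.id_apply, show lam y = 1 from hl, mul_one] at h2
    rw [← h2]
    exact e'
  let X : Exal.Ext k A κ :=
    { E := E
      proj := proj
      incl := incl
      isExtension :=
        { proj_surjective := fun a => by
            obtain ⟨p, rfl⟩ := hθ a
            exact ⟨q p, rfl⟩
          incl_injective := (injective_iff_map_eq_zero incl).2 fun z hz => by
            rw [← e.apply_symm_apply z, hincl0 _ hz, map_zero]
          exact := fun x => by
            obtain ⟨p, rfl⟩ := Ideal.Quotient.mk_surjective x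
            refine ⟨fun hp => ?_, ?_⟩
            · have hpJ : p ∈ J := hp
              refine ⟨e (lam ⟨p, hpJ⟩), ?_⟩
              change algebraMap k E (e.symm (e _)) * q y = q p
              rw [AlgEquiv.symm_apply_apply, ← q.commutes, ← map_mul]
              refine Ideal.Quotient.eq.2 ⟨sub_mem (J.mul_mem_left _ y.2) hpJ, ?_⟩
              have h2 : lam (algebraMap k P.carrier (lam ⟨p, hpJ⟩) • y - ⟨p, hpJ⟩) = 0 := by
                have := hsmul (algebraMap k P.carrier (lam ⟨p, hpJ⟩)) y
                simp only [lam, Submodule.Quotient.mk_sub, map_sub] at this ⊢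
                rw [this, AlgHom.commutes, Algebra.algebraMap_self, RingHom.id_apply, hl, mul_one, sub_self]
              exact h2
            · rintro ⟨z, hz⟩
              rw [← hz]
              change proj (algebraMap k E _ * q y) = 0
              rw [map_mul, show proj (q y) = θ y from rfl, show θ (y : P.carrier) = 0 from y.2, mul_zero]
          mul_incl := fun x z => by
            obtain ⟨p, rfl⟩ := Ideal.Quotient.mk_surjective x
            change q p * (algebraMap k E (e.symm z) * q y) = algebraMap k E (e.symm (θ p • z)) * q y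
            rw [← mul_assoc, mul_comm (q p), mul_assoc, ← map_mul, hkill, ← mul_assoc, ← map_mul]
            congr 2
            rw [Algebra.smul_def, show algebraMap A κ (θ p) = residue A (θ p) from rfl, ← hresA, map_mul,
              AlgEquiv.commutes, Algebra.algebraMap_self, RingHom.id_apply,
              show resA (θ p) = P.res p from congrArg (fun f : P.carrier →ₐ[k] k => f p) hθr, mul_comm] } }
  refine ⟨X, fun hX => ?_⟩
  obtain ⟨s, hs⟩ := (hX : ∃ s : A →ₐ[k] E, ∀ b, proj (s b) = b)
  let s' : A →ₐ[k] E := s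
  let t : P.carrier →ₐ[k] E := s'.comp θ
  have hI : ∀ p, proj (t p) = proj (q p) := fun p => hs (θ p)
  have hkill' : ∀ a ∈ n, ∀ x ∈ RingHom.ker proj, q a * x = 0 := fun a ha x hx => by
    obtain ⟨j, rfl⟩ := Ideal.Quotient.mk_surjective x
    change q a * q j = 0
    rw [← map_mul, hkill a ⟨j, hx⟩, (ArtFun.CRing.mem_maximalIdeal_iff P a).1 ha, map_zero, zero_mul]
  have hkt : ∀ a ∈ n, ∀ x ∈ RingHom.ker proj, t a * x = 0 := fun a ha x hx => by
    obtain ⟨p, hp⟩ := Ideal.Quotient.mk_surjective (t a)
    have hpn : p ∈ n := by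
      have h1 : θ p = θ a := by
        have := hI a
        rw [show t a = q p from hp.symm] at this
        exact this
      have h2 := congrArg resA h1
      rw [show resA (θ p) = P.res p from congrArg (fun f : P.carrier →ₐ[k] k => f p) hθr,
        show resA (θ a) = P.res a from congrArg (fun f : P.carrier →ₐ[k] k => f a) hθr] at h2
      rw [ArtFun.CRing.mem_maximalIdeal_iff] at ha ⊢
      rw [h2, ha]
    rw [← hp]
    exact hkill' p hpn x hx
  have key := sub_mul_eq_zero n (RingHom.ker proj) t.toRingHom q.toRingHom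
    (fun a _ => RingHom.mem_ker.2 ((map_sub proj _ _).trans (sub_eq_zero.2 (hI a)))) hkt hkill' (hθJ y.2)
  have hy0 : q (y : P.carrier) = 0 := by
    rw [← show t (y : P.carrier) = q y from key]
    change s' (θ y) = 0
    rw [show θ (y : P.carrier) = 0 from y.2, map_zero]
  exact one_ne_zero (hincl0 1 (by rw [hy0, mul_zero]))

end Groth.Agent.S11291
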