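import Groth.Statements.S5817
import Groth.Agent.Exal.Basic

set_option autoImplicit false
universe u v
open EGA41

namespace Groth.Agent.S5817

/-- Commutative rings, exactness at Der_A(B, L). For ring maps A → B → C and a C-module L, the
B-extension of C by L attached to an A-derivation D : B → L (middle ring C ⊕ L, made a B-algebra
through x ↦ (x, D x)) is trivial if and only if D is the composite of B → C with an A-derivation C →
L. -/
theorem result {A : Type u} {B C L : Type v} [CommRing A] [CommRing B] [CommRing C]
    [Algebra A B] [Algebra B C] [Algebra A C] [IsScalarTower A B C]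
    [AddCommGroup L] [Module C L] [Module B L] [IsScalarTower B C L] [Module A L] [IsScalarTower A B L]
    [IsScalarTower A C L]
    (D : Derivation A B L) :
    (Exal.Ext.ofDerivation (C := C) D).IsTrivial ↔
      ∃ D' : Derivation A C L, D'.compAlgebraMap B = D := by
  constructor
  · intro h
    obtain ⟨s, hs⟩ := h
    let σ : Exal.Sec A (Exal.Ext.ofDerivation (C := C) D) :=
      ⟨s.toRingHom, hs, fun a => by
        simp [IsScalarTower.algebraMap_apply A B C]⟩
    have hσ : ∀ b, σ.der b = 0 := fun b => σ.der_apply_eq (by simp [σ])
    -- `σ` is the canonical section twisted by a derivation of `C`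
    let τ := Exal.ofDerivationSec (C := C) D
    let D' : Derivation A C L := Exal.diffDer (Exal.Ext.ofDerivation (C := C) D) σ.s τ.s
      (fun c => by simp) (fun c z => by simp) (fun a => by rw [σ.s_algebraMap, τ.s_algebraMap])
    have hD' : ∀ c, (Exal.Ext.ofDerivation (C := C) D).incl (D' c) = σ.s c - τ.s c := fun c => by
      simp [D']
    refine ⟨D', ?_⟩
    ext b
    have h1 : σ.s (algebraMap B C b) = algebraMap B _ b := by simp [σ]
    apply (Exal.Ext.ofDerivation (C := C) D).isExtension.incl_injective
    change _ = (Exal.Ext.ofDerivation (C := C) D).incl (D b)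
    rw [← Exal.ofDerivationSec_der (C := C) D b, Exal.Sec.incl_der]
    refine (hD' (algebraMap B C b)).trans ?_
    rw [h1]
  · rintro ⟨D', rfl⟩
    let τ := (Exal.ofDerivationSec (C := C) (D'.compAlgebraMap B)).twist D'
    have hτ : ∀ b, τ.der b = 0 := fun b => by
      rw [Exal.Sec.twist_der, Exal.ofDerivationSec_der]; exact sub_self _
    refine ⟨{ τ.s with commutes' := fun b => ?_ }, τ.proj_s⟩
    change τ.s (algebraMap B C b) = _
    rw [τ.algebraMap_eq b, hτ, map_zero, add_zero]

end Groth.Agent.S5817
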