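import Groth.Statements.S11292
import Groth.Agent.Exal.Basic
import Groth.Agent.S5817
import Groth.Agent.S5818

set_option autoImplicit false
universe u
open Deform

namespace Groth.Agent.S11292

/-- Let k be an algebraically closed field, Λ and R local Noetherian k-algebras with residue field k,
and Λ → R a local k-algebra homomorphism. Then the relative obstruction space vanishes — every
Λ-extension of R by its residue field k is trivial — if and only if (a) the tangent map t_R → t_Λ is
surjective: every k-derivation of Λ into k extends along Λ → R to a k-derivation of R into k, and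
(b) the obstruction map o(R) → o(Λ) given by inverse image is injective on classes: two k-extensions
of R by k whose inverse images over Λ are equivalent are equivalent (R is less obstructed than Λ).
Here k is the residue field of R, a module over R, Λ and k through the structure maps. -/
theorem result
    {k : Type u} [Field k] [IsAlgClosed k]
    {Λ : Type u} [CommRing Λ] [Algebra k Λ] [IsLocalRing Λ] [IsNoetherianRing Λ]
    (hΛ : ∀ a : Λ, ∃ c : k, a - algebraMap k Λ c ∈ IsLocalRing.maximalIdeal Λ)
    {R : Type u} [CommRing R] [Algebra Λ R] [Algebra k R] [IsScalarTower k Λ R]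
    [IsLocalRing R] [IsNoetherianRing R] [IsLocalHom (algebraMap Λ R)]
    (hR : ∀ r : R, ∃ c : k, r - algebraMap k R c ∈ IsLocalRing.maximalIdeal R) :
    (∀ X : Exal.Ext Λ R (IsLocalRing.ResidueField R), X.IsTrivial) ↔
    ((∀ D : Derivation k Λ (IsLocalRing.ResidueField R),
        ∃ D' : Derivation k R (IsLocalRing.ResidueField R), ∀ a : Λ, D' (algebraMap Λ R a) = D a) ∧
     (∀ Y Y' : Exal.Ext k R (IsLocalRing.ResidueField R),
        Nonempty ((Y.pullback Λ).Equiv (Y'.pullback Λ)) → Nonempty (Y.Equiv Y'))) := by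
  open IsLocalRing in
  classical
  refine ⟨fun h => ⟨fun D => ?_, fun Y Y' ⟨φ⟩ => ?_⟩, fun ⟨ha, hb⟩ X => ?_⟩
  · obtain ⟨D', hD'⟩ := (S5817.result (C := R) D).1 (h _)
    exact ⟨D', fun a => (congrArg (fun d : Derivation k Λ (ResidueField R) => d a) hD')⟩
  · let S : Subalgebra k (Y.E × Y'.E) :=
      AlgHom.equalizer (Y.proj.comp (AlgHom.fst k Y.E Y'.E)) (Y'.proj.comp (AlgHom.snd k Y.E Y'.E))
    have hdiag : ∀ z, (Y.incl z, Y'.incl z) ∈ S := fun z => by
      change Y.proj (Y.incl z) = Y'.proj (Y'.incl z)
      rw [Exal.proj_incl, Exal.proj_incl]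
    let I : Ideal S :=
      { carrier := {p | ∃ z, p.1 = (Y.incl z, Y'.incl z)}
        add_mem' := fun {a b} ⟨z, hz⟩ ⟨w, hw⟩ => ⟨z + w, by
          rw [Subalgebra.coe_add, hz, hw, Prod.mk_add_mk, map_add, map_add]⟩
        zero_mem' := ⟨0, by rw [map_zero, map_zero]; rfl⟩
        smul_mem' := fun c a ⟨z, hz⟩ => ⟨Y.proj c.1.1 • z, by
          rw [smul_eq_mul, Subalgebra.coe_mul, hz]
          refine Prod.ext (Y.isExtension.mul_incl _ _) ((Y'.isExtension.mul_incl _ _).trans ?_)
          rw [show Y'.proj c.1.2 = Y.proj c.1.1 from c.2.symm]⟩ }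
    let Z := S ⧸ I
    let mkI : S →ₐ[k] Z := Ideal.Quotient.mkₐ k I
    let pS : S →ₐ[k] R := (Y.proj.comp (AlgHom.fst k Y.E Y'.E)).comp S.val
    let pZ : Z →ₐ[k] R := Ideal.Quotient.liftₐ I pS fun p ⟨z, hz⟩ => by
      change Y.proj p.1.1 = 0
      rw [hz]
      exact Exal.proj_incl Y z
    -- the structure map
    let c₁ : (Y.pullback Λ).E → Y.E := fun e => e.1.1
    have hpair : ∀ e : (Y.pullback Λ).E, (e.1.1, (φ.toAlgEquiv e).1.1) ∈ S := fun e => by
      change Y.proj e.1.1 = Y'.proj (φ.toAlgEquiv e).1.1
      have h1 : Y.proj e.1.1 = algebraMap Λ R e.1.2 := e.2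
      have h2 : Y'.proj (φ.toAlgEquiv e).1.1 = algebraMap Λ R (φ.toAlgEquiv e).1.2 := (φ.toAlgEquiv e).2
      have h3 : (φ.toAlgEquiv e).1.2 = e.1.2 := φ.proj_apply e
      rw [h1, h2, h3]
    let pair : (Y.pullback Λ).E →ₐ[k] S :=
      { toFun := fun e => ⟨_, hpair e⟩
        map_one' := Subtype.ext (Prod.ext rfl (congrArg (fun t : (Y'.pullback Λ).E => t.1.1) (map_one φ.toAlgEquiv)))
        map_mul' := fun a b => Subtype.ext (Prod.ext rfl
          (congrArg (fun t : (Y'.pullback Λ).E => t.1.1) (map_mul φ.toAlgEquiv a b)))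
        map_zero' := Subtype.ext (Prod.ext rfl (congrArg (fun t : (Y'.pullback Λ).E => t.1.1) (map_zero φ.toAlgEquiv)))
        map_add' := fun a b => Subtype.ext (Prod.ext rfl
          (congrArg (fun t : (Y'.pullback Λ).E => t.1.1) (map_add φ.toAlgEquiv a b)))
        commutes' := fun c => Subtype.ext (Prod.ext rfl
          (congrArg (fun t : (Y'.pullback Λ).E => t.1.1) (AlgEquiv.commutes φ.toAlgEquiv c))) }
    let mp : (Y.pullback Λ).E →ₐ[k] Z := mkI.comp pair
    have hk : ∀ e, (Y.pullback Λ).proj e = 0 → mp e = 0 := fun e he => by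
      obtain ⟨z, rfl⟩ := ((Y.pullback Λ).isExtension.exact e).1 he
      refine (Ideal.Quotient.eq_zero_iff_mem (I := I) (a := pair ((Y.pullback Λ).incl z))).2 ⟨z, ?_⟩
      change (((Y.pullback Λ).incl z).1.1, (φ.toAlgEquiv ((Y.pullback Λ).incl z)).1.1) = _
      rw [φ.apply_incl]
      rfl
    let qe := Ideal.quotientKerAlgEquivOfSurjective (f := (Y.pullback Λ).proj) (Y.pullback Λ).isExtension.proj_surjective
    let str : Λ →ₐ[k] Z := (Ideal.Quotient.liftₐ _ mp fun e he => hk e he).comp qe.symm.toAlgHom
    have hstr : ∀ e, str ((Y.pullback Λ).proj e) = mp e := fun e => by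
      have h0 : qe.symm ((Y.pullback Λ).proj e) = Ideal.Quotient.mk _ e := qe.symm_apply_eq.2 rfl
      exact (congrArg (Ideal.Quotient.liftₐ _ mp fun e he => hk e he) h0).trans rfl
    letI : Algebra Λ Z := RingHom.toAlgebra (S := Z) (str : Λ →+* Z)
    let inc : ResidueField R →+ Z := AddMonoidHom.mk' (fun z => mkI ⟨(Y.incl z, 0), by
      change Y.proj (Y.incl z) = Y'.proj 0
      rw [Exal.proj_incl, map_zero]⟩) fun a b => by
      rw [← map_add]
      exact congrArg mkI (Subtype.ext (Prod.ext (map_add _ _ _) (add_zero 0).symm))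
    let pX : Z →ₐ[Λ] R :=
      { toRingHom := pZ.toRingHom
        commutes' := fun a => by
          obtain ⟨e, rfl⟩ := (Y.pullback Λ).isExtension.proj_surjective a
          change pZ (str ((Y.pullback Λ).proj e)) = _
          rw [hstr]
          exact e.2 }
    let X : Exal.Ext Λ R (ResidueField R) :=
      { E := Z
        proj := pX
        incl := inc
        isExtension :=
          { proj_surjective := fun r => by
              obtain ⟨y, hy⟩ := Y.isExtension.proj_surjective r
              obtain ⟨y', hy'⟩ := Y'.isExtension.proj_surjective r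
              exact ⟨mkI ⟨(y, y'), hy.trans hy'.symm⟩, hy⟩
            incl_injective := fun a b hab => by
              obtain ⟨z, hz⟩ := Ideal.Quotient.eq.1 hab
              have h1 : Y.incl a - Y.incl b = Y.incl z := congrArg Prod.fst hz
              have h2 : (0 : Y'.E) - 0 = Y'.incl z := congrArg Prod.snd hz
              rw [sub_self] at h2
              rw [Y'.isExtension.incl_injective (h2.symm.trans (map_zero _).symm), map_zero, sub_eq_zero] at h1
              exact Y.isExtension.incl_injective h1
            exact := fun x => by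
              refine ⟨fun hx => ?_, ?_⟩
              · obtain ⟨p, rfl⟩ := Ideal.Quotient.mk_surjective x
                have h1 : Y.proj p.1.1 = 0 := hx
                have h2 : Y'.proj p.1.2 = 0 := p.2.symm.trans h1
                obtain ⟨a, ha⟩ := (Y.isExtension.exact _).1 h1
                obtain ⟨b, hb⟩ := (Y'.isExtension.exact _).1 h2
                refine ⟨a - b, Ideal.Quotient.eq.2 ⟨-b, Prod.ext ?_ ?_⟩⟩
                · change Y.incl (a - b) - p.1.1 = _
                  rw [← ha, ← map_sub]
                  congr 1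
                  abel
                · change (0 : Y'.E) - p.1.2 = _
                  rw [← hb, map_neg, zero_sub]
                  exact (map_neg Y'.incl b).symm
              · rintro ⟨z, rfl⟩
                exact Exal.proj_incl Y z
            mul_incl := fun x z => by
              obtain ⟨p, rfl⟩ := Ideal.Quotient.mk_surjective x
              change mkI p * mkI _ = mkI _
              rw [← map_mul]
              exact congrArg mkI (Subtype.ext (Prod.ext (Y.isExtension.mul_incl _ _) (mul_zero _))) } }
    obtain ⟨s, hs⟩ := (h X : ∃ s : R →ₐ[Λ] X.E, ∀ r, X.proj (s r) = r)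
    have hex : ∀ y : Y.E, ∃ y' : Y'.E, ∃ hp : (y, y') ∈ S, mkI ⟨(y, y'), hp⟩ = s (Y.proj y) := fun y => by
      obtain ⟨p, hp⟩ := Ideal.Quotient.mk_surjective (I := I) (s (Y.proj y))
      have h1 : Y.proj p.1.1 = Y.proj y := by
        have := hs (Y.proj y)
        rw [← hp] at this
        exact this
      obtain ⟨z, hz⟩ := (Y.isExtension.exact (y - p.1.1)).1 (by rw [map_sub, h1, sub_self])
      refine ⟨p.1.2 + Y'.incl z, ?_, ?_⟩
      · change Y.proj y = Y'.proj (p.1.2 + Y'.incl z)
        rw [map_add, Exal.proj_incl, add_zero, show Y'.proj p.1.2 = Y.proj p.1.1 from p.2.symm, h1]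
      · rw [← hp]
        refine Ideal.Quotient.eq.2 ⟨z, Prod.ext hz.symm ?_⟩
        change p.1.2 + Y'.incl z - p.1.2 = _
        rw [add_sub_cancel_left]
    choose f hfS hf using hex
    have huniq : ∀ y y' (hp : (y, y') ∈ S), mkI ⟨(y, y'), hp⟩ = s (Y.proj y) → y' = f y := fun y y' hp e => by
      obtain ⟨z, hz⟩ := Ideal.Quotient.eq.1 (e.trans (hf y).symm)
      have h1 : y - y = Y.incl z := congrArg Prod.fst hz
      have h2 : y' - f y = Y'.incl z := congrArg Prod.snd hz
      rw [sub_self] at h1
      rw [Y.isExtension.incl_injective (h1.symm.trans (map_zero _).symm), map_zero, sub_eq_zero] at h2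
      exact h2
    have hsk : ∀ c, s (algebraMap k R c) = mkI (algebraMap k S c) := fun c => by
      rw [IsScalarTower.algebraMap_apply k Λ R, AlgHom.commutes, AlgHom.commutes]
      exact str.commutes c
    refine ⟨Exal.mkEquiv
      { toFun := f
        map_one' := (huniq 1 1 S.one_mem (by rw [map_one, map_one]; exact map_one mkI)).symm
        map_mul' := fun a b => (huniq (a * b) (f a * f b) (S.mul_mem (hfS a) (hfS b)) (by
          rw [map_mul, map_mul, ← hf a, ← hf b, ← map_mul]; rfl)).symm
        map_zero' := (huniq 0 0 S.zero_mem (by rw [map_zero, map_zero]; exact map_zero mkI)).symm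
        map_add' := fun a b => (huniq (a + b) (f a + f b) (S.add_mem (hfS a) (hfS b)) (by
          rw [map_add, map_add, ← hf a, ← hf b, ← map_add]; rfl)).symm
        commutes' := fun c => (huniq (algebraMap k Y.E c) (algebraMap k Y'.E c) (S.algebraMap_mem c) (by
          rw [AlgHom.commutes, hsk]; rfl)).symm }
      (fun y => (hfS y).symm) fun z => (huniq (Y.incl z) (Y'.incl z) (hdiag z) ?_).symm⟩
    rw [Exal.proj_incl, map_zero]
    exact Ideal.Quotient.eq_zero_iff_mem.2 ⟨z, rfl⟩
  · let Y := X.restrictBase k
    let T := Exal.Ext.trivial k R (ResidueField R)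
    have hmem : ∀ e : (T.pullback Λ).E,
        (algebraMap Λ X.E e.1.2 + X.incl (TrivSqZeroExt.snd (show TrivSqZeroExt R (ResidueField R) from e.1.1)),
          e.1.2) ∈ Y.fiberProd Λ := fun e => by
      change X.proj (_ + _) = algebraMap Λ R e.1.2
      rw [map_add, Exal.proj_incl, add_zero, AlgHom.commutes]
    letI := Exal.opModule R (ResidueField R)
    haveI := Exal.isCentralScalar_opModule R (ResidueField R)
    let g : (T.pullback Λ).E →ₐ[k] (Y.pullback Λ).E :=
      { toFun := fun e => ⟨_, hmem e⟩
        map_one' := Subtype.ext (Prod.ext (by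
          change algebraMap Λ X.E 1 + X.incl (TrivSqZeroExt.snd (1 : TrivSqZeroExt R (ResidueField R))) = 1
          rw [map_one, TrivSqZeroExt.snd_one, map_zero, add_zero]) rfl)
        map_mul' := fun a b => Subtype.ext (Prod.ext (by
          let a' : TrivSqZeroExt R (ResidueField R) := a.1.1
          let b' : TrivSqZeroExt R (ResidueField R) := b.1.1
          have ha : a'.fst = algebraMap Λ R a.1.2 := a.2
          have hb : b'.fst = algebraMap Λ R b.1.2 := b.2
          change algebraMap Λ X.E (a.1.2 * b.1.2) + X.incl (TrivSqZeroExt.snd (a' * b')) =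
            (algebraMap Λ X.E a.1.2 + X.incl (TrivSqZeroExt.snd a')) * (algebraMap Λ X.E b.1.2 + X.incl (TrivSqZeroExt.snd b'))
          rw [TrivSqZeroExt.snd_mul, ha, hb, op_smul_eq_smul, map_add, map_mul, add_mul, mul_add, mul_add,
            Exal.incl_mul_incl, X.isExtension.mul_incl, Exal.mul_incl', AlgHom.commutes, AlgHom.commutes]
          abel) rfl)
        map_zero' := Subtype.ext (Prod.ext (by
          change algebraMap Λ X.E 0 + X.incl (TrivSqZeroExt.snd (0 : TrivSqZeroExt R (ResidueField R))) = 0
          rw [map_zero, TrivSqZeroExt.snd_zero, map_zero, add_zero]) rfl)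
        map_add' := fun a b => Subtype.ext (Prod.ext (by
          let a' : TrivSqZeroExt R (ResidueField R) := a.1.1
          let b' : TrivSqZeroExt R (ResidueField R) := b.1.1
          change algebraMap Λ X.E (a.1.2 + b.1.2) + X.incl (TrivSqZeroExt.snd (a' + b')) =
            (algebraMap Λ X.E a.1.2 + X.incl (TrivSqZeroExt.snd a')) + (algebraMap Λ X.E b.1.2 + X.incl (TrivSqZeroExt.snd b'))
          rw [TrivSqZeroExt.snd_add, map_add, map_add]
          abel) rfl)
        commutes' := fun c => Subtype.ext (Prod.ext (by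
          change algebraMap Λ X.E (algebraMap k Λ c) + X.incl (TrivSqZeroExt.snd
            (TrivSqZeroExt.inl (algebraMap k R c) : TrivSqZeroExt R (ResidueField R))) = algebraMap Λ X.E (algebraMap k Λ c)
          rw [TrivSqZeroExt.snd_inl, map_zero, add_zero]) rfl) }
    obtain ⟨e⟩ := hb T Y ⟨Exal.mkEquiv g (fun _ => rfl) fun z => Subtype.ext (Prod.ext (by
      change algebraMap Λ X.E 0 + X.incl (TrivSqZeroExt.snd (TrivSqZeroExt.inr z : TrivSqZeroExt R (ResidueField R))) = X.incl z
      rw [map_zero, zero_add, TrivSqZeroExt.snd_inr]) rfl)⟩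
    have hXk : X.IsTrivialOver k := by
      let sT : R →ₐ[k] T.E :=
        { toFun := fun r => (TrivSqZeroExt.inl r : TrivSqZeroExt R (ResidueField R))
          map_one' := TrivSqZeroExt.inl_one _
          map_mul' := TrivSqZeroExt.inl_mul _
          map_zero' := TrivSqZeroExt.inl_zero _
          map_add' := TrivSqZeroExt.inl_add _
          commutes' := fun c => rfl }
      exact ⟨e.toAlgEquiv.toAlgHom.comp sT, fun r => e.proj_apply _⟩
    obtain ⟨D, ⟨eq⟩⟩ := (S5818.result X).1 hXk
    obtain ⟨D', hD'⟩ := ha D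
    obtain ⟨s, hs⟩ := (S5817.result (C := R) D).2 ⟨D', Derivation.ext hD'⟩
    exact ⟨eq.symm.toAlgEquiv.toAlgHom.comp s, fun r => (eq.symm.proj_apply _).trans (hs r)⟩

end Groth.Agent.S11292
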