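import Groth.Statements.S11294
-- import your own Groth.Agent.* helpers here

set_option autoImplicit false
universe u
open Deform

namespace Groth.Agent.S11294

open TrivSqZeroExt in
/-- Let P be a commutative ring, J an ideal, and P[ε] the ring of dual numbers over P. First-order
embedded deformations of Spec(P/J) in Spec P, namely ideals J' of P[ε] lifting J (the image of J'
under ε ↦ 0 is J) with P[ε]/J' flat over the dual numbers — flatness being replaced by the condition
that every element of P[ε]/J' annihilated by ε is a multiple of ε (equivalent to flatness over k[ε]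
when P is an algebra over a field k) — are in canonical bijection with Hom_P(J, P/J) =
Hom_{P/J}(J/J^2, P/J), the normal module: to φ corresponds the ideal of all a + εb with a in J and b
reducing to φ(a) modulo J. The first clause says this rule defines exactly one ideal for each φ; the
second says an ideal J' is a flat lift of J precisely when its membership is given by this rule for
some φ. (The published statement is the global one, identifying first-order deformations of a closed
subscheme X of an algebraic scheme Y with H^0(X, N_{X/Y}); this row is the affine computation in its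
proof, valid for every commutative ring P.) -/
theorem result (P : Type u) [CommRing P] (J : Ideal P) :
    (∀ φ : J →ₗ[P] (P ⧸ J), ∃! J' : Ideal (DualNumber P),
        ∀ a b : P, (inl a + inr b : DualNumber P) ∈ J' ↔ ∃ h : a ∈ J, Ideal.Quotient.mk J b = φ ⟨a, h⟩) ∧
    (∀ J' : Ideal (DualNumber P),
      (J'.map (TrivSqZeroExt.fstHom P P P) = J ∧
        ∀ m : DualNumber P ⧸ J', Ideal.Quotient.mk J' DualNumber.eps * m = 0 →
          ∃ m' : DualNumber P ⧸ J', m = Ideal.Quotient.mk J' DualNumber.eps * m') ↔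
      ∃ φ : J →ₗ[P] (P ⧸ J), ∀ a b : P,
        (inl a + inr b : DualNumber P) ∈ J' ↔ ∃ h : a ∈ J, Ideal.Quotient.mk J b = φ ⟨a, h⟩) := by
  have hsplit : ∀ x : DualNumber P, x = inl (TrivSqZeroExt.fst x) + inr (TrivSqZeroExt.snd x) :=
    fun x => (TrivSqZeroExt.inl_fst_add_inr_snd_eq x).symm
  have hmk : ∀ (K : Ideal P) (a b : P), Ideal.Quotient.mk K (a * b) = a • Ideal.Quotient.mk K b := fun K a b => rfl
  have heps : ∀ x : DualNumber P, DualNumber.eps * x = inr (TrivSqZeroExt.fst x) := fun x =>
    TrivSqZeroExt.ext (by simp) (by simp [DualNumber.snd_mul])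
  refine ⟨fun φ => ?_, fun J' => ⟨fun ⟨hmap, hflat⟩ => ?_, fun ⟨φ, hφ⟩ => ?_⟩⟩
  · let J' : Ideal (DualNumber P) :=
      { carrier := {x | ∃ h : TrivSqZeroExt.fst x ∈ J, Ideal.Quotient.mk J (TrivSqZeroExt.snd x) = φ ⟨_, h⟩}
        add_mem' := fun {x y} ⟨hx, ex⟩ ⟨hy, ey⟩ => ⟨by rw [TrivSqZeroExt.fst_add]; exact add_mem hx hy, by
          rw [TrivSqZeroExt.snd_add, map_add, ex, ey, ← map_add]
          exact congrArg φ (Subtype.ext (TrivSqZeroExt.fst_add x y).symm)⟩
        zero_mem' := ⟨by simp, by
          rw [TrivSqZeroExt.snd_zero, map_zero, ← map_zero φ]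
          exact congrArg φ (Subtype.ext (TrivSqZeroExt.fst_zero : TrivSqZeroExt.fst (0 : DualNumber P) = 0).symm)⟩
        smul_mem' := fun c x ⟨hx, ex⟩ => ⟨by
          rw [smul_eq_mul, TrivSqZeroExt.fst_mul]; exact J.mul_mem_left _ hx, by
          change Ideal.Quotient.mk J (TrivSqZeroExt.snd (c * x)) = _
          rw [DualNumber.snd_mul, map_add, hmk, ex,
            Ideal.Quotient.eq_zero_iff_mem.2 (J.mul_mem_left (TrivSqZeroExt.snd c) hx), add_zero, ← map_smul]
          exact congrArg φ (Subtype.ext (TrivSqZeroExt.fst_mul c x).symm)⟩ }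
    have hmem : ∀ a b : P, (inl a + inr b : DualNumber P) ∈ J' ↔
        ∃ h : a ∈ J, Ideal.Quotient.mk J b = φ ⟨a, h⟩ := fun a b => by
      change (∃ h : TrivSqZeroExt.fst (inl a + inr b : DualNumber P) ∈ J, _) ↔ _
      simp
    refine ⟨J', hmem, fun K hK => Ideal.ext fun x => ?_⟩
    rw [hsplit x]
    exact (hK _ _).trans (hmem _ _).symm
  · have hJ : ∀ a ∈ J, ∃ b : P, (inl a + inr b : DualNumber P) ∈ J' := fun a ha => by
      rw [← hmap] at ha
      obtain ⟨x, hx, rfl⟩ := (Ideal.mem_map_iff_of_surjective _ (fun a => ⟨inl a, rfl⟩)).1 ha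
      exact ⟨TrivSqZeroExt.snd x, by rw [show TrivSqZeroExt.fstHom P P P x = TrivSqZeroExt.fst x from rfl, ← hsplit x]; exact hx⟩
    have hfst : ∀ x ∈ J', TrivSqZeroExt.fst x ∈ J := fun x hx =>
      hmap.le (Ideal.mem_map_of_mem (TrivSqZeroExt.fstHom P P P) hx)
    have h0 : ∀ b : P, (inr b : DualNumber P) ∈ J' ↔ b ∈ J := fun b => by
      refine ⟨fun hb => ?_, fun hb => ?_⟩
      · obtain ⟨m', hm'⟩ := hflat (Ideal.Quotient.mk J' (inl b)) (by
          rw [← map_mul, Ideal.Quotient.eq_zero_iff_mem, heps, TrivSqZeroExt.fst_inl]; exact hb)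
        obtain ⟨x, rfl⟩ := Ideal.Quotient.mk_surjective m'
        rw [← map_mul, Ideal.Quotient.eq] at hm'
        have := hfst _ hm'
        rwa [TrivSqZeroExt.fst_sub, heps, TrivSqZeroExt.fst_inl, TrivSqZeroExt.fst_inr, sub_zero] at this
      · obtain ⟨c, hc⟩ := hJ b hb
        have := J'.mul_mem_left DualNumber.eps hc
        rwa [heps, TrivSqZeroExt.fst_add, TrivSqZeroExt.fst_inl, TrivSqZeroExt.fst_inr, add_zero] at this
    have huniq : ∀ a b c : P, (inl a + inr b : DualNumber P) ∈ J' → (inl a + inr c : DualNumber P) ∈ J' →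
        Ideal.Quotient.mk J b = Ideal.Quotient.mk J c := fun a b c hb hc => by
      rw [Ideal.Quotient.eq, ← h0, TrivSqZeroExt.inr_sub]
      rw [show (inr b - inr c : DualNumber P) = (inl a + inr b) - (inl a + inr c) by ring]
      exact sub_mem hb hc
    choose f hf using fun a : J => hJ a.1 a.2
    let φ : J →ₗ[P] (P ⧸ J) :=
      { toFun := fun a => Ideal.Quotient.mk J (f a)
        map_add' := fun a b => by
          rw [← map_add]
          refine huniq _ _ _ (hf (a + b)) ?_
          have := add_mem (hf a) (hf b)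
          rwa [show (inl (a : P) + inr (f a) : DualNumber P) + (inl (b : P) + inr (f b)) =
            inl ((a + b : J) : P) + inr (f a + f b) by
              rw [Submodule.coe_add, TrivSqZeroExt.inl_add, TrivSqZeroExt.inr_add]; abel] at this
        map_smul' := fun c a => by
          rw [RingHom.id_apply, ← hmk]
          refine huniq _ _ _ (hf (c • a)) ?_
          have := J'.mul_mem_left (inl c) (hf a)
          rwa [show (inl c : DualNumber P) * (inl (a : P) + inr (f a)) = inl ((c • a : J) : P) + inr (c * f a) from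
            TrivSqZeroExt.ext (by simp) (by simp)] at this }
    refine ⟨φ, fun a b => ⟨fun h => ?_, fun ⟨ha, hb⟩ => ?_⟩⟩
    · have ha : a ∈ J := by simpa using hfst _ h
      exact ⟨ha, huniq a b _ h (hf ⟨a, ha⟩)⟩
    · have h1 : (inr (b - f ⟨a, ha⟩) : DualNumber P) ∈ J' := (h0 _).2 (Ideal.Quotient.eq.1 hb)
      have h2 := add_mem (hf ⟨a, ha⟩) h1
      rwa [add_assoc, ← TrivSqZeroExt.inr_add, add_sub_cancel] at h2
  · have hmem : ∀ x : DualNumber P, x ∈ J' ↔ ∃ h : TrivSqZeroExt.fst x ∈ J,
        Ideal.Quotient.mk J (TrivSqZeroExt.snd x) = φ ⟨_, h⟩ := fun x => by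
      conv_lhs => rw [hsplit x]
      exact hφ _ _
    have hex : ∀ a (ha : a ∈ J), ∃ b, (inl a + inr b : DualNumber P) ∈ J' := fun a ha => by
      obtain ⟨b, hb⟩ := Ideal.Quotient.mk_surjective (φ ⟨a, ha⟩)
      exact ⟨b, (hφ a b).2 ⟨ha, hb⟩⟩
    refine ⟨le_antisymm (Ideal.map_le_iff_le_comap.2 fun x hx => ((hmem x).1 hx).1) fun a ha => ?_, fun m hm => ?_⟩
    · obtain ⟨b, hb⟩ := hex a ha
      have := Ideal.mem_map_of_mem (TrivSqZeroExt.fstHom P P P) hb
      rwa [show TrivSqZeroExt.fstHom P P P (inl a + inr b : DualNumber P) = a by simp] at this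
    · obtain ⟨x, rfl⟩ := Ideal.Quotient.mk_surjective m
      rw [← map_mul, Ideal.Quotient.eq_zero_iff_mem, heps] at hm
      have h0 : TrivSqZeroExt.fst x ∈ J := by
        rw [← TrivSqZeroExt.inl_fst_add_inr_snd_eq (inr (TrivSqZeroExt.fst x) : DualNumber P)] at hm
        obtain ⟨h, e⟩ := (hφ _ _).1 hm
        rw [← Ideal.Quotient.eq_zero_iff_mem, ← map_zero φ]
        refine (show Ideal.Quotient.mk J (TrivSqZeroExt.fst x) = _ from e).trans (congrArg φ (Subtype.ext ?_))
        simp
      obtain ⟨b, hb⟩ := hex _ h0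
      refine ⟨Ideal.Quotient.mk J' (inl (TrivSqZeroExt.snd x - b)), ?_⟩
      rw [← map_mul, Ideal.Quotient.eq, heps, TrivSqZeroExt.fst_inl]
      rw [show x - inr (TrivSqZeroExt.snd x - b) = inl (TrivSqZeroExt.fst x) + inr b from
        TrivSqZeroExt.ext (by simp) (by simp)]
      exact hb

end Groth.Agent.S11294
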