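import Groth.Statements.S11296
import Groth.Agent.ProjTwist.Pn.Extension
import Groth.Agent.CohDev.Coh

set_option autoImplicit false
universe u
open CategoryTheory CategoryTheory.Limits AlgebraicGeometry
open Variety

namespace Groth.Agent.S11296

/-- Let k be an algebraically closed field, F a coherent module on P^n_k, and 0 → F(-1) → F → G → 0 an
exact sequence, G being the cokernel of a monomorphism ι : F ⊗ O(-1) → F; write F(j) = F ⊗ O(j) and
h^1 for dim_k H^1. If G is m-regular then: (i) H^i(P^n, F(j)) = 0 for all i ≥ 2 and j ≥ m - i; (ii)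
h^1(F(j)) ≤ h^1(F(j-1)) for all j ≥ m - 1; (iii) H^1(P^n, F(j)) = 0 for all j ≥ m - 1 + h^1(F(m-1));
in particular F is (m + h^1(F(m-1)))-regular. -/
theorem result (k : Type u) [Field k] [IsAlgClosed k] (n : ℕ)
    (F : (CohB1.ProjSpace n k).Modules) (hF : Coh.IsCoh F)
    (ι : CohB1.tensorMod F (Twist.twistProjSpace n k (-1)) ⟶ F) [Mono ι] (m : ℤ)
    (hG : Curv2.IsMRegular k n (cokernel ι) m) :
    (∀ (i : ℕ) (j : ℤ), 2 ≤ i → m - i ≤ j →
        Subsingleton (Coh.HH (CohB1.ProjSpace n k) (CohB1.tensorMod F (Twist.twistProjSpace n k j)) i)) ∧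
    (∀ j : ℤ, m - 1 ≤ j →
        Module.finrank k (Coh.HH (CohB1.ProjSpace n k) (CohB1.tensorMod F (Twist.twistProjSpace n k j)) 1) ≤
          Module.finrank k (Coh.HH (CohB1.ProjSpace n k) (CohB1.tensorMod F (Twist.twistProjSpace n k (j - 1))) 1)) ∧
    (∀ j : ℤ, m - 1 + (Module.finrank k (Coh.HH (CohB1.ProjSpace n k)
          (CohB1.tensorMod F (Twist.twistProjSpace n k (m - 1))) 1) : ℤ) ≤ j →
        Subsingleton (Coh.HH (CohB1.ProjSpace n k) (CohB1.tensorMod F (Twist.twistProjSpace n k j)) 1)) ∧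
    Curv2.IsMRegular k n F (m + Module.finrank k (Coh.HH (CohB1.ProjSpace n k)
        (CohB1.tensorMod F (Twist.twistProjSpace n k (m - 1))) 1)) := by
  have hS : (ShortComplex.mk ι (cokernel.π ι) (cokernel.condition ι)).ShortExact :=
    ShortComplex.ShortExact.mk' (ShortComplex.exact_cokernel ι) ‹Mono ι› (inferInstanceAs (Epi (cokernel.π ι)))
  have hG' : Coh.IsQCoh (cokernel ι) := (Groth.Agent.CohDev.isCoh_cokernel ι
    (Groth.Agent.ProjTwist.Pn.isCoh_tw hF (-1)).1 hF).1
  refine ⟨fun i j hi hj => Groth.Agent.ProjTwist.Pn.extension_subsingleton ι _ _ hS hF hG' hG i hi j hj,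
    fun j hj => Groth.Agent.ProjTwist.Pn.h1Tw_le ι _ _ hS hF hG' hG j hj,
    fun j hj => Groth.Agent.ProjTwist.Pn.extension_subsingleton_one ι _ _ hS hF hG' hG j hj,
    fun i hi _ => ?_⟩
  rcases Nat.lt_or_ge i 2 with h1 | h2
  · obtain rfl : i = 1 := by omega
    exact Groth.Agent.ProjTwist.Pn.extension_subsingleton_one ι _ _ hS hF hG' hG _
      (le_of_eq (by simp only [Groth.Agent.ProjTwist.Pn.h1Tw]; push_cast; ring))
  · exact Groth.Agent.ProjTwist.Pn.extension_subsingleton ι _ _ hS hF hG' hG i h2 _ (by omega)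

end Groth.Agent.S11296
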