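import Groth.Statements.S11298
import Groth.Agent.Depth.Basic

set_option autoImplicit false
universe u v
open LocCoh

namespace Groth.Agent.S11298

open scoped Pointwise

/-- Let X = Spec B be an affine Noetherian scheme, Z = V(I) a closed subscheme and G a coherent sheaf,
i.e. a finitely generated B-module M, with dual G^v = Hom_B(M, B). If depth_Z(O_X) ≥ 2 then
depth_Z(G^v) ≥ 2. Here the depth along I of a module N is the supremum of the lengths of N-regular
sequences contained in I (and is infinite when I N = N). (The published statement adds that sections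
of the dual over X and over X minus Z agree; this row omits that clause.) -/
theorem result (B : Type u) [CommRing B] [IsNoetherianRing B]
    (I : Ideal B) (M : Type v) [AddCommGroup M] [Module B M] [Module.Finite B M]
    (h : 2 ≤ LocCoh.idealDepth I B) : 2 ≤ LocCoh.idealDepth I (M →ₗ[B] B) := by
  classical
  by_cases hIB : I • (⊤ : Submodule B B) = ⊤
  · have hI : I = ⊤ := by simpa [smul_eq_mul] using hIB
    rw [Depth.idealDepth_eq_top_of_smul_top_eq_top (by rw [hI]; exact Submodule.top_smul _)]
    exact le_top
  obtain ⟨rs, hreg, hmem, hlen⟩ := Depth.exists_isWeaklyRegular_of_le_idealDepth hIB (n := 2) (by exact_mod_cast h)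
  match rs, hlen with
  | [x, y], _ =>
    refine Depth.le_idealDepth_of_isWeaklyRegular (rs := [x, y]) ?_ hmem
    simp only [RingTheory.Sequence.isWeaklyRegular_cons_iff] at hreg ⊢
    obtain ⟨hx, hy, -⟩ := hreg
    refine ⟨?_, ?_, by simp⟩
    · intro a b hab
      ext m
      exact hx (LinearMap.congr_fun hab m)
    · intro a b hab
      obtain ⟨φ, rfl⟩ := Submodule.mkQ_surjective _ a
      obtain ⟨ψ, rfl⟩ := Submodule.mkQ_surjective _ b
      have h' : y • φ - y • ψ ∈ x • (⊤ : Submodule B (M →ₗ[B] B)) := (Submodule.Quotient.eq _).mp hab
      obtain ⟨χ, -, hχ⟩ := (Submodule.mem_smul_pointwise_iff_exists _ _ _).mp h'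
      have key : ∀ m : M, ∃ g : B, x • g = φ m - ψ m := by
        intro m
        have hm : Submodule.Quotient.mk (p := x • (⊤ : Submodule B B)) (φ m)
            = Submodule.Quotient.mk (ψ m) := by
          apply hy
          show y • _ = y • _
          rw [← Submodule.Quotient.mk_smul, ← Submodule.Quotient.mk_smul, Submodule.Quotient.eq]
          exact (Submodule.mem_smul_pointwise_iff_exists _ _ _).mpr
            ⟨χ m, trivial, by simpa using LinearMap.congr_fun hχ m⟩
        obtain ⟨g, -, hg⟩ :=
          (Submodule.mem_smul_pointwise_iff_exists _ _ _).mp ((Submodule.Quotient.eq _).mp hm)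
        exact ⟨g, hg⟩
      choose g hg using key
      refine (Submodule.Quotient.eq _).mpr ((Submodule.mem_smul_pointwise_iff_exists _ _ _).mpr ?_)
      refine ⟨{ toFun := g, map_add' := fun a b => hx ?_, map_smul' := fun c a => hx ?_ }, trivial, ?_⟩
      · show x • g (a + b) = x • (g a + g b)
        rw [hg, smul_add, hg, hg, map_add, map_add]; abel
      · show x • g (c • a) = x • (RingHom.id B c • g a)
        rw [hg, RingHom.id_apply, smul_comm, hg, map_smul, map_smul, smul_sub]
      · ext m
        exact hg m

end Groth.Agent.S11298
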