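import Groth.Statements.S11299
import Mathlib.Algebra.Module.Projective
import Mathlib.LinearAlgebra.FreeModule.Basic
-- import your own Groth.Agent.* helpers here

set_option autoImplicit false
universe u
open CAlg

namespace Groth.Agent.S11299

variable {P : Type u} [CommRing P] {J : Ideal P}

/-- The trivial relations. -/
abbrev triv {F : Type u} [AddCommGroup F] [Module P F] (j : F →ₗ[P] P) : Submodule P F :=
  Submodule.span P {y : F | ∃ u v : F, y = j u • v - j v • u}

/-- The module `T^2` of a presentation. -/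
abbrev T2 (J : Ideal P) {F : Type u} [AddCommGroup F] [Module P F] (j : F →ₗ[P] P) :=
  Submodule.map
    (LinearMap.range (LinearMap.lcomp P (P ⧸ J) (LinearMap.ker j).subtype)).mkQ
    (LinearMap.ker (LinearMap.lcomp P (P ⧸ J)
      (Submodule.comap (LinearMap.ker j).subtype (triv j)).subtype))

theorem exists_map {F F' : Type u} [AddCommGroup F] [Module P F] [Module.Free P F]
    [AddCommGroup F'] [Module P F'] (j : F →ₗ[P] P) (j' : F' →ₗ[P] P)
    (h : LinearMap.range j ≤ LinearMap.range j') : ∃ a : F →ₗ[P] F', j' ∘ₗ a = j := by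
  obtain ⟨a, ha⟩ := Module.projective_lifting_property j'.rangeRestrict
    (j.codRestrict (LinearMap.range j') fun x => h ⟨x, rfl⟩) (LinearMap.surjective_rangeRestrict j')
  exact ⟨a, LinearMap.ext fun x => congrArg Subtype.val (LinearMap.congr_fun ha x)⟩

theorem mapsTo_ker {F F' : Type u} [AddCommGroup F] [Module P F]
    [AddCommGroup F'] [Module P F'] {j : F →ₗ[P] P} {j' : F' →ₗ[P] P} {a : F →ₗ[P] F'}
    (ha : j' ∘ₗ a = j) : ∀ x ∈ LinearMap.ker j, a x ∈ LinearMap.ker j' := fun x hx => by
  rw [LinearMap.mem_ker, ← LinearMap.comp_apply, ha]; exact hx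

/-- The map on `Hom(R', P/J)` modulo restrictions. -/
noncomputable def pull {F F' : Type u} [AddCommGroup F] [Module P F]
    [AddCommGroup F'] [Module P F'] {j : F →ₗ[P] P} {j' : F' →ₗ[P] P} {a : F →ₗ[P] F'}
    (ha : j' ∘ₗ a = j) :
    ((LinearMap.ker j' →ₗ[P] P ⧸ J) ⧸ LinearMap.range (LinearMap.lcomp P (P ⧸ J) (LinearMap.ker j').subtype)) →ₗ[P]
    ((LinearMap.ker j →ₗ[P] P ⧸ J) ⧸ LinearMap.range (LinearMap.lcomp P (P ⧸ J) (LinearMap.ker j).subtype)) :=
  Submodule.mapQ _ _ (LinearMap.lcomp P (P ⧸ J) (a.restrict (mapsTo_ker ha))) <| by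
    rintro _ ⟨ψ, rfl⟩
    exact ⟨ψ ∘ₗ a, LinearMap.ext fun x => rfl⟩

theorem pull_mem {F F' : Type u} [AddCommGroup F] [Module P F]
    [AddCommGroup F'] [Module P F'] {j : F →ₗ[P] P} {j' : F' →ₗ[P] P} {a : F →ₗ[P] F'}
    (ha : j' ∘ₗ a = j) : ∀ x ∈ T2 J j', pull ha x ∈ T2 J j := by
  rintro _ ⟨φ, hφ, rfl⟩
  refine ⟨φ ∘ₗ a.restrict (mapsTo_ker ha), ?_, rfl⟩
  ext ⟨⟨x, hx⟩, hxt⟩
  have : a x ∈ triv j' := by
    refine (show triv j ≤ Submodule.comap a (triv j') from Submodule.span_le.mpr ?_) hxt
    rintro _ ⟨u, v, rfl⟩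
    refine Submodule.subset_span ⟨a u, a v, ?_⟩
    simp [← ha]
  exact LinearMap.congr_fun hφ ⟨⟨a x, mapsTo_ker ha x hx⟩, this⟩

theorem pull_pull {F F' : Type u} [AddCommGroup F] [Module P F]
    [AddCommGroup F'] [Module P F'] {j : F →ₗ[P] P} {j' : F' →ₗ[P] P} {a : F →ₗ[P] F'}
    {b : F' →ₗ[P] F} (ha : j' ∘ₗ a = j) (hb : j ∘ₗ b = j') :
    ∀ x ∈ T2 J j, pull ha (pull hb x) = x := by
  rintro _ ⟨φ, -, rfl⟩
  refine (Submodule.Quotient.eq _).mpr ?_
  let d : F →ₗ[P] LinearMap.ker j := LinearMap.codRestrict _ (b ∘ₗ a - LinearMap.id) fun x => by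
    rw [LinearMap.mem_ker, LinearMap.sub_apply, map_sub, ← LinearMap.comp_apply j, ← LinearMap.comp_assoc, hb, ha,
      LinearMap.id_apply, sub_self]
  refine ⟨φ ∘ₗ d, LinearMap.ext fun x => ?_⟩
  show φ (d x) = φ ⟨b (a x), _⟩ - φ x
  rw [← map_sub]
  congr 1


/-- The second cotangent module does not depend on the presentation: let P be a commutative ring, J an
ideal and B = P/J. For a presentation of J, i.e. a finitely generated free P-module F with a
P-linear map j : F → P with image J, let R = ker j be the relation module and R^tr ⊆ R the span of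
the trivial relations j(u) • v - j(v) • u; the module T^2 of the presentation is the quotient of
Hom_B(R/R^tr, B), realised as the P-linear maps R → P/J vanishing on R^tr, by the restrictions to R
of the P-linear maps F → P/J (here: the image of that submodule in the quotient of Hom_P(R, P/J) by
the restrictions). Then for two presentations (F, j) and (F', j') of the same ideal J the two
modules T^2 are isomorphic as P-modules (existence of an isomorphism; the comparison maps depend on
expressing one system of generators through the other). (The published statement takes B essentially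
of finite type over a field and P smooth; this row allows any commutative ring P and ideal J.) -/
theorem result (P : Type u) [CommRing P] (J : Ideal P)
    (F : Type u) [AddCommGroup F] [Module P F] [Module.Free P F] [Module.Finite P F]
    (F' : Type u) [AddCommGroup F'] [Module P F'] [Module.Free P F'] [Module.Finite P F']
    (j : F →ₗ[P] P) (j' : F' →ₗ[P] P) (hj : LinearMap.range j = J) (hj' : LinearMap.range j' = J) :
    Nonempty (↥(Submodule.map
          (LinearMap.range (LinearMap.lcomp P (P ⧸ J) (LinearMap.ker j).subtype)).mkQ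
          (LinearMap.ker (LinearMap.lcomp P (P ⧸ J)
            (Submodule.comap (LinearMap.ker j).subtype
              (Submodule.span P {y : F | ∃ u v : F, y = j u • v - j v • u})).subtype))) ≃ₗ[P]
      ↥(Submodule.map
          (LinearMap.range (LinearMap.lcomp P (P ⧸ J) (LinearMap.ker j').subtype)).mkQ
          (LinearMap.ker (LinearMap.lcomp P (P ⧸ J)
            (Submodule.comap (LinearMap.ker j').subtype
              (Submodule.span P {y : F' | ∃ u v : F', y = j' u • v - j' v • u})).subtype)))) := by
  obtain ⟨a, ha⟩ := exists_map j j' (by rw [hj, hj'])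
  obtain ⟨b, hb⟩ := exists_map j' j (by rw [hj, hj'])
  exact ⟨LinearEquiv.ofLinearMap ((pull hb).restrict (pull_mem hb)) ((pull ha).restrict (pull_mem ha))
    (LinearMap.ext fun x => Subtype.ext (pull_pull hb ha x.1 x.2))
    (LinearMap.ext fun x => Subtype.ext (pull_pull ha hb x.1 x.2))⟩

end Groth.Agent.S11299
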