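import Groth.Statements.S11301
import Groth.Agent.ProjTwist.Pn.Linear

set_option autoImplicit false
universe u
open CategoryTheory CategoryTheory.Limits AlgebraicGeometry
open Variety

namespace Groth.Agent.S11301

/-- m-regularity via linear resolutions: in one-step form: let k be an algebraically closed field and F
a coherent module on P^n_k. Then F is m-regular if and only if there are b ≥ 0 and an epimorphism
O(-m)^b → F (from the direct sum of b copies of O(-m)) whose kernel is (m+1)-regular. (The published
statement is the equivalent characterisation by a resolution ... → O(-m-2)^{b_2} → O(-m-1)^{b_1} →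
O(-m)^{b_0} → F → 0; it follows from this one-step form by induction, and conversely.) -/
theorem result (k : Type u) [Field k] [IsAlgClosed k] (n : ℕ)
    (F : (CohB1.ProjSpace n k).Modules) (hF : Coh.IsCoh F) (m : ℤ) :
    Curv2.IsMRegular k n F m ↔
      ∃ (b : ℕ) (φ : (∐ fun _ : Fin b => Twist.twistProjSpace n k (-m)) ⟶ F),
        Epi φ ∧ Curv2.IsMRegular k n (kernel φ) (m + 1) := by
  refine ⟨fun h => Groth.Agent.ProjTwist.Pn.exists_epi_of_isMRegular hF h, ?_⟩
  rintro ⟨b, φ, hφ, hK⟩
  refine Groth.Agent.ProjTwist.Pn.isMRegular_of_epi b φ ?_ hK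
  haveI := Groth.Agent.ProjTwist.Pn.isLocallyNoetherian_projSpace n k
  have hsum' : (∐ fun _ : ULift.{u} (Fin b) => Twist.twistProjSpace n k (-m)).IsQuasicoherent :=
    (Groth.Agent.ProjTwist.Pn.isCoh_sigma _ fun _ => Groth.Agent.ProjTwist.Pn.isCoh_twistProjSpace n k (-m)).1
  have hsum : Coh.IsQCoh (∐ fun _ : Fin b => Twist.twistProjSpace n k (-m)) := by
    refine @Groth.Agent.QCoh.isQuasicoherent_of_iso _ (∐ fun _ : ULift.{u} (Fin b) => Twist.twistProjSpace n k (-m)) _ ?_ hsum'
    exact (Sigma.reindex (Equiv.ulift.{u}) fun _ : Fin b => Twist.twistProjSpace n k (-m))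
  exact @Groth.Agent.QCoh.isQuasicoherent_kernel _ _ _ φ hsum hF.1

end Groth.Agent.S11301
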