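import Groth.Statements.S11302
import Groth.Agent.CotTLib.Koszul

set_option autoImplicit false
universe u
open Deform

namespace Groth.Agent.S11302

open MvPolynomial Groth.Agent.CotTLib

variable {S : Type u} [CommRing S]

/-- Trivial relations have coefficients in the ideal of the family. -/
lemma koszul_coeff_mem {n : ℕ} (f : Fin n → S) {c : Fin n →₀ S} (hc : c ∈ koszul f) (i : Fin n) :
    c i ∈ Ideal.span (Set.range f) := by
  induction hc using Submodule.span_induction with
  | mem x hx =>
    obtain ⟨a, b, rfl⟩ := hx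
    have h : ∀ e : Fin n →₀ S, jf f e ∈ Ideal.span (Set.range f) := fun e =>
      Finsupp.mem_span_range_iff_exists_finsupp.2 ⟨e, rfl⟩
    simp only [Finsupp.sub_apply, Finsupp.smul_apply, smul_eq_mul]
    exact sub_mem (Ideal.mul_mem_right _ _ (h a)) (Ideal.mul_mem_right _ _ (h b))
  | zero => simp
  | add x y _ _ hx hy => exact add_mem hx hy
  | smul r x _ hx => exact Ideal.mul_mem_left _ _ hx

/-- `Hom(J, S/J) = (S/J)^n` for a regular sequence. -/
theorem exists_evalEquiv {n : ℕ} (f : Fin n → S)
    (hreg : RingTheory.Sequence.IsWeaklyRegular S (List.ofFn f)) :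
    ∃ e : (↥(Ideal.span (Set.range f)) →ₗ[S] S ⧸ Ideal.span (Set.range f)) ≃ₗ[S]
        (Fin n → S ⧸ Ideal.span (Set.range f)),
      ∀ φ i, e φ i = φ ⟨f i, Ideal.subset_span (Set.mem_range_self i)⟩ := by
  classical
  let J := Ideal.span (Set.range f)
  let g : (↥J →ₗ[S] S ⧸ J) →ₗ[S] (Fin n → S ⧸ J) :=
    LinearMap.pi fun i => LinearMap.applyₗ (⟨f i, Ideal.subset_span (Set.mem_range_self i)⟩ : ↥J)
  have hg : ∀ φ i, g φ i = φ ⟨f i, Ideal.subset_span (Set.mem_range_self i)⟩ := fun _ _ => rfl
  let q : (Fin n →₀ S) →ₗ[S] ↥J :=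
    Finsupp.linearCombination S fun i => (⟨f i, Ideal.subset_span (Set.mem_range_self i)⟩ : ↥J)
  have hq : ∀ c, ((q c : ↥J) : S) = jf f c := fun c => by
    induction c using Finsupp.induction_linear with
    | zero => simp
    | add a b ha hb => rw [map_add, map_add, Submodule.coe_add, ha, hb]
    | single i r => simp [q]
  have hqs : Function.Surjective q := fun x => by
    obtain ⟨c, hc⟩ := Finsupp.mem_span_range_iff_exists_finsupp.1 x.2
    exact ⟨c, Subtype.ext ((hq c).trans hc)⟩
  refine ⟨LinearEquiv.ofBijective g ⟨fun φ ψ h => ?_, fun b => ?_⟩, hg⟩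
  · refine LinearMap.ext fun x => ?_
    obtain ⟨c, rfl⟩ := hqs x
    have : φ ∘ₗ q = ψ ∘ₗ q := Finsupp.lhom_ext fun i r => by
      have h1 : φ ⟨f i, Ideal.subset_span (Set.mem_range_self i)⟩ =
          ψ ⟨f i, Ideal.subset_span (Set.mem_range_self i)⟩ := congrFun h i
      simp only [q, LinearMap.comp_apply, Finsupp.linearCombination_single, map_smul, h1]
    exact LinearMap.congr_fun this c
  · let L : (Fin n →₀ S) →ₗ[S] S ⧸ J := Finsupp.linearCombination S b
    have hker : LinearMap.ker q ≤ LinearMap.ker L := fun c hc => by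
      have h0 : jf f c = 0 := by rw [← hq, show q c = 0 from hc]; rfl
      have hcJ := koszul_coeff_mem f (ker_le_koszul_of_isWeaklyRegular f hreg (show c ∈ LinearMap.ker (jf f) from h0))
      rw [LinearMap.mem_ker, Finsupp.linearCombination_apply, Finsupp.sum]
      refine Finset.sum_eq_zero fun i _ => ?_
      obtain ⟨bi, hbi⟩ := Ideal.Quotient.mk_surjective (b i)
      rw [← hbi]
      exact Ideal.Quotient.eq_zero_iff_mem.2 (Ideal.mul_mem_right _ _ (hcJ i))
    refine ⟨(LinearMap.ker q).liftQ L hker ∘ₗ (q.quotKerEquivOfSurjective hqs).symm.toLinearMap, funext fun i => ?_⟩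
    rw [hg, LinearMap.comp_apply, LinearEquiv.coe_coe,
      show (q.quotKerEquivOfSurjective hqs).symm ⟨f i, Ideal.subset_span (Set.mem_range_self i)⟩ =
        Submodule.Quotient.mk (Finsupp.single i 1) from (LinearEquiv.symm_apply_eq _).2 (Subtype.ext (by
          rw [LinearMap.quotKerEquivOfSurjective_apply_mk, hq]; simp)), Submodule.liftQ_apply]
    simp [L]

/-- Restrictions of derivations correspond to the span of the Jacobian columns. -/
theorem map_span_eq {k : Type u} [Field k] {d n : ℕ} (f : Fin n → MvPolynomial (Fin d) k)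
    (e : (↥(Ideal.span (Set.range f)) →ₗ[MvPolynomial (Fin d) k]
        MvPolynomial (Fin d) k ⧸ Ideal.span (Set.range f)) ≃ₗ[MvPolynomial (Fin d) k]
        (Fin n → MvPolynomial (Fin d) k ⧸ Ideal.span (Set.range f)))
    (he : ∀ φ i, e φ i = φ ⟨f i, Ideal.subset_span (Set.mem_range_self i)⟩) :
    (Submodule.span (MvPolynomial (Fin d) k)
        {ψ : ↥(Ideal.span (Set.range f)) →ₗ[MvPolynomial (Fin d) k]
            (MvPolynomial (Fin d) k ⧸ Ideal.span (Set.range f)) |
          ∃ D : Derivation k (MvPolynomial (Fin d) k) (MvPolynomial (Fin d) k ⧸ Ideal.span (Set.range f)),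
            ∀ a : ↥(Ideal.span (Set.range f)), ψ a = D (a : MvPolynomial (Fin d) k)}).map
        (e : _ →ₗ[MvPolynomial (Fin d) k] _) =
      (Submodule.span (MvPolynomial (Fin d) k ⧸ Ideal.span (Set.range f))
        (Set.range fun j : Fin d => fun i : Fin n =>
          Ideal.Quotient.mk (Ideal.span (Set.range f)) (pderiv j (f i)))).restrictScalars (MvPolynomial (Fin d) k) := by
  classical
  let P := MvPolynomial (Fin d) k
  let J := Ideal.span (Set.range f)
  have hsurj : Function.Surjective (algebraMap P (P ⧸ J)) := Ideal.Quotient.mk_surjective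
  rw [Submodule.restrictScalars_span P (P ⧸ J) hsurj, Submodule.map_span]
  refine le_antisymm (Submodule.span_le.2 ?_) (Submodule.span_le.2 ?_)
  · rintro _ ⟨ψ, ⟨D, hD⟩, rfl⟩
    have hcol : (e ψ : Fin n → P ⧸ J) =
        ∑ j : Fin d, (D (X j)) • (fun i : Fin n => Ideal.Quotient.mk J (pderiv j (f i))) := funext fun i => by
      rw [he, hD, Finset.sum_apply]
      have hD' : D = MvPolynomial.mkDerivation k fun j => D (X j) :=
        MvPolynomial.derivation_ext fun j => by rw [mkDerivation_X]
      conv_lhs => rw [hD']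
      have hsum : MvPolynomial.mkDerivation k (fun j => D (X j)) =
          ∑ j : Fin d, (LinearMap.toSpanSingleton P (P ⧸ J) (D (X j))).compDer (pderiv j) :=
        MvPolynomial.derivation_ext fun l => by
          rw [mkDerivation_X]
          have hsum' : ∀ (s : Finset (Fin d)) (F : Fin d → Derivation k P (P ⧸ J)) (x : P),
              (∑ j ∈ s, F j) x = ∑ j ∈ s, F j x := fun s F x => by
            induction s using Finset.induction with
            | empty => simp
            | insert a s ha ih => rw [Finset.sum_insert ha, Finset.sum_insert ha, Derivation.add_apply, ih]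
          rw [hsum' _ _ (X l), Finset.sum_eq_single l (fun j _ hj => by
              change pderiv j (X l : P) • D (X j) = 0
              rw [show pderiv j (X l : P) = 0 from pderiv_X_of_ne (Ne.symm hj)]
              obtain ⟨a, ha⟩ := Ideal.Quotient.mk_surjective (D (X j))
              rw [← ha]
              change Ideal.Quotient.mk J (0 * a) = 0
              rw [zero_mul, map_zero])
            (fun h => (h (Finset.mem_univ l)).elim)]
          change D (X l) = pderiv l (X l : P) • D (X l)
          rw [show pderiv l (X l : P) = 1 from pderiv_X_self l]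
          obtain ⟨a, ha⟩ := Ideal.Quotient.mk_surjective (D (X l))
          rw [← ha]
          change Ideal.Quotient.mk J a = Ideal.Quotient.mk J (1 * a)
          rw [one_mul]
      rw [hsum]
      have hsum' : ∀ (s : Finset (Fin d)) (F : Fin d → Derivation k P (P ⧸ J)) (x : P),
          (∑ j ∈ s, F j) x = ∑ j ∈ s, F j x := fun s F x => by
        induction s using Finset.induction with
        | empty => simp
        | insert a s ha ih => rw [Finset.sum_insert ha, Finset.sum_insert ha, Derivation.add_apply, ih]
      rw [hsum']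
      refine Finset.sum_congr rfl fun j _ => ?_
      change pderiv j (f i) • D (X j) = D (X j) * Ideal.Quotient.mk J (pderiv j (f i))
      obtain ⟨a, ha⟩ := Ideal.Quotient.mk_surjective (D (X j))
      rw [← ha]
      change Ideal.Quotient.mk J (pderiv j (f i) * a) = _
      rw [map_mul, mul_comm]
    rw [SetLike.mem_coe, LinearEquiv.coe_coe, hcol]
    refine Submodule.sum_mem _ fun j _ => ?_
    obtain ⟨a, ha⟩ := Ideal.Quotient.mk_surjective (D (X j))
    rw [← ha, ← Ideal.Quotient.algebraMap_eq, algebraMap_smul]
    exact Submodule.smul_mem _ _ (Submodule.subset_span ⟨j, rfl⟩)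
  · rintro _ ⟨j, rfl⟩
    let D : Derivation k P (P ⧸ J) := (LinearMap.toSpanSingleton P (P ⧸ J) 1).compDer (pderiv j)
    have hDmul : ∀ a b : P, a ∈ J → D (b • a) = b • D a := fun a b ha => by
      rw [smul_eq_mul, Derivation.leibniz, show a • D b = 0 from ?_, add_zero]
      obtain ⟨z, hz⟩ := Ideal.Quotient.mk_surjective (D b)
      rw [← hz]
      exact Ideal.Quotient.eq_zero_iff_mem.2 (Ideal.mul_mem_right _ _ ha)
    let ψ : ↥J →ₗ[P] P ⧸ J :=
      { toFun := fun a => D (a : P)
        map_add' := fun a b => by rw [Submodule.coe_add, map_add]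
        map_smul' := fun b a => hDmul a b a.2 }
    refine Submodule.subset_span ⟨ψ, ⟨D, fun _ => rfl⟩, funext fun i => ?_⟩
    rw [LinearEquiv.coe_coe, he]
    change Ideal.Quotient.mk J (pderiv j (f i) * 1) = _
    rw [mul_one]


open MvPolynomial in
/-- T^1 of a complete intersection; the hypersurface case P/(f, ∂f/∂X_1, ..., ∂f/∂X_d) is n = 1: let k
be an algebraically closed field, P = k[X_1, ..., X_d], f_1, ..., f_n a regular sequence in P (each
f_i a non-zero-divisor modulo the preceding ones), J the ideal they generate and B = P/J. The first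
cotangent module T^1_B — the cokernel of Der_k(P, B) → Hom_P(J, B), a derivation being restricted to
J — is isomorphic, as a P-module, to B^n modulo the B-submodule generated by the d columns
(∂f_1/∂X_j, ..., ∂f_n/∂X_j), j = 1, ..., d, of the Jacobian matrix reduced modulo J, through the map
sending the class of φ : J → B to the class of (φ(f_1), ..., φ(f_n)). (The published formula allows
P to be a localisation of the polynomial ring; this row takes the polynomial ring.) -/
theorem result (k : Type u) [Field k] [IsAlgClosed k] (d n : ℕ)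
    (f : Fin n → MvPolynomial (Fin d) k) (hreg : RingTheory.Sequence.IsWeaklyRegular (MvPolynomial (Fin d) k) (List.ofFn f)) :
    ∃ e : ((↥(Ideal.span (Set.range f)) →ₗ[MvPolynomial (Fin d) k] (MvPolynomial (Fin d) k ⧸ Ideal.span (Set.range f))) ⧸
            Submodule.span (MvPolynomial (Fin d) k)
              {ψ : ↥(Ideal.span (Set.range f)) →ₗ[MvPolynomial (Fin d) k] (MvPolynomial (Fin d) k ⧸ Ideal.span (Set.range f)) |
                ∃ D : Derivation k (MvPolynomial (Fin d) k) (MvPolynomial (Fin d) k ⧸ Ideal.span (Set.range f)), ∀ a : ↥(Ideal.span (Set.range f)), ψ a = D (a : MvPolynomial (Fin d) k)}) ≃ₗ[MvPolynomial (Fin d) k]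
          ((Fin n → MvPolynomial (Fin d) k ⧸ Ideal.span (Set.range f)) ⧸
            Submodule.span (MvPolynomial (Fin d) k ⧸ Ideal.span (Set.range f))
              (Set.range fun j : Fin d => fun i : Fin n => Ideal.Quotient.mk (Ideal.span (Set.range f)) (pderiv j (f i)))),
      ∀ φ : ↥(Ideal.span (Set.range f)) →ₗ[MvPolynomial (Fin d) k] (MvPolynomial (Fin d) k ⧸ Ideal.span (Set.range f)),
        e (Submodule.Quotient.mk φ) =
          Submodule.Quotient.mk (fun i : Fin n => φ ⟨f i, Ideal.subset_span (Set.mem_range_self i)⟩) := by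
  obtain ⟨e, he⟩ := exists_evalEquiv f hreg
  have hcol := map_span_eq f e he
  refine ⟨(Submodule.Quotient.equiv _ _ e hcol).trans
    (Submodule.Quotient.restrictScalarsEquiv (MvPolynomial (Fin d) k)
      (Submodule.span (MvPolynomial (Fin d) k ⧸ Ideal.span (Set.range f))
        (Set.range fun j : Fin d => fun i : Fin n =>
          Ideal.Quotient.mk (Ideal.span (Set.range f)) (MvPolynomial.pderiv j (f i))))), fun φ => ?_⟩
  rw [LinearEquiv.trans_apply, Submodule.Quotient.equiv_apply, Submodule.mapQ_apply, LinearEquiv.coe_coe]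
  refine (congrArg Submodule.Quotient.mk ?_).trans rfl
  exact funext fun i => he φ i

end Groth.Agent.S11302
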