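import Groth.Statements.S8855
import Groth.Agent.RegImm38.Spread
import Groth.Agent.RegLoc.Basic
-- import your own Groth.Agent.* helpers here

set_option autoImplicit false
set_option linter.style.haveILetI false
universe u
open CategoryTheory CategoryTheory.Limits AlgebraicGeometry TopologicalSpace
open SDiv

namespace Groth.Agent.S8855

/-- An ideal with regular quotient in a regular local ring is generated by a regular sequence. -/
theorem exists_isWeaklyRegular {R : Type u} [CommRing R] [IsRegularLocalRing R] (I : Ideal R)
    [IsRegularLocalRing (R ⧸ I)] :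
    ∃ ts : List R, RingTheory.Sequence.IsWeaklyRegular R ts ∧ I = Ideal.ofList ts := by
  obtain ⟨n, hn, -⟩ := RegLoc.exists_natCast_eq_ringKrullDim R
  obtain ⟨s, t, hs, hst, hcard⟩ := RegLoc.exists_finset_span_eq_of_quotient hn I
  set l : List R := s.toList ++ t.toList
  have hlen : l.length = n := by simp [l, hcard]
  have h := RegLoc.isRegular_ofFn (n := l.length) (by rw [hn, hlen]) l.get (by
    rw [← hst, ← Ideal.span_union]
    congr 1
    ext a
    simp [l])
  rw [List.ofFn_get] at h
  refine ⟨s.toList, ((RingTheory.Sequence.isWeaklyRegular_append_iff R _ _).mp h.toIsWeaklyRegular).1, ?_⟩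
  rw [← hs, Ideal.ofList]
  congr 1
  ext a
  simp

/-- Let i : Z ⟶ X be an immersion of schemes with Z and X regular (locally Noetherian, all local rings
regular local rings). Then i is a regular immersion. -/
theorem result {Z X : Scheme.{u}} (i : Z ⟶ X) [IsImmersion i]
    [IsLocallyNoetherian X] [IsLocallyNoetherian Z]
    (hX : ∀ x : ↥X, IsRegularLocalRing ↑(X.presheaf.stalk x)) (hZ : ∀ z : ↥Z, IsRegularLocalRing ↑(Z.presheaf.stalk z)) :
    RegImm.IsRegularImmersion RegImm.Kind.regular i := by
  refine ⟨inferInstance, fun z => ?_⟩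
  haveI := hX (i z)
  have hsurj : Function.Surjective (i.stalkMap z).hom := i.stalkMap_surjective z
  let e := RingHom.quotientKerEquivOfSurjective hsurj
  haveI := hZ z
  haveI : IsRegularLocalRing (X.presheaf.stalk (i z) ⧸ RingHom.ker (i.stalkMap z).hom) :=
    IsRegularLocalRing.of_ringEquiv e.symm
  obtain ⟨ts, hts, hker⟩ := exists_isWeaklyRegular (RingHom.ker (i.stalkMap z).hom)
  exact RegImm38.isRegularImmersionAt_of_stalk i z hts hker

end Groth.Agent.S8855
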