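import Groth.Statements.S11308
import Groth.Agent.S8855
import Groth.Agent.BlowPerf.Exceptional
import Groth.Agent.S2895
import Groth.Agent.S15942

set_option autoImplicit false
universe u
open CategoryTheory CategoryTheory.Limits AlgebraicGeometry
open NonsingVar

namespace Groth.Agent.S11308

/-- The blow-up of a regular scheme in a regular closed subscheme is regular. -/
theorem regular_of_isBlowUp {X Y X' : Scheme.{u}} [IsLocallyNoetherian X] [IsLocallyNoetherian Y]
    (hX : ∀ x : X, IsRegularLocalRing (X.presheaf.stalk x)) (i : Y ⟶ X) [IsClosedImmersion i]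
    (hY : ∀ y : Y, IsRegularLocalRing (Y.presheaf.stalk y)) (b : X' ⟶ X) (hb : BlowUp.IsBlowUp b i.ker)
    (z : X') : IsRegularLocalRing (X'.presheaf.stalk z) := by
  have hft : BlowUp.IsFiniteTypeIdeal i.ker := fun U =>
    (@IsNoetherian.noetherian _ _ _ _ _ (IsLocallyNoetherian.component_noetherian U) _)
  have : IsProper b := Groth.Agent.BlowUpProper.Basic.isProper hb hft
  have : IsLocallyNoetherian X' := LocallyOfFiniteType.isLocallyNoetherian b
  by_cases hz : b z ∈ i.ker.support
  swap
  · let C : X.Opens := i.ker.support.compl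
    have := Groth.Agent.BlowUp.Basic.isIso_restrict hb C disjoint_compl_left
    have hopen : IsOpenImmersion ((b ⁻¹ᵁ C).ι ≫ b) := by
      rw [← morphismRestrict_ι]
      infer_instance
    let v : (b ⁻¹ᵁ C : X'.Opens) := ⟨z, hz⟩
    have hiso : IsIso (b.stalkMap z) := by
      have h1 : IsIso (((b ⁻¹ᵁ C).ι ≫ b).stalkMap v) := inferInstance
      rw [Scheme.Hom.stalkMap_comp] at h1
      exact @IsIso.of_isIso_comp_right _ _ _ _ _ (b.stalkMap ((b ⁻¹ᵁ C).ι v)) ((b ⁻¹ᵁ C).ι.stalkMap v) inferInstance h1
    have := hX (b z)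
    exact IsRegularLocalRing.of_ringEquiv (asIso (b.stalkMap z)).commRingCatIsoToRingEquiv
  have hreg : Mor2.IsRegularClosedImmersion i := by
    obtain ⟨-, hr⟩ := S8855.result i hX hY
    refine ⟨inferInstance, fun y => ?_⟩
    obtain ⟨U, hy, -, rs, hrs, hker⟩ := hr y
    exact ⟨U.1, U.2, hy, rs, hrs, (Scheme.Hom.ker_apply _ _).trans hker⟩
  let D := BlowUp.exceptional b i.ker
  have hk : (pullback.fst b i).ker = D.subschemeι.ker := by
    rw [Scheme.IdealSheafData.ker_fst_of_isClosedImmersion i b, Scheme.IdealSheafData.ker_subschemeι]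
  let l := IsClosedImmersion.lift (pullback.fst b i) D.subschemeι hk.le
  have hl : l ≫ pullback.fst b i = D.subschemeι := IsClosedImmersion.lift_fac _ _ _
  have : IsIso l := IsClosedImmersion.isIso_lift (pullback.fst b i) D.subschemeι hk
  have := BlowPerf.Exceptional.smooth_snd_ker i hreg b hb
  have : Smooth (l ≫ pullback.snd b i) := inferInstance
  have hzs : z ∈ (D.support : Set X') := by
    show z ∈ (i.ker.comap b).support
    rw [Scheme.IdealSheafData.support_comap]
    exact hz
  rw [← Scheme.IdealSheafData.range_subschemeι] at hzs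
  obtain ⟨w, rfl⟩ := hzs
  have hregw : IsRegularLocalRing (D.subscheme.presheaf.stalk w) :=
    S15942.regular_of_smooth (l ≫ pullback.snd b i) hY w
  obtain ⟨U, hdU, -, t, ht, he⟩ := Groth.Agent.IdealSh.EffCartier.exists_equation hb.1 (D.subschemeι w) ⊤ trivial
  let a := (X'.presheaf.germ U.1 (D.subschemeι w) hdU).hom t
  have ha : a ∈ nonZeroDivisors (X'.presheaf.stalk (D.subschemeι w)) :=
    Groth.Agent.IdealSh.Regular.germ_mem_nonZeroDivisors U.2 _ hdU ht
  have hker : RingHom.ker (D.subschemeι.stalkMap w).hom = Ideal.span {a} := by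
    refine le_antisymm ((Groth.Agent.AlgSp.CartierSk.ker_stalkMap_le D U w hdU).trans_eq ?_) ?_
    · rw [he, Ideal.map_span, Set.image_singleton]
    · rw [Ideal.span_le, Set.singleton_subset_iff, SetLike.mem_coe, RingHom.mem_ker]
      have h0 : (D.subschemeι.app U.1).hom t = 0 := by
        rw [← RingHom.mem_ker, D.ker_subschemeι_app, he]
        exact Ideal.mem_span_singleton_self t
      exact (Scheme.Hom.germ_stalkMap_apply D.subschemeι U.1 w hdU t).trans
        ((congrArg (D.subscheme.presheaf.germ _ w hdU) h0).trans (map_zero _))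
  have hm : a ∈ IsLocalRing.maximalIdeal (X'.presheaf.stalk (D.subschemeι w)) :=
    IsLocalRing.le_maximalIdeal (RingHom.ker_ne_top _) (hker.ge (Ideal.mem_span_singleton_self a))
  have := hregw
  let eq : (X'.presheaf.stalk (D.subschemeι w) ⧸ Ideal.span {a}) ≃+* D.subscheme.presheaf.stalk w :=
    (Ideal.quotEquivOfEq hker.symm).trans
      (RingHom.quotientKerEquivOfSurjective (D.subschemeι.stalkMap_surjective w))
  have : IsRegularLocalRing (X'.presheaf.stalk (D.subschemeι w) ⧸ Ideal.span {a}) :=
    IsRegularLocalRing.of_ringEquiv eq.symm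
  exact Groth.Agent.RegLoc.isRegularLocalRing_of_quotient_span_singleton hm ha

/-- Let k be an algebraically closed field, X a nonsingular variety over k (an integral scheme,
separated and of finite type over k, all of whose local rings are regular), Y a nonsingular closed
subvariety of X (an integral closed subscheme all of whose local rings are regular) with ideal sheaf
I, and π : X~ → X a blowing-up of X with respect to I, characterised by its universal property. Then
X~ is nonsingular: all of its local rings are regular. -/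
theorem result (k : Type u) [Field k] [IsAlgClosed k]
    (X : Scheme.{u}) [X.Over (Spec (CommRingCat.of k))] [IsIntegral X] [IsSeparated (X ↘ (Spec (CommRingCat.of k)))]
    [LocallyOfFiniteType (X ↘ (Spec (CommRingCat.of k)))] [QuasiCompact (X ↘ (Spec (CommRingCat.of k)))]
    (hreg : ∀ x : ↥X, IsRegularLocalRing ↑(X.presheaf.stalk x))
    (Y : Scheme.{u}) (i : Y ⟶ X) [IsClosedImmersion i] [IsIntegral Y]
    (hregY : ∀ y : ↥Y, IsRegularLocalRing ↑(Y.presheaf.stalk y))
    (Xt : Scheme.{u}) (π : Xt ⟶ X) (hπ : BlowUp.IsBlowUp π i.ker) :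
    ∀ z : ↥Xt, IsRegularLocalRing ↑(Xt.presheaf.stalk z) := by
  haveI : IsLocallyNoetherian X := LocallyOfFiniteType.isLocallyNoetherian (X ↘ Spec (CommRingCat.of k))
  haveI : IsLocallyNoetherian Y := LocallyOfFiniteType.isLocallyNoetherian i
  exact fun z => regular_of_isBlowUp hreg i hregY π hπ z

end Groth.Agent.S11308
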