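import Groth.Statements.S1131
import Mathlib.AlgebraicGeometry.Sites.Fpqc


set_option autoImplicit false
open CategoryTheory CategoryTheory.Limits AlgebraicGeometry Opposite
universe u
open Desc

namespace Groth.Agent.S1131

/-- If p : X ⟶ S is surjective, flat and quasi-compact, then the functor sending a scheme over S to its
canonical descent datum relative to p is full. (Faithfulness, which needs no quasi-compactness, is a
companion statement.) (Descent data are taken in functor-of-points form, equivalent by the Yoneda
lemma to the usual form of an isomorphism over X ×_S X satisfying the cocycle condition.) -/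
theorem result {X S : Scheme.{u}} (p : X ⟶ S) [Surjective p] [Flat p] [QuasiCompact p] :
    (Desc.toDD p).Full := by
  refine ⟨fun {U U'} h => ?_⟩
  let e : pullback p U.hom ⟶ pullback p U'.hom := h.hom.left
  have he : e ≫ pullback.fst p U'.hom = pullback.fst p U.hom := Over.w h.hom
  have hcond : ∀ {Z : Scheme.{u}} (a b : Z ⟶ pullback p U.hom),
      a ≫ pullback.snd p U.hom = b ≫ pullback.snd p U.hom →
      a ≫ e ≫ pullback.snd p U'.hom = b ≫ e ≫ pullback.snd p U'.hom := by
    intro Z a b hab
    have hx : (a ≫ pullback.fst p U.hom) ≫ p = (b ≫ pullback.fst p U.hom) ≫ p := by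
      simp only [Category.assoc, pullback.condition]
      rw [← Category.assoc, hab, Category.assoc]
    have hc := h.comm (a ≫ pullback.fst p U.hom) (b ≫ pullback.fst p U.hom) hx ⟨a, rfl⟩
      ⟨a ≫ e, by change (a ≫ e) ≫ pullback.fst p U'.hom = _; rw [Category.assoc, he]⟩ rfl
    have h2 := congrArg (fun k => k ≫ pullback.snd p U'.hom) hc
    have hb : pullback.lift (b ≫ pullback.fst p U.hom) (a ≫ pullback.snd p U.hom) (by
        rw [← hx]; simp [pullback.condition]) = b :=
      pullback.hom_ext (pullback.lift_fst _ _ _) ((pullback.lift_snd _ _ _).trans hab)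
    change pullback.lift _ ((a ≫ e) ≫ pullback.snd p U'.hom) _ ≫ pullback.snd p U'.hom =
      (pullback.lift _ (a ≫ pullback.snd p U.hom) _ ≫ e) ≫ pullback.snd p U'.hom at h2
    rw [pullback.lift_snd, hb] at h2
    simpa only [Category.assoc] using h2
  have : QuasiCompact (pullback.snd p U.hom) := MorphismProperty.pullback_snd _ _ ‹_›
  have : Flat (pullback.snd p U.hom) := MorphismProperty.pullback_snd _ _ ‹_›
  have : Surjective (pullback.snd p U.hom) := MorphismProperty.pullback_snd _ _ ‹_›
  have : EffectiveEpi (pullback.snd p U.hom) := inferInstance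
  let g := EffectiveEpi.desc (pullback.snd p U.hom) (e ≫ pullback.snd p U'.hom) hcond
  have hg : pullback.snd p U.hom ≫ g = e ≫ pullback.snd p U'.hom := EffectiveEpi.fac _ _ hcond
  have hgw : g ≫ U'.hom = U.hom := by
    have := Flat.epi_of_flat_of_surjective (pullback.snd p U.hom)
    rw [← cancel_epi (pullback.snd p U.hom), ← Category.assoc, hg, Category.assoc, ← pullback.condition,
      ← Category.assoc, he, pullback.condition]
  refine ⟨Over.homMk g hgw, Desc.SchDD.hom_ext (Over.OverMorphism.ext ?_)⟩
  change pullback.map p U.hom p U'.hom (𝟙 X) g (𝟙 S) (by simp) (by simp [hgw]) = e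
  refine pullback.hom_ext ?_ ?_
  · rw [pullback.lift_fst, Category.comp_id, he]
  · rw [pullback.lift_snd, hg]

end Groth.Agent.S1131
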