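import Groth.Statements.S5668
import Groth.Agent.S19675
import Groth.Agent.ExtHom.Compare
import Groth.Agent.VBLib.Basic
-- helpers

set_option autoImplicit false
universe u
open CategoryTheory CategoryTheory.Limits AlgebraicGeometry
attribute [local instance] HasDerivedCategory.standard
open ProjDual

namespace Groth.Agent.S5668

/-- Let `k` be an algebraically closed field, `X` a nonsingular projective variety of dimension `n` over
`k` — here: a connected `k`-scheme, smooth of relative dimension `n` over `k`, with a closed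
immersion into some `P^r_k` over `k` — `L` an `n`-th exterior power of the sheaf of differentials of
`X` over `k`, and `F` a finite locally free `O_X`-module for which the internal Hom functor
`Hom_{O_X}(F, -)` exists (right adjoint of `F ⊗ -`). Then for `p ≤ n` the `k`-dual of `H^p(X, F)` is
isomorphic to `H^(n-p)(X, Hom_{O_X}(F, L))`. (Existence of a `k`-linear isomorphism only; the
published one comes from the Yoneda pairing into `H^n(X, L) ≅ k`.) -/
theorem result (k : Type u) [Field k] [IsAlgClosed k] (n r : ℕ) (X : Scheme.{u}) [X.Over (Spec (CommRingCat.of k))] [SmoothOfRelativeDimension n (X ↘ Spec (CommRingCat.of k))] [ConnectedSpace X] (ι : X ⟶ CohB1.ProjSpace r k) [IsClosedImmersion ι] (hι : ι ≫ CohB1.ProjSpace.toSpec r k = X ↘ Spec (CommRingCat.of k)) (L : X.Modules) (hL : ExtPow.IsExtPow n (Omega.sheaf (X ↘ Spec (CommRingCat.of k))) L) (F : X.Modules) (hF : FlatMod.IsFinLocFree F) [DCoh.HasSheafHom F] (p : ℕ) (hp : p ≤ n) : Nonempty (Module.Dual k (Coh.HH X F p) ≃ₗ[k] Coh.HH X ((DCoh.sheafHom F).obj L) (n - p)) := by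
  have : HasExt.{u} X.Modules := Groth.Agent.ModShf.schemeModulesHasExt _
  have := DualAbs.isLocallyNoetherian_source ι
  have hC : Coh.IsCoh F := Groth.Agent.VBLib.isCoh_of_isFinLocFree hF
  obtain ⟨e₁⟩ := S19675.result k n r X ι hι L hL F hC (n - p) (Nat.sub_le n p)
  obtain ⟨e₂⟩ := Groth.Agent.ExtHom.nonempty_ext_linearEquiv k hF L (n - p)
  rw [Nat.sub_sub_self hp] at e₁
  exact ⟨e₁.symm ≪≫ₗ e₂⟩

end Groth.Agent.S5668
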