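import Groth.Statements.S11317
import Groth.Agent.DualAbs.WedgePair
import Groth.Agent.DualAbs.SmoothImm
import Groth.Agent.S5668
-- import your own Groth.Agent.* helpers here

set_option autoImplicit false
universe u
open CategoryTheory CategoryTheory.Limits AlgebraicGeometry
open ProjDual

namespace Groth.Agent.S11317

/-- Let k be an algebraically closed field and X a nonsingular projective variety of dimension n over k
— an integral k-scheme, smooth of relative dimension n over k, with a closed immersion into some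
P^N_k over k. Let p, q ≤ n and let L and L' be O_X-modules which are a p-th, respectively an
(n-p)-th, exterior power of the sheaf of differentials of X over k. Then H^q(X, L) and H^(n-q)(X,
L') have the same dimension over k: h^q(Ω^p) = h^(n-q)(Ω^(n-p)). (The published statement gives a
natural isomorphism of H^q(X, Ω^p) with the dual of H^(n-q)(X, Ω^(n-p)); this row records the
equality of dimensions.) -/
theorem result (k : Type u) [Field k] [IsAlgClosed k] (n N : ℕ)
    (X : Scheme.{u}) [X.Over (Spec (CommRingCat.of k))] [IsIntegral X]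
    [SmoothOfRelativeDimension n (X ↘ Spec (CommRingCat.of k))]
    (ι : X ⟶ CohB1.ProjSpace N k) [IsClosedImmersion ι] (hι : ι ≫ CohB1.ProjSpace.toSpec N k = X ↘ Spec (CommRingCat.of k))
    (p q : ℕ) (hp : p ≤ n) (hq : q ≤ n) (L L' : X.Modules)
    (hL : ExtPow.IsExtPow p (Omega.sheaf (X ↘ Spec (CommRingCat.of k))) L)
    (hL' : ExtPow.IsExtPow (n - p) (Omega.sheaf (X ↘ Spec (CommRingCat.of k))) L') :
    Module.finrank k (Coh.HH X L q) = Module.finrank k (Coh.HH X L' (n - q)) := by
  obtain ⟨j, rfl⟩ : ∃ j, n = p + j := ⟨n - p, by omega⟩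
  rw [Nat.add_sub_cancel_left] at hL'
  haveI : ConnectedSpace X := { toNonempty := inferInstance }
  haveI : IsProper (CohB1.ProjSpace.toSpec N k) := ProjProper.Basic.isProper_toSpec N k
  haveI : IsProper (X ↘ Spec (CommRingCat.of k)) := by rw [← hι]; infer_instance
  haveI : IsLocallyNoetherian X := LocallyOfFiniteType.isLocallyNoetherian (X ↘ Spec (CommRingCat.of k))
  have hΩ : Coh.IsCoh (Omega.sheaf (X ↘ Spec (CommRingCat.of k))) :=
    VBLib.isCoh_of_ofRank (CanonTriv.isFinLocFreeOfRank_omega (X ↘ Spec (CommRingCat.of k)) (p + j))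
  haveI := hΩ.1
  have hb := DualAbs.SmoothImm.exists_basis_omega (X ↘ Spec (CommRingCat.of k)) (p + j)
  obtain ⟨T, hT⟩ := ExtPowSt.Exists.exists_isExtPow (p + j) (Omega.sheaf (X ↘ Spec (CommRingCat.of k)))
  let Φ : ExtPowSt.Sys p _ L := ⟨hL.choose, hL.choose_spec⟩
  have hF := DualAbs.WedgePair.isFinLocFree Φ hΩ hb
  haveI := KFlat.hasSheafHom_scheme L
  obtain ⟨e⟩ := DualAbs.WedgePair.nonempty_iso Φ ⟨hL'.choose, hL'.choose_spec⟩ ⟨hT.choose, hT.choose_spec⟩
    (HomShEval.QCoh.isFP_of_isCoh _ (VBLib.isCoh_of_isFinLocFree hF)) hb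
  obtain ⟨d⟩ := S5668.result k (p + j) N X ι hι T hT L hF q hq
  exact (Subspace.dual_finrank_eq (K := k) (V := Coh.HH X L q)).symm.trans
    (d.finrank_eq.trans (CohLES.mapEquiv k e (p + j - q)).finrank_eq.symm)

end Groth.Agent.S11317
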