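import Groth.Statements.S1132


set_option autoImplicit false
open CategoryTheory CategoryTheory.Limits AlgebraicGeometry Opposite
universe u
open Desc

namespace Groth.Agent.S1132

/-- If p : X ⟶ S is a surjective flat morphism of schemes, the functor sending a scheme over S to its
canonical descent datum relative to p is faithful. (This is a special case of a more general
published statement; in this case the objects being descended are simply schemes over S. Descent
data are taken in functor-of-points form, equivalent by the Yoneda lemma to an isomorphism over X
×_S X satisfying the cocycle condition.) -/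
theorem result {X S : Scheme.{u}} (p : X ⟶ S) [Surjective p] [Flat p] :
    (Desc.toDD p).Faithful := by
  refine ⟨fun {U U'} g g' h => ?_⟩
  have h' : pullback.map p U.hom p U'.hom (𝟙 X) g.left (𝟙 S) (by simp) (by simp) =
      pullback.map p U.hom p U'.hom (𝟙 X) g'.left (𝟙 S) (by simp) (by simp) :=
    congrArg (fun k : (Desc.toDD p).obj U ⟶ (Desc.toDD p).obj U' => k.hom.left) h
  have h2 := congrArg (fun k => k ≫ pullback.snd p U'.hom) h'
  simp only [pullback.map, pullback.lift_snd] at h2
  have := Flat.epi_of_flat_of_surjective (pullback.snd p U.hom)
  exact Over.OverMorphism.ext ((cancel_epi (pullback.snd p U.hom)).1 h2)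

end Groth.Agent.S1132
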