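import Groth.Statements.S11321
import Groth.Agent.FDesc.GenericClosure
import Groth.Agent.AlgSp.KerFlat
import Groth.Agent.FlatMor.SchDom
import Mathlib.AlgebraicGeometry.Morphisms.ClosedImmersion

set_option autoImplicit false
universe u
open CategoryTheory CategoryTheory.Limits AlgebraicGeometry
open FlatMor

namespace Groth.Agent.S11321

/-- Flat limits over a curve: let Y be a locally Noetherian integral scheme of dimension one all of
whose local rings are regular local rings, P a closed point of Y with open complement U, V = P^n_U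
the inverse image of U in P^n_Y, and X a closed subscheme of V (a closed immersion i : X → V) which
is flat over Y, equivalently over U. Then X extends to a closed subscheme X' of P^n_Y which is flat
over Y and whose restriction to V is X — there are a closed immersion i' : X' → P^n_Y with X' → Y
flat and a morphism j : X → X' making X the fibre product of X' and V over P^n_Y — and such an
extension is unique: for any second one (X'', i'', j'') there is an isomorphism X' ≅ X'' over P^n_Y.
(The published statement does not say that Y is locally Noetherian; the printed argument, through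
associated points and the scheme-theoretic closure, uses it, and this row assumes it.) -/
theorem result
    {Y : Scheme.{u}} [IsIntegral Y] [IsLocallyNoetherian Y] (hreg : ∀ y : Y, IsRegularLocalRing (Y.presheaf.stalk y))
    (hY : topologicalKrullDim ↥Y = 1) (P : Y) (U : Y.Opens) (hU : (U : Set ↥Y) = {P}ᶜ) (n : ℕ)
    (X : Scheme.{u}) (i : X ⟶ ↑(CohB1.ProjSpaceOver.toBase n Y ⁻¹ᵁ U)) [IsClosedImmersion i]
    [Flat (i ≫ (CohB1.ProjSpaceOver.toBase n Y ⁻¹ᵁ U).ι ≫ CohB1.ProjSpaceOver.toBase n Y)] :
    ∃ (X' : Scheme.{u}) (i' : X' ⟶ CohB1.ProjSpaceOver n Y) (j : X ⟶ X'),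
      IsClosedImmersion i' ∧ Flat (i' ≫ CohB1.ProjSpaceOver.toBase n Y) ∧
      IsPullback j i i' (CohB1.ProjSpaceOver.toBase n Y ⁻¹ᵁ U).ι ∧
      ∀ (X'' : Scheme.{u}) (i'' : X'' ⟶ CohB1.ProjSpaceOver n Y) (j'' : X ⟶ X''),
        IsClosedImmersion i'' → Flat (i'' ≫ CohB1.ProjSpaceOver.toBase n Y) →
        IsPullback j'' i i'' (CohB1.ProjSpaceOver.toBase n Y ⁻¹ᵁ U).ι →
        ∃ e : X' ≅ X'', e.hom ≫ i'' = i' := by
  let f := CohB1.ProjSpaceOver.toBase n Y
  let O := f ⁻¹ᵁ U
  let η := genericPoint Y
  have hηU : η ∈ U := by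
    have hP : IsClosed ({P} : Set Y) := by
      rw [← isOpen_compl_iff, ← hU]
      exact U.2
    show η ∈ (U : Set Y)
    rw [hU]
    intro (h : η = P)
    have hall : ∀ y : Y, y = P := fun y => (genericPoint_specializes y).mem_closed hP h
    have : Subsingleton Y := ⟨fun a b => (hall a).trans (hall b).symm⟩
    have h0 : topologicalKrullDim ↥Y ≤ 0 := by
      refine Order.krullDim_nonpos_iff_forall_isMin.2 fun a b hab => le_of_eq ?_
      apply TopologicalSpace.IrreducibleCloseds.ext
      ext y
      obtain ⟨z, hz⟩ := a.isIrreducible.nonempty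
      obtain ⟨z', hz'⟩ := b.isIrreducible.nonempty
      exact ⟨fun _ => Subsingleton.elim z' y ▸ hz', fun _ => Subsingleton.elim z y ▸ hz⟩
    rw [hY] at h0
    exact absurd h0 (by simp)
  have hY1 : ∀ y : Y, IsRegularLocalRing (Y.presheaf.stalk y) ∧ ringKrullDim (Y.presheaf.stalk y) ≤ 1 :=
    fun y => ⟨hreg y, by
      rw [ringKrullDim_stalk_eq_coheight]
      calc ((Order.coheight y : ℕ∞) : WithBot ℕ∞) ≤ Order.krullDim Y := Order.coheight_le_krullDim y
        _ = topologicalKrullDim Y := Order.krullDim_eq_of_orderIso (irreducibleSetEquivPoints (α := Y)).symm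
        _ ≤ 1 := hY.le⟩
  have : QuasiCompact U.ι := inferInstance
  have hsqO := isPullback_morphismRestrict f U
  have : QuasiCompact O.ι := MorphismProperty.of_isPullback (P := @QuasiCompact) hsqO inferInstance
  have : Nonempty (U : Scheme.{u}) := ⟨⟨η, hηU⟩⟩
  have : IsDominant U.ι := ⟨by
    rw [DenseRange, Scheme.Opens.range_ι]
    exact U.2.dense ⟨η, hηU⟩⟩
  have : IsSchemeTheoreticallyDominant U.ι := IsSchemeTheoreticallyDominant.of_isDominant _
  let j := O.ι
  let i' := (i ≫ j).imageι
  let w := (i ≫ j).toImage
  have hw : IsSchemeTheoreticallyDominant w := FlatMor.SchDom.toImage_dominant _ (Or.inl inferInstance)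
  have hwi : w ≫ i' = i ≫ j := Scheme.Hom.toImage_imageι _
  -- flatness, through the generic fibre of `X`
  have hflat : Flat (i' ≫ f) := by
    have := FDesc.GenericClosure.quasiCompact_fromSpecResidueField (Y := Y) η
    have := FDesc.GenericClosure.isSchemeTheoreticallyDominant_generic (Y := Y)
    let q := i ≫ j ≫ f
    have : Flat q := ‹_›
    let v := pullback.fst q (Y.fromSpecResidueField η)
    have : IsSchemeTheoreticallyDominant v :=
      IsSchemeTheoreticallyDominant.of_isPullback (IsPullback.of_hasPullback _ _).flip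
    have : QuasiCompact v := MorphismProperty.pullback_fst (P := @QuasiCompact) _ _ inferInstance
    have : QuasiCompact w := by
      have : QuasiCompact (w ≫ i') := by rw [hwi]; infer_instance
      exact QuasiCompact.of_comp w i'
    refine FDesc.GenericClosure.flat_of_schemeTheoreticallyDominant hY1 (i' ≫ f) (v ≫ w) fun a => ?_
    have e : (v ≫ w) ≫ i' ≫ f = pullback.snd q (Y.fromSpecResidueField η) ≫ Y.fromSpecResidueField η := by
      rw [Category.assoc, reassoc_of% hwi]
      exact pullback.condition
    rw [← Scheme.Hom.comp_apply, e, Scheme.Hom.comp_apply]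
    exact (Y.range_fromSpecResidueField η).le ⟨_, rfl⟩
  have : Flat j := inferInstance
  -- the restriction over `U`
  have hpb : IsPullback w i i' j := by
    let Q := pullback i' j
    let l : X ⟶ Q := pullback.lift w i hwi
    have hl : l ≫ pullback.snd i' j = i := pullback.lift_snd _ _ _
    have : IsClosedImmersion (pullback.snd i' j) :=
      MorphismProperty.pullback_snd (P := @IsClosedImmersion) _ _ inferInstance
    have hk : i.ker = (pullback.snd i' j).ker := by
      have e1 := AlgSp.KerFlat.ker_of_isPullback (IsPullback.of_hasPullback i' j)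
      have sq : IsPullback (𝟙 X) i (i ≫ j) j := by
        have s1 : IsPullback (𝟙 X) i i (𝟙 _) := IsPullback.id_horiz i
        have s2 := s1.paste_vert (IsKernelPair.id_of_mono j)
        rwa [Category.comp_id] at s2
      rw [AlgSp.KerFlat.ker_of_isPullback sq, e1]
      congr 1
      exact (Scheme.IdealSheafData.ker_subschemeι _).symm
    have : IsIso l := IsClosedImmersion.isIso_of_ker_eq i (pullback.snd i' j) l hl hk
    exact IsPullback.of_iso_pullback ⟨hwi⟩ (asIso l) (pullback.lift_fst _ _ _) hl
  refine ⟨_, i', w, inferInstance, hflat, hpb, fun X'' i'' j'' hc hf'' sq'' => ?_⟩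
  have hker : i''.ker = (i ≫ j).ker := by
    have h : IsPullback j'' (i ≫ (f ∣_ U)) (i'' ≫ f) U.ι := sq''.paste_vert hsqO.flip
    have hd : IsSchemeTheoreticallyDominant j'' := IsSchemeTheoreticallyDominant.of_isPullback h.flip
    rw [← sq''.w, Scheme.Hom.ker_comp, hd.ker_eq_bot, Scheme.IdealSheafData.map_bot]
  have hk : i'.ker = i''.ker := (Scheme.IdealSheafData.ker_subschemeι _).trans hker.symm
  have := IsClosedImmersion.isIso_of_ker_eq i' i'' (IsClosedImmersion.lift i'' i' hk.ge)
    (IsClosedImmersion.lift_fac _ _ _) hk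
  exact ⟨asIso (IsClosedImmersion.lift i'' i' hk.ge), IsClosedImmersion.lift_fac _ _ _⟩

end Groth.Agent.S11321
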