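import Groth.Statements.S11323
import Groth.Agent.InjMod.StalkExt
-- import your own Groth.Agent.* helpers here

set_option autoImplicit false
universe u
open CategoryTheory AlgebraicGeometry TopologicalSpace
open Coherent

namespace Groth.Agent.S11323

/-- Let X be a Noetherian scheme, F a coherent O_X-module, G any O_X-module, x a point of X and i ≥ 0.
Then the stalk at x of the Ext sheaf Ext^i(F, G) — the i-th right derived functor of the internal
Hom functor Hom(F, -) on O_X-modules (its existence and that of injective resolutions are the stated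
instance hypotheses, both true), evaluated at G — is isomorphic, as a module over the local ring at
x, to Ext^i of the stalks F_x, G_x computed in the category of modules over that local ring. (Stalks
are taken as fibres at the point of the site of opens given by x; existence of an isomorphism only.) -/
theorem result (X : Scheme.{u}) [IsNoetherian X]
    (F G : X.Modules) (hF : Coh.IsCoh F)
    [ModSite.HasSheafHom (O := X.sheaf) F] [HasInjectiveResolutions (ModSite.Mod X.sheaf)]
    (x : X) (i : ℕ) :
    Nonempty (ModSite.stalkMod (Opens.pointGrothendieckTopology x) ((ModSite.extSh (O := X.sheaf) F i).obj G)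
      ≃ₗ[ModSite.stalkRing (Opens.pointGrothendieckTopology x) X.sheaf]
      Abelian.Ext (ModSite.stalkMod (O := X.sheaf) (Opens.pointGrothendieckTopology x) F)
        (ModSite.stalkMod (O := X.sheaf) (Opens.pointGrothendieckTopology x) G) i) := by
  let φ := InjMod.PointStalk.ringEquiv (X := X) x
  let E := InjMod.PointStalk.toPoint (X := X) x
  let T := DerSch.stalkFunctor X x
  let R' := ModSite.stalkRing (Opens.pointGrothendieckTopology x) X.sheaf
  let A' := ModSite.stalkMod (O := X.sheaf) (Opens.pointGrothendieckTopology x) F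
  let B' := ModSite.stalkMod (O := X.sheaf) (Opens.pointGrothendieckTopology x) G
  let iF : A' ≅ E.obj (T.obj F) := InjMod.PointStalk.stalkModIso x F
  let iG : B' ≅ E.obj (T.obj G) := InjMod.PointStalk.stalkModIso x G
  obtain ⟨e₁⟩ := InjMod.nonempty_stalk_extSh_equiv F G (HomShEval.QCoh.isFP_of_isCoh F hF) x i
  obtain ⟨e₂⟩ := InjMod.nonempty_ext_restrictScalars φ (T.obj F) (T.obj G) i
  let c₁ : Abelian.Ext (E.obj (T.obj F)) (E.obj (T.obj G)) i ≃ₗ[R'] Abelian.Ext A' (E.obj (T.obj G)) i :=
    LinearEquiv.ofLinear ((Abelian.Ext.bilinearCompOfLinear R' _ _ _ 0 i i (zero_add i)) (Abelian.Ext.mk₀ iF.hom))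
      ((Abelian.Ext.bilinearCompOfLinear R' _ _ _ 0 i i (zero_add i)) (Abelian.Ext.mk₀ iF.inv))
      (by ext z; simp) (by ext z; simp)
  let c₂ : Abelian.Ext A' (E.obj (T.obj G)) i ≃ₗ[R'] Abelian.Ext A' B' i :=
    LinearEquiv.ofLinear (Abelian.Ext.postcompOfLinear (Abelian.Ext.mk₀ iG.inv) R' A' (add_zero i))
      (Abelian.Ext.postcompOfLinear (Abelian.Ext.mk₀ iG.hom) R' A' (add_zero i))
      (by ext z; simp) (by ext z; simp)
  exact ⟨(InjMod.PointStalk.stalkModIso x ((ModSite.extSh (O := X.sheaf) F i).obj G)).toLinearEquiv ≪≫ₗ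
    (E.mapIso (LinearEquiv.toModuleIso (show (T.obj ((ModSite.extSh (O := X.sheaf) F i).obj G)) ≃ₗ[X.presheaf.stalk x]
      (ModuleCat.of (X.presheaf.stalk x) (Abelian.Ext (T.obj F) (T.obj G) i)) from e₁))).toLinearEquiv ≪≫ₗ
    e₂ ≪≫ₗ c₁ ≪≫ₗ c₂⟩

end Groth.Agent.S11323
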