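import Groth.Statements.S11325
import Groth.Agent.DualAbs.SmoothDual
import Groth.Agent.S11903
import Groth.Agent.S11905
import Groth.Agent.S14425
import Groth.Agent.Depth.CM
import Groth.Agent.RegImm38.Spread
import Groth.Agent.DualAbs.Depth
-- import your own Groth.Agent.* helpers here

set_option autoImplicit false
universe u
open CategoryTheory CategoryTheory.Limits AlgebraicGeometry
attribute [local instance] HasDerivedCategory.standard
open ProjDual

namespace Groth.Agent.S11325

theorem isRegularImmersionOfCodim {k : Type u} [Field k] {N r : ℕ} (hr : r ≤ N) {X : Scheme.{u}}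
    [IsLocallyNoetherian (CohB1.ProjSpace N k)]
    (ι : X ⟶ CohB1.ProjSpace N k) [IsClosedImmersion ι]
    (heq : ∀ Z : Set ↥X, Z ∈ irreducibleComponents ↥X → topologicalKrullDim ↥Z = ((N - r : ℕ) : WithBot ℕ∞))
    (hgen : ∀ x : X, ∃ U : (CohB1.ProjSpace N k).affineOpens, ι.base x ∈ (U : (CohB1.ProjSpace N k).Opens) ∧
      ∃ f : Fin r → Γ(CohB1.ProjSpace N k, (U : (CohB1.ProjSpace N k).Opens)), ι.ker.ideal U = Ideal.span (Set.range f)) :
    RegImm.IsRegularImmersionOfCodim .regular r ι := by
  refine ⟨inferInstance, fun z => ?_⟩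
  let P := CohB1.ProjSpace N k
  obtain ⟨U₀, hz, g, hg⟩ := hgen z
  have hker0 : ι.ker.ideal U₀ = RingHom.ker (ι.app U₀.1).hom := Scheme.Hom.ker_apply ι U₀
  haveI : IsClosedImmersion (ι ∣_ U₀.1) := inferInstance
  let S := P.presheaf.stalk (ι z)
  haveI : IsRegularLocalRing S := DualAbs.isRegularLocalRing_stalk (ι z)
  letI : Algebra Γ(P, U₀.1) S := (P.presheaf.germ U₀.1 (ι z) hz).hom.toAlgebra
  haveI : IsLocalization.AtPrime S (U₀.2.primeIdealOf ⟨ι z, hz⟩).asIdeal :=
    U₀.2.isLocalization_stalk ⟨ι z, hz⟩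
  haveI : IsNoetherianRing Γ(P, U₀.1) := IsLocallyNoetherian.component_noetherian U₀
  let xs : List S := (List.ofFn g).map (algebraMap Γ(P, U₀.1) S)
  have hspan : RingHom.ker (ι.stalkMap z).hom = Ideal.ofList xs := by
    rw [RegImm38.ker_stalkMap_eq_map ι U₀.2 z hz, ← hker0, hg, ← Ideal.map_ofList]
    congr 1
    rw [Ideal.ofList]
    congr 1
    ext
    simp
    rfl
  have hI : Ideal.ofList xs ≤ IsLocalRing.maximalIdeal S :=
    hspan ▸ IsLocalRing.le_maximalIdeal (RingHom.ker_ne_top _)
  have hreg : RingTheory.Sequence.IsWeaklyRegular S xs := by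
    refine (S14425.result (M := S) xs fun x hx => hI (Ideal.subset_span hx)).mp ?_
    have hcm : LocCoh.IsCohenMacaulayModule S S :=
      (Depth.isCohenMacaulayLocalRing_of_isRegularLocalRing (R := S)).supportDim_eq_depth
    have h := Depth.supportDim_eq_supportDim_quotient_add_idealDepth (M := S) hI hcm
    rw [Module.supportDim_self_eq_ringKrullDim, Ideal.smul_eq_mul, Ideal.mul_top] at h
    have hB : Module.supportDim S (S ⧸ Ideal.ofList xs) = ringKrullDim (X.presheaf.stalk z) := by
      rw [Module.supportDim_quotient_eq_ringKrullDim]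
      refine ringKrullDim_eq_of_ringEquiv ?_
      exact (Ideal.quotientEquivAlgOfEq ℤ hspan.symm).toRingEquiv.trans
        (RingHom.quotientKerEquivOfSurjective (ι.stalkMap_surjective z))
    rw [hB] at h
    obtain ⟨a, ha, -⟩ := RegLoc.exists_natCast_eq_ringKrullDim S
    have hpush := DualAbs.ringKrullDim_push_eq ι (Nat.sub_le N r) heq z
    rw [show N - (N - r) = r by omega] at hpush
    have hd := hpush.trans h
    have hA : ringKrullDim S = a := ha
    change ringKrullDim (X.presheaf.stalk z) + _ = ringKrullDim S at hpush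
    rw [hA] at hpush
    change LocCoh.idealDepth (Ideal.ofList xs) S = _
    rw [show xs.length = r by simp [xs]]
    revert hd hpush
    generalize LocCoh.idealDepth (Ideal.ofList xs) S = e
    cases hb : ringKrullDim (X.presheaf.stalk z) with
    | bot => simp
    | coe b =>
      intro hd hpush
      norm_cast at hd hpush
      have hbfin : b ≠ ⊤ := by rintro rfl; simp at hpush
      exact ((WithTop.add_left_cancel hbfin) hd).symm
  obtain ⟨f, hfp, hf⟩ := RegImm38.exists_away_aux (U₀.2.primeIdealOf ⟨ι z, hz⟩).asIdeal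
    (List.ofFn g) Γ(P, U₀.1)
    ((RegImm38.isWeaklyRegular_iff_localizedModule _ S (List.ofFn g)).mp hreg)
  let U : P.affineOpens := P.affineBasicOpen f
  have hyU : ι z ∈ U.1 := (RegImm44.mem_basicOpen_iff U₀.2 ⟨ι z, hz⟩ f).mpr hfp
  letI : Algebra Γ(P, U₀.1) Γ(P, U.1) := (P.presheaf.map (homOfLE (P.basicOpen_le f)).op).hom.toAlgebra
  haveI : IsLocalization.Away f Γ(P, U.1) := U₀.2.isLocalization_basicOpen f
  haveI : IsClosedImmersion (ι ∣_ U.1) := inferInstance
  have hregU : RingTheory.Sequence.IsWeaklyRegular Γ(P, U.1) ((List.ofFn g).map (algebraMap Γ(P, U₀.1) Γ(P, U.1))) := by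
    rw [RegImm38.isWeaklyRegular_iff_localizedModule (Submonoid.powers f) Γ(P, U.1)]
    exact hf _ (IsLocalization.Away.algebraMap_isUnit f)
  have hkU : RingHom.ker (ι.app U.1).hom =
      Ideal.ofList ((List.ofFn g).map (algebraMap Γ(P, U₀.1) Γ(P, U.1))) := by
    rw [← Scheme.Hom.ker_apply ι U, ← ι.ker.map_ideal_basicOpen U₀ f, hg, ← Ideal.map_ofList]
    congr 1
    rw [Ideal.ofList]
    congr 1
    ext
    simp
    rfl
  refine ⟨U, hyU, inferInstance, _, by simp, ⟨hregU, fun htop => ?_⟩, hkU⟩
  have h1 := RegImm44.ker_le_primeIdealOf ι U.2 z hyU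
  rw [hkU] at h1
  rw [Ideal.smul_top_eq_map] at htop
  exact (U.2.primeIdealOf ⟨ι z, hyU⟩).isPrime.ne_top
    (top_le_iff.mp ((by simpa using htop.le : (⊤ : Ideal Γ(P, U.1)) ≤ Ideal.ofList _).trans h1))

end Groth.Agent.S11325

namespace Groth.Agent.S11325

/-- Let k be a field, P = P^N_k and ι : X → P a closed immersion which makes X a local complete
intersection of codimension r in P: every irreducible component of X has dimension N - r, and every
point of X has an affine open neighbourhood U in P on which the ideal of X is generated by r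
sections. Let C be an r-th exterior power of the conormal sheaf of X in P (a locally free O_X-module
of rank one; its internal Hom functor is assumed to exist, which it does) and put M = ι^* O_P(-N-1)
⊗ Hom_{O_X}(C, O_X), that is ω_P ⊗ (∧^r of the conormal sheaf)^∨. Then M is a dualizing sheaf for X:
with n = N - r there is a k-linear map t : H^n(X, M) → k such that for every coherent O_X-module F
and every k-linear form ψ on H^n(X, F) there is exactly one morphism φ : F → M with ψ = t ∘ H^n(φ).
(The published statement says that the dualizing sheaf of X is isomorphic to M, and in particular is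
invertible; by uniqueness of dualizing sheaves this is the same assertion.) -/
theorem result
    (k : Type u) [Field k] (N r : ℕ) (hr : r ≤ N) (X : Scheme.{u}) [X.Over (Spec (CommRingCat.of k))]
    (ι : X ⟶ CohB1.ProjSpace N k) [IsClosedImmersion ι] (hι : ι ≫ CohB1.ProjSpace.toSpec N k = X ↘ Spec (CommRingCat.of k))
    (heq : ∀ Z : Set ↥X, Z ∈ irreducibleComponents ↥X → topologicalKrullDim ↥Z = ((N - r : ℕ) : WithBot ℕ∞))
    (hgen : ∀ x : X, ∃ U : (CohB1.ProjSpace N k).affineOpens, ι.base x ∈ (U : (CohB1.ProjSpace N k).Opens) ∧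
      ∃ f : Fin r → Γ(CohB1.ProjSpace N k, (U : (CohB1.ProjSpace N k).Opens)), ι.ker.ideal U = Ideal.span (Set.range f))
    (C : X.Modules) (hC : ExtPow.IsExtPow r (Omega.conormal ι) C) [DCoh.HasSheafHom C] :
    ∃ t : Coh.HH X (CohB1.tensorMod ((Scheme.Modules.pullback ι).obj (Twist.twistProjSpace N k (-((N : ℤ) + 1))))
        ((DCoh.sheafHom C).obj (Coh.structureModule X))) (N - r) →ₗ[k] k,
      ∀ F : X.Modules, Coh.IsCoh F → ∀ ψ : Coh.HH X F (N - r) →ₗ[k] k,
        ∃! φ : F ⟶ (CohB1.tensorMod ((Scheme.Modules.pullback ι).obj (Twist.twistProjSpace N k (-((N : ℤ) + 1)))) ((DCoh.sheafHom C).obj (Coh.structureModule X))), ∀ x : Coh.HH X F (N - r),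
          ψ x = t (Sheaf.H.map ((SheafOfModules.toSheaf X.ringCatSheaf).map φ) (N - r) x) := by
  haveI : IsLocallyNoetherian (CohB1.ProjSpace N k) := SerrePn.isLocallyNoetherian (n := N) (R := k)
  haveI := LocallyOfFiniteType.isLocallyNoetherian ι
  haveI : ModSite.HasSheafHom (O := (CohB1.ProjSpace N k).sheaf)
      ((Scheme.Modules.pushforward ι).obj (Coh.structureModule X)) := KFlat.hasSheafHom _ _
  haveI : EnoughInjectives (ModSite.Mod (CohB1.ProjSpace N k).sheaf) := GrothSS.Main.enoughInjectives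
  haveI : HasInjectiveResolutions (ModSite.Mod (CohB1.ProjSpace N k).sheaf) := inferInstance
  haveI : ModSite.HasSheafHom (O := X.sheaf) C := KFlat.hasSheafHom X.sheaf C
  have hreg := isRegularImmersionOfCodim hr ι heq hgen
  have hcon : Coh.IsCoh (Omega.conormal ι) := by
    haveI : (Omega.conormal ι).IsQuasicoherent := inferInstance
    have : Mono (ClSub.idealModι ι.ker) := inferInstanceAs (Mono (kernel.ι _))
    exact ZClosLib.CohDescent.isCoh_pullback ι _
      (CohDev.isCoh_of_mono (ClSub.idealModι ι.ker) (AmpleLib.isQCoh_idealMod _) HomShQC.isCoh_structureModule)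
  have hCi : PicF.IsInvertible C := DualAbs.SmoothImm.isInvertible_top hcon hC fun y => by
    obtain ⟨c, hy⟩ := KosZig.exists_chart ι hreg y
    obtain ⟨b, -⟩ := c.exists_basis ι hy
    exact ⟨b⟩
  obtain ⟨M, -, ⟨m⟩⟩ := PicLaw.exists_inverse hCi
  let m' : CohB1.tensorMod M C ≅ Coh.structureModule X := ChgRings.commIso M C ≪≫ m
  let T := Twist.twistProjSpace N k (-((N : ℤ) + 1))
  let G := (Scheme.Modules.pullback ι).obj T
  obtain ⟨h1⟩ := DualAbs.SmoothImm.nonempty_modSheafHom_invertible C M m' G
  obtain ⟨h2⟩ := DualAbs.nonempty_sheafHom_invertible C M m' (Coh.structureModule X)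
  have hT : Coh.IsQCoh T := (SerrePn.isCoh_twist _).1
  obtain ⟨e⟩ := S11905.result (CohB1.ProjSpace N k) X ι r hreg T hT C hC
  refine S11903.result k N (N - r) (Nat.sub_le N r) X ι hι heq _ ⟨?_⟩
  rw [show N - (N - r) = r by omega]
  refine (Scheme.Modules.pushforward ι).mapIso ?_ ≪≫ e.symm
  let c1 : CohB1.tensorMod M (Coh.structureModule X) ≅ CohB1.tensorMod (Coh.structureModule X) M :=
    ChgRings.commIso M (Coh.structureModule X)
  let c2 : CohB1.tensorMod G M ≅ CohB1.tensorMod M G := ChgRings.commIso G M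
  exact ((DCoh.tensorBi (X := X)).obj G).mapIso
      (h2 ≪≫ c1 ≪≫ SerrePn.unitTensorNatIso.app M) ≪≫ c2 ≪≫ h1.symm

end Groth.Agent.S11325
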