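import Groth.Statements.S11330
import Groth.Agent.FFCurve.GlobGen

set_option autoImplicit false
universe u
open CategoryTheory CategoryTheory.Limits AlgebraicGeometry
open Curves FunFld
set_option linter.style.haveILetI false
set_option backward.isDefEq.respectTransparency.types false

namespace Groth.Agent.S11330

/-- Let k be an algebraically closed field and X a curve over k (an integral scheme, proper over k, of
dimension one, with all local rings regular), and L an invertible O_X-module. Then L is generated by
its global sections (a quotient of a free O_X-module) if and only if for every closed point P of X,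
with ideal sheaf I_P ⊆ O_X, dim_k H^0(X, L ⊗ I_P) = dim_k H^0(X, L) - 1. -/
theorem result (k : Type u) [Field k] [IsAlgClosed k] (X : Scheme.{u}) [X.Over (Spec (CommRingCat.of k))]
    [IsIntegral X] [IsProper (X ↘ (Spec (CommRingCat.of k)))] (hdim : topologicalKrullDim X = 1)
    (hreg : ∀ x : X, IsRegularLocalRing (X.presheaf.stalk x)) (L : X.Modules) (hL : PicF.IsInvertible L) :
    Curv2.IsGloballyGenerated L ↔
      ∀ (P : X) (hP : IsClosed ({P} : Set X)),
        Module.finrank k (Coh.HH X (CohB1.tensorMod L (ClSub.idealMod (Scheme.IdealSheafData.vanishingIdeal ⟨{P}, hP⟩))) 0) + 1 = Module.finrank k (Coh.HH X L 0) := by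
  haveI := Groth.Agent.FFCurve.regCurve_of_regular k hdim hreg
  have hF := Groth.Agent.FFCurve.isFunctionField_of_isAlgClosed (X := X) k hdim
  have key : ∀ x : ZetaLib.ClosedPt X,
      (∃ z : X.functionField, z ∈ FunFld.L (FFCurve.divOf k hdim hL) ∧
        (FFCurve.toPlace k hdim x).1 z = WithZero.exp (FFCurve.divOf k hdim hL (FFCurve.toPlace k hdim x))) ↔
      Module.finrank k (Coh.HH X (CohB1.tensorMod L (ClSub.idealMod (FFCurve.pointI x))) 0) + 1 =
        Module.finrank k (Coh.HH X L 0) := by
    intro x
    have hI := FFCurve.isInvertible_pointI k hdim x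
    have hLI := AmpleLib.isInvertible_tensorMod hL hI
    have hd : FFCurve.DivEq k (FFCurve.divOf k hdim hLI)
        (FFCurve.divOf k hdim hL + -Finsupp.single (FFCurve.toPlace k hdim x) 1) :=
      FFCurve.DivEq.trans' k hdim (FFCurve.divEq_tensor k hdim hL hI)
        (FFCurve.DivEq.add' k hdim (FFCurve.divEq_refl k hdim _) (FFCurve.divEq_pointI k hdim x))
    rw [FFCurve.finrank_zero k hdim hF hL, FFCurve.finrank_zero k hdim hF hLI,
      FFCurve.DivEq.ell_eq k hdim hd, ← sub_eq_add_neg, ← FF.ell_lt_iff_exists hF]
    have h := FF.ell_sub_single_le hF (FFCurve.divOf k hdim hL) (FFCurve.toPlace k hdim x)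
    rw [FF.deg_eq_one hF] at h
    omega
  rw [FFCurve.isGloballyGenerated_iff k hdim hL]
  exact ⟨fun h P hP => (key ⟨P, hP⟩).1 (h _), fun h x => (key x).2 (h x.1 x.2)⟩

end Groth.Agent.S11330
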