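import Groth.Statements.S11331
import Groth.Agent.FFCurve.CanonicalEmbed

set_option linter.style.haveILetI false
set_option backward.isDefEq.respectTransparency false
set_option backward.isDefEq.respectTransparency.types false

set_option autoImplicit false
universe u
open CategoryTheory CategoryTheory.Limits AlgebraicGeometry
open Curves

namespace Groth.Agent.S11331

/-- Let k be an algebraically closed field and X a curve over k (an integral scheme, proper over k, of
dimension one, with all local rings regular), and L an invertible O_X-module. Then L is very ample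
(isomorphic to the pullback of O(1) along some closed immersion of X into a projective space P^n_k
over k) if and only if for every two closed points P, Q of X, possibly equal, with ideal sheaves
I_P, I_Q ⊆ O_X, dim_k H^0(X, L ⊗ I_P ⊗ I_Q) = dim_k H^0(X, L) - 2. -/
theorem result (k : Type u) [Field k] [IsAlgClosed k] (X : Scheme.{u}) [X.Over (Spec (CommRingCat.of k))]
    [IsIntegral X] [IsProper (X ↘ (Spec (CommRingCat.of k)))] (hdim : topologicalKrullDim X = 1)
    (hreg : ∀ x : X, IsRegularLocalRing (X.presheaf.stalk x)) (L : X.Modules) (hL : PicF.IsInvertible L) :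
    (∃ (n : ℕ) (i : X ⟶ CohB1.ProjSpace n k), IsClosedImmersion i ∧ i ≫ CohB1.ProjSpace.toSpec n k = (X ↘ (Spec (CommRingCat.of k))) ∧
        Nonempty ((Scheme.Modules.pullback i).obj (Twist.twistProjSpace n k 1) ≅ L)) ↔
      ∀ (P Q : X) (hP : IsClosed ({P} : Set X)) (hQ : IsClosed ({Q} : Set X)),
        Module.finrank k (Coh.HH X (CohB1.tensorMod L (CohB1.tensorMod (ClSub.idealMod (Scheme.IdealSheafData.vanishingIdeal ⟨{P}, hP⟩)) (ClSub.idealMod (Scheme.IdealSheafData.vanishingIdeal ⟨{Q}, hQ⟩)))) 0) + 2 = Module.finrank k (Coh.HH X L 0) := by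
  haveI := FFCurve.regCurve_of_regular k hdim hreg
  have hK := FFCurve.isFunctionField_of_isAlgClosed (X := X) k hdim
  set D := FFCurve.divOf k hdim hL
  -- the sections of the twist by two points
  have hh : ∀ x y : ZetaLib.ClosedPt X,
      Module.finrank k (Coh.HH X (CohB1.tensorMod L (CohB1.tensorMod (ClSub.idealMod (FFCurve.pointI x))
        (ClSub.idealMod (FFCurve.pointI y)))) 0) =
      FunFld.ell (D - Finsupp.single (FFCurve.toPlace k hdim x) 1 -
        Finsupp.single (FFCurve.toPlace k hdim y) 1) := by
    intro x y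
    have hx := FFCurve.isInvertible_pointI k hdim x
    have hy := FFCurve.isInvertible_pointI k hdim y
    have hxy := AmpleLib.isInvertible_tensorMod hx hy
    rw [FFCurve.finrank_zero k hdim hK (AmpleLib.isInvertible_tensorMod hL hxy)]
    refine FFCurve.DivEq.ell_eq k hdim ?_
    rw [sub_sub, sub_eq_add_neg, neg_add]
    exact FFCurve.DivEq.trans' k hdim (FFCurve.divEq_tensor k hdim hL hxy)
      (FFCurve.DivEq.add' k hdim (FFCurve.divEq_refl k hdim _)
        (FFCurve.DivEq.trans' k hdim (FFCurve.divEq_tensor k hdim hx hy)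
          (FFCurve.DivEq.add' k hdim (FFCurve.divEq_pointI k hdim x) (FFCurve.divEq_pointI k hdim y))))
  constructor
  · rintro ⟨n, i, hi, hi', ⟨τ⟩⟩ P Q hP hQ
    haveI := hi
    have hs := FFCurve.isSep_of_veryAmple k hdim hL i hi' τ
    rw [FFCurve.finrank_zero k hdim hK hL]
    exact (congrArg (· + 2) (hh ⟨P, hP⟩ ⟨Q, hQ⟩)).trans (hs _ _)
  · intro h
    refine FFCurve.exists_closedImmersion_of_isSep k hdim hL fun P Q => ?_
    obtain ⟨x, rfl⟩ := (FFCurve.placeEquiv k hdim).surjective P
    obtain ⟨y, rfl⟩ := (FFCurve.placeEquiv k hdim).surjective Q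
    refine (congrArg (· + 2) (hh x y)).symm.trans ?_
    refine (h x.1 y.1 x.2 y.2).trans ?_
    exact FFCurve.finrank_zero k hdim hK hL

end Groth.Agent.S11331
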