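import Groth.Statements.S11333
import Groth.Agent.FFCurve.InsepTwist
import Groth.Agent.FFCurve.Smooth

set_option linter.style.haveILetI false
set_option backward.isDefEq.respectTransparency false
set_option backward.isDefEq.respectTransparency.types false
set_option maxHeartbeats 1000000

set_option autoImplicit false
universe u
open CategoryTheory CategoryTheory.Limits AlgebraicGeometry
open Curves

namespace Groth.Agent.S11333

open Groth.Agent

/-- Let f : X → Y be a finite morphism over k of curves over an algebraically closed field k (integral,
proper over k, of dimension one, all local rings regular), sending the generic point of X to that of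
Y, such that the function field extension K(X)/K(Y) is purely inseparable. Then X and Y are
isomorphic as schemes (the isomorphism need not be compatible with the k-structures; existence of an
isomorphism only). -/
theorem result (k : Type u) [Field k] [IsAlgClosed k] (X : Scheme.{u}) [X.Over (Spec (CommRingCat.of k))]
    [IsIntegral X] [IsProper (X ↘ (Spec (CommRingCat.of k)))] (hdimX : topologicalKrullDim X = 1)
    (hregX : ∀ x : X, IsRegularLocalRing (X.presheaf.stalk x))
    (Y : Scheme.{u}) [Y.Over (Spec (CommRingCat.of k))]
    [IsIntegral Y] [IsProper (Y ↘ (Spec (CommRingCat.of k)))] (hdimY : topologicalKrullDim Y = 1)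
    (hregY : ∀ x : Y, IsRegularLocalRing (Y.presheaf.stalk x))
    (f : X ⟶ Y) [IsFinite f] (hf : f ≫ (Y ↘ (Spec (CommRingCat.of k))) = X ↘ (Spec (CommRingCat.of k)))
    (e : f (genericPoint X) = genericPoint Y) :
    letI := ((Y.presheaf.stalkSpecializes (specializes_of_eq e) ≫ f.stalkMap (genericPoint X)).hom).toAlgebra
    IsPurelyInseparable Y.functionField X.functionField → Nonempty (X ≅ Y) := by
  intro hpi
  haveI := FFCurve.smooth_of_regular (X ↘ Spec (CommRingCat.of k)) hregX
  haveI := FFCurve.regCurve_of_regular (X := X) k hdimX hregX
  haveI := FFCurve.regCurve_of_regular (X := Y) k hdimY hregY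
  obtain ⟨p, hk⟩ := ExpChar.exists k
  haveI := hk
  haveI : ExpChar X.functionField p :=
    expChar_of_injective_ringHom (algebraMap k X.functionField).injective p
  -- the image of the function field of `Y`
  set ψ : Y.functionField ⟶ X.functionField :=
    Y.presheaf.stalkSpecializes (specializes_of_eq e) ≫ f.stalkMap (genericPoint X) with hψdef
  have hψ : Spec.map ψ ≫ Y.fromSpecStalk (genericPoint Y) = X.fromSpecStalk (genericPoint X) ≫ f := by
    rw [hψdef, Spec.map_comp, Category.assoc, Scheme.SpecMap_stalkSpecializes_fromSpecStalk,
      Scheme.SpecMap_stalkMap_fromSpecStalk]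
  have hψk : ∀ c : k, ψ.hom (algebraMap k Y.functionField c) = algebraMap k X.functionField c := by
    intro c
    have h : CommRingCat.ofHom (algebraMap k Y.functionField) ≫ ψ =
        CommRingCat.ofHom (algebraMap k X.functionField) := by
      apply Spec.map_injective
      have h2 : Y.fromSpecStalk (genericPoint Y) ≫ (Y ↘ Spec (CommRingCat.of k)) =
          Spec.map (CommRingCat.ofHom (algebraMap k Y.functionField)) := FFCurve.fromSpecStalk_str (X := Y) k
      have h3 : X.fromSpecStalk (genericPoint X) ≫ (X ↘ Spec (CommRingCat.of k)) =
          Spec.map (CommRingCat.ofHom (algebraMap k X.functionField)) := FFCurve.fromSpecStalk_str (X := X) k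
      rw [Spec.map_comp]
      refine (congrArg (fun m => Spec.map ψ ≫ m) h2.symm).trans ?_
      rw [← Category.assoc, hψ, Category.assoc, hf]
      exact h3
    have h2 := RingHom.congr_fun (congrArg CommRingCat.Hom.hom h) c
    rw [CommRingCat.hom_comp, RingHom.comp_apply, CommRingCat.hom_ofHom, CommRingCat.hom_ofHom] at h2
    exact h2
  let Ψ : Y.functionField →ₐ[k] X.functionField := { ψ.hom with commutes' := hψk }
  set L := Ψ.fieldRange
  let eL : Y.functionField ≃ₐ[k] L :=
    AlgEquiv.ofBijective Ψ.rangeRestrict ⟨fun a b h => Ψ.toRingHom.injective (congrArg Subtype.val h),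
      Ψ.rangeRestrict_surjective⟩
  haveI : IsPurelyInseparable L X.functionField := by
    letI := ψ.hom.toAlgebra
    haveI : IsPurelyInseparable Y.functionField X.functionField := hpi
    haveI : ExpChar Y.functionField p := expChar_of_injective_ringHom (algebraMap k Y.functionField).injective p
    haveI : ExpChar L p := expChar_of_injective_ringHom (algebraMap k L).injective p
    rw [isPurelyInseparable_iff_pow_mem L p]
    intro z
    obtain ⟨n, y, hy⟩ := IsPurelyInseparable.pow_mem Y.functionField p z
    exact ⟨n, ⟨eL y, hy⟩⟩
  rcases expChar_is_prime_or_one k p with hp | hp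
  · haveI : Fact p.Prime := ⟨hp⟩
    -- a separating variable
    obtain ⟨hfs, hess⟩ := FFCurve.formallySmooth_functionField (X := X) k
    have h1 := FFCurve.finrank_kaehler_functionField (X := X) k hdimX
    obtain ⟨x, hx⟩ : ∃ x : X.functionField, KaehlerDifferential.D k X.functionField x ≠ 0 := by
      by_contra! h0
      haveI : Subsingleton Ω[X.functionField⁄k] := subsingleton_of_forall_eq 0 fun w => by
        have hw : w ∈ (⊥ : Submodule X.functionField Ω[X.functionField⁄k]) := by
          have : Submodule.span X.functionField (Set.range (KaehlerDifferential.D k X.functionField)) ≤ ⊥ := by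
            rw [Submodule.span_le]; rintro _ ⟨z, rfl⟩; exact (Submodule.mem_bot _).2 (h0 z)
          exact this (by rw [KaehlerDifferential.span_range_derivation]; trivial)
        exact (Submodule.mem_bot _).1 hw
      rw [Module.finrank_zero_of_subsingleton] at h1
      exact zero_ne_one h1
    set kx := IntermediateField.adjoin k ({x} : Set X.functionField)
    haveI : Subsingleton Ω[X.functionField⁄kx] := by
      refine subsingleton_of_forall_eq 0 fun y => ?_
      obtain ⟨z, rfl⟩ := KaehlerDifferential.map_surjective k kx X.functionField y
      obtain ⟨a, rfl⟩ := exists_smul_eq_of_finrank_eq_one h1 hx z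
      rw [map_smul, KaehlerDifferential.map_D]
      rw [show KaehlerDifferential.D kx X.functionField (algebraMap X.functionField X.functionField x) = 0 from
        (Derivation.map_algebraMap _ (⟨x, IntermediateField.mem_adjoin_simple_self k x⟩ : kx)), smul_zero]
    haveI : Algebra.FormallyUnramified kx X.functionField := ⟨inferInstance⟩
    haveI : Algebra.EssFiniteType kx X.functionField := Algebra.EssFiniteType.of_comp k kx X.functionField
    haveI : Algebra.IsSeparable kx X.functionField := Algebra.FormallyUnramified.isSeparable _ _
    haveI : FiniteDimensional L X.functionField := by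
      obtain ⟨t, ht⟩ := FFCurve.exists_transcendental (X := Y) k hdimY
      have ht' : Transcendental k (Ψ t) := fun h => ht ((isAlgebraic_algHom_iff Ψ Ψ.toRingHom.injective).1 h)
      haveI := FFCurve.isFF_of_transc (X := X) k (FFCurve.hv (X := X) k hdimX) hdimX ht'
      have hle : IntermediateField.adjoin k ({Ψ t} : Set X.functionField) ≤ L :=
        IntermediateField.adjoin_simple_le_iff.2 ⟨t, rfl⟩
      letI : Algebra (IntermediateField.adjoin k ({Ψ t} : Set X.functionField)) L :=
        (IntermediateField.inclusion hle).toRingHom.toAlgebra
      haveI : IsScalarTower (IntermediateField.adjoin k ({Ψ t} : Set X.functionField)) L X.functionField :=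
        IsScalarTower.of_algebraMap_eq fun _ => rfl
      exact Module.Finite.of_restrictScalars_finite (IntermediateField.adjoin k ({Ψ t} : Set X.functionField)) _ _
    obtain ⟨r, hr⟩ := FFCurve.InsepTwist.exists_eq_adjoin_pow p (x := x) L
    obtain ⟨hint, hreg', hpr, ⟨eM⟩⟩ := FFCurve.InsepTwist.exists_functionField_twist (X := X) k p r hdimX
    haveI := hint
    haveI := hreg'
    letI : (FFCurve.InsepTwist.twist k X p r).Over (Spec (CommRingCat.of k)) :=
      ⟨pullback.snd (X ↘ Spec (CommRingCat.of k)) (Spec.map (CommRingCat.ofHom (iterateFrobenius k p r)))⟩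
    haveI := hpr
    obtain ⟨j, -⟩ := FFCurve.InsepTwist.exists_iso (X := FFCurve.InsepTwist.twist k X p r) (Y := Y) k
      (eL.trans ((IntermediateField.equivOfEq hr).trans eM.symm))
    haveI : PerfectRing k p := PerfectField.toPerfectRing p
    haveI : IsIso (CommRingCat.ofHom (iterateFrobenius k p r)) :=
      (ConcreteCategory.isIso_iff_bijective _).2 (bijective_iterateFrobenius k p r)
    haveI : IsIso (Spec.map (CommRingCat.ofHom (iterateFrobenius k p r))) := inferInstance
    haveI : IsIso (pullback.fst (X ↘ Spec (CommRingCat.of k)) (Spec.map (CommRingCat.ofHom (iterateFrobenius k p r)))) :=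
      inferInstance
    exact ⟨(j ≪≫ asIso (pullback.fst (X ↘ Spec (CommRingCat.of k)) (Spec.map (CommRingCat.ofHom (iterateFrobenius k p r))))).symm⟩
  · have htop : Function.Surjective Ψ := by
      intro z
      haveI : ExpChar L p := expChar_of_injective_ringHom (algebraMap k L).injective p
      obtain ⟨n, w, hw⟩ := (isPurelyInseparable_iff_pow_mem L p).1 inferInstance z
      rw [hp, one_pow, pow_one] at hw
      obtain ⟨v, hv⟩ := w.2
      exact ⟨v, hv.trans hw⟩
    obtain ⟨j, -⟩ := FFCurve.InsepTwist.exists_iso (X := X) (Y := Y) k
      (AlgEquiv.ofBijective Ψ ⟨Ψ.toRingHom.injective, htop⟩)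
    exact ⟨j.symm⟩

end Groth.Agent.S11333
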