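import Groth.Statements.S11335
import Groth.Agent.FFCurve.CanonicalEmbed

set_option linter.style.haveILetI false
set_option backward.isDefEq.respectTransparency false
set_option backward.isDefEq.respectTransparency.types false

set_option autoImplicit false
universe u
open CategoryTheory CategoryTheory.Limits AlgebraicGeometry
open Curves

namespace Groth.Agent.S11335

/-- Let k be an algebraically closed field and X a curve over k (an integral scheme, proper over k, of
dimension one, with all local rings regular), of genus g ≥ 2. Then the canonical sheaf Ω_{X/k} is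
very ample (isomorphic to the pullback of O(1) along a closed immersion into some P^n_k over k)
exactly when X carries no g^1_2 (X is not hyperelliptic), a g^1_2 being an invertible module of
degree 2 together with two k-linearly independent global sections. -/
theorem result (k : Type u) [Field k] [IsAlgClosed k] (X : Scheme.{u}) [X.Over (Spec (CommRingCat.of k))]
    [IsIntegral X] [IsProper (X ↘ (Spec (CommRingCat.of k)))] (hdim : topologicalKrullDim X = 1)
    (hreg : ∀ x : X, IsRegularLocalRing (X.presheaf.stalk x)) (hg : 2 ≤ Curv2.genus k X) :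
    (∃ (n : ℕ) (i : X ⟶ CohB1.ProjSpace n k), IsClosedImmersion i ∧ i ≫ CohB1.ProjSpace.toSpec n k = (X ↘ (Spec (CommRingCat.of k))) ∧
        Nonempty ((Scheme.Modules.pullback i).obj (Twist.twistProjSpace n k 1) ≅ (Omega.sheaf (X ↘ (Spec (CommRingCat.of k)))))) ↔
      ¬ (∃ (M : X.Modules) (s : Fin 2 → LinSer.Sect X M), LinSer.IsLinSer k X M 2 1 s) := by
  haveI := FFCurve.regCurve_of_regular k hdim hreg
  haveI : Smooth (X ↘ Spec (CommRingCat.of k)) := FFCurve.smooth_of_regular _ hreg
  rw [FFCurve.omega_veryAmple_iff k hdim hg, not_iff_not]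
  constructor
  · rintro ⟨M, hM, hd, hh⟩
    haveI := EulerChar.finite_HH k M (VBLib.isCoh_of_ofRank (ProjTwist.isFinLocFreeOfRank_one hM)) 0
    let b := Module.finBasisOfFinrankEq k (Coh.HH X M 0) hh
    let e := ProperFin.h0Sec M
    refine ⟨M, fun i => e (b i), hM, by rw [hd]; rfl, fun c hc => ?_⟩
    have key : e (∑ i, c i • b i) = e 0 := by
      rw [map_sum, map_zero]
      refine Eq.trans ?_ hc
      exact Finset.sum_congr rfl fun i _ =>
        ProperFin.h0Sec_smul M (Coh.toGlobal (X ↘ Spec (CommRingCat.of k)) (c i)) (b i)
    exact funext (Fintype.linearIndependent_iff.1 b.linearIndependent c (e.injective key))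
  · rintro ⟨M, s, hM, hd, hli⟩
    refine ⟨M, hM, by rw [hd]; rfl, ?_⟩
    haveI := EulerChar.finite_HH k M (VBLib.isCoh_of_ofRank (ProjTwist.isFinLocFreeOfRank_one hM)) 0
    have h2 : 2 ≤ Module.finrank k (Coh.HH X M 0) := by
      have hv : LinearIndependent k fun i => (ProperFin.h0Sec M).symm (s i) :=
        Fintype.linearIndependent_iff.2 fun c hc i => by
          refine congrFun (hli c ?_) i
          have h := congrArg (ProperFin.h0Sec M) hc
          rw [map_sum, map_zero] at h
          refine Eq.trans ?_ h
          refine Finset.sum_congr rfl fun j _ => ?_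
          refine Eq.trans ?_ (ProperFin.h0Sec_smul M (Coh.toGlobal (X ↘ Spec (CommRingCat.of k)) (c j)) _).symm
          rw [AddEquiv.apply_symm_apply]
      simpa using hv.fintype_card_le_finrank
    have h3 := FFCurve.h0_le_deg k hdim (by omega) hM (by rw [hd]; norm_num)
    rw [hd] at h3
    push_cast at h3
    omega

end Groth.Agent.S11335
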