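import Groth.Statements.S11336
import Groth.Agent.FFCurve.Canonical
import Groth.Agent.PicLaw.Swap
import Groth.Agent.FFCurve.Special

set_option autoImplicit false
universe u
open CategoryTheory CategoryTheory.Limits AlgebraicGeometry
open Curves

namespace Groth.Agent.S11336

/-- Let k be an algebraically closed field and X a curve over k (an integral scheme, proper over k, of
dimension one, with all local rings regular), and L an invertible O_X-module with an inverse M (L ⊗
M ≅ O_X) such that H^0(X, L) ≠ 0 and H^0(X, Ω_{X/k} ⊗ M) ≠ 0 (L comes from an effective special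
divisor D). Then dim |D| ≤ deg D / 2, i.e. 2 (dim_k H^0(X, L) - 1) ≤ deg L, with deg L = χ(L) -
χ(O_X). -/
theorem result (k : Type u) [Field k] [IsAlgClosed k] (X : Scheme.{u}) [X.Over (Spec (CommRingCat.of k))]
    [IsIntegral X] [IsProper (X ↘ (Spec (CommRingCat.of k)))] (hdim : topologicalKrullDim X = 1)
    (hreg : ∀ x : X, IsRegularLocalRing (X.presheaf.stalk x))
    (L M : X.Modules) (hL : PicF.IsInvertible L) (hM : ClSub.IsInverseOf L M)
    (hs : Nontrivial (Coh.HH X L 0)) (hsp : Nontrivial (Coh.HH X (CohB1.tensorMod (Omega.sheaf (X ↘ (Spec (CommRingCat.of k)))) M) 0)) :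
    2 * (Module.finrank k (Coh.HH X L 0) : ℤ) ≤ Curv2.deg k X L 1 + 2 := by
  haveI := Groth.Agent.FFCurve.smooth_of_regular (X ↘ Spec (CommRingCat.of k)) hreg
  haveI := Groth.Agent.FFCurve.regCurve_of_regular k hdim hreg
  have hK := Groth.Agent.FFCurve.isFunctionField_of_isAlgClosed (X := X) k hdim
  obtain ⟨e⟩ := hM
  have hMi : PicF.IsInvertible M := Groth.Agent.PicLaw.isInvertible_of_tensor_left hL
    (Groth.Agent.PicCl.isInvertible_of_iso e.symm Groth.Agent.FFCurve.isInvertible_structureModule)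
  have hΩ := Groth.Agent.FFCurve.isInvertible_omega (X := X) k hdim
  have hΩM := Groth.Agent.AmpleLib.isInvertible_tensorMod hΩ hMi
  have hC := Groth.Agent.FFCurve.isCanonical_omega (X := X) k hdim
  have hrr := Groth.Agent.FF.riemann_roch hK hC (Groth.Agent.FFCurve.divOf k hdim hL)
  have h1 := Groth.Agent.FFCurve.finrank_one k hdim hK hL
  rw [Groth.Agent.FFCurve.finrank_one_eq_dual k hdim hL ⟨e⟩ hMi] at h1
  have hpos : ∀ {N : X.Modules} (hN : PicF.IsInvertible N), Nontrivial (Coh.HH X N 0) →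
      0 < Module.finrank k (Coh.HH X N 0) := fun {N} hN h => by
    haveI := h
    haveI := Groth.Agent.CurveCoh.finite_HH_zero (k := k) N (Groth.Agent.FFCurve.hv k hdim) hdim
      ⟨Groth.Agent.ProjTwist.isQCoh_of_isInvertible hN,
        (Groth.Agent.VBLib.isCoh_of_ofRank (Groth.Agent.VBLib.ofRank_one_of_invertible hN)).2⟩
    exact Module.finrank_pos
  have hp1 := hpos hL hs
  have hp2 := hpos hΩM hsp
  rw [Groth.Agent.FFCurve.finrank_zero k hdim hK hL] at hp1 ⊢
  rw [Groth.Agent.FFCurve.deg_eq k hdim hK hL]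
  have hd := Groth.Agent.FF.deg_canonical hK hC
  have hn1 : 0 ≤ (Groth.Agent.FFCurve.divOf k hdim hL).deg := by
    by_contra h
    rw [Groth.Agent.FF.ell_eq_zero_of_deg_neg hK (not_le.1 h)] at hp1
    exact lt_irrefl _ hp1
  have hn2 : (Groth.Agent.FFCurve.divOf k hdim hL).deg ≤ 2 * (FunFld.genus k X.functionField : ℤ) := by
    by_contra h
    have hz := Groth.Agent.FF.ell_eq_zero_of_deg_neg hK
      (D := Groth.Agent.FFCurve.divOf k hdim hΩ - Groth.Agent.FFCurve.divOf k hdim hL)
      (by rw [Groth.Agent.FF.deg_sub, hd]; omega)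
    rw [hz] at hrr
    omega
  obtain ⟨P, -⟩ := Groth.Agent.FFCurve.exists_place_not_mem hK (∅ : Finset (FunFld.Place k X.functionField))
  exact Groth.Agent.FF.clifford hK (Groth.Agent.FF.deg_eq_one hK P) hn1 hn2

end Groth.Agent.S11336
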