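import Groth.Statements.S11337
import Groth.Agent.JacPts.CliffEq
import Groth.Agent.FFCurve.Canonical
import Groth.Agent.FFCurve.PointRR
import Groth.Agent.PicLaw.Swap

set_option backward.isDefEq.respectTransparency false
set_option backward.isDefEq.respectTransparency.types false
-- import your own Groth.Agent.* helpers here

set_option autoImplicit false
universe u
open CategoryTheory CategoryTheory.Limits AlgebraicGeometry
open Curves
open Groth.Agent

namespace Groth.Agent.S11337

open FunFld in
theorem exists_linIndep (k : Type u) [Field k] (X : Scheme.{u}) [X.Over (Spec (CommRingCat.of k))]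
    [IsIntegral X] [IsProper (X ↘ (Spec (CommRingCat.of k)))] [FFCurve.RegCurve X]
    (hdim : topologicalKrullDim X = 1) {N : X.Modules} (hN : PicF.IsInvertible N)
    (h : 2 ≤ ell (FFCurve.divOf k hdim hN)) :
    ∃ s : Fin 2 → LinSer.Sect X N, LinSer.LinIndep k X N s := by
  obtain ⟨v, hv⟩ := exists_linearIndependent_of_le_finrank
    (show 2 ≤ Module.finrank k ↥(FunFld.L (FFCurve.divOf k hdim hN)) from h)
  have hz := fun i => FFCurve.exists_crd_eq (FFCurve.triv hN) k hdim hN ⊤ trivial (v i : X.functionField)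
    (fun x _ => (v i).2 (FFCurve.toPlace k hdim x))
  choose s hs using hz
  refine ⟨s, fun a ha => funext (Fintype.linearIndependent_iff.1 hv a (Subtype.ext ?_))⟩
  let c : Γ(N, ⊤) →+ X.functionField := FFCurve.crd (FFCurve.triv hN) ⊤ trivial
  have hlin : ∀ (r : k) (m : LinSer.Sect X N),
      c ((Coh.toGlobal (X ↘ Spec (CommRingCat.of k)) r) • m) = r • c m := fun r m => by
    refine (FFCurve.crd_smul (FFCurve.triv hN) ⊤ trivial _ m).trans ?_
    rw [Algebra.smul_def]; rfl
  simp only [Fin.sum_univ_two] at ha ⊢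
  have h0 := congrArg c ha
  rw [map_zero] at h0
  erw [map_add, hlin, hlin] at h0
  simp only [Submodule.coe_add, Submodule.coe_smul, ZeroMemClass.coe_zero, ← hs]
  exact h0

/-- Let k be an algebraically closed field and X a curve over k (an integral scheme, proper over k, of
dimension one, with all local rings regular), and L an invertible O_X-module with an inverse M such
that H^0(X, L) ≠ 0, H^0(X, Ω_{X/k} ⊗ M) ≠ 0, L is isomorphic neither to O_X nor to Ω_{X/k}, and 2
(dim_k H^0(X, L) - 1) = deg L. Then X is hyperelliptic and L is a multiple of the g^1_2: there is an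
invertible module N of degree 2 with two k-linearly independent global sections (a g^1_2) such that
L ≅ N^{⊗ r} with r = dim_k H^0(X, L) - 1. (Only the implication from equality is stated here; the
converse, that on a hyperelliptic curve the effective special multiples of the g^1_2 attain
equality, is not part of this statement.) -/
theorem result (k : Type u) [Field k] [IsAlgClosed k] (X : Scheme.{u}) [X.Over (Spec (CommRingCat.of k))]
    [IsIntegral X] [IsProper (X ↘ (Spec (CommRingCat.of k)))] (hdim : topologicalKrullDim X = 1)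
    (hreg : ∀ x : X, IsRegularLocalRing (X.presheaf.stalk x))
    (L M : X.Modules) (hL : PicF.IsInvertible L) (hM : ClSub.IsInverseOf L M)
    (hs : Nontrivial (Coh.HH X L 0)) (hsp : Nontrivial (Coh.HH X (CohB1.tensorMod (Omega.sheaf (X ↘ (Spec (CommRingCat.of k)))) M) 0))
    (h0 : IsEmpty (L ≅ Coh.structureModule X)) (hK : IsEmpty (L ≅ (Omega.sheaf (X ↘ (Spec (CommRingCat.of k))))))
    (heq : 2 * (Module.finrank k (Coh.HH X L 0) : ℤ) = Curv2.deg k X L 1 + 2) :
    ∃ (N : X.Modules) (s : Fin 2 → LinSer.Sect X N), LinSer.IsLinSer k X N 2 1 s ∧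
      Nonempty (L ≅ CohB1.tensorPow N (Module.finrank k (Coh.HH X L 0) - 1)) := by
  have hΩiso := hK
  haveI := FFCurve.smooth_of_regular (X ↘ Spec (CommRingCat.of k)) hreg
  haveI := FFCurve.regCurve_of_regular k hdim hreg
  have hK := FFCurve.isFunctionField_of_isAlgClosed (X := X) k hdim
  obtain ⟨e⟩ := hM
  have hMi : PicF.IsInvertible M := PicLaw.isInvertible_of_tensor_left hL
    (PicCl.isInvertible_of_iso e.symm FFCurve.isInvertible_structureModule)
  have hΩ := FFCurve.isInvertible_omega (X := X) k hdim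
  have hΩM := AmpleLib.isInvertible_tensorMod hΩ hMi
  have hC := FFCurve.isCanonical_omega (X := X) k hdim
  have hrr := FF.riemann_roch hK hC (FFCurve.divOf k hdim hL)
  have h1 := FFCurve.finrank_one k hdim hK hL
  rw [FFCurve.finrank_one_eq_dual k hdim hL ⟨e⟩ hMi] at h1
  have hpos : ∀ {N : X.Modules} (hN : PicF.IsInvertible N), Nontrivial (Coh.HH X N 0) →
      0 < Module.finrank k (Coh.HH X N 0) := fun {N} hN h => by
    haveI := h
    haveI := CurveCoh.finite_HH_zero (k := k) N (FFCurve.hv k hdim) hdim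
      ⟨ProjTwist.isQCoh_of_isInvertible hN,
        (VBLib.isCoh_of_ofRank (VBLib.ofRank_one_of_invertible hN)).2⟩
    exact Module.finrank_pos
  have hp1 := hpos hL hs
  have hp2 := hpos hΩM hsp
  rw [FFCurve.finrank_zero k hdim hK hL] at hp1 heq ⊢
  rw [FFCurve.deg_eq k hdim hK hL] at heq
  have hd := FF.deg_canonical hK hC
  have hn2 : (FFCurve.divOf k hdim hL).deg ≤ 2 * (FunFld.genus k X.functionField : ℤ) - 2 := by
    by_contra h
    have hz := FF.ell_eq_zero_of_deg_neg hK
      (D := FFCurve.divOf k hdim hΩ - FFCurve.divOf k hdim hL)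
      (by rw [FF.deg_sub, hd]; omega)
    rw [hz] at hrr
    omega
  have hne0 : (FFCurve.divOf k hdim hL).deg ≠ 0 := fun h => by
    obtain ⟨z, hz, hze⟩ := FF.principal_of_ell_pos hK h hp1
    obtain ⟨a, ha, hO⟩ := FFCurve.divEq_structureModule (X := X) k hdim
    obtain ⟨i⟩ := FFCurve.nonempty_iso_of_div k hdim hL FFCurve.isInvertible_structureModule
      (a := (a * z)⁻¹) (inv_ne_zero (mul_ne_zero ha hz)) (by
        rw [FF.div_inv hK.1, FF.div_mul hK.1 ha hz, hO, eq_neg_of_add_eq_zero_left hze]; abel)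
    exact h0.false i
  have hneK : (FFCurve.divOf k hdim hL).deg ≠ 2 * (FunFld.genus k X.functionField : ℤ) - 2 := fun h => by
    obtain ⟨z, hz, hze⟩ := FF.principal_of_ell_pos hK
      (D := FFCurve.divOf k hdim hΩ - FFCurve.divOf k hdim hL)
      (by rw [FF.deg_sub, hd, h, sub_self]) (by omega)
    obtain ⟨i⟩ := FFCurve.nonempty_iso_of_div k hdim hL hΩ (a := z) hz (by
      rw [eq_sub_iff_add_eq, ← sub_eq_zero, ← hze]; abel)
    exact hΩiso.false i
  obtain ⟨E, hEd, hEl, z, hz, hzE⟩ := JacPts.CliffEq.clifford_eq hK (D := FFCurve.divOf k hdim hL)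
    (by omega) (by omega) (by omega)
  obtain ⟨N, hN, a, ha, hNE⟩ := FFCurve.exists_divOf_eq (X := X) k hdim E
  have hNd : (FFCurve.divOf k hdim hN).deg = 2 := by
    rw [hNE, FF.deg_sub, FF.deg_div hK.1, hEd, sub_zero]
  have hNl : 2 ≤ FunFld.ell (FFCurve.divOf k hdim hN) := by
    rw [hNE, sub_eq_add_neg, ← FF.div_inv hK.1, FF.ell_add_div hK (inv_ne_zero ha)]; exact hEl
  obtain ⟨s, hs'⟩ := exists_linIndep k X hdim hN hNl
  refine ⟨N, s, ⟨hN, by rw [FFCurve.deg_eq k hdim hK hN, hNd]; rfl, hs'⟩, ?_⟩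
  obtain ⟨w, hw, hwe⟩ := FFCurve.divEq_tensorPow k hdim hN
    (FFCurve.divEq_of_sub k hdim ha hNE) (FunFld.ell (FFCurve.divOf k hdim hL) - 1)
  exact FFCurve.nonempty_iso_of_div k hdim hL (AmpleLib.isInvertible_tensorPow hN _)
    (a := z * w⁻¹) (mul_ne_zero hz (inv_ne_zero hw)) (by
      rw [FF.div_mul hK.1 hz (inv_ne_zero hw), FF.div_inv hK.1, hwe, eq_sub_iff_add_eq]; refine Eq.trans ?_ hzE.symm; abel)

end Groth.Agent.S11337
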