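import Groth.Statements.S1134
import Groth.Agent.SGA1Desc.Effective
import Groth.Agent.S2339

set_option autoImplicit false
open CategoryTheory CategoryTheory.Limits AlgebraicGeometry Opposite
universe u
open Desc

namespace Groth.Agent.S1134

/-- Let p : X → S be a surjective, flat and quasi-compact morphism of schemes. Every descent datum
relative to p whose underlying scheme is quasi-affine over X is effective: it is isomorphic to the
canonical descent datum of some scheme over S. Descent data are taken in functor-of-points form,
equivalent by the Yoneda lemma to the usual form of an isomorphism over X ×_S X satisfying the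
cocycle condition. -/
theorem result {X S : Scheme.{u}} (p : X ⟶ S) [Surjective p] [Flat p] [QuasiCompact p]
    (D : Desc.SchDD p) (hD : Mor2.IsQuasiAffine D.obj.hom) : ∃ U : Over S, Nonempty ((Desc.toDD p).obj U ≅ D) := by
  refine Groth.Agent.SGA1Desc.effective_of_quasiAffine D fun X'' _ c => ?_
  have h := (Groth.Agent.S2339.result D.obj.hom hD c).2 ⊤ (isAffineOpen_top X'')
  haveI : Scheme.IsQuasiAffine ((pullback.snd D.obj.hom c ⁻¹ᵁ ⊤ : (pullback D.obj.hom c).Opens) : Scheme.{u}) := h
  haveI : CompactSpace (pullback D.obj.hom c : Scheme.{u}) :=
    haveI : QuasiCompact (pullback.snd D.obj.hom c) := (Groth.Agent.S2339.result D.obj.hom hD c).1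
    QuasiCompact.compactSpace_of_compactSpace (pullback.snd D.obj.hom c)
  haveI : IsImmersion (Scheme.topIso (pullback D.obj.hom c)).inv := inferInstance
  exact Scheme.IsQuasiAffine.of_isImmersion
    ((Scheme.topIso (pullback D.obj.hom c)).inv ≫ (pullback D.obj.hom c).homOfLE
      (show (⊤ : (pullback D.obj.hom c).Opens) ≤ pullback.snd D.obj.hom c ⁻¹ᵁ ⊤ from le_top))


end Groth.Agent.S1134
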