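import Groth.Statements.S11341
import Groth.Agent.SurfRR.Surface

set_option autoImplicit false
universe u
open CategoryTheory CategoryTheory.Limits AlgebraicGeometry
open Surf

namespace Groth.Agent.S11341

/-- Let X be a surface over an algebraically closed field k (an integral scheme of dimension two with
all local rings regular, admitting a closed immersion into some P^n_k over k), let W be the
canonical sheaf of X (a second exterior power of the sheaf of differentials Ω_{X/k}), and let C be a
nonsingular curve of genus g on X: an integral closed subscheme of dimension one with all local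
rings regular, with ideal sheaf I ⊆ O_X, g = dim_k H^1(C, O_C). Then 2g - 2 = C.(C + K). Writing
(L·M) for the intersection number χ(O_X) - χ(L) - χ(M) + χ(L ⊗ M) of two invertible modules
(packaged as FGA.intNum), C.C = (I·I) and C.K = -(I·W), so the formula reads 2g - 2 = (I·I) - (I·W). -/
theorem result (k : Type u) [Field k] [IsAlgClosed k] (X : Scheme.{u}) [X.Over (Spec (CommRingCat.of k))]
    [IsIntegral X] (hdim : topologicalKrullDim X = 2) (hreg : ∀ x : X, IsRegularLocalRing (X.presheaf.stalk x))
    (hproj : ∃ (n : ℕ) (ι : X ⟶ CohB1.ProjSpace n k), IsClosedImmersion ι ∧ ι ≫ CohB1.ProjSpace.toSpec n k = (X ↘ (Spec (CommRingCat.of k))))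
    (W : X.Modules) (hW : ExtPow.IsExtPow 2 (Omega.sheaf (X ↘ (Spec (CommRingCat.of k)))) W)
    (C : Scheme.{u}) (i : C ⟶ X) [IsClosedImmersion i] [IsIntegral C] (hC : topologicalKrullDim C = 1)
    (hCreg : ∀ c : C, IsRegularLocalRing (C.presheaf.stalk c)) :
    letI : C.Over (Spec (CommRingCat.of k)) := ⟨i ≫ (X ↘ (Spec (CommRingCat.of k)))⟩
    2 * (Curv2.genus k C : ℤ) - 2 =
      FGA.intNum k X 2 ![ClSub.idealMod i.ker, ClSub.idealMod i.ker] (Coh.structureModule X) - FGA.intNum k X 2 ![ClSub.idealMod i.ker, W] (Coh.structureModule X) := by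
  obtain ⟨n, ι, hι', hι⟩ := hproj
  haveI := hι'
  haveI := Groth.Agent.SurfRR.isProper_of_closedImmersion k ι hι
  haveI : SmoothOfRelativeDimension 2 (X ↘ (Spec (CommRingCat.of k))) :=
    Groth.Agent.SurfRR.smoothRelDim_of_regular k (r := 2) hdim hreg
  have hd : topologicalKrullDim X ≤ (2 : ℕ) := hdim.le
  letI : C.Over (Spec (CommRingCat.of k)) := ⟨i ≫ (X ↘ (Spec (CommRingCat.of k)))⟩
  haveI : IsProper (C ↘ Spec (CommRingCat.of k)) :=
    inferInstanceAs (IsProper (i ≫ (X ↘ Spec (CommRingCat.of k))))
  haveI : Smooth (C ↘ Spec (CommRingCat.of k)) := Groth.Agent.FFCurve.smooth_of_regular _ hCreg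
  have hI := Groth.Agent.SurfRR.isInvertible_curve k (i := i) hdim hreg hC
  have h1 := Groth.Agent.SurfRR.adjunction k ι hι W hW i rfl hI
  have h2 := (Groth.Agent.VBLib.goodCurve_of_smooth (k := k) (X := C) hC).euler_structure
    Groth.Agent.VBLib.bijective_toGlobal_of_isAlgClosed
  rw [Groth.Agent.SurfRR.pr_eq_intNum k hd hI hI,
    Groth.Agent.SurfRR.pr_eq_intNum k hd hI (Groth.Agent.SurfRR.isInvertible_canonical k ι hι W hW)]
  linarith

end Groth.Agent.S11341
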