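import Groth.Statements.S11343
import Groth.Agent.SurfRR.Effective
import Groth.Agent.ExtPowSt.Exists
import Groth.Agent.Props.GenLocus

set_option autoImplicit false
universe u
open CategoryTheory CategoryTheory.Limits AlgebraicGeometry
open Surf

namespace Groth.Agent.S11343

/-- Let X be a surface over an algebraically closed field k (an integral scheme of dimension two with
all local rings regular, admitting a closed immersion into some P^n_k over k), and H an ample
invertible O_X-module. Some integer n₀ has the property that H^2(X, L) = 0 for every invertible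
module L with (L·H) > n₀; here (L·H) = χ(O_X) - χ(L) - χ(H) + χ(L ⊗ H) is the intersection number
(packaged as FGA.intNum). -/
theorem result (k : Type u) [Field k] [IsAlgClosed k] (X : Scheme.{u}) [X.Over (Spec (CommRingCat.of k))]
    [IsIntegral X] (hdim : topologicalKrullDim X = 2) (hreg : ∀ x : X, IsRegularLocalRing (X.presheaf.stalk x))
    (hproj : ∃ (n : ℕ) (ι : X ⟶ CohB1.ProjSpace n k), IsClosedImmersion ι ∧ ι ≫ CohB1.ProjSpace.toSpec n k = (X ↘ (Spec (CommRingCat.of k))))
    (H : X.Modules) (hH : CohB1.IsAmple H) :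
    ∃ n₀ : ℤ, ∀ L : X.Modules, PicF.IsInvertible L → n₀ < FGA.intNum k X 2 ![L, H] (Coh.structureModule X) → Subsingleton (Coh.HH X L 2) := by
  obtain ⟨n, ι, hι', hι⟩ := hproj
  haveI := hι'
  haveI := Groth.Agent.SurfRR.isProper_of_closedImmersion k ι hι
  haveI : SmoothOfRelativeDimension 2 (X ↘ (Spec (CommRingCat.of k))) :=
    Groth.Agent.SurfRR.smoothRelDim_of_regular k (r := 2) hdim hreg
  have hd : topologicalKrullDim X ≤ (2 : ℕ) := hdim.le
  haveI : IsNoetherian X := Groth.Agent.EulerChar.isNoetherian k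
  haveI : IsLocallyNoetherian X := LocallyOfFiniteType.isLocallyNoetherian (X ↘ Spec (CommRingCat.of k))
  haveI := (Groth.Agent.VBLib.isCoh_of_ofRank
    (Groth.Agent.CanonTriv.isFinLocFreeOfRank_omega (X ↘ (Spec (CommRingCat.of k))) 2)).1
  obtain ⟨W, hW'⟩ := Groth.Agent.ExtPowSt.Exists.exists_isExtPow 2 (Omega.sheaf (X ↘ (Spec (CommRingCat.of k))))
  have hWi := Groth.Agent.SurfRR.isInvertible_canonical k ι hι W hW'
  refine ⟨Groth.Agent.SurfRR.pr k W H, fun L hL hlt => ?_⟩
  rw [Groth.Agent.SurfRR.pr_eq_intNum k hd hL hH.1] at hlt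
  obtain ⟨M, hM, ⟨e⟩⟩ := Groth.Agent.PicLaw.exists_inverse hL
  have hN := Groth.Agent.AmpleLib.isInvertible_tensorMod hM hWi
  haveI : Module.Finite k (Coh.HH X L 2) := Groth.Agent.EulerChar.finite_HH k L
    (Groth.Agent.BigVol.isCoh_of_isInvertible hL) 2
  have hz : ∀ σ : Γ(CohB1.tensorMod M W, ⊤), σ = 0 := fun σ => by
    by_contra hσ
    have h := Groth.Agent.SurfRR.nonneg_of_section k hdim hN hH (Groth.Agent.Props.GenLocus.homOfSec σ)
      (fun h => hσ (by
        have h' := Groth.Agent.Props.GenLocus.sec_homOfSec σ ⊤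
        rw [h, Groth.Agent.QCoh.res_self] at h'
        exact h'.symm.trans rfl))
    rw [Groth.Agent.SurfRR.pr_mul k hd hM hWi hH.1, Groth.Agent.SurfRR.pr_inv k hd hL hM hH.1 e] at h
    omega
  let eq0 := Sheaf.H.equiv₀ (Coh.toAb (CohB1.tensorMod M W)) CategoryTheory.Limits.isTerminalTop
  have h0 : Subsingleton (Coh.HH X (CohB1.tensorMod M W) 0) :=
    ⟨fun a b => eq0.injective ((hz (eq0 a)).trans (hz (eq0 b)).symm)⟩
  have h2 := Groth.Agent.SurfRR.finrank_dual k ι hι W hW' hL e 2 le_rfl
  rw [Nat.sub_self, Module.finrank_zero_of_subsingleton] at h2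
  exact Module.finrank_zero_iff.1 h2.symm

end Groth.Agent.S11343
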