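import Groth.Statements.S11347
import Groth.Agent.VBLib.RankTwo
import Groth.Agent.FFCurve.Smooth

set_option backward.isDefEq.respectTransparency false

set_option autoImplicit false
universe u
open CategoryTheory CategoryTheory.Limits AlgebraicGeometry
open Curves

namespace Groth.Agent.S11347

open Groth.Agent

/-- Let C be a genus-g curve over an algebraically closed field k (integral, proper over k, of dimension
one, all local rings regular), and E a locally free O_C-module of rank 2 which is normalized —
H^0(C, E) ≠ 0 while H^0(C, E ⊗ M) = 0 for every invertible M with deg M < 0 — and indecomposable —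
not isomorphic to a direct sum of two invertible modules. Then the invariant e = -deg E of the ruled
surface P(E) satisfies -2g ≤ e ≤ 2g - 2; here deg E = χ(E) - 2 χ(O_C). -/
theorem result (k : Type u) [Field k] [IsAlgClosed k] (C : Scheme.{u}) [C.Over (Spec (CommRingCat.of k))]
    [IsIntegral C] [IsProper (C ↘ (Spec (CommRingCat.of k)))] (hdimC : topologicalKrullDim C = 1)
    (hregC : ∀ x : C, IsRegularLocalRing (C.presheaf.stalk x))
    (E : C.Modules) (hE : FlatMod.IsFinLocFreeOfRank 2 E)
    (hn0 : Nontrivial (Coh.HH C E 0))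
    (hneg : ∀ M : C.Modules, PicF.IsInvertible M → Curv2.deg k C M 1 < 0 → Subsingleton (Coh.HH C (CohB1.tensorMod E M) 0))
    (hind : ∀ L₁ L₂ : C.Modules, PicF.IsInvertible L₁ → PicF.IsInvertible L₂ → IsEmpty (E ≅ L₁ ⊞ L₂)) :
    2 - 2 * (Curv2.genus k C : ℤ) ≤ Curv2.deg k C E 2 ∧ Curv2.deg k C E 2 ≤ 2 * (Curv2.genus k C : ℤ) := by
  haveI := FFCurve.smooth_of_regular (C ↘ Spec (CommRingCat.of k)) hregC
  have hG := VBLib.goodCurve_of_smooth (k := k) hdimC
  have hEf := VBLib.isFinLocFree_of_ofRank hE
  have hE2 := VBLib.rk_eq hE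
  rw [VBLib.dg_eq hE]
  constructor
  · obtain ⟨L, i, hi, hL, hL1, hLd⟩ : ∃ (L : C.Modules) (i : L ⟶ E),
        Mono i ∧ FlatMod.IsFinLocFree L ∧ VBLib.rk L = 1 ∧ 0 ≤ VBLib.dg k L := by
      by_contra hall
      refine not_subsingleton (Coh.HH C E 0) ?_
      haveI : Subsingleton Γ(E, ⊤) := by
        refine subsingleton_of_forall_eq 0 fun s => ?_
        have h0 := hG.eq_zero_of_lines_neg hEf (fun L i hi hL hL1 =>
          not_le.1 fun hge => hall ⟨L, i, hi, hL, hL1, hge⟩) (Props.GenLocus.homOfSec s)
        have hs := Props.GenLocus.sec_homOfSec s ⊤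
        rw [h0, QCoh.res_self] at hs
        exact hs.symm
      exact (VBLib.GenusZero.toSec E).injective.subsingleton
    haveI := hi
    have := hG.two_mul_dg_le hEf hE2 hind i hL hL1
    omega
  · obtain ⟨L, i, hi, hL, h⟩ := hG.exists_two_mul_dg_ge hEf hE2
    haveI := hi
    have := hG.dg_nonpos_of_normalized hneg i hL
    omega

end Groth.Agent.S11347
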