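import Groth.Statements.S11348
import Groth.Agent.VBLib.RankTwo
import Groth.Agent.FFCurve.Smooth
import Groth.Agent.Omega.Stalks
import Mathlib.AlgebraicGeometry.AlgClosed.Basic

set_option backward.isDefEq.respectTransparency false
set_option backward.isDefEq.respectTransparency.types false
set_option linter.style.haveILetI false

set_option autoImplicit false
universe u
open CategoryTheory CategoryTheory.Limits AlgebraicGeometry
open Curves

namespace Groth.Agent.S11348

open Groth.Agent Groth.Agent.Props.GenLocus Groth.Agent.PullStalk.Sky Groth.Agent.PullStalk.Exact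
open Groth.Agent.VBLib Groth.Agent.VBLib.GenusZero

section
variable {k : Type u} [Field k] [IsAlgClosed k] {X : Scheme.{u}} [X.Over (Spec (CommRingCat.of k))]
  [IsIntegral X] (hX : GoodCurve k X)
include hX

/-- A nonzero map from the structure sheaf to a bundle is a monomorphism. -/
lemma mono_of_ne_zero {G : X.Modules} (hG : FlatMod.IsFinLocFree G) (f : Coh.structureModule X ⟶ G)
    (hf : f ≠ 0) : Mono f := by
  haveI := hX.isLocallyNoetherian
  obtain ⟨hOf, hO1, -⟩ := hX.dg_structure
  have hI := isFinLocFree_image hX.pid f (isCoh_of_isFinLocFree hOf) hG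
  have hI0 : rk (Abelian.image f) ≠ 0 := fun h0 => hf (eq_zero_of_rk_image f hI h0)
  obtain ⟨-, hr⟩ := hX.dg_kernel_image f (isCoh_of_isFinLocFree hOf) (isCoh_of_isFinLocFree hG)
  exact mono_of_rk_kernel f (isFinLocFree_kernel hX.pid f hOf (isCoh_of_isFinLocFree hG)) (by omega)

/-- A rank two bundle of degree two on an elliptic curve has a sub line bundle of positive degree. -/
theorem exists_pos [Smooth (X ↘ Spec (CommRingCat.of k))] (hg : Curv2.genus k X = 1) {E : X.Modules}
    (hE : FlatMod.IsFinLocFree E) (hr : rk E = 2) (hd : dg k E = 2)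
    (hle : ∀ (L : X.Modules) (i : L ⟶ E), Mono i → FlatMod.IsFinLocFree L → rk L = 1 → dg k L ≤ 0)
    (f₀ : Coh.structureModule X ⟶ E) (hf₀ : f₀ ≠ 0) : False := by
  haveI := hX.isLocallyNoetherian
  haveI := hX.proper
  have hbij : Function.Bijective (Coh.toGlobal (X ↘ Spec (CommRingCat.of k))) :=
    bijective_toGlobal_of_isAlgClosed
  obtain ⟨hOf, hO1, hO0⟩ := hX.dg_structure
  have hOc := isCoh_of_isFinLocFree hOf
  have hEc := isCoh_of_isFinLocFree hE
  haveI := mono_of_ne_zero hX hE f₀ hf₀
  obtain ⟨A, j, i', hji, hj, hi', hA, hQ, hAr, hAd⟩ := hX.exists_saturation f₀ hOc hE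
  haveI := hi'
  haveI := hj
  have hA0 := hle A i' hi' hA (hAr.trans hO1)
  haveI := (hX.dg_le_of_mono j hOc (isCoh_of_isFinLocFree hA) hAr.symm).2 (by omega)
  obtain ⟨hdE, hrE⟩ := hX.dg_mono_cokernel i' (isCoh_of_isFinLocFree hA) hEc
  have hQr : rk (cokernel i') = 1 := by omega
  have hQd : dg k (cokernel i') = 2 := by omega
  -- a section with nonzero image in the quotient
  obtain ⟨f, hf⟩ : ∃ f : Coh.structureModule X ⟶ E, f ≫ cokernel.π i' ≠ 0 := by
    by_contra! hall
    have hrr := hX.riemannRoch hbij hEc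
    rw [hd, hr, hg] at hrr
    push_cast at hrr
    have hsurj : Function.Surjective (CurveCoh.mapL k f₀ 0) := fun y => by
      let t := Abelian.monoLift i' (homOfSec (toSec E y)) (hall _)
      refine ⟨(toSec (Coh.structureModule X)).symm (sec (t ≫ inv j) ⊤), (toSec E).injective ?_⟩
      rw [toSec_mapL, AddEquiv.apply_symm_apply]
      refine Eq.trans ?_ (QCoh.res_self E le_top (toSec E y))
      refine Eq.trans ?_ (sec_homOfSec (toSec E y) ⊤)
      have ht : (t ≫ inv j) ≫ f₀ = homOfSec (toSec E y) := by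
        rw [← hji, Category.assoc, IsIso.inv_hom_id_assoc]
        exact Abelian.monoLift_comp _ _ _
      rw [← ht]
      rfl
    haveI := CurveCoh.finite_HH_zero (k := k) (Coh.structureModule X) hX.val hX.dim hOc
    have h1 := LinearMap.finrank_le_finrank_of_surjective hsurj
    have h2 := finrank_H0_structure_eq_one (k := k) (X := X) hbij
    omega
  -- a point where the image vanishes
  set g := f ≫ cokernel.π i' with hgdef
  haveI := mono_of_ne_zero hX hQ g hf
  have hniso : ¬ IsIso g := fun h => by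
    haveI := h
    have := (hX.dg_iso (asIso g) hOc (isCoh_of_isFinLocFree hQ)).1
    omega
  obtain ⟨x, hx⟩ : ∃ x : X, ¬ Function.Surjective (stalkLin g x) := by
    by_contra! hall
    haveI : Epi g := Omega.Stalks.epi_of_stalk hall
    exact hniso (isIso_of_mono_of_epi g)
  have hxc : IsClosed ({x} : Set X) := by
    refine VarDim.isClosed_singleton_of_ne_genericPoint k hX.dim fun he => hx ?_
    subst he
    letI : Field (X.presheaf.stalk (genericPoint X)) := inferInstanceAs (Field X.functionField)
    haveI := finite_stalk hOc (genericPoint X)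
    haveI := finite_stalk (isCoh_of_isFinLocFree hQ) (genericPoint X)
    exact (LinearMap.injective_iff_surjective_of_finrank_eq_finrank
      (hO1.trans hQr.symm)).1 (stalkLin_injective g _)
  let p := pointOfClosedPoint (X ↘ Spec (CommRingCat.of k)) x hxc
  have hp : p ≫ (X ↘ Spec (CommRingCat.of k)) = 𝟙 _ := pointOfClosedPoint_comp _ x hxc
  have hpx : p (IsLocalRing.closedPoint k) = x := pointOfClosedPoint_apply _ x hxc _
  clear_value p
  subst hpx
  set x := p (IsLocalRing.closedPoint k)
  obtain ⟨U, hxU, ⟨ψ⟩⟩ := ofRank_rk hE x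
  obtain ⟨e, he⟩ := exists_isFrame_of_iso ψ
  let b : Module.Basis (Fin (rk E)) (X.presheaf.stalk x) (E.presheaf.stalk x) :=
    Module.Basis.ofEquivFun (LinearEquiv.ofBijective _ (he.stalkComb_bijective x hxU)).symm
  let one : (Coh.structureModule X).presheaf.stalk x :=
    germM (Coh.structureModule X) ⊤ x trivial (one' ⊤)
  have hone : ∀ z, ∃ a : X.presheaf.stalk x, a • one = z := fun z =>
    (bijective_smul_germ (Props.GenTensor.isGen_one ⊤) x trivial).2 z
  -- the value of `f` at `x` is a multiple of the value of `f₀`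
  obtain ⟨z, hz⟩ := (stalk_exact (S := ShortComplex.mk i' (cokernel.π i') (cokernel.condition i'))
    { exact := ShortComplex.exact_of_g_is_cokernel _ (cokernelIsCokernel i') } x).2.2
      (stalkLin g x one)
  obtain ⟨U', hxU', ⟨ψ'⟩⟩ := ofRank_rk hQ x
  obtain ⟨e', he'⟩ := exists_isFrame_of_iso ψ'
  let bQ : Module.Basis (Fin 1) (X.presheaf.stalk x) ((cokernel i').presheaf.stalk x) :=
    (Module.Basis.ofEquivFun (LinearEquiv.ofBijective _ (he'.stalkComb_bijective x hxU')).symm).reindex
      (finCongr hQr)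
  set μ := bQ.repr (stalkLin g x one) 0 with hμdef
  have hgone : stalkLin g x one = μ • bQ 0 := by
    conv_lhs => rw [← bQ.sum_repr (stalkLin g x one), Fin.sum_univ_one]
  have hμ : LinSerLib.chi p μ = 0 := by
    haveI : IsLocalHom (LinSerLib.chi p) := by delta LinSerLib.chi; infer_instance
    by_contra hne
    have hu : IsUnit μ := (isUnit_map_iff (LinSerLib.chi p) μ).mp (IsUnit.mk0 _ hne)
    obtain ⟨w, hw⟩ := hu
    refine hx fun q => ?_
    refine ⟨(bQ.repr q 0 * ↑w⁻¹) • one, ?_⟩
    rw [map_smul, hgone, smul_smul, ← hw, mul_assoc, Units.inv_mul, mul_one]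
    conv_rhs => rw [← bQ.sum_repr q, Fin.sum_univ_one]
  obtain ⟨z₀, hz₀⟩ := (stalk_exact (S := ShortComplex.mk i' (cokernel.π i') (cokernel.condition i'))
    { exact := ShortComplex.exact_of_g_is_cokernel _ (cokernelIsCokernel i') } x).2.2 (bQ 0)
  obtain ⟨a₀, ha₀⟩ := ((stalk_exact (S := ShortComplex.mk i' (cokernel.π i') (cokernel.condition i'))
    { exact := ShortComplex.exact_of_g_is_cokernel _ (cokernelIsCokernel i') } x).2.1
      (stalkLin f x one - μ • z₀)).1 (by
    rw [map_sub, map_smul]
    refine sub_eq_zero.2 ?_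
    rw [hz₀, ← hgone, hgdef, Omega.Stalks.stalkLin_comp])
  obtain ⟨c', hc'⟩ := hone (stalkLin (inv j) x a₀)
  have hfx : stalkLin f x one = c' • stalkLin f₀ x one + μ • z₀ := by
    have h1 : stalkLin i' x a₀ = c' • stalkLin f₀ x one := by
      rw [← map_smul, hc', ← hji, Omega.Stalks.stalkLin_comp, ← Omega.Stalks.stalkLin_comp (inv j) j,
        IsIso.inv_hom_id, stalkLin_id]
    rw [← h1]
    exact (sub_eq_iff_eq_add.1 ha₀.symm).trans (by rfl)
  set c := LinSerLib.chi p c'
  set w := f - c • f₀ with hwdef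
  have hw0 : w ≠ 0 := fun h => hf (by
    have h1 : f₀ ≫ cokernel.π i' = 0 := by rw [← hji, Category.assoc, cokernel.condition, comp_zero]
    have : f = c • f₀ := sub_eq_zero.1 h
    rw [hgdef, this, KLin.smul_def, Category.assoc, h1, comp_zero])
  haveI := mono_of_ne_zero hX hE w hw0
  obtain ⟨L', i'', hi'', hL', hL1, hlt⟩ := hX.dg_lt_of_vanish p hE w hOf hO1 b fun a l => by
    obtain ⟨r, rfl⟩ := hone a
    rw [map_smul, map_smul, Finsupp.smul_apply, smul_eq_mul, map_mul]
    refine mul_eq_zero_of_right _ ?_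
    have hws : stalkLin w x one = stalkLin f x one - cst k x c • stalkLin f₀ x one := by
      have hfw : f = w + c • f₀ := (sub_add_cancel f (c • f₀)).symm
      rw [eq_sub_iff_add_eq, ← stalkLin_smul_apply, ← stalkLin_add_apply, ← hfw]
    rw [hws, hfx, map_sub, map_add, map_smul, map_smul, map_smul, Finsupp.sub_apply, Finsupp.add_apply,
      Finsupp.smul_apply, Finsupp.smul_apply, Finsupp.smul_apply, map_sub, map_add, smul_eq_mul,
      smul_eq_mul, smul_eq_mul, map_mul, map_mul, map_mul, hμ,
      show LinSerLib.chi p (cst k x c) = c from LinSerLib.chi_global p hp c]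
    ring
  have := hle L' i'' hi'' hL' hL1
  omega

end

/-- Let C be an elliptic curve over an algebraically closed field k — integral, proper over k, of
dimension one, all local rings regular, of genus dim_k H^1(C, O_C) = 1 — and E a locally free
O_C-module of rank 2 which is normalized (H^0(C, E) ≠ 0 while H^0(C, E ⊗ M) = 0 for every invertible
M of negative degree) and indecomposable (not isomorphic to a direct sum of two invertible modules).
Then the invariant e = -deg E is 0 or -1, i.e. deg E ∈ {0, 1}, with deg E = χ(E) - 2 χ(O_C). -/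
theorem result (k : Type u) [Field k] [IsAlgClosed k] (C : Scheme.{u}) [C.Over (Spec (CommRingCat.of k))]
    [IsIntegral C] [IsProper (C ↘ (Spec (CommRingCat.of k)))] (hdimC : topologicalKrullDim C = 1)
    (hregC : ∀ x : C, IsRegularLocalRing (C.presheaf.stalk x)) (hg : Curv2.genus k C = 1)
    (E : C.Modules) (hE : FlatMod.IsFinLocFreeOfRank 2 E)
    (hn0 : Nontrivial (Coh.HH C E 0))
    (hneg : ∀ M : C.Modules, PicF.IsInvertible M → Curv2.deg k C M 1 < 0 → Subsingleton (Coh.HH C (CohB1.tensorMod E M) 0))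
    (hind : ∀ L₁ L₂ : C.Modules, PicF.IsInvertible L₁ → PicF.IsInvertible L₂ → IsEmpty (E ≅ L₁ ⊞ L₂)) :
    Curv2.deg k C E 2 = 0 ∨ Curv2.deg k C E 2 = 1 := by
  haveI := FFCurve.smooth_of_regular (C ↘ Spec (CommRingCat.of k)) hregC
  have hG := VBLib.goodCurve_of_smooth (k := k) hdimC
  have hEf := VBLib.isFinLocFree_of_ofRank hE
  have hE2 := VBLib.rk_eq hE
  rw [VBLib.dg_eq hE]
  obtain ⟨f₀, hf₀⟩ : ∃ f₀ : Coh.structureModule C ⟶ E, f₀ ≠ 0 := by
    by_contra! hall
    refine not_subsingleton (Coh.HH C E 0) ?_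
    haveI : Subsingleton Γ(E, ⊤) := by
      refine subsingleton_of_forall_eq 0 fun s => ?_
      have hs := sec_homOfSec s ⊤
      rw [hall (homOfSec s), QCoh.res_self] at hs
      exact hs.symm
    exact (toSec E).injective.subsingleton
  haveI := mono_of_ne_zero hG hEf f₀ hf₀
  obtain ⟨hOf, hO1, hO0⟩ := hG.dg_structure
  have h1 := hG.two_mul_dg_le hEf hE2 hind f₀ hOf hO1
  obtain ⟨L, i, hi, hL, h2⟩ := hG.exists_two_mul_dg_ge hEf hE2
  haveI := hi
  have h3 := hG.dg_nonpos_of_normalized hneg i hL
  rw [hg] at h1 h2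
  have h4 : VBLib.dg k E ≠ 2 := fun h => exists_pos hG hg hEf hE2 h
    (fun L i hi hL hL1 => by
      haveI := hi
      exact hG.dg_nonpos_of_normalized hneg i (VBLib.isInvertible_of_rk_one hL hL1)) f₀ hf₀
  omega

end Groth.Agent.S11348
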