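import Groth.Statements.S11349
import Groth.Agent.FFCurve.AutPlace
import Groth.Agent.FFCurve.Involution
import Groth.Agent.FFCurve.PointRR

set_option autoImplicit false
universe u
open CategoryTheory CategoryTheory.Limits AlgebraicGeometry
open Curves FunFld
set_option linter.style.haveILetI false
set_option backward.isDefEq.respectTransparency.types false

namespace Groth.Agent.S11349

/-- Take an algebraically closed field k of characteristic different from 2 and an elliptic curve X over
k — an integral scheme, proper over k, of dimension one, all local rings regular, of genus dim_k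
H^1(X, O_X) = 1 — and let P, Q be closed points of X, possibly equal. Then there is an automorphism
σ of X over k with σ² = id and σ(P) = Q such that R + σ(R) is linearly equivalent to P + Q for every
closed point R; the last condition is written on ideal sheaves of points: I_R ⊗ I_{σ(R)} ≅ I_P ⊗
I_Q. -/
theorem result (k : Type u) [Field k] [IsAlgClosed k] (X : Scheme.{u}) [X.Over (Spec (CommRingCat.of k))]
    [IsIntegral X] [IsProper (X ↘ (Spec (CommRingCat.of k)))] (hdim : topologicalKrullDim X = 1)
    (hreg : ∀ x : X, IsRegularLocalRing (X.presheaf.stalk x)) (hchar : ringChar k ≠ 2) (hg : Curv2.genus k X = 1)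
    (P Q : X) (hP : IsClosed ({P} : Set X)) (hQ : IsClosed ({Q} : Set X)) :
    ∃ σ : X ≅ X, σ.hom ≫ (X ↘ (Spec (CommRingCat.of k))) = (X ↘ (Spec (CommRingCat.of k))) ∧ σ.hom ≫ σ.hom = 𝟙 X ∧ σ.hom P = Q ∧
      ∀ (R R' : X) (hR : IsClosed ({R} : Set X)) (hR' : IsClosed ({R'} : Set X)), σ.hom R = R' →
        Nonempty (CohB1.tensorMod (ClSub.idealMod (Scheme.IdealSheafData.vanishingIdeal ⟨{R}, hR⟩)) (ClSub.idealMod (Scheme.IdealSheafData.vanishingIdeal ⟨{R'}, hR'⟩)) ≅ CohB1.tensorMod (ClSub.idealMod (Scheme.IdealSheafData.vanishingIdeal ⟨{P}, hP⟩)) (ClSub.idealMod (Scheme.IdealSheafData.vanishingIdeal ⟨{Q}, hQ⟩))) := by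
  haveI := Groth.Agent.FFCurve.regCurve_of_regular k hdim hreg
  have hK := Groth.Agent.FFCurve.isFunctionField_of_isAlgClosed (X := X) k hdim
  rw [FFCurve.genus_eq_genus k hdim hK] at hg
  let p : ZetaLib.ClosedPt X := ⟨P, hP⟩
  let q : ZetaLib.ClosedPt X := ⟨Q, hQ⟩
  obtain ⟨σ, hσ, hσP, hσR⟩ :=
    FFCurve.exists_involution hK hg hchar (FFCurve.toPlace k hdim p) (FFCurve.toPlace k hdim q)
  obtain ⟨f, hf, hη⟩ := FFCurve.exists_extension k σ
  have hff : f ≫ f = 𝟙 X := by
    refine FFCurve.hom_ext_generic k (by rw [Category.assoc, hf, hf, Category.id_comp]) ?_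
    rw [← Category.assoc, hη, FFCurve.genMap, Category.assoc, hη, FFCurve.genMap, ← Spec.map_comp_assoc,
      Category.comp_id]
    have he : CommRingCat.ofHom (σ : X.functionField →+* X.functionField) ≫
        CommRingCat.ofHom (σ : X.functionField →+* X.functionField) = 𝟙 _ := by
      ext z
      exact DFunLike.congr_fun hσ z
    erw [he, Spec.map_id, Category.id_comp]
  have hclosed : ∀ x : ZetaLib.ClosedPt X, IsClosed ({f x.1} : Set X) := fun x => by
    refine VarDim.isClosed_singleton_of_ne_genericPoint k hdim fun h => ?_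
    have h1 : f (f x.1) = x.1 := by rw [← Scheme.Hom.comp_apply, hff]; rfl
    rw [h, FFCurve.apply_genericPoint k hη] at h1
    obtain ⟨y, hy⟩ := x
    change genericPoint X = y at h1
    subst h1
    haveI := FFCurve.isDVR k hdim hy
    exact IsDiscreteValuationRing.not_isField (X.presheaf.stalk (genericPoint X))
      (Field.toIsField X.functionField)
  have hmove : ∀ x : ZetaLib.ClosedPt X,
      FF.pullK (FFCurve.toPlace k hdim x) σ = FFCurve.toPlace k hdim ⟨f x.1, hclosed x⟩ := fun x =>
    FFCurve.pullK_toPlace k hdim hη x _ rfl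
  refine ⟨⟨f, f, hff, hff⟩, hf, hff, ?_, fun R R' hR hR' hRR' => ?_⟩
  · have h := (hmove p).symm.trans hσP
    exact congrArg Subtype.val (FFCurve.toPlace_injective k hdim h)
  · change f R = R' at hRR'
    let r : ZetaLib.ClosedPt X := ⟨R, hR⟩
    let r' : ZetaLib.ClosedPt X := ⟨R', hR'⟩
    obtain ⟨u, hu, hdiv⟩ := hσR (FFCurve.toPlace k hdim r)
    rw [hmove r, show (⟨f r.1, hclosed r⟩ : ZetaLib.ClosedPt X) = r' from Subtype.ext hRR'] at hdiv
    have hd : ∀ x y : ZetaLib.ClosedPt X, FFCurve.DivEq k
        (FFCurve.divOf k hdim (AmpleLib.isInvertible_tensorMod (FFCurve.isInvertible_pointI k hdim x)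
          (FFCurve.isInvertible_pointI k hdim y)))
        (-Finsupp.single (FFCurve.toPlace k hdim x) 1 + -Finsupp.single (FFCurve.toPlace k hdim y) 1) :=
      fun x y => FFCurve.DivEq.trans' k hdim (FFCurve.divEq_tensor k hdim _ _)
        (FFCurve.DivEq.add' k hdim (FFCurve.divEq_pointI k hdim x) (FFCurve.divEq_pointI k hdim y))
    obtain ⟨w, hw, he⟩ := FFCurve.DivEq.trans' k hdim (hd p q)
      (FFCurve.DivEq.trans' k hdim (E := -Finsupp.single (FFCurve.toPlace k hdim r) (1 : ℤ) + -Finsupp.single (FFCurve.toPlace k hdim r') 1)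
        ⟨u, hu, by rw [← neg_add, ← neg_add, hdiv]; abel⟩ (FFCurve.DivEq.symm' k hdim (hd r r')))
    exact FFCurve.nonempty_iso_of_div k hdim
      (AmpleLib.isInvertible_tensorMod (FFCurve.isInvertible_pointI k hdim r) (FFCurve.isInvertible_pointI k hdim r'))
      (AmpleLib.isInvertible_tensorMod (FFCurve.isInvertible_pointI k hdim p) (FFCurve.isInvertible_pointI k hdim q))
      (a := w⁻¹) (inv_ne_zero hw)
      (by rw [FF.div_inv hK.1, sub_neg_eq_add]; exact he)

end Groth.Agent.S11349
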