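import Groth.Statements.S11351
import Groth.Agent.FFCurve.Involution
import Groth.Agent.FFCurve.InvolutionFix
import Groth.Agent.FFCurve.DoubleCover
import Groth.Agent.FFCurve.P1Deg
import Groth.Agent.FFCurve.Cover

set_option autoImplicit false
universe u
open CategoryTheory CategoryTheory.Limits AlgebraicGeometry
open Curves

namespace Groth.Agent.S11351

open TopologicalSpace FunFld WithZero Groth.Agent IntermediateField

set_option linter.style.haveILetI false
set_option backward.isDefEq.respectTransparency false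
set_option backward.isDefEq.respectTransparency.types false

section field

variable {k : Type u} {K : Type u} [Field k] [Field K] [Algebra k K]

/-- A subfield of index two generated by one element is generated by a function with one double
pole. -/
lemma exists_double_pole [IsAlgClosed k] (hK : IsFunctionField k K) (hg : genus k K = 1)
    (h2 : (2 : k) ≠ 0) {t : K} (ht : Transcendental k t)
    (hdeg : Module.finrank k⟮t⟯ K = 2) :
    ∃ (P : Place k K) (x : K), k⟮x⟯ = k⟮t⟯ ∧ x ∈ L (Finsupp.single P 2) ∧ P.ord x = -2 := by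
  classical
  set F : IntermediateField k K := k⟮t⟯ with hFdef
  haveI : FiniteDimensional F K := Module.finite_of_finrank_pos (by omega)
  haveI : Algebra.IsQuadraticExtension F K := { finrank_eq_two' := hdeg }
  haveI : Algebra.IsSeparable F K := by
    obtain ⟨p, hp⟩ := CharP.exists k
    haveI : CharP F p := charP_of_injective_algebraMap (algebraMap k F).injective p
    haveI := IntermediateField.isSimpleOrder_of_finrank_prime F K (by rw [hdeg]; exact Nat.prime_two)
    rcases eq_bot_or_eq_top (separableClosure F K) with h | h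
    · exfalso
      haveI : IsPurelyInseparable F K := separableClosure.eq_bot_iff.1 h
      rcases CharP.char_is_prime_or_zero k p with hpp | hp0
      · haveI := Fact.mk hpp
        haveI : ExpChar F p := ExpChar.prime hpp
        obtain ⟨n, hn⟩ := IsPurelyInseparable.finrank_eq_pow F K p
        rw [hdeg] at hn
        have : p ∣ 2 := by
          rcases n with _ | n
          · simp at hn
          · exact hn ▸ dvd_pow_self p n.succ_ne_zero
        have hp2 : p = 2 := (Nat.prime_dvd_prime_iff_eq hpp Nat.prime_two).1 this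
        subst hp2
        exact h2 (CharP.cast_eq_zero k 2)
      · subst hp0
        haveI : CharZero F := CharP.charP_to_charZero F
        haveI : ExpChar F 1 := ExpChar.zero
        obtain ⟨n, hn⟩ := IsPurelyInseparable.finrank_eq_pow F K 1
        rw [hdeg, one_pow] at hn
        omega
    · exact (separableClosure.eq_top_iff F K).1 h
  haveI : IsGalois F K := ⟨⟩
  have hcard : Nat.card (K ≃ₐ[F] K) = 2 := (IsGalois.card_aut_eq_finrank F K).trans hdeg
  haveI : Nontrivial (K ≃ₐ[F] K) := Finite.one_lt_card_iff_nontrivial.1 (by omega)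
  obtain ⟨s, hs⟩ := exists_ne (1 : K ≃ₐ[F] K)
  set g : F := IntermediateField.AdjoinSimple.gen k t
  have hgt : Transcendental k g := fun h => ht (h.algebraMap (A := K))
  have htop : IntermediateField.adjoin k ({g} : Set F) = (⊤ : IntermediateField k F) := by
    apply IntermediateField.lift_injective
    rw [IntermediateField.lift_adjoin_simple, IntermediateField.lift_top]
    rfl
  have hF : IsFunctionField k F := by
    refine ⟨⟨g, hgt, Module.finite_of_finrank_pos (by rw [FF.finrank_top_eq_one htop]; exact one_pos)⟩,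
      fun x hx => ?_⟩
    obtain ⟨c, hc⟩ := hK.2 (x : K) (hx.algebraMap)
    exact ⟨c, Subtype.ext hc⟩
  obtain ⟨hfin, hH⟩ := FFCurve.quadratic_hurwitz hF hK h2 hdeg hs
  rw [FF.genus_eq_zero_of_rational hF htop, hg] at hH
  obtain ⟨P, hP⟩ : {Q : Place k K | FF.pull Q s = Q}.Nonempty :=
    Set.nonempty_of_ncard_ne_zero (by push_cast at hH; omega)
  -- a generator of `F` vanishing at `P`
  obtain ⟨w, hwF, hwP⟩ : ∃ w, k⟮w⟯ = F ∧ P.1 w < 1 := by
    by_cases h1 : P.1 t ≤ 1
    · obtain ⟨c, hc⟩ := FF.exists_residue hK P h1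
      refine ⟨t - algebraMap k K c, ?_, hc⟩
      apply le_antisymm <;> rw [adjoin_simple_le_iff]
      · exact sub_mem (mem_adjoin_simple_self k t) (IntermediateField.algebraMap_mem _ c)
      · have h := add_mem (mem_adjoin_simple_self k (t - algebraMap k K c))
          (IntermediateField.algebraMap_mem _ c)
        rwa [sub_add_cancel] at h
    · refine ⟨t⁻¹, ?_, by rw [map_inv₀]; exact inv_lt_one_of_one_lt₀ (not_le.1 h1)⟩
      apply le_antisymm <;> rw [adjoin_simple_le_iff]
      · exact inv_mem (mem_adjoin_simple_self k t)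
      · have := inv_mem (mem_adjoin_simple_self k t⁻¹)
        rwa [inv_inv] at this
  have hw : Transcendental k w := fun h => by
    haveI : FiniteDimensional k k⟮w⟯ := IntermediateField.adjoin.finiteDimensional h.isIntegral
    have hmem : t ∈ k⟮w⟯ := hwF ▸ mem_adjoin_simple_self k t
    exact ht ((Algebra.IsAlgebraic.isAlgebraic (R := k) (⟨t, hmem⟩ : k⟮w⟯)).algebraMap)
  have hw0 : w ≠ 0 := fun h => hw (h ▸ isAlgebraic_zero)
  have hsupp : ∀ T : Place k K, T ≠ P → T.ord w ≤ 0 := by
    intro T hT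
    by_contra h
    obtain ⟨τ, hτ⟩ := FFCurve.zeros_orbit hK hw hwF hwP ((FF.val_lt_one_iff _ hw0).2 (by omega : 0 < T.ord w))
    obtain ⟨a, b, -, huniv⟩ := Nat.card_eq_two_iff.1 hcard
    have hall : τ = 1 ∨ τ = s := by
      have h1 : ∀ x : K ≃ₐ[F] K, x = a ∨ x = b := fun x => by
        have : x ∈ ({a, b} : Set (K ≃ₐ[F] K)) := huniv ▸ Set.mem_univ x
        simpa using this
      rcases h1 1 with h | h <;> rcases h1 s with h' | h' <;> rcases h1 τ with h'' | h'' <;>
        first | exact Or.inl (h''.trans h.symm) | exact Or.inr (h''.trans h'.symm) | exact absurd (h'.trans h.symm) hs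
    rcases hall with e | e
    · exact hT (by rw [← hτ, e, FF.pull_one])
    · exact hT (by rw [← hτ, e]; exact hP)
  have hpos := (FF.val_lt_one_iff _ hw0).1 hwP
  have hd : FF.zeroDiv (k := k) w = Finsupp.single P (P.ord w) := by
    ext T
    rw [FF.zeroDiv, Finsupp.sup_apply, FF.div_apply hK.1, Finsupp.coe_zero, Pi.zero_apply, Finsupp.single_apply]
    split_ifs with h
    · subst h; omega
    · have := hsupp T (Ne.symm h); omega
  have hdg := FF.deg_zeroDiv hK.1 hw
  rw [hd, FF.deg_single, FF.deg_eq_one hK P, hwF, hdeg] at hdg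
  push_cast at hdg
  have hord : P.ord w⁻¹ = -2 := by rw [FF.ord_inv]; omega
  refine ⟨P, w⁻¹, ?_, fun T => ?_, hord⟩
  · rw [← hwF]
    apply le_antisymm <;> rw [adjoin_simple_le_iff]
    · exact inv_mem (mem_adjoin_simple_self k w)
    · have := inv_mem (mem_adjoin_simple_self k w⁻¹)
      rwa [inv_inv] at this
  · rw [FF.val_eq_exp_ord T (inv_ne_zero hw0), exp_le_exp, FF.ord_inv, Finsupp.single_apply]
    split_ifs with h
    · subst h; omega
    · have := hsupp T (Ne.symm h); omega

/-- An automorphism carries one subfield of index two onto the other. -/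
lemma exists_aut_map [IsAlgClosed k] (hK : IsFunctionField k K) (hg : genus k K = 1)
    (hchar : ringChar k ≠ 2) {t₁ t₂ : K} (ht₁ : Transcendental k t₁) (ht₂ : Transcendental k t₂)
    (hd₁ : Module.finrank k⟮t₁⟯ K = 2) (hd₂ : Module.finrank k⟮t₂⟯ K = 2) :
    ∃ σ : K ≃ₐ[k] K, σ.trans σ = AlgEquiv.refl ∧
      (σ : K → K) '' (k⟮t₂⟯ : Set K) = (k⟮t₁⟯ : Set K) := by
  classical
  have h2 : (2 : k) ≠ 0 := Ring.two_ne_zero hchar
  obtain ⟨P₁, x₁, hx₁F, hx₁, ho₁⟩ := exists_double_pole hK hg h2 ht₁ hd₁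
  obtain ⟨P₂, x₂, hx₂F, hx₂, ho₂⟩ := exists_double_pole hK hg h2 ht₂ hd₂
  obtain ⟨σ, hσσ, hσP, -⟩ := FFCurve.exists_involution hK hg hchar P₁ P₂
  refine ⟨σ, hσσ, ?_⟩
  have hss : ∀ y, σ (σ y) = y := fun y => DFunLike.congr_fun hσσ y
  have hx10 : x₁ ≠ 0 := fun e => by simp [e] at ho₁
  have hx20 : x₂ ≠ 0 := fun e => by simp [e] at ho₂
  have hmem : σ x₂ ∈ L (Finsupp.single P₁ (2 : ℤ)) := fun R => by
    show (FF.pullK R σ).1 x₂ ≤ _
    by_cases hR : R = P₁
    · subst hR
      rw [hσP, FF.val_eq_exp_ord P₂ hx20, ho₂, Finsupp.single_eq_same]; rfl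
    · have hne : FF.pullK R σ ≠ P₂ := by
        rintro h
        apply hR
        have e : ∀ S : Place k K, FF.pullK (FF.pullK S σ) σ = S := fun S =>
          Subtype.ext (Valuation.ext fun y => congrArg S.1 (hss y))
        rw [← e R, h, ← hσP, e]
      have := hx₂ (FF.pullK R σ)
      rw [Finsupp.single_eq_of_ne hne] at this
      rw [Finsupp.single_eq_of_ne hR]
      exact this
  have hell : ell (Finsupp.single P₁ (2 : ℤ)) = 2 := FF.ell_nsmul_point hK hg (FF.deg_eq_one hK P₁) one_le_two
  have hP1 : (1 : K) ∈ L (Finsupp.single P₁ (2 : ℤ)) := fun R => by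
    rw [map_one, ← exp_zero, exp_le_exp, Finsupp.single_apply]; split_ifs <;> omega
  have hli : LinearIndependent k ![(1 : K), x₁] := by
    rw [LinearIndependent.pair_iff]
    intro a b hab
    by_cases hb : b = 0
    · subst hb
      simp only [zero_smul, add_zero, smul_eq_zero, one_ne_zero, or_false] at hab
      exact ⟨hab, rfl⟩
    · exfalso
      have : x₁ = algebraMap k K (-a / b) := by
        rw [Algebra.algebraMap_eq_smul_one, ← sub_eq_zero]
        have h' : b • x₁ = -(a • (1 : K)) := eq_neg_of_add_eq_zero_right hab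
        rw [← smul_right_inj hb, smul_sub, smul_smul, mul_div_cancel₀ _ hb, h', smul_zero, neg_smul]
        abel
      rw [this, FF.ord_const] at ho₁
      omega
  haveI := FF.finiteDimensional_L hK.1 (Finsupp.single P₁ (2 : ℤ))
  have hspan : Submodule.span k (Set.range ![(1 : K), x₁]) = L (Finsupp.single P₁ (2 : ℤ)) := by
    refine Submodule.eq_of_le_of_finrank_eq (Submodule.span_le.2 ?_) ?_
    · rintro _ ⟨i, rfl⟩; fin_cases i <;> assumption
    · rw [finrank_span_eq_card hli, Fintype.card_fin]; exact hell.symm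
  have hin : σ x₂ ∈ k⟮x₁⟯ := by
    have h := hspan ▸ hmem
    have hle : Submodule.span k (Set.range ![(1 : K), x₁]) ≤ k⟮x₁⟯.toSubalgebra.toSubmodule :=
      Submodule.span_le.2 (by
        rintro _ ⟨i, rfl⟩; fin_cases i
        · exact one_mem k⟮x₁⟯
        · exact mem_adjoin_simple_self k x₁)
    exact hle h
  rw [← hx₁F, ← hx₂F]
  have hmap : (k⟮x₂⟯).map σ.toAlgHom = k⟮σ x₂⟯ := by
    rw [IntermediateField.adjoin_map, Set.image_singleton]; rfl
  have hcoe : (σ : K → K) '' (k⟮x₂⟯ : Set K) = (k⟮σ x₂⟯ : Set K) := by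
    rw [← hmap]; rfl
  rw [hcoe]
  congr 1
  refine le_antisymm (adjoin_simple_le_iff.2 hin) (adjoin_simple_le_iff.2 ?_)
  obtain ⟨a, ha⟩ := (Submodule.mem_span_range_iff_exists_fun k).1 (hspan ▸ hmem)
  simp only [Fin.sum_univ_two, Matrix.cons_val_zero, Matrix.cons_val_one] at ha
  have hne : a 1 ≠ 0 := fun h => by
    rw [h, zero_smul, add_zero, ← Algebra.algebraMap_eq_smul_one] at ha
    have := congrArg σ ha
    rw [AlgEquiv.commutes, hss] at this
    rw [← this, FF.ord_const] at ho₂
    omega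
  have hx1 : x₁ = (a 1)⁻¹ • (σ x₂ - a 0 • (1 : K)) := by
    rw [← ha, add_sub_cancel_left, inv_smul_smul₀ hne]
  rw [hx1]
  refine IntermediateField.smul_mem _ (sub_mem (mem_adjoin_simple_self k _) ?_)
  exact IntermediateField.smul_mem _ (one_mem _)

end field

section scheme

variable (k : Type u) [Field k] {X : Scheme.{u}} [IsIntegral X] [X.Over (Spec (CommRingCat.of k))]
  [IsProper (X ↘ Spec (CommRingCat.of k))] [IsIntegral (CohB1.ProjSpace 1 k)]

/-- The subfield of a finite degree two map to the line. -/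
lemma exists_subfield (hdim : topologicalKrullDim X = 1) (φ : X ⟶ CohB1.ProjSpace 1 k) [IsFinite φ]
    (hφ : φ ≫ CohB1.ProjSpace.toSpec 1 k = X ↘ Spec (CommRingCat.of k))
    (hd : FlatMod.IsFinLocFreeOfRank 2 ((Scheme.Modules.pushforward φ).obj (Coh.structureModule X))) :
    ∃ (e : φ (genericPoint X) = genericPoint (CohB1.ProjSpace 1 k)) (t : X.functionField),
      Transcendental k t ∧ Module.finrank k⟮t⟯ X.functionField = 2 ∧
      Set.range (VBLib.PushTrace.genMap φ e) = (k⟮t⟯ : Set X.functionField) := by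
  haveI : IsProper (CohB1.ProjSpace.toSpec 1 k) := ProjProper.Basic.isProper_toSpec 1 k
  obtain ⟨-, -, -, hPd⟩ := FFCurve.p1_facts k
  letI : (CohB1.ProjSpace 1 k).Over (Spec (CommRingCat.of k)) := ⟨CohB1.ProjSpace.toSpec 1 k⟩
  haveI : IsProper ((CohB1.ProjSpace 1 k) ↘ Spec (CommRingCat.of k)) :=
    ‹IsProper (CohB1.ProjSpace.toSpec 1 k)›
  obtain ⟨j, hj, hjs⟩ := FFCurve.exists_lineChart k
  haveI := hj
  obtain ⟨t, ht, heq, hres, -⟩ := FFCurve.exists_param_of_chart k hdim φ hφ j hjs
  have e : φ (genericPoint X) = genericPoint (CohB1.ProjSpace 1 k) := by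
    by_contra hne
    have h := VarDim.isClosed_singleton_of_ne_genericPoint (X := CohB1.ProjSpace 1 k) k hPd hne
    have huniv : φ ⁻¹' {φ (genericPoint X)} = Set.univ :=
      Set.eq_univ_of_forall fun x => (genericPoint_specializes x).mem_closed (h.preimage φ.continuous) rfl
    haveI : DiscreteTopology X := by
      have := φ.isDiscrete_preimage_singleton (φ (genericPoint X))
      rw [huniv] at this
      exact isDiscrete_univ_iff.1 this
    have h0 : topologicalKrullDim X ≤ 0 := topologicalKrullDim_zero_of_discreteTopology X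
    rw [hdim] at h0
    exact absurd h0 (by norm_num)
  refine ⟨e, t, ht, ?_, ?_⟩
  · haveI : IsLocallyNoetherian (CohB1.ProjSpace 1 k) :=
      LocallyOfFiniteType.isLocallyNoetherian (CohB1.ProjSpace.toSpec 1 k)
    rw [← hres]
    obtain ⟨e'⟩ := EulerChar.stalk_ofRank hd (φ (genericPoint X))
    rw [← EulerChar.finrank_stalk_push φ (fun x => EulerChar.eq_genericPoint_of_map_eq φ hφ hdim hPd e) e,
      ← e'.finrank_eq, Module.finrank_fin_fun]
  · have h1 : Spec.map (CommRingCat.ofHom (VBLib.PushTrace.genMap φ e)) ≫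
        (CohB1.ProjSpace 1 k).fromSpecStalk (genericPoint (CohB1.ProjSpace 1 k)) =
        Spec.map (CommRingCat.ofHom (Polynomial.aeval (R := k) t).toRingHom) ≫ j :=
      (FFCurve.fromSpecStalk_genMap φ e).symm.trans heq
    set a := CommRingCat.ofHom (Polynomial.aeval (R := k) t).toRingHom
    have hpt : (Spec.map a ≫ j) (IsLocalRing.closedPoint X.functionField) =
        genericPoint (CohB1.ProjSpace 1 k) := by
      rw [← h1, Scheme.Hom.comp_apply]
      refine Eq.trans ?_ Scheme.fromSpecStalk_closedPoint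
      congr 1
      exact Subsingleton.elim _ _
    rw [← FFCurve.range_stalkClosedPointTo_aeval k t]
    have h2 : Set.range (Scheme.stalkClosedPointTo (Spec.map a ≫ j)) =
        Set.range (Scheme.stalkClosedPointTo (Spec.map a)) := by
      rw [Scheme.stalkClosedPointTo_comp]
      refine Set.ext fun z => ⟨fun ⟨w, hw⟩ => ⟨_, hw⟩, fun ⟨w, hw⟩ => ?_⟩
      obtain ⟨w', rfl⟩ := (ConcreteCategory.bijective_of_isIso
        (j.stalkMap (Spec.map a (IsLocalRing.closedPoint X.functionField)))).2 w
      exact ⟨w', hw⟩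
    refine Eq.trans ?_ h2
    have key : ∀ (y : CohB1.ProjSpace 1 k) (hy : (Spec.map a ≫ j) (IsLocalRing.closedPoint X.functionField) = y)
        (α : (CohB1.ProjSpace 1 k).presheaf.stalk y ⟶ X.functionField),
        Spec.map α ≫ (CohB1.ProjSpace 1 k).fromSpecStalk y = Spec.map a ≫ j →
          Set.range (Scheme.stalkClosedPointTo (Spec.map a ≫ j)) = Set.range α := by
      rintro y rfl α hα
      have hα' := hα.trans (Scheme.Spec_stalkClosedPointTo_fromSpecStalk (Spec.map a ≫ j)).symm
      rw [Spec.map_injective ((cancel_mono _).1 hα')]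
    exact (key _ hpt (CommRingCat.ofHom (VBLib.PushTrace.genMap φ e)) h1).symm

end scheme

/-- Take an algebraically closed field k of characteristic different from 2 and an elliptic curve X over
k (integral, proper over k, of dimension one, all local rings regular, of genus dim_k H^1(X, O_X) =
1), and let f₁, f₂ : X → P^1_k be two finite morphisms over k of degree 2 (the direct image of O_X
is locally free of rank 2). Then there are an automorphism σ of X over k and an automorphism τ of
P^1_k over k such that f₂ ∘ σ = τ ∘ f₁. -/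
theorem result (k : Type u) [Field k] [IsAlgClosed k] (X : Scheme.{u}) [X.Over (Spec (CommRingCat.of k))]
    [IsIntegral X] [IsProper (X ↘ (Spec (CommRingCat.of k)))] (hdim : topologicalKrullDim X = 1)
    (hreg : ∀ x : X, IsRegularLocalRing (X.presheaf.stalk x)) (hchar : ringChar k ≠ 2) (hg : Curv2.genus k X = 1)
    (f₁ f₂ : X ⟶ (CohB1.ProjSpace 1 k)) [IsFinite f₁] [IsFinite f₂]
    (hf₁ : f₁ ≫ CohB1.ProjSpace.toSpec 1 k = (X ↘ (Spec (CommRingCat.of k)))) (hf₂ : f₂ ≫ CohB1.ProjSpace.toSpec 1 k = (X ↘ (Spec (CommRingCat.of k))))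
    (hd₁ : FlatMod.IsFinLocFreeOfRank 2 ((Scheme.Modules.pushforward f₁).obj (Coh.structureModule X)))
    (hd₂ : FlatMod.IsFinLocFreeOfRank 2 ((Scheme.Modules.pushforward f₂).obj (Coh.structureModule X))) :
    ∃ (σ : X ≅ X) (τ : (CohB1.ProjSpace 1 k) ≅ (CohB1.ProjSpace 1 k)), σ.hom ≫ (X ↘ (Spec (CommRingCat.of k))) = (X ↘ (Spec (CommRingCat.of k))) ∧
      τ.hom ≫ CohB1.ProjSpace.toSpec 1 k = CohB1.ProjSpace.toSpec 1 k ∧ σ.hom ≫ f₂ = f₁ ≫ τ.hom := by
  classical
  haveI : FFCurve.RegCurve X := FFCurve.regCurve_of_regular k hdim hreg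
  obtain ⟨hPp, hPs, hPi, hPd⟩ := FFCurve.p1_facts k
  haveI := hPi
  letI : (CohB1.ProjSpace 1 k).Over (Spec (CommRingCat.of k)) := ⟨CohB1.ProjSpace.toSpec 1 k⟩
  haveI : IsProper ((CohB1.ProjSpace 1 k) ↘ Spec (CommRingCat.of k)) := hPp
  haveI : Smooth ((CohB1.ProjSpace 1 k) ↘ Spec (CommRingCat.of k)) := hPs
  haveI : FFCurve.RegCurve (CohB1.ProjSpace 1 k) := FFCurve.regCurve_of_smooth k hPd
  have hK := FFCurve.isFunctionField_of_isAlgClosed k (X := X) hdim
  have hg' : genus k X.functionField = 1 := (FFCurve.genus_eq_genus k hdim hK).symm.trans hg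
  obtain ⟨e₁, t₁, ht₁, hd₁', hr₁⟩ := exists_subfield k hdim f₁ hf₁ hd₁
  obtain ⟨e₂, t₂, ht₂, hd₂', hr₂⟩ := exists_subfield k hdim f₂ hf₂ hd₂
  obtain ⟨s, hss, hmap⟩ := exists_aut_map hK hg' hchar ht₁ ht₂ hd₁' hd₂'
  obtain ⟨g, hg₀, hgη⟩ := FFCurve.exists_morph_of_algHom k (X := X) (Y := X) s.toAlgHom
  have hgg : g ≫ g = 𝟙 X := by
    refine FFCurve.hom_ext_generic' k (by rw [Category.assoc, hg₀, hg₀, Category.id_comp]) ?_
    rw [← Category.assoc, hgη, Category.assoc, hgη, ← Spec.map_comp_assoc, Category.comp_id]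
    have he : CommRingCat.ofHom (s.toAlgHom : X.functionField →+* X.functionField) ≫
        CommRingCat.ofHom (s.toAlgHom : X.functionField →+* X.functionField) = 𝟙 _ := by
      ext z
      exact DFunLike.congr_fun hss z
    erw [he, Spec.map_id, Category.id_comp]
  let σ : X ≅ X := ⟨g, g, hgg, hgg⟩
  have hgen : g (genericPoint X) = genericPoint X := by
    haveI : IsIso g := ⟨g, hgg, hgg⟩
    exact genericPoint_eq_of_isOpenImmersion g
  have e₂' : (g ≫ f₂) (genericPoint X) = genericPoint (CohB1.ProjSpace 1 k) := by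
    rw [Scheme.Hom.comp_apply, hgen, e₂]
  have hrange : Set.range (VBLib.PushTrace.genMap f₁ e₁) =
      Set.range (VBLib.PushTrace.genMap (g ≫ f₂) e₂') := by
    have h := FFCurve.fromSpecStalk_genMap (g ≫ f₂) e₂'
    rw [← Category.assoc, hgη, Category.assoc, FFCurve.fromSpecStalk_genMap f₂ e₂, ← Spec.map_comp_assoc,
      cancel_mono] at h
    have h' := Spec.map_injective h
    rw [hr₁, ← hmap, ← hr₂, ← Set.range_comp]
    exact congrArg Set.range (congrArg (fun m => ⇑(CommRingCat.Hom.hom m)) h')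
  obtain ⟨τ, hτ, hτ'⟩ := FFCurve.exists_iso_of_range_eq k (P₁ := CohB1.ProjSpace 1 k) (P₂ := CohB1.ProjSpace 1 k)
    f₁ e₁ hf₁ (g ≫ f₂) e₂' (by rw [Category.assoc]; exact (congrArg (g ≫ ·) hf₂).trans hg₀) hrange
  exact ⟨σ, τ, hg₀, hτ, hτ'.symm⟩

end Groth.Agent.S11351
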