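import Groth.Statements.S11353
import Groth.Agent.FFCurve.PointRR
import Groth.Agent.VBLib.TwistLine
import Groth.Agent.VBLib.GenusZero

set_option autoImplicit false
universe u
open CategoryTheory CategoryTheory.Limits AlgebraicGeometry
open Curves

namespace Groth.Agent.S11353

open Groth.Agent

section
variable (k : Type u) [Field k] {C : Scheme.{u}} [C.Over (Spec (CommRingCat.of k))]

include k in
lemma nontrivial_or {F A B : C.Modules} (e : F ≅ A ⊞ B) (hF : Nontrivial (Coh.HH C F 0)) :
    Nontrivial (Coh.HH C A 0) ∨ Nontrivial (Coh.HH C B 0) := by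
  by_contra hcon
  rw [not_or, not_nontrivial_iff_subsingleton, not_nontrivial_iff_subsingleton] at hcon
  obtain ⟨hA, hB⟩ := hcon
  have hid : (e.hom ≫ biprod.fst) ≫ (biprod.inl ≫ e.inv) + (e.hom ≫ biprod.snd) ≫ (biprod.inr ≫ e.inv) = 𝟙 F := by
    rw [Category.assoc, Category.assoc, ← Category.assoc biprod.fst, ← Category.assoc biprod.snd,
      ← Preadditive.comp_add, ← Preadditive.add_comp, biprod.total, Category.id_comp, e.hom_inv_id]
  haveI := hF
  obtain ⟨a, b, hab⟩ := exists_pair_ne (Coh.HH C F 0)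
  refine hab ?_
  have h := fun x : Coh.HH C F 0 => congrArg (fun φ => CurveCoh.mapL k φ 0 x) hid
  simp only [VBLib.GenusZero.mapL_add, VBLib.GenusZero.mapL_comp, VBLib.GenusZero.mapL_id, LinearMap.add_apply, LinearMap.comp_apply,
    LinearMap.id_apply] at h
  rw [← h a, ← h b, Subsingleton.elim (CurveCoh.mapL k biprod.fst 0 _) (CurveCoh.mapL k biprod.fst 0 (CurveCoh.mapL k e.hom 0 b)),
    Subsingleton.elim (CurveCoh.mapL k biprod.snd 0 _) (CurveCoh.mapL k biprod.snd 0 (CurveCoh.mapL k e.hom 0 b))]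

end

/-- Let C be a curve over an algebraically closed field k (integral, proper over k, of dimension one,
all local rings regular) and E a decomposable locally free sheaf of rank 2 — E ≅ L₁ ⊕ L₂ with L₁, L₂
invertible — which is normalized: H^0(C, E) ≠ 0 while H^0(C, E ⊗ M) = 0 for every invertible M of
negative degree. Then E ≅ O_C ⊕ L for an invertible L with deg L ≤ 0; in particular e = -deg E ≥ 0. -/
theorem result (k : Type u) [Field k] [IsAlgClosed k] (C : Scheme.{u}) [C.Over (Spec (CommRingCat.of k))]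
    [IsIntegral C] [IsProper (C ↘ (Spec (CommRingCat.of k)))] (hdimC : topologicalKrullDim C = 1)
    (hregC : ∀ x : C, IsRegularLocalRing (C.presheaf.stalk x))
    (E L₁ L₂ : C.Modules) (hL₁ : PicF.IsInvertible L₁) (hL₂ : PicF.IsInvertible L₂) (hE : Nonempty (E ≅ L₁ ⊞ L₂))
    (hn0 : Nontrivial (Coh.HH C E 0))
    (hneg : ∀ M : C.Modules, PicF.IsInvertible M → Curv2.deg k C M 1 < 0 → Subsingleton (Coh.HH C (CohB1.tensorMod E M) 0)) :
    ∃ L : C.Modules, PicF.IsInvertible L ∧ Curv2.deg k C L 1 ≤ 0 ∧ Nonempty (E ≅ Coh.structureModule C ⊞ L) := by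
  haveI := FFCurve.regCurve_of_regular k hdimC hregC
  have hK := FFCurve.isFunctionField_of_isAlgClosed (X := C) k hdimC
  obtain ⟨e⟩ := hE
  have hdeg_le : ∀ (A : C.Modules) (hA : PicF.IsInvertible A) (i : A ⟶ E) (_ : Mono i),
      Curv2.deg k C A 1 ≤ 0 := by
    intro A hA i _
    by_contra hpos
    rw [not_le, FFCurve.deg_eq k hdimC hK hA] at hpos
    obtain ⟨M, hM, a, ha, hMd⟩ := FFCurve.exists_divOf_eq k hdimC (-(FFCurve.divOf k hdimC hA))
    have hMeq := FFCurve.divEq_of_sub k hdimC ha hMd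
    have hMdeg : Curv2.deg k C M 1 < 0 := by
      rw [FFCurve.deg_eq k hdimC hK hM, FFCurve.DivEq.deg_eq k hdimC hMeq, FF.deg_neg]
      linarith
    have hsub := hneg M hM hMdeg
    have hT := AmpleLib.isInvertible_tensorMod hA hM
    have hT0 : FFCurve.DivEq k (FFCurve.divOf k hdimC hT) 0 := by
      refine FFCurve.DivEq.trans' k hdimC (FFCurve.divEq_tensor k hdimC hA hM) ?_
      have h := FFCurve.DivEq.add' k hdimC (FFCurve.divEq_refl k hdimC (FFCurve.divOf k hdimC hA)) hMeq
      rwa [add_neg_cancel] at h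
    have h1 : Module.finrank k (Coh.HH C (CohB1.tensorMod A M) 0) = 1 := by
      rw [FFCurve.finrank_zero k hdimC hK hT, FFCurve.DivEq.ell_eq k hdimC hT0, FF.ell_zero hK]
    obtain ⟨i', hi'⟩ := VBLib.exists_mono_tensor hM i
    have hS : (ShortComplex.mk i' (cokernel.π i') (cokernel.condition i')).ShortExact :=
      { exact := ShortComplex.exact_of_g_is_cokernel _ (cokernelIsCokernel i') }
    have hinj := CurveCoh.injective_mapL_zero k hS
    haveI : Nontrivial (Coh.HH C (CohB1.tensorMod A M) 0) := Module.nontrivial_of_finrank_eq_succ h1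
    haveI := hinj.nontrivial
    exact not_subsingleton (Coh.HH C (CohB1.tensorMod E M) 0) hsub
  have hiso : ∀ (A : C.Modules), PicF.IsInvertible A → Curv2.deg k C A 1 ≤ 0 →
      Nontrivial (Coh.HH C A 0) → Nonempty (A ≅ Coh.structureModule C) := by
    intro A hA hd hn
    rw [FFCurve.deg_eq k hdimC hK hA] at hd
    have hell : 0 < FunFld.ell (FFCurve.divOf k hdimC hA) := by
      rw [← FFCurve.finrank_zero k hdimC hK hA]
      haveI := hn
      haveI : FiniteDimensional k (Coh.HH C A 0) :=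
        CurveCoh.finite_HH_zero A (FFCurve.hv k hdimC) hdimC (VBLib.isCoh_of_ofRank (ProjTwist.isFinLocFreeOfRank_one hA))
      exact Module.finrank_pos
    obtain ⟨z, hz, hge⟩ := FF.exists_nonneg_equiv hK hell
    have h0 : (FFCurve.divOf k hdimC hA + FunFld.div k z) = 0 := by
      have hdd : (FFCurve.divOf k hdimC hA + FunFld.div k z).deg ≤ 0 := by
        rw [FF.deg_add, FF.deg_div hK.1]; linarith
      refine Finsupp.ext fun P => le_antisymm ?_ (hge P)
      by_contra hP
      rw [Finsupp.zero_apply, not_le] at hP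
      have hle : Finsupp.single P (1 : ℤ) ≤ FFCurve.divOf k hdimC hA + FunFld.div k z := fun R => by
        classical
        rw [Finsupp.single_apply]
        split_ifs with hR
        · subst hR; omega
        · exact hge R
      have h2 := FF.deg_mono hle
      rw [FF.deg_single, one_mul] at h2
      have h3 := FF.deg_pos hK.1 P
      omega
    have h1 : FFCurve.DivEq k (FFCurve.divOf k hdimC hA) (0 : FunFld.Divisor k C.functionField) :=
      FFCurve.DivEq.symm' k hdimC ⟨z, hz, h0.symm⟩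
    obtain ⟨w, hw, hwd⟩ := FFCurve.DivEq.trans' k hdimC (FFCurve.divEq_structureModule (X := C) k hdimC)
      (FFCurve.DivEq.symm' k hdimC h1)
    exact FFCurve.nonempty_iso_of_div k hdimC hA (FFCurve.isInvertible_structureModule (X := C))
      (inv_ne_zero hw) (by rw [hwd, FF.div_inv hK.1, sub_neg_eq_add])
  haveI : Mono (biprod.inl ≫ e.inv) := inferInstance
  haveI : Mono (biprod.inr ≫ e.inv) := inferInstance
  have hd₁ := hdeg_le L₁ hL₁ (biprod.inl ≫ e.inv) inferInstance
  have hd₂ := hdeg_le L₂ hL₂ (biprod.inr ≫ e.inv) inferInstance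
  rcases nontrivial_or k e hn0 with h | h
  · obtain ⟨a⟩ := hiso L₁ hL₁ hd₁ h
    exact ⟨L₂, hL₂, hd₂, ⟨e ≪≫ biprod.mapIso a (Iso.refl _)⟩⟩
  · obtain ⟨a⟩ := hiso L₂ hL₂ hd₂ h
    exact ⟨L₁, hL₁, hd₁, ⟨e ≪≫ biprod.braiding L₁ L₂ ≪≫ biprod.mapIso a (Iso.refl _)⟩⟩

end Groth.Agent.S11353
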