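import Groth.Statements.S11355
import Groth.Agent.FFCurve.PointRR
import Groth.Agent.FFCurve.G12

set_option autoImplicit false
universe u
open CategoryTheory CategoryTheory.Limits AlgebraicGeometry
open Curves FunFld
set_option linter.style.haveILetI false
set_option backward.isDefEq.respectTransparency false
set_option backward.isDefEq.respectTransparency.types false

namespace Groth.Agent.S11355

/-- Let k be an algebraically closed field and X a curve over k (an integral scheme, proper over k, of
dimension one, with all local rings regular), of genus g ≥ 2. If X is hyperelliptic its g^1_2 is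
unique: for any two linear series (M, s), (M', s') of degree 2 and dimension 1 on X (invertible
modules of degree 2, each with two k-linearly independent global sections), M ≅ M' (existence of an
isomorphism; for g ≥ 2 such a module has exactly a 2-dimensional space of sections, so the linear
series coincide). -/
theorem result (k : Type u) [Field k] [IsAlgClosed k] (X : Scheme.{u}) [X.Over (Spec (CommRingCat.of k))]
    [IsIntegral X] [IsProper (X ↘ (Spec (CommRingCat.of k)))] (hdim : topologicalKrullDim X = 1)
    (hreg : ∀ x : X, IsRegularLocalRing (X.presheaf.stalk x)) (hg : 2 ≤ Curv2.genus k X)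
    (M : X.Modules) (s : Fin 2 → LinSer.Sect X M) (hM : LinSer.IsLinSer k X M 2 1 s)
    (M' : X.Modules) (s' : Fin 2 → LinSer.Sect X M') (hM' : LinSer.IsLinSer k X M' 2 1 s') :
    Nonempty (M ≅ M') := by
  haveI := Groth.Agent.FFCurve.regCurve_of_regular k hdim hreg
  have hK := Groth.Agent.FFCurve.isFunctionField_of_isAlgClosed (X := X) k hdim
  rw [FFCurve.genus_eq_genus k hdim hK] at hg
  have key : ∀ (N : X.Modules) (t : Fin 2 → LinSer.Sect X N), LinSer.IsLinSer k X N 2 1 t →
      ∀ hN : PicF.IsInvertible N,
      (FFCurve.divOf k hdim hN).deg = 2 ∧ 2 ≤ ell (FFCurve.divOf k hdim hN) := by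
    intro N t ht hN
    refine ⟨by rw [← FFCurve.deg_eq k hdim hK hN, ht.2.1]; rfl, ?_⟩
    set D := FFCurve.divOf k hdim hN
    let c : Γ(N, ⊤) →+ X.functionField := FFCurve.crd (FFCurve.triv hN) ⊤ trivial
    let v : Fin 2 → ↥(FunFld.L D) := fun i => ⟨c (t i), fun P => by
      obtain ⟨x, rfl⟩ := (FFCurve.placeEquiv k hdim).surjective P
      exact FFCurve.val_crd_le (FFCurve.triv hN) k hdim hN (W := ⊤) trivial (t i) x trivial⟩
    have hv : LinearIndependent k v := Fintype.linearIndependent_iff.2 fun a ha i => by
      refine congrFun (ht.2.2 a ?_) i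
      refine FFCurve.crd_injective (FFCurve.triv hN) hN ⊤ trivial ?_
      show c _ = c 0
      rw [map_zero]
      have h := congrArg Subtype.val ha
      simp only [Fin.sum_univ_two, Submodule.coe_add, Submodule.coe_smul, ZeroMemClass.coe_zero] at h
      erw [Fin.sum_univ_two, map_add]
      have hlin : ∀ (r : k) (m : LinSer.Sect X N),
          c ((Coh.toGlobal (X ↘ Spec (CommRingCat.of k)) r) • m) = r • c m := fun r m => by
        refine (FFCurve.crd_smul (FFCurve.triv hN) ⊤ trivial _ m).trans ?_
        rw [Algebra.smul_def]; rfl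
      rw [hlin, hlin]
      exact h
    haveI := FF.finiteDimensional_L hK.1 D
    exact (Fintype.card_fin 2).symm.le.trans hv.fintype_card_le_finrank
  obtain ⟨h1, h2⟩ := key M s hM hM.1
  obtain ⟨h3, h4⟩ := key M' s' hM' hM'.1
  obtain ⟨z, hz, he⟩ := FFCurve.unique_g12 hK hg h1 h3 h2 h4
  exact FFCurve.nonempty_iso_of_div k hdim hM.1 hM'.1 (a := z⁻¹) (inv_ne_zero hz)
    (by rw [he, FF.div_inv hK.1]; abel)

end Groth.Agent.S11355
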