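import Groth.Statements.S11357
import Groth.Agent.RamDiv.Basic
import Groth.Agent.JacPts.Hurwitz

set_option autoImplicit false
universe u
open CategoryTheory CategoryTheory.Limits AlgebraicGeometry
open Curves

namespace Groth.Agent.S11357

set_option linter.style.haveILetI false
set_option backward.isDefEq.respectTransparency false
set_option backward.isDefEq.respectTransparency.types false

/-- Let f : X → Y be a finite morphism over k of curves over an algebraically closed field k (integral,
proper over k, of dimension one, all local rings regular), sending the generic point to the generic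
point, with K(X)/K(Y) separable, and let R be the ramification divisor Σ_P length(Ω_{X/Y,P}) · P,
whose ideal sheaf I_R is the 0-th Fitting ideal of the torsion sheaf Ω_{X/Y} (at P it is m_P to the
power length(Ω_{X/Y,P})). Then K_X is linearly equivalent to f^* K_Y + R: Ω_{X/k} ⊗ I_R ≅ f^*
Ω_{Y/k} (existence of an isomorphism, i.e. equality of classes in Pic X). -/
theorem result (k : Type u) [Field k] [IsAlgClosed k] (X : Scheme.{u}) [X.Over (Spec (CommRingCat.of k))]
    [IsIntegral X] [IsProper (X ↘ (Spec (CommRingCat.of k)))] (hdimX : topologicalKrullDim X = 1)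
    (hregX : ∀ x : X, IsRegularLocalRing (X.presheaf.stalk x))
    (Y : Scheme.{u}) [Y.Over (Spec (CommRingCat.of k))]
    [IsIntegral Y] [IsProper (Y ↘ (Spec (CommRingCat.of k)))] (hdimY : topologicalKrullDim Y = 1)
    (hregY : ∀ x : Y, IsRegularLocalRing (Y.presheaf.stalk x))
    (f : X ⟶ Y) [IsFinite f] (hf : f ≫ (Y ↘ (Spec (CommRingCat.of k))) = X ↘ (Spec (CommRingCat.of k)))
    (e : f (genericPoint X) = genericPoint Y) :
    letI := ((Y.presheaf.stalkSpecializes (specializes_of_eq e) ≫ f.stalkMap (genericPoint X)).hom).toAlgebra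
    Algebra.IsSeparable Y.functionField X.functionField →
      Nonempty (CohB1.tensorMod (Omega.sheaf (X ↘ (Spec (CommRingCat.of k)))) (ClSub.idealMod (Fitt.sheafIdeal (Omega.sheaf f) 0)) ≅
        (Scheme.Modules.pullback f).obj (Omega.sheaf (Y ↘ (Spec (CommRingCat.of k))))) := by
  intro hsep
  haveI := FFCurve.smooth_of_regular (X ↘ Spec (CommRingCat.of k)) hregX
  haveI := FFCurve.smooth_of_regular (Y ↘ Spec (CommRingCat.of k)) hregY
  haveI := FFCurve.regCurve_of_regular k hdimX hregX
  haveI := FFCurve.regCurve_of_regular k hdimY hregY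
  haveI : IsNoetherian X := EulerChar.isNoetherian k (X := X)
  have hΩX := FFCurve.isInvertible_omega (X := X) k hdimX
  have hΩY := FFCurve.isInvertible_omega (X := Y) k hdimY
  have hY := Omega.DiagUniv.isUniversal_dOmega (f := Y ↘ Spec (CommRingCat.of k))
  have hex : ∃ (Ω : X.Modules) (d : OmegaSh.Der (f ≫ (Y ↘ Spec (CommRingCat.of k))) Ω),
      OmegaSh.IsUniversal d ∧ Ω = Omega.sheaf (X ↘ Spec (CommRingCat.of k)) := by
    rw [hf]
    exact ⟨_, _, Omega.DiagUniv.isUniversal_dOmega _, rfl⟩
  obtain ⟨ΩX, dX, hX, rfl⟩ := hex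
  have hXY := Omega.DiagUniv.isUniversal_dOmega (f := f)
  obtain ⟨c₁, hc₁, -⟩ := Omega.Basic.existsUnique_diffCompat (h := f) (b := 𝟙 (Spec (CommRingCat.of k)))
    (Category.comp_id (f ≫ (Y ↘ Spec (CommRingCat.of k)))) hY dX
  obtain ⟨c₂, hc₂, -⟩ := Omega.Basic.existsUnique_diffCompat (h := 𝟙 X) (b := (Y ↘ Spec (CommRingCat.of k)))
    (Category.id_comp (f ≫ (Y ↘ Spec (CommRingCat.of k)))).symm hX (OmegaSh.dOmega f)
  obtain ⟨hcol⟩ := Omega.Transitivity.nonempty_isColimit hY hX hXY hc₁ hc₂
  haveI : Smooth (f ≫ (Y ↘ Spec (CommRingCat.of k))) := by rw [hf]; infer_instance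
  haveI : Mono c₁ := Omega.SeparableMono.mono_of_separable (pX := f ≫ (Y ↘ Spec (CommRingCat.of k))) rfl
    (JacPts.Hurwitz.denseRange_of_generic f e) (JacPts.Hurwitz.separable_residue f e hsep) hY hX hc₁
  have hP := PicLoc.isInvertible_pullback f hΩY
  have hPc := VBLib.isCoh_of_ofRank (ProjTwist.isFinLocFreeOfRank_one hP)
  have hXc := VBLib.isCoh_of_ofRank (ProjTwist.isFinLocFreeOfRank_one hΩX)
  let i := (cokernelIsCokernel c₁).coconePointUniqueUpToIso hcol
  have hC : Coh.IsCoh (Omega.sheaf f) := CohDev.isCoh_of_iso i (CohDev.isCoh_cokernel c₁ hPc.1 hXc)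
  haveI := hC.1
  haveI := hC.2
  exact RamDiv.nonempty_iso c₁ ((Scheme.Modules.pullbackId X).inv.app _ ≫ c₂)
    (Omega.Transitivity.comp_eq_zero hY hc₁ hc₂)
    { exact := ShortComplex.exact_of_g_is_cokernel _ hcol
      mono_f := inferInstance
      epi_g := Cofork.IsColimit.epi hcol } hP hΩX

end Groth.Agent.S11357
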