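import Groth.Statements.S11359
import Groth.Agent.InjHull.BaseChange
import Groth.Agent.Gor.FlatLocal
import Groth.Agent.Gor.Basic

set_option autoImplicit false
universe u
open InjHull

namespace Groth.Agent.S11359

/-- For a flat homomorphism A → B of Noetherian local rings whose fibre ring B/m_A B is an Artinian
Gorenstein local ring, tensoring an injective hull of the residue field of A with B gives an
injective hull of the residue field of B. -/
theorem result (A : Type u) [CommRing A] [IsLocalRing A] [IsNoetherianRing A] (B : Type u) [CommRing B] [IsLocalRing B] [IsNoetherianRing B] [Algebra A B] [Module.Flat A B] (hG : LocCoh.IsGorensteinLocalRing (B ⧸ (IsLocalRing.maximalIdeal A).map (algebraMap A B))) (hArt : IsArtinianRing (B ⧸ (IsLocalRing.maximalIdeal A).map (algebraMap A B))) (E : Type u) [AddCommGroup E] [Module A E] (f : IsLocalRing.ResidueField A →ₗ[A] E) (hf : InjHull.IsInjectiveHull f) : ∃ g : IsLocalRing.ResidueField B →ₗ[B] TensorProduct A B E, InjHull.IsInjectiveHull g := by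
  let J := (IsLocalRing.maximalIdeal A).map (algebraMap A B)
  have hJ : J ≠ ⊤ := Ideal.Quotient.nontrivial_iff.mp inferInstance
  have : IsLocalHom (algebraMap A B) :=
    ((IsLocalRing.local_hom_TFAE (algebraMap A B)).out 0 2).mpr (IsLocalRing.le_maximalIdeal hJ)
  refine InjHull.BaseChange.exists_hull_baseChange hf (isFiniteLength_iff_isNoetherian_isArtinian.mpr
    ⟨inferInstance, isArtinian_of_surjective_algebraMap (R := B ⧸ J) Ideal.Quotient.mk_surjective⟩) ?_
  rw [← Gor.FlatLocal.length_socle_quotient J]
  obtain ⟨φ, hφ⟩ := Gor.Basic.exists_socle_of_artinian (A := B ⧸ J)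
  obtain ⟨k, hk⟩ := Gor.Basic.exists_hasInjectiveDimensionLT (A := B ⧸ J)
  exact Gor.Basic.length_socle_of_injective hφ (Gor.Basic.injective_of_socle_of_finite_id hφ k hk)

end Groth.Agent.S11359
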