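import Groth.Statements.S11360
import Groth.Agent.DualCx.LocalGlobal

set_option autoImplicit false
universe u
open CategoryTheory
attribute [local instance] HasDerivedCategory.standard
open Dual

namespace Groth.Agent.S11360

/-- Let A be a Noetherian ring and R an object of D(A) with finite cohomology modules and of finite
injective dimension (isomorphic to a bounded complex of injective modules). If for every prime p of
A the derived base change of R to A_p (the total left derived functor of extension of scalars,
assumed to exist) is a dualizing complex for A_p, then R is a dualizing complex for A. (The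
published statement is for a locally Noetherian scheme and the stalks at all points; this row is the
affine case. Without the global finite injective dimension hypothesis the conclusion fails, e.g. for
a regular Noetherian ring of infinite Krull dimension.) -/
theorem result (A : Type u) [CommRing A] [IsNoetherianRing A] (R : Dual.D A) (hfin : ∀ i : ℤ, Module.Finite A (Dual.HD A R i)) (hfid : DRing.HasFiniteInjDim A R) [∀ p : PrimeSpectrum A, DRing.HasLBaseChange (algebraMap A (Localization.AtPrime p.asIdeal))] (h : ∀ p : PrimeSpectrum A, Dual.IsDualizing (Localization.AtPrime p.asIdeal) ((DRing.LBaseChange (algebraMap A (Localization.AtPrime p.asIdeal))).obj R)) : Dual.IsDualizing A R := by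
  obtain ⟨a, b, h'⟩ := hfid
  have : R.IsGE a := by
    obtain ⟨E', hv, -, ⟨e⟩⟩ := h'
    have : E'.IsStrictlyGE a :=
      (CochainComplex.isStrictlyGE_iff _ _).mpr fun k hk => hv k (Or.inl hk)
    exact ⟨E', e.symm, this⟩
  refine DualCx.LocalGlobal.isDualizing_of_local R a hfin b (fun i hi m _ => ?_) fun m hm => ?_
  · have : (Dual.inD A (A ⧸ m)).IsGE 0 :=
      inferInstanceAs (((DerivedCategory.singleFunctor (ModuleCat.{u} A) 0).obj _).IsGE 0)
    exact DualCx.LocalGlobal.subsingleton_hom_injRep h' _ 0 i (by omega)
  · have : Module.Flat A (Localization.AtPrime m) := IsLocalization.flat _ m.primeCompl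
    have : DRing.HasLBaseChange (algebraMap A (Localization.AtPrime m)) :=
      ‹∀ p : PrimeSpectrum A, DRing.HasLBaseChange (algebraMap A (Localization.AtPrime p.asIdeal))›
        ⟨m, hm.isPrime⟩
    obtain ⟨e⟩ := DualCx.FlatBC.nonempty_LBaseChange (A := A) (B := Localization.AtPrime m) R
    exact DualCx.FlatBC.isDualizing_of_iso e (h ⟨m, hm.isPrime⟩)

end Groth.Agent.S11360
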