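import Groth.Statements.S11361
import Groth.Agent.CMExt.Poly

set_option autoImplicit false
universe u
open CategoryTheory
open scoped TensorProduct
open Dual

namespace Groth.Agent.S11361

/-- Let A be a Noetherian ring, n ≤ N, P = A[t_1, …, t_N], I an ideal of P with B = P/I flat over A.
Then all fibre rings B ⊗_A κ(p) are Cohen–Macaulay with every irreducible component of dimension n
(every minimal prime of the fibre ring has coheight n in its spectrum) if and only if Ext^j_P(B, P)
vanishes for j ≠ N − n and Ext^{N−n}_P(B, P) is A-flat. (The published statement is for a flat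
morphism of locally Noetherian schemes factoring through a closed immersion into a separated smooth
scheme, with f^! of the structure sheaf in place of the Ext modules; this row is the affine case of
a closed subscheme of affine N-space, where the two agree up to a shift and a twist by the trivial
canonical module.) -/
theorem result (A : Type u) [CommRing A] [IsNoetherianRing A] (N n : ℕ) (hnN : n ≤ N) (I : Ideal (MvPolynomial (Fin N) A)) [Module.Flat A (MvPolynomial (Fin N) A ⧸ I)] : (∀ p : PrimeSpectrum A, LocCoh.IsCohenMacaulayRing ((MvPolynomial (Fin N) A ⧸ I) ⊗[A] p.asIdeal.ResidueField) ∧ ∀ Q : PrimeSpectrum ((MvPolynomial (Fin N) A ⧸ I) ⊗[A] p.asIdeal.ResidueField), Q.asIdeal ∈ minimalPrimes ((MvPolynomial (Fin N) A ⧸ I) ⊗[A] p.asIdeal.ResidueField) → Order.coheight Q = (n : ℕ∞)) ↔ ((∀ j : ℕ, j ≠ N - n → Subsingleton (Abelian.Ext (ModuleCat.of (MvPolynomial (Fin N) A) (MvPolynomial (Fin N) A ⧸ I)) (ModuleCat.of (MvPolynomial (Fin N) A) (MvPolynomial (Fin N) A)) j)) ∧ Module.Flat A (RestrictScalars A (MvPolynomial (Fin N)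 A) (Abelian.Ext (ModuleCat.of (MvPolynomial (Fin N) A) (MvPolynomial (Fin N) A ⧸ I)) (ModuleCat.of (MvPolynomial (Fin N) A) (MvPolynomial (Fin N) A)) (N - n)))) := by
  have hfp := CMExt.finitePresentation_quot A N I (IsNoetherian.noetherian I)
  refine (CMExt.fib_iff A N (MvPolynomial (Fin N) A ⧸ I) Ideal.Quotient.mk_surjective n hnN).trans ⟨fun H => ?_, fun H => ?_⟩
  · obtain ⟨h1, h2, -, -⟩ := CMExt.of_fib A (MvPolynomial (Fin N) A ⧸ I) (N - n)
      (fun q _ => (H q).1) (fun q _ i hi => (H q).2 i (by omega))
    exact ⟨h1, h2⟩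
  · exact CMExt.to_fib A (MvPolynomial (Fin N) A ⧸ I) (N - n) N
      (CMExt.pd_of_fib A N _ fun q _ => CMExt.pd_fib_poly A N q _) H.1 H.2

end Groth.Agent.S11361
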