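import Groth.Statements.S11365
import Groth.Agent.CMExt.Gor
-- import your own Groth.Agent.* helpers here

set_option autoImplicit false
universe u
open CategoryTheory
open scoped TensorProduct
open Dual

namespace Groth.Agent.S11365

/-- Let A be a Noetherian ring, n ≤ N, P = A[t_1, …, t_N], I an ideal of P with B = P/I flat over A, and
suppose Ext^j_P(B, P) vanishes for j ≠ N − n while Ext^{N−n}_P(B, P) is A-flat. Then Ext^{N−n}_P(B,
P) is P-isomorphic to an invertible B-module if and only if all fibre rings B ⊗_A κ(p) are
Gorenstein. (The published statement is for the degree −n cohomology of f^! of the structure sheaf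
of a CM morphism of locally Noetherian schemes with pure relative dimension n; this row is the
affine case of a closed subscheme of affine N-space.) -/
theorem result (A : Type u) [CommRing A] [IsNoetherianRing A] (N n : ℕ) (hnN : n ≤ N) (I : Ideal (MvPolynomial (Fin N) A)) [Module.Flat A (MvPolynomial (Fin N) A ⧸ I)] (hvan : ∀ j : ℕ, j ≠ N - n → Subsingleton (Abelian.Ext (ModuleCat.of (MvPolynomial (Fin N) A) (MvPolynomial (Fin N) A ⧸ I)) (ModuleCat.of (MvPolynomial (Fin N) A) (MvPolynomial (Fin N) A)) j)) (hflat : Module.Flat A (RestrictScalars A (MvPolynomial (Fin N) A) (Abelian.Ext (ModuleCat.of (MvPolynomial (Fin N) A) (MvPolynomial (Fin N) A ⧸ I)) (ModuleCat.of (MvPolynomial (Fin N) A) (MvPolynomial (Fin N) A)) (N - n)))) : (∃ (L : Type u) (_ : AddCommGroup L) (_ : Module (MvPolynomial (Fin N) A ⧸ I) L), Module.Invertible (MvPolynomial (Fin N) A ⧸ I) L ∧ Nonempty (RestrictScalars (MvPolynomial (Fin N) A) (MvPolynomial (Fin N) A ⧸ I) L ≃ₗ[(MvPolynomial (Fin N) A)] Abelian.Ext (ModuleCat.of (MvPolynomial (Fin N) A) (MvPolynomial (Fin N) A ⧸ I)) (ModuleCat.of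 (MvPolynomial (Fin N) A) (MvPolynomial (Fin N) A)) (N - n))) ↔ ∀ p : PrimeSpectrum A, LocCoh.IsGorensteinRing ((MvPolynomial (Fin N) A ⧸ I) ⊗[A] p.asIdeal.ResidueField) := by
  let P := MvPolynomial (Fin N) A
  let B := MvPolynomial (Fin N) A ⧸ I
  have hfp := CMExt.finitePresentation_quot A N I (IsNoetherian.noetherian I)
  have hfib := CMExt.to_fib A (MvPolynomial (Fin N) A ⧸ I) (N - n) N
    (CMExt.pd_of_fib A N _ fun q _ => CMExt.pd_fib_poly A N q _) hvan hflat
  obtain ⟨-, -, hfpE, hε⟩ := CMExt.of_fib A (MvPolynomial (Fin N) A ⧸ I) (N - n)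
    (fun q _ => (hfib q).1) (fun q _ i hi => (hfib q).2 i (by omega))
  let X := CMExt.E P B (N - n)
  have htor : Module.IsTorsionBySet P X I := fun x b => CMExt.smul_ext_eq_zero B (b.1 : P) (fun m => by
    obtain ⟨r, rfl⟩ := Ideal.Quotient.mk_surjective m
    exact Ideal.Quotient.eq_zero_iff_mem.2 (I.mul_mem_right r b.2)) x
  letI : Module B X := htor.module
  haveI : IsScalarTower P B X := htor.isScalarTower
  letI : Module A X := Module.compHom X (algebraMap A P)
  haveI : IsScalarTower A P X := IsScalarTower.of_compHom A P X
  haveI : IsScalarTower A B X := IsScalarTower.of_algebraMap_smul fun a x =>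
    (congrArg (· • x) (IsScalarTower.algebraMap_apply A P B a)).trans
      ((algebraMap_smul B (algebraMap A P a) x).trans (algebraMap_smul P a x))
  haveI : Module.Flat A X := Module.Flat.of_linearEquiv
    ({ toFun := fun y => (RestrictScalars.addEquiv A P X).symm y
       invFun := fun y => RestrictScalars.addEquiv A P X y
       map_add' := fun y y' => map_add _ y y'
       map_smul' := fun a y => by
        simp only [RingHom.id_apply]
        rw [← algebraMap_smul P a y, RestrictScalars.addEquiv_symm_map_algebraMap_smul]
       left_inv := fun y => by simp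
       right_inv := fun y => by simp } : X ≃ₗ[A] RestrictScalars A P X)
  haveI : Module.Finite P X := inferInstance
  haveI : Module.Finite B X := Module.Finite.of_restrictScalars_finite P B X
  haveI : Algebra.FiniteType A B := CMExt.finiteType A N B Ideal.Quotient.mk_surjective
  have key : ∀ (z : Ideal B) [z.IsPrime], LocCoh.IsGorensteinLocalRing (EGA4.FibLocRing A B z) ↔
      Nonempty (EGA4.FibLocRing A B z ⊗[B] X ≃ₗ[EGA4.FibLocRing A B z] EGA4.FibLocRing A B z) := fun z _ => by
    obtain ⟨ε⟩ := hε (z.comap (algebraMap P B))
    exact CMExt.gor_fibLocRing_iff A N B Ideal.Quotient.mk_surjective z _ rfl (N - n)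
      (fun i hi => (hfib _).2 i hi) X ε
  rw [CMExt.gor_fibres_iff A B]
  constructor
  · rintro ⟨L, _, _, hL, ⟨e⟩⟩
    intro z _
    letI : Module P L := Module.compHom L (algebraMap P B)
    let eL : L ≃ₗ[P] X :=
      { toFun := fun l => e ((RestrictScalars.addEquiv P B L).symm l)
        invFun := fun x => RestrictScalars.addEquiv P B L (e.symm x)
        map_add' := fun l l' => by simp
        map_smul' := fun r l => by
          simp only [RingHom.id_apply]
          rw [← map_smul]
          rfl
        left_inv := fun l => by simp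
        right_inv := fun x => by simp }
    haveI : IsScalarTower P B L := IsScalarTower.of_compHom P B L
    haveI : Module.Invertible B X :=
      Module.Invertible.congr (LinearEquiv.extendScalarsOfSurjective Ideal.Quotient.mk_surjective eL)
    exact (key z).2 (CMExt.nonempty_fib_of_invertible A B X z)
  · intro H
    refine ⟨X, inferInstance, inferInstance, CMExt.invertible_of_fib A B X fun z _ => (key z).1 (H z),
      ⟨{ RestrictScalars.addEquiv P B X with map_smul' := fun r x => ?_ }⟩⟩
    exact (RestrictScalars.addEquiv_map_smul P B X r x).trans (algebraMap_smul B r _)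

end Groth.Agent.S11365
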