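import Groth.Statements.S11370
import Groth.Agent.NefPos.Main
import Groth.Agent.S0025
import Groth.Agent.ProjMorph.Ample
import Groth.Agent.CycLib.MapLib
import Groth.Agent.IntProd70.Degree

set_option autoImplicit false
universe u
open CategoryTheory CategoryTheory.Limits AlgebraicGeometry TopologicalSpace
open Variety

namespace Groth.Agent.S11370
open Groth.Agent.NefPos Groth.Agent.IntProd70

set_option linter.style.haveILetI false

/-- Kleiman's inequality on a variety, by Chow's lemma. -/
theorem top_nonneg {k : Type u} [Field k] (T : Scheme.{u}) [T.Over (Spec (CommRingCat.of k))]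
    [IsProper (T ↘ Spec (CommRingCat.of k))] [IsIntegral T] {L : T.Modules} (hL : PicF.IsInvertible L)
    (hnef : Nef k T L) {d : ℕ} (hd : topologicalKrullDim T = (d : WithBot ℕ∞)) :
    0 ≤ intC k (fun _ : Fin d => L) (Coh.structureModule T) := by
  haveI := EulerChar.isNoetherian k (X := T)
  obtain ⟨n, T', π, j₀, hj₀, hje, hπ, hsurj, U, hU, hiso⟩ := S0025.result (T ↘ Spec (CommRingCat.of k))
  haveI := hπ
  haveI := hiso
  haveI := hj₀
  letI : T'.Over (Spec (CommRingCat.of k)) := ⟨π ≫ (T ↘ Spec (CommRingCat.of k))⟩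
  haveI : IsProper (T' ↘ Spec (CommRingCat.of k)) :=
    inferInstanceAs (IsProper (π ≫ (T ↘ Spec (CommRingCat.of k))))
  obtain ⟨w, hw⟩ := hU.nonempty
  have hηU : genericPoint T ∈ U := (genericPoint_specializes w).mem_open U.2 hw
  obtain ⟨η', hη'⟩ := hsurj.surj (genericPoint T)
  have hη'U : η' ∈ π ⁻¹ᵁ U := by
    show π η' ∈ U
    rw [hη']; exact hηU
  have huniq : ∀ z, π z = π η' → z = η' := fun z hz => by
    have hzU : z ∈ π ⁻¹ᵁ U := by
      show π z ∈ U
      rw [hz, hη']; exact hηU
    have key : ∀ x : (π ⁻¹ᵁ U).toScheme, U.ι ((π ∣_ U) x) = π x.1 := fun x => by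
      rw [← Scheme.Hom.comp_apply, morphismRestrict_ι]
      rfl
    have h : (π ∣_ U) ⟨z, hzU⟩ = (π ∣_ U) ⟨η', hη'U⟩ :=
      U.ι.isOpenEmbedding.injective ((key ⟨z, hzU⟩).trans (hz.trans (key ⟨η', hη'U⟩).symm))
    exact congrArg Subtype.val ((asIso (π ∣_ U)).hom.homeomorph.injective h)
  have hdT : VarDim.dimPt k T (genericPoint T) = d := by
    have h := FibBound.topDim_closure_singleton k (genericPoint T)
    rw [(genericPoint_spec T).def,
      IsHomeomorph.topologicalKrullDim_eq _ (Homeomorph.Set.univ T).isHomeomorph, hd] at h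
    exact_mod_cast h.symm
  have hdη : VarDim.dimPt k T' η' = d := by
    obtain ⟨e, he, heq⟩ := FibBound.dimPt_eq_add π k rfl η'
    haveI : Subsingleton {z : T' | π z = π η' ∧ η' ⤳ z} :=
      ⟨fun a b => Subtype.ext ((huniq _ a.2.1).trans (huniq _ b.2.1).symm)⟩
    haveI : Nonempty {z : T' | π z = π η' ∧ η' ⤳ z} := ⟨⟨η', rfl, specializes_rfl⟩⟩
    rw [Order.krullDim_eq_zero] at he
    have : e = 0 := by exact_mod_cast he.symm
    rw [heq, hη', hdT, this, add_zero]
  let D := IntMult.ptIdeal η'
  let W := D.subscheme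
  letI : W.Over (Spec (CommRingCat.of k)) := ⟨D.subschemeι ≫ (T' ↘ Spec (CommRingCat.of k))⟩
  haveI : IsProper (W ↘ Spec (CommRingCat.of k)) :=
    inferInstanceAs (IsProper (D.subschemeι ≫ (T' ↘ Spec (CommRingCat.of k))))
  haveI : IsIntegral W := S16188.isIntegral_subscheme _ isIrreducible_singleton.closure
  have hdW : topologicalKrullDim W = (d : WithBot ℕ∞) := by
    rw [IsHomeomorph.topologicalKrullDim_eq _ (D.subschemeι.isEmbedding.toHomeomorph.trans
      (Homeomorph.setCongr D.range_subschemeι)).isHomeomorph]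
    show topologicalKrullDim ↥(D.support : Set T') = _
    rw [CohDev.coe_support_ptIdeal, FibBound.topDim_closure_singleton k η', hdη]
  have hgenW : D.subschemeι (genericPoint W) = η' := by
    refine IsGenericPoint.eq ((genericPoint_spec W).image D.subschemeι.continuous) ?_
    show closure ({η'} : Set T') = _
    rw [Set.image_univ, D.range_subschemeι, (D.support.isClosed).closure_eq]
    exact (CohDev.coe_support_ptIdeal η').symm
  let g : W ⟶ T := D.subschemeι ≫ π
  have hgen : g (genericPoint W) = genericPoint T := (congrArg π hgenW).trans hη'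
  have hw' : g ≫ (T ↘ Spec (CommRingCat.of k)) = W ↘ Spec (CommRingCat.of k) := Category.assoc _ _ _
  -- an ample module on `W`
  haveI : IsProper (j₀ ≫ CohB1.ProjSpaceOver.toBase n (Spec (CommRingCat.of k))) := by
    rw [hje]; exact inferInstanceAs (IsProper (π ≫ (T ↘ Spec (CommRingCat.of k))))
  haveI := ProjProper.Basic.isProper_toBase n (Spec (CommRingCat.of k))
  haveI : IsProper j₀ := IsProper.of_comp j₀ (CohB1.ProjSpaceOver.toBase n (Spec (CommRingCat.of k)))
  haveI : IsClosedImmersion j₀ := .of_isPreimmersion j₀ j₀.isClosedMap.isClosed_range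
  have hA := Wt.AmpleThick.isAmple_pullback (D.subschemeι ≫ j₀)
    (ProjMorph.isAmple_twistOver (Y := Spec (CommRingCat.of k)) n)
  have hLW : PicF.IsInvertible ((Scheme.Modules.pullback g).obj L) := PicCl.isInvertible_pullback g hL
  have h := holds k d W _ _ hA hLW (nef_pullback k g hw' hL hnef) hdW d 0 (add_zero d)
  have h' : 0 ≤ intC k (fun _ : Fin d => (Scheme.Modules.pullback g).obj L) (Coh.structureModule W) := by
    rw [iC_ofFn k (fun _ => hLW) (ProperFin.isCoh_structureModule W), List.ofFn_const]
    have h2 := Int.cast_nonneg_iff.1 h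
    simpa [word] using h2
  rw [intC, intE_dominant k g hw' hgen hdW.le hd.le (fun _ => hL), mul_left_comm, ← intC] at h'
  refine nonneg_of_mul_nonneg_right h' ?_
  have hsur : Function.Surjective (g.stalkMap (genericPoint W)) := by
    have hi : IsIso (π.stalkMap (D.subschemeι (genericPoint W))) := by
      rw [hgenW]
      haveI : IsOpenImmersion (π ∣_ U) := IsOpenImmersion.of_isIso _
      have hx : ∀ x : (π ⁻¹ᵁ U).toScheme, IsIso (π.stalkMap x.1) := fun x =>
        ((MorphismProperty.isomorphisms _).arrow_mk_iso_iff (morphismRestrictStalkMap π U x)).1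
          (MorphismProperty.isomorphisms.infer_property ((π ∣_ U).stalkMap x))
      exact hx ⟨η', hη'U⟩
    intro a
    obtain ⟨b, rfl⟩ := D.subschemeι.stalkMap_surjective (genericPoint W) a
    obtain ⟨c, rfl⟩ := ((ConcreteCategory.isIso_iff_bijective _).1 hi).2 b
    exact ⟨c, by rw [Scheme.Hom.stalkMap_comp]; rfl⟩
  have hres : Function.Surjective (g.residueFieldMap (genericPoint W)).hom := fun a => by
    obtain ⟨b, rfl⟩ := W.residue_surjective (genericPoint W) a
    obtain ⟨c, rfl⟩ := hsur b
    exact ⟨T.residue (g (genericPoint W)) c, congr($(Scheme.residue_residueFieldMap g (genericPoint W)) c)⟩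
  rw [CycLib.residueDegree_eq_one g (genericPoint W) hres]
  exact one_pos

/-- Let X be proper over an algebraically closed field k and L an invertible O_X-module such that (L ·
C) = χ(O_C ⊗ L) - χ(O_C) ≥ 0 for every integral closed subscheme C ⊆ X of dimension one. Then for
every integral closed subscheme Z ⊆ X of dimension d > 0 the intersection number (L^d · Z) is ≥ 0;
here (L^d · Z) is the coefficient of n_1⋯n_d in any rational polynomial P with χ(X, O_Z ⊗ L^{⊗n_1} ⊗
⋯ ⊗ L^{⊗n_d}) = P(n_1, …, n_d) for all exponents in ℕ^d. (The published statement is phrased for a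
Cartier divisor D; it depends on D only through L = O_X(D), and the printed reduction to integral X
covers every invertible L.) -/
theorem result (k : Type u) [Field k] [IsAlgClosed k] (X : Scheme.{u})
    [X.Over (Spec (CommRingCat.of k))] [IsProper (X ↘ (Spec (CommRingCat.of k)))]
    (L : X.Modules) (hL : PicF.IsInvertible L)
    (hnef : ∀ C : X.IdealSheafData, IsIntegral C.subscheme →
      topologicalKrullDim (C.support : Set X) = 1 → 0 ≤ (Curv2.euler k X (CohB1.tensorMod (ClSub.quotMod C) L) - Curv2.euler k X (ClSub.quotMod C)))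
    (Z : X.IdealSheafData) [IsIntegral Z.subscheme] (d : ℕ) (hd : 0 < d)
    (hZ : topologicalKrullDim (Z.support : Set X) = d)
    (P : MvPolynomial (Fin d) ℚ)
    (hP : ∀ n : Fin d → ℕ, (Curv2.euler k X (Curv2.tensorPows (ClSub.quotMod Z) d (fun _ => L) n) : ℚ) =
      MvPolynomial.eval (fun i => (n i : ℚ)) P) :
    0 ≤ MvPolynomial.coeff (Finsupp.equivFunOnFinite.symm fun _ : Fin d => 1) P := by
  letI : Z.subscheme.Over (Spec (CommRingCat.of k)) := ⟨Z.subschemeι ≫ (X ↘ Spec (CommRingCat.of k))⟩
  haveI : IsProper (Z.subscheme ↘ Spec (CommRingCat.of k)) :=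
    inferInstanceAs (IsProper (Z.subschemeι ≫ (X ↘ Spec (CommRingCat.of k))))
  have hdim : topologicalKrullDim Z.subscheme = (d : WithBot ℕ∞) := by
    rw [IsHomeomorph.topologicalKrullDim_eq _ (Z.subschemeι.isEmbedding.toHomeomorph.trans
      (Homeomorph.setCongr Z.range_subschemeι)).isHomeomorph]
    exact hZ
  have h := top_nonneg Z.subscheme (PicCl.isInvertible_pullback Z.subschemeι hL)
    (nef_pullback k Z.subschemeι rfl hL hnef) hdim
  have hc := coeff_quotMod k (fun _ => hL) Z hZ.le hP
  rw [show (Finsupp.equivFunOnFinite.symm fun _ : Fin d => 1) = ones d from rfl, hc, intC,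
    intE_quotMod k Z rfl hdim.le (fun _ => hL)]
  exact_mod_cast h

end Groth.Agent.S11370
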