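import Groth.Statements.S11371
import Groth.Agent.BigVol.NumEquiv
import Groth.Agent.S7749
-- import your own Groth.Agent.* helpers here

set_option autoImplicit false
set_option linter.style.haveILetI false
universe u
open CategoryTheory CategoryTheory.Limits AlgebraicGeometry TopologicalSpace
open Variety

namespace Groth.Agent.S11371
open Groth.Agent

/-- Let X be proper over an algebraically closed field k and L, L' invertible O_X-modules that are
numerically equivalent: (L · C) = (L' · C), i.e. χ(O_C ⊗ L) = χ(O_C ⊗ L'), for every integral closed
subscheme C ⊆ X of dimension one. If L is ample then L' is ample. (The published statement is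
phrased for Cartier divisors; it depends on them only through the associated invertible modules, and
the printed reduction to integral X covers every invertible module.) -/
theorem result (k : Type u) [Field k] [IsAlgClosed k] (X : Scheme.{u})
    [X.Over (Spec (CommRingCat.of k))] [IsProper (X ↘ (Spec (CommRingCat.of k)))]
    (L L' : X.Modules) (hL : PicF.IsInvertible L) (hL' : PicF.IsInvertible L')
    (hnum : ∀ C : X.IdealSheafData, IsIntegral C.subscheme →
      topologicalKrullDim (C.support : Set X) = 1 →
        Curv2.euler k X (CohB1.tensorMod (ClSub.quotMod C) L) =
          Curv2.euler k X (CohB1.tensorMod (ClSub.quotMod C) L'))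
    (hamp : CohB1.IsAmple L) : CohB1.IsAmple L' := by
  haveI := EulerChar.isNoetherian k (X := X)
  refine (S7749.result k X L' hL').2 fun Z _ d hd0 hZ P hP => ?_
  refine (S7749.result k X L hL).1 hamp Z d hd0 hZ P fun n => ?_
  rw [← BigVol.NumEquiv.euler_tensorPows_congr k hL hL' hnum (EulerChar.isCoh_quotMod k Z) d n]
  exact hP n

end Groth.Agent.S11371
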