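import Groth.Statements.S11372
import Groth.Agent.DimOneAmple.AmpleOfGG
import Groth.Agent.CycLib.FibreDim
import Groth.Agent.VarDim.Curve
import Groth.Agent.RedSub.Basic
import Groth.Agent.ProjProper.Basic
import Groth.Agent.ProjMorph.Ample
import Groth.Agent.AmpleLib.GlobGen
import Mathlib.AlgebraicGeometry.ZariskisMainTheorem

set_option autoImplicit false
universe u
open CategoryTheory CategoryTheory.Limits AlgebraicGeometry TopologicalSpace
open Variety

namespace Groth.Agent.S11372

open Groth.Agent.AmpleLib Groth.Agent.Props.GenLocus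

set_option linter.style.haveILetI false

variable {X : Scheme.{u}}

theorem generatedBy_of_loci {L : X.Modules} {ι : Type*} [Fintype ι] (s : ι → ProjUP.Γm L)
    (h : ∀ x : X, ∃ i, x ∈ locus (O := ⊤) (s i)) : ProjUP.GeneratedBy L s := by
  intro x
  obtain ⟨i, hxi⟩ := h x
  have hg := isGen_locus (O := ⊤) (s i)
  have hbij := ((isGen_iff_isFrame _).mp hg).stalkComb_bijective x hxi
  refine top_le_iff.mp fun z _ => ?_
  obtain ⟨a, ha⟩ := hbij.2 z
  rw [← ha]
  simp only [LFFrame.stalkComb, Fintype.linearCombination_apply, Fin.sum_univ_one]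
  refine Submodule.smul_mem _ _ (Submodule.subset_span ⟨i, ?_⟩)
  exact (L.presheaf.germ_res_apply _ x hxi (s i)).symm

section Curves

variable (k : Type u) [Field k] [X.Over (Spec (CommRingCat.of k))]
  [LocallyOfFiniteType (X ↘ Spec (CommRingCat.of k))] [NoetherianSpace X]

include k in
/-- An infinite closed subset contains an integral curve. -/
theorem exists_curve_subset {Z : Set X} (hZ : IsClosed Z) (hinf : Z.Infinite) :
    ∃ C : X.IdealSheafData, IsIntegral C.subscheme ∧ (C.support : Set X) ⊆ Z ∧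
      topologicalKrullDim (C.support : Set X) = 1 := by
  obtain ⟨z, hzZ, hz⟩ : ∃ z ∈ Z, 1 ≤ Order.height z := by
    by_contra hcon
    push Not at hcon
    obtain ⟨S, hSf, hSi, hS⟩ :=
      NoetherianSpace.exists_finite_set_closeds_irreducible (⟨Z, hZ⟩ : Closeds X)
    have hsub : ∀ t ∈ S, (t : Set X).Finite := fun t ht => by
      have hgen := (hSi t ht).isGenericPoint_genericPoint t.isClosed
      have hmem : (hSi t ht).genericPoint ∈ Z :=
        (le_sSup ht).trans hS.ge hgen.mem
      rw [← hgen.def, (VarDim.isClosed_singleton_of_isMin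
        (Order.height_eq_zero.mp (Order.lt_one_iff.mp (hcon _ hmem)))).closure_eq]
      exact Set.finite_singleton _
    refine hinf ?_
    have hfin : (⋃ t ∈ S, (t : Set X)).Finite := hSf.biUnion hsub
    have hcl : IsClosed (⋃ t ∈ S, (t : Set X)) := hSf.isClosed_biUnion fun t _ => t.isClosed
    have hle : (⟨Z, hZ⟩ : Closeds X) ≤ ⟨_, hcl⟩ := hS.le.trans (sSup_le fun t ht =>
      Set.subset_biUnion_of_mem (u := fun t : Closeds X => (t : Set X)) ht)
    exact hfin.subset hle
  obtain ⟨w, hwz, hw⟩ : ∃ w ≤ z, Order.height w = 1 := by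
    rcases hz.eq_or_lt with h | h
    · exact ⟨z, le_rfl, h.symm⟩
    · obtain ⟨w, hw, hw'⟩ := (Order.coe_lt_height_iff (n := 1)
        (by rw [VarDim.height_eq_dimPt k]; exact ENat.natCast_lt_top _)).mp h
      exact ⟨w, hw.le, hw'⟩
  have hwZ : w ∈ Z := (closure_minimal (Set.singleton_subset_iff.mpr hzZ) hZ)
    (specializes_iff_mem_closure.mp hwz)
  let W : Closeds X := ⟨closure {w}, isClosed_closure⟩
  let C := Scheme.IdealSheafData.vanishingIdeal W
  have hr : Set.range C.subschemeι = closure {w} := RedSub.range_vanishingIdeal_subschemeι W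
  have hsupp : (C.support : Set X) = closure {w} := C.range_subschemeι.symm.trans hr
  haveI : IsReduced C.subscheme := RedSub.isReduced_vanishingIdeal W
  haveI : IrreducibleSpace C.subscheme := by
    have hi : IsIrreducible (Set.range C.subschemeι) := hr ▸ isIrreducible_singleton.closure
    haveI : IrreducibleSpace (Set.range C.subschemeι) := Subtype.irreducibleSpace hi
    exact C.subschemeι.isEmbedding.toHomeomorph.symm.surjective.irreducibleSpace (Homeomorph.continuous _)
  refine ⟨C, isIntegral_of_irreducibleSpace_of_isReduced _, ?_, ?_⟩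
  · exact hsupp.subset.trans (closure_minimal (Set.singleton_subset_iff.mpr hwZ) hZ)
  · rw [hsupp, CycLib.topologicalKrullDim_closure, hw]
    rfl

end Curves


/-- Let X be proper and integral over an algebraically closed field k, L an invertible O_X-module
generated by its global sections, and s : O_X ⟶ L a global section, with U = X_s the open subset
where s generates L (the complement of the support of the effective divisor of s). If U contains no
integral closed subscheme of X of dimension one, then U is an affine open of X. -/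
theorem result (k : Type u) [Field k] [IsAlgClosed k] (X : Scheme.{u})
    [X.Over (Spec (CommRingCat.of k))] [IsProper (X ↘ (Spec (CommRingCat.of k)))] [IsIntegral X]
    (L : X.Modules) (hL : PicF.IsInvertible L) (hgen : Curv2.IsGloballyGenerated L)
    (s : Coh.structureModule X ⟶ L)
    (hcurves : ∀ C : X.IdealSheafData, IsIntegral C.subscheme →
      topologicalKrullDim (C.support : Set X) = 1 →
        ¬ ((C.support : Set X) ⊆ (CohB1.genLocus L s : Set X))) :
    IsAffineOpen (CohB1.genLocus L s) := by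
  haveI := LocallyOfFiniteType.isLocallyNoetherian (X ↘ Spec (CommRingCat.of k))
  haveI : CompactSpace X := QuasiCompact.compactSpace_of_compactSpace (X ↘ Spec (CommRingCat.of k))
  haveI : IsNoetherian X := ⟨⟩
  choose σ₀ hσ₀ using DimOneAmple.exists_genLocus_mem hL hgen
  obtain ⟨t, ht⟩ := isCompact_univ.elim_finite_subcover (fun x => (locus (σ₀ x) : Set X))
    (fun x => (locus (σ₀ x)).isOpen) fun x _ => Set.mem_iUnion.2 ⟨x, hσ₀ x⟩
  let c := t.card
  let g : Fin c → Γ(L, ⊤) := fun j => σ₀ (t.equivFin.symm j).1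
  have hg : ∀ x : X, ∃ j, x ∈ locus (g j) := fun x => by
    obtain ⟨i, hi, hxi⟩ := Set.mem_iUnion₂.1 (ht (Set.mem_univ x))
    exact ⟨t.equivFin ⟨i, hi⟩, by simpa [g] using hxi⟩
  let σ : Fin (c + 1) → ProjUP.Γm L := Fin.cases (sec s ⊤) g
  have hcov : ∀ x : X, ∃ i, x ∈ locus (O := ⊤) (σ i) := fun x => by
    obtain ⟨j, hj⟩ := hg x
    exact ⟨j.succ, by simpa [σ] using hj⟩
  let q₀ : k →+* Γ(X, ⊤) := ProjUP.toGlobal (X ↘ (Spec (CommRingCat.of k)))
  obtain ⟨r, τ, hr, hpre, -, -⟩ := ProjMorph.exists_to_proj (𝒜 := CohB1.polyGrading c k)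
    (fun i => MvPolynomial.X i) (fun i => MvPolynomial.isHomogeneous_X k i)
    MvPolynomial.adjoin_range_X q₀ hL σ (generatedBy_of_loci σ hcov) fun i cc _ =>
      ⟨MvPolynomial.eval₂Hom ((QCoh.rres le_top).hom.comp q₀) cc,
        RingHom.ext fun a => MvPolynomial.eval₂Hom_C _ _ a, fun j => MvPolynomial.eval₂Hom_X' _ _ j⟩
  have hrf : r ≫ CohB1.ProjSpace.toSpec c k = X ↘ (Spec (CommRingCat.of k)) :=
    hr.trans (ProjMorph.toSpecΓ_toGlobal _)
  haveI := ProjProper.Basic.isProper_toSpec c k
  haveI : IsProper (r ≫ CohB1.ProjSpace.toSpec c k) := hrf ▸ ‹IsProper _›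
  haveI : IsProper r := IsProper.of_comp r (CohB1.ProjSpace.toSpec c k)
  haveI : JacobsonSpace (CohB1.ProjSpace c k) :=
    LocallyOfFiniteType.jacobsonSpace (CohB1.ProjSpace.toSpec c k)
  haveI : JacobsonSpace (Proj (CohB1.polyGrading c k)) := ‹JacobsonSpace (CohB1.ProjSpace c k)›
  let D : (Proj (CohB1.polyGrading c k)).Opens := Proj.basicOpen _ (MvPolynomial.X 0)
  have hD : IsAffineOpen D :=
    Proj.isAffineOpen_basicOpen _ _ (MvPolynomial.isHomogeneous_X k 0) one_pos
  have hU : r ⁻¹ᵁ D = CohB1.genLocus L s := (hpre 0).trans (genLocus_eq_locus s).symm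
  have hqf : r ⁻¹ᵁ D ≤ r.quasiFiniteLocus := by
    by_contra hne
    obtain ⟨x₀, hx₀D, hx₀⟩ := Set.not_subset.mp hne
    obtain ⟨y, ⟨⟨x, hx, hxy⟩, hyD⟩, hy⟩ := nonempty_inter_closedPoints
      (Z := r '' (r.quasiFiniteLocus : Set X)ᶜ ∩ (D : Set _)) ⟨r x₀, ⟨x₀, hx₀, rfl⟩, hx₀D⟩
      ((r.isClosedMap _ r.quasiFiniteLocus.isOpen.isClosed_compl).isLocallyClosed.inter
        D.isOpen.isLocallyClosed)
    have hy' : IsClosed (r ⁻¹' {y}) := (mem_closedPoints_iff.mp hy).preimage r.continuous
    have hinf : (r ⁻¹' {y}).Infinite := fun hfin => hx (by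
      subst hxy
      haveI : Finite (r.fiber (r x)) := (r.fiberHomeo (r x)).finite_iff.mpr hfin.to_subtype
      exact Scheme.Hom.quasiFiniteAt_iff_isOpen_singleton_asFiber.mpr (isOpen_discrete _))
    obtain ⟨C, hC, hsub, hdim⟩ := exists_curve_subset k hy' hinf
    refine hcurves C hC hdim fun z hz => ?_
    rw [SetLike.mem_coe, ← hU]
    show r z ∈ D
    rw [show r z = y from hsub hz]
    exact hyD
  haveI : LocallyQuasiFinite (r ∣_ D) := by
    haveI : LocallyQuasiFinite ((r ⁻¹ᵁ D).ι ≫ r) := by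
      rw [← Scheme.Hom.quasiFiniteLocus_eq_top_iff, Scheme.Hom.quasiFiniteLocus_comp]
      exact top_le_iff.mp fun x _ => hqf x.2
    haveI : LocallyQuasiFinite ((r ∣_ D) ≫ D.ι) := by rw [morphismRestrict_ι]; infer_instance
    exact LocallyQuasiFinite.of_comp (r ∣_ D) D.ι
  haveI : IsFinite (r ∣_ D) := IsFinite.of_isProper_of_locallyQuasiFinite _
  haveI : IsAffine D.toScheme := hD
  exact hU ▸ isAffine_of_isAffineHom (r ∣_ D)

end Groth.Agent.S11372
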