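import Groth.Statements.S9688
import Groth.Agent.Props.N2Local
-- import your own Groth.Agent.* helpers here

set_option autoImplicit false
universe u
open CategoryTheory CategoryTheory.Limits AlgebraicGeometry
open Mor

namespace Groth.Agent.S9688
set_option backward.isDefEq.respectTransparency.types false

/-- Let X be an integral Japanese scheme (every nonempty affine open has Japanese, i.e. N-2, coordinate
ring). Then the normalization morphism X^ν ⟶ X is finite. (The quasi-compactness and
quasi-separatedness binders on Spec K(X) ⟶ X always hold; they are only needed to form the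
normalization.) -/
theorem result (X : Scheme.{u}) [IsIntegral X] [QuasiCompact (X.fromSpecStalk (genericPoint ↥X))] [QuasiSeparated (X.fromSpecStalk (genericPoint ↥X))]
    (hJ : ∀ (U : X.Opens), IsAffineOpen U → ∀ (hne : Nonempty ↥U),
      @CAlg.IsN2 ↑Γ(X, U) _ (@IsIntegral.component_integral X _ U hne)) :
    IsFinite (Curv2.normalizationι X) := by
  unfold Curv2.normalizationι
  have : IsIntegralHom (X.fromSpecStalk (genericPoint ↥X)).fromNormalization := inferInstance
  refine { toIsAffineHom := this.toIsAffineHom, finite_app := fun U hU => ?_ }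
  let f := X.fromSpecStalk (genericPoint ↥X)
  change ((X.fromSpecStalk (genericPoint ↥X)).fromNormalization.app U).hom.Finite
  rw [Scheme.Hom.fromNormalization_app _ hU]
  erw [CommRingCat.hom_comp]
  refine RingHom.Finite.comp (RingHom.Finite.of_surjective _
    (ConcreteCategory.bijective_of_isIso (f.normalizationObjIso hU).inv).2) ?_
  let algU := (f.app U).hom.toAlgebra
  change (algebraMap Γ(X, U) (integralClosure Γ(X, U) Γ(Spec (X.presheaf.stalk (genericPoint ↥X)), f ⁻¹ᵁ U))).Finite
  rw [RingHom.finite_algebraMap]
  rcases U.1.eq_empty_or_nonempty with hne | ⟨x, hx⟩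
  · obtain rfl : U = ⊥ := TopologicalSpace.Opens.ext hne
    have : Subsingleton (integralClosure Γ(X, ⊥) Γ(Spec (X.presheaf.stalk (genericPoint ↥X)), f ⁻¹ᵁ ⊥)) := Module.subsingleton Γ(X, ⊥) _
    infer_instance
  · have hne : Nonempty U := ⟨⟨x, hx⟩⟩
    have := functionField_isFractionRing_of_isAffineOpen X U hU
    have hgen : genericPoint ↥X ∈ U := (genericPoint_specializes x).mem_open U.2 hx
    have htop : (X.fromSpecStalk (genericPoint ↥X)) ⁻¹ᵁ U = ⊤ := by
      refine top_le_iff.mp fun z _ => ?_
      have hz : (X.fromSpecStalk (genericPoint ↥X)) z ⤳ genericPoint ↥X :=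
        X.range_fromSpecStalk.le ⟨z, rfl⟩
      exact hz.mem_open U.2 hgen
    let ei := (Spec X.functionField).presheaf.mapIso (eqToIso htop.symm).op ≪≫
      Scheme.ΓSpecIso X.functionField
    have hei : (X.fromSpecStalk (genericPoint ↥X)).app U ≫ ei.hom =
        X.presheaf.germ U (genericPoint ↥X) hgen := by
      rw [Scheme.fromSpecStalk_app hgen]
      simp only [ei, Category.assoc, Iso.trans_hom, Functor.mapIso_hom]
      erw [← Functor.map_comp_assoc]
      simp
    let e : Γ(Spec X.functionField, (X.fromSpecStalk (genericPoint ↥X)) ⁻¹ᵁ U) ≃ₐ[Γ(X, U)]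
        X.functionField :=
      AlgEquiv.ofRingEquiv (f := ei.commRingCatIsoToRingEquiv) fun r => congr($(hei).hom r)
    have := Props.N2Local.finite_integralClosure (hJ U hU hne) X.functionField X.functionField
    exact Module.Finite.equiv e.mapIntegralClosure.symm.toLinearEquiv

end Groth.Agent.S9688
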