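import Groth.Statements.S1585
import Groth.Agent.Curv2Norm.Birational
import Groth.Agent.S9688
import Groth.Agent.S10862
import Groth.Agent.VarDim.Scheme
-- import your own Groth.Agent.* helpers here

set_option autoImplicit false
universe u
open CategoryTheory CategoryTheory.Limits AlgebraicGeometry
open Variety

namespace Groth.Agent.S1585

/-- Part (1): and (4), for an integral scheme locally of finite type over a field: the normalization
morphism ν (normalization of X in its function field) is finite, dominant and an isomorphism over a
nonempty open, and the normalization is an integral scheme all of whose local rings are integrally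
closed domains. (The quasi-compactness/quasi-separatedness binders on Spec K(X) → X always hold;
they are needed only to form Mathlib's relative normalization.) -/
theorem result (k : Type u) [Field k] (X : Scheme.{u}) [X.Over (Spec (CommRingCat.of k))] [IsIntegral X] [LocallyOfFiniteType (X ↘ (Spec (CommRingCat.of k)))]
    [QuasiCompact (X.fromSpecStalk (genericPoint X))] [QuasiSeparated (X.fromSpecStalk (genericPoint X))] :
    IsFinite (Curv2.normalizationι X) ∧ IsDominant (Curv2.normalizationι X) ∧
      (∃ V : X.Opens, (V : Set X).Nonempty ∧ IsIso (Curv2.normalizationι X ∣_ V)) ∧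
      IsIntegral (Curv2.normalization X) ∧ Pi1.IsNormalScheme (Curv2.normalization X) := by
  haveI : IsFinite (Curv2.normalizationι X) := Groth.Agent.S9688.result X fun U hU hne => by
    haveI := hne
    haveI : IsDomain Γ(X, U) := @IsIntegral.component_integral X _ U hne
    letI := VarDim.secAlgebra k X U
    haveI := VarDim.finiteType_sections k hU
    intro L _ _ _ _ _
    exact Groth.Agent.S10862.result k Γ(X, U) (FractionRing Γ(X, U)) L
  refine ⟨inferInstance, Curv2Norm.isDominant X, ?_, Curv2Norm.isIntegral X,
    Curv2Norm.isDomain_isIntegrallyClosed_stalk X⟩
  obtain ⟨V, hV, hiso⟩ := Curv2Norm.exists_dense_isIso X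
  exact ⟨V, hV.nonempty, hiso⟩

end Groth.Agent.S1585
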