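import Groth.Statements.S1297
import Groth.Agent.S0002
import Groth.Agent.ProperFin.Supp
import Groth.Agent.AbVarLib.H0Field
import Mathlib.AlgebraicGeometry.Normalization

set_option autoImplicit false
universe u
open FlatMor

namespace Groth.Agent.S1297

section
open AlgebraicGeometry CategoryTheory Limits

set_option backward.isDefEq.respectTransparency false

theorem finite_toGlobal (A : Type u) [CommRing A] [IsNoetherianRing A] (X : Scheme.{u})
    [X.Over (Spec (CommRingCat.of A))] [IsProper (X ↘ Spec (CommRingCat.of A))] :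
    ((Scheme.ΓSpecIso (CommRingCat.of A)).inv ≫ (X ↘ Spec (CommRingCat.of A)).appTop).hom.Finite := by
  have := Groth.Agent.S0002.result A X (Coh.structureModule X)
    (Groth.Agent.ProperFin.isCoh_structureModule X) 0
  letI := ((Scheme.ΓSpecIso (CommRingCat.of A)).inv ≫ (X ↘ Spec (CommRingCat.of A)).appTop).hom.toAlgebra
  let e : Coh.HH X (Coh.structureModule X) 0 ≃ₗ[A] Γ(X, ⊤) :=
    { Groth.Agent.AbVarLib.H0Field.h0Equiv X with
      map_smul' := fun c x => Groth.Agent.AbVarLib.H0Field.h0Equiv_smul c x }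
  exact Module.Finite.equiv e

theorem finite_app {X S : Scheme.{u}} (f : X ⟶ S) [IsProper f] [IsLocallyNoetherian S]
    {V : S.Opens} (hV : IsAffineOpen V) : (f.app V).hom.Finite := by
  haveI : IsNoetherianRing Γ(S, V) := IsLocallyNoetherian.component_noetherian ⟨V, hV⟩
  haveI : IsProper (f ∣_ V) := IsZariskiLocalAtTarget.restrict ‹_› V
  letI : (f ⁻¹ᵁ V).toScheme.Over (Spec (CommRingCat.of Γ(S, V))) := ⟨(f ∣_ V) ≫ hV.isoSpec.hom⟩
  haveI : IsProper ((f ⁻¹ᵁ V).toScheme ↘ Spec (CommRingCat.of Γ(S, V))) :=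
    inferInstanceAs (IsProper ((f ∣_ V) ≫ hV.isoSpec.hom))
  have h := finite_toGlobal Γ(S, V) (f ⁻¹ᵁ V).toScheme
  have h' : (f ∣_ V).appTop.hom.Finite := by
    refine RingHom.Finite.of_comp_finite (f := ((Scheme.ΓSpecIso (CommRingCat.of Γ(S, V))).inv ≫ hV.isoSpec.hom.appTop).hom) ?_
    exact h
  have hiso : Arrow.mk (f ∣_ V).appTop ≅ Arrow.mk (f.app V) := by
    refine Arrow.isoMk V.topIso (f ⁻¹ᵁ V).topIso ?_
    simp [Scheme.Hom.appTop, Scheme.Opens.topIso, Scheme.Hom.app_eq_appLE,
      Scheme.Hom.resLE, morphismRestrict_app, Scheme.Hom.map_appLE, Scheme.Hom.appLE_map]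
  haveI : (RingHom.toMorphismProperty fun f => f.Finite).RespectsIso :=
    RingHom.toMorphismProperty_respectsIso_iff.mp RingHom.finite_respectsIso
  exact ((RingHom.toMorphismProperty fun f => f.Finite).arrow_mk_iso_iff hiso).1 h'

end

open AlgebraicGeometry CategoryTheory Limits in
/-- Stein factorization, Noetherian case: let f : X → S be a proper morphism with S locally Noetherian.
Then the normalization of S in X is finite over S (so that the Stein factorization of f is a proper
morphism with geometrically connected fibres followed by a finite morphism). -/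
theorem result {X S : Scheme.{u}} (f : X ⟶ S) [IsProper f] [IsLocallyNoetherian S] :
    IsFinite f.fromNormalization := by
  refine ⟨fun V hV => ?_⟩
  letI := (f.app V).hom.toAlgebra
  haveI : IsNoetherianRing Γ(S, V) := IsLocallyNoetherian.component_noetherian ⟨V, hV⟩
  haveI : Module.Finite Γ(S, V) Γ(X, f ⁻¹ᵁ V) := finite_app f hV
  haveI : Module.Finite Γ(S, V) (integralClosure Γ(S, V) Γ(X, f ⁻¹ᵁ V)) :=
    Module.Finite.of_injective (integralClosure Γ(S, V) Γ(X, f ⁻¹ᵁ V)).val.toLinearMap Subtype.val_injective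
  rw [f.fromNormalization_app hV, CommRingCat.hom_comp]
  refine RingHom.Finite.comp ?_ (RingHom.finite_algebraMap.mpr inferInstance)
  exact RingHom.Finite.of_surjective _ (ConcreteCategory.bijective_of_isIso _).2

end Groth.Agent.S1297
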