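import Groth.Statements.S7681
import Groth.Agent.S7680
import Groth.Agent.S7679
import Groth.Agent.NegTwistAss.Elem
import Groth.Agent.Depth.Local
import Groth.Agent.ZeroSchemeLib.Basic
import Groth.Agent.ProperFin.Descend
import Groth.Agent.PicLaw.Basic
import Groth.Agent.S1297
-- import your own Groth.Agent.* helpers here

set_option autoImplicit false
universe u
open CategoryTheory CategoryTheory.Limits AlgebraicGeometry
open Variety

namespace Groth.Agent.S7681

open Groth.Agent.NegTwistAss Groth.Agent.PullStalk.Sky Groth.Agent.KFlat.StalkTensor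
open Groth.Agent.Props.GenLocus Groth.Agent.QCoh Opposite TopologicalSpace IsLocalRing

section

set_option maxHeartbeats 400000

variable {X : Scheme.{u}}

/-- A point with depth at least one is not associated. -/
theorem not_isAssPoint_of_one_le_depth {R M : Type u} [CommRing R] [IsLocalRing R]
    [IsNoetherianRing R] [AddCommGroup M] [Module R M] [Module.Finite R M]
    (h : ((1 : ℕ) : ℕ∞) ≤ LocCoh.idealDepth (maximalIdeal R) M) :
    ¬ IsAssociatedPrime (maximalIdeal R) M := fun hass ↦ by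
  have : Nontrivial M := by
    by_contra h'
    rw [not_nontrivial_iff_subsingleton] at h'
    exact not_isAssociatedPrime_of_subsingleton hass
  obtain ⟨rs, hrs, hmem, hlen⟩ := Depth.exists_isWeaklyRegular_of_le_idealDepth
    (Depth.smul_top_ne_top_of_le_maximalIdeal le_rfl) h
  obtain ⟨r, rfl⟩ := List.length_eq_one_iff.mp hlen
  have hreg : IsSMulRegular M r := ((RingTheory.Sequence.isWeaklyRegular_cons_iff M r []).mp hrs).1
  obtain ⟨-, ψ, hψ⟩ := (isAssociatedPrime_iff_exists_injective_linearMap _ _).mp hass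
  have h0 : r • ψ 1 = r • (0 : M) := by
    rw [← map_smul, smul_zero, Algebra.smul_def, mul_one]
    exact (congrArg ψ (Ideal.Quotient.eq_zero_iff_mem.mpr (hmem r (by simp)))).trans (map_zero ψ)
  exact one_ne_zero (hψ ((hreg h0).trans (map_zero ψ).symm))

/-- The support of the zero scheme is the complement of the locus where the section generates. -/
theorem mem_support_iff {L : X.Modules} (hL : PicF.IsInvertible L) (s : Coh.structureModule X ⟶ L)
    (x : X) : x ∈ (PicF2.zeroScheme L s).support ↔ x ∉ CohB1.genLocus L s := by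
  obtain ⟨W, e₀, hxW, he₀⟩ := exists_isGen hL x
  obtain ⟨U, hU, hxU, hle⟩ := exists_isAffineOpen_mem_and_subset (show x ∈ W from hxW)
  have he := he₀.restrict hle
  obtain ⟨f, hf, -⟩ := he.exists_eq le_rfl (sec s U)
  rw [res_self] at hf
  have hideal : (PicF2.zeroScheme L s).ideal ⟨U, hU⟩ = Ideal.span {f} :=
    ZeroSchemeLib.zeroScheme_ideal_eq_span hL s ⟨U, hU⟩ he hf
  rw [Scheme.IdealSheafData.mem_support_iff_of_mem (U := ⟨U, hU⟩) hxU, hideal, Scheme.zeroLocus_span,
    Scheme.zeroLocus_singleton]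
  show x ∉ X.basicOpen f ↔ _
  rw [← genLocus_inf he s hf]
  exact ⟨fun h hx ↦ h ⟨hx, hxU⟩, fun h hx ↦ h hx.1⟩

theorem stk_injective_of_mono {A B : X.Modules} (φ : A ⟶ B) [Mono φ] (z : X) :
    Function.Injective (stk φ z) := fun t t' h ↦ Omega.Stalks.stalkLin_injective_of_mono φ z h

variable {P Q : X.Modules} (ε : CohB1.tensorMod P Q ≅ Coh.structureModule X)
  (σ : Coh.structureModule X ⟶ Q)

theorem form_injective [Mono σ] (z : X) {π : P.presheaf.stalk z}
    (hπ : Function.Bijective fun r : X.presheaf.stalk z ↦ r • π) :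
    Function.Injective (stk (form ε σ) z) := by
  have hflat : Module.Flat (X.presheaf.stalk z) (P.presheaf.stalk z) :=
    Module.Flat.of_linearEquiv
      (LinearEquiv.ofBijective (LinearMap.toSpanSingleton _ _ π) hπ).symm
  have hw : Function.Injective (stk (whisk P σ) z) := by
    refine Function.Injective.of_comp (f := stalkTensorEquiv P Q z) ?_
    have h : Function.Injective ((stalkTensorEquiv P Q z).toLinearMap.comp (stk (whisk P σ) z)) := by
      rw [stk_whisk]
      exact (Module.Flat.lTensor_preserves_injective_linearMap _ (stk_injective_of_mono σ z)).comp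
        (stalkTensorEquiv P _ z).injective
    exact h
  rw [form, stk_comp, stk_comp]
  exact ((stk_bijective_of_iso ε z).1.comp hw).comp
    (stk_bijective_of_iso (ProjTwist.tensOne P).symm z).1

theorem coef_smul_eq_zero [Mono σ] (z : X) {π : P.presheaf.stalk z}
    (hπ : Function.Bijective fun r : X.presheaf.stalk z ↦ r • π) {x : X.presheaf.stalk z}
    (h : coef (form ε σ) π * x = 0) : x = 0 := by
  have h0 : coef (form ε σ) π • HomShEval.Reflexive.structureStalkEquiv z x = 0 := by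
    rw [← map_smul, smul_eq_mul, h, map_zero]
  have h1 : stk (form ε σ) z (x • π) = stk (form ε σ) z 0 := by
    rw [map_zero, ← h0]
    refine (map_smul (stk (form ε σ) z) x π).trans ?_
    refine (congrArg (x • ·) ((HomShEval.Reflexive.structureStalkEquiv z).apply_symm_apply
      (stk (form ε σ) z π)).symm).trans ?_
    show x • HomShEval.Reflexive.structureStalkEquiv z (coef (form ε σ) π) = _
    rw [← map_smul, ← map_smul, smul_eq_mul, smul_eq_mul, mul_comm]
  exact hπ.1 (show x • π = (0 : X.presheaf.stalk z) • π by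
    rw [zero_smul]; exact form_injective ε σ z hπ h1)

theorem mono_multPow [Mono σ] (hP : PicF.IsInvertible P) (i : ℕ) :
    Mono (multPow ε σ (Coh.structureModule X) i) := by
  refine Omega.Stalks.mono_of_stalk fun z ↦ ?_
  intro t t' h
  obtain ⟨W, e, hzW, he⟩ := exists_isGen hP z
  have hπ := gen_bijective he z hzW
  obtain ⟨g, rfl⟩ := (emb_bijective hπ (Coh.structureModule X) i).2 t
  obtain ⟨g', rfl⟩ := (emb_bijective hπ (Coh.structureModule X) i).2 t'
  replace h : coef (form ε σ) (germM P W z hzW e) ^ i • g =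
      coef (form ε σ) (germM P W z hzW e) ^ i • g' :=
    (stk_multPow ε σ (germM P W z hzW e) _ i g).symm.trans
      (h.trans (stk_multPow ε σ (germM P W z hzW e) _ i g'))
  obtain ⟨a, rfl⟩ := (HomShEval.Reflexive.structureStalkEquiv z).surjective g
  obtain ⟨a', rfl⟩ := (HomShEval.Reflexive.structureStalkEquiv z).surjective g'
  rw [← map_smul, ← map_smul, smul_eq_mul, smul_eq_mul] at h
  have hreg : IsLeftRegular (coef (form ε σ) (germM P W z hzW e)) := fun u v huv ↦ sub_eq_zero.mp
    (coef_smul_eq_zero ε σ z hπ (by rw [mul_sub]; exact sub_eq_zero.mpr huv))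
  rw [hreg.pow i ((HomShEval.Reflexive.structureStalkEquiv z).injective h)]

theorem nonempty_twPow {M : X.Modules} :
    ∀ j, Nonempty (twPow M (Coh.structureModule X) j ≅
      CohB1.tensorMod (Coh.structureModule X) (CohB1.tensorPow M j))
  | 0 => ⟨(ProjTwist.tensOne (Coh.structureModule X)).symm⟩
  | j + 1 => by
    obtain ⟨α⟩ := nonempty_twPow (M := M) j
    exact ⟨ProjTwist.tensCongr α (Iso.refl M) ≪≫ ProjTwist.tensAssoc _ _ _⟩

/-- A global function with a power divisible by the next one has a clopen non-vanishing locus. -/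
theorem isClopen_basicOpen {a b : Γ(X, ⊤)} {n : ℕ} (h : a ^ n * (1 - a * b) = 0) :
    IsClopen (X.basicOpen a : Set X) := by
  have heq : ((X.basicOpen a : Set X))ᶜ = (X.basicOpen (1 - a * b) : Set X) := by
    ext x
    have hu : IsUnit (X.presheaf.germ ⊤ x trivial a) ∨
        IsUnit (X.presheaf.germ ⊤ x trivial (1 - a * b)) := by
      rw [map_sub, map_one, map_mul]
      refine (IsLocalRing.isUnit_or_isUnit_one_sub_self
        (X.presheaf.germ ⊤ x trivial a * X.presheaf.germ ⊤ x trivial b)).imp_left ?_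
      exact isUnit_of_mul_isUnit_left
    have hn : ¬ (IsUnit (X.presheaf.germ ⊤ x trivial a) ∧
        IsUnit (X.presheaf.germ ⊤ x trivial (1 - a * b))) := by
      rintro ⟨h1, h2⟩
      have := (h1.pow n).mul h2
      rw [← map_pow, ← map_mul, h, map_zero] at this
      exact not_isUnit_zero this
    simp only [Set.mem_compl_iff, SetLike.mem_coe]
    have ha := X.mem_basicOpen (U := ⊤) a x trivial
    have hb := X.mem_basicOpen (U := ⊤) (1 - a * b) x trivial
    rw [ha, hb]
    tauto
  exact ⟨by rw [← isOpen_compl_iff, heq]; exact (X.basicOpen _).isOpen, (X.basicOpen a).isOpen⟩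

theorem exists_pow_eq (k : Type u) [Field k] [X.Over (Spec (CommRingCat.of k))]
    [IsProper (X ↘ Spec (CommRingCat.of k))] (a : Γ(X, ⊤)) :
    ∃ (n : ℕ) (b : Γ(X, ⊤)), a ^ n * (1 - a * b) = 0 := by
  letI := ((Scheme.ΓSpecIso (CommRingCat.of k)).inv ≫ (X ↘ Spec (CommRingCat.of k)).appTop).hom.toAlgebra
  have hfin : Module.Finite k Γ(X, ⊤) := Groth.Agent.S1297.finite_toGlobal k X
  have : IsArtinianRing Γ(X, ⊤) := IsArtinianRing.of_finite k _
  obtain ⟨n, hn⟩ := IsArtinian.monotone_stabilizes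
    ⟨fun i ↦ (OrderDual.toDual (Ideal.span {a ^ i})), fun i j hij ↦
      Ideal.span_singleton_le_span_singleton.mpr (pow_dvd_pow a hij)⟩
  have : a ^ n ∈ Ideal.span {a ^ (n + 1)} := by
    have h := hn (n + 1) (Nat.le_succ n)
    change Ideal.span {a ^ n} = Ideal.span {a ^ (n + 1)} at h
    exact h ▸ Ideal.mem_span_singleton_self _
  obtain ⟨b, hb⟩ := Ideal.mem_span_singleton'.mp this
  exact ⟨n, b, by rw [mul_sub, mul_one, ← mul_assoc, ← pow_succ, mul_comm, hb, sub_self]⟩

/-- Global sections glued from two opens. -/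
theorem exists_glue (C : X.Modules) {U V : X.Opens} (hUV : ∀ x : X, x ∈ U ∨ x ∈ V)
    (a : Γ(C, U)) (b : Γ(C, V))
    (h : res C (inf_le_left : U ⊓ V ≤ U) a = res C (inf_le_right : U ⊓ V ≤ V) b) :
    ∃ c : Γ(C, ⊤), res C le_top c = a ∧ res C le_top c = b := by
  let Ui : ULift.{u} Bool → X.Opens := fun i ↦ bif i.down then U else V
  let F : TopCat.Sheaf AddCommGrpCat.{u} X.toTopCat := Coh.toAb C
  let sf : ∀ i : ULift.{u} Bool, Γ(C, Ui i) := fun ⟨i⟩ ↦ match i with
    | true => a
    | false => b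
  have hc : TopCat.Presheaf.IsCompatible F.1 Ui sf := by
    rintro ⟨_ | _⟩ ⟨_ | _⟩
    · rfl
    · show res C (inf_le_left : V ⊓ U ≤ V) b = res C (inf_le_right : V ⊓ U ≤ U) a
      have := congrArg (res C (le_of_eq (inf_comm V U))) h
      rw [res_res, res_res] at this
      exact this.symm
    · exact h
    · rfl
  obtain ⟨c, hcs, -⟩ := F.existsUnique_gluing' Ui ⊤ (fun i ↦ homOfLE le_top) (fun x _ ↦ by
    rcases hUV x with hx | hx
    exacts [Opens.mem_iSup.mpr ⟨⟨true⟩, hx⟩, Opens.mem_iSup.mpr ⟨⟨false⟩, hx⟩]) sf hc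
  exact ⟨c, hcs ⟨true⟩, hcs ⟨false⟩⟩

theorem eq_zero_of_germ (C : X.Modules) {U : X.Opens} (a : Γ(C, U))
    (h : ∀ x (hx : x ∈ U), germM C U x hx a = 0) : a = 0 :=
  TopCat.Presheaf.section_ext (Coh.toAb C) U a 0 fun x hx ↦
    (h x hx).trans (map_zero (C.presheaf.germ U x hx).hom).symm

theorem res_naturality {A B : X.Modules} (φ : A ⟶ B) {U V : X.Opens} (h : U ≤ V) (a : Γ(A, V)) :
    φ.app U (res A h a) = res B h (φ.app V a) :=
  NatTrans.naturality_apply φ.mapPresheaf (homOfLE h).op a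

/-- The core: no separation of the zero set. -/
theorem not_separated (k : Type u) [Field k] [X.Over (Spec (CommRingCat.of k))]
    [IsProper (X ↘ Spec (CommRingCat.of k))] [PreconnectedSpace X]
    (φ : P ⟶ Coh.structureModule X) [Mono φ] [Subsingleton (Coh.HH X P 1)] (G : X.Opens)
    (hbij : ∀ z ∈ G, Function.Bijective (stk φ z)) (hsmall : ∀ z ∉ G, Small φ z)
    {Z₁ Z₂ : Set X} (hc₁ : IsClosed Z₁) (hc₂ : IsClosed Z₂)
    (hd : ∀ x ∉ G, ¬ (x ∈ Z₁ ∧ x ∈ Z₂)) (hun : ∀ x ∉ G, x ∈ Z₁ ∨ x ∈ Z₂)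
    {z₁ z₂ : X} (h₁G : z₁ ∉ G) (h₁ : z₁ ∈ Z₁) (h₂G : z₂ ∉ G) (h₂ : z₂ ∈ Z₂) : False := by
  let Z₁' : Set X := Z₁ ∩ (G : Set X)ᶜ
  let Z₂' : Set X := Z₂ ∩ (G : Set X)ᶜ
  let U : X.Opens := ⟨Z₂'ᶜ, (hc₂.inter G.isOpen.isClosed_compl).isOpen_compl⟩
  let V : X.Opens := ⟨Z₁'ᶜ, (hc₁.inter G.isOpen.isClosed_compl).isOpen_compl⟩
  have hUV : ∀ x : X, x ∈ U ∨ x ∈ V := fun x ↦ by
    by_cases hx : x ∈ Z₂'
    · exact Or.inr fun h' ↦ hd x hx.2 ⟨h'.1, hx.1⟩
    · exact Or.inl hx
  have hW : U ⊓ V ≤ G := fun x hx ↦ by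
    by_contra hxG
    rcases hun x hxG with h | h
    exacts [hx.2 ⟨h, hxG⟩, hx.1 ⟨h, hxG⟩]
  have hS : (ShortComplex.mk φ (cokernel.π φ) (cokernel.condition φ)).ShortExact :=
    ShortComplex.ShortExact.mk' (ShortComplex.exact_cokernel _) ‹_›
      (inferInstanceAs (Epi (cokernel.π φ)))
  let π := cokernel.π φ
  have hkill : ∀ (z : X) t, stk π z (stk φ z t) = 0 := fun z t ↦ by
    rw [← stk_comp_apply, show φ ≫ π = 0 from cokernel.condition φ]
    exact stk_zero z t
  have hzero : π.app (U ⊓ V) (one' (U ⊓ V)) = 0 := by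
    refine eq_zero_of_germ _ _ fun x hx ↦ ?_
    obtain ⟨t, ht⟩ := (hbij x (hW hx)).2 (germM (Coh.structureModule X) (U ⊓ V) x hx (one' (U ⊓ V)))
    rw [← stk_germ, ← ht, hkill]
  obtain ⟨c, hcU, hcV⟩ := exists_glue (cokernel φ) hUV (0 : Γ(cokernel φ, U)) (π.app V (one' V)) (by
    rw [map_zero]
    refine Eq.trans ?_ (res_naturality π (inf_le_right : U ⊓ V ≤ V) (one' V))
    refine Eq.trans hzero.symm (congrArg _ ?_)
    exact ((X.presheaf.map (homOfLE (inf_le_right : U ⊓ V ≤ V)).op).hom.map_one).symm)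
  -- lift to a global function
  have h1 : CohLin.hδ hS 0 ((ProperFin.h0Sec (cokernel φ)).symm c) = 0 :=
    @Subsingleton.elim (Coh.HH X P 1) ‹_› _ _
  obtain ⟨w, hw⟩ := CohLin.exists_hMap_g_eq hS _ h1
  let a : Γ(X, ⊤) := ProperFin.h0Sec (Coh.structureModule X) w
  have ha : π.app ⊤ (ProperFin.h0Sec (Coh.structureModule X) w) = c := by
    rw [← ProperFin.h0Sec_hMap]
    exact (congrArg (ProperFin.h0Sec (cokernel φ)) hw).trans ((ProperFin.h0Sec _).apply_symm_apply c)
  have hgerm : ∀ z, germM (Coh.structureModule X) ⊤ z trivial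
      (ProperFin.h0Sec (Coh.structureModule X) w) =
      X.presheaf.germ ⊤ z trivial a • HomShEval.Reflexive.oneGerm z := fun z ↦ by
    rw [oneGerm_eq ⊤ z trivial]
    refine Eq.trans ?_ (germM_smul (Coh.structureModule X) ⊤ z trivial a (one' ⊤))
    exact congrArg _ (mul_one a).symm
  have hπz : ∀ z, stk π z (X.presheaf.germ ⊤ z trivial a • HomShEval.Reflexive.oneGerm z) =
      germM (cokernel φ) ⊤ z trivial c := fun z ↦
    (congrArg (stk π z) (hgerm z).symm).trans ((stk_germ π ⊤ z trivial _).trans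
      (congrArg (germM (cokernel φ) ⊤ z trivial) ha))
  obtain ⟨n, b, hb⟩ := exists_pow_eq k a
  have hclopen := isClopen_basicOpen hb
  -- `a` is small at `z₁` and near `1` at `z₂`
  have key : ∀ z, z ∉ G → ∀ (r : X.presheaf.stalk z), stk π z
      (r • HomShEval.Reflexive.oneGerm z) = 0 → r ∈ maximalIdeal (X.presheaf.stalk z) := by
    intro z hz r hr
    obtain ⟨t, ht⟩ := ((PullStalk.Exact.stalk_exact hS z).2.1 _).mp hr
    have hmem := hsmall z hz ⟨t, rfl⟩
    rw [show stk φ z t = r • HomShEval.Reflexive.oneGerm z from ht] at hmem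
    have hmap := Submodule.mem_map_of_mem
      (f := (HomShEval.Reflexive.structureStalkEquiv z).symm.toLinearMap) hmem
    rw [Submodule.map_smul''] at hmap
    simp only [LinearEquiv.coe_coe] at hmap
    rw [show (HomShEval.Reflexive.structureStalkEquiv z).symm
      (r • HomShEval.Reflexive.oneGerm z) = r from
      (HomShEval.Reflexive.structureStalkEquiv z).symm_apply_apply r] at hmap
    exact Submodule.smul_le.mpr (fun x hx y _ ↦ Ideal.mul_mem_right y _ hx) hmap
  have hn₁ : z₁ ∉ X.basicOpen a := by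
    intro hu
    refine (key z₁ h₁G _ ?_) ((X.mem_basicOpen a z₁ trivial).mp hu)
    have hzU : z₁ ∈ U := fun h' ↦ hd z₁ h₁G ⟨h₁, h'.1⟩
    rw [hπz, ← AssSch.Stalk.germM_res (cokernel φ) (le_top : U ≤ ⊤) z₁ hzU c, hcU]
    exact map_zero ((cokernel φ).presheaf.germ U z₁ hzU).hom
  have hn₂ : z₂ ∈ X.basicOpen a := by
    refine (X.mem_basicOpen a z₂ trivial).mpr ?_
    by_contra hu
    have hzV : z₂ ∈ V := fun h' ↦ hd z₂ h₂G ⟨h'.1, h₂⟩
    have h' : stk π z₂ ((X.presheaf.germ ⊤ z₂ trivial a - 1) • HomShEval.Reflexive.oneGerm z₂) = 0 := by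
      rw [sub_smul, one_smul, map_sub, hπz,
        ← AssSch.Stalk.germM_res (cokernel φ) (le_top : V ≤ ⊤) z₂ hzV c, hcV, oneGerm_eq V z₂ hzV,
        stk_germ, sub_self]
    have hm := key z₂ h₂G _ h'
    have hu' : X.presheaf.germ ⊤ z₂ trivial a ∈ maximalIdeal (X.presheaf.stalk z₂) := hu
    have h1 := sub_mem hu' hm
    rw [sub_sub_cancel] at h1
    exact (IsLocalRing.maximalIdeal.isMaximal (X.presheaf.stalk z₂)).ne_top
      ((Ideal.eq_top_iff_one (maximalIdeal (X.presheaf.stalk z₂))).mpr h1)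
  rcases isClopen_iff.mp hclopen with h | h
  · exact (Set.eq_empty_iff_forall_notMem.mp h z₂) hn₂
  · exact hn₁ (Set.eq_univ_iff_forall.mp h z₁)

end

/-- Let X be proper over a field k, L ample invertible and s ∈ Γ(X, L) a regular section; assume
depth(O_{X,x}) ≥ 2 for every closed point x and X connected. Then the zero scheme Z(s) is connected. -/
theorem result (k : Type u) [Field k] (X : Scheme.{u}) [X.Over (Spec (CommRingCat.of k))] [IsProper (X ↘ (Spec (CommRingCat.of k)))]
    [ConnectedSpace X] (L : X.Modules) (hL : CohB1.IsAmple L)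
    (s : Coh.structureModule X ⟶ L) (hs : Mono s)
    (hdepth : ∀ x : X, IsClosed ({x} : Set X) → 2 ≤ LocCoh.depth (X.presheaf.stalk x) (X.presheaf.stalk x)) :
    ConnectedSpace ↥(PicF2.zeroScheme L s).subscheme := by
  obtain ⟨M, -, hM⟩ := PicLaw.exists_inverse hL.1
  obtain ⟨e⟩ := id hM
  have hMi := AmpCrit.NegVan.isInvertible_of_inverse hL.1 e
  have : CompactSpace X := hL.2.1
  have : IsLocallyNoetherian X := LocallyOfFiniteType.isLocallyNoetherian (X ↘ Spec (CommRingCat.of k))
  have : IsNoetherian X := {}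
  have hO : Coh.IsCoh (Coh.structureModule X) := ProperFin.isCoh_structureModule X
  have hdepth' : ∀ x : X, IsClosed ({x} : Set X) →
      2 ≤ LocCoh.depth (X.presheaf.stalk x) ((Coh.structureModule X).presheaf.stalk x) := fun x hx ↦
    (hdepth x hx).trans (le_of_eq
      (Depth.idealDepth_congr (HomShEval.Reflexive.structureStalkEquiv x)))
  have hass : ∀ x : X, IsClosed ({x} : Set X) → ¬ Curv2.IsAssPoint (Coh.structureModule X) x :=
    fun x hx ↦ by
      have := FDesc.QuasiFlat.finite_stalk_of_isCoh _ hO x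
      exact not_isAssPoint_of_one_le_depth (le_trans (by norm_num) (hdepth' x hx))
  obtain ⟨m₁, hm₁⟩ := Groth.Agent.S7680.result k X L hL M hM _ hO hdepth'
  obtain ⟨m₀, hm₀⟩ := Groth.Agent.S7679.result k X L hL M hM _ hO hass
  let ε : CohB1.tensorMod M L ≅ Coh.structureModule X := ProjTwist.tensComm _ _ ≪≫ e
  let m := m₁ + m₀ + 1
  let φ : twPow M (Coh.structureModule X) m ⟶ Coh.structureModule X := multPow ε s _ m
  obtain ⟨α⟩ := nonempty_twPow (X := X) (M := M) m
  have h1 : Subsingleton (Coh.HH X (twPow M (Coh.structureModule X) m) 1) := by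
    have := hm₁ m (by omega)
    exact (CohLin.hIso α 1).toEquiv.subsingleton
  have : Mono φ := @mono_multPow X M L ε s hs hMi m
  have hbij : ∀ z ∈ CohB1.genLocus L s, Function.Bijective (stk φ z) :=
    fun z hz ↦ multPow_bijective z ε s _ hz m
  have hsmall : ∀ z ∉ CohB1.genLocus L s, Small φ z := fun z hz ↦
    (mult_small z ε s hL.1 _ hz).comp_right _
  obtain ⟨z₀, hz₀⟩ : ∃ z, z ∉ CohB1.genLocus L s := by
    by_contra! hall
    have : IsIso φ := Omega.Stalks.isIso_of_stalk fun z ↦ hbij z (hall z)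
    have : Subsingleton (Coh.HH X (Coh.structureModule X) 0) := by
      have := hm₀ m (by omega)
      exact (CohLin.hIso ((asIso φ).symm ≪≫ α) 0).toEquiv.subsingleton
    have : Subsingleton Γ(X, ⊤) :=
      (ProperFin.h0Sec (Coh.structureModule X)).toEquiv.symm.subsingleton
    obtain ⟨z⟩ := (inferInstance : Nonempty X)
    exact zero_ne_one ((map_zero (X.presheaf.germ ⊤ z trivial).hom).symm.trans
      ((congrArg _ (Subsingleton.elim (0 : Γ(X, ⊤)) 1)).trans
        (map_one (X.presheaf.germ ⊤ z trivial).hom)))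
  let ι := (PicF2.zeroScheme L s).subschemeι
  have hrange : Set.range ι = {x : X | x ∉ CohB1.genLocus L s} := by
    rw [Scheme.IdealSheafData.range_subschemeι]
    exact Set.ext fun x ↦ mem_support_iff hL.1 s x
  have hconn : _root_.IsPreconnected (Set.range ι) := by
    rw [hrange, isPreconnected_closed_iff]
    rintro t t' ht ht' hsub ⟨z₁, hz₁, hzt⟩ ⟨z₂, hz₂, hzt'⟩
    by_contra hne
    exact not_separated k φ (CohB1.genLocus L s) hbij hsmall ht ht'
      (fun x hx h ↦ hne ⟨x, hx, h⟩) (fun x hx ↦ hsub hx) hz₁ hzt hz₂ hzt'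
  have hemb : Topology.IsEmbedding ι := ι.isClosedEmbedding.isEmbedding
  have : PreconnectedSpace ↥(PicF2.zeroScheme L s).subscheme :=
    ⟨hemb.isInducing.isPreconnected_image.mp (by rwa [Set.image_univ])⟩
  obtain ⟨w, -⟩ := (hrange.symm ▸ hz₀ : z₀ ∈ Set.range ι)
  exact { toNonempty := ⟨w⟩ }

end Groth.Agent.S7681
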