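import Groth.Statements.S16345
import Groth.Agent.AffCompl47.Compactify
import Groth.Agent.S7681
import Groth.Agent.S15544
import Groth.Agent.S9802
import Groth.Agent.S9791
import Groth.Agent.S2768
import Groth.Agent.FlatMisc.FibreDimScheme
import Groth.Agent.VarDim.Scheme
import Groth.Agent.FFCurve.AlgClosed
import Groth.Agent.RegLoc.Serre
-- import your own Groth.Agent.* helpers here

set_option autoImplicit false
universe u
open KatoHom

namespace Groth.Agent.S16345

open AlgebraicGeometry CategoryTheory CategoryTheory.Limits TopologicalSpace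

noncomputable section

/-- Pullback of connected closed sets along proper birational morphisms to normal schemes. -/
theorem isConnected_preimage {Γ Y : Scheme.{u}} [IsIntegral Γ] [IsIntegral Y] [IsLocallyNoetherian Y]
    (hY : Pi1.IsNormalScheme Y) (p : Γ ⟶ Y) [IsProper p] [IsDominant p]
    (hbir : IsIso (p.stalkMap (genericPoint Γ))) {t : Set Y} (ht : IsClosed t) (ht' : _root_.IsConnected t) :
    _root_.IsConnected (p.base ⁻¹' t) := by
  have hgen : p.base (genericPoint Γ) = genericPoint Y := by
    refine ((genericPoint_spec Γ).image p.continuous).eq ?_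
    rw [Set.image_univ, p.denseRange.closure_range]
    exact genericPoint_spec Y
  have hfib : ∀ y : Y, _root_.IsConnected (p.base ⁻¹' {y}) := fun y => by
    haveI := S15544.result hY p hgen hbir y
    rw [← p.range_fiberι y]
    exact isConnected_range (p.fiberι y).continuous
  have hsurj : Function.Surjective p.base := fun y => (hfib y).1
  exact (p.isClosedMap.isQuotientMap p.continuous hsurj).isCoinducing.isConnected_preimage_of_isClosed
    hfib ht ht'

/-- An open dense subscheme of a variety has the dimension of the variety. -/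
theorem topologicalKrullDim_range {k : Type u} [Field k] {U Y : Scheme.{u}}
    [Y.Over (Spec (CommRingCat.of k))] [LocallyOfFiniteType (Y ↘ Spec (CommRingCat.of k))]
    [IrreducibleSpace Y] (j : U ⟶ Y) [IsOpenImmersion j] [Nonempty U] :
    topologicalKrullDim U = VarDim.dimPt k Y (genericPoint Y) := by
  have h1 : topologicalKrullDim U = topologicalKrullDim (j.opensRange : Set Y) :=
    IsHomeomorph.topologicalKrullDim_eq _ j.isOpenEmbedding.isEmbedding.toHomeomorph.isHomeomorph
  rw [h1]
  refine le_antisymm (VarDim.topologicalKrullDim_opens_le k _ fun z _ =>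
    (VarDim.exists_ltSeries_of_le k (genericPoint_specializes z : z ≤ genericPoint Y)).1)
    (VarDim.le_topologicalKrullDim_opens k _ (x := j.base (Classical.arbitrary U)) ⟨_, rfl⟩
      (genericPoint_specializes _))

theorem dimPt_genericPoint_smooth {k : Type u} [Field k] {X : Scheme.{u}}
    [X.Over (Spec (CommRingCat.of k))] [IsIntegral X] {n : ℕ}
    [SmoothOfRelativeDimension n (X ↘ Spec (CommRingCat.of k))] :
    VarDim.dimPt k X (genericPoint X) = n := by
  haveI : Smooth (X ↘ Spec (CommRingCat.of k)) :=
    SmoothOfRelativeDimension.smooth (n := n) (X ↘ Spec (CommRingCat.of k))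
  let f := X ↘ Spec (CommRingCat.of k)
  let η := genericPoint X
  obtain ⟨c, hc, hld⟩ := VarDim.localDim_eq_coheight_add k η
  have hc0 : c = 0 := by
    have h0 : Order.coheight η = 0 :=
      Order.coheight_eq_zero.mpr fun y _ => genericPoint_specializes y
    rw [h0] at hc
    exact_mod_cast hc.symm
  have h := S2768.result n f η
  rw [FlatMisc.FibreDimScheme.fibreDimAt_eq] at h
  have hu : (f ⁻¹' {f η}) = Set.univ := Set.eq_univ_of_forall fun y =>
    show f y = f η from Subsingleton.elim (α := PrimeSpectrum k) _ _
  let e : ↥(f ⁻¹' {f η}) ≃ₜ X := (Homeomorph.setCongr hu).trans (Homeomorph.Set.univ X)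
  have h' : FlatMor.localDim X η = (n : WithBot ℕ∞) := by
    refine le_antisymm ?_ ?_
    · rw [← h]
      exact FlatMisc.FibreDimScheme.localDim_homeo e ⟨η, rfl⟩
    · rw [← h]
      exact FlatMisc.FibreDimScheme.localDim_homeo e.symm η
  rw [h', hc0, zero_add] at hld
  exact_mod_cast hld.symm

theorem two_le_depth {k : Type u} [Field k] {Y : Scheme.{u}} [Y.Over (Spec (CommRingCat.of k))]
    [LocallyOfFiniteType (Y ↘ Spec (CommRingCat.of k))] [IrreducibleSpace Y]
    (hY : Pi1.IsNormalScheme Y) (hd : 2 ≤ VarDim.dimPt k Y (genericPoint Y))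
    (y : Y) (hy : IsClosed ({y} : Set Y)) :
    2 ≤ LocCoh.depth (Y.presheaf.stalk y) (Y.presheaf.stalk y) := by
  haveI := (hY y).1
  haveI := (hY y).2
  haveI : IsLocallyNoetherian Y :=
    LocallyOfFiniteType.isLocallyNoetherian (Y ↘ Spec (CommRingCat.of k))
  have hh : Order.height y = 0 := Order.height_eq_zero.mpr fun z hz => by
    have hz' : y ⤳ z := hz
    have : z = y := hz'.mem_closed hy rfl
    rw [this]
  have h0 : VarDim.dimPt k Y y = 0 := by
    have := (VarDim.height_eq_dimPt k y).symm.trans hh
    exact_mod_cast this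
  have h2 : (2 : ℕ∞) ≤ Order.coheight y := by
    refine le_trans ?_ (VarDim.le_coheight k (genericPoint_specializes y : y ≤ genericPoint Y))
    rw [h0, Nat.sub_zero]
    exact_mod_cast hd
  have hm := RegLoc.Serre.min_two_dim_le_depth (A := Y.presheaf.stalk y)
  rw [ringKrullDim_stalk_eq_coheight,
    min_eq_left (show (2 : WithBot ℕ∞) ≤ _ from WithBot.coe_le_coe.mpr h2)] at hm
  exact WithBot.coe_le_coe.mp hm

open AlgebraicGeometry CategoryTheory in
/-- Let X be a connected scheme, proper and smooth of relative dimension d ≥ 2 over a field L, and let D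
⊆ X be a closed subscheme, smooth of relative dimension d − 1 over L (a smooth divisor), whose
complement in X is an affine open subset. Then D is connected (in particular non-empty). -/
theorem result
    {L : Type u} [Field L] {X D : Scheme.{u}} (f : X ⟶ Spec (CommRingCat.of L)) (i : D ⟶ X)
    [IsProper f] (d : ℕ) (hd : 1 < d) [SmoothOfRelativeDimension d f]
    [IsClosedImmersion i] [SmoothOfRelativeDimension (d - 1) (i ≫ f)]
    [ConnectedSpace X] (U : X.Opens) (hU : IsAffineOpen U)
    (hDU : Set.range i.base = (U : Set X)ᶜ) : ConnectedSpace D := by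
  let π : (U : Scheme.{u}) ⟶ Spec (CommRingCat.of L) := U.ι ≫ f
  letI : X.Over (Spec (CommRingCat.of L)) := ⟨f⟩
  haveI : IsProper (X ↘ Spec (CommRingCat.of L)) := ‹IsProper f›
  haveI : SmoothOfRelativeDimension d (X ↘ Spec (CommRingCat.of L)) :=
    ‹SmoothOfRelativeDimension d f›
  haveI : Smooth f := SmoothOfRelativeDimension.smooth (n := d) f
  haveI : Smooth (X ↘ Spec (CommRingCat.of L)) := ‹Smooth f›
  haveI : IsIntegral X := FFCurve.isIntegral_of_connected L
  suffices h : _root_.IsConnected (Set.range i.base) by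
    haveI := isConnected_iff_connectedSpace.mp h
    exact i.isClosedEmbedding.isEmbedding.toHomeomorph.symm.surjective.connectedSpace
      i.isClosedEmbedding.isEmbedding.toHomeomorph.symm.continuous
  rw [hDU]
  rcases isEmpty_or_nonempty U with hU0 | hU0
  · rw [show (U : Set X) = ∅ from Set.eq_empty_iff_forall_notMem.mpr fun x hx => hU0.false ⟨x, hx⟩,
      Set.compl_empty]
    exact isConnected_univ
  haveI : IsAffine (U : Scheme.{u}) := hU
  haveI := hU0
  haveI : IsIntegral (U : Scheme.{u}) := isIntegral_of_isOpenImmersion U.ι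
  haveI : Smooth π := inferInstanceAs (Smooth (U.ι ≫ f))
  obtain ⟨Y, q, j, M, s, hq, hj, hjd, hjq, hYi, hYn, hM, hs, hsupp⟩ :=
    AffCompl47.exists_compactification (S9791.isNormalScheme_of_smooth_field π) π
  letI : Y.Over (Spec (CommRingCat.of L)) := ⟨q⟩
  haveI : IsProper (Y ↘ Spec (CommRingCat.of L)) := hq
  haveI : IsLocallyNoetherian Y := LocallyOfFiniteType.isLocallyNoetherian q
  haveI : IsLocallyNoetherian X := LocallyOfFiniteType.isLocallyNoetherian f
  have hdim : 2 ≤ VarDim.dimPt L Y (genericPoint Y) := by
    have h1 := topologicalKrullDim_range (k := L) j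
    have h2 := topologicalKrullDim_range (k := L) U.ι
    rw [h2, dimPt_genericPoint_smooth (n := d)] at h1
    have : d = VarDim.dimPt L Y (genericPoint Y) := by exact_mod_cast h1
    omega
  have hZ : _root_.IsConnected ((PicF2.zeroScheme M s).support : Set Y) := by
    haveI := S7681.result L Y M hM s hs (two_le_depth hYn hdim)
    rw [← Scheme.IdealSheafData.range_subschemeι]
    exact isConnected_range (PicF2.zeroScheme M s).subschemeι.continuous
  -- the closure of the graph
  let γ : (U : Scheme.{u}) ⟶ pullback f q := pullback.lift U.ι j (by rw [hjq])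
  haveI : IsImmersion (γ ≫ pullback.fst f q) := by
    rw [pullback.lift_fst]; infer_instance
  haveI : IsImmersion γ := IsImmersion.of_comp γ (pullback.fst f q)
  haveI : CompactSpace (U : Scheme.{u}) := inferInstance
  haveI : QuasiCompact γ := inferInstance
  haveI : IsIntegral γ.image := S9802.isIntegral_image γ
  let p₁ : γ.image ⟶ X := γ.imageι ≫ pullback.fst f q
  let p₂ : γ.image ⟶ Y := γ.imageι ≫ pullback.snd f q
  haveI : IsProper p₁ := inferInstanceAs (IsProper (γ.imageι ≫ pullback.fst f q))
  haveI : IsProper p₂ := inferInstanceAs (IsProper (γ.imageι ≫ pullback.snd f q))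
  have e₁ : γ.toImage ≫ p₁ = U.ι := by
    rw [Scheme.Hom.toImage_imageι_assoc]; exact pullback.lift_fst _ _ _
  have e₂ : γ.toImage ≫ p₂ = j := by
    rw [Scheme.Hom.toImage_imageι_assoc]; exact pullback.lift_snd _ _ _
  haveI : IsOpenImmersion γ.toImage := inferInstance
  haveI : IsDominant γ.toImage := inferInstance
  have hd₂ : IsDominant p₂ := by
    haveI : IsDominant (γ.toImage ≫ p₂) := e₂ ▸ hjd
    exact IsDominant.of_comp γ.toImage p₂
  haveI := hd₂
  have hbir : IsIso (p₂.stalkMap (genericPoint γ.image)) := by
    rw [← genericPoint_eq_of_isOpenImmersion γ.toImage]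
    haveI h1 : IsIso ((γ.toImage ≫ p₂).stalkMap (genericPoint (U : Scheme.{u}))) := by
      haveI : IsOpenImmersion (γ.toImage ≫ p₂) := e₂ ▸ hj
      infer_instance
    rw [Scheme.Hom.stalkMap_comp] at h1
    haveI := h1
    exact @IsIso.of_isIso_comp_right _ _ _ _ _ _ (γ.toImage.stalkMap (genericPoint (U : Scheme.{u})))
      inferInstance h1
  have hconn := isConnected_preimage hYn p₂ hbir (PicF2.zeroScheme M s).support.isClosed hZ
  have hpre₁ : p₁.base ⁻¹' (U : Set X) = Set.range γ.toImage.base :=
    AffCompl47.preimage_eq_range γ.toImage p₁ U (𝟙 _) (by rw [Category.id_comp, e₁])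
  have hpre₂ : p₂.base ⁻¹' Set.range j.base = Set.range γ.toImage.base :=
    AffCompl47.preimage_eq_range γ.toImage p₂ j.opensRange j.isoOpensRange.hom
      (by rw [e₂, Scheme.Hom.isoOpensRange_hom_ι])
  rw [hsupp, Set.preimage_compl, hpre₂, ← hpre₁, ← Set.preimage_compl] at hconn
  have hd₁ : DenseRange p₁.base := by
    refine Dense.mono (s₁ := (U : Set X)) (fun x hx => ?_) (U.2.dense ⟨_, hU0.some.2⟩)
    refine ⟨γ.toImage.base ⟨x, hx⟩, ?_⟩
    rw [← Scheme.Hom.comp_apply, e₁]
    rfl
  have hs₁ : Function.Surjective p₁.base :=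
    Set.range_eq_univ.mp (p₁.isClosedMap.isClosed_range.closure_eq.symm.trans hd₁.closure_range)
  have := hconn.image p₁.base p₁.continuous.continuousOn
  rwa [Set.image_preimage_eq _ hs₁] at this

end

end Groth.Agent.S16345
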