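import Groth.Statements.S11373
import Groth.Agent.S16345
import Groth.Agent.S1585
import Groth.Agent.S2351
import Groth.Agent.AlgSpCov.IntegralDim
-- import your own Groth.Agent.* helpers here

set_option autoImplicit false
set_option linter.style.haveILetI false
universe u
open CategoryTheory CategoryTheory.Limits AlgebraicGeometry TopologicalSpace
open Variety

namespace Groth.Agent.S11373

open Groth.Agent.S16345 in
theorem aux {L : Type u} [Field L] {X : Scheme.{u}} [X.Over (Spec (CommRingCat.of L))]
    [IsProper (X ↘ Spec (CommRingCat.of L))] [IsIntegral X] (hnorm : Pi1.IsNormalScheme X)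
    (hX : (2 : WithBot ℕ∞) ≤ topologicalKrullDim X) (U : X.Opens) (hU : IsAffineOpen U) :
    _root_.IsConnected ((U : Set X)ᶜ) := by
  let f := X ↘ Spec (CommRingCat.of L)
  let π : (U : Scheme.{u}) ⟶ Spec (CommRingCat.of L) := U.ι ≫ f
  rcases isEmpty_or_nonempty U with hU0 | hU0
  · rw [show (U : Set X) = ∅ from Set.eq_empty_iff_forall_notMem.mpr fun x hx => hU0.false ⟨x, hx⟩,
      Set.compl_empty]
    exact isConnected_univ
  haveI : IsAffine (U : Scheme.{u}) := hU
  haveI := hU0
  haveI : IsIntegral (U : Scheme.{u}) := isIntegral_of_isOpenImmersion U.ι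
  haveI : IsLocallyNoetherian X := LocallyOfFiniteType.isLocallyNoetherian f
  haveI : LocallyOfFiniteType π := inferInstanceAs (LocallyOfFiniteType (U.ι ≫ f))
  have hUn : Pi1.IsNormalScheme (U : Scheme.{u}) := fun x => by
    have e := (asIso (U.ι.stalkMap x)).commRingCatIsoToRingEquiv
    have h := hnorm (U.ι.base x)
    haveI := h.1
    haveI := h.2
    exact ⟨MulEquiv.isDomain _ e.symm.toMulEquiv, IsIntegrallyClosed.of_equiv e⟩
  obtain ⟨Y, q, j, M, s, hq, hj, hjd, hjq, hYi, hYn, hM, hs, hsupp⟩ :=
    AffCompl47.exists_compactification hUn π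
  letI : Y.Over (Spec (CommRingCat.of L)) := ⟨q⟩
  haveI : IsProper (Y ↘ Spec (CommRingCat.of L)) := hq
  haveI : IsLocallyNoetherian Y := LocallyOfFiniteType.isLocallyNoetherian q
  have hdim : 2 ≤ VarDim.dimPt L Y (genericPoint Y) := by
    have h1 := topologicalKrullDim_range (k := L) j
    have h2 := topologicalKrullDim_range (k := L) U.ι
    have h3 := topologicalKrullDim_range (k := L) (𝟙 X)
    rw [h2, ← h3] at h1
    rw [h1] at hX
    exact_mod_cast hX
  have hZ : _root_.IsConnected ((PicF2.zeroScheme M s).support : Set Y) := by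
    haveI := S7681.result L Y M hM s hs (two_le_depth hYn hdim)
    rw [← Scheme.IdealSheafData.range_subschemeι]
    exact isConnected_range (PicF2.zeroScheme M s).subschemeι.continuous
  let γ : (U : Scheme.{u}) ⟶ pullback f q := pullback.lift U.ι j (by rw [hjq])
  haveI : IsImmersion (γ ≫ pullback.fst f q) := by
    rw [pullback.lift_fst]; infer_instance
  haveI : IsImmersion γ := IsImmersion.of_comp γ (pullback.fst f q)
  haveI : CompactSpace (U : Scheme.{u}) := inferInstance
  haveI : QuasiCompact γ := inferInstance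
  haveI : IsIntegral γ.image := S9802.isIntegral_image γ
  let p₁ : γ.image ⟶ X := γ.imageι ≫ pullback.fst f q
  let p₂ : γ.image ⟶ Y := γ.imageι ≫ pullback.snd f q
  haveI : IsProper p₁ := inferInstanceAs (IsProper (γ.imageι ≫ pullback.fst f q))
  haveI : IsProper p₂ := inferInstanceAs (IsProper (γ.imageι ≫ pullback.snd f q))
  have e₁ : γ.toImage ≫ p₁ = U.ι := by
    rw [Scheme.Hom.toImage_imageι_assoc]; exact pullback.lift_fst _ _ _
  have e₂ : γ.toImage ≫ p₂ = j := by
    rw [Scheme.Hom.toImage_imageι_assoc]; exact pullback.lift_snd _ _ _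
  haveI : IsOpenImmersion γ.toImage := inferInstance
  haveI : IsDominant γ.toImage := inferInstance
  have hd₂ : IsDominant p₂ := by
    haveI : IsDominant (γ.toImage ≫ p₂) := e₂ ▸ hjd
    exact IsDominant.of_comp γ.toImage p₂
  haveI := hd₂
  have hbir : IsIso (p₂.stalkMap (genericPoint γ.image)) := by
    rw [← genericPoint_eq_of_isOpenImmersion γ.toImage]
    haveI h1 : IsIso ((γ.toImage ≫ p₂).stalkMap (genericPoint (U : Scheme.{u}))) := by
      haveI : IsOpenImmersion (γ.toImage ≫ p₂) := e₂ ▸ hj
      infer_instance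
    rw [Scheme.Hom.stalkMap_comp] at h1
    haveI := h1
    exact @IsIso.of_isIso_comp_right _ _ _ _ _ _ (γ.toImage.stalkMap (genericPoint (U : Scheme.{u})))
      inferInstance h1
  have hconn := isConnected_preimage hYn p₂ hbir (PicF2.zeroScheme M s).support.isClosed hZ
  have hpre₁ : p₁.base ⁻¹' (U : Set X) = Set.range γ.toImage.base :=
    AffCompl47.preimage_eq_range γ.toImage p₁ U (𝟙 _) (by rw [Category.id_comp, e₁])
  have hpre₂ : p₂.base ⁻¹' Set.range j.base = Set.range γ.toImage.base :=
    AffCompl47.preimage_eq_range γ.toImage p₂ j.opensRange j.isoOpensRange.hom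
      (by rw [e₂, Scheme.Hom.isoOpensRange_hom_ι])
  rw [hsupp, Set.preimage_compl, hpre₂, ← hpre₁, ← Set.preimage_compl] at hconn
  have hd₁ : DenseRange p₁.base := by
    refine Dense.mono (s₁ := (U : Set X)) (fun x hx => ?_) (U.2.dense ⟨_, hU0.some.2⟩)
    refine ⟨γ.toImage.base ⟨x, hx⟩, ?_⟩
    rw [← Scheme.Hom.comp_apply, e₁]
    rfl
  have hs₁ : Function.Surjective p₁.base :=
    Set.range_eq_univ.mp (p₁.isClosedMap.isClosed_range.closure_eq.symm.trans hd₁.closure_range)
  have := hconn.image p₁.base p₁.continuous.continuousOn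
  rwa [Set.image_preimage_eq _ hs₁] at this


/-- Let X be proper and integral over an algebraically closed field k with dim X ≥ 2, and let U ≠ X be
an affine open subset. Then X ∖ U is connected. (The published statement names only a complete
scheme of dimension ≥ 2; the standing setting of its chapter, which this row keeps, takes X complete
and integral, and the published proof passes to the normalization of an integral X. Integrality
cannot be dropped: for two projective planes glued at one point and U the complement of a line in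
each plane avoiding that point, U is affine and X ∖ U is two disjoint lines.) -/
theorem result (k : Type u) [Field k] [IsAlgClosed k] (X : Scheme.{u})
    [X.Over (Spec (CommRingCat.of k))] [IsProper (X ↘ (Spec (CommRingCat.of k)))] [IsIntegral X]
    (hdim : (2 : WithBot ℕ∞) ≤ topologicalKrullDim X)
    (U : X.Opens) (hU : IsAffineOpen U) (hUX : U ≠ ⊤) :
    _root_.IsConnected ((U : Set X)ᶜ) := by
  haveI : IsLocallyNoetherian X :=
    LocallyOfFiniteType.isLocallyNoetherian (X ↘ Spec (CommRingCat.of k))
  let ν := Curv2.normalizationι X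
  obtain ⟨hfin, -, -, hint, hnorm⟩ := S1585.result k X
  obtain ⟨_, -, hsurj, -⟩ := S2351.result X
  letI : (Curv2.normalization X).Over (Spec (CommRingCat.of k)) :=
    ⟨ν ≫ (X ↘ Spec (CommRingCat.of k))⟩
  haveI : IsFinite ν := hfin
  haveI : IsProper (Curv2.normalization X ↘ Spec (CommRingCat.of k)) :=
    inferInstanceAs (IsProper (ν ≫ (X ↘ Spec (CommRingCat.of k))))
  have hd : (2 : WithBot ℕ∞) ≤ topologicalKrullDim (Curv2.normalization X) :=
    hdim.trans (AlgSpCov.IntegralDim.topologicalKrullDim_le_of_closed_surjective ν ν.isClosedMap)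
  have h := (aux (L := k) hnorm hd (ν ⁻¹ᵁ U) (hU.preimage ν)).image ν.base ν.continuous.continuousOn
  rwa [show ((ν ⁻¹ᵁ U : (Curv2.normalization X).Opens) : Set (Curv2.normalization X))ᶜ =
      ν.base ⁻¹' (U : Set X)ᶜ from rfl, Set.image_preimage_eq _ ν.surjective] at h

end Groth.Agent.S11373
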