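import Groth.Statements.S11377
import Groth.Agent.CohDimLib.Shift
import Groth.Agent.AmpleFam.Resolution
import Groth.Agent.PicLaw.Calc
import Groth.Agent.AmpleLib.GenIso

set_option autoImplicit false
universe u
open CategoryTheory CategoryTheory.Limits AlgebraicGeometry TopologicalSpace
open CohDim

namespace Groth.Agent.S11377

/-- Let S be an integral scheme, separated and of finite type over an algebraically closed field k, with
all local rings regular, let L be an ample invertible O_S-module with tensor inverse M (so S is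
quasi-projective and M^{⊗m} plays the role of O_S(-m)), and let r ≥ 0. If there is m₀ such that
H^i(S, M^{⊗m}) = 0 for every i > r and every m ≥ m₀, then H^i(S, F) = 0 for every i > r and every
coherent O_S-module F. (The published statement takes O_S(1) from a quasi-projective embedding; the
printed proof uses only that F ⊗ O_S(m) is generated by finitely many global sections for m ≫ 0,
which holds for any ample L.) -/
theorem result (k : Type u) [Field k] [IsAlgClosed k] (S : Scheme.{u})
    [S.Over (Spec (CommRingCat.of k))] [IsSeparated (S ↘ (Spec (CommRingCat.of k)))]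
    [LocallyOfFiniteType (S ↘ (Spec (CommRingCat.of k)))] [QuasiCompact (S ↘ (Spec (CommRingCat.of k)))]
    [IsIntegral S] (hreg : ∀ x : S, IsRegularLocalRing (S.presheaf.stalk x))
    (L M : S.Modules) (hL : CohB1.IsAmple L) (hM : ClSub.IsInverseOf M L) (r : ℕ)
    (hneg : ∃ m₀ : ℕ, ∀ m : ℕ, m₀ ≤ m → ∀ i : ℕ, r < i → Subsingleton (Coh.HH S (CohB1.tensorPow M m) i))
    (F : S.Modules) (hF : Coh.IsCoh F) (i : ℕ) (hi : r < i) :
    Subsingleton (Coh.HH S F i) := by
  haveI := CohDimLib.isNoetherian_over k (S := S)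
  haveI : S.IsSeparated := ⟨by
    rw [terminal.hom_ext (terminal.from S) ((S ↘ Spec (CommRingCat.of k)) ≫ terminal.from _)]
    infer_instance⟩
  obtain ⟨m₀, hm₀⟩ := hneg
  letI := PicLaw.law S
  have hMi : PicF.IsInvertible M := PicLaw.isInvertible_of_tensor_right hL.1
    (PicCl.isInvertible_of_iso hM.some.symm (PicLoc.isInvertible_structureModule S))
  have hcls : ∀ {A : S.Modules} (hA : PicF.IsInvertible A) (n : ℕ), ∃ h : PicF.IsInvertible (CohB1.tensorPow A n),
      PicGrp.cls (CohB1.tensorPow A n) h = PicGrp.cls A hA ^ n := by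
    intro A hA n
    induction n with
    | zero => exact ⟨PicLoc.isInvertible_structureModule S, by rw [pow_zero]; exact PicLaw.cls_one⟩
    | succ n ih =>
      obtain ⟨h, e⟩ := ih
      exact ⟨PicLaw.isInvertible_tensor h hA, by rw [pow_succ, ← e]; exact PicLaw.cls_tensor h hA⟩
  have hone : PicGrp.cls M hMi * PicGrp.cls L hL.1 = 1 := by
    rw [← PicLaw.cls_tensor hMi hL.1, PicGrp.cls_eq_one_iff]
    exact hM
  have hA : CohB1.IsAmple (CohB1.tensorPow L (m₀ + 1)) :=
    (AmpleLib.isAmple_tensorPow_iff hL.1 (Nat.succ_pos m₀)).2 hL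
  have hLfam : KSix.IsAmpleFamily (fun _ : PUnit.{u + 1} => CohB1.tensorPow L (m₀ + 1)) :=
    ⟨inferInstance, inferInstance, fun _ => hA.1, fun x => by
      obtain ⟨n, s, hx, haff⟩ := hA.2.2 x
      exact ⟨PUnit.unit, n, s, hx, haff⟩⟩
  refine CohDimLib.subsingleton_of_quot k r (fun G hG => ?_) hF hi
  obtain ⟨E, π, hE, hπ⟩ := AmpleFam.Basic.exists_epi hLfam hG.1 hG.2
  refine ⟨E, π, PerfTri.Bounded.isCoh_of_isFinLocFree
    (AmpleFam.Resolution.isFinLocFree_of_inAddL (fun _ => hA.1) hE), hπ, fun j hj => ?_⟩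
  obtain ⟨c, N, hN, ⟨e⟩⟩ := hE
  haveI : Subsingleton (Coh.HH S (⨁ N) j) := CohDimLib.subsingleton_biproduct k N j fun a => by
    obtain ⟨_i, n, hn, ⟨φ⟩⟩ := hN a
    obtain ⟨hMq, eMq⟩ := hcls hMi ((m₀ + 1) * n)
    obtain ⟨hL1, eL1⟩ := hcls hL.1 (m₀ + 1)
    obtain ⟨hLn, eLn⟩ := hcls hL1 n
    have hNi : PicF.IsInvertible (N a) := PicLaw.isInvertible_of_tensor_right hLn
      (PicCl.isInvertible_of_iso φ.symm (PicLoc.isInvertible_structureModule S))
    obtain ⟨ψ⟩ := (PicLaw.iso_iff hMq hNi).2 (by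
      refine mul_right_cancel (b := PicGrp.cls _ hLn) ?_
      rw [← PicLaw.cls_tensor hNi hLn, (PicGrp.cls_eq_one_iff _).2 ⟨φ⟩, eMq, eLn, eL1, ← pow_mul, ← mul_pow, hone,
        one_pow])
    haveI := hm₀ ((m₀ + 1) * n) (by nlinarith) j hj
    exact (CohLES.mapEquiv k ψ j).symm.injective.subsingleton
  exact (CohLES.mapEquiv k e j).injective.subsingleton

end Groth.Agent.S11377
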