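import Groth.Statements.S11382
import Groth.Agent.AffBlow94.Main
-- import your own Groth.Agent.* helpers here

set_option autoImplicit false
set_option linter.style.haveILetI false
universe u
open CategoryTheory CategoryTheory.Limits AlgebraicGeometry TopologicalSpace
open Variety

namespace Groth.Agent.S11382

/-- Let X be proper and integral over an algebraically closed field k and U ⊆ X an open subset with
closed complement Y. Then U is affine if and only if there exist a closed subscheme Z of X, defined
by a quasi-coherent ideal 𝓙 with support contained in Y, and a blowing-up f : X' ⟶ X of X in Z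
(characterised by its universal property; X' is again proper over k), such that f⁻¹(Y) is the
support of an effective Cartier divisor D on X' admitting an ample invertible module O_{X'}(D), i.e.
an ample tensor inverse of the ideal of D. -/
theorem result (k : Type u) [Field k] [IsAlgClosed k] (X : Scheme.{u})
    [X.Over (Spec (CommRingCat.of k))] [IsProper (X ↘ (Spec (CommRingCat.of k)))] [IsIntegral X]
    (U : X.Opens) :
    IsAffineOpen U ↔
      ∃ 𝓙 : X.IdealSheafData, (𝓙.support : Set X) ⊆ (U : Set X)ᶜ ∧
        ∃ (X' : Scheme.{u}) (f : X' ⟶ X), BlowUp.IsBlowUp f 𝓙 ∧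
          IsProper (f ≫ (X ↘ (Spec (CommRingCat.of k)))) ∧
          ∃ (D : X'.IdealSheafData) (L : X'.Modules), BlowUp.IsEffCartierIdeal D ∧
            (D.support : Set X') = (fun x => f x) ⁻¹' ((U : Set X)ᶜ) ∧
            ClSub.IsInverseOf L (ClSub.idealMod D) ∧ CohB1.IsAmple L := by
  constructor
  · intro hU
    rcases (U : Set X).eq_empty_or_nonempty with h | h
    · exact AffBlow94.exists_blowUp_of_empty U h
    · exact AffBlow94.exists_blowUp_of_isAffineOpen U hU h
  · rintro ⟨𝓙, h𝓙, X', f, hf, hp, D, L, hD, hs, hi, hL⟩
    haveI := hp
    exact AffBlow94.isAffineOpen_of_blowUp (k := k) U 𝓙 h𝓙 f hf D L hD hs hi hL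

end Groth.Agent.S11382
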