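import Groth.Statements.S11389
import Groth.Agent.CohOps.Deligne
import Groth.Agent.FComplNhd.Free
import Groth.Agent.ShStabLib.BC.Sys
import Groth.Agent.ProperFin.FiniteMap
import Groth.Agent.S9523
import Groth.Agent.VBLib.Basic
import Groth.Agent.KFlat.TensorLocFree
import Groth.Agent.ProperFin.Supp

set_option autoImplicit false
universe u
open CategoryTheory CategoryTheory.Limits AlgebraicGeometry TopologicalSpace
open Variety

namespace Groth.Agent.S11389

/-- A coherent module on an integral scheme is free near the generic point, of rank its generic rank. -/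
theorem exists_generic_free {Y : Scheme.{u}} [IsIntegral Y] [IsLocallyNoetherian Y] (M : Y.Modules)
    (hM : Coh.IsCoh M) :
    ∃ V : Y.Opens, genericPoint Y ∈ V ∧ Nonempty (M.restrict V.ι ≅ FlatMod.freeMod (V : Scheme.{u})
      (Module.finrank Y.functionField (M.presheaf.stalk (genericPoint Y)))) := by
  haveI : Module.Finite Y.functionField (M.presheaf.stalk (genericPoint Y)) :=
    VBLib.finite_stalk hM (genericPoint Y)
  exact FComplNhd.exists_free_nhd M hM (genericPoint Y) (Module.finBasis Y.functionField _)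

theorem isCoh_coprod {X : Scheme.{u}} {n : ℕ} (M : X.Modules) (hM : Coh.IsCoh M) :
    Coh.IsCoh (∐ fun _ : Fin n => M) :=
  CohDev.isCoh_of_iso (biproduct.isoCoproduct _) (ShStabLib.BC.isCoh_biproduct _ fun _ => hM)

/-- A finite coproduct of copies of a module free on `V` is free on `V`. -/
theorem exists_restrict_coprod_free {Y : Scheme.{u}} {V : Y.Opens} {M : Y.Modules} {a : ℕ}
    (e : M.restrict V.ι ≅ FlatMod.freeMod (V : Scheme.{u}) a) (n : ℕ) :
    Nonempty ((∐ fun _ : Fin n => M).restrict V.ι ≅ FlatMod.freeMod (V : Scheme.{u}) (n * a)) := by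
  haveI : (Scheme.Modules.restrictFunctor V.ι).IsLeftAdjoint := inferInstance
  obtain ⟨c⟩ := KFlat.TensorLocFree.exists_free_sigma (X := (V : Scheme.{u})) (ι := Fin n) (fun _ => a) rfl
  have h : (∑ᶠ _ : Fin n, a) = n * a := by simp [finsum_eq_sum_of_fintype]
  exact ⟨PreservesCoproduct.iso (Scheme.Modules.restrictFunctor V.ι) _ ≪≫
    Sigma.mapIso (fun _ => e) ≪≫ c ≪≫ eqToIso (by rw [h])⟩

/-- Let k be an algebraically closed field, X and Y integral schemes separated and of finite type over
k, and f : X ⟶ Y a finite surjective k-morphism of degree m = [K(X) : K(Y)], computed as the rank of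
the stalk of f_*O_X at the generic point of Y over the function field K(Y). Then for every coherent
O_Y-module F there exist a coherent O_X-module G and a morphism u : f_*G ⟶ F^{⊕m} whose restriction
to some open neighbourhood of the generic point of Y is an isomorphism. -/
theorem result
    (k : Type u) [Field k] [IsAlgClosed k] (X Y : Scheme.{u})
    [X.Over (Spec (CommRingCat.of k))] [Y.Over (Spec (CommRingCat.of k))]
    [IsSeparated (X ↘ (Spec (CommRingCat.of k)))] [LocallyOfFiniteType (X ↘ (Spec (CommRingCat.of k)))]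
    [IsSeparated (Y ↘ (Spec (CommRingCat.of k)))] [LocallyOfFiniteType (Y ↘ (Spec (CommRingCat.of k)))]
    [QuasiCompact (Y ↘ (Spec (CommRingCat.of k)))]
    [IsIntegral X] [IsIntegral Y] (f : X ⟶ Y) [IsFinite f] [Surjective f]
    (hf : f ≫ (Y ↘ (Spec (CommRingCat.of k))) = X ↘ (Spec (CommRingCat.of k)))
    (F : Y.Modules) (hF : Coh.IsCoh F) :
    ∃ (G : X.Modules) (u : (Scheme.Modules.pushforward f).obj G ⟶
        ∐ fun _ : Fin (Module.finrank (Y.functionField)
            (((Scheme.Modules.pushforward f).obj (Coh.structureModule X)).presheaf.stalk (genericPoint Y))) => F),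
      Coh.IsCoh G ∧ ∃ V : Y.Opens, genericPoint Y ∈ V ∧
        IsIso ((Scheme.Modules.restrictFunctor V.ι).map u) := by
  haveI : IsLocallyNoetherian Y :=
    LocallyOfFiniteType.isLocallyNoetherian (Y ↘ Spec (CommRingCat.of k))
  haveI : CompactSpace Y :=
    QuasiCompact.compactSpace_of_compactSpace (Y ↘ Spec (CommRingCat.of k))
  haveI : IsNoetherian Y := { }
  haveI : IsLocallyNoetherian X :=
    LocallyOfFiniteType.isLocallyNoetherian (X ↘ Spec (CommRingCat.of k))
  haveI : CompactSpace X := QuasiCompact.compactSpace_of_compactSpace f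
  haveI : IsNoetherian X := { }
  let P := Scheme.Modules.pushforward f
  let A := P.obj (Coh.structureModule X)
  have hA : Coh.IsCoh A :=
    ProperFin.isCoh_push_of_isFinite f _ (ProperFin.isCoh_structureModule X)
  let m := Module.finrank Y.functionField (A.presheaf.stalk (genericPoint Y))
  let r := Module.finrank Y.functionField (F.presheaf.stalk (genericPoint Y))
  obtain ⟨V₁, hV₁, ⟨e₁⟩⟩ := exists_generic_free A hA
  obtain ⟨V₂, hV₂, ⟨e₂⟩⟩ := exists_generic_free F hF
  let V := V₁ ⊓ V₂
  have hV : genericPoint Y ∈ V := ⟨hV₁, hV₂⟩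
  obtain ⟨a₁⟩ := KFlat.TensorLocFree.restrict_freeOn_mono (inf_le_left : V ≤ V₁) e₁
  obtain ⟨a₂⟩ := KFlat.TensorLocFree.restrict_freeOn_mono (inf_le_right : V ≤ V₂) e₂
  obtain ⟨b₁⟩ := exists_restrict_coprod_free a₁ r
  obtain ⟨b₂⟩ := exists_restrict_coprod_free a₂ m
  let G₀ : X.Modules := ∐ fun _ : Fin r => Coh.structureModule X
  have hG₀ : Coh.IsCoh G₀ := isCoh_coprod _ (ProperFin.isCoh_structureModule X)
  haveI : G₀.IsQuasicoherent := hG₀.1
  have hPG : Coh.IsCoh (P.obj G₀) := ProperFin.isCoh_push_of_isFinite f _ hG₀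
  have hT : Coh.IsCoh (∐ fun _ : Fin m => F) := isCoh_coprod F hF
  let R := Scheme.Modules.restrictFunctor V.ι
  let φ : R.obj (P.obj G₀) ≅ R.obj (∐ fun _ : Fin m => F) :=
    R.mapIso (PreservesCoproduct.iso P fun _ : Fin r => Coh.structureModule X) ≪≫ b₁ ≪≫
      eqToIso (by rw [Nat.mul_comm r]) ≪≫ b₂.symm
  let I : Y.IdealSheafData :=
    Scheme.IdealSheafData.vanishingIdeal ⟨(V : Set Y)ᶜ, V.2.isClosed_compl⟩
  have hU : (V : Set Y) = (I.support : Set Y)ᶜ := by
    rw [Scheme.IdealSheafData.coe_support_vanishingIdeal]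
    exact (compl_compl _).symm
  obtain ⟨n, ψ, hψ⟩ := CohOps.Deligne.exists_hom_extension hU hT.1 hPG φ.hom
  obtain ⟨e, -⟩ := S9523.result f G₀ hG₀.1 (I ^ (n + 1))
  refine ⟨(Dual3.idealMul ((I ^ (n + 1)).comap f)).obj G₀, e.inv ≫ ψ,
    CohDev.isCoh_idealMul _ hG₀, V, hV, ?_⟩
  haveI := CohOps.Deligne.isIso_restrict_idealMulι hU n (P.obj G₀)
  haveI : IsIso (R.map ψ) := by rw [hψ]; infer_instance
  rw [Functor.map_comp]
  infer_instance

end Groth.Agent.S11389
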