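import Groth.Statements.S11393
import Groth.Agent.Hens.CoupleProper
import Groth.Agent.S4495

set_option autoImplicit false
universe u
open CategoryTheory CategoryTheory.Limits AlgebraicGeometry TopologicalSpace
open Variety

namespace Groth.Agent.S11393

section

open CategoryTheory CategoryTheory.Limits AlgebraicGeometry Opposite

theorem isNilpotent_of_not_isUnit {R : Type u} [CommRing R] [IsArtinianRing R]
    (hid : ∀ e : R, IsIdempotentElem e → e = 0 ∨ e = 1) {a : R} (ha : ¬ IsUnit a) :
    IsNilpotent a := by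
  obtain ⟨n, hn⟩ := monotone_stabilizes_iff_artinian.mpr (inferInstance : IsArtinian R R)
    { toFun := fun n => OrderDual.toDual (Ideal.span {a ^ n} : Submodule R R)
      monotone' := fun i j h => Ideal.span_singleton_le_span_singleton.mpr (pow_dvd_pow a h) }
  have h := hn (n + 1 + (n + 1)) (by omega)
  have h' := hn (n + 1) (by omega)
  have hmem : a ^ (n + 1) ∈ (Ideal.span {a ^ (n + 1 + (n + 1))} : Ideal R) := by
    have e : (Ideal.span {a ^ (n + 1 + (n + 1))} : Ideal R) = Ideal.span {a ^ (n + 1)} :=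
      OrderDual.toDual.injective (h.symm.trans h')
    rw [e]
    exact Ideal.mem_span_singleton_self _
  obtain ⟨b, hb⟩ := Ideal.mem_span_singleton.mp hmem
  rw [pow_add (a := a) (m := n + 1) (n := n + 1), mul_assoc] at hb
  have he : IsIdempotentElem (a ^ (n + 1) * b) := by
    show a ^ (n + 1) * b * (a ^ (n + 1) * b) = a ^ (n + 1) * b
    rw [mul_right_comm, ← hb]
  rcases hid _ he with h0 | h1
  · exact ⟨n + 1, by rw [hb, h0, mul_zero]⟩
  · exact absurd (isUnit_iff_exists_inv.mpr ⟨a ^ n * b, by rw [← mul_assoc, ← pow_succ']; exact h1⟩) ha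

theorem false_of_nilpotent_isUnit {R : Type u} [CommRing R] [Nontrivial R] {a : R}
    (h : IsNilpotent a) (hu : IsUnit a) : False := by
  obtain ⟨n, hn⟩ := h
  exact not_isUnit_zero (hn ▸ hu.pow n)

theorem exists_not_isUnit_sub {k : Type u} [Field k] [IsAlgClosed k] {R : Type u} [CommRing R]
    [Algebra k R] [Module.Finite k R] [Nontrivial R] (a : R) :
    ∃ c : k, ¬ IsUnit (a - algebraMap k R c) := by
  obtain ⟨m, hm⟩ := Ideal.exists_maximal R
  letI := Ideal.Quotient.field m
  have : Module.Finite k (R ⧸ m) :=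
    Module.Finite.of_surjective (Ideal.Quotient.mkₐ k m).toLinearMap Ideal.Quotient.mk_surjective
  have : Algebra.IsIntegral k (R ⧸ m) := Algebra.IsIntegral.of_finite k _
  obtain ⟨c, hc⟩ := (IsAlgClosed.algebraMap_bijective_of_isIntegral (k := k) (K := R ⧸ m)).2
    (Ideal.Quotient.mk m a)
  refine ⟨c, fun hu => hm.ne_top (Ideal.eq_top_of_isUnit_mem _ ?_ hu)⟩
  rw [← Ideal.Quotient.eq_zero_iff_mem, map_sub, sub_eq_zero, ← hc]
  rfl

theorem scheme_key {k : Type u} [Field k] {Y : Scheme.{u}} (f : Y ⟶ Spec (CommRingCat.of k))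
    [IsProper f] [ConnectedSpace Y] :
    Nontrivial Γ(Y, ⊤) ∧ (∀ a : Γ(Y, ⊤), ¬ IsUnit a → IsNilpotent a) ∧
      (IsAlgClosed k → ∀ a : Γ(Y, ⊤), ∃ c : k, ¬ IsUnit (Sub.sub (α := ↑Γ(Y, ⊤)) a (Coh.toGlobal f c))) := by
  letI : Algebra k Γ(Y, ⊤) := (Coh.toGlobal f).toAlgebra
  have : Module.Finite k Γ(Y, ⊤) :=
    RingHom.finite_algebraMap.mp (Hens.CoupleProper.finite_toGlobal f)
  have : IsArtinianRing Γ(Y, ⊤) := IsArtinianRing.of_finite k _
  have : Nontrivial Γ(Y, ⊤) := by
    obtain ⟨y⟩ : Nonempty Y := ConnectedSpace.toNonempty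
    exact (Y.presheaf.germ ⊤ y trivial).hom.domain_nontrivial
  exact ⟨this, fun a ha => isNilpotent_of_not_isUnit (R := Γ(Y, ⊤))
    ((S4495.result Y.toLocallyRingedSpace).mp
      (show PreconnectedSpace Y from ‹ConnectedSpace Y›.toPreconnectedSpace)) ha,
    fun _ a => exists_not_isUnit_sub a⟩

variable (k : Type u) [Field k] (F : ℕᵒᵖ ⥤ CommRingCat.{u})

theorem limit_key [IsAlgClosed k] (cst : ∀ m, k →+* (F.obj (op m) : Type u))
    (hcst : ∀ m c, F.map (homOfLE (Nat.le_add_right m 1)).op (cst (m + 1) c) = cst m c)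
    [∀ m : ℕ, Nontrivial (F.obj (op m) : Type u)]
    (hnil : ∀ (m : ℕ) (a : F.obj (op m)), ¬ IsUnit a → IsNilpotent a)
    (hres : ∀ a : F.obj (op 0), ∃ c : k, ¬ IsUnit (a - cst 0 c)) :
    IsLocalRing ↑(limit F) ∧
      ∀ a : ↑(limit F), ∃ c : k, ∀ m : ℕ,
        IsNilpotent ((limit.π F (op m)).hom a - cst m c) := by
  have hstep : ∀ (m : ℕ) (z : F.obj (op (m + 1))),
      IsUnit (F.map (homOfLE (Nat.le_add_right m 1)).op z) → IsUnit z := fun m z hz => by
    by_contra h
    exact false_of_nilpotent_isUnit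
      ((hnil _ z h).map (F.map (homOfLE (Nat.le_add_right m 1)).op).hom) hz
  have hnat : ∀ (m : ℕ) (a : ↑(limit F)),
      F.map (homOfLE (Nat.le_add_right m 1)).op ((limit.π F (op (m + 1))).hom a) =
        (limit.π F (op m)).hom a := fun m a =>
    ConcreteCategory.congr_hom (limit.w F (homOfLE (Nat.le_add_right m 1)).op) a
  have hiff : ∀ (a : ↑(limit F)) (c : k) (m : ℕ),
      IsUnit ((limit.π F (op m)).hom a - cst m c) ↔ IsUnit ((limit.π F (op 0)).hom a - cst 0 c) := by
    intro a c m
    induction m with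
    | zero => rfl
    | succ m ih =>
      have e : F.map (homOfLE (Nat.le_add_right m 1)).op
          ((limit.π F (op (m + 1))).hom a - cst (m + 1) c) =
          (limit.π F (op m)).hom a - cst m c := by rw [map_sub, hnat, hcst]
      refine ⟨fun h => ih.mp ?_, fun h => hstep m _ ?_⟩
      · rw [← e]; exact h.map _
      · rw [e]; exact ih.mpr h
  have hu : ∀ a : ↑(limit F), IsUnit ((limit.π F (op 0)).hom a) → IsUnit a := by
    intro a ha
    have hm : ∀ m : ℕ, IsUnit ((limit.π F (op m)).hom a) := fun m => by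
      have := hiff a 0 m
      simp only [map_zero, sub_zero] at this
      exact this.mpr ha
    choose b hb using fun m => (hm m).exists_right_inv
    let hl := isLimitOfPreserves (forget CommRingCat.{u}) (limit.isLimit F)
    have hsec : (fun j : ℕᵒᵖ => (b j.unop : (F.obj j : Type u))) ∈ (F ⋙ forget CommRingCat.{u}).sections := by
      intro i j f
      have h1 : (limit.π F j).hom a * F.map f (b i.unop) = 1 := by
        have := congrArg (F.map f) (hb i.unop)
        rw [map_mul, map_one] at this
        rw [← this]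
        exact congrArg (· * _) (ConcreteCategory.congr_hom (limit.w F f) a).symm
      exact (hm j.unop).mul_left_cancel (h1.trans (hb j.unop).symm)
    refine isUnit_iff_exists_inv.mpr ⟨(Types.isLimitEquivSections hl).symm ⟨_, hsec⟩, ?_⟩
    refine Concrete.limit_ext F _ _ fun j => ?_
    refine (map_mul (limit.π F j).hom _ _).trans ?_
    refine Eq.trans ?_ (map_one (limit.π F j).hom).symm
    have h2 : (limit.π F j).hom ((Types.isLimitEquivSections hl).symm ⟨_, hsec⟩) = b j.unop :=
      Types.isLimitEquivSections_symm_apply hl ⟨_, hsec⟩ j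
    rw [h2]
    exact hb j.unop
  constructor
  · have : Nontrivial ↑(limit F) := (limit.π F (op 0)).hom.domain_nontrivial
    refine IsLocalRing.of_nonunits_add fun a b ha hb h => ?_
    have hn : ∀ x ∈ nonunits ↑(limit F), IsNilpotent ((limit.π F (op 0)).hom x) :=
      fun x hx => hnil 0 _ fun h' => hx (hu x h')
    have hs := Commute.isNilpotent_add (Commute.all _ _) (hn a ha) (hn b hb)
    rw [← map_add] at hs
    exact false_of_nilpotent_isUnit hs (h.map (limit.π F (op 0)).hom)
  · intro a
    obtain ⟨c, hc⟩ := hres ((limit.π F (op 0)).hom a)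
    exact ⟨c, fun m => hnil m _ fun h => hc ((hiff a c m).mp h)⟩

end


/-- Let X be proper over an algebraically closed field k and 𝓘 a quasi-coherent ideal whose closed
subscheme Y is connected (and nonempty); let Y_m be the closed subscheme of 𝓘^{m+1} and A = lim_m
Γ(Y_m, O_{Y_m}) the ring of formal-regular functions along Y (global sections of the structure sheaf
of the formal completion), formed as the limit in commutative rings along the restriction maps
Γ(Y_{m+1}, O) → Γ(Y_m, O). Then A is a local ring, and every element a of A differs from the image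
of some constant c ∈ k by an element whose image in each Γ(Y_m, O_{Y_m}) is nilpotent (so the
residue field of A is k through the structure map). (The published statement also asserts that A is
a complete local ring; that clause is not included here.) -/
theorem result (k : Type u) [Field k] [IsAlgClosed k] (X : Scheme.{u})
    [X.Over (Spec (CommRingCat.of k))] [IsProper (X ↘ (Spec (CommRingCat.of k)))]
    (𝓘 : X.IdealSheafData) (hY : _root_.IsConnected (𝓘.support : Set X)) :
    IsLocalRing ↑(limit (Functor.ofOpSequence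
        (X := fun m : ℕ => Γ((𝓘 ^ (m + 1)).subscheme, ⊤))
        (fun m : ℕ => (Scheme.IdealSheafData.inclusion (Lef.pow_succ_le 𝓘 m)).appTop))) ∧
      ∀ a : ↑(limit (Functor.ofOpSequence
        (X := fun m : ℕ => Γ((𝓘 ^ (m + 1)).subscheme, ⊤))
        (fun m : ℕ => (Scheme.IdealSheafData.inclusion (Lef.pow_succ_le 𝓘 m)).appTop))),
        ∃ c : k, ∀ m : ℕ, IsNilpotent (Sub.sub (α := ↑Γ((𝓘 ^ (m + 1)).subscheme, ⊤))
          ((limit.π (Functor.ofOpSequence
              (X := fun m : ℕ => Γ((𝓘 ^ (m + 1)).subscheme, ⊤))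
              (fun m : ℕ => (Scheme.IdealSheafData.inclusion (Lef.pow_succ_le 𝓘 m)).appTop)) (Opposite.op m)).hom a)
          (((𝓘 ^ (m + 1)).subschemeι ≫ (X ↘ Spec (CommRingCat.of k))).appTop.hom
            ((Scheme.ΓSpecIso (CommRingCat.of k)).inv.hom c))) := by
  let p : ∀ m : ℕ, (𝓘 ^ (m + 1)).subscheme ⟶ Spec (CommRingCat.of k) := fun m =>
    (𝓘 ^ (m + 1)).subschemeι ≫ (X ↘ Spec (CommRingCat.of k))
  have hne : ∀ m : ℕ, ConnectedSpace ((𝓘 ^ (m + 1)).subscheme) := fun m => by
    have h : _root_.IsConnected (Set.range (𝓘 ^ (m + 1)).subschemeι.base) := by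
      rw [Scheme.IdealSheafData.range_subschemeι, Scheme.IdealSheafData.support_pow_succ]
      exact hY
    exact connectedSpace_iff_univ.mpr
      ((𝓘 ^ (m + 1)).subschemeι.isClosedEmbedding.isInducing.isPreconnected_image.mp
        (by rw [Set.image_univ]; exact h.isPreconnected) |> fun h' =>
          ⟨by obtain ⟨_, y, rfl⟩ := h.nonempty; exact ⟨y, trivial⟩, h'⟩)
  have hk := fun m => @scheme_key k _ _ (p m) inferInstance (hne m)
  let F := Functor.ofOpSequence (X := fun m : ℕ => Γ((𝓘 ^ (m + 1)).subscheme, ⊤))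
    (fun m : ℕ => (Scheme.IdealSheafData.inclusion (Lef.pow_succ_le 𝓘 m)).appTop)
  refine @limit_key k _ F _ (fun m => Coh.toGlobal (p m)) ?_ (fun m => (hk m).1) ?_ ?_
  · intro m c
    simp only [F]
    rw [Functor.ofOpSequence_map_homOfLE_succ]
    refine (ConcreteCategory.comp_apply (p (m + 1)).appTop
      (Scheme.IdealSheafData.inclusion (Lef.pow_succ_le 𝓘 m)).appTop _).symm.trans ?_
    rw [← Scheme.Hom.comp_appTop, ← Category.assoc, Scheme.IdealSheafData.inclusion_subschemeι]
    rfl
  · exact fun m a ha => (hk m).2.1 a ha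
  · exact fun a => (hk 0).2.2 ‹_› a

end Groth.Agent.S11393
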