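import Groth.Statements.S11395
import Groth.Agent.GrpdLib.AntiAffineRigid
import Mathlib.AlgebraicGeometry.AlgClosed.Basic

set_option autoImplicit false
universe u
open CategoryTheory MonoidalCategory CartesianMonoidalCategory MonObj GrpObj AlgebraicGeometry CategoryTheory.Limits
open AlgGrp

namespace Groth.Agent.S11395

/-- Over an algebraically closed field k, let X, Y and Z be k-schemes of finite type such that the only
global functions on X are the constants, Y is connected and Z is separated over k. Let f : X × Y → Z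
be a k-morphism and y₀, z₀ rational points of Y, Z such that the restriction of f to X × y₀ is the
constant morphism with value z₀ (as a morphism of schemes; for reduced X this is the condition on
closed points). Then there is a unique morphism g : Y → Z with f = g ∘ pr₂. -/
theorem result (k : Type u) [Field k] [IsAlgClosed k]
    (X Y Z : Over (Spec (CommRingCat.of k))) [LocallyOfFiniteType X.hom] [QuasiCompact X.hom]
    [LocallyOfFiniteType Y.hom] [QuasiCompact Y.hom] [LocallyOfFiniteType Z.hom] [QuasiCompact Z.hom]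
    (hX : Function.Bijective ((Scheme.ΓSpecIso (CommRingCat.of k)).inv ≫ X.hom.appTop).hom)
    [ConnectedSpace ↥Y.left] [IsSeparated Z.hom]
    (f : X ⊗ Y ⟶ Z) (y₀ : 𝟙_ (Over (Spec (CommRingCat.of k))) ⟶ Y) (z₀ : 𝟙_ (Over (Spec (CommRingCat.of k))) ⟶ Z)
    (hf : (X ◁ y₀) ≫ f = toUnit _ ≫ z₀) :
    ∃! g : Y ⟶ Z, f = snd X Y ≫ g := by
  have := GrpdLib.AntiAffineRigid.isIso_appTop hX
  have := GrpdLib.AntiAffineRigid.nonempty_of_antiAffine hX
  have : CompactSpace X.left := (quasiCompact_iff_compactSpace X.hom).1 inferInstance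
  have : CompactSpace Y.left := (quasiCompact_iff_compactSpace Y.hom).1 inferInstance
  have : IsLocallyNoetherian X.left := LocallyOfFiniteType.isLocallyNoetherian X.hom
  have : IsLocallyNoetherian Y.left := LocallyOfFiniteType.isLocallyNoetherian Y.hom
  have : QuasiSeparated X.hom := inferInstance
  obtain ⟨p, hp⟩ : (closedPoints X.left).Nonempty := by
    obtain ⟨p, -, hp⟩ := (isClosed_univ (X := X.left)).exists_closed_singleton Set.univ_nonempty
    exact ⟨p, hp⟩
  let q := (pointEquivClosedPoint X.hom).symm ⟨p, hp⟩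
  let x₀ : 𝟙_ (Over (Spec (CommRingCat.of k))) ⟶ X := Over.homMk q.1 q.2
  have h1 : lift (toUnit _ ≫ x₀) (𝟙 (𝟙_ _)) ≫ (X ◁ y₀) = y₀ ≫ lift (toUnit Y ≫ x₀) (𝟙 Y) := by
    rw [lift_whiskerLeft, comp_lift, Category.comp_id, Category.id_comp, comp_toUnit_assoc]
  have h2 : y₀ ≫ lift (toUnit Y ≫ x₀) (𝟙 Y) ≫ f = z₀ := by
    rw [← Category.assoc, ← h1, Category.assoc, hf, ← Category.assoc, comp_toUnit,
      toUnit_unique (toUnit (𝟙_ _)) (𝟙 _), Category.id_comp]
  have h : GrpdLib.AntiAffineRigid.Agree f (GrpdLib.AntiAffineRigid.cst x₀ f)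
      (GrpdLib.AntiAffineRigid.unitPt ≫ y₀) := by
    refine GrpdLib.AntiAffineRigid.Agree.precomp ?_ _
    rw [GrpdLib.AntiAffineRigid.Agree, hf, GrpdLib.AntiAffineRigid.cst, whiskerLeft_snd_assoc, h2,
      toUnit_unique (snd X (𝟙_ _)) (toUnit _)]
  refine ⟨lift (toUnit Y ≫ x₀) (𝟙 Y) ≫ f, GrpdLib.AntiAffineRigid.eq_cst _ h, fun g hg => ?_⟩
  rw [hg, lift_snd_assoc, Category.id_comp]

end Groth.Agent.S11395
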