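import Groth.Statements.S11398
import Groth.Agent.GrpdLib.LargestSub.Main

set_option autoImplicit false
set_option backward.isDefEq.respectTransparency.types false
universe u
open CategoryTheory MonoidalCategory CartesianMonoidalCategory MonObj GrpObj AlgebraicGeometry CategoryTheory.Limits
open AlgGrp

namespace Groth.Agent.S11398

/-- Over an algebraically closed field k, every algebraic group G (a smooth k-group scheme of finite
type) has a largest connected affine normal algebraic subgroup G_aff: a homomorphism and closed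
immersion i : N → G from a smooth, connected, affine k-group scheme, normal in G, through which
every other such subgroup factors. Moreover the quotient G/G_aff has trivial G_aff: for every flat
surjective homomorphism q : G → Q of k-group schemes of finite type with kernel i, every smooth
connected affine normal closed subgroup of Q is the trivial group. -/
theorem result (k : Type u) [Field k] [IsAlgClosed k]
    (G : Over (Spec (CommRingCat.of k))) [GrpObj G] [Smooth G.hom] [QuasiCompact G.hom] :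
    ∃ (N : Over (Spec (CommRingCat.of k))) (_ : GrpObj N) (i : N ⟶ G), (IsMonHom i ∧ IsClosedImmersion i.left ∧ Smooth N.hom ∧
      ConnectedSpace ↥N.left ∧ IsAffine N.left ∧ AlgGrp.IsNormalHom i) ∧
      (∀ (N' : Over (Spec (CommRingCat.of k))) [GrpObj N'] (i' : N' ⟶ G) [IsMonHom i'] [IsClosedImmersion i'.left]
        [Smooth N'.hom] [ConnectedSpace ↥N'.left] [IsAffine N'.left], AlgGrp.IsNormalHom i' → ∃ f : N' ⟶ N, f ≫ i = i') ∧
      (∀ (Q : Over (Spec (CommRingCat.of k))) [GrpObj Q] [LocallyOfFiniteType Q.hom] [QuasiCompact Q.hom] (q : G ⟶ Q) [IsMonHom q]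
        [Surjective q.left] [Flat q.left], AlgGrp.IsKernel i q →
        ∀ (N'' : Over (Spec (CommRingCat.of k))) [GrpObj N''] (i'' : N'' ⟶ Q) [IsMonHom i''] [IsClosedImmersion i''.left]
          [Smooth N''.hom] [ConnectedSpace ↥N''.left] [IsAffine N''.left], AlgGrp.IsNormalHom i'' → IsIso N''.hom) := by
  let P : ∀ (E : Over (Spec (CommRingCat.of k))) [GrpObj E], Prop := fun E _ => IsAffine E.left
  haveI : IsSeparated G.hom := Groth.Agent.GrpdLib.GrpOver.isSeparated_hom G
  haveI : IsClosedImmersion (η[G].left ≫ G.hom) := by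
    rw [Over.w η[G]]; exact inferInstanceAs (IsClosedImmersion (𝟙 (Spec (CommRingCat.of k))))
  haveI : IsClosedImmersion η[G].left := IsClosedImmersion.of_comp η[G].left G.hom
  have h0 : Groth.Agent.GrpdLib.LargestSub.Sub P G :=
    ⟨𝟙_ _, η[G],
      ⟨Category.id_comp _, by
        have h : ((1 : 𝟙_ (Over (Spec (CommRingCat.of k))) ⊗ 𝟙_ _ ⟶ G) * 1) = 1 := _root_.mul_one _
        calc μ[𝟙_ (Over (Spec (CommRingCat.of k)))] ≫ η[G] = (1 : _ ⟶ G) := by
              rw [Hom.one_def]; exact congrArg (· ≫ η[G]) (toUnit_unique _ _)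
          _ = _ := by
              rw [mul_eq_mul, MonObj.comp_mul, tensorHom_fst, tensorHom_snd, ← h, Hom.one_def,
                toUnit_unique (fst _ _) (toUnit _), toUnit_unique (snd _ _) (toUnit _)]⟩,
      inferInstance, inferInstanceAs (Smooth (𝟙 (Spec (CommRingCat.of k)))),
      inferInstanceAs (ConnectedSpace (PrimeSpectrum k)),
      fun T g n => ⟨n, by
        rw [show n ≫ η[G] = (1 : T ⟶ G) by rw [Hom.one_def, toUnit_unique n (toUnit _)], _root_.mul_one, mul_inv_cancel]⟩,
      inferInstanceAs (IsAffine (Spec (CommRingCat.of k)))⟩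
  have hPa := fun (N E Q : Over (Spec (CommRingCat.of k))) [GrpObj N] [GrpObj E] [GrpObj Q]
      [LocallyOfFiniteType N.hom] [QuasiCompact N.hom] [LocallyOfFiniteType E.hom] [QuasiCompact E.hom]
      [LocallyOfFiniteType Q.hom] [QuasiCompact Q.hom] (i : N ⟶ E) (q : E ⟶ Q) [IsMonHom i] [IsMonHom q]
      [Flat q.left] [Surjective q.left] (h : AlgGrp.IsKernel i q) (hN : P N) (hQ : P Q) =>
    (show P E from (Groth.Agent.S7982.result k N E Q i q h).1 hN hQ)
  have hPb := fun (E Q : Over (Spec (CommRingCat.of k))) [GrpObj E] [GrpObj Q]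
      [LocallyOfFiniteType E.hom] [QuasiCompact E.hom] [LocallyOfFiniteType Q.hom] [QuasiCompact Q.hom]
      (q : E ⟶ Q) [IsMonHom q] [Flat q.left] [Surjective q.left] (hE : P E) =>
    (show P Q from (Groth.Agent.S7983.result k E Q q).1 hE)
  obtain ⟨H, hH⟩ := Groth.Agent.GrpdLib.LargestSub.exists_largest P hPa hPb (G := G) ⟨h0⟩
  refine ⟨H.E, H.grp, H.j, ⟨H.hom, H.closed, H.smooth, H.conn, H.prop, H.normal⟩,
    fun N' _ i' _ _ _ _ _ hn => hH ⟨N', i', ‹_›, ‹_›, ‹_›, ‹_›, hn, ‹_›⟩,
    fun Q _ _ _ q _ _ _ hq N'' _ i'' _ _ _ _ _ hn => ?_⟩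
  haveI := Groth.Agent.GrpdLib.LargestSub.quotient_trivial P hPa hPb H hH q hq ⟨N'', i'', ‹_›, ‹_›, ‹_›, ‹_›, hn, ‹_›⟩
  haveI : IsIso η[N''].left := Groth.Agent.GrpScheme.Basic.isIso_left _
  haveI : IsIso (η[N''].left ≫ N''.hom) := by
    rw [Over.w η[N'']]; exact inferInstanceAs (IsIso (𝟙 (Spec (CommRingCat.of k))))
  exact IsIso.of_isIso_comp_left η[N''].left N''.hom

end Groth.Agent.S11398
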