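import Groth.Statements.S11402
import Groth.Agent.GrpScheme.AffineToProper
import Groth.Agent.AbVarLib.Basics
import Groth.Agent.FBase.BC
import Groth.Agent.S11994

set_option autoImplicit false
set_option backward.isDefEq.respectTransparency.types false
universe u
open CategoryTheory MonoidalCategory CartesianMonoidalCategory MonObj GrpObj AlgebraicGeometry CategoryTheory.Limits
open AlgGrp

namespace Groth.Agent.S11402

/-- Over an algebraically closed field k, let G be a connected algebraic group (smooth k-group scheme of
finite type), let i : N → G be its largest connected affine normal algebraic subgroup G_aff (a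
homomorphism and closed immersion from a smooth, connected, affine k-group scheme, normal in G,
through which every other such subgroup factors), and let α : G → A be a flat surjective
homomorphism with kernel i onto a proper smooth k-group scheme A (so A = G/G_aff is an abelian
variety). Then α is the Albanese morphism of G: every k-morphism (not necessarily a homomorphism)
from G to an abelian variety B (a proper, smooth, connected k-group scheme) factors uniquely through
α. -/
theorem result (k : Type u) [Field k] [IsAlgClosed k]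
    (G : Over (Spec (CommRingCat.of k))) [GrpObj G] [Smooth G.hom] [QuasiCompact G.hom] [ConnectedSpace ↥G.left]
    (N : Over (Spec (CommRingCat.of k))) [GrpObj N] (i : N ⟶ G) [IsMonHom i] [IsClosedImmersion i.left]
    [Smooth N.hom] [ConnectedSpace ↥N.left] [IsAffine N.left] (hN : AlgGrp.IsNormalHom i)
    (hNmax : ∀ (N' : Over (Spec (CommRingCat.of k))) [GrpObj N'] (i' : N' ⟶ G) [IsMonHom i'] [IsClosedImmersion i'.left]
      [Smooth N'.hom] [ConnectedSpace ↥N'.left] [IsAffine N'.left], AlgGrp.IsNormalHom i' → ∃ f : N' ⟶ N, f ≫ i = i')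
    (A : Over (Spec (CommRingCat.of k))) [GrpObj A] [IsProper A.hom] [Smooth A.hom] (α : G ⟶ A) [IsMonHom α]
    [Surjective α.left] [Flat α.left] (hker : AlgGrp.IsKernel i α)
    (B : Over (Spec (CommRingCat.of k))) [GrpObj B] [IsProper B.hom] [Smooth B.hom] [ConnectedSpace ↥B.left] (f : G ⟶ B) :
    ∃! g : A ⟶ B, α ≫ g = f := by
  haveI : GeometricallyConnected G.hom := FBase.BC.geometricallyConnected_of_isSepClosed G.hom
  haveI : GeometricallyConnected B.hom := FBase.BC.geometricallyConnected_of_isSepClosed B.hom
  haveI := AbVarLib.Basics.geometricallyIntegral G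
  haveI := AbVarLib.Basics.geometricallyIntegral B
  haveI : IsSeparated G.hom := GrpdLib.GrpOver.isSeparated_hom G
  haveI : QuasiCompact α.left := GrpdLib.GrpOver.quasiCompact_left α
  have hepi : Epi α := (show UnipLib.Cover α from ⟨inferInstance, inferInstance, inferInstance⟩).epi
  let c : 𝟙_ (Over (Spec (CommRingCat.of k))) ⟶ B := η[G] ≫ f
  let f' : G ⟶ B := f * (toUnit G ≫ c)⁻¹
  have h1 : η[G] ≫ f' = η[B] := by
    simp only [f']
    rw [MonObj.comp_mul, GrpObj.comp_inv, ← Category.assoc η[G], toUnit_unique (η[G] ≫ toUnit G) (𝟙 _),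
      Category.id_comp]
    show c * c⁻¹ = _
    rw [mul_inv_cancel, Hom.one_def, toUnit_unique (toUnit (𝟙_ (Over (Spec (CommRingCat.of k))))) (𝟙 _), Category.id_comp]
  haveI : IsMonHom f' := S11994.result k G B f' h1
  have hi : i ≫ f' = 1 := GrpScheme.AffineToProper.eq_one (i ≫ f')
  obtain ⟨g', hg'⟩ := UnipLib.Cover.exists_desc (q := α) ⟨inferInstance, inferInstance, inferInstance⟩ f' fun {T} u v huv => by
    obtain ⟨n, hn⟩ := GrpdLib.GrpOver.kernel_factor hker (u⁻¹ * v) (by
      rw [MonObj.mul_comp, GrpObj.inv_comp, huv, inv_mul_cancel])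
    have e : (u⁻¹ * v) ≫ f' = 1 := by rw [← hn, Category.assoc, hi, MonObj.comp_one]
    rwa [MonObj.mul_comp, GrpObj.inv_comp, inv_mul_eq_one] at e
  refine ⟨g' * (toUnit A ≫ c), ?_, fun g hg => ?_⟩
  · show α ≫ (g' * (toUnit A ≫ c)) = f
    rw [MonObj.comp_mul, hg', ← Category.assoc, toUnit_unique (α ≫ toUnit A) (toUnit G)]
    exact inv_mul_cancel_right _ _
  · rw [← cancel_epi α, hg, MonObj.comp_mul, hg', ← Category.assoc, toUnit_unique (α ≫ toUnit A) (toUnit G)]
    exact (inv_mul_cancel_right _ _).symm

end Groth.Agent.S11402
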