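import Groth.Statements.S11404
import Groth.Agent.GITLib.RigidGroup
import Groth.Agent.GITLib.GoodQuot
import Groth.Agent.AbVarLib.Pointed
import Groth.Agent.AbVarLib.Basics
import Groth.Agent.AbVarLib.Rigidity
import Groth.Agent.FBase.BC

set_option autoImplicit false
universe u
open CategoryTheory MonoidalCategory CartesianMonoidalCategory MonObj GrpObj AlgebraicGeometry CategoryTheory.Limits
open AlgGrp

namespace Groth.Agent.S11404

set_option backward.isDefEq.respectTransparency false

/-- Over an algebraically closed field k, let A be an abelian variety (a proper, smooth, connected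
k-group scheme) and S a connected k-scheme of finite type. For every automorphism f of A × S over S
there are a unique k-morphism g : S → A and a unique group automorphism h of A with f(a, s) = (g(s)
· h(a), s) on points. (This is the functor-of-points form, over a connected base, of the
identification of the automorphism group scheme of A with the semidirect product of A, acting by
translations, and the constant group of group automorphisms; in particular the neutral component is
A.) -/
theorem result (k : Type u) [Field k] [IsAlgClosed k]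
    (A S : Over (Spec (CommRingCat.of k))) [GrpObj A] [IsProper A.hom] [Smooth A.hom] [ConnectedSpace ↥A.left]
    [LocallyOfFiniteType S.hom] [QuasiCompact S.hom] [ConnectedSpace ↥S.left]
    (f : A ⊗ S ≅ A ⊗ S) (hf : f.hom ≫ snd A S = snd A S) :
    ∃ (g : S ⟶ A) (h : A ⟶ A), IsMonHom h ∧ IsIso h ∧
      f.hom ≫ fst A S = (snd A S ≫ g) * (fst A S ≫ h) ∧
      ∀ (g' : S ⟶ A) (h' : A ⟶ A), IsMonHom h' →
        f.hom ≫ fst A S = (snd A S ≫ g') * (fst A S ≫ h') → g' = g ∧ h' = h := by
  have : GeometricallyConnected A.hom := FBase.BC.geometricallyConnected_of_isSepClosed A.hom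
  have := AbVarLib.Basics.geometricallyIntegral A
  have : IsCommMonObj A := isCommMonObj_of_isProper_of_geometricallyIntegral A
  have : IsLocallyNoetherian S.left := LocallyOfFiniteType.isLocallyNoetherian S.hom
  have : IsSeparated A.hom := inferInstance
  have h0 : GITLib.Rigid.ConstFibres A.hom := fun s => by
    have : IsProper (pullback.snd A.hom ((Spec (CommRingCat.of k)).fromSpecResidueField s)) :=
      MorphismProperty.pullback_snd (P := @IsProper) _ _ inferInstance
    have := AbVarLib.Rigidity.isIso_appTop (pullback.snd A.hom ((Spec (CommRingCat.of k)).fromSpecResidueField s))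
    exact ConcreteCategory.bijective_of_isIso _
  have : CompactSpace S.left := QuasiCompact.compactSpace_of_compactSpace S.hom
  obtain ⟨s₀, -, hs₀⟩ := (isClosed_univ (X := S.left)).exists_closed_singleton Set.univ_nonempty
  obtain ⟨e, -⟩ := GITLib.exists_point hs₀
  have key : ∀ F : A ⊗ S ⟶ A ⊗ S, ∃ (g : S ⟶ A) (h : A ⟶ A), IsMonHom h ∧
      F ≫ fst A S = (snd A S ≫ g) * (fst A S ≫ h) ∧
      ∀ (g' : S ⟶ A) (h' : A ⟶ A), IsMonHom h' →
        F ≫ fst A S = (snd A S ≫ g') * (fst A S ≫ h') → g' = g ∧ h' = h := by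
    intro F
    obtain ⟨a, b, hab⟩ := GITLib.Rigid.hom_from_product h0 e (F ≫ fst A S)
    let h : A ⟶ A := a * (toUnit A ≫ η[A] ≫ a)⁻¹
    have hh : IsMonHom h := AbVarLib.Pointed.isMonHom_mul_inv a
    let g : S ⟶ A := (toUnit S ≫ η[A] ≫ a) * b
    have hc : fst A S ≫ toUnit A ≫ η[A] ≫ a = snd A S ≫ toUnit S ≫ η[A] ≫ a := by
      rw [← Category.assoc (fst A S), ← Category.assoc (snd A S),
        toUnit_unique (fst A S ≫ toUnit A) (snd A S ≫ toUnit S)]
    have hdec : F ≫ fst A S = (snd A S ≫ g) * (fst A S ≫ h) := by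
      rw [hab]
      simp only [g, h, MonObj.comp_mul, GrpObj.comp_inv, hc]
      generalize fst A S ≫ a = x, snd A S ≫ b = y, snd A S ≫ toUnit S ≫ η[A] ≫ a = z
      rw [mul_comm x z⁻¹, _root_.mul_assoc z, ← _root_.mul_assoc y, mul_comm y z⁻¹, _root_.mul_assoc z⁻¹,
        mul_inv_cancel_left, mul_comm x y]
    refine ⟨g, h, hh, hdec, fun g' h' hh' hd => ?_⟩
    have hr : ∀ (g : S ⟶ A) (h : A ⟶ A), IsMonHom h →
        lift (toUnit S ≫ η[A]) (𝟙 S) ≫ ((snd A S ≫ g) * (fst A S ≫ h)) = g := fun g h hh => by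
      rw [MonObj.comp_mul, lift_snd_assoc, Category.id_comp, lift_fst_assoc, Category.assoc,
        IsMonHom.one_hom, ← Hom.one_def, _root_.mul_one]
    have hg : g' = g := by rw [← hr g' h' hh', ← hd, hdec, hr g h hh]
    subst hg
    refine ⟨rfl, ?_⟩
    have h2 := congrArg (lift (𝟙 A) (toUnit A ≫ e) ≫ ·) (mul_left_cancel (hd.symm.trans hdec))
    simpa only [lift_fst_assoc, Category.id_comp] using h2
  obtain ⟨g, h, hh, hf1, huniq⟩ := key f.hom
  obtain ⟨g₂, h₂, hh₂, hf2, -⟩ := key f.inv
  have hf' : f.inv ≫ snd A S = snd A S := by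
    rw [Iso.inv_comp_eq, hf]
  -- composites
  have comp : ∀ (F F' : A ⊗ S ⟶ A ⊗ S) (g g' : S ⟶ A) (h h' : A ⟶ A), IsMonHom h → IsMonHom h' →
      F ≫ snd A S = snd A S → F ≫ fst A S = (snd A S ≫ g) * (fst A S ≫ h) →
      F' ≫ fst A S = (snd A S ≫ g') * (fst A S ≫ h') → F ≫ F' = 𝟙 _ → h ≫ h' = 𝟙 A := by
    intro F F' g g' h h' hh hh' hs hF hF' hFF
    obtain ⟨_, _, _, -, hu⟩ := key (𝟙 (A ⊗ S))
    have h1 : 𝟙 (A ⊗ S) ≫ fst A S = (snd A S ≫ (g' * (g ≫ h'))) * (fst A S ≫ (h ≫ h')) := by
      rw [← hFF, Category.assoc, hF', MonObj.comp_mul, ← Category.assoc, hs, ← Category.assoc, hF,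
        MonObj.mul_comp, MonObj.comp_mul, Category.assoc, Category.assoc, _root_.mul_assoc]
    have h2 : 𝟙 (A ⊗ S) ≫ fst A S = (snd A S ≫ (1 : S ⟶ A)) * (fst A S ≫ 𝟙 A) := by
      rw [MonObj.comp_one, _root_.one_mul, Category.id_comp, Category.comp_id]
    exact (hu _ _ inferInstance h1).2.trans (hu _ _ inferInstance h2).2.symm
  refine ⟨g, h, hh, ⟨h₂, comp f.hom f.inv g g₂ h h₂ hh hh₂ hf hf1 hf2 f.hom_inv_id, ?_⟩, hf1, huniq⟩
  exact comp f.inv f.hom g₂ g h₂ h hh₂ hh hf' hf2 hf1 f.inv_hom_id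

end Groth.Agent.S11404
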