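import Groth.Statements.S18096
import Groth.Agent.GrpScheme.RegularRep
-- import your own Groth.Agent.* helpers here

set_option autoImplicit false
universe u
open CategoryTheory MonoidalCategory CartesianMonoidalCategory MonObj GrpObj AlgebraicGeometry CategoryTheory.Limits
open AlgGrp

namespace Groth.Agent.S18096

/-- Let k be a field and G a k-group scheme of finite type. Then G is anti-affine, i.e. O(G) = k, if and
only if every finite-dimensional linear representation of G is trivial, i.e. for every n every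
homomorphism G → GL_{n,k} is trivial. -/
theorem result (k : Type u) [Field k]
    (G : Over (Spec (CommRingCat.of k))) [GrpObj G] [LocallyOfFiniteType G.hom] [QuasiCompact G.hom] :
    Function.Bijective ((Scheme.ΓSpecIso (CommRingCat.of k)).inv ≫ G.hom.appTop).hom ↔
      ∀ (n : ℕ) (ρ : G ⟶ FrB.GLn n (Spec (CommRingCat.of k))), IsMonHom ρ → ρ = 1 := by
  have : CompactSpace G.left := QuasiCompact.compactSpace_of_compactSpace G.hom
  have : IsLocallyNoetherian G.left := LocallyOfFiniteType.isLocallyNoetherian G.hom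
  have : QuasiSeparated G.hom := (quasiSeparated_iff_quasiSeparatedSpace G.hom).2 inferInstance
  rw [GrpScheme.AntiAffine.bijective_iff_isIso G]
  let e : Γ(G.left, ⊤) ⟶ Γ((𝟙_ (Over (Spec (CommRingCat.of k)))).left, ⊤) := η[G].left.appTop
  have hret : G.hom.appTop ≫ e = 𝟙 _ := by
    rw [← Scheme.Hom.comp_appTop, Over.w η[G]]
    exact Scheme.Hom.id_appTop
  have heta : ∀ {n : ℕ} (ρ : G ⟶ FrB.GLn n (Spec (CommRingCat.of k))), IsMonHom ρ →
      (GrpScheme.GLnPts.mat ρ).map e = 1 := fun ρ h => by
    show (GrpScheme.GLnPts.mat ρ).map η[G].left.appTop = 1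
    rw [← GrpScheme.GLnPts.mat_comp, h.one_hom, MonObj.one_eq_one, GrpScheme.GLnPts.mat_one]
  constructor
  · intro hiso n ρ hρ
    have hinj : Function.Injective e := by
      have : IsIso e := by
        rw [show e = inv G.hom.appTop from IsIso.eq_inv_of_hom_inv_id hret]
        infer_instance
      exact (ConcreteCategory.bijective_of_isIso e).1
    refine GrpScheme.GLnPts.mat_injective ?_
    rw [GrpScheme.GLnPts.mat_one]
    refine Matrix.map_injective hinj ?_
    dsimp only
    rw [heta ρ hρ, Matrix.map_one _ (map_zero e.hom) (map_one e.hom)]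
  intro htriv
  let _ : Algebra k Γ(G.left, ⊤) := SekLib.secAlgebra G
  let _ : Algebra k Γ((G ⊗ G).left, ⊤) := SekLib.secAlgebra (G ⊗ G)
  have : IsSplitMono G.hom.appTop := IsSplitMono.mk' ⟨e, hret⟩
  have : IsSplitEpi G.hom.appTop := IsSplitEpi.mk' ⟨e, ?_⟩
  · exact isIso_of_mono_of_isSplitEpi G.hom.appTop
  refine CommRingCat.hom_ext (RingHom.ext fun f => ?_)
  obtain ⟨n, a, M, c, hM, hf, hli⟩ := GrpScheme.RegularRep.exists_matrix G f
  have key : ∀ {T : Over (Spec (CommRingCat.of k))} (g h : T ⟶ G) (m : Fin n),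
      (g * h).left.appTop (a m) = ∑ l, g.left.appTop (a l) * h.left.appTop (M l m) := by
    intro T g h m
    have := congrArg (GrpScheme.RegularRep.pull (lift g h)) (hM m)
    simp only [map_sum, map_mul, GrpScheme.RegularRep.pull_pull, lift_fst, lift_snd, ← Hom.mul_def] at this
    exact this
  have hY : ∀ (Y : Over (Spec (CommRingCat.of k))) [CompactSpace Y.left] [QuasiSeparated Y.hom]
      (x x' : Fin n → Γ(Y.left, ⊤)),
      (∑ l, (fst G Y).left.appTop (a l) * (snd G Y).left.appTop (x l) =
        ∑ l, (fst G Y).left.appTop (a l) * (snd G Y).left.appTop (x' l)) → x = x' := by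
    intro Y _ _ x x' h
    let _ : Algebra k Γ(Y.left, ⊤) := SekLib.secAlgebra Y
    let _ : Algebra k Γ((G ⊗ Y).left, ⊤) := SekLib.secAlgebra (G ⊗ Y)
    refine GrpScheme.RegularRep.coeff_eq_of_linearIndependent hli
      ((GrpScheme.RegularRep.bijective_prodMap G Y).1 ?_)
    simp only [map_sum, GrpScheme.RegularRep.prodMap_tmul]
    exact h
  -- the unit goes to the identity
  have hone : M.map (1 : G ⟶ G).left.appTop = 1 := by
    have : CompactSpace (𝟙_ (Over (Spec (CommRingCat.of k)))).left :=
      inferInstanceAs (CompactSpace (Spec (CommRingCat.of k)))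
    have : QuasiSeparated (𝟙_ (Over (Spec (CommRingCat.of k)))).hom :=
      inferInstanceAs (QuasiSeparated (𝟙 _))
    have h1 : M.map η[G].left.appTop = 1 := by
      ext l m
      refine congrFun (hY (𝟙_ _) (fun l => η[G].left.appTop (M l m)) (fun l => if l = m then 1 else 0) ?_) l
      have h2 := key (fst G (𝟙_ _)) (snd G (𝟙_ _) ≫ η[G]) m
      rw [show snd G (𝟙_ _) ≫ η[G] = (1 : G ⊗ 𝟙_ _ ⟶ G) by
        rw [Hom.one_def]; congr 1; exact toUnit_unique _ _, _root_.mul_one] at h2
      simp only [apply_ite ((snd G (𝟙_ (Over (Spec (CommRingCat.of k))))).left.appTop), map_one, map_zero, mul_ite,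
        mul_zero, _root_.mul_one, Finset.sum_ite_eq', Finset.mem_univ, if_true]
      rw [h2]
      refine Finset.sum_congr rfl fun l _ => ?_
      congr 1
      rw [← CommRingCat.comp_apply, ← Scheme.Hom.comp_appTop, ← Over.comp_left,
        show snd G (𝟙_ _) ≫ η[G] = (1 : G ⊗ 𝟙_ _ ⟶ G) by
          rw [Hom.one_def]; congr 1; exact toUnit_unique _ _]
    have h2 := congrArg (fun N => N.map (toUnit G).left.appTop) h1
    simp only [Matrix.map_map, Matrix.map_one _ (map_zero (toUnit G).left.appTop.hom)
      (map_one (toUnit G).left.appTop.hom)] at h2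
    refine Eq.trans ?_ h2
    ext l m
    simp only [Matrix.map_apply, Function.comp_apply]
    rw [Hom.one_def, Over.comp_left, Scheme.Hom.comp_appTop]
    rfl
  -- multiplicativity
  have : QuasiCompact (fst G G).left := inferInstanceAs (QuasiCompact (pullback.fst G.hom G.hom))
  have : CompactSpace (G ⊗ G).left := QuasiCompact.compactSpace_of_compactSpace (fst G G).left
  have : QuasiSeparated (G ⊗ G).hom := by
    rw [← Over.w (fst G G)]
    have : QuasiSeparated (fst G G).left := inferInstanceAs (QuasiSeparated (pullback.fst G.hom G.hom))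
    infer_instance
  have hmulM : M.map (fst G G * snd G G).left.appTop =
      M.map (fst G G).left.appTop * M.map (snd G G).left.appTop := by
    ext i m
    refine congrFun (hY (G ⊗ G) (fun i => (fst G G * snd G G).left.appTop (M i m))
      (fun i => ∑ l, (fst G G).left.appTop (M i l) * (snd G G).left.appTop (M l m)) ?_) i
    let g := fst G (G ⊗ G)
    let x := snd G (G ⊗ G) ≫ fst G G
    let y := snd G (G ⊗ G) ≫ snd G G
    have h1 := key (g * x) y m
    have h2 := key g (x * y) m
    simp only [key g x] at h1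
    rw [_root_.mul_assoc, h2] at h1
    simp only [x, y, ← MonObj.comp_mul, Over.comp_left, Scheme.Hom.comp_appTop, CommRingCat.comp_apply] at h1
    refine h1.trans ?_
    simp only [map_sum, map_mul, Finset.sum_mul, Finset.mul_sum, _root_.mul_assoc]
    exact Finset.sum_comm
  have hdet : IsUnit M.det := by
    have h2 := congrArg (fun N => N.map (lift (𝟙 G) (𝟙 G)⁻¹).left.appTop) hmulM
    rw [Matrix.map_mul] at h2
    simp only [Matrix.map_map, ← CommRingCat.hom_comp, ← ConcreteCategory.comp_apply, Function.comp_def,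
      ← Scheme.Hom.comp_appTop, ← Over.comp_left, MonObj.comp_mul, lift_fst, lift_snd] at h2
    rw [mul_inv_cancel] at h2
    rw [hone] at h2
    have hid : M.map (𝟙 G : G ⟶ G).left.appTop = M := by ext; simp
    rw [hid] at h2
    exact (Matrix.isUnit_iff_isUnit_det _).1 (IsUnit.of_mul_eq_one _ h2.symm)
  obtain ⟨ρ, hρ⟩ := GrpScheme.GLnPts.exists_mat_eq (S := Spec (CommRingCat.of k)) M hdet
  have hhom : IsMonHom ρ :=
    { one_hom := by
        refine GrpScheme.GLnPts.mat_injective ?_
        rw [GrpScheme.GLnPts.mat_comp, hρ, MonObj.one_eq_one, MonObj.one_eq_one, GrpScheme.GLnPts.mat_one]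
        have h2 := congrArg (fun N => N.map η[G].left.appTop) hone
        simp only [Matrix.map_map, Matrix.map_one _ (map_zero η[G].left.appTop.hom) (map_one η[G].left.appTop.hom)] at h2
        refine Eq.trans ?_ h2
        ext l m
        simp only [Matrix.map_apply, Function.comp_apply]
        rw [← CommRingCat.comp_apply, ← Scheme.Hom.comp_appTop, ← Over.comp_left, MonObj.comp_one]
      mul_hom := by
        refine GrpScheme.GLnPts.mat_injective ?_
        rw [GrpScheme.GLnPts.mat_comp, hρ, MonObj.mul_eq_mul, MonObj.mul_eq_mul, MonObj.comp_mul,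
          tensorHom_fst, tensorHom_snd, GrpScheme.GLnPts.mat_mul, GrpScheme.GLnPts.mat_comp,
          GrpScheme.GLnPts.mat_comp, hρ, hmulM] }
  have hM1 : M = 1 := by
    rw [← hρ, htriv n ρ hhom, GrpScheme.GLnPts.mat_one]
  -- `a m (g) = a m (1)`
  have hconst : ∀ m, a m = (e ≫ G.hom.appTop) (a m) := fun m => by
    have h := key (1 : G ⟶ G) (𝟙 G) m
    rw [_root_.one_mul, hM1] at h
    simp only [Matrix.one_apply, apply_ite ((𝟙 G : G ⟶ G).left.appTop), map_one, map_zero, mul_ite,
      mul_zero, _root_.mul_one, Finset.sum_ite_eq', Finset.mem_univ, if_true] at h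
    rw [show (𝟙 G : G ⟶ G).left.appTop (a m) = a m by simp] at h
    conv_lhs => rw [h, Hom.one_def, Over.comp_left, Scheme.Hom.comp_appTop]
    rfl
  show (e ≫ G.hom.appTop) f = f
  rw [hf, map_sum]
  refine Finset.sum_congr rfl fun m _ => ?_
  rw [Algebra.smul_def, map_mul, ← hconst]
  congr 1
  show (e ≫ G.hom.appTop) ((((Scheme.ΓSpecIso (CommRingCat.of k)).inv ≫ G.hom.appTop)) (c m)) = _
  rw [CommRingCat.comp_apply, CommRingCat.comp_apply, ← CommRingCat.comp_apply G.hom.appTop e, hret]
  rfl

end Groth.Agent.S18096
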