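import Groth.Statements.S18101
import Groth.Agent.S18096
import Groth.Agent.GrpdLib.AntiAffineRigid
import Mathlib.AlgebraicGeometry.AffineSpace
-- import your own Groth.Agent.* helpers here

set_option autoImplicit false
universe u
open CategoryTheory MonoidalCategory CartesianMonoidalCategory MonObj GrpObj AlgebraicGeometry CategoryTheory.Limits
open AlgGrp

namespace Groth.Agent.S18101

/-- Let k be a field and G a k-group scheme of finite type. Then G is anti-affine, i.e. O(G) = k, if and
only if every action of G on a variety having a fixed point is trivial; the fixed point is taken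
k-rational here (the published condition allows any closed fixed point, which gives a formally
stronger necessary condition; the equivalence with a rational fixed point is what the published
argument through linear representations yields). -/
theorem result (k : Type u) [Field k]
    (G : Over (Spec (CommRingCat.of k))) [GrpObj G] [LocallyOfFiniteType G.hom] [QuasiCompact G.hom] :
    Function.Bijective ((Scheme.ΓSpecIso (CommRingCat.of k)).inv ≫ G.hom.appTop).hom ↔
      ∀ (X : Over (Spec (CommRingCat.of k))) [LocallyOfFiniteType X.hom] [QuasiCompact X.hom] [IsSeparated X.hom] [GeometricallyIntegral X.hom]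
        (a : AlgGrp.Action G X) (x : 𝟙_ (Over (Spec (CommRingCat.of k))) ⟶ X), a.IsFixedPt x → a.act = snd G X := by
  have : CompactSpace G.left := QuasiCompact.compactSpace_of_compactSpace G.hom
  have : IsLocallyNoetherian G.left := LocallyOfFiniteType.isLocallyNoetherian G.hom
  have : QuasiSeparated G.hom := (quasiSeparated_iff_quasiSeparatedSpace G.hom).2 inferInstance
  constructor
  · intro hbij X _ _ _ _ a x hx
    have : IsIso G.hom.appTop := (GrpScheme.AntiAffine.bijective_iff_isIso G).1 hbij
    have : IsIntegral X.left := GeometricallyIntegral.isIntegral_of_subsingleton X.hom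
    have : CompactSpace X.left := QuasiCompact.compactSpace_of_compactSpace X.hom
    have : IsLocallyNoetherian X.left := LocallyOfFiniteType.isLocallyNoetherian X.hom
    let t : VecGrp.pt k k ⟶ X := GrpdLib.AntiAffineRigid.unitPt ≫ x
    have hcst : GrpdLib.AntiAffineRigid.cst η[G] a.act = snd G X := by
      have h1 := GrpScheme.Basic.one_smul' a (𝟙 X)
      rw [GrpScheme.Basic.smul, Hom.one_def] at h1
      show snd G X ≫ lift (toUnit X ≫ η[G]) (𝟙 X) ≫ a.act = _
      rw [h1, Category.comp_id]
    have hag : GrpdLib.AntiAffineRigid.Agree a.act (GrpdLib.AntiAffineRigid.cst η[G] a.act) t := by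
      show (G ◁ t) ≫ a.act = (G ◁ t) ≫ GrpdLib.AntiAffineRigid.cst η[G] a.act
      rw [hcst, whiskerLeft_snd,
        show G ◁ t = lift (fst G _) (toUnit _ ≫ x) from CartesianMonoidalCategory.hom_ext _ _
          (by rw [whiskerLeft_fst, lift_fst]) (by
            rw [whiskerLeft_snd, lift_snd, ← Category.assoc]
            exact congrArg (· ≫ x) (toUnit_unique _ _)),
        hx _ _, ← Category.assoc]
      exact congrArg (· ≫ x) (toUnit_unique _ _)
    exact (GrpdLib.AntiAffineRigid.eq_cst t hag).trans hcst
  intro h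
  refine (S18096.result k G).2 fun n ρ hρ => ?_
  let M := GrpScheme.GLnPts.mat ρ
  let X : Over (Spec (CommRingCat.of k)) := Over.mk (𝔸(ULift.{u} (Fin n); Spec (CommRingCat.of k)) ↘ Spec (CommRingCat.of k))
  let vec : ∀ {T : Over (Spec (CommRingCat.of k))}, (T ⟶ X) → Fin n → Γ(T.left, ⊤) := fun z i =>
    z.left.appTop (AffineSpace.coord (Spec (CommRingCat.of k)) (ULift.up i))
  have vec_comp : ∀ {T' T : Over (Spec (CommRingCat.of k))} (q : T' ⟶ T) (z : T ⟶ X),
      vec (q ≫ z) = q.left.appTop ∘ vec z := fun q z => rfl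
  have vec_inj : ∀ {T : Over (Spec (CommRingCat.of k))} {z z' : T ⟶ X}, vec z = vec z' → z = z' := by
    intro T z z' e
    refine Over.OverMorphism.ext (AffineSpace.hom_ext ((Over.w z).trans (Over.w z').symm) fun i => ?_)
    exact congrFun e i.down
  let mk : ∀ {T : Over (Spec (CommRingCat.of k))}, (Fin n → Γ(T.left, ⊤)) → (T ⟶ X) := fun {T} v =>
    Over.homMk (AffineSpace.homOfVector T.hom fun i => v i.down) (AffineSpace.homOfVector_over _ _)
  have vec_mk : ∀ {T : Over (Spec (CommRingCat.of k))} (v : Fin n → Γ(T.left, ⊤)), vec (mk v) = v :=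
    fun v => funext fun i => AffineSpace.homOfVector_appTop_coord _ _ _
  let act : G ⊗ X ⟶ X := mk (Matrix.mulVec (GrpScheme.GLnPts.mat (fst G X ≫ ρ)) (vec (snd G X)))
  have act_eq : ∀ {T : Over (Spec (CommRingCat.of k))} (g : T ⟶ G) (z : T ⟶ X),
      vec (lift g z ≫ act) = Matrix.mulVec (GrpScheme.GLnPts.mat (g ≫ ρ)) (vec z) := by
    intro T g z
    have h1 : lift g z ≫ fst G X ≫ ρ = g ≫ ρ := lift_fst_assoc _ _ _
    have h2 : lift g z ≫ snd G X = z := lift_snd _ _
    have h3 : vec z = (lift g z).left.appTop ∘ vec (snd G X) := by rw [← vec_comp, h2]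
    rw [vec_comp, vec_mk, ← h1, GrpScheme.GLnPts.mat_comp (lift g z), h3]
    funext i
    exact RingHom.map_mulVec (lift g z).left.appTop.hom (GrpScheme.GLnPts.mat (fst G X ≫ ρ)) (vec (snd G X)) i
  let a : AlgGrp.Action G X :=
    { act := act
      one_act := by
        have e : η[G] ▷ X = lift (toUnit _ ≫ η[G]) (snd _ X) := CartesianMonoidalCategory.hom_ext _ _
          (by rw [whiskerRight_fst, lift_fst]; exact congrArg (· ≫ η[G]) (toUnit_unique _ _))
          (by rw [whiskerRight_snd, lift_snd])
        refine vec_inj ?_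
        rw [e, act_eq, Category.assoc, IsMonHom.one_hom, ← Hom.one_def, GrpScheme.GLnPts.mat_one,
          Matrix.one_mulVec, leftUnitor_hom]
      mul_act := by
        have e1 : μ[G] ▷ X = lift (fst (G ⊗ G) X ≫ μ[G]) (snd (G ⊗ G) X) := CartesianMonoidalCategory.hom_ext _ _
          (by rw [whiskerRight_fst, lift_fst]) (by rw [whiskerRight_snd, lift_snd])
        have e2 : (α_ G G X).hom ≫ (G ◁ act) = lift (fst (G ⊗ G) X ≫ fst G G)
            (lift (fst (G ⊗ G) X ≫ snd G G) (snd (G ⊗ G) X) ≫ act) := by
          refine CartesianMonoidalCategory.hom_ext _ _ (by simp) ?_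
          rw [lift_snd, Category.assoc, whiskerLeft_snd, ← Category.assoc]
          congr 1
          refine CartesianMonoidalCategory.hom_ext _ _ ?_ ?_ <;> simp
        refine vec_inj ?_
        rw [reassoc_of% e2, e1, act_eq, act_eq, act_eq, Matrix.mulVec_mulVec, ← GrpScheme.GLnPts.mat_mul]
        rw [Category.assoc, IsMonHom.mul_hom, MonObj.mul_eq_mul, MonObj.comp_mul, MonObj.comp_mul,
          tensorHom_fst, tensorHom_snd]
        simp only [Category.assoc] }
  obtain ⟨z0, hz⟩ : ∃ z0 : 𝟙_ (Over (Spec (CommRingCat.of k))) ⟶ X, vec z0 = fun _ => 0 :=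
    ⟨mk (fun _ => 0), vec_mk (T := 𝟙_ (Over (Spec (CommRingCat.of k)))) fun _ => 0⟩
  have : GeometricallyIntegral X.hom :=
    inferInstanceAs (GeometricallyIntegral (𝔸(ULift.{u} (Fin n); Spec (CommRingCat.of k)) ↘ Spec (CommRingCat.of k)))
  have : IsAffineHom X.hom :=
    inferInstanceAs (IsAffineHom (𝔸(ULift.{u} (Fin n); Spec (CommRingCat.of k)) ↘ Spec (CommRingCat.of k)))
  have : LocallyOfFiniteType X.hom :=
    inferInstanceAs (LocallyOfFiniteType (𝔸(ULift.{u} (Fin n); Spec (CommRingCat.of k)) ↘ Spec (CommRingCat.of k)))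
  have hfix : a.IsFixedPt z0 := by
    intro T g
    refine vec_inj ?_
    rw [act_eq, vec_comp, hz]
    funext i
    simp [Matrix.mulVec, dotProduct]
  have htriv := h X a z0 hfix
  refine GrpScheme.GLnPts.mat_injective ?_
  rw [GrpScheme.GLnPts.mat_one]
  ext i j
  have e := congrArg (fun q => vec (lift (𝟙 G) (mk (Pi.single j 1)) ≫ q) i) htriv
  simp only [lift_snd, vec_mk] at e
  rw [act_eq, vec_mk, Category.id_comp, Matrix.mulVec_single_one] at e
  exact e.trans (by rw [Matrix.one_apply, Pi.single_apply])

end Groth.Agent.S18101
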