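import Groth.Statements.S11405
import Groth.Agent.GModPts19.Basic
import Groth.Agent.GrpScheme.GLnPts
import Groth.Agent.S18096
import Groth.Agent.S18101
import Groth.Agent.Cube.Connected
import Mathlib.AlgebraicGeometry.Geometrically.Integral

set_option autoImplicit false
universe u
open CategoryTheory MonoidalCategory CartesianMonoidalCategory MonObj GrpObj AlgebraicGeometry CategoryTheory.Limits
open AlgGrp

namespace Groth.Agent.S11405

set_option backward.isDefEq.respectTransparency.types false

open scoped TensorProduct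

/-- Global functions constant ⇒ representations are trivial. -/
theorem rep_trivial {k : Type u} [Field k] {G : Over (Spec (CommRingCat.of k))} [GrpObj G] [QuasiCompact G.hom]
    [QuasiSeparated G.hom]
    (hb : Function.Bijective ((Scheme.ΓSpecIso (CommRingCat.of k)).inv ≫ G.hom.appTop).hom)
    {M : Type u} [AddCommGroup M] [Module k M] (m : VecGrp.GMod G M) (B : Type u) [CommRing B] [Algebra k B]
    (g : VecGrp.pt k B ⟶ G) : m.ρ B g = 1 := by
  obtain ⟨c⟩ := GModPts19.exists_cover (X := G)
  have hsurj : Function.Surjective (algebraMap k (GModPts19.Sec G ⊤)) := fun f => by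
    obtain ⟨r, hr⟩ := hb.2 f
    refine ⟨r, ?_⟩
    rw [← hr]
    show (G.hom.appLE ⊤ ⊤ le_top) _ = G.hom.appTop _
    rw [show G.hom.appLE ⊤ ⊤ le_top = G.hom.appTop from G.hom.app_eq_appLE.symm]
    -- closed by `rw`
  have hz : ∀ z : M ⊗[k] GModPts19.Sec G ⊤, ∃ e : M, z = e ⊗ₜ[k] 1 := fun z => by
    induction z using TensorProduct.induction_on with
    | zero => exact ⟨0, by simp⟩
    | tmul e a =>
      obtain ⟨r, rfl⟩ := hsurj a
      exact ⟨r • e, by rw [TensorProduct.smul_tmul, Algebra.smul_def, _root_.mul_one]⟩
    | add a b ha hb =>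
      obtain ⟨e, rfl⟩ := ha
      obtain ⟨e', rfl⟩ := hb
      exact ⟨e + e', by rw [TensorProduct.add_tmul]⟩
  refine LinearEquiv.ext fun w => ?_
  show m.ρ B g w = w
  induction w using TensorProduct.induction_on with
  | zero => simp
  | add a b ha hb => rw [map_add, ha, hb]
  | tmul b x =>
    obtain ⟨z, hz'⟩ := GModPts19.exists_coact c m x
    obtain ⟨e, rfl⟩ := hz z
    have hev : ∀ (B : Type u) [CommRing B] [Algebra k B] (g : VecGrp.pt k B ⟶ G),
        m.ρ B g ((1 : B) ⊗ₜ[k] x) = (1 : B) ⊗ₜ[k] e := fun B _ _ g => by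
      rw [hz' B g]
      simp [GModPts19.ev]
    have hxe : x = e := by
      have h1 := hev k 1
      rw [map_one] at h1
      simpa using congrArg (TensorProduct.lid k M) h1
    subst hxe
    have hbx : b ⊗ₜ[k] x = b • ((1 : B) ⊗ₜ[k] x) := by rw [TensorProduct.smul_tmul', smul_eq_mul, _root_.mul_one]
    rw [hbx, map_smul, hev]

/-- Trivial representations ⇒ homomorphisms to `GL_n` are trivial. -/
theorem hom_trivial {k : Type u} [Field k] {G : Over (Spec (CommRingCat.of k))} [GrpObj G]
    (h : ∀ (M : Type u) [AddCommGroup M] [Module k M] [Module.Finite k M] (m : VecGrp.GMod G M)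
      (B : Type u) [CommRing B] [Algebra k B] (g : VecGrp.pt k B ⟶ G), m.ρ B g = 1)
    (n : ℕ) (ρ : G ⟶ FrB.GLn n (Spec (CommRingCat.of k))) (hρ : IsMonHom ρ) : ρ = 1 := by
  let σ := fun (B : Type u) [CommRing B] [Algebra k B] =>
    (Scheme.ΓSpecIso (CommRingCat.of B)).hom.hom
  let E := fun (B : Type u) [CommRing B] [Algebra k B] => (TensorProduct.piScalarRight k B B (Fin n))
  let φ : ∀ (B : Type u) [CommRing B] [Algebra k B], (VecGrp.pt k B ⟶ G) →* Matrix (Fin n) (Fin n) B :=
    fun B _ _ =>
      { toFun := fun g => (σ B).mapMatrix (GrpScheme.GLnPts.mat (g ≫ ρ))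
        map_one' := by
          rw [MonObj.one_comp, GrpScheme.GLnPts.mat_one]; exact map_one ((σ B).mapMatrix (m := Fin n))
        map_mul' := fun g g' => by
          rw [MonObj.mul_comp, GrpScheme.GLnPts.mat_mul]; exact map_mul ((σ B).mapMatrix (m := Fin n)) _ _ }
  let L : ∀ (B : Type u) [CommRing B] [Algebra k B],
      (VecGrp.pt k B ⟶ G) →* Module.End B (VecGrp.W k (Fin n → k) B) := fun B _ _ =>
    { toFun := fun g => (E B).symm.toLinearMap ∘ₗ (Matrix.toLin' (φ B g)) ∘ₗ (E B).toLinearMap
      map_one' := LinearMap.ext fun x => by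
        simp only [map_one, Matrix.toLin'_one, LinearMap.comp_apply, LinearMap.id_apply, Module.End.one_apply]
        exact (E B).symm_apply_apply x
      map_mul' := fun g g' => LinearMap.ext fun x => by
        simp only [map_mul, Matrix.toLin'_mul, LinearMap.comp_apply, Module.End.mul_apply, LinearEquiv.coe_coe,
          LinearEquiv.apply_symm_apply] }
  let m : VecGrp.GMod G (Fin n → k) :=
    { ρ := fun B _ _ => (LinearMap.GeneralLinearGroup.generalLinearEquiv B _).toMonoidHom.comp (L B).toHomUnits
      naturality := fun {B B'} _ _ _ _ ψ g x => by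
        show VecGrp.Wmap ψ (L B g x) = L B' (VecGrp.ptMap ψ ≫ g) (VecGrp.Wmap ψ x)
        have hE : ∀ y : VecGrp.W k (Fin n → k) B, E B' (VecGrp.Wmap ψ y) = ψ ∘ E B y := fun y => by
          induction y using TensorProduct.induction_on with
          | zero => funext i; simp
          | tmul b v => funext i; simp [E, map_smul]
          | add a b ha hb => funext i; simp only [map_add, ha, hb, Pi.add_apply, Function.comp_apply]
        have hφ : φ B' (VecGrp.ptMap ψ ≫ g) = (φ B g).map ψ := by
          refine Matrix.ext fun i j => ?_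
          show σ B' (GrpScheme.GLnPts.mat ((VecGrp.ptMap ψ ≫ g) ≫ ρ) i j) = ψ (σ B (GrpScheme.GLnPts.mat (g ≫ ρ) i j))
          rw [Category.assoc, GrpScheme.GLnPts.mat_comp]
          exact congr($(Scheme.ΓSpecIso_naturality (CommRingCat.ofHom ψ.toRingHom)) _)
        apply (E B').injective
        simp only [L, MonoidHom.coe_mk, OneHom.coe_mk, LinearMap.comp_apply, LinearEquiv.coe_coe,
          LinearEquiv.apply_symm_apply, hE, Matrix.toLin'_apply, hφ]
        funext i
        exact RingHom.map_mulVec ψ.toRingHom _ _ i }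
  refine GrpdLib.AntiAffineRigid.hom_ext_affine fun C _ _ q => GrpScheme.GLnPts.mat_injective ?_
  have h1 : L C q = 1 := LinearMap.ext fun x => LinearEquiv.congr_fun (h (Fin n → k) m C q) x
  have h2 : φ C q = 1 := Matrix.toLin'.injective (LinearMap.ext fun v => by
    have := congrArg (E C) (LinearMap.congr_fun h1 ((E C).symm v))
    simpa [L] using this)
  rw [MonObj.comp_one, GrpScheme.GLnPts.mat_one]
  refine Matrix.ext fun i j => (Scheme.ΓSpecIso (CommRingCat.of C)).commRingCatIsoToRingEquiv.injective ?_
  have h3 := congrFun (congrFun h2 i) j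
  refine h3.trans ?_
  show _ = σ C _
  rw [Matrix.one_apply, Matrix.one_apply]
  split <;> simp

/-- Over an algebraically closed field k, the following are equivalent for an algebraic group G (a
smooth k-group scheme of finite type): (i) the only global functions on G are the constants; (ii)
every finite-dimensional linear representation of G is trivial (every point of G with values in a
k-algebra B acts as the identity on B ⊗ M, for every G-module structure on a finite-dimensional
k-vector space M); (iii) every action of G on a variety (integral, separated k-scheme of finite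
type) with a fixed rational point is the trivial action. Stated as (i) ⇔ (ii) and (i) ⇔ (iii). -/
theorem result (k : Type u) [Field k] [IsAlgClosed k]
    (G : Over (Spec (CommRingCat.of k))) [GrpObj G] [Smooth G.hom] [QuasiCompact G.hom] :
    (Function.Bijective ((Scheme.ΓSpecIso (CommRingCat.of k)).inv ≫ G.hom.appTop).hom ↔
      ∀ (M : Type u) [AddCommGroup M] [Module k M] [Module.Finite k M] (m : VecGrp.GMod G M)
        (B : Type u) [CommRing B] [Algebra k B] (g : VecGrp.pt k B ⟶ G), m.ρ B g = 1) ∧
    (Function.Bijective ((Scheme.ΓSpecIso (CommRingCat.of k)).inv ≫ G.hom.appTop).hom ↔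
      ∀ (X : Over (Spec (CommRingCat.of k))) [LocallyOfFiniteType X.hom] [QuasiCompact X.hom] [IsSeparated X.hom]
        [IsIntegral X.left] (a : AlgGrp.Action G X) (x : 𝟙_ (Over (Spec (CommRingCat.of k))) ⟶ X), a.IsFixedPt x → a.act = snd G X) := by
  have : QuasiSeparated G.hom := by
    have := LocallyOfFiniteType.isLocallyNoetherian G.hom
    exact (quasiSeparated_iff_quasiSeparatedSpace G.hom).2 inferInstance
  refine ⟨⟨fun hb M _ _ _ m B _ _ g => rep_trivial hb m B g,
    fun h => (S18096.result k G).2 fun n ρ hρ => hom_trivial h n ρ hρ⟩, ⟨fun hb X _ _ _ _ a x hx => ?_, fun h => ?_⟩⟩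
  · have := Cube.geometricallyIntegral_of_isAlgClosed X.hom
    exact (S18101.result k G).1 hb X a x hx
  · refine (S18101.result k G).2 fun X _ _ _ _ a x hx => ?_
    have : IsIntegral X.left := GeometricallyIntegral.isIntegral_of_subsingleton X.hom
    exact h X a x hx

end Groth.Agent.S11405
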