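import Groth.Statements.S11407
import Groth.Agent.GrpScheme.AntiAffineProd
import Groth.Agent.GrpScheme.AffineToProper
import Groth.Agent.GrpScheme.AVPow
import Groth.Agent.GrpScheme.TorsionDeg
import Groth.Agent.GITLib.RigidGroup
import Groth.Agent.UnipLib.Scheme
import Groth.Agent.UnipLib.FppfDesc
import Groth.Agent.FBase.Dim
import Groth.Agent.AbVarLib.Basics
import Groth.Agent.S3030

set_option autoImplicit false
universe u
open CategoryTheory MonoidalCategory CartesianMonoidalCategory MonObj GrpObj AlgebraicGeometry CategoryTheory.Limits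
open AlgGrp

set_option backward.isDefEq.respectTransparency.types false

set_option linter.style.haveILetI false
namespace Groth.Agent.S11407
open Groth.Agent Groth.Agent.GrpScheme

variable {k : Type u} [Field k]

/-- A connected smooth group over a field is integral. -/
lemma isIntegral_of_smooth_connected (G : Over (Spec (CommRingCat.of k))) [GrpObj G] [Smooth G.hom]
    [ConnectedSpace G.left] : IsIntegral G.left :=
  haveI := AbVarLib.Basics.irreducibleSpace_of_connectedSpace G
  haveI : IsReduced G.left := HomFlat.isReduced_of_smooth G.hom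
  isIntegral_of_irreducibleSpace_of_isReduced G.left

/-- Over an algebraically closed field k of characteristic p > 0, let G be a connected commutative
algebraic group (smooth k-group scheme of finite type) which is an extension of an abelian variety A
(a proper, smooth, connected k-group scheme) by a connected unipotent algebraic group U: i : U → G
is a homomorphism and closed immersion from a smooth, connected, affine k-group scheme containing no
non-trivial subtorus (for smooth connected affine groups over an algebraically closed field this is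
unipotency), and α : G → A is a flat surjective homomorphism with kernel i. Then the only global
functions on G are the constants if and only if U is the trivial group. -/
theorem result (k : Type u) [Field k] [IsAlgClosed k]
    (p : ℕ) [Fact p.Prime] [CharP k p]
    (G : Over (Spec (CommRingCat.of k))) [GrpObj G] [Smooth G.hom] [QuasiCompact G.hom] [ConnectedSpace ↥G.left] [IsCommMonObj G]
    (U : Over (Spec (CommRingCat.of k))) [GrpObj U] (i : U ⟶ G) [IsMonHom i] [IsClosedImmersion i.left]
    [Smooth U.hom] [ConnectedSpace ↥U.left] [IsAffine U.left] (hU : Red.HasNoSubtorus k U)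
    (A : Over (Spec (CommRingCat.of k))) [GrpObj A] [IsProper A.hom] [Smooth A.hom] [ConnectedSpace ↥A.left]
    (α : G ⟶ A) [IsMonHom α] [Surjective α.left] [Flat α.left] (hker : AlgGrp.IsKernel i α) :
    Function.Bijective ((Scheme.ΓSpecIso (CommRingCat.of k)).inv ≫ G.hom.appTop).hom ↔ IsIso U.hom := by
  have hqc : UnipLib.Cover α := by
    haveI : QuasiCompact (α.left ≫ A.hom) := by rw [Over.w α]; infer_instance
    exact ⟨inferInstance, inferInstance, QuasiCompact.of_comp α.left A.hom⟩
  have hk : ∀ {T : Over (Spec (CommRingCat.of k))} (g : T ⟶ G), g ≫ α = 1 → ∃ z, z ≫ i = g := fun {T} g hg => by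
    obtain ⟨z, hz, -⟩ := hker.exists_lift g (toUnit T) (by rw [hg, Hom.one_def])
    exact ⟨z, hz⟩
  haveI : IsReduced G.left := HomFlat.isReduced_of_smooth G.hom
  constructor
  swap
  · intro hiso
    haveI : Mono α := ⟨fun {T} a b e => by
      obtain ⟨z, hz⟩ := hk (a⁻¹ * b) (by rw [MonObj.mul_comp, GrpObj.inv_comp, e, inv_mul_cancel])
      have hz1 : z = 1 := Over.OverMorphism.ext ((cancel_mono U.hom).1 ((Over.w z).trans (Over.w _).symm))
      rw [hz1, MonObj.one_comp] at hz
      exact inv_mul_eq_one.mp hz.symm⟩
    haveI : IsIso α := hqc.isIso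
    haveI : IsIso α.left := inferInstanceAs (IsIso ((Over.forget _).map α))
    haveI : IsProper G.hom := by rw [← Over.w α]; infer_instance
    have hb := GITLib.Rigid.bijective_appTop (K := k) G.hom
    exact hb.comp (ConcreteCategory.bijective_of_isIso (Scheme.ΓSpecIso (CommRingCat.of k)).inv)
  · intro hG
    haveI : IsIso G.hom.appTop := (AntiAffine.bijective_iff_isIso G).1 hG
    haveI : IsIntegral U.left := isIntegral_of_smooth_connected U
    haveI : IsIntegral A.left := isIntegral_of_smooth_connected A
    haveI : GeometricallyIntegral A.hom := Cube.geometricallyIntegral_of_isAlgClosed A.hom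
    haveI : IsSeparated G.hom := GrpdLib.GrpOver.isSeparated_hom G
    haveI : Mono i := (Over.forget _).mono_of_mono_map (show Mono i.left from inferInstance)
    haveI : IsCommMonObj U := ⟨by
      rw [← cancel_mono i, Category.assoc, IsMonHom.mul_hom, ← BraidedCategory.braiding_naturality_assoc]
      simp [IsCommMonObj.mul_comm]⟩
    obtain ⟨n, hn⟩ := FBase.Dim.exists_natCast_eq_topDim U.hom
    have hUN := UnipLib.pow_dim_eq_one p U hU (le_of_eq hn)
    have hN : 1 ≤ p ^ n := Nat.one_le_pow _ _ (Fact.out : p.Prime).pos
    generalize p ^ n = N at hUN hN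
    let m : G ⟶ G := 𝟙 G ^ N
    haveI : IsMonHom m := TorsionDeg.isMonHom_pow G N
    have him : i ≫ m = 1 := by
      have e := congrArg (· ≫ i) hUN
      simp only [MonObj.pow_comp, Category.id_comp, MonObj.one_comp] at e
      simp only [m, MonObj.comp_pow, Category.comp_id, e]
    obtain ⟨ψ, hψ⟩ := hqc.exists_desc m fun {T} a b e => by
      obtain ⟨z, hz⟩ := hk (a⁻¹ * b) (by rw [MonObj.mul_comp, GrpObj.inv_comp, e, inv_mul_cancel])
      have e' := congrArg (· ≫ m) hz
      simp only [Category.assoc, him, MonObj.comp_one, MonObj.mul_comp, GrpObj.inv_comp] at e'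
      exact inv_mul_eq_one.mp e'.symm
    haveI : IsMonHom ψ := hqc.isMonHom ψ (by rw [hψ]; infer_instance)
    obtain ⟨Q, hQ, q, j, hq, hj, hqcov, hjc, hQl, hQq, hqj⟩ := AntiAffineProd.exists_image ψ
    haveI := hqcov.surj
    haveI : IsProper Q.hom := by
      haveI : UniversallyClosed (q.left ≫ Q.hom) := by rw [Over.w q]; infer_instance
      haveI : UniversallyClosed Q.hom := UniversallyClosed.of_comp_surjective q.left Q.hom
      haveI : IsSeparated Q.hom := GrpdLib.GrpOver.isSeparated_hom Q
      exact ⟨⟩
    haveI : Mono j := (Over.forget _).mono_of_mono_map (show Mono j.left from inferInstance)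
    haveI := GrpScheme.AVPow.isFinite_surjective_pow A hN
    -- `G = U · Q`
    have hsurj : Surjective ((i ⊗ₘ j) ≫ μ[G]).left := AntiAffineProd.surjective_mul i j fun {T} g => by
      haveI : Surjective (𝟙 A ^ N).left := this.2
      have h₁ := (IsPullback.of_hasPullback (g ≫ α) (𝟙 A ^ N)).map (Over.forget _)
      let a' : pullback (g ≫ α) (𝟙 A ^ N) ⟶ A := pullback.snd _ _
      have h₂ := (IsPullback.of_hasPullback a' α).map (Over.forget _)
      let r : pullback a' α ⟶ T := pullback.fst a' α ≫ pullback.fst _ _
      let g' : pullback a' α ⟶ G := pullback.snd a' α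
      obtain ⟨z, hz⟩ := hk ((r ≫ g) * (g' ≫ m)⁻¹) (by
        rw [MonObj.mul_comp, GrpObj.inv_comp]
        simp only [m, r, g', MonObj.comp_pow, Category.comp_id, MonObj.pow_comp, ← pullback.condition, Category.assoc,
          a']
        rw [pullback.condition (f := g ≫ α)]
        simp only [MonObj.comp_pow, Category.comp_id, mul_inv_cancel])
      refine ⟨_, r, z, g' ≫ α ≫ q, ?_, ?_⟩
      · haveI : Surjective (pullback.fst (g ≫ α) (𝟙 A ^ N)).left :=
          MorphismProperty.of_isPullback h₁.flip ‹Surjective (𝟙 A ^ N).left›
        haveI : Surjective (pullback.fst a' α).left := MorphismProperty.of_isPullback h₂.flip ‹Surjective α.left›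
        rw [Over.comp_left]; infer_instance
      · rw [hz]; simp only [Category.assoc]; rw [hqj, hψ]; simp only [inv_mul_cancel_right]
    -- `G ⧸ Q` is affine, hence a point
    obtain ⟨P, hP, π, hπ, hπf, hπs, hπl, hπk, hPs, hPf, -⟩ := S3030.result k Q G j
      fun T g x => ⟨x, by rw [mul_right_comm, mul_inv_cancel, _root_.one_mul]⟩
    haveI : LocallyOfFiniteType P.hom := by
      haveI : LocallyOfFinitePresentation G.hom := inferInstance
      haveI : LocallyOfFinitePresentation (π.left ≫ P.hom) := by rw [Over.w π]; infer_instance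
      exact GrpdLib.FppfSourceDescent.locallyOfFiniteType_of_comp_fppf π.left P.hom
    have hπc : UnipLib.Cover π := by
      haveI : QuasiCompact (π.left ≫ P.hom) := by rw [Over.w π]; infer_instance
      exact ⟨hπf, hπs, QuasiCompact.of_comp π.left P.hom⟩
    have hjπ : j ≫ π = 1 := by
      rw [show j ≫ π = toUnit Q ≫ η[P] from hπk.w, ← Hom.one_def]
    obtain ⟨V, hV, v, l, hv, hl, hvc, hlc, hVl, hVq, hvl⟩ := AntiAffineProd.exists_image (i ≫ π)
    haveI := AntiAffineProd.isAffine_of_cover v hvc
    haveI : Surjective l.left := by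
      haveI : Surjective (((i ⊗ₘ j) ≫ μ[G]).left ≫ π.left) := inferInstance
      have e : (i ⊗ₘ j) ≫ μ[G] ≫ π = (fst U Q ≫ v) ≫ l := by
        rw [IsMonHom.mul_hom (f := π), tensorHom_comp_tensorHom_assoc, hjπ, Category.assoc, hvl,
          MonObj.mul_eq_mul, MonObj.comp_mul, tensorHom_fst, tensorHom_snd, MonObj.comp_one, _root_.mul_one]
      haveI : Surjective ((fst U Q ≫ v).left ≫ l.left) := by
        rw [← Over.comp_left, ← e, ← Category.assoc, Over.comp_left]; infer_instance
      exact Surjective.of_comp (fst U Q ≫ v).left l.left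
    haveI : IsReduced P.left := FlatMor.GeomDescent.isReduced_of_flat_surjective π.left
    haveI : IsIso l.left := isIso_of_isClosedImmersion_of_surjective l.left
    haveI : IsAffine P.left := IsAffine.of_isIso (inv l.left)
    haveI := AntiAffineProd.antiAffine_of_cover π hπc
    haveI := AntiAffineProd.isIso_hom_of_isAffine P
    obtain ⟨s, hs, -⟩ := hπk.exists_lift (𝟙 G) (toUnit G)
      (Over.OverMorphism.ext ((cancel_mono P.hom).1 ((Over.w _).trans (Over.w _).symm)))
    haveI : IsSplitEpi j := IsSplitEpi.mk' ⟨s, hs⟩
    haveI : IsIso j := isIso_of_mono_of_isSplitEpi j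
    haveI : IsIso j.left := inferInstanceAs (IsIso ((Over.forget _).map j))
    haveI : IsProper G.hom := by
      rw [show G.hom = inv j.left ≫ Q.hom by rw [IsIso.eq_inv_comp, Over.w j]]
      infer_instance
    haveI : IsProper U.hom := by rw [← Over.w i]; infer_instance
    have h1 := AffineToProper.eq_one (𝟙 U)
    refine ⟨⟨η[U].left, ?_, Over.w η[U]⟩⟩
    have e := congrArg CommaMorphism.left h1
    simpa [Hom.one_def] using e.symm

end Groth.Agent.S11407
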