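import Groth.Statements.S11410
import Groth.Agent.GrpdLib.FixedAffine

set_option autoImplicit false
set_option backward.isDefEq.respectTransparency.types false
universe u
open CategoryTheory MonoidalCategory CartesianMonoidalCategory MonObj GrpObj AlgebraicGeometry CategoryTheory.Limits
open AlgGrp

namespace Groth.Agent.S11410

/-- Over an algebraically closed field k, let G be an algebraic group (a smooth k-group scheme of finite
type) acting on a variety X (an integral, separated k-scheme of finite type), faithfully in the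
sense that every rational point of G acting as the identity of X is the identity element. Then for
every rational point x of X, the isotropy subgroup scheme of x (a closed subgroup scheme of G whose
points are exactly the points of G fixing x) is affine. -/
theorem result (k : Type u) [Field k] [IsAlgClosed k]
    (G X : Over (Spec (CommRingCat.of k))) [GrpObj G] [Smooth G.hom] [QuasiCompact G.hom]
    [LocallyOfFiniteType X.hom] [QuasiCompact X.hom] [IsSeparated X.hom] [IsIntegral X.left]
    (a : AlgGrp.Action G X)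
    (hfaith : ∀ g : 𝟙_ (Over (Spec (CommRingCat.of k))) ⟶ G, lift (toUnit X ≫ g) (𝟙 X) ≫ a.act = 𝟙 X → g = η[G])
    (x : 𝟙_ (Over (Spec (CommRingCat.of k))) ⟶ X) (St : Over (Spec (CommRingCat.of k))) [GrpObj St] (s : St ⟶ G) [IsMonHom s] [IsClosedImmersion s.left]
    (hs : ∀ (T : Over (Spec (CommRingCat.of k))) (g : T ⟶ G), (∃ t : T ⟶ St, t ≫ s = g) ↔ lift g (toUnit T ≫ x) ≫ a.act = toUnit T ≫ x) :
    IsAffine St.left := by
  haveI : IsSeparated G.hom := Groth.Agent.GrpdLib.GrpOver.isSeparated_hom G
  haveI : LocallyOfFiniteType St.hom := by rw [← Over.w s]; infer_instance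
  haveI : QuasiCompact St.hom := by rw [← Over.w s]; infer_instance
  haveI := LocallyOfFiniteType.isLocallyNoetherian X.hom
  haveI : Mono s := ⟨fun u v huv => Over.OverMorphism.ext ((cancel_mono s.left).mp (congrArg Over.Hom.left huv))⟩
  let a' : AlgGrp.Action St X :=
    { act := (s ▷ X) ≫ a.act
      one_act := by
        rw [← comp_whiskerRight_assoc, IsMonHom.one_hom, a.one_act]
      mul_act := by
        rw [← comp_whiskerRight_assoc, IsMonHom.mul_hom, comp_whiskerRight_assoc, a.mul_act]
        simp only [MonoidalCategory.whiskerLeft_comp, Category.assoc]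
        rw [whisker_exchange_assoc]
        have e : (s ⊗ₘ s) ▷ X ≫ (α_ G G X).hom =
            (α_ St St X).hom ≫ St ◁ (s ▷ X) ≫ s ▷ (G ⊗ X) :=
          CartesianMonoidalCategory.hom_ext _ _ (by simp)
            (CartesianMonoidalCategory.hom_ext _ _ (by simp) (by simp))
        rw [← Category.assoc ((s ⊗ₘ s) ▷ X), e]
        simp only [Category.assoc] }
  have hx' : a'.IsFixedPt x := fun T g => by
    show lift g (toUnit T ≫ x) ≫ (s ▷ X) ≫ a.act = _
    rw [lift_whiskerRight_assoc]
    exact (hs T (g ≫ s)).1 ⟨g, rfl⟩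
  obtain ⟨N, _, i, _, _, hN, _, _, hlift, hi1, htriv⟩ :=
    Groth.Agent.GrpdLib.FixedAffine.exists_kernel_acts_trivially a' x hx'
  haveI : Mono i := ⟨fun u v huv => Over.OverMorphism.ext ((cancel_mono i.left).mp (congrArg Over.Hom.left huv))⟩
  have hi : i = 1 := Groth.Agent.GrpdLib.FixedAffine.eq_one_of_points i fun p => by
    rw [← cancel_mono i, IsMonHom.one_hom, ← cancel_mono s, IsMonHom.one_hom, Category.assoc]
    refine hfaith _ ?_
    have h := htriv (toUnit X ≫ p) (𝟙 X)
    change lift ((toUnit X ≫ p) ≫ i) (𝟙 X) ≫ (s ▷ X) ≫ a.act = 𝟙 X at h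
    rwa [lift_whiskerRight_assoc, Category.assoc, Category.assoc] at h
  haveI : Mono (Groth.Agent.GrpAff.toHull St) := ⟨fun {T} u v huv => by
    obtain ⟨m, hm⟩ := hlift (u⁻¹ * v) (by rw [MonObj.mul_comp, GrpObj.inv_comp, huv, inv_mul_cancel])
    exact inv_mul_eq_one.mp (by rw [← hm, hi, MonObj.comp_one])⟩
  obtain ⟨⟨_, _, _⟩, _⟩ := Groth.Agent.GrpAff.cover_toHull St
  have := Groth.Agent.GrpdLib.GrpOver.isIso_of_mono_flat_surjective (Groth.Agent.GrpAff.toHull St)
  have : IsIso (Groth.Agent.GrpAff.toHull St).left := Groth.Agent.GrpScheme.Basic.isIso_left _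
  exact IsAffine.of_isIso (Groth.Agent.GrpAff.toHull St).left

end Groth.Agent.S11410
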