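import Groth.Statements.S11411
-- import your own Groth.Agent.* helpers here

set_option autoImplicit false
universe u
open CategoryTheory MonoidalCategory CartesianMonoidalCategory MonObj GrpObj AlgebraicGeometry CategoryTheory.Limits
open AlgGrp

namespace Groth.Agent.S11411

/-- Over an algebraically closed field k, let G be an algebraic group (a smooth k-group scheme of finite
type) and N the kernel of the canonical morphism ρ : G → Spec O(G), i.e. the fibre of ρ over the
image of the unit. Then N is the smallest normal subgroup scheme of G with affine quotient: for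
every closed normal subgroup scheme H of G with a flat surjective homomorphism G → Q of k-group
schemes of finite type with kernel H and Q affine, the inclusion of N factors through H. And N is
the largest anti-affine subgroup scheme: every homomorphism and closed immersion into G from a
k-group scheme whose only global functions are the constants factors through N. (The published
statement also asserts O(N) = k, that N is a connected algebraic group central in G⁰, and O(G/N) =
O(G) finitely generated; those parts are not restated here.) -/
theorem result (k : Type u) [Field k] [IsAlgClosed k]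
    (G : Over (Spec (CommRingCat.of k))) [GrpObj G] [Smooth G.hom] [QuasiCompact G.hom] :
    (∀ (H Q : Over (Spec (CommRingCat.of k))) [GrpObj H] [GrpObj Q] (h : H ⟶ G) [IsMonHom h] [IsClosedImmersion h.left]
        [LocallyOfFiniteType Q.hom] [QuasiCompact Q.hom] (q : G ⟶ Q) [IsMonHom q] [Surjective q.left] [Flat q.left],
        AlgGrp.IsKernel h q → IsAffine Q.left →
        ∃ f : pullback G.left.toSpecΓ (η[G].left ≫ G.left.toSpecΓ) ⟶ H.left, f ≫ h.left = pullback.fst G.left.toSpecΓ (η[G].left ≫ G.left.toSpecΓ)) ∧
    (∀ (M : Over (Spec (CommRingCat.of k))) [GrpObj M] (j : M ⟶ G) [IsMonHom j] [IsClosedImmersion j.left],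
        Function.Bijective ((Scheme.ΓSpecIso (CommRingCat.of k)).inv ≫ M.hom.appTop).hom →
        ∃ f : M.left ⟶ pullback G.left.toSpecΓ (η[G].left ≫ G.left.toSpecΓ), f ≫ pullback.fst G.left.toSpecΓ (η[G].left ≫ G.left.toSpecΓ) = j.left) := by
  refine ⟨fun H Q _ _ h _ _ _ _ q _ _ _ hK hQ => ?_, fun M _ j _ _ hM => ?_⟩
  · have : IsAffine Q.left := hQ
    have hpb : IsPullback h.left (toUnit H).left q.left η[Q].left := hK.map (Over.forget _)
    let r : Spec Γ(G.left, ⊤) ⟶ Q.left := Spec.map q.left.appTop ≫ inv Q.left.toSpecΓ
    have hr : q.left = G.left.toSpecΓ ≫ r := by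
      rw [← cancel_mono Q.left.toSpecΓ]
      simp [r, Scheme.toSpecΓ_naturality]
    have hη : η[G].left ≫ q.left = η[Q].left := by
      rw [← Over.comp_left, IsMonHom.one_hom]
    refine ⟨hpb.lift (pullback.fst _ _) (pullback.snd _ _) ?_, hpb.lift_fst _ _ _⟩
    rw [← hη, hr, ← Category.assoc, pullback.condition]
    simp only [Category.assoc]
  · have hη : η[M].left ≫ j.left = η[G].left := by rw [← Over.comp_left, IsMonHom.one_hom]
    have hone : η[M].left ≫ M.hom = 𝟙 _ := Over.w η[M]
    have hinj : Function.Injective η[M].left.appTop := by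
      intro x y hxy
      obtain ⟨a, rfl⟩ := hM.2 x
      obtain ⟨b, rfl⟩ := hM.2 y
      have e : ((Scheme.ΓSpecIso (CommRingCat.of k)).inv ≫ M.hom.appTop) ≫ η[M].left.appTop =
          (Scheme.ΓSpecIso (CommRingCat.of k)).inv := by
        rw [Category.assoc, ← Scheme.Hom.comp_appTop, hone, Scheme.Hom.id_appTop]
        exact Category.comp_id _
      have e' : ∀ c, η[M].left.appTop (((Scheme.ΓSpecIso (CommRingCat.of k)).inv ≫ M.hom.appTop).hom c) =
          (Scheme.ΓSpecIso (CommRingCat.of k)).inv.hom c := fun c => congr($(e).hom c)
      rw [e', e'] at hxy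
      rw [(ConcreteCategory.bijective_of_isIso (Scheme.ΓSpecIso (CommRingCat.of k)).inv).1 hxy]
    refine ⟨pullback.lift j.left M.hom ?_, pullback.lift_fst _ _ _⟩
    refine ext_of_isAffine ?_
    ext x
    apply hinj
    have h1 : η[M].left ≫ j.left ≫ G.left.toSpecΓ = η[M].left ≫ M.hom ≫ η[G].left ≫ G.left.toSpecΓ := by
      rw [reassoc_of% hone, reassoc_of% hη]
    exact congr(($(congrArg Scheme.Hom.appTop h1)).hom x)

end Groth.Agent.S11411
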