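import Groth.Statements.S11412
import Groth.Agent.GrpAff.Smooth
import Mathlib.AlgebraicGeometry.Morphisms.Flat

set_option autoImplicit false
universe u
open CategoryTheory MonoidalCategory CartesianMonoidalCategory MonObj GrpObj AlgebraicGeometry CategoryTheory.Limits
open AlgGrp

namespace Groth.Agent.S11412

/-- Over an algebraically closed field k, let G be a k-group scheme of finite type whose only global
functions are the constants. Then G is reduced, i.e. smooth over k, and for every closed subgroup
scheme H of G and every quotient G/H (a k-scheme X of locally finite type with a G-action and a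
rational point o whose orbit map is flat and surjective and identifies G × H with G ×_X G), the only
global functions on X are the constants. (The published statement also records that G is connected
and commutative.) -/
theorem result (k : Type u) [Field k] [IsAlgClosed k]
    (G : Over (Spec (CommRingCat.of k))) [GrpObj G] [LocallyOfFiniteType G.hom] [QuasiCompact G.hom]
    (hG : Function.Bijective ((Scheme.ΓSpecIso (CommRingCat.of k)).inv ≫ G.hom.appTop).hom) :
    Smooth G.hom ∧
      ∀ (H : Over (Spec (CommRingCat.of k))) [GrpObj H] (h : H ⟶ G) [IsMonHom h] [IsClosedImmersion h.left]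
        (X : Over (Spec (CommRingCat.of k))) (a : AlgGrp.Action G X) (o : 𝟙_ (Over (Spec (CommRingCat.of k))) ⟶ X), AGF.IsQuotient h X a o →
        Function.Bijective ((Scheme.ΓSpecIso (CommRingCat.of k)).inv ≫ X.hom.appTop).hom := by
  refine ⟨GrpAff.smooth_of_antiAffine G ((GrpScheme.AntiAffine.bijective_iff_isIso G).1 hG),
    fun H _ h _ _ X a o hq => ?_⟩
  obtain ⟨-, hflat, hsurj, -⟩ := hq
  let f := (a.orbitMap o).left
  have hw : f ≫ X.hom = G.hom := Over.w (a.orbitMap o)
  have hepi : Epi f := Flat.epi_of_flat_of_surjective f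
  have hinj : Function.Injective f.appTop := by
    intro x y hxy
    let φ : Γ(X.left, ⊤) → (CommRingCat.of (MvPolynomial PUnit.{u + 1} (ULift.{u} ℤ)) ⟶ Γ(X.left, ⊤)) := fun z =>
      CommRingCat.ofHom (MvPolynomial.eval₂Hom ((Int.castRingHom _).comp ULift.ringEquiv.toRingHom) (fun _ => z))
    have hφ : φ x ≫ f.appTop = φ y ≫ f.appTop :=
      CommRingCat.hom_ext (MvPolynomial.ringHom_ext (fun n => by simp [φ]) (fun _ => by simpa [φ] using hxy))
    have h1 : X.left.toSpecΓ ≫ Spec.map (φ x) = X.left.toSpecΓ ≫ Spec.map (φ y) := by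
      rw [← cancel_epi f, Scheme.toSpecΓ_naturality_assoc, Scheme.toSpecΓ_naturality_assoc, ← Spec.map_comp,
        ← Spec.map_comp, hφ]
    have h2 : φ x = φ y := by
      have := congrArg Scheme.Hom.appTop h1
      rw [Scheme.Hom.comp_appTop, Scheme.Hom.comp_appTop, Scheme.toSpecΓ_appTop, Scheme.ΓSpecIso_naturality,
        Scheme.ΓSpecIso_naturality] at this
      exact (cancel_epi _).1 this
    simpa [φ] using congr(($h2).hom (MvPolynomial.X PUnit.unit))
  have hcomp : ((Scheme.ΓSpecIso (CommRingCat.of k)).inv ≫ G.hom.appTop).hom =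
      f.appTop.hom.comp ((Scheme.ΓSpecIso (CommRingCat.of k)).inv ≫ X.hom.appTop).hom := by
    rw [← hw, Scheme.Hom.comp_appTop]; rfl
  have hb : Function.Bijective (f.appTop.hom ∘ ((Scheme.ΓSpecIso (CommRingCat.of k)).inv ≫ X.hom.appTop).hom) := by
    rw [← RingHom.coe_comp, ← hcomp]; exact hG
  exact ⟨hb.1.of_comp, hb.2.of_comp_left hinj⟩

end Groth.Agent.S11412
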