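import Groth.Statements.S11415
import Groth.Agent.TorusStab.Main

set_option autoImplicit false
universe u
open CategoryTheory MonoidalCategory CartesianMonoidalCategory MonObj GrpObj AlgebraicGeometry CategoryTheory.Limits
open AlgGrp

namespace Groth.Agent.S11415

/-- Over an algebraically closed field k, let T be a torus (a k-group scheme isomorphic to the
diagonalizable group of ℤ^r for some r) acting on a variety X (an integral, separated k-scheme of
finite type), faithfully in the scheme-theoretic sense: every point of T with values in a k-scheme S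
which acts as the identity on X × S is the identity. Then there is a dense open subset U of X such
that for every rational point x of X in U the isotropy subgroup scheme of x is trivial: every
S-valued point of T fixing x is the identity. -/
theorem result (k : Type u) [Field k] [IsAlgClosed k]
    (T X : Over (Spec (CommRingCat.of k))) [GrpObj T] (r : ℕ) (hT : Red.IsSplitTorusWith (Fin r → ℤ) T)
    [LocallyOfFiniteType X.hom] [QuasiCompact X.hom] [IsSeparated X.hom] [IsIntegral X.left]
    (a : AlgGrp.Action T X)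
    (hfaith : ∀ (S : Over (Spec (CommRingCat.of k))) (g : S ⟶ T),
      (∀ (S' : Over (Spec (CommRingCat.of k))) (s : S' ⟶ S) (x : S' ⟶ X), lift (s ≫ g) x ≫ a.act = x) → g = 1) :
    ∃ U : X.left.Opens, Dense (U : Set ↥X.left) ∧
      ∀ x : 𝟙_ (Over (Spec (CommRingCat.of k))) ⟶ X, x.left (IsLocalRing.closedPoint k) ∈ U →
        ∀ (S : Over (Spec (CommRingCat.of k))) (g : S ⟶ T), lift g (toUnit S ≫ x) ≫ a.act = toUnit S ≫ x → g = 1 := by
  obtain ⟨i⟩ := hT
  let φ : T ⟶ Red.DS (Spec (CommRingCat.of k)) (Fin r → ℤ) := i.hom.hom.hom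
  let ψ : Red.DS (Spec (CommRingCat.of k)) (Fin r → ℤ) ⟶ T := i.inv.hom.hom
  have hφψ : φ ≫ ψ = 𝟙 T := congrArg (fun q => q.hom.hom) i.hom_inv_id
  have hψφ : ψ ≫ φ = 𝟙 _ := congrArg (fun q => q.hom.hom) i.inv_hom_id
  haveI : IsMonHom φ := i.hom.hom.isMonHom_hom
  haveI : IsMonHom ψ := i.inv.hom.isMonHom_hom
  have hact : ∀ {S : Over (Spec (CommRingCat.of k))} (g : S ⟶ T) (x : S ⟶ X),
      lift g x ≫ a.act = lift (g ≫ φ) x ≫ (ψ ▷ X) ≫ a.act := fun g x => by
    rw [lift_whiskerRight_assoc, Category.assoc, hφψ, Category.comp_id]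
  let a' : AlgGrp.Action (Red.DS (Spec (CommRingCat.of k)) (Fin r → ℤ)) X :=
    { act := (ψ ▷ X) ≫ a.act
      one_act := by
        rw [← MonoidalCategory.comp_whiskerRight_assoc, IsMonHom.one_hom, a.one_act]
      mul_act := by
        rw [← MonoidalCategory.comp_whiskerRight_assoc, IsMonHom.mul_hom, MonoidalCategory.comp_whiskerRight_assoc, a.mul_act]
        have hnat : ((ψ ⊗ₘ ψ) ▷ X) ≫ (α_ T T X).hom = (α_ _ _ X).hom ≫ (ψ ▷ (_ ⊗ X)) ≫ (T ◁ (ψ ▷ X)) := by
          ext <;> simp
        rw [reassoc_of% hnat, ← MonoidalCategory.whiskerLeft_comp_assoc, whisker_exchange_assoc] }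
  have hs : AddSubgroup.closure ((Finset.univ.image fun i : Fin r => (Pi.single i 1 : Fin r → ℤ)) : Set (Fin r → ℤ)) = ⊤ := by
    refine eq_top_iff.2 fun m _ => ?_
    rw [← Finset.univ_sum_single m]
    refine AddSubgroup.sum_mem _ fun i _ => ?_
    rw [show Pi.single i (m i) = (m i) • (Pi.single i (1 : ℤ) : Fin r → ℤ) by rw [← Pi.single_smul]; simp]
    exact AddSubgroup.zsmul_mem _ (AddSubgroup.subset_closure (by simp)) _
  obtain ⟨U, hU, hfree⟩ := TorusStab.main _ hs a' fun S g hg => by
    have h := hfaith S (g ≫ ψ) fun S' t x => by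
      rw [hact, Category.assoc, Category.assoc, hψφ, Category.comp_id]
      exact hg S' t x
    rw [← Category.comp_id g, ← hψφ, ← Category.assoc, h]
    exact @MonObj.one_comp _ _ _ _ _ _ _ _ φ i.hom.hom.isMonHom_hom
  refine ⟨U, hU, fun x hx S g hg => ?_⟩
  have h := hfree x hx S (g ≫ φ) (by
    rw [hact] at hg
    exact hg)
  rw [← Category.comp_id g, ← hφψ, ← Category.assoc, h, MonObj.one_comp]

end Groth.Agent.S11415
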