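import Groth.Statements.S11416
import Groth.Agent.GrpScheme.QuasiAffine
import Groth.Agent.GrpdLib.GrpOver
import Groth.Agent.S0385
import Mathlib.AlgebraicGeometry.AlgClosed.Basic

set_option autoImplicit false
universe u
open CategoryTheory MonoidalCategory CartesianMonoidalCategory MonObj GrpObj AlgebraicGeometry CategoryTheory.Limits
open AlgGrp

namespace Groth.Agent.S11416

open scoped TensorProduct

variable {k : Type u} [Field k]

/-- The value of a matrix coefficient at a point. -/
noncomputable def coeff {G : Over (Spec (CommRingCat.of k))} [GrpObj G] {M : Type u} [AddCommGroup M]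
    [Module k M] (m : VecGrp.GMod G M) (v : M) (l : Module.Dual k M) (B : Type u) [CommRing B] [Algebra k B]
    (g : VecGrp.pt k B ⟶ G) : B :=
  Algebra.TensorProduct.rid k B B (l.baseChange B (m.ρ B g ((1 : B) ⊗ₜ[k] v)))

lemma coeff_natural {G : Over (Spec (CommRingCat.of k))} [GrpObj G] {M : Type u} [AddCommGroup M]
    [Module k M] (m : VecGrp.GMod G M) (v : M) (l : Module.Dual k M) {B B' : Type u} [CommRing B]
    [Algebra k B] [CommRing B'] [Algebra k B'] (φ : B →ₐ[k] B') (g : VecGrp.pt k B ⟶ G) :
    φ (coeff m v l B g) = coeff m v l B' (VecGrp.ptMap φ ≫ g) := by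
  have h := m.naturality φ g ((1 : B) ⊗ₜ[k] v)
  rw [VecGrp.Wmap_tmul, map_one] at h
  rw [coeff, coeff, ← h]
  generalize m.ρ B g ((1 : B) ⊗ₜ[k] v) = x
  induction x using TensorProduct.induction_on with
  | zero => simp
  | add p q hp hq => simp only [map_add, hp, hq]
  | tmul p q => simp [map_smul]

/-- A matrix coefficient is a global function. -/
theorem exists_coeffHom {G : Over (Spec (CommRingCat.of k))} [GrpObj G] [IsSeparated G.hom] {M : Type u}
    [AddCommGroup M] [Module k M] (m : VecGrp.GMod G M) (v : M) (l : Module.Dual k M) :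
    ∃ f : G.left ⟶ Spec (CommRingCat.of (Polynomial k)), ∀ g : VecGrp.pt k k ⟶ G,
      g.left ≫ f = Spec.map (CommRingCat.ofHom (Polynomial.aeval (R := k) (coeff m v l k g)).toRingHom) := by
  let 𝒰 := G.left.affineCover
  let al : ∀ i, Algebra k (Γ(𝒰.X i, ⊤)) := fun i =>
    ((Scheme.ΓSpecIso (CommRingCat.of k)).inv ≫ (𝒰.f i ≫ G.hom).appTop).hom.toAlgebra
  -- the value of the coefficient on an affine scheme over `G`
  let val : ∀ {Y : Scheme.{u}} [IsAffine Y] (y : Y ⟶ G.left),
      Y ⟶ Spec (CommRingCat.of (Polynomial k)) := fun {Y} _ y =>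
    letI : Algebra k Γ(Y, ⊤) := ((Scheme.ΓSpecIso (CommRingCat.of k)).inv ≫ (y ≫ G.hom).appTop).hom.toAlgebra
    let g : VecGrp.pt k Γ(Y, ⊤) ⟶ G := Over.homMk (Y.isoSpec.inv ≫ y) (by
      show (Y.isoSpec.inv ≫ y) ≫ G.hom = Spec.map (CommRingCat.ofHom (algebraMap k Γ(Y, ⊤)))
      rw [RingHom.algebraMap_toAlgebra, CommRingCat.ofHom_hom, Category.assoc, Iso.inv_comp_eq,
        Scheme.isoSpec_hom, Spec.map_comp, ← Scheme.toSpecΓ_naturality_assoc, toSpecΓ_SpecMap_ΓSpecIso_inv,
        Category.comp_id])
    Y.toSpecΓ ≫ Spec.map (CommRingCat.ofHom (Polynomial.aeval (R := k) (coeff m v l _ g)).toRingHom)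
  have hval : ∀ {Y Y' : Scheme.{u}} [IsAffine Y] [IsAffine Y'] (h : Y' ⟶ Y) (y : Y ⟶ G.left),
      h ≫ val y = val (h ≫ y) := by
    intro Y Y' _ _ h y
    letI : Algebra k Γ(Y, ⊤) := ((Scheme.ΓSpecIso (CommRingCat.of k)).inv ≫ (y ≫ G.hom).appTop).hom.toAlgebra
    letI : Algebra k Γ(Y', ⊤) :=
      ((Scheme.ΓSpecIso (CommRingCat.of k)).inv ≫ ((h ≫ y) ≫ G.hom).appTop).hom.toAlgebra
    have hcm : ∀ r : k, h.appTop.hom (algebraMap k Γ(Y, ⊤) r) = algebraMap k Γ(Y', ⊤) r := fun r => by
      show h.appTop ((y ≫ G.hom).appTop ((Scheme.ΓSpecIso (CommRingCat.of k)).inv r)) =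
        ((h ≫ y) ≫ G.hom).appTop ((Scheme.ΓSpecIso (CommRingCat.of k)).inv r)
      simp only [Category.assoc, Scheme.Hom.comp_appTop]
      rfl
    let φ : Γ(Y, ⊤) →ₐ[k] Γ(Y', ⊤) := { h.appTop.hom with commutes' := hcm }
    show h ≫ Y.toSpecΓ ≫ Spec.map _ = Y'.toSpecΓ ≫ Spec.map _
    rw [Scheme.toSpecΓ_naturality_assoc, ← Spec.map_comp]
    congr 2
    refine CommRingCat.hom_ext (Polynomial.ringHom_ext (fun r => ?_) ?_)
    · simp only [CommRingCat.hom_comp, CommRingCat.hom_ofHom, RingHom.comp_apply]
      show φ (Polynomial.aeval _ (Polynomial.C r)) = Polynomial.aeval _ (Polynomial.C r)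
      rw [Polynomial.aeval_C, Polynomial.aeval_C, φ.commutes]
    · simp only [CommRingCat.hom_comp, CommRingCat.hom_ofHom, RingHom.comp_apply]
      show φ (Polynomial.aeval _ Polynomial.X) = Polynomial.aeval _ Polynomial.X
      rw [Polynomial.aeval_X, Polynomial.aeval_X, coeff_natural]
      congr 1
      refine Over.OverMorphism.ext ?_
      show Spec.map h.appTop ≫ Y.isoSpec.inv ≫ y = Y'.isoSpec.inv ≫ h ≫ y
      rw [← Scheme.isoSpec_inv_naturality_assoc]
  have hcongr : ∀ {Y : Scheme.{u}} [IsAffine Y] {y y' : Y ⟶ G.left}, y = y' → val y = val y' := fun h => by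
    subst h; rfl
  have hAff : ∀ i, IsAffineHom (𝒰.f i) := fun i => IsAffineHom.of_comp (𝒰.f i) G.hom
  have hI : ∀ i j, IsAffine (Limits.pullback (𝒰.f i) (𝒰.f j)) := fun i j =>
    isAffine_of_isAffineHom (Limits.pullback.fst (𝒰.f i) (𝒰.f j))
  let f := 𝒰.glueMorphisms (fun i => val (𝒰.f i)) fun i j => by
    rw [hval, hval]
    exact hcongr Limits.pullback.condition
  refine ⟨f, fun g => ?_⟩
  let c : Spec (CommRingCat.of k) ⟶ G.left := g.left
  let y₀ : Spec (CommRingCat.of k) := IsLocalRing.closedPoint k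
  obtain ⟨i, z, hz⟩ := 𝒰.exists_eq (c y₀)
  have hr : Set.range c ⊆ Set.range (𝒰.f i) := by
    rintro _ ⟨t, rfl⟩
    exact ⟨z, hz.trans (congrArg c (Subsingleton.elim (α := PrimeSpectrum k) _ _))⟩
  have hc : c ≫ f = val c := by
    obtain ⟨c', hc'⟩ : ∃ c', c' ≫ 𝒰.f i = c := ⟨_, IsOpenImmersion.lift_fac (𝒰.f i) c hr⟩
    rw [← hc', Category.assoc, Scheme.Cover.ι_glueMorphisms, hval]
  refine hc.trans ?_
  letI : Algebra k Γ(Spec (CommRingCat.of k), ⊤) :=
    ((Scheme.ΓSpecIso (CommRingCat.of k)).inv ≫ (c ≫ G.hom).appTop).hom.toAlgebra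
  have hcw : c ≫ G.hom = 𝟙 _ := by
    refine (Over.w g).trans ?_
    show Spec.map (CommRingCat.ofHom (algebraMap k k)) = _
    rw [Algebra.algebraMap_self, CommRingCat.ofHom_id, Spec.map_id]
  let φ : k →ₐ[k] Γ(Spec (CommRingCat.of k), ⊤) := Algebra.ofId k _
  show (Spec (CommRingCat.of k)).toSpecΓ ≫ Spec.map _ = _
  refine (congrArg (fun t => t ≫ Spec.map _) (SpecMap_ΓSpecIso_hom (CommRingCat.of k)).symm).trans ?_
  rw [← Spec.map_comp]
  congr 1
  refine CommRingCat.hom_ext (Polynomial.ringHom_ext (fun r => ?_) ?_)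
  · simp only [CommRingCat.hom_comp, CommRingCat.hom_ofHom, RingHom.comp_apply]
    show (Scheme.ΓSpecIso (CommRingCat.of k)).hom (Polynomial.aeval _ (Polynomial.C r)) =
      Polynomial.aeval _ (Polynomial.C r)
    rw [Polynomial.aeval_C, Polynomial.aeval_C, RingHom.algebraMap_toAlgebra, hcw]
    simp
  · simp only [CommRingCat.hom_comp, CommRingCat.hom_ofHom, RingHom.comp_apply]
    show (Scheme.ΓSpecIso (CommRingCat.of k)).hom (Polynomial.aeval _ Polynomial.X) =
      Polynomial.aeval _ Polynomial.X
    rw [Polynomial.aeval_X, Polynomial.aeval_X]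
    have hψ : ∀ r : k, (Scheme.ΓSpecIso (CommRingCat.of k)).hom.hom
        (algebraMap k Γ(Spec (CommRingCat.of k), ⊤) r) = algebraMap k k r := fun r => by
      rw [RingHom.algebraMap_toAlgebra, hcw]
      simp
    let ψ : Γ(Spec (CommRingCat.of k), ⊤) →ₐ[k] k :=
      { (Scheme.ΓSpecIso (CommRingCat.of k)).hom.hom with commutes' := hψ }
    show ψ _ = _
    rw [coeff_natural]
    congr 1
    refine Over.OverMorphism.ext ?_
    show Spec.map (Scheme.ΓSpecIso (CommRingCat.of k)).hom ≫ (Spec (CommRingCat.of k)).isoSpec.inv ≫ c = c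
    rw [SpecMap_ΓSpecIso_hom, Scheme.toSpecΓ_isoSpec_inv_assoc]

/-- Over an algebraically closed field k, let G be an algebraic group (a smooth k-group scheme of finite
type) and M a rational G-module, not necessarily finite-dimensional: a k-vector space with a
G-module structure (points of G with values in a k-algebra B act B-linearly on B ⊗ M, naturally in
B) such that every vector lies in a finite-dimensional subspace N with B ⊗ N stable under all
B-points of G. If the representation is faithful, in the sense that every rational point of G acting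
as the identity on M is the identity element, then G is affine. -/
theorem result (k : Type u) [Field k] [IsAlgClosed k]
    (G : Over (Spec (CommRingCat.of k))) [GrpObj G] [Smooth G.hom] [QuasiCompact G.hom]
    (M : Type u) [AddCommGroup M] [Module k M] (m : VecGrp.GMod G M)
    (hlf : ∀ v : M, ∃ N : Submodule k M, v ∈ N ∧ Module.Finite k ↥N ∧
      ∀ (B : Type u) [CommRing B] [Algebra k B] (g : VecGrp.pt k B ⟶ G) (x : VecGrp.W k M B),
        x ∈ Submodule.baseChange B N → m.ρ B g x ∈ Submodule.baseChange B N)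
    (hfaith : ∀ g : VecGrp.pt k k ⟶ G, m.ρ k g = 1 → g = 1) :
    IsAffine G.left := by
  have : CompactSpace G.left := (quasiCompact_iff_compactSpace G.hom).1 inferInstance
  have : IsSeparated G.hom := GrpdLib.GrpOver.isSeparated_hom G
  let H : Over (Spec (CommRingCat.of k)) :=
    Over.mk (Spec.map ((Scheme.ΓSpecIso (CommRingCat.of k)).inv ≫ G.hom.appTop))
  let j : G ⟶ H := Over.homMk G.left.toSpecΓ (by
    simp only [H, Over.mk_hom]
    rw [Spec.map_comp, ← Scheme.toSpecΓ_naturality_assoc, toSpecΓ_SpecMap_ΓSpecIso_inv,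
      Category.comp_id])
  have : IsAffine H.left := inferInstanceAs (IsAffine (Spec Γ(G.left, ⊤)))
  have : IsAffineHom H.hom := isAffineHom_of_isAffine _
  have : LocallyOfFiniteType G.hom := inferInstance
  have : QuasiCompact (j.left ≫ H.hom) := by rw [Over.w j]; infer_instance
  have : QuasiCompact j.left := QuasiCompact.of_comp j.left H.hom
  have : LocallyOfFiniteType (j.left ≫ H.hom) := by rw [Over.w j]; infer_instance
  have : LocallyOfFiniteType j.left := locallyOfFiniteType_of_comp j.left H.hom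
  have : IsSeparated (j.left ≫ H.hom) := by rw [Over.w j]; infer_instance
  have : IsSeparated j.left := IsSeparated.of_comp j.left H.hom
  have hpt : ∀ g h : VecGrp.pt k k ⟶ G, g.left ≫ j.left = h.left ≫ j.left → g = h := by
    intro g h e
    refine inv_mul_eq_one.1 (hfaith _ ?_)
    have hρ : m.ρ k g = m.ρ k h := by
      apply LinearEquiv.toLinearMap_injective
      refine TensorProduct.AlgebraTensorModule.curry_injective (LinearMap.ext fun c => LinearMap.ext fun v => ?_)
      show m.ρ k g (c ⊗ₜ[k] v) = m.ρ k h (c ⊗ₜ[k] v)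
      rw [show c ⊗ₜ[k] v = (c • ((1 : k) ⊗ₜ[k] v) : k ⊗[k] M) by rw [TensorProduct.smul_tmul', smul_eq_mul, _root_.mul_one],
        map_smul, map_smul]
      congr 1
      apply (TensorProduct.lid k M).injective
      rw [← sub_eq_zero, ← Module.forall_dual_apply_eq_zero_iff k]
      intro l
      obtain ⟨f, hf⟩ := exists_coeffHom m v l
      have h1 : coeff m v l k g = coeff m v l k h := by
        have h2 : g.left ≫ f = h.left ≫ f := by
          have hf' : f = j.left ≫ Spec.map f.appTop ≫ (Spec (CommRingCat.of (Polynomial k))).isoSpec.inv := by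
            show f = G.left.toSpecΓ ≫ _
            rw [← Scheme.toSpecΓ_naturality_assoc, Scheme.toSpecΓ_isoSpec_inv, Category.comp_id]
          rw [hf', ← Category.assoc, ← Category.assoc h.left, e]
        rw [hf, hf] at h2
        have h3 := congrArg (fun r => r.hom Polynomial.X) (Spec.map_injective h2)
        simpa using h3
      have hl : ∀ x : k ⊗[k] M, Algebra.TensorProduct.rid k k k (l.baseChange k x) = l (TensorProduct.lid k M x) := by
        intro x
        induction x using TensorProduct.induction_on with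
        | zero => simp
        | add p q hp hq => simp only [map_add, hp, hq]
        | tmul p q => simp [mul_comm]
      rw [coeff, coeff, hl, hl] at h1
      rw [map_sub, sub_eq_zero]
      exact h1
    rw [map_mul, map_inv, hρ, inv_mul_cancel]
  have : UniversallyInjective j.left := by
    rw [UniversallyInjective.iff_diagonal]
    refine ⟨fun x => ?_⟩
    let P := Limits.pullback j.left j.left
    let w : P ⟶ Spec (CommRingCat.of k) := Limits.pullback.fst j.left j.left ≫ G.hom
    have : LocallyOfFiniteType w := inferInstance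
    have : JacobsonSpace P := LocallyOfFiniteType.jacobsonSpace w
    have hsub : closedPoints P ⊆ Set.range (Limits.pullback.diagonal j.left) := by
      intro p hp
      let q := (pointEquivClosedPoint w).symm ⟨p, hp⟩
      have hqw : q.1 ≫ w = 𝟙 _ := q.2
      have halg : Spec.map (CommRingCat.ofHom (algebraMap k k)) = 𝟙 _ := by
        rw [Algebra.algebraMap_self, CommRingCat.ofHom_id, Spec.map_id]
      let g : VecGrp.pt k k ⟶ G := Over.homMk (q.1 ≫ Limits.pullback.fst _ _) (by
        rw [Category.assoc]; exact hqw.trans halg.symm)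
      let h : VecGrp.pt k k ⟶ G := Over.homMk (q.1 ≫ Limits.pullback.snd _ _) (by
        rw [Category.assoc]
        refine Eq.trans ?_ (hqw.trans halg.symm)
        show q.1 ≫ _ = q.1 ≫ _ ≫ G.hom
        rw [← Over.w j, Limits.pullback.condition_assoc])
      have e := congrArg (fun r => Over.Hom.left r) (hpt g h (by
        show (q.1 ≫ _) ≫ j.left = (q.1 ≫ _) ≫ j.left
        rw [Category.assoc, Category.assoc, Limits.pullback.condition]))
      have e' : q.1 ≫ Limits.pullback.fst j.left j.left = q.1 ≫ Limits.pullback.snd j.left j.left := e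
      have hq : (q.1 ≫ Limits.pullback.fst _ _) ≫ Limits.pullback.diagonal j.left = q.1 :=
        Limits.pullback.hom_ext (by simp) (by simpa using e')
      refine ⟨(q.1 ≫ Limits.pullback.fst _ _) (IsLocalRing.closedPoint k), ?_⟩
      show ((q.1 ≫ Limits.pullback.fst _ _) ≫ Limits.pullback.diagonal j.left) (IsLocalRing.closedPoint k) = p
      rw [hq]
      exact pointOfClosedPoint_apply w p hp _
    have h2 := closure_minimal hsub (Limits.pullback.diagonal j.left).isClosedEmbedding.isClosed_range
    rw [closure_closedPoints] at h2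
    exact h2 (Set.mem_univ x)
  obtain ⟨T, jT, π, _, _, _, -⟩ := Groth.Agent.S0385.result j.left
  have : IsAffine T := isAffine_of_isAffineHom π
  have : G.left.IsQuasiAffine := Scheme.IsQuasiAffine.of_isImmersion jT
  exact GrpScheme.QuasiAffine.isAffine G

end Groth.Agent.S11416
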