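import Groth.Statements.S11418
import Groth.Agent.GrpdLib.GrpOver

set_option autoImplicit false
universe u
open CategoryTheory MonoidalCategory CartesianMonoidalCategory MonObj GrpObj AlgebraicGeometry CategoryTheory.Limits
open AlgGrp

namespace Groth.Agent.S11418

open Groth.Agent.GrpdLib.GrpOver Groth.Agent.GrpScheme.Basic

/-- Over an algebraically closed field k, let G be an affine algebraic group (smooth affine k-group
scheme of finite type) and π : X → Y a principal G-bundle of k-schemes of finite type: G acts on X,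
π is G-invariant, faithfully flat, and the square formed by the action, the second projection G × X
→ X and π is cartesian. Then the map θ sending a G-equivariant morphism f : X → G (for the
conjugation action on G, i.e. f(g·x) = g f(x) g⁻¹ on points) to the automorphism x ↦ f(x)·x is a
bijection onto the bundle automorphisms: every G-equivariant automorphism φ of X with π ∘ φ = π
equals θ(f) for exactly one such f. -/
theorem result (k : Type u) [Field k] [IsAlgClosed k]
    (G X Y : Over (Spec (CommRingCat.of k))) [GrpObj G] [Smooth G.hom] [QuasiCompact G.hom] [IsAffine G.left]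
    [LocallyOfFiniteType X.hom] [QuasiCompact X.hom] [LocallyOfFiniteType Y.hom] [QuasiCompact Y.hom]
    (a : AlgGrp.Action G X) (π : X ⟶ Y) (hinv : a.act ≫ π = snd G X ≫ π) [Flat π.left] [Surjective π.left]
    (hcart : IsPullback (snd G X) a.act π π)
    (φ : X ≅ X) (hφ : φ.hom ≫ π = π) (hφeq : (G ◁ φ.hom) ≫ a.act = a.act ≫ φ.hom) :
    ∃! f : X ⟶ G, (∀ (S : Over (Spec (CommRingCat.of k))) (g : S ⟶ G) (x : S ⟶ X),
        lift g x ≫ a.act ≫ f = g * (x ≫ f) * g⁻¹) ∧ φ.hom = lift f (𝟙 X) ≫ a.act := by
  have w : 𝟙 X ≫ π = φ.hom ≫ π := by rw [hφ, Category.id_comp]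
  have key : ∀ {S : Over (Spec (CommRingCat.of k))} (g g' : S ⟶ G) (x : S ⟶ X),
      smul a g x = smul a g' x → g = g' := by
    intro S g g' x h
    have := hcart.hom_ext (show lift g x ≫ snd G X = lift g' x ≫ snd G X by simp) h
    simpa using congrArg (· ≫ fst G X) this
  have hl : hcart.lift (𝟙 X) φ.hom w = lift (hcart.lift (𝟙 X) φ.hom w ≫ fst G X) (𝟙 X) := by
    refine CartesianMonoidalCategory.hom_ext _ _ (by simp) ?_
    simp [hcart.lift_fst]
  set f := hcart.lift (𝟙 X) φ.hom w ≫ fst G X
  have hf : φ.hom = lift f (𝟙 X) ≫ a.act := by rw [← hl, hcart.lift_snd]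
  refine ⟨f, ⟨fun S g x ↦ ?_, hf⟩, fun f' ⟨_, hf'⟩ ↦ key f' f (𝟙 X) (hf'.symm.trans hf)⟩
  have hx : ∀ {T : Over (Spec (CommRingCat.of k))} (y : T ⟶ X), y ≫ φ.hom = smul a (y ≫ f) y := by
    intro T y
    rw [hf]
    exact (comp_smul a y f (𝟙 X)).trans (by rw [Category.comp_id])
  have hg : smul a g x ≫ φ.hom = smul a g (x ≫ φ.hom) := by
    have := lift g x ≫= hφeq
    rw [lift_whiskerLeft_assoc] at this
    simpa [smul] using this.symm
  rw [hx, hx, ← mul_smul', ← mul_smul'] at hg
  exact eq_mul_inv_of_mul_eq (key _ _ x hg)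

end Groth.Agent.S11418
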