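import Groth.Statements.S11420
import Groth.Agent.AbRigid.Blanchard
import Groth.Agent.AbRigid.GroupIrreducible
import Groth.Agent.GITLib.RigidGroup
-- import your own Groth.Agent.* helpers here

set_option autoImplicit false
universe u
open CategoryTheory MonoidalCategory CartesianMonoidalCategory MonObj GrpObj AlgebraicGeometry CategoryTheory.Limits
open AlgGrp

namespace Groth.Agent.S11420

set_option backward.isDefEq.respectTransparency.types false

open Groth.Agent.AbRigid Groth.Agent.AbRigid.Blanchard in
/-- The structure morphism of a complete variety is a contraction. -/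
theorem isContraction_hom {k : Type u} [Field k] [IsAlgClosed k] (X : Over (Spec (CommRingCat.of k)))
    [IsProper X.hom] [IsIntegral X.left] : IsContraction X.hom := by
  have : Subsingleton ↥(Spec (CommRingCat.of k)) := inferInstanceAs (Subsingleton (PrimeSpectrum k))
  refine ⟨inferInstance, ⟨fun s => ⟨Nonempty.some inferInstance, Subsingleton.elim _ _⟩⟩, fun V => ?_⟩
  rcases (V : Set ↥(Spec (CommRingCat.of k))).eq_empty_or_nonempty with h | ⟨s, hs⟩
  · obtain rfl : V = ⊥ := TopologicalSpace.Opens.ext h
    have : Subsingleton Γ(Spec (CommRingCat.of k), ⊥) :=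
      CommRingCat.subsingleton_of_isTerminal (Spec (CommRingCat.of k)).sheaf.isTerminalOfEmpty
    have : Subsingleton Γ(X.left, X.hom ⁻¹ᵁ ⊥) :=
      CommRingCat.subsingleton_of_isTerminal (X.left.sheaf.isTerminalOfEqEmpty rfl)
    exact ⟨Function.injective_of_subsingleton _, fun z => ⟨0, Subsingleton.elim _ _⟩⟩
  · obtain rfl : V = ⊤ := top_le_iff.1 fun t _ => Subsingleton.elim s t ▸ hs
    exact Groth.Agent.GITLib.Rigid.bijective_appTop X.hom

open Groth.Agent.AbRigid Groth.Agent.AbRigid.Blanchard in
theorem isContraction_fst {k : Type u} [Field k] [IsAlgClosed k] (X Y : Over (Spec (CommRingCat.of k)))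
    [IsProper Y.hom] [IsIntegral Y.left] : IsContraction (fst X Y).left :=
  (isContraction_hom Y).baseChange (g := X.hom) (IsPullback.of_hasPullback X.hom Y.hom).flip

open Groth.Agent.AbRigid Groth.Agent.AbRigid.Blanchard in
theorem isContraction_snd {k : Type u} [Field k] [IsAlgClosed k] (X Y : Over (Spec (CommRingCat.of k)))
    [IsProper X.hom] [IsIntegral X.left] : IsContraction (snd X Y).left :=
  (isContraction_hom X).baseChange (g := Y.hom) (IsPullback.of_hasPullback X.hom Y.hom)

/-- Over an algebraically closed field k, let X and Y be complete varieties (proper, integral, separated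
k-schemes of finite type) and let a connected k-group scheme of finite type G act on X × Y. Then
there are unique actions of G on X and on Y such that the given action is the product action g·(x,
y) = (g·x, g·y). (This is the form, for actions of connected group schemes, of the identification of
the neutral component of the automorphism group scheme of X × Y with the product of those of X and
Y; the representability of these group schemes is not asserted here.) -/
theorem result (k : Type u) [Field k] [IsAlgClosed k]
    (G X Y : Over (Spec (CommRingCat.of k))) [GrpObj G] [LocallyOfFiniteType G.hom] [QuasiCompact G.hom] [ConnectedSpace ↥G.left]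
    [IsProper X.hom] [IsIntegral X.left]
    [IsProper Y.hom] [IsIntegral Y.left]
    (a : AlgGrp.Action G (X ⊗ Y)) :
    ∃ (b : AlgGrp.Action G X) (c : AlgGrp.Action G Y),
      a.act = lift ((G ◁ fst X Y) ≫ b.act) ((G ◁ snd X Y) ≫ c.act) ∧
      ∀ (b' : AlgGrp.Action G X) (c' : AlgGrp.Action G Y),
        a.act = lift ((G ◁ fst X Y) ≫ b'.act) ((G ◁ snd X Y) ≫ c'.act) → b' = b ∧ c' = c := by
  open Groth.Agent.AbRigid Groth.Agent.AbRigid.Blanchard in
  haveI : GeometricallyIrreducible G.hom := geometricallyIrreducible G
  haveI h1 : IsProper (fst X Y).left := (isContraction_fst X Y).proper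
  haveI h2 : IsProper (snd X Y).left := (isContraction_snd X Y).proper
  have hf : ∀ U, IsIso ((fst X Y).left.app U) := fun U =>
    (ConcreteCategory.isIso_iff_bijective _).mpr ((isContraction_fst X Y).bij U)
  have hs : ∀ U, IsIso ((snd X Y).left.app U) := fun U =>
    (ConcreteCategory.isIso_iff_bijective _).mpr ((isContraction_snd X Y).bij U)
  obtain ⟨b, hb⟩ := exists_action hf a (apply_eq_of_irreducible hf a)
  obtain ⟨c, hc⟩ := exists_action hs a (apply_eq_of_irreducible hs a)
  refine ⟨b, c, CartesianMonoidalCategory.hom_ext _ _ ?_ ?_, fun b' c' h => ⟨?_, ?_⟩⟩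
  · rw [lift_fst, hb]
  · rw [lift_snd, hc]
  · exact unique_action hf b' b (by rw [hb, h, lift_fst])
  · exact unique_action hs c' c (by rw [hc, h, lift_snd])

end Groth.Agent.S11420
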