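import Groth.Statements.S14578
import Groth.Agent.GrpdLib.AntiAffineRigid

set_option autoImplicit false
universe u
open CategoryTheory MonoidalCategory CartesianMonoidalCategory MonObj GrpObj AlgebraicGeometry CategoryTheory.Limits
open AlgGrp

namespace Groth.Agent.S14578

/-- Let k be a field, H an anti-affine k-group scheme of finite type (its only global functions are the
constants), G a k-group scheme of finite type and f : H → G a morphism of k-schemes with f(e_H) =
e_G. Then f is a homomorphism. (The second assertion, that f factors through the centre of the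
neutral component of G, is not restated here.) -/
theorem result (k : Type u) [Field k]
    (H G : Over (Spec (CommRingCat.of k))) [GrpObj H] [GrpObj G] [LocallyOfFiniteType H.hom] [QuasiCompact H.hom]
    [LocallyOfFiniteType G.hom] [QuasiCompact G.hom]
    (hH : Function.Bijective ((Scheme.ΓSpecIso (CommRingCat.of k)).inv ≫ H.hom.appTop).hom) (f : H ⟶ G) (hf : η[H] ≫ f = η[G]) : IsMonHom f := by
  have := GrpdLib.AntiAffineRigid.connectedSpace_of_antiAffine hH
  let φ : H ⊗ H ⟶ G := (μ[H] ≫ f) * ((fst H H ≫ f) * (snd H H ≫ f))⁻¹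
  have hf' : ∀ T : Over (Spec (CommRingCat.of k)), (1 : T ⟶ H) ≫ f = 1 := fun T => by
    rw [Hom.one_def, Category.assoc, hf, ← Hom.one_def]
  have hv : ∀ {T : Over (Spec (CommRingCat.of k))} (a b : T ⟶ H),
      lift a b ≫ φ = ((a * b) ≫ f) * ((a ≫ f) * (b ≫ f))⁻¹ := fun a b => by
    simp only [φ, comp_mul, GrpObj.comp_inv, lift_fst_assoc, lift_snd_assoc]
    rw [Hom.mul_def a b, Category.assoc]
  have h1 : (H ◁ η[H]) ≫ φ = 1 := by
    have e : H ◁ η[H] = lift (fst H (𝟙_ _)) 1 := by
      refine CartesianMonoidalCategory.hom_ext _ _ (by simp) ?_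
      simp only [whiskerLeft_snd, lift_snd, Hom.one_def, toUnit_unique (snd H (𝟙_ _)) (toUnit _)]
    rw [e, hv, _root_.mul_one, hf', _root_.mul_one, mul_inv_cancel]
  have h2 : lift (toUnit H ≫ η[H]) (𝟙 H) ≫ φ = 1 := by
    rw [← Hom.one_def, hv, _root_.one_mul, hf', _root_.one_mul, mul_inv_cancel]
  have h := GrpdLib.AntiAffineRigid.eq_one hH φ h1 h2
  refine ⟨hf, ?_⟩
  rw [mul_inv_eq_one] at h
  rw [h, MonObj.mul_eq_mul, comp_mul, tensorHom_fst, tensorHom_snd]

end Groth.Agent.S14578
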