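import Groth.Statements.S11421
import Groth.Agent.GrpdLib.AntiAffineRigid
import Groth.Agent.S14578
import Mathlib.AlgebraicGeometry.AlgClosed.Basic

set_option autoImplicit false
universe u
open CategoryTheory MonoidalCategory CartesianMonoidalCategory MonObj GrpObj AlgebraicGeometry CategoryTheory.Limits
open AlgGrp

namespace Groth.Agent.S11421

/-- Over an algebraically closed field k, let G be an algebraic group (smooth k-group scheme of finite
type) whose only global functions are the constants, H a connected algebraic group, S a connected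
k-scheme of finite type and f : G × S → H a morphism of k-schemes. Then there are a unique
k-morphism φ : S → H and a unique homomorphism ψ : G → H with f(g, s) = φ(s) · ψ(g) on points. (This
is the decomposition, over a connected base, behind the identification of the functor of morphisms
from G to H with H × Hom_gp(G, H); the published statement is the equivalence of representability of
that functor with anti-affineness of G, whose converse direction is not stated here.) -/
theorem result (k : Type u) [Field k] [IsAlgClosed k]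
    (G H S : Over (Spec (CommRingCat.of k))) [GrpObj G] [Smooth G.hom] [QuasiCompact G.hom]
    (hG : Function.Bijective ((Scheme.ΓSpecIso (CommRingCat.of k)).inv ≫ G.hom.appTop).hom)
    [GrpObj H] [Smooth H.hom] [QuasiCompact H.hom] [ConnectedSpace ↥H.left]
    [LocallyOfFiniteType S.hom] [QuasiCompact S.hom] [ConnectedSpace ↥S.left]
    (f : G ⊗ S ⟶ H) :
    ∃ (φ : S ⟶ H) (ψ : G ⟶ H), IsMonHom ψ ∧ f = (snd G S ≫ φ) * (fst G S ≫ ψ) ∧
      ∀ (φ' : S ⟶ H) (ψ' : G ⟶ H), IsMonHom ψ' → f = (snd G S ≫ φ') * (fst G S ≫ ψ') → φ' = φ ∧ ψ' = ψ := by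
  have := GrpdLib.AntiAffineRigid.isIso_appTop hG
  have : CompactSpace G.left := (quasiCompact_iff_compactSpace G.hom).1 inferInstance
  have : CompactSpace S.left := (quasiCompact_iff_compactSpace S.hom).1 inferInstance
  have : IsLocallyNoetherian G.left := LocallyOfFiniteType.isLocallyNoetherian G.hom
  have : IsLocallyNoetherian S.left := LocallyOfFiniteType.isLocallyNoetherian S.hom
  have : QuasiSeparated G.hom := inferInstance
  have : IsSeparated H.hom := GrpdLib.GrpOver.isSeparated_hom H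
  obtain ⟨p, -, hp⟩ := (isClosed_univ (X := S.left)).exists_closed_singleton Set.univ_nonempty
  let q := (pointEquivClosedPoint S.hom).symm ⟨p, hp⟩
  let s₀ : 𝟙_ (Over (Spec (CommRingCat.of k))) ⟶ S := Over.homMk q.1 q.2
  let φ : S ⟶ H := lift 1 (𝟙 S) ≫ f
  let ψ : G ⟶ H := (toUnit G ≫ s₀ ≫ φ)⁻¹ * (lift (𝟙 G) (toUnit G ≫ s₀) ≫ f)
  have hφs : s₀ ≫ φ = lift 1 s₀ ≫ f := by
    simp only [φ, comp_lift_assoc, MonObj.comp_one, Category.comp_id]
  have hψe : η[G] ≫ ψ = η[H] := by
    have e : η[G] ≫ toUnit G = 𝟙 _ := toUnit_unique _ _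
    simp only [ψ, comp_mul, GrpObj.comp_inv, reassoc_of% e, comp_lift_assoc, Category.comp_id]
    rw [hφs, show (1 : 𝟙_ (Over (Spec (CommRingCat.of k))) ⟶ G) = η[G] by
      rw [Hom.one_def, toUnit_unique (toUnit (𝟙_ _)) (𝟙 _), Category.id_comp], inv_mul_cancel, Hom.one_def,
      toUnit_unique (toUnit (𝟙_ _)) (𝟙 _), Category.id_comp]
  have hψ : IsMonHom ψ := Groth.Agent.S14578.result k G H hG ψ hψe
  have key : f = (snd G S ≫ φ) * (fst G S ≫ ψ) := by
    let d : G ⊗ S ⟶ H := (snd G S ≫ φ)⁻¹ * f * (fst G S ≫ ψ)⁻¹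
    have hd : ∀ {T : Over (Spec (CommRingCat.of k))} (g : T ⟶ G) (s : T ⟶ S),
        lift g s ≫ d = (s ≫ φ)⁻¹ * (lift g s ≫ f) * (g ≫ ψ)⁻¹ := fun g s => by
      simp only [d, comp_mul, GrpObj.comp_inv, lift_fst_assoc, lift_snd_assoc]
    have h1 : lift (toUnit S ≫ η[G]) (𝟙 S) ≫ d = 1 := by
      rw [← Hom.one_def, hd, MonObj.one_comp, inv_one, _root_.mul_one, Category.id_comp, inv_mul_cancel]
    have h2 : (G ◁ s₀) ≫ d = 1 := by
      have e : G ◁ s₀ = lift (fst G (𝟙_ _)) (toUnit _ ≫ s₀) := by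
        refine CartesianMonoidalCategory.hom_ext _ _ (by simp) ?_
        simp only [whiskerLeft_snd, lift_snd, toUnit_unique (snd G (𝟙_ _)) (toUnit _)]
      have e2 : fst G (𝟙_ _) ≫ ψ = (toUnit _ ≫ s₀ ≫ φ)⁻¹ * (lift (fst G (𝟙_ _)) (toUnit _ ≫ s₀) ≫ f) := by
        simp only [ψ, comp_mul, GrpObj.comp_inv, comp_toUnit_assoc, comp_lift_assoc, Category.comp_id]
      rw [e, hd, e2, Category.assoc, mul_inv_cancel]
    have ha : GrpdLib.AntiAffineRigid.Agree d (GrpdLib.AntiAffineRigid.cst η[G] d)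
        (GrpdLib.AntiAffineRigid.unitPt ≫ s₀) := by
      refine GrpdLib.AntiAffineRigid.Agree.precomp ?_ _
      rw [GrpdLib.AntiAffineRigid.Agree, h2, GrpdLib.AntiAffineRigid.cst, h1, MonObj.comp_one, MonObj.comp_one]
    have hd1 := GrpdLib.AntiAffineRigid.eq_cst _ ha
    rw [GrpdLib.AntiAffineRigid.cst, h1, MonObj.comp_one, mul_inv_eq_one, inv_mul_eq_iff_eq_mul] at hd1
    exact hd1
  refine ⟨φ, ψ, hψ, key, fun φ' ψ' _ h' => ?_⟩
  have h1 : φ' = φ := by
    have := congrArg (lift (1 : S ⟶ G) (𝟙 S) ≫ ·) h'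
    simp only [comp_mul, lift_fst_assoc, lift_snd_assoc, MonObj.one_comp, Category.id_comp, _root_.mul_one] at this
    exact this.symm
  subst h1
  refine ⟨rfl, ?_⟩
  have := congrArg (lift (𝟙 G) (toUnit G ≫ s₀) ≫ ·) (h'.symm.trans key)
  simp only [comp_mul, lift_fst_assoc, lift_snd_assoc, Category.id_comp] at this
  exact mul_left_cancel this

end Groth.Agent.S11421
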