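import Groth.Statements.S11423
import Groth.Agent.GrpdLib.AntiAffineRigid
import Mathlib.AlgebraicGeometry.AlgClosed.Basic

set_option autoImplicit false
universe u
open CategoryTheory MonoidalCategory CartesianMonoidalCategory MonObj GrpObj AlgebraicGeometry CategoryTheory.Limits
open AlgGrp

namespace Groth.Agent.S11423

/-- Over an algebraically closed field k, let G be a connected affine algebraic group (smooth, affine,
connected k-group scheme of finite type), A an abelian variety (proper, smooth, connected k-group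
scheme) and π : X → A a principal G-bundle of k-schemes of finite type (G acts on X, π is
G-invariant and faithfully flat, and the square formed by the action, the second projection and π is
cartesian). Suppose π is trivialized by an anti-affine extension of A: there are an algebraic group
𝒢 whose only global functions are the constants, a flat surjective homomorphism φ : 𝒢 → A with
affine kernel, and a morphism σ : 𝒢 → X with π ∘ σ = φ (a section of the pulled-back bundle). Then π
is homogeneous: for every rational point a of A there is a G-equivariant automorphism of X over the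
translation of A by a. (The published statement is the equivalence; only this direction is stated
here.) -/
theorem result (k : Type u) [Field k] [IsAlgClosed k]
    (G X A : Over (Spec (CommRingCat.of k))) [GrpObj G] [Smooth G.hom] [QuasiCompact G.hom] [IsAffine G.left] [ConnectedSpace ↥G.left]
    [LocallyOfFiniteType X.hom] [QuasiCompact X.hom]
    [GrpObj A] [IsProper A.hom] [Smooth A.hom] [ConnectedSpace ↥A.left]
    (a : AlgGrp.Action G X) (π : X ⟶ A) (hinv : a.act ≫ π = snd G X ≫ π) [Flat π.left] [Surjective π.left]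
    (hcart : IsPullback (snd G X) a.act π π)
    (E : Over (Spec (CommRingCat.of k))) [GrpObj E] [Smooth E.hom] [QuasiCompact E.hom]
    (hE : Function.Bijective ((Scheme.ΓSpecIso (CommRingCat.of k)).inv ≫ E.hom.appTop).hom)
    (φ : E ⟶ A) [IsMonHom φ] [Flat φ.left] [Surjective φ.left]
    (Hk : Over (Spec (CommRingCat.of k))) [GrpObj Hk] (h : Hk ⟶ E) [IsMonHom h] (hk : AlgGrp.IsKernel h φ) [IsAffine Hk.left]
    (σ : E ⟶ X) (hσ : σ ≫ π = φ)
    (t : 𝟙_ (Over (Spec (CommRingCat.of k))) ⟶ A) :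
    ∃ ψ : X ≅ X, (G ◁ ψ.hom) ≫ a.act = a.act ≫ ψ.hom ∧
      ψ.hom ≫ π = π ≫ (lift (𝟙 A) (toUnit A ≫ t) ≫ μ[A]) := by
  have := GrpdLib.AntiAffineRigid.isIso_appTop hE
  have : CompactSpace E.left := (quasiCompact_iff_compactSpace E.hom).1 inferInstance
  have : CompactSpace Hk.left := inferInstance
  have : IsLocallyNoetherian E.left := LocallyOfFiniteType.isLocallyNoetherian E.hom
  have : QuasiSeparated E.hom := inferInstance
  have : IsAffineHom Hk.hom := isAffineHom_of_isAffine _
  -- a rational point over t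
  obtain ⟨e₀, he₀⟩ : ∃ e₀ : 𝟙_ (Over (Spec (CommRingCat.of k))) ⟶ E, e₀ ≫ φ = t := by
    have : IsClosedImmersion (t.left ≫ A.hom) := by
      rw [Over.w t]; exact inferInstanceAs (IsClosedImmersion (𝟙 _))
    have : IsClosedImmersion t.left := IsClosedImmersion.of_comp t.left A.hom
    let y : A.left := t.left (IsLocalRing.closedPoint k)
    have hy : IsClosed ({y} : Set A.left) := by
      convert t.left.isClosedEmbedding.isClosed_range using 1
      ext q
      refine ⟨fun hq => ⟨IsLocalRing.closedPoint k, hq.symm⟩, ?_⟩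
      rintro ⟨w, rfl⟩
      exact congrArg t.left (Subsingleton.elim (α := PrimeSpectrum k) w _)
    obtain ⟨p, hp, hp'⟩ := (hy.preimage φ.left.continuous).exists_closed_singleton
      (φ.left.surjective y)
    let q := (pointEquivClosedPoint E.hom).symm ⟨p, hp'⟩
    refine ⟨Over.homMk q.1 q.2, Over.OverMorphism.ext (ext_of_apply_closedPoint_eq A.hom (Over.w _) (Over.w t) ?_)⟩
    show φ.left (q.1 (IsLocalRing.closedPoint k)) = y
    rw [show q.1 (IsLocalRing.closedPoint k) = p from pointOfClosedPoint_apply E.hom p hp' _]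
    exact hp
  -- the cocycle only depends on the kernel
  have hkφ : ∀ {T : Over (Spec (CommRingCat.of k))} (u : T ⟶ Hk), (u ≫ h) ≫ φ = 1 :=
    fun u => GrpdLib.GrpOver.comp_kernel_comp hk u
  have hσm : ∀ {T : Over (Spec (CommRingCat.of k))} (u : T ⟶ Hk) (e : T ⟶ E),
      (e ≫ σ) ≫ π = (((u ≫ h) * e) ≫ σ) ≫ π := fun u e => by
    rw [Category.assoc, Category.assoc, hσ, MonObj.mul_comp, hkφ, _root_.one_mul]
  let p := hcart.lift (snd Hk E ≫ σ) (((fst Hk E ≫ h) * snd Hk E) ≫ σ) (hσm _ _)
  let c : Hk ⊗ E ⟶ G := p ≫ fst G X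
  have hpc : p = lift c (snd Hk E ≫ σ) :=
    CartesianMonoidalCategory.hom_ext _ _ (lift_fst _ _).symm ((hcart.lift_fst _ _ _).trans (lift_snd _ _).symm)
  have : IsIso (fst Hk E).left.appTop :=
    (GrpScheme.QuasiAffine.isPushout_tensor Hk E).flip.isIso_inr_of_isIso
  let c' : Hk ⟶ G := GrpScheme.QuasiAffine.extend (fst Hk E) c
  have hc : ∀ {T : Over (Spec (CommRingCat.of k))} (u : T ⟶ Hk) (e : T ⟶ E),
      GrpScheme.Basic.smul a (u ≫ c') (e ≫ σ) = ((u ≫ h) * e) ≫ σ := fun u e => by
    have h1 := congrArg (lift u e ≫ ·) (hcart.lift_snd (snd Hk E ≫ σ) (((fst Hk E ≫ h) * snd Hk E) ≫ σ) (hσm _ _))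
    change lift u e ≫ p ≫ a.act = _ at h1
    rw [hpc, ← GrpScheme.QuasiAffine.comp_extend (fst Hk E) c] at h1
    simp only [comp_lift_assoc, lift_fst_assoc, lift_snd_assoc] at h1
    rw [← Category.assoc (lift u e), MonObj.comp_mul, lift_fst_assoc, lift_snd] at h1
    exact h1
  -- the cover of X
  let θ : G ⊗ E ⟶ X := (G ◁ σ) ≫ a.act
  have hθ : ∀ {T : Over (Spec (CommRingCat.of k))} (g : T ⟶ G) (e : T ⟶ E),
      lift g e ≫ θ = GrpScheme.Basic.smul a g (e ≫ σ) := fun g e => by
    simp only [θ, lift_whiskerLeft_assoc, GrpScheme.Basic.smul]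
  have hsq : IsPullback θ (snd G E) π φ := by
    rw [← hσ]
    exact (GrpScheme.Basic.isPullback_whiskerLeft σ).paste_horiz hcart.flip
  have : QuasiCompact φ.left := GrpdLib.GrpOver.quasiCompact_left φ
  have : Flat θ.left := MorphismProperty.of_isPullback (GrpdLib.GrpOver.isPullback_left hsq).flip ‹Flat φ.left›
  have : Surjective θ.left := MorphismProperty.of_isPullback (GrpdLib.GrpOver.isPullback_left hsq).flip ‹Surjective φ.left›
  have : QuasiCompact θ.left := MorphismProperty.of_isPullback (GrpdLib.GrpOver.isPullback_left hsq).flip ‹QuasiCompact φ.left›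
  have shift : ∀ v : 𝟙_ (Over (Spec (CommRingCat.of k))) ⟶ E, ∃ ψ : X ⟶ X, ∀ {T : Over (Spec (CommRingCat.of k))}
      (g : T ⟶ G) (e : T ⟶ E), GrpScheme.Basic.smul a g (e ≫ σ) ≫ ψ =
        GrpScheme.Basic.smul a g ((e * (toUnit T ≫ v)) ≫ σ) := by
    intro v
    let R : G ⊗ E ⟶ X := lift (fst G E) (snd G E * (toUnit _ ≫ v)) ≫ θ
    obtain ⟨ψ, hψ, -⟩ := GrpdLib.GrpOver.existsUnique_desc θ R fun T x y hxy => by
      have hl : ∀ z : T ⟶ G ⊗ E, z = lift (z ≫ fst G E) (z ≫ snd G E) := fun z =>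
        CartesianMonoidalCategory.hom_ext _ _ (lift_fst _ _).symm (lift_snd _ _).symm
      have hx : ∀ z : T ⟶ G ⊗ E, z ≫ R = GrpScheme.Basic.smul a (z ≫ fst G E)
          (((z ≫ snd G E) * (toUnit T ≫ v)) ≫ σ) := fun z => by
        simp only [R, hθ, GrpScheme.Basic.comp_smul]
        rw [← Category.assoc, MonObj.comp_mul, comp_toUnit_assoc]
      rw [hl x, hl y, hθ, hθ] at hxy
      have he : (x ≫ snd G E) ≫ φ = (y ≫ snd G E) ≫ φ := by
        have := congrArg (· ≫ π) hxy
        simp only [GrpScheme.Basic.smul, Category.assoc, hinv, lift_snd_assoc, hσ] at this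
        simpa only [Category.assoc] using this
      obtain ⟨u, hu⟩ := GrpdLib.GrpOver.kernel_factor hk ((y ≫ snd G E) * (x ≫ snd G E)⁻¹)
        (by rw [MonObj.mul_comp, GrpObj.inv_comp, he, mul_inv_cancel])
      have hy : y ≫ snd G E = (u ≫ h) * (x ≫ snd G E) := by rw [hu, inv_mul_cancel_right]
      rw [hy, ← hc, ← GrpScheme.Basic.mul_smul'] at hxy
      have hg : x ≫ fst G E = (y ≫ fst G E) * (u ≫ c') := by
        have h2 : lift (x ≫ fst G E) ((x ≫ snd G E) ≫ σ) = lift ((y ≫ fst G E) * (u ≫ c')) ((x ≫ snd G E) ≫ σ) :=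
          hcart.hom_ext (by simp) hxy
        simpa using h2 =≫ fst G X
      rw [hx, hx, hy, _root_.mul_assoc (u ≫ h), ← hc, ← GrpScheme.Basic.mul_smul', hg]
    refine ⟨ψ, fun {T} g e => ?_⟩
    rw [← hθ, Category.assoc, hψ]
    simp only [R, hθ, GrpScheme.Basic.comp_smul]
    rw [← Category.assoc, MonObj.comp_mul, comp_toUnit_assoc, lift_fst, lift_snd]
  obtain ⟨ψ, hψ⟩ := shift e₀
  obtain ⟨ψ', hψ'⟩ := shift e₀⁻¹
  have hcover : θ = GrpScheme.Basic.smul a (fst G E) (snd G E ≫ σ) := by
    rw [← hθ, lift_fst_snd, Category.id_comp]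
  refine ⟨⟨ψ, ψ', ?_, ?_⟩, ?_, ?_⟩
  · refine GrpdLib.GrpOver.cancel_left θ ?_
    rw [hcover, ← Category.assoc, hψ, hψ', GrpObj.comp_inv, _root_.mul_inv_cancel_right, Category.comp_id]
  · refine GrpdLib.GrpOver.cancel_left θ ?_
    rw [hcover, ← Category.assoc, hψ', hψ, GrpObj.comp_inv, _root_.inv_mul_cancel_right, Category.comp_id]
  · have : Flat (G ◁ θ).left := GrpScheme.Basic.whiskerLeft_mem _ θ G inferInstance
    have : Surjective (G ◁ θ).left := GrpScheme.Basic.whiskerLeft_mem _ θ G inferInstance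
    have : QuasiCompact (G ◁ θ).left := GrpScheme.Basic.whiskerLeft_mem _ θ G inferInstance
    refine GrpdLib.GrpOver.cancel_left (G ◁ θ) ?_
    have e : G ◁ θ = lift (fst G (G ⊗ E)) (GrpScheme.Basic.smul a (snd G (G ⊗ E) ≫ fst G E) ((snd G (G ⊗ E) ≫ snd G E) ≫ σ)) := by
      refine CartesianMonoidalCategory.hom_ext _ _ (by simp) ?_
      rw [whiskerLeft_snd, lift_snd, ← hθ, ← comp_lift, lift_fst_snd, Category.comp_id]
    rw [e, lift_whiskerLeft_assoc, hψ]
    show GrpScheme.Basic.smul a _ (GrpScheme.Basic.smul a _ _) = lift _ _ ≫ a.act ≫ ψ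
    rw [← GrpScheme.Basic.mul_smul', ← Category.assoc (lift _ _)]
    show _ = GrpScheme.Basic.smul a _ (GrpScheme.Basic.smul a _ _) ≫ ψ
    rw [← GrpScheme.Basic.mul_smul', hψ]
  · refine GrpdLib.GrpOver.cancel_left θ ?_
    show θ ≫ ψ ≫ π = θ ≫ π ≫ _
    rw [hcover, ← Category.assoc, hψ]
    simp only [GrpScheme.Basic.smul, Category.assoc, hinv, lift_snd_assoc, hσ, MonObj.mul_comp]
    rw [← he₀, ← Hom.mul_def, MonObj.comp_mul, Category.comp_id, comp_toUnit_assoc, MonObj.comp_mul,
      MonObj.comp_mul, hinv, lift_snd_assoc, Category.assoc, hσ, comp_toUnit_assoc, comp_toUnit_assoc]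

end Groth.Agent.S11423
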