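import Groth.Statements.S11424
import Groth.Agent.GrpdLib.GrpOver
import Groth.Agent.FpqcDesc.Props

set_option autoImplicit false
universe u
open CategoryTheory MonoidalCategory CartesianMonoidalCategory MonObj GrpObj AlgebraicGeometry CategoryTheory.Limits
open AlgGrp

namespace Groth.Agent.S11424

open Groth.Agent.GrpdLib.GrpOver Groth.Agent.GrpScheme.Basic

theorem affine_fst {A B C : Scheme.{u}} (f : A ⟶ C) (g : B ⟶ C) (hg : IsAffineHom g) :
    IsAffineHom (Limits.pullback.fst f g) :=
  isAffineHom_isStableUnderBaseChange.of_isPullback (IsPullback.of_hasPullback f g).flip hg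

/-- Over an algebraically closed field k, let G be an algebraic group (a smooth k-group scheme of finite
type), h : H → G a smooth affine closed normal subgroup, and q : G → Q a flat surjective
homomorphism of k-group schemes of finite type with kernel h (so Q = G/H). Then the quotient
morphism q is affine. (The published statement is the equivalence between affineness of G and of
both H and G/H; this row states that the quotient morphism G → G/H is affine.) -/
theorem result (k : Type u) [Field k] [IsAlgClosed k]
    (G H Q : Over (Spec (CommRingCat.of k))) [GrpObj G] [Smooth G.hom] [QuasiCompact G.hom]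
    [GrpObj H] (h : H ⟶ G) [IsMonHom h] [IsClosedImmersion h.left] [Smooth H.hom] [IsAffine H.left]
    [GrpObj Q] [LocallyOfFiniteType Q.hom] [QuasiCompact Q.hom]
    (q : G ⟶ Q) [IsMonHom q] [Surjective q.left] [Flat q.left] (hk : AlgGrp.IsKernel h q) :
    IsAffineHom q.left := by
  have := quasiCompact_left q
  have hsq : IsPullback (fst G H) ((G ◁ h) ≫ μ[G]) q q := by
    have hmono := kernel_mono hk
    have hs : ∀ s : Limits.PullbackCone q q, (s.fst⁻¹ * s.snd) ≫ q = 1 := fun s ↦ by
      rw [MonObj.mul_comp, GrpObj.inv_comp, s.condition, inv_mul_cancel]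
    refine ⟨⟨?_⟩, ⟨Limits.PullbackCone.IsLimit.mk _
      (fun s ↦ lift s.fst (kernel_factor hk _ (hs s)).choose)
      (fun s ↦ lift_fst _ _) (fun s ↦ ?_) (fun s m h₁ h₂ ↦ ?_)⟩⟩
    · rw [mul_eq_mul, MonObj.comp_mul, MonObj.mul_comp, whiskerLeft_fst, whiskerLeft_snd,
        Category.assoc, kernel_comp hk, MonObj.comp_one, _root_.mul_one]
    · rw [mul_eq_mul, MonObj.comp_mul, MonObj.comp_mul, whiskerLeft_fst, whiskerLeft_snd,
        lift_fst, lift_snd_assoc, (kernel_factor hk _ (hs s)).choose_spec, mul_inv_cancel_left]
    · refine CartesianMonoidalCategory.hom_ext _ _ (by rw [h₁, lift_fst]) ?_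
      rw [lift_snd, ← cancel_mono h, (kernel_factor hk _ (hs s)).choose_spec]
      rw [mul_eq_mul, MonObj.comp_mul, MonObj.comp_mul, whiskerLeft_fst, whiskerLeft_snd, h₁] at h₂
      rw [← h₂, inv_mul_cancel_left, Category.assoc]
  have := Groth.Agent.FpqcDesc.descendsAlong_isAffineHom
  exact MorphismProperty.of_isPullback_of_descendsAlong (P := @IsAffineHom)
    (Q := @Surjective ⊓ @Flat ⊓ @QuasiCompact) (isPullback_left hsq)
    ⟨⟨inferInstance, inferInstance⟩, inferInstance⟩
    (affine_fst G.hom H.hom (isAffineHom_of_isAffine H.hom))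

end Groth.Agent.S11424
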