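import Groth.Statements.S1143
import Groth.Agent.FEtCat.Basic
import Groth.Agent.Hens.SplitIntClosure
-- import your own Groth.Agent.* helpers here

set_option autoImplicit false
universe u
open Pi1

namespace Groth.Agent.S1143

set_option linter.style.haveILetI false
set_option backward.isDefEq.respectTransparency.types false

open AlgebraicGeometry CategoryTheory CategoryTheory.Limits TensorProduct in
/-- A finite etale K-scheme that splits over L comes from a finite etale A-scheme (this is the
essential-image part of exactness of the sequence π₁(Spec L) → π₁(Spec K) → π₁(Spec A) → 1; the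
surjectivity and composition parts of the exact sequence are separate facts). Let A be a normal
local domain with fraction field K, let R be a strict henselization of A (with A → R local) and L a
fraction field of R, with compatible algebra structures (A → K → L and A → R → L agree). If V is
finite etale over Spec K and its base change to Spec L is split (a finite disjoint union of copies
of Spec L), then V is isomorphic to the restriction to Spec K of a finite etale cover Y of Spec A
(only the existence of such Y and of an isomorphism is asserted). -/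
theorem result (A : Type u) [CommRing A] [IsDomain A]
    [IsLocalRing A] [IsIntegrallyClosed A] (R : Type u) [CommRing R] [IsLocalRing R] [Algebra A R] [IsLocalHom (algebraMap A R)] [Hensel.IsStrictHenselization A R]
    (K L : Type u) [Field K] [Field L] [Algebra A K] [IsFractionRing A K] [Algebra R L] [IsFractionRing R L]
    [Algebra K L] [Algebra A L] [IsScalarTower A K L] [IsScalarTower A R L]
    (V : FEt.Cat (Spec (CommRingCat.of K)))
    (hV : Pi1.IsSplit ((FEt.restrict (Spec.map (CommRingCat.ofHom (algebraMap K L)))).obj V)) :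
    ∃ Y : FEt.Cat (Spec (CommRingCat.of A)),
      Nonempty ((FEt.restrict (Spec.map (CommRingCat.ofHom (algebraMap A K)))).obj Y ≅ V) := by
  classical
  obtain ⟨ι, hι, e₀, he₀⟩ := hV
  haveI : IsAffine V.left := isAffine_of_isAffineHom (show V.left ⟶ Spec (CommRingCat.of K) from V.hom)
  let E : Type u := Γ(V.left, ⊤)
  let ε : V.left ≅ Spec (CommRingCat.of E) := V.left.isoSpec
  let φ : CommRingCat.of K ⟶ CommRingCat.of E := Spec.preimage (ε.inv ≫ V.hom)
  letI : Algebra K E := φ.hom.toAlgebra
  letI : Algebra A E := (φ.hom.comp (algebraMap A K)).toAlgebra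
  haveI : IsScalarTower A K E := .of_algebraMap_eq' rfl
  have hφ : Spec.map (CommRingCat.ofHom (algebraMap K E)) = ε.inv ≫ V.hom := Spec.map_preimage _
  haveI : Module.Finite K E := by
    have h1 : IsFinite (Spec.map φ) := by rw [Spec.map_preimage]; infer_instance
    exact RingHom.finite_algebraMap.1 (IsFinite.SpecMap_iff φ |>.1 h1)
  -- the splitting as algebras
  let gL : Spec (CommRingCat.of L) ⟶ Spec (CommRingCat.of K) := Spec.map (CommRingCat.ofHom (algebraMap K L))
  let e₁ : pullback V.hom gL ≅ ∐ fun _ : ι => Spec (CommRingCat.of L) := e₀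
  have he₁ : ∀ i : ι, Sigma.ι (fun _ : ι => Spec (CommRingCat.of L)) i ≫ e₁.inv ≫ pullback.snd V.hom gL = 𝟙 _ := he₀
  let j₁ : Spec (CommRingCat.of (L ⊗[K] E)) ⟶ pullback V.hom gL :=
    (pullbackSpecIso K L E).inv ≫ pullback.lift (pullback.snd _ _ ≫ ε.inv) (pullback.fst _ _)
      (by rw [Category.assoc, ← hφ]; exact pullback.condition.symm)
  haveI : IsIso j₁ := by
    have h2 : IsPullback (pullback.snd gL (Spec.map (CommRingCat.ofHom (algebraMap K E))) ≫ ε.inv)
        (pullback.fst gL (Spec.map (CommRingCat.ofHom (algebraMap K E)))) V.hom gL := by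
      refine IsPullback.of_iso (IsPullback.of_hasPullback gL (Spec.map (CommRingCat.ofHom (algebraMap K E)))).flip
        (Iso.refl _) ε.symm (Iso.refl _) (Iso.refl _) ?_ ?_ ?_ ?_ <;> simp [hφ]
    haveI : IsIso (pullback.lift (pullback.snd gL (Spec.map (CommRingCat.ofHom (algebraMap K E))) ≫ ε.inv)
        (pullback.fst gL (Spec.map (CommRingCat.ofHom (algebraMap K E)))) h2.w) := h2.isoPullback.isIso_hom
    exact inferInstance
  let j₂ : Spec (CommRingCat.of (L ⊗[K] E)) ⟶ Spec (CommRingCat.of (ι → L)) :=
    j₁ ≫ e₁.hom ≫ sigmaSpec (fun _ : ι => CommRingCat.of L)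
  have hj₂ : j₂ ≫ Spec.map (CommRingCat.ofHom (algebraMap L (ι → L))) =
      Spec.map (CommRingCat.ofHom (algebraMap L (L ⊗[K] E))) := by
    have hs : sigmaSpec (fun _ : ι => CommRingCat.of L) ≫ Spec.map (CommRingCat.ofHom (algebraMap L (ι → L))) =
        e₁.inv ≫ pullback.snd V.hom gL := by
      refine Sigma.hom_ext _ _ fun i => ?_
      rw [he₁ i, ι_sigmaSpec_assoc, ← Spec.map_comp]
      exact Spec.map_id _
    simp only [j₂, Category.assoc, hs, Iso.hom_inv_id_assoc]
    simp only [j₁, Category.assoc, pullback.lift_snd]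
    exact pullbackSpecIso_inv_fst' K L E
  let ψc : CommRingCat.of (ι → L) ⟶ CommRingCat.of (L ⊗[K] E) := Spec.preimage j₂
  haveI : IsIso ψc := by
    haveI : IsIso (Scheme.Spec.map ψc.op) := by
      change IsIso (Spec.map ψc)
      rw [Spec.map_preimage]
      infer_instance
    exact (isIso_op_iff ψc).1 (isIso_of_fully_faithful Scheme.Spec ψc.op)
  let ψ : L ⊗[K] E ≃ₐ[L] (ι → L) := AlgEquiv.symm (AlgEquiv.ofRingEquiv
    (f := (asIso ψc).commRingCatIsoToRingEquiv) fun l => by
      have h1 : CommRingCat.ofHom (algebraMap L (ι → L)) ≫ ψc = CommRingCat.ofHom (algebraMap L (L ⊗[K] E)) :=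
        Spec.map_injective (by rw [Spec.map_comp, Spec.map_preimage, hj₂])
      exact congrArg (fun m => m.hom l) h1)
  -- transport to the strict henselization
  have hR := Groth.Agent.Hensel.isEtLike_of_isStrictHenselization A R
  let μL : K ⊗[A] R →ₐ[K] L := Algebra.TensorProduct.lift (Algebra.ofId K L) (IsScalarTower.toAlgHom A R L)
    fun _ _ => Commute.all _ _
  have hμL : ∀ r, μL (1 ⊗ₜ r) = algebraMap R L r := fun r => by simp [μL]
  let eL : K ⊗[A] R ≃ₐ[K] L := AlgEquiv.ofBijective μL
    (Groth.Agent.Hens.SplitIntClosure.bijective_lift_fractionRing hR K L μL hμL)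
  let Φ₀ : R ⊗[A] E ≃+* (ι → L) :=
    (((Algebra.TensorProduct.comm A R E).toRingEquiv.trans
      (Algebra.TensorProduct.cancelBaseChange A K K E R).symm.toRingEquiv).trans
      ((Algebra.TensorProduct.congr AlgEquiv.refl eL).trans (Algebra.TensorProduct.comm K E L)).toRingEquiv).trans
      ψ.toRingEquiv
  have hΦ₀ : ∀ r : R, Φ₀ (r ⊗ₜ 1) = algebraMap R (ι → L) r := fun r => by
    change ψ ((Algebra.TensorProduct.comm K E L) ((Algebra.TensorProduct.congr AlgEquiv.refl eL)
      ((Algebra.TensorProduct.cancelBaseChange A K K E R).symm ((1 : E) ⊗ₜ r)))) = _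
    rw [Algebra.TensorProduct.cancelBaseChange_symm_tmul, Algebra.TensorProduct.congr_apply,
      Algebra.TensorProduct.map_tmul, Algebra.TensorProduct.comm_tmul]
    change ψ (μL (1 ⊗ₜ r) ⊗ₜ (1 : E)) = _
    rw [hμL, show algebraMap R L r ⊗ₜ[K] (1 : E) = algebraMap L (L ⊗[K] E) (algebraMap R L r) from rfl,
      ψ.commutes]
    rfl
  let Φ : R ⊗[A] E →ₐ[R] (ι → L) := { Φ₀.toRingHom with commutes' := hΦ₀ }
  obtain ⟨hBf, hBe⟩ := Groth.Agent.Hens.SplitIntClosure.finite_etale_integralClosure hR E L ι Φ Φ₀.bijective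
  -- the cover
  let B := integralClosure A E
  let g : Spec (CommRingCat.of B) ⟶ Spec (CommRingCat.of A) := Spec.map (CommRingCat.ofHom (algebraMap A B))
  haveI : IsFinite g := (IsFinite.SpecMap_iff _).2 (RingHom.finite_algebraMap.2 hBf)
  haveI : Etale g := (HasRingHomProperty.Spec_iff (P := @Etale)).2 (RingHom.etale_algebraMap.2 hBe)
  refine ⟨Groth.Agent.FEtCat.Basic.mk g, ?_⟩
  let μE : K ⊗[A] B →ₐ[K] E := Algebra.TensorProduct.lift (Algebra.ofId K E) B.val fun _ _ => Commute.all _ _
  have hμE : ∀ b : B, μE (1 ⊗ₜ b) = b := fun b => by simp [μE]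
  let eE : K ⊗[A] B ≃ₐ[K] E := AlgEquiv.ofBijective μE
    (Groth.Agent.Hens.SplitIntClosure.bijective_lift_integralClosure K E μE hμE)
  let gK : Spec (CommRingCat.of K) ⟶ Spec (CommRingCat.of A) := Spec.map (CommRingCat.ofHom (algebraMap A K))
  let k₁ : pullback g gK ≅ V.left :=
    (pullbackSymmetry g gK).trans ((pullbackSpecIso A K B).trans
      ((Scheme.Spec.mapIso eE.toRingEquiv.toCommRingCatIso.op.symm).trans ε.symm))
  have hk : k₁.hom ≫ V.hom = pullback.snd g gK := by
    have h1 : CommRingCat.ofHom (algebraMap K E) ≫ eE.toRingEquiv.toCommRingCatIso.inv =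
        CommRingCat.ofHom (algebraMap K (K ⊗[A] B)) := by
      ext k
      exact (AlgEquiv.symm_apply_eq eE).2 (eE.commutes k).symm
    change ((pullbackSymmetry g gK).hom ≫ (pullbackSpecIso A K B).hom ≫
      Spec.map eE.toRingEquiv.toCommRingCatIso.inv ≫ ε.inv) ≫ V.hom = _
    rw [Category.assoc, Category.assoc, Category.assoc, ← hφ, ← Spec.map_comp, h1,
      pullbackSpecIso_hom_fst']
    exact pullbackSymmetry_hom_comp_fst g gK
  let k : (FEt.restrict gK).obj (Groth.Agent.FEtCat.Basic.mk g) ⟶ V := Groth.Agent.FEtCat.Basic.homMk k₁.hom hk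
  haveI : IsIso k.left := k₁.isIso_hom
  haveI := Groth.Agent.FEtCat.Basic.isIso_of_left k
  exact ⟨asIso k⟩

end Groth.Agent.S1143
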