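import Groth.Statements.S11435
import Groth.Agent.GITLib.RatOrbit
import Groth.Agent.FpqcDesc.Props
-- import your own Groth.Agent.* helpers here

set_option autoImplicit false
universe u
open CategoryTheory MonoidalCategory CartesianMonoidalCategory MonObj GrpObj AlgebraicGeometry Topology
open GIT

set_option backward.isDefEq.respectTransparency false

namespace Groth.Agent.S11435

open CategoryTheory.Limits

variable {k : Type u} [Field k] {G X : Over (Spec (CommRingCat.of k))} [GrpObj G]

theorem psi_eq (a : AlgGrp.Action G X) (x : 𝟙_ (Over (Spec (CommRingCat.of k))) ⟶ X) :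
    GIT.psi a x = fst G (𝟙_ (Over (Spec (CommRingCat.of k)))) ≫ a.orbitMap x ≫ lift (𝟙 X) (toUnit X) := by
  refine CartesianMonoidalCategory.hom_ext _ _ ?_ (toUnit_unique _ _)
  rw [GIT.psi, lift_fst, Category.assoc, Category.assoc, lift_fst, Category.comp_id]
  show _ = fst G _ ≫ lift (𝟙 G) (toUnit G ≫ x) ≫ a.act
  rw [comp_lift_assoc, Category.comp_id]
  congr 1
  refine CartesianMonoidalCategory.hom_ext _ _ (by simp) ?_
  rw [whiskerLeft_snd, lift_snd, ← Category.assoc]
  congr 1
  exact toUnit_unique _ _

theorem isIso_unitLift (X : Over (Spec (CommRingCat.of k))) :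
    IsIso (lift (𝟙 X) (toUnit X) : X ⟶ X ⊗ 𝟙_ (Over (Spec (CommRingCat.of k)))).left := by
  have : lift (𝟙 X) (toUnit X) = (ρ_ X).inv :=
    CartesianMonoidalCategory.hom_ext _ _ (by simp) (toUnit_unique _ _)
  rw [this]
  infer_instance

theorem isIso_unitFst (X : Over (Spec (CommRingCat.of k))) :
    IsIso (fst X (𝟙_ (Over (Spec (CommRingCat.of k))))).left := by
  have : fst X (𝟙_ (Over (Spec (CommRingCat.of k)))) = (ρ_ X).hom :=
    (CartesianMonoidalCategory.rightUnitor_hom X).symm
  rw [this]
  infer_instance

theorem isProper_orbit [LocallyOfFiniteType G.hom] [QuasiCompact G.hom] [LocallyOfFiniteType X.hom]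
    (a : AlgGrp.Action G X) (x : 𝟙_ (Over (Spec (CommRingCat.of k))) ⟶ X)
    (hc : IsClosed (Set.range (a.orbitMap x).left))
    {N : Over (Spec (CommRingCat.of k))} [GrpObj N] (i : N ⟶ G) [IsMonHom i]
    (hN : IsPullback i (toUnit N) (a.orbitMap x) x) (hp : IsProper N.hom) :
    IsProper (a.orbitMap x).left := by
  have := GITLib.RatOrbit.isClosedImmersion_rat x
  obtain ⟨Z, b, y, f, ⟨hlft, hflat, hsurj, hsq⟩, -, -, horb, himm⟩ :=
    GITLib.RatOrbit.exists_quotient_orbit a x i hN
  have hr : Set.range f.left = Set.range (a.orbitMap x).left := by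
    rw [← horb, Over.comp_left]
    exact (hsurj.surj.range_comp f.left).symm
  have hfc : IsClosedImmersion f.left :=
    IsClosedImmersion.of_isPreimmersion _ (hr ▸ hc)
  have hpf : IsProper (fst G N).left := by
    rw [Over.fst_left]
    exact MorphismProperty.pullback_fst _ _ hp
  have hqc : QuasiCompact (b.orbitMap y).left := GrpdLib.GrpOver.quasiCompact_left (b.orbitMap y)
  have := FpqcDesc.descendsAlong_isProper.{u}
  have hpp : IsProper (b.orbitMap y).left :=
    MorphismProperty.of_isPullback_of_descendsAlong (P := @IsProper) (Q := FpqcDesc.FPQC)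
      (GrpdLib.GrpOver.isPullback_left hsq.flip).flip ⟨⟨hsurj, hflat⟩, hqc⟩ hpf
  rw [← horb, Over.comp_left]
  infer_instance


/-- Over an algebraically closed field k, let a group scheme G of finite type act on a scheme X of
finite type and let x be a k-rational point of X. Then the orbit morphism ψ_x : G × Spec k → X ×
Spec k, g ↦ (g · x, pt), is proper if and only if the orbit of x (the image of ψ_x) is closed and
the stabilizer of x (the fibre of ψ_x over (x, pt)) is proper over k. -/
theorem result (k : Type u) [Field k] [IsAlgClosed k]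
    (G X : Over (Spec (CommRingCat.of k))) [GrpObj G] [LocallyOfFiniteType G.hom] [QuasiCompact G.hom]
    [LocallyOfFiniteType X.hom] [QuasiCompact X.hom] (a : AlgGrp.Action G X)
    (x : 𝟙_ (Over (Spec (CommRingCat.of k))) ⟶ X) :
    IsProper (GIT.psi a x).left ↔
      IsClosed (Set.range (GIT.psi a x).left.base) ∧
        IsProper (Limits.pullback.snd (GIT.psi a x).left (lift x (𝟙 (𝟙_ (Over (Spec (CommRingCat.of k)))))).left ≫
          (𝟙_ (Over (Spec (CommRingCat.of k)))).hom) := by
  have i1 := isIso_unitFst G
  have i2 := isIso_unitLift X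
  have hψ := psi_eq a x
  have hx : lift x (𝟙 (𝟙_ (Over (Spec (CommRingCat.of k))))) = x ≫ lift (𝟙 X) (toUnit X) := by
    rw [comp_lift, Category.comp_id]
    congr 1
    exact toUnit_unique _ _
  constructor
  · intro h
    refine ⟨(GIT.psi a x).left.isClosedMap.isClosed_range, ?_⟩
    have : IsProper (pullback.snd (GIT.psi a x).left
        (lift x (𝟙 (𝟙_ (Over (Spec (CommRingCat.of k)))))).left) :=
      MorphismProperty.pullback_snd _ _ h
    show IsProper (_ ≫ 𝟙 _)
    rw [Category.comp_id]
    exact this
  · rintro ⟨hc, hs⟩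
    have := GITLib.RatOrbit.isClosedImmersion_rat x
    obtain ⟨N, _, i, _, hi, hiff⟩ := GITLib.RatOrbit.exists_stab_grp a x
    have : Mono i.left := inferInstance
    have : Mono i := Over.mono_of_mono_left i
    have ho : ∀ {T : Over (Spec (CommRingCat.of k))} (g : T ⟶ G),
        g ≫ a.orbitMap x = lift g (toUnit T ≫ x) ≫ a.act := fun g => by
      show g ≫ lift (𝟙 G) (toUnit G ≫ x) ≫ a.act = _
      rw [comp_lift_assoc, Category.comp_id, comp_toUnit_assoc]
    have hw : i ≫ a.orbitMap x = toUnit N ≫ x := (ho i).trans ((hiff i).mpr ⟨𝟙 N, Category.id_comp _⟩)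
    have hN : IsPullback i (toUnit N) (a.orbitMap x) x := by
      refine ⟨⟨hw⟩, ⟨PullbackCone.IsLimit.mk hw
        (fun s => ((hiff s.fst).mp (by rw [← ho, s.condition, toUnit_unique s.snd (toUnit _)])).choose)
        (fun s => ((hiff s.fst).mp (by rw [← ho, s.condition, toUnit_unique s.snd (toUnit _)])).choose_spec)
        (fun s => toUnit_unique _ _)
        (fun s m hm _ => ?_)⟩⟩
      rw [← cancel_mono i, hm]
      exact (((hiff s.fst).mp (by rw [← ho, s.condition, toUnit_unique s.snd (toUnit _)])).choose_spec).symm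
    have hL := GrpdLib.GrpOver.isPullback_left hN
    have hP : IsPullback (i.left ≫ inv (fst G (𝟙_ (Over (Spec (CommRingCat.of k))))).left) (toUnit N).left
        (GIT.psi a x).left (lift x (𝟙 (𝟙_ (Over (Spec (CommRingCat.of k)))))).left := by
      refine IsPullback.of_iso hL (Iso.refl _) (asIso (fst G (𝟙_ (Over (Spec (CommRingCat.of k))))).left).symm
        (Iso.refl _) (asIso (lift (𝟙 X) (toUnit X) : X ⟶ _).left) ?_ ?_ ?_ ?_
      · simp
      · simp
      · rw [hψ]
        simp only [Over.comp_left, Iso.symm_hom, asIso_inv, asIso_hom, IsIso.inv_hom_id_assoc]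
      · rw [hx]
        simp only [Over.comp_left, Iso.refl_hom, Category.id_comp, asIso_hom]
    have hp : IsProper N.hom := by
      have e := hP.isoPullback_hom_snd
      have : IsProper (hP.isoPullback.hom ≫ pullback.snd (GIT.psi a x).left
          (lift x (𝟙 (𝟙_ (Over (Spec (CommRingCat.of k)))))).left ≫
          (𝟙_ (Over (Spec (CommRingCat.of k)))).hom) := inferInstance
      rwa [← Category.assoc, e, Over.w] at this
    have hr : Set.range (GIT.psi a x).left.base =
        (lift (𝟙 X) (toUnit X) : X ⟶ _).left '' Set.range (a.orbitMap x).left := by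
      rw [hψ, Over.comp_left, Over.comp_left]
      show Set.range ((_ : _ → _) ∘ (_ : _ → _) ∘ _) = _
      rw [← Set.range_comp, ← Function.comp_assoc]
      exact ((fst G (𝟙_ (Over (Spec (CommRingCat.of k))))).left.surjective).range_comp _
    have hco : IsClosed (Set.range (a.orbitMap x).left) := by
      rw [hr] at hc
      exact (Scheme.Hom.isClosedEmbedding (lift (𝟙 X) (toUnit X) : X ⟶ _).left).isClosed_iff_image_isClosed.mpr hc
    have hprop := isProper_orbit a x hco i hN hp
    rw [hψ, Over.comp_left, Over.comp_left]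
    infer_instance

end Groth.Agent.S11435
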