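import Groth.Statements.S1144
import Groth.Agent.FEtCat.Basic
import Groth.Agent.Hens.SplitExtend
import Mathlib.AlgebraicGeometry.Morphisms.Flat
-- import your own Groth.Agent.* helpers here

set_option autoImplicit false
universe u
open Pi1

namespace Groth.Agent.S1144

set_option linter.style.haveILetI false
set_option backward.isDefEq.respectTransparency.types false

open AlgebraicGeometry CategoryTheory CategoryTheory.Limits TensorProduct

theorem bijective_iff_of_localization {B C B' C' : Type u} [CommRing B] [CommRing C] [CommRing B'] [CommRing C']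
    [Algebra B B'] [Algebra C C'] (b : B) (g : B →+* C) [IsLocalization.Away b B']
    [IsLocalization.Away (g b) C'] (φ : B' →+* C') (hφ : ∀ x, φ (algebraMap B B' x) = algebraMap C C' (g x)) :
    Function.Bijective φ ↔ (∀ x, g x = 0 → ∃ N : ℕ, b ^ N * x = 0) ∧
      ∀ y, ∃ (N : ℕ) (x : B), g x = g b ^ N * y := by
  constructor
  · rintro ⟨hi, hs⟩
    refine ⟨fun x hx => ?_, fun y => ?_⟩
    · have h0 : algebraMap B B' x = 0 := hi (by rw [hφ, hx, map_zero, map_zero])
      obtain ⟨⟨_, N, rfl⟩, hN⟩ := (IsLocalization.map_eq_zero_iff (Submonoid.powers b) B' x).1 h0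
      exact ⟨N, hN⟩
    · obtain ⟨z, hz⟩ := hs (algebraMap C C' y)
      obtain ⟨N, a, ha⟩ := IsLocalization.Away.surj b z
      have h1 : algebraMap C C' (g b ^ N * y) = algebraMap C C' (g a) := by
        rw [← hφ, ← ha, map_mul φ, hz, map_pow φ, hφ, map_mul, map_pow, mul_comm]
      obtain ⟨⟨_, M, rfl⟩, hM⟩ := (IsLocalization.eq_iff_exists (Submonoid.powers (g b)) C').1 h1
      refine ⟨M + N, b ^ M * a, ?_⟩
      change g b ^ M * (g b ^ N * y) = g b ^ M * g a at hM
      rw [map_mul, map_pow, ← hM, pow_add, mul_assoc]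
  · rintro ⟨hk, hc⟩
    have hu : ∀ n : ℕ, IsUnit (algebraMap C C' (g b) ^ n) := fun n =>
      (IsLocalization.Away.algebraMap_isUnit (g b)).pow n
    refine ⟨(injective_iff_map_eq_zero _).2 fun z hz => ?_, fun z => ?_⟩
    · obtain ⟨N, a, ha⟩ := IsLocalization.Away.surj b z
      have h1 : algebraMap C C' (g a) = 0 := by rw [← hφ, ← ha, map_mul, hz, zero_mul]
      obtain ⟨⟨_, M, rfl⟩, hM⟩ := (IsLocalization.map_eq_zero_iff (Submonoid.powers (g b)) C' _).1 h1
      obtain ⟨K, hK⟩ := hk (b ^ M * a) (by rw [map_mul, map_pow]; exact hM)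
      have h2 : algebraMap B B' a = 0 := by
        refine (IsLocalization.map_eq_zero_iff (Submonoid.powers b) B' a).2 ⟨⟨_, K + M, rfl⟩, ?_⟩
        change b ^ (K + M) * a = 0
        rw [pow_add, mul_assoc, hK]
      rw [h2] at ha
      exact ((IsLocalization.Away.algebraMap_isUnit b).pow N).mul_left_eq_zero.1 ha
    · obtain ⟨N, c, hc'⟩ := IsLocalization.Away.surj (g b) z
      obtain ⟨M, x, hx⟩ := hc c
      let v := ((IsLocalization.Away.algebraMap_isUnit (S := B') b).pow (N + M)).unit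
      refine ⟨algebraMap B B' x * ↑v⁻¹, ?_⟩
      have hv : φ (↑v⁻¹) * algebraMap C C' (g b) ^ (N + M) = 1 := by
        rw [← hφ, ← map_pow φ, ← map_mul, IsUnit.val_inv_mul, map_one]
      refine (hu (N + M)).mul_left_injective ?_
      change φ (_ * _) * algebraMap C C' (g b) ^ (N + M) = z * algebraMap C C' (g b) ^ (N + M)
      rw [map_mul, mul_assoc, hv, mul_one, hφ, hx, map_mul, map_pow, pow_add, ← mul_assoc z, hc', mul_comm]

theorem app_bijective_iff {X : Scheme.{u}} [CompactSpace X] [QuasiSeparatedSpace X] {B : Type u} [CommRing B]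
    (τ : X ⟶ Spec (CommRingCat.of B)) (b : B) (g : B →+* Γ(X, ⊤))
    (hg : g = ((Scheme.ΓSpecIso (CommRingCat.of B)).inv ≫ τ.appTop).hom) :
    Function.Bijective (τ.app ((Spec (CommRingCat.of B)).basicOpen ((Scheme.ΓSpecIso (CommRingCat.of B)).inv b))) ↔
      (∀ x, g x = 0 → ∃ N : ℕ, b ^ N * x = 0) ∧ ∀ y, ∃ (N : ℕ) (x : B), g x = g b ^ N * y := by
  have hpre : τ ⁻¹ᵁ (Spec (CommRingCat.of B)).basicOpen ((Scheme.ΓSpecIso (CommRingCat.of B)).inv b) = X.basicOpen (g b) := by
    rw [Scheme.preimage_basicOpen_top, hg]; rfl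
  letI : Algebra B Γ((Spec (CommRingCat.of B)), (Spec (CommRingCat.of B)).basicOpen ((Scheme.ΓSpecIso (CommRingCat.of B)).inv b)) :=
    ((Scheme.ΓSpecIso (CommRingCat.of B)).inv ≫ (Spec (CommRingCat.of B)).presheaf.map (homOfLE le_top).op).hom.toAlgebra
  letI : Algebra Γ(X, ⊤) Γ(X, τ ⁻¹ᵁ (Spec (CommRingCat.of B)).basicOpen ((Scheme.ΓSpecIso (CommRingCat.of B)).inv b)) := (X.presheaf.map (homOfLE le_top).op).hom.toAlgebra
  haveI : IsLocalization.Away b Γ((Spec (CommRingCat.of B)), (Spec (CommRingCat.of B)).basicOpen ((Scheme.ΓSpecIso (CommRingCat.of B)).inv b)) := by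
    letI alg2 : Algebra Γ((Spec (CommRingCat.of B)), ⊤) Γ((Spec (CommRingCat.of B)), (Spec (CommRingCat.of B)).basicOpen ((Scheme.ΓSpecIso (CommRingCat.of B)).inv b)) := ((Spec (CommRingCat.of B)).presheaf.map (homOfLE le_top).op).hom.toAlgebra
    haveI : IsLocalization.Away ((Scheme.ΓSpecIso (CommRingCat.of B)).inv b) Γ((Spec (CommRingCat.of B)), (Spec (CommRingCat.of B)).basicOpen ((Scheme.ΓSpecIso (CommRingCat.of B)).inv b)) :=
      isLocalization_basicOpen_of_qcqs (U := ⊤) isCompact_univ isQuasiSeparated_univ ((Scheme.ΓSpecIso (CommRingCat.of B)).inv b)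
    have h := IsLocalization.isLocalization_of_base_ringEquiv (Submonoid.powers ((Scheme.ΓSpecIso (CommRingCat.of B)).inv b))
      Γ((Spec (CommRingCat.of B)), (Spec (CommRingCat.of B)).basicOpen ((Scheme.ΓSpecIso (CommRingCat.of B)).inv b))
      (Scheme.ΓSpecIso (CommRingCat.of B)).commRingCatIsoToRingEquiv
    rw [Submonoid.map_powers] at h
    convert h using 1
    all_goals first
      | exact Algebra.algebra_ext _ _ fun _ => rfl
      | (congr 1; exact (congr($((Scheme.ΓSpecIso (CommRingCat.of B)).inv_hom_id) b)).symm)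
  haveI : IsLocalization.Away (g b) Γ(X, τ ⁻¹ᵁ (Spec (CommRingCat.of B)).basicOpen ((Scheme.ΓSpecIso (CommRingCat.of B)).inv b)) := by
    have key : ∀ (O : X.Opens) (_ : O = X.basicOpen (g b)), letI : Algebra Γ(X, ⊤) Γ(X, O) :=
        (X.presheaf.map (homOfLE le_top).op).hom.toAlgebra
        IsLocalization.Away (g b) Γ(X, O) := by
      rintro O rfl
      exact isLocalization_basicOpen_of_qcqs (U := ⊤) isCompact_univ isQuasiSeparated_univ (g b)
    exact key _ hpre
  refine bijective_iff_of_localization b g (τ.app ((Spec (CommRingCat.of B)).basicOpen ((Scheme.ΓSpecIso (CommRingCat.of B)).inv b))).hom fun x => ?_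
  rw [hg]
  change ((Scheme.ΓSpecIso (CommRingCat.of B)).inv ≫ (Spec (CommRingCat.of B)).presheaf.map _ ≫ τ.app _) x =
    ((Scheme.ΓSpecIso (CommRingCat.of B)).inv ≫ τ.appTop ≫ X.presheaf.map _) x
  rw [τ.naturality]
  rfl

theorem isIso_app_of_comp {X Y Z : Scheme.{u}} (k : X ⟶ Y) (j : Y ⟶ Z) (τ : X ⟶ Z) (hkj : k ≫ j = τ)
    (W : Z.Opens) [IsIso (j.app W)] (h : IsIso (τ.app W)) : IsIso (k.app (j ⁻¹ᵁ W)) := by
  subst hkj
  rw [Scheme.Hom.comp_app] at h
  exact @IsIso.of_isIso_comp_left _ _ _ _ _ (j.app W) (k.app (j ⁻¹ᵁ W)) _ h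

theorem eq_zero_or_one {X : Scheme.{u}} [PreconnectedSpace X] (e : Γ(X, ⊤)) (he : IsIdempotentElem e) :
    e = 0 ∨ e = 1 := by
  have hz : ∀ a : Γ(X, ⊤), IsIdempotentElem a → X.basicOpen a = ⊥ → a = 0 := by
    intro a ha hb
    refine TopCat.Presheaf.section_ext X.sheaf ⊤ a 0 fun x hx => ?_
    have h1 : IsIdempotentElem (X.presheaf.germ ⊤ x hx a) := ha.map (X.presheaf.germ ⊤ x hx).hom
    have h2 : ¬ IsUnit (X.presheaf.germ ⊤ x hx a) := fun hu => by
      have : x ∈ X.basicOpen a := (Scheme.mem_basicOpen _ _ _ hx).2 hu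
      rw [hb] at this
      exact this
    rw [map_zero]
    exact (IsLocalRing.isUnit_or_isUnit_one_sub_self _).elim (fun hu => absurd hu h2)
      fun hu => (hu.mul_left_eq_zero).1 h1.mul_one_sub_self
  have hdis : X.basicOpen e ⊓ X.basicOpen (1 - e) = ⊥ := by
    rw [← Scheme.basicOpen_mul, he.mul_one_sub_self, Scheme.basicOpen_zero]
  have hcov : ∀ x : X, x ∈ X.basicOpen e ∨ x ∈ X.basicOpen (1 - e) := fun x => by
    simp only [Scheme.mem_basicOpen_top, map_sub, map_one]
    exact IsLocalRing.isUnit_or_isUnit_one_sub_self _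
  have hcl : IsClopen (X.basicOpen e : Set X) := by
    refine ⟨⟨?_⟩, (X.basicOpen e).2⟩
    have : (X.basicOpen e : Set X)ᶜ = (X.basicOpen (1 - e) : Set X) := Set.ext fun x =>
      ⟨(hcov x).resolve_left, fun h h' => (hdis.le ⟨h', h⟩ : x ∈ (⊥ : X.Opens))⟩
    rw [this]
    exact (X.basicOpen (1 - e)).2
  rcases isClopen_iff.1 hcl with h | h
  · exact .inl (hz e he (TopologicalSpace.Opens.ext h))
  · refine .inr (sub_eq_zero.1 (hz _ he.one_sub ?_)).symm
    refine le_bot_iff.1 fun x hx => hdis.le ⟨?_, hx⟩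
    exact h.ge (Set.mem_univ x)

theorem exists_tensor_equiv {A R : Type u} [CommRing A] [CommRing R] [Algebra A R] [Module.Flat A R]
    {X : Scheme.{u}} [CompactSpace X] [QuasiSeparatedSpace X] (f : X ⟶ Spec (CommRingCat.of A))
    [Algebra A Γ(X, ⊤)]
    (hA : algebraMap A Γ(X, ⊤) = ((Scheme.ΓSpecIso (CommRingCat.of A)).inv ≫ f.appTop).hom) :
    ∃ E : R ⊗[A] Γ(X, ⊤) ≃+* Γ(pullback f (Spec.map (CommRingCat.ofHom (algebraMap A R))), ⊤),
      ∀ r : R, E (r ⊗ₜ 1) = ((Scheme.ΓSpecIso (CommRingCat.of R)).inv ≫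
        (pullback.snd f (Spec.map (CommRingCat.ofHom (algebraMap A R)))).appTop) r := by
  let q : Spec (CommRingCat.of R) ⟶ Spec (CommRingCat.of A) := Spec.map (CommRingCat.ofHom (algebraMap A R))
  haveI : Flat q := (HasRingHomProperty.Spec_iff (P := @Flat)).2 (RingHom.flat_algebraMap_iff.2 inferInstance)
  have H := IsPullback.of_hasPullback f q
  have hp := (isIso_pushoutSection_iff H (US := ⊤) (UT := ⊤) (UX := ⊤) (UY := ⊤) (by simp) (by simp) (by simp)).1
    (isIso_pushoutSection_of_isQuasiSeparated_of_flat_right H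
    (US := ⊤) (UT := ⊤) (UX := ⊤) (UY := ⊤) (by simp) (by simp) (by simp)
    (isAffineOpen_top _) (isAffineOpen_top _) isCompact_univ isQuasiSeparated_univ)
  simp only [← Scheme.Hom.app_eq_appLE, Scheme.Hom.appLE, homOfLE_refl, op_id, CategoryTheory.Functor.map_id,
    Category.comp_id] at hp
  let P := Γ(pullback f q, ⊤)
  letI : Algebra R P := ((Scheme.ΓSpecIso (CommRingCat.of R)).inv ≫ (pullback.snd f q).appTop).hom.toAlgebra
  letI : Algebra Γ(X, ⊤) P := (pullback.fst f q).appTop.hom.toAlgebra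
  letI : Algebra A P := (((Scheme.ΓSpecIso (CommRingCat.of A)).inv ≫ f.appTop) ≫ (pullback.fst f q).appTop).hom.toAlgebra
  haveI : IsScalarTower A Γ(X, ⊤) P := .of_algebraMap_eq fun x => by rw [hA]; rfl
  have hsq : CommRingCat.ofHom (algebraMap A R) ≫ (Scheme.ΓSpecIso (CommRingCat.of R)).inv =
      (Scheme.ΓSpecIso (CommRingCat.of A)).inv ≫ q.appTop := Scheme.ΓSpecIso_inv_naturality _
  haveI : IsScalarTower A R P := .of_algebraMap_eq' (congrArg CommRingCat.Hom.hom (show
      ((Scheme.ΓSpecIso (CommRingCat.of A)).inv ≫ f.appTop) ≫ (pullback.fst f q).appTop =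
        CommRingCat.ofHom (algebraMap A R) ≫ (Scheme.ΓSpecIso (CommRingCat.of R)).inv ≫ (pullback.snd f q).appTop by
      rw [reassoc_of% hsq, Category.assoc, ← Scheme.Hom.comp_appTop, ← Scheme.Hom.comp_appTop, pullback.condition]))
  haveI : Algebra.IsPushout A Γ(X, ⊤) R P := CommRingCat.isPushout_iff_isPushout.mp (by
    refine hp.of_iso (Scheme.ΓSpecIso (CommRingCat.of A)) (Iso.refl _) (Scheme.ΓSpecIso (CommRingCat.of R))
      (Iso.refl _) ?_ ?_ ?_ ?_
    · simp [hA]
    · exact (Scheme.ΓSpecIso_naturality _).symm ▸ rfl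
    · simp [RingHom.algebraMap_toAlgebra, Scheme.Hom.appTop, P]
    · simp [RingHom.algebraMap_toAlgebra, P])
  haveI : Algebra.IsPushout A R Γ(X, ⊤) P := Algebra.IsPushout.symm inferInstance
  refine ⟨(Algebra.IsPushout.equiv A R Γ(X, ⊤) P).toRingEquiv, fun r => ?_⟩
  exact (Algebra.IsPushout.equiv A R Γ(X, ⊤) P).commutes r

theorem sigma_appTop_bijective {ι : Type u} [Finite ι] (X : ι → Scheme.{u}) :
    Function.Bijective fun (a : Γ(∐ X, ⊤)) (i : ι) => (Sigma.ι X i).appTop a := by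
  refine ⟨fun a b hab => Scheme.OpenCover.ext_elem a b (sigmaOpenCover X) fun i => congrFun hab i, fun a => ?_⟩
  let P : CommRingCat.{u} := CommRingCat.of (∀ i, Γ(X i, ⊤))
  let d : ∐ X ⟶ Spec P := Sigma.desc fun i =>
    (X i).toSpecΓ ≫ Spec.map (CommRingCat.ofHom (Pi.evalRingHom (fun i => Γ(X i, ⊤)) i))
  refine ⟨d.appTop ((Scheme.ΓSpecIso P).inv a), funext fun i => ?_⟩
  change (d.appTop ≫ (Sigma.ι X i).appTop) ((Scheme.ΓSpecIso P).inv a) = a i
  rw [← Scheme.Hom.comp_appTop, Sigma.ι_desc, Scheme.Hom.comp_appTop, Scheme.toSpecΓ_appTop,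
    Scheme.ΓSpecIso_naturality]
  exact congrArg (fun t => (Pi.evalRingHom (fun i => Γ(X i, ⊤)) i) t)
    (congr($((Scheme.ΓSpecIso P).inv_hom_id) a))


set_option maxHeartbeats 300000 in
open AlgebraicGeometry CategoryTheory CategoryTheory.Limits TensorProduct in
/-- Let A be a local ring whose punctured spectrum U is quasi-compact, R a strict henselization of A
(with A → R a local homomorphism), and U' the base change of U to Spec R (the punctured spectrum of
R); assume U' is connected. If V is a finite etale cover of U whose base change to U' is split, then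
V is the restriction of a finite etale cover of Spec A (only the existence of such a cover Y
together with an isomorphism between its restriction to U and V is asserted). -/
theorem result (A : Type u) [CommRing A] [IsLocalRing A] (R : Type u) [CommRing R] [IsLocalRing R] [Algebra A R] [IsLocalHom (algebraMap A R)] [Hensel.IsStrictHenselization A R]
    [CompactSpace (FEt.puncturedSpec A : Scheme.{u})]
    (hc : ConnectedSpace ↑(pullback (FEt.puncturedSpec A).ι (Spec.map (CommRingCat.ofHom (algebraMap A R)))))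
    (V : FEt.Cat (FEt.puncturedSpec A : Scheme.{u}))
    (hV : Pi1.IsSplit ((FEt.restrict (pullback.fst (FEt.puncturedSpec A).ι (Spec.map (CommRingCat.ofHom (algebraMap A R))))).obj V)) :
    ∃ Y : FEt.Cat (Spec (CommRingCat.of A)), Nonempty ((FEt.restrict (FEt.puncturedSpec A).ι).obj Y ≅ V) := by
  classical
  obtain ⟨ι, hι, e₀, he₀⟩ := hV
  haveI := hc
  let U := FEt.puncturedSpec A
  let q : Spec (CommRingCat.of R) ⟶ Spec (CommRingCat.of A) := Spec.map (CommRingCat.ofHom (algebraMap A R))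
  have h := Groth.Agent.Hensel.isEtLike_of_isStrictHenselization A R
  haveI := h.flat
  haveI : HenselianLocalRing R := Hensel.IsStrictHenselization.henselian (R := A)
  haveI : IsSepClosed (IsLocalRing.ResidueField R) :=
    (Hensel.IsStrictHenselization.isSepClosure (R := A) (S := R)).sep_closed
  haveI : QuasiSeparatedSpace (U : Scheme.{u}) := quasiSeparatedSpace_of_quasiSeparated U.ι
  let hf : V.left ⟶ (U : Scheme.{u}) := V.hom
  haveI : IsFinite hf := V.prop.1
  haveI : CompactSpace V.left := QuasiCompact.compactSpace_of_compactSpace hf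
  haveI : QuasiSeparatedSpace V.left := quasiSeparatedSpace_of_quasiSeparated hf
  let fV : V.left ⟶ Spec (CommRingCat.of A) := hf ≫ U.ι
  letI : Algebra A Γ((U : Scheme.{u}), ⊤) := ((Scheme.ΓSpecIso (CommRingCat.of A)).inv ≫ U.ι.appTop).hom.toAlgebra
  letI : Algebra A Γ(V.left, ⊤) := ((Scheme.ΓSpecIso (CommRingCat.of A)).inv ≫ fV.appTop).hom.toAlgebra
  obtain ⟨EU, hEU⟩ := exists_tensor_equiv (R := R) U.ι rfl
  obtain ⟨EV, hEV⟩ := exists_tensor_equiv (R := R) fV rfl
  let U' := pullback U.ι q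
  let π : U' ⟶ (U : Scheme.{u}) := pullback.fst U.ι q
  let e₁ : pullback hf π ≅ ∐ fun _ : ι => U' := e₀
  have he₁ : ∀ i : ι, Sigma.ι (fun _ : ι => U') i ≫ e₁.inv ≫ pullback.snd hf π = 𝟙 U' := he₀
  let j : pullback fV q ≅ ∐ fun _ : ι => U' := (pullbackRightPullbackFstIso U.ι q hf).symm ≪≫ e₁
  have hj : ∀ i : ι, Sigma.ι (fun _ : ι => U') i ≫ j.inv ≫ pullback.snd fV q = pullback.snd U.ι q := by
    intro i
    simp only [j, Iso.trans_inv, Iso.symm_inv, Category.assoc]
    erw [pullbackRightPullbackFstIso_hom_snd]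
    rw [reassoc_of% he₁ i]
  -- the splitting on global sections
  haveI : IsIso j.inv.appTop := inferInstanceAs (IsIso (j.inv.app ⊤))
  let σ : Γ(pullback fV q, ⊤) →+* (ι → Γ(U', ⊤)) := Pi.ringHom fun i =>
    (j.inv.appTop ≫ (Sigma.ι (fun _ : ι => U') i).appTop).hom
  have hσ : Function.Bijective σ :=
    (sigma_appTop_bijective fun _ : ι => U').comp (ConcreteCategory.bijective_of_isIso j.inv.appTop)
  let Φ₀ : R ⊗[A] Γ(V.left, ⊤) ≃+* (ι → R ⊗[A] Γ((U : Scheme.{u}), ⊤)) :=
    (EV.trans (RingEquiv.ofBijective σ hσ)).trans (RingEquiv.piCongrRight fun _ => EU.symm)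
  have hΦ₀ : ∀ r : R, Φ₀ (r ⊗ₜ 1) = algebraMap R (ι → R ⊗[A] Γ((U : Scheme.{u}), ⊤)) r := fun r => funext fun i => by
    apply EU.injective
    change EU (EU.symm (σ (EV (r ⊗ₜ 1)) i)) = EU (r ⊗ₜ 1)
    rw [EU.apply_symm_apply, hEV, hEU]
    change ((Scheme.ΓSpecIso (CommRingCat.of R)).inv ≫ (pullback.snd fV q).appTop ≫ j.inv.appTop ≫
      (Sigma.ι (fun _ : ι => U') i).appTop) r = _
    rw [← Scheme.Hom.comp_appTop, ← Scheme.Hom.comp_appTop, Category.assoc, hj]
  let Φ : R ⊗[A] Γ(V.left, ⊤) ≃ₐ[R] (ι → R ⊗[A] Γ((U : Scheme.{u}), ⊤)) := AlgEquiv.ofRingEquiv (f := Φ₀) hΦ₀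
  have hidem : ∀ x : R ⊗[A] Γ((U : Scheme.{u}), ⊤), IsIdempotentElem x → x = 0 ∨ x = 1 := fun x hx => by
    haveI : PreconnectedSpace U' := hc.toPreconnectedSpace
    rcases eq_zero_or_one (EU x) (hx.map EU) with h0 | h1
    · exact .inl (EU.injective (h0.trans (map_zero EU).symm))
    · exact .inr (EU.injective (h1.trans (map_one EU).symm))
  have hmem : ∀ f ∈ IsLocalRing.maximalIdeal A, ∀ p : Spec (CommRingCat.of A),
      p ∈ (Spec (CommRingCat.of A)).basicOpen ((Scheme.ΓSpecIso (CommRingCat.of A)).inv f) → p ∈ U := by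
    intro f hf p hp
    rw [basicOpen_eq_of_affine] at hp
    intro hpm
    rw [show p = IsLocalRing.closedPoint A from hpm] at hp
    exact hp hf
  have hO : Groth.Agent.Hens.SplitExtend.IsPunctIso (Algebra.linearMap A Γ((U : Scheme.{u}), ⊤)) := by
    have key : ∀ f ∈ IsLocalRing.maximalIdeal A, Function.Bijective
        (U.ι.app ((Spec (CommRingCat.of A)).basicOpen ((Scheme.ΓSpecIso (CommRingCat.of A)).inv f))) := by
      intro f hf
      haveI := U.ι.isIso_app _ (fun p hp => (Scheme.Opens.range_ι U).ge (hmem f hf p hp))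
      exact ConcreteCategory.bijective_of_isIso _
    constructor
    · intro f hf x hx
      obtain ⟨N, hN⟩ := ((app_bijective_iff U.ι f _ rfl).1 (key f hf)).1 x hx
      exact ⟨N, hN⟩
    · intro f hf y
      obtain ⟨N, x, hx⟩ := ((app_bijective_iff U.ι f _ rfl).1 (key f hf)).2 y
      refine ⟨N, x, ?_⟩
      rw [Algebra.smul_def, map_pow]
      exact hx
  have hne : ∃ p : PrimeSpectrum A, p.asIdeal ≠ IsLocalRing.maximalIdeal A := by
    obtain ⟨p⟩ := hc.toNonempty
    exact ⟨(pullback.fst U.ι q p).1, fun h' => (pullback.fst U.ι q p).2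
      (show (pullback.fst U.ι q p).1 = IsLocalRing.closedPoint A from PrimeSpectrum.ext h')⟩
  obtain ⟨B, _, _, hBf, hBe, g, hg⟩ := Groth.Agent.Hens.SplitExtend.exists_finite_etale h hne
    Γ((U : Scheme.{u}), ⊤) Γ(V.left, ⊤) hO hidem ι Φ
  -- the cover
  let gB : Spec (CommRingCat.of B) ⟶ Spec (CommRingCat.of A) := Spec.map (CommRingCat.ofHom (algebraMap A B))
  haveI : IsFinite gB := (IsFinite.SpecMap_iff _).2 (RingHom.finite_algebraMap.2 hBf)
  haveI : Etale gB := (HasRingHomProperty.Spec_iff (P := @Etale)).2 (RingHom.etale_algebraMap.2 hBe)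
  let gc : CommRingCat.of B ⟶ Γ(V.left, ⊤) := CommRingCat.ofHom g.toRingHom
  obtain ⟨τ, hτdef⟩ : ∃ τ : V.left ⟶ Spec (CommRingCat.of B), τ = V.left.toSpecΓ ≫ Spec.map gc := ⟨_, rfl⟩
  have hτtop : (Scheme.ΓSpecIso (CommRingCat.of B)).inv ≫ τ.appTop = gc := by
    simp only [hτdef, Scheme.Hom.comp_appTop, Scheme.toSpecΓ_appTop, Scheme.ΓSpecIso_naturality, Iso.inv_hom_id_assoc]
  have hτ : τ ≫ gB = fV := by
    have h1 : CommRingCat.ofHom (algebraMap A B) ≫ gc = (Scheme.ΓSpecIso (CommRingCat.of A)).inv ≫ fV.appTop := by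
      ext a
      exact g.commutes a
    simp only [hτdef, gB, Category.assoc, ← Spec.map_comp]
    rw [h1, Spec.map_comp, ← Scheme.toSpecΓ_naturality_assoc, toSpecΓ_SpecMap_ΓSpecIso_inv, Category.comp_id]
  let k : V.left ⟶ pullback gB U.ι := pullback.lift τ hf hτ
  haveI : IsFinite k := by
    haveI : IsFinite (k ≫ pullback.snd gB U.ι) := by rw [pullback.lift_snd]; infer_instance
    exact IsFinite.of_comp k (pullback.snd gB U.ι)
  haveI : IsIso k := by
    refine IsZariskiLocalAtTarget.of_forall_exists_morphismRestrict (P := .isomorphisms _) fun y => ?_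
    have hy : (pullback.snd gB U.ι y).1 ≠ IsLocalRing.closedPoint A := (pullback.snd gB U.ι y).2
    obtain ⟨f, hf, hfy⟩ : ∃ f ∈ IsLocalRing.maximalIdeal A, f ∉ (pullback.snd gB U.ι y).1.asIdeal := by
      by_contra hcon
      push Not at hcon
      exact hy (PrimeSpectrum.ext ((IsLocalRing.le_maximalIdeal (pullback.snd gB U.ι y).1.2.ne_top).antisymm hcon))
    let W := (Spec (CommRingCat.of B)).basicOpen ((Scheme.ΓSpecIso (CommRingCat.of B)).inv (algebraMap A B f))
    have hW : W = gB ⁻¹ᵁ (Spec (CommRingCat.of A)).basicOpen ((Scheme.ΓSpecIso (CommRingCat.of A)).inv f) := by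
      rw [Scheme.preimage_basicOpen_top]
      exact congrArg (Spec (CommRingCat.of B)).basicOpen (congr($(Scheme.ΓSpecIso_inv_naturality (CommRingCat.ofHom (algebraMap A B))) f))
    have hWr : (W : Set (Spec (CommRingCat.of B))) ⊆ Set.range (pullback.fst gB U.ι) := fun w hw => by
      rw [Scheme.Pullback.range_fst, Scheme.Opens.range_ι]
      exact hmem f hf _ (hW.le hw)
    let V0 := pullback.fst gB U.ι ⁻¹ᵁ W
    have hV0 : IsAffineOpen V0 :=
      ((isAffineOpen_top _).basicOpen _).preimage_of_isOpenImmersion _ hWr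
    refine ⟨V0, ?_, (isIso_morphismRestrict_iff_isIso_app _ hV0).mpr ?_⟩
    · change pullback.fst gB U.ι y ∈ W
      rw [hW]
      change gB (pullback.fst gB U.ι y) ∈ (Spec (CommRingCat.of A)).basicOpen ((Scheme.ΓSpecIso (CommRingCat.of A)).inv f)
      rw [← Scheme.Hom.comp_apply, pullback.condition, basicOpen_eq_of_affine]
      exact hfy
    haveI : IsIso ((pullback.fst gB U.ι).app W) := (pullback.fst gB U.ι).isIso_app _ hWr
    have hτiso : IsIso (τ.app W) := by
      refine (ConcreteCategory.isIso_iff_bijective _).mpr ((app_bijective_iff τ (algebraMap A B f) g.toRingHom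
        (congrArg CommRingCat.Hom.hom hτtop).symm).2 ⟨fun x hx => ?_, fun y => ?_⟩)
      · obtain ⟨N, hN⟩ := hg.ker f hf x hx
        exact ⟨N, by rw [← map_pow, ← Algebra.smul_def]; exact hN⟩
      · obtain ⟨N, x, hx⟩ := hg.coker f hf y
        refine ⟨N, x, ?_⟩
        change g x = g (algebraMap A B f) ^ N * y
        rw [g.commutes, ← map_pow, ← Algebra.smul_def]
        exact hx
    have hkf : k ≫ pullback.fst gB U.ι = τ := pullback.lift_fst _ _ _
    exact isIso_app_of_comp k (pullback.fst gB U.ι) τ hkf W hτiso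
  let φ : V ⟶ (FEt.restrict U.ι).obj (Groth.Agent.FEtCat.Basic.mk gB) :=
    Groth.Agent.FEtCat.Basic.homMk k (pullback.lift_snd _ _ _)
  haveI : IsIso φ.left := inferInstanceAs (IsIso k)
  haveI := Groth.Agent.FEtCat.Basic.isIso_of_left φ
  exact ⟨_, ⟨(asIso φ).symm⟩⟩

end Groth.Agent.S1144
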