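import Groth.Statements.S11444
import Groth.Agent.GITLib.TorSmooth.Ring
import Groth.Agent.PullStalk.Sky
import Mathlib.AlgebraicGeometry.Morphisms.Flat
-- import your own Groth.Agent.* helpers here

set_option autoImplicit false
universe u
open CategoryTheory MonoidalCategory CartesianMonoidalCategory MonObj GrpObj AlgebraicGeometry Topology
open GIT

namespace Groth.Agent.S11444

open CategoryTheory.Limits TopologicalSpace Opposite Groth.Agent.PullStalk.Sky

attribute [local instance] HasDerivedCategory.standard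

set_option backward.isDefEq.respectTransparency false

theorem exists_unitStalkEquiv {X : Scheme.{u}} (x : X) :
    Nonempty ((DerSch.stalkFunctor X x).obj (Coh.structureModule X) ≃ₗ[X.presheaf.stalk x] X.presheaf.stalk x) := by
  let M := Coh.structureModule X
  let one : M.presheaf.stalk x := germM M ⊤ x trivial (show Γ(M, (⊤ : X.Opens)) from (1 : Γ(X, (⊤ : X.Opens))))
  let φ := LinearMap.toSpanSingleton (X.presheaf.stalk x) ((DerSch.stalkFunctor X x).obj M) one
  have key : ∀ (W : X.Opens) (hW : x ∈ W) (a : Γ(X, W)),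
      X.presheaf.germ W x hW a • one = germM M W x hW (show Γ(M, W) from a) := fun W hW a => by
    have h1 : one = germM M W x hW (show Γ(M, W) from (1 : Γ(X, W))) := by
      refine (M.presheaf.germ_res_apply (homOfLE (le_top : W ≤ ⊤)) x hW _).symm.trans ?_
      exact congrArg (M.presheaf.germ W x hW) (map_one (X.presheaf.map (homOfLE (le_top : W ≤ ⊤)).op).hom)
    rw [h1, ← germM_smul]
    exact congrArg (M.presheaf.germ W x hW) (mul_one a)
  refine ⟨(LinearEquiv.ofBijective φ ⟨?_, fun t => ?_⟩).symm⟩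
  · rw [injective_iff_map_eq_zero]
    intro r hr
    obtain ⟨W, hW, a, rfl⟩ := X.presheaf.exists_germ_eq (x := x) r
    have h0 := ((key W hW a).symm.trans hr).trans (map_zero (M.presheaf.germ W x hW).hom).symm
    obtain ⟨W', hW', i₁, i₂, e⟩ := M.presheaf.germ_eq x hW hW _ _ h0
    have e' : X.presheaf.map i₁.op a = 0 := e.trans (map_zero _)
    rw [← X.presheaf.germ_res_apply i₁ x hW' a, e', map_zero]
  · obtain ⟨W, hW, m, rfl⟩ := exists_germM_eq M x t
    exact ⟨X.presheaf.germ W x hW (show Γ(X, W) from m), key W hW _⟩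

/-- The stalkwise bound. -/
theorem hasTorDimLE_stalk {S X Y : Scheme.{u}} (q : Y ⟶ S) (f : X ⟶ Y) [Flat (f ≫ q)] (n : ℕ)
    [hq : SmoothOfRelativeDimension n q] (x : X) :
    letI := (f.stalkMap x).hom.toAlgebra
    DRing.HasTorDimLE (Y.presheaf.stalk (f x)) n (X.presheaf.stalk x) := by
  obtain ⟨U, hU, V, hV, hy, e, hstd⟩ := hq.exists_isStandardSmoothOfRelativeDimension (f x)
  letI algAB : Algebra Γ(S, U) Γ(Y, V) := (q.appLE U V e).hom.toAlgebra
  haveI : Algebra.IsStandardSmoothOfRelativeDimension n Γ(S, U) Γ(Y, V) := hstd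
  letI algB : Algebra Γ(Y, V) (Y.presheaf.stalk (f x)) := TopCat.Presheaf.algebra_section_stalk Y.presheaf ⟨f x, hy⟩
  haveI := hV.isLocalization_stalk ⟨f x, hy⟩
  letI := (f.stalkMap x).hom.toAlgebra
  letI algBC : Algebra Γ(Y, V) (X.presheaf.stalk x) :=
    ((f.stalkMap x).hom.comp (algebraMap Γ(Y, V) (Y.presheaf.stalk (f x)))).toAlgebra
  haveI : IsScalarTower Γ(Y, V) (Y.presheaf.stalk (f x)) (X.presheaf.stalk x) := IsScalarTower.of_algebraMap_eq fun _ => rfl
  letI algAC : Algebra Γ(S, U) (X.presheaf.stalk x) :=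
    ((algebraMap Γ(Y, V) (X.presheaf.stalk x)).comp (algebraMap Γ(S, U) Γ(Y, V))).toAlgebra
  haveI : IsScalarTower Γ(S, U) Γ(Y, V) (X.presheaf.stalk x) := IsScalarTower.of_algebraMap_eq fun _ => rfl
  haveI : Module.Flat Γ(S, U) (X.presheaf.stalk x) := by
    have hxU : (f ≫ q) x ∈ U := e hy
    have heq : q.appLE U V e ≫ Y.presheaf.germ V (f x) hy ≫ f.stalkMap x =
        S.presheaf.germ U ((f ≫ q) x) hxU ≫ (f ≫ q).stalkMap x := by
      rw [Scheme.Hom.stalkMap_comp, ← Category.assoc _ (q.stalkMap (f x)), Scheme.Hom.germ_stalkMap]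
      simp [Scheme.Hom.appLE]
    have hflat : RingHom.Flat (q.appLE U V e ≫ Y.presheaf.germ V (f x) hy ≫ f.stalkMap x).hom := by
      rw [heq]
      refine RingHom.Flat.comp ?_ (Flat.stalkMap (f ≫ q) x)
      letI := TopCat.Presheaf.algebra_section_stalk S.presheaf ⟨(f ≫ q) x, hxU⟩
      haveI := hU.isLocalization_stalk ⟨(f ≫ q) x, hxU⟩
      exact RingHom.flat_algebraMap_iff.mpr (IsLocalization.flat _ (hU.primeIdealOf ⟨(f ≫ q) x, hxU⟩).asIdeal.primeCompl)
    exact hflat
  exact GITLib.TorSmooth.hasTorDimLE_of_localization_base n (hV.primeIdealOf ⟨f x, hy⟩).asIdeal.primeCompl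
    (GITLib.TorSmooth.hasTorDimLE_of_standardSmooth n (A := Γ(S, U)))


/-- Let X → Y → S be morphisms of finite type of Noetherian schemes with Y → S smooth with all fibres of
dimension n and X → S flat. Then X → Y has Tor-dimension at most n. -/
theorem result (S X Y : Scheme.{u}) [IsNoetherian S] [IsNoetherian X] [IsNoetherian Y]
    (p : X ⟶ S) (q : Y ⟶ S) (f : X ⟶ Y) (hf : f ≫ q = p) [LocallyOfFiniteType f] (n : ℕ)
    [SmoothOfRelativeDimension n q] [Flat p] : DerSch.HasTorDimLE f n := by
  subst hf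
  intro x
  letI := (f.stalkMap x).hom.toAlgebra
  obtain ⟨ε⟩ := exists_unitStalkEquiv x
  let e' : ((DerSch.stalkOver f x).obj (Coh.structureModule X) : ModuleCat.{u} (Y.presheaf.stalk (f x))) ≃ₗ[Y.presheaf.stalk (f x)]
      X.presheaf.stalk x :=
    { toFun := fun v => ε v
      invFun := fun v => ε.symm v
      left_inv := fun v => ε.symm_apply_apply v
      right_inv := fun v => ε.apply_symm_apply v
      map_add' := fun a b => map_add ε a b
      map_smul' := fun r v => ε.map_smul ((f.stalkMap x).hom r) (show (DerSch.stalkFunctor X x).obj (Coh.structureModule X) from v) }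
  have h := (Groth.Agent.DRing.TorBalance.hasTorDimLE_iff n _).1 (hasTorDimLE_stalk q f n x)
  refine Groth.Agent.DRing.TorAmp.torAmp_of_iso ?_ h
  exact ((DerivedCategory.singleFunctor (ModuleCat.{u} (Y.presheaf.stalk (f x))) 0).mapIso e'.toModuleIso).symm ≪≫
    ((DerivedCategory.singleFunctorIsoCompQ (ModuleCat.{u} (Y.presheaf.stalk (f x))) 0).app _) ≪≫
    (DerivedCategory.Q.mapIso ((HomologicalComplex.singleMapHomologicalComplex (DerSch.stalkOver f x)
      (ComplexShape.up ℤ) 0).app _)).symm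

end Groth.Agent.S11444
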