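import Groth.Statements.S1145
import Groth.Agent.Hens.DenseExtend

set_option linter.style.haveILetI false
set_option backward.isDefEq.respectTransparency.types false
-- import your own Groth.Agent.* helpers here

set_option autoImplicit false
universe u
open Pi1

namespace Groth.Agent.S1145

open AlgebraicGeometry CategoryTheory CategoryTheory.Limits in
/-- Let X be a scheme and U a dense open subscheme with quasi-compact inclusion such that every point of
the complement of U is closed and, for every such point x and every strict henselization R of the
local ring at x, the punctured spectrum of R is connected. Then restriction of finite etale covers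
from X to U is fully faithful. -/
theorem result {X : Scheme.{u}} (U : X.Opens)
    (hU : Dense (U : Set X)) [QuasiCompact U.ι] (hcl : ∀ x : X, x ∉ U → IsClosed ({x} : Set X))
    (hsh : ∀ x : X, x ∉ U → ∀ (R : Type u) [CommRing R] [IsLocalRing R] [Algebra (X.presheaf.stalk x) R]
      [IsLocalHom (algebraMap (X.presheaf.stalk x) R)] [Hensel.IsStrictHenselization (X.presheaf.stalk x) R],
      ConnectedSpace (FEt.puncturedSpec R : Scheme.{u})) :
    (FEt.restrict U.ι).Full ∧ (FEt.restrict U.ι).Faithful := by
  refine Groth.Agent.FEtCat.Full.full_faithful _ (fun Y W hW hdis => ?_) fun Y D hD => ?_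
  · refine Set.not_nonempty_iff_eq_empty.1 fun hne => ?_
    have hEt : Etale Y.hom := Y.prop.2
    obtain ⟨v, hwU, ⟨w, hw, rfl⟩⟩ := hU.exists_mem_open (Y.hom.isOpenMap _ hW.2) (hne.image _)
    obtain ⟨z, hz⟩ := (Scheme.Pullback.range_fst Y.hom U.ι).ge (show Y.hom w ∈ Set.range U.ι by rwa [Scheme.Opens.range_ι])
    exact Set.notMem_empty z (hdis.le (show pullback.fst Y.hom U.ι z ∈ W from hz ▸ hw))
  · exact Groth.Agent.Hens.DenseExtend.clopen_extend U hU hcl (fun x hx =>
      hsh x hx (Groth.Agent.Hens.StrictHenselization (X.presheaf.stalk x))) Y D hD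

end Groth.Agent.S1145
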