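import Groth.Statements.S11450
import Groth.Agent.TorOne.Basic
import Mathlib.RingTheory.Ideal.AssociatedPrime.Finiteness
import Mathlib.RingTheory.Flat.Tensor

set_option autoImplicit false
universe u
open CategoryTheory
open DefT

namespace Groth.Agent.S11450

/-- A module M over a Noetherian commutative ring A is flat if and only if Tor_1^A(M, A/p) vanishes for
every prime ideal p of A. -/
theorem result (A : Type u) [CommRing A]
    [IsNoetherianRing A] (M : Type u) [AddCommGroup M] [Module A M] :
    Module.Flat A M ↔ ∀ p : Ideal A, p.IsPrime →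
      Limits.IsZero (((CategoryTheory.Tor (ModuleCat.{u} A) 1).obj (ModuleCat.of A M)).obj (ModuleCat.of A (A ⧸ p))) := by
  open TensorProduct in
  classical
  have hker : ∀ p : Ideal A, LinearMap.ker (Submodule.mkQ p) = p := fun p => Submodule.ker_mkQ p
  have hTor : ∀ p : Ideal A,
      Limits.IsZero (((CategoryTheory.Tor (ModuleCat.{u} A) 1).obj (ModuleCat.of A M)).obj (ModuleCat.of A (A ⧸ p))) ↔
        Function.Injective (p.subtype.lTensor M) := fun p => by
    rw [Groth.Agent.TorOne.isZero_tor_one_iff M (Submodule.mkQ p) (Submodule.mkQ_surjective p), hker]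
  refine ⟨fun _ p _ => (hTor p).2 (Module.Flat.lTensor_preserves_injective_linearMap _ Subtype.val_injective),
    fun h => ?_⟩
  let g : (M →₀ A) →ₗ[A] M := Finsupp.linearCombination A id
  have hg : Function.Surjective g := fun m => ⟨Finsupp.single m 1, by simp [g]⟩
  let K := LinearMap.ker g
  have hA : Function.Injective (K.subtype.lTensor A) :=
    Module.Flat.lTensor_preserves_injective_linearMap _ Subtype.val_injective
  have hP : ∀ (N : Type u) [AddCommGroup N] [Module A N], Module.Finite A N → Function.Injective (K.subtype.lTensor N) := by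
    intro N _ _ hN
    induction hN using IsNoetherianRing.induction_on_isQuotientEquivQuotientPrime A with
    | subsingleton N => exact Function.injective_of_subsingleton _
    | quotient N p e =>
      have h1 : Function.Injective (K.subtype.lTensor (A ⧸ p.1)) :=
        Groth.Agent.TorOne.injective_of_quotient g hg rfl p.1.subtype p.1.mkQ
          (LinearMap.exact_subtype_mkQ p.1) p.1.mkQ_surjective
          ((LinearMap.lTensor_inj_iff_rTensor_inj M p.1.subtype).1 ((hTor p.1).1 (h p.1 p.2))) hA
      have key : ∀ z, e.toLinearMap.rTensor _ (K.subtype.lTensor _ z) =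
          K.subtype.lTensor (A ⧸ p.1) (e.toLinearMap.rTensor _ z) := fun z => by
        induction z using TensorProduct.induction_on with
        | zero => simp
        | tmul a b => simp
        | add u v hu hv => simp only [map_add, hu, hv]
      exact fun x y hxy => (LinearEquiv.rTensor _ e).injective
        (h1 ((key x).symm.trans ((congrArg _ hxy).trans (key y))))
    | exact N₁ N₂ N₃ f f' hf hf' hex h₁ h₃ => exact Groth.Agent.TorOne.injective_of_exact f f' hf hex hf' h₁ h₃
  rw [Module.Flat.iff_rTensor_injective']
  intro I
  rw [injective_iff_map_eq_zero]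
  intro z hz
  obtain ⟨w, rfl⟩ := LinearMap.lTensor_surjective ↥I hg z
  have hw : g.lTensor A (I.subtype.rTensor (M →₀ A) w) = 0 := by
    rw [← LinearMap.comp_apply, LinearMap.lTensor_comp_rTensor, ← LinearMap.rTensor_comp_lTensor,
      LinearMap.comp_apply, hz]
  obtain ⟨c, hc⟩ := (lTensor_exact (M := ↥K) A (LinearMap.exact_subtype_ker_map g) hg _).1 hw
  have h0 : (I.mkQ).rTensor K c = 0 := hP (A ⧸ I) inferInstance (by
    rw [map_zero, ← LinearMap.comp_apply, LinearMap.lTensor_comp_rTensor, ← LinearMap.rTensor_comp_lTensor,
      LinearMap.comp_apply, hc, ← LinearMap.comp_apply, ← LinearMap.rTensor_comp,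
      (LinearMap.exact_subtype_mkQ I).linearMap_comp_eq_zero, LinearMap.rTensor_zero, LinearMap.zero_apply])
  obtain ⟨v, rfl⟩ := (rTensor_exact K (LinearMap.exact_subtype_mkQ I) I.mkQ_surjective c).1 h0
  have hwv : w = K.subtype.lTensor ↥I v :=
    Module.Flat.rTensor_preserves_injective_linearMap (M := (M →₀ A)) I.subtype Subtype.val_injective (by
      rw [← hc, ← LinearMap.comp_apply, ← LinearMap.comp_apply, LinearMap.rTensor_comp_lTensor,
        LinearMap.lTensor_comp_rTensor])
  rw [hwv, ← LinearMap.comp_apply, ← LinearMap.lTensor_comp, LinearMap.comp_ker_subtype,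
    LinearMap.lTensor_zero, LinearMap.zero_apply]

end Groth.Agent.S11450
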