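import Groth.Statements.S11451
import Groth.Agent.S12324
import Groth.Agent.CotTLib.Smooth
import Groth.Agent.ArtFunLib.Basic
import Groth.Agent.AffDef.Thick

set_option autoImplicit false
universe u
open DefT

namespace Groth.Agent.S11451

/-- Let k be an algebraically closed field and A a local k-algebra essentially of finite type over k
with residue field k. Then regularity of A as a local ring is equivalent to the following: for every
local k-algebra B' of finite dimension over k, every ideal J of B' of square zero and every
k-algebra homomorphism f : A → B'/J, there is a k-algebra homomorphism g : A → B' lifting f. (Local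
k-algebras of finite k-dimension are exactly the local Artin rings finite over k; lifting against
square-zero kernels is equivalent to lifting against nilpotent ones by induction.) -/
theorem result (k : Type u) [Field k] [IsAlgClosed k]
    (A : Type u) [CommRing A] [IsLocalRing A] [Algebra k A] [Algebra.EssFiniteType k A]
    (hres : Function.Surjective (algebraMap k (IsLocalRing.ResidueField A))) :
    IsRegularLocalRing A ↔
      ∀ (B' : Type u) [CommRing B'] [IsLocalRing B'] [Algebra k B'] [Module.Finite k B']
        (J : Ideal B'), J ^ 2 = ⊥ → ∀ f : A →ₐ[k] B' ⧸ J,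
          ∃ g : A →ₐ[k] B', (Ideal.Quotient.mkₐ k J).comp g = f := by
  classical
  haveI : IsNoetherianRing A := Algebra.EssFiniteType.isNoetherianRing k A
  have hb : Function.Bijective (algebraMap k (IsLocalRing.ResidueField A)) :=
    ⟨(algebraMap k (IsLocalRing.ResidueField A)).injective, hres⟩
  let res : A →ₐ[k] k := (AlgEquiv.ofBijective (Algebra.ofId k (IsLocalRing.ResidueField A)) hb).symm.toAlgHom.comp
    (IsScalarTower.toAlgHom k A (IsLocalRing.ResidueField A))
  constructor
  · intro hreg B' _ _ _ _ J hJ f
    haveI : Algebra.FormallySmooth k A := by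
      obtain ⟨σ, hσ⟩ := (Algebra.essFiniteType_iff k A).1 inferInstance
      let S : Subalgebra k A := Algebra.adjoin k (σ : Set A)
      haveI : Algebra.FiniteType k S :=
        ⟨(Subalgebra.fg_top S).2 (Subalgebra.fg_adjoin_finset σ)⟩
      let q : Ideal S := (IsLocalRing.maximalIdeal A).comap S.val
      haveI : q.IsMaximal := by
        have hq : q = RingHom.ker (res.comp S.val).toRingHom := by
          rw [show RingHom.ker (res.comp S.val).toRingHom = (RingHom.ker res.toRingHom).comap S.val.toRingHom from rfl,
            IsLocalRing.eq_maximalIdeal (RingHom.ker_isMaximal_of_surjective res.toRingHom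
              fun c => ⟨algebraMap k A c, res.commutes c⟩)]
          rfl
        rw [hq]
        exact RingHom.ker_isMaximal_of_surjective _ fun c => ⟨algebraMap k S c, (res.comp S.val).commutes c⟩
      have hu : ∀ y : q.primeCompl, IsUnit (algebraMap S A y) := fun y => IsLocalRing.notMem_maximalIdeal.1 y.2
      haveI : IsLocalization.AtPrime A q := by
        refine (isLocalization_iff q.primeCompl A).2 ⟨hu, fun z => ?_, fun {x y} h => ⟨1, by rw [Subtype.ext h]⟩⟩
        obtain ⟨t, ht, htu, hzt⟩ := hσ z
        exact ⟨(⟨z * t, hzt⟩, ⟨⟨t, ht⟩, fun hm => hm htu⟩), rfl⟩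
      have e : Localization.AtPrime q ≃ₐ[S] A := IsLocalization.algEquiv q.primeCompl _ _
      haveI : IsRegularLocalRing (Localization.AtPrime q) := IsRegularLocalRing.of_ringEquiv e.toRingEquiv.symm
      haveI := CotTLib.isGeometricallyReduced_residueField k S q
      haveI : Algebra.FormallySmooth k (Localization.AtPrime q) := (Groth.Agent.S9442.result k S q).2 inferInstance
      exact Algebra.FormallySmooth.of_equiv (e.restrictScalars k)
    exact Algebra.FormallySmooth.exists_lift J ⟨2, hJ⟩ f
  · intro h
    let T : ArtFun.ObsTheory (ArtFun.hR A res) PUnit.{u + 1} :=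
      { obs := fun _ _ _ => 0
        obs_eq_zero_iff := fun {C' C} p hp φ => iff_of_true rfl (by
          let φ' : ArtFun.HomSet A res C := φ
          haveI : Module.Finite k C' := ArtFunLib.module_finite C'
          let e := Ideal.quotientKerAlgEquivOfSurjective (f := p.toAlgHom) hp.1
          obtain ⟨g, hg⟩ := h C' (RingHom.ker p.toAlgHom) (by
            rw [pow_two, ← le_bot_iff]
            exact (Ideal.mul_mono_left (AffDef.ker_le_max (p := p))).trans hp.2.le) (e.symm.toAlgHom.comp φ'.1)
          have hcomp : p.toAlgHom.comp g = φ'.1 := AlgHom.ext fun a => by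
            have h1 := congrArg e (congrArg (fun u : A →ₐ[k] C' ⧸ RingHom.ker p.toAlgHom => u a) hg)
            exact h1.trans (e.apply_symm_apply _)
          exact ⟨(⟨g, by rw [← p.res_comp, AlgHom.comp_assoc, hcomp, φ'.2]⟩ : ArtFun.HomSet A res C'), Subtype.ext hcomp⟩)
        obs_quot := fun _ _ _ _ _ _ _ => (map_zero _).symm }
    exact (Groth.Agent.S12324.result k A res PUnit.{u + 1} T).2.2.1 (Module.finrank_zero_of_subsingleton)

end Groth.Agent.S11451
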