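import Groth.Statements.S11452
import Groth.Agent.AffDef.Section
import Groth.Agent.CotTLib.Smooth

set_option autoImplicit false
universe u
open CategoryTheory AlgebraicGeometry
open DefT

namespace Groth.Agent.S11452

/-- Let k be an algebraically closed field, X an affine scheme of finite type over k whose local rings
are all regular, A a local Artin k-algebra with a k-algebra augmentation e : A → k, and g : X' →
Spec A a flat morphism whose fibre over the k-point Spec k → Spec A given by e is X (with its
structure map to Spec k). Then there is an isomorphism from X' to the trivial deformation X ×_{Spec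
k} Spec A compatible with the projections to Spec A. -/
theorem result (k : Type u) [Field k]
    [IsAlgClosed k] (X : Scheme.{u}) (hX : X ⟶ Spec (CommRingCat.of k)) [IsAffine X]
    [LocallyOfFiniteType hX] (hreg : ∀ x : X, IsRegularLocalRing (X.presheaf.stalk x))
    (A : Type u) [CommRing A] [IsLocalRing A] [IsArtinianRing A] [Algebra k A] (e : A →ₐ[k] k)
    (X' : Scheme.{u}) (g : X' ⟶ Spec (CommRingCat.of A)) [Flat g] (i : X ⟶ X')
    (hsq : IsPullback i hX g (Spec.map (CommRingCat.ofHom e.toRingHom))) :
    ∃ φ : X' ≅ Limits.pullback hX (Spec.map (CommRingCat.ofHom (algebraMap k A))),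
      φ.hom ≫ Limits.pullback.snd hX (Spec.map (CommRingCat.ofHom (algebraMap k A))) = g := by

  have hft := AffDef.finiteType_coord X hX
  have hsm : Algebra.FormallySmooth k (AffDef.coordRing X hX) :=
    CotTLib.formallySmooth_of_regular k (AffDef.coordRing X hX) (fun p _ => AffDef.regular_coord X hX hreg p)
  have hsq' := AffDef.isPullback_coord X hX e.toRingHom g i hsq
  have hes : Function.Surjective e.toRingHom := fun c => ⟨algebraMap k A c, e.commutes c⟩
  obtain ⟨B, _, φ, π, j, hjf, hji, hπs, hcomm, hker, hflat⟩ :=
    AffDef.exists_affine e.toRingHom hes (AffDef.isNilpotent_ker e) (algebraMap k (AffDef.coordRing X hX)) X' g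
      ((AffDef.coordIso X hX).hom ≫ i) hsq'
  letI : Algebra k B := (φ.comp (algebraMap k A)).toAlgebra
  let πA : B →ₐ[k] AffDef.coordRing X hX :=
    { π with
      commutes' := fun c => by
        change π (φ (algebraMap k A c)) = _
        rw [← RingHom.comp_apply π φ, hcomm, RingHom.comp_apply]
        exact congrArg _ (e.commutes c) }
  have hnil : IsNilpotent (RingHom.ker (πA : B →+* AffDef.coordRing X hX)) := by
    obtain ⟨n, hn⟩ := AffDef.isNilpotent_ker e
    refine ⟨n, ?_⟩
    change (RingHom.ker π) ^ n = ⊥
    rw [hker, ← Ideal.map_pow, hn]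
    exact Ideal.map_bot
  let s := Algebra.FormallySmooth.liftOfSurjective (AlgHom.id k (AffDef.coordRing X hX)) πA hπs hnil
  obtain ⟨ψ, hψ, -, -⟩ := AffDef.exists_iso_trivial e X' g ((AffDef.coordIso X hX).hom ≫ i) φ (hflat inferInstance) π j hjf hji
    hcomm hker s.toRingHom
    (RingHom.ext fun b => Algebra.FormallySmooth.liftOfSurjective_apply (AlgHom.id k _) πA hπs hnil b) s.comp_algebraMap
  refine ⟨ψ ≪≫ AffDef.pullbackCoordIso X hX _, ?_⟩
  rw [Iso.trans_hom, Category.assoc, AffDef.pullbackCoordIso_hom_snd, hψ]

end Groth.Agent.S11452
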