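import Groth.Statements.S11453
import Mathlib
-- import your own Groth.Agent.* helpers here

set_option autoImplicit false
universe u
open scoped Polynomial
open DefT

namespace Groth.Agent.S11453

lemma integral_of_monic {R Q P : Type*} [CommRing R] [CommRing Q] [CommRing P] [Algebra R Q]
    (θ : P →+* Q) (hθ : ∀ p, IsIntegral R (θ p)) (f : Polynomial P) (hf : f.Monic) (x : Q)
    (hx : Polynomial.eval₂ θ x f = 0) : IsIntegral R x := by
  refine isIntegral_trans (A := integralClosure R Q) _
    ⟨f.map (θ.codRestrict (integralClosure R Q).toSubring hθ), hf.map _, ?_⟩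
  rw [Polynomial.eval₂_map]
  exact hx

set_option maxHeartbeats 1600000 in
open Polynomial in
lemma core (k : Type u) [Field k] [IsAlgClosed k]
    (i j : Fin 2) (hij : i ≠ j)
    (𝔞 : Ideal (MvPolynomial (Fin 2) k))
    (N : ℕ) (hxN : MvPolynomial.X i ^ N ∈ 𝔞) (hyN : MvPolynomial.X j ^ N ∈ 𝔞)
    (hle : 𝔞 ≤ Ideal.span {MvPolynomial.X 0, MvPolynomial.X 1})
    (hy : (MvPolynomial.X j : MvPolynomial (Fin 2) k) ∉ 𝔞) :
    ∃ 𝔞' : Ideal (MvPolynomial (Fin 2) k)[X],
      RingHom.Flat (R := k[X]) (S := (MvPolynomial (Fin 2) k)[X] ⧸ 𝔞')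
        ((Ideal.Quotient.mk 𝔞').comp (Polynomial.mapRingHom (algebraMap k (MvPolynomial (Fin 2) k)))) ∧
      RingHom.Finite (A := k[X]) (B := (MvPolynomial (Fin 2) k)[X] ⧸ 𝔞')
        ((Ideal.Quotient.mk 𝔞').comp (Polynomial.mapRingHom (algebraMap k (MvPolynomial (Fin 2) k)))) ∧
      Ideal.map (Polynomial.evalRingHom (0 : MvPolynomial (Fin 2) k)) 𝔞' = 𝔞 ∧
      ∀ c : k, c ≠ 0 →
        Ideal.map (Polynomial.evalRingHom (MvPolynomial.C c)) 𝔞' ≤ Ideal.span {MvPolynomial.X 0, MvPolynomial.X 1} ∧
        ∃ p : Fin 2 → k, p ≠ 0 ∧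
          Ideal.map (Polynomial.evalRingHom (MvPolynomial.C c)) 𝔞' ≤
            Ideal.span (Set.range (fun i : Fin 2 => MvPolynomial.X i - MvPolynomial.C (p i))) := by
  classical
  have htwo : ∀ l : Fin 2, l = i ∨ l = j := by
    intro l
    revert hij; fin_cases i <;> fin_cases j <;> fin_cases l <;> simp
  let x : MvPolynomial (Fin 2) k := MvPolynomial.X i
  let y : MvPolynomial (Fin 2) k := MvPolynomial.X j
  -- coordinates: k[y][x]
  let e : (MvPolynomial (Fin 2) k) ≃ₐ[k] k[X][X] := AlgEquiv.ofAlgHom
    (MvPolynomial.aeval (fun l => if l = i then (Polynomial.X : k[X][X]) else Polynomial.C Polynomial.X))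
    (Polynomial.aevalAeval y x)
    (by
      ext <;> simp [x, y, hij.symm])
    (by
      refine MvPolynomial.algHom_ext fun l => ?_
      rcases htwo l with rfl | rfl <;> simp [x, y, hij.symm])
  have hex : e x = Polynomial.X := by simp [e, x]
  have hey : e y = Polynomial.C Polynomial.X := by simp [e, y, hij.symm]
  -- restriction to y = 0
  let π : (MvPolynomial (Fin 2) k) →ₐ[k] k[X] := MvPolynomial.aeval (fun l => if l = i then Polynomial.X else 0)
  have hπx : π x = Polynomial.X := by simp [π, x]
  have hπy : π y = 0 := by simp [π, y, hij.symm]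
  have hπsec : ∀ p : k[X], π (Polynomial.aeval x p) = p := by
    intro p
    rw [← Polynomial.aeval_algHom_apply, hπx, Polynomial.aeval_X_left_apply]
  have hπker : ∀ f : (MvPolynomial (Fin 2) k), f - Polynomial.aeval x (π f) ∈ Ideal.span {y} := by
    intro f
    rw [← Ideal.Quotient.mk_eq_mk_iff_sub_mem]
    have : (Ideal.Quotient.mkₐ k (Ideal.span {y})) =
        (Ideal.Quotient.mkₐ k (Ideal.span {y})).comp ((Polynomial.aeval x).comp π) := by
      refine MvPolynomial.algHom_ext fun l => ?_
      rcases htwo l with rfl | rfl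
      · simp [π, x]
      · simp [π, y, hij.symm, Ideal.Quotient.eq_zero_iff_mem, Ideal.mem_span_singleton]
    exact AlgHom.congr_fun this f
  -- the image of 𝔞 on y = 0 is (X^m)
  have hπsurj : Function.Surjective π.toRingHom := fun p => ⟨_, hπsec p⟩
  obtain ⟨gen, hgen⟩ := (IsPrincipalIdealRing.principal (Ideal.map π.toRingHom 𝔞)).1
  have hXN : (Polynomial.X : k[X]) ^ N ∈ Ideal.map π.toRingHom 𝔞 := by
    have := Ideal.mem_map_of_mem π.toRingHom hxN
    simpa [π] using this
  have hgdvd : gen ∣ (Polynomial.X : k[X]) ^ N := by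
    rw [hgen] at hXN
    exact Ideal.mem_span_singleton.1 hXN
  obtain ⟨m, hmN, hm⟩ := (dvd_prime_pow Polynomial.prime_X N).1 hgdvd
  have hI0 : Ideal.map π.toRingHom 𝔞 = Ideal.span {(Polynomial.X : k[X]) ^ m} :=
    hgen.trans (Ideal.span_singleton_eq_span_singleton.2 hm)
  have hxy : ∀ f ∈ Ideal.span {(MvPolynomial.X 0 : (MvPolynomial (Fin 2) k)), MvPolynomial.X 1}, MvPolynomial.constantCoeff f = 0 := by
    intro f hf
    obtain ⟨a, b, rfl⟩ := Ideal.mem_span_pair.1 hf
    simp
  obtain ⟨F0, hF0, hF0π⟩ := (Ideal.mem_map_iff_of_surjective _ hπsurj).1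
    (hI0.symm ▸ Ideal.mem_span_singleton_self ((Polynomial.X : k[X]) ^ m))
  obtain ⟨g, hg⟩ := Ideal.mem_span_singleton'.1 (hπker F0)
  have hF0eq : F0 = x ^ m + y * g := by
    have : π F0 = Polynomial.X ^ m := hF0π
    rw [this, map_pow, Polynomial.aeval_X] at hg
    linear_combination -hg
  have hm1 : 1 ≤ m := by
    by_contra hm0
    obtain rfl : m = 0 := by omega
    have := hxy F0 (hle hF0)
    rw [hF0eq] at this
    simp [y] at this
  -- J = (𝔞 : y)
  let J : Ideal (MvPolynomial (Fin 2) k) := Submodule.comap (LinearMap.mulLeft (MvPolynomial (Fin 2) k) y) 𝔞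
  have hJmem : ∀ f, f ∈ J ↔ y * f ∈ 𝔞 := fun f => Iff.rfl
  have haJ : 𝔞 ≤ J := fun f hf => 𝔞.mul_mem_left y hf
  have hJxy : J ≤ Ideal.span {(MvPolynomial.X 0 : (MvPolynomial (Fin 2) k)), MvPolynomial.X 1} := by
    intro f hf
    have hd : f - MvPolynomial.C (MvPolynomial.constantCoeff f) ∈
        Ideal.span {(MvPolynomial.X 0 : (MvPolynomial (Fin 2) k)), MvPolynomial.X 1} := by
      rw [← Ideal.Quotient.mk_eq_mk_iff_sub_mem]
      have : (Ideal.Quotient.mk (Ideal.span {(MvPolynomial.X 0 : (MvPolynomial (Fin 2) k)), MvPolynomial.X 1})) =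
          (Ideal.Quotient.mk _).comp (MvPolynomial.C.comp MvPolynomial.constantCoeff) := by
        refine MvPolynomial.ringHom_ext (by simp) fun l => ?_
        simp only [RingHom.comp_apply, MvPolynomial.constantCoeff_X, map_zero, Ideal.Quotient.eq_zero_iff_mem]
        fin_cases l <;> exact Ideal.subset_span (by simp)
      exact RingHom.congr_fun this f
    by_cases hc : MvPolynomial.constantCoeff f = 0
    · simpa [hc] using hd
    exfalso
    apply hy
    set n := f - MvPolynomial.C (MvPolynomial.constantCoeff f) with hn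
    have hnil : IsNilpotent (Ideal.Quotient.mk 𝔞 n) := by
      obtain ⟨a, b, hab⟩ := Ideal.mem_span_pair.1 hd
      rw [← hab, map_add, map_mul, map_mul]
      have h0 : ∀ l : Fin 2, IsNilpotent (Ideal.Quotient.mk 𝔞 (MvPolynomial.X l)) := by
        intro l
        refine ⟨N, ?_⟩
        rw [← map_pow, Ideal.Quotient.eq_zero_iff_mem]
        rcases htwo l with rfl | rfl
        · exact hxN
        · exact hyN
      exact Commute.isNilpotent_add (Commute.all _ _) (Commute.isNilpotent_mul_left (Commute.all _ _) (h0 0))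
        (Commute.isNilpotent_mul_left (Commute.all _ _) (h0 1))
    have hunit : IsUnit (Ideal.Quotient.mk 𝔞 f) := by
      have hf' : f = MvPolynomial.C (MvPolynomial.constantCoeff f) + n := by rw [hn]; ring
      rw [hf', map_add]
      exact hnil.isUnit_add_left_of_commute ((((Ne.isUnit hc)).map MvPolynomial.C).map _) (Commute.all _ _)
    have h0 := Ideal.Quotient.eq_zero_iff_mem.2 ((hJmem f).1 hf)
    rw [map_mul] at h0
    exact Ideal.Quotient.eq_zero_iff_mem.1 ((hunit.mul_left_eq_zero).1 h0)
  -- reduce g below degree m modulo J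
  have hyNJ : y ^ N ∈ J := haJ hyN
  have red : ∀ (n : ℕ) (f : (MvPolynomial (Fin 2) k)), ∃ f' : (MvPolynomial (Fin 2) k), (e f').degree < (m : WithBot ℕ) ∧
      f - f' ∈ J ⊔ Ideal.span {y ^ n} := by
    intro n
    induction n with
    | zero =>
      intro f
      exact ⟨0, by simp [WithBot.bot_lt_coe], by simp [Ideal.span_singleton_one]⟩
    | succ n ih =>
      intro f
      set r := e f %ₘ Polynomial.X ^ m with hr
      set q := e f /ₘ Polynomial.X ^ m with hq
      have hdiv : r + Polynomial.X ^ m * q = e f :=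
        Polynomial.modByMonic_add_div _ _
      have hrdeg : r.degree < (m : WithBot ℕ) := by
        have := Polynomial.degree_modByMonic_lt (e f) (Polynomial.monic_X_pow (R := k[X]) m)
        rwa [Polynomial.degree_X_pow] at this
      obtain ⟨f1, hf1, hf1'⟩ := ih (-g * e.symm q)
      refine ⟨e.symm r + y * f1, ?_, ?_⟩
      · rw [map_add, AlgEquiv.apply_symm_apply, map_mul, hey]
        exact lt_of_le_of_lt (Polynomial.degree_add_le _ _)
          (max_lt hrdeg (lt_of_le_of_lt (by
            rw [Polynomial.degree_C_mul Polynomial.X_ne_zero]) hf1))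
      · obtain ⟨u, hu, v, hv, huv⟩ := Submodule.mem_sup.1 hf1'
        obtain ⟨w, rfl⟩ := Ideal.mem_span_singleton'.1 hv
        have hf : f = e.symm r + x ^ m * e.symm q := by
          apply e.injective
          simp [hex, hdiv]
        refine Submodule.mem_sup.2 ⟨F0 * e.symm q + y * u, J.add_mem (J.mul_mem_right _ (haJ hF0))
          (J.mul_mem_left _ hu), w * y ^ (n + 1), Ideal.mem_span_singleton'.2 ⟨w, rfl⟩, ?_⟩
        rw [hf, hF0eq]
        linear_combination y * huv
  obtain ⟨g', hg'deg, hg'⟩ := red N g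
  have hg'J : g - g' ∈ J := by
    have : J ⊔ Ideal.span {y ^ N} = J := sup_eq_left.2 ((Ideal.span_singleton_le_iff_mem _).2 hyNJ)
    rwa [this] at hg'
  let F : (MvPolynomial (Fin 2) k) := x ^ m + y * g'
  have hFa : F ∈ 𝔞 := by
    have : F = F0 - y * (g - g') := by rw [hF0eq]; ring
    rw [this]
    exact 𝔞.sub_mem hF0 ((hJmem _).1 hg'J)
  have heF : e F = Polynomial.X ^ m + Polynomial.C Polynomial.X * e g' := by simp [F, hex, hey]
  have hrest : (Polynomial.C Polynomial.X * e g').degree < (m : WithBot ℕ) := by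
    rwa [Polynomial.degree_C_mul Polynomial.X_ne_zero]
  have hFmonic : (e F).Monic := heF ▸ Polynomial.monic_X_pow_add hrest
  have hFdeg : (e F).degree = (m : WithBot ℕ) := by
    rw [heF, Polynomial.degree_add_eq_left_of_degree_lt (by rwa [Polynomial.degree_X_pow]),
      Polynomial.degree_X_pow]
  have hFne : F ≠ 0 := by
    intro h
    exact hFmonic.ne_zero (by rw [h, map_zero])
  have hπF : π F = Polynomial.X ^ m := by simp [F, hπx, hπy]
  -- 𝔞 = (F) + y J
  have hadec : 𝔞 = Ideal.span {F} ⊔ Ideal.span {y} * J := by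
    apply le_antisymm
    · intro a ha
      have h1 := Ideal.mem_map_of_mem π.toRingHom ha
      rw [hI0, Ideal.mem_span_singleton'] at h1
      obtain ⟨p, hp⟩ := h1
      have hp' : π a = p * Polynomial.X ^ m := hp.symm
      let b := a - Polynomial.aeval x p * F
      have hb0 : π b = 0 := by
        simp only [b, map_sub, map_mul, hπsec, hπF, hp', sub_self]
      obtain ⟨h, hh⟩ := Ideal.mem_span_singleton'.1 (hπker b)
      rw [hb0, map_zero, sub_zero] at hh
      have hhJ : h ∈ J := by
        rw [hJmem, mul_comm, hh]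
        exact 𝔞.sub_mem ha (𝔞.mul_mem_left _ hFa)
      refine Submodule.mem_sup.2 ⟨Polynomial.aeval x p * F, Ideal.mem_span_singleton'.2 ⟨_, rfl⟩,
        y * h, Ideal.mem_span_singleton_mul.2 ⟨h, hhJ, rfl⟩, ?_⟩
      rw [mul_comm y h, hh]
      ring
    · refine sup_le ((Ideal.span_singleton_le_iff_mem _).2 hFa) ?_
      intro z hz
      obtain ⟨h, hh, rfl⟩ := Ideal.mem_span_singleton_mul.1 hz
      exact (hJmem h).1 hh
  -- the family
  let d : (MvPolynomial (Fin 2) k)[X] := Polynomial.X - Polynomial.C y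
  let 𝔞' : Ideal (MvPolynomial (Fin 2) k)[X] := Ideal.span {Polynomial.C F} ⊔ Ideal.span {d} * Ideal.map Polynomial.C J
  have hmap : ∀ a : (MvPolynomial (Fin 2) k), Ideal.map (Polynomial.evalRingHom a) 𝔞' =
      Ideal.span {F} ⊔ Ideal.span {a - y} * J := by
    intro a
    have hid : (Polynomial.evalRingHom a).comp Polynomial.C = RingHom.id (MvPolynomial (Fin 2) k) := by ext <;> simp
    simp only [𝔞', d, Ideal.map_sup, Ideal.map_mul, Ideal.map_map, hid, Ideal.map_id,
      Ideal.map_span, Set.image_singleton, map_sub, Polynomial.coe_evalRingHom, Polynomial.eval_C,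
      Polynomial.eval_X, Polynomial.eval_sub]
  have hdmem : ∀ w, d * w ∈ 𝔞' → w ∈ Ideal.map Polynomial.C J := by
    intro w hw
    obtain ⟨z1, hz1, z2, hz2, hz⟩ := Submodule.mem_sup.1 hw
    obtain ⟨u, rfl⟩ := Ideal.mem_span_singleton'.1 hz1
    obtain ⟨v, hv, rfl⟩ := Ideal.mem_span_singleton_mul.1 hz2
    have hu0 : u.eval y = 0 := by
      have := congrArg (Polynomial.eval y) hz
      simpa [d, hFne] using this
    obtain ⟨u', hu'⟩ := (Polynomial.dvd_iff_isRoot (a := y) (p := u)).2 hu0
    have hw' : w = u' * Polynomial.C F + v := by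
      apply mul_left_cancel₀ (Polynomial.X_sub_C_ne_zero y)
      change d * w = d * _
      rw [← hz, hu']
      ring
    rw [hw']
    exact Ideal.add_mem _ (Ideal.mul_mem_left _ _ (Ideal.mem_map_of_mem _ (haJ hFa))) hv
  have htf : ∀ (s : k[X]) (z : (MvPolynomial (Fin 2) k)[X]), s ≠ 0 → s.map (algebraMap k (MvPolynomial (Fin 2) k)) * z ∈ 𝔞' → z ∈ 𝔞' := by
    intro s z hs hsz
    have h1 := Ideal.mem_map_of_mem (Polynomial.evalRingHom y) hsz
    rw [hmap, sub_self, Ideal.span_singleton_zero, Ideal.bot_mul, sup_bot_eq,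
      Ideal.mem_span_singleton'] at h1
    obtain ⟨q, hq⟩ := h1
    have hq' : q * F = Polynomial.aeval y s * z.eval y := by
      rw [hq, Polynomial.coe_evalRingHom, Polynomial.eval_mul, Polynomial.eval_map_algebraMap]
    have hs' : e (Polynomial.aeval y s) = Polynomial.C s := by
      rw [← Polynomial.aeval_algHom_apply, hey]
      have : (Polynomial.aeval (Polynomial.C (Polynomial.X : k[X]) : k[X][X])) =
          (Polynomial.CAlgHom (R := k) (A := k[X])) := by
        ext; simp
      rw [this]
      rfl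
    have hdvd : e F ∣ e (z.eval y) := by
      rw [← Polynomial.modByMonic_eq_zero_iff_dvd hFmonic]
      have h2 : (s • e (z.eval y)) %ₘ e F = 0 := by
        rw [Polynomial.modByMonic_eq_zero_iff_dvd hFmonic, Polynomial.smul_eq_C_mul, ← hs',
          ← map_mul, ← hq', map_mul]
        exact dvd_mul_left _ _
      rw [Polynomial.smul_modByMonic] at h2
      exact (smul_eq_zero.1 h2).resolve_left hs
    obtain ⟨u, hu⟩ := hdvd
    have hzy : z.eval y = F * e.symm u := by
      apply e.injective
      simp [hu]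
    obtain ⟨h, hh⟩ := (Polynomial.dvd_iff_isRoot (a := y)
      (p := z - Polynomial.C (F * e.symm u))).2 (by simp [Polynomial.IsRoot, hzy])
    have hCF : Polynomial.C (F * e.symm u) ∈ 𝔞' := by
      rw [map_mul]
      exact Ideal.mul_mem_right _ _ (Ideal.mem_sup_left (Ideal.mem_span_singleton_self _))
    have hsh : d * (s.map (algebraMap k (MvPolynomial (Fin 2) k)) * h) ∈ 𝔞' := by
      have : d * (s.map (algebraMap k (MvPolynomial (Fin 2) k)) * h) =
          s.map (algebraMap k (MvPolynomial (Fin 2) k)) * z - s.map (algebraMap k (MvPolynomial (Fin 2) k)) * Polynomial.C (F * e.symm u) := by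
        rw [← mul_sub, hh]; ring
      rw [this]
      exact 𝔞'.sub_mem hsz (𝔞'.mul_mem_left _ hCF)
    have hhJ : h ∈ Ideal.map Polynomial.C J := by
      have h3 := hdmem _ hsh
      rw [Ideal.mem_map_C_iff] at h3 ⊢
      by_contra hcon
      push Not at hcon
      obtain ⟨n, hn⟩ := hcon
      have hne : h.map (Ideal.Quotient.mk J) ≠ 0 := by
        intro h0
        apply hn
        have := congrArg (fun q => Polynomial.coeff q n) h0
        simpa [Ideal.Quotient.eq_zero_iff_mem] using this
      have h0 : (s.map (algebraMap k (MvPolynomial (Fin 2) k)) * h).map (Ideal.Quotient.mk J) = 0 := by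
        ext l
        rw [Polynomial.coeff_map, Polynomial.coeff_zero, Ideal.Quotient.eq_zero_iff_mem]
        exact h3 l
      rw [Polynomial.map_mul, Polynomial.map_map] at h0
      have hJne : J ≠ ⊤ := fun htop => hy (by
        have : (1 : MvPolynomial (Fin 2) k) ∈ J := htop ▸ Submodule.mem_top
        simpa using (hJmem 1).1 this)
      haveI : Nontrivial (MvPolynomial (Fin 2) k ⧸ J) := Ideal.Quotient.nontrivial_iff.2 hJne
      have hu : IsUnit ((Ideal.Quotient.mk J).comp (algebraMap k (MvPolynomial (Fin 2) k)) s.leadingCoeff) :=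
        (Ne.isUnit (Polynomial.leadingCoeff_ne_zero.2 hs)).map _
      have hl := Polynomial.leadingCoeff_map (p := s) (f := ((Ideal.Quotient.mk J).comp (algebraMap k (MvPolynomial (Fin 2) k))))
      have h4 := Polynomial.leadingCoeff_mul'
        (p := s.map ((Ideal.Quotient.mk J).comp (algebraMap k (MvPolynomial (Fin 2) k))))
        (q := h.map (Ideal.Quotient.mk J))
        (by
          rw [hl, Ne, hu.mul_right_eq_zero]
          exact Polynomial.leadingCoeff_ne_zero.2 hne)
      rw [h0, Polynomial.leadingCoeff_zero, hl] at h4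
      exact Polynomial.leadingCoeff_ne_zero.2 hne ((hu.mul_right_eq_zero).1 h4.symm)
    have : z = Polynomial.C (F * e.symm u) + d * h := by rw [← hh]; ring
    rw [this]
    exact 𝔞'.add_mem hCF (Ideal.mem_sup_right (Ideal.mul_mem_mul (Ideal.mem_span_singleton_self _) hhJ))
  refine ⟨𝔞', ?_, ?_, ?_, ?_⟩
  · let φ := (Ideal.Quotient.mk 𝔞').comp (Polynomial.mapRingHom (algebraMap k (MvPolynomial (Fin 2) k)))
    letI : Algebra k[X] ((MvPolynomial (Fin 2) k)[X] ⧸ 𝔞') := φ.toAlgebra' (fun a b => by
      obtain ⟨b, rfl⟩ := Ideal.Quotient.mk_surjective b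
      simp only [φ, RingHom.comp_apply]
      rw [← map_mul, mul_comm, map_mul])
    change Module.Flat k[X] ((MvPolynomial (Fin 2) k)[X] ⧸ 𝔞')
    have : Module.IsTorsionFree k[X] ((MvPolynomial (Fin 2) k)[X] ⧸ 𝔞') := by
      refine Module.isTorsionFree_iff_smul_eq_zero.2 fun s z h => ?_
      by_cases hs : s = 0
      · exact Or.inl hs
      refine Or.inr ?_
      obtain ⟨z, rfl⟩ := Ideal.Quotient.mk_surjective z
      rw [Algebra.smul_def] at h
      change Ideal.Quotient.mk 𝔞' (s.map (algebraMap k (MvPolynomial (Fin 2) k))) * Ideal.Quotient.mk 𝔞' z = 0 at h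
      rw [← map_mul, Ideal.Quotient.eq_zero_iff_mem] at h
      exact Ideal.Quotient.eq_zero_iff_mem.2 (htf s z hs h)
    infer_instance
  · let φ := (Ideal.Quotient.mk 𝔞').comp (Polynomial.mapRingHom (algebraMap k (MvPolynomial (Fin 2) k)))
    letI : Algebra k[X] ((MvPolynomial (Fin 2) k)[X] ⧸ 𝔞') := φ.toAlgebra' (fun a b => by
      obtain ⟨b, rfl⟩ := Ideal.Quotient.mk_surjective b
      simp only [φ, RingHom.comp_apply]
      rw [← map_mul, mul_comm, map_mul])
    change Module.Finite k[X] ((MvPolynomial (Fin 2) k)[X] ⧸ 𝔞')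
    let ρ : (MvPolynomial (Fin 2) k) →+* (MvPolynomial (Fin 2) k)[X] ⧸ 𝔞' := (Ideal.Quotient.mk 𝔞').comp Polynomial.C
    let tb : (MvPolynomial (Fin 2) k)[X] ⧸ 𝔞' := Ideal.Quotient.mk 𝔞' Polynomial.X
    have hρC : ∀ a : k, ρ (MvPolynomial.C a) = algebraMap k[X] _ (Polynomial.C a) := by
      intro a
      simp [ρ, RingHom.algebraMap_toAlgebra', φ]
    have htb : tb = algebraMap k[X] _ Polynomial.X := by
      simp [tb, RingHom.algebraMap_toAlgebra', φ]
    have hiy : IsIntegral k[X] (ρ y) := by
      refine ⟨(Polynomial.X - Polynomial.C Polynomial.X) * Polynomial.X ^ N,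
        (Polynomial.monic_X_sub_C _).mul (Polynomial.monic_X_pow N), ?_⟩
      rw [← Polynomial.aeval_def, map_mul, map_sub, map_pow, Polynomial.aeval_X,
        Polynomial.aeval_C, ← htb]
      rw [← map_pow]
      change (Ideal.Quotient.mk 𝔞' (Polynomial.C y) - Ideal.Quotient.mk 𝔞' Polynomial.X) *
        Ideal.Quotient.mk 𝔞' (Polynomial.C (y ^ N)) = 0
      rw [← map_sub, ← map_mul, Ideal.Quotient.eq_zero_iff_mem]
      have : (Polynomial.C y - Polynomial.X) * Polynomial.C (y ^ N) = -(d * Polynomial.C (y ^ N)) := by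
        simp only [d]; ring
      rw [this]
      exact 𝔞'.neg_mem (Ideal.mem_sup_right
        (Ideal.mul_mem_mul (Ideal.mem_span_singleton_self _) (Ideal.mem_map_of_mem _ hyNJ)))
    let ψ : k[X][X] →+* (MvPolynomial (Fin 2) k)[X] ⧸ 𝔞' := ρ.comp e.symm.toRingEquiv.toRingHom
    let Cl := integralClosure k[X] ((MvPolynomial (Fin 2) k)[X] ⧸ 𝔞')
    have hθ : ∀ p : k[X], ψ (Polynomial.C p) ∈ Cl := by
      intro p
      induction p using Polynomial.induction_on with
      | C a =>
        have : ψ (Polynomial.C (Polynomial.C a)) = ρ (MvPolynomial.C a) := by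
          simp [ψ, e]
        rw [this, hρC]
        exact Subalgebra.algebraMap_mem _ _
      | add p q hp hq => rw [map_add, map_add]; exact add_mem hp hq
      | monomial n a h =>
        rw [pow_succ, ← mul_assoc, map_mul, map_mul]
        refine mul_mem h ?_
        have : ψ (Polynomial.C Polynomial.X) = ρ y := by simp [ψ, e]
        rw [this]
        exact hiy
    have hix : IsIntegral k[X] (ρ x) := by
      refine integral_of_monic (R := k[X]) (Q := (MvPolynomial (Fin 2) k)[X] ⧸ 𝔞') (P := k[X]) (ψ.comp Polynomial.C) (fun p => by exact hθ p) (e F) hFmonic _ ?_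
      have h2 : ρ x = ψ Polynomial.X := by simp [ψ, e, ρ, x]
      rw [h2, ← Polynomial.hom_eval₂, Polynomial.eval₂_C_X]
      change ρ (e.symm (e F)) = 0
      rw [AlgEquiv.symm_apply_apply]
      exact Ideal.Quotient.eq_zero_iff_mem.2 (Ideal.mem_sup_left (Ideal.mem_span_singleton_self _))
    let T := Algebra.adjoin k[X] ({ρ x, ρ y} : Set ((MvPolynomial (Fin 2) k)[X] ⧸ 𝔞'))
    have hT : T = ⊤ := by
      rw [eq_top_iff]
      rintro z -
      obtain ⟨z, rfl⟩ := Ideal.Quotient.mk_surjective z
      induction z using Polynomial.induction_on with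
      | C a =>
        change ρ a ∈ T
        induction a using MvPolynomial.induction_on with
        | C a => rw [hρC]; exact Subalgebra.algebraMap_mem _ _
        | add p q hp hq => rw [map_add]; exact add_mem hp hq
        | mul_X p l hp =>
          rw [map_mul]
          refine mul_mem hp ?_
          rcases htwo l with rfl | rfl
          · exact Algebra.subset_adjoin (by simp [x])
          · exact Algebra.subset_adjoin (by simp [y])
      | add p q hp hq => rw [map_add]; exact add_mem hp hq
      | monomial n a h =>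
        rw [pow_succ, ← mul_assoc, map_mul]
        refine mul_mem h ?_
        change tb ∈ T
        rw [htb]; exact Subalgebra.algebraMap_mem _ _
    have hfg := fg_adjoin_of_finite (R := k[X]) (s := ({ρ x, ρ y} : Set ((MvPolynomial (Fin 2) k)[X] ⧸ 𝔞'))) (by simp)
      (by rintro _ (rfl | rfl) <;> assumption)
    rw [show Algebra.adjoin k[X] ({ρ x, ρ y} : Set ((MvPolynomial (Fin 2) k)[X] ⧸ 𝔞')) = ⊤ from hT, Algebra.top_toSubmodule] at hfg
    exact ⟨hfg⟩
  · rw [hmap, zero_sub, Ideal.span_singleton_neg, ← hadec]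
  · intro c hc
    rw [hmap]
    refine ⟨sup_le ((Ideal.span_singleton_le_iff_mem _).2 (hle hFa)) (Ideal.mul_le_right.trans hJxy), ?_⟩
    obtain ⟨a, ha⟩ := IsAlgClosed.exists_root ((e F).map (Polynomial.evalRingHom c))
      (by
        rw [Polynomial.Monic.degree_map hFmonic, hFdeg]
        intro h0
        have : m = 0 := by exact_mod_cast h0
        omega)
    let p : Fin 2 → k := fun l => if l = i then a else c
    refine ⟨p, fun h => hc (by simpa [p, hij.symm] using congrFun h j), ?_⟩
    have hmem : ∀ f : (MvPolynomial (Fin 2) k), MvPolynomial.eval p f = 0 →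
        f ∈ Ideal.span (Set.range (fun i : Fin 2 => MvPolynomial.X i - MvPolynomial.C (p i))) := by
      intro f hf
      rw [← Ideal.Quotient.eq_zero_iff_mem]
      have : Ideal.Quotient.mk (Ideal.span (Set.range (fun i : Fin 2 => MvPolynomial.X i - MvPolynomial.C (p i)))) =
          (Ideal.Quotient.mk _).comp (MvPolynomial.C.comp (MvPolynomial.eval p)) := by
        refine MvPolynomial.ringHom_ext (by simp) fun l => ?_
        simp only [RingHom.comp_apply, MvPolynomial.eval_X]
        rw [Ideal.Quotient.mk_eq_mk_iff_sub_mem]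
        exact Ideal.subset_span ⟨l, rfl⟩
      rw [this]
      simp [hf]
    have hFp : MvPolynomial.eval p F = 0 := by
      have : (MvPolynomial.eval p) =
          (Polynomial.eval₂RingHom (Polynomial.evalRingHom c) a).comp e.toRingEquiv.toRingHom := by
        refine MvPolynomial.ringHom_ext (by simp [e]) fun l => ?_
        rcases htwo l with rfl | rfl <;> simp [e, p, hij.symm]
      rw [this]
      rw [Polynomial.IsRoot, Polynomial.eval_map] at ha
      exact ha
    have hyp : MvPolynomial.eval p (MvPolynomial.C c - y) = 0 := by simp [p, y, hij.symm]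
    exact sup_le ((Ideal.span_singleton_le_iff_mem _).2 (hmem _ hFp))
      (Ideal.mul_le_left.trans ((Ideal.span_singleton_le_iff_mem _).2 (hmem _ hyp)))

/-- Let k be an algebraically closed field, A = k[x, y], and 𝔞 ⊆ A an ideal of finite colength n ≥ 2
with radical (x, y), i.e. Spec(A/𝔞) is supported at the origin. Then there is an ideal 𝔞' ⊆ A[t]
defining a family finite and flat over k[t] (A[t]/𝔞' is a finitely generated flat k[t]-module, hence
locally free of rank n) whose fibre at t = 0 is 𝔞 and whose fibre ideal 𝔞_c at every c ≠ 0 is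
contained in the maximal ideal of the origin and in the maximal ideal of some other k-point p ≠ (0,
0); so for t ≠ 0 the fibre is supported at two or more distinct points. (The published statement
allows colength 1 and puts the second point at (0, t); for colength 1 every finite flat family has
one-point fibres, and the family constructed in the published proof has its second piece at the
roots of f(x, t) on the line y = t after a linear change of the coordinates x, y, which need not lie
at x = 0; this row states what that construction yields. The published statement asks the family to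
be flat over k[t]; this row asks it to be finite and flat, as the constructed family is — f is monic
in x and (y − t)·y^N lies in the ideal for some N — and as the published proof's count of the
constant fibre length n presupposes; with flatness alone the fibre conditions here could be met by
adjoining a component that never meets t = 0.) -/
theorem result (k : Type u) [Field k] [IsAlgClosed k]
    (𝔞 : Ideal (MvPolynomial (Fin 2) k)) [Module.Finite k (MvPolynomial (Fin 2) k ⧸ 𝔞)]
    (hn : 2 ≤ Module.finrank k (MvPolynomial (Fin 2) k ⧸ 𝔞))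
    (hsupp : 𝔞.radical = Ideal.span {MvPolynomial.X 0, MvPolynomial.X 1}) :
    ∃ 𝔞' : Ideal (MvPolynomial (Fin 2) k)[X],
      RingHom.Flat (R := k[X]) (S := (MvPolynomial (Fin 2) k)[X] ⧸ 𝔞')
        ((Ideal.Quotient.mk 𝔞').comp (Polynomial.mapRingHom (algebraMap k (MvPolynomial (Fin 2) k)))) ∧
      RingHom.Finite (A := k[X]) (B := (MvPolynomial (Fin 2) k)[X] ⧸ 𝔞')
        ((Ideal.Quotient.mk 𝔞').comp (Polynomial.mapRingHom (algebraMap k (MvPolynomial (Fin 2) k)))) ∧
      Ideal.map (Polynomial.evalRingHom (0 : MvPolynomial (Fin 2) k)) 𝔞' = 𝔞 ∧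
      ∀ c : k, c ≠ 0 →
        Ideal.map (Polynomial.evalRingHom (MvPolynomial.C c)) 𝔞' ≤ Ideal.span {MvPolynomial.X 0, MvPolynomial.X 1} ∧
        ∃ p : Fin 2 → k, p ≠ 0 ∧
          Ideal.map (Polynomial.evalRingHom (MvPolynomial.C c)) 𝔞' ≤
            Ideal.span (Set.range (fun i : Fin 2 => MvPolynomial.X i - MvPolynomial.C (p i))) := by
  have hle : 𝔞 ≤ Ideal.span {MvPolynomial.X 0, MvPolynomial.X 1} := hsupp ▸ Ideal.le_radical
  have hN : ∀ l : Fin 2, ∃ N : ℕ, (MvPolynomial.X l : MvPolynomial (Fin 2) k) ^ N ∈ 𝔞 := by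
    intro l
    have : (MvPolynomial.X l : MvPolynomial (Fin 2) k) ∈ 𝔞.radical := by
      rw [hsupp]; fin_cases l <;> exact Ideal.subset_span (by simp)
    exact this
  obtain ⟨N0, h0⟩ := hN 0
  obtain ⟨N1, h1⟩ := hN 1
  have h0' := Ideal.pow_mem_of_pow_mem (n := N0 + N1) 𝔞 h0 (by omega)
  have h1' := Ideal.pow_mem_of_pow_mem (n := N0 + N1) 𝔞 h1 (by omega)
  by_cases hy : (MvPolynomial.X 1 : MvPolynomial (Fin 2) k) ∈ 𝔞
  · refine core k 1 0 (by decide) 𝔞 _ h1' h0' hle fun hx => ?_
    have he : 𝔞 = Ideal.span {MvPolynomial.X 0, MvPolynomial.X 1} :=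
      le_antisymm hle (Ideal.span_le.2 (Set.pair_subset hx hy))
    have hspan : ∀ z : MvPolynomial (Fin 2) k ⧸ 𝔞, ∃ c : k, c • (1 : MvPolynomial (Fin 2) k ⧸ 𝔞) = z := by
      intro z
      obtain ⟨f, rfl⟩ := Ideal.Quotient.mk_surjective z
      refine ⟨MvPolynomial.constantCoeff f, ?_⟩
      have : Ideal.Quotient.mk 𝔞 = (Ideal.Quotient.mk 𝔞).comp (MvPolynomial.C.comp MvPolynomial.constantCoeff) := by
        refine MvPolynomial.ringHom_ext (by simp) fun l => ?_
        simp only [RingHom.comp_apply, MvPolynomial.constantCoeff_X, map_zero, Ideal.Quotient.eq_zero_iff_mem]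
        fin_cases l <;> assumption
      conv_rhs => rw [this]
      rw [← Algebra.algebraMap_eq_smul_one]
      rfl
    have := finrank_le_one (R := k) (1 : MvPolynomial (Fin 2) k ⧸ 𝔞) hspan
    omega
  · exact core k 0 1 (by decide) 𝔞 _ h0' h1' hle hy

end Groth.Agent.S11453
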