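import Groth.Statements.S11454
import Groth.Agent.ArtFunLib.FlatSeq
import Groth.Agent.ArtFunLib.ObsBounds
import Mathlib.RingTheory.TensorProduct.Quotient

set_option autoImplicit false
universe u
open DefT

namespace Groth.Agent.S11454

/-- Let C' be a local Artin ring, J ⊊ C' a proper ideal annihilated by the maximal ideal, C = C'/J, A' a
flat C'-algebra whose reduction modulo the maximal ideal of C' is a Cohen–Macaulay local ring, and A
= A'/JA'. If a'_1, …, a'_r ∈ A' have images in A forming a regular sequence with A/(a_1, …, a_r)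
flat over C, then a'_1, …, a'_r is a regular sequence on A' and A'/(a'_1, …, a'_r) is flat over C'.
(Regular sequences stand in for the exactness of the Koszul complexes in the published statement;
over a Noetherian local ring with the elements in the maximal ideal the two are equivalent.) -/
theorem result (C' : Type u) [CommRing C'] [IsLocalRing C'] [IsArtinianRing C'] (J : Ideal C')
    (hJ : IsLocalRing.maximalIdeal C' * J = ⊥) (hJne : J ≠ ⊤) (A' : Type u) [CommRing A'] [Algebra C' A'] [Module.Flat C' A']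
    [LocCoh.IsCohenMacaulayLocalRing (A' ⧸ (IsLocalRing.maximalIdeal C').map (algebraMap C' A'))]
    (r : ℕ) (a' : Fin r → A')
    (hreg : RingTheory.Sequence.IsRegular (A' ⧸ J.map (algebraMap C' A'))
      (List.ofFn (fun i => Ideal.Quotient.mk (J.map (algebraMap C' A')) (a' i))))
    [Module.Flat (C' ⧸ J) ((A' ⧸ J.map (algebraMap C' A')) ⧸
      Ideal.span (Set.range (fun i => Ideal.Quotient.mk (J.map (algebraMap C' A')) (a' i))))] :
    RingTheory.Sequence.IsRegular A' (List.ofFn a') ∧ Module.Flat C' (A' ⧸ Ideal.span (Set.range a')) := by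
  open Groth.Agent.ArtFunLib IsLocalRing in
  let N := (IsLocalRing.maximalIdeal C').map (algebraMap C' A')
  have hJm : J ≤ IsLocalRing.maximalIdeal C' := IsLocalRing.le_maximalIdeal hJne
  have hN : IsNilpotent N := by
    obtain ⟨n, hn⟩ := (isArtinianRing_iff_isNilpotent_maximalIdeal C').1 inferInstance
    exact ⟨n, (Ideal.map_pow (algebraMap C' A') _ n).symm.trans (by rw [hn, Ideal.zero_eq_bot, Ideal.map_bot, Ideal.zero_eq_bot])⟩
  haveI : IsNoetherianRing (A' ⧸ N) := inferInstance
  haveI : IsNoetherianRing A' :=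
    FlatSeq.isNoetherianRing_of_nilpotent N hN (Ideal.FG.map (IsNoetherian.noetherian (IsLocalRing.maximalIdeal C')) _)
  haveI : IsLocalRing (A' ⧸ N) := inferInstance
  haveI : IsLocalRing A' := FlatSeq.isLocalRing_of_nilpotent N hN
  let K := J.map (algebraMap C' A')
  let mk := Ideal.Quotient.mk K
  haveI : IsArtinianRing (C' ⧸ J) := inferInstance
  haveI : Nontrivial (C' ⧸ J) := Ideal.Quotient.nontrivial_iff.2 hJne
  haveI : IsLocalRing (C' ⧸ J) := IsLocalRing.of_surjective' _ Ideal.Quotient.mk_surjective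
  haveI : Module.Flat (C' ⧸ J) (A' ⧸ K) :=
    Module.Flat.of_linearEquiv ((((Algebra.TensorProduct.quotIdealMapEquivTensorQuot A' J).restrictScalars C').trans
      (Algebra.TensorProduct.comm C' A' (C' ⧸ J))).extendScalarsOfSurjective
        (Ideal.Quotient.mk_surjective : Function.Surjective (algebraMap C' (C' ⧸ J)))).toLinearEquiv
  have hmap : (IsLocalRing.maximalIdeal (C' ⧸ J)).map (algebraMap (C' ⧸ J) (A' ⧸ K)) = N.map mk := by
    rw [← map_maximalIdeal_eq (Ideal.Quotient.mk J) Ideal.Quotient.mk_surjective, Ideal.map_map, Ideal.map_map]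
    rfl
  have hKN : K ≤ N := Ideal.map_mono hJm
  let b : Fin r → A' ⧸ K := fun i => mk (a' i)
  haveI : Nontrivial (A' ⧸ K) := Ideal.Quotient.nontrivial_iff.2
    (ne_top_of_le_ne_top (Ideal.Quotient.nontrivial_iff.1 inferInstance : N ≠ ⊤) hKN)
  haveI : IsLocalRing (A' ⧸ K) := IsLocalRing.of_surjective' _ Ideal.Quotient.mk_surjective
  have hbne : Ideal.span (Set.range b) ≠ ⊤ := fun h => hreg.top_ne_smul (by
    rw [← FlatSeq.prefixIdeal_last, FlatSeq.prefixIdeal, List.take_of_length_le (by simp)] at h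
    rw [h, Submodule.top_smul])
  have hb : ∀ i, b i ∈ Ideal.jacobson (⊥ : Ideal (A' ⧸ K)) := fun i => by
    rw [IsLocalRing.jacobson_eq_maximalIdeal _ bot_ne_top]
    exact IsLocalRing.le_maximalIdeal hbne (Ideal.subset_span ⟨i, rfl⟩)
  have hpre : ∀ i : Fin r, FlatSeq.prefixIdeal b i = (FlatSeq.prefixIdeal a' i).map mk := fun i => by
    simp only [FlatSeq.prefixIdeal, Ideal.map_ofList, List.map_take, List.map_ofFn]
    rfl
  obtain ⟨h1, h2⟩ := FlatSeq.isWeaklyRegular_of_fib (C := C') a' fun i v hv => by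
    have h := FlatSeq.fib_of_isWeaklyRegular (C := C' ⧸ J) b hb hreg.toIsWeaklyRegular i (mk v) (by
      rw [hmap, hpre, ← Ideal.map_sup, ← map_mul]
      exact Ideal.mem_map_of_mem mk hv)
    rw [hmap, hpre, ← Ideal.map_sup, ← Ideal.mem_comap,
      Ideal.comap_map_of_surjective' _ Ideal.Quotient.mk_surjective, Ideal.mk_ker,
      sup_eq_left.2 (hKN.trans le_sup_left)] at h
    exact h
  refine ⟨{ toIsWeaklyRegular := h1, top_ne_smul := fun h => hbne (top_le_iff.1 ?_) }, h2⟩
  rw [smul_eq_mul, Ideal.mul_top] at h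
  have hlast : Ideal.span (Set.range a') = ⊤ := by
    rw [← FlatSeq.prefixIdeal_last, FlatSeq.prefixIdeal, List.take_of_length_le (by simp), ← h]
  rw [show Ideal.span (Set.range b) = (Ideal.span (Set.range a')).map mk by
    rw [Ideal.map_span, ← Set.range_comp]; rfl, hlast, Ideal.map_top]

end Groth.Agent.S11454
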