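import Groth.Statements.S11455
import Groth.Agent.ArtFunLib.FlatSeq
import Groth.Agent.ArtFunLib.ObsBounds
import Mathlib.RingTheory.TensorProduct.Quotient

set_option autoImplicit false
universe u
open DefT

namespace Groth.Agent.S11455

/-- Let C' be a local Artin ring, J ⊊ C' a proper ideal annihilated by the maximal ideal, C = C'/J, A' a
flat C'-algebra whose reduction modulo the maximal ideal of C' is a Cohen–Macaulay local ring, A =
A'/JA', and a_1, …, a_r a regular sequence on A with A/(a_1, …, a_r) flat over C. Then every ideal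
I' of A' with A'/I' flat over C' and with image (a_1, …, a_r) in A is generated by some lifts a'_1,
…, a'_r of the a_i. -/
theorem result (C' : Type u) [CommRing C'] [IsLocalRing C'] [IsArtinianRing C'] (J : Ideal C')
    (hJ : IsLocalRing.maximalIdeal C' * J = ⊥) (hJne : J ≠ ⊤) (A' : Type u) [CommRing A'] [Algebra C' A'] [Module.Flat C' A']
    [LocCoh.IsCohenMacaulayLocalRing (A' ⧸ (IsLocalRing.maximalIdeal C').map (algebraMap C' A'))]
    (r : ℕ) (a : Fin r → A' ⧸ J.map (algebraMap C' A'))
    (hreg : RingTheory.Sequence.IsRegular (A' ⧸ J.map (algebraMap C' A')) (List.ofFn a))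
    [Module.Flat (C' ⧸ J) ((A' ⧸ J.map (algebraMap C' A')) ⧸ Ideal.span (Set.range a))]
    (I' : Ideal A') [Module.Flat C' (A' ⧸ I')]
    (hI' : I'.map (Ideal.Quotient.mk (J.map (algebraMap C' A'))) = Ideal.span (Set.range a)) :
    ∃ a' : Fin r → A', (∀ i, Ideal.Quotient.mk (J.map (algebraMap C' A')) (a' i) = a i) ∧
      I' = Ideal.span (Set.range a') := by
  open Groth.Agent.ArtFunLib IsLocalRing in
  let N := (IsLocalRing.maximalIdeal C').map (algebraMap C' A')
  let K := J.map (algebraMap C' A')
  obtain ⟨n, hn⟩ := (isArtinianRing_iff_isNilpotent_maximalIdeal C').1 inferInstance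
  choose a' ha'I ha' using fun i => (Ideal.mem_map_iff_of_surjective _ Ideal.Quotient.mk_surjective).1
    (hI'.ge (Ideal.subset_span ⟨i, rfl⟩))
  have hle : Ideal.span (Set.range a') ≤ I' := Ideal.span_le.2 (by rintro _ ⟨i, rfl⟩; exact ha'I i)
  refine ⟨a', ha', le_antisymm ?_ hle⟩
  have h1 : I' ≤ Ideal.span (Set.range a') ⊔ N * I' := fun y hy => by
    have hy' := Ideal.mem_map_of_mem (Ideal.Quotient.mk K) hy
    rw [hI', show Ideal.span (Set.range a) = (Ideal.span (Set.range a')).map (Ideal.Quotient.mk K) by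
      rw [Ideal.map_span, ← Set.range_comp]; exact congrArg (fun f => Ideal.span (Set.range f)) (funext fun i => (ha' i).symm),
      Ideal.mem_map_iff_of_surjective _ Ideal.Quotient.mk_surjective] at hy'
    obtain ⟨e, he, hey⟩ := hy'
    rw [show y = e + (y - e) by ring]
    refine Submodule.add_mem_sup he ((FlatSeq.flat_quotient_iff I').1 inferInstance
      ⟨sub_mem hy (hle he), Ideal.map_mono (IsLocalRing.le_maximalIdeal hJne) (Ideal.Quotient.eq.1 hey.symm)⟩)
  have hm : ∀ m, I' ≤ Ideal.span (Set.range a') ⊔ N ^ m * I' := by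
    intro m
    induction m with
    | zero => simp
    | succ m ih =>
      refine ih.trans (sup_le le_sup_left ((Ideal.mul_mono_right h1).trans ?_))
      rw [Ideal.mul_sup, ← mul_assoc, ← pow_succ]
      exact sup_le (Ideal.mul_le_right.trans le_sup_left) le_sup_right
  have := hm n
  rwa [← Ideal.map_pow, hn, Ideal.zero_eq_bot, Ideal.map_bot, Submodule.bot_mul, sup_bot_eq] at this

end Groth.Agent.S11455
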