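import Groth.Statements.S11456
import Groth.Agent.ArtFunLib.FlatSeq

set_option autoImplicit false
universe u
open DefT

namespace Groth.Agent.S11456

/-- Let C be a local Artin ring with maximal ideal m, A a flat C-algebra such that A₀ = A/mA is a
Cohen–Macaulay local ring, and I ⊆ A an ideal with A/I flat over C whose image in A₀ is generated by
a regular sequence b_1, …, b_r on A₀. Then I is generated by r elements a_1, …, a_r forming a
regular sequence on A (so the Koszul complex on the a_i resolves A/I). -/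
theorem result (C : Type u) [CommRing C]
    [IsLocalRing C] [IsArtinianRing C] (A : Type u) [CommRing A] [Algebra C A] [Module.Flat C A]
    [LocCoh.IsCohenMacaulayLocalRing (A ⧸ (IsLocalRing.maximalIdeal C).map (algebraMap C A))]
    (I : Ideal A) [Module.Flat C (A ⧸ I)] (r : ℕ)
    (b : Fin r → A ⧸ (IsLocalRing.maximalIdeal C).map (algebraMap C A))
    (hb : RingTheory.Sequence.IsRegular (A ⧸ (IsLocalRing.maximalIdeal C).map (algebraMap C A)) (List.ofFn b))
    (hI : I.map (Ideal.Quotient.mk ((IsLocalRing.maximalIdeal C).map (algebraMap C A))) = Ideal.span (Set.range b)) :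
    ∃ a : Fin r → A, RingTheory.Sequence.IsRegular A (List.ofFn a) ∧ I = Ideal.span (Set.range a) := by
  classical
  let N := (IsLocalRing.maximalIdeal C).map (algebraMap C A)
  let π := Ideal.Quotient.mk N
  have hπ : Function.Surjective π := Ideal.Quotient.mk_surjective
  have hb' : ∀ i, ∃ a ∈ I, π a = b i := fun i =>
    (Ideal.mem_map_iff_of_surjective _ hπ).1 (hI.ge (Ideal.subset_span ⟨i, rfl⟩))
  choose a haI haπ using hb'
  have hb_eq : b = fun i => π (a i) := funext fun i => (haπ i).symm
  have hflat := (ArtFunLib.FlatSeq.flat_quotient_iff (C := C) I).1 inferInstance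
  have hgen : I = Ideal.span (Set.range a) := by
    refine le_antisymm ?_ (Ideal.span_le.2 (Set.range_subset_iff.2 haI))
    have h1 : I ≤ Ideal.span (Set.range a) ⊔ N * I := by
      intro x hx
      have hm := Ideal.mem_map_of_mem π hx
      rw [hI, hb_eq, show Set.range (fun i => π (a i)) = π '' Set.range a from (Set.range_comp π a),
        ← Ideal.map_span, Ideal.mem_map_iff_of_surjective _ hπ] at hm
      obtain ⟨y, hy, hyx⟩ := hm
      rw [show x = y + (x - y) by ring]
      refine Submodule.add_mem_sup hy (hflat ⟨sub_mem hx (Ideal.span_le.2 (Set.range_subset_iff.2 haI) hy), ?_⟩)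
      exact Ideal.Quotient.eq.1 hyx.symm
    obtain ⟨n, hn⟩ : IsNilpotent N := by
      obtain ⟨n, hn⟩ := (isArtinianRing_iff_isNilpotent_maximalIdeal C).1 inferInstance
      exact ⟨n, (Ideal.map_pow (algebraMap C A) _ n).symm.trans
        (by rw [hn, Ideal.zero_eq_bot, Ideal.map_bot, Ideal.zero_eq_bot])⟩
    have hall : ∀ m, I ≤ Ideal.span (Set.range a) ⊔ N ^ m * I := by
      intro m
      induction m with
      | zero => rw [pow_zero, one_mul]; exact le_sup_right
      | succ m ih =>
        refine ih.trans (sup_le le_sup_left ((Ideal.mul_mono_right h1).trans ?_))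
        rw [Ideal.mul_sup, pow_succ, mul_assoc]
        exact sup_le_sup_right Ideal.mul_le_right _
    have h2 := hall n
    rwa [hn, Ideal.zero_eq_bot, Ideal.bot_mul, sup_bot_eq] at h2
  have hpre : ∀ i : ℕ, ArtFunLib.FlatSeq.prefixIdeal b i = (ArtFunLib.FlatSeq.prefixIdeal a i).map π := by
    intro i
    rw [hb_eq]
    simp only [ArtFunLib.FlatSeq.prefixIdeal, Ideal.map_ofList, List.map_take, List.map_ofFn]
    rfl
  have hw := (ArtFunLib.FlatSeq.isWeaklyRegular_iff b).1 hb.toIsWeaklyRegular
  obtain ⟨hreg, -⟩ := ArtFunLib.FlatSeq.isWeaklyRegular_of_fib (C := C) a fun i v hv => by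
    have h1 : b i * π v ∈ ArtFunLib.FlatSeq.prefixIdeal b i := by
      obtain ⟨w, hw', p, hp, he⟩ := Submodule.mem_sup.1 hv
      rw [hpre, ← haπ, ← map_mul, ← he, map_add,
        show π w = 0 from Ideal.Quotient.eq_zero_iff_mem.2 hw', zero_add]
      exact Ideal.mem_map_of_mem π hp
    have h2 := hw i _ h1
    rw [hpre, Ideal.mem_map_iff_of_surjective _ hπ] at h2
    obtain ⟨p, hp, hpv⟩ := h2
    rw [show v = (v - p) + p by ring]
    exact Submodule.add_mem_sup (Ideal.Quotient.eq.1 hpv.symm) hp
  refine ⟨a, ⟨hreg, fun htop => hb.top_ne_smul ?_⟩, hgen⟩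
  rw [smul_eq_mul, Ideal.mul_top] at htop ⊢
  rw [hb_eq, show List.ofFn (fun i => π (a i)) = (List.ofFn a).map π by rw [List.map_ofFn]; rfl,
    ← Ideal.map_ofList, ← htop, Ideal.map_top]

end Groth.Agent.S11456
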