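import Groth.Statements.S11460
import Groth.Agent.HilbLoc.BurchSpread
import Groth.Agent.HilbLoc.BurchLocal
import Groth.Agent.CurveDVR.Stalk
import Groth.Agent.GeomLoc.CM
import Groth.Agent.Omega.ConormalZero
import Groth.Agent.RegImm44.BaseChange

set_option autoImplicit false
universe u
open CategoryTheory AlgebraicGeometry
open DefT

namespace Groth.Agent.S11460

/-- Let X be smooth over a field k and Y ⊆ X a closed subscheme which is Cohen–Macaulay of codimension 2
(all local rings of Y Cohen–Macaulay, and dim O_{X,y} = dim O_{Y,y} + 2 at every point y of Y). Then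
each point of Y has an affine open neighbourhood U in X and an (r+1) × r matrix φ of functions on U
whose signed maximal minors f_i generate the ideal of Y ∩ U and give an exact sequence 0 → O(U)^r →
O(U)^{r+1} → O(U), hence a resolution of O_{Y ∩ U} on the affine U. -/
theorem result (k : Type u) [Field k]
    (X Y : Scheme.{u}) (f : X ⟶ Spec (CommRingCat.of k)) [Smooth f] (ι : Y ⟶ X) [IsClosedImmersion ι]
    (hCM : ∀ y : Y, LocCoh.IsCohenMacaulayLocalRing (Y.presheaf.stalk y))
    (hcodim : ∀ y : Y, ringKrullDim (Y.presheaf.stalk y) + 2 = ringKrullDim (X.presheaf.stalk (ι.base y)))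
    (y : Y) :
    ∃ U : X.affineOpens, ι.base y ∈ (U : X.Opens) ∧ ∃ (r : ℕ) (φ : Matrix (Fin (r + 1)) (Fin r) Γ(X, U)),
      (Ideal.span (Set.range (fun i : Fin (r + 1) => (-1 : Γ(X, U)) ^ (i : ℕ) * ((φ).submatrix i.succAbove id).det)) = ι.ker.ideal U ∧
        Function.Injective (φ).mulVecLin ∧
        LinearMap.range (φ).mulVecLin = LinearMap.ker (Fintype.linearCombination Γ(X, U) (fun i : Fin (r + 1) => (-1 : Γ(X, U)) ^ (i : ℕ) * ((φ).submatrix i.succAbove id).det))) := by
  classical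
  haveI : IsLocallyNoetherian X := LocallyOfFiniteType.isLocallyNoetherian f
  obtain ⟨_, ⟨W, hW, rfl⟩, hxW, -⟩ :=
    X.isBasis_affineOpens.exists_subset_of_mem_open (Set.mem_univ (ι.base y)) isOpen_univ
  have hW' : IsAffineOpen W := hW
  have hV := RegImm44.isAffineOpen_preimage ι hW'
  have hker := Omega.ConormalZero.ker_stalkMap_eq ι hW' hV hxW (RegImm44.app_surjective ι hW')
  let Ix := RingHom.ker (ι.stalkMap y).hom
  let e : (X.presheaf.stalk (ι.base y) ⧸ Ix) ≃+* Y.presheaf.stalk y :=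
    RingHom.quotientKerEquivOfSurjective (ι.stalkMap_surjective y)
  haveI : IsRegularLocalRing (X.presheaf.stalk (ι.base y)) :=
    CurveDVR.isRegularLocalRing_stalk f _
  haveI : LocCoh.IsCohenMacaulayLocalRing (X.presheaf.stalk (ι.base y) ⧸ Ix) :=
    GeomLoc.isCohenMacaulayLocalRing_congr _ _ e.symm (hCM y)
  obtain ⟨r, φS, h1, -, h2, h3⟩ := HilbLoc.Burch.exists_minors Ix
    (by rw [ringKrullDim_eq_of_ringEquiv e]; exact hcodim y)
  letI := TopCat.Presheaf.algebra_section_stalk X.presheaf (⟨ι.base y, hxW⟩ : W)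
  haveI : IsLocalization.AtPrime (X.presheaf.stalk (ι.base y))
      (hW'.primeIdealOf ⟨ι.base y, hxW⟩).asIdeal := hW'.isLocalization_stalk ⟨ι.base y, hxW⟩
  haveI : IsNoetherianRing Γ(X, W) := IsLocallyNoetherian.component_noetherian ⟨W, hW'⟩
  let P := (hW'.primeIdealOf ⟨ι.base y, hxW⟩).asIdeal.primeCompl
  obtain ⟨b, hb, φ, hφ⟩ := HilbLoc.Burch.exists_smul_map_eq P φS
  obtain ⟨h1', h2', h3'⟩ := HilbLoc.Burch.smul_unit φS
    (IsLocalization.map_units (X.presheaf.stalk (ι.base y)) (⟨b, hb⟩ : P)) _ h1 h2 h3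
  have hI : Ix = (ι.ker.ideal ⟨W, hW'⟩).map (algebraMap Γ(X, W) (X.presheaf.stalk (ι.base y))) := by
    rw [Scheme.Hom.ker_apply]
    exact hker
  obtain ⟨T, hT, hall⟩ := HilbLoc.Burch.exists_away P (X.presheaf.stalk (ι.base y))
    (ι.ker.ideal ⟨W, hW'⟩) φ (by rw [hφ, h1']; exact hI) (by rw [hφ]; exact h2')
    (by rw [hφ]; exact h3')
  let WW : X.affineOpens := ⟨W, hW'⟩
  letI : Algebra Γ(X, W) Γ(X, X.basicOpen T) :=
    (X.presheaf.map (homOfLE (X.basicOpen_le T)).op).hom.toAlgebra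
  haveI : IsLocalization.Away T Γ(X, X.basicOpen T) := hW'.isLocalization_basicOpen T
  obtain ⟨k1, k2, k3⟩ := hall Γ(X, X.basicOpen T)
  refine ⟨X.affineBasicOpen (U := WW) T, ?_, r, _, ?_, k2, k3⟩
  · exact (X.mem_basicOpen T (ι.base y) hxW).2
      (IsLocalization.map_units (X.presheaf.stalk (ι.base y)) (⟨T, hT⟩ : P))
  · exact k1.trans (ι.ker.map_ideal_basicOpen WW T)

end Groth.Agent.S11460
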