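import Groth.Statements.S11461
import Mathlib.RingTheory.Ideal.AssociatedPrime.Finiteness
import Mathlib.RingTheory.Nakayama
import Mathlib.Algebra.Homology.ShortComplex.ModuleCat
import Mathlib.Algebra.Category.ModuleCat.EpiMono

set_option autoImplicit false
universe u
open CategoryTheory
open DefT

namespace Groth.Agent.S11461

/-- Let B be a Noetherian ring and F an additive, B-linear endofunctor of B-modules which preserves
finite generation and is semi-exact on short exact sequences of finitely generated modules (the
image sequence is exact in the middle). If F kills B/m for every maximal ideal m, then F kills every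
finitely generated B-module. (The published statement assumes F only additive; this row assumes F
B-linear, and takes the functor on all B-modules with the hypotheses and the conclusion on the
finitely generated ones.) -/
theorem result (B : Type u) [CommRing B]
    [IsNoetherianRing B] (F : ModuleCat.{u} B ⥤ ModuleCat.{u} B) [F.Additive] [F.Linear B]
    (hfg : ∀ M : ModuleCat.{u} B, Module.Finite B M → Module.Finite B (F.obj M))
    (hex : ∀ S : ShortComplex (ModuleCat.{u} B), S.ShortExact → Module.Finite B S.X₂ → (S.map F).Exact)
    (h0 : ∀ m : Ideal B, m.IsMaximal → Limits.IsZero (F.obj (ModuleCat.of B (B ⧸ m))))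
    (M : ModuleCat.{u} B) (hM : Module.Finite B M) : Limits.IsZero (F.obj M) := by
  have key : ∀ I : Ideal B, ∀ (N : Type u) [AddCommGroup N] [Module B N] [Module.Finite B N],
      (∀ i ∈ I, ∀ n : N, i • n = 0) → Limits.IsZero (F.obj (ModuleCat.of B N)) := by
    intro I
    induction I using IsNoetherian.induction with
    | hgt I IH => ?_
    intro N _ _ hNf
    induction hNf using IsNoetherianRing.induction_on_isQuotientEquivQuotientPrime B with
    | subsingleton N' =>
      exact fun _ => F.map_isZero (ModuleCat.isZero_of_subsingleton _)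
    | quotient N' p e =>
      intro hI
      refine (Limits.IsZero.of_iso ?_ (F.mapIso e.toModuleIso))
      have hle : I ≤ p.1 := fun i hi => by
        have h := hI i hi (e.symm 1)
        rw [← map_smul, e.symm.map_eq_zero_iff] at h
        exact Ideal.Quotient.eq_zero_iff_mem.1 (by simpa [Algebra.smul_def] using h)
      rcases hle.lt_or_eq with hlt | rfl
      · exact IH p.1 hlt _ fun i hi n => by
          obtain ⟨n, rfl⟩ := Ideal.Quotient.mk_surjective n
          exact Ideal.Quotient.eq_zero_iff_mem.2 (p.1.mul_mem_right n hi)
      by_cases hp : p.1.IsMaximal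
      · exact h0 _ hp
      haveI := hfg (ModuleCat.of B (B ⧸ p.1)) (inferInstanceAs (Module.Finite B (B ⧸ p.1)))
      have hsurj : ∀ x ∉ p.1, ∀ z : F.obj (ModuleCat.of B (B ⧸ p.1)), ∃ w, x • w = z := by
        intro x hx
        let J := p.1 ⊔ Ideal.span {x}
        let S : ShortComplex (ModuleCat.{u} B) := ShortComplex.mk
          (ModuleCat.ofHom (x • (LinearMap.id : (B ⧸ p.1) →ₗ[B] (B ⧸ p.1)))) (ModuleCat.ofHom (Submodule.factor (le_sup_left : p.1 ≤ J))) (by
            refine ModuleCat.hom_ext (LinearMap.ext fun a => ?_)
            obtain ⟨a, rfl⟩ := Submodule.Quotient.mk_surjective p.1 a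
            change Submodule.factor (le_sup_left : p.1 ≤ J) (x • Submodule.Quotient.mk a) = 0
            rw [← Submodule.Quotient.mk_smul]
            exact (Submodule.Quotient.mk_eq_zero J).2 (Submodule.mem_sup_right (Ideal.mem_span_singleton'.2 ⟨a, mul_comm _ _⟩)))
        have hS : S.ShortExact := by
          refine ShortComplex.ShortExact.mk' ?_ ?_ ?_
          · rw [ShortComplex.moduleCat_exact_iff]
            intro a ha
            obtain ⟨a, rfl⟩ := Submodule.Quotient.mk_surjective p.1 a
            obtain ⟨q, hq, r, hr, e⟩ := Submodule.mem_sup.1 ((Submodule.Quotient.mk_eq_zero J).1 ha)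
            obtain ⟨c, rfl⟩ := Ideal.mem_span_singleton'.1 hr
            change q + c * x = a at e
            refine ⟨Submodule.Quotient.mk c, ?_⟩
            change x • (Submodule.Quotient.mk c : B ⧸ p.1) = _
            rw [← Submodule.Quotient.mk_smul, Submodule.Quotient.eq, ← e, smul_eq_mul]
            convert p.1.neg_mem hq using 1
            ring
          · rw [ModuleCat.mono_iff_injective]
            intro a b hab
            obtain ⟨a, rfl⟩ := Submodule.Quotient.mk_surjective p.1 a
            obtain ⟨b, rfl⟩ := Submodule.Quotient.mk_surjective p.1 b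
            change x • (Submodule.Quotient.mk a : B ⧸ p.1) = x • (Submodule.Quotient.mk b : B ⧸ p.1) at hab
            rw [← Submodule.Quotient.mk_smul, ← Submodule.Quotient.mk_smul, Submodule.Quotient.eq,
              smul_eq_mul, smul_eq_mul, ← mul_sub] at hab
            exact (Submodule.Quotient.eq _).2 ((p.2.mem_or_mem hab).resolve_left hx)
          · rw [ModuleCat.epi_iff_surjective]
            exact Submodule.factor_surjective (le_sup_left : p.1 ≤ J)
        have hex' := hex S hS (inferInstanceAs (Module.Finite B (B ⧸ p.1)))
        have h3 : Limits.IsZero (F.obj S.X₃) := IH J (lt_of_le_of_ne le_sup_left fun h => hx (by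
            rw [h]; exact Submodule.mem_sup_right (Ideal.mem_span_singleton_self x))) _ fun i hi n => by
          obtain ⟨n, rfl⟩ := Ideal.Quotient.mk_surjective n
          exact Ideal.Quotient.eq_zero_iff_mem.2 (J.mul_mem_right n hi)
        intro z
        haveI := hex'.epi_f (h3.eq_of_tgt _ _)
        obtain ⟨w, hw⟩ := (ModuleCat.epi_iff_surjective _).1 this z
        refine ⟨w, hw ▸ ?_⟩
        have hf' : S.f = x • 𝟙 (ModuleCat.of B (B ⧸ p.1)) := ModuleCat.hom_ext (LinearMap.ext fun _ => rfl)
        rw [ShortComplex.map_f, hf', Functor.map_smul, F.map_id]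
        rfl
      rw [ModuleCat.isZero_iff_subsingleton]
      refine subsingleton_of_forall_eq 0 fun z => ?_
      by_contra hz
      obtain ⟨m, hm, hle'⟩ := Ideal.exists_le_maximal (LinearMap.ker (LinearMap.toSpanSingleton B _ z)) (fun h => hz (by
        have h1 : (1 : B) ∈ LinearMap.ker (LinearMap.toSpanSingleton B _ z) := h ▸ Submodule.mem_top
        simpa using h1))
      obtain ⟨x, hxm, hxp⟩ : ∃ x ∈ m, x ∉ p.1 := by
        by_contra h
        push_neg at h
        exact hp (hm.eq_of_le p.2.ne_top h ▸ hm)
      obtain ⟨r, hr1, hr⟩ := Submodule.exists_sub_one_mem_and_smul_eq_zero_of_fg_of_le_smul m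
        (⊤ : Submodule B (F.obj (ModuleCat.of B (B ⧸ p.1)))) Module.Finite.fg_top (fun y _ => by
          obtain ⟨w, rfl⟩ := hsurj x hxp y
          exact Submodule.smul_mem_smul hxm Submodule.mem_top)
      have hrm : r ∈ m := hle' (by simpa using hr z Submodule.mem_top)
      exact hm.ne_top ((Ideal.eq_top_iff_one _).2 (by simpa using m.sub_mem hrm hr1))
    | exact N₁ N₂ N₃ f g hf hg hfg' ih₁ ih₃ =>
      intro hI
      let S : ShortComplex (ModuleCat.{u} B) := ShortComplex.mk (ModuleCat.ofHom f) (ModuleCat.ofHom g)
        (by ext a; exact hfg'.apply_apply_eq_zero a)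
      have hS : S.ShortExact := ShortComplex.ShortExact.mk'
        ((ShortComplex.moduleCat_exact_iff S).2 fun a ha => (hfg' a).1 ha)
        ((ModuleCat.mono_iff_injective _).2 hf) ((ModuleCat.epi_iff_surjective _).2 hg)
      exact (hex S hS ‹_›).isZero_of_both_zeros
        ((ih₁ fun i hi n => hf (by rw [map_smul, hI i hi, map_zero])).eq_of_src _ _)
        ((ih₃ fun i hi n => by obtain ⟨n, rfl⟩ := hg n; rw [← map_smul, hI i hi, map_zero]).eq_of_tgt _ _)
  haveI := hM
  exact key ⊥ M fun i hi n => by rw [(Submodule.mem_bot _).1 hi, zero_smul]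

end Groth.Agent.S11461
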