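import Groth.Statements.S11462
import Groth.Agent.HartogsAffine.Basic
import Groth.Agent.ParaFLib.PicUFD
import Groth.Agent.EGA4Lib.DepthFlat
import Groth.Agent.CIntCodim.Basic

set_option autoImplicit false
universe u
open CategoryTheory AlgebraicGeometry Opposite
open DefT

namespace Groth.Agent.S11462

open IsLocalRing TensorProduct

theorem two_le_depth (C : Type u) [CommRing C]
    [IsLocalRing C] [IsArtinianRing C] (A : Type u) [CommRing A] [IsNoetherianRing A] [Algebra C A]
    [Module.Flat C A]
    (hnorm : Pi1.IsNormalScheme (Spec (CommRingCat.of (A ⧸ (IsLocalRing.maximalIdeal C).map (algebraMap C A)))))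
    (p : Ideal A) [p.IsPrime] (hp : (2 : ℕ∞) ≤ p.height) :
    (2 : ℕ∞) ≤ LocCoh.depth (Localization.AtPrime p) (Localization.AtPrime p) := by
  let I : Ideal A := (maximalIdeal C).map (algebraMap C A)
  obtain ⟨N, hN⟩ : IsNilpotent (maximalIdeal C) := by
    rw [← IsLocalRing.jacobson_eq_maximalIdeal ⊥ bot_ne_top]
    exact IsArtinianRing.isNilpotent_jacobson_bot
  have hInil : I ^ N = ⊥ := by
    rw [← Ideal.map_pow, hN, Ideal.zero_eq_bot, Ideal.map_bot]
  have hIp : I ≤ p := fun a ha => by
    refine (inferInstance : p.IsPrime).mem_of_pow_mem N ?_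
    rw [(by simpa [hInil] using Ideal.pow_mem_pow ha N : a ^ N = 0)]
    exact p.zero_mem
  let q : Ideal (A ⧸ I) := p.map (Ideal.Quotient.mk I)
  haveI : q.IsPrime := Ideal.map_isPrime_of_surjective Ideal.Quotient.mk_surjective (by rwa [Ideal.mk_ker])
  have hpq : p = q.comap (Ideal.Quotient.mk I) := by
    rw [Ideal.comap_map_of_surjective _ Ideal.Quotient.mk_surjective, ← RingHom.ker_eq_comap_bot,
      Ideal.mk_ker, sup_eq_left.2 hIp]
  let S := Localization.AtPrime p
  let T := Localization.AtPrime q
  let φ : S →+* T := Localization.localRingHom p q (Ideal.Quotient.mk I) hpq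
  let J : Ideal S := (maximalIdeal C).map (algebraMap C S)
  have hJI : J = I.map (algebraMap A S) := by
    rw [Ideal.map_map, ← IsScalarTower.algebraMap_eq]
  have hφ : ∀ (a : A) (s : p.primeCompl), φ (IsLocalization.mk' S a s) =
      IsLocalization.mk' T (Ideal.Quotient.mk I a) (⟨Ideal.Quotient.mk I s, fun h => s.2 ((SetLike.ext_iff.1 hpq _).2 h)⟩ : q.primeCompl) :=
    fun a s => Localization.localRingHom_mk' p q _ hpq a s
  have hsurj : Function.Surjective φ := fun t => by
    obtain ⟨b, s, rfl⟩ := IsLocalization.exists_mk'_eq q.primeCompl t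
    obtain ⟨a, rfl⟩ := Ideal.Quotient.mk_surjective b
    obtain ⟨s', hs'⟩ := Ideal.Quotient.mk_surjective (s : A ⧸ I)
    refine ⟨IsLocalization.mk' S a (⟨s', fun h => s.2 (hs' ▸ Ideal.mem_map_of_mem _ h)⟩ : p.primeCompl), ?_⟩
    rw [hφ]
    congr 1
    exact Subtype.ext hs'
  have hker : RingHom.ker φ = J := by
    refine le_antisymm (fun z hz => ?_) (hJI ▸ Ideal.map_le_iff_le_comap.2 fun a ha => ?_)
    · obtain ⟨a, s, rfl⟩ := IsLocalization.exists_mk'_eq p.primeCompl z
      rw [RingHom.mem_ker, hφ, IsLocalization.mk'_eq_zero_iff] at hz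
      obtain ⟨⟨m, hm⟩, hma⟩ := hz
      obtain ⟨m', rfl⟩ := Ideal.Quotient.mk_surjective m
      rw [← map_mul, Ideal.Quotient.eq_zero_iff_mem] at hma
      have hu : IsUnit (algebraMap A S m') :=
        IsLocalization.map_units S (⟨m', fun h => hm (Ideal.mem_map_of_mem _ h)⟩ : p.primeCompl)
      have h1 : algebraMap A S a ∈ J := by
        rw [← Ideal.unit_mul_mem_iff_mem J hu, ← map_mul, hJI]
        exact Ideal.mem_map_of_mem _ hma
      rw [IsLocalization.mk'_eq_mul_mk'_one]
      exact Ideal.mul_mem_right _ _ h1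
    · rw [Ideal.mem_comap, RingHom.mem_ker]
      refine (Localization.localRingHom_to_map p q (Ideal.Quotient.mk I) hpq a).trans ?_
      rw [Ideal.Quotient.eq_zero_iff_mem.2 ha, map_zero]
  haveI : IsLocalHom (algebraMap C S) := ⟨fun c hc => by
    by_contra h
    exact (mem_maximalIdeal (algebraMap C S c)).1
      ((IsLocalization.AtPrime.to_map_mem_maximal_iff S p (algebraMap C A c)).2
        (hIp (Ideal.mem_map_of_mem _ h)) |> fun h' => by
          rwa [← IsScalarTower.algebraMap_apply] at h') hc⟩
  haveI : Module.Flat C S := Module.Flat.trans C A S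
  haveI : Nontrivial (S ⧸ J) := Ideal.Quotient.nontrivial_iff.2 (hker ▸ RingHom.ker_ne_top φ)
  haveI : IsLocalRing (S ⧸ J) := IsLocalRing.of_surjective' (Ideal.Quotient.mk _) Ideal.Quotient.mk_surjective
  let e : S ⧸ J ≃+* T := (Ideal.quotEquivOfEq hker.symm).trans (RingHom.quotientKerEquivOfSurjective hsurj)
  -- dimension
  have hnilJ : J ≤ nilradical S := fun z hz => ⟨N, by
    have h := Ideal.pow_mem_pow hz N
    rw [hJI, ← Ideal.map_pow, hInil, Ideal.map_bot] at h
    exact h⟩
  have hdim : (2 : WithBot ℕ∞) ≤ ringKrullDim T := by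
    rw [← ringKrullDim_eq_of_ringEquiv e, ringKrullDim_quotient]
    have huniv : PrimeSpectrum.zeroLocus (J : Set S) = Set.univ :=
      Set.eq_univ_of_forall fun P => hnilJ.trans (nilradical_le_prime P.asIdeal)
    rw [huniv, Order.krullDim_eq_of_orderIso (OrderIso.Set.univ)]
    change (2 : WithBot ℕ∞) ≤ ringKrullDim S
    rw [IsLocalization.AtPrime.ringKrullDim_eq_height p S]
    exact WithBot.coe_le_coe.2 hp
  -- normality
  let y : PrimeSpectrum (A ⧸ I) := ⟨q, inferInstance⟩
  haveI hyl : IsLocalization q.primeCompl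
      ((AlgebraicGeometry.Spec.structureSheaf (A ⧸ I)).presheaf.stalk y) :=
    StructureSheaf.IsLocalization.to_stalk (A ⧸ I) y
  let e' : (Spec (CommRingCat.of (A ⧸ I))).presheaf.stalk y ≃+* T :=
    (IsLocalization.algEquiv q.primeCompl
      ((AlgebraicGeometry.Spec.structureSheaf (A ⧸ I)).presheaf.stalk y) T).toRingEquiv
  haveI := (hnorm y).1
  haveI := (hnorm y).2
  haveI : IsDomain T := e'.symm.toMulEquiv.isDomain
  haveI : IsIntegrallyClosed T := IsIntegrallyClosed.of_equiv e'
  have h2 : (2 : ℕ∞) ≤ LocCoh.depth T T := Groth.Agent.ParaFLib.PicUFD.two_le_depth_of_normal (A := T) hdim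
  refine h2.trans ?_
  rw [← (Groth.Agent.EGA4Lib.depth_supportDim_ringEquiv e).1]
  obtain ⟨h3, -⟩ := Groth.Agent.EGA4Lib.depth_supportDim_of_surjective (R := S)
    (S := S ⧸ J) Ideal.Quotient.mk_surjective (S ⧸ J)
  have h := Groth.Agent.EGA4Lib.depth_tensor_of_flat (R := C) (S := S) (N := S) (M := C)
  obtain ⟨h4, -⟩ := Groth.Agent.EGA4Lib.depth_supportDim_congr (L := S)
    (TensorProduct.AlgebraTensorModule.rid C S S)
  obtain ⟨h5, -⟩ := Groth.Agent.EGA4Lib.depth_supportDim_congr (L := S)
    (Submodule.quotEquivOfEq (J • (⊤ : Submodule S S)) J (by rw [smul_eq_mul, Ideal.mul_top]))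
  rw [h3, ← h4, h, h5]
  exact le_add_self

/-- Let C be a local Artin ring with maximal ideal m, A a Noetherian C-algebra flat over C such that
Spec(A/mA) is a normal scheme, and U ⊆ X = Spec A an open subset whose closed complement has
codimension ≥ 2, i.e. every prime of A not in U has height at least 2. Then the restriction map Γ(X,
O_X) → Γ(U, O_X) is bijective. (The published statement assumes only that A is flat over C with
normal special fibre; this row also assumes A Noetherian: for a valuation ring of rank two over a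
field, which is normal and flat, the functions on the complement of the closed point are not all
global.) -/
theorem result (C : Type u) [CommRing C]
    [IsLocalRing C] [IsArtinianRing C] (A : Type u) [CommRing A] [IsNoetherianRing A] [Algebra C A]
    [Module.Flat C A]
    (hnorm : Pi1.IsNormalScheme (Spec (CommRingCat.of (A ⧸ (IsLocalRing.maximalIdeal C).map (algebraMap C A)))))
    (U : (Spec (CommRingCat.of A)).Opens)
    (hU : ∀ p : ↥(Spec (CommRingCat.of A)), p ∉ U → (2 : ℕ∞) ≤ p.asIdeal.height) :
    Function.Bijective ((Spec (CommRingCat.of A)).presheaf.map (homOfLE (le_top : U ≤ ⊤)).op) := by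
  refine Groth.Agent.HartogsAffine.bijective_res U fun x hx => ?_
  haveI : x.asIdeal.IsPrime := x.isPrime
  let y : PrimeSpectrum A := x
  haveI hyl : IsLocalization x.asIdeal.primeCompl
      ((AlgebraicGeometry.Spec.structureSheaf A).presheaf.stalk y) :=
    StructureSheaf.IsLocalization.to_stalk A y
  have e : (Spec (CommRingCat.of A)).presheaf.stalk x ≃+* Localization.AtPrime x.asIdeal :=
    (IsLocalization.algEquiv x.asIdeal.primeCompl
      ((AlgebraicGeometry.Spec.structureSheaf A).presheaf.stalk y)
      (Localization.AtPrime x.asIdeal)).toRingEquiv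
  rw [(Groth.Agent.EGA4Lib.depth_supportDim_ringEquiv e).1]
  exact two_le_depth C A hnorm x.asIdeal (hU x hx)

end Groth.Agent.S11462
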