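import Groth.Statements.S11468
import Groth.Agent.DefSchLib.Affine

set_option autoImplicit false
universe u
open CategoryTheory AlgebraicGeometry
open DefT

namespace Groth.Agent.S11468

/-- Let C be a local Artin ring with maximal ideal m and residue field k = C/m, g : X → Spec C a flat
morphism, and i : X₀ → X the fibre of g over the closed point, i.e. a pullback of g along Spec k →
Spec C, with structure map f₀ : X₀ → Spec k. If the induced ring map k → Γ(X₀, O_{X₀}) is bijective,
then so is C → Γ(X, O_X). -/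
theorem result (C : Type u) [CommRing C]
    [IsLocalRing C] [IsArtinianRing C] (X X₀ : Scheme.{u}) (g : X ⟶ Spec (CommRingCat.of C)) [Flat g]
    (i : X₀ ⟶ X) (f₀ : X₀ ⟶ Spec (CommRingCat.of (C ⧸ IsLocalRing.maximalIdeal C)))
    (hsq : IsPullback i f₀ g
      (Spec.map (CommRingCat.ofHom (Ideal.Quotient.mk (IsLocalRing.maximalIdeal C)))))
    (h0 : Function.Bijective ((Scheme.ΓSpecIso (CommRingCat.of (C ⧸ IsLocalRing.maximalIdeal C))).inv ≫
      f₀.appTop)) :
    Function.Bijective ((Scheme.ΓSpecIso (CommRingCat.of C)).inv ≫ g.appTop) := by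
  classical
  open Groth.Agent.DefSchLib IsLocalRing in
  let e : C →+* C ⧸ maximalIdeal C := Ideal.Quotient.mk (maximalIdeal C)
  have he : Function.Surjective e := Ideal.Quotient.mk_surjective
  have hker : RingHom.ker e = maximalIdeal C := Ideal.mk_ker
  haveI : IsClosedImmersion (Spec.map (CommRingCat.ofHom e)) := IsClosedImmersion.spec_of_surjective _ he
  have hg : ((Scheme.ΓSpecIso (CommRingCat.of C)).inv ≫ g.appTop).hom = str g ⊤ := by
    rw [str, Scheme.Hom.appTop, Scheme.Hom.app_eq_appLE]
    rfl
  have hf0 : ((Scheme.ΓSpecIso (CommRingCat.of (C ⧸ maximalIdeal C))).inv ≫ f₀.appTop).hom = str f₀ (i ⁻¹ᵁ ⊤) := by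
    rw [str, Scheme.Hom.appTop, Scheme.Hom.app_eq_appLE]
    rfl
  change Function.Bijective ((Scheme.ΓSpecIso (CommRingCat.of C)).inv ≫ g.appTop).hom
  rw [hg]
  have h0' : Function.Bijective (str f₀ (i ⁻¹ᵁ ⊤)) := by rw [← hf0]; exact h0
  refine ⟨?_, fun n => ?_⟩
  · obtain ⟨z⟩ : Nonempty X₀ := by
      by_contra h
      rw [not_nonempty_iff] at h
      haveI : Subsingleton Γ(X₀, i ⁻¹ᵁ ⊤) := by
        have he' : (i ⁻¹ᵁ ⊤ : X₀.Opens) = ⊥ := by ext z; exact (h.false z).elim
        rw [he']; infer_instance
      exact zero_ne_one (α := C ⧸ maximalIdeal C) (h0'.1 (Subsingleton.elim _ _))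
    obtain ⟨U, hU, hzU, -⟩ := TopologicalSpace.Opens.isBasis_iff_nbhd.1 X.isBasis_affineOpens
      (show i z ∈ (⊤ : X.Opens) from trivial)
    intro a b hab
    refine injective_of_flat _ (flat_str hU) (one_not_mem he hker hsq hU ⟨_, hzU⟩) ?_
    have h1 := congrArg (X.presheaf.map (homOfLE (le_top : U ≤ ⊤)).op) hab
    rwa [map_str g, map_str g] at h1
  · suffices H : ∀ K : Ideal C, ∀ n : Γ(X, ⊤), (∀ V : AffIn (⊤ : X.Opens), X.presheaf.map (homOfLE V.2).op n ∈ K.map (str g V.1)) →
        ∃ a, str g ⊤ a = n by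
      refine H ⊤ n fun V => ?_
      rw [Ideal.map_top]
      trivial
    intro K
    induction K using WellFoundedLT.induction with
    | _ K ih =>
      intro n hn
      by_cases hK : K = ⊥
      · subst hK
        refine ⟨0, (map_zero _).trans (eq_of_affine fun V => ?_)⟩
        rw [map_zero]
        have := hn V
        rw [Ideal.map_bot, Ideal.mem_bot] at this
        exact this.symm
      obtain ⟨K', c, hlt, -, hc, hKc, hmc⟩ := exists_step hK
      choose y hy using fun V => split_mem (str g _) hKc (hn V)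
      have hcompat : ∀ (V V' : AffIn (⊤ : X.Opens)) (h : (V'.1 : X.Opens) ≤ V.1),
          X₀.presheaf.map (homOfLE (i.preimage_mono h)).op (i.app _ (y V)) = i.app _ (y V') := by
        intro V V' h
        rw [← app_res, ← sub_eq_zero, ← map_sub]
        refine RingHom.mem_ker.1 (show _ ∈ RingHom.ker (i.app V'.1.1).hom from ?_)
        rw [(ker_app he hsq V'.1.2).2.2, hker]
        refine cancel _ (flat_str V'.1.2) hc ?_
        have h1 := Ideal.mem_map_of_mem (X.presheaf.map (homOfLE h).op).hom (hy V)
        have hcomp : (X.presheaf.map (homOfLE h).op).hom.comp (str g V.1.1) = str g V'.1.1 :=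
          RingHom.ext fun a => map_str g h a
        rw [Ideal.map_map, hcomp, map_sub, map_mul, res_res _ _ (homOfLE V'.2), ← RingHom.comp_apply _ (str g V.1.1), hcomp] at h1
        have h2 := sub_mem (hy V') h1
        rw [show X.presheaf.map (homOfLE V'.2).op n - str g V'.1.1 c * y V'
          - (X.presheaf.map (homOfLE V'.2).op n - str g V'.1.1 c * X.presheaf.map (homOfLE h).op (y V))
          = str g V'.1.1 c * (X.presheaf.map (homOfLE h).op (y V) - y V') by ring] at h2
        exact h2
      obtain ⟨s, hs⟩ := exists_glue_pre i ⊤ _ hcompat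
      obtain ⟨a, rfl⟩ := h0'.2 s
      obtain ⟨a, rfl⟩ := he a
      obtain ⟨b, hb⟩ := ih K' hlt (n - str g ⊤ (c * a)) fun V => by
        have hm : y V - str g V.1.1 a ∈ (maximalIdeal C).map (str g V.1.1) := by
          rw [← hker, ← (ker_app he hsq V.1.2).2.2, RingHom.mem_ker, map_sub, sub_eq_zero]
          rw [← hs V, map_str f₀]
          exact ((ker_app he hsq V.1.2).2.1 a).symm
        have h2 : str g V.1.1 c * (y V - str g V.1.1 a) ∈ K'.map (str g V.1.1) := by
          have h3 := Ideal.mul_mem_mul (Ideal.mem_map_of_mem (str g V.1.1) (Ideal.mem_span_singleton_self c)) hm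
          rw [← Ideal.map_mul] at h3
          refine Ideal.map_mono ?_ h3
          rw [Ideal.mul_le]
          intro r hr m hm'
          obtain ⟨r', rfl⟩ := Ideal.mem_span_singleton'.1 hr
          rw [mul_comm]
          exact hmc m hm' _ (hKc ▸ Submodule.mem_sup_right hr)
        rw [map_sub, map_str g, map_mul]
        have := add_mem (hy V) h2
        rwa [show X.presheaf.map (homOfLE V.2).op n - str g V.1.1 c * y V + str g V.1.1 c * (y V - str g V.1.1 a)
          = X.presheaf.map (homOfLE V.2).op n - str g V.1.1 c * str g V.1.1 a by ring] at this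
      exact ⟨b + c * a, by rw [map_add, hb, sub_add_cancel]⟩

end Groth.Agent.S11468
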