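import Groth.Statements.S11469
import Mathlib.RingTheory.Flat.Tensor

set_option autoImplicit false
universe u
open scoped TensorProduct
open DefT

namespace Groth.Agent.S11469

section Aux

open scoped TensorProduct

variable {C' : Type u} [CommRing C'] (J : Ideal C') {A' : Type u} [CommRing A'] [Algebra C' A']
  (M' : Type u) [AddCommGroup M'] [Module A' M'] [Module C' M'] [IsScalarTower C' A' M']

/-- Multiplication `M' ⊗ J → M'`. -/
noncomputable def μ : M' ⊗[C'] ↥J →ₗ[A'] M' :=
  (TensorProduct.AlgebraTensorModule.rid C' A' M').toLinearMap ∘ₗ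
    TensorProduct.AlgebraTensorModule.map LinearMap.id J.subtype

lemma μ_eq (z : M' ⊗[C'] ↥J) :
    TensorProduct.rid C' M' (LinearMap.lTensor M' (Submodule.subtype J) z) = μ J M' (A' := A') z := by
  induction z using TensorProduct.induction_on with
  | zero => simp
  | tmul b j => simp [μ]
  | add x y hx hy => rw [map_add, map_add, map_add, hx, hy]

lemma μ_injective [Module.Flat C' M'] : Function.Injective (μ J M' (A' := A')) := fun x y h => by
  rw [← μ_eq, ← μ_eq] at h
  exact Module.Flat.lTensor_preserves_injective_linearMap _ Subtype.val_injective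
    ((TensorProduct.rid C' M').injective h)

lemma exists_μ_eq {w : M'} (hw : w ∈ (J.map (algebraMap C' A')) • (⊤ : Submodule A' M')) :
    ∃ z, μ J M' (A' := A') z = w := by
  refine Submodule.smul_induction_on hw (fun a ha x _ => ?_) fun x y ⟨a, ha⟩ ⟨b, hb⟩ =>
    ⟨a + b, by rw [map_add, ha, hb]⟩
  induction ha using Submodule.span_induction generalizing x with
  | mem a ha =>
    obtain ⟨j, hj, rfl⟩ := ha
    exact ⟨x ⊗ₜ (⟨j, hj⟩ : J), by simp [μ]⟩
  | zero => exact ⟨0, by simp⟩
  | add a b _ _ iha ihb =>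
    obtain ⟨z, hz⟩ := iha x (by simp)
    obtain ⟨w, hw⟩ := ihb x (by simp)
    exact ⟨z + w, by rw [map_add, hz, hw, add_smul]⟩
  | smul c a _ ih =>
    obtain ⟨z, hz⟩ := ih (c • x) (by simp)
    exact ⟨z, by rw [hz, smul_eq_mul, mul_comm, mul_smul]⟩

lemma μ_mem (z : M' ⊗[C'] ↥J) : μ J M' (A' := A') z ∈ (J.map (algebraMap C' A')) • (⊤ : Submodule A' M') := by
  induction z using TensorProduct.induction_on with
  | zero => simp
  | tmul x j =>
    rw [show μ J M' (A' := A') (x ⊗ₜ j) = (j : C') • x by simp [μ], ← algebraMap_smul A' (j : C') x]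
    exact Submodule.smul_mem_smul (Ideal.mem_map_of_mem _ j.2) Submodule.mem_top
  | add x y hx hy => rw [map_add]; exact add_mem hx hy

variable [IsLocalRing C'] (hJ : IsLocalRing.maximalIdeal C' * J = ⊥)

include hJ

lemma smul_eq_zero_of_mem {a : A'} (ha : a ∈ (IsLocalRing.maximalIdeal C').map (algebraMap C' A'))
    (z : M' ⊗[C'] ↥J) : a • z = 0 := by
  induction ha using Submodule.span_induction with
  | mem a ha =>
    obtain ⟨c, hc, rfl⟩ := ha
    induction z using TensorProduct.induction_on with
    | zero => simp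
    | tmul x j =>
      rw [algebraMap_smul, ← TensorProduct.tmul_smul]
      have : c • j = 0 := Subtype.ext (by
        have := Ideal.mul_mem_mul hc j.2
        rwa [hJ, Ideal.mem_bot] at this)
      rw [this, TensorProduct.tmul_zero]
    | add x y hx hy => rw [smul_add, hx, hy, add_zero]
  | zero => exact zero_smul _ _
  | add a b _ _ iha ihb => rw [add_smul, iha, ihb, add_zero]
  | smul c a _ ih => rw [smul_eq_mul, mul_smul, ih, smul_zero]

lemma ν_bijective :
    Function.Bijective (LinearMap.rTensor ↥J ((Submodule.mkQ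
      (((IsLocalRing.maximalIdeal C').map (algebraMap C' A')) • (⊤ : Submodule A' M'))).restrictScalars C')) := by
  let N := ((IsLocalRing.maximalIdeal C').map (algebraMap C' A')) • (⊤ : Submodule A' M')
  have hs : Function.Surjective ((N.mkQ).restrictScalars C') := N.mkQ_surjective
  refine ⟨(injective_iff_map_eq_zero _).2 fun z hz => ?_, LinearMap.rTensor_surjective _ hs⟩
  obtain ⟨y, rfl⟩ := (rTensor_exact ↥J (f := (N.subtype).restrictScalars C')
    (g := (N.mkQ).restrictScalars C') (fun m => ⟨fun h => ⟨⟨m, (Submodule.Quotient.mk_eq_zero N).1 h⟩, rfl⟩,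
      fun ⟨w, hw⟩ => hw ▸ (Submodule.Quotient.mk_eq_zero N).2 w.2⟩) hs z).1 hz
  clear hz
  induction y using TensorProduct.induction_on with
  | zero => rw [map_zero]
  | tmul w j =>
    obtain ⟨w, hw⟩ := w
    rw [LinearMap.rTensor_tmul]
    change w ⊗ₜ[C'] j = 0
    refine Submodule.smul_induction_on hw (fun a ha x _ => ?_) fun x y hx hy => ?_
    · rw [← TensorProduct.smul_tmul', smul_eq_zero_of_mem J M' hJ ha]
    · rw [TensorProduct.add_tmul, hx, hy, add_zero]
  | add x y hx hy => rw [map_add, hx, hy, add_zero]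

end Aux

/-- Let C' be a local Artin ring with maximal ideal m, J ⊊ C' a proper ideal with mJ = 0, A' a
C'-algebra, M' an A'-module flat over C', and M₀ = M'/mM'. Then (1) every A'-linear endomorphism σ
of M' that is the identity modulo JM' is bijective, and there is exactly one A'-linear τ : M₀ → M₀
⊗_{C'} J such that, for all x ∈ M' and all z ∈ M' ⊗_{C'} J mapping to σ(x) − x in M', the image of z
in M₀ ⊗_{C'} J is τ applied to the class of x; and (2) every A'-linear τ : M₀ → M₀ ⊗_{C'} J comes in
this way from some such σ. Thus the automorphisms of the extension M' inducing the identity on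
M'/JM' correspond to Hom(M₀, M₀ ⊗ J). -/
theorem result (C' : Type u) [CommRing C'] [IsLocalRing C']
    [IsArtinianRing C'] (J : Ideal C') (hJ : IsLocalRing.maximalIdeal C' * J = ⊥) (hJne : J ≠ ⊤)
    (A' : Type u) [CommRing A'] [Algebra C' A'] (M' : Type u) [AddCommGroup M'] [Module A' M'] [Module C' M']
    [IsScalarTower C' A' M'] [Module.Flat C' M'] :
    (∀ σ : M' →ₗ[A'] M', (∀ x : M', σ x - x ∈ (J.map (algebraMap C' A')) • (⊤ : Submodule A' M')) →
      Function.Bijective σ ∧
        ∃! τ : (M' ⧸ ((IsLocalRing.maximalIdeal C').map (algebraMap C' A')) • (⊤ : Submodule A' M')) →ₗ[A'] ((M' ⧸ ((IsLocalRing.maximalIdeal C').map (algebraMap C' A')) • (⊤ : Submodule A' M')) ⊗[C'] ↥J),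
          (∀ (x : M') (z : M' ⊗[C'] ↥J), TensorProduct.rid C' M' (LinearMap.lTensor M' (Submodule.subtype J) z) = σ x - x →
            LinearMap.rTensor ↥J ((Submodule.mkQ (((IsLocalRing.maximalIdeal C').map (algebraMap C' A')) • (⊤ : Submodule A' M'))).restrictScalars C') z =
              τ (Submodule.mkQ _ x))) ∧
    (∀ τ : (M' ⧸ ((IsLocalRing.maximalIdeal C').map (algebraMap C' A')) • (⊤ : Submodule A' M')) →ₗ[A'] ((M' ⧸ ((IsLocalRing.maximalIdeal C').map (algebraMap C' A')) • (⊤ : Submodule A' M')) ⊗[C'] ↥J),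
      ∃ σ : M' →ₗ[A'] M', (∀ x : M', σ x - x ∈ (J.map (algebraMap C' A')) • (⊤ : Submodule A' M')) ∧
          (∀ (x : M') (z : M' ⊗[C'] ↥J), TensorProduct.rid C' M' (LinearMap.lTensor M' (Submodule.subtype J) z) = σ x - x →
            LinearMap.rTensor ↥J ((Submodule.mkQ (((IsLocalRing.maximalIdeal C').map (algebraMap C' A')) • (⊤ : Submodule A' M'))).restrictScalars C') z =
              τ (Submodule.mkQ _ x))) := by
  classical
  let Mb := M' ⧸ ((IsLocalRing.maximalIdeal C').map (algebraMap C' A')) • (⊤ : Submodule A' M')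
  let ν : M' ⊗[C'] ↥J →ₗ[A'] Mb ⊗[C'] ↥J :=
    TensorProduct.AlgebraTensorModule.map (Submodule.mkQ _) LinearMap.id
  have hν : ∀ z, LinearMap.rTensor ↥J ((Submodule.mkQ (((IsLocalRing.maximalIdeal C').map (algebraMap C' A')) • (⊤ : Submodule A' M'))).restrictScalars C') z = ν z := fun z => rfl
  have hJJ : J ≤ IsLocalRing.maximalIdeal C' := IsLocalRing.le_maximalIdeal hJne
  refine ⟨fun σ hσ => ?_, fun τ => ?_⟩
  · let d : M' →ₗ[A'] M' := σ - LinearMap.id
    have hd : ∀ x, d x = σ x - x := fun x => rfl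
    have hdd : ∀ x, d (d x) = 0 := fun x => by
      obtain ⟨z, hz⟩ := exists_μ_eq J M' (A' := A') (hd x ▸ hσ x)
      rw [← hz]
      clear hz
      induction z using TensorProduct.induction_on with
      | zero => simp
      | tmul y j =>
        obtain ⟨w, hw⟩ := exists_μ_eq J M' (A' := A') (hd y ▸ hσ y)
        rw [show μ J M' (A' := A') (y ⊗ₜ[C'] j) = (j : C') • y by simp [μ], ← algebraMap_smul A', map_smul,
          ← hw, ← map_smul, smul_eq_zero_of_mem J M' hJ (Ideal.mem_map_of_mem _ (hJJ j.2)), map_zero]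
      | add a b ha hb => rw [map_add, map_add, ha, hb, add_zero]
    refine ⟨⟨fun x y h => ?_, fun y => ⟨y - d y, ?_⟩⟩, ?_⟩
    · have h1 : d (x - y) = -(x - y) := by rw [hd, map_sub, h, sub_self, zero_sub]
      have h2 := hdd (x - y)
      rw [h1, map_neg, h1, neg_neg] at h2
      exact sub_eq_zero.1 h2
    · have h2 := hdd y
      rw [hd (d y), sub_eq_zero] at h2
      rw [map_sub, h2, hd]
      abel
    choose z hz using fun x => exists_μ_eq J M' (A' := A') (hσ x)
    let t : M' →ₗ[A'] M' ⊗[C'] ↥J :=
      { toFun := z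
        map_add' := fun x y => μ_injective J M' (by rw [map_add, hz, hz, hz, map_add]; abel)
        map_smul' := fun a x => μ_injective J M' (by rw [RingHom.id_apply, map_smul, hz, hz, map_smul, smul_sub]) }
    have ht : ((IsLocalRing.maximalIdeal C').map (algebraMap C' A')) • (⊤ : Submodule A' M') ≤ LinearMap.ker (ν ∘ₗ t) :=
      Submodule.smul_le.2 fun a ha x _ => by
        rw [LinearMap.mem_ker, map_smul, LinearMap.comp_apply, ← map_smul, smul_eq_zero_of_mem J M' hJ ha, map_zero]
    refine ⟨Submodule.liftQ _ (ν ∘ₗ t) ht, fun x w hw => ?_, fun τ' hτ' => ?_⟩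
    · rw [μ_eq (A' := A')] at hw
      rw [show w = z x from μ_injective J M' (hw.trans (hz x).symm), hν]
      rfl
    · refine Submodule.linearMap_qext _ (LinearMap.ext fun x => ?_)
      exact (hτ' x (z x) (by rw [μ_eq (A' := A'), hz])).symm
  · have hb : Function.Bijective ν := ν_bijective J M' hJ
    let e := LinearEquiv.ofBijective ν hb
    refine ⟨LinearMap.id + (μ J M').comp (e.symm.toLinearMap.comp (τ.comp (Submodule.mkQ _))), fun x => ?_, fun x w hw => ?_⟩
    · rw [LinearMap.add_apply, LinearMap.id_apply, add_sub_cancel_left]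
      exact μ_mem J M' _
    · rw [LinearMap.add_apply, LinearMap.id_apply, add_sub_cancel_left, μ_eq (A' := A')] at hw
      rw [μ_injective J M' hw, hν]
      exact e.apply_symm_apply _

end Groth.Agent.S11469
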