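import Groth.Statements.S1147
import Groth.Agent.S1375
-- import your own Groth.Agent.* helpers here

set_option autoImplicit false
universe u
open Desc

namespace Groth.Agent.S1147

open AlgebraicGeometry CategoryTheory

/-- A point which is isolated in its closure has a closed image under a surjective generalizing
quasi-finite map from a Jacobson space. -/
theorem isClosed_singleton_of_quasiFinite {T : Scheme.{u}} [JacobsonSpace T] {X : Scheme.{u}}
    (h : T ⟶ X) [Flat h] [Surjective h] [LocallyQuasiFinite h] (p : X) (hp : IsLocallyClosed ({p} : Set X)) :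
    IsClosed ({p} : Set X) := by
  have hclosed : ∀ y : T, h y = p → IsClosed ({y} : Set T) := by
    intro y hy
    have hd := h.isDiscrete_preimage_singleton p
    have := hd.to_subtype
    obtain ⟨U, hU, hU'⟩ := isOpen_induced_iff.mp (isOpen_discrete ({⟨y, hy⟩} : Set ↥(h ⁻¹' {p})))
    refine isClosed_singleton_of_isLocallyClosed_singleton ?_
    rw [show ({y} : Set T) = U ∩ h ⁻¹' {p} by
      ext z
      constructor
      · rintro rfl; exact ⟨((Set.ext_iff.mp hU') ⟨z, hy⟩).mpr rfl, hy⟩
      · rintro ⟨hz, hz'⟩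
        exact congrArg Subtype.val ((Set.ext_iff.mp hU') ⟨z, hz'⟩ |>.mp hz)]
    exact hU.isLocallyClosed.inter (hp.preimage h.continuous)
  rw [← closure_eq_iff_isClosed]
  refine subset_antisymm (fun m hm => ?_) subset_closure
  obtain ⟨y', rfl⟩ := h.surjective m
  obtain ⟨y, hyy, hy⟩ := Flat.generalizingMap h (specializes_iff_mem_closure.mpr hm)
  have hmem : y' ∈ closure ({y} : Set T) := specializes_iff_mem_closure.mp hyy
  rw [(hclosed y hy).closure_eq, Set.mem_singleton_iff] at hmem
  rw [Set.mem_singleton_iff, hmem, hy]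


/-- Let A → B be a faithfully flat ring map of finite presentation. If B is a Jacobson ring then so is
A. (This is the affine descent direction of the statement that the Jacobson property is fppf local.) -/
theorem result (A B : Type u) [CommRing A] [CommRing B] [Algebra A B]
    [Module.FaithfullyFlat A B] [Algebra.FinitePresentation A B] [IsJacobsonRing B] : IsJacobsonRing A := by
  let g : Spec (CommRingCat.of B) ⟶ Spec (CommRingCat.of A) :=
    Spec.map (CommRingCat.ofHom (algebraMap A B))
  haveI : Flat g := (HasRingHomProperty.Spec_iff (P := @Flat)).mpr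
    (RingHom.flat_algebraMap_iff.mpr inferInstance)
  haveI : LocallyOfFinitePresentation g :=
    (HasRingHomProperty.Spec_iff (P := @LocallyOfFinitePresentation)).mpr
      (RingHom.finitePresentation_algebraMap.mpr inferInstance)
  haveI : Surjective g := ⟨fun x => PrimeSpectrum.comap_surjective_of_faithfullyFlat x⟩
  obtain ⟨T, h, _, _, _, _, hloc⟩ := S1375.result g
  haveI : JacobsonSpace (Spec (CommRingCat.of B)) := inferInstanceAs (JacobsonSpace (PrimeSpectrum B))
  choose V r hV hr using hloc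
  haveI : JacobsonSpace T := by
    rw [(TopologicalSpace.IsOpenCover.mk (u := V)
      (top_unique fun t _ => TopologicalSpace.Opens.mem_iSup.mpr ⟨t, hV t⟩)).jacobsonSpace_iff]
    intro t
    haveI : LocallyOfFiniteType (r t ≫ g) := by rw [hr t]; infer_instance
    haveI := locallyOfFiniteType_of_comp (r t) g
    exact LocallyOfFiniteType.jacobsonSpace (r t)
  rw [isJacobsonRing_iff_prime_eq]
  intro P hP
  refine le_antisymm (fun x hx => ?_) Ideal.le_jacobson
  by_contra hxP
  obtain ⟨q, hPq, hxq, hmax⟩ : ∃ q : PrimeSpectrum A, P ≤ q.asIdeal ∧ x ∉ q.asIdeal ∧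
      ∀ q' : PrimeSpectrum A, q.asIdeal ≤ q'.asIdeal → x ∉ q'.asIdeal → q' = q := by
    have hchains : ∀ c ⊆ {q : Ideal A | q.IsPrime ∧ x ∉ q}, IsChain (· ≤ ·) c → ∀ y ∈ c,
        ∃ ub ∈ {q : Ideal A | q.IsPrime ∧ x ∉ q}, ∀ z ∈ c, z ≤ ub := by
      intro c hc hchain y hy
      refine ⟨sSup c, ⟨⟨?_, ?_⟩, ?_⟩, fun z hz => le_sSup hz⟩
      · rw [Ideal.ne_top_iff_one]
        intro h1
        obtain ⟨z, hz, h1z⟩ := (Submodule.mem_sSup_of_directed ⟨y, hy⟩ hchain.directedOn).mp h1
        exact (hc hz).1.ne_top ((Ideal.eq_top_iff_one z).mpr h1z)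
      · intro a b hab
        obtain ⟨z, hz, habz⟩ := (Submodule.mem_sSup_of_directed ⟨y, hy⟩ hchain.directedOn).mp hab
        exact ((hc hz).1.mem_or_mem habz).imp (fun h => le_sSup hz h) (fun h => le_sSup hz h)
      · intro hx'
        obtain ⟨z, hz, hxz⟩ := (Submodule.mem_sSup_of_directed ⟨y, hy⟩ hchain.directedOn).mp hx'
        exact (hc hz).2 hxz
    obtain ⟨q, hq, hmax⟩ := zorn_le_nonempty₀ _ hchains P ⟨hP, hxP⟩
    exact ⟨⟨q, hmax.1.1⟩, hq, hmax.1.2, fun q' hle hx' =>
      PrimeSpectrum.ext (le_antisymm (hmax.2 ⟨q'.2, hx'⟩ hle) hle)⟩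
  have hlc : IsLocallyClosed ({q} : Set (PrimeSpectrum A)) := by
    refine ⟨(PrimeSpectrum.basicOpen x : Set (PrimeSpectrum A)), PrimeSpectrum.zeroLocus q.asIdeal,
      (PrimeSpectrum.basicOpen x).isOpen, PrimeSpectrum.isClosed_zeroLocus _, ?_⟩
    ext q'
    constructor
    · rintro rfl; exact ⟨hxq, fun _ h => h⟩
    · rintro ⟨hx', hle⟩; exact hmax q' hle hx'
  have hcl := (PrimeSpectrum.isClosed_singleton_iff_isMaximal q).mp
    (isClosed_singleton_of_quasiFinite h q hlc)
  exact hxq ((Ideal.mem_sInf.mp hx) ⟨hPq, hcl⟩)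

end Groth.Agent.S1147
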