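import Groth.Statements.S11470
-- import your own Groth.Agent.* helpers here

set_option autoImplicit false
universe u
open Curves

namespace Groth.Agent.S11470


open Polynomial

section
variable {k : Type u} [Field k]

private noncomputable def jExpr (k : Type u) [Field k] : RatFunc k :=
  (256 : RatFunc k) * ((RatFunc.X : RatFunc k) ^ 2 - RatFunc.X + 1) ^ 3 /
    ((RatFunc.X : RatFunc k) ^ 2 * ((RatFunc.X : RatFunc k) - 1) ^ 2)

private lemma x_ne_zero : (RatFunc.X : RatFunc k) ≠ 0 := RatFunc.X_ne_zero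

private lemma x_sub_one_ne_zero : (RatFunc.X : RatFunc k) - 1 ≠ 0 := by
  rw [← RatFunc.algebraMap_X, ← map_one (algebraMap k[X] (RatFunc k)), ← map_sub]
  exact RatFunc.algebraMap_ne_zero (X_sub_C_ne_zero (1 : k) ∘ fun h => by rwa [C_1])

private lemma algHom_algebraMap (f : RatFunc k ≃ₐ[k] RatFunc k) (p : k[X]) :
    f (algebraMap k[X] (RatFunc k) p) = aeval (f RatFunc.X) p := by
  have h : (f.toAlgHom.comp (IsScalarTower.toAlgHom k k[X] (RatFunc k))) = aeval (f RatFunc.X) := by
    refine Polynomial.algHom_ext ?_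
    simp [RatFunc.algebraMap_X]
  exact DFunLike.congr_fun h p

private lemma algebraMap_eq_aeval (p : k[X]) :
    algebraMap k[X] (RatFunc k) p = aeval (RatFunc.X : RatFunc k) p := by
  have := algHom_algebraMap (AlgEquiv.refl : RatFunc k ≃ₐ[k] RatFunc k) p
  simpa using this

private lemma sigma_eq (σ : RatFunc k ≃ₐ[k] RatFunc k)
    (hσ : σ RatFunc.X = (RatFunc.X : RatFunc k)⁻¹) {b : RatFunc k} (hb : σ b = b) {n : ℕ} {p : k[X]}
    (h : b * ((RatFunc.X : RatFunc k) * (RatFunc.X - 1)) ^ n = algebraMap k[X] (RatFunc k) p) :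
    reflect p.natDegree p * X ^ (3 * n) * (-1) ^ n = p * X ^ p.natDegree := by
  have hx := x_ne_zero (k := k)
  apply RatFunc.algebraMap_injective k
  have h1 : b * ((RatFunc.X : RatFunc k)⁻¹ * (RatFunc.X⁻¹ - 1)) ^ n = aeval (RatFunc.X : RatFunc k)⁻¹ p := by
    have := congrArg σ h
    rw [algHom_algebraMap, hσ, map_mul, hb, map_pow, map_mul, map_sub, map_one, hσ] at this
    exact this
  haveI : Invertible ((RatFunc.X : RatFunc k)⁻¹) := invertibleOfNonzero (inv_ne_zero hx)
  have h2 := eval₂_reflect_mul_pow (algebraMap k (RatFunc k)) ((RatFunc.X : RatFunc k)⁻¹) p.natDegree p le_rfl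
  rw [invOf_eq_inv, inv_inv, ← aeval_def, ← aeval_def, ← algebraMap_eq_aeval] at h2
  rw [map_mul, map_mul, map_mul, map_pow, map_pow, map_pow, map_neg, map_one, RatFunc.algebraMap_X, ← h]
  have h3 : algebraMap k[X] (RatFunc k) (reflect p.natDegree p) =
      aeval (RatFunc.X : RatFunc k)⁻¹ p * RatFunc.X ^ p.natDegree := by
    rw [← h2, mul_assoc, ← mul_pow, inv_mul_cancel₀ hx, one_pow, mul_one]
  have h4 : (RatFunc.X : RatFunc k)⁻¹ * (RatFunc.X⁻¹ - 1) * (RatFunc.X ^ 3 * (-1)) =
      RatFunc.X * (RatFunc.X - 1) := by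
    field_simp
    ring
  rw [h3, ← h1, ← h4, pow_mul]
  simp only [mul_pow]
  ring

private lemma tau_eq (τ : RatFunc k ≃ₐ[k] RatFunc k)
    (hτ : τ RatFunc.X = 1 - (RatFunc.X : RatFunc k)) {b : RatFunc k} (hb : τ b = b) {n : ℕ} {p : k[X]}
    (h : b * ((RatFunc.X : RatFunc k) * (RatFunc.X - 1)) ^ n = algebraMap k[X] (RatFunc k) p) :
    p.comp (1 - X) = p := by
  apply RatFunc.algebraMap_injective k
  have := congrArg τ h
  rw [algHom_algebraMap, hτ, map_mul, hb, map_pow, map_mul, map_sub, map_one, hτ,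
    show (1 - (RatFunc.X : RatFunc k)) * (1 - RatFunc.X - 1) = RatFunc.X * (RatFunc.X - 1) by ring, h] at this
  rw [this, algebraMap_eq_aeval, aeval_comp, map_sub, map_one, aeval_X]

private lemma mem_of_invariant (h2 : (2 : k) ≠ 0)
    (σ τ : RatFunc k ≃ₐ[k] RatFunc k) (hσ : σ RatFunc.X = (RatFunc.X : RatFunc k)⁻¹)
    (hτ : τ RatFunc.X = 1 - (RatFunc.X : RatFunc k)) (hσj : σ (jExpr k) = jExpr k) (hτj : τ (jExpr k) = jExpr k) :
    ∀ (n : ℕ) (b : RatFunc k) (p : k[X]), σ b = b → τ b = b →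
      b * ((RatFunc.X : RatFunc k) * (RatFunc.X - 1)) ^ n = algebraMap k[X] (RatFunc k) p →
      b ∈ Algebra.adjoin k ({jExpr k} : Set (RatFunc k)) := by
  intro n
  induction n with
  | zero =>
    intro b p hbσ hbτ h
    have e := sigma_eq σ hσ hbσ h
    have hd : p.natDegree = 0 := by
      by_contra hd
      have e0 := congrArg (fun q : k[X] => q.coeff 0) e
      simp only [mul_zero, pow_zero, mul_one, coeff_reflect, Polynomial.revAt_zero, mul_coeff_zero,
        coeff_X_pow, if_neg (Ne.symm hd)] at e0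
      have : p = 0 := leadingCoeff_eq_zero.mp e0
      exact hd (by rw [this, natDegree_zero])
    rw [pow_zero, mul_one] at h
    rw [h, eq_C_of_natDegree_eq_zero hd, algebraMap_eq_aeval, aeval_C]
    exact Subalgebra.algebraMap_mem _ _
  | succ n ih =>
    intro b p hbσ hbτ h
    have hx := x_ne_zero (k := k)
    have hx1 := x_sub_one_ne_zero (k := k)
    have e01 : p.eval 1 = p.eval 0 := by
      have := congrArg (fun q : k[X] => q.eval 0) (tau_eq τ hτ hbτ h)
      simpa [eval_comp] using this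
    have esign : p.eval 1 * (-1) ^ (n + 1) = p.eval 1 := by
      have := congrArg (fun q : k[X] => q.eval 1) (sigma_eq σ hσ hbσ h)
      simp only [eval_mul, eval_pow, eval_X, one_pow, mul_one, eval_neg, eval_one] at this
      let inst : Invertible (1 : k) := invertibleOne
      have hr := eval₂_reflect_mul_pow (RingHom.id k) (1 : k) p.natDegree p le_rfl
      rw [invOf_one, one_pow, mul_one, eval₂_id, eval₂_id] at hr
      rw [hr] at this
      exact this
    obtain ⟨b', p', hσ', hτ', h', hp0, hp1, hmem⟩ : ∃ (b' : RatFunc k) (p' : k[X]), σ b' = b' ∧ τ b' = b' ∧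
        b' * ((RatFunc.X : RatFunc k) * (RatFunc.X - 1)) ^ (n + 1) = algebraMap k[X] (RatFunc k) p' ∧
        p'.eval 0 = 0 ∧ p'.eval 1 = 0 ∧
        (b' ∈ Algebra.adjoin k ({jExpr k} : Set (RatFunc k)) → b ∈ Algebra.adjoin k ({jExpr k} : Set (RatFunc k))) := by
      rcases Nat.even_or_odd (n + 1) with ⟨l, hl⟩ | hodd
      · have h256 : (256 : k) ^ l ≠ 0 := by
          refine pow_ne_zero l ?_
          rw [show (256 : k) = 2 ^ 8 by norm_num]
          exact pow_ne_zero 8 h2
        let c : k := p.eval 0 / 256 ^ l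
        refine ⟨b - algebraMap k (RatFunc k) c * jExpr k ^ l,
          p - C (c * 256 ^ l) * (X ^ 2 - X + 1) ^ (3 * l), ?_, ?_, ?_, ?_, ?_, ?_⟩
        · rw [map_sub, map_mul, map_pow, hbσ, hσj, AlgEquiv.commutes]
        · rw [map_sub, map_mul, map_pow, hbτ, hτj, AlgEquiv.commutes]
        · have e : jExpr k ^ l * ((RatFunc.X : RatFunc k) * (RatFunc.X - 1)) ^ (n + 1) =
              256 ^ l * (RatFunc.X ^ 2 - RatFunc.X + 1) ^ (3 * l) := by
            rw [hl, ← two_mul, pow_mul, pow_mul, ← mul_pow, ← mul_pow]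
            congr 1
            unfold jExpr
            field_simp
          rw [sub_mul, h, map_sub, mul_assoc, e]
          simp only [map_mul, map_pow, map_add, map_sub, map_one, RatFunc.algebraMap_X, RatFunc.algebraMap_C,
            map_ofNat, RatFunc.algebraMap_eq_C]
          ring
        · simp [c, div_mul_cancel₀ _ h256]
        · simp [c, div_mul_cancel₀ _ h256, e01]
        · intro hm
          have := add_mem hm (mul_mem (Subalgebra.algebraMap_mem _ c)
            (pow_mem (Algebra.self_mem_adjoin_singleton k (jExpr k)) l))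
          rwa [sub_add_cancel] at this
      · have hz : p.eval 1 = 0 := by
          rw [hodd.neg_one_pow, mul_neg, mul_one] at esign
          have : (2 : k) * p.eval 1 = 0 := by linear_combination -esign
          exact (mul_eq_zero.mp this).resolve_left h2
        exact ⟨b, p, hbσ, hbτ, h, e01 ▸ hz, hz, id⟩
    obtain ⟨p1, hp1'⟩ : (X - C (0 : k)) ∣ p' := dvd_iff_isRoot.mpr hp0
    subst hp1'
    obtain ⟨p2, hp2⟩ : (X - C (1 : k)) ∣ p1 := by
      refine dvd_iff_isRoot.mpr ?_
      simpa using hp1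
    subst hp2
    refine hmem (ih b' p2 hσ' hτ' ?_)
    refine mul_right_cancel₀ (mul_ne_zero hx hx1) ?_
    rw [mul_assoc, ← pow_succ, h']
    simp only [map_mul, map_sub, map_zero, sub_zero, map_one, RatFunc.algebraMap_X]
    ring

end

/-- The algebraic step of its proof: Fix an algebraically closed field k whose characteristic is neither
2 nor 3, let B ⊆ k(λ) be the k-subalgebra generated by λ, λ⁻¹ and (λ - 1)⁻¹ (the coordinate ring of
the λ-line with 0 and 1 removed), and let σ and τ be the k-algebra automorphisms of k(λ) determined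
by σ(λ) = λ⁻¹ and τ(λ) = 1 - λ (they generate the group of order six permuting λ, 1/λ, 1-λ, 1/(1-λ),
λ/(λ-1), (λ-1)/λ). Then the elements of B fixed by σ and τ are exactly the elements of the
k-subalgebra generated by j = 256 (λ² - λ + 1)³ / (λ² (λ - 1)²); in other words the ring of
invariants of B is the polynomial ring k[j]. -/
theorem result (k : Type u) [Field k] [IsAlgClosed k]
    (h2 : (2 : k) ≠ 0) (h3 : (3 : k) ≠ 0)
    (σ τ : RatFunc k ≃ₐ[k] RatFunc k) (hσ : σ RatFunc.X = (RatFunc.X : RatFunc k)⁻¹)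
    (hτ : τ RatFunc.X = 1 - (RatFunc.X : RatFunc k)) (b : RatFunc k) :
    (b ∈ Algebra.adjoin k ({RatFunc.X, (RatFunc.X : RatFunc k)⁻¹, ((RatFunc.X : RatFunc k) - 1)⁻¹} : Set (RatFunc k)) ∧
        σ b = b ∧ τ b = b) ↔
      b ∈ Algebra.adjoin k ({(256 : RatFunc k) * ((RatFunc.X : RatFunc k) ^ 2 - RatFunc.X + 1) ^ 3 /
        ((RatFunc.X : RatFunc k) ^ 2 * ((RatFunc.X : RatFunc k) - 1) ^ 2)} : Set (RatFunc k)) := by
  have hx := x_ne_zero (k := k)
  have hx1 := x_sub_one_ne_zero (k := k)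
  have hx1' : (1 : RatFunc k) - RatFunc.X ≠ 0 := by rw [← neg_sub]; exact neg_ne_zero.mpr hx1
  have hσj : σ (jExpr k) = jExpr k := by
    have e1 : (RatFunc.X : RatFunc k)⁻¹ ^ 2 - RatFunc.X⁻¹ + 1 =
        (RatFunc.X ^ 2 - RatFunc.X + 1) / RatFunc.X ^ 2 := by field_simp; ring
    have e2 : (RatFunc.X : RatFunc k)⁻¹ - 1 = -(RatFunc.X - 1) / RatFunc.X := by field_simp; ring
    simp only [jExpr, map_div₀, map_mul, map_pow, map_sub, map_add, map_one, map_ofNat, hσ, e1, e2]
    field_simp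
  have hτj : τ (jExpr k) = jExpr k := by
    have e1 : (1 - (RatFunc.X : RatFunc k)) ^ 2 - (1 - RatFunc.X) + 1 = RatFunc.X ^ 2 - RatFunc.X + 1 := by ring
    have e2 : (1 - (RatFunc.X : RatFunc k)) ^ 2 * (1 - RatFunc.X - 1) ^ 2 = RatFunc.X ^ 2 * (RatFunc.X - 1) ^ 2 := by ring
    simp only [jExpr, map_div₀, map_mul, map_pow, map_sub, map_add, map_one, map_ofNat, hτ, e1, e2]
  change _ ↔ b ∈ Algebra.adjoin k ({jExpr k} : Set (RatFunc k))
  constructor
  · rintro ⟨hb, hbσ, hbτ⟩
    obtain ⟨n, p, h⟩ : ∃ (n : ℕ) (p : k[X]),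
        b * ((RatFunc.X : RatFunc k) * (RatFunc.X - 1)) ^ n = algebraMap k[X] (RatFunc k) p := by
      clear hbσ hbτ
      induction hb using Algebra.adjoin_induction with
      | mem y hy =>
        rcases hy with rfl | rfl | rfl
        · exact ⟨0, X, by rw [pow_zero, mul_one, RatFunc.algebraMap_X]⟩
        · exact ⟨1, X - 1, by rw [map_sub, map_one, RatFunc.algebraMap_X]; field_simp⟩
        · exact ⟨1, X, by rw [RatFunc.algebraMap_X]; field_simp⟩
      | algebraMap c => exact ⟨0, C c, by rw [pow_zero, mul_one, algebraMap_eq_aeval, aeval_C]⟩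
      | add y z _ _ hy hz =>
        obtain ⟨n, p, h1⟩ := hy
        obtain ⟨m, q, h2⟩ := hz
        refine ⟨n + m, p * (X * (X - 1)) ^ m + q * (X * (X - 1)) ^ n, ?_⟩
        simp only [map_add, map_mul, map_pow, map_sub, map_one, RatFunc.algebraMap_X, ← h1, ← h2]
        ring
      | mul y z _ _ hy hz =>
        obtain ⟨n, p, h1⟩ := hy
        obtain ⟨m, q, h2⟩ := hz
        refine ⟨n + m, p * q, ?_⟩
        rw [map_mul, ← h1, ← h2]
        ring
    exact mem_of_invariant h2 σ τ hσ hτ hσj hτj n b p hbσ hbτ h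
  · intro hb
    induction hb using Algebra.adjoin_induction with
    | mem y hy =>
      obtain rfl : y = jExpr k := hy
      refine ⟨?_, hσj, hτj⟩
      have hX := Algebra.subset_adjoin (R := k) (Set.mem_insert (RatFunc.X : RatFunc k) {(RatFunc.X : RatFunc k)⁻¹, ((RatFunc.X : RatFunc k) - 1)⁻¹})
      unfold jExpr
      rw [div_eq_mul_inv, mul_inv, ← inv_pow, ← inv_pow]
      exact mul_mem (mul_mem (natCast_mem _ 256) (pow_mem (add_mem (sub_mem (pow_mem hX 2) hX) (one_mem _)) 3))
        (mul_mem (pow_mem (Algebra.subset_adjoin (by simp)) 2) (pow_mem (Algebra.subset_adjoin (by simp)) 2))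
    | algebraMap c => exact ⟨Subalgebra.algebraMap_mem _ c, σ.commutes c, τ.commutes c⟩
    | add y z _ _ hy hz => exact ⟨add_mem hy.1 hz.1, by rw [map_add, hy.2.1, hz.2.1], by rw [map_add, hy.2.2, hz.2.2]⟩
    | mul y z _ _ hy hz => exact ⟨mul_mem hy.1 hz.1, by rw [map_mul, hy.2.1, hz.2.1], by rw [map_mul, hy.2.2, hz.2.2]⟩


end Groth.Agent.S11470
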