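import Mathlib.AlgebraicGeometry.Morphisms.Proper
import Mathlib.AlgebraicGeometry.Morphisms.Flat
import Mathlib.AlgebraicGeometry.Noetherian
import Mathlib.AlgebraicGeometry.ResidueField
import Groth.Agent.S10888
-- import your own Groth.Agent.* helpers here

set_option autoImplicit false
universe u
open CategoryTheory AlgebraicGeometry

namespace Groth.Agent.S6712

open CategoryTheory.Limits in
/-- Let S be a Noetherian scheme, s ∈ S, and p : X ⟶ Y a morphism over S where X ⟶ S and Y ⟶ S are
proper and X ⟶ S is flat. If the fibre X_s ⟶ Y_s of p is an isomorphism, then there is an open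
neighbourhood U of s such that the base change X_U ⟶ Y_U of p is an isomorphism. -/
theorem result
    {S X Y : Scheme.{u}} [IsNoetherian S] (s : S) (g : X ⟶ S) (h : Y ⟶ S) (p : X ⟶ Y)
    (w : p ≫ h = g) [IsProper g] [IsProper h] [Flat g]
    (hs : IsIso (pullback.map g (S.fromSpecResidueField s) h (S.fromSpecResidueField s) p (𝟙 _)
      (𝟙 _) ((Category.comp_id g).trans w.symm)
      ((Category.comp_id _).trans (Category.id_comp _).symm))) :
    ∃ U : S.Opens, s ∈ U ∧
      IsIso (pullback.map g U.ι h U.ι p (𝟙 _) (𝟙 _) ((Category.comp_id g).trans w.symm)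
        ((Category.comp_id _).trans (Category.id_comp _).symm)) := by
  haveI : IsLocallyNoetherian S := inferInstance
  haveI : LocallyOfFiniteType g := inferInstance
  haveI : LocallyOfFinitePresentation g := inferInstance
  haveI : LocallyOfFinitePresentation h := inferInstance
  obtain ⟨U, hU, hiso⟩ := Agent.S10888.result g h p w
  refine ⟨U, ?_, ?_⟩
  · exact (hU s).2 ⟨@asIso _ _ _ _ _ hs, pullback.lift_fst _ _ _⟩
  · haveI := hiso
    subst w
    let m := pullback.map (p ≫ h) U.ι h U.ι p (𝟙 _) (𝟙 _) ((Category.comp_id _).trans rfl)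
      ((Category.comp_id _).trans (Category.id_comp _).symm)
    change IsIso m
    let k : pullback (p ≫ h) U.ι ⟶ (p ⁻¹ᵁ (h ⁻¹ᵁ U)).toScheme :=
      (pullbackRestrictIsoRestrict (p ≫ h) U).hom
    haveI : IsIso k := Iso.isIso_hom (pullbackRestrictIsoRestrict (p ≫ h) U)
    have hk : k ≫ (p ⁻¹ᵁ (h ⁻¹ᵁ U)).ι = pullback.fst (p ≫ h) U.ι :=
      pullbackRestrictIsoRestrict_hom_ι (p ≫ h) U
    have hm : m = (k ≫ (p ∣_ (h ⁻¹ᵁ U))) ≫ (pullbackRestrictIsoRestrict h U).inv := by
      rw [Iso.eq_comp_inv, ← cancel_mono (h ⁻¹ᵁ U).ι, Category.assoc, Category.assoc,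
        pullbackRestrictIsoRestrict_hom_ι, morphismRestrict_ι, ← Category.assoc, hk]
      exact pullback.lift_fst _ _ _
    rw [hm]; infer_instance

end Groth.Agent.S6712
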