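import Groth.Statements.S5997
import Groth.Agent.S11763
import Groth.Agent.S6712
import Groth.Agent.S0844
import Groth.Agent.CBC.VAFib
import Groth.Agent.GrModLib.TwistInt
import Groth.Agent.ProperFin.PnBase
import Groth.Agent.ProjTwist.Zero
import Groth.Agent.Adic.IdealSpec

set_option autoImplicit false
set_option linter.style.haveILetI false
set_option backward.isDefEq.respectTransparency.types false
universe u
open SGA1

namespace Groth.Agent.S5997

open AlgebraicGeometry CategoryTheory CategoryTheory.Limits TopologicalSpace Groth.Agent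
open Groth.Agent.QCoh Groth.Agent.Props.GenLocus Groth.Agent.Props.GenPull Groth.Agent.CBC Groth.Agent.CBC.VA
open Groth.Agent.ProjMorph

/-- the map to the integral projective space -/
abbrev φZ (R : Type u) [CommRing R] : ULift.{u} ℤ →+* R := (Int.castRingHom R).comp ULift.ringEquiv.toRingHom

/-- coordinates of a morphism to the integral projective space -/
theorem coord_self {F : Scheme.{u}} {n : ℕ} (r : F ⟶ PZ.{u} n) :
    Coord r ((Scheme.Modules.pullback r).obj (Twist.twist (CohB1.polyGrading n (ULift.{u} ℤ)) 1))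
      fun k => ProjUP.pullSec r (Twist.twist (CohB1.polyGrading n (ULift.{u} ℤ)) 1) (gsec (X_mem k)) := by
  refine ⟨fun k => (locus_pullSec r k).symm, fun k l => ?_⟩
  rw [res_pullSec r (X_mem k) (X_mem l), res_pullSec_self r (X_mem k)]

theorem subsingleton_HH_of_iso {P P' : Scheme.{u}} (e : P ≅ P') {M : P'.Modules}
    (hM : PicF.IsInvertible M) (q : ℕ) (h : Subsingleton (Coh.HH P' M q)) :
    Subsingleton (Coh.HH P ((Scheme.Modules.pullback e.hom).obj M) q) := by
  haveI : Coh.IsQCoh M := ProjTwist.isQCoh_of_isInvertible hM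
  haveI : IsIso ((Scheme.Modules.pullbackPushforwardAdjunction e.inv).unit.app
      ((Scheme.Modules.pullback e.hom).obj M)) :=
    LFFrame.isIso_unit e.inv (fun U => ConcreteCategory.bijective_of_isIso (e.inv.app U)) _
      (fun x => by
        obtain ⟨U, s, hx, hs⟩ := exists_isGen (PicCl.isInvertible_pullback e.hom hM) x
        exact ⟨U, 1, _, hx, (isGen_iff_isFrame s).mp hs⟩)
  let c : (Scheme.Modules.pullback e.inv).obj ((Scheme.Modules.pullback e.hom).obj M) ≅ M :=
    (Scheme.Modules.pullbackComp e.inv e.hom).app M ≪≫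
      (Scheme.Modules.pullbackCongr e.inv_hom_id).app M ≪≫ (Scheme.Modules.pullbackId _).app M
  exact FormalFun.subsingleton_HH_iso ((Scheme.Modules.pushforward e.inv).mapIso c.symm ≪≫
    (asIso ((Scheme.Modules.pullbackPushforwardAdjunction e.inv).unit.app
      ((Scheme.Modules.pullback e.hom).obj M))).symm) q (FormalFun.subsingleton_HH_push e.inv M q h)


open AlgebraicGeometry CategoryTheory CategoryTheory.Limits in
/-- Suppose A is a Noetherian local ring, complete for its maximal ideal, whose residue field we call k,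
and consider a proper flat A-scheme X such that the closed fibre X ×_A k is isomorphic over k to
P^r_k. Then X is isomorphic over A to P^r_A. (For ordinary schemes the published statement leaves
out flatness, yet the proof relies on it; dropping it, P^r_k regarded as an A-scheme via the closed
point gives a counterexample as soon as A fails to be a field. This row therefore assumes f is
flat.) -/
theorem result (A : Type u) [CommRing A] [IsLocalRing A]
    [IsNoetherianRing A] [IsAdicComplete (IsLocalRing.maximalIdeal A) A] (r : ℕ) {X : Scheme.{u}}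
    (f : X ⟶ Spec (CommRingCat.of A)) [IsProper f] [Flat f]
    (e₀ : pullback f (Spec.map (CommRingCat.ofHom (IsLocalRing.residue A))) ≅
      CohB1.ProjSpace r (IsLocalRing.ResidueField A))
    (he₀ : e₀.hom ≫ CohB1.ProjSpace.toSpec r (IsLocalRing.ResidueField A) = pullback.snd f _) :
    ∃ e : X ≅ CohB1.ProjSpace r A, e.hom ≫ CohB1.ProjSpace.toSpec r A = f := by
  classical
  let k := IsLocalRing.ResidueField A
  let S : Scheme.{u} := Spec (CommRingCat.of A)
  let y : S := IsLocalRing.closedPoint A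
  let g := S.fromSpecResidueField y
  let g' : Spec (CommRingCat.of k) ⟶ S := Spec.map (CommRingCat.ofHom (IsLocalRing.residue A))
  haveI : IsClosedImmersion g' := IsClosedImmersion.spec_of_surjective _ IsLocalRing.residue_surjective
  haveI : IsClosedImmersion g := IsClosedImmersion.of_isPreimmersion _ (by
    rw [Scheme.range_fromSpecResidueField]; exact IsLocalRing.isClosed_singleton_closedPoint A)
  -- compare the two closed points
  have hker : g.ker ≤ g'.ker := by
    refine Scheme.IdealSheafData.le_of_isAffine ?_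
    have h1 : g'.ker.ideal ⟨⊤, isAffineOpen_top _⟩ =
        (IsLocalRing.maximalIdeal A).comap (Adic.IdealSpec.gEquiv A).toRingHom := by
      rw [Adic.IdealSpec.ker_Spec_map_eq]
      exact congrArg _ Ideal.mk_ker
    rw [h1]
    have hmax : ((IsLocalRing.maximalIdeal A).comap (Adic.IdealSpec.gEquiv A).toRingHom).IsMaximal :=
      Ideal.comap_isMaximal_of_surjective _ (Adic.IdealSpec.gEquiv A).surjective
    haveI : IsLocalRing Γ(S, ⊤) := (Adic.IdealSpec.gEquiv A).symm.isLocalRing
    rw [IsLocalRing.eq_maximalIdeal hmax]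
    refine IsLocalRing.le_maximalIdeal fun htop => ?_
    rw [Scheme.Hom.ker_apply] at htop
    haveI : Nontrivial Γ(Spec (S.residueField y), g ⁻¹ᵁ (⊤ : S.Opens)) :=
      (Scheme.ΓSpecIso (S.residueField y)).commRingCatIsoToRingEquiv.toEquiv.nontrivial
    exact RingHom.ker_ne_top _ htop
  let a : Spec (CommRingCat.of k) ⟶ Spec (S.residueField y) := IsClosedImmersion.lift g g' hker
  have ha : a ≫ g = g' := IsClosedImmersion.lift_fac _ _ _
  haveI : IsClosedImmersion a := by
    haveI : IsClosedImmersion (a ≫ g) := by rw [ha]; infer_instance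
    exact IsClosedImmersion.of_comp_isClosedImmersion a g
  haveI : Surjective a := ⟨fun t => ⟨Classical.arbitrary _, Subsingleton.elim _ _⟩⟩
  haveI : IsIso a := isIso_of_isClosedImmersion_of_surjective _
  -- the closed fibre
  let P₀ := pullback f g'
  let w : P₀ ⟶ f.fiber y := pullback.map f g' f g (𝟙 _) a (𝟙 _) (by simp) (by rw [Category.comp_id, ha])
  haveI : IsIso w := inferInstanceAs (IsIso (pullback.map _ _ _ _ _ _ _ _ _))
  have hwι : w ≫ f.fiberι y = pullback.fst f g' := (pullback.lift_fst _ _ _).trans (Category.comp_id _)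
  have hwπ : w ≫ f.fiberToSpecResidueField y = pullback.snd f g' ≫ a := pullback.lift_snd _ _ _
  let e' : f.fiber y ≅ CohB1.ProjSpace r k := (asIso w).symm ≪≫ e₀
  have he' : e'.hom ≫ CohB1.ProjSpace.toSpec r k ≫ a = f.fiberToSpecResidueField y := by
    show (inv w ≫ e₀.hom) ≫ _ = _
    rw [Category.assoc, ← Category.assoc e₀.hom, he₀, IsIso.inv_comp_eq, hwπ]
  let πk := ProperFin.pnMap r (φZ k)
  have hO1 := isInvertible_twist_one (𝒜 := CohB1.polyGrading r (ULift.{u} ℤ)) _ X_mem
    MvPolynomial.adjoin_range_X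
  obtain ⟨τ⟩ := GrModLib.nonempty_pullback_twist_int r (φZ k) 1
  let r₀ : f.fiber y ⟶ PZ.{u} r := e'.hom ≫ πk
  let L₀ := (Scheme.Modules.pullback r₀).obj (Twist.twist (CohB1.polyGrading r (ULift.{u} ℤ)) 1)
  have hL₀ : PicF.IsInvertible L₀ := PicCl.isInvertible_pullback r₀ hO1
  -- `H²(O) = 0` and Picard lifting
  have h2 : Subsingleton (Coh.HH P₀ (Coh.structureModule P₀) 2) := by
    have h := subsingleton_HH_of_iso e₀ (PicLoc.isInvertible_structureModule _) 2
      (FormalFun.subsingleton_HH_iso (ProjTwist.twistZeroIso (CohB1.polyGrading r k)).symm 2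
        (S0844.result k r 0 2 (by omega) (by omega)))
    exact FormalFun.subsingleton_HH_iso (QCoh.pullbackUnitIso e₀.hom) 2 h
  obtain ⟨L, hL, ⟨ψ₀⟩⟩ := S11763.result A f h2 ((Scheme.Modules.pullback w).obj L₀)
    (PicCl.isInvertible_pullback w hL₀)
  let ψ : CohIII.fiberMod f L y ≅ L₀ :=
    ((Scheme.Modules.pullbackId _).app _).symm ≪≫
    ((Scheme.Modules.pullbackCongr (IsIso.inv_hom_id w)).app _).symm ≪≫
    ((Scheme.Modules.pullbackComp (inv w) w).app _).symm ≪≫
    (Scheme.Modules.pullback (inv w)).mapIso ((Scheme.Modules.pullbackComp w (f.fiberι y)).app L ≪≫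
      (Scheme.Modules.pullbackCongr hwι).app L ≪≫ ψ₀) ≪≫
    (Scheme.Modules.pullbackComp (inv w) w).app L₀ ≪≫
    (Scheme.Modules.pullbackCongr (IsIso.inv_hom_id w)).app L₀ ≪≫ (Scheme.Modules.pullbackId _).app L₀
  let t : Fin (r + 1) → Γ(CohIII.fiberMod f L y, ⊤) := fun l => ψ.inv.app ⊤
    (ProjUP.pullSec r₀ (Twist.twist (CohB1.polyGrading r (ULift.{u} ℤ)) 1) (gsec (X_mem l)))
  have ht : Coord r₀ (CohIII.fiberMod f L y) t := (coord_self r₀).mapIso ψ.symm
  -- base change of sections
  haveI : L.IsQuasicoherent := ProjTwist.isQCoh_of_isInvertible hL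
  haveI : IsLocallyNoetherian X := LocallyOfFiniteType.isLocallyNoetherian f
  haveI : LocallyOfFinitePresentation f := inferInstance
  have hF : CohB1.IsFP L := (FibreIndCons.isFP_of_isInvertible hL).2
  have hfl := Cube.Seesaw.isFlatOver_of_invertible f hL
  have h1 : Subsingleton (CohIII.fiberH f L y 1) := by
    refine FormalFun.subsingleton_HH_iso ?_ 1 (subsingleton_HH_of_iso e'
      (ProjTwist.isInvertible_twistProjSpace r k 1) 1 (S0844.result k r 1 1 (by omega) (by omega)))
    exact (Scheme.Modules.pullback e'.hom).mapIso τ.symm ≪≫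
      (Scheme.Modules.pullbackComp e'.hom πk).app _ ≪≫ ψ.symm
  obtain ⟨N, hyN, -, hR⟩ := exists_rExact_zero_of_fibres hF hfl
    ⟨_, isOpen_setOf_subsingleton_fiberH hF hfl 1⟩ (fun _ hz => hz) (show y ∈ _ from h1)
  have H : IsPullback (f.fiberι y) (f.fiberToSpecResidueField y) f (S.fromSpecResidueField y) :=
    IsPullback.of_hasPullback _ _
  haveI := isIso_bc0_of_rExact (F := L) (f := f) H fun z =>
    ⟨N, (Scheme.fromSpecResidueField_apply y z).symm ▸ hyN, hR⟩
  obtain ⟨b, s, h', hb, hs⟩ := exists_lift_fibre f (isAffineOpen_top S) (y := y) trivial inferInstance t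
  have hFL : PicF.IsInvertible (CohIII.fiberMod f L y) := PicCl.isInvertible_pullback (f.fiberι y) hL
  let σ : Fin (r + 1) → Γ(L, ⊤) := s
  have hσ : ∀ l, pb (f.fiberι y) (σ l) = b • t l := fun l => (res_self _ _ _).symm.trans (hs l)
  have hloc : ∀ l, (f.fiberι y) ⁻¹ᵁ AmpleLib.locus (O := ⊤) (σ l) = AmpleLib.locus (O := ⊤) (t l) := fun l => by
    rw [← AmpleLib.locus_pb (f.fiberι y) hL (σ l)]
    refine (congrArg (AmpleLib.locus (O := ⊤)) (hσ l)).trans ?_
    rw [AmpleLib.locus_smul hFL, Scheme.basicOpen_of_isUnit _ hb, top_inf_eq]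
  have hcov : ⊤ ≤ ⨆ l, AmpleLib.locus (O := ⊤) (σ l) := by
    let Ω := ⨆ l, AmpleLib.locus (O := ⊤) (σ l)
    intro x _
    by_contra hx
    have hbad : IsClosed (f '' (Ω : Set X)ᶜ) := f.isClosedMap _ Ω.isOpen.isClosed_compl
    obtain ⟨x', hx', hxy⟩ : y ∈ f '' (Ω : Set X)ᶜ :=
      hbad.stableUnderSpecialization (IsLocalRing.specializes_closedPoint _) ⟨x, hx, rfl⟩
    obtain ⟨z, rfl⟩ : x' ∈ Set.range (f.fiberι y) := by rw [f.range_fiberι y]; exact hxy
    obtain ⟨l, hl⟩ := Opens.mem_iSup.mp ((iSup_DP r).ge (trivial : r₀ z ∈ ⊤))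
    refine hx' (Opens.mem_iSup.mpr ⟨l, ?_⟩)
    have : z ∈ (f.fiberι y) ⁻¹ᵁ AmpleLib.locus (O := ⊤) (σ l) := by rw [hloc, ← ht.pre l]; exact hl
    exact this
  obtain ⟨i, hi, hr, -⟩ := exists_coord f hL σ hcov
  have hir : f.fiberι y ≫ i ≫ p₁ r S = r₀ := by
    have h3 := hr.pull hL (f.fiberι y)
    rw [show (fun l => pb (f.fiberι y) (σ l)) = fun l => b • t l from funext hσ] at h3
    exact h3.ext (ht.smul hFL hb)
  -- the model closed fibre
  let π : CohB1.ProjSpace r k ⟶ CohB1.ProjSpaceOver r S :=
    pullback.lift πk (CohB1.ProjSpace.toSpec r k ≫ g')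
      ((ProperFin.isPullback_pnMap r (φZ k)).w.trans
        ((congrArg (CohB1.ProjSpace.toSpec r k ≫ ·) (specULiftZIsTerminal.hom_ext _ _)).trans
          (Category.assoc _ _ _).symm))
  have hπ : IsPullback π (CohB1.ProjSpace.toSpec r k) (CohB1.ProjSpaceOver.toBase r S) g' := by
    refine IsPullback.of_right (h₁₂ := p₁ r S) (v₁₃ := CohB1.ProjSpace.toSpec r (ULift.{u} ℤ))
      (h₂₂ := specULiftZIsTerminal.from S) ?_ (pullback.lift_snd _ _ _) (IsPullback.of_hasPullback _ _)
    rw [show π ≫ p₁ r S = πk from pullback.lift_fst _ _ _,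
      show g' ≫ specULiftZIsTerminal.from S = Spec.map (CommRingCat.ofHom (φZ k)) from
        specULiftZIsTerminal.hom_ext _ _]
    exact ProperFin.isPullback_pnMap r (φZ k)
  have hπg : IsPullback π (CohB1.ProjSpace.toSpec r k ≫ a) (CohB1.ProjSpaceOver.toBase r S) g :=
    IsPullback.of_iso hπ (Iso.refl _) (Iso.refl _) (asIso a) (Iso.refl _) (by simp) (by simp) (by simp)
      (by simp [ha])
  haveI := ProjProper.Basic.isProper_toBase r S
  haveI : IsNoetherian S := inferInstanceAs (IsNoetherian (Spec (CommRingCat.of A)))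
  obtain ⟨U, hyU, hU⟩ := S6712.result y f (CohB1.ProjSpaceOver.toBase r S) i hi (by
    let M : f.fiber y ⟶ pullback (CohB1.ProjSpaceOver.toBase r S) g := pullback.map f g (CohB1.ProjSpaceOver.toBase r S) g i (𝟙 _) (𝟙 _)
      ((Category.comp_id f).trans hi.symm) ((Category.comp_id _).trans (Category.id_comp _).symm)
    change IsIso M
    suffices hM : M = (e' ≪≫ hπg.isoPullback).hom by rw [hM]; infer_instance
    refine pullback.hom_ext ?_ ?_
    · rw [Iso.trans_hom, Category.assoc, IsPullback.isoPullback_hom_fst,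
        show M ≫ pullback.fst _ _ = f.fiberι y ≫ i from pullback.lift_fst _ _ _]
      refine pullback.hom_ext ?_ ?_
      · exact (Category.assoc _ _ _).trans (hir.trans ((congrArg (e'.hom ≫ ·)
          (pullback.lift_fst _ _ _).symm).trans (Category.assoc _ _ _).symm))
      · refine (Category.assoc _ _ _).trans ((congrArg (f.fiberι y ≫ ·) hi).trans ((f.fiber_fac y).trans
          (Eq.trans ?_ ((congrArg (e'.hom ≫ ·) (pullback.lift_snd _ _ _).symm).trans
            (Category.assoc _ _ _).symm))))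
        rw [← he', Category.assoc, Category.assoc, ha]
    · rw [Iso.trans_hom, Category.assoc, IsPullback.isoPullback_hom_snd,
        show M ≫ pullback.snd _ _ = f.fiberToSpecResidueField y ≫ 𝟙 _ from pullback.lift_snd _ _ _,
        Category.comp_id, he'])
  have hUtop : U = ⊤ := top_le_iff.mp fun z _ =>
    (IsLocalRing.specializes_closedPoint z).mem_open U.2 hyU
  subst hUtop
  haveI := hU
  haveI : IsIso i := by
    let P1 := pullback.fst f (⊤ : S.Opens).ι
    let P2 := pullback.fst (CohB1.ProjSpaceOver.toBase r S) (⊤ : S.Opens).ι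
    have h : pullback.map f (⊤ : S.Opens).ι (CohB1.ProjSpaceOver.toBase r S) (⊤ : S.Opens).ι i (𝟙 _) (𝟙 _)
        ((Category.comp_id f).trans hi.symm) ((Category.comp_id _).trans (Category.id_comp _).symm) ≫ P2 = P1 ≫ i :=
      pullback.lift_fst _ _ _
    haveI : IsIso (⊤ : S.Opens).ι := S.topIso.isIso_hom
    haveI : IsIso P1 := inferInstance
    haveI : IsIso P2 := inferInstance
    haveI : IsIso (P1 ≫ i) := by rw [← h]; infer_instance
    exact IsIso.of_isIso_comp_left P1 i
  obtain ⟨E, hE⟩ := ProperFin.exists_iso_projSpaceOver r A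
  refine ⟨asIso i ≪≫ E, ?_⟩
  rw [Iso.trans_hom, Category.assoc, hE]
  exact hi

end Groth.Agent.S5997
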