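import Groth.Statements.S11473
import Groth.Agent.S5997
import Groth.Agent.S7834
import Groth.Agent.CBC.TwistOne
import Groth.Agent.Adic.SysNoeth
import Mathlib.AlgebraicGeometry.Morphisms.Proper
import Mathlib.AlgebraicGeometry.Morphisms.Smooth

set_option autoImplicit false
set_option linter.style.haveILetI false
set_option backward.isDefEq.respectTransparency.types false
universe u
open CategoryTheory CategoryTheory.Limits AlgebraicGeometry
open Curves

namespace Groth.Agent.S11473

/-- Let C be an Artinian local ring whose residue field k is algebraically closed, and let f : X → Spec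
C be a family of curves of genus zero: f is smooth and proper and its closed fibre X ×_C k is an
integral k-scheme of dimension one with H¹(O) = 0 (over the algebraically closed field k this is the
condition on the one geometric fibre). Then the family is trivial: X is C-isomorphic to P¹_C. -/
theorem result (C : Type u) [CommRing C] [IsArtinianRing C] [IsLocalRing C]
    [IsAlgClosed (IsLocalRing.ResidueField C)] {X : Scheme.{u}} (f : X ⟶ Spec (CommRingCat.of C)) [Smooth f] [IsProper f]
    (hint : IsIntegral (pullback f (Spec.map (CommRingCat.ofHom (IsLocalRing.residue C)))))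
    (hdim : topologicalKrullDim ↥(pullback f (Spec.map (CommRingCat.ofHom (IsLocalRing.residue C)))) = 1)
    (hg : @Curv2.genus (IsLocalRing.ResidueField C) _ (pullback f (Spec.map (CommRingCat.ofHom (IsLocalRing.residue C))))
        ⟨pullback.snd f (Spec.map (CommRingCat.ofHom (IsLocalRing.residue C)))⟩ = 0) :
    ∃ e : X ≅ CohB1.ProjSpace 1 C, e.hom ≫ CohB1.ProjSpace.toSpec 1 C = f := by
  let m := IsLocalRing.maximalIdeal C
  obtain ⟨n, hn⟩ := IsArtinianRing.isNilpotent_jacobson_bot (R := C)
  rw [IsLocalRing.jacobson_eq_maximalIdeal ⊥ bot_ne_top] at hn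
  haveI : IsAdicComplete m C := Groth.Agent.Adic.SysNoeth.isAdicComplete_of_pow_eq_bot m n hn
  let k := IsLocalRing.ResidueField C
  let X₀ := pullback f (Spec.map (CommRingCat.ofHom (IsLocalRing.residue C)))
  letI : X₀.Over (Spec (CommRingCat.of k)) :=
    ⟨pullback.snd f (Spec.map (CommRingCat.ofHom (IsLocalRing.residue C)))⟩
  haveI : IsIntegral X₀ := hint
  haveI : IsProper (X₀ ↘ Spec (CommRingCat.of k)) :=
    MorphismProperty.pullback_snd (P := @IsProper) f (Spec.map (CommRingCat.ofHom (IsLocalRing.residue C))) inferInstance
  haveI : Smooth (X₀ ↘ Spec (CommRingCat.of k)) :=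
    MorphismProperty.pullback_snd (P := @Smooth) f (Spec.map (CommRingCat.ofHom (IsLocalRing.residue C))) inferInstance
  haveI : IsSepClosed k := inferInstance
  haveI := Groth.Agent.CBC.TwistOne.geometricallyIntegral_of_smooth (X₀ ↘ Spec (CommRingCat.of k))
  obtain ⟨e₀, he₀⟩ := Groth.Agent.S7834.result k X₀ hdim hg
  exact Groth.Agent.S5997.result C 1 f e₀ he₀

end Groth.Agent.S11473
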