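import Groth.Statements.S13834
import Mathlib.AlgebraicGeometry.Morphisms.Flat
import Mathlib.AlgebraicGeometry.Morphisms.FinitePresentation
import Mathlib.RingTheory.Ideal.GoingDown
import Mathlib.RingTheory.LocalRing.ResidueField.Fiber
import Mathlib.RingTheory.Spectrum.Prime.Noetherian
-- import your own Groth.Agent.* helpers here

set_option autoImplicit false
universe u
open AlgebraicGeometry
open EtaPt

namespace Groth.Agent.S13834

open AlgebraicGeometry

theorem finite_minimalPrimes_of_flat {A B : Type u} [CommRing A] [CommRing B] [Algebra A B]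
    [Module.Flat A B] [Algebra.FiniteType A B] (hA : (minimalPrimes A).Finite) :
    (minimalPrimes B).Finite := by
  have hmin : ∀ q ∈ minimalPrimes B, Ideal.under A q ∈ minimalPrimes A := by
    intro q hq
    haveI := hq.1.1
    refine ⟨⟨inferInstance, bot_le⟩, fun p hp hle => ?_⟩
    haveI := hp.1
    obtain ⟨Q, hQq, hQ, hQp⟩ := Ideal.exists_ideal_le_liesOver_of_le (S := B) q hle
    rw [hQp.over]
    exact Ideal.comap_mono (hq.2 ⟨hQ, bot_le⟩ hQq)
  refine (hA.biUnion (t := fun p => {q | q ∈ minimalPrimes B ∧ Ideal.under A q = p})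
    fun p _ => ?_).subset fun q hq => Set.mem_biUnion (hmin q hq) ⟨hq, rfl⟩
  by_cases hp : p.IsPrime
  swap
  · refine Set.finite_empty.subset fun q hq => ?_
    exact hp (hq.2 ▸ haveI := hq.1.1.1; inferInstance)
  haveI : IsNoetherianRing (p.Fiber B) :=
    Algebra.FiniteType.isNoetherianRing p.ResidueField (p.Fiber B)
  let e := PrimeSpectrum.preimageOrderIsoFiber A B ⟨p, hp⟩
  refine (((minimalPrimes.finite_of_isNoetherianRing (p.Fiber B)).preimage
    (f := PrimeSpectrum.asIdeal) fun _ _ _ _ h => PrimeSpectrum.ext h).image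
      fun P => (e.symm P).1.asIdeal).subset ?_
  intro q hq
  let q' : PrimeSpectrum.comap (algebraMap A B) ⁻¹' {⟨p, hp⟩} :=
    ⟨⟨q, hq.1.1.1⟩, PrimeSpectrum.ext hq.2⟩
  refine ⟨e q', ⟨⟨(e q').isPrime, bot_le⟩, fun P hP hle => ?_⟩, (congrArg (fun x => x.1.asIdeal) (e.symm_apply_apply q'))⟩
  have h1 : e.symm ⟨P, hP.1⟩ ≤ q' := by
    rw [← e.symm_apply_apply q']; exact e.symm.monotone hle
  have h2 : q' ≤ e.symm ⟨P, hP.1⟩ := hq.1.2 ⟨(e.symm ⟨P, hP.1⟩).1.isPrime, bot_le⟩ h1
  have h3 := congrArg e (le_antisymm h2 h1)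
  rw [e.apply_symm_apply] at h3
  rw [h3]

theorem finite_components_affine {Y X : Scheme.{u}} (f : Y ⟶ X) [Flat f]
    [LocallyOfFinitePresentation f] (U : X.affineOpens) (W : Y.affineOpens) (e : W.1 ≤ f ⁻¹ᵁ U.1)
    (hU : (irreducibleComponents (U.1 : Type u)).Finite) :
    (irreducibleComponents (W.1 : Type u)).Finite := by
  have htrans : ∀ {Z : Scheme.{u}} (T : Z.affineOpens),
      (irreducibleComponents (T.1 : Type u)).Finite ↔ (minimalPrimes Γ(Z, T.1)).Finite := by
    intro Z T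
    let h : (T.1 : Type u) ≃ₜ PrimeSpectrum Γ(Z, T.1) := T.2.isoSpec.hom.homeomorph
    rw [(minimalPrimes.equivIrreducibleComponents Γ(Z, T.1)).toEquiv.set_finite_iff]
    constructor
    · intro hT
      refine (hT.image fun s => h '' s).subset fun s hs => ⟨h ⁻¹' s, ?_, h.image_preimage s⟩
      exact preimage_mem_irreducibleComponents hs h.isOpenEmbedding
        (by rw [h.surjective.range_eq, Set.inter_univ]; exact hs.1.1)
    · intro hT
      refine (hT.image fun s => h ⁻¹' s).subset fun s hs => ⟨h '' s, ?_, h.preimage_image s⟩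
      rw [← h.preimage_symm]
      exact preimage_mem_irreducibleComponents hs h.symm.isOpenEmbedding
        (by rw [h.symm.surjective.range_eq, Set.inter_univ]; exact hs.1.1)
  rw [htrans] at hU ⊢
  let φ := (f.appLE U.1 W.1 e).hom
  letI := φ.toAlgebra
  haveI : Module.Flat Γ(X, U.1) Γ(Y, W.1) := f.flat_appLE U.2 W.2 e
  haveI : Algebra.FinitePresentation Γ(X, U.1) Γ(Y, W.1) := f.finitePresentation_appLE U.2 W.2 e
  exact finite_minimalPrimes_of_flat hU

/-- If f : Y → X is faithfully flat and locally of finite presentation and each quasi-compact open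
subset of X has only finitely many irreducible components, the same is true of each quasi-compact
open subset of Y. -/
theorem result {Y X : Scheme.{u}} (f : Y ⟶ X) [Flat f] [LocallyOfFinitePresentation f] [Surjective f]
    (hX : ∀ U : X.Opens, IsCompact (U : Set X) → (irreducibleComponents (U : Type u)).Finite)
    (V : Y.Opens) (hV : IsCompact (V : Set Y)) : (irreducibleComponents (V : Type u)).Finite := by
  classical
  have key : ∀ y ∈ (V : Set Y), ∃ W : Y.affineOpens, y ∈ W.1 ∧ W.1 ≤ V ∧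
      ∃ U : X.affineOpens, W.1 ≤ f ⁻¹ᵁ U.1 := by
    intro y hy
    obtain ⟨_, ⟨U, hU, rfl⟩, hyU, -⟩ := X.isBasis_affineOpens.exists_subset_of_mem_open
      (Set.mem_univ (f.base y)) isOpen_univ
    obtain ⟨_, ⟨W, hW, rfl⟩, hyW, hWV⟩ := Y.isBasis_affineOpens.exists_subset_of_mem_open
      (show y ∈ ((V ⊓ f ⁻¹ᵁ U : Y.Opens) : Set Y) from ⟨hy, hyU⟩) (V ⊓ f ⁻¹ᵁ U).isOpen
    exact ⟨⟨W, hW⟩, hyW, fun z hz => (hWV hz).1, ⟨U, hU⟩, fun z hz => (hWV hz).2⟩
  choose W hyW hWV U hWU using key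
  obtain ⟨t, ht⟩ := hV.elim_finite_subcover (fun y : (V : Set Y) => ((W y.1 y.2).1 : Set Y))
    (fun y => (W y.1 y.2).1.isOpen) fun y hy => Set.mem_iUnion.2 ⟨⟨y, hy⟩, hyW y hy⟩
  have hfin : ∀ y : (V : Set Y), (irreducibleComponents ((W y.1 y.2).1 : Type u)).Finite := fun y =>
    finite_components_affine f (U y.1 y.2) (W y.1 y.2) (hWU y.1 y.2) (hX _ (U y.1 y.2).2.isCompact)
  let ι : ∀ y : (V : Set Y), ((W y.1 y.2).1 : Type u) → (V : Type u) :=
    fun y w => ⟨w.1, hWV y.1 y.2 w.2⟩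
  have hι : ∀ y, Topology.IsOpenEmbedding (ι y) := fun y =>
    Topology.IsOpenEmbedding.inclusion (hWV y.1 y.2)
      ((W y.1 y.2).1.isOpen.preimage continuous_subtype_val)
  refine ((t.finite_toSet.biUnion fun y _ => (hfin y).image fun s => closure (ι y '' s))).subset ?_
  intro s hs
  obtain ⟨v, hv⟩ := hs.1.1
  obtain ⟨y, hyt, hvy⟩ : ∃ y ∈ t, v.1 ∈ (W y.1 y.2).1 := by
    simpa [Set.mem_iUnion] using ht v.2
  have hne : (s ∩ Set.range (ι y)).Nonempty := ⟨v, hv, ⟨v.1, hvy⟩, rfl⟩
  refine Set.mem_biUnion hyt ⟨ι y ⁻¹' s, preimage_mem_irreducibleComponents hs (hι y) hne, ?_⟩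
  refine Set.Subset.antisymm ?_ ?_
  · exact ((isClosed_of_mem_irreducibleComponents s hs).closure_subset_iff).2
      (Set.image_preimage_subset _ _)
  · change s ⊆ closure (ι y '' (ι y ⁻¹' s))
    rw [Set.image_preimage_eq_inter_range]
    exact subset_closure_inter_of_isPreirreducible_of_isOpen hs.1.2 (hι y).isOpen_range hne

end Groth.Agent.S13834
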