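import Groth.Statements.S1148
import Groth.Agent.S13834

set_option autoImplicit false
universe u
open Desc

namespace Groth.Agent.S1148

/-- Affine form (finiteness of irreducible components of quasi-compact opens is fppf local; this is the
ascent direction for a morphism of affine schemes). Let A → B be a flat ring map of finite
presentation. If Spec A has finitely many irreducible components, then so does Spec B. -/
theorem result (A B : Type u) [CommRing A] [CommRing B] [Algebra A B]
    [Module.Flat A B] [Algebra.FinitePresentation A B] (h : (irreducibleComponents (PrimeSpectrum A)).Finite) :
    (irreducibleComponents (PrimeSpectrum B)).Finite := by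
  rw [(minimalPrimes.equivIrreducibleComponents A).symm.toEquiv.set_finite_iff] at h
  rw [(minimalPrimes.equivIrreducibleComponents B).symm.toEquiv.set_finite_iff]
  exact S13834.finite_minimalPrimes_of_flat h

end Groth.Agent.S1148
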