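import Groth.Statements.S11482
import Groth.Agent.VBLib.RankTwo

set_option backward.isDefEq.respectTransparency false

set_option autoImplicit false
universe u
open CategoryTheory CategoryTheory.Limits AlgebraicGeometry
open Curves

namespace Groth.Agent.S11482

open Groth.Agent

/-- Fix an algebraically closed field k and a nonsingular projective curve X over k of genus g (smooth,
proper, integral, of dimension one, g = dim H¹(X, O_X)) and E a locally free sheaf of rank 2 and
degree d (degree = χ(E) − 2χ(O_X)) that is indecomposable: in any decomposition E ≅ E₁ ⊕ E₂ one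
summand is zero. Then (a) every invertible subsheaf L ⊆ E has 2·deg L ≤ d + 2g − 2, and (b) there is
an invertible subsheaf L ⊆ E with d − 2g ≤ 2·deg L. (The published statement is that indecomposable
bundles of fixed rank and degree form a bounded family; this row states, in rank two, the degree
bounds for invertible subsheaves on which its proof rests.) -/
theorem result (k : Type u) [Field k] [IsAlgClosed k]
    (X : Scheme.{u}) [X.Over (Spec (CommRingCat.of k))] (hX : Curve.IsSmoothProperCurve k X (X ↘ Spec (CommRingCat.of k)))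
    (E : X.Modules) (hE : FlatMod.IsFinLocFreeOfRank 2 E)
    (hind : ∀ (E₁ E₂ : X.Modules), Nonempty (E ≅ E₁ ⊞ E₂) → IsZero E₁ ∨ IsZero E₂) :
    (∀ (L : X.Modules) (ι : L ⟶ E), PicF.IsInvertible L → Mono ι →
        2 * Curv2.deg k X L 1 ≤ Curv2.deg k X E 2 + 2 * (Curv2.genus k X : ℤ) - 2) ∧
      ∃ (L : X.Modules) (ι : L ⟶ E), PicF.IsInvertible L ∧ Mono ι ∧
        Curv2.deg k X E 2 - 2 * (Curv2.genus k X : ℤ) ≤ 2 * Curv2.deg k X L 1 := by
  obtain ⟨hp, hs, hI, hd⟩ := hX
  haveI := hp
  haveI := hs
  haveI := hI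
  have hG := VBLib.goodCurve_of_smooth (k := k) hd
  have hEf := VBLib.isFinLocFree_of_ofRank hE
  have hE2 := VBLib.rk_eq hE
  refine ⟨fun L ι hL hm => ?_, ?_⟩
  · have hLr := VBLib.ofRank_one_of_invertible hL
    haveI := hm
    have h := hG.two_mul_dg_le hEf hE2 (fun A B hA hB => ⟨fun φ => by
      rcases hind A B ⟨φ⟩ with hz | hz
      · have := VBLib.rk_eq_zero_of_isZero hz
        rw [VBLib.rk_eq (VBLib.ofRank_one_of_invertible hA)] at this; omega
      · have := VBLib.rk_eq_zero_of_isZero hz
        rw [VBLib.rk_eq (VBLib.ofRank_one_of_invertible hB)] at this; omega⟩)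
      ι (VBLib.isFinLocFree_of_ofRank hLr) (VBLib.rk_eq hLr)
    rw [VBLib.dg_eq hLr, VBLib.dg_eq hE]
    exact h
  · obtain ⟨L, i, hi, hL, h⟩ := hG.exists_two_mul_dg_ge hEf hE2
    refine ⟨L, i, hL, hi, ?_⟩
    rw [VBLib.dg_eq (VBLib.ofRank_one_of_invertible hL), VBLib.dg_eq hE]
    exact h

end Groth.Agent.S11482
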