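import Groth.Statements.S11484
import Groth.Agent.SerrePn.ExtTwist
import Groth.Agent.DualAbs.Depth

set_option autoImplicit false
universe u
open VBPn

namespace Groth.Agent.S11484

open CategoryTheory CategoryTheory.Limits AlgebraicGeometry in
/-- Let k be an algebraically closed field of characteristic zero and n ≥ 2. On P^n_k every short exact
sequence of O-modules whose first term is isomorphic to O(a) and whose third term is isomorphic to
O(b), for integers a and b, admits a splitting; in particular its middle term is isomorphic to O(a)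
⊕ O(b). -/
theorem result (k : Type u) [Field k] [IsAlgClosed k] [CharZero k]
    (n : ℕ) (hn : 2 ≤ n) (a b : ℤ) (S : ShortComplex (CohB1.ProjSpace n k).Modules) (hS : S.ShortExact)
    (ha : Nonempty (S.X₁ ≅ Twist.twistProjSpace n k a)) (hb : Nonempty (S.X₃ ≅ Twist.twistProjSpace n k b)) :
    Nonempty S.Splitting := by
  have : HasExt.{u} (CohB1.ProjSpace n k).Modules := Groth.Agent.ModShf.schemeModulesHasExt _
  obtain ⟨ea⟩ := ha
  obtain ⟨eb⟩ := hb
  have h : Subsingleton (Abelian.Ext S.X₃ S.X₁ 1) :=
    Groth.Agent.DualAbs.subsingleton_ext_of_iso eb.symm ea.symm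
      (Groth.Agent.SerrePn.subsingleton_ext_twist b a 1
        (Groth.Agent.ProjTwist.Pn.subsingleton_twist _ 0 (Or.inl (by omega))))
  obtain ⟨r, hr⟩ := Abelian.Ext.contravariant_sequence_exact₁ hS _ (Abelian.Ext.mk₀ (𝟙 S.X₁))
    (show 1 + 0 = 1 from rfl) (Subsingleton.elim _ _)
  obtain ⟨r, rfl⟩ := (Abelian.Ext.mk₀_bijective _ _).2 r
  rw [Abelian.Ext.mk₀_comp_mk₀] at hr
  exact ⟨ShortComplex.Splitting.ofExactOfRetraction S hS.exact r
    ((Abelian.Ext.mk₀_bijective _ _).1 hr) hS.epi_g⟩

end Groth.Agent.S11484
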