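import Groth.Statements.S11486
import Groth.Agent.DualAbs.Horrocks
-- import your own Groth.Agent.* helpers here

set_option autoImplicit false
universe u
open VBPn

namespace Groth.Agent.S11486

open CategoryTheory CategoryTheory.Limits AlgebraicGeometry in
/-- Let k be a characteristic-zero algebraically closed field and E a finite locally free O-module of
rank r on P^n_k. Then E splits as a direct sum of twisting sheaves O(a_1) ⊕ ⋯ ⊕ O(a_r) if and only
if H^i(P^n_k, E ⊗ O(d)) = 0 for every 0 < i < n and every integer d. -/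
theorem result (k : Type u) [Field k] [IsAlgClosed k] [CharZero k]
    (n r : ℕ) (E : (CohB1.ProjSpace n k).Modules) (hE : FlatMod.IsFinLocFreeOfRank r E) :
    (∃ a : Fin r → ℤ, Nonempty (E ≅ ∐ fun j : Fin r => Twist.twistProjSpace n k (a j))) ↔
      ∀ (i : ℕ) (d : ℤ), 0 < i → i < n →
        Subsingleton (Coh.HH (CohB1.ProjSpace n k) (CohB1.tensorMod E (Twist.twistProjSpace n k d)) i) := by
  have hlf : FlatMod.IsFinLocFree E := fun x => by
    obtain ⟨U, hx, e⟩ := hE x
    exact ⟨U, r, hx, e⟩
  have := SerrePn.isLocallyNoetherian (n := n) (R := k)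
  have hcoh : Coh.IsCoh E := PerfTri.Bounded.isCoh_of_isFinLocFree hlf
  obtain ⟨y⟩ : Nonempty (CohB1.ProjSpace n k) := by
    have := S18573.irreducibleSpace_projSpace n k
    infer_instance
  obtain ⟨g⟩ := EulerChar.stalk_ofRank hE y
  rcases Nat.eq_zero_or_pos n with rfl | hn
  · refine ⟨fun _ i d h h' => absurd h' (by omega), fun _ => ⟨fun _ => 0, ?_⟩⟩
    exact DualAbs.nonempty_split_zero hE
  · constructor
    · rintro ⟨a, ⟨e⟩⟩ i d h h'
      exact (DualAbs.midVanish_of_split hn a e).mid d i h h'
    · intro h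
      refine DualAbs.exists_split hn y r E hcoh ⟨?_, fun d i h₁ h₂ => h i d h₁ h₂⟩
        (g.finrank_eq.symm.trans (Module.finrank_fin_fun _))
      obtain ⟨m₀, hm₀⟩ := DualAbs.negVanish_of_isFinLocFree hcoh hlf
      refine ⟨-m₀, fun d hd => ?_⟩
      have := hm₀ (-d) (by omega) 0 (by omega)
      rwa [neg_neg] at this


end Groth.Agent.S11486
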