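import Groth.Statements.S1149
import Groth.Agent.FEtCat.InternalHom

set_option autoImplicit false
universe u
open Pi1

namespace Groth.Agent.S1149

open AlgebraicGeometry CategoryTheory CategoryTheory.Limits MonoidalCategory CartesianMonoidalCategory in
/-- Let U and V be finite etale over a scheme X. Then some W finite etale over X has the following
property: for every morphism g : T ⟶ X the X-morphisms T ⟶ W are in bijection with the T-morphisms
U_T ⟶ V_T between the base changes. (The source's identification is moreover compatible with base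
change; only the bijections are asserted here.) -/
theorem result {X : Scheme.{u}} (U V : FEt.Cat X) :
    ∃ W : FEt.Cat X, ∀ (T : Scheme.{u}) (g : T ⟶ X),
      Nonempty ({s : T ⟶ W.left // s ≫ W.hom = g} ≃ ((FEt.restrict g).obj U ⟶ (FEt.restrict g).obj V)) := by
  obtain ⟨M, ev, hM, huniv⟩ := FEtCat.InternalHom.exists_homCover U V
  have : IsFinite M.hom := hM.1
  have : Etale M.hom := hM.2
  refine ⟨FEtCat.Basic.mk M.hom, fun T g => ⟨Equiv.trans (Equiv.trans
    (⟨fun s => Over.homMk s.1 s.2, fun v => ⟨v.left, Over.w v⟩, fun _ => rfl, fun _ => rfl⟩ :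
      {s : T ⟶ M.left // s ≫ M.hom = g} ≃ (Over.mk g ⟶ M))
    (Equiv.ofBijective (fun v : Over.mk g ⟶ M => (Over.mk U.hom ◁ v) ≫ ev) ⟨fun v w h => ?_, fun φ => ?_⟩))
    (FEtCat.InternalHom.homEquiv U V T g)⟩⟩
  · exact (huniv _ _).unique rfl h.symm
  · obtain ⟨v, hv, -⟩ := huniv _ φ
    exact ⟨v, hv⟩

end Groth.Agent.S1149
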