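import Groth.Statements.S11493
import Groth.Agent.ExtVanish.Basic
import Mathlib.RingTheory.LocalRing.Module

set_option autoImplicit false
universe u
open CategoryTheory
open VBPn

namespace Groth.Agent.S11493

/-- Let A be a Noetherian local ring and I an ideal with a free resolution of length 1, 0 → A^p → A^q →
I → 0 (equivalently: a surjection A^q → I with free kernel). Let 0 → A → M → I → 0 be an extension
with class e ∈ Ext^1(I, A). Then M is free if and only if e generates the A-module Ext^1(I, A); the
A-module structure being through End(A) = A, this says every element of Ext^1(I, A) is the composite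
of e with an endomorphism of A. -/
theorem result (A : Type u) [CommRing A] [IsNoetherianRing A] [IsLocalRing A]
    (I : Ideal A)
    (hres : ∃ (q : ℕ) (φ : (Fin q → A) →ₗ[A] ↥I), Function.Surjective φ ∧ Module.Free A ↥(LinearMap.ker φ))
    (S : ShortComplex (ModuleCat.{u} A)) (hS : S.ShortExact)
    (h₁ : Nonempty (S.X₁ ≅ ModuleCat.of A A)) (h₃ : Nonempty (S.X₃ ≅ ModuleCat.of A ↥I)) :
    Module.Free A S.X₂ ↔
      ∀ x : Abelian.Ext S.X₃ S.X₁ 1, ∃ f : S.X₁ ⟶ S.X₁, hS.extClass.comp (Abelian.Ext.mk₀ f) (add_zero 1) = x := by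
  obtain ⟨e₁⟩ := h₁
  obtain ⟨e₃⟩ := h₃
  obtain ⟨q, φ, hφ, hker⟩ := hres
  have hproj : ∀ (N : ModuleCat.{u} A), Module.Free A N → HasProjectiveDimensionLT N 1 := fun N _ => by
    have : CategoryTheory.Projective N := (IsProjective.iff_projective _).1 Module.Projective.of_free
    infer_instance
  have p₁ : HasProjectiveDimensionLT S.X₁ 1 := by
    have := hproj (ModuleCat.of A A) inferInstance
    exact hasProjectiveDimensionLT_of_iso e₁.symm 1
  have hfin : Module.Finite A S.X₂ := by
    have : Module.Finite A S.X₁ := Module.Finite.equiv e₁.toLinearEquiv.symm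
    have : Module.Finite A S.X₃ := Module.Finite.equiv e₃.toLinearEquiv.symm
    exact Module.Finite.of_exact ((ShortComplex.ShortExact.moduleCat_exact_iff_function_exact _).1 hS.exact)
      ((ModuleCat.epi_iff_surjective _).1 hS.epi_g)
  constructor
  · intro hfree x
    have : Subsingleton (Abelian.Ext S.X₂ S.X₁ 1) :=
      (hproj S.X₂ hfree).subsingleton (X := S.X₂) 1 1 le_rfl _
    obtain ⟨f, hf⟩ := Abelian.Ext.contravariant_sequence_exact₃ hS S.X₁ x (Subsingleton.elim _ _)
      (add_zero 1)
    obtain ⟨f, rfl⟩ := (Abelian.Ext.mk₀_bijective _ _).2 f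
    exact ⟨f, hf⟩
  · intro h
    have hI : HasProjectiveDimensionLT (ModuleCat.of A I) 2 :=
      (ExtVanish.shortExact_ker φ hφ).hasProjectiveDimensionLT_X₃ 1 (hproj _ hker)
        (by have := hproj (ModuleCat.of A (Fin q → A)) inferInstance
            exact hasProjectiveDimensionLT_of_ge _ 1 2 (by omega))
    have p₃ : HasProjectiveDimensionLT S.X₃ 2 := hasProjectiveDimensionLT_of_iso e₃.symm 2
    have p₂ : HasProjectiveDimensionLT S.X₂ 2 :=
      hS.hasProjectiveDimensionLT_X₂ 2 (hasProjectiveDimensionLT_of_ge _ 1 2 (by omega)) p₃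
    have hext : ∀ i, 0 < i → Subsingleton (Abelian.Ext S.X₂ S.X₁ i) := by
      intro i hi
      rcases Nat.lt_or_ge i 2 with h2 | h2
      · obtain rfl : i = 1 := by omega
        refine ⟨fun x y => sub_eq_zero.1 ?_⟩
        obtain ⟨z, hz⟩ := Abelian.Ext.contravariant_sequence_exact₂ hS S.X₁ (x - y)
          ((HasProjectiveDimensionLT.subsingleton S.X₁ 1 1 le_rfl _).elim _ _)
        obtain ⟨f, hf⟩ := h z
        rw [← hz, ← hf, hS.comp_extClass_assoc]
      · exact HasProjectiveDimensionLT.subsingleton S.X₂ 2 i h2 _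
    have hA : ∀ i, 0 < i → Subsingleton (Abelian.Ext S.X₂ (ModuleCat.of A A) i) := fun i hi =>
      ⟨fun x y => by
        have e := congrArg (fun z => Abelian.Ext.comp z (Abelian.Ext.mk₀ e₁.hom) (add_zero i))
          ((hext i hi).elim (x.comp (Abelian.Ext.mk₀ e₁.inv) (add_zero i))
            (y.comp (Abelian.Ext.mk₀ e₁.inv) (add_zero i)))
        simpa using e⟩
    have hP : HasProjectiveDimensionLT S.X₂ 1 := (ExtVanish.pd_le_iff S.X₂ 2 0 p₂).2 hA
    have : Module.Projective A S.X₂ :=
      (IsProjective.iff_projective _).2 (projective_iff_hasProjectiveDimensionLT_one.2 hP)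
    exact Module.free_of_flat_of_isLocalRing

end Groth.Agent.S11493
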