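import Groth.Statements.S11494
import Groth.Agent.VBPnJump.Point
import Groth.Agent.VBPnSerre.Lift

set_option autoImplicit false
set_option linter.style.haveILetI false
set_option backward.isDefEq.respectTransparency false
set_option backward.isDefEq.respectTransparency.types false
set_option synthInstance.maxHeartbeats 400000
universe u
open VBPn

namespace Groth.Agent.S11494

section

open CategoryTheory CategoryTheory.Limits AlgebraicGeometry Groth.Agent.VBPnJump Groth.Agent.ProjTwist Groth.Agent.ProjTwist.Pn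
open Groth.Agent.PullStalk.Exact (stalkLin)

variable {k : Type u} [Field k]

theorem ofRank_res {M : (CohB1.ProjSpace 2 k).Modules} {r : ℕ} (h : FlatMod.IsFinLocFreeOfRank r M)
    (i : CohB1.ProjSpace 1 k ⟶ CohB1.ProjSpace 2 k) : FlatMod.IsFinLocFreeOfRank r ((res k i).obj M) := by
  have hf := DEq.LocFreeCx.isFinLocFree_of_ofRank h
  haveI := PerfTri.Betti.isQuasicoherent_of_isFinLocFree hf
  refine DEq.LocFreeCx.ofRank_of_fibreRank (finLocFree_res hf i) fun y => ?_
  exact (RankLocus.fibreRank_pullback i M y).trans (DEq.LocFreeCx.fibreRank_of_ofRank h _)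

theorem jump_empty : Nonempty (Jump k (∅ : Set (CohB1.ProjSpace 2 k))) := by
  have hO := DEq.LocFreeCx.isFinLocFree_of_ofRank (finLocFree_O (X := CohB1.ProjSpace 2 k))
  refine ⟨{ E := Coh.structureModule (CohB1.ProjSpace 2 k) ⊞ Coh.structureModule (CohB1.ProjSpace 2 k)
            hE := DEq.LocFreeCx.ofRank_of_fibreRank (PerfTri.Cone.isFinLocFree_biprod hO hO) fun y => by
              rw [VBPnSerre.fibreRank_biprod hO hO,
                DEq.LocFreeCx.fibreRank_of_ofRank (finLocFree_O (X := CohB1.ProjSpace 2 k))]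
            σ := biprod.inl
            π := biprod.snd
            w := biprod.inl_snd
            splitσ := fun x _ => ⟨stalkLin biprod.fst x, fun t => by
              rw [← Omega.Stalks.stalkLin_comp, biprod.inl_fst, Omega.ProdDiff.stalkLin_id]⟩
            surjπ := fun x _ t => ⟨stalkLin biprod.inr x t, by
              rw [← Omega.Stalks.stalkLin_comp, biprod.inr_snd, Omega.ProdDiff.stalkLin_id]⟩
            line := fun i hi hOi => ⟨by rw [euler_res_biprod i hO hO, euler_res_O i hOi]; norm_num, ?_⟩ }⟩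
  obtain ⟨e0'⟩ := VBPnHyper.nonempty_pullTwistO i hOi 0
  rw [show ((∅ : Set (CohB1.ProjSpace 2 k)) ∩ Set.range i.base).ncard = 0 by simp]
  let e0 := (res k i).mapIso (twistZeroIso (CohB1.polyGrading 2 k)) ≪≫ e0'
  haveI : Epi ((res k i).map (biprod.snd : Coh.structureModule (CohB1.ProjSpace 2 k) ⊞
      Coh.structureModule (CohB1.ProjSpace 2 k) ⟶ _)) :=
    (Functor.preservesEpimorphisms_of_adjunction (Scheme.Modules.pullbackPushforwardAdjunction i)).preserves _
  exact ⟨(res k i).map biprod.snd ≫ e0.hom, e0.inv, inferInstance, inferInstance, by simp⟩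

theorem jump_finite [IsAlgClosed k] {m : ℕ} (x : Fin m → CohB1.ProjSpace 2 k) (hx : Function.Injective x)
    (hcl : ∀ j, IsClosed ({x j} : Set (CohB1.ProjSpace 2 k))) (s : Finset (Fin m)) :
    Nonempty (Jump k (x '' (s : Set (Fin m)))) := by
  classical
  induction s using Finset.induction with
  | empty => simpa using jump_empty
  | insert j s hj ih =>
    obtain ⟨J₁⟩ := Jump.point (x j) (hcl j)
    obtain ⟨J₂⟩ := ih
    rw [Finset.coe_insert, Set.image_insert_eq, Set.insert_eq]
    exact J₁.union J₂ (Set.disjoint_singleton_left.mpr fun h => by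
      obtain ⟨l, hl, he⟩ := h
      exact hj (hx he ▸ Finset.mem_coe.mp hl)) (Set.finite_singleton _) (Set.toFinite _)

/-- An extension of `O(-a)` by `O(a)` on the line splits. -/
theorem split_line (a : ℕ) {G : (CohB1.ProjSpace 1 k).Modules} (hG : FlatMod.IsFinLocFreeOfRank 2 G)
    (hχ : χ k G = 2) (q : G ⟶ Twist.twistProjSpace 1 k (-(a : ℤ))) [Epi q] :
    Nonempty (G ≅ Twist.twistProjSpace 1 k (a : ℤ) ⊞ Twist.twistProjSpace 1 k (-(a : ℤ))) := by
  have hGf := DEq.LocFreeCx.isFinLocFree_of_ofRank hG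
  have hK := ofRank_kernel q (r := 1) (s := 1) hGf (fun y => DEq.LocFreeCx.fibreRank_of_ofRank hG y)
    (isFinLocFreeOfRank_one (isInvertible_twistProjSpace 1 k _))
  obtain ⟨φ⟩ := nonempty_iso_of_euler hK (d := (a : ℤ)) (by
    have h := euler_add k (shortExact_kernel' q) (DEq.LocFreeCx.isFinLocFree_of_ofRank hK) hGf
      (finLocFree_twist (k := k) _)
    change χ k G = χ k (kernel q) + χ k (Twist.twistProjSpace 1 k (-(a : ℤ))) at h
    rw [hχ, euler_twist] at h
    omega)
  have hS := shortExact_kernel' q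
  obtain ⟨ν⟩ : Nonempty (twFun 1 k (a : ℤ) ⋙ twFun 1 k (-(a : ℤ)) ≅ 𝟭 (CohB1.ProjSpace 1 k).Modules) :=
    ⟨twTwNat (a : ℤ) (-(a : ℤ)) 0 (add_neg_cancel _) ≪≫ twZeroNat⟩
  obtain ⟨o'⟩ : Nonempty (Coh.structureModule (CohB1.ProjSpace 1 k) ≅
      (twFun 1 k (a : ℤ)).obj (Twist.twistProjSpace 1 k (-(a : ℤ)))) :=
    ⟨twistZeroIso (CohB1.polyGrading 1 k) ≪≫ eqToIso (by rw [show (0 : ℤ) = -(a : ℤ) + a by ring]; rfl) ≪≫
      (nonempty_twistProjSpace_tensor 1 k (-(a : ℤ)) (a : ℤ)).some.symm⟩
  have hH : Subsingleton (Coh.HH (CohB1.ProjSpace 1 k)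
      ((ShortComplex.mk (kernel.ι q) q (kernel.condition q)).map (twFun 1 k (a : ℤ))).X₁ 1) := by
    haveI := subsingleton_twist (n := 1) (R := k) ((a : ℤ) + a) 0 (Or.inr (by push_cast; omega))
    exact subsingleton_of_iso (twCongr φ (a : ℤ) ≪≫
      (nonempty_twistProjSpace_tensor 1 k (a : ℤ) (a : ℤ)).some).symm 1
  obtain ⟨s, hs⟩ := @VBPnSerre.lift_twist_aux (CohB1.ProjSpace 1 k).Modules _ (twFun 1 k (a : ℤ))
    (twFun 1 k (-(a : ℤ))) ν (Coh.structureModule (CohB1.ProjSpace 1 k)) (Twist.twistProjSpace 1 k (-(a : ℤ)))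
    G (Twist.twistProjSpace 1 k (-(a : ℤ))) o' q
    (fun v => VBPnSerre.exists_lift_ses (shortExact_tw hS (a : ℤ)) hH v) (𝟙 _)
  let sp : (ShortComplex.mk (kernel.ι q) q (kernel.condition q)).Splitting :=
    ShortComplex.Splitting.ofExactOfSection _ hS.exact s hs hS.mono_f
  exact ⟨sp.isoBinaryBiproduct ≪≫ biprod.mapIso φ (Iso.refl _)⟩

end

open CategoryTheory CategoryTheory.Limits AlgebraicGeometry in
/-- Let k be an algebraically closed field of characteristic zero and x_1, …, x_m pairwise distinct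
closed points of P^2_k. There is a rank-2 vector bundle E on P^2_k whose restriction to any line
containing exactly a of the points x_j splits as O(a) ⊕ O(−a): for every closed immersion of
k-schemes i : P^1_k → P^2_k along which O(1) pulls back to O(1), with a the number of indices j such
that x_j lies in the image of i, one has i^*E ≅ O(a) ⊕ O(−a). (In particular the generic splitting
type, on lines through none of the points, is (0, 0).) -/
theorem result (k : Type u) [Field k] [IsAlgClosed k] [CharZero k]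
    (m : ℕ) (x : Fin m → ↥(CohB1.ProjSpace 2 k)) (hx : Function.Injective x)
    (hcl : ∀ j, IsClosed ({x j} : Set ↥(CohB1.ProjSpace 2 k))) :
    ∃ E : (CohB1.ProjSpace 2 k).Modules, FlatMod.IsFinLocFreeOfRank 2 E ∧
      ∀ (i : CohB1.ProjSpace 1 k ⟶ CohB1.ProjSpace 2 k) [IsClosedImmersion i],
        i ≫ CohB1.ProjSpace.toSpec 2 k = CohB1.ProjSpace.toSpec 1 k →
        Nonempty ((Scheme.Modules.pullback i).obj (Twist.twistProjSpace 2 k 1) ≅ Twist.twistProjSpace 1 k 1) →
        Nonempty ((Scheme.Modules.pullback i).obj E ≅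
          Twist.twistProjSpace 1 k (Nat.card {j : Fin m // x j ∈ Set.range i.base} : ℤ) ⊞
            Twist.twistProjSpace 1 k (-(Nat.card {j : Fin m // x j ∈ Set.range i.base} : ℤ))) := by
  classical
  obtain ⟨J⟩ := jump_finite x hx hcl Finset.univ
  refine ⟨J.E, J.hE, fun i hi _ hO => ?_⟩
  obtain ⟨hχ, q, c, hq, -, -⟩ := J.line i hi hO
  haveI := hq
  have hcard : Nat.card {j : Fin m // x j ∈ Set.range i.base} =
      ((x '' ((Finset.univ : Finset (Fin m)) : Set (Fin m))) ∩ Set.range i.base).ncard := by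
    rw [Finset.coe_univ, Set.image_univ, ← Nat.card_coe_set_eq]
    refine Nat.card_congr (Equiv.ofBijective (fun j => ⟨x j.1, ⟨j.1, rfl⟩, j.2⟩) ⟨fun a b h => ?_, ?_⟩)
    · exact Subtype.ext (hx (congrArg Subtype.val h))
    · rintro ⟨_, ⟨j, rfl⟩, hj⟩
      exact ⟨⟨j, hj⟩, rfl⟩
  rw [hcard]
  refine split_line _ ?_ hχ q
  exact ofRank_res J.hE i

end Groth.Agent.S11494
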