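import Groth.Statements.S11496
import Groth.Agent.RegLoc.Homological
import Mathlib.RingTheory.KrullDimension.NonZeroDivisors
import Mathlib.Order.KrullDimension

set_option autoImplicit false
universe u
open CategoryTheory
open VBPn

namespace Groth.Agent.S11496

/-- Let A be a regular local ring, M a finitely generated A-module and i ≥ 0. The support of Ext^i_A(M,
A) has dimension at most dim A − i: for every prime ideal p of A such that Ext^i over the
localization A_p of M_p into A_p is nonzero (this Ext group is the localization at p of Ext^i_A(M,
A)), one has dim(A/p) + i ≤ dim A. The published statement is for coherent analytic sheaves on an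
n-dimensional complex manifold; this row is stated for any regular local ring. -/
theorem result (A : Type u) [CommRing A] [IsRegularLocalRing A]
    (M : Type u) [AddCommGroup M] [Module A M] [Module.Finite A M] (i : ℕ) (p : Ideal A) [p.IsPrime]
    (h : Nontrivial (Abelian.Ext
      (ModuleCat.of (Localization.AtPrime p) (LocalizedModule p.primeCompl M))
      (ModuleCat.of (Localization.AtPrime p) (Localization.AtPrime p)) i)) :
    ringKrullDim (A ⧸ p) + (i : WithBot ℕ∞) ≤ ringKrullDim A := by
  have := RegLoc.Homological.isRegularLocalRing_localization p
  obtain ⟨δ, hδ, -⟩ := RegLoc.exists_natCast_eq_ringKrullDim (Localization.AtPrime p)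
  have hi : i ≤ δ := by
    by_contra hlt
    have := RegLoc.Homological.pd_le_dim hδ (LocalizedModule p.primeCompl M)
    exact (not_nontrivial_iff_subsingleton.2
      (CategoryTheory.HasProjectiveDimensionLT.subsingleton _ (δ + 1) i (by omega) _)) h
  rw [IsLocalization.AtPrime.ringKrullDim_eq_height p (Localization.AtPrime p)] at hδ
  let P : PrimeSpectrum A := ⟨p, inferInstance⟩
  have hp : (i : WithBot ℕ∞) ≤ (Order.height P : WithBot ℕ∞) := by
    rw [← PrimeSpectrum.height_eq_orderHeight, show P.asIdeal = p from rfl]
    rw [hδ]
    exact_mod_cast hi
  have hq : ringKrullDim (A ⧸ p) = (Order.coheight P : WithBot ℕ∞) := by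
    rw [ringKrullDim_quotient, Order.coheight_eq_krullDim_Ici]
    exact Order.krullDim_eq_of_orderIso (OrderIso.setCongr _ _ (by ext q; simp [P]; rfl))
  rw [hq, ringKrullDim, Order.krullDim_eq_iSup_height_add_coheight_of_nonempty, add_comm]
  refine le_trans (add_le_add hp le_rfl) ?_
  rw [← WithBot.coe_add]
  exact WithBot.coe_le_coe.2 (le_iSup (fun a : PrimeSpectrum A => Order.height a + Order.coheight a) P)

end Groth.Agent.S11496
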