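import Groth.Statements.S11497
import Mathlib.Algebra.Homology.DerivedCategory.Ext.ExactSequences

set_option autoImplicit false
universe w v u
open CategoryTheory
open VBPn

namespace Groth.Agent.S11497

/-- In an abelian category, let M : A → B → C and M' : A' → B' → C' be monads, i.e. short complexes
whose first map is a monomorphism and whose second map is an epimorphism, with cohomology (homology)
objects E and E'. Suppose Hom(B, A') = 0, Hom(C, B') = 0 and Ext^1(C, A') = Ext^1(B, A') = Ext^1(C,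
B') = Ext^2(C, A') = 0. Then the map sending a morphism of monads M → M' to the induced morphism E →
E' is bijective. The published statement is for monads of vector bundles on a complex manifold X,
with Ext^i(C, A') written H^i(X, C^* ⊗ A'); this row is stated in any abelian category. -/
theorem result {C : Type u} [Category.{v} C] [Abelian C] [HasExt.{w} C]
    (M M' : ShortComplex C) [Mono M.f] [Epi M.g] [Mono M'.f] [Epi M'.g]
    (hBA : ∀ f : M.X₂ ⟶ M'.X₁, f = 0) (hCB : ∀ f : M.X₃ ⟶ M'.X₂, f = 0)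
    (hCA₁ : Subsingleton (Abelian.Ext M.X₃ M'.X₁ 1)) (hBA₁ : Subsingleton (Abelian.Ext M.X₂ M'.X₁ 1))
    (hCB₁ : Subsingleton (Abelian.Ext M.X₃ M'.X₂ 1)) (hCA₂ : Subsingleton (Abelian.Ext M.X₃ M'.X₁ 2)) :
    Function.Bijective (fun φ : M ⟶ M' => ShortComplex.homologyMap φ) := by
  let T₁ (N : ShortComplex C) : ShortComplex C := ShortComplex.mk N.iCycles N.g N.iCycles_g
  let T₂ (N : ShortComplex C) : ShortComplex C :=
    ShortComplex.mk N.toCycles N.homologyπ N.toCycles_comp_homologyπ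
  have hT₁ : ∀ (N : ShortComplex C), Epi N.g → (T₁ N).ShortExact := fun N hN =>
    { exact := (T₁ N).exact_of_f_is_kernel N.cyclesIsKernel
      mono_f := inferInstanceAs (Mono N.iCycles)
      epi_g := hN }
  have hT₂ : ∀ (N : ShortComplex C), Mono N.f → (T₂ N).ShortExact := fun N hN =>
    { exact := (T₂ N).exact_of_g_is_cokernel N.homologyIsCokernel
      mono_f := by
        have : Mono (N.toCycles ≫ N.iCycles) := by rw [N.toCycles_i]; exact hN
        exact mono_of_mono N.toCycles N.iCycles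
      epi_g := inferInstanceAs (Epi N.homologyπ) }
  have e₁ := hT₁ M inferInstance
  have hKA₀ : ∀ x : M.cycles ⟶ M'.X₁, x = 0 := by
    intro x
    obtain ⟨y, hy⟩ := Abelian.Ext.contravariant_sequence_exact₁ e₁ M'.X₁ (Abelian.Ext.mk₀ x)
      (add_zero 1) (hCA₁.elim _ _)
    obtain ⟨y, rfl⟩ := (Abelian.Ext.mk₀_bijective _ _).2 y
    rw [Abelian.Ext.mk₀_comp_mk₀, hBA y, Limits.comp_zero] at hy
    exact ((Abelian.Ext.mk₀_bijective _ _).1 hy).symm
  have hKA₁ : ∀ x : Abelian.Ext M.cycles M'.X₁ 1, x = 0 := by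
    intro x
    obtain ⟨y, hy⟩ := Abelian.Ext.contravariant_sequence_exact₁ e₁ M'.X₁ x
      (show 1 + 1 = 2 from rfl) (hCA₂.elim _ _)
    rw [← hy, hBA₁.elim y 0, Abelian.Ext.comp_zero]
  constructor
  · suffices key : ∀ φ : M ⟶ M', ShortComplex.homologyMap φ = 0 → φ = 0 from fun φ φ' h =>
      sub_eq_zero.1 (key _ (by rw [ShortComplex.homologyMap_sub]; exact sub_eq_zero.2 h))
    intro φ hφ
    have e₂ := hT₂ M' inferInstance
    have := e₂.mono_f
    have hc : ShortComplex.cyclesMap φ = 0 := by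
      have h0 : ShortComplex.cyclesMap φ ≫ M'.homologyπ = 0 := by
        rw [← ShortComplex.homologyπ_naturality, hφ, Limits.comp_zero]
      obtain ⟨l, hl⟩ : ∃ l : M.cycles ⟶ M'.X₁, l ≫ M'.toCycles = ShortComplex.cyclesMap φ :=
        ⟨e₂.exact.lift _ h0, e₂.exact.lift_f _ h0⟩
      rw [← hl, hKA₀ l, Limits.zero_comp]
    have h2 : φ.τ₂ = 0 := by
      have h0 : M.iCycles ≫ φ.τ₂ = 0 := by
        rw [← ShortComplex.cyclesMap_i, hc, Limits.zero_comp]
      have := e₁.epi_g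
      obtain ⟨l, hl⟩ : ∃ l : M.X₃ ⟶ M'.X₂, M.g ≫ l = φ.τ₂ :=
        ⟨e₁.exact.desc _ h0, e₁.exact.g_desc _ h0⟩
      rw [← hl, hCB l, Limits.comp_zero]
    ext
    · rw [← cancel_mono M'.f, φ.comm₁₂, h2]; simp
    · simpa using h2
    · rw [← cancel_epi M.g, ← φ.comm₂₃, h2]; simp
  · intro ψ
    have e₂ := hT₂ M' inferInstance
    obtain ⟨c, hc⟩ := Abelian.Ext.covariant_sequence_exact₃ M.cycles e₂
      (Abelian.Ext.mk₀ (M.homologyπ ≫ ψ)) (zero_add 1) (hKA₁ _)
    obtain ⟨c, rfl⟩ := (Abelian.Ext.mk₀_bijective _ _).2 c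
    rw [Abelian.Ext.mk₀_comp_mk₀] at hc
    have hc' : c ≫ M'.homologyπ = M.homologyπ ≫ ψ := (Abelian.Ext.mk₀_bijective _ _).1 hc
    obtain ⟨τ₂, hτ⟩ := Abelian.Ext.contravariant_sequence_exact₁ e₁ M'.X₂
      (Abelian.Ext.mk₀ (c ≫ M'.iCycles)) (add_zero 1) (hCB₁.elim _ _)
    obtain ⟨τ₂, rfl⟩ := (Abelian.Ext.mk₀_bijective _ _).2 τ₂
    rw [Abelian.Ext.mk₀_comp_mk₀] at hτ
    have hτ₂ : M.iCycles ≫ τ₂ = c ≫ M'.iCycles := (Abelian.Ext.mk₀_bijective _ _).1 hτ
    have h0 : (M.toCycles ≫ c) ≫ M'.homologyπ = 0 := by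
      rw [Category.assoc, hc', ShortComplex.toCycles_comp_homologyπ_assoc, Limits.zero_comp]
    have := e₂.mono_f
    obtain ⟨τ₁, hτ₁⟩ : ∃ l : M.X₁ ⟶ M'.X₁, l ≫ M'.toCycles = M.toCycles ≫ c :=
      ⟨e₂.exact.lift _ h0, e₂.exact.lift_f _ h0⟩
    have h3 : M.iCycles ≫ τ₂ ≫ M'.g = 0 := by
      rw [reassoc_of% hτ₂, M'.iCycles_g, Limits.comp_zero]
    have := e₁.epi_g
    obtain ⟨τ₃, hτ₃⟩ : ∃ l : M.X₃ ⟶ M'.X₃, M.g ≫ l = τ₂ ≫ M'.g :=
      ⟨e₁.exact.desc _ h3, e₁.exact.g_desc _ h3⟩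
    let φ : M ⟶ M' := ShortComplex.Hom.mk τ₁ τ₂ τ₃
      (by rw [← M'.toCycles_i, reassoc_of% hτ₁, ← hτ₂, ShortComplex.toCycles_i_assoc])
      hτ₃.symm
    have hφc : ShortComplex.cyclesMap φ = c := by
      rw [← cancel_mono M'.iCycles, ShortComplex.cyclesMap_i]; exact hτ₂
    refine ⟨φ, ?_⟩
    change ShortComplex.homologyMap φ = ψ
    rw [← cancel_epi M.homologyπ, ShortComplex.homologyπ_naturality, hφc, hc']

end Groth.Agent.S11497
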