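import Groth.Statements.S11499
import Mathlib.RingTheory.Localization.BaseChange
import Mathlib.RingTheory.Localization.FractionRing
import Mathlib.Tactic

set_option autoImplicit false
universe u
open TensorProduct
open VBPn

namespace Groth.Agent.S11499

/-- Let A be an integral domain with fraction field K and M a finitely generated torsion-free A-module
of rank r (K ⊗_A M is r-dimensional over K). Then there is an injective A-linear map M → A^r. The
published statement is for torsion-free coherent sheaves on a complex manifold, locally near a
point; this row is its statement for one stalk, over any domain. -/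
theorem result (A : Type u) [CommRing A] [IsDomain A]
    (M : Type u) [AddCommGroup M] [Module A M] [Module.Finite A M] [NoZeroSMulDivisors A M] (r : ℕ)
    (hr : Module.finrank (FractionRing A) (FractionRing A ⊗[A] M) = r) :
    ∃ f : M →ₗ[A] (Fin r → A), Function.Injective f := by
  classical
  let K := FractionRing A
  let ι : M →ₗ[A] K ⊗[A] M := TensorProduct.mk A K M 1
  have hloc : IsLocalizedModule (nonZeroDivisors A) ι :=
    (isLocalizedModule_iff_isBaseChange (nonZeroDivisors A) K ι).2 (TensorProduct.isBaseChange A M K)
  have hι : Function.Injective ι := by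
    rw [← LinearMap.ker_eq_bot, LinearMap.ker_eq_bot']
    intro m hm
    obtain ⟨c, hc⟩ := (IsLocalizedModule.eq_zero_iff (nonZeroDivisors A) ι).1 hm
    rcases smul_eq_zero.1 (show (c : A) • m = 0 from hc) with h | h
    · exact absurd h (nonZeroDivisors.coe_ne_zero c)
    · exact h
  have e : (K ⊗[A] M) ≃ₗ[K] (Fin r → K) := LinearEquiv.ofFinrankEq _ _ (by simp [K, hr])
  obtain ⟨s, hs⟩ := Module.Finite.fg_top (R := A) (M := M)
  obtain ⟨⟨d, hd⟩, hint⟩ := IsLocalization.exist_integer_multiples (nonZeroDivisors A)
    (s ×ˢ (Finset.univ : Finset (Fin r))) (fun p => e (ι p.1) p.2)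
  let g : M →ₗ[A] (Fin r → K) := d • ((e.toLinearMap.restrictScalars A).comp ι)
  let j : (Fin r → A) →ₗ[A] (Fin r → K) := (Algebra.linearMap A K).compLeft (Fin r)
  have hj : Function.Injective j := fun a b hab => by
    ext i
    exact IsFractionRing.injective A K (congrFun hab i)
  have hgs : ∀ m, g m ∈ LinearMap.range j := by
    suffices h : (⊤ : Submodule A M) ≤ (LinearMap.range j).comap g from fun m => h Submodule.mem_top
    rw [← hs, Submodule.span_le]
    intro m hm
    have hm' : ∀ i, ∃ a : A, algebraMap A K a = d • e (ι m) i :=
      fun i => hint (m, i) (by simp [Finset.mem_coe.1 hm])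
    choose a ha using hm'
    exact ⟨a, funext fun i => ha i⟩
  refine ⟨(LinearEquiv.ofInjective j hj).symm.toLinearMap.comp (g.codRestrict _ hgs), ?_⟩
  refine (LinearEquiv.ofInjective j hj).symm.injective.comp (fun a b hab => ?_)
  have h : g a = g b := congrArg Subtype.val hab
  refine hι (e.injective ?_)
  have hd0 : d ≠ 0 := nonZeroDivisors.ne_zero hd
  exact smul_right_injective (Fin r → K) hd0 h

end Groth.Agent.S11499
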