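import Groth.Statements.S11502
import Groth.Agent.VBPnSerre.Kernel

set_option autoImplicit false
set_option backward.isDefEq.respectTransparency false
set_option backward.isDefEq.respectTransparency.types false
set_option synthInstance.maxHeartbeats 400000
universe u
open VBPn

namespace Groth.Agent.S11502

section

open CategoryTheory CategoryTheory.Limits AlgebraicGeometry
open Groth.Agent.ProjTwist Groth.Agent.ProjTwist.Pn

theorem epi_desc_map {C : Type*} [Category C] [Abelian C] (F : C ⥤ C) [F.Additive] {A B J A' B' T : C}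
    (ψ : A ⊞ B ⟶ J) [Epi (F.map ψ)] (a : A' ≅ F.obj A) (b : B' ≅ F.obj B) (h : F.obj J ≅ T) :
    Epi (biprod.desc (a.hom ≫ F.map (biprod.inl ≫ ψ) ≫ h.hom) (b.hom ≫ F.map (biprod.inr ≫ ψ) ≫ h.hom)) := by
  refine Preadditive.epi_of_cancel_zero _ fun {Z} q hq => ?_
  have h1 := congrArg (fun t => biprod.inl ≫ t) hq
  have h2 := congrArg (fun t => biprod.inr ≫ t) hq
  simp only [biprod.inl_desc_assoc, biprod.inr_desc_assoc, comp_zero, Category.assoc] at h1 h2
  have h3 : F.map biprod.inl ≫ F.map ψ ≫ h.hom ≫ q = 0 := by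
    rw [← Functor.map_comp_assoc]; exact (cancel_epi a.hom).mp (h1.trans comp_zero.symm)
  have h4 : F.map biprod.inr ≫ F.map ψ ≫ h.hom ≫ q = 0 := by
    rw [← Functor.map_comp_assoc]; exact (cancel_epi b.hom).mp (h2.trans comp_zero.symm)
  have h5 : F.map ψ ≫ h.hom ≫ q = 0 := by
    calc F.map ψ ≫ h.hom ≫ q = F.map (biprod.fst ≫ biprod.inl + biprod.snd ≫ biprod.inr) ≫ F.map ψ ≫ h.hom ≫ q := by
          rw [biprod.total, F.map_id, Category.id_comp]
      _ = 0 := by rw [F.map_add, Preadditive.add_comp, F.map_comp, F.map_comp, Category.assoc, Category.assoc, h3, h4, comp_zero, comp_zero, add_zero]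
  exact (cancel_epi h.hom).mp (((cancel_epi (F.map ψ)).mp (h5.trans comp_zero.symm)).trans comp_zero.symm)

theorem epi_three {C : Type*} [Category C] [Abelian C] {S : ShortComplex C} (hS : S.ShortExact) {A B O : C}
    (v : A ⊞ B ⟶ S.X₃) [Epi v] (wA : A ⟶ S.X₂) (wB : B ⟶ S.X₂) (hA : wA ≫ S.g = biprod.inl ≫ v)
    (hB : wB ≫ S.g = biprod.inr ≫ v) (h1 : O ≅ S.X₁) :
    Epi (biprod.desc wA (biprod.desc wB (h1.hom ≫ S.f))) := by
  haveI : Epi S.g := hS.epi_g
  refine Preadditive.epi_of_cancel_zero _ fun {Z} q hq => ?_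
  have ha : wA ≫ q = 0 := by simpa using congrArg (fun t => biprod.inl ≫ t) hq
  have hb : wB ≫ q = 0 := by simpa using congrArg (fun t => biprod.inl ≫ biprod.inr ≫ t) hq
  have hc : (h1.hom ≫ S.f) ≫ q = 0 := by simpa using congrArg (fun t => biprod.inr ≫ biprod.inr ≫ t) hq
  obtain ⟨q', hq'⟩ := CokernelCofork.IsColimit.desc' hS.gIsCokernel q
    ((cancel_epi h1.hom).mp (by rw [comp_zero, ← Category.assoc]; exact hc))
  have hq'' : S.g ≫ q' = q := hq'
  have hz : v ≫ q' = 0 := biprod.hom_ext' _ _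
    (by rw [← Category.assoc, ← hA, Category.assoc, hq'', ha, comp_zero])
    (by rw [← Category.assoc, ← hB, Category.assoc, hq'', hb, comp_zero])
  rw [← hq'', (cancel_epi v).mp (hz.trans comp_zero.symm), comp_zero]

variable {k : Type u} [Field k] {n : ℕ}

theorem epi_twFun {A B : (CohB1.ProjSpace n k).Modules} (f : A ⟶ B) [Epi f] (d : ℤ) :
    Epi ((twFun n k d).map f) :=
  (shortExact_tw (S := ShortComplex.mk (kernel.ι f) f (kernel.condition f))
    (ShortComplex.ShortExact.mk (mono_f := inferInstanceAs (Mono (kernel.ι f))) (epi_g := ‹_›)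
      (ShortComplex.exact_of_f_is_kernel _ (kernelIsKernel f))) d).epi_g

theorem components {A B J A' B' T : (CohB1.ProjSpace n k).Modules} (ψ : A ⊞ B ⟶ J) [Epi ψ] (c : ℤ)
    (h : twF J c ≅ T) (a : A' ≅ twF A c) (b : B' ≅ twF B c) :
    ∃ (gA : A' ⟶ T) (gB : B' ⟶ T), Epi (biprod.desc gA gB) := by
  haveI := epi_twFun ψ c
  exact ⟨_, _, epi_desc_map (twFun n k c) ψ a b h⟩

theorem untwist (J : (CohB1.ProjSpace n k).Modules) (c : ℤ) :
    Nonempty (twF (twF J c) (-c) ≅ J) :=
  ⟨twTw J c (-c) 0 (add_neg_cancel c) ≪≫ twZero J⟩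

theorem twist_twist (a d e : ℤ) (h : a + d = e) :
    Nonempty (twF (Twist.twistProjSpace n k a) d ≅ Twist.twistProjSpace n k e) := by
  subst h
  exact nonempty_twistProjSpace_tensor n k a d

end

open CategoryTheory CategoryTheory.Limits AlgebraicGeometry in
/-- Let k be an algebraically closed field of characteristic zero, n ≥ 3, i : Y → P^n_k a closed
immersion which is a local complete intersection of codimension 2 (regular immersion of codimension
2) with ideal sheaf J_Y, and E a rank-2 vector bundle belonging to Y, that is a finite locally free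
O-module of rank 2 with a short exact sequence 0 → O → E → J_Y ⊗ O(c) → 0 for some integer c. Then E
splits as O(a') ⊕ O(b') for some integers a', b' if and only if Y is a global complete intersection:
J_Y is an epimorphic image of O(−a) ⊕ O(−b) for some integers a, b (Y is cut out
scheme-theoretically by two hypersurfaces). -/
theorem result (k : Type u) [Field k] [IsAlgClosed k] [CharZero k]
    (n : ℕ) (hn : 3 ≤ n) {Y : Scheme.{u}} (i : Y ⟶ CohB1.ProjSpace n k) [IsClosedImmersion i]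
    (hlci : RegImm.IsRegularImmersionOfCodim RegImm.Kind.regular 2 i) (c : ℤ)
    (S : ShortComplex (CohB1.ProjSpace n k).Modules) (hS : S.ShortExact) (hE : FlatMod.IsFinLocFreeOfRank 2 S.X₂)
    (h₁ : Nonempty (S.X₁ ≅ Coh.structureModule (CohB1.ProjSpace n k)))
    (h₃ : Nonempty (S.X₃ ≅ CohB1.tensorMod (ClSub.idealMod i.ker) (Twist.twistProjSpace n k c))) :
    (∃ a' b' : ℤ, Nonempty (S.X₂ ≅ Twist.twistProjSpace n k a' ⊞ Twist.twistProjSpace n k b')) ↔
      ∃ (a b : ℤ) (ψ : Twist.twistProjSpace n k (-a) ⊞ Twist.twistProjSpace n k (-b) ⟶ ClSub.idealMod i.ker),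
        Epi ψ := by
  obtain ⟨e₁⟩ := h₁
  obtain ⟨e₃⟩ := h₃
  constructor
  · rintro ⟨a', b', ⟨eE⟩⟩
    haveI : Epi S.g := hS.epi_g
    haveI : Epi (eE.inv ≫ S.g ≫ e₃.hom) := inferInstance
    obtain ⟨a, ha⟩ : ∃ a : ℤ, a' + -c = -a := ⟨c - a', by ring⟩
    obtain ⟨b, hb⟩ : ∃ b : ℤ, b' + -c = -b := ⟨c - b', by ring⟩
    obtain ⟨ia⟩ := twist_twist (n := n) (k := k) a' (-c) (-a) ha
    obtain ⟨ib⟩ := twist_twist (n := n) (k := k) b' (-c) (-b) hb
    haveI := epi_twFun (eE.inv ≫ S.g ≫ e₃.hom) (-c)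
    obtain ⟨eJ⟩ := untwist (n := n) (k := k) (ClSub.idealMod i.ker) c
    exact ⟨a, b, _, epi_desc_map (Groth.Agent.ProjTwist.Pn.twFun n k (-c)) (eE.inv ≫ S.g ≫ e₃.hom) ia.symm ib.symm eJ⟩
  · rintro ⟨a, b, ψ, hψ⟩
    obtain ⟨ia⟩ := twist_twist (n := n) (k := k) (-a) c (c - a) (by ring)
    obtain ⟨ib⟩ := twist_twist (n := n) (k := k) (-b) c (c - b) (by ring)
    haveI := hψ
    obtain ⟨gA, gB, hv⟩ := components (n := n) (k := k) ψ c e₃.symm ia.symm ib.symm
    haveI := hv
    obtain ⟨wA, hA⟩ := Groth.Agent.VBPnSerre.exists_lift_twist (n := n) (by omega) hS e₁ (c - a) gA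
    obtain ⟨wB, hB⟩ := Groth.Agent.VBPnSerre.exists_lift_twist (n := n) (by omega) hS e₁ (c - b) gB
    obtain ⟨o⟩ : Nonempty (Twist.twistProjSpace n k 0 ≅ S.X₁) :=
      ⟨(Groth.Agent.ProjTwist.twistZeroIso (CohB1.polyGrading n k)).symm ≪≫ e₁.symm⟩
    haveI : Epi (biprod.desc wA (biprod.desc wB (o.hom ≫ S.f))) := epi_three hS (biprod.desc gA gB) wA wB (hA.trans (biprod.inl_desc _ _).symm) (hB.trans (biprod.inr_desc _ _).symm) o
    exact Groth.Agent.VBPnSerre.split_of_three hn (c - a) (c - b) 0 hE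
      (biprod.desc wA (biprod.desc wB (o.hom ≫ S.f)))

end Groth.Agent.S11502
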