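import Groth.Statements.S11503
import Groth.Agent.VBStable.SerreStab
import Groth.Agent.LFFrame.Basic

set_option autoImplicit false
universe u
open VBPn

namespace Groth.Agent.S11503

open CategoryTheory CategoryTheory.Limits AlgebraicGeometry in
/-- Let k be a characteristic-zero algebraically closed field and E a finite locally free O-module of
rank r > 1 on P^n_k. If E has a nonzero section (a nonzero morphism O → E) and its dual has a
nonzero section (a nonzero morphism E → O), then E is not simple: there is an endomorphism of E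
which is not a homothety, i.e. whose underlying map of abelian sheaves is not multiplication by any
scalar c ∈ k. -/
theorem result (k : Type u) [Field k] [IsAlgClosed k] [CharZero k]
    (n r : ℕ) (hr : 1 < r) (E : (CohB1.ProjSpace n k).Modules) (hE : FlatMod.IsFinLocFreeOfRank r E)
    (s : Coh.structureModule (CohB1.ProjSpace n k) ⟶ E) (hs : s ≠ 0)
    (t : E ⟶ Coh.structureModule (CohB1.ProjSpace n k)) (ht : t ≠ 0) :
    ∃ φ : E ⟶ E, ∀ c : k, (SheafOfModules.toSheaf (CohB1.ProjSpace n k).ringCatSheaf).map φ ≠
      Coh.smulAb E (Coh.toGlobal (CohB1.ProjSpace.toSpec n k) c) := by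
  letI : (CohB1.ProjSpace n k).Over (Spec (CommRingCat.of k)) := ⟨CohB1.ProjSpace.toSpec n k⟩
  haveI := VBStable.isIntegral_projSpace k n
  let η := genericPoint (CohB1.ProjSpace n k)
  let O := Coh.structureModule (CohB1.ProjSpace n k)
  have hO : PicF.IsInvertible O := LFFrame.isInvertible_structureModule _
  let v := FFCurve.triv hO
  obtain ⟨U, e, hx, he⟩ := CohDev.exists_frame hE η
  let b := Module.Basis.ofEquivFun (LinearEquiv.ofBijective _ (he.stalkComb_bijective η hx)).symm
  haveI := Module.Free.of_basis b
  have hs' : Mono s := by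
    obtain ⟨w, hw⟩ : ∃ w, RefHull.stalkMapₗ s η w ≠ 0 := by
      by_contra hc
      push Not at hc
      refine hs (Ref1.hom_ext_η ?_ (LinearMap.ext fun w => (hc w).trans (Omega.Stalks.stalkLin_zero η w).symm))
      intro x
      haveI := (VBLib.isCoh_of_isFinLocFree (fun x => let ⟨U, hx, h⟩ := hE x; ⟨U, r, hx, h⟩ : FlatMod.IsFinLocFree E)).1
      obtain ⟨U, e, hx, he⟩ := CohDev.exists_frame hE x
      haveI := Module.Free.of_basis
        (Module.Basis.ofEquivFun (LinearEquiv.ofBijective _ (he.stalkComb_bijective x hx)).symm)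
      exact Ref1.toη_injective E x inferInstance
    refine Omega.Stalks.mono_of_stalk fun x => (injective_iff_map_eq_zero _).mpr fun z hz => ?_
    apply FFCurve.toη_injective_of_invertible hO x
    rw [map_zero]
    have e1 : v w • Ref1.toη O x z = v (Ref1.toη O x z) • w :=
      v.injective (by rw [map_smul, map_smul, smul_eq_mul, smul_eq_mul, mul_comm])
    have h1 : RefHull.stalkMapₗ s η (Ref1.toη O x z) = 0 :=
      (Ref1.sp_stalkMap s (Ref1.hsp x) z).symm.trans ((congrArg _ hz).trans (map_zero _))
    have e2 := congrArg (RefHull.stalkMapₗ s η) e1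
    rw [map_smul, map_smul, h1, smul_zero] at e2
    have h2 : v (Ref1.toη O x z) = 0 := by
      by_contra h3
      exact hw ((Ref1.isUnit_of_ne_zero h3).smul_eq_zero.mp e2.symm)
    exact v.injective (h2.trans (map_zero v).symm)
  refine ⟨t ≫ s, fun c hc => ?_⟩
  have e : t ≫ s = Formal.smulMod k E c :=
    (SheafOfModules.toSheaf (CohB1.ProjSpace n k).ringCatSheaf).map_injective (hc.trans rfl)
  rw [← KLin.smul_id E c] at e
  by_cases hc0 : c = 0
  · rw [hc0, zero_smul] at e
    exact ht ((cancel_mono s).mp (e.trans zero_comp.symm))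
  have e3 : (c⁻¹ • t) ≫ s = 𝟙 E := by
    rw [Linear.smul_comp, e, smul_smul, inv_mul_cancel₀ hc0, one_smul]
  have hinj : Function.Injective (v.toLinearMap.comp (RefHull.stalkMapₗ (c⁻¹ • t) η)) := fun x y h => by
    have h2 := congrArg (RefHull.stalkMapₗ s η) (v.injective h)
    have h3 : ∀ z, RefHull.stalkMapₗ s η (RefHull.stalkMapₗ (c⁻¹ • t) η z) = z := fun z =>
      (Omega.Stalks.stalkLin_comp (c⁻¹ • t) s η z).symm.trans (by rw [e3]; exact CohDev.stalkLin_id_apply η z)
    exact (h3 x).symm.trans (h2.trans (h3 y))
  haveI : Module.Finite ((CohB1.ProjSpace n k).presheaf.stalk η) (E.presheaf.stalk η) := Module.Finite.of_basis b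
  have := LinearMap.finrank_le_finrank_of_injective hinj
  rw [Module.finrank_eq_card_basis b, Module.finrank_self, Fintype.card_fin] at this
  omega

end Groth.Agent.S11503
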