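import Groth.Statements.S11506
import Groth.Agent.VBStable.Main
import Groth.Agent.VBStable.Wedge

set_option autoImplicit false
universe u
open VBPn

namespace Groth.Agent.S11506

open CategoryTheory CategoryTheory.Limits AlgebraicGeometry in
/-- Let k be a characteristic-zero algebraically closed field and E a finite locally free O-module of
rank 2 on P^n_k with a second exterior power isomorphic to O(c), and let k₀ satisfy c + 2k₀ = 0 or c
+ 2k₀ = −1. If every endomorphism of E is a homothety (its underlying map of abelian sheaves is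
multiplication by a scalar in k), then H^0(P^n_k, E ⊗ O(k₀)) = 0. The published statement concludes
stability; this row concludes the vanishing of H^0 of the normalised twist, which for rank 2 is
stability. -/
theorem result (k : Type u) [Field k] [IsAlgClosed k] [CharZero k]
    (n : ℕ) (E : (CohB1.ProjSpace n k).Modules) (hE : FlatMod.IsFinLocFreeOfRank 2 E) (c k₀ : ℤ)
    (hdet : ∃ L : (CohB1.ProjSpace n k).Modules, ExtPow.IsExtPow 2 E L ∧ Nonempty (L ≅ Twist.twistProjSpace n k c))
    (hk₀ : c + 2 * k₀ = 0 ∨ c + 2 * k₀ = -1)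
    (hsimple : ∀ φ : E ⟶ E, ∃ c' : k, (SheafOfModules.toSheaf (CohB1.ProjSpace n k).ringCatSheaf).map φ =
      Coh.smulAb E (Coh.toGlobal (CohB1.ProjSpace.toSpec n k) c')) :
    Subsingleton (Coh.HH (CohB1.ProjSpace n k) (CohB1.tensorMod E (Twist.twistProjSpace n k k₀)) 0) := by
  letI : (CohB1.ProjSpace n k).Over (Spec (CommRingCat.of k)) := ⟨CohB1.ProjSpace.toSpec n k⟩
  haveI := VBStable.isIntegral_projSpace k n
  haveI := SerrePn.isLocallyNoetherian (n := n) (R := k)
  haveI := (VBStable.isCoh_of_rank hE).1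
  have hEη : ∀ x, Function.Injective (Ref1.toη E x) := fun x =>
    Ref1.toη_injective E x (VBStable.isTorsionFree_stalk hE x)
  obtain ⟨L, hL, ⟨eL⟩⟩ := hdet
  let O : ℤ → (CohB1.ProjSpace n k).Modules := Twist.twistProjSpace n k
  have hO : ∀ m, PicF.IsInvertible (O m) := fun m => ProjTwist.isInvertible_twistProjSpace n k m
  suffices H : ∀ s : O (-k₀) ⟶ E, s = 0 by
    let e₁ : Coh.structureModule (CohB1.ProjSpace n k) ≅
        (SerrePn.twL n k k₀).obj (O (-k₀)) :=
      ((ProjTwist.nonempty_twistProjSpace_tensor n k k₀ (-k₀)).some ≪≫ eqToIso (by rw [add_neg_cancel]; rfl) ≪≫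
        (ProjTwist.twistZeroIso (CohB1.polyGrading n k)).symm).symm
    let e₂ : (SerrePn.twL n k k₀).obj E ≅ CohB1.tensorMod E (Twist.twistProjSpace n k k₀) :=
      ProjTwist.tensComm (Twist.twistProjSpace n k k₀) E
    refine @Equiv.subsingleton _ Γ(CohB1.tensorMod E (O k₀), ⊤) (ProperFin.h0Sec _).toEquiv
      (subsingleton_of_forall_eq 0 fun σ => ?_)
    obtain ⟨s, hs⟩ := (SerrePn.twEquiv (n := n) (R := k) k₀).functor.map_surjective
      (X := O (-k₀)) (Y := E) (e₁.inv ≫ Props.GenLocus.homOfSec σ ≫ e₂.inv)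
    rw [H s, Functor.map_zero] at hs
    have h0 : Props.GenLocus.homOfSec σ = 0 := by
      rw [← cancel_epi e₁.inv, ← cancel_mono e₂.inv, Category.assoc]
      exact hs.symm.trans (((congrArg (· ≫ e₂.inv) (comp_zero (f := e₁.inv))).trans zero_comp).symm)
    have h1 := Props.GenLocus.sec_homOfSec σ ⊤
    rw [h0] at h1
    exact (h1.trans (QCoh.res_self _ _ σ)).symm
  intro s
  by_contra hs
  obtain ⟨q, hq, hsq⟩ := VBStable.exists_wedge_hom (F := O (c + k₀)) hE hL (hO (-k₀))
    (fun x => FFCurve.toη_injective_of_invertible (hO _) x)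
    ((ProjTwist.nonempty_twistProjSpace_tensor n k (c + k₀) (-k₀)).some ≪≫
      eqToIso (by rw [add_neg_cancel_right]) ≪≫ eL.symm) s hs hEη
  let d := (-(c + 2 * k₀)).toNat
  have hd : (d : ℤ) + (c + k₀) = -k₀ := by
    simp only [d, Int.toNat_of_nonneg (by omega : 0 ≤ -(c + 2 * k₀))]
    ring
  have hp : (MvPolynomial.X 0 : MvPolynomial (Fin (n + 1)) k) ^ d ∈ CohB1.polyGrading n k d :=
    (MvPolynomial.mem_homogeneousSubmodule _ _).mpr
      (by simpa using (MvPolynomial.isHomogeneous_X k (0 : Fin (n + 1))).pow d)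
  let μ : O (c + k₀) ⟶ O (-k₀) := SerrePn.mulHom (c + k₀) (-k₀) hp hd
  have hμ : μ ≠ 0 := fun h => by
    have e := SerrePn.mult_mulHom hp hd
    rw [show SerrePn.mulHom (c + k₀) (-k₀) hp hd = 0 from h, VBStable.mult_zero] at e
    exact pow_ne_zero d (MvPolynomial.X_ne_zero (0 : Fin (n + 1)))
      (ProjTwist.Pn.toLau_injective (e.symm.trans (map_zero _).symm))
  let ψ : E ⟶ E := q ≫ μ ≫ s
  have hμs : μ ≫ s ≠ 0 := fun h =>
    hs (VBStable.eq_zero_of_comp_eq_zero (hO _) (hO _) hEη μ hμ s h (VBStable.isTorsionFree_stalk hE _))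
  have hψ : ψ ≠ 0 := by
    intro h
    obtain ⟨v, hv⟩ : ∃ v, RefHull.stalkMapₗ q (genericPoint _) v ≠ 0 := by
      by_contra hc
      push Not at hc
      exact hq (Ref1.hom_ext_η (fun x => FFCurve.toη_injective_of_invertible (hO _) x)
        (LinearMap.ext fun w => (hc w).trans (Omega.Stalks.stalkLin_zero _ w).symm))
    refine hμs (Ref1.hom_ext_η hEη (LinearMap.ext fun w => ?_))
    refine Eq.trans ?_ (Omega.Stalks.stalkLin_zero _ w).symm
    let t := FFCurve.triv (hO (c + k₀))
    have e : t (RefHull.stalkMapₗ q _ v) • w = t w • RefHull.stalkMapₗ q _ v :=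
      t.injective (by rw [map_smul, map_smul, smul_eq_mul, smul_eq_mul, mul_comm])
    have e2 := congrArg (RefHull.stalkMapₗ (μ ≫ s) (genericPoint _)) e
    rw [map_smul, map_smul] at e2
    have h0 : RefHull.stalkMapₗ (μ ≫ s) _ (RefHull.stalkMapₗ q (genericPoint _) v) = 0 := by
      refine (Omega.Stalks.stalkLin_comp q (μ ≫ s) _ v).symm.trans ?_
      rw [show q ≫ μ ≫ s = 0 from h]
      exact Omega.Stalks.stalkLin_zero _ v
    rw [h0, smul_zero] at e2
    haveI := VBStable.isTorsionFree_stalk hE (genericPoint (CohB1.ProjSpace n k))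
    exact (smul_eq_zero.mp e2).resolve_left fun ht => hv (t.injective (ht.trans (map_zero t).symm))
  have hψψ : ψ ≫ ψ = 0 := by
    simp [ψ, reassoc_of% hsq]
  obtain ⟨c', hc'⟩ := hsimple ψ
  have e : ψ = c' • 𝟙 E :=
    ((SheafOfModules.toSheaf (CohB1.ProjSpace n k).ringCatSheaf).map_injective (hc'.trans rfl)).trans
      (KLin.smul_id E c').symm
  have h2 : c' • ψ = 0 := by
    refine Eq.trans ?_ hψψ
    rw [e]
    simp
  rcases smul_eq_zero.mp h2 with h | h
  · exact hψ (by rw [e, h, zero_smul])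
  · exact hψ h

end Groth.Agent.S11506
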