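import Groth.Statements.S11519
import Groth.Agent.EulerSeq.Twist1
import Groth.Agent.VBStable.SerreStab
import Groth.Agent.CohDev.Tensor
-- import your own Groth.Agent.* helpers here

set_option autoImplicit false
universe u
open VBPn

namespace Groth.Agent.S11519

open CategoryTheory CategoryTheory.Limits AlgebraicGeometry in
/-- Let k be an algebraically closed field of characteristic zero and a, a' : O(−1) → Ω^1 ⊗ O(1) two
bundle monomorphisms of O-modules on P^3_k, i.e. monomorphisms whose cokernels E, E' are finite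
locally free of rank 2 (null-correlation bundles up to duality). Then E ≅ E' if and only if a' = c·a
for a nonzero constant c ∈ k: the underlying map of abelian sheaves of a' equals that of a followed
by multiplication by c on Ω^1 ⊗ O(1). -/
theorem result (k : Type u) [Field k] [IsAlgClosed k] [CharZero k]
    (a a' : Twist.twistProjSpace 3 k (-1) ⟶
      CohB1.tensorMod (Omega.sheaf (CohB1.ProjSpace.toSpec 3 k)) (Twist.twistProjSpace 3 k 1))
    [Mono a] [Mono a'] (hE : FlatMod.IsFinLocFreeOfRank 2 (cokernel a)) (hE' : FlatMod.IsFinLocFreeOfRank 2 (cokernel a')) :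
    Nonempty (cokernel a ≅ cokernel a') ↔
      ∃ c : k, c ≠ 0 ∧ (SheafOfModules.toSheaf (CohB1.ProjSpace 3 k).ringCatSheaf).map a' =
        (SheafOfModules.toSheaf (CohB1.ProjSpace 3 k).ringCatSheaf).map a ≫
          Coh.smulAb (CohB1.tensorMod (Omega.sheaf (CohB1.ProjSpace.toSpec 3 k)) (Twist.twistProjSpace 3 k 1))
            (Coh.toGlobal (CohB1.ProjSpace.toSpec 3 k) c) := by
  letI : (CohB1.ProjSpace 3 k).Over (Spec (CommRingCat.of k)) := ⟨CohB1.ProjSpace.toSpec 3 k⟩
  have hne : ∀ (b : Twist.twistProjSpace 3 k (-1) ⟶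
      CohB1.tensorMod (Omega.sheaf (CohB1.ProjSpace.toSpec 3 k)) (Twist.twistProjSpace 3 k 1)),
      FlatMod.IsFinLocFreeOfRank 2 (cokernel b) → ¬ IsZero (cokernel b) := fun b hb hz => by
    obtain ⟨y⟩ : Nonempty (CohB1.ProjSpace 3 k) := by
      haveI := VBStable.isIntegral_projSpace k 3
      infer_instance
    obtain ⟨U, e, hx, he⟩ := CohDev.exists_frame hb y
    have hz2 : ∀ v, v = (0 : (cokernel b).presheaf.stalk y) := fun v =>
      (CohDev.stalkLin_id_apply y v).symm.trans
        ((congrArg (fun ψ => Groth.Agent.PullStalk.Exact.stalkLin ψ y v) ((IsZero.iff_id_eq_zero _).mp hz)).trans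
          (Omega.Stalks.stalkLin_zero y v))
    have h3 := congrFun ((he.stalkComb_bijective y hx).1 (a₁ := 1) (a₂ := 0) ((hz2 _).trans (hz2 _).symm)) 0
    exact one_ne_zero h3
  constructor
  · rintro ⟨e⟩
    obtain ⟨c, hc⟩ := EulerSeq.exists_lift_cokernel_hom a a' e.hom
    obtain ⟨d, hd⟩ := EulerSeq.exists_lift_cokernel_hom a' a e.inv
    have hc0 : c ≠ 0 := fun h => hne a' hE' <| by
      rw [h, zero_smul] at hc
      rw [IsZero.iff_id_eq_zero, ← e.inv_hom_id]
      have h0 : e.hom = 0 := (cancel_epi (cokernel.π a)).mp (hc.trans comp_zero.symm)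
      rw [h0, comp_zero]
    have h1 : c • (a ≫ cokernel.π a') = 0 := by
      rw [← Linear.comp_smul, ← hc, ← Category.assoc, cokernel.condition, zero_comp]
    have h2 : a ≫ cokernel.π a' = 0 := by rw [← one_smul k (a ≫ _), ← inv_mul_cancel₀ hc0, mul_smul, h1, smul_zero]
    obtain ⟨g, hg⟩ : ∃ g, g ≫ a' = a :=
      ⟨_, Abelian.monoLift_comp a' a h2⟩
    obtain ⟨r, rfl⟩ := EulerSeq.exists_smul_id g
    rw [Linear.smul_comp, Category.id_comp] at hg
    have hr0 : r ≠ 0 := fun h => by
      rw [h, zero_smul] at hg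
      have h1 : (𝟙 (Twist.twistProjSpace 3 k (-1))) = 0 := by
        rw [← cancel_mono a, zero_comp, Category.id_comp, ← hg]
      have h3 := congrFun (EulerSeq.coeff_eq_zero (c := (1 : Fin 4 → k)) (Finset.sum_eq_zero fun l _ => by
        rw [← Category.id_comp (EulerSeq.mulVar 3 k l), h1, zero_comp, smul_zero])) 0
      exact one_ne_zero h3
    refine ⟨r⁻¹, inv_ne_zero hr0, ?_⟩
    have e2 : a' = a ≫ (r⁻¹ • 𝟙 _) := by
      rw [Linear.comp_smul, Category.comp_id, ← hg, smul_smul, inv_mul_cancel₀ hr0, one_smul]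
    rw [KLin.smul_id] at e2
    exact ((congrArg (fun f => (SheafOfModules.toSheaf (CohB1.ProjSpace 3 k).ringCatSheaf).map f) e2).trans
      ((SheafOfModules.toSheaf (CohB1.ProjSpace 3 k).ringCatSheaf).map_comp a _)).trans rfl
  · rintro ⟨c, hc0, hc⟩
    have e : a' = c • a := by
      rw [← Category.comp_id a, ← Linear.comp_smul, KLin.smul_id]
      exact (SheafOfModules.toSheaf (CohB1.ProjSpace 3 k).ringCatSheaf).map_injective
        (hc.trans ((SheafOfModules.toSheaf (CohB1.ProjSpace 3 k).ringCatSheaf).map_comp a (Formal.smulMod k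
          (CohB1.tensorMod (Omega.sheaf (CohB1.ProjSpace.toSpec 3 k)) (Twist.twistProjSpace 3 k 1)) c)).symm)
    subst e
    exact ⟨{ hom := cokernel.desc a (cokernel.π (c • a)) (by
              have h := cokernel.condition (c • a)
              rw [Linear.smul_comp] at h
              rw [← one_smul k (a ≫ _), ← inv_mul_cancel₀ hc0, mul_smul, h, smul_zero])
             inv := cokernel.desc (c • a) (cokernel.π a) (by rw [Linear.smul_comp, cokernel.condition, smul_zero])
             hom_inv_id := by rw [← cancel_epi (cokernel.π a)]; simp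
             inv_hom_id := by rw [← cancel_epi (cokernel.π (c • a))]; simp }⟩

end Groth.Agent.S11519
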