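import Groth.Statements.S11523
import Mathlib
-- import your own Groth.Agent.* helpers here

set_option autoImplicit false
universe v u v' u'
open CategoryTheory CategoryTheory.Limits
open PervT

namespace Groth.Agent.S11523

open CategoryTheory

/-- Let `u : A ⥤ B` be a fully faithful exact functor of abelian categories admitting a left adjoint and
a right adjoint `uStar`. Suppose every object of `A` has finite length (it is both an artinian and a
noetherian object) and that `u` sends simple objects to simple objects. Then for every object `Y` of
`B` the counit `u (uStar Y) ⟶ Y` of the adjunction `u ⊣ uStar` is a monomorphism. (The published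
statement also lists two further conditions equivalent to this one: that for every object `Y` of `B`
the unit `Y ⟶ u (L Y)` of the adjunction `L ⊣ u` of the left adjoint `L` is an epimorphism, and that
the essential image of `u` is stable under subobjects and quotients; this row states only the counit
condition.) -/
theorem result {A : Type u} [Category.{v} A] [Abelian A] {B : Type u'} [Category.{v'} B] [Abelian B]
    (u : A ⥤ B) [u.Full] [u.Faithful] [PreservesFiniteLimits u] [PreservesFiniteColimits u] [u.IsRightAdjoint]
    (uStar : B ⥤ A) (adj : u ⊣ uStar)
    (hlen : ∀ X : A, IsArtinianObject X ∧ IsNoetherianObject X)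
    (hsimple : ∀ X : A, Simple X → Simple (u.obj X)) (Y : B) :
    Mono (adj.counit.app Y) := by
  have key : ∀ (X : A) (N : Subobject X) (Q : A) (p : X ⟶ Q), Epi p → kernelSubobject p = N →
      ∀ (T : B) (k : T ⟶ u.obj Q), Mono k → ¬ IsZero T →
      ∃ (S : A) (s : u.obj S ⟶ T), Mono s ∧ Simple S := by
    intro X
    have : IsNoetherianObject X := (hlen X).2
    intro N
    induction N using (wellFounded_gt (α := Subobject X)).induction with
    | h N ih =>
      intro Q p _ hp T k _ hT
      have : IsArtinianObject Q := (hlen Q).1
      have hQ : ¬ IsZero Q := fun h => hT (IsZero.of_mono k (u.map_isZero h))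
      obtain ⟨S, hS⟩ := exists_simple_subobject hQ
      have : Simple (u.obj (S : A)) := hsimple _ hS
      let P := pullback k (u.map S.arrow)
      by_cases hz : pullback.snd k (u.map S.arrow) = 0
      · let π := cokernel.π S.arrow
        have hu : IsLimit (KernelFork.ofι (u.map S.arrow) (f := u.map π)
            (by rw [← u.map_comp, cokernel.condition, u.map_zero])) :=
          KernelFork.mapIsLimit _ (Abelian.monoIsKernelOfCokernel _ (cokernelIsCokernel S.arrow)) u
        have hkm : Mono (k ≫ u.map π) := by
          rw [Preadditive.mono_iff_cancel_zero]
          intro Z z hzz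
          obtain ⟨l, hl⟩ := KernelFork.IsLimit.lift' hu (z ≫ k) (by rw [Category.assoc, hzz])
          let m : Z ⟶ P := pullback.lift z l hl.symm
          have h1 : l = 0 := by
            have : m ≫ pullback.snd k (u.map S.arrow) = l := pullback.lift_snd _ _ _
            rw [← this, hz, comp_zero]
          rw [← cancel_mono k, zero_comp, ← hl, h1]
          simp
        have hlt : N < kernelSubobject (p ≫ π) := by
          refine lt_of_le_of_ne (hp ▸ kernelSubobject_comp_le p π) fun he => ?_
          have h0 : S.arrow = 0 := by
            obtain ⟨W, a, e, hw⟩ : ∃ (W : A) (a : W ⟶ X) (e : W ⟶ (S : A)),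
                Epi e ∧ a ≫ p = e ≫ S.arrow :=
              ⟨pullback p S.arrow, pullback.fst _ _, pullback.snd _ _, inferInstance, pullback.condition⟩
            have h1 : a ≫ p ≫ π = 0 := by
              rw [reassoc_of% hw.2, cokernel.condition, comp_zero]
            have h2 : Subobject.Factors (kernelSubobject (p ≫ π)) a := kernelSubobject_factors _ _ h1
            rw [← he, ← hp] at h2
            have h3 : a ≫ p = 0 := by
              rw [← Subobject.factorThru_arrow _ _ h2, Category.assoc, kernelSubobject_arrow_comp,
                comp_zero]
            have := hw.1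
            rw [← cancel_epi e, comp_zero, ← hw.2, h3]
          exact Simple.not_isZero (S : A) (IsZero.of_mono_eq_zero S.arrow h0)
        exact ih _ hlt _ (p ≫ π) (epi_comp _ _) rfl T (k ≫ u.map π) hkm hT
      · have : IsIso (pullback.snd k (u.map S.arrow)) := isIso_of_mono_of_nonzero hz
        exact ⟨S, inv (pullback.snd k (u.map S.arrow)) ≫ pullback.fst _ _, mono_comp _ _, hS⟩
  rw [Preadditive.mono_iff_isZero_kernel]
  by_contra hK
  obtain ⟨S, s, hs, hS⟩ := key (uStar.obj Y) _ _ (𝟙 _) inferInstance rfl _
    (kernel.ι (adj.counit.app Y)) inferInstance hK
  let φ : S ⟶ uStar.obj Y := u.preimage (s ≫ kernel.ι _)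
  have hφ : φ = 0 := by
    have h0 : u.map φ ≫ adj.counit.app Y = 0 := by
      simp [φ, kernel.condition]
    apply (adj.homEquiv S Y).symm.injective
    rw [adj.homEquiv_counit, adj.homEquiv_counit, h0]
    simp
  have : Mono (u.map φ) := by
    simp only [φ, Functor.map_preimage]
    exact mono_comp _ _
  rw [hφ, Functor.map_zero] at this
  have : Simple (u.obj S) := hsimple _ hS
  exact Simple.not_isZero (u.obj S) (IsZero.of_mono_eq_zero (0 : u.obj S ⟶ u.obj (uStar.obj Y)) rfl)


end Groth.Agent.S11523
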