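import Groth.Statements.S11524
import Groth.Agent.Adic.CV.Complete
import Mathlib.RingTheory.Flat.TorsionFree
import Mathlib.Algebra.Module.FinitePresentation
-- import your own Groth.Agent.* helpers here

set_option autoImplicit false
universe u
open AdicRing

namespace Groth.Agent.S11524

/-- Let R be a base ring of class (N) or (V) for the ideal I, A an R-algebra topologically of finite
type and M a finite A-module which is flat over R. Then M is of finite presentation over A. (Class
(V) is taken here to consist of complete valuation rings of height one.) -/
theorem result
    (R : Type u) [CommRing R] (I : Ideal R) (hR : AdicRing.IsBase R I)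
    (A : Type u) [CommRing A] [Algebra R A] (hA : AdicRing.TopFiniteType R I A)
    (M : Type u) [AddCommGroup M] [Module A M] [Module R M] [IsScalarTower R A M]
    [Module.Finite A M] [Module.Flat R M] :
    Module.FinitePresentation A M := by
  rcases Groth.Agent.Adic.CV.isBase_cases hR with hN | ⟨_, _, _, t, ht, htu, rfl⟩
  · have := Groth.Agent.Adic.CV.isNoetherianRing_of_topFiniteType hA
    exact Module.finitePresentation_of_finite A M
  obtain ⟨s, f, hf⟩ := Module.Finite.exists_fin' A M
  refine Module.finitePresentation_of_surjective f hf
    (Groth.Agent.Adic.CV.satFG_of_topFiniteType hR hA _ _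
      ((Groth.Agent.Adic.CV.sat_singleton_iff t _).2 fun x hx => ?_))
  rw [LinearMap.mem_ker, LinearMap.map_smul_of_tower] at hx
  exact LinearMap.mem_ker.2 ((Module.Flat.isSMulRegular_of_nonZeroDivisors (M := M)
    (mem_nonZeroDivisors_of_ne_zero ht)) (by simpa using hx))

end Groth.Agent.S11524
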