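import Groth.Statements.S1153
import Groth.Agent.S0787
import Groth.Agent.S0086

set_option autoImplicit false
open CategoryTheory CategoryTheory.Limits AlgebraicGeometry Opposite
universe u
open Desc

namespace Groth.Agent.S1153

/-- Let f : X ⟶ Y be locally of finite type, Z a closed subset of X and g : Y' ⟶ Y quasi-compact, flat
and surjective. If the preimage of Z in X ×_Y Y' is proper over Y', then Z is proper over Y. -/
theorem result {X Y Y' : Scheme.{u}} (f : X ⟶ Y) [LocallyOfFiniteType f] (Z : Set X) (hZ : IsClosed Z)
    (g : Y' ⟶ Y) [QuasiCompact g] [Flat g] [Surjective g]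
    (h : ClSub.IsProperOver (pullback.snd f g) ((pullback.fst f g).base ⁻¹' Z)) :
    ClSub.IsProperOver f Z := by
  have h1 := h
  let r := Groth.Agent.EtShriekLib.redι hZ
  let sq := IsPullback.of_hasPullback r (pullback.fst f g)
  have hr : Set.range (pullback.snd r (pullback.fst f g)) = (pullback.fst f g).base ⁻¹' Z := by
    rw [Scheme.Pullback.range_snd, Groth.Agent.EtShriekLib.range_redι]
  have hp : IsProper (pullback.snd r (pullback.fst f g) ≫ pullback.snd f g) :=
    (S0787.result (pullback.snd f g) _ (hZ.preimage (pullback.fst f g).continuous)).2.1 h1 _ _ inferInstance hr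
  have hq : IsProper (r ≫ f) := by
    have := S0086.result.{u}
    have hsq := sq.flip.paste_horiz (IsPullback.of_hasPullback f g).flip
    exact MorphismProperty.DescendsAlong.of_isPullback (P := @IsProper)
      (Q := @Surjective ⊓ @Flat ⊓ @QuasiCompact) hsq ⟨⟨inferInstance, inferInstance⟩, inferInstance⟩ hp
  exact ((S0787.result f Z hZ).1).2 ⟨_, r, inferInstance, Groth.Agent.EtShriekLib.range_redι hZ, hq⟩

end Groth.Agent.S1153
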