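import Groth.Statements.S11534
import Groth.Agent.Adic.CV.CLocLemmas
-- import your own Groth.Agent.* helpers here

set_option autoImplicit false
universe u
open AdicRing

namespace Groth.Agent.S11534

/-- Let R be a base ring of class (N) or (V) for the ideal I, A an R-algebra which is complete and
separated for the I-adic topology, and f_1, ..., f_r elements generating the unit ideal of A. Then A
is topologically of finite type over R if and only if each complete localization A⟨f_i⁻¹⟩ is. -/
theorem result
    (R : Type u) [CommRing R] (I : Ideal R) (hR : AdicRing.IsBase R I)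
    (A : Type u) [CommRing A] [Algebra R A] [IsAdicComplete (I.map (algebraMap R A)) A]
    (r : ℕ) (f : Fin r → A) (hf : Ideal.span (Set.range f) = ⊤) :
    AdicRing.TopFiniteType R I A ↔ ∀ i, AdicRing.TopFiniteType R I (AdicRing.CLoc I (f i)) := by
  have hI := Groth.Agent.Adic.CV.fg_of_isBase hR
  exact ⟨fun hA i => Groth.Agent.Adic.CV.topFiniteType_cLoc hI hA (f i),
    fun h => Groth.Agent.Adic.CV.topFiniteType_of_finiteType_trunc hI
      (Groth.Agent.Adic.CV.finiteType_trunc_zero_of_cover hI f hf h)⟩

end Groth.Agent.S11534
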