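import Groth.Statements.S11536
import Groth.Agent.Adic.CV.CLocLemmas
-- import your own Groth.Agent.* helpers here

set_option autoImplicit false
universe u
open AdicRing

namespace Groth.Agent.S11536

/-- Let R be a base ring of class (N) or (V) for the ideal I, A an R-algebra which is complete and
separated for the I-adic topology, and f_1, ..., f_r elements generating the unit ideal of A. Then A
is admissible over R if and only if each complete localization A⟨f_i⁻¹⟩ is. -/
theorem result
    (R : Type u) [CommRing R] (I : Ideal R) (hR : AdicRing.IsBase R I)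
    (A : Type u) [CommRing A] [Algebra R A] [IsAdicComplete (I.map (algebraMap R A)) A]
    (r : ℕ) (f : Fin r → A) (hf : Ideal.span (Set.range f) = ⊤) :
    AdicRing.Admissible R I A ↔ ∀ i, AdicRing.Admissible R I (AdicRing.CLoc I (f i)) := by
  have hI := Groth.Agent.Adic.CV.fg_of_isBase hR
  constructor
  · rintro ⟨hA, hT⟩ i
    have := Groth.Agent.Adic.CV.isAdicComplete_cLoc hI (f i)
    obtain ⟨n, φ, hφ, _⟩ := id hA
    have := Groth.Agent.Adic.CV.flat_cLoc hR ⟨n, φ, hφ⟩ (f i)
    refine ⟨Groth.Agent.Adic.CV.topFinitePresentation_of_trunc hR fun m => ?_,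
      Groth.Agent.Adic.CV.noPowTorsion_of_flat hI hT⟩
    have := Groth.Agent.Adic.CV.finitePresentation_trunc hA hI m
    exact Groth.Agent.Adic.CV.finitePresentation_trunc_cLoc hI (f i) m
  · intro h
    have hP := Groth.Agent.Adic.CV.topFinitePresentation_of_trunc hR
      (Groth.Agent.Adic.CV.finitePresentation_trunc_of_cover hI f hf fun i => (h i).1)
    obtain ⟨n, φ, hφ, _⟩ := id hP
    exact ⟨hP, Groth.Agent.Adic.CV.noPowTorsion_of_cover hR ⟨n, φ, hφ⟩ f hf fun i => (h i).2⟩

end Groth.Agent.S11536
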