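import Groth.Statements.S11538
import Groth.Agent.Adic.FlatAway
-- import your own Groth.Agent.* helpers here

set_option autoImplicit false
universe u v
open scoped TensorProduct
open AdicRing

namespace Groth.Agent.S11538

/-- Let A be a commutative ring, π an element of A which is not a zero divisor and M an A-module. Then M
is flat over A if and only if the π-power torsion of M vanishes, (A/πA) ⊗_A M is flat over A/πA, and
A[π⁻¹] ⊗_A M is flat over A[π⁻¹]. -/
theorem result
    (A : Type u) [CommRing A] (π : A) (hπ : π ∈ nonZeroDivisors A)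
    (M : Type v) [AddCommGroup M] [Module A M] :
    Module.Flat A M ↔
      (∀ (x : M) (n : ℕ), π ^ n • x = 0 → x = 0) ∧
        Module.Flat (A ⧸ Ideal.span {π}) ((A ⧸ Ideal.span {π}) ⊗[A] M) ∧
        Module.Flat (Localization.Away π) ((Localization.Away π) ⊗[A] M) := by
  refine ⟨fun _ => ⟨fun x n hx => ?_, inferInstance, inferInstance⟩, fun ⟨h1, h2, h3⟩ => ?_⟩
  · have hinj := Module.Flat.lTensor_preserves_injective_linearMap (M := M)
      (π ^ n • (LinearMap.id : A →ₗ[A] A)) (fun a b hab =>
        mul_cancel_left_mem_nonZeroDivisors (pow_mem hπ n) |>.1 hab)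
    have h0 : (π ^ n • (LinearMap.id : A →ₗ[A] A)).lTensor M (x ⊗ₜ 1) = 0 := by
      rw [LinearMap.lTensor_smul, LinearMap.lTensor_id, LinearMap.smul_apply, LinearMap.id_apply,
        TensorProduct.smul_tmul', hx, TensorProduct.zero_tmul]
    have h1 := congrArg (TensorProduct.rid A M) (hinj (h0.trans (map_zero _).symm))
    rwa [TensorProduct.rid_tmul, one_smul, map_zero] at h1
  · exact Adic.FlatAway.flat (fun x hx => h1 x 1 (by rwa [pow_one])) hπ

end Groth.Agent.S11538
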