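import Groth.Statements.S1154
import Groth.Agent.PicPurely.Descend

set_option autoImplicit false
open CategoryTheory CategoryTheory.Limits AlgebraicGeometry Opposite
universe u
open PicF

set_option linter.style.haveILetI false

namespace Groth.Agent.S1154

/-- Let k have characteristic p > 0, let X be quasi-compact and quasi-separated over k whose ring of
global functions is k itself (the structure morphism induces an isomorphism on global sections), let
n be prime to p and k'/k purely inseparable. Then every isomorphism class of invertible modules M on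
X_{k'} with M^n trivial is the pullback of such a class on X (injectivity of this pullback on
classes being a separate fact). -/
theorem result (k : Type u) [Field k] (p : ℕ) [Fact p.Prime] [CharP k p]
    (X : Scheme.{u}) (f : X ⟶ Spec (CommRingCat.of k)) [CompactSpace X] [QuasiSeparatedSpace X]
    (hH0 : IsIso f.appTop) (n : ℕ) (hn : ¬ p ∣ n) (k' : Type u) [Field k'] [Algebra k k'] [IsPurelyInseparable k k'] :
    ∀ d : PicF.Cl (pullback f (Spec.map (CommRingCat.ofHom (algebraMap k k')))), (PicF.IsInvertibleCl d ∧ ∃ M : ((pullback f (Spec.map (CommRingCat.ofHom (algebraMap k k'))))).Modules, PicF.cl M = d ∧ Nonempty (CohB1.tensorPow M n ≅ Coh.structureModule ((pullback f (Spec.map (CommRingCat.ofHom (algebraMap k k'))))))) →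
      ∃ c : PicF.Cl X, (PicF.IsInvertibleCl c ∧ ∃ M : (X).Modules, PicF.cl M = c ∧ Nonempty (CohB1.tensorPow M n ≅ Coh.structureModule (X))) ∧ PicF.pullCl (pullback.fst f (Spec.map (CommRingCat.ofHom (algebraMap k k')))) c = d := by
  letI := Groth.Agent.PicLaw.law X
  letI := Groth.Agent.PicLaw.law (pullback f (Spec.map (CommRingCat.ofHom (algebraMap k k'))))
  let π := pullback.fst f (Spec.map (CommRingCat.ofHom (algebraMap k k')))
  have hπ := Groth.Agent.PicPurely.powRange_pullback k p X f k'
  haveI : Surjective (Spec.map (CommRingCat.ofHom (algebraMap k k'))) := ⟨fun y =>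
    ⟨IsLocalRing.closedPoint k', @Subsingleton.elim _ (inferInstanceAs (Subsingleton (PrimeSpectrum k))) _ _⟩⟩
  haveI : Surjective π := inferInstanceAs (Surjective (pullback.fst f (Spec.map (CommRingCat.ofHom (algebraMap k k')))))
  haveI : CompactSpace ↥(pullback f (Spec.map (CommRingCat.ofHom (algebraMap k k')))) :=
    QuasiCompact.compactSpace_of_compactSpace π
  rintro d ⟨hd, M, rfl, ⟨φ⟩⟩
  have hM : PicF.IsInvertible M := by
    obtain ⟨M', hM', hM''⟩ := hd
    exact Groth.Agent.PicCl.isInvertible_of_iso (Groth.Agent.PicCl.nonempty_iso_of_cl_eq hM').some hM''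
  obtain ⟨hP, hPc⟩ := Groth.Agent.GrpScheme.PowPullback.cls_tensorPow hM n
  have hdn : PicGrp.cls M hM ^ n = 1 := by
    rw [← hPc, ← Groth.Agent.PicLaw.cls_one]
    exact (Groth.Agent.PicLaw.iso_iff _ _).1 ⟨φ⟩
  obtain ⟨c, hc, hcd⟩ := Groth.Agent.PicPurely.exists_torsion_descent hπ π.surjective (Fact.out : p.Prime) hn _ hdn
  obtain ⟨N, hN, rfl⟩ := Groth.Agent.PicLaw.exists_cls_eq c
  obtain ⟨hQ, hQc⟩ := Groth.Agent.GrpScheme.PowPullback.cls_tensorPow hN n
  refine ⟨_, ⟨⟨N, rfl, hN⟩, N, rfl, ?_⟩, ?_⟩
  · rw [← hQc, ← Groth.Agent.PicLaw.cls_one] at hc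
    exact (Groth.Agent.PicLaw.iso_iff _ _).2 hc
  · rw [← Groth.Agent.PicLaw.cls_pullback π hN] at hcd
    exact congrArg Subtype.val hcd

end Groth.Agent.S1154
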