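import Groth.Statements.S11544
import Groth.Agent.Adic.CV.DimOne
import Mathlib.FieldTheory.Minpoly.IsIntegrallyClosed
import Mathlib.RingTheory.Valuation.LocalSubring
import Mathlib.RingTheory.Valuation.ValuationRing
import Mathlib.Algebra.GCDMonoid.IntegrallyClosed
import Mathlib.RingTheory.PrincipalIdealDomain
import Mathlib.RingTheory.Norm.Transitivity
import Mathlib.Tactic.LinearCombination

set_option autoImplicit false
universe u
open AdicRing

namespace Groth.Agent.S11544

/-- Let R be a complete valuation ring of height one with t a nonzero element generating an ideal of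
definition, K its field of fractions, L an algebraic extension field of K and α an element of L.
Then α is integral over R if and only if the norm of α from K(α) down to K lies in R. -/
theorem result
    (R : Type u) [CommRing R] [IsDomain R] [ValuationRing R] [Ring.KrullDimLE 1 R]
    (t : R) (ht : t ≠ 0) [IsAdicComplete (Ideal.span {t}) R]
    (L : Type u) [Field L] [Algebra R L] [Algebra (FractionRing R) L]
    [IsScalarTower R (FractionRing R) L] [Algebra.IsAlgebraic (FractionRing R) L] (α : L) :
    IsIntegral R α ↔
      Algebra.norm (FractionRing R) (IntermediateField.AdjoinSimple.gen (FractionRing R) α) ∈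
        (algebraMap R (FractionRing R)).range := by
  let K := FractionRing R
  let F := IntermediateField.adjoin K ({α} : Set L)
  let g : F := IntermediateField.AdjoinSimple.gen K α
  have hinjR : Function.Injective (algebraMap R F) := by
    rw [IsScalarTower.algebraMap_eq R K F]
    exact (algebraMap K F).injective.comp (IsFractionRing.injective R K)
  have hg : IsIntegral R α ↔ IsIntegral R g :=
    isIntegral_algHom_iff (F.val.restrictScalars R) F.val.injective (x := g)
  rw [hg]
  have hR : ∀ x : F, IsIntegral R x → Algebra.norm K x ∈ (algebraMap R K).range := fun x hx => by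
    obtain ⟨r, hr⟩ := IsIntegrallyClosed.isIntegral_iff.1 (Algebra.isIntegral_norm K hx)
    exact ⟨r, hr⟩
  refine ⟨hR g, fun hn => ?_⟩
  have hKg : IsIntegral K α := (Algebra.IsAlgebraic.isAlgebraic α).isIntegral
  have : FiniteDimensional K F := IntermediateField.adjoin.finiteDimensional hKg
  by_cases hg0 : g = 0
  · rw [hg0]; exact isIntegral_zero
  have halg : IsAlgebraic R g :=
    (IsFractionRing.isAlgebraic_iff R K F).2 (Algebra.IsAlgebraic.isAlgebraic g)
  rcases Groth.Agent.Adic.CV.DimOne.isIntegral_or_isIntegral_inv ht hinjR halg with h | h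
  · exact h
  obtain ⟨r, hr⟩ := hn
  obtain ⟨r', hr'⟩ := hR _ h
  have hrr : r * r' = 1 := by
    apply IsFractionRing.injective R K
    rw [map_mul, hr, hr', ← map_mul, mul_inv_cancel₀ hg0, map_one, map_one]
  set γ := g⁻¹ with hγ
  have hγK : IsIntegral K γ := Algebra.IsIntegral.isIntegral γ
  -- the constant coefficient of the minimal polynomial of `γ` is a unit
  have hc : IsUnit ((minpoly R γ).coeff 0) := by
    have h1 := Algebra.norm_eq_norm_adjoin K γ
    rw [← IntermediateField.adjoin.powerBasis_gen hγK,
      Algebra.PowerBasis.norm_gen_eq_coeff_zero_minpoly,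
      IntermediateField.adjoin.powerBasis_gen hγK, IntermediateField.minpoly_gen,
      minpoly.isIntegrallyClosed_eq_field_fractions' K h, Polynomial.coeff_map] at h1
    rw [← hr', show (-1 : K) = algebraMap R K (-1) by simp, ← map_pow, ← map_mul, ← map_pow] at h1
    have h2 := IsFractionRing.injective R K h1
    have hu' : IsUnit r' := IsUnit.of_mul_eq_one_right r hrr
    rw [h2] at hu'
    exact isUnit_of_mul_isUnit_right ((isUnit_pow_iff Module.finrank_pos.ne').1 hu')
  obtain ⟨e, he⟩ := hc.exists_left_inv
  have hP := minpoly.aeval R γ
  rw [← (minpoly R γ).X_mul_divX_add, map_add, map_mul, Polynomial.aeval_X, Polynomial.aeval_C] at hP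
  have : g = -(algebraMap R F e * Polynomial.aeval γ (minpoly R γ).divX) := by
    have h3 : γ * (-(algebraMap R F e * Polynomial.aeval γ (minpoly R γ).divX)) = 1 := by
      rw [← map_one (algebraMap R F), ← he, map_mul]
      linear_combination (-(algebraMap R F e)) * hP
    rw [hγ, inv_mul_eq_iff_eq_mul₀ hg0, mul_one] at h3
    exact h3.symm
  rw [this]
  refine (isIntegral_algebraMap.mul ?_).neg
  rw [← Polynomial.aeval_subalgebra_coe _ _ (⟨γ, h⟩ : integralClosure R F)]
  exact (Polynomial.aeval (⟨γ, h⟩ : integralClosure R F) (minpoly R γ).divX).2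

end Groth.Agent.S11544
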