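import Groth.Statements.S11545
import Groth.Agent.Adic.ComplLift
import Mathlib.Algebra.MvPolynomial.Eval
-- import your own Groth.Agent.* helpers here

set_option autoImplicit false
universe u
open AdicRing

namespace Groth.Agent.S11545

/-- Let R be a base ring of class (N) or (V) for the ideal I, A an admissible R-algebra, f_0, ..., f_r
elements generating an open ideal 𝔞 of A, and A_i = C_i/(f_i-power torsion) the i-th chart algebra
of the formal blowing-up of 𝔞. Let B be an R-algebra complete and separated for the I-adic topology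
and φ : A → B an R-algebra homomorphism such that the ideal 𝔞B is generated by φ(f_i), a
non-zero-divisor of B. Then there is exactly one R-algebra homomorphism A_i → B whose composite with
A → A_i is φ. -/
theorem result
    (R : Type u) [CommRing R] (I : Ideal R) (hR : AdicRing.IsBase R I)
    (A : Type u) [CommRing A] [Algebra R A] (hA : AdicRing.Admissible R I A)
    (r : ℕ) (f : Fin (r + 1) → A) (k : ℕ)
    (hopen : (I ^ k).map (algebraMap R A) ≤ Ideal.span (Set.range f)) (i : Fin (r + 1))
    (B : Type u) [CommRing B] [Algebra R B] [IsAdicComplete (I.map (algebraMap R B)) B]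
    (φ : A →ₐ[R] B) (hnzd : φ (f i) ∈ nonZeroDivisors B)
    (hgen : (Ideal.span (Set.range f)).map φ = Ideal.span {φ (f i)}) :
    ∃! ψ : AdicRing.chartAdm I f i →ₐ[R] B,
      ψ.comp (IsScalarTower.toAlgHom R A (AdicRing.chartAdm I f i)) = φ := by
  classical
  have hI : I.FG := by
    rcases hR.2 with ⟨hN, _⟩ | ⟨_, _, _, t, _, rfl⟩
    · exact IsNoetherian.noetherian I
    · exact ⟨{t}, by simp⟩
  have hb : ∀ j, ∃ b, φ (f i) * b = φ (f j) := fun j => by
    have := Ideal.mem_map_of_mem φ (Ideal.subset_span (Set.mem_range_self j) : f j ∈ Ideal.span (Set.range f))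
    rw [hgen, Ideal.mem_span_singleton'] at this
    obtain ⟨b, hb⟩ := this
    exact ⟨b, by rw [← hb, mul_comm]⟩
  choose b hb using hb
  let η₀ : MvPolynomial {j : Fin (r + 1) // j ≠ i} A →ₐ[R] B :=
    MvPolynomial.aevalTower φ (fun j => b j.1)
  have hη₀ : ∀ x ∈ Ideal.span (Set.range fun j : {j : Fin (r + 1) // j ≠ i} =>
      MvPolynomial.C (f i) * MvPolynomial.X j - MvPolynomial.C (f j.1)), η₀ x = 0 := by
    intro x hx
    have : Ideal.span (Set.range fun j : {j : Fin (r + 1) // j ≠ i} =>
      MvPolynomial.C (f i) * MvPolynomial.X j - MvPolynomial.C (f j.1)) ≤ RingHom.ker η₀ := by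
      rw [Ideal.span_le]
      rintro _ ⟨j, rfl⟩
      simp [η₀, hb]
    exact this hx
  let η : AdicRing.chartAlg f i →ₐ[R] B := Ideal.Quotient.liftₐ _ η₀ hη₀
  have hηA : ∀ a : A, η (algebraMap A (AdicRing.chartAlg f i) a) = φ a := fun a => by
    show η₀ (MvPolynomial.C a) = φ a
    simp [η₀]
  let L : AdicRing.chartCompl I f i →ₐ[R] B := Adic.complLift I η
  have hLA : ∀ a : A, L (algebraMap A (AdicRing.chartCompl I f i) a) = φ a := fun a =>
    (Adic.complLift_algebraMap I η a).trans (hηA a)
  have hker : ∀ x ∈ (⨆ n : ℕ, Submodule.torsionBy (AdicRing.chartCompl I f i)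
      (AdicRing.chartCompl I f i)
      (algebraMap A (AdicRing.chartCompl I f i) (f i) ^ n) : Ideal (AdicRing.chartCompl I f i)),
      L x = 0 := by
    intro x hx
    refine (show _ ≤ RingHom.ker L from ?_) hx
    refine iSup_le fun n y hy => ?_
    rw [Submodule.mem_torsionBy_iff, smul_eq_mul] at hy
    have := congrArg L hy
    rw [map_mul, map_pow, hLA, map_zero] at this
    exact (mul_left_mem_nonZeroDivisors_eq_zero_iff (pow_mem hnzd n)).1 this
  refine ⟨Ideal.Quotient.liftₐ _ L hker, ?_, fun ψ hψ => ?_⟩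
  · ext a
    exact hLA a
  · have hψA : ∀ a : A, ψ (algebraMap A (AdicRing.chartAdm I f i) a) = φ a := fun a =>
      AlgHom.congr_fun hψ a
    ext x
    obtain ⟨y, rfl⟩ := Ideal.Quotient.mk_surjective x
    refine AlgHom.congr_fun (Adic.complExt I hI (ψ.comp (Ideal.Quotient.mkₐ R _)) L fun c => ?_) y
    rw [Adic.complLift_of]
    obtain ⟨p, rfl⟩ := Ideal.Quotient.mk_surjective c
    have hF : ∀ q ∈ Ideal.span (Set.range fun j : {j : Fin (r + 1) // j ≠ i} =>
        MvPolynomial.C (f i) * MvPolynomial.X j - MvPolynomial.C (f j.1)),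
        (Ideal.Quotient.mk _ q : AdicRing.chartAlg f i) = 0 := fun q hq =>
      Ideal.Quotient.eq_zero_iff_mem.2 hq
    let F : MvPolynomial {j : Fin (r + 1) // j ≠ i} A →+* B :=
      (ψ.toRingHom.comp ((Ideal.Quotient.mk _).comp
        (algebraMap (AdicRing.chartAlg f i) (AdicRing.chartCompl I f i)))).comp
        (Ideal.Quotient.mk _)
    have hFC : ∀ a : A, F (MvPolynomial.C a) = φ a := fun a => hψA a
    show F p = η₀.toRingHom p
    refine RingHom.congr_fun (MvPolynomial.ringHom_ext (fun a => ?_) fun j => ?_) p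
    · rw [hFC]
      simp [η₀]
    · have h0 : F (MvPolynomial.C (f i) * MvPolynomial.X j - MvPolynomial.C (f j.1)) = 0 := by
        show ψ (Ideal.Quotient.mk _ (algebraMap (AdicRing.chartAlg f i)
          (AdicRing.chartCompl I f i) (Ideal.Quotient.mk _ _))) = 0
        rw [hF _ (Ideal.subset_span ⟨j, rfl⟩)]
        simp
      rw [map_sub, map_mul, hFC, hFC, sub_eq_zero, ← hb j.1] at h0
      rw [(mul_cancel_left_mem_nonZeroDivisors hnzd).1 h0]
      simp [η₀]

end Groth.Agent.S11545
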