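import Groth.Statements.S11546
import Mathlib.RingTheory.AdicCompletion.AsTensorProduct
import Mathlib.RingTheory.Flat.TorsionFree
import Mathlib.RingTheory.KrullDimension.Basic
import Mathlib.RingTheory.Valuation.ValuationRing
import Mathlib.RingTheory.Polynomial.Basic
-- import your own Groth.Agent.* helpers here

set_option autoImplicit false
universe u
open AdicRing

namespace Groth.Agent.S11546

/-- Let R be a base ring of class (N) or (V) for the ideal I. Then the restricted power series ring
R⟨ζ_1, ..., ζ_n⟩ is flat over R. -/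
theorem result
    (R : Type u) [CommRing R] (I : Ideal R) (hR : AdicRing.IsBase R I) (n : ℕ) :
    Module.Flat R (AdicRing.RPow R I n) := by
  obtain ⟨hc, ⟨hN, _⟩ | ⟨hD, hV, hK, t, ht, rfl⟩⟩ := hR
  · exact Module.Flat.trans R (MvPolynomial (Fin n) R) _
  · haveI : ValuationRing R := { hV with }
    rw [Module.Flat.flat_iff_torsion_eq_bot_of_isBezout, eq_bot_iff]
    intro x hx
    obtain ⟨⟨a, ha⟩, hax⟩ := hx
    rw [Submodule.mem_bot]
    -- some power of `t` is a multiple of `a`
    obtain ⟨k, c, hc'⟩ : ∃ k c, c * a = t ^ k := by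
      have ha0 : a ≠ 0 := nonZeroDivisors.ne_zero ha
      have : t ∈ (Ideal.span {a}).radical := by
        rw [Ideal.radical_eq_sInf, Submodule.mem_sInf]
        rintro p ⟨hap, hp⟩
        have hp0 : p ≠ ⊥ := fun h => ha0 (by
          simpa [h] using hap (Ideal.mem_span_singleton_self a))
        have := Ideal.isMaximal_of_isPrime_of_ne_bot p hp0
        have htj := IsAdicComplete.le_jacobson_bot (Ideal.span {t}) (Ideal.mem_span_singleton_self t)
        exact Ideal.mem_sInf.1 htj ⟨bot_le, this⟩
      obtain ⟨k, hk⟩ := this
      rw [Ideal.mem_span_singleton'] at hk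
      exact ⟨k, hk⟩
    have hinj : ∀ y : AdicRing.RPow R (Ideal.span {t}) n, t • y = 0 → y = 0 := by
      intro y hy
      refine AdicCompletion.ext fun m => ?_
      obtain ⟨z, hz⟩ := Submodule.Quotient.mk_surjective _ (y.val (m + 1))
      have h1 : (t • y).val (m + 1) = 0 := by rw [hy]; rfl
      rw [AdicCompletion.val_smul, Pi.smul_apply, ← hz, ← Submodule.Quotient.mk_smul,
        Submodule.Quotient.mk_eq_zero, smul_eq_mul, Ideal.mul_top, Ideal.map_span,
        Set.image_singleton, Ideal.span_singleton_pow, Ideal.mem_span_singleton,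
        MvPolynomial.smul_eq_C_mul, pow_succ', mul_dvd_mul_iff_left (by simpa using ht)] at h1
      show y.val m = 0
      rw [← y.2 m.le_succ, ← hz, AdicCompletion.transitionMap, Submodule.mapQ_apply]
      refine (Submodule.Quotient.mk_eq_zero _).2 ?_
      rw [smul_eq_mul, Ideal.mul_top, Ideal.map_span, Set.image_singleton,
        Ideal.span_singleton_pow, Ideal.mem_span_singleton]
      simpa using h1
    have hpow : ∀ (k : ℕ) (y : AdicRing.RPow R (Ideal.span {t}) n), t ^ k • y = 0 → y = 0 := by
      intro k
      induction k with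
      | zero => exact fun y hy => by simpa using hy
      | succ k ih => exact fun y hy => hinj y (ih _ (by rwa [smul_smul, ← pow_succ]))
    refine hpow k x ?_
    rw [← hc', mul_smul]
    exact (congrArg (c • ·) (show a • x = 0 from hax)).trans (smul_zero c)

end Groth.Agent.S11546
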