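import Groth.Statements.S1156


set_option autoImplicit false
universe u
open scoped TensorProduct
open Desc

namespace Groth.Agent.S1156

/-- Exactness of the extended Amitsur complex in degree 0 (injectivity in degree −1 being standard). Let
R → A be faithfully flat and M an R-module. An element x of A ⊗_R M with 1 ⊗ x = (a ⊗ m ↦ a ⊗ 1 ⊗
m)(x) in A ⊗_R A ⊗_R M lies in the image of m ↦ 1 ⊗ m. -/
theorem result (R A : Type u) [CommRing R] [CommRing A] [Algebra R A] [Module.FaithfullyFlat R A]
    (M : Type u) [AddCommGroup M] [Module R M] (x : A ⊗[R] M)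
    (hx : TensorProduct.mk R A (A ⊗[R] M) 1 x = LinearMap.lTensor A (TensorProduct.mk R A M 1) x) :
    x ∈ LinearMap.range (TensorProduct.mk R A M 1) := by
  let μ : ∀ (N : Type u) [AddCommGroup N] [Module R N], A ⊗[R] (A ⊗[R] N) →ₗ[R] A ⊗[R] N := fun N _ _ =>
    (LinearMap.mul' R A).rTensor N ∘ₗ (TensorProduct.assoc R A A N).symm.toLinearMap
  let f : M →ₗ[R] A ⊗[R] M := TensorProduct.mk R A M 1
  let d : A ⊗[R] M →ₗ[R] A ⊗[R] (A ⊗[R] M) := TensorProduct.mk R A (A ⊗[R] M) 1 - f.lTensor A
  have key : μ (A ⊗[R] M) ∘ₗ d.lTensor A + f.lTensor A ∘ₗ μ M = LinearMap.id := by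
    ext a b m
    simp [μ, d, f, TensorProduct.tmul_sub]
  have hex : Function.Exact f d := by
    refine Module.FaithfullyFlat.lTensor_reflects_exact R A _ _ (LinearMap.exact_iff.2 (le_antisymm ?_ ?_))
    · intro z hz
      have := LinearMap.congr_fun key z
      simp only [LinearMap.add_apply, LinearMap.comp_apply, LinearMap.id_apply, LinearMap.mem_ker.1 hz,
        map_zero, zero_add] at this
      exact ⟨_, this⟩
    · rintro _ ⟨z, rfl⟩
      have : d ∘ₗ f = 0 := by ext m; simp [d, f]
      rw [LinearMap.mem_ker, ← LinearMap.comp_apply, ← LinearMap.lTensor_comp, this, LinearMap.lTensor_zero,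
        LinearMap.zero_apply]
  exact (hex x).mp (sub_eq_zero.mpr hx)


end Groth.Agent.S1156
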