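import Groth.Statements.S5774
import Mathlib
import Groth.Agent.EGA41Lib.RegFlat

set_option autoImplicit false
universe u
open EGA41

namespace Groth.Agent.S5774

open Groth.Agent.EGA41Lib in
theorem aux (A B : Type u) [CommRing A] [CommRing B] [IsLocalRing A] [IsLocalRing B]
    [IsNoetherianRing B] [Algebra A B] [IsLocalHom (algebraMap A B)] :
    ∀ (fs : List B) (M : Type u) [AddCommGroup M] [Module B M] [Module A M] [IsScalarTower A B M]
      [Module.Finite B M], Module.Flat A M → RingTheory.Sequence.IsWeaklyRegular
        (M ⧸ ((IsLocalRing.maximalIdeal A).map (algebraMap A B) • (⊤ : Submodule B M))) fs →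
      RingTheory.Sequence.IsWeaklyRegular M fs ∧
        ∀ i ≤ fs.length, Module.Flat A (M ⧸ (Ideal.ofList (fs.take i) • (⊤ : Submodule B M))) := by
  intro fs
  induction fs with
  | nil =>
    intro M _ _ _ _ _ hflat _
    refine ⟨RingTheory.Sequence.IsWeaklyRegular.nil B M, fun i _ => ?_⟩
    rw [List.take_nil]
    exact Module.Flat.of_linearEquiv ((Submodule.quotEquivOfEqBot (Ideal.ofList ([] : List B) • (⊤ : Submodule B M))
          (by rw [Ideal.ofList_nil, Submodule.bot_smul])).restrictScalars A)
  | cons f fs ih =>
    intro M _ _ _ _ _ hflat hreg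
    obtain ⟨hreg1, hreg2⟩ := (RingTheory.Sequence.isWeaklyRegular_cons_iff _ f fs).mp hreg
    obtain ⟨h1, h2⟩ := regular_and_flat_of_fibre f hreg1
    obtain ⟨h3, h4⟩ := ih (QuotSMulTop f M) h2
      (((quotSMulTopQuotEquiv ((IsLocalRing.maximalIdeal A).map (algebraMap A B)) f).isWeaklyRegular_congr fs).mp hreg2)
    refine ⟨(RingTheory.Sequence.isWeaklyRegular_cons_iff M f fs).mpr ⟨h1, h3⟩, fun i hi => ?_⟩
    cases i with
    | zero =>
      rw [List.take_zero]
      exact Module.Flat.of_linearEquiv ((Submodule.quotEquivOfEqBot (Ideal.ofList ([] : List B) • (⊤ : Submodule B M))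
          (by rw [Ideal.ofList_nil, Submodule.bot_smul])).restrictScalars A)
    | succ i =>
      rw [List.take_succ_cons]
      haveI := h4 i (by simpa using hi)
      exact Module.Flat.of_linearEquiv
        ((Submodule.quotOfListConsSMulTopEquivQuotSMulTopInner M f (fs.take i)).restrictScalars A)


/-- Let A → B be a local homomorphism of Noetherian local rings, m the maximal ideal of A and k = A/m, M
a finitely generated B-module which is flat over A, and f_1, ..., f_n elements of B whose images g_i
in B ⊗_A k form an (M ⊗_A k)-regular sequence. Then (f_i) is an M-regular sequence and the quotients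
M/(f_1 M + ... + f_i M), 0 ≤ i ≤ n, are flat over A. (The f_i are not required to lie in the maximal
ideal of B.) -/
theorem result (A B : Type u) [CommRing A] [CommRing B]
    [IsLocalRing A] [IsLocalRing B] [IsNoetherianRing A] [IsNoetherianRing B] [Algebra A B]
    [IsLocalHom (algebraMap A B)] (M : Type u) [AddCommGroup M] [Module B M] [Module A M]
    [IsScalarTower A B M] [Module.Finite B M] [Module.Flat A M] (fs : List B)
    (hreg : RingTheory.Sequence.IsWeaklyRegular
      (M ⧸ ((IsLocalRing.maximalIdeal A).map (algebraMap A B) • (⊤ : Submodule B M))) fs) :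
    RingTheory.Sequence.IsWeaklyRegular M fs ∧
      ∀ i ≤ fs.length, Module.Flat A (M ⧸ (Ideal.ofList (fs.take i) • (⊤ : Submodule B M))) := by
  exact aux A B fs M ‹_› hreg

end Groth.Agent.S5774
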