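import Groth.Statements.S2219
import Mathlib
import Groth.Agent.CAlgA.TraceFactors
-- import your own Groth.Agent.* helpers here

set_option autoImplicit false
universe u
open Disc

namespace Groth.Agent.S2219

open IsLocalRing

theorem tr_eq {k A : Type u} [Field k] [CommRing A] [Algebra k A] [FiniteDimensional k A] [IsLocalRing A]
    (a : A) : ∀ I : Ideal A,
    CAlgA.TraceFactors.tr k a I = (Module.length A (A ⧸ I)).toNat • CAlgA.TraceFactors.tr k a (maximalIdeal A) := by
  have : IsArtinianRing A := IsArtinianRing.of_finite k A
  intro I
  induction I using IsWellFounded.induction (fun p q : Ideal A => q < p) with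
  | _ I ih =>
  by_cases hI : I = ⊤
  · subst hI
    have : Subsingleton (A ⧸ (⊤ : Ideal A)) := Ideal.Quotient.subsingleton_iff.2 rfl
    rw [CAlgA.TraceFactors.tr_top, Module.length_eq_zero, ENat.toNat_zero, zero_smul]
  · have : Nontrivial (A ⧸ I) := Ideal.Quotient.nontrivial_iff.2 hI
    obtain ⟨P, hP⟩ := associatedPrimes.nonempty A (A ⧸ I)
    obtain ⟨hPp, x, hx⟩ := isAssociatedPrime_iff.1 hP
    have hPm : P = maximalIdeal A := eq_maximalIdeal (IsArtinianRing.isMaximal_of_isPrime P)
    obtain ⟨π, rfl⟩ := Ideal.Quotient.mk_surjective x
    have hcol : ∀ c, c * π ∈ I ↔ c ∈ maximalIdeal A := fun c => by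
      rw [← hPm, hx, Submodule.mem_colon_singleton, Submodule.mem_bot, ← Ideal.Quotient.eq_zero_iff_mem]
      rfl
    have hπ : π ∉ I := fun h => by
      have := (hcol 1).1 (by simpa using h)
      exact (Ideal.ne_top_iff_one _).1 (maximalIdeal.isMaximal A).ne_top this
    let J := Ideal.span {π} ⊔ I
    have hlt : I < J := lt_of_le_of_ne le_sup_right fun h => hπ (h ▸ Ideal.mem_sup_left (Ideal.mem_span_singleton_self π))
    have hlen : Module.length A (A ⧸ I) = 1 + Module.length A (A ⧸ J) := by
      let f : (A ⧸ maximalIdeal A) →ₗ[A] (A ⧸ I) :=
        Submodule.mapQ (maximalIdeal A) I (LinearMap.mulRight A π) (fun c hc => (hcol c).2 hc)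
      let g : (A ⧸ I) →ₗ[A] (A ⧸ J) := Submodule.mapQ I J LinearMap.id (fun c hc => hlt.le hc)
      have hf : Function.Injective f := by
        rw [injective_iff_map_eq_zero]
        intro x
        induction x using Submodule.Quotient.induction_on with | H c =>
        intro hc
        exact (Submodule.Quotient.mk_eq_zero _).2 ((hcol c).1 ((Submodule.Quotient.mk_eq_zero I).1 hc))
      have hg : Function.Surjective g := fun x => by
        induction x using Submodule.Quotient.induction_on with | H c =>
        exact ⟨Submodule.Quotient.mk c, rfl⟩
      have hex : Function.Exact f g := by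
        intro x
        induction x using Submodule.Quotient.induction_on with | H c =>
        show (Submodule.Quotient.mk c : A ⧸ J) = 0 ↔ _
        rw [Submodule.Quotient.mk_eq_zero]
        constructor
        · intro hc
          obtain ⟨u, hu, v, hv, rfl⟩ := Submodule.mem_sup.1 hc
          obtain ⟨w, rfl⟩ := Ideal.mem_span_singleton'.1 hu
          refine ⟨Submodule.Quotient.mk w, (Submodule.Quotient.eq I).2 ?_⟩
          show w * π - (w * π + v) ∈ I
          rw [sub_add_cancel_left]
          exact neg_mem hv
        · rintro ⟨z, hz⟩
          induction z using Submodule.Quotient.induction_on with | H w =>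
          have hz' : w * π - c ∈ I := (Submodule.Quotient.eq I).1 hz
          rw [show c = w * π - (w * π - c) by ring]
          exact sub_mem (Ideal.mem_sup_left (Ideal.mem_span_singleton'.2 ⟨w, rfl⟩)) (Ideal.mem_sup_right hz')
      rw [Module.length_eq_add_of_exact f g hf hg hex]
      congr 1
      rw [Module.length_eq_one_iff]
      have hmax : (maximalIdeal A).IsMaximal := maximalIdeal.isMaximal A
      exact isSimpleModule_iff_isCoatom.2 hmax.out
    have hJ := ih J hlt
    rw [CAlgA.TraceFactors.tr_step k a (I' := I) (P := maximalIdeal A) (π := π) rfl hcol, hJ, hlen,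
      ENat.toNat_add (by decide) Module.length_ne_top, add_smul, ENat.toNat_one, one_smul] 

/-- Equivalence of (1) and (3): let k be a field and A a finite-dimensional local k-algebra with residue
field k'. Then the trace map Tr_{A/k} is not identically zero if and only if k' is separable over k
and the length of A as a module over itself is not divisible by the characteristic of k (no
condition in characteristic zero). -/
theorem result (k A : Type u) [Field k] [CommRing A]
    [Algebra k A] [FiniteDimensional k A] [IsLocalRing A] :
    Algebra.trace k A ≠ 0 ↔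
      (Algebra.IsSeparable k (IsLocalRing.ResidueField A) ∧
        ∀ p : ℕ, p.Prime → CharP k p → ¬ p ∣ (Module.length A A).toNat) := by
  have : IsArtinianRing A := IsArtinianRing.of_finite k A
  have hlA : Module.length A (A ⧸ (⊥ : Ideal A)) = Module.length A A :=
    (Submodule.quotEquivOfEqBot (⊥ : Submodule A A) rfl).length_eq
  have htr : ∀ a : A, Algebra.trace k A a =
      ((Module.length A A).toNat : k) * Algebra.trace k (IsLocalRing.ResidueField A) (IsLocalRing.residue A a) := by
    intro a
    have h := tr_eq (k := k) a ⊥
    rw [hlA, nsmul_eq_mul] at h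
    have hbot : CAlgA.TraceFactors.tr k a (⊥ : Ideal A) = Algebra.trace k A a := by
      rw [CAlgA.TraceFactors.tr]
      exact Algebra.trace_eq_of_algEquiv (AlgEquiv.quotientBot k A).symm a
    rw [hbot] at h
    exact h
  constructor
  · intro h
    refine ⟨by_contra fun hs => h (LinearMap.ext fun a => ?_), fun p hp hc hdvd => h (LinearMap.ext fun a => ?_)⟩
    · rw [htr, Algebra.trace_eq_zero_of_not_isSeparable hs]
      simp
    · rw [htr, (CharP.cast_eq_zero_iff k p _).2 hdvd]
      simp
  · rintro ⟨hs, hl⟩ h
    apply Algebra.trace_ne_zero k (IsLocalRing.ResidueField A)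
    refine LinearMap.ext fun y => ?_
    obtain ⟨a, rfl⟩ := IsLocalRing.residue_surjective y
    have h0 := htr a
    rw [h, LinearMap.zero_apply] at h0
    rcases mul_eq_zero.1 h0.symm with h1 | h1
    · exfalso
      obtain ⟨p, hc⟩ := CharP.exists k
      have hd := (CharP.cast_eq_zero_iff k p _).1 h1
      rcases CharP.char_is_prime_or_zero k p with hp | rfl
      · exact hl p hp hc hd
      · have hne : (Module.length A A).toNat ≠ 0 := by
          rw [Ne, ENat.toNat_eq_zero]
          rintro (h' | h')
          · exact (Module.length_pos (R := A) (M := A)).ne' h'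
          · exact Module.length_ne_top h'
        exact hne (zero_dvd_iff.1 hd)
    · exact h1

end Groth.Agent.S2219
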