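import Groth.Statements.S1163


set_option autoImplicit false
open CategoryTheory CategoryTheory.Limits AlgebraicGeometry Opposite
universe u
open Desc

namespace Groth.Agent.S1163

open scoped TensorProduct in
/-- If `B → M → C` has faithfully flat composite and `M` is flat over `A`, then `B` is flat over `A`. -/
lemma flat_of_pure {A B M C : CommRingCat.{u}} (φ : A ⟶ B) (ψ : B ⟶ M) (χ : M ⟶ C)
    (h1 : (φ ≫ ψ).hom.Flat) (h2 : (ψ ≫ χ).hom.Flat) (h3 : IsLocalHom (ψ ≫ χ).hom)
    [IsLocalRing B] [IsLocalRing C] : φ.hom.Flat := by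
  algebraize [φ.hom, ψ.hom, (φ ≫ ψ).hom, (ψ ≫ χ).hom, χ.hom]
  letI : Algebra A C := Algebra.compHom C φ.hom
  haveI : IsScalarTower A B C := .of_algebraMap_eq fun _ => rfl
  haveI : IsScalarTower A B M := .of_algebraMap_eq fun _ => rfl
  haveI : IsScalarTower B M C := .of_algebraMap_eq fun _ => rfl
  haveI : IsScalarTower A M C := .of_algebraMap_eq fun _ => rfl
  haveI : IsLocalHom (algebraMap B C) := h3
  haveI := Module.FaithfullyFlat.of_flat_of_isLocalHom (A := B) (B := C)
  let u : B →ₗ[A] M := (IsScalarTower.toAlgHom A B M).toLinearMap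
  let w : M →ₗ[A] C := (IsScalarTower.toAlgHom A M C).toLinearMap
  have hu : ∀ (N : Type u) [AddCommGroup N] [Module A N], Function.Injective (u.rTensor N) := by
    intro N _ _
    have h : Function.Injective ((w.rTensor N).comp (u.rTensor N)) := by
      have e : ((w.rTensor N).comp (u.rTensor N) : B ⊗[A] N → C ⊗[A] N) =
          (TensorProduct.AlgebraTensorModule.cancelBaseChange A B B C N) ∘
            (TensorProduct.mk B C (B ⊗[A] N) 1) := by
        funext t
        induction t using TensorProduct.induction_on with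
        | zero => simp
        | tmul b n =>
          simp [u, w, TensorProduct.AlgebraTensorModule.cancelBaseChange_tmul, Algebra.smul_def]
          rfl
        | add x y hx hy => simp_all [TensorProduct.tmul_add]
      rw [e]
      exact (LinearEquiv.injective _).comp (Module.FaithfullyFlat.tensorProduct_mk_injective _)
    rw [LinearMap.coe_comp] at h
    exact h.of_comp
  change Module.Flat A B
  rw [Module.Flat.iff_lTensor_preserves_injective_linearMap]
  intro N P _ _ _ _ i hi
  have h := (Module.Flat.lTensor_preserves_injective_linearMap (M := M) i hi).comp (hu N)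
  rw [← LinearMap.coe_comp, LinearMap.lTensor_comp_rTensor, ← LinearMap.rTensor_comp_lTensor,
    LinearMap.coe_comp] at h
  exact h.of_comp


/-- The case P = flat, single fppf cover: Let f : X ⟶ Y and q : Y ⟶ Z be morphisms of schemes, and
suppose there is a flat, surjective morphism g : Y' ⟶ Y locally of finite presentation which factors
through f. If f ≫ q is flat, then q is flat. -/
theorem result {X Y Z Y' : Scheme.{u}} (f : X ⟶ Y) (q : Y ⟶ Z) (g : Y' ⟶ Y) [Flat g] [Surjective g]
    [LocallyOfFinitePresentation g] (l : Y' ⟶ X) (hl : l ≫ f = g) [Flat (f ≫ q)] : Flat q := by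
  refine Flat.of_stalkMap _ fun y => ?_
  obtain ⟨y', hy⟩ := g.surjective y
  subst hl
  rw [Scheme.Hom.comp_apply] at hy
  subst hy
  have h1 : ((f ≫ q).stalkMap (l y')).hom.Flat := Flat.stalkMap _ _
  have h2 : ((l ≫ f).stalkMap y').hom.Flat := Flat.stalkMap _ _
  have h3 : IsLocalHom ((l ≫ f).stalkMap y').hom := (l ≫ f).toLRSHom.prop y'
  rw [Scheme.Hom.stalkMap_comp] at h1 h2 h3
  exact flat_of_pure _ _ _ h1 h2 h3


end Groth.Agent.S1163
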