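import Groth.Statements.S1167
import Groth.Agent.HilbD.Basic

set_option autoImplicit false
open CategoryTheory CategoryTheory.Limits AlgebraicGeometry
universe u
open HilbD

namespace Groth.Agent.S1167

/-- Let f : X → S be a separated morphism of schemes and let (H, Z) represent the Hilbert functor of
points of degree d of X over S (Z the universal object on H). Then H → S is separated. -/
theorem result {X S : Scheme.{u}} (f : X ⟶ S) [IsSeparated f] (d : ℕ)
    (H : Over S) (Z : HilbD.Obj f d H) (hZ : HilbD.IsUniversal f d H Z) : IsSeparated H.hom := by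
  let P : Over S := Over.mk (pullback.fst H.hom H.hom ≫ H.hom)
  let g₁ : P ⟶ H := Over.homMk (pullback.fst H.hom H.hom) rfl
  let g₂ : P ⟶ H := Over.homMk (pullback.snd H.hom H.hom) pullback.condition.symm
  obtain ⟨W, i, hi, hiff⟩ := Groth.Agent.HilbD.exists_eq_locus f d
    (Groth.Agent.HilbD.pullObj f d g₁ Z) (Groth.Agent.HilbD.pullObj f d g₂ Z)
  have hfac : ∀ (T : Over S) (g : T ⟶ P),
      (∃ z : T.left ⟶ W, z ≫ i = g.left) ↔ g ≫ g₁ = g ≫ g₂ := fun T g => by
    rw [← hiff]
    show HilbD.pull f g (HilbD.pull f g₂ Z.1) = HilbD.pull f g (HilbD.pull f g₁ Z.1) ↔ _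
    rw [← Groth.Agent.HilbD.pull_comp, ← Groth.Agent.HilbD.pull_comp]
    exact ⟨fun h => (hZ T (Groth.Agent.HilbD.pullObj f d (g ≫ g₁) Z)).unique rfl h, fun h => by rw [h]⟩
  haveI : IsClosedImmersion i := hi
  refine ⟨?_⟩
  let δ : Over.mk H.hom ⟶ P := Over.homMk (pullback.diagonal H.hom) (by simp [P])
  obtain ⟨z, hz⟩ := (hfac _ δ).mpr (by ext : 1; simp [δ, g₁, g₂])
  have heq : i ≫ pullback.fst H.hom H.hom = i ≫ pullback.snd H.hom H.hom := by
    have := (hfac (Over.mk (i ≫ P.hom)) (Over.homMk i rfl)).mp ⟨𝟙 W, Category.id_comp i⟩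
    exact congrArg CommaMorphism.left this
  have hi' : (i ≫ pullback.fst H.hom H.hom) ≫ pullback.diagonal H.hom = i := by
    apply pullback.hom_ext
    · simp
    · simp [heq]
  haveI : IsIso z := by
    refine ⟨i ≫ pullback.fst H.hom H.hom, ?_, ?_⟩
    · rw [← Category.assoc, hz]
      simp [δ]
    · rw [← cancel_mono i, Category.assoc, hz, Category.id_comp]
      exact hi'
  have hz' : z ≫ i = pullback.diagonal H.hom := hz
  rw [← hz']
  infer_instance

end Groth.Agent.S1167
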