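import Groth.Statements.S1168
import Groth.Agent.HilbD.Push

set_option autoImplicit false
open CategoryTheory CategoryTheory.Limits AlgebraicGeometry
universe u
open HilbD

namespace Groth.Agent.S1168

/-- Let i : X ⟶ Y be a closed immersion of schemes over S (structure morphisms i ≫ g and g) and suppose
(H, Z) represents the degree-d Hilbert functor of points of Y over S. Then the degree-d Hilbert
functor of points of X over S is representable, and for any representing pair (H', Z') the unique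
S-morphism H' ⟶ H classifying the image of Z' in Y ×_S H' is a closed immersion. -/
theorem result {X Y S : Scheme.{u}} (i : X ⟶ Y) [IsClosedImmersion i] (g : Y ⟶ S)
    (d : ℕ) (H : Over S) (Z : HilbD.Obj g d H) (hZ : HilbD.IsUniversal g d H Z) :
    HilbD.Representable (i ≫ g) d ∧
    ∀ (H' : Over S) (Z' : HilbD.Obj (i ≫ g) d H') (_ : HilbD.IsUniversal (i ≫ g) d H' Z') (m : H' ⟶ H),
      HilbD.pull g m Z.1 = HilbD.push i g H' Z'.1 → IsClosedImmersion m.left := by
  obtain ⟨H₀, Z₀, ι, hι, hU, hpush⟩ := Groth.Agent.HilbD.exists_sub i g d H Z hZ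
  refine ⟨⟨H₀, Z₀, hU⟩, fun H' Z' hZ' m hm => ?_⟩
  obtain ⟨e, he, -⟩ := hU H' Z'
  obtain ⟨e', he', -⟩ := hZ' H₀ Z₀
  have h₁ : e ≫ e' = 𝟙 H' := (hZ' H' Z').unique
    (by rw [Groth.Agent.HilbD.pull_comp, he', he]) (Groth.Agent.HilbD.pull_id _ _)
  have h₂ : e' ≫ e = 𝟙 H₀ := (hU H₀ Z₀).unique
    (by rw [Groth.Agent.HilbD.pull_comp, he, he']) (Groth.Agent.HilbD.pull_id _ _)
  haveI : IsIso e.left :=
    ⟨⟨e'.left, by rw [← Over.comp_left, h₁]; rfl, by rw [← Over.comp_left, h₂]; rfl⟩⟩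
  have hm' : m = e ≫ ι := (hZ H' ⟨_, Groth.Agent.HilbD.isFinLocFreeOfDeg_push i g d Z'.2⟩).unique hm (by
    show HilbD.pull g (e ≫ ι) Z.1 = HilbD.push i g H' Z'.1
    rw [Groth.Agent.HilbD.pull_comp, hpush, Groth.Agent.HilbD.pull_push, he])
  rw [hm', Over.comp_left]
  infer_instance

end Groth.Agent.S1168
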