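import Groth.Statements.S6414


set_option autoImplicit false
open CategoryTheory
universe v₁ u₁ v₂ u₂ v₃ u₃
open FibCat

namespace Groth.Agent.S6414

/-- A morphism that is strongly cartesian with respect to `F : 𝒜 ⥤ ℬ` and whose image is strongly
cartesian with respect to `G : ℬ ⥤ 𝒞` is strongly cartesian with respect to `F ⋙ G`. -/
theorem result {𝒜 : Type u₁} [Category.{v₁} 𝒜] {ℬ : Type u₂} [Category.{v₂} ℬ] {𝒞 : Type u₃} [Category.{v₃} 𝒞] (F : 𝒜 ⥤ ℬ) (G : ℬ ⥤ 𝒞) {x y : 𝒜} (φ : x ⟶ y)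
    [F.IsStronglyCartesian (F.map φ) φ] [G.IsStronglyCartesian (G.map (F.map φ)) (F.map φ)] :
    (F ⋙ G).IsStronglyCartesian ((F ⋙ G).map φ) φ := by
  refine @Functor.IsStronglyCartesian.mk _ _ _ _ _ _ _ _ _ _ φ inferInstance ?_
  intro a' g φ' hφ'
  have hg : g ≫ G.map (F.map φ) = G.map (F.map φ') :=
    IsHomLift.eq_of_isHomLift (F ⋙ G) (g ≫ (F ⋙ G).map φ) φ'
  have : G.IsHomLift (g ≫ G.map (F.map φ)) (F.map φ') := by rw [hg]; infer_instance
  obtain ⟨h, ⟨hh, hhφ⟩, hu⟩ := Functor.IsStronglyCartesian.universal_property G (G.map (F.map φ))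
    (F.map φ) g _ rfl (F.map φ')
  have : F.IsHomLift (h ≫ F.map φ) φ' := by rw [hhφ]; infer_instance
  obtain ⟨χ, ⟨hχ, hχφ⟩, hv⟩ := Functor.IsStronglyCartesian.universal_property F (F.map φ) φ h _ rfl φ'
  refine ⟨χ, ⟨?_, hχφ⟩, ?_⟩
  · have e : h = F.map χ := IsHomLift.eq_of_isHomLift F h χ
    have e2 : g = G.map h := IsHomLift.eq_of_isHomLift G g h
    rw [e2, e]
    exact Functor.IsHomLift.map (p := F ⋙ G) χ
  · rintro ψ ⟨hψ, hψφ⟩
    have e : g = G.map (F.map ψ) := IsHomLift.eq_of_isHomLift (F ⋙ G) g ψ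
    apply hv
    refine ⟨?_, hψφ⟩
    have : F.map ψ = h := hu (F.map ψ) ⟨by rw [e]; infer_instance, by rw [← F.map_comp, hψφ]⟩
    rw [← this]; infer_instance

end Groth.Agent.S6414
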