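import Groth.Statements.S6415
import Groth.Agent.FibC.Basic
import Groth.Agent.S6414

set_option autoImplicit false
open CategoryTheory
universe v₁ u₁ v₂ u₂ v₃ u₃
open FibCat

namespace Groth.Agent.S6415

/-- The composite of two fibred functors is fibred. -/
theorem result {𝒜 : Type u₁} [Category.{v₁} 𝒜] {ℬ : Type u₂} [Category.{v₂} ℬ] {𝒞 : Type u₃} [Category.{v₃} 𝒞] (F : 𝒜 ⥤ ℬ) (G : ℬ ⥤ 𝒞) [F.IsFibered] [G.IsFibered] : (F ⋙ G).IsFibered := by
  refine Functor.IsFibered.of_exists_isStronglyCartesian (fun a R f => ?_)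
  obtain ⟨b, ψ, hψ⟩ := Groth.Agent.FibC.exists_sc_lift (p := G) (x := F.obj a) rfl f
  obtain ⟨c, φ, hφ⟩ := Groth.Agent.FibC.exists_sc_lift (p := F) (x := a) rfl ψ
  have hc := IsHomLift.domain_eq F ψ φ
  subst hc
  obtain rfl : ψ = F.map φ := IsHomLift.eq_of_isHomLift F ψ φ
  have : G.IsHomLift f (F.map φ) := inferInstance
  have : G.IsStronglyCartesian (G.map (F.map φ)) (F.map φ) :=
    (Groth.Agent.FibC.isStronglyCartesian_self_iff f (F.map φ)).1 hψ
  have h1 := Groth.Agent.S6414.result F G φ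
  have : (F ⋙ G).IsHomLift f φ := by
    obtain ⟨ha, hb, e⟩ := (Groth.Agent.FibC.isHomLift_map_iff f (F.map φ)).1 ‹_›
    exact IsHomLift.of_fac (F ⋙ G) f φ ha hb e
  exact ⟨c, φ, (Groth.Agent.FibC.isStronglyCartesian_self_iff f φ).2 h1⟩

end Groth.Agent.S6415
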