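import Groth.Statements.S6416
import Groth.Agent.FibC.Basic
import Groth.Agent.S6414

set_option autoImplicit false
open CategoryTheory
universe v₁ u₁ v₂ u₂ v₃ u₃
open FibCat

namespace Groth.Agent.S6416

/-- The composite of two functors fibred in groupoids is fibred in groupoids. -/
theorem result {𝒜 : Type u₁} [Category.{v₁} 𝒜] {ℬ : Type u₂} [Category.{v₂} ℬ] {𝒞 : Type u₃} [Category.{v₃} 𝒞] (F : 𝒜 ⥤ ℬ) (G : ℬ ⥤ 𝒞) (hF : FibCat.IsFibGrpd F) (hG : FibCat.IsFibGrpd G) : FibCat.IsFibGrpd (F ⋙ G) := by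
  constructor
  · intro x V f
    obtain ⟨b, ψ, hψ⟩ := hG.exists_lift (x := F.obj x) f
    obtain ⟨c, φ, hφ⟩ := hF.exists_lift (x := x) ψ
    have hc := IsHomLift.domain_eq F ψ φ
    subst hc
    obtain rfl : ψ = F.map φ := IsHomLift.eq_of_isHomLift F ψ φ
    obtain ⟨ha, hb, e⟩ := (Groth.Agent.FibC.isHomLift_map_iff f (F.map φ)).1 hψ
    exact ⟨c, φ, IsHomLift.of_fac (F ⋙ G) f φ ha hb e⟩
  · intro y x φ
    have := hF.isStronglyCartesian φ
    have := hG.isStronglyCartesian (F.map φ)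
    exact Groth.Agent.S6414.result F G φ

end Groth.Agent.S6416
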