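import Groth.Statements.S4428
import Groth.Agent.AmpleLib.CompLemma
import Groth.Agent.AmpleLib.Functorial
import Groth.Agent.Props.AmpleCoprod
import Groth.Agent.Props.AmpleTensor
import Groth.Agent.S2332

set_option autoImplicit false
universe u
open CategoryTheory CategoryTheory.Limits AlgebraicGeometry
open EGA2

namespace Groth.Agent.S4428

open Groth.Agent Groth.Agent.AmpleLib Groth.Agent.QCoh Groth.Agent.Props.GenTensor
open Groth.Agent.Props.GenProd Groth.Agent.Props.GenLocus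

variable {X Y : Scheme.{u}}

/-- `(A ⊗ Bᴺ) ⊗ (B ⊗ Aᴺ) ≅ (A ⊗ B)ᴺ⁺¹`. -/
lemma exists_iso_sym {A B : X.Modules} (hA : PicF.IsInvertible A) (hB : PicF.IsInvertible B) (N : ℕ) :
    Nonempty (CohB1.tensorMod (CohB1.tensorMod A (CohB1.tensorPow B N))
        (CohB1.tensorMod B (CohB1.tensorPow A N)) ≅
      CohB1.tensorPow (CohB1.tensorMod A B) (N + 1)) := by
  let ι := {p : Σ U : X.Opens, Γ(A, U) × Γ(B, U) // IsGen A p.1 p.2.1 ∧ IsGen B p.1 p.2.2}
  obtain ⟨φ, -⟩ := exists_iso_of_gen (fun i : ι ↦ i.1.1) (by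
      intro x _
      obtain ⟨U, e, hxU, he⟩ := exists_isGen hA x
      obtain ⟨U', e', hxU', he'⟩ := exists_isGen hB x
      exact TopologicalSpace.Opens.mem_iSup.mpr ⟨(⟨⟨U ⊓ U', res A inf_le_left e, res B inf_le_right e'⟩,
        he.restrict _, he'.restrict _⟩ : ι), hxU, hxU'⟩)
    (fun i ↦ tmul (tmul i.1.2.1 (pw B i.1.2.2 N)) (tmul i.1.2.2 (pw A i.1.2.1 N)))
    (fun i ↦ isGen_tmul (isGen_tmul i.2.1 (isGen_pw i.2.2 N)) (isGen_tmul i.2.2 (isGen_pw i.2.1 N)))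
    (fun i ↦ pw (CohB1.tensorMod A B) (tmul i.1.2.1 i.1.2.2) (N + 1))
    (fun i ↦ isGen_pw (isGen_tmul i.2.1 i.2.2) (N + 1)) (by
      rintro ⟨⟨U, e, e'⟩, he, he'⟩ ⟨⟨U', d, d'⟩, hd, hd'⟩ V hi hj w hw
      obtain ⟨u, hu, -⟩ := he.exists_eq hi (res A hj d)
      obtain ⟨u', hu', -⟩ := he'.exists_eq hi (res B hj d')
      dsimp only at *
      rw [res_tmul, res_tmul, res_tmul, hu, hu', res_pw_eq hi hj hu N, res_pw_eq hi hj hu' N] at hw
      simp only [tmul_smul_left, tmul_smul_right, smul_smul] at hw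
      rw [← res_tmul, ← res_tmul, ← res_tmul] at hw
      have hwu := (isGen_tmul (isGen_tmul he (isGen_pw he' N))
        (isGen_tmul he' (isGen_pw he N))).injective hi hw
      have ht : res _ hj (tmul d d') = (u * u') • res _ hi (tmul e e') := by
        rw [res_tmul, res_tmul, hu, hu', tmul_smul_left, tmul_smul_right, smul_smul]
      rw [res_pw_eq hi hj ht (N + 1), ← hwu]
      congr 1
      ring)
  exact ⟨φ⟩

lemma ampleOn_of_tensorPow {L : X.Modules} (hL : PicF.IsInvertible L) {n : ℕ} (hn : 0 < n)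
    {O : X.Opens} (h : AmpleOn (CohB1.tensorPow L n) O) : AmpleOn L O := by
  refine ⟨h.1, fun x hx ↦ ?_⟩
  obtain ⟨m, σ, hxσ, haff⟩ := h.2 x hx
  obtain ⟨φ, -⟩ := exists_iso_tensorPow_mul hL n (m + 1)
  obtain ⟨j, hj⟩ : ∃ j, n * (m + 1) = j + 1 := ⟨n * (m + 1) - 1,
    (Nat.succ_pred_eq_of_pos (Nat.mul_pos hn m.succ_pos)).symm⟩
  refine ⟨j, hj ▸ φ.hom.app _ σ, ?_⟩
  have e : locus (φ.hom.app _ σ) = locus σ := locus_app_iso φ σ
  generalize φ.hom.app _ σ = τ at e ⊢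
  generalize n * (m + 1) = N at hj τ
  subst hj
  rw [e]
  exact ⟨hxσ, haff⟩

/-- Relative ampleness is stable under base change, for any cartesian square. -/
lemma isRelAmple_of_isPullback {X' Y' : Scheme.{u}} {f : X ⟶ Y} {p : X' ⟶ X} {v : X' ⟶ Y'}
    {g : Y' ⟶ Y} (H : IsPullback p v f g) [QuasiCompact f] {L : X.Modules}
    (hL : RelAmple.IsRelAmple f L) :
    RelAmple.IsRelAmple v ((Scheme.Modules.pullback p).obj L) := by
  haveI : QuasiCompact v := MorphismProperty.of_isPullback H ‹_›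
  have h0 := S2332.result f g L hL
  obtain ⟨-, hi, h⟩ := isRelAmple_iff.mp h0
  have h1 : RelAmple.IsRelAmple v
      ((Scheme.Modules.pullback H.isoPullback.hom).obj
        ((Scheme.Modules.pullback (pullback.fst f g)).obj L)) := by
    rw [Props.AmpleCoprod.isRelAmple_pullback_iff hi H.isoPullback.hom (pullback.snd f g) v
      H.isoPullback_hom_snd]
    refine ⟨inferInstance, fun V ↦ ?_⟩
    rw [Scheme.Hom.opensRange_of_isIso, top_inf_eq]
    exact h V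
  have e := (Scheme.Modules.pullbackComp H.isoPullback.hom (pullback.fst f g)).app L ≪≫
    (Scheme.Modules.pullbackCongr H.isoPullback_hom_fst).app L
  rw [isRelAmple_iff] at h1 ⊢
  exact ⟨h1.1, PicCl.isInvertible_of_iso e h1.2.1, fun V ↦ ampleOn_of_iso e (h1.2.2 V)⟩

/-- One half of the external product. -/
lemma eventually_half {A₀ : Scheme.{u}} {Y₁₂ : Scheme.{u}} (u : X ⟶ A₀) (v : A₀ ⟶ Y₁₂) (g : X ⟶ Y₁₂)
    (hg : u ≫ v = g) [QuasiCompact u] [QuasiCompact v] {L P : X.Modules} {K : A₀.Modules}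
    (e : (Scheme.Modules.pullback u).obj K ≅ P)
    (hL : RelAmple.IsRelAmple u L) (hK : RelAmple.IsRelAmple v K) (V : Y₁₂.affineOpens) :
    ∃ N, ∀ n, N ≤ n → AmpleOn (CohB1.tensorMod L (CohB1.tensorPow P n)) (g ⁻¹ᵁ V.1) := by
  obtain ⟨-, hLi, hLV⟩ := isRelAmple_iff.mp hL
  obtain ⟨-, hKi, hKV⟩ := isRelAmple_iff.mp hK
  haveI := isSeparated_of_isRelAmple hL
  haveI := isSeparated_of_isRelAmple hK
  obtain ⟨N, hN⟩ := eventually_ampleOn_comp u hLi hKi hLV (hKV V)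
    (v.isQuasiSeparated_preimage V.2.isQuasiSeparated)
  subst hg
  exact ⟨N, fun n hn ↦ ampleOn_of_iso (PicGrp.tensorModIso (Iso.refl L) (tensorPowIso e n)) (hN n hn)⟩

/-- Let a₁ : Y₁ → S and a₂ : Y₂ → S be morphisms, f₁ : X₁ → Y₁ and f₂ : X₂ → Y₂ quasi-compact morphisms
(so X₁, X₂ are S-schemes through f_i ≫ a_i), and L₁, L₂ modules on X₁, X₂ ample relative to f₁, f₂.
Then the external tensor product p₁^*(L₁) ⊗ p₂^*(L₂) on X₁ ×_S X₂ (p₁, p₂ the projections) is ample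
relative to the product morphism f₁ ×_S f₂ : X₁ ×_S X₂ → Y₁ ×_S Y₂. -/
theorem result {X₁ X₂ Y₁ Y₂ S : Scheme.{u}} (a₁ : Y₁ ⟶ S) (a₂ : Y₂ ⟶ S)
    (f₁ : X₁ ⟶ Y₁) (f₂ : X₂ ⟶ Y₂) [QuasiCompact f₁] [QuasiCompact f₂] (L₁ : X₁.Modules) (L₂ : X₂.Modules)
    (hL₁ : RelAmple.IsRelAmple f₁ L₁) (hL₂ : RelAmple.IsRelAmple f₂ L₂) :
    RelAmple.IsRelAmple
      (pullback.map (f₁ ≫ a₁) (f₂ ≫ a₂) a₁ a₂ f₁ f₂ (𝟙 S) (Category.comp_id (f₁ ≫ a₁)) (Category.comp_id (f₂ ≫ a₂)))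
      (CohB1.tensorMod ((Scheme.Modules.pullback (pullback.fst (f₁ ≫ a₁) (f₂ ≫ a₂))).obj L₁)
        ((Scheme.Modules.pullback (pullback.snd (f₁ ≫ a₁) (f₂ ≫ a₂))).obj L₂)) := by
  have hi₁ := isInvertible_of_isRelAmple hL₁
  have hi₂ := isInvertible_of_isRelAmple hL₂
  let p₁ := pullback.fst (f₁ ≫ a₁) (f₂ ≫ a₂)
  let p₂ := pullback.snd (f₁ ≫ a₁) (f₂ ≫ a₂)
  let vA : pullback (f₁ ≫ a₁) a₂ ⟶ pullback a₁ a₂ :=
    pullback.lift (pullback.fst _ _ ≫ f₁) (pullback.snd _ _)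
      (by simp [pullback.condition])
  let uA : pullback (f₁ ≫ a₁) (f₂ ≫ a₂) ⟶ pullback (f₁ ≫ a₁) a₂ :=
    pullback.lift (pullback.fst _ _) (pullback.snd _ _ ≫ f₂)
      (by simp [pullback.condition])
  let vB : pullback a₁ (f₂ ≫ a₂) ⟶ pullback a₁ a₂ :=
    pullback.lift (pullback.fst _ _) (pullback.snd _ _ ≫ f₂)
      (by simp [pullback.condition])
  let uB : pullback (f₁ ≫ a₁) (f₂ ≫ a₂) ⟶ pullback a₁ (f₂ ≫ a₂) :=
    pullback.lift (pullback.fst _ _ ≫ f₁) (pullback.snd _ _)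
      (by simp [pullback.condition])
  have vA1 : vA ≫ pullback.fst a₁ a₂ = _ := pullback.lift_fst _ _ _
  have vA2 : vA ≫ pullback.snd a₁ a₂ = _ := pullback.lift_snd _ _ _
  have HvA : IsPullback (pullback.fst (f₁ ≫ a₁) a₂) vA f₁ (pullback.fst a₁ a₂) := by
    refine IsPullback.of_bot ?_ (by simp only [vA1, vA2, p₁, p₂]) (IsPullback.of_hasPullback a₁ a₂)
    simpa only [vA1, vA2, p₁, p₂] using IsPullback.of_hasPullback (f₁ ≫ a₁) a₂
  have uA1 : uA ≫ pullback.fst (f₁ ≫ a₁) a₂ = _ := pullback.lift_fst _ _ _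
  have uA2 : uA ≫ pullback.snd (f₁ ≫ a₁) a₂ = _ := pullback.lift_snd _ _ _
  have HuA : IsPullback p₂ uA f₂ (pullback.snd (f₁ ≫ a₁) a₂) := by
    refine IsPullback.of_bot ?_ (by simp only [uA1, uA2, p₁, p₂]) (IsPullback.of_hasPullback (f₁ ≫ a₁) a₂).flip
    simpa only [uA1, uA2, p₁, p₂] using (IsPullback.of_hasPullback (f₁ ≫ a₁) (f₂ ≫ a₂)).flip
  have vB1 : vB ≫ pullback.fst a₁ a₂ = _ := pullback.lift_fst _ _ _
  have vB2 : vB ≫ pullback.snd a₁ a₂ = _ := pullback.lift_snd _ _ _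
  have HvB : IsPullback (pullback.snd a₁ (f₂ ≫ a₂)) vB f₂ (pullback.snd a₁ a₂) := by
    refine IsPullback.of_bot ?_ (by simp only [vB1, vB2, p₁, p₂]) (IsPullback.of_hasPullback a₁ a₂).flip
    simpa only [vB1, vB2, p₁, p₂] using (IsPullback.of_hasPullback a₁ (f₂ ≫ a₂)).flip
  have uB1 : uB ≫ pullback.fst a₁ (f₂ ≫ a₂) = _ := pullback.lift_fst _ _ _
  have uB2 : uB ≫ pullback.snd a₁ (f₂ ≫ a₂) = _ := pullback.lift_snd _ _ _
  have HuB : IsPullback p₁ uB f₁ (pullback.fst a₁ (f₂ ≫ a₂)) := by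
    refine IsPullback.of_bot ?_ (by simp only [uB1, uB2, p₁, p₂]) (IsPullback.of_hasPullback a₁ (f₂ ≫ a₂))
    simpa only [uB1, uB2, p₁, p₂] using IsPullback.of_hasPullback (f₁ ≫ a₁) (f₂ ≫ a₂)
  haveI : QuasiCompact vA := MorphismProperty.of_isPullback HvA ‹_›
  haveI : QuasiCompact uA := MorphismProperty.of_isPullback HuA ‹_›
  haveI : QuasiCompact vB := MorphismProperty.of_isPullback HvB ‹_›
  haveI : QuasiCompact uB := MorphismProperty.of_isPullback HuB ‹_›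
  set g := pullback.map (f₁ ≫ a₁) (f₂ ≫ a₂) a₁ a₂ f₁ f₂ (𝟙 S) (Category.comp_id (f₁ ≫ a₁))
    (Category.comp_id (f₂ ≫ a₂))
  have hgA : uA ≫ vA = g := by
    apply pullback.hom_ext <;>
      simp only [Category.assoc, vA1, vA2, g, pullback.map, pullback.lift_fst, pullback.lift_snd,
        reassoc_of% uA1, uA2]
  have hgB : uB ≫ vB = g := by
    apply pullback.hom_ext <;>
      simp only [Category.assoc, vB1, vB2, g, pullback.map, pullback.lift_fst, pullback.lift_snd,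
        uB1, reassoc_of% uB2]
  haveI : QuasiCompact g := hgA ▸ inferInstance
  set A₁ := (Scheme.Modules.pullback p₁).obj L₁
  set A₂ := (Scheme.Modules.pullback p₂).obj L₂
  have hA₁ : PicF.IsInvertible A₁ := PicCl.isInvertible_pullback p₁ hi₁
  have hA₂ : PicF.IsInvertible A₂ := PicCl.isInvertible_pullback p₂ hi₂
  have hT := isInvertible_tensorMod hA₁ hA₂
  refine isRelAmple_iff.mpr ⟨inferInstance, hT, fun V ↦ ?_⟩
  obtain ⟨N, hN⟩ := eventually_half uA vA g hgA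
    (L := A₂) (P := A₁) (K := (Scheme.Modules.pullback (pullback.fst (f₁ ≫ a₁) a₂)).obj L₁)
    ((Scheme.Modules.pullbackComp uA _).app L₁ ≪≫
      (Scheme.Modules.pullbackCongr (show uA ≫ pullback.fst (f₁ ≫ a₁) a₂ = p₁ by simp only [uA1, uA2, p₁, p₂])).app L₁)
    (isRelAmple_of_isPullback HuA hL₂) (isRelAmple_of_isPullback HvA hL₁) V
  obtain ⟨M, hM⟩ := eventually_half uB vB g hgB
    (L := A₁) (P := A₂) (K := (Scheme.Modules.pullback (pullback.snd a₁ (f₂ ≫ a₂))).obj L₂)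
    ((Scheme.Modules.pullbackComp uB _).app L₂ ≪≫
      (Scheme.Modules.pullbackCongr (show uB ≫ pullback.snd a₁ (f₂ ≫ a₂) = p₂ by simp only [uB1, uB2, p₁, p₂])).app L₂)
    (isRelAmple_of_isPullback HuB hL₁) (isRelAmple_of_isPullback HvB hL₂) V
  obtain ⟨φ⟩ := exists_iso_sym hA₁ hA₂ (max N M)
  refine ampleOn_of_tensorPow hT (Nat.succ_pos _) (ampleOn_of_iso φ ?_)
  exact Props.AmpleTensor.ampleOn_of_frameMap2
    (isInvertible_tensorMod hA₁ (isInvertible_tensorPow hA₂ _))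
    (isInvertible_tensorMod hA₂ (isInvertible_tensorPow hA₁ _)) Nat.one_pos Nat.one_pos
    (Props.AmpleTensor.FrameMap2.tensor _ _) (hM _ (le_max_right N M)) (hN _ (le_max_left N M))

end Groth.Agent.S4428
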