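import Groth.Statements.S5134
import Groth.Agent.ConsPairLib.ModLoci
import Groth.Agent.Props.QFP
import Groth.Agent.LimTop.PullSec
import Mathlib
-- import your own Groth.Agent.* helpers here

set_option autoImplicit false
open CategoryTheory AlgebraicGeometry
universe u
open SGA1

namespace Groth.Agent.S5134

open TensorProduct in
/-- Finite presentation of modules descends along faithfully flat ring maps. -/
theorem finitePresentation_of_faithfullyFlat {R : Type u} [CommRing R] {M : Type u} [AddCommGroup M]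
    [Module R M] (T : Type u) [CommRing T] [Algebra R T] [Module.FaithfullyFlat R T]
    [Module.FinitePresentation T (T ⊗[R] M)] : Module.FinitePresentation R M := by
  haveI : Module.Finite R M := Module.Finite.of_finite_tensorProduct_of_faithfullyFlat T
  obtain ⟨n, π, hπ⟩ := Module.Finite.exists_fin' R M
  refine Module.finitePresentation_of_surjective π hπ ?_
  rw [← Module.Finite.iff_fg]
  let ι := AlgebraTensorModule.lTensor T T (LinearMap.ker π).subtype
  let ψ := AlgebraTensorModule.lTensor T T π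
  have hι : Function.Injective ι :=
    Module.Flat.lTensor_preserves_injective_linearMap _ (LinearMap.ker π).subtype_injective
  have hψ : Function.Surjective ψ := LinearMap.lTensor_surjective T hπ
  have hex : Function.Exact ι ψ := lTensor_exact T (LinearMap.exact_subtype_ker_map π) hπ
  have hfg : (LinearMap.ker ψ).FG := Module.FinitePresentation.fg_ker ψ hψ
  rw [LinearMap.exact_iff.mp hex] at hfg
  haveI : Module.Finite T (LinearMap.range ι) := Module.Finite.iff_fg.mpr hfg
  haveI : Module.Finite T (T ⊗[R] LinearMap.ker π) :=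
    Module.Finite.equiv (LinearEquiv.ofInjective ι hι).symm
  exact Module.Finite.of_finite_tensorProduct_of_faithfullyFlat T

open TensorProduct in
set_option maxHeartbeats 800000 in
set_option backward.isDefEq.respectTransparency false in
/-- For g : S' ⟶ S flat, surjective and quasi-compact and F a quasi-coherent module on S, if the
pullback of F to S' is of finite presentation then F is of finite presentation. -/
theorem result {S S' : Scheme.{u}} (g : S' ⟶ S) [Flat g] [Surjective g] [QuasiCompact g]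
    (F : S.Modules) (hF : Coh.IsQCoh F)
    (h : CohB1.IsFP ((Scheme.Modules.pullback g).obj F)) : CohB1.IsFP F := by
  haveI : F.IsQuasicoherent := hF
  refine Groth.Agent.Props.QFP.isFP_of_forall_exists F fun x => ?_
  obtain ⟨_, ⟨W, hW, rfl⟩, hxW, -⟩ :=
    S.isBasis_affineOpens.exists_subset_of_mem_open (Set.mem_univ x) isOpen_univ
  replace hW : IsAffineOpen W := hW
  refine ⟨W, hW, hxW, ?_⟩
  haveI : CompactSpace (g ⁻¹ᵁ W).toScheme :=
    isCompact_iff_compactSpace.mp (g.isCompact_preimage hW.isCompact)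
  let 𝒰 := (g ⁻¹ᵁ W).toScheme.affineCover.finiteSubcover
  let P : Scheme.{u} := ∐ 𝒰.X
  let q : P ⟶ S' := Limits.Sigma.desc fun i => 𝒰.f i ≫ (g ⁻¹ᵁ W).ι
  haveI : Flat q := IsZariskiLocalAtSource.sigmaDesc fun i => inferInstance
  let h' : P ⟶ S := q ≫ g
  have hrange : ∀ z ∈ W, ∃ y : P, h'.base y = z := by
    intro z hz
    obtain ⟨x', rfl⟩ := g.surjective z
    let x'' : (g ⁻¹ᵁ W).toScheme := ⟨x', hz⟩
    obtain ⟨i, y, hy⟩ := 𝒰.exists_eq x''
    refine ⟨(Limits.Sigma.ι 𝒰.X i).base y, ?_⟩
    rw [← Scheme.Hom.comp_apply]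
    have : Limits.Sigma.ι 𝒰.X i ≫ h' = 𝒰.f i ≫ (g ⁻¹ᵁ W).ι ≫ g := by
      simp [h', q]
    rw [this, Scheme.Hom.comp_apply, Scheme.Hom.comp_apply, hy]
    rfl
  have hle : (⊤ : P.Opens) ≤ h' ⁻¹ᵁ W := by
    intro y _
    obtain ⟨i, z, rfl⟩ := (sigmaOpenCover 𝒰.X).exists_eq y
    show h'.base _ ∈ W
    rw [← Scheme.Hom.comp_apply]
    have : (sigmaOpenCover 𝒰.X).f i ≫ h' = 𝒰.f i ≫ (g ⁻¹ᵁ W).ι ≫ g :=
      Limits.Sigma.ι_desc_assoc _ _ _ |>.trans (Category.assoc _ _ _)
    rw [this]
    exact ((𝒰.f i).base z).2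
  have hP : IsAffineOpen (⊤ : P.Opens) := isAffineOpen_top P
  -- FP of sections on P
  haveI hq1 := Groth.Agent.QCoh.isQuasicoherent_pullback g F
  haveI : Coh.IsQCoh ((Scheme.Modules.pullback g).obj F) := hq1
  obtain ⟨hNqc, hN⟩ := Groth.Agent.ConsPairLib.isFP_pullback q _ h
  haveI : SheafOfModules.IsFinitePresentation.{u}
      ((Scheme.Modules.pullback q).obj ((Scheme.Modules.pullback g).obj F)) := hN
  have hfp1 := Groth.Agent.Props.QFP.finitePresentation_sections_of_isFP
    ((Scheme.Modules.pullback q).obj ((Scheme.Modules.pullback g).obj F)) hP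
  let e := (Scheme.Modules.pullbackComp q g).app F
  let el : Γ((Scheme.Modules.pullback q).obj ((Scheme.Modules.pullback g).obj F), (⊤ : P.Opens))
      ≃ₗ[Γ(P, ⊤)] Γ((Scheme.Modules.pullback h').obj F, (⊤ : P.Opens)) :=
    LinearEquiv.ofLinear
      { toFun := fun x => e.hom.app ⊤ x
        map_add' := map_add _
        map_smul' := fun r x => Scheme.Modules.Hom.app_smul e.hom r x }
      { toFun := fun x => e.inv.app ⊤ x
        map_add' := map_add _
        map_smul' := fun r x => Scheme.Modules.Hom.app_smul e.inv r x }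
      (LinearMap.ext fun x => show (e.inv ≫ e.hom).app ⊤ x = x by rw [e.inv_hom_id]; rfl)
      (LinearMap.ext fun x => show (e.hom ≫ e.inv).app ⊤ x = x by rw [e.hom_inv_id]; rfl)
  haveI hfp2 : Module.FinitePresentation Γ(P, ⊤) Γ((Scheme.Modules.pullback h').obj F, (⊤ : P.Opens)) :=
    .of_equiv el
  -- base change
  letI := (h'.appLE W ⊤ hle).hom.toAlgebra
  letI := Groth.Agent.LimTop.secModule h' F hle
  haveI : IsScalarTower Γ(S, W) Γ(P, ⊤) Γ((Scheme.Modules.pullback h').obj F, (⊤ : P.Opens)) :=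
    IsScalarTower.of_algebraMap_smul fun _ _ => rfl
  have hbc := Groth.Agent.LimTop.isBaseChange_unitSec h' F hle hW hP
  haveI : Module.FaithfullyFlat Γ(S, W) Γ(P, ⊤) := by
    rw [← RingHom.faithfullyFlat_algebraMap_iff, RingHom.FaithfullyFlat.iff_flat_and_comap_surjective]
    refine ⟨HasRingHomProperty.appLE @Flat h' inferInstance ⟨W, hW⟩ ⟨⊤, hP⟩ hle, fun p => ?_⟩
    have hz : hW.fromSpec.base p ∈ W := by
      have : hW.fromSpec.base p ∈ Set.range hW.fromSpec.base := ⟨p, rfl⟩
      rwa [hW.range_fromSpec] at this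
    obtain ⟨y, hy⟩ := hrange _ hz
    have hy' : y ∈ Set.range hP.fromSpec.base := by
      rw [hP.range_fromSpec]; trivial
    obtain ⟨r, rfl⟩ := hy'
    refine ⟨r, hW.fromSpec.isOpenEmbedding.injective ?_⟩
    have := congrArg (fun m : Spec Γ(P, ⊤) ⟶ S => m.base r) (hW.SpecMap_appLE_fromSpec h' hP hle)
    exact this.trans hy
  haveI : Module.FinitePresentation Γ(P, ⊤) (Γ(P, ⊤) ⊗[Γ(S, W)] Γ(F, W)) := .of_equiv hbc.equiv.symm
  exact finitePresentation_of_faithfullyFlat Γ(P, ⊤)

end Groth.Agent.S5134
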