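import Groth.Statements.S9805
import Groth.Agent.Props.QProj

set_option autoImplicit false
universe u
open CategoryTheory AlgebraicGeometry TopologicalSpace
open Props

namespace Groth.Agent.S9805

/-- A quasi-coherent module on a scheme is flat and of finite presentation if and only if it is finite
locally free. -/
theorem result (X : Scheme.{u}) (M : X.Modules) (hM : Coh.IsQCoh M) :
    (FlatMod.IsFlat M ∧ CohB1.IsFP M) ↔ FlatMod.IsFinLocFree M := by
  have : M.IsQuasicoherent := hM
  constructor
  · rintro ⟨hflat, hfp⟩ x
    obtain ⟨U, hU, hx, -⟩ := exists_isAffineOpen_mem_and_subset (X := X) (Opens.mem_top x)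
    have h1 := Groth.Agent.Props.QFP.finitePresentation_sections_of_isFP M hU
    have : Module.Flat (X.presheaf.stalk x) (M.presheaf.stalk x) := hflat x
    have : Module.Finite (X.presheaf.stalk x) (M.presheaf.stalk x) :=
      Groth.Agent.Props.QProj.finite_stalk M hU hx
    exact Groth.Agent.Props.QProj.exists_free_nhd M hU hx h1 Module.free_of_flat_of_isLocalRing
  · intro h
    refine ⟨fun x => ?_, Groth.Agent.Props.QProj.isFP M h⟩
    have := (Groth.Agent.Props.QProj.free_stalk M h x).1
    exact (inferInstance : Module.Flat (X.presheaf.stalk x) (M.presheaf.stalk x))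

end Groth.Agent.S9805
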