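import Groth.Statements.S1177
import Groth.Agent.S9805
import Groth.Agent.S5134
import Groth.Agent.FDesc.Stalk

set_option autoImplicit false
open CategoryTheory CategoryTheory.Limits AlgebraicGeometry Opposite
universe u
open Desc

namespace Groth.Agent.S1177

/-- Let g : X' ⟶ X be quasi-compact, flat and surjective and F a quasi-coherent O_X-module. If the
pullback g^*F is a finite locally free O_{X'}-module, then F is finite locally free. -/
theorem result {X X' : Scheme.{u}} (g : X' ⟶ X) [QuasiCompact g] [Flat g] [Surjective g]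
    (F : X.Modules) [F.IsQuasicoherent] (h : FlatMod.IsFinLocFree ((Scheme.Modules.pullback g).obj F)) :
    FlatMod.IsFinLocFree F := by
  have hqc : Coh.IsQCoh F := inferInstanceAs (F.IsQuasicoherent)
  have hP : ((Scheme.Modules.pullback g).obj F).IsQuasicoherent := inferInstance
  obtain ⟨hflat, hfp⟩ := (S9805.result _ ((Scheme.Modules.pullback g).obj F) hP).2 h
  refine (S9805.result _ F hqc).1 ⟨fun x => ?_, S5134.result g F hqc hfp⟩
  obtain ⟨x', rfl⟩ := g.surjective x
  let iBC : Algebra (X.presheaf.stalk (g x')) (X'.presheaf.stalk x') := (g.stalkMap x').hom.toAlgebra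
  have : Module.FaithfullyFlat (X.presheaf.stalk (g x')) (X'.presheaf.stalk x') :=
    Groth.Agent.FDesc.Stalk.faithfullyFlat_stalkMap g x' (Flat.stalkMap g x')
  obtain ⟨e, -⟩ := Groth.Agent.FDesc.Stalk.exists_stalk_equiv g F x'
  have : Module.Flat (X'.presheaf.stalk x') (((Scheme.Modules.pullback g).obj F).presheaf.stalk x') := hflat x'
  have := Module.Flat.of_linearEquiv e
  exact Module.Flat.of_flat_tensorProduct (X.presheaf.stalk (g x')) _ (X'.presheaf.stalk x')

end Groth.Agent.S1177
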