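import Groth.Statements.S1178
import Groth.Agent.Props.QFP
import Groth.Agent.QCoh.Qcqs
import Mathlib.RingTheory.Finiteness.ModuleFinitePresentation

set_option linter.style.haveILetI false

set_option autoImplicit false
open CategoryTheory CategoryTheory.Limits AlgebraicGeometry Opposite
universe u
open Desc

namespace Groth.Agent.S1178

open Groth.Agent CategoryTheory AlgebraicGeometry

/-- A finite algebra: finite presentation over the base descends to the algebra. -/
theorem fp_of_restrictScalars (A B N : Type u) [CommRing A] [CommRing B] [Algebra A B] [Module.Finite A B]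
    [AddCommGroup N] [Module A N] [Module B N] [IsScalarTower A B N] [Module.FinitePresentation A N] :
    Module.FinitePresentation B N := by
  haveI : Module.Finite B N := Module.Finite.of_restrictScalars_finite A B N
  obtain ⟨n, π, hπ⟩ := Module.Finite.exists_fin' B N
  refine Module.finitePresentation_of_surjective π hπ ?_
  have h : (LinearMap.ker (π.restrictScalars A)).FG :=
    Module.FinitePresentation.fg_ker (π.restrictScalars A) hπ
  rw [LinearMap.ker_restrictScalars] at h
  exact Submodule.FG.of_restrictScalars A h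

/-- Let f : X ⟶ Y be finite and locally of finite presentation and F a quasi-coherent O_X-module. Then F
is finitely presented exactly when its pushforward f_*F is a finitely presented O_Y-module. -/
theorem result {X Y : Scheme.{u}} (f : X ⟶ Y) [IsFinite f] [LocallyOfFinitePresentation f]
    (F : X.Modules) [F.IsQuasicoherent] :
    CohB1.IsFP F ↔ CohB1.IsFP ((Scheme.Modules.pushforward f).obj F) := by
  haveI := QCoh.isQuasicoherent_pushforward f F
  rw [show CohB1.IsFP F ↔ _ from Props.QFP.isFP_iff F,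
    show CohB1.IsFP ((Scheme.Modules.pushforward f).obj F) ↔ _ from Props.QFP.isFP_iff _]
  have key : ∀ V : Y.Opens, IsAffineOpen V → (Module.FinitePresentation Γ(X, f ⁻¹ᵁ V) Γ(F, f ⁻¹ᵁ V) ↔
      Module.FinitePresentation Γ(Y, V) Γ((Scheme.Modules.pushforward f).obj F, V)) := by
    intro V hV
    letI : Algebra Γ(Y, V) Γ(X, f ⁻¹ᵁ V) := (f.app V).hom.toAlgebra
    haveI : Module.Finite Γ(Y, V) Γ(X, f ⁻¹ᵁ V) := f.finite_app V hV
    haveI : Algebra.FinitePresentation Γ(Y, V) Γ(X, f ⁻¹ᵁ V) := by
      have := HasRingHomProperty.appLE @LocallyOfFinitePresentation f inferInstance ⟨V, hV⟩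
        ⟨f ⁻¹ᵁ V, hV.preimage f⟩ le_rfl
      rw [← Scheme.Hom.app_eq_appLE] at this
      exact this
    haveI : Module.FinitePresentation Γ(Y, V) Γ(X, f ⁻¹ᵁ V) :=
      Module.FinitePresentation.of_finite_of_finitePresentation _ _
    letI : Module Γ(Y, V) Γ(F, f ⁻¹ᵁ V) :=
      Module.compHom _ (algebraMap Γ(Y, V) Γ(X, f ⁻¹ᵁ V))
    haveI : IsScalarTower Γ(Y, V) Γ(X, f ⁻¹ᵁ V) Γ(F, f ⁻¹ᵁ V) :=
      IsScalarTower.of_algebraMap_smul fun _ _ => rfl
    let e₀ : Γ((Scheme.Modules.pushforward f).obj F, V) ≃+ Γ(F, f ⁻¹ᵁ V) :=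
      { toFun := fun x => QCoh.unPush f F x
        invFun := fun x => x
        left_inv := fun _ => rfl
        right_inv := fun _ => rfl
        map_add' := fun _ _ => rfl }
    let e : Γ((Scheme.Modules.pushforward f).obj F, V) ≃ₗ[Γ(Y, V)] Γ(F, f ⁻¹ᵁ V) :=
      e₀.toLinearEquiv fun r x => QCoh.push_smul f F r x
    constructor
    · intro h
      haveI : Module.FinitePresentation Γ(Y, V) Γ(F, f ⁻¹ᵁ V) :=
        Module.FinitePresentation.trans Γ(Y, V) Γ(F, f ⁻¹ᵁ V) Γ(X, f ⁻¹ᵁ V)
      exact Module.FinitePresentation.of_equiv e.symm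
    · intro h
      haveI : Module.FinitePresentation Γ(Y, V) Γ(F, f ⁻¹ᵁ V) := Module.FinitePresentation.of_equiv e
      exact fp_of_restrictScalars Γ(Y, V) Γ(X, f ⁻¹ᵁ V) Γ(F, f ⁻¹ᵁ V)
  refine ⟨fun h V hV => (key V hV).mp (h _ (hV.preimage f)), fun h => ?_⟩
  refine (Props.QFP.isFP_iff F).mp (Props.QFP.isFP_of_forall_exists F fun x => ?_)
  obtain ⟨V, hV, hxV, -⟩ := exists_isAffineOpen_mem_and_subset (X := Y) (x := f x) (U := ⊤) trivial
  exact ⟨f ⁻¹ᵁ V, hV.preimage f, hxV, (key V hV).mpr (h V hV)⟩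

end Groth.Agent.S1178
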