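import Groth.Statements.S1181
import Groth.Agent.HilbD.Descent
import Groth.Agent.FpqcDesc.Props
import Groth.Agent.AlgSpCov.SchemeDescent

set_option autoImplicit false
open CategoryTheory CategoryTheory.Limits AlgebraicGeometry
universe u
open HilbD

namespace Groth.Agent.S1181

/-- Let f : X ⟶ S, d a natural number, T an S-scheme and g : T' ⟶ T quasi-compact, flat and surjective,
viewed over S. Let Z' be a closed subscheme of X ×_S T' finite locally free of degree d over T'
whose two pullbacks to X ×_S (T' ×_T T') coincide. Then there is exactly one closed subscheme of X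
×_S T, finite locally free of degree d over T, pulling back to Z'. -/
theorem result {X S : Scheme.{u}} (f : X ⟶ S) (d : ℕ) (T : Over S) {T' : Scheme.{u}} (g : T' ⟶ T.left)
    [QuasiCompact g] [Flat g] [Surjective g] (Z' : HilbD.Obj f d (HilbD.coverOver T g))
    (hZ' : HilbD.pull f (HilbD.overlapFst T g) Z'.1 = HilbD.pull f (HilbD.overlapSnd T g) Z'.1) :
    ∃! I : (PicF.XT f T).IdealSheafData, Mor2.IsFinLocFreeOfDeg d (I.subschemeι ≫ PicF.XTproj f T) ∧
      HilbD.pull f (HilbD.coverHom T g) I = Z'.1 := by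
  set h := PicF.XTmap f (HilbD.coverHom T g) with hdef
  have hbase := Groth.Agent.HilbD.isPullback_XTmap f (HilbD.coverHom T g)
  haveI : Flat h := MorphismProperty.of_isPullback (P := @Flat) hbase.flip ‹_›
  haveI : Surjective h := MorphismProperty.of_isPullback (P := @Surjective) hbase.flip ‹_›
  haveI : QuasiCompact h := MorphismProperty.of_isPullback (P := @QuasiCompact) hbase.flip ‹_›
  have hR : IsPullback (PicF.XTmap f (HilbD.overlapFst T g)) (PicF.XTmap f (HilbD.overlapSnd T g)) h h := by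
    refine IsPullback.of_bot ?_ ?_ hbase
    · have h1 := (Groth.Agent.HilbD.isPullback_XTmap f (HilbD.overlapFst T g)).paste_vert (IsPullback.of_hasPullback g g)
      rw [hdef, Groth.Agent.HilbD.XTmap_proj, Groth.Agent.HilbD.XTmap_proj]
      exact h1
    · rw [hdef, ← Groth.Agent.HilbD.XTmap_comp, ← Groth.Agent.HilbD.XTmap_comp]
      congr 1
      exact Over.OverMorphism.ext pullback.condition
  have he : Z'.1.comap (PicF.XTmap f (HilbD.overlapFst T g)) = Z'.1.comap (PicF.XTmap f (HilbD.overlapSnd T g)) := by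
    rwa [Groth.Agent.HilbD.pull_eq_comap, Groth.Agent.HilbD.pull_eq_comap] at hZ'
  have hpull : HilbD.pull f (HilbD.coverHom T g) (Z'.1.map h) = Z'.1 := by
    rw [Groth.Agent.HilbD.pull_eq_comap]
    exact Groth.Agent.HilbD.comap_map_of_descent h Z'.1 hR he
  refine ⟨Z'.1.map h, ⟨?_, hpull⟩, fun I hI => ?_⟩
  · obtain ⟨ψ, -, hsq⟩ := Groth.Agent.HilbD.exists_isPullback_pull f (HilbD.coverHom T g) (Z'.1.map h)
    obtain ⟨⟨h1, h2, h3⟩, h4⟩ := Z'.2
    rw [← hpull] at h1 h2 h3 h4
    have hQ : Groth.Agent.FpqcDesc.FPQC (HilbD.coverHom T g).left :=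
      ⟨⟨(inferInstance : Surjective g), (inferInstance : Flat g)⟩, (inferInstance : QuasiCompact g)⟩
    haveI := Groth.Agent.FpqcDesc.descendsAlong_isFinite.{u}
    haveI hfin : IsFinite ((Z'.1.map h).subschemeι ≫ PicF.XTproj f T) :=
      MorphismProperty.of_isPullback_of_descendsAlong (P := @IsFinite) (Q := Groth.Agent.FpqcDesc.FPQC) hsq.flip hQ h1
    haveI hflat : Flat ((Z'.1.map h).subschemeι ≫ PicF.XTproj f T) :=
      MorphismProperty.of_isPullback_of_descendsAlong (P := @Flat) (Q := Groth.Agent.AlgSpCov.Fpqc) hsq.flip hQ h2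
    have hlfp : LocallyOfFinitePresentation ((Z'.1.map h).subschemeι ≫ PicF.XTproj f T) :=
      MorphismProperty.of_isPullback_of_descendsAlong (P := @LocallyOfFinitePresentation)
        (Q := @Surjective ⊓ @Flat ⊓ @QuasiCompact) hsq.flip hQ h3
    refine ⟨⟨hfin, hflat, hlfp⟩, fun y => ?_⟩
    obtain ⟨y', rfl⟩ := g.surjective y
    exact ((Scheme.Hom.finrank_of_isPullback _ _ _ _ hsq y').symm.trans (h4 y'))
  · rw [← Groth.Agent.HilbD.map_comap_of_flat h I, ← Groth.Agent.HilbD.pull_eq_comap, hI.2]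

end Groth.Agent.S1181
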