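import Groth.Statements.S1183
import Groth.Agent.Omega.SmoothSerre
-- import your own Groth.Agent.* helpers here

set_option autoImplicit false
universe u
open Desc

namespace Groth.Agent.S1183

/-- Let A → B be a smooth ring map of Noetherian rings and k a natural number. If A satisfies (R_k) then
so does B; and if moreover A → B is faithfully flat and B satisfies (R_k), then A does. -/
theorem result (A B : Type u) [CommRing A] [CommRing B] [IsNoetherianRing A] [IsNoetherianRing B]
    [Algebra A B] [Algebra.Smooth A B] (k : ℕ) :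
    (LocCoh.HasRk k A → LocCoh.HasRk k B) ∧
    (Module.FaithfullyFlat A B → LocCoh.HasRk k B → LocCoh.HasRk k A) := by
  have hA : ∀ (R : Type u) [CommRing R], LocCoh.HasRk k R ↔ ∀ (p : Ideal R) [p.IsPrime], EGA4.HasRkAt k R p := by
    intro R _
    refine ⟨fun h p _ => (EGA4Lib.hasRkAt_iff k p).2 fun q _ hq => h q.asIdeal hq, fun h p _ hp => ?_⟩
    exact (EGA4Lib.hasRkAt_iff k p).1 (h p) ⟨p, inferInstance⟩ le_rfl hp
  constructor
  · intro h
    exact (hA B).2 fun q _ => (Omega.SmoothSerre.hasRkAt_iff A k q).2 ((hA A).1 h _)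
  · intro hff h
    refine (hA A).2 fun p _ => ?_
    obtain ⟨⟨q, hq⟩, hqp⟩ := PrimeSpectrum.comap_surjective_of_faithfullyFlat (A := A) (B := B) ⟨p, ‹_›⟩
    obtain rfl : q.comap (algebraMap A B) = p := congrArg PrimeSpectrum.asIdeal hqp
    exact (Omega.SmoothSerre.hasRkAt_iff A k q).1 ((hA B).1 h q)

end Groth.Agent.S1183
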