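import Groth.Statements.S1944
import Groth.Agent.CycLib.PullSurj

set_option autoImplicit false
universe u
open CategoryTheory AlgebraicGeometry
open Cyc

namespace Groth.Agent.S1944

open Groth.Agent.CycLib

/-- Over an affine open of the base a locally trivial family is `Spec` of a polynomial ring. -/
theorem exists_chart {X Y : Scheme.{u}} (f : X ⟶ Y) (r : ℕ) (U : Y.Opens)
    (e : (↑(f ⁻¹ᵁ U) : Scheme.{u}) ≅ 𝔸(ULift.{u} (Fin r); (↑U : Scheme.{u})))
    (he : e.hom ≫ (𝔸(ULift.{u} (Fin r); (↑U : Scheme.{u})) ↘ (↑U : Scheme.{u})) = f ∣_ U)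
    (V : Y.Opens) (hV : IsAffineOpen V) (hVU : V ≤ U) :
    ∃ (J : Spec (CommRingCat.of (MvPolynomial (ULift.{u} (Fin r)) Γ((V : Scheme.{u}), ⊤))) ⟶ X)
      (c : Spec (CommRingCat.of Γ((V : Scheme.{u}), ⊤)) ⟶ Y),
      IsOpenImmersion J ∧ IsOpenImmersion c ∧ Set.range c = (V : Set Y) ∧
      J ≫ f = algMap Γ((V : Scheme.{u}), ⊤) (MvPolynomial (ULift.{u} (Fin r)) Γ((V : Scheme.{u}), ⊤)) ≫ c ∧
      ∀ x, f x ∈ V → x ∈ Set.range J := by
  haveI : IsAffine (V : Scheme.{u}) := hV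
  let iV := Y.homOfLE hVU
  haveI : IsOpenImmersion (AffineSpace.map (ULift.{u} (Fin r)) iV) :=
    MorphismProperty.of_isPullback (P := @IsOpenImmersion) (AffineSpace.isPullback_map iV).flip inferInstance
  let j := AffineSpace.map (ULift.{u} (Fin r)) iV ≫ e.inv ≫ (f ⁻¹ᵁ U).ι
  have hj : j ≫ f = (𝔸(ULift.{u} (Fin r); (V : Scheme.{u})) ↘ (V : Scheme.{u})) ≫ V.ι := by
    rw [Category.assoc, Category.assoc, ← morphismRestrict_ι, ← he, Category.assoc, Iso.inv_hom_id_assoc,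
      AffineSpace.map_over_assoc, Y.homOfLE_ι]
  let c := (V : Scheme.{u}).isoSpec.inv ≫ V.ι
  refine ⟨(AffineSpace.isoOfIsAffine (ULift.{u} (Fin r)) (V : Scheme.{u})).inv ≫ j, c, inferInstance,
    inferInstance, ?_, ?_, fun x hx => ?_⟩
  · show Set.range ((V : Scheme.{u}).isoSpec.inv ≫ V.ι) = _
    rw [Scheme.Hom.comp_base, TopCat.coe_comp, Set.range_comp,
      Set.range_eq_univ.2 ((V : Scheme.{u}).isoSpec.inv.surjective), Set.image_univ, Scheme.Opens.range_ι]
  · rw [Category.assoc, hj, AffineSpace.isoOfIsAffine_inv_over_assoc]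
    rfl
  · let v : (V : Scheme.{u}) := ⟨f x, hx⟩
    let z := e.hom ⟨x, hVU hx⟩
    have hz : (𝔸(ULift.{u} (Fin r); (↑U : Scheme.{u})) ↘ (↑U : Scheme.{u})) z = iV v := by
      show (e.hom ≫ (𝔸(ULift.{u} (Fin r); (↑U : Scheme.{u})) ↘ (↑U : Scheme.{u}))) ⟨x, hVU hx⟩ = _
      rw [he]
      refine U.ι.isOpenEmbedding.injective ?_
      show (f ∣_ U ≫ U.ι) ⟨x, hVU hx⟩ = (iV ≫ U.ι) v
      rw [morphismRestrict_ι, Y.homOfLE_ι]
      rfl
    obtain ⟨q, hq, -⟩ := Scheme.Pullback.exists_preimage_pullback (f := 𝔸(ULift.{u} (Fin r); (↑U : Scheme.{u})) ↘ (↑U : Scheme.{u}))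
      (g := iV) z v hz
    let w := (AffineSpace.isPullback_map (n := ULift.{u} (Fin r)) iV).isoPullback.inv q
    refine ⟨(AffineSpace.isoOfIsAffine (ULift.{u} (Fin r)) (V : Scheme.{u})).hom w, ?_⟩
    show ((AffineSpace.isoOfIsAffine _ _).hom ≫ (AffineSpace.isoOfIsAffine _ _).inv ≫ j) w = x
    rw [Iso.hom_inv_id_assoc]
    have hw : AffineSpace.map (ULift.{u} (Fin r)) iV w = z := by
      show ((AffineSpace.isPullback_map (n := ULift.{u} (Fin r)) iV).isoPullback.inv ≫ AffineSpace.map _ iV) q = z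
      rw [IsPullback.isoPullback_inv_fst]
      exact hq
    show (f ⁻¹ᵁ U).ι (e.inv (AffineSpace.map (ULift.{u} (Fin r)) iV w)) = x
    rw [hw]
    show (f ⁻¹ᵁ U).ι ((e.hom ≫ e.inv) ⟨x, hVU hx⟩) = x
    rw [Iso.hom_inv_id]
    rfl

/-- Let f : X → Y be flat, locally of finite type, of relative dimension r, such that every point of Y
has an open neighbourhood U over which f⁻¹(U) → U is isomorphic to affine r-space 𝔸^r_U → U. Then
f^* : CH_k(Y) → CH_{k+r}(X) is surjective: every (k + r)-cycle on X is rationally equivalent to the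
flat pullback (taken coefficientwise) of some k-cycle on Y. A pair (X, δ) with Cyc.IsSetup plays the
role of a scheme locally of finite type over a fixed base with a dimension function (X locally
Noetherian with universally catenary local rings, δ a dimension function), and Cyc.DeltaCompat
records that the dimension function upstairs is the induced one. -/
theorem result (X Y : Scheme.{u}) (δX : X → ℤ) (δY : Y → ℤ) (hX : Cyc.IsSetup X δX) (hY : Cyc.IsSetup Y δY) (f : X ⟶ Y) [Flat f] [LocallyOfFiniteType f] (r : ℕ) (hr : Cyc.HasRelDim f r) (hδ : Cyc.DeltaCompat f δX δY) (hloc : ∀ y : Y, ∃ U : Y.Opens, y ∈ U ∧ ∃ e : (↑(f ⁻¹ᵁ U) : Scheme.{u}) ≅ 𝔸(ULift.{u} (Fin r); (↑U : Scheme.{u})), e.hom ≫ (𝔸(ULift.{u} (Fin r); (↑U : Scheme.{u})) ↘ (↑U : Scheme.{u})) = f ∣_ U) (k : ℤ) (β : AlgebraicCycle X ℤ) (hβ : β ∈ Cyc.Zk X δX (k + r)) : ∃ (α : AlgebraicCycle Y ℤ) (β' : AlgebraicCycle X ℤ), α ∈ Cyc.Zk Y δY k ∧ ⇑β' = Cyc.pullFun f δX δY r ⇑α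 ∧ Cyc.RatEquiv δX (k + r) β β' := by
  haveI := hX.1
  haveI := hY.1
  haveI : QuasiCompact f := by
    choose U hyU e he using hloc
    haveI : IsAffineHom f := by
      choose V hV hyV hVU using fun y => exists_isAffineOpen_mem_and_subset (x := y) (U := U y) (hyU y)
      refine isAffineHom_of_forall_exists_isAffineOpen f fun y => ⟨V y, hyV y, hV y, ?_⟩
      haveI : IsAffineHom (f ∣_ U y) := by
        rw [← he y]
        infer_instance
      have h1 := ((hV y).preimage_of_isOpenImmersion (U y).ι (by rw [Scheme.Opens.opensRange_ι]; exact hVU y)).preimage (f ∣_ U y)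
      rw [← Scheme.Hom.comp_preimage, morphismRestrict_ι, Scheme.Hom.comp_preimage] at h1
      have h2 := h1.image_of_isOpenImmersion (f ⁻¹ᵁ U y).ι
      rwa [Scheme.Hom.image_preimage_eq_opensRange_inf, Scheme.Opens.opensRange_ι,
        inf_eq_right.2 (fun x hx => hVU y hx : f ⁻¹ᵁ V y ≤ f ⁻¹ᵁ U y)] at h2
    infer_instance
  have key : ∀ ξ, (δX ξ < δY (f ξ) + r → Killed f δX (δX ξ) (f ξ) (pointFun ξ)) ∧
      (δX ξ = δY (f ξ) + r → fibLen f ξ = 1 ∧ ∀ x', f x' = f ξ → δX x' = δX ξ → x' = ξ) := by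
    intro ξ
    obtain ⟨U, hyU, e, he⟩ := hloc (f ξ)
    obtain ⟨V, hV, hξV, hVU⟩ := exists_isAffineOpen_mem_and_subset (x := f ξ) (U := U) hyU
    obtain ⟨J, c, hJ, hc, hrange, hsq, hJrange⟩ := exists_chart f r U e he V hV hVU
    haveI : IsAffine (V : Scheme.{u}) := hV
    haveI : IsLocallyNoetherian (V : Scheme.{u}) := LocallyOfFiniteType.isLocallyNoetherian V.ι
    haveI : IsNoetherianRing Γ((V : Scheme.{u}), ⊤) :=
      IsLocallyNoetherian.component_noetherian ⟨⊤, isAffineOpen_top _⟩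
    have hd0 : Cyc.DeltaCompat c (fun v => δY (c v)) δY := deltaCompat_preimmersion c δY
    have hdJ : Cyc.DeltaCompat (algMap Γ((V : Scheme.{u}), ⊤)
        (MvPolynomial (ULift.{u} (Fin r)) Γ((V : Scheme.{u}), ⊤))) (fun u => δX (J u)) (fun v => δY (c v)) := by
      refine deltaCompat_cancel _ c ?_ hd0
      have := deltaCompat_comp (deltaCompat_preimmersion J δX) hδ
      rwa [hsq] at this
    obtain ⟨hk, ho, -⟩ := kills_affineSpace r Γ((V : Scheme.{u}), ⊤)
      (MvPolynomial (ULift.{u} (Fin r)) Γ((V : Scheme.{u}), ⊤))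
      (MvPolynomial.renameEquiv _ Equiv.ulift.symm) δY hY c (fun v => δY (c v)) hd0 (fun u => δX (J u)) hdJ
    exact fibKills_of_chart f J _ c hX.2.2 hsq (fun x hx => hJrange x ((Set.ext_iff.1 hrange _).1 hx))
      hk ho ξ ((Set.ext_iff.1 hrange _).2 hξV)
  exact exists_pull_ratEquiv f δX δY r k hX.2.2 hY.2.2 (fun x => delta_le_add f hX.2.2 hδ hr x)
    (fun ξ => (key ξ).1) (fun ξ => (key ξ).2) β hβ

end Groth.Agent.S1944
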