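import Groth.Statements.S1185
import Groth.Agent.FEtCat.SectionsFinite
import Groth.Agent.S0263
import Groth.Agent.ParaFLib.PicUFD
import Mathlib.AlgebraicGeometry.QuasiAffine

set_option autoImplicit false
universe u
open Pi1

namespace Groth.Agent.S1185


set_option backward.isDefEq.respectTransparency.types false
set_option linter.style.haveILetI false
set_option maxHeartbeats 800000

noncomputable section

open TensorProduct

section
open AlgebraicGeometry CategoryTheory CategoryTheory.Limits

variable {A : Type u} [CommRing A] [IsNoetherianRing A] [IsLocalRing A]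
  (V : FEt.Cat (FEt.puncturedSpec A : Scheme.{u}))

abbrev strMap : CommRingCat.of A ⟶ Γ(V.left, ⊤) :=
  (Scheme.ΓSpecIso (CommRingCat.of A)).inv ≫ (V.hom ≫ (FEt.puncturedSpec A).ι).appTop

theorem isPullback_toSpecΓ (hA : (2 : ℕ∞) ≤ LocCoh.depth A A) :
    IsPullback V.left.toSpecΓ V.hom (Spec.map (strMap V)) (FEt.puncturedSpec A).ι := by
  let U := FEt.puncturedSpec A
  haveI : CompactSpace U :=
    isCompact_iff_compactSpace.mp (TopologicalSpace.NoetherianSpace.isCompact (α := Spec (CommRingCat.of A)) _)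
  haveI : Scheme.IsQuasiAffine (U : Scheme.{u}) := Scheme.IsQuasiAffine.of_isImmersion U.ι
  haveI hι : IsIso U.ι.appTop := by
    have hiso : IsIso ((Spec (CommRingCat.of A)).presheaf.map (homOfLE (le_top : U ≤ ⊤)).op) :=
      (ConcreteCategory.isIso_iff_bijective _).mpr (ParaFLib.PicUFD.bijective_punctured A hA)
    have h1 : U.ι.appTop ≫ U.topIso.hom = (Spec (CommRingCat.of A)).presheaf.map (homOfLE (le_top : U ≤ ⊤)).op := by
      rw [Scheme.Opens.ι_appTop]
      exact ((Spec (CommRingCat.of A)).presheaf.map_comp _ _).symm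
    rw [(Iso.eq_comp_inv U.topIso).mpr h1]
    infer_instance
  let δ : CommRingCat.of A ≅ Γ((U : Scheme.{u}), ⊤) :=
    (Scheme.ΓSpecIso (CommRingCat.of A)).symm ≪≫ asIso U.ι.appTop
  have hδ : (U : Scheme.{u}).toSpecΓ ≫ Spec.map δ.hom = U.ι := by
    simp only [δ, Iso.trans_hom, Iso.symm_hom, asIso_hom, Spec.map_comp]
    rw [← Category.assoc, ← Scheme.toSpecΓ_naturality, Category.assoc, ← SpecMap_ΓSpecIso_hom, ← Spec.map_comp,
      Iso.inv_hom_id, Spec.map_id, Category.comp_id]
  refine ((Scheme.isPullback_toSpecΓ_toSpecΓ (X := V.left) (Y := (U : Scheme.{u})) V.hom).of_iso (Iso.refl _) (Iso.refl _) (Iso.refl _)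
    (Scheme.Spec.mapIso δ.op) ?_ ?_ ?_ ?_).flip
  · simp
  · simp
  · simp only [Iso.refl_hom, Category.id_comp]
    exact hδ
  · simp only [Iso.refl_hom, Category.id_comp]
    change Spec.map V.hom.appTop ≫ Spec.map δ.hom = _
    rw [← Spec.map_comp]
    simp only [δ, strMap, Iso.trans_hom, Iso.symm_hom, asIso_hom, Scheme.Hom.comp_appTop, Category.assoc]
    rfl

omit [IsNoetherianRing A] in
theorem finite_etale_away (hP : IsPullback V.left.toSpecΓ V.hom (Spec.map (strMap V)) (FEt.puncturedSpec A).ι)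
    (a : A) (ha : a ∈ IsLocalRing.maximalIdeal A) :
    letI := (strMap V).hom.toAlgebra
    Module.Finite (Localization.Away a) (Localization.Away a ⊗[A] Γ(V.left, ⊤)) ∧
      Algebra.Etale (Localization.Away a) (Localization.Away a ⊗[A] Γ(V.left, ⊤)) ∧
      ∀ s : Γ(V.left, ⊤), (1 : Localization.Away a) ⊗ₜ[A] s = 0 →
        ∀ v : V.left, a ∉ ((FEt.puncturedSpec A).ι (V.hom v)).asIdeal → V.left.presheaf.germ ⊤ v trivial s = 0 := by
  letI := (strMap V).hom.toAlgebra
  let S : CommRingCat.{u} := Γ(V.left, ⊤)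
  let U := FEt.puncturedSpec A
  let Aa := Localization.Away a
  let T : CommRingCat.{u} := CommRingCat.of (Aa ⊗[A] S)
  let g : Spec (CommRingCat.of Aa) ⟶ Spec (CommRingCat.of A) := Spec.map (CommRingCat.ofHom (algebraMap A Aa))
  let l : Spec T ⟶ Spec (CommRingCat.of Aa) :=
    Spec.map (CommRingCat.ofHom (algebraMap Aa (Aa ⊗[A] S)))
  let r : Spec T ⟶ Spec S :=
    Spec.map (CommRingCat.ofHom (R := S) (S := T) (Algebra.TensorProduct.includeRight (R := A) (A := Aa) (B := S)).toRingHom)
  have hg : Set.range g = (PrimeSpectrum.basicOpen a : Set (PrimeSpectrum A)) :=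
    PrimeSpectrum.localization_away_comap_range Aa a
  have hgU : Set.range g ⊆ Set.range U.ι := by
    rw [Scheme.Opens.range_ι, hg]
    intro x hx (hxm : x = IsLocalRing.closedPoint A)
    exact hx (hxm ▸ ha)
  let g' := IsOpenImmersion.lift U.ι g hgU
  have hbig : IsPullback r l (Spec.map (strMap V)) (g' ≫ U.ι) := by
    rw [show g' ≫ U.ι = g from IsOpenImmersion.lift_fac _ _ _]
    exact ((IsPullback.of_hasPullback _ _).of_iso (pullbackSpecIso A Aa S) (Iso.refl _) (Iso.refl _) (Iso.refl _)
      (by simp [l]) (by simp [r]) (by simp [g])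
      (by simp only [Iso.refl_hom, Category.comp_id, Category.id_comp]; rfl)).flip
  let k := hP.lift r (l ≫ g') (by rw [hbig.w, Category.assoc])
  have hk : k ≫ V.left.toSpecΓ = r := hP.lift_fst _ _ _
  have hsmall : IsPullback k l V.hom g' := IsPullback.of_right' hbig hP
  have hl : FEt.prop l := MorphismProperty.of_isPullback hsmall V.prop
  refine ⟨RingHom.finite_algebraMap.mp ((IsFinite.SpecMap_iff _).mp hl.1),
    RingHom.etale_algebraMap.mp ((HasRingHomProperty.Spec_iff (P := @Etale)).mp hl.2), fun s hs v hv => ?_⟩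
  haveI : IsOpenImmersion g := IsOpenImmersion.of_isLocalization a
  haveI : IsOpenImmersion g' := by
    refine IsOpenImmersion.of_comp g' U.ι
  haveI : IsOpenImmersion k := MorphismProperty.of_isPullback hsmall.flip ‹IsOpenImmersion g'›
  have hkz : k.appTop s = 0 := by
    have e := congrArg (fun t : Spec T ⟶ Spec S => t.appTop) hk
    simp only [Scheme.Hom.comp_appTop] at e
    have e2 := ConcreteCategory.congr_hom e ((Scheme.ΓSpecIso S).inv s)
    have hS : V.left.toSpecΓ.appTop ((Scheme.ΓSpecIso S).inv s) = s := by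
      rw [Scheme.toSpecΓ_appTop]
      exact Iso.inv_hom_id_apply _ s
    rw [CommRingCat.comp_apply, hS] at e2
    rw [e2, ← CommRingCat.comp_apply, ← Scheme.ΓSpecIso_inv_naturality, CommRingCat.comp_apply]
    exact (congrArg (Scheme.ΓSpecIso T).inv hs).trans (map_zero _)
  obtain ⟨x', hx'⟩ : V.hom v ∈ Set.range g' := by
    obtain ⟨x', hx'⟩ : U.ι (V.hom v) ∈ Set.range g := hg ▸ hv
    exact ⟨x', U.ι.isOpenEmbedding.injective (by
      rw [← hx', ← Scheme.Hom.comp_apply, IsOpenImmersion.lift_fac])⟩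
  obtain ⟨z, hz⟩ : ∃ z, k z = v := by
    have h1 : v ∈ Set.range (pullback.fst V.hom g') := by
      rw [Scheme.Pullback.range_fst]; exact ⟨x', hx'⟩
    obtain ⟨z', hz'⟩ := h1
    exact ⟨hsmall.isoPullback.inv z', by rw [← Scheme.Hom.comp_apply, hsmall.isoPullback_inv_fst, hz']⟩
  subst hz
  refine ((ConcreteCategory.isIso_iff_bijective (k.stalkMap z)).mp inferInstance).1 ?_
  rw [Scheme.Hom.germ_stalkMap_apply, map_zero]
  exact (congrArg _ hkz).trans (map_zero _)

end

open AlgebraicGeometry CategoryTheory CategoryTheory.Limits in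
/-- Finiteness of the sections and the extension criterion; the normality of the sections and the
equivalence of categories are not asserted: Let A be a normal Noetherian local domain of Krull
dimension at least 2 with punctured spectrum U, and V a finite etale cover of U. Then the ring of
global sections of V is finite over A (through the map induced by V ⟶ U ⟶ Spec A), and V is the
restriction of a finite etale cover of Spec A if and only if that ring is etale over A. -/
theorem result (A : Type u) [CommRing A] [IsDomain A] [IsNoetherianRing A]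
    [IsLocalRing A] [IsIntegrallyClosed A] (hdim : (2 : WithBot ℕ∞) ≤ ringKrullDim A)
    (V : FEt.Cat (FEt.puncturedSpec A : Scheme.{u})) :
    (((V.hom ≫ (FEt.puncturedSpec A).ι).appTop).hom.comp (Scheme.ΓSpecIso (CommRingCat.of A)).inv.hom).Finite ∧
    ((∃ Y : FEt.Cat (Spec (CommRingCat.of A)), Nonempty ((FEt.restrict (FEt.puncturedSpec A).ι).obj Y ≅ V)) ↔
      (((V.hom ≫ (FEt.puncturedSpec A).ι).appTop).hom.comp (Scheme.ΓSpecIso (CommRingCat.of A)).inv.hom).Etale) := by
  have hA : (2 : ℕ∞) ≤ LocCoh.depth A A := ParaFLib.PicUFD.two_le_depth_of_normal A hdim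
  let U := FEt.puncturedSpec A
  have hP := isPullback_toSpecΓ V hA
  letI := (strMap V).hom.toAlgebra
  have hfin : Module.Finite A Γ(V.left, ⊤) := by
    obtain ⟨a₀, ha₀, ha₀0⟩ : ∃ a ∈ IsLocalRing.maximalIdeal A, a ≠ 0 := by
      refine Submodule.exists_mem_ne_zero_of_ne_bot fun h => ?_
      have h0 := ringKrullDim_eq_zero_of_isField ((IsLocalRing.isField_iff_maximalIdeal_eq).mpr h)
      rw [h0] at hdim
      exact absurd hdim (by norm_num)
    refine FEtCat.SectionsFinite.finite hA (ι := {a : A // a ∈ IsLocalRing.maximalIdeal A ∧ a ≠ 0}) (·.1)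
      (fun i => i.2.2) (fun q hq h => ?_) ⟨a₀, ha₀, ha₀0⟩
      (fun i => ⟨(finite_etale_away V hP i.1 i.2.1).1, (finite_etale_away V hP i.1 i.2.1).2.1⟩) fun s hs => ?_
    · refine le_antisymm (IsLocalRing.le_maximalIdeal hq.ne_top) fun x hx => ?_
      by_cases h0 : x = 0
      · exact h0 ▸ q.zero_mem
      · exact h ⟨x, hx, h0⟩
    · refine TopCat.Presheaf.section_ext V.left.sheaf ⊤ s 0 fun v _ => ?_
      obtain ⟨x, hxm, hx⟩ : ∃ x ∈ IsLocalRing.maximalIdeal A, x ∉ (U.ι (V.hom v)).asIdeal := by
        refine SetLike.not_le_iff_exists.mp fun hle => (V.hom v).2 ?_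
        exact PrimeSpectrum.ext (le_antisymm (IsLocalRing.le_maximalIdeal (U.ι (V.hom v)).isPrime.ne_top) hle)
      exact ((finite_etale_away V hP x hxm).2.2 s (hs ⟨x, hxm, fun h => hx (h ▸ zero_mem _)⟩) v hx).trans
        (map_zero _).symm
  refine ⟨RingHom.finite_algebraMap.mpr hfin, fun hY => (Groth.Agent.S0263.result A hA V hY).2, fun het => ?_⟩
  let f : Spec Γ(V.left, ⊤) ⟶ Spec (CommRingCat.of A) := Spec.map (strMap V)
  haveI : IsFinite f := (IsFinite.SpecMap_iff _).mpr (RingHom.finite_algebraMap.mpr hfin)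
  haveI : Etale f := (HasRingHomProperty.Spec_iff (P := @Etale)).mpr het
  refine ⟨MorphismProperty.Over.mk ⊤ f ⟨inferInstance, inferInstance⟩, ⟨?_⟩⟩
  exact MorphismProperty.Over.isoMk hP.isoPullback.symm (hP.isoPullback_inv_snd)

end

end Groth.Agent.S1185
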