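import Groth.Statements.S1186
import Groth.Agent.FEtPush.Scheme
-- import your own Groth.Agent.* helpers here

set_option autoImplicit false
universe u
open Pi1

namespace Groth.Agent.S1186

open AlgebraicGeometry CategoryTheory CategoryTheory.Limits in
/-- Let i : Z ⟶ X be a closed immersion and j : Z ⟶ Y an integral morphism such that every fibre of j
lies in the preimage under i of some affine open of X, and let a : X ⟶ W, b : Y ⟶ W exhibit W as the
pushout of i and j in the category of schemes. If U is finite étale over X and V is finite étale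
over Y with U ×_X Z ≅ V ×_Y Z over Z, then there is a finite étale cover T of W whose restrictions
to X and to Y are isomorphic to U and to V respectively. (This is the essential-surjectivity part of
an equivalence between finite étale covers of W and the 2-fibre product of the categories of finite
étale covers of X and of Y over that of Z; only the gluing of objects is asserted, and the
compatibility of the two identifications over Z is not asserted.) -/
theorem result {Z X Y W : Scheme.{u}} (i : Z ⟶ X) [IsClosedImmersion i] (j : Z ⟶ Y) [IsIntegralHom j]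
    (h3 : ∀ y : Y, ∃ U : X.Opens, IsAffineOpen U ∧ ∀ z : Z, j.base z = y → i.base z ∈ U)
    (a : X ⟶ W) (b : Y ⟶ W) (hpo : IsPushout i j a b)
    (U : FEt.Cat X) (V : FEt.Cat Y) (e : (FEt.restrict i).obj U ≅ (FEt.restrict j).obj V) :
    ∃ T : FEt.Cat W, Nonempty ((FEt.restrict a).obj T ≅ U) ∧ Nonempty ((FEt.restrict b).obj T ≅ V) := by
  
  have hUfe : IsFinite U.hom ∧ Etale U.hom := U.prop
  have hVfe : IsFinite V.hom ∧ Etale V.hom := V.prop
  have := hUfe.1; have := hUfe.2; have := hVfe.1; have := hVfe.2
  let eU := ((MorphismProperty.Over.forget _ _ _).mapIso e)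
  let e' : pullback U.hom i ≅ pullback V.hom j := (CategoryTheory.Over.forget Z).mapIso eU
  have he : e'.hom ≫ pullback.snd V.hom j = pullback.snd U.hom i := CategoryTheory.Over.w eU.hom
  have hU := IsPullback.of_hasPullback U.hom i
  have hV : IsPullback (e'.hom ≫ pullback.fst V.hom j) (pullback.snd U.hom i) V.hom j :=
    (IsPullback.of_hasPullback V.hom j).of_iso e'.symm (Iso.refl _) (Iso.refl _) (Iso.refl _)
      (by simp) (by rw [← he]; simp) (by simp) (by simp)
  obtain ⟨T, k, a', b', hk, hke, hA, hB⟩ := Groth.Agent.FEtPush.exists_glue (i := i) (j := j)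
    (fun y => (h3 y).imp fun O hO => ⟨hO.1, fun z hz => hO.2 z hz⟩) hpo U.hom V.hom hU hV
  refine ⟨MorphismProperty.Over.mk ⊤ k ⟨hk, hke⟩, ⟨?_⟩, ⟨?_⟩⟩
  · exact MorphismProperty.Over.isoMk hA.isoPullback.symm (hA.isoPullback_inv_snd)
  · exact MorphismProperty.Over.isoMk hB.isoPullback.symm (hB.isoPullback_inv_snd)

end Groth.Agent.S1186
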