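import Groth.Statements.S17667
import Groth.Agent.FFCurve.IsoP1
import Groth.Agent.S4466
import Groth.Agent.S10960
import Groth.Agent.S15400
import Groth.Agent.PicLaw.Calc
import Groth.Agent.ClUnit.Basic
import Groth.Agent.Omega.Stalks
import Groth.Agent.ProperFin.Descend
import Groth.Agent.PicCl.Basic
import Groth.Agent.ProjProper.Basic

set_option autoImplicit false
universe u
open CategoryTheory CategoryTheory.Limits AlgebraicGeometry
open Ribbon

namespace Groth.Agent.S17667

section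
open CategoryTheory CategoryTheory.Limits AlgebraicGeometry TopologicalSpace Opposite
open Groth.Agent
open scoped Groth.Agent.PicLaw

noncomputable section

variable (k : Type u) [Field k]

theorem p1_finrank_zero (d : ℤ) (hd : 0 ≤ d) :
    (Module.finrank k (Coh.HH (CohB1.ProjSpace 1 k) (Twist.twistProjSpace 1 k d) 0) : ℤ) = d + 1 := by
  obtain ⟨n, rfl⟩ := Int.eq_ofNat_of_zero_le hd
  rw [(ProjTwist.Pn.h0Equiv 1 k n).finrank_eq.symm, PlanePts.finrank_forms, add_comm, Nat.choose_one_right]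
  push_cast
  ring

theorem p1_euler (d : ℤ) :
    (Module.finrank k (Coh.HH (CohB1.ProjSpace 1 k) (Twist.twistProjSpace 1 k d) 0) : ℤ) -
      Module.finrank k (Coh.HH (CohB1.ProjSpace 1 k) (Twist.twistProjSpace 1 k d) 1) = d + 1 := by
  have h := Groth.Agent.S4466.result k 1 one_pos d
  rw [Finset.sum_range_succ, Finset.sum_range_one, Ring.choose_one_right] at h
  simp only [pow_zero, one_mul, pow_one, neg_mul, Nat.cast_one] at h
  linarith [h]

theorem p1_vanish (d : ℤ) (j : ℕ) (hj : 2 ≤ j) :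
    Subsingleton (Coh.HH (CohB1.ProjSpace 1 k) (Twist.twistProjSpace 1 k d) j) := by
  obtain ⟨q, rfl⟩ := Nat.exists_eq_add_of_le' (show 1 ≤ j by omega)
  exact ProjTwist.Pn.subsingleton_twist (n := 1) (R := k) d q (Or.inl (by omega))

theorem p1_h1_neg (g : ℕ) :
    Module.finrank k (Coh.HH (CohB1.ProjSpace 1 k) (Twist.twistProjSpace 1 k (-((g : ℤ) + 1))) 1) = g := by
  have h := p1_euler k (-((g : ℤ) + 1))
  haveI := ProjTwist.Pn.subsingleton_H0 (n := 1) (R := k) (d := -((g : ℤ) + 1)) le_rfl (by omega)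
  rw [Module.finrank_zero_of_subsingleton (M := Coh.HH (CohB1.ProjSpace 1 k) (Twist.twistProjSpace 1 k (-((g : ℤ) + 1))) 0)] at h
  omega

theorem nontrivial_top {D : Scheme.{u}} (e : D ≅ CohB1.ProjSpace 1 k) : Nontrivial Γ(D, ⊤) := by
  obtain ⟨-, -, hPi, -⟩ := FFCurve.p1_facts k
  haveI := hPi
  haveI : Nonempty (⊤ : D.Opens) := ⟨⟨e.inv (Classical.arbitrary _), trivial⟩⟩
  exact Scheme.component_nontrivial D ⊤

section Curve

variable {D : Scheme.{u}} [D.Over (Spec (CommRingCat.of k))] [IsProper (D ↘ Spec (CommRingCat.of k))]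
  (e : D ≅ CohB1.ProjSpace 1 k) (he : e.hom ≫ CohB1.ProjSpace.toSpec 1 k = D ↘ Spec (CommRingCat.of k))

include he in
theorem nonempty_hhEquiv (M : (CohB1.ProjSpace 1 k).Modules) (hM : Coh.IsQCoh M) (j : ℕ) :
    Nonempty (Coh.HH D ((Scheme.Modules.pullback e.hom).obj M) j ≃ₗ[k] Coh.HH (CohB1.ProjSpace 1 k) M j) := by
  have hw : e.inv ≫ (D ↘ Spec (CommRingCat.of k)) = (CohB1.ProjSpace 1 k) ↘ Spec (CommRingCat.of k) := by
    rw [← he, e.inv_hom_id_assoc]; rfl
  obtain ⟨E⟩ := EulerChar.nonempty_pushEquiv e.inv (A := k) hw M hM j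
  exact ⟨(LinearEquiv.ofBijective (CohLin.overLin k (CohLin.hMap ((FFCurve.pullbackIsoPush e).app M).hom j))
    (CohLin.hIso ((FFCurve.pullbackIsoPush e).app M) j).bijective).trans E⟩

theorem isQCoh_twist (d : ℤ) : Coh.IsQCoh (Twist.twistProjSpace 1 k d) :=
  ProjTwist.isQCoh_of_isInvertible (ProjTwist.isInvertible_twistProjSpace 1 k d)

include he in
theorem euler_pullback_twist (d : ℤ) :
    Curv2.euler k D ((Scheme.Modules.pullback e.hom).obj (Twist.twistProjSpace 1 k d)) = d + 1 := by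
  have hH : ∀ j, Module.finrank k (Coh.HH D ((Scheme.Modules.pullback e.hom).obj (Twist.twistProjSpace 1 k d)) j) =
      Module.finrank k (Coh.HH (CohB1.ProjSpace 1 k) (Twist.twistProjSpace 1 k d) j) := fun j => by
    obtain ⟨E⟩ := nonempty_hhEquiv k e he _ (isQCoh_twist k d) j
    exact E.finrank_eq
  rw [Curv2.euler, finsum_eq_sum_of_support_subset (s := Finset.range 2)]
  · rw [Finset.sum_range_succ, Finset.sum_range_one, hH, hH]
    have := p1_euler k d
    simp only [pow_zero, one_mul, pow_one, neg_mul]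
    linarith
  · intro j hj
    rw [Function.mem_support] at hj
    rw [Finset.coe_range, Set.mem_Iio]
    by_contra hlt
    haveI := p1_vanish k d j (not_lt.1 hlt)
    rw [hH, Module.finrank_zero_of_subsingleton] at hj
    simp at hj

/-- `O ≅ e^* O(0)` -/
def unitTwist : Coh.structureModule D ≅ (Scheme.Modules.pullback e.hom).obj (Twist.twistProjSpace 1 k 0) :=
  (QCoh.pullbackUnitIso e.hom).symm ≪≫
    (Scheme.Modules.pullback e.hom).mapIso (ProjTwist.twistZeroIso (CohB1.polyGrading 1 k))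

include he in
theorem deg_pullback_twist (d : ℤ) :
    Curv2.deg k D ((Scheme.Modules.pullback e.hom).obj (Twist.twistProjSpace 1 k d)) 1 = d := by
  rw [Curv2.deg, EulerChar.euler_iso k (unitTwist k e), euler_pullback_twist k e he,
    euler_pullback_twist k e he]
  ring

variable [PicGrp.Law D]

/-- `d ↦ e^* O(d)` -/
def twistCl : Multiplicative ℤ →* PicLoc.PicSet D :=
  (PicGrp.pullHom e.hom (PicLaw.pullMul e.hom)).comp
    (MonoidHom.mk' (fun d => PicGrp.cls (Twist.twistProjSpace 1 k (Multiplicative.toAdd d))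
        (ProjTwist.isInvertible_twistProjSpace 1 k _)) fun a b => by
      refine Subtype.ext ?_
      rw [PicGrp.cls_mul_cls_val, PicGrp.cls_val, PicGrp.cl_eq_cl_iff]
      obtain ⟨θ⟩ := ProjTwist.nonempty_twistProjSpace_tensor 1 k (Multiplicative.toAdd a) (Multiplicative.toAdd b)
      exact ⟨θ.symm⟩)

theorem twistCl_apply (d : ℤ) : twistCl k e (Multiplicative.ofAdd d) =
    PicGrp.cls ((Scheme.Modules.pullback e.hom).obj (Twist.twistProjSpace 1 k d))
      (PicLoc.isInvertible_pullback e.hom (ProjTwist.isInvertible_twistProjSpace 1 k d)) :=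
  PicGrp.pullHom_cls e.hom (PicLaw.pullMul e.hom) _ (ProjTwist.isInvertible_twistProjSpace 1 k d)

include he in
theorem deg_of_twistCl {N : D.Modules} (hN : PicF.IsInvertible N) {d : ℤ}
    (h : twistCl k e (Multiplicative.ofAdd d) = PicGrp.cls N hN) : Curv2.deg k D N 1 = d := by
  rw [twistCl_apply, PicGrp.cls_eq_cls_iff] at h
  obtain ⟨θ⟩ := h
  rw [← deg_pullback_twist k e he d, Curv2.deg, Curv2.deg, EulerChar.euler_iso k θ]

include he in
theorem twistCl_bijective : Function.Bijective (twistCl k e) := by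
  refine ⟨fun a b h => ?_, fun c => ?_⟩
  · have h1 : twistCl k e (Multiplicative.ofAdd (Multiplicative.toAdd b)) =
        PicGrp.cls ((Scheme.Modules.pullback e.hom).obj (Twist.twistProjSpace 1 k (Multiplicative.toAdd a)))
          (PicLoc.isInvertible_pullback e.hom (ProjTwist.isInvertible_twistProjSpace 1 k _)) := by
      rw [← twistCl_apply]; exact h.symm
    exact Multiplicative.toAdd.injective ((deg_pullback_twist k e he _).symm.trans (deg_of_twistCl k e he _ h1))
  · obtain ⟨N, hN, rfl⟩ := PicGrp.exists_eq_cls c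
    obtain ⟨d, ⟨θ⟩, -⟩ := Groth.Agent.S10960.result k 1 le_rfl ((Scheme.Modules.pullback e.inv).obj N)
      (PicLoc.isInvertible_pullback e.inv hN)
    refine ⟨Multiplicative.ofAdd d, ?_⟩
    rw [twistCl_apply, PicGrp.cls_eq_cls_iff]
    exact ⟨(Scheme.Modules.pullback e.hom).mapIso θ.symm ≪≫ (Scheme.Modules.pullbackComp e.hom e.inv).app N ≪≫
      (Scheme.Modules.pullbackCongr e.hom_inv_id).app N ≪≫ (Scheme.Modules.pullbackId D).app N⟩

include he in
theorem appTop_units (z : (Γ(D, ⊤))ˣ) :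
    ∃ a : Γ(Spec (CommRingCat.of k), ⊤), (D ↘ Spec (CommRingCat.of k)).appTop a = (z : Γ(D, ⊤)) := by
  obtain ⟨E⟩ := nonempty_hhEquiv k e he _ (isQCoh_twist k 0) 0
  let E' : Coh.HH D (Coh.structureModule D) 0 ≃ₗ[k]
      Coh.HH (CohB1.ProjSpace 1 k) (Twist.twistProjSpace 1 k 0) 0 :=
    (LinearEquiv.ofBijective (CohLin.overLin k (CohLin.hMap (unitTwist k e).hom 0))
      (CohLin.hIso (unitTwist k e) 0).bijective).trans E
  have h1 : Module.finrank k (Coh.HH D (Coh.structureModule D) 0) = 1 := by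
    have := p1_finrank_zero k 0 le_rfl
    rw [E'.finrank_eq]; omega
  let S := ProperFin.h0Sec (Coh.structureModule D)
  let x₁ := S.symm (1 : Γ(D, ⊤))
  have hx₁ : x₁ ≠ 0 := by
    intro h
    have h2 : (1 : Γ(D, ⊤)) = 0 := ((S.apply_symm_apply _).symm.trans (congrArg S h)).trans (map_zero S)
    haveI := nontrivial_top k e
    exact one_ne_zero h2
  obtain ⟨c, hc⟩ := (finrank_eq_one_iff_of_nonzero' x₁ hx₁).1 h1 (S.symm (z : Γ(D, ⊤)))
  refine ⟨(Scheme.ΓSpecIso (CommRingCat.of k)).inv c, ?_⟩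
  have h3 := congrArg S hc
  rw [S.apply_symm_apply] at h3
  refine Eq.trans ?_ h3
  refine Eq.trans ?_ (ProperFin.h0Sec_smul _ (Coh.toGlobal (D ↘ Spec (CommRingCat.of k)) c) x₁).symm
  rw [S.apply_symm_apply]
  exact (mul_one _).symm

end Curve

theorem isIso_unit_idealMod {C : Scheme.{u}} (I : C.IdealSheafData) (hI : I * I = ⊥) :
    IsIso ((Scheme.Modules.pullbackPushforwardAdjunction I.subschemeι).unit.app (ClSub.idealMod I)) := by
  rw [ClUnit.isIso_unit_iff]
  intro U a ha s
  apply Omega.Stalks.idealSect_injective I U.1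
  rw [Omega.Stalks.idealSect_smul, map_zero]
  have hs : OmegaSh.idealSect I U.1 s ∈ I.ideal U := by
    rw [← I.ker_subschemeι_app U]
    have := Omega.Stalks.app_idealSect (i := I.subschemeι) U.1
    rw [Scheme.IdealSheafData.ker_subschemeι] at this
    exact this s
  rw [Scheme.IdealSheafData.ker_subschemeι] at ha
  have := Ideal.mul_mem_mul ha hs
  rw [show I.ideal U * I.ideal U = (I * I).ideal U from rfl, hI] at this
  exact this

theorem main (C : Scheme.{u}) [C.Over (Spec (CommRingCat.of k))] (I : C.IdealSheafData) (hI : I * I = ⊥)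
    (e : I.subscheme ≅ CohB1.ProjSpace 1 k)
    (he : e.hom ≫ CohB1.ProjSpace.toSpec 1 k = I.subschemeι ≫ (C ↘ (Spec (CommRingCat.of k))))
    (g : ℕ)
    (hconormal : Nonempty ((Scheme.Modules.pullback I.subschemeι).obj (ClSub.idealMod I) ≅
      (Scheme.Modules.pullback e.hom).obj (Twist.twistProjSpace 1 k (-((g : ℤ) + 1)))))
    [PicGrp.Law C] :
    Module.finrank k (Coh.HH C (ClSub.idealMod I) 1) = g ∧
    ∃ φ : Additive (PicLoc.PicSet C) ≃+ Coh.HH C (ClSub.idealMod I) 1 × ℤ,
      ∀ (L : C.Modules) (hL : PicF.IsInvertible L),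
        (φ (Additive.ofMul (PicGrp.cls L hL))).2 =
          @Curv2.deg k _ I.subscheme ⟨I.subschemeι ≫ (C ↘ (Spec (CommRingCat.of k)))⟩
            ((Scheme.Modules.pullback I.subschemeι).obj L) 1 := by
  let D := I.subscheme
  let i : D ⟶ C := I.subschemeι
  letI : D.Over (Spec (CommRingCat.of k)) := ⟨i ≫ (C ↘ (Spec (CommRingCat.of k)))⟩
  have he' : e.hom ≫ CohB1.ProjSpace.toSpec 1 k = D ↘ Spec (CommRingCat.of k) := he
  haveI : IsProper (D ↘ Spec (CommRingCat.of k)) := by
    haveI := ProjProper.Basic.isProper_toSpec 1 k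
    rw [← he']; infer_instance
  obtain ⟨θ⟩ := hconormal
  haveI := isIso_unit_idealMod I hI
  have hq : Coh.IsQCoh ((Scheme.Modules.pullback i).obj (ClSub.idealMod I)) :=
    ProjTwist.isQCoh_of_isInvertible (PicCl.isInvertible_of_iso θ.symm
      (PicLoc.isInvertible_pullback e.hom (ProjTwist.isInvertible_twistProjSpace 1 k _)))
  have hE : ∀ j, Nonempty (Coh.HH C (ClSub.idealMod I) j ≃ₗ[k]
      Coh.HH (CohB1.ProjSpace 1 k) (Twist.twistProjSpace 1 k (-((g : ℤ) + 1))) j) := fun j => by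
    obtain ⟨E₁⟩ := EulerChar.nonempty_pushEquiv i (A := k) rfl _ hq j
    obtain ⟨E₂⟩ := nonempty_hhEquiv k e he' _ (isQCoh_twist k (-((g : ℤ) + 1))) j
    let η := asIso ((Scheme.Modules.pullbackPushforwardAdjunction i).unit.app (ClSub.idealMod I))
    exact ⟨(LinearEquiv.ofBijective (CohLin.overLin k (CohLin.hMap η.hom j)) (CohLin.hIso η j).bijective).trans
      (E₁.trans ((LinearEquiv.ofBijective (CohLin.overLin k (CohLin.hMap θ.hom j)) (CohLin.hIso θ j).bijective).trans E₂))⟩
  refine ⟨by obtain ⟨E⟩ := hE 1; rw [E.finrank_eq, p1_h1_neg k g], ?_⟩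
  have hpm := PicLaw.pullMul i
  obtain ⟨ε, δ₀, α, δ₁, -, -, hδ₀, hα, hker, hδ₁⟩ := Groth.Agent.S15400.exact_six I hI hpm
  -- units lift
  have hsurj : Function.Surjective (Units.map i.appTop.hom.toMonoidHom) := fun z => by
    obtain ⟨a, ha⟩ := appTop_units k e he' z
    have ha0 : (Scheme.ΓSpecIso (CommRingCat.of k)).hom a ≠ 0 := fun h => by
      have h2 : a = 0 := (ConcreteCategory.bijective_of_isIso (Scheme.ΓSpecIso (CommRingCat.of k)).hom).1
        (h.trans (map_zero _).symm)
      rw [h2, map_zero] at ha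
      haveI := nontrivial_top k e
      exact z.ne_zero ha.symm
    have hu : IsUnit a := by
      have := (isUnit_iff_ne_zero.2 ha0).map (Scheme.ΓSpecIso (CommRingCat.of k)).inv.hom
      simpa using this
    refine ⟨(hu.map (C ↘ Spec (CommRingCat.of k)).appTop.hom).unit, Units.ext ?_⟩
    exact ha
  have hδtriv : ∀ z, δ₀ z = 1 := fun z => MonoidHom.mem_ker.1 (hδ₀ ▸ MonoidHom.range_eq_top.2 hsurj ▸ Subgroup.mem_top z)
  have hαinj : Function.Injective α := (injective_iff_map_eq_one α).2 fun a ha => by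
    obtain ⟨z, rfl⟩ : a ∈ δ₀.range := hα ▸ MonoidHom.mem_ker.2 ha
    exact hδtriv z
  haveI h2 : Subsingleton (Coh.HH C (ClSub.idealMod I) 2) := by
    obtain ⟨E⟩ := hE 2
    haveI := p1_vanish k (-((g : ℤ) + 1)) 2 le_rfl
    exact E.toEquiv.subsingleton
  have hπ : Function.Surjective (PicGrp.pullHom i hpm) := fun c => by
    have : c ∈ δ₁.ker := MonoidHom.mem_ker.2 (Multiplicative.toAdd.injective (Subsingleton.elim _ _))
    rw [hδ₁] at this
    exact this
  let T := MulEquiv.ofBijective (twistCl k e) (twistCl_bijective k e he')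
  let ρ : PicLoc.PicSet C →* Multiplicative ℤ := T.symm.toMonoidHom.comp (PicGrp.pullHom i hpm)
  obtain ⟨c₁, hc₁⟩ : ∃ c₁, ρ c₁ = Multiplicative.ofAdd 1 := by
    obtain ⟨c₁, hc₁⟩ := hπ (T (Multiplicative.ofAdd 1))
    exact ⟨c₁, (congrArg T.symm hc₁).trans (T.symm_apply_apply _)⟩
  have hρα : ∀ a, ρ (α a) = 1 := fun a => by
    have : α a ∈ (PicGrp.pullHom i hpm).ker := hker ▸ ⟨a, rfl⟩
    show T.symm (PicGrp.pullHom i hpm (α a)) = 1
    rw [MonoidHom.mem_ker.1 this, map_one]
  let Φ : Coh.HH C (ClSub.idealMod I) 1 × ℤ →+ Additive (PicLoc.PicSet C) :=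
    (MonoidHom.toAdditiveRight α).coprod (zmultiplesHom _ (Additive.ofMul c₁))
  have hΦ2 : ∀ p, Multiplicative.toAdd (ρ (Additive.toMul (Φ p))) = p.2 := fun p => by
    show Multiplicative.toAdd (ρ (α (Multiplicative.ofAdd p.1) * c₁ ^ p.2)) = p.2
    rw [map_mul, map_zpow, hρα, hc₁, one_mul, ← ofAdd_zsmul, toAdd_ofAdd, smul_eq_mul, mul_one]
  have hΦ : Function.Bijective Φ := by
    refine ⟨(injective_iff_map_eq_zero Φ).2 fun p hp => ?_, fun x => ?_⟩
    · have h2 : p.2 = 0 := by rw [← hΦ2 p, hp]; simp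
      have h1 : α (Multiplicative.ofAdd p.1) * c₁ ^ p.2 = 1 := hp
      rw [h2, zpow_zero, mul_one, ← map_one α] at h1
      exact Prod.ext (hαinj h1) h2
    · let n := Multiplicative.toAdd (ρ (Additive.toMul x))
      have hk : Additive.toMul x * (c₁ ^ n)⁻¹ ∈ (PicGrp.pullHom i hpm).ker := by
        rw [MonoidHom.mem_ker]
        apply T.symm.injective
        show ρ (Additive.toMul x * (c₁ ^ n)⁻¹) = T.symm 1
        rw [map_one, map_mul, map_inv, map_zpow, hc₁, ← ofAdd_zsmul, smul_eq_mul, mul_one, ofAdd_toAdd,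
          mul_inv_cancel]
      rw [hker] at hk
      obtain ⟨a, ha⟩ := hk
      refine ⟨(Multiplicative.toAdd a, n), Additive.toMul.injective ?_⟩
      show α a * c₁ ^ n = Additive.toMul x
      rw [ha, inv_mul_cancel_right]
  refine ⟨(AddEquiv.ofBijective Φ hΦ).symm, fun L hL => ?_⟩
  let n := ((AddEquiv.ofBijective Φ hΦ).symm (Additive.ofMul (PicGrp.cls L hL))).2
  have hn : ρ (PicGrp.cls L hL) = Multiplicative.ofAdd n := by
    apply Multiplicative.toAdd.injective
    refine Eq.trans ?_ (hΦ2 ((AddEquiv.ofBijective Φ hΦ).symm (Additive.ofMul (PicGrp.cls L hL))))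
    congr 2
    exact congrArg Additive.toMul ((AddEquiv.ofBijective Φ hΦ).apply_symm_apply _).symm
  symm
  refine deg_of_twistCl k e he' (PicLoc.isInvertible_pullback i hL) ?_
  rw [← PicGrp.pullHom_cls i hpm L hL]
  exact (congrArg T hn.symm).trans (T.apply_symm_apply _)

end

end

/-- Let C be a ribbon of arithmetic genus g on the projective line over a field k — a proper k-scheme
with a quasi-coherent ideal I ⊂ O_C, I² = 0, whose closed subscheme D is k-isomorphic to P^1 and
such that I, as an O_D-module, is isomorphic to O_{P^1}(-g-1) — and take the group law on Pic C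
given by the tensor product. Then H^1(C, I) = H^1(P^1, O(-g-1)) is a k-vector space of dimension g
and Pic C ≅ H^1(C, I) × ℤ as abelian groups, by an isomorphism whose ℤ-component on the class of an
invertible O_C-module L is the degree χ(L|_D) - χ(O_D) of the restriction of L to D. (Existence of
such an isomorphism; the source derives it from the units sequence 0 → I → O_C^× → O_D^× → 1. Stated
over an arbitrary field.) -/
theorem result (k : Type u) [Field k] (C : Scheme.{u}) [C.Over (Spec (CommRingCat.of k))]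
    [IsProper (C ↘ (Spec (CommRingCat.of k)))]
    (I : C.IdealSheafData) (hI : I ^ 2 = ⊥)
    (e : I.subscheme ≅ CohB1.ProjSpace 1 k)
    (he : e.hom ≫ CohB1.ProjSpace.toSpec 1 k = I.subschemeι ≫ (C ↘ (Spec (CommRingCat.of k))))
    (g : ℕ)
    (hconormal : Nonempty ((Scheme.Modules.pullback I.subschemeι).obj (ClSub.idealMod I) ≅
      (Scheme.Modules.pullback e.hom).obj (Twist.twistProjSpace 1 k (-((g : ℤ) + 1)))))
    [PicGrp.Law C] :
    Module.finrank k (Coh.HH C (ClSub.idealMod I) 1) = g ∧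
    ∃ φ : Additive (PicLoc.PicSet C) ≃+ Coh.HH C (ClSub.idealMod I) 1 × ℤ,
      ∀ (L : C.Modules) (hL : PicF.IsInvertible L),
        (φ (Additive.ofMul (PicGrp.cls L hL))).2 =
          @Curv2.deg k _ I.subscheme ⟨I.subschemeι ≫ (C ↘ (Spec (CommRingCat.of k)))⟩
            ((Scheme.Modules.pullback I.subschemeι).obj L) 1 := by
  exact main k C I ((pow_two I).symm.trans hI) e he g hconormal

end Groth.Agent.S17667
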