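import Groth.Statements.S14372
import Groth.Agent.GenericFibre.Sing
import Groth.Agent.CiFields.AlgClosed

set_option autoImplicit false
universe u
open Fano

namespace Groth.Agent.S14372

/-- Over an algebraically closed field k of arbitrary characteristic, let f be a homogeneous form of
degree d ≥ 2 in n + 1 variables and U a linear subspace of k^(n+1) on which f vanishes, such that at
every nonzero vector of U some partial derivative of f does not vanish (the hypersurface f = 0 in
P^n contains the r-plane P(U), r + 1 = dim U, and is smooth at every point of it). Then 2 · dim U ≤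
n + 1, i.e. r ≤ (n − 1)/2. (The published statement assumes the hypersurface smooth everywhere; this
row assumes smoothness only along P(U).) -/
theorem result (k : Type u) [Field k] [IsAlgClosed k]
    (n d : ℕ) (hd : 2 ≤ d) (f : MvPolynomial (Fin (n + 1)) k) (hf : f.IsHomogeneous d)
    (U : Submodule k (Fin (n + 1) → k)) (hU : ∀ u ∈ U, MvPolynomial.eval u f = 0)
    (hsm : ∀ u ∈ U, u ≠ 0 → ∃ i : Fin (n + 1), MvPolynomial.eval u (MvPolynomial.pderiv i f) ≠ 0) :
    2 * Module.finrank k ↥U ≤ n + 1 := by
  classical
  by_contra hlt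
  push Not at hlt
  obtain ⟨W, hW⟩ := U.exists_isCompl
  have hrW : Module.finrank k U + Module.finrank k W = n + 1 := by
    rw [Submodule.finrank_add_eq_of_isCompl hW, Module.finrank_fintype_fun_eq_card, Fintype.card_fin]
  let bU := Module.finBasis k U
  let bW := Module.finBasis k W
  let ι : (Fin (Module.finrank k U) → k) →ₗ[k] (Fin (n + 1) → k) :=
    U.subtype.comp bU.equivFun.symm.toLinearMap
  let g : Fin (Module.finrank k W) → MvPolynomial (Fin (Module.finrank k U)) k := fun a =>
    ∑ i, MvPolynomial.C ((bW a).1 i) *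
      MvPolynomial.aeval (GenericFibre.linSub ι) (MvPolynomial.pderiv i f)
  have hg : ∀ a, (g a).IsHomogeneous (d - 1) := fun a =>
    MvPolynomial.IsHomogeneous.sum _ _ _ fun i _ =>
      (GenericFibre.isHomogeneous_linSub ι hf.pderiv).C_mul _
  obtain ⟨x, hx0, hx⟩ := CiFields.isCi_exists (CiFields.isCi_zero k) g (fun _ => d - 1) hg
    (fun _ => by omega) (by simp; omega)
  have hu : ι x ∈ U := (bU.equivFun.symm x).2
  have hu0 : ι x ≠ 0 := by
    intro h
    have h' : bU.equivFun.symm x = 0 := Subtype.ext h
    exact hx0 (bU.equivFun.symm.map_eq_zero_iff.1 h')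
  obtain ⟨i, hi⟩ := hsm _ hu hu0
  let D : (Fin (n + 1) → k) →ₗ[k] k :=
    ∑ j, MvPolynomial.eval (ι x) (MvPolynomial.pderiv j f) • LinearMap.proj j
  have hD : ∀ w, D w = ∑ j, w j * MvPolynomial.eval (ι x) (MvPolynomial.pderiv j f) := fun w => by
    simp [D, mul_comm]
  have hDU : ∀ w ∈ U, D w = 0 := fun w hw => by rw [hD]; exact GenericFibre.dir_eq_zero hU hu hw
  have hDW : D.comp W.subtype = 0 := bW.ext fun a => by
    have := hx a
    simp only [g, map_sum, map_mul, MvPolynomial.eval_C, GenericFibre.eval_aeval_linSub] at this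
    simpa [hD] using this
  apply hi
  obtain ⟨a, ha, b, hb, hab⟩ := Submodule.mem_sup.1
    (hW.sup_eq_top ▸ Submodule.mem_top (R := k) (x := (Pi.single i 1 : Fin (n + 1) → k)))
  have h1 : D (Pi.single i 1) = 0 := by
    rw [← hab, map_add, hDU a ha, zero_add]
    exact LinearMap.congr_fun hDW ⟨b, hb⟩
  simpa [hD, Pi.single_apply, ite_mul] using h1

end Groth.Agent.S14372
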