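import Groth.Statements.S1190
import Groth.Agent.GalCat.Exact

set_option autoImplicit false
universe u v w
open CategoryTheory PreGaloisCategory
open Pi1

namespace Groth.Agent.S1190

/-- Let H : C ⥤ C' and H' : C' ⥤ C'' be exact functors between Galois categories, F'' a fibre functor on
C'' with F'' ∘ H' and F'' ∘ H' ∘ H fibre functors, and h', h the induced homomorphisms of
fundamental groups. Then: h is surjective, h ∘ h' is trivial and the kernel of h is the closed
normal subgroup generated by the image of h', if and only if H is fully faithful and its essential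
image consists exactly of those X' in C' for which H'(X') is a finite coproduct of copies of the
final object. -/
theorem result {C C' C'' : Type u} [Category.{v} C] [Category.{v} C'] [Category.{v} C'']
    [GaloisCategory C] [GaloisCategory C'] [GaloisCategory C'']
    (H : C ⥤ C') [Limits.PreservesFiniteLimits H] [Limits.PreservesFiniteColimits H]
    (H' : C' ⥤ C'') [Limits.PreservesFiniteLimits H'] [Limits.PreservesFiniteColimits H']
    (F'' : C'' ⥤ FintypeCat.{w}) [FiberFunctor F''] [FiberFunctor (H' ⋙ F'')] [FiberFunctor (H ⋙ (H' ⋙ F''))] :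
    (Function.Surjective (Pi1X.autWhisker H (H' ⋙ F'')) ∧
      (∀ σ : Aut F'', Pi1X.autWhisker H (H' ⋙ F'') (Pi1X.autWhisker H' F'' σ) = 1) ∧
      (Pi1X.autWhisker H (H' ⋙ F'')).ker = (Subgroup.normalClosure (Set.range (Pi1X.autWhisker H' F''))).topologicalClosure) ↔
    ((H.Full ∧ H.Faithful) ∧
      ∀ X' : C', (∃ X : C, Nonempty (H.obj X ≅ X')) ↔ ∃ n : ℕ, Nonempty (H'.obj X' ≅ ∐ fun _ : Fin n => ⊤_ C'')) := by
  set h := Pi1X.autWhisker H (H' ⋙ F'') with hh
  set h' := Pi1X.autWhisker H' F'' with hh'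
  set N := (Subgroup.normalClosure (Set.range h')).topologicalClosure with hN
  have hNnormal : N.Normal := Subgroup.is_normal_topologicalClosure _
  have hrange : ∀ τ, h' τ ∈ N := fun τ =>
    Subgroup.le_topologicalClosure _ (Subgroup.subset_normalClosure ⟨τ, rfl⟩)
  have hsplit : ∀ X' : C', (∃ n : ℕ, Nonempty (H'.obj X' ≅ ∐ fun _ : Fin n => ⊤_ C'')) →
      ∀ σ ∈ N, ∀ x : (H' ⋙ F'').obj X', σ • x = x := by
    intro X' hn
    have hfix := (Groth.Agent.GalCat.Basic.split_iff F'' (H'.obj X')).mp hn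
    let K : Subgroup (Aut (H' ⋙ F'')) :=
      { carrier := {σ | ∀ x : (H' ⋙ F'').obj X', σ • x = x}
        one_mem' := fun x => one_smul _ x
        mul_mem' := fun {s t} hs ht x => by rw [mul_smul, ht, hs]
        inv_mem' := fun {s} hs x => inv_smul_eq_iff.mpr (hs x).symm }
    have : K.Normal := ⟨fun s hs g x => by rw [mul_smul, mul_smul, hs, smul_inv_smul]⟩
    have hK : IsClosed (K : Set (Aut (H' ⋙ F''))) := by
      have : (K : Set (Aut (H' ⋙ F''))) = ⋂ x : (H' ⋙ F'').obj X', (MulAction.stabilizer (Aut (H' ⋙ F'')) x : Set _) := by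
        ext σ
        simp [K]
      rw [this]
      exact isClosed_iInter fun x => Subgroup.isClosed_of_isOpen _ (Groth.Agent.GalCat.Basic.isOpen_stabilizer _ x)
    have hle : N ≤ K := Subgroup.topologicalClosure_minimal _
      (Subgroup.normalClosure_le_normal (fun _ ⟨τ, hτ⟩ => hτ ▸ fun x => hfix τ x)) hK
    exact fun σ hσ => hle hσ
  constructor
  · rintro ⟨hsurj, -, hker⟩
    refine ⟨Groth.Agent.GalCat.Exact.full_faithful_of_surjective H _ hsurj, fun X' => ⟨?_, fun hn => ?_⟩⟩
    · rintro ⟨X, ⟨e⟩⟩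
      refine (Groth.Agent.GalCat.Basic.split_iff F'' (H'.obj X')).mpr fun τ x => ?_
      exact Groth.Agent.GalCat.Exact.ker_le_of_exists_iso H (H' ⋙ F'') e (h' τ) (hker ▸ hrange τ) x
    · exact Groth.Agent.GalCat.Exact.exists_iso_of_ker_trivial H (H' ⋙ F'') hsurj X'
        fun σ hσ x => hsplit X' hn σ (hker ▸ hσ) x
  · rintro ⟨hff, hess⟩
    have hsurj : Function.Surjective h := (Groth.Agent.GalCat.Exact.surjective_iff H _).mpr hff
    have htriv : ∀ τ, h (h' τ) = 1 := by
      intro τ
      refine Groth.Agent.GalCat.Basic.eq_one_of_forall_connected (H ⋙ (H' ⋙ F'')) _ fun X _ x => ?_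
      exact (Groth.Agent.GalCat.Basic.split_iff F'' (H'.obj (H.obj X))).mp
        ((hess (H.obj X)).mp ⟨X, ⟨Iso.refl _⟩⟩) τ x
    refine ⟨hsurj, htriv, le_antisymm ?_ ?_⟩
    · refine Groth.Agent.GalCat.Exact.le_of_forall_open (Subgroup.isClosed_topologicalClosure _) fun U hU => ?_
      obtain ⟨X', a', hX', hU'⟩ := Groth.Agent.GalCat.Basic.exists_stabilizer_eq (H' ⋙ F'') U
      rw [← hU'] at hU ⊢
      have hn : ∃ n : ℕ, Nonempty (H'.obj X' ≅ ∐ fun _ : Fin n => ⊤_ C'') := by
        refine (Groth.Agent.GalCat.Basic.split_iff F'' _).mpr fun τ x => ?_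
        obtain ⟨σ, hσ⟩ := MulAction.exists_smul_eq (Aut (H' ⋙ F'')) a' (show (H' ⋙ F'').obj X' from x)
        have h1 := MulAction.mem_stabilizer_iff.mp (hU (hNnormal.conj_mem _ (hrange τ) σ⁻¹))
        rw [inv_inv, mul_smul, mul_smul, inv_smul_eq_iff, hσ] at h1
        exact h1
      obtain ⟨X, ⟨e⟩⟩ := (hess X').mpr hn
      exact fun σ hσ => Groth.Agent.GalCat.Exact.ker_le_of_exists_iso H (H' ⋙ F'') e σ hσ a'
    · refine Subgroup.topologicalClosure_minimal _ (Subgroup.normalClosure_le_normal ?_)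
        (IsClosed.preimage (Groth.Agent.GalCat.Exact.continuous_autWhisker H (H' ⋙ F'')) isClosed_singleton)
      rintro _ ⟨τ, rfl⟩
      exact htriv τ

end Groth.Agent.S1190
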