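import Groth.Statements.S6347
import Groth.Agent.MLMod.Flat

set_option autoImplicit false
universe u
open scoped TensorProduct
open CAlg

namespace Groth.Agent.S6347

/-- Over a Noetherian ring R, the product module R^A (functions from any set A to R) is flat and
Mittag-Leffler. -/
theorem result (R : Type u) [CommRing R] [IsNoetherianRing R]
    (A : Type u) : Module.Flat R (A → R) ∧ CAlg.IsMittagLeffler R (A → R) := by
  have key : ∀ (N : Type u) [AddCommGroup N] [Module R N],
      Function.Injective (TensorProduct.piScalarRightHom R R N A) := by
    intro N _ _
    rw [injective_iff_map_eq_zero]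
    intro x hx
    obtain ⟨J, hJ, y, rfl⟩ := Submodule.exists_fg_le_eq_rTensor_subtype (R := R) x
    haveI : Module.Finite R J := Module.Finite.iff_fg.mpr hJ
    haveI : Module.FinitePresentation R J := Module.finitePresentation_of_finite R J
    have hy : y = 0 := MLMod.piRightHom_injective_of_fp (R := R) (Q := fun _ : A => R) J (by
      rw [map_zero]
      funext a
      apply (TensorProduct.rid R J).injective
      rw [Pi.zero_apply, map_zero]
      apply Subtype.ext
      refine Eq.trans ?_ (congrFun hx a)
      clear hx
      induction y using TensorProduct.induction_on with
      | zero => simp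
      | tmul j q => simp
      | add u v hu hv => simp only [map_add, Pi.add_apply, Submodule.coe_add, hu, hv])
    rw [hy, map_zero]
  refine ⟨Module.Flat.iff_rTensor_injective'.mpr fun I => ?_, fun ι Q _ _ => ?_⟩
  · intro x y hxy
    apply key I
    funext a
    apply Subtype.ext
    have hc : ∀ z, ((TensorProduct.piScalarRightHom R R I A z a : I) : R) =
        TensorProduct.piScalarRightHom R R R A (I.subtype.rTensor (A → R) z) a := fun z => by
      induction z using TensorProduct.induction_on with
      | zero => simp
      | tmul i q => simp
      | add u v hu hv => simp only [map_add, Pi.add_apply, Submodule.coe_add, hu, hv]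
    rw [hc, hc, hxy]
  · intro x y hxy
    apply (TensorProduct.comm R (A → R) (Π i, Q i)).injective
    apply key
    funext a i
    have hc : ∀ z : (A → R) ⊗[R] (Π i, Q i),
        TensorProduct.piScalarRightHom R R (Π i, Q i) A (TensorProduct.comm R _ _ z) a i =
          TensorProduct.piScalarRightHom R R (Q i) A
            (TensorProduct.comm R _ _ (TensorProduct.piRightHom R R (A → R) Q z i)) a := fun z => by
      induction z using TensorProduct.induction_on with
      | zero => simp
      | tmul i q => simp
      | add u v hu hv => simp only [map_add, Pi.add_apply, hu, hv]
    rw [hc, hc, hxy]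

end Groth.Agent.S6347
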