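import Groth.Statements.S6270
import Mathlib
-- import your own Groth.Agent.* helpers here

set_option autoImplicit false
universe u
open scoped TensorProduct
open CAlg

namespace Groth.Agent.S6270

open scoped TensorProduct

/-- Idempotent endomorphisms lift along a nil ring map. -/
lemma exists_lift_idem_aux {R C F N : Type u} [Ring R] [Ring C] [AddCommGroup F] [Module R F]
    [AddCommGroup N] [Module C N] (Φ : Module.End R F →+* Module.End C N)
    (hnil : ∀ φ : Module.End R F, Φ φ = 0 → IsNilpotent φ)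
    (eb : Module.End C N) (e0 : Module.End R F) (h0 : Φ e0 = eb)
    (hidem : eb * eb = eb) : ∃ e : Module.End R F, e * e = e ∧ Φ e = eb := by
  obtain ⟨e, h1, h2⟩ := exists_isIdempotentElem_eq_of_ker_isNilpotent Φ
    (fun φ hφ => hnil φ (RingHom.mem_ker.mp hφ)) eb ⟨e0, h0⟩ hidem
  exact ⟨e, h1, h2⟩

/-- Idempotent endomorphisms lift along a nil base change. -/
lemma exists_lift_idem {R C F : Type u} [CommRing R] [CommRing C] [Algebra R C] [AddCommGroup F] [Module R F]
    (hnil : ∀ φ : Module.End R F, φ.baseChange C = 0 → IsNilpotent φ)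
    (eb : C ⊗[R] F →ₗ[C] C ⊗[R] F) (e0 : F →ₗ[R] F) (h0 : e0.baseChange C = eb)
    (hidem : eb ∘ₗ eb = eb) : ∃ e : F →ₗ[R] F, e ∘ₗ e = e ∧ e.baseChange C = eb :=
  exists_lift_idem_aux (Module.End.baseChangeHom R C F).toRingHom hnil eb e0 h0 hidem

/-- A module killed by reduction modulo a nilpotent ideal is zero. -/
lemma eq_zero_of_tensor {R : Type u} [CommRing R] (I : Ideal R) (hI : IsNilpotent I) {X : Type*}
    [AddCommGroup X] [Module R X] (h : ∀ x : X, (1 : R ⧸ I) ⊗ₜ[R] x = 0) (x : X) : x = 0 := by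
  have h1 : (⊤ : Submodule R X) ≤ I • ⊤ := fun y _ => by
    have h2 := congrArg (TensorProduct.quotTensorEquivQuotSMul X I) (h y)
    rwa [TensorProduct.quotTensorEquivQuotSMul_mk_one_tmul, map_zero, Submodule.Quotient.mk_eq_zero] at h2
  have h3 : ∀ n : ℕ, (⊤ : Submodule R X) ≤ I ^ n • ⊤ := fun n => by
    induction n with
    | zero => simp
    | succ n ih =>
      rw [pow_succ, Submodule.mul_smul]
      exact ih.trans (smul_mono_right _ h1)
  obtain ⟨n, hn⟩ := hI
  have h4 : x ∈ I ^ n • (⊤ : Submodule R X) := h3 n trivial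
  rw [hn, Submodule.zero_eq_bot, Submodule.bot_smul, Submodule.mem_bot] at h4
  exact h4

/-- A map to a flat module which is bijective modulo a nilpotent ideal is bijective. -/
lemma bijective_of_baseChange {R : Type u} [CommRing R] (I : Ideal R) (hI : IsNilpotent I) {Q M : Type u}
    [AddCommGroup Q] [Module R Q] [AddCommGroup M] [Module R M] [Module.Flat R M] (g : Q →ₗ[R] M)
    (h : (R ⧸ I) ⊗[R] M →ₗ[R ⧸ I] (R ⧸ I) ⊗[R] Q) (hgs : ∀ y, g.baseChange (R ⧸ I) (h y) = y)
    (hgi : ∀ t, h (g.baseChange (R ⧸ I) t) = t) : Function.Bijective g := by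
  have hsurj : Function.Surjective g := by
    rw [← LinearMap.range_eq_top, ← top_le_iff]
    intro y _
    refine (Submodule.Quotient.mk_eq_zero (LinearMap.range g)).mp (eq_zero_of_tensor I hI (fun z => ?_) _)
    obtain ⟨z, rfl⟩ := Submodule.mkQ_surjective _ z
    show (LinearMap.range g).mkQ.baseChange (R ⧸ I) ((1 : R ⧸ I) ⊗ₜ[R] z) = 0
    rw [← hgs ((1 : R ⧸ I) ⊗ₜ[R] z), ← LinearMap.comp_apply, ← LinearMap.baseChange_comp,
      LinearMap.range_mkQ_comp, LinearMap.baseChange_zero, LinearMap.zero_apply]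
  refine ⟨(injective_iff_map_eq_zero g).mpr fun y hy => ?_, hsurj⟩
  have hk := LinearMap.lTensor_injective_of_exact_of_flat g hsurj (LinearMap.ker g).subtype
    Subtype.val_injective (LinearMap.exact_subtype_ker_map g) (R ⧸ I)
  have h2 : (⟨y, hy⟩ : LinearMap.ker g) = 0 := eq_zero_of_tensor I hI (fun z => hk (by
    rw [map_zero, LinearMap.lTensor_tmul, ← hgi ((1 : R ⧸ I) ⊗ₜ[R] ((LinearMap.ker g).subtype z))]
    rw [LinearMap.baseChange_tmul]
    show h ((1 : R ⧸ I) ⊗ₜ[R] g z.1) = 0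
    rw [LinearMap.mem_ker.mp z.2, TensorProduct.tmul_zero, map_zero])) _
  exact congrArg Subtype.val h2

/-- Lifting an idempotent splitting gives projectivity. -/
lemma projective_of_idem {R : Type u} [CommRing R] (I : Ideal R) (hI : IsNilpotent I) {F M : Type u}
    [AddCommGroup F] [Module R F] [Module.Projective R F] [AddCommGroup M] [Module R M] [Module.Flat R M]
    (π : F →ₗ[R] M) (sb : (R ⧸ I) ⊗[R] M →ₗ[R ⧸ I] (R ⧸ I) ⊗[R] F)
    (hsb' : ∀ y, π.baseChange (R ⧸ I) (sb y) = y) (e : F →ₗ[R] F) (he : e ∘ₗ e = e)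
    (hee : e.baseChange (R ⧸ I) = sb ∘ₗ π.baseChange (R ⧸ I)) : Module.Projective R M := by
  have hidem : ∀ v, e (e v) = e v := LinearMap.congr_fun he
  let ι : (LinearMap.range e) →ₗ[R] F := (LinearMap.range e).subtype
  let ρ : F →ₗ[R] (LinearMap.range e) := e.rangeRestrict
  have hρι : ρ ∘ₗ ι = LinearMap.id := LinearMap.ext fun x => Subtype.ext (by
    obtain ⟨v, hv⟩ := x.2
    show e x = x
    rw [← hv, hidem])
  have hQ : Module.Projective R (LinearMap.range e) := Module.Projective.of_split ι ρ hρι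
  let g : (LinearMap.range e) →ₗ[R] M := π ∘ₗ ι
  have hιρ : ι.baseChange (R ⧸ I) ∘ₗ ρ.baseChange (R ⧸ I) = sb ∘ₗ π.baseChange (R ⧸ I) := by
    rw [← LinearMap.baseChange_comp, ← hee]
    rfl
  have hρι' : ρ.baseChange (R ⧸ I) ∘ₗ ι.baseChange (R ⧸ I) = LinearMap.id := by
    rw [← LinearMap.baseChange_comp, hρι, LinearMap.baseChange_id]
  have hgb : g.baseChange (R ⧸ I) = π.baseChange (R ⧸ I) ∘ₗ ι.baseChange (R ⧸ I) := LinearMap.baseChange_comp _ _
  have hgs : ∀ y, g.baseChange (R ⧸ I) (ρ.baseChange (R ⧸ I) (sb y)) = y := fun y => by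
    rw [hgb]
    show π.baseChange (R ⧸ I) ((ι.baseChange (R ⧸ I) ∘ₗ ρ.baseChange (R ⧸ I)) (sb y)) = y
    rw [hιρ]
    show π.baseChange (R ⧸ I) (sb (π.baseChange (R ⧸ I) (sb y))) = y
    rw [hsb', hsb']
  have hgi : ∀ t, ρ.baseChange (R ⧸ I) (sb (g.baseChange (R ⧸ I) t)) = t := fun t => by
    rw [hgb]
    show ρ.baseChange (R ⧸ I) ((sb ∘ₗ π.baseChange (R ⧸ I)) (ι.baseChange (R ⧸ I) t)) = t
    rw [← hιρ]
    show (ρ.baseChange (R ⧸ I) ∘ₗ ι.baseChange (R ⧸ I)) ((ρ.baseChange (R ⧸ I) ∘ₗ ι.baseChange (R ⧸ I)) t) = t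
    rw [hρι']
    rfl
  have hb : Function.Bijective g :=
    bijective_of_baseChange (Q := ↥(LinearMap.range e)) (M := M) I hI g (ρ.baseChange (R ⧸ I) ∘ₗ sb) hgs hgi
  exact Module.Projective.of_equiv (LinearEquiv.ofBijective g hb)


/-- Let R be a ring, I ⊆ R a nilpotent ideal and M an R-module. If M is flat over R and M/IM (that is,
R/I ⊗ M) is a projective R/I-module, then M is a projective R-module. -/
theorem result {R : Type u} [CommRing R] (I : Ideal R) (hI : IsNilpotent I) (M : Type u) [AddCommGroup M] [Module R M] [Module.Flat R M] (hproj : Module.Projective (R ⧸ I) ((R ⧸ I) ⊗[R] M)) : Module.Projective R M := by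
  classical
  let C := R ⧸ I
  let π : (M →₀ R) →ₗ[R] M := Finsupp.linearCombination R id
  have hπ : Function.Surjective π := Finsupp.linearCombination_surjective R Function.surjective_id
  obtain ⟨sb, hsb⟩ := Module.projective_lifting_property (π.baseChange C) LinearMap.id
    (LinearMap.lTensor_surjective C hπ)
  have hsb' : ∀ y, π.baseChange C (sb y) = y := LinearMap.congr_fun hsb
  let eb : C ⊗[R] (M →₀ R) →ₗ[C] C ⊗[R] (M →₀ R) := sb ∘ₗ π.baseChange C
  have hmk : Function.Surjective (TensorProduct.mk R C (M →₀ R) 1) :=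
    TensorProduct.mk_surjective R (M →₀ R) C Ideal.Quotient.mk_surjective
  obtain ⟨e0, he0⟩ := Module.projective_lifting_property (TensorProduct.mk R C (M →₀ R) 1)
    ((eb.restrictScalars R) ∘ₗ TensorProduct.mk R C (M →₀ R) 1) hmk
  have hrange : e0.baseChange C = eb := LinearMap.ext fun t => by
    show e0.baseChange C t = eb t
    obtain ⟨v, rfl⟩ := hmk t
    exact LinearMap.congr_fun he0 v
  have hnil : ∀ φ : Module.End R (M →₀ R), φ.baseChange C = 0 → IsNilpotent φ := fun φ hφ => by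
    obtain ⟨n, hn⟩ := hI
    refine ⟨n, LinearMap.ext fun v => ?_⟩
    have h0 : ∀ w, φ w ∈ I • (⊤ : Submodule R (M →₀ R)) := fun w => by
      have h1 : (1 : C) ⊗ₜ[R] φ w = 0 := LinearMap.congr_fun hφ ((1 : C) ⊗ₜ[R] w)
      have h2 := congrArg (TensorProduct.quotTensorEquivQuotSMul (M →₀ R) I) h1
      rwa [TensorProduct.quotTensorEquivQuotSMul_mk_one_tmul, map_zero, Submodule.Quotient.mk_eq_zero] at h2
    have h3 : ∀ (k : ℕ) w, (φ ^ k) w ∈ I ^ k • (⊤ : Submodule R (M →₀ R)) := fun k => by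
      induction k with
      | zero => simp
      | succ k ih =>
        intro w
        rw [show (φ ^ (k + 1)) w = φ ((φ ^ k) w) from by rw [pow_succ']; rfl, pow_succ, Submodule.mul_smul]
        have h4 : φ ((φ ^ k) w) ∈ (I ^ k • (⊤ : Submodule R (M →₀ R))).map φ := Submodule.mem_map_of_mem (ih w)
        rw [Submodule.map_smul''] at h4
        refine (smul_mono_right (I ^ k) ?_ : _ ≤ I ^ k • (I • (⊤ : Submodule R (M →₀ R)))) h4
        rintro _ ⟨z, -, rfl⟩
        exact h0 z
    have h5 := h3 n v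
    rw [hn, Submodule.zero_eq_bot, Submodule.bot_smul, Submodule.mem_bot] at h5
    exact h5
  have hebid : eb ∘ₗ eb = eb := LinearMap.ext fun t => congrArg sb (hsb' _)
  obtain ⟨e, he, hee⟩ := exists_lift_idem hnil eb e0 hrange hebid
  exact projective_of_idem I hI π sb hsb' e he hee

end Groth.Agent.S6270
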