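import Groth.Statements.S9599
import Mathlib
-- import your own Groth.Agent.* helpers here

set_option autoImplicit false
universe u
open CAlg

namespace Groth.Agent.S9599

/-- For a ring R, an ideal I of R and a short exact sequence 0 → K → M → N → 0 of R-modules with N flat
over R, the induced sequence of I-adic completions 0 → K^ → M^ → N^ → 0 is again short exact. -/
theorem result {R : Type u} [CommRing R] (I : Ideal R) {K M N : Type u} [AddCommGroup K] [Module R K] [AddCommGroup M] [Module R M] [AddCommGroup N] [Module R N] [Module.Flat R N] (i : K →ₗ[R] M) (g : M →ₗ[R] N) (hi : Function.Injective i) (hg : Function.Surjective g) (hig : Function.Exact i g) :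
    Function.Injective (AdicCompletion.map I i) ∧ Function.Exact (AdicCompletion.map I i) (AdicCompletion.map I g) ∧ Function.Surjective (AdicCompletion.map I g) := by
  have hlev : ∀ n : ℕ, ∀ x : K, i x ∈ (I ^ n • ⊤ : Submodule R M) → x ∈ (I ^ n • ⊤ : Submodule R K) := by
    intro n x hx
    have hinj := LinearMap.lTensor_injective_of_exact_of_flat g hg i hi hig (R ⧸ I ^ n)
    have h1 : ((1 : R ⧸ I ^ n) ⊗ₜ[R] i x) = 0 :=
      (TensorProduct.quotTensorEquivQuotSMul M (I ^ n)).injective (by
        rw [map_zero]
        erw [TensorProduct.quotTensorEquivQuotSMul_mk_tmul]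
        simpa using hx)
    have h2 : ((1 : R ⧸ I ^ n) ⊗ₜ[R] x) = 0 := hinj (by rw [LinearMap.lTensor_tmul, h1, map_zero])
    have h3 := congrArg (TensorProduct.quotTensorEquivQuotSMul K (I ^ n)) h2
    rw [map_zero] at h3
    erw [TensorProduct.quotTensorEquivQuotSMul_mk_tmul] at h3
    simpa using h3
  have hsm : ∀ n : ℕ, ∀ {y : N}, y ∈ (I ^ n • ⊤ : Submodule R N) → ∃ z ∈ (I ^ n • ⊤ : Submodule R M), g z = y := by
    intro n y hy
    rw [← LinearMap.range_eq_top.mpr hg, LinearMap.range_eq_map, ← Submodule.map_smul''] at hy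
    exact Submodule.mem_map.mp hy
  refine ⟨fun x y hxy => AdicCompletion.ext fun n => ?_, fun y => ⟨fun hy => ?_, ?_⟩, AdicCompletion.map_surjective I hg⟩
  · obtain ⟨a, ha⟩ := Submodule.mkQ_surjective _ (x.val n)
    obtain ⟨b, hb⟩ := Submodule.mkQ_surjective _ (y.val n)
    have h1 := congrArg (fun z => z.val n) hxy
    simp only [AdicCompletion.map_val_apply, ← ha, ← hb] at h1
    rw [← ha, ← hb]
    refine (Submodule.Quotient.eq _).mpr (hlev n _ ?_)
    rw [map_sub]
    exact (Submodule.Quotient.eq _).mp h1
  · have hex : ∀ n, ∃ a : K, y.val n = Submodule.Quotient.mk (i a) := by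
      intro n
      obtain ⟨b, hb⟩ := Submodule.mkQ_surjective _ (y.val n)
      have h1 := congrArg (fun z => z.val n) hy
      simp only [AdicCompletion.map_val_apply, ← hb, AdicCompletion.val_zero_apply] at h1
      obtain ⟨z, hz, hgz⟩ := hsm n ((Submodule.Quotient.mk_eq_zero _).mp h1)
      obtain ⟨a, ha⟩ := (hig (b - z)).mp (by rw [map_sub, hgz, sub_self])
      exact ⟨a, by rw [← hb, ha]; exact (Submodule.Quotient.eq _).mpr (by simpa using hz)⟩
    choose a ha using hex
    refine ⟨⟨fun n => Submodule.Quotient.mk (a n), fun {m n} hmn => ?_⟩, AdicCompletion.ext fun n => ?_⟩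
    · refine (Submodule.Quotient.eq _).mpr (hlev m _ ?_)
      rw [map_sub]
      have := y.2 hmn
      rw [ha n, ha m] at this
      exact (Submodule.Quotient.eq _).mp this
    · exact (ha n).symm
  · rintro ⟨x, rfl⟩
    rw [AdicCompletion.map_comp_apply]
    rw [show g.comp i = 0 from hig.linearMap_comp_eq_zero, AdicCompletion.map_zero, LinearMap.zero_apply]

end Groth.Agent.S9599
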