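import Groth.Statements.S9131
import Groth.Agent.S9599
import Groth.Agent.S6270
import Mathlib.RingTheory.TensorProduct.Quotient
import Mathlib.RingTheory.AdicCompletion.Functoriality

set_option autoImplicit false
universe u
open CAlg

namespace Groth.Agent.S9131

open TensorProduct

variable {R : Type u} [CommRing R] (I : Ideal R) {M : Type u} [AddCommGroup M] [Module R M]

/-- Lifting along a surjection of modules killed by `J` when `(R⧸J) ⊗ M` is projective. -/
theorem exists_lift (J : Ideal R) [hP : Module.Projective (R ⧸ J) ((R ⧸ J) ⊗[R] M)] {X Y : Type u}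
    [AddCommGroup X] [Module R X] [AddCommGroup Y] [Module R Y] (p : X →ₗ[R] Y)
    (hp : Function.Surjective p) (hX : Module.IsTorsionBySet R X J) (t : M →ₗ[R] Y) :
    ∃ t' : M →ₗ[R] X, p ∘ₗ t' = t := by
  have hY : Module.IsTorsionBySet R Y J := fun y a => by
    obtain ⟨x, rfl⟩ := hp y
    show (a : R) • p x = 0
    rw [← map_smul, show (a : R) • x = 0 from hX (x := x) (a := a), map_zero]
  letI := hX.module
  letI := hY.module
  haveI : IsScalarTower R (R ⧸ J) X := hX.isScalarTower
  haveI : IsScalarTower R (R ⧸ J) Y := hY.isScalarTower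
  obtain ⟨h, hh⟩ := Module.projective_lifting_property
    (LinearMap.extendScalarsOfSurjective (S := R ⧸ J) Ideal.Quotient.mk_surjective p)
    (LinearMap.liftBaseChange (R ⧸ J) t) hp
  refine ⟨h.restrictScalars R ∘ₗ TensorProduct.mk R (R ⧸ J) M 1, LinearMap.ext fun m => ?_⟩
  have := LinearMap.congr_fun hh ((1 : R ⧸ J) ⊗ₜ[R] m)
  simpa using this

set_option maxHeartbeats 1000000 in
theorem projective_pow [Module.Flat R M] [Module.Projective (R ⧸ I) (M ⧸ (I • ⊤ : Submodule R M))] (n : ℕ) :
    Module.Projective (R ⧸ I ^ (n + 1)) ((R ⧸ I ^ (n + 1)) ⊗[R] M) := by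
  let π : R →+* R ⧸ I ^ (n + 1) := Ideal.Quotient.mk _
  let J : Ideal (R ⧸ I ^ (n + 1)) := I.map π
  let C : Type u := (R ⧸ I ^ (n + 1)) ⧸ J
  refine Groth.Agent.S6270.result J ⟨n + 1, by rw [← Ideal.map_pow, Ideal.map_quotient_self]; rfl⟩ _ ?_
  letI : Algebra (R ⧸ I) ((R ⧸ I ^ (n + 1)) ⧸ J) :=
    (Ideal.Quotient.lift I ((Ideal.Quotient.mk J).comp π) fun a ha =>
      Ideal.Quotient.eq_zero_iff_mem.2 (Ideal.mem_map_of_mem π ha)).toAlgebra
  haveI : IsScalarTower R (R ⧸ I) ((R ⧸ I ^ (n + 1)) ⧸ J) := IsScalarTower.of_algebraMap_eq fun _ => rfl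
  haveI : Module.Projective (R ⧸ I) ((R ⧸ I) ⊗[R] M) :=
    Module.Projective.of_equiv
      (LinearEquiv.extendScalarsOfSurjective Ideal.Quotient.mk_surjective
        (quotTensorEquivQuotSMul M I)).symm
  exact Module.Projective.of_equiv
    ((AlgebraTensorModule.cancelBaseChange R (R ⧸ I) ((R ⧸ I ^ (n + 1)) ⧸ J) ((R ⧸ I ^ (n + 1)) ⧸ J) M).trans
      (AlgebraTensorModule.cancelBaseChange R (R ⧸ I ^ (n + 1)) ((R ⧸ I ^ (n + 1)) ⧸ J) ((R ⧸ I ^ (n + 1)) ⧸ J) M).symm)

variable {P : Type u} [AddCommGroup P] [Module R P]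

/-- the quotient of `N` by `I^n N` -/
abbrev Q (N : Type u) [AddCommGroup N] [Module R N] (n : ℕ) : Type u := N ⧸ (I ^ n • ⊤ : Submodule R N)

theorem isTorsion (N : Type u) [AddCommGroup N] [Module R N] (n : ℕ) :
    Module.IsTorsionBySet R (Q I N n) (I ^ n : Ideal R) := fun {x a} => by
  obtain ⟨x, rfl⟩ := Submodule.Quotient.mk_surjective _ x
  show (a : R) • Submodule.Quotient.mk x = 0
  rw [← Submodule.Quotient.mk_smul, Submodule.Quotient.mk_eq_zero]
  exact Submodule.smul_mem_smul a.2 Submodule.mem_top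

/-- `g` mod `I^n`. -/
noncomputable def red (g : P →ₗ[R] M) (n : ℕ) : Q I P n →ₗ[R] Q I M n :=
  (g.reduceModIdeal (I ^ n)).restrictScalars R

theorem exists_step [Module.Flat R M] [Module.Projective (R ⧸ I) (M ⧸ (I • ⊤ : Submodule R M))]
    (g : P →ₗ[R] M) (hg : Function.Surjective g) (n : ℕ) (t : M →ₗ[R] Q I P n)
    (ht : red I g n ∘ₗ t = Submodule.mkQ _) :
    ∃ t' : M →ₗ[R] Q I P (n + 1), red I g (n + 1) ∘ₗ t' = Submodule.mkQ _ ∧
      AdicCompletion.transitionMap I P n.le_succ ∘ₗ t' = t := by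
  haveI := projective_pow I (M := M) n
  let a : Q I P (n + 1) →ₗ[R] Q I M (n + 1) := red I g (n + 1)
  let b : Q I P (n + 1) →ₗ[R] Q I P n := AdicCompletion.transitionMap I P n.le_succ
  let p := (a.prod b).rangeRestrict
  have hmem : ∀ m : M, (Submodule.Quotient.mk m, t m) ∈ LinearMap.range (a.prod b) := fun m => by
    obtain ⟨q, hq⟩ := Submodule.Quotient.mk_surjective _ (t m)
    have h := LinearMap.congr_fun ht m
    rw [LinearMap.comp_apply, ← hq, Submodule.mkQ_apply] at h
    have h' : g q - m ∈ (I ^ n • ⊤ : Submodule R M) := (Submodule.Quotient.eq _).1 h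
    have hmap : (I ^ n • ⊤ : Submodule R P).map g = I ^ n • ⊤ := by
      rw [Submodule.map_smul'', Submodule.map_top, LinearMap.range_eq_top.2 hg]
    rw [← hmap] at h'
    obtain ⟨z, hz, hze⟩ := h'
    refine ⟨Submodule.Quotient.mk (q - z), Prod.ext ?_ ?_⟩
    · show Submodule.Quotient.mk (g (q - z)) = Submodule.Quotient.mk m
      rw [map_sub, hze, sub_sub_cancel]
    · show Submodule.Quotient.mk (q - z) = t m
      rw [← hq, Submodule.Quotient.eq, sub_sub_cancel_left]
      exact neg_mem hz
  obtain ⟨t', ht'⟩ := exists_lift (I ^ (n + 1)) p (a.prod b).surjective_rangeRestrict (isTorsion I P (n + 1))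
    (LinearMap.codRestrict _ ((Submodule.mkQ (I ^ (n + 1) • ⊤ : Submodule R M)).prod t) hmem)
  exact ⟨t', LinearMap.ext fun m => congrArg (fun y => y.1.1) (LinearMap.congr_fun ht' m),
    LinearMap.ext fun m => congrArg (fun y => y.1.2) (LinearMap.congr_fun ht' m)⟩

theorem exists_section [Module.Flat R M] [Module.Projective (R ⧸ I) (M ⧸ (I • ⊤ : Submodule R M))]
    (g : P →ₗ[R] M) (hg : Function.Surjective g) :
    ∃ s : AdicCompletion I M →ₗ[AdicCompletion I R] AdicCompletion I P,
      AdicCompletion.map I g ∘ₗ s = LinearMap.id := by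
  classical
  have h0 : red I g 0 ∘ₗ (0 : M →ₗ[R] Q I P 0) = Submodule.mkQ _ := LinearMap.ext fun m => by
    rw [LinearMap.comp_zero, LinearMap.zero_apply, Submodule.mkQ_apply]
    exact ((Submodule.Quotient.mk_eq_zero _).2 (by simp)).symm
  let T : ∀ n : ℕ, {t : M →ₗ[R] Q I P n // red I g n ∘ₗ t = Submodule.mkQ _} := fun n =>
    Nat.rec (motive := fun n => {t : M →ₗ[R] Q I P n // red I g n ∘ₗ t = Submodule.mkQ _}) ⟨0, h0⟩
      (fun n t => ⟨(exists_step I g hg n t.1 t.2).choose, (exists_step I g hg n t.1 t.2).choose_spec.1⟩) n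
  have hsucc : ∀ n, AdicCompletion.transitionMap I P n.le_succ ∘ₗ (T (n + 1)).1 = (T n).1 := fun n =>
    (exists_step I g hg n (T n).1 (T n).2).choose_spec.2
  have htrans : ∀ {m n : ℕ} (h : m ≤ n), AdicCompletion.transitionMap I P h ∘ₗ (T n).1 = (T m).1 := by
    intro m n h
    induction h with
    | refl => ext x; obtain ⟨y, hy⟩ := Submodule.Quotient.mk_surjective _ ((T m).1 x)
              rw [LinearMap.comp_apply, ← hy]; rfl
    | @step n h ih =>
      refine LinearMap.ext fun x => ?_
      obtain ⟨y, hy⟩ := Submodule.Quotient.mk_surjective _ ((T (n + 1)).1 x)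
      rw [← ih, ← hsucc n]
      simp only [LinearMap.comp_apply]
      rw [← hy]
      rfl
  let tb : ∀ n, Q I M n →ₗ[R] Q I P n := fun n => Submodule.liftQ _ (T n).1 (by
    rw [Submodule.smul_le]
    intro a ha x _
    rw [LinearMap.mem_ker, map_smul]
    exact isTorsion I P n (x := (T n).1 x) (a := ⟨a, ha⟩))
  let sR : AdicCompletion I M →ₗ[R] AdicCompletion I P :=
    AdicCompletion.lift I (fun n => tb n ∘ₗ AdicCompletion.eval I M n) (fun {m n} h => by
      refine LinearMap.ext fun x => ?_
      obtain ⟨y, hy⟩ := Submodule.Quotient.mk_surjective _ (x.val n)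
      have hx : x.val m = Submodule.Quotient.mk y := by
        rw [← AdicCompletion.transitionMap_comp_eval_apply I M h x, ← hy]; rfl
      show AdicCompletion.transitionMap I P h (tb n (x.val n)) = tb m (x.val m)
      rw [hx, ← hy]
      exact LinearMap.congr_fun (htrans h) y)
  refine ⟨{ sR with map_smul' := fun r x => ?_ }, ?_⟩
  · refine AdicCompletion.ext fun n => ?_
    show tb n (r.val n • x.val n) = r.val n • tb n (x.val n)
    rw [AdicCompletion.val_smul_eq_evalₐ_smul, AdicCompletion.val_smul_eq_evalₐ_smul]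
    obtain ⟨a, ha⟩ := Ideal.Quotient.mk_surjective (AdicCompletion.evalₐ I n r)
    rw [← ha]
    exact map_smul (tb n) a _
  · refine LinearMap.ext fun x => AdicCompletion.ext fun n => ?_
    obtain ⟨y, hy⟩ := Submodule.Quotient.mk_surjective _ (x.val n)
    show red I g n (tb n (x.val n)) = x.val n
    rw [← hy]
    exact LinearMap.congr_fun (T n).2 y

end Groth.Agent.S9131

namespace Groth.Agent.S9131

/-- Let R be a ring, I an ideal, and 0 → K → P → M → 0 a short exact sequence of R-modules with M flat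
over R and M/IM projective over R/I. Then the induced sequence of I-adic completions is split short
exact: the map on completions of K → P is injective, the sequence is exact in the middle, and the
map on completions of P → M has a section linear over the completion of R (so it is surjective). -/
theorem result (R : Type u) [CommRing R] (I : Ideal R)
    (K P M : Type u) [AddCommGroup K] [Module R K] [AddCommGroup P] [Module R P]
    [AddCommGroup M] [Module R M] (f : K →ₗ[R] P) (g : P →ₗ[R] M)
    (hf : Function.Injective f) (hg : Function.Surjective g) (hfg : Function.Exact f g)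
    [Module.Flat R M] [Module.Projective (R ⧸ I) (M ⧸ (I • ⊤ : Submodule R M))] :
    Function.Injective (AdicCompletion.map I f) ∧
      Function.Exact (AdicCompletion.map I f) (AdicCompletion.map I g) ∧
      ∃ s : AdicCompletion I M →ₗ[AdicCompletion I R] AdicCompletion I P,
        AdicCompletion.map I g ∘ₗ s = LinearMap.id := by
  obtain ⟨h1, h2, -⟩ := Groth.Agent.S9599.result I f g hf hg hfg
  exact ⟨h1, h2, exists_section I g hg⟩

end Groth.Agent.S9131
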