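import Groth.Statements.S1198
import Groth.Agent.S1197
import Groth.Agent.S9131
import Groth.Agent.S6338

set_option autoImplicit false
universe u
open FlatMor

namespace Groth.Agent.S1198

/-- Let R be a Noetherian ring complete with respect to an ideal I and M a flat R-module whose reduction
M/IM is projective over R/I. Then M's I-adic completion is a flat and Mittag-Leffler R-module. -/
theorem result (R : Type u) [CommRing R] [IsNoetherianRing R] (I : Ideal R) [IsAdicComplete I R]
    (M : Type u) [AddCommGroup M] [Module R M] [Module.Flat R M]
    [Module.Projective (R ⧸ I) (M ⧸ (I • ⊤ : Submodule R M))] :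
    Module.Flat R (AdicCompletion I M) ∧ CAlg.IsMittagLeffler R (AdicCompletion I M) := by
  classical
  let g : (M →₀ R) →ₗ[R] M := Finsupp.linearCombination R id
  have hg : Function.Surjective g := Finsupp.linearCombination_surjective R Function.surjective_id
  obtain ⟨s, hs⟩ := Groth.Agent.S9131.exists_section I g hg
  obtain ⟨hflat, hml⟩ := Groth.Agent.S1197.result R I M
  have hid : (AdicCompletion.map I g).restrictScalars R ∘ₗ s.restrictScalars R = LinearMap.id :=
    LinearMap.ext fun x => LinearMap.congr_fun hs x
  refine ⟨Module.Flat.of_retract (s.restrictScalars R) ((AdicCompletion.map I g).restrictScalars R) hid,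
    Groth.Agent.S6338.result R (s.restrictScalars R) ?_ hml⟩
  intro Q _ _
  refine Function.LeftInverse.injective (g := ((AdicCompletion.map I g).restrictScalars R).rTensor Q)
    fun x => ?_
  rw [← LinearMap.comp_apply, ← LinearMap.rTensor_comp, hid, LinearMap.rTensor_id]
  rfl

end Groth.Agent.S1198
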