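import Groth.Statements.S16838
import Groth.Agent.AbVarLib.FrobRH
-- import your own Groth.Agent.* helpers here

set_option autoImplicit false
universe u
open CategoryTheory MonoidalCategory CartesianMonoidalCategory MonObj GrpObj AlgebraicGeometry
open AbVar

namespace Groth.Agent.S16838

/-- Let k be a finite field with q elements and algebraic closure Ω, ℓ a prime invertible in k, and X an
abelian variety over k (a proper, geometrically integral commutative group scheme over k) of
dimension g, with geometric Frobenius π_X (the endomorphism that is the identity on points and the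
q-th power map on sections); assume, as is the case, that the ℓ-adic Tate module of Ω-points T_ℓ X
is free of finite rank over ℤ_ℓ, and let f_X ∈ ℤ[t] be the polynomial mapping to the characteristic
polynomial of T_ℓ(π_X) (the characteristic polynomial of Frobenius). Then every complex root α of
f_X satisfies |α| = √q. (Here f_X is the characteristic polynomial of T_ℓ(π_X) itself, not merely
some polynomial governing the point counts.) -/
theorem result (k Ω : Type u) [Field k] [Finite k] [Field Ω] [Algebra k Ω] [IsAlgClosure k Ω]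
    (l : ℕ) [Fact l.Prime] (hl : (l : k) ≠ 0) (X : Over (Spec (CommRingCat.of k)))
    [GrpObj X] [IsCommMonObj X] [IsProper X.hom] [GeometricallyIntegral X.hom]
    (πX : X ⟶ X) [IsMonHom πX] (hπb : πX.left.base = 𝟙 _)
    (hπle : ∀ U : X.left.Opens, U ≤ πX.left ⁻¹ᵁ U)
    (hπapp : ∀ (U : X.left.Opens) (s : Γ(X.left, U)), (πX.left.appLE U U (hπle U)).hom s = s ^ Nat.card k)
    [Module.Free ℤ_[l] (AbDual.TateMod X l (SGA7.pt Ω))] [Module.Finite ℤ_[l] (AbDual.TateMod X l (SGA7.pt Ω))]
    (P : Polynomial ℤ) (hP : (AbDual.tateMapₗ (l := l) (T := SGA7.pt Ω) πX).charpoly = P.map (Int.castRingHom ℤ_[l])) :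
    ∀ α ∈ (P.map (Int.castRingHom ℂ)).roots, ‖α‖ = Real.sqrt (Nat.card k) := by
  open Groth.Agent Groth.Agent.AbVarLib Polynomial in
  open scoped Groth.Agent.PicLaw in
  exact by
    classical
    have : IsAlgClosed Ω := IsAlgClosure.isAlgClosed k
    obtain ⟨r, hr⟩ := HomBC.exists_dim X
    obtain ⟨P', hPm, hPd, hPv, hPc⟩ := CharpolyBC.exists_charpoly Ω hr πX
    obtain rfl : P' = P := Polynomial.map_injective (Int.castRingHom ℤ_[l]) Int.cast_injective ((hPc l hl).symm.trans hP)
    rcases Nat.eq_zero_or_pos r with h0 | hr1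
    · rw [h0] at hPd
      rw [hPm.natDegree_eq_zero.mp hPd, Polynomial.map_one, roots_one]
      intro α hα
      simp at hα
    let φ : EndAV.End X := EndAV.End.of πX
    have hc0 : P'.coeff 0 ≠ 0 := by
      intro h0
      have hf := FrobSS.isFinite_of_base_eq_id _ hπb
      have : IsIntegral X.left := GeometricallyIntegral.isIntegral_of_subsingleton X.hom
      have : Surjective πX.left := Isogeny.surjective_of_isFinite _ rfl
      have := GrpScheme.HomFlat.flat_of_surjective πX
      have : LocallyOfFinitePresentation πX.left := GrpdLib.GrpOver.lfp_left _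
      obtain ⟨a⟩ : Nonempty X.left := inferInstance
      have e0 : πX * 𝟙 X ^ (-(0 : ℤ)) = πX := by simp
      have h := hPv 0
      rw [e0, ← coeff_zero_eq_eval_zero, h0] at h
      have h2 := h.1 hf (πX.left a)
      have h3 := Scheme.Hom.one_le_finrank_map πX.left a
      omega
    have hPann : aeval φ P' = 0 := by
      refine EndTate.aeval_eq_zero Ω l hl φ P' ?_
      rw [← hP]
      exact LinearMap.aeval_self_charpoly _
    have := HomBC.isCommMonObj (Ω := Ω) X
    let B := FrobSS.endMap (A := X) Ω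
    have hBa : ∀ H : ℤ[X], B (aeval φ H) = aeval (B φ) H := fun H => by
      rw [aeval_def, aeval_def, hom_eval₂]
      congr 1
      exact RingHom.ext_int _ _
    obtain ⟨L, hL⟩ := GrpScheme.AVAmple.exists_isAmple X
    let pr := Limits.pullback.fst X.hom (HomBC.ext (k := k) Ω)
    have haff : IsAffineHom pr := by
      haveI : IsAffineHom (HomBC.ext (k := k) Ω) := isAffineHom_of_isAffine _
      exact MorphismProperty.of_isPullback (P := @IsAffineHom)
        (IsPullback.of_hasPullback X.hom (HomBC.ext Ω)).flip ‹_›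
    have hL' : CohB1.IsAmple ((Scheme.Modules.pullback pr).obj L) :=
      AmpleLib.isAmple_pullback_of_qaMor _ ⟨inferInstance, fun V hV =>
        AmpleLib.isQuasiAffine_of_isAffineOpen (hV.preimage pr)⟩ hL
    set c := PicGrp.cls ((Scheme.Modules.pullback pr).obj L) hL'.1 with hl'
    have hop : PicLaw.Mumford.op (EndAV.End.toHom (B φ)) c = c ^ Nat.card k := by
      have e : (EndAV.End.toHom (B φ)).left ≫ pr = pr ≫ πX.left := Limits.pullback.lift_fst _ _ _
      have el : c = PicLaw.pl pr (PicGrp.cls L hL.1) := PicLaw.cls_pullback pr hL.1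
      show PicLaw.pl (EndAV.End.toHom (B φ)).left c = _
      rw [el, ← PicLaw.pl_comp, e, PicLaw.pl_comp, AbExt.FrobLambda.pl_eq_pow _ (Nat.card k) hπb hπle hπapp, map_pow]
    have hψ : B φ * aeval (B φ) (-P'.divX) = ((P'.coeff 0 : ℤ) : EndAV.End (HomBC.bcΩ Ω X)) := by
      have h := congrArg B hPann
      rw [hBa, map_zero, ← Polynomial.X_mul_divX_add P', map_add, map_mul, aeval_X, aeval_C,
        eq_intCast, add_eq_zero_iff_eq_neg'] at h
      rw [map_neg, mul_neg]
      exact h.symm
    have hadj : AdjRed.Adj c (B φ) (aeval (B φ) ((Nat.card k : ℤ) • (-P'.divX))) (P'.coeff 0) := fun x y => by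
      set ψ := aeval (B φ) (-P'.divX) with hψdef
      have hx : x ^ (P'.coeff 0) = (x ≫ EndAV.End.toHom ψ) ≫ EndAV.End.toHom (B φ) := by
        rw [Category.assoc, ← EndAV.End.toHom_mul, hψ, ← zsmul_one, AdjRed.comp_zsmul, EndAV.End.toHom_one,
          Category.comp_id]
      rw [← AdjRed.pair_zpow_left, hx, ← AbVarTrace.TracePos.pair_op, hop, AbVarTrace.TraceLin.pair_pow_base,
        map_zsmul, ← hψdef, AdjRed.comp_zsmul, AdjRed.pair_zpow_left, zpow_natCast]
    have hr' := (HomBC.dim_eq (Ω := Ω) X).trans hr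
    have hlΩ : (l : Ω) ≠ 0 := fun h => hl ((algebraMap k Ω).injective (by rwa [map_natCast, map_zero]))
    let e := HomBC.tateEquiv (Ω := Ω) l X
    have : Module.Free ℤ_[l] (AbDual.TateMod (HomBC.bcΩ Ω X) l (𝟙_ (Over (Spec (CommRingCat.of Ω))))) :=
      Module.Free.of_equiv e.symm
    have : Module.Finite ℤ_[l] (AbDual.TateMod (HomBC.bcΩ Ω X) l (𝟙_ (Over (Spec (CommRingCat.of Ω))))) :=
      Module.Finite.equiv e.symm
    obtain ⟨P₁, hm₁, hd₁, hv₁⟩ := S15674.result Ω (HomBC.bcΩ Ω X) r hr' (EndAV.End.toHom (B φ))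
    obtain rfl : P₁ = P' := by
      refine Polynomial.map_injective (Int.castRingHom ℤ_[l]) Int.cast_injective ?_
      rw [← CharpolyTate.charpoly_eq l hlΩ (EndAV.End.toHom (B φ)) P₁ hv₁, ← hP, ← LinearEquiv.charpoly_conj e]
      congr 1
      refine LinearMap.ext fun x => ?_
      rw [LinearEquiv.conj_apply_apply]
      have h := HomBC.tateEquiv_comp (Ω := Ω) (A := X) (B := X) l (EndAV.Hom.of πX) (e.symm x)
      rw [EndAV.Hom.tateMap_apply, e.apply_symm_apply] at h
      exact h
    have spec : ∀ (ψ : EndAV.End (HomBC.bcΩ Ω X)) (Q : ℤ[X]),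
        (∀ n : ℤ, (IsFinite (EndAV.End.toHom ψ * 𝟙 _ ^ (-n)).left →
            ∀ a, (Scheme.Hom.finrank (EndAV.End.toHom ψ * 𝟙 _ ^ (-n)).left a : ℤ) = Q.eval n) ∧
          (¬ IsFinite (EndAV.End.toHom ψ * 𝟙 _ ^ (-n)).left → Q.eval n = 0)) →
        ∀ n : ℤ, (IsFinite (EndAV.End.toHom (ψ - (n : EndAV.End (HomBC.bcΩ Ω X)))).left →
            ∀ a, (Scheme.Hom.finrank (EndAV.End.toHom (ψ - (n : EndAV.End (HomBC.bcΩ Ω X)))).left a : ℚ) = (Q.map (Int.castRingHom ℚ)).eval (n : ℚ)) ∧
          (¬ IsFinite (EndAV.End.toHom (ψ - (n : EndAV.End (HomBC.bcΩ Ω X)))).left → (Q.map (Int.castRingHom ℚ)).eval (n : ℚ) = 0) := by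
      intro ψ Q hQ n
      rw [EndAV.End.toHom_sub, EndAV.End.toHom_intCast, div_eq_mul_inv, ← zpow_neg]
      have ev : (Q.map (Int.castRingHom ℚ)).eval (n : ℚ) = ((Q.eval n : ℤ) : ℚ) := Polynomial.eval_intCast_map _ _ _
      rw [ev]
      exact ⟨fun hf a => by rw [← (hQ n).1 hf a, Int.cast_natCast], fun hf => by rw [(hQ n).2 hf, Int.cast_zero]⟩
    have emap : ∀ Q : ℤ[X], Q.map (Int.castRingHom ℂ) = (Q.map (Int.castRingHom ℚ)).map (algebraMap ℚ ℂ) := fun Q => by
      rw [Polynomial.map_map, RingHom.ext_int (Int.castRingHom ℂ) ((algebraMap ℚ ℂ).comp _)]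
    set Z := (P₁.map (Int.castRingHom ℂ)).roots with hZdef
    have hroot : ∀ w ∈ Z, aeval w P₁ = 0 := fun w hw => by
      have := (mem_roots'.mp hw).2
      rwa [IsRoot, Polynomial.eval_map] at this
    have hZ : ∀ w ∈ Z, w ≠ 0 := fun w hw h => by
      have h2 := hroot w hw
      rw [h, ← coeff_zero_eq_aeval_zero'] at h2
      exact hc0 (Int.cast_eq_zero.mp h2)
    refine FrobRH.norm_eq_of_nonneg (Nat.card k) Nat.card_pos Z hZ fun G => ?_
    obtain ⟨n, H, hn, hAdj, hval⟩ := FrobRH.exists_adj' hc0 (Nat.card k) _ Z (fun w hw => by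
      have h := hroot w hw
      rw [← Polynomial.X_mul_divX_add P₁, map_add, map_mul, aeval_X, aeval_C] at h
      have hw0 := hZ w hw
      rw [map_zsmul, map_neg, zsmul_eq_mul, Int.cast_natCast]
      simp only [eq_intCast] at h
      field_simp
      linear_combination -(Nat.card k : ℂ) * h) hadj G
    let F : ℤ[X] := C n * H * G
    have hF : aeval (B φ) F = n • aeval (B φ) H * aeval (B φ) G := by
      rw [map_mul, map_mul, aeval_C, eq_intCast, zsmul_eq_mul]
    obtain ⟨Q, hQm, hQd, hQv⟩ := S15674.result Ω (HomBC.bcΩ Ω X) r hr' (EndAV.End.toHom (aeval (B φ) F))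
    have hroots := S15657.result Ω (HomBC.bcΩ Ω X) r hr' (B φ) F (P₁.map (Int.castRingHom ℚ)) (Q.map (Int.castRingHom ℚ))
      ⟨hm₁.map _, by rw [hm₁.natDegree_map, hd₁], spec _ _ hv₁⟩
      ⟨hQm.map _, by rw [hQm.natDegree_map, hQd], spec _ _ hQv⟩
    rw [← emap, ← emap] at hroots
    have hsum : (Q.map (Int.castRingHom ℂ)).roots.sum =
        ((n : ℂ) * n) * (Z.map fun w => aeval w G * aeval ((Nat.card k : ℂ) / w) G).sum := by
      rw [hroots, ← Multiset.sum_map_mul_left]
      refine congrArg Multiset.sum (Multiset.map_congr rfl fun w hw => ?_)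
      rw [map_mul, map_mul, aeval_C, eq_intCast, hval w hw]
      ring
    have hnn : 0 ≤ (Q.map (Int.castRingHom ℂ)).roots.sum.re := by
      by_cases hG : aeval (B φ) G = 0
      · have hQX : Q = Polynomial.X ^ (2 * r) := by
          refine Polynomial.map_injective (Int.castRingHom ℤ_[l]) Int.cast_injective ?_
          have hc := CharpolyTate.charpoly_eq l hlΩ (EndAV.End.toHom (aeval (B φ) F)) Q hQv
          have hd := LinearMap.charpoly_natDegree
            (AbDual.tateMapₗ (l := l) (T := 𝟙_ (Over (Spec (CommRingCat.of Ω)))) (EndAV.End.toHom (aeval (B φ) F)))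
          rw [hc, hQm.natDegree_map, hQd] at hd
          rw [← hc, Polynomial.map_pow, Polynomial.map_X]
          have hnil : IsNilpotent (aeval (B φ) F) := ⟨1, by rw [pow_one, hF, hG, mul_zero]⟩
          have h := IsNilpotent.charpoly_eq_X_pow_finrank
            (hnil.map (EndAV.End.tateRep (A := HomBC.bcΩ Ω X) l (𝟙_ (Over (Spec (CommRingCat.of Ω))))))
          rw [← hd] at h
          exact h
        rw [hQX, Polynomial.map_pow, Polynomial.map_X, roots_X_pow, Multiset.sum_nsmul]
        simp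
      · have hpos := FrobRH.coeff_pos_of_adj hr' hr1 hL' _ _ n hn hAdj hG Q (by rw [← hF]; exact hQv)
        rw [show (-Polynomial.X : ℚ[X]) = C (-1) * Polynomial.X by simp, comp_C_mul_X_coeff,
          (show Odd (2 * r - 1) from ⟨r - 1, by omega⟩).neg_one_pow, coeff_map, eq_intCast] at hpos
        have h := Polynomial.Splits.nextCoeff_eq_neg_sum_roots_of_monic (IsAlgClosed.splits (Q.map (Int.castRingHom ℂ))) (hQm.map _)
        rw [nextCoeff_map (f := Int.castRingHom ℂ) Int.cast_injective, Polynomial.nextCoeff, if_neg (by omega), hQd] at h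
        rw [show (Q.map (Int.castRingHom ℂ)).roots.sum = -((Q.coeff (2 * r - 1) : ℤ) : ℂ) by rw [← neg_neg (Multiset.sum _), ← h]; rfl]
        simp only [Complex.neg_re, Complex.intCast_re]
        have : ((Q.coeff (2 * r - 1) : ℤ) : ℚ) < 0 := by linarith
        have h9 : ((Q.coeff (2 * r - 1) : ℤ) : ℝ) < 0 := Int.cast_lt_zero.mpr (Int.cast_lt_zero.mp this)
        linarith
    rw [hsum, show ((n : ℂ) * n) = (((n : ℝ) * n : ℝ) : ℂ) by push_cast; rfl, Complex.re_ofReal_mul] at hnn
    exact (mul_nonneg_iff_of_pos_left (mul_self_pos.mpr (Int.cast_ne_zero.mpr hn))).mp hnn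

end Groth.Agent.S16838
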