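import Groth.Statements.S1203
import Groth.Agent.S1198
import Groth.Agent.S1200
import Groth.Agent.S0584
import Groth.Agent.S6338
import Mathlib.RingTheory.Flat.Tensor
import Mathlib.Algebra.DirectSum.Module

set_option autoImplicit false
universe u
open FlatMor

namespace Groth.Agent.S1203

theorem isCountablyGenerated {R S : Type u} [CommRing R] [CommRing S] [Algebra R S] [Algebra.FiniteType R S]
    (N : Type u) [AddCommGroup N] [Module S N] [Module R N] [IsScalarTower R S N] [Module.Finite S N] :
    CAlg.IsCountablyGenerated R N := by
  classical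
  obtain ⟨n, φ, hφ⟩ := Algebra.FiniteType.iff_quotient_mvPolynomial''.1 (inferInstance : Algebra.FiniteType R S)
  obtain ⟨s, hs⟩ := (Module.Finite.fg_top : (⊤ : Submodule S N).FG)
  refine ⟨Set.range (fun p : (Fin n →₀ ℕ) × (s : Set N) => φ (MvPolynomial.monomial p.1 1) • (p.2 : N)),
    Set.countable_range _, ?_⟩
  have h1 : Submodule.span R (Set.range fun m : Fin n →₀ ℕ => φ (MvPolynomial.monomial m 1)) = ⊤ := by
    have h := (MvPolynomial.basisMonomials (Fin n) R).span_eq
    have h' := congrArg (Submodule.map φ.toLinearMap) h
    rw [Submodule.map_span, Submodule.map_top, LinearMap.range_eq_top.2 (show Function.Surjective φ.toLinearMap from hφ),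
      ← Set.range_comp] at h'
    simpa [Function.comp_def] using h'
  have h2 := Submodule.span_smul_of_span_eq_top h1 (s : Set N)
  rw [hs, Submodule.restrictScalars_top] at h2
  rw [← h2]
  congr 1
  ext x
  simp [Set.mem_smul, Set.mem_range, Prod.exists]

end Groth.Agent.S1203

namespace Groth.Agent.S1203

/-- Let R be a Noetherian ring complete with respect to an ideal I, S a finite type R-algebra and N a
finite S-module which is flat over R, such that N/IN is a projective R/I-module and such that for
every prime q of S, over p in R, whose extension to the fibre ring over p is an associated prime of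
the fibre module of N, the ideal IS + q is proper. Then N is a projective R-module. -/
theorem result {R S : Type u} [CommRing R] [CommRing S] [Algebra R S] [IsNoetherianRing R] (I : Ideal R) [IsAdicComplete I R]
    [Algebra.FiniteType R S]
    (N : Type u) [AddCommGroup N] [Module S N] [Module R N] [IsScalarTower R S N] [Module.Finite S N] [Module.Flat R N]
    [Module.Projective (R ⧸ I) (N ⧸ (I • ⊤ : Submodule R N))]
    (h : ∀ (p : Ideal R) (q : Ideal S) [p.IsPrime] [q.IsPrime] [q.LiesOver p],
      FlatCA.fiberIdeal p q ∈ associatedPrimes (p.Fiber S) (FlatCA.fiberMod p S N) → I.map (algebraMap R S) ⊔ q ≠ ⊤) :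
    Module.Projective R N := by
  haveI : IsNoetherianRing S := Algebra.FiniteType.isNoetherianRing R S
  obtain ⟨hflat, hml⟩ := Groth.Agent.S1198.result R I N
  have hU := Groth.Agent.S1200.result I N h
  have hNml : CAlg.IsMittagLeffler R N := Groth.Agent.S6338.result R (AdicCompletion.of I N)
    (fun Q _ _ => by
      exact (LinearMap.lTensor_inj_iff_rTensor_inj Q _).1 (hU Q)) hml
  refine (Groth.Agent.S0584.result R N).2 ⟨inferInstance, hNml, PUnit, fun _ => ⊤, ?_, fun _ => ?_⟩
  · convert DirectSum.isInternal_submodule_of_iSupIndep_of_iSup_eq_top (A := fun _ : PUnit.{u+1} => (⊤ : Submodule R N)) ?_ iSup_const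
    intro i
    rw [disjoint_iff]
    simp
  · obtain ⟨T, hT, hTs⟩ := isCountablyGenerated (R := R) (S := S) N
    refine ⟨(Submodule.topEquiv (R := R) (M := N)).symm '' T, hT.image _, ?_⟩
    rw [Submodule.span_image_linearEquiv, hTs, Submodule.map_top, LinearEquiv.range]

end Groth.Agent.S1203
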