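import Groth.Statements.S1204
import Groth.Agent.HP.Glob.Tfae
-- import your own Groth.Agent.* helpers here

set_option autoImplicit false
universe u
open FlatMor

namespace Groth.Agent.S1204

open TensorProduct

theorem kill_of_mem {R S : Type u} [CommRing R] [CommRing S] [Algebra R S] [Algebra.FinitePresentation R S]
    [Module.Flat R S] (hgi : FlatCA.GeomIntegralFibres R S) (rr : Ideal R) [rr.IsPrime] (η : Ideal S) [η.IsPrime]
    [η.LiesOver rr] {r : ℕ} (v : Fin r → S) {t : S} (ht : t ∉ η) (htv : t • v = 0) :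
    ∃ f ∉ rr, f • v = 0 := by
  classical
  obtain ⟨f, hf, hft⟩ := HP.Glob.exists_fibre_ne_zero rr η t ht
  choose m hm using fun i => (HP.Glob.GI.of_geomIntegral hgi).eq_zero_of_pow_smul f t hft R (v i ⊗ₜ[R] (1 : R)) 1
    (by rw [pow_one, TensorProduct.smul_tmul', show t • v i = 0 from congrFun htv i, TensorProduct.zero_tmul])
  refine ⟨f ^ ∑ i, m i, fun h => hf ((inferInstance : rr.IsPrime).mem_of_pow_mem _ h), funext fun i => ?_⟩
  have := congrArg (TensorProduct.rid R S) (hm i)
  rw [map_smul, TensorProduct.rid_tmul, one_smul, map_zero] at this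
  rw [← Finset.sum_erase_add _ _ (Finset.mem_univ i), pow_add, mul_smul, Pi.smul_apply, Pi.smul_apply, this, smul_zero]
  rfl

open TensorProduct IsLocalRing in
/-- Let R be a local ring and S a finitely presented flat R-algebra with geometrically integral fibres,
so that 𝔭 = 𝔪_R S is a prime of S; let q be a prime of S over 𝔪_R and N a finite S-module. Then
there is an S-linear map α from a finite free module S^r to N inducing a bijection after base change
to κ(𝔭); and for any such α the following are equivalent: N_q is flat over R; α is universally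
injective over R and the cokernel of α is flat over R at q; α is injective and the cokernel is flat
at q; α localized at 𝔭 is bijective and the cokernel is flat at q; α localized at q is injective and
the cokernel is flat at q. -/
theorem result {R S : Type u} [CommRing R] [IsLocalRing R] [CommRing S] [Algebra R S] [Algebra.FinitePresentation R S] [Module.Flat R S]
    (hgi : FlatCA.GeomIntegralFibres R S) [((maximalIdeal R).map (algebraMap R S)).IsPrime]
    (q : Ideal S) [q.IsPrime] [q.LiesOver (maximalIdeal R)]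
    (N : Type u) [AddCommGroup N] [Module S N] [Module R N] [IsScalarTower R S N] [Module.Finite S N] :
    (∃ (r : ℕ) (α : (Fin r → S) →ₗ[S] N), Function.Bijective (α.baseChange ((maximalIdeal R).map (algebraMap R S)).ResidueField)) ∧
    ∀ (r : ℕ) (α : (Fin r → S) →ₗ[S] N), Function.Bijective (α.baseChange ((maximalIdeal R).map (algebraMap R S)).ResidueField) →
      [FlatCA.FlatAt R q N,
       FlatCA.UnivInj R (α.restrictScalars R) ∧ FlatCA.FlatAt R q (N ⧸ LinearMap.range α),
       Function.Injective α ∧ FlatCA.FlatAt R q (N ⧸ LinearMap.range α),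
       Function.Bijective (LocalizedModule.map ((maximalIdeal R).map (algebraMap R S)).primeCompl α) ∧ FlatCA.FlatAt R q (N ⧸ LinearMap.range α),
       Function.Injective (LocalizedModule.map q.primeCompl α) ∧ FlatCA.FlatAt R q (N ⧸ LinearMap.range α)].TFAE := by
  classical
  let 𝔭 := (maximalIdeal R).map (algebraMap R S)
  have h𝔭q : 𝔭 ≤ q := Ideal.map_le_iff_le_comap.mpr (q.over_def (maximalIdeal R)).le
  haveI : 𝔭.LiesOver (maximalIdeal R) := ⟨((maximalIdeal.isMaximal R).eq_of_le
    (Ideal.comap_ne_top _ (Ideal.IsPrime.ne_top inferInstance)) Ideal.le_comap_map)⟩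
  haveI : Module.Projective R S := (HP.Glob.GI.of_geomIntegral hgi).projective
  haveI : Module.Free R S := S0582.result R S
  refine ⟨HP.Glob.exists_basis_map 𝔭, fun r α hα => ?_⟩
  tfae_have 1 → 2 := fun h => by
    have h2 := HP.DevStep.step q N h α hα.1
    exact ⟨fun Q _ _ => (LinearMap.lTensor_inj_iff_rTensor_inj (f := α.restrictScalars R) Q).mpr (h2.1 Q), h2.2⟩
  tfae_have 2 → 3 := fun h => ⟨HP.Glob.injective_of_univInj (α.restrictScalars R) h.1, h.2⟩
  tfae_have 3 → 4 := fun h => ⟨⟨LocalizedModule.map_injective _ α h.1, HP.Glob.surjective_map_at 𝔭 α hα.2⟩, h.2⟩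
  tfae_have 4 → 3 := fun h => by
    refine ⟨(injective_iff_map_eq_zero α).mpr fun v hv => ?_, h.2⟩
    obtain ⟨t, ht, htv⟩ := (HP.Glob.injective_map_iff 𝔭.primeCompl α).mp h.1.1 v hv
    obtain ⟨f, hf, hfv⟩ := kill_of_mem hgi (maximalIdeal R) 𝔭 v ht htv
    exact (notMem_maximalIdeal.mp hf).smul_eq_zero.mp hfv
  tfae_have 3 → 5 := fun h => ⟨LocalizedModule.map_injective _ α h.1, h.2⟩
  tfae_have 5 → 4 := fun h => by
    refine ⟨⟨(HP.Glob.injective_map_iff _ α).mpr fun v hv => ?_, HP.Glob.surjective_map_at 𝔭 α hα.2⟩, h.2⟩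
    obtain ⟨t, ht, htv⟩ := (HP.Glob.injective_map_iff q.primeCompl α).mp h.1 v hv
    exact ⟨t, fun h' => ht (h𝔭q h'), htv⟩
  tfae_have 5 → 1 := fun h => HP.Glob.flatAt_of_coker q α h.1 h.2
  tfae_finish

end Groth.Agent.S1204
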