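import Groth.Statements.S1205
import Groth.Agent.HP.Glob.Tfae
import Groth.Agent.FlatOpen.API
-- import your own Groth.Agent.* helpers here

set_option autoImplicit false
universe u
open FlatMor

namespace Groth.Agent.S1205

open TensorProduct

theorem kill_of_mem {R S : Type u} [CommRing R] [CommRing S] [Algebra R S] [Algebra.FinitePresentation R S]
    [Module.Flat R S] (hgi : FlatCA.GeomIntegralFibres R S) (rr : Ideal R) [rr.IsPrime] (η : Ideal S) [η.IsPrime]
    [η.LiesOver rr] {r : ℕ} (v : Fin r → S) {t : S} (ht : t ∉ η) (htv : t • v = 0) :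
    ∃ f ∉ rr, f • v = 0 := by
  classical
  obtain ⟨f, hf, hft⟩ := HP.Glob.exists_fibre_ne_zero rr η t ht
  choose m hm using fun i => (HP.Glob.GI.of_geomIntegral hgi).eq_zero_of_pow_smul f t hft R (v i ⊗ₜ[R] (1 : R)) 1
    (by rw [pow_one, TensorProduct.smul_tmul', show t • v i = 0 from congrFun htv i, TensorProduct.zero_tmul])
  refine ⟨f ^ ∑ i, m i, fun h => hf ((inferInstance : rr.IsPrime).mem_of_pow_mem _ h), funext fun i => ?_⟩
  have := congrArg (TensorProduct.rid R S) (hm i)
  rw [map_smul, TensorProduct.rid_tmul, one_smul, map_zero] at this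
  rw [← Finset.sum_erase_add _ _ (Finset.mem_univ i), pow_add, mul_smul, Pi.smul_apply, Pi.smul_apply, this, smul_zero]
  rfl

open TensorProduct in
/-- Let S be a finitely presented flat R-algebra with geometrically integral fibres, q a prime of S over
the prime 𝔯 of R, so that 𝔭 = 𝔯S is a prime of S, and N a finitely presented S-module. Then there is
an S-linear map α from a finite free module S^r to N inducing a bijection after base change to κ(𝔭);
and for any such α the following are equivalent: N_q is flat over R; for some f ∈ R outside 𝔯 the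
localization α_f is universally injective over R and for some g ∈ S outside q the localization of
the cokernel at g is flat over R; α localized at (the image of) 𝔯 is universally injective over R
and the cokernel is flat over R at q; α localized at 𝔯 is injective and the cokernel is flat at q; α
localized at 𝔭 is bijective and the cokernel is flat at q; α localized at q is injective and the
cokernel is flat at q. (Universal injectivity over R_f or R_𝔯 of a map of modules over these
localizations is the same as over R, which is how it is written.) -/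
theorem result {R S : Type u} [CommRing R] [CommRing S] [Algebra R S] [Algebra.FinitePresentation R S] [Module.Flat R S]
    (hgi : FlatCA.GeomIntegralFibres R S) (rr : Ideal R) [rr.IsPrime] [(rr.map (algebraMap R S)).IsPrime]
    (q : Ideal S) [q.IsPrime] [q.LiesOver rr]
    (N : Type u) [AddCommGroup N] [Module S N] [Module R N] [IsScalarTower R S N] [Module.FinitePresentation S N] :
    (∃ (r : ℕ) (α : (Fin r → S) →ₗ[S] N), Function.Bijective (α.baseChange (rr.map (algebraMap R S)).ResidueField)) ∧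
    ∀ (r : ℕ) (α : (Fin r → S) →ₗ[S] N), Function.Bijective (α.baseChange (rr.map (algebraMap R S)).ResidueField) →
      [FlatCA.FlatAt R q N,
       (∃ f : R, f ∉ rr ∧ FlatCA.UnivInj R ((LocalizedModule.map (Submonoid.powers (algebraMap R S f)) α).restrictScalars R)) ∧
         (∃ g : S, g ∉ q ∧ Module.Flat R (LocalizedModule (Submonoid.powers g) (N ⧸ LinearMap.range α))),
       FlatCA.UnivInj R ((LocalizedModule.map (Algebra.algebraMapSubmonoid S rr.primeCompl) α).restrictScalars R) ∧ FlatCA.FlatAt R q (N ⧸ LinearMap.range α),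
       Function.Injective (LocalizedModule.map (Algebra.algebraMapSubmonoid S rr.primeCompl) α) ∧ FlatCA.FlatAt R q (N ⧸ LinearMap.range α),
       Function.Bijective (LocalizedModule.map (rr.map (algebraMap R S)).primeCompl α) ∧ FlatCA.FlatAt R q (N ⧸ LinearMap.range α),
       Function.Injective (LocalizedModule.map q.primeCompl α) ∧ FlatCA.FlatAt R q (N ⧸ LinearMap.range α)].TFAE := by
  classical
  let 𝔭 := rr.map (algebraMap R S)
  have h𝔭q : 𝔭 ≤ q := Ideal.map_le_iff_le_comap.mpr (q.over_def rr).le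
  haveI : 𝔭.LiesOver rr := ⟨le_antisymm Ideal.le_comap_map ((Ideal.comap_mono h𝔭q).trans (q.over_def rr).ge)⟩
  have hGI := HP.Glob.GI.of_geomIntegral hgi
  let T := Algebra.algebraMapSubmonoid S rr.primeCompl
  have hTq : ∀ t ∈ T, t ∉ q := by
    rintro _ ⟨a, ha, rfl⟩ h
    exact ha ((q.over_def rr).ge h)
  have hT𝔭 : ∀ t ∈ T, t ∉ 𝔭 := fun t ht h => hTq t ht (h𝔭q h)
  refine ⟨HP.Glob.exists_basis_map 𝔭, fun r α hα => ?_⟩
  tfae_have 1 → 2 := fun h => by
    haveI hN𝔭 : FlatCA.FlatAt R 𝔭 N := FlatOpen.flatAt_of_le h𝔭q h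
    obtain ⟨g, hg, hgb⟩ := HP.Glob.exists_bijective rr 𝔭
      (fun b hb => ⟨1, (Ideal.ne_top_iff_one 𝔭).mp (Ideal.IsPrime.ne_top inferInstance), by rwa [one_mul]⟩) N hN𝔭 α hα
    obtain ⟨f, hf, hfg⟩ := HP.Glob.exists_fibre_ne_zero rr 𝔭 g hg
    have hkill := fun (X : Type u) [AddCommGroup X] [Module R X] x hx =>
      HP.Glob.univInj_of_bijective hGI f g hfg α hgb X x hx
    refine ⟨⟨f, hf, HP.Glob.univInj_map _ α fun X _ _ x hx => ?_⟩, ?_⟩
    · obtain ⟨m, hm⟩ := hkill X x hx
      exact ⟨algebraMap R S f ^ m, ⟨m, rfl⟩, by rwa [← map_pow, IsScalarTower.algebraMap_smul]⟩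
    have hC : FlatCA.FlatAt R q (N ⧸ LinearMap.range α) := by
      refine HP.Glob.flatAt_coker q α h (HP.Glob.univInj_map _ α fun X _ _ x hx => ?_)
      obtain ⟨m, hm⟩ := hkill X x hx
      exact ⟨algebraMap R S f ^ m, fun h' => hf ((q.over_def rr).ge ((inferInstance : q.IsPrime).mem_of_pow_mem m h')),
        by rwa [← map_pow, IsScalarTower.algebraMap_smul]⟩
    haveI : Module.FinitePresentation S (N ⧸ LinearMap.range α) :=
      Module.finitePresentation_of_surjective _ (Submodule.mkQ_surjective _) (by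
        rw [Submodule.ker_mkQ, LinearMap.range_eq_map]; exact Module.Finite.fg_top.map α)
    obtain ⟨_, ⟨g', rfl⟩, hg', hsub⟩ := PrimeSpectrum.isTopologicalBasis_basic_opens.exists_subset_of_mem_open
      (show (⟨q, inferInstance⟩ : PrimeSpectrum S) ∈ _ from hC) (FlatOpen.isOpen_flatLocus R S (N ⧸ LinearMap.range α))
    exact ⟨g', hg', RGFlat.flat_away g' fun Q _ hQ => hsub (show (⟨Q, inferInstance⟩ : PrimeSpectrum S) ∈ _ from hQ)⟩
  tfae_have 2 → 3 := fun ⟨⟨f, hf, hu⟩, ⟨g, hg, hfl⟩⟩ => by
    refine ⟨HP.Glob.univInj_map _ α fun X _ _ x hx => ?_, HP.flatAt_of_flat_away g hfl q hg⟩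
    obtain ⟨_, ⟨m, rfl⟩, hm⟩ := HP.Glob.kill_of_univInj _ α hu X x hx
    exact ⟨algebraMap R S f ^ m, ⟨f ^ m, fun h => hf ((inferInstance : rr.IsPrime).mem_of_pow_mem m h),
      map_pow _ _ _⟩, hm⟩
  tfae_have 3 → 4 := fun h => ⟨HP.Glob.injective_of_univInj ((LocalizedModule.map T α).restrictScalars R) h.1, h.2⟩
  tfae_have 4 → 5 := fun h => by
    refine ⟨⟨(HP.Glob.injective_map_iff _ α).mpr fun v hv => ?_, HP.Glob.surjective_map_at 𝔭 α hα.2⟩, h.2⟩
    obtain ⟨t, ht, htv⟩ := (HP.Glob.injective_map_iff T α).mp h.1 v hv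
    exact ⟨t, hT𝔭 t ht, htv⟩
  tfae_have 5 → 4 := fun h => by
    refine ⟨(HP.Glob.injective_map_iff _ α).mpr fun v hv => ?_, h.2⟩
    obtain ⟨t, ht, htv⟩ := (HP.Glob.injective_map_iff 𝔭.primeCompl α).mp h.1.1 v hv
    obtain ⟨f, hf, hfv⟩ := kill_of_mem hgi rr 𝔭 v ht htv
    exact ⟨algebraMap R S f, ⟨f, hf, rfl⟩, by rwa [IsScalarTower.algebraMap_smul]⟩
  tfae_have 4 → 6 := fun h => by
    refine ⟨(HP.Glob.injective_map_iff _ α).mpr fun v hv => ?_, h.2⟩
    obtain ⟨t, ht, htv⟩ := (HP.Glob.injective_map_iff T α).mp h.1 v hv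
    exact ⟨t, hTq t ht, htv⟩
  tfae_have 6 → 5 := fun h => by
    refine ⟨⟨(HP.Glob.injective_map_iff _ α).mpr fun v hv => ?_, HP.Glob.surjective_map_at 𝔭 α hα.2⟩, h.2⟩
    obtain ⟨t, ht, htv⟩ := (HP.Glob.injective_map_iff q.primeCompl α).mp h.1 v hv
    exact ⟨t, fun h' => ht (h𝔭q h'), htv⟩
  tfae_have 6 → 1 := fun h => HP.Glob.flatAt_of_coker q α h.1 h.2
  tfae_finish

end Groth.Agent.S1205
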