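import Groth.Statements.S12056
import Mathlib

set_option autoImplicit false
open Red

namespace Groth.Agent.S12056

open MvPowerSeries in
theorem coeff_substX {R : Type} [CommRing R] (F : PowerSeries R) (i : Fin 2) (e : Fin 2 →₀ ℕ) :
    MvPowerSeries.coeff e (PowerSeries.subst (MvPowerSeries.X i) F) =
      if e = Finsupp.single i (e i) then PowerSeries.coeff (e i) F else 0 := by
  classical
  rw [PowerSeries.coeff_subst (PowerSeries.HasSubst.of_constantCoeff_zero (constantCoeff_X i))]
  rw [finsum_eq_single _ (e i)]
  · rw [coeff_X_pow]; split <;> simp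
  · intro d hd
    rw [coeff_X_pow, if_neg, smul_zero]
    rintro rfl
    simp at hd

/-- In formal-power-series form, let R be a commutative ring and F ∈ R⟦X⟧ with constant term 1 whose
linear coefficient a is a unit of R. Suppose that in R⟦X₀, X₁⟧ one has F(X₀ + X₁ · F(X₀)) = F(X₀) ·
F(X₁) (the functional equation F(x + y F(x)) = F(x) F(y)). Then F = 1 + a X. (The published
statement concerns a morphism to the multiplicative group from an open neighbourhood of the zero
section in the additive group over a base scheme, the identity holding on an open neighbourhood of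
the origin of the plane on which all terms are defined, with a the derivative at 0; this row states
it for formal power series over a ring.) -/
theorem result (R : Type) [CommRing R] (F : PowerSeries R)
    (h0 : PowerSeries.constantCoeff F = 1) (ha : IsUnit (PowerSeries.coeff 1 F))
    (hFE : PowerSeries.subst
        (MvPowerSeries.X (0 : Fin 2) + MvPowerSeries.X 1 * PowerSeries.subst (MvPowerSeries.X (0 : Fin 2)) F :
          MvPowerSeries (Fin 2) R) F =
      PowerSeries.subst (MvPowerSeries.X (0 : Fin 2)) F * PowerSeries.subst (MvPowerSeries.X (1 : Fin 2)) F) :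
    F = 1 + PowerSeries.C (PowerSeries.coeff 1 F) * PowerSeries.X := by
  classical
  set a := PowerSeries.coeff 1 F
  let s : Fin 2 → MvPowerSeries (Fin 2) R := ![MvPowerSeries.X 1, MvPowerSeries.X 0]
  have hs : MvPowerSeries.HasSubst s := MvPowerSeries.hasSubst_of_constantCoeff_zero fun i => by
    fin_cases i <;> simp [s]
  let P : MvPowerSeries (Fin 2) R :=
    MvPowerSeries.X (0 : Fin 2) + MvPowerSeries.X 1 * PowerSeries.subst (MvPowerSeries.X (0 : Fin 2)) F
  let Q : MvPowerSeries (Fin 2) R :=
    MvPowerSeries.X (1 : Fin 2) + MvPowerSeries.X 0 * PowerSeries.subst (MvPowerSeries.X (1 : Fin 2)) F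
  have hP : PowerSeries.HasSubst P := PowerSeries.HasSubst.of_constantCoeff_zero (by simp [P])
  have hQ : PowerSeries.HasSubst Q := PowerSeries.HasSubst.of_constantCoeff_zero (by simp [Q])
  have hX : ∀ i : Fin 2, PowerSeries.HasSubst (MvPowerSeries.X i : MvPowerSeries (Fin 2) R) := fun i =>
    PowerSeries.HasSubst.of_constantCoeff_zero (MvPowerSeries.constantCoeff_X i)
  have hsub : ∀ (b : MvPowerSeries (Fin 2) R), PowerSeries.HasSubst b → ∀ f : PowerSeries R,
      MvPowerSeries.substAlgHom (R := R) hs (PowerSeries.subst b f) = PowerSeries.subst (MvPowerSeries.substAlgHom (R := R) hs b) f := by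
    intro b hb f
    simp only [MvPowerSeries.coe_substAlgHom, PowerSeries.subst]
    exact MvPowerSeries.subst_comp_subst_apply hb.const hs f
  have hswap : PowerSeries.subst Q F = PowerSeries.subst P F := by
    have h := congrArg (MvPowerSeries.substAlgHom (R := R) hs) hFE
    have hP' : PowerSeries.HasSubst P := hP
    rw [map_mul, hsub P hP', hsub _ (hX 0), hsub _ (hX 1)] at h
    simp only [P, map_add, map_mul, MvPowerSeries.substAlgHom_X, hsub _ (hX 0)] at h
    simp only [s, Matrix.cons_val_zero, Matrix.cons_val_one] at h
    rw [h]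
    exact (mul_comm _ _).trans hFE.symm
  let G : PowerSeries R := F - PowerSeries.C 1
  have hG0 : PowerSeries.constantCoeff G = 0 := by simp [G, h0]
  have hG1 : IsUnit (PowerSeries.coeff 1 G) := by simpa [G] using ha
  let H := G.substInvOfIsUnit hG1
  have hHG : H.subst G = PowerSeries.X := PowerSeries.subst_substInvOfIsUnit_left G hG0 hG1
  have hG : PowerSeries.HasSubst G := PowerSeries.HasSubst.of_constantCoeff_zero' hG0
  have key : ∀ b : MvPowerSeries (Fin 2) R, PowerSeries.HasSubst b →
      PowerSeries.subst (PowerSeries.subst b G) H = b := by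
    intro b hb
    rw [← PowerSeries.subst_comp_subst_apply hG hb, hHG, PowerSeries.subst_X hb]
  have hPQ : Q = P := by
    rw [← key Q hQ, ← key P hP]
    congr 1
    rw [PowerSeries.subst_sub hQ, PowerSeries.subst_sub hP, PowerSeries.subst_C, PowerSeries.subst_C, hswap]
  have hcoef : ∀ j, 2 ≤ j → PowerSeries.coeff j F = 0 := by
    intro j hj
    have h := congrArg (MvPowerSeries.coeff (Finsupp.single (0 : Fin 2) 1 + Finsupp.single 1 j)) hPQ
    simp only [P, Q, map_add, MvPowerSeries.coeff_X] at h
    rw [MvPowerSeries.X_def, MvPowerSeries.X_def, MvPowerSeries.coeff_monomial_mul,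
      MvPowerSeries.coeff_monomial_mul, ← MvPowerSeries.X_def, ← MvPowerSeries.X_def, coeff_substX, coeff_substX] at h
    have n0 : Finsupp.single (0 : Fin 2) 1 + Finsupp.single 1 j ≠ Finsupp.single (0 : Fin 2) 1 := by
      intro e; have := DFunLike.congr_fun e (1 : Fin 2); simp at this; omega
    have n1 : Finsupp.single (0 : Fin 2) 1 + Finsupp.single 1 j ≠ Finsupp.single (1 : Fin 2) 1 := by
      intro e; have := DFunLike.congr_fun e (0 : Fin 2); simp at this
    have l0 : Finsupp.single (0 : Fin 2) 1 ≤ Finsupp.single (0 : Fin 2) 1 + Finsupp.single 1 j := self_le_add_right _ _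
    have l1 : Finsupp.single (1 : Fin 2) 1 ≤ Finsupp.single (0 : Fin 2) 1 + Finsupp.single 1 j := by
      intro i; fin_cases i <;> simp <;> omega
    rw [if_neg n0, if_neg n1, if_pos l0, if_pos l1, add_tsub_cancel_left, if_pos (by ext i; fin_cases i <;> simp),
      if_neg (fun e => by have := DFunLike.congr_fun e (1 : Fin 2); simp at this; omega)] at h
    simpa using h
  ext j
  rcases j with - | - | j
  · simp [h0]
  · simp [a, PowerSeries.coeff_one]
  · rw [hcoef _ (by omega)]
    simp [PowerSeries.coeff_one, PowerSeries.coeff_X]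

end Groth.Agent.S12056
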