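import Groth.Statements.S12058
import Mathlib.Algebra.Homology.DerivedCategory.Ext.ExactSequences
import Mathlib.CategoryTheory.Abelian.Refinements
-- import your own Groth.Agent.* helpers here

set_option autoImplicit false
set_option linter.style.haveILetI false
universe w v u
open CategoryTheory CategoryTheory.Limits CategoryTheory.Abelian
open SGA3

namespace Groth.Agent.S12058

/-- In an abelian category, let 0 → A' → A → A'' → 0 be a short exact sequence, φ : A' ⟶ Q a morphism
and π : A'' ⟶ P an epimorphism with kernel C. Consider the quadruples (B, f, g, h) with 0 → Q → B →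
P → 0 short exact (maps f, g) and h : A ⟶ B such that the squares commute: (A' → A → B) = (A' → Q →
B) and (A → B → P) = (A → A'' → P). Such a quadruple exists if and only if the image in Ext¹(C, Q)
of the class of the given extension in Ext¹(A'', A') (push forward along φ, pull back along the
inclusion C → A'') is zero. -/
theorem result {C : Type u} [Category.{v} C] [Abelian C]
    [HasExt.{w} C] {S : ShortComplex C} (hS : S.ShortExact) {Q P : C} (φ : S.X₁ ⟶ Q) (π : S.X₃ ⟶ P) [Epi π] :
    (∃ (B : C) (f : Q ⟶ B) (g : B ⟶ P) (h : S.X₂ ⟶ B) (w : f ≫ g = 0),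
        (ShortComplex.mk f g w).ShortExact ∧ S.f ≫ h = φ ≫ f ∧ h ≫ g = S.g ≫ π) ↔
      (Ext.mk₀ (kernel.ι π)).comp (hS.extClass.comp (Ext.mk₀ φ) (add_zero 1)) (zero_add 1) = 0 := by
  constructor
  · rintro ⟨B, f, g, h, w, hT, h1, h2⟩
    let σ : S ⟶ ShortComplex.mk f g w := ShortComplex.homMk φ h π h1.symm h2
    rw [show hS.extClass.comp (Ext.mk₀ φ) (add_zero 1) = (Ext.mk₀ π).comp hT.extClass (zero_add 1) from
      hS.extClass_naturality hT σ, ← Ext.comp_assoc (a₁₂ := 0) _ _ _ (by omega) (by omega) (by omega),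
      Ext.mk₀_comp_mk₀, kernel.condition, Ext.mk₀_zero, Ext.zero_comp]
  intro hzero
  haveI := hS.mono_f
  haveI := hS.epi_g
  -- the pushout extension
  let f' : Q ⟶ pushout S.f φ := pushout.inr S.f φ
  let g' : pushout S.f φ ⟶ S.X₃ := pushout.desc S.g 0 (by rw [S.zero, comp_zero])
  let j : S.X₂ ⟶ pushout S.f φ := pushout.inl S.f φ
  have hj : S.f ≫ j = φ ≫ f' := pushout.condition
  have hjg : j ≫ g' = S.g := pushout.inl_desc _ _ _
  have w' : f' ≫ g' = 0 := pushout.inr_desc _ _ _
  haveI : Mono f' := Abelian.mono_pushout_of_mono_f S.f φ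
  haveI : Epi g' := by
    haveI : Epi (j ≫ g') := by rw [hjg]; infer_instance
    exact epi_of_epi j g'
  have hE : (ShortComplex.mk f' g' w').Exact := by
    apply ShortComplex.exact_of_g_is_cokernel
    have hd : ∀ {T : C} (t : pushout S.f φ ⟶ T), f' ≫ t = 0 → S.f ≫ j ≫ t = 0 := fun t ht => by
      rw [reassoc_of% hj, ht, comp_zero]
    refine CokernelCofork.IsColimit.ofπ' g' w' fun {T} t ht => ?_
    refine ⟨hS.exact.desc (j ≫ t) (hd t ht), ?_⟩
    apply pushout.hom_ext
    · show j ≫ g' ≫ _ = j ≫ t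
      rw [reassoc_of% hjg, ShortComplex.Exact.g_desc]
    · show f' ≫ g' ≫ _ = f' ≫ t
      rw [reassoc_of% w', zero_comp, ht]
  have hE' : (ShortComplex.mk f' g' w').ShortExact := ⟨hE⟩
  have hnat : hS.extClass.comp (Ext.mk₀ φ) (add_zero 1) = hE'.extClass := by
    have hn := hS.extClass_naturality hE'
      (ShortComplex.homMk φ j (𝟙 S.X₃) hj.symm (by simp [hjg]) : S ⟶ ShortComplex.mk f' g' w')
    refine hn.trans ?_
    simp
  rw [hnat] at hzero
  obtain ⟨x, hx⟩ := Ext.covariant_sequence_exact₃ (kernel π) hE' (Ext.mk₀ (kernel.ι π)) rfl hzero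
  obtain ⟨s, rfl⟩ := (Ext.mk₀_bijective _ _).2 x
  rw [Ext.mk₀_comp_mk₀] at hx
  have hs : s ≫ g' = kernel.ι π := (Ext.mk₀_bijective _ _).1 hx
  -- the quotient
  have w₂ : s ≫ g' ≫ π = 0 := by rw [reassoc_of% hs, kernel.condition]
  let g : cokernel s ⟶ P := cokernel.desc s (g' ≫ π) w₂
  let f : Q ⟶ cokernel s := f' ≫ cokernel.π s
  have hg : cokernel.π s ≫ g = g' ≫ π := cokernel.π_desc _ _ _
  have wfg : f ≫ g = 0 := by
    show (f' ≫ cokernel.π s) ≫ g = 0
    rw [Category.assoc, hg, reassoc_of% w', zero_comp]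
  haveI : Epi g := by
    haveI : Epi (cokernel.π s ≫ g) := by rw [hg]; infer_instance
    exact epi_of_epi (cokernel.π s) g
  haveI : Mono f := by
    refine Preadditive.mono_of_cancel_zero f fun {T} x hx => ?_
    obtain ⟨T', p, hp, y, hy⟩ :=
      (ShortComplex.exact_of_g_is_cokernel _ (cokernelIsCokernel s) :
        (ShortComplex.mk s (cokernel.π s) (cokernel.condition s)).Exact).exact_up_to_refinements (x ≫ f')
        (by rw [Category.assoc]; exact hx)
    dsimp at hy
    have h0 : y ≫ kernel.ι π = 0 := by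
      rw [← hs, ← Category.assoc, ← hy, Category.assoc, Category.assoc, w', comp_zero, comp_zero]
    have hy0 : y = 0 := by rw [← cancel_mono (kernel.ι π), h0, zero_comp]
    rw [hy0, zero_comp, ← Category.assoc] at hy
    haveI := hp
    rw [← cancel_mono f', zero_comp, ← cancel_epi p, comp_zero, ← Category.assoc]
    exact hy
  refine ⟨cokernel s, f, g, j ≫ cokernel.π s, wfg, ⟨?_⟩, ?_, ?_⟩
  · apply ShortComplex.exact_of_g_is_cokernel
    refine CokernelCofork.IsColimit.ofπ' g wfg fun {T} t ht => ?_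
    have hr := hE.desc (cokernel.π s ≫ t) (by rw [← Category.assoc]; exact ht)
    have e1 : g' ≫ hE.desc (cokernel.π s ≫ t) (by rw [← Category.assoc]; exact ht) = cokernel.π s ≫ t :=
      hE.g_desc _ _
    refine ⟨Abelian.epiDesc π (hE.desc (cokernel.π s ≫ t) (by rw [← Category.assoc]; exact ht)) ?_, ?_⟩
    · rw [← hs, Category.assoc, e1, cokernel.condition_assoc, zero_comp]
    · rw [← cancel_epi (cokernel.π s), reassoc_of% hg, Abelian.comp_epiDesc, e1]
  · rw [reassoc_of% hj]
  · rw [Category.assoc, hg, reassoc_of% hjg]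

end Groth.Agent.S12058
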