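import Groth.Statements.S1206
import Groth.Agent.FlatMisc.Valuation

set_option autoImplicit false
universe u
open FlatMor

namespace Groth.Agent.S1206

/-- Let A be a local domain which is not a field and 𝒮 a set of finitely generated ideals of A, closed
under products, such that the union of the closed sets V(I), I ∈ 𝒮, is exactly the set of nonzero
primes (every nonzero prime contains a member of 𝒮 and no member is zero). Then the intersection of
all members of 𝒮 is zero. -/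
theorem result (A : Type u) [CommRing A] [IsDomain A] [IsLocalRing A] (hA : ¬ IsField A)
    (𝒮 : Set (Ideal A)) (hfg : ∀ I ∈ 𝒮, I.FG) (hmul : ∀ I ∈ 𝒮, ∀ J ∈ 𝒮, I * J ∈ 𝒮)
    (hne : ∀ I ∈ 𝒮, I ≠ ⊥) (hcov : ∀ (p : Ideal A), p.IsPrime → p ≠ ⊥ → ∃ I ∈ 𝒮, I ≤ p) :
    sInf 𝒮 = ⊥ := by
  rw [eq_bot_iff]
  intro x hx
  rw [Submodule.mem_bot]
  by_contra hx0
  have hxI : ∀ I ∈ 𝒮, x ∈ I := fun I hI => Submodule.mem_sInf.mp hx I hI
  have hpow : ∀ I ∈ 𝒮, ∀ n, I ^ (n + 1) ∈ 𝒮 := by
    intro I hI n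
    induction n with
    | zero => simpa using hI
    | succ n ih => rw [pow_succ]; exact hmul _ ih _ hI
  have hm : IsLocalRing.maximalIdeal A ≠ ⊥ := fun h =>
    hA (IsLocalRing.isField_iff_maximalIdeal_eq.mpr h)
  refine Groth.Agent.FlatMisc.Valuation.false_of_mem_pow A x hx0 ?_ ?_
  · intro hu
    obtain ⟨I, hI, hIm⟩ := hcov _ (IsLocalRing.maximalIdeal.isMaximal A).isPrime hm
    exact (IsLocalRing.maximalIdeal.isMaximal A).ne_top (Ideal.eq_top_of_isUnit_mem _ (hIm (hxI I hI)) hu)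
  · intro p hp hxp
    obtain ⟨I, hI, hIp⟩ := hcov p hp (fun h => hx0 (by rw [h] at hxp; simpa using hxp))
    exact ⟨I, hfg I hI, hIp, fun n hn => by
      obtain ⟨m, rfl⟩ := Nat.exists_eq_add_of_le' hn
      exact hxI _ (hpow I hI m)⟩

end Groth.Agent.S1206
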