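import Groth.Statements.S12067
import Groth.Agent.S7960
import Mathlib.LinearAlgebra.FiniteDimensional.Lemmas

set_option autoImplicit false
universe u
open TensorProduct
open SGA3t2b

namespace Groth.Agent.S12067

/-- In Hopf-algebra form, let k be a field and A a finitely generated commutative Hopf algebra over k
(an affine algebraic group G) which is unipotent: every nonzero finite-dimensional comodule has a
nonzero fixed vector. Then every finite-dimensional comodule V (a finite-dimensional representation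
of G), of dimension n, has a flag of subcomodules 0 = V_0 ⊂ V_1 ⊂ ⋯ ⊂ V_n = V with one-dimensional
successive quotients on which G acts trivially: for v ∈ V_(i+1) the coaction of v is congruent to v
⊗ 1 modulo V_i ⊗ A. -/
theorem result (k : Type u) [Field k] (A : Type u) [CommRing A]
    [HopfAlgebra k A] [Algebra.FiniteType k A] (hU : HopfRep.IsUnipotent k A)
    (V : Type u) [AddCommGroup V] [Module k V] [HopfRep.Comod k A V] [Module.Finite k V] :
    ∃ F : Fin (Module.finrank k V + 1) → Submodule k V,
      F 0 = ⊥ ∧ F (Fin.last _) = ⊤ ∧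
      (∀ i : Fin (Module.finrank k V + 1), HopfRep.IsSubcomod (k := k) (A := A) (F i)) ∧
      ∀ i : Fin (Module.finrank k V), F i.castSucc ≤ F i.succ ∧
        Module.finrank k ↥(F i.succ) = Module.finrank k ↥(F i.castSucc) + 1 ∧
        ∀ v ∈ F i.succ, HopfRep.Comod.coact (k := k) (A := A) v - v ⊗ₜ[k] (1 : A) ∈
          LinearMap.range ((F i.castSucc).subtype.rTensor A) := by
  classical
  obtain ⟨m, F₀, hmono, h0, hm, hsub, hcong⟩ := (Groth.Agent.S7960.result k A).1 hU V inferInstance
  have hle : ∀ {U U' : Submodule k V}, U ≤ U' →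
      LinearMap.range (U.subtype.rTensor A) ≤ LinearMap.range (U'.subtype.rTensor A) := by
    intro U U' h
    rw [← Submodule.subtype_comp_inclusion U U' h, LinearMap.rTensor_comp]
    exact LinearMap.range_comp_le_range _ _
  have hone : ∀ {U : Submodule k V} {w : V}, w ∈ U → w ⊗ₜ[k] (1 : A) ∈ LinearMap.range (U.subtype.rTensor A) :=
    fun {U w} hw => ⟨(⟨w, hw⟩ : U) ⊗ₜ 1, by simp⟩
  let P : Submodule k V → Submodule k V → Prop := fun W W' => W ≤ W' ∧
    HopfRep.IsSubcomod (k := k) (A := A) W' ∧ Module.finrank k W' = Module.finrank k W + 1 ∧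
    ∀ v ∈ W', HopfRep.Comod.coact (k := k) (A := A) v - v ⊗ₜ[k] (1 : A) ∈ LinearMap.range (W.subtype.rTensor A)
  have step : ∀ W : Submodule k V, HopfRep.IsSubcomod (k := k) (A := A) W → W ≠ ⊤ → ∃ W', P W W' := by
    intro W hW htop
    have hex : ∃ i, ¬ F₀ i ≤ W := ⟨m, by rw [hm]; simpa using htop⟩
    obtain ⟨j, hj⟩ := Nat.exists_eq_add_one_of_ne_zero (n := Nat.find hex) (fun hz => Nat.find_spec hex (by
      rw [hz, h0]; exact bot_le))
    have hj1 : ¬ F₀ (j + 1) ≤ W := hj ▸ Nat.find_spec hex
    have hj0 : F₀ j ≤ W := Decidable.not_not.1 (Nat.find_min hex (by omega))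
    obtain ⟨v, hv, hvW⟩ := SetLike.not_le_iff_exists.1 hj1
    have hcg : ∀ y ∈ W ⊔ k ∙ v, HopfRep.Comod.coact (k := k) (A := A) y - y ⊗ₜ[k] (1 : A) ∈
        LinearMap.range (W.subtype.rTensor A) := by
      intro y hy
      obtain ⟨w, hw, z, hz, rfl⟩ := Submodule.mem_sup.1 hy
      obtain ⟨c, rfl⟩ := Submodule.mem_span_singleton.1 hz
      rw [map_add, map_smul, TensorProduct.add_tmul, ← TensorProduct.smul_tmul', add_sub_add_comm, ← smul_sub]
      exact add_mem (sub_mem (hW w hw) (hone hw)) (Submodule.smul_mem _ c (hle hj0 (hcong j v hv)))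
    refine ⟨W ⊔ k ∙ v, le_sup_left, fun y hy => ?_, ?_, hcg⟩
    · have h2 := add_mem (hle le_sup_left (hcg y hy)) (hone hy)
      rwa [sub_add_cancel] at h2
    · have hd : W ⊓ (k ∙ v) = ⊥ := by
        refine (Submodule.eq_bot_iff _).2 fun y hy => ?_
        obtain ⟨c, rfl⟩ := Submodule.mem_span_singleton.1 hy.2
        by_contra hne
        exact hvW ((Submodule.smul_mem_iff W (left_ne_zero_of_smul hne)).1 hy.1)
      have h := Submodule.finrank_sup_add_finrank_inf_eq W (k ∙ v)
      rw [hd, finrank_bot, add_zero, finrank_span_singleton (fun h0' => hvW (by rw [h0']; exact W.zero_mem))] at h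
      exact h
  have chain : ∀ n : ℕ, n ≤ Module.finrank k V → ∃ G : ℕ → Submodule k V, G 0 = ⊥ ∧
      (∀ i ≤ n, HopfRep.IsSubcomod (k := k) (A := A) (G i) ∧ Module.finrank k (G i) = i) ∧
      ∀ i < n, P (G i) (G (i + 1)) := by
    intro n
    induction n with
    | zero =>
      intro _
      refine ⟨fun _ => ⊥, rfl, fun i hi => ⟨fun w hw => ?_, ?_⟩, fun i hi => absurd hi (by omega)⟩
      · rw [(Submodule.mem_bot k).1 hw, map_zero]; exact zero_mem _
      · rw [finrank_bot]; omega
    | succ n ih =>
      intro hn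
      obtain ⟨G, hG0, hG1, hG2⟩ := ih (by omega)
      obtain ⟨W', hW'⟩ := step (G n) (hG1 n le_rfl).1 (fun e => by
        have := (hG1 n le_rfl).2
        rw [e, finrank_top] at this
        omega)
      refine ⟨fun i => if i ≤ n then G i else W', by simpa using hG0, fun i hi => ?_, fun i hi => ?_⟩
      · beta_reduce
        by_cases h : i ≤ n
        · rw [show (if i ≤ n then G i else W') = G i from if_pos h]
          exact hG1 i h
        · rw [show (if i ≤ n then G i else W') = W' from if_neg h]
          obtain rfl : i = n + 1 := by omega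
          exact ⟨hW'.2.1, by rw [hW'.2.2.1, (hG1 n le_rfl).2]⟩
      · simp only [if_pos (show i ≤ n by omega)]
        by_cases h : i + 1 ≤ n
        · simpa only [if_pos h] using hG2 i (by omega)
        · simp only [if_neg h]
          obtain rfl : i = n := by omega
          exact hW'
  obtain ⟨G, hG0, hG1, hG2⟩ := chain _ le_rfl
  refine ⟨fun i => G i, hG0, ?_, fun i => (hG1 i (Nat.lt_succ_iff.1 i.isLt)).1, fun i => ?_⟩
  · exact Submodule.eq_top_of_finrank_eq (hG1 _ le_rfl).2
  · obtain ⟨h1, -, h3, h4⟩ := hG2 i i.isLt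
    exact ⟨h1, h3, h4⟩

end Groth.Agent.S12067
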