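import Groth.Statements.S1207
import Groth.Agent.FlatMisc.Valuation
import Mathlib.RingTheory.Ideal.Quotient.Operations

set_option autoImplicit false
universe u
open FlatMor

namespace Groth.Agent.S1207

/-- Let A be a local ring and I, J ideals of A with J finitely generated, J ≠ A, and I ⊆ J^n for all n ≥
1. Then every prime p not containing J which is maximal among the primes not containing J (a closed
point of Spec A ∖ V(J)) contains I. (The published statement leaves the hypothesis J ≠ A implicit;
for J = A the assertion fails.) -/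
theorem result (A : Type u) [CommRing A] [IsLocalRing A] (I J : Ideal A) (hJ : J.FG) (hJ1 : J ≠ ⊤)
    (hI : ∀ n : ℕ, 1 ≤ n → I ≤ J ^ n) (p : Ideal A) [p.IsPrime] (hp : ¬ J ≤ p)
    (hmax : ∀ (p' : Ideal A), p'.IsPrime → p ≤ p' → ¬ J ≤ p' → p' = p) : I ≤ p := by
  intro x hx
  by_contra hxp
  have hq : Function.Surjective (Ideal.Quotient.mk p) := Ideal.Quotient.mk_surjective
  refine Groth.Agent.FlatMisc.Valuation.false_of_mem_pow (A ⧸ p) (Ideal.Quotient.mk p x)
    (fun h => hxp (Ideal.Quotient.eq_zero_iff_mem.mp h)) ?_ ?_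
  · intro hu
    have hJm : x ∈ IsLocalRing.maximalIdeal A :=
      IsLocalRing.le_maximalIdeal hJ1 (by simpa using hI 1 le_rfl hx)
    have hpm : p ≤ IsLocalRing.maximalIdeal A := IsLocalRing.le_maximalIdeal ‹p.IsPrime›.ne_top
    obtain ⟨c, hc⟩ := isUnit_iff_exists_inv.mp hu
    obtain ⟨c, rfl⟩ := hq c
    rw [← map_mul, ← map_one (Ideal.Quotient.mk p), Ideal.Quotient.mk_eq_mk_iff_sub_mem] at hc
    exact (IsLocalRing.maximalIdeal.isMaximal A).ne_top ((Ideal.eq_top_iff_one _).mpr
      (by simpa using sub_mem (Ideal.mul_mem_right c _ hJm) (hpm hc)))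
  · intro P hP hxP
    refine ⟨J.map (Ideal.Quotient.mk p), hJ.map _, ?_, fun n hn => ?_⟩
    · rw [Ideal.map_le_iff_le_comap]
      by_contra hJP
      have hpP : p ≤ P.comap (Ideal.Quotient.mk p) := fun a ha => by
        rw [Ideal.mem_comap, Ideal.Quotient.eq_zero_iff_mem.mpr ha]; exact zero_mem _
      have he := hmax _ inferInstance hpP hJP
      have hxc : x ∈ P.comap (Ideal.Quotient.mk p) := hxP
      rw [he] at hxc
      exact hxp hxc
    · rw [← Ideal.map_pow]
      exact Ideal.mem_map_of_mem _ (hI n hn hx)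

end Groth.Agent.S1207
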