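import Groth.Statements.S12071
import Groth.Agent.RootDatum.Misc
import Groth.Agent.RootDatum.Dominant
import Mathlib.GroupTheory.Archimedean
-- import your own Groth.Agent.* helpers here

set_option autoImplicit false
open RootD

namespace Groth.Agent.S12071

/-- Let G be the group generated by two elements x, y subject to x² = y² = 1 (the infinite dihedral
group; here Mathlib's DihedralGroup 0 with x = sr 0 and y = sr 1, so that x y = r 1). Then every
normal subgroup of G containing neither x nor y is generated by an element (x y)^n with n > 0; such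
a subgroup is cyclic, generated by r n. (The published statement does not exclude the trivial
subgroup, for which no n > 0 works; this row assumes the subgroup nontrivial.) -/
theorem result (N : Subgroup (DihedralGroup 0)) [N.Normal]
    (hN : N ≠ ⊥) (hx : DihedralGroup.sr (0 : ZMod 0) ∉ N) (hy : DihedralGroup.sr (1 : ZMod 0) ∉ N) :
    ∃ n : ℕ, 0 < n ∧ N = Subgroup.zpowers (DihedralGroup.r (n : ZMod 0)) := by
  classical
  have hrot : ∀ x ∈ N, ∃ k : ℤ, x = DihedralGroup.r (k : ZMod 0) := by
    intro x hxN
    rcases x with k | k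
    · exact ⟨k, rfl⟩
    exfalso
    have hconj : ∀ (m : ZMod 0), DihedralGroup.sr (k - m - m) ∈ N := fun m => by
      have := ‹N.Normal›.conj_mem _ hxN (DihedralGroup.r m)
      simpa [DihedralGroup.r_mul_sr, DihedralGroup.sr_mul_r, sub_eq_add_neg] using this
    obtain ⟨m, hm⟩ := Int.even_or_odd' (k : ℤ)
    have hm' : ∃ m : ZMod 0, k = m + m ∨ k = m + m + 1 :=
      ⟨m, hm.imp (fun h => h.trans (two_mul (α := ℤ) m)) (fun h => h.trans (congrArg (· + 1) (two_mul (α := ℤ) m)))⟩
    obtain ⟨m', hm' | hm'⟩ := hm'
    · refine hx ?_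
      have h := hconj m'
      rwa [hm', add_sub_cancel_right, sub_self] at h
    · refine hy ?_
      have h := hconj m'
      rwa [hm', show m' + m' + 1 - m' - m' = (1 : ZMod 0) from by abel] at h
  let A : AddSubgroup ℤ :=
    { carrier := {k | DihedralGroup.r (k : ZMod 0) ∈ N}
      add_mem' := fun {a b} ha hb => by
        have := N.mul_mem ha hb
        rw [DihedralGroup.r_mul_r] at this
        exact this
      zero_mem' := by
        show DihedralGroup.r ((0 : ℤ) : ZMod 0) ∈ N
        rw [Int.cast_zero, DihedralGroup.r_zero]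
        exact N.one_mem
      neg_mem' := fun {a} ha => by
        have := N.inv_mem ha
        rw [DihedralGroup.inv_r] at this
        exact this }
  obtain ⟨g, hg⟩ := Int.subgroup_cyclic A
  rw [← AddSubgroup.zmultiples_eq_closure] at hg
  have hgN : DihedralGroup.r (g : ZMod 0) ∈ N :=
    (hg ▸ AddSubgroup.mem_zmultiples g : g ∈ A)
  have hN' : N = Subgroup.zpowers (DihedralGroup.r (g : ZMod 0)) := by
    refine le_antisymm (fun x hx' => ?_) (Subgroup.zpowers_le.mpr hgN)
    obtain ⟨k, rfl⟩ := hrot x hx'
    have hk : k ∈ A := hx'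
    rw [hg, AddSubgroup.mem_zmultiples_iff] at hk
    obtain ⟨z, rfl⟩ := hk
    refine Subgroup.mem_zpowers_iff.mpr ⟨z, ?_⟩
    rw [DihedralGroup.r_zpow]
    congr 1
    rw [smul_eq_mul, Int.cast_mul, mul_comm]
  have hg0 : g ≠ 0 := by
    rintro rfl
    refine hN ?_
    rw [hN', Int.cast_zero, DihedralGroup.r_zero, Subgroup.zpowers_one_eq_bot]
  refine ⟨g.natAbs, Int.natAbs_pos.mpr hg0, ?_⟩
  rw [hN']
  rcases Int.natAbs_eq g with e | e
  · conv_lhs => rw [e, Int.cast_natCast]
  · conv_lhs => rw [e, Int.cast_neg, Int.cast_natCast, ← DihedralGroup.inv_r, Subgroup.zpowers_inv]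

end Groth.Agent.S12071
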