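import Groth.Statements.S12076
-- import your own Groth.Agent.* helpers here

set_option autoImplicit false
open RootD

namespace Groth.Agent.S12076

/-- Let Δ be a system of simple roots (a base b of a root pairing P over ℤ) and Γ₀ the subgroup
generated by the roots. Then Γ₀ has a structure of totally ordered group for which the roots > 0 are
exactly the positive roots defined by Δ and for which the height (the additive function with value 1
on each simple root) is monotone. The order is given here by its positive cone C ⊆ Γ₀: 0 ∉ C, C + C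
⊆ C, and for every x ≠ 0 exactly one of x, −x lies in C (x < y meaning y − x ∈ C). -/
theorem result {ι M N : Type*} [AddCommGroup M] [AddCommGroup N]
    (P : RootPairing ι ℤ M N) [Finite ι] (b : P.Base) :
    ∃ C : Set ↥(Submodule.span ℤ (Set.range P.root)),
      0 ∉ C ∧ (∀ x ∈ C, ∀ y ∈ C, x + y ∈ C) ∧ (∀ x, x ≠ 0 → (x ∈ C ∨ -x ∈ C)) ∧ (∀ x ∈ C, -x ∉ C) ∧
      (∀ i : ι, (⟨P.root i, Submodule.subset_span (Set.mem_range_self i)⟩ : ↥(Submodule.span ℤ (Set.range P.root))) ∈ C ↔
        b.IsPos i) ∧
      ∀ φ : ↥(Submodule.span ℤ (Set.range P.root)) →+ ℤ,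
        (∀ j ∈ b.support, φ ⟨P.root j, Submodule.subset_span (Set.mem_range_self j)⟩ = 1) →
        ∀ x y : ↥(Submodule.span ℤ (Set.range P.root)), y - x ∈ C → φ x ≤ φ y := by
  classical
  obtain ⟨n, ⟨e⟩⟩ : ∃ n, Nonempty (↥b.support ≃ Fin n) := ⟨_, ⟨Fintype.equivFin _⟩⟩
  let B : Module.Basis ↥b.support ℤ ↥(Submodule.span ℤ (Set.range P.root)) := b.toWeightBasisInt
  let ht : ↥(Submodule.span ℤ (Set.range P.root)) →+ ℤ :=
    ∑ j, (Finsupp.applyAddHom j).comp B.repr.toLinearMap.toAddMonoidHom
  have hht : ∀ x, ht x = ∑ j, B.repr x j := fun x => by simp [ht]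
  let ψ : ↥(Submodule.span ℤ (Set.range P.root)) →+ Lex (Fin (n + 1) → ℤ) :=
    { toFun := fun x => toLex (Fin.cons (ht x) fun k => B.repr x (e.symm k))
      map_zero' := by
        apply ofLex.injective
        funext k
        induction k using Fin.cases <;> simp <;> rfl
      map_add' := fun x y => by
        apply ofLex.injective
        funext k
        induction k using Fin.cases <;> simp <;> rfl }
  have hψ : Function.Injective ψ := by
    intro x y h
    apply B.repr.injective
    ext j
    have := congrFun (congrArg ofLex h) (e j).succ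
    simpa [ψ] using this
  have hhead : ∀ x, ofLex (ψ x) 0 = ht x := fun x => by simp [ψ]
  have hroot : ∀ i : ι, ht ⟨P.root i, Submodule.subset_span (Set.mem_range_self i)⟩ =
      b.height i := by
    intro i
    set r : ↥(Submodule.span ℤ (Set.range P.root)) :=
      ⟨P.root i, Submodule.subset_span (Set.mem_range_self i)⟩
    set f : ι → ℤ := fun k => if hk : k ∈ b.support then B.repr r ⟨k, hk⟩ else 0
    have hf : P.root i = ∑ j ∈ b.support, f j • P.root j := by
      have := congrArg Subtype.val (B.sum_repr r)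
      rw [Submodule.coe_sum] at this
      rw [← Finset.sum_coe_sort]
      refine this.symm.trans (Finset.sum_congr rfl fun j _ => ?_)
      simp [f, B]
    rw [b.height_eq_sum hf, hht, ← Finset.sum_coe_sort b.support f]
    exact Finset.sum_congr rfl fun j _ => by simp [f]
  have hlex : ∀ z, 0 < ψ z → 0 ≤ ht z := fun z hz => by
    obtain ⟨k, hk1, hk2⟩ := hz
    by_cases hk : k = 0
    · subst hk
      change (0 : ℤ) < ofLex (ψ z) 0 at hk2
      have : 0 < ht z := hhead z ▸ hk2
      exact this.le
    · have := hk1 0 (Fin.pos_iff_ne_zero.mpr hk)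
      change (0 : ℤ) = ofLex (ψ z) 0 at this
      rw [hhead] at this
      exact this.le
  have hpos : ∀ z, 0 < ht z → 0 < ψ z := fun z hz =>
    ⟨0, fun k hk => absurd hk (Fin.not_lt_zero k), show (0 : ℤ) < ofLex (ψ z) 0 from (hhead z).symm ▸ hz⟩
  refine ⟨{x | 0 < ψ x}, fun h => lt_irrefl _ ((map_zero ψ) ▸ h : (0 : Lex (Fin (n + 1) → ℤ)) < 0), fun x hx y hy => ?_, fun x hx => ?_, fun x hx => ?_, fun i => ?_,
    fun φ hφ x y hxy => ?_⟩
  · simp only [Set.mem_setOf_eq, map_add]
    exact add_pos hx hy
  · simp only [Set.mem_setOf_eq, map_neg]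
    rcases lt_trichotomy 0 (ψ x) with h | h | h
    · exact Or.inl h
    · exact absurd (hψ (h.symm.trans (map_zero ψ).symm)) hx
    · exact Or.inr (neg_pos.mpr h)
  · simp only [Set.mem_setOf_eq, map_neg] at hx ⊢
    exact fun h => lt_asymm hx (neg_pos.mp h)
  · rw [Set.mem_setOf_eq, b.isPos_iff, ← hroot]
    refine ⟨fun h => lt_of_le_of_ne (hlex _ h) ?_, hpos _⟩
    rw [hroot]
    exact (b.height_ne_zero i).symm
  · have hφht : φ = ht := by
      have : φ.toIntLinearMap = ht.toIntLinearMap := B.ext fun j => by
        have hj : B j = ⟨P.root j, Submodule.subset_span (Set.mem_range_self (j : ι))⟩ :=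
          Subtype.ext (by simp [B])
        show φ (B j) = ht (B j)
        rw [hj, hφ j j.2, hroot, b.height_one_of_mem_support j.2]
      exact AddMonoidHom.ext fun z => DFunLike.congr_fun this z
    have := hlex _ hxy
    rw [map_sub, sub_nonneg] at this
    rwa [hφht]

end Groth.Agent.S12076
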