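import Groth.Statements.S12077
import Mathlib
-- import your own Groth.Agent.* helpers here

set_option autoImplicit false
universe u
open Polynomial
open CAlg

namespace Groth.Agent.S12077


abbrev Pols (R : Type u) [CommRing R] := {f : R[X] // f.Monic ∧ 0 < f.natDegree}

theorem exists_roots (R : Type u) [CommRing R] (s : Finset (Pols R)) :
    ∃ (S : Type u) (_ : CommRing S) (φ : R →+* S), Function.Injective φ ∧
      ∀ f ∈ s, ∃ x, (f.1).eval₂ φ x = 0 := by
  classical
  induction s using Finset.induction_on with
  | empty => exact ⟨R, inferInstance, RingHom.id R, fun a b h => h, by simp⟩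
  | @insert f s hfs ih =>
    obtain ⟨S, _, φ, hφ, hroots⟩ := ih
    rcases subsingleton_or_nontrivial S with hS | hS
    · exact ⟨S, inferInstance, φ, hφ, fun g _ => ⟨0, Subsingleton.elim _ _⟩⟩
    set g := f.1.map φ with hg
    have hgm : g.Monic := f.2.1.map φ
    have hgd : 0 < g.natDegree := by rw [hg, f.2.1.natDegree_map φ]; exact f.2.2
    refine ⟨AdjoinRoot g, inferInstance, (AdjoinRoot.of g).comp φ, ?_, ?_⟩
    · refine Function.Injective.comp (g := AdjoinRoot.of g) ?_ hφ
      rw [injective_iff_map_eq_zero]
      intro a ha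
      by_contra h0
      have hd : g ∣ C a := AdjoinRoot.mk_eq_zero.mp (by rw [AdjoinRoot.mk_C]; exact ha)
      exact hgm.not_dvd_of_natDegree_lt (C_ne_zero.mpr h0) (by rw [natDegree_C]; exact hgd) hd
    · intro h hh
      rcases Finset.mem_insert.mp hh with rfl | hh'
      · exact ⟨AdjoinRoot.root g, by rw [← eval₂_map]; exact AdjoinRoot.eval₂_root g⟩
      · obtain ⟨x, hx⟩ := hroots h hh'
        exact ⟨AdjoinRoot.of g x, by rw [← hom_eval₂, hx, map_zero]⟩

/-- The ideal of relations `f (T_f) = 0`. -/
noncomputable def relIdeal (R : Type u) [CommRing R] : Ideal (MvPolynomial (Pols R) R) :=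
  Ideal.span (Set.range fun f : Pols R => f.1.eval₂ MvPolynomial.C (MvPolynomial.X f))

/-- Adjoin one root of every monic polynomial of positive degree. -/
noncomputable abbrev step (R : CommRingCat.{u}) : CommRingCat.{u} :=
  CommRingCat.of (MvPolynomial (Pols R) R ⧸ relIdeal R)

noncomputable def stepHom (R : CommRingCat.{u}) : R →+* step R :=
  (Ideal.Quotient.mk (relIdeal R)).comp MvPolynomial.C

theorem stepHom_injective (R : CommRingCat.{u}) : Function.Injective (stepHom R) := by
  classical
  rw [injective_iff_map_eq_zero]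
  intro a ha
  have hmem : MvPolynomial.C a ∈ relIdeal R := Ideal.Quotient.eq_zero_iff_mem.mp ha
  obtain ⟨c, hc⟩ := Finsupp.mem_ideal_span_range_iff_exists_finsupp.mp hmem
  obtain ⟨S, _, φ, hφ, hroots⟩ := exists_roots R c.support
  let x : Pols R → S := fun f => if h : f ∈ c.support then (hroots f h).choose else 0
  have := congrArg (MvPolynomial.eval₂Hom φ x) hc
  rw [map_finsuppSum, MvPolynomial.eval₂Hom_C] at this
  apply hφ
  rw [map_zero, ← this, Finsupp.sum]
  refine Finset.sum_eq_zero fun f hf => ?_
  have h0 : (f.1).eval₂ φ (x f) = 0 := by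
    simp only [x, dif_pos hf]
    exact (hroots f hf).choose_spec
  rw [map_mul, hom_eval₂, MvPolynomial.eval₂Hom_X']
  have hcomp : (MvPolynomial.eval₂Hom φ x).comp MvPolynomial.C = φ :=
    RingHom.ext fun r => MvPolynomial.eval₂Hom_C φ x r
  rw [hcomp, h0, mul_zero]

theorem step_root (R : CommRingCat.{u}) (f : R[X]) (hf : f.Monic) (hd : 0 < f.natDegree) :
    ∃ x, f.eval₂ (stepHom R) x = 0 := by
  refine ⟨Ideal.Quotient.mk (relIdeal R) (MvPolynomial.X ⟨f, hf, hd⟩), ?_⟩
  rw [stepHom, ← hom_eval₂, Ideal.Quotient.eq_zero_iff_mem]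
  exact Ideal.subset_span ⟨⟨f, hf, hd⟩, rfl⟩

/-- The tower of root extensions. -/
@[reducible] noncomputable def tower (A : CommRingCat.{u}) : ℕ → CommRingCat.{u}
  | 0 => A
  | n + 1 => step (tower A n)

noncomputable def towerMap (A : CommRingCat.{u}) (i j : ℕ) (h : i ≤ j) : tower A i →+* tower A j :=
  Nat.leRecOn (C := fun k => tower A i →+* tower A k) h
    (fun {k} r => (stepHom (tower A k)).comp r) (RingHom.id _)

theorem towerMap_self (A : CommRingCat.{u}) (i : ℕ) : towerMap A i i le_rfl = RingHom.id _ :=
  Nat.leRecOn_self _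

theorem towerMap_succ (A : CommRingCat.{u}) (i j : ℕ) (h : i ≤ j) :
    towerMap A i (j + 1) (h.trans (Nat.le_succ j)) = (stepHom (tower A j)).comp (towerMap A i j h) :=
  Nat.leRecOn_succ h _

instance (A : CommRingCat.{u}) :
    DirectedSystem (fun i => (tower A i : Type u)) (fun i j h => towerMap A i j h) where
  map_self i x := by simp [towerMap_self]
  map_map k j i hij hjk x := by
    induction hjk with
    | refl => simp [towerMap_self]
    | step hle ih =>
      rw [towerMap_succ A j _ hle, towerMap_succ A i _ (hij.trans hle)]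
      exact congrArg (stepHom (tower A _)) ih

theorem towerMap_injective (A : CommRingCat.{u}) (i j : ℕ) (h : i ≤ j) :
    Function.Injective (towerMap A i j h) := by
  induction h with
  | refl => rw [towerMap_self]; exact fun a b h => h
  | step hle ih => rw [towerMap_succ A i _ hle]; exact (stepHom_injective _).comp ih

abbrev Limit (A : CommRingCat.{u}) : Type u :=
  DirectLimit (fun i => (tower A i : Type u)) (fun i j h => towerMap A i j h)

noncomputable def incl (A : CommRingCat.{u}) (i : ℕ) : tower A i →+* Limit A where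
  toFun x := ⟦⟨i, x⟩⟧
  map_one' := (DirectLimit.one_def i).symm
  map_mul' x y := by exact (DirectLimit.mul_def (f := fun i j h => towerMap A i j h) i x y).symm
  map_zero' := (DirectLimit.zero_def i).symm
  map_add' x y := (DirectLimit.add_def (f := fun i j h => towerMap A i j h) i x y).symm

theorem incl_map (A : CommRingCat.{u}) {i j : ℕ} (h : i ≤ j) (x : tower A i) :
    incl A j (towerMap A i j h x) = incl A i x := by
  show (⟦_⟧ : Limit A) = ⟦_⟧
  apply Quotient.sound
  refine ⟨j, le_rfl, h, ?_⟩
  show towerMap A j j le_rfl (towerMap A i j h x) = towerMap A i j h x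
  rw [towerMap_self]
  rfl

theorem incl_comp (A : CommRingCat.{u}) {i j : ℕ} (h : i ≤ j) :
    (incl A j).comp (towerMap A i j h) = incl A i :=
  RingHom.ext fun x => incl_map A h x

theorem incl_injective (A : CommRingCat.{u}) (i : ℕ) : Function.Injective (incl A i) := by
  intro x y hxy
  obtain ⟨k, h1, h2, hk⟩ := Quotient.exact (hxy : (⟦⟨i, x⟩⟧ : Limit A) = ⟦⟨i, y⟩⟧)
  exact towerMap_injective A i k h1 hk

theorem exists_incl (A : CommRingCat.{u}) (z : Limit A) : ∃ i x, incl A i x = z :=
  DirectLimit.induction (C := fun z : Limit A => ∃ i x, incl A i x = z) _ (fun i x => ⟨i, x, rfl⟩) z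

theorem exists_lifts (A : CommRingCat.{u}) (g : (Limit A)[X]) : ∃ i, g ∈ lifts (incl A i) := by
  induction g using Polynomial.induction_on' with
  | add p q hp hq =>
    obtain ⟨i, hi⟩ := hp
    obtain ⟨j, hj⟩ := hq
    refine ⟨max i j, add_mem ?_ ?_⟩
    · obtain ⟨p', rfl⟩ := (mem_lifts _).mp hi
      exact (mem_lifts _).mpr ⟨p'.map (towerMap A i _ (le_max_left i j)), by
        rw [map_map, incl_comp]⟩
    · obtain ⟨q', rfl⟩ := (mem_lifts _).mp hj
      exact (mem_lifts _).mpr ⟨q'.map (towerMap A j _ (le_max_right i j)), by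
        rw [map_map, incl_comp]⟩
  | monomial n a =>
    obtain ⟨i, x, rfl⟩ := exists_incl A a
    exact ⟨i, (mem_lifts _).mpr ⟨monomial n x, map_monomial _⟩⟩

theorem limit_root (A : CommRingCat.{u}) (g : (Limit A)[X]) (hg : g.Monic)
    (hd : 0 < g.natDegree) : ∃ a, g.IsRoot a := by
  have : Nontrivial (Limit A) := by
    by_contra hn
    rw [not_nontrivial_iff_subsingleton] at hn
    rw [natDegree_of_subsingleton] at hd
    omega
  obtain ⟨i, hi⟩ := exists_lifts A g
  obtain ⟨q, hq, hqd, hqm⟩ := lifts_and_natDegree_eq_and_monic hi hg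
  obtain ⟨x, hx⟩ := step_root (tower A i) q hqm (hqd ▸ hd)
  have hcomp : (incl A (i + 1)).comp (stepHom (tower A i)) = incl A i := by
    rw [← incl_comp A (Nat.le_succ i), towerMap_succ A i i le_rfl, towerMap_self, RingHom.comp_id]
  refine ⟨incl A (i + 1) x, ?_⟩
  rw [IsRoot.def, ← hq, eval_map, ← hcomp]
  exact (hom_eval₂ q (stepHom (tower A i)) (incl A (i + 1)) x).symm.trans
    ((congrArg (incl A (i + 1)) hx).trans (map_zero _))

/-- Every commutative ring `A` admits an injective ring map into an absolutely integrally closed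
commutative ring `B`, that is, one over which every monic polynomial is a product of linear factors
`X - b`. (Only the existence of such an extension is stated, not the finer structure of the
construction.) -/
theorem result (A : Type u) [CommRing A] :
    ∃ (B : Type u) (_ : CommRing B) (_ : Algebra A B), Function.Injective (algebraMap A B) ∧
      ∀ f : B[X], f.Monic → ∃ s : Multiset B, f = (s.map fun b => X - C b).prod := by

  refine ⟨Limit (CommRingCat.of A), inferInstance, (incl (CommRingCat.of A) 0).toAlgebra,
    incl_injective (CommRingCat.of A) 0, ?_⟩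
  have key : ∀ (n : ℕ) (f : (Limit (CommRingCat.of A))[X]), f.natDegree = n → f.Monic →
      ∃ s : Multiset (Limit (CommRingCat.of A)), f = (s.map fun b => X - C b).prod := by
    intro n
    induction n with
    | zero => exact fun f hn hf => ⟨0, by simpa using hf.natDegree_eq_zero.mp hn⟩
    | succ n ih =>
      intro f hn hf
      obtain ⟨a, ha⟩ := limit_root _ f hf (by omega)
      have : Nontrivial (Limit (CommRingCat.of A)) := by
        by_contra hnt
        rw [not_nontrivial_iff_subsingleton] at hnt
        rw [natDegree_of_subsingleton] at hn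
        omega
      have hfa : (X - C a) * (f /ₘ (X - C a)) = f := mul_divByMonic_eq_iff_isRoot.mpr ha
      obtain ⟨s, hs⟩ := ih (f /ₘ (X - C a))
        (by rw [natDegree_divByMonic f (monic_X_sub_C a), natDegree_X_sub_C, hn]; omega)
        ((monic_X_sub_C a).of_mul_monic_left (hfa.symm ▸ hf))
      exact ⟨a ::ₘ s, by rw [Multiset.map_cons, Multiset.prod_cons, ← hs, hfa]⟩
  exact fun f hf => key _ f rfl hf

end Groth.Agent.S12077
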