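import Groth.Statements.S12078
import Mathlib.LinearAlgebra.Matrix.Notation
import Mathlib.RingTheory.Bezout
import Mathlib.RingTheory.Ideal.Operations
-- import your own Groth.Agent.* helpers here

set_option autoImplicit false
universe u
open CAlg

namespace Groth.Agent.S12078

/-- An elementary divisor domain is Bézout. Here `R` is a domain such that for all `n, m ≥ 1` and every
`n × m` matrix `A` there are invertible matrices `U` (`n × n`) and `V` (`m × m`) with `U * A * V`
zero off the diagonal and with diagonal entries `f 0 ∣ f 1 ∣ f 2 ∣ …`; the conclusion is that every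
finitely generated ideal of `R` is principal. -/
theorem result (R : Type u) [CommRing R] [IsDomain R]
    (hR : ∀ n m : ℕ, 1 ≤ n → 1 ≤ m → ∀ A : Matrix (Fin n) (Fin m) R,
      ∃ (U : (Matrix (Fin n) (Fin n) R)ˣ) (V : (Matrix (Fin m) (Fin m) R)ˣ) (f : ℕ → R),
        (∀ k : ℕ, f k ∣ f (k + 1)) ∧
        ∀ (i : Fin n) (j : Fin m), ((U : Matrix (Fin n) (Fin n) R) * A * (V : Matrix (Fin m) (Fin m) R)) i j =
          if (i : ℕ) = (j : ℕ) then f i else 0) :
    IsBezout R := by
  rw [IsBezout.iff_span_pair_isPrincipal]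
  intro x y
  obtain ⟨U, V, f, -, h⟩ := hR 1 2 le_rfl (by norm_num) (Matrix.of ![![x, y]] : Matrix (Fin 1) (Fin 2) R)
  refine ⟨⟨f 0, le_antisymm ?_ ?_⟩⟩
  · rw [Ideal.span_le]
    set D : Matrix (Fin 1) (Fin 2) R := (U : Matrix (Fin 1) (Fin 1) R) * (Matrix.of ![![x, y]] : Matrix (Fin 1) (Fin 2) R) * (V : Matrix _ _ R) with hD
    have hA : (Matrix.of ![![x, y]] : Matrix (Fin 1) (Fin 2) R) = (↑U⁻¹ : Matrix (Fin 1) (Fin 1) R) * D * (↑V⁻¹ : Matrix (Fin 2) (Fin 2) R) := by
      simp only [hD, Matrix.mul_assoc]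
      rw [← Matrix.mul_assoc (↑U⁻¹ : Matrix (Fin 1) (Fin 1) R), U.inv_mul, Matrix.one_mul,
        V.mul_inv, Matrix.mul_one]
    have hd : ∀ i j, D i j ∈ Ideal.span {f 0} := by
      intro i j
      rw [h i j]
      split_ifs
      · have hi : (i : ℕ) = 0 := by omega
        rw [hi]
        exact Ideal.mem_span_singleton_self _
      · exact Submodule.zero_mem _
    have he : ∀ j, (Matrix.of ![![x, y]] : Matrix (Fin 1) (Fin 2) R) 0 j ∈ Ideal.span {f 0} := by
      intro j
      rw [hA, Matrix.mul_apply]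
      refine sum_mem fun k _ => Ideal.mul_mem_right _ _ ?_
      rw [Matrix.mul_apply]
      exact sum_mem fun l _ => Ideal.mul_mem_left _ _ (hd l k)
    intro z hz
    rcases hz with rfl | rfl
    · simpa using he 0
    · simpa using he 1
  · rw [Ideal.submodule_span_eq, Ideal.span_le, Set.singleton_subset_iff]
    have h0 := h 0 0
    simp only [Fin.val_zero, if_true] at h0
    rw [SetLike.mem_coe, ← h0, Matrix.mul_apply]
    refine sum_mem fun k _ => Ideal.mul_mem_right _ _ ?_
    rw [Matrix.mul_apply]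
    refine sum_mem fun l _ => Ideal.mul_mem_left _ _ ?_
    fin_cases l
    fin_cases k <;> exact Ideal.subset_span (by simp)

end Groth.Agent.S12078
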