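import Groth.Statements.S12079
import Mathlib
-- import your own Groth.Agent.* helpers here

set_option autoImplicit false
universe u
open TensorProduct
open CAlg

namespace Groth.Agent.S12079

/-- For a finitely presented `R`-module `M`, any `R`-module `N` and a flat `R`-module `L`, the canonical
map `Hom_R(M, N) ⊗_R L → Hom_R(M, N ⊗_R L)` sending `f ⊗ l` to `m ↦ f m ⊗ l` is bijective. -/
theorem result (R : Type u) [CommRing R]
    (M N L : Type u) [AddCommGroup M] [Module R M] [AddCommGroup N] [Module R N] [AddCommGroup L] [Module R L]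
    [Module.FinitePresentation R M] [Module.Flat R L] :
    Function.Bijective (TensorProduct.rTensorHomToHomRTensor (RingHom.id R) M N L) := by

  obtain ⟨n, p, hp⟩ := Module.Finite.exists_fin' R M
  have hfg : (LinearMap.ker p).FG := Module.FinitePresentation.fg_ker p hp
  haveI : Module.Finite R (LinearMap.ker p) := Module.Finite.iff_fg.2 hfg
  obtain ⟨m, q₀, hq₀⟩ := Module.Finite.exists_fin' R (LinearMap.ker p)
  let q : (Fin m → R) →ₗ[R] (Fin n → R) := (LinearMap.ker p).subtype ∘ₗ q₀
  have hpq : Function.Exact q p := by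
    intro x
    constructor
    · intro hx
      obtain ⟨y, hy⟩ := hq₀ ⟨x, hx⟩
      exact ⟨y, congrArg Subtype.val hy⟩
    · rintro ⟨y, rfl⟩
      exact (q₀ y).2
  have hbij : ∀ k : ℕ, Function.Bijective (TensorProduct.rTensorHomToHomRTensor (RingHom.id R) (Fin k → R) N L) :=
    fun k => by
      rw [← rTensorHomEquivHomRTensor_toLinearMap]
      exact (rTensorHomEquivHomRTensor R (Fin k → R) N L).bijective
  let F₁ : (M →ₗ[R] N) →ₗ[R] ((Fin n → R) →ₗ[R] N) := LinearMap.lcomp R N p
  let F₂ : ((Fin n → R) →ₗ[R] N) →ₗ[R] ((Fin m → R) →ₗ[R] N) := LinearMap.lcomp R N q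
  have hF₁ : Function.Injective F₁ := fun a b h => LinearMap.ext fun x => by
    obtain ⟨y, rfl⟩ := hp x; exact LinearMap.congr_fun h y
  have hF : Function.Exact F₁ F₂ := by
    intro g
    constructor
    · intro hg
      have hg' : LinearMap.ker p ≤ LinearMap.ker g := by
        intro x hx
        obtain ⟨y, rfl⟩ := (hpq x).1 hx
        exact LinearMap.congr_fun hg y
      refine ⟨(LinearMap.ker p).liftQ g hg' ∘ₗ (p.quotKerEquivOfSurjective hp).symm.toLinearMap, LinearMap.ext fun y => ?_⟩
      have hy : (p.quotKerEquivOfSurjective hp).symm (p y) = Submodule.Quotient.mk y :=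
        (p.quotKerEquivOfSurjective hp).symm_apply_apply (Submodule.Quotient.mk y)
      show (LinearMap.ker p).liftQ g hg' ((p.quotKerEquivOfSurjective hp).symm (p y)) = g y
      rw [hy]; rfl
    · rintro ⟨g, rfl⟩
      exact LinearMap.ext fun y => by simp [F₁, F₂, hpq.apply_apply_eq_zero y]
  have hFe : Function.Exact (F₁.rTensor L) (F₂.rTensor L) := Module.Flat.rTensor_exact L hF
  have hFi : Function.Injective (F₁.rTensor L) := Module.Flat.rTensor_preserves_injective_linearMap F₁ hF₁
  have nat : ∀ (k : ℕ) (r : (Fin k → R) →ₗ[R] M) (t : (M →ₗ[R] N) ⊗[R] L) (y : Fin k → R),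
      TensorProduct.rTensorHomToHomRTensor (RingHom.id R) (Fin k → R) N L ((LinearMap.lcomp R N r).rTensor L t) y =
        TensorProduct.rTensorHomToHomRTensor (RingHom.id R) M N L t (r y) := by
    intro k r t y
    induction t using TensorProduct.induction_on with
    | zero => simp
    | tmul f l => simp
    | add a b ha hb => simp [ha, hb]
  have nat2 : ∀ (t : ((Fin n → R) →ₗ[R] N) ⊗[R] L) (y : Fin m → R),
      TensorProduct.rTensorHomToHomRTensor (RingHom.id R) (Fin m → R) N L (F₂.rTensor L t) y =
        TensorProduct.rTensorHomToHomRTensor (RingHom.id R) (Fin n → R) N L t (q y) := by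
    intro t y
    induction t using TensorProduct.induction_on with
    | zero => simp
    | tmul f l => simp [F₂]
    | add a b ha hb => simp [ha, hb]
  constructor
  · intro a b hab
    refine hFi ((hbij n).1 (LinearMap.ext fun y => ?_))
    rw [nat n p a y, nat n p b y, hab]
  · intro g
    obtain ⟨t, ht⟩ := (hbij n).2 (g ∘ₗ p)
    have h0 : F₂.rTensor L t = 0 := (hbij m).1 (LinearMap.ext fun y => by
      rw [nat2 t y, ht, LinearMap.comp_apply, hpq.apply_apply_eq_zero, map_zero, map_zero, LinearMap.zero_apply])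
    obtain ⟨u, hu⟩ := (hFe t).1 h0
    refine ⟨u, LinearMap.ext fun x => ?_⟩
    obtain ⟨y, rfl⟩ := hp x
    rw [← nat n p u y, hu, ht]
    rfl

end Groth.Agent.S12079
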