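import Groth.Statements.S12081
-- import your own Groth.Agent.* helpers here

set_option autoImplicit false
universe u
open TensorProduct
open EtAlg

namespace Groth.Agent.S12081

/-- Let `B' = B ×_A A'` be a fibre square of rings with `A' → A` surjective with kernel `I`, let `J =
Ker(B' → B)`, let `D'` be a `B'`-algebra and `C' = D' ⊗_{B'} A'`. Then the ideal `I C'` is, as a
subset of `C'`, the image of the ideal `J D'` under `D' → C'`; that is, the map `J D' → I C'` is
surjective. -/
theorem result (B' B A' A : Type u) [CommRing B'] [CommRing B] [CommRing A'] [CommRing A]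
    [Algebra B' B] [Algebra B' A'] [Algebra B A] [Algebra A' A] [Algebra B' A] [IsScalarTower B' B A] [IsScalarTower B' A' A]
    (hsq : EtMil.IsFibreSquare B' B A' A)
    (D' C' : Type u) [CommRing D'] [CommRing C'] [Algebra B' D'] [Algebra A' C']
    [Algebra D' C'] [Algebra B' C'] [IsScalarTower B' A' C'] [IsScalarTower B' D' C'] [Algebra.IsPushout B' A' D' C'] :
    (algebraMap D' C') '' ((RingHom.ker (algebraMap B' B)).map (algebraMap B' D') : Set D') =
      ((RingHom.ker (algebraMap A' A)).map (algebraMap A' C') : Set C') := by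
  obtain ⟨hs, hsq⟩ := hsq
  apply Set.eq_of_subset_of_subset
  · rintro _ ⟨x, hx, rfl⟩
    have h1 := Ideal.mem_map_of_mem (algebraMap D' C') hx
    rw [Ideal.map_map, ← IsScalarTower.algebraMap_eq, IsScalarTower.algebraMap_eq B' A' C',
      ← Ideal.map_map] at h1
    refine Ideal.map_mono (Ideal.map_le_iff_le_comap.mpr fun b hb => ?_) h1
    rw [Ideal.mem_comap, RingHom.mem_ker, ← IsScalarTower.algebraMap_apply,
      IsScalarTower.algebraMap_apply B' B A, RingHom.mem_ker.mp hb, map_zero]
  · intro y hy
    induction hy using Submodule.span_induction with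
    | mem y hy =>
      obtain ⟨i, hi, rfl⟩ := hy
      obtain ⟨b', ⟨hb, hb'⟩, -⟩ := hsq 0 i (by rw [map_zero, RingHom.mem_ker.mp hi])
      refine ⟨algebraMap B' D' b', Ideal.mem_map_of_mem _ hb, ?_⟩
      rw [← IsScalarTower.algebraMap_apply, IsScalarTower.algebraMap_apply B' A' C', hb']
    | zero => exact ⟨0, zero_mem _, map_zero _⟩
    | add y z _ _ hy hz =>
      obtain ⟨b, hb, rfl⟩ := hy; obtain ⟨c, hc, rfl⟩ := hz
      exact ⟨b + c, add_mem hb hc, map_add _ _ _⟩
    | smul c y _ hy =>
      obtain ⟨x, hx, rfl⟩ := hy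
      induction c using (Algebra.IsPushout.out (R := B') (S := A') (R' := D') (S' := C')).inductionOn with
      | zero => exact ⟨0, zero_mem _, by simp⟩
      | tmul d =>
        exact ⟨d * x, Ideal.mul_mem_left _ d hx, by simp [smul_eq_mul]⟩
      | smul a c ih =>
        obtain ⟨z, hz, hz'⟩ := ih
        obtain ⟨w, hw, hw'⟩ : ∃ w ∈ ((RingHom.ker (algebraMap B' B)).map (algebraMap B' D') : Ideal D'),
            algebraMap D' C' w = a • algebraMap D' C' z := by
          clear hz'
          induction hz using Submodule.span_induction with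
          | mem z hz =>
            obtain ⟨j, hj, rfl⟩ := hz
            obtain ⟨b', ⟨hb, hb'⟩, -⟩ := hsq 0 (a * algebraMap B' A' j) (by
              rw [map_mul, ← IsScalarTower.algebraMap_apply B' A' A, IsScalarTower.algebraMap_apply B' B A j,
                RingHom.mem_ker.mp hj, map_zero, mul_zero])
            refine ⟨algebraMap B' D' b', Ideal.mem_map_of_mem _ hb, ?_⟩
            rw [← IsScalarTower.algebraMap_apply, ← IsScalarTower.algebraMap_apply,
              IsScalarTower.algebraMap_apply B' A' C' b', hb', map_mul, Algebra.smul_def,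
              ← IsScalarTower.algebraMap_apply B' A' C']
          | zero => exact ⟨0, zero_mem _, by simp⟩
          | add y z _ _ hy hz =>
            obtain ⟨b, hb, e1⟩ := hy; obtain ⟨c, hc, e2⟩ := hz
            exact ⟨b + c, add_mem hb hc, by rw [map_add, e1, e2, map_add, smul_add]⟩
          | smul d y _ hy =>
            obtain ⟨b, hb, e1⟩ := hy
            exact ⟨d * b, Ideal.mul_mem_left _ d hb, by rw [map_mul, e1, smul_eq_mul, map_mul, mul_smul_comm]⟩
        exact ⟨w, hw, by rw [hw', hz', smul_eq_mul, smul_eq_mul, smul_mul_assoc]⟩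
      | add c₁ c₂ h₁ h₂ =>
        obtain ⟨b, hb, e1⟩ := h₁; obtain ⟨d, hd, e2⟩ := h₂
        exact ⟨b + d, add_mem hb hd, by rw [map_add, e1, e2, add_smul]⟩

end Groth.Agent.S12081
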