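import Groth.Statements.S2083
import Groth.Agent.Depth.CM
-- import your own Groth.Agent.* helpers here

set_option autoImplicit false
universe u
open CAlg

namespace Groth.Agent.S2083

open scoped Pointwise

/-- Let `R` be a Noetherian local ring, `M` a finite Cohen–Macaulay `R`-module and `g` a member of the
maximal ideal for which the support of `M/gM` has dimension exactly one less than that of `M`. Then
`g` is a nonzerodivisor on `M`, and the quotient `M/gM` is again Cohen–Macaulay, with depth one
smaller than that of `M`. -/
theorem result {R M : Type u} [CommRing R] [IsLocalRing R] [IsNoetherianRing R]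
    [AddCommGroup M] [Module R M] [Module.Finite R M] (hM : LocCoh.IsCohenMacaulayModule R M) (g : R)
    (hg : g ∈ IsLocalRing.maximalIdeal R)
    (hdim : Module.supportDim R (M ⧸ Ideal.span {g} • (⊤ : Submodule R M)) + 1 = Module.supportDim R M) :
    IsSMulRegular M g ∧ LocCoh.IsCohenMacaulayModule R (M ⧸ Ideal.span {g} • (⊤ : Submodule R M)) ∧
      LocCoh.depth R (M ⧸ Ideal.span {g} • (⊤ : Submodule R M)) + 1 = LocCoh.depth R M := by
  have := Depth.nontrivial_of_isCohenMacaulayModule hM
  have hsub : Ideal.span {g} • (⊤ : Submodule R M) = g • ⊤ := Submodule.ideal_span_singleton_smul g ⊤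
  let e : (M ⧸ Ideal.span {g} • (⊤ : Submodule R M)) ≃ₗ[R] QuotSMulTop g M :=
    Submodule.quotEquivOfEq _ _ hsub
  have hreg : IsSMulRegular M g := by
    by_contra hc
    have : g ∈ ⋃ p ∈ associatedPrimes R M, (p : Set R) := by
      rw [biUnion_associatedPrimes_eq_compl_regular R M]; exact hc
    simp only [Set.mem_iUnion, SetLike.mem_coe, exists_prop] at this
    obtain ⟨p, hp, hgp⟩ := this
    have := Depth.isPrime_of_mem_associatedPrimes hp
    have hann := Depth.annihilator_le_associatedPrime hp
    have h1 : Module.supportDim R M ≤ Module.supportDim R (QuotSMulTop g M) := by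
      rw [← Depth.ringKrullDim_quotient_associatedPrime hM hp, ← Module.supportDim_quotient_eq_ringKrullDim]
      refine Order.krullDim_le_of_strictMono (fun q => ⟨q.1, ?_⟩) (fun a b h => h)
      have hq : p ≤ q.1.asIdeal := Ideal.annihilator_quotient.ge.trans
        ((Module.mem_support_iff_of_finite (R := R) (M := R ⧸ p)).mp q.2)
      rw [Module.support_quotSMulTop, Module.support_eq_zeroLocus]
      exact ⟨fun a ha => hq (hann ha), by simpa using hq hgp⟩
    rw [← hdim, Module.supportDim_eq_of_equiv e] at h1
    have h2 := Depth.depth_lt_top (R := R) (M := M)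
    have h3 : Module.supportDim R (QuotSMulTop g M) + 1 = ((LocCoh.depth R M : ℕ∞) : WithBot ℕ∞) := by
      rw [← Module.supportDim_eq_of_equiv e, hdim]; exact hM
    generalize Module.supportDim R (QuotSMulTop g M) = d at h1 h3
    induction d with
    | bot => simp at h3
    | coe d =>
      rw [← WithBot.coe_one, ← WithBot.coe_add, WithBot.coe_le_coe] at h1
      induction d with
      | top =>
        rw [← WithBot.coe_one, ← WithBot.coe_add, WithBot.coe_inj] at h3
        simp at h3
        exact h2.ne h3.symm
      | coe d => norm_cast at h1; omega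
  refine ⟨hreg, ?_, ?_⟩
  · exact (Depth.isCohenMacaulayModule_congr e).mpr ((Depth.isCohenMacaulayModule_quotSMulTop_iff hg hreg).mpr hM)
  · rw [Depth.depth_eq_idealDepth, Depth.depth_eq_idealDepth, Depth.idealDepth_congr e]
    exact Depth.idealDepth_quotSMulTop_add_one hg hreg

end Groth.Agent.S2083
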