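import Groth.Statements.S12082
import Groth.Agent.S2083
import Groth.Agent.Depth.CM
import Mathlib.RingTheory.RegularLocalRing.Polynomial
-- import your own Groth.Agent.* helpers here

set_option autoImplicit false
universe u
open Synt

namespace Groth.Agent.S12082

open IsLocalRing RingTheory.Sequence

set_option linter.overlappingInstances false

variable {R : Type u} [CommRing R] [IsLocalRing R] [IsNoetherianRing R]

/-- Dropping the dimension by at most one per element. -/
theorem supportDim_le : ∀ (rs : List R) (M : Type u) [AddCommGroup M] [Module R M] [Module.Finite R M],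
    (∀ r ∈ rs, r ∈ maximalIdeal R) → Module.supportDim R M ≤
      Module.supportDim R (M ⧸ (Ideal.ofList rs • ⊤ : Submodule R M)) + rs.length := by
  intro rs
  induction rs with
  | nil =>
    intro M _ _ _ _
    rw [Module.supportDim_eq_of_equiv (Submodule.quotEquivOfEqBot (Ideal.ofList ([] : List R) • ⊤ : Submodule R M) (by simp))]
    simp
  | cons r rs ih =>
    intro M _ _ _ hm
    refine (Module.supportDim_le_supportDim_quotSMulTop_succ (hm r List.mem_cons_self)).trans ?_
    rw [Module.supportDim_eq_of_equiv (Submodule.quotOfListConsSMulTopEquivQuotSMulTopInner M r rs),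
      List.length_cons, Nat.cast_add, Nat.cast_one, ← add_assoc]
    exact add_le_add (ih (QuotSMulTop r M) fun x hx => hm x (List.mem_cons_of_mem _ hx)) le_rfl

/-- In a Cohen–Macaulay module, a sequence cutting the dimension down by its length is regular. -/
theorem isWeaklyRegular : ∀ (rs : List R) (M : Type u) [AddCommGroup M] [Module R M] [Module.Finite R M],
    LocCoh.IsCohenMacaulayModule R M → (∀ r ∈ rs, r ∈ maximalIdeal R) →
      Module.supportDim R (M ⧸ (Ideal.ofList rs • ⊤ : Submodule R M)) + rs.length ≤ Module.supportDim R M →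
        IsWeaklyRegular M rs := by
  intro rs
  induction rs with
  | nil => intro M _ _ _ _ _ _; exact IsWeaklyRegular.nil R M
  | cons r rs ih =>
    intro M _ _ _ hM hm hle
    have hr := hm r List.mem_cons_self
    have hm' : ∀ x ∈ rs, x ∈ maximalIdeal R := fun x hx => hm x (List.mem_cons_of_mem _ hx)
    rw [Module.supportDim_eq_of_equiv (Submodule.quotOfListConsSMulTopEquivQuotSMulTopInner M r rs),
      List.length_cons, Nat.cast_add, Nat.cast_one, ← add_assoc] at hle
    have h₁ : Module.supportDim R (QuotSMulTop r M) + 1 = Module.supportDim R M :=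
      le_antisymm ((add_le_add (supportDim_le rs (QuotSMulTop r M) hm') le_rfl).trans hle)
        (Module.supportDim_le_supportDim_quotSMulTop_succ hr)
    let e : (M ⧸ Ideal.span {r} • (⊤ : Submodule R M)) ≃ₗ[R] QuotSMulTop r M :=
      Submodule.quotEquivOfEq _ _ (Submodule.ideal_span_singleton_smul r ⊤)
    obtain ⟨hreg, hCM, -⟩ := S2083.result hM r hr ((Module.supportDim_eq_of_equiv e).symm ▸ h₁)
    rw [isWeaklyRegular_cons_iff]
    refine ⟨hreg, ih _ ((Depth.isCohenMacaulayModule_congr e).mp hCM) hm' ?_⟩
    rw [← h₁] at hle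
    exact ENat.WithBot.add_le_add_one_right_iff.mp hle

theorem isRegular (rs : List R) [LocCoh.IsCohenMacaulayLocalRing R] (hm : ∀ r ∈ rs, r ∈ maximalIdeal R)
    (h : ringKrullDim (R ⧸ Ideal.ofList rs) + rs.length ≤ ringKrullDim R) : IsRegular R rs := by
  rw [IsLocalRing.isRegular_iff_isWeaklyRegular_of_subset_maximalIdeal hm]
  refine isWeaklyRegular rs R (Depth.isCohenMacaulayModule_self R) hm ?_
  have e : (R ⧸ (Ideal.ofList rs • ⊤ : Submodule R R)) ≃ₗ[R] R ⧸ Ideal.ofList rs :=
    Submodule.quotEquivOfEq _ _ (Ideal.mul_top (Ideal.ofList rs))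
  rwa [Module.supportDim_eq_of_equiv e, Module.supportDim_quotient_eq_ringKrullDim,
    Module.supportDim_self_eq_ringKrullDim]

/-- Let `S = k[x_1, …, x_n]/I` over a field `k`, `q` a prime of `S` with preimage `q'` in the polynomial
ring, `c` the natural number with `c + ht(q) = ht(q')`, and `J` the extension of `I` to the local
ring `R = k[x_1, …, x_n]_{q'}`. Any `c` elements of `J` whose images generate `J / q' J` form a
regular sequence in `R`. -/
theorem result (k : Type u) [Field k] (n : ℕ)
    (I : Ideal (MvPolynomial (Fin n) k)) (q : Ideal (MvPolynomial (Fin n) k ⧸ I)) [q.IsPrime] (c : ℕ)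
    (hc : (c : ℕ∞) + q.height = (q.comap (Ideal.Quotient.mk I)).height)
    (f : Fin c → Localization.AtPrime (q.comap (Ideal.Quotient.mk I)))
    (hf : ∀ i, f i ∈ I.map (algebraMap _ (Localization.AtPrime (q.comap (Ideal.Quotient.mk I)))))
    (hgen : Ideal.span (Set.range f) ⊔
        IsLocalRing.maximalIdeal (Localization.AtPrime (q.comap (Ideal.Quotient.mk I))) *
          I.map (algebraMap _ (Localization.AtPrime (q.comap (Ideal.Quotient.mk I)))) =
      I.map (algebraMap _ (Localization.AtPrime (q.comap (Ideal.Quotient.mk I))))) :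
    RingTheory.Sequence.IsRegular (Localization.AtPrime (q.comap (Ideal.Quotient.mk I))) (List.ofFn f) := by
  let T := MvPolynomial (Fin n) k
  let Q := q.comap (Ideal.Quotient.mk I)
  let R := Localization.AtPrime Q
  let L := Localization.AtPrime q
  have hmap : Q.primeCompl.map (Ideal.Quotient.mk I) = q.primeCompl := by
    ext x
    obtain ⟨x, rfl⟩ := Ideal.Quotient.mk_surjective x
    exact ⟨fun ⟨y, hy, hyx⟩ h => hy (show Ideal.Quotient.mk I y ∈ q from hyx ▸ h), fun hx => ⟨x, hx, rfl⟩⟩
  haveI : IsLocalization (Q.primeCompl.map (Ideal.Quotient.mk I)) L := by rw [hmap]; infer_instance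
  let φ : R →+* L := IsLocalization.map L (Ideal.Quotient.mk I) Q.primeCompl.le_comap_map
  have hφ : Function.Surjective φ :=
    IsLocalization.map_surjective_of_surjective (g := Ideal.Quotient.mk I) Q.primeCompl R L Ideal.Quotient.mk_surjective
  have hker : RingHom.ker φ = I.map (algebraMap T R) := by
    rw [IsLocalization.ker_map (T := Q.primeCompl.map (Ideal.Quotient.mk I)) L (Ideal.Quotient.mk I) rfl,
      Ideal.mk_ker]
  have hJm : I.map (algebraMap T R) ≤ IsLocalRing.maximalIdeal R :=
    hker ▸ IsLocalRing.le_maximalIdeal (RingHom.ker_ne_top φ)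
  have hspan : Ideal.ofList (List.ofFn f) = I.map (algebraMap T R) := by
    refine le_antisymm (Ideal.span_le.2 fun x hx => ?_) ?_
    · obtain ⟨i, rfl⟩ := List.mem_ofFn.mp hx
      exact hf i
    refine Submodule.le_of_le_smul_of_le_jacobson_bot (IsNoetherian.noetherian _)
      (IsLocalRing.maximalIdeal_le_jacobson _) ?_
    rw [show Ideal.ofList (List.ofFn f) = Ideal.span (Set.range f) from congrArg Ideal.span (Set.ext fun x => by simp),
      smul_eq_mul]
    exact hgen.ge
  haveI : LocCoh.IsCohenMacaulayLocalRing R := Depth.isCohenMacaulayLocalRing_of_isRegularLocalRing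
  refine isRegular _ (fun r hr => hJm (hspan ▸ Ideal.subset_span hr)) ?_
  rw [hspan, List.length_ofFn, ← hker, ringKrullDim_eq_of_ringEquiv (RingHom.quotientKerEquivOfSurjective hφ),
    IsLocalization.AtPrime.ringKrullDim_eq_height q L, IsLocalization.AtPrime.ringKrullDim_eq_height Q R, ← hc, add_comm]
  push_cast
  exact le_rfl

end Groth.Agent.S12082
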