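import Groth.Statements.S12083
import Mathlib
import Groth.Agent.RelFP.Basic
-- import your own Groth.Agent.* helpers here

set_option autoImplicit false
universe u
open CAlg

namespace Groth.Agent.S12083

/-- Let `R → A` be a finite type ring map with a surjective presentation `α : R[x_1, …, x_n] → A` and
`M` an `A`-module finitely presented relative to `R` (finitely presented as an `R[x_1, …,
x_n]`-module through `α`). For a ring map `R → R'` let `A' = R' ⊗_R A` (a pushout square) and `γ :
R'[z_1, …, z_k] → A'` any surjective presentation. Then `A' ⊗_A M = R' ⊗_R M` is finitely presented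
relative to `R'`, i.e. finitely presented as an `R'[z_1, …, z_k]`-module through `γ`. -/
theorem result {R A R' A' : Type u} [CommRing R] [CommRing A] [CommRing R'] [CommRing A']
    [Algebra R A] [Algebra R R'] [Algebra A A'] [Algebra R' A'] [Algebra R A'] [IsScalarTower R A A'] [IsScalarTower R R' A']
    [Algebra.IsPushout R A R' A'] [Algebra.FiniteType R A] (M : Type u) [AddCommGroup M] [Module A M] {n k : ℕ}
    (α : MvPolynomial (Fin n) R →ₐ[R] A) (hα : Function.Surjective α)
    (hM : @Module.FinitePresentation (MvPolynomial (Fin n) R) M _ _ (Module.compHom M α.toRingHom))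
    (γ : MvPolynomial (Fin k) R' →ₐ[R'] A') (hγ : Function.Surjective γ) :
    @Module.FinitePresentation (MvPolynomial (Fin k) R') (TensorProduct A A' M) _ _
      (Module.compHom (TensorProduct A A' M) γ.toRingHom) := by

  letI : Algebra (MvPolynomial (Fin n) R) (MvPolynomial (Fin n) R') := MvPolynomial.algebraMvPolynomial
  let P := MvPolynomial (Fin n) R
  let P' := MvPolynomial (Fin n) R'
  let α' : P' →ₐ[R'] A' := MvPolynomial.aeval fun i => algebraMap A A' (α (MvPolynomial.X i))
  letI : Algebra P A := α.toRingHom.toAlgebra
  letI : Algebra P' A' := α'.toRingHom.toAlgebra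
  letI : Algebra P A' := ((algebraMap A A').comp α.toRingHom).toAlgebra
  haveI : IsScalarTower R P A := IsScalarTower.of_algebraMap_eq fun r => (α.commutes r).symm
  haveI : IsScalarTower P A A' := IsScalarTower.of_algebraMap_eq fun _ => rfl
  haveI : IsScalarTower R' P' A' := IsScalarTower.of_algebraMap_eq fun r => (α'.commutes r).symm
  have hcomm : (algebraMap P' A').comp (algebraMap P P') = algebraMap P A' := by
    apply MvPolynomial.ringHom_ext
    · intro r
      show α' (algebraMap P P' (MvPolynomial.C r)) = algebraMap A A' (α (MvPolynomial.C r))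
      rw [MvPolynomial.algebraMap_def, MvPolynomial.map_C]
      show MvPolynomial.aeval (R := R') _ _ = _
      rw [← MvPolynomial.algebraMap_eq, ← MvPolynomial.algebraMap_eq, AlgHom.commutes, α.commutes, ← IsScalarTower.algebraMap_apply, ← IsScalarTower.algebraMap_apply]
    · intro i
      show α' (algebraMap P P' (MvPolynomial.X i)) = algebraMap A A' (α (MvPolynomial.X i))
      rw [MvPolynomial.algebraMap_def, MvPolynomial.map_X]
      exact MvPolynomial.aeval_X _ i
  haveI : IsScalarTower P P' A' := IsScalarTower.of_algebraMap_eq' hcomm.symm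
  haveI : IsScalarTower R P' A' := IsScalarTower.of_algebraMap_eq fun r => by
    rw [IsScalarTower.algebraMap_apply R R' P', ← IsScalarTower.algebraMap_apply R' P' A',
      ← IsScalarTower.algebraMap_apply]
  haveI : Algebra.IsPushout R P R' P' := inferInstanceAs
    (Algebra.IsPushout R (MvPolynomial (Fin n) R) R' (MvPolynomial (Fin n) R'))
  haveI : Algebra.IsPushout R A R' A' := ‹_›
  haveI : Algebra.IsPushout P A P' A' := (Algebra.IsPushout.comp_iff R P (R' := R') (S' := P')).1 inferInstance
  haveI : Algebra.IsPushout P P' A A' := Algebra.IsPushout.symm inferInstance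
  letI : Module P M := Module.compHom M α.toRingHom
  haveI : IsScalarTower P A M := IsScalarTower.of_algebraMap_smul fun _ _ => rfl
  haveI : Module.FinitePresentation P M := hM
  have h0 : Module.FinitePresentation P' (TensorProduct A A' M) :=
    Module.FinitePresentation.of_equiv (Algebra.IsPushout.cancelBaseChange P P' A A' M).symm
  have hbc : IsBaseChange R' (IsScalarTower.toAlgHom R A A').toLinearMap :=
    (Algebra.IsPushout.symm (inferInstance : Algebra.IsPushout R A R' A')).out
  have hα' : Function.Surjective α' := by
    intro x
    refine hbc.inductionOn x (fun x => ∃ p, α' p = x) ⟨0, map_zero _⟩ (fun y => ?_) (fun r z hz => ?_)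
      (fun a b ha hb => ?_)
    · obtain ⟨p, rfl⟩ := hα y
      exact ⟨algebraMap P P' p, RingHom.congr_fun hcomm p⟩
    · obtain ⟨p, rfl⟩ := hz
      exact ⟨r • p, map_smul α' r p⟩
    · obtain ⟨p, rfl⟩ := ha
      obtain ⟨q, rfl⟩ := hb
      exact ⟨p + q, map_add _ _ _⟩
  have e : (Module.compHom (TensorProduct A A' M) α'.toRingHom : Module P' (TensorProduct A A' M)) =
      TensorProduct.leftModule := Module.ext' _ _ fun p z => by
    induction z using TensorProduct.induction_on with
    | zero => exact (smul_zero (α' p)).trans (smul_zero p).symm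
    | tmul a m => rfl
    | add x y hx hy => exact (smul_add (α' p) x y).trans ((congrArg₂ (· + ·) hx hy).trans (smul_add p x y).symm)
  have h1 : Groth.Agent.RelFP.Basic.FPVia α'.toRingHom (TensorProduct A A' M) := by
    unfold Groth.Agent.RelFP.Basic.FPVia
    rw [e]
    exact h0
  exact (Groth.Agent.RelFP.Basic.fpVia_iff_fpVia (R := R') α' hα' γ hγ _).1 h1

end Groth.Agent.S12083
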