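import Groth.Statements.S12086
import Groth.Agent.DRing.KFlat

set_option autoImplicit false
universe u
open CategoryTheory CategoryTheory.Limits MonoidalCategory CategoryTheory.Pretriangulated
open DRing

namespace Groth.Agent.S12086

/-- Let `(K₁•, K₂•, K₃•)` be a distinguished triangle in the homotopy category `K(R)` of complexes of
`R`-modules. If two out of the three complexes are K-flat (tensoring with them carries acyclic
complexes to acyclic complexes), then so is the third. -/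
theorem result (R : Type u) [CommRing R]
    (T : Pretriangulated.Triangle (HomotopyCategory (ModuleCat.{u} R) (ComplexShape.up ℤ)))
    (hT : T ∈ Pretriangulated.distinguishedTriangles) :
    ((∀ L : DRing.Cx R, (∀ i : ℤ, IsZero (L.homology i)) → ∀ i : ℤ, IsZero ((L ⊗ T.obj₁.as).homology i)) → (∀ L : DRing.Cx R, (∀ i : ℤ, IsZero (L.homology i)) → ∀ i : ℤ, IsZero ((L ⊗ T.obj₂.as).homology i)) → (∀ L : DRing.Cx R, (∀ i : ℤ, IsZero (L.homology i)) → ∀ i : ℤ, IsZero ((L ⊗ T.obj₃.as).homology i))) ∧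
    ((∀ L : DRing.Cx R, (∀ i : ℤ, IsZero (L.homology i)) → ∀ i : ℤ, IsZero ((L ⊗ T.obj₁.as).homology i)) → (∀ L : DRing.Cx R, (∀ i : ℤ, IsZero (L.homology i)) → ∀ i : ℤ, IsZero ((L ⊗ T.obj₃.as).homology i)) → (∀ L : DRing.Cx R, (∀ i : ℤ, IsZero (L.homology i)) → ∀ i : ℤ, IsZero ((L ⊗ T.obj₂.as).homology i))) ∧
    ((∀ L : DRing.Cx R, (∀ i : ℤ, IsZero (L.homology i)) → ∀ i : ℤ, IsZero ((L ⊗ T.obj₂.as).homology i)) → (∀ L : DRing.Cx R, (∀ i : ℤ, IsZero (L.homology i)) → ∀ i : ℤ, IsZero ((L ⊗ T.obj₃.as).homology i)) → (∀ L : DRing.Cx R, (∀ i : ℤ, IsZero (L.homology i)) → ∀ i : ℤ, IsZero ((L ⊗ T.obj₁.as).homology i))) := by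
  obtain ⟨X, Y, φ, ⟨e⟩⟩ := hT
  obtain ⟨h₁, h₂, h₃⟩ := Groth.Agent.DRing.KFlat.mappingCone_two_of_three φ
  let e₁ := HomotopyCategory.homotopyEquivOfIso (C := T.obj₁.as) (D := X) (Pretriangulated.Triangle.π₁.mapIso e)
  let e₂ := HomotopyCategory.homotopyEquivOfIso (C := T.obj₂.as) (D := Y) (Pretriangulated.Triangle.π₂.mapIso e)
  let e₃ := HomotopyCategory.homotopyEquivOfIso (C := T.obj₃.as) (D := CochainComplex.mappingCone φ)
    (Pretriangulated.Triangle.π₃.mapIso e)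
  refine ⟨fun a b => ?_, fun a c => ?_, fun b c => ?_⟩
  · exact Groth.Agent.DRing.KFlat.IsKFlat.of_homotopyEquiv e₃.symm
      (h₁ (Groth.Agent.DRing.KFlat.IsKFlat.of_homotopyEquiv e₁ a)
        (Groth.Agent.DRing.KFlat.IsKFlat.of_homotopyEquiv e₂ b))
  · exact Groth.Agent.DRing.KFlat.IsKFlat.of_homotopyEquiv e₂.symm
      (h₃ (Groth.Agent.DRing.KFlat.IsKFlat.of_homotopyEquiv e₁ a)
        (Groth.Agent.DRing.KFlat.IsKFlat.of_homotopyEquiv e₃ c))
  · exact Groth.Agent.DRing.KFlat.IsKFlat.of_homotopyEquiv e₁.symm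
      (h₂ (Groth.Agent.DRing.KFlat.IsKFlat.of_homotopyEquiv e₂ b)
        (Groth.Agent.DRing.KFlat.IsKFlat.of_homotopyEquiv e₃ c))

end Groth.Agent.S12086
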