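import Groth.Statements.S1209
import Groth.Agent.RGFlat.Loc

set_option autoImplicit false
universe u
open FlatMor

namespace Groth.Agent.S1209

/-- Let R → S be a ring map of finite type and q a prime of S such that the local ring S_q is flat over
R. Then S_q is essentially of finite presentation over R. (The published statement concludes that
S_q is essentially of finite presentation over R_p, where p is the prime of R below q; the two are
equivalent, since R_p is itself a localization of R.) -/
theorem result {R S : Type u} [CommRing R] [CommRing S] [Algebra R S] [Algebra.FiniteType R S]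
    (q : Ideal S) [q.IsPrime] [Module.Flat R (Localization.AtPrime q)] :
    FlatCA.EssFinitePresentation R (Localization.AtPrime q) := by
  classical
  obtain ⟨n, π, hπ⟩ := Algebra.FiniteType.iff_quotient_mvPolynomial''.mp (inferInstance : Algebra.FiniteType R S)
  let P := MvPolynomial (Fin n) R
  let Q : Ideal P := q.comap π
  haveI : Q.IsPrime := Ideal.comap_isPrime _ _
  let PQ := Localization.AtPrime Q
  let Sq := Localization.AtPrime q
  let g : PQ →+* Sq := Localization.localRingHom Q q π.toRingHom rfl
  have hg : ∀ p : P, g (algebraMap P PQ p) = algebraMap S Sq (π p) := fun p => Localization.localRingHom_to_map _ _ _ rfl p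
  have hgs : Function.Surjective g :=
    (RingHom.surjectiveOnStalks_of_surjective hπ).localRingHom_surjective Q q rfl
  letI : Algebra PQ Sq := g.toAlgebra
  haveI : IsScalarTower R PQ Sq := IsScalarTower.of_algebraMap_eq fun r => by
    show algebraMap R Sq r = g (algebraMap R PQ r)
    rw [IsScalarTower.algebraMap_apply R P PQ, hg, π.commutes, ← IsScalarTower.algebraMap_apply]
  haveI : Module.Finite PQ Sq := Module.Finite.of_surjective (Algebra.linearMap PQ Sq) hgs
  haveI : Module.FinitePresentation PQ Sq := RGFlat.fp_of_flat (R := R) Q PQ Sq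
  obtain ⟨G, hG⟩ : (RingHom.ker g).FG :=
    Module.FinitePresentation.fg_ker (Algebra.linearMap PQ Sq) hgs
  have hsurj : ∀ v : PQ, ∃ a : P, ∃ b : Q.primeCompl, v * algebraMap P PQ b = algebraMap P PQ a := fun v =>
    let ⟨⟨a, b⟩, h⟩ := IsLocalization.surj Q.primeCompl v; ⟨a, b, h⟩
  choose num den hnum using hsurj
  let I : Ideal P := Ideal.span (G.image num : Finset P)
  have hIk : I ≤ RingHom.ker ((algebraMap S Sq).comp π.toRingHom) := by
    refine Ideal.span_le.mpr ?_
    intro p hp
    obtain ⟨v, hv, rfl⟩ := Finset.mem_image.mp hp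
    show algebraMap S Sq (π (num v)) = 0
    rw [← hg, ← hnum v, map_mul, show g v = 0 from hG.le (Ideal.subset_span hv), zero_mul]
  let ψ : P ⧸ I →ₐ[R] Sq := Ideal.Quotient.liftₐ I ((IsScalarTower.toAlgHom R S Sq).comp π) fun p hp => hIk hp
  letI : Algebra (P ⧸ I) Sq := ψ.toRingHom.toAlgebra
  haveI : IsScalarTower R (P ⧸ I) Sq := IsScalarTower.of_algebraMap_eq fun r => (ψ.commutes r).symm
  refine ⟨P ⧸ I, inferInstance, inferInstance, inferInstance, inferInstance,
    Algebra.algebraMapSubmonoid (P ⧸ I) Q.primeCompl, Algebra.FinitePresentation.quotient ⟨_, rfl⟩, ?_⟩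
  refine IsLocalization.of_surjective Q.primeCompl PQ (Ideal.Quotient.mk I) Ideal.Quotient.mk_surjective g hgs
    (RingHom.ext fun p => hg p) ?_
  rw [Ideal.mk_ker, ← hG]
  refine Ideal.span_le.mpr fun v hv => ?_
  have h1 : algebraMap P PQ (num v) ∈ I.map (algebraMap P PQ) :=
    Ideal.mem_map_of_mem _ (Ideal.subset_span (Finset.mem_image_of_mem num hv))
  rw [← hnum v] at h1
  exact (Ideal.mul_unit_mem_iff_mem _ (IsLocalization.map_units PQ (den v))).mp h1

end Groth.Agent.S1209
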