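import Groth.Statements.S12095
import Mathlib
-- import your own Groth.Agent.* helpers here

set_option autoImplicit false
universe u
open CAlg

namespace Groth.Agent.S12095


open HomogeneousLocalization

section Setup

variable {R R' S : Type u} [CommRing R] [CommRing R'] [Algebra R R'] [CommRing S] [Algebra R S]
  (𝒜 : ℕ → Submodule R S) [GradedAlgebra 𝒜] {f : S} (hf : f ∈ 𝒜 1)
  (e : HomogeneousLocalization.Away 𝒜 f ≃+* R')

/-- `x / f^d` in `R'`. -/
noncomputable def frac (d : ℕ) : 𝒜 d →+ R' where
  toFun x := e (Away.mk 𝒜 hf d x (by rw [smul_eq_mul, mul_one]; exact x.2))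
  map_zero' := by
    rw [← map_zero e]; congr 1
    apply val_injective
    rw [Away.val_mk, val_zero, ZeroMemClass.coe_zero, Localization.mk_zero]
  map_add' x y := by
    rw [← map_add e]; congr 1
    apply val_injective
    rw [val_add, Away.val_mk, Away.val_mk, Away.val_mk, Localization.add_mk_self, Submodule.coe_add]

theorem frac_mul {i j : ℕ} (x : 𝒜 i) (y : 𝒜 j) :
    frac 𝒜 hf e (i + j) ⟨x.1 * y.1, SetLike.mul_mem_graded x.2 y.2⟩ = frac 𝒜 hf e i x * frac 𝒜 hf e j y := by
  show e _ = e _ * e _
  rw [← map_mul e]; congr 1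
  apply val_injective
  rw [val_mul, Away.val_mk, Away.val_mk, Away.val_mk, Localization.mk_mul]
  congr 1
  exact Subtype.ext (pow_add f i j)

theorem frac_one : frac 𝒜 hf e 0 ⟨1, SetLike.one_mem_graded 𝒜⟩ = 1 := by
  show e _ = _
  rw [← map_one e]; congr 1
  apply val_injective
  rw [val_one, Away.val_mk]
  exact (congrArg (Localization.mk _) (Subtype.ext (pow_zero f))).trans Localization.mk_one

theorem frac_self : frac 𝒜 hf e 1 ⟨f, hf⟩ = 1 := by
  show e _ = _
  rw [← map_one e]; congr 1
  apply val_injective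
  rw [val_one, Away.val_mk]
  simp only [pow_one]
  exact Localization.mk_self (⟨f, ⟨1, pow_one f⟩⟩ : Submonoid.powers f)

/-- The graded ring map `S → R'[X]`. -/
noncomputable def theta : S →+* Polynomial R' :=
  (DirectSum.toSemiring (fun i => (Polynomial.monomial i).toAddMonoidHom.comp (frac 𝒜 hf e i))
    (by
      show Polynomial.monomial 0 (frac 𝒜 hf e 0 ⟨1, _⟩) = 1
      rw [frac_one]; rfl)
    (fun {i j} x y => by
      show Polynomial.monomial (i + j) (frac 𝒜 hf e (i + j) ⟨x.1 * y.1, _⟩) = _
      rw [frac_mul]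
      exact (Polynomial.monomial_mul_monomial i j _ _).symm)).comp
    (DirectSum.decomposeRingEquiv 𝒜).toRingHom

theorem theta_of_mem {i : ℕ} {x : S} (hx : x ∈ 𝒜 i) :
    theta 𝒜 hf e x = Polynomial.monomial i (frac 𝒜 hf e i ⟨x, hx⟩) := by
  have hd : (DirectSum.decomposeRingEquiv 𝒜).toRingHom x = DirectSum.of _ i ⟨x, hx⟩ :=
    DirectSum.decompose_of_mem 𝒜 hx
  rw [theta, RingHom.comp_apply, hd, DirectSum.toSemiring_of]
  rfl

theorem frac_algebraMap
    (he : ∀ r : R, (e.symm (algebraMap R R' r)).val = algebraMap S (Localization.Away f) (algebraMap R S r))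
    (r : R) : frac 𝒜 hf e 0 ⟨algebraMap R S r, SetLike.algebraMap_mem_graded 𝒜 r⟩ = algebraMap R R' r := by
  show e _ = _
  apply e.symm.injective
  rw [e.symm_apply_apply]
  apply val_injective
  rw [he r, Away.val_mk, ← Localization.mk_one_eq_algebraMap]
  congr 1
  exact Subtype.ext (pow_zero f)

variable {M : Type u} [AddCommGroup M] [Module R' M] [Module R M] [IsScalarTower R R' M]

/-- The degree `d` part: the span of `(x / f^d) • t`. -/
def piece (T : Set M) (d : ℕ) : Submodule R M :=
  Submodule.span R {m | ∃ x : 𝒜 d, ∃ t ∈ T, frac 𝒜 hf e d x • t = m}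

theorem frac_smul_mem {T : Set M} {a d : ℕ} (x : 𝒜 a) {m : M} (hm : m ∈ piece 𝒜 hf e T d) :
    frac 𝒜 hf e a x • m ∈ piece 𝒜 hf e T (a + d) := by
  induction hm using Submodule.span_induction with
  | mem m hm =>
    obtain ⟨y, t, ht, rfl⟩ := hm
    exact Submodule.subset_span ⟨⟨x.1 * y.1, SetLike.mul_mem_graded x.2 y.2⟩, t, ht,
      by rw [frac_mul, mul_smul]⟩
  | zero => rw [smul_zero]; exact zero_mem _
  | add _ _ _ _ ha hb => rw [smul_add]; exact add_mem ha hb
  | smul c _ _ ha =>
    rw [← algebraMap_smul R' c, smul_comm, algebraMap_smul]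
    exact Submodule.smul_mem _ c ha

theorem piece_mono {T : Set M} {d d' : ℕ} (h : d ≤ d') : piece 𝒜 hf e T d ≤ piece 𝒜 hf e T d' := by
  induction h with
  | refl => exact le_rfl
  | @step n hle ih =>
    intro m hm
    have := frac_smul_mem 𝒜 hf e (⟨f, hf⟩ : 𝒜 1) (ih hm)
    rwa [frac_self, one_smul, add_comm] at this

theorem exists_mem_piece {T : Set M} (hT : Submodule.span R' T = ⊤) (m : M) :
    ∃ d, m ∈ piece 𝒜 hf e T d := by
  have hm : m ∈ Submodule.span R' T := hT ▸ Submodule.mem_top
  induction hm using Submodule.span_induction with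
  | mem t ht => exact ⟨0, Submodule.subset_span ⟨⟨1, SetLike.one_mem_graded 𝒜⟩, t, ht,
      by rw [frac_one, one_smul]⟩⟩
  | zero => exact ⟨0, zero_mem _⟩
  | add a b _ _ ha hb =>
    obtain ⟨i, hi⟩ := ha
    obtain ⟨j, hj⟩ := hb
    exact ⟨max i j, add_mem (piece_mono 𝒜 hf e (le_max_left i j) hi)
      (piece_mono 𝒜 hf e (le_max_right i j) hj)⟩
  | smul c a _ ha =>
    obtain ⟨i, hi⟩ := ha
    obtain ⟨n, s, hs, hc⟩ := Away.mk_surjective 𝒜 hf (e.symm c)
    have hs' : s ∈ 𝒜 n := by rwa [smul_eq_mul, mul_one] at hs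
    have : frac 𝒜 hf e n ⟨s, hs'⟩ = c := by
      show e _ = c
      rw [show Away.mk 𝒜 hf n s _ = e.symm c from hc, e.apply_symm_apply]
    exact ⟨n + i, this ▸ frac_smul_mem 𝒜 hf e _ hi⟩

end Setup

/-- Let `R'` be an `R`-algebra of finite type, `M` a finite `R'`-module, and `S` an `ℕ`-graded
`R`-algebra with `f ∈ S_1` and a ring isomorphism `e : S_(f) ≅ R'` compatible with the maps from
`R`. Then there is a finite graded `S`-module `N` whose degree-zero localization `N_(f)` (the
elements `n / f^k` of `N_f` with `n` homogeneous of degree `k`) is identified with `M`: an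
`R`-linear bijection `e' : N_(f) → M` with `e'(a · x) = e(a) · e'(x)` for all `a ∈ S_(f)`. (The
published lemma produces `S`, `f` and `N` together from `R'` and `M`; here `N` is produced for any
such `S`, `f`, `e`, which the same construction gives.) -/
theorem result (R R' : Type u) [CommRing R] [CommRing R']
    [Algebra R R'] [Algebra.FiniteType R R']
    (M : Type u) [AddCommGroup M] [Module R' M] [Module R M] [IsScalarTower R R' M] [Module.Finite R' M]
    (S : Type u) [CommRing S] [Algebra R S] (𝒜 : ℕ → Submodule R S) [GradedAlgebra 𝒜] (f : S) (hf : f ∈ 𝒜 1)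
    (e : HomogeneousLocalization.Away 𝒜 f ≃+* R')
    (he : ∀ r : R, (e.symm (algebraMap R R' r)).val = algebraMap S (Localization.Away f) (algebraMap R S r)) :
    ∃ (N : Type u) (_ : AddCommGroup N) (_ : Module S N) (_ : Module R N) (_ : IsScalarTower R S N)
      (ℳ : ℕ → Submodule R N) (_ : DirectSum.Decomposition ℳ) (_ : SetLike.GradedSMul 𝒜 ℳ)
      (Nf : Submodule R (LocalizedModule (Submonoid.powers f) N)) (e' : ↥Nf ≃ₗ[R] M),
      Module.Finite S N ∧
      (∀ x, x ∈ Nf ↔ ∃ k : ℕ, ∃ n ∈ ℳ k, f ^ k • x = LocalizedModule.mk n 1) ∧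
      (∀ (a : HomogeneousLocalization.Away 𝒜 f) (x y : ↥Nf),
        a.val • (x : LocalizedModule (Submonoid.powers f) N) = y → e' y = e a • e' x) := by

  classical
  obtain ⟨T, hT⟩ := (Module.finite_def.mp (inferInstance : Module.Finite R' M))
  set θ := theta 𝒜 hf e with hθ
  let P := PolynomialModule R' M
  letI instP : Module S P := Module.compHom P θ
  letI instM : Module S M := Module.compHom M ((Polynomial.evalRingHom (1 : R')).comp θ)
  have hsmul : ∀ (s : S) (p : P), s • p = θ s • p := fun _ _ => rfl
  have hsmulM : ∀ (s : S) (m : M), s • m = (θ s).eval 1 • m := fun _ _ => rfl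
  have hθr : ∀ r : R, θ (algebraMap R S r) = algebraMap R (Polynomial R') r := fun r => by
    rw [hθ, theta_of_mem 𝒜 hf e (SetLike.algebraMap_mem_graded 𝒜 r), frac_algebraMap 𝒜 hf e he]
    rfl
  haveI hPtower : IsScalarTower R S P := IsScalarTower.of_algebraMap_smul fun r p => by
    rw [hsmul, hθr, algebraMap_smul]
  haveI hMtower : IsScalarTower R S M := IsScalarTower.of_algebraMap_smul fun r m => by
    rw [hsmulM, hθr, ← algebraMap_smul R' r]
    simp
  let Q : ℕ → Submodule R M := fun d => piece 𝒜 hf e (T : Set M) d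
  have hhom : ∀ {a : ℕ} {s : S} (hs : s ∈ 𝒜 a) (j : ℕ) (m : M),
      s • (PolynomialModule.single R' j m : P) = PolynomialModule.single R' (a + j) (frac 𝒜 hf e a ⟨s, hs⟩ • m) := by
    intro a s hs j m
    rw [hsmul, hθ, theta_of_mem 𝒜 hf e hs]
    exact PolynomialModule.monomial_smul_single _ _ _ _
  let N : Submodule S P :=
    { carrier := {p | ∀ d, p.coeff d ∈ Q d}
      zero_mem' := fun d => by simp
      add_mem' := fun {p q} hp hq d => by
        rw [PolynomialModule.coeff_add, Finsupp.add_apply]; exact add_mem (hp d) (hq d)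
      smul_mem' := fun s p hp => by
        induction s using DirectSum.Decomposition.inductionOn 𝒜 with
        | zero => rw [zero_smul]; exact fun d => by simp
        | homogeneous s =>
          rename_i a
          intro d
          rw [hsmul, hθ, theta_of_mem 𝒜 hf e s.2, PolynomialModule.monomial_smul_apply]
          split_ifs with h
          · have := frac_smul_mem 𝒜 hf e s (hp (d - a))
            rwa [Nat.add_sub_cancel' h] at this
          · exact zero_mem _
        | add s t hs ht =>
          intro d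
          rw [add_smul, PolynomialModule.coeff_add, Finsupp.add_apply]
          exact add_mem (hs d) (ht d) }
  -- homogeneous elements
  have hsingle : ∀ {d : ℕ} {m : M}, m ∈ Q d → (PolynomialModule.single R' d m : P) ∈ N := by
    intro d m hm j
    rw [PolynomialModule.coeff_single, Finsupp.single_apply]
    split_ifs with h
    · exact h ▸ hm
    · exact zero_mem _
  let ℳ : ℕ → Submodule R ↥N := fun d =>
    ((LinearMap.range ((PolynomialModule.lsingle R' (M := M) d).restrictScalars R)).comap
      ((N.subtype).restrictScalars R))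
  have hℳ : ∀ {d : ℕ} {n : ↥N}, n ∈ ℳ d ↔ ∃ m, (PolynomialModule.single R' d m : P) = (n : P) :=
    Iff.rfl
  have hℳcoeff : ∀ {d : ℕ} {n : ↥N}, n ∈ ℳ d →
      (n : P) = PolynomialModule.single R' d ((n : P).coeff d) := by
    intro d n hn
    obtain ⟨m, hm⟩ := hℳ.mp hn
    rw [← hm, PolynomialModule.coeff_single, Finsupp.single_eq_same]
  let comp : ∀ (n : ↥N) (d : ℕ), ℳ d := fun n d =>
    ⟨⟨PolynomialModule.single R' d ((n : P).coeff d), hsingle (n.2 d)⟩, hℳ.mpr ⟨_, rfl⟩⟩
  have hdec : DirectSum.IsInternal ℳ := by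
    constructor
    · rw [injective_iff_map_eq_zero]
      intro z hz
      have key : ∀ (z : DirectSum ℕ fun d => ↥(ℳ d)) (d : ℕ),
          ((DirectSum.coeAddMonoidHom ℳ z : ↥N) : P).coeff d = ((z d : ↥N) : P).coeff d := by
        intro z d
        induction z using DirectSum.induction_on with
        | zero => simp
        | of i x =>
          rw [DirectSum.coeAddMonoidHom_of, DirectSum.coe_of_apply]
          split_ifs with h
          · rfl
          · rw [ZeroMemClass.coe_zero, hℳcoeff x.2, PolynomialModule.coeff_single,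
              Finsupp.single_eq_of_ne (Ne.symm h)]
            simp
        | add a b ha hb =>
          rw [map_add, Submodule.coe_add, PolynomialModule.coeff_add, Finsupp.add_apply, ha, hb,
            DirectSum.add_apply, Submodule.coe_add, Submodule.coe_add, PolynomialModule.coeff_add,
            Finsupp.add_apply]
      refine DirectSum.ext (β := fun d => ↥(ℳ d)) fun d => ?_
      have hd := key z d
      rw [hz] at hd
      apply Subtype.ext; apply Subtype.ext
      rw [hℳcoeff (z d).2, ← hd]
      simp
    · intro n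
      refine ⟨∑ d ∈ (n : P).coeff.support, DirectSum.of (fun d => ↥(ℳ d)) d (comp n d), ?_⟩
      rw [map_sum]
      simp only [DirectSum.coeAddMonoidHom_of]
      apply Subtype.ext
      apply PolynomialModule.coeff_injective
      simp only [comp, Submodule.coe_sum]
      exact (map_sum PolynomialModule.coeffAddEquiv _ _).trans (Finsupp.sum_single (n : P).coeff)
  have hgr : SetLike.GradedSMul 𝒜 ℳ := ⟨fun {a d} s n hs hn => by
    refine hℳ.mpr ⟨frac 𝒜 hf e a ⟨s, hs⟩ • (n : P).coeff d, ?_⟩
    show (PolynomialModule.single R' (a + d) _ : P) = s • (n : P)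
    conv_rhs => rw [hℳcoeff hn]
    rw [hhom hs]⟩
  let ev : ↥N →ₗ[S] M :=
    { toFun := fun n => PolynomialModule.eval (1 : R') (n : P)
      map_add' := fun a b => map_add (PolynomialModule.eval (1 : R')) _ _
      map_smul' := fun s n => by
        show PolynomialModule.eval (1 : R') (θ s • (n : P)) = (θ s).eval 1 • _
        exact PolynomialModule.eval_smul _ _ _ }
  have hev : ∀ {d : ℕ} {n : ↥N}, n ∈ ℳ d → ev n = (n : P).coeff d := by
    intro d n hn
    show PolynomialModule.eval (1 : R') (n : P) = _
    conv_lhs => rw [hℳcoeff hn, PolynomialModule.eval_single, one_pow, one_smul]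
  have hfone : ∀ (k : ℕ) (m : M), (f ^ k) • m = m := fun k m => by
    rw [hsmulM, map_pow, hθ, theta_of_mem 𝒜 hf e hf, frac_self, Polynomial.eval_pow,
      Polynomial.eval_monomial, one_mul, one_pow, one_pow, one_smul]
  have hunit : ∀ x : Submonoid.powers f, IsUnit (algebraMap S (Module.End S M) x) := by
    rintro ⟨_, k, rfl⟩
    have : algebraMap S (Module.End S M) (f ^ k) = 1 := LinearMap.ext fun m => hfone k m
    exact this.symm ▸ isUnit_one
  let L := LocalizedModule (Submonoid.powers f) ↥N
  let χ : L →ₗ[S] M := LocalizedModule.lift (Submonoid.powers f) ev hunit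
  have hχmk : ∀ n : ↥N, χ (LocalizedModule.mk n 1) = ev n := fun n =>
    LocalizedModule.lift_mk_one (Submonoid.powers f) ev hunit n
  let Nf : Submodule R L :=
    { carrier := {x | ∃ k : ℕ, ∃ n ∈ ℳ k, f ^ k • x = LocalizedModule.mk n 1}
      zero_mem' := ⟨0, 0, zero_mem _, by rw [smul_zero, LocalizedModule.zero_mk]⟩
      add_mem' := fun {x y} hx hy => by
        obtain ⟨k, n, hn, hx⟩ := hx
        obtain ⟨l, n', hn', hy⟩ := hy
        refine ⟨k + l, f ^ l • n + f ^ k • n', add_mem ?_ ?_, ?_⟩
        · have := SetLike.GradedSMul.smul_mem (self := hgr) (SetLike.pow_mem_graded l hf) hn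
          rwa [vadd_eq_add, smul_eq_mul, mul_one, add_comm] at this
        · have := SetLike.GradedSMul.smul_mem (self := hgr) (SetLike.pow_mem_graded k hf) hn'
          rwa [vadd_eq_add, smul_eq_mul, mul_one] at this
        · have e1 : ∀ (s : S) (z : ↥N), (LocalizedModule.mk (s • z) 1 : L) = s • LocalizedModule.mk z 1 :=
            fun s z => (LocalizedModule.mkLinearMap (Submonoid.powers f) ↥N).map_smul s z
          have e2 : ∀ (z z' : ↥N), (LocalizedModule.mk (z + z') 1 : L) = LocalizedModule.mk z 1 + LocalizedModule.mk z' 1 :=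
            fun z z' => (LocalizedModule.mkLinearMap (Submonoid.powers f) ↥N).map_add z z'
          rw [e2, e1, e1, ← hx, ← hy, smul_add, smul_smul, smul_smul, ← pow_add, ← pow_add, add_comm l k]
      smul_mem' := fun r x hx => by
        obtain ⟨k, n, hn, hx⟩ := hx
        refine ⟨k, r • n, Submodule.smul_mem _ r hn, ?_⟩
        rw [smul_comm, hx]
        exact ((LocalizedModule.mkLinearMap (Submonoid.powers f) ↥N).map_smul_of_tower r n).symm }
  have hχR : ∀ (r : R) (x : L), χ (r • x) = r • χ x := fun r x => χ.map_smul_of_tower r x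
  let g : ↥Nf →ₗ[R] M :=
    { toFun := fun x => χ (x : L)
      map_add' := fun a b => map_add χ _ _
      map_smul' := fun r a => hχR r a }
  have hbij : Function.Bijective g := by
    constructor
    · rw [injective_iff_map_eq_zero]
      rintro ⟨x, k, n, hn, hx⟩ hg
      have h1 : ev n = 0 := by
        rw [← hχmk, ← hx, map_smul, hfone]
        exact hg
      have h2 : n = 0 := by
        apply Subtype.ext
        rw [hℳcoeff hn, ← hev hn, h1]
        simp
      apply Subtype.ext
      show x = 0
      rw [h2, LocalizedModule.zero_mk] at hx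
      have hu : Function.Bijective (algebraMap S (Module.End S L) (f ^ k)) :=
        (Module.End.isUnit_iff _).mp
          (IsLocalizedModule.map_units (LocalizedModule.mkLinearMap (Submonoid.powers f) ↥N) (⟨f ^ k, ⟨k, rfl⟩⟩ : Submonoid.powers f))
      exact hu.1 (by rw [Module.algebraMap_end_apply, Module.algebraMap_end_apply, hx, smul_zero])
    · intro m
      obtain ⟨d, hd⟩ := exists_mem_piece 𝒜 hf e hT m
      let n : ↥N := ⟨PolynomialModule.single R' d m, hsingle hd⟩
      have hn : n ∈ ℳ d := hℳ.mpr ⟨m, rfl⟩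
      have hx : f ^ d • (LocalizedModule.mk n ⟨f ^ d, d, rfl⟩ : L) = LocalizedModule.mk n 1 := by
        rw [LocalizedModule.smul'_mk]
        exact LocalizedModule.mk_cancel (⟨f ^ d, d, rfl⟩ : Submonoid.powers f) n
      refine ⟨⟨LocalizedModule.mk n ⟨f ^ d, d, rfl⟩, d, n, hn, hx⟩, ?_⟩
      show χ (LocalizedModule.mk n (⟨f ^ d, ⟨d, rfl⟩⟩ : Submonoid.powers f) : L) = m
      rw [← hfone d (χ _), ← map_smul, hx, hχmk, hev hn]
      simp [n]
  refine ⟨↥N, inferInstance, inferInstance, inferInstance, inferInstance, ℳ,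
    hdec.chooseDecomposition ℳ, hgr, Nf, LinearEquiv.ofBijective g hbij, ?_, fun x => Iff.rfl, ?_⟩
  · -- finiteness
    have hPfin : N = Submodule.span S (Set.range fun t : T => (PolynomialModule.single R' 0 (t : M) : P)) := by
      refine le_antisymm (fun p hp => ?_) (Submodule.span_le.mpr ?_)
      · have hp' : p = ∑ d ∈ p.coeff.support, PolynomialModule.single R' d (p.coeff d) := by
          apply PolynomialModule.coeff_injective
          simp only [PolynomialModule.coeff_sum, PolynomialModule.coeff_single]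
          exact (Finsupp.sum_single p.coeff).symm
        rw [hp']
        refine Submodule.sum_mem _ fun d _ => ?_
        have : Q d ≤ ((Submodule.span S (Set.range fun t : T => (PolynomialModule.single R' 0 (t : M) : P))).restrictScalars R).comap
            ((PolynomialModule.lsingle R' (M := M) d).restrictScalars R) := by
          refine Submodule.span_le.mpr ?_
          rintro _ ⟨x, t, ht, rfl⟩
          show (PolynomialModule.single R' d (frac 𝒜 hf e d x • t) : P) ∈
            Submodule.span S (Set.range fun t : T => (PolynomialModule.single R' 0 (t : M) : P))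
          have h3 := hhom x.2 0 t
          rw [add_zero] at h3
          rw [← h3]
          exact Submodule.smul_mem _ _ (Submodule.subset_span ⟨⟨t, ht⟩, rfl⟩)
        exact this (hp d)
      · rintro _ ⟨t, rfl⟩
        exact hsingle (Submodule.subset_span ⟨⟨1, SetLike.one_mem_graded 𝒜⟩, t, t.2, by rw [frac_one, one_smul]⟩)
    exact Module.Finite.iff_fg.mpr (hPfin ▸ Submodule.fg_span (Set.finite_range _))
  · intro a x y hxy
    show χ (y : L) = e a • χ (x : L)
    obtain ⟨j, s, hs, rfl⟩ := Away.mk_surjective 𝒜 hf a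
    have hs' : s ∈ 𝒜 j := by rwa [smul_eq_mul, mul_one] at hs
    have hfy : f ^ j • (y : L) = s • (x : L) := by
      rw [← hxy, ← algebraMap_smul (Localization (Submonoid.powers f)) (f ^ j), smul_smul, Away.val_mk,
        Localization.mk_eq_mk', IsLocalization.mk'_spec'_mk, algebraMap_smul]
    have h4 := congrArg χ hfy
    rw [map_smul, map_smul, hfone, hsmulM, hθ, theta_of_mem 𝒜 hf e hs', Polynomial.eval_monomial,
      one_pow, mul_one] at h4
    rw [h4]
    congr 1

end Groth.Agent.S12095
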