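import Groth.Statements.S12096
import Groth.Agent.BlowUp.AffineChart

set_option autoImplicit false
universe u
open BlowUp

namespace Groth.Agent.S12096

/-- Néron's blowup is compatible with localization. For a ring `A`, an ideal `I`, elements `π, a ∈ A`,
`A' = A[I/π] ⊆ A_π` the affine blowup algebra and `(A_a)' = A_a[I A_a/π]` that of the localization,
the canonical map `A' → (A_a)'` (the restriction of `A_π → (A_a)_π`, given here as a datum with that
compatibility) identifies `(A_a)'` with the localization `A'_a`. In Néron's situation (`I` the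
inverse image of the maximal ideal of `Λ`, `π` a uniformizer, `a ∉ I`) this reads: the Néron blowup
of `A_a` is `A'_a`; the identity holds for arbitrary `A, I, π, a`. -/
theorem result (A : Type u) [CommRing A] (I : Ideal A) (π a : A) (hπ : π ∈ I)
    (ψ : BlowUp.affineAlgebra A I π →+*
      BlowUp.affineAlgebra (Localization.Away a) (I.map (algebraMap A (Localization.Away a))) (algebraMap A (Localization.Away a) π))
    (hψ : ∀ x : BlowUp.affineAlgebra A I π,
      ((ψ x : BlowUp.affineAlgebra (Localization.Away a) (I.map (algebraMap A (Localization.Away a))) (algebraMap A (Localization.Away a) π)) :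
          Localization.Away (algebraMap A (Localization.Away a) π)) =
        Localization.awayMap (algebraMap A (Localization.Away a)) π (x : Localization.Away π)) :
    letI := ψ.toAlgebra
    IsLocalization.Away (algebraMap A (BlowUp.affineAlgebra A I π) a)
      (BlowUp.affineAlgebra (Localization.Away a) (I.map (algebraMap A (Localization.Away a))) (algebraMap A (Localization.Away a) π)) := by
  let := ψ.toAlgebra
  have hψA : ∀ c : A, ψ (algebraMap A _ c) =
      algebraMap (Localization.Away a) _ (algebraMap A (Localization.Away a) c) := fun c => by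
    refine Subtype.ext ((hψ _).trans ?_)
    simp [Localization.awayMap, IsLocalization.Away.map, IsLocalization.map_eq]
  have hdiv : ∀ x (hx : x ∈ I), ψ (Groth.Agent.BlowUp.AffineChart.div I π hx) =
      Groth.Agent.BlowUp.AffineChart.div (I.map (algebraMap A (Localization.Away a)))
        (algebraMap A (Localization.Away a) π) (Ideal.mem_map_of_mem _ hx) := fun x hx => by
    refine Subtype.ext ((hψ _).trans ?_)
    simp [Groth.Agent.BlowUp.AffineChart.div, Localization.awayMap, IsLocalization.Away.map,
      IsLocalization.map_mk']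
  let a' := algebraMap A (BlowUp.affineAlgebra A I π) a
  have hu : IsUnit (ψ a') := by
    rw [hψA]
    exact (IsLocalization.Away.algebraMap_isUnit a).map _
  refine IsLocalization.Away.mk _ hu (fun z => ?_) fun x y hxy => ?_
  · suffices h : ∃ (n : ℕ) (w : BlowUp.affineAlgebra A I π),
        (z : Localization.Away (algebraMap A (Localization.Away a) π)) *
          (ψ (a' ^ n) : _) = (ψ w : _) by
      obtain ⟨n, w, hw⟩ := h
      exact ⟨n, w, by rw [RingHom.algebraMap_toAlgebra, ← map_pow]; exact Subtype.ext hw⟩
    refine Algebra.adjoin_induction (p := fun z _ => ∃ (n : ℕ) (w : BlowUp.affineAlgebra A I π),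
      z * (ψ (a' ^ n) : Localization.Away (algebraMap A (Localization.Away a) π)) = (ψ w : _))
      ?_ ?_ ?_ ?_ z.2
    · rintro _ ⟨y, hy, rfl⟩
      obtain ⟨⟨⟨x, hx⟩, _, n, rfl⟩, hn⟩ :=
        (IsLocalization.mem_map_algebraMap_iff (Submonoid.powers a) _).mp hy
      refine ⟨n, Groth.Agent.BlowUp.AffineChart.div I π hx, ?_⟩
      rw [hdiv, ← map_pow, hψA]
      simp only [Groth.Agent.BlowUp.AffineChart.div, Subalgebra.coe_algebraMap]
      rw [mul_comm, IsLocalization.mul_mk'_eq_mk'_of_mul, mul_comm]
      simp only at hn
      rw [hn]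
    · intro r
      obtain ⟨⟨c, _, n, rfl⟩, hn⟩ := IsLocalization.surj (Submonoid.powers a) r
      refine ⟨n, algebraMap A _ c, ?_⟩
      rw [hψA, ← map_pow, hψA]
      simp only [Subalgebra.coe_algebraMap]
      rw [← map_mul]
      simp only at hn
      rw [hn]
    · rintro p q _ _ ⟨n, u, hu⟩ ⟨m, v, hv⟩
      refine ⟨n + m, u * a' ^ m + v * a' ^ n, ?_⟩
      simp only [pow_add, map_mul, map_add, MulMemClass.coe_mul, AddMemClass.coe_add] at hu hv ⊢
      rw [← hu, ← hv]
      ring
    · rintro p q _ _ ⟨n, u, hu⟩ ⟨m, v, hv⟩
      refine ⟨n + m, u * v, ?_⟩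
      simp only [pow_add, map_mul, MulMemClass.coe_mul] at hu hv ⊢
      rw [← hu, ← hv]
      ring
  · rw [RingHom.algebraMap_toAlgebra] at hxy
    obtain ⟨m, b, hb⟩ := Groth.Agent.BlowUp.AffineChart.exists_pow_mul_eq I π (x - y)
    have h1 : algebraMap (Localization.Away a) (BlowUp.affineAlgebra (Localization.Away a)
        (I.map (algebraMap A (Localization.Away a))) (algebraMap A (Localization.Away a) π))
        (algebraMap A (Localization.Away a) b) = 0 := by
      rw [← hψA, ← hb, map_mul, map_sub, sub_eq_zero.mpr hxy, mul_zero]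
    have h2 := congrArg Subtype.val h1
    rw [Subalgebra.coe_algebraMap] at h2
    obtain ⟨⟨_, k, rfl⟩, hk⟩ := (IsLocalization.map_eq_zero_iff
      (Submonoid.powers (algebraMap A (Localization.Away a) π)) _ _).mp
      (h2.trans (ZeroMemClass.coe_zero _))
    simp only [← map_pow, ← map_mul] at hk
    obtain ⟨⟨_, N, rfl⟩, hN⟩ := (IsLocalization.map_eq_zero_iff (Submonoid.powers a) _ _).mp hk
    refine ⟨N, sub_eq_zero.mp ?_⟩
    rw [← mul_sub]
    refine (mul_left_mem_nonZeroDivisors_eq_zero_iff (pow_mem
      (Groth.Agent.BlowUp.AffineChart.algebraMap_mem_nonZeroDivisors I π) (k + m))).mp ?_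
    have h3 := congrArg (algebraMap A (BlowUp.affineAlgebra A I π)) hN
    simp only [map_mul, map_pow, map_zero] at h3
    rw [← h3, ← hb]
    ring

end Groth.Agent.S12096
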