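import Groth.Statements.S12097
import Groth.Agent.BlowUp.AffineChart

set_option autoImplicit false
universe u
open BlowUp

namespace Groth.Agent.S12097

/-- Néron's blowup is compatible with closed immersions. For a surjective ring map `B → A` with kernel
`J`, an ideal `I ⊆ B` containing `π`, and the affine blowup algebras `B' = B[I/π] ⊆ B_π`, `A' =
A[IA/π] ⊆ A_π`, the canonical map `B' → A'` (the restriction of `B_π → A_π`, given as a datum with
that compatibility) is surjective with kernel the elements `x` such that `π^n x ∈ J B'` for some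
`n`: `A'` is the quotient of `B'/JB'` by its `π`-power torsion. In Néron's situation (`I` the
inverse image of the maximal ideal of `Λ`, `π` a uniformizer) this is the printed functoriality; the
identity holds for any surjection. -/
theorem result (B A : Type u) [CommRing B] [CommRing A] [Algebra B A]
    (hq : Function.Surjective (algebraMap B A)) (I : Ideal B) (π : B) (hπ : π ∈ I)
    (ψ : BlowUp.affineAlgebra B I π →+* BlowUp.affineAlgebra A (I.map (algebraMap B A)) (algebraMap B A π))
    (hψ : ∀ x : BlowUp.affineAlgebra B I π,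
      ((ψ x : BlowUp.affineAlgebra A (I.map (algebraMap B A)) (algebraMap B A π)) : Localization.Away (algebraMap B A π)) =
        Localization.awayMap (algebraMap B A) π (x : Localization.Away π)) :
    Function.Surjective ψ ∧
      ∀ x : BlowUp.affineAlgebra B I π, x ∈ RingHom.ker ψ ↔
        ∃ n : ℕ, algebraMap B (BlowUp.affineAlgebra B I π) π ^ n * x ∈
          (RingHom.ker (algebraMap B A)).map (algebraMap B (BlowUp.affineAlgebra B I π)) := by
  have hψA : ∀ c : B, ψ (algebraMap B _ c) = algebraMap A _ (algebraMap B A c) := fun c => by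
    refine Subtype.ext ((hψ _).trans ?_)
    simp [Localization.awayMap, IsLocalization.Away.map, IsLocalization.map_eq]
  have hdiv : ∀ x (hx : x ∈ I), ψ (Groth.Agent.BlowUp.AffineChart.div I π hx) =
      Groth.Agent.BlowUp.AffineChart.div (I.map (algebraMap B A)) (algebraMap B A π)
        (Ideal.mem_map_of_mem _ hx) := fun x hx => by
    refine Subtype.ext ((hψ _).trans ?_)
    simp [Groth.Agent.BlowUp.AffineChart.div, Localization.awayMap, IsLocalization.Away.map,
      IsLocalization.map_mk']
  refine ⟨fun z => ?_, fun x => ⟨fun hx => ?_, fun ⟨n, hn⟩ => ?_⟩⟩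
  · suffices h : (z : Localization.Away (algebraMap B A π)) ∈
        Set.range (fun w => (ψ w : Localization.Away (algebraMap B A π))) by
      obtain ⟨w, hw⟩ := h
      exact ⟨w, Subtype.ext hw⟩
    refine Algebra.adjoin_induction (p := fun z _ => z ∈ Set.range
      (fun w => (ψ w : Localization.Away (algebraMap B A π)))) ?_ ?_ ?_ ?_ z.2
    · rintro _ ⟨y, hy, rfl⟩
      obtain ⟨x, hx, rfl⟩ := (Ideal.mem_map_iff_of_surjective _ hq).mp hy
      exact ⟨_, congrArg Subtype.val (hdiv x hx)⟩
    · intro r
      obtain ⟨c, rfl⟩ := hq r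
      exact ⟨_, congrArg Subtype.val (hψA c)⟩
    · rintro _ _ _ _ ⟨u, rfl⟩ ⟨v, rfl⟩
      exact ⟨u + v, by simp [map_add]⟩
    · rintro _ _ _ _ ⟨u, rfl⟩ ⟨v, rfl⟩
      exact ⟨u * v, by simp [map_mul]⟩
  · obtain ⟨n, b, hb⟩ := Groth.Agent.BlowUp.AffineChart.exists_pow_mul_eq I π x
    have h1 : algebraMap A (BlowUp.affineAlgebra A (I.map (algebraMap B A)) (algebraMap B A π))
        (algebraMap B A b) = 0 := by
      rw [← hψA, ← hb, map_mul, RingHom.mem_ker.mp hx, mul_zero]
    have h2 := congrArg Subtype.val h1
    rw [Subalgebra.coe_algebraMap] at h2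
    obtain ⟨⟨_, k, rfl⟩, hk⟩ := (IsLocalization.map_eq_zero_iff
      (Submonoid.powers (algebraMap B A π)) _ _).mp (h2.trans (ZeroMemClass.coe_zero _))
    refine ⟨k + n, ?_⟩
    rw [pow_add, mul_assoc, hb, ← map_pow, ← map_mul]
    exact Ideal.mem_map_of_mem _ (by rw [RingHom.mem_ker, map_mul, map_pow]; exact hk)
  · have h1 : ψ (algebraMap B _ π ^ n * x) = 0 := by
      refine (Ideal.map_le_iff_le_comap (K := RingHom.ker ψ)).mpr (fun c hc => ?_) hn
      rw [Ideal.mem_comap, RingHom.mem_ker, hψA, RingHom.mem_ker.mp hc, map_zero]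
    rw [map_mul, map_pow, hψA] at h1
    exact RingHom.mem_ker.mpr ((mul_right_mem_nonZeroDivisors_eq_zero_iff (pow_mem
      (Groth.Agent.BlowUp.AffineChart.algebraMap_mem_nonZeroDivisors _ _) n)).mp
      (by rwa [mul_comm] at h1))

end Groth.Agent.S12097
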