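import Groth.Statements.S12102
import Groth.Agent.DHA.PCohDevissage

set_option autoImplicit false
universe w v u
open CategoryTheory CategoryTheory.Limits
open PCoh

namespace Groth.Agent.S12102

open CategoryTheory.Limits Groth.Agent.DHA PCohQis PCohFT PCohCore PCohStability PCohAPI PCohDevissage

section

variable {C : Type u} [Category.{v} C] [Abelian C] {P : ObjectProperty C}

lemma fp_of_complex : ∀ {n : ℕ} {F : C} (K : ChainComplex C ℕ), (K.X 0 ≅ F) →
    (∀ j : ℕ, j ≤ n → K.ExactAt j) → (∀ j : ℕ, n + 1 < j → IsZero (K.X j)) →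
    (∀ j : ℕ, 1 ≤ j → j ≤ n + 1 → P (K.X j)) → FP P n F
  | n, F, K, e, hK, hz, hP => by
    have h0 := hK 0 (Nat.zero_le n)
    rw [HomologicalComplex.exactAt_iff_exact_up_to_refinements K 1 0 0 (by simp) (by simp)] at h0
    have hepi : Epi (K.d 1 0) := by
      rw [epi_iff_surjective_up_to_refinements]
      intro A y
      obtain ⟨A', π, hπ, x, hx⟩ := h0 y (by simp)
      exact ⟨A', π, hπ, x, hx⟩
    cases n with
    | zero => exact ⟨K.X 1, K.d 1 0 ≫ e.hom, hP 1 le_rfl le_rfl, inferInstance⟩
    | succ n =>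
      refine ⟨K.X 1, K.d 1 0 ≫ e.hom, hP 1 le_rfl (by omega), inferInstance, ?_⟩
      let k : K.X 2 ⟶ kernel (K.d 1 0 ≫ e.hom) :=
        kernel.lift _ (K.d 2 1) (by rw [← Category.assoc, K.d_comp_d, zero_comp])
      let K' := (ChainComplex.truncate.obj (ChainComplex.truncate.obj K)).augment k (by
        change K.d 3 2 ≫ k = 0
        rw [← cancel_mono (kernel.ι _)]
        simp [k])
      refine fp_of_complex K' (Iso.refl _) ?_ (fun j hj => ?_) (fun j hj hj' => ?_)
      · intro j hj
        match j with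
        | 0 =>
          rw [HomologicalComplex.exactAt_iff_exact_up_to_refinements K' 1 0 0 (by simp) (by simp)]
          have h1 := hK 1 (by omega)
          rw [HomologicalComplex.exactAt_iff_exact_up_to_refinements K 2 1 0 (by simp) (by simp)] at h1
          intro A y _
          let y' : A ⟶ kernel (K.d 1 0 ≫ e.hom) := y
          obtain ⟨A', π, hπ, x, hx⟩ := h1 (y' ≫ kernel.ι _) (by
            rw [← cancel_mono e.hom, zero_comp, Category.assoc, Category.assoc, kernel.condition,
              comp_zero])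
          refine ⟨A', π, hπ, x, ?_⟩
          change π ≫ y' = x ≫ k
          rw [← cancel_mono (kernel.ι _)]
          simp [k, hx]
        | 1 =>
          rw [HomologicalComplex.exactAt_iff_exact_up_to_refinements K' 2 1 0 (by simp) (by simp)]
          have h2 := hK 2 (by omega)
          rw [HomologicalComplex.exactAt_iff_exact_up_to_refinements K 3 2 1 (by simp) (by simp)] at h2
          intro A y hy
          let y' : A ⟶ K.X 2 := y
          have hy' : y' ≫ k = 0 := hy
          exact h2 y' (by
            have := congrArg (fun g => g ≫ kernel.ι _) hy'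
            simpa [k] using this)
        | i + 2 =>
          have h3 := hK (i + 3) (by omega)
          rw [HomologicalComplex.exactAt_iff_exact_up_to_refinements K (i + 4) (i + 3) (i + 2)
            (by simp) (by simp)] at h3
          rw [HomologicalComplex.exactAt_iff_exact_up_to_refinements K' (i + 3) (i + 2) (i + 1)
            (by simp) (by simp)]
          exact h3
      · obtain ⟨i, rfl⟩ : ∃ i, j = i + 1 := ⟨j - 1, by omega⟩
        exact hz (i + 2) (by omega)
      · obtain ⟨i, rfl⟩ : ∃ i, j = i + 1 := ⟨j - 1, by omega⟩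
        exact hP (i + 2) (by omega) (by omega)
  termination_by n => n

lemma complex_of_fp : ∀ (n : ℕ) (F : C), FP P n F →
    ∃ K : ChainComplex C ℕ, Nonempty (K.X 0 ≅ F) ∧ (∀ j : ℕ, j ≤ n → K.ExactAt j) ∧
      (∀ j : ℕ, n + 1 < j → IsZero (K.X j)) ∧ (∀ j : ℕ, 1 ≤ j → j ≤ n + 1 → P (K.X j))
  | 0, F, ⟨E, π, hE, hπ⟩ => by
    let K : ChainComplex C ℕ :=
      ((ChainComplex.single₀ C).obj E).augment (π : ((ChainComplex.single₀ C).obj E).X 0 ⟶ F)
        ((HomologicalComplex.isZero_single_obj_X _ _ _ 1 (by simp)).eq_of_src _ _)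
    refine ⟨K, ⟨Iso.refl _⟩, fun j hj => ?_, fun j hj => ?_, fun j hj hj' => ?_⟩
    · obtain rfl : j = 0 := by omega
      rw [HomologicalComplex.exactAt_iff_exact_up_to_refinements K 1 0 0 (by simp) (by simp)]
      intro A y _
      obtain ⟨A', q, hq, x, hx⟩ := surjective_up_to_refinements_of_epi π (show A ⟶ F from y)
      exact ⟨A', q, hq, x, hx⟩
    · obtain ⟨i, rfl⟩ : ∃ i, j = i + 1 := ⟨j - 1, by omega⟩
      exact HomologicalComplex.isZero_single_obj_X (ComplexShape.down ℕ) 0 E i (by omega)
    · obtain rfl : j = 1 := by omega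
      exact hE
  | n + 1, F, ⟨E, π, hE, hπ, h⟩ => by
    obtain ⟨K, ⟨e⟩, hK, hz, hP⟩ := complex_of_fp n _ h
    let d' : K.X 1 ⟶ E := K.d 1 0 ≫ e.hom ≫ kernel.ι π
    let K₁ : ChainComplex C ℕ := (ChainComplex.truncate.obj K).augment d' (by
      change K.d 2 1 ≫ d' = 0
      simp [d'])
    let K₂ : ChainComplex C ℕ := K₁.augment (π : K₁.X 0 ⟶ F) (by
      change d' ≫ π = 0
      simp [d'])
    refine ⟨K₂, ⟨Iso.refl _⟩, fun j hj => ?_, fun j hj => ?_, fun j hj hj' => ?_⟩
    · match j with
      | 0 =>
        rw [HomologicalComplex.exactAt_iff_exact_up_to_refinements K₂ 1 0 0 (by simp) (by simp)]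
        intro A y _
        obtain ⟨A', q, hq, x, hx⟩ := surjective_up_to_refinements_of_epi π (show A ⟶ F from y)
        exact ⟨A', q, hq, x, hx⟩
      | 1 =>
        rw [HomologicalComplex.exactAt_iff_exact_up_to_refinements K₂ 2 1 0 (by simp) (by simp)]
        have h1 := hK 0 (Nat.zero_le _)
        rw [HomologicalComplex.exactAt_iff_exact_up_to_refinements K 1 0 0 (by simp) (by simp)] at h1
        intro A y hy
        let y' : A ⟶ E := y
        have hy' : y' ≫ π = 0 := hy
        obtain ⟨A', q, hq, x, hx⟩ := h1 (kernel.lift π y' hy' ≫ e.inv) (by simp)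
        refine ⟨A', q, hq, x, ?_⟩
        change q ≫ y' = x ≫ d'
        simp [d', ← reassoc_of% hx]
      | 2 =>
        rw [HomologicalComplex.exactAt_iff_exact_up_to_refinements K₂ 3 2 1 (by simp) (by simp)]
        have h2 := hK 1 (by omega)
        rw [HomologicalComplex.exactAt_iff_exact_up_to_refinements K 2 1 0 (by simp) (by simp)] at h2
        intro A y hy
        let y' : A ⟶ K.X 1 := y
        have hy' : y' ≫ d' = 0 := hy
        exact h2 y' (by
          rw [← cancel_mono (e.hom ≫ kernel.ι π), Category.assoc, zero_comp]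
          exact hy')
      | i + 3 =>
        have h3 := hK (i + 2) (by omega)
        rw [HomologicalComplex.exactAt_iff_exact_up_to_refinements K (i + 3) (i + 2) (i + 1)
          (by simp) (by simp)] at h3
        rw [HomologicalComplex.exactAt_iff_exact_up_to_refinements K₂ (i + 4) (i + 3) (i + 2)
          (by simp) (by simp)]
        exact h3
    · obtain ⟨i, rfl⟩ : ∃ i, j = i + 2 := ⟨j - 2, by omega⟩
      exact hz (i + 1) (by omega)
    · match j with
      | 1 => exact hE
      | i + 2 => exact hP (i + 1) (by omega) (by omega)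

end

/-- Let C be an abelian category and C₀ a strictly full additive subcategory, quasi-stable under kernels
of epimorphisms and quasi-liftable; let F be an object of C and n a natural number. Then F is of
n-C₀-finite presentation (there is an exact sequence E_{n+1} → ⋯ → E_1 → F → 0 with all E_j in C₀;
encoded as an ℕ-indexed chain complex K with K_0 ≅ F, exact at the indices 0, …, n, zero beyond
index n + 1, and K_1, …, K_{n+1} in C₀) if and only if F placed in degree 0 is (−n)-pseudo-coherent
(isomorphic in D(C) to a strictly (−n)-pseudo-coherent complex). -/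
theorem result {C : Type u} [Category.{v} C] [Abelian C] [HasDerivedCategory.{w} C]
    (P : ObjectProperty C) [P.IsClosedUnderIsomorphisms] [P.ContainsZero] (hsum : ∀ X Y : C, P X → P Y → P (X ⨯ Y))
    (hqs : PCoh.IsQuasiStableUnderKernels P) (hql : PCoh.IsQuasiLiftable P)
    (F : C) (n : ℕ) :
    (∃ K : ChainComplex C ℕ, Nonempty (K.X 0 ≅ F) ∧ (∀ j : ℕ, j ≤ n → K.ExactAt j) ∧
        (∀ j : ℕ, n + 1 < j → IsZero (K.X j)) ∧ (∀ j : ℕ, 1 ≤ j → j ≤ n + 1 → P (K.X j))) ↔
      (∃ E : CochainComplex C ℤ, PCoh.IsStrictPC P (-(n : ℤ)) E ∧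
        Nonempty (DerivedCategory.Q.obj E ≅ (DerivedCategory.singleFunctor C 0).obj F)) := by
  have hFT := topFT_of_quasiStable hqs
  rw [show (∃ E : CochainComplex C ℤ, PCoh.IsStrictPC P (-(n : ℤ)) E ∧
        Nonempty (DerivedCategory.Q.obj E ≅ (DerivedCategory.singleFunctor C 0).obj F)) =
      PCn P (-(n : ℤ)) ((DerivedCategory.singleFunctor C 0).obj F) from rfl,
    ← fp_iff_pcn hsum hql hFT n F]
  exact ⟨fun ⟨K, ⟨e⟩, hK, hz, hP⟩ => fp_of_complex K e hK hz hP, fun h => complex_of_fp n F h⟩

end Groth.Agent.S12102
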