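import Groth.Statements.S12103
import Groth.Agent.EtShriekLib.Comp

set_option autoImplicit false
universe u
open CategoryTheory CategoryTheory.Limits AlgebraicGeometry Opposite
open EtDl

namespace Groth.Agent.S12103

/-- Let h : X ⟶ Y and g : Y ⟶ Z be separated and locally of finite type. There is one and only one
isomorphism of functors (h ≫ g)_! ≅ h_! ⋙ g_! on abelian étale sheaves which is compatible with the
inclusions into direct images: for every F, composing it with g_!(h_! F ⟶ h_* F) ⟶ g_* h_* F gives
the inclusion (h ≫ g)_! F ⟶ (h ≫ g)_* F followed by the composition isomorphism (h ≫ g)_* ≅ g_* h_*.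
(This pins the isomorphism; existence of some isomorphism of functors is a weaker statement.) -/
theorem result {X Y Z : Scheme.{u}} (h : X ⟶ Y) (g : Y ⟶ Z)
    [IsSeparated h] [LocallyOfFiniteType h] [IsSeparated g] [LocallyOfFiniteType g] :
    ∃! φ : EtShriek.lowerShriek (h ≫ g) ≅ EtShriek.lowerShriek h ⋙ EtShriek.lowerShriek g,
      ∀ F : EtCoh.Ab X,
        φ.hom.app F ≫ (EtShriek.lowerShriek g).map (EtShriek.lowerShriekToPush h F) ≫
            EtShriek.lowerShriekToPush g ((EtCoh.push h).obj F) =
          EtShriek.lowerShriekToPush (h ≫ g) F ≫ (EtCoh.pushComp g h).inv.app F := by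
  let Φ : EtShriek.lowerShriek (h ≫ g) ≅ EtShriek.lowerShriek h ⋙ EtShriek.lowerShriek g :=
    EtShriekLib.shriekIso (h ≫ g) ≪≫ EtShriekLib.compIso h g ≪≫
      Functor.isoWhiskerRight (EtShriekLib.shriekIso h).symm _ ≪≫
      Functor.isoWhiskerLeft _ (EtShriekLib.shriekIso g).symm
  have hK : ∀ F : EtCoh.Ab X,
      (EtShriek.lowerShriek g).map (EtShriek.lowerShriekToPush h F) ≫
          EtShriek.lowerShriekToPush g ((EtCoh.push h).obj F) =
        (EtShriekLib.shriekIso g).hom.app ((EtShriek.lowerShriek h).obj F) ≫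
          (EtShriekLib.shriek₀ g).map ((EtShriekLib.shriekIso h).hom.app F) ≫
            EtShriekLib.compIncl h g F := by
    intro F
    rw [EtShriekLib.lowerShriekToPush_eq g ((EtCoh.push h).obj F), EtShriekLib.lowerShriekToPush_eq h F,
      ← Category.assoc, (EtShriekLib.shriekIso g).hom.naturality, Functor.map_comp, Category.assoc,
      Category.assoc]
    exact congrArg (_ ≫ ·) (congrArg (_ ≫ ·) ((EtShriekLib.shriek₀ι g).naturality _))
  have key : ∀ F, Φ.hom.app F ≫ (EtShriek.lowerShriek g).map (EtShriek.lowerShriekToPush h F) ≫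
        EtShriek.lowerShriekToPush g ((EtCoh.push h).obj F) =
      EtShriek.lowerShriekToPush (h ≫ g) F ≫ (EtCoh.pushComp g h).inv.app F := by
    intro F
    rw [hK, EtShriekLib.lowerShriekToPush_eq (h ≫ g) F, Category.assoc, ← EtShriekLib.compIso_comp h g F]
    show ((EtShriekLib.shriekIso (h ≫ g)).hom.app F ≫ (EtShriekLib.compIso h g).hom.app F ≫
      (EtShriekLib.shriek₀ g).map ((EtShriekLib.shriekIso h).inv.app F) ≫
        (EtShriekLib.shriekIso g).inv.app ((EtShriek.lowerShriek h).obj F)) ≫ _ = _
    simp only [Category.assoc]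
    rw [Iso.inv_hom_id_app_assoc, ← Functor.map_comp_assoc, Iso.inv_hom_id_app,
      CategoryTheory.Functor.map_id]
    erw [Category.id_comp]
  refine ⟨Φ, key, fun φ hφ => ?_⟩
  ext1
  apply NatTrans.ext
  funext F
  have : Mono ((EtShriek.lowerShriek g).map (EtShriek.lowerShriekToPush h F) ≫
      EtShriek.lowerShriekToPush g ((EtCoh.push h).obj F)) := by
    rw [hK]; infer_instance
  refine (cancel_mono ((EtShriek.lowerShriek g).map (EtShriek.lowerShriekToPush h F) ≫
      EtShriek.lowerShriekToPush g ((EtCoh.push h).obj F))).mp ((hφ F).trans ?_)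
  exact (key F).symm

end Groth.Agent.S12103
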