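import Groth.Statements.S6136
import Mathlib
import Groth.Agent.Topos.LanYoneda

set_option autoImplicit false
open CategoryTheory CategoryTheory.Limits
universe u
open SGA4

namespace Groth.Agent.S6136

/-- Fully faithful case. Let `u : C ⥤ C'` be a functor between small categories and `u_!` the left Kan
extension functor on presheaves of sets, whose restriction to ind-representable presheaves is the
induced functor `Ind C ⥤ Ind C'`. Then `u` is full and faithful if and only if `u_!` is bijective on
morphisms between ind-representable presheaves. -/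
theorem result
    {C : Type u} [SmallCategory C] {C' : Type u} [SmallCategory C'] (u : C ⥤ C') :
    (u.Full ∧ u.Faithful) ↔ ∀ (F G : Cᵒᵖ ⥤ Type u), IsIndObject F → IsIndObject G →
      Function.Bijective (fun φ : F ⟶ G => (u.op.lan : (Cᵒᵖ ⥤ Type u) ⥤ (C'ᵒᵖ ⥤ Type u)).map φ) := by
  let adj := u.op.lanAdjunction (Type u)
  constructor
  · rintro ⟨_, _⟩ F G _ _
    have : IsIso adj.unit := inferInstance
    exact adj.fullyFaithfulLOfIsIsoUnit.homEquiv.bijective
  · intro h
    have : ∀ X Y : C, Function.Bijective (fun g : X ⟶ Y => u.map g) := by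
      intro X Y
      let p : (yoneda.obj X ⟶ yoneda.obj Y) → (u.obj X ⟶ u.obj Y) := fun φ =>
        (Groth.Agent.Topos.LanYoneda.betaHat u Y).app (Opposite.op (u.obj X))
          (yonedaEquiv (X := X) (adj.homEquiv _ _ (u.op.lan.map φ)) :)
      have hp : Function.Bijective p :=
        ((isIso_iff_bijective ((Groth.Agent.Topos.LanYoneda.betaHat u Y).app (Opposite.op (u.obj X)))).1 inferInstance).comp
          ((yonedaEquiv.bijective).comp ((adj.homEquiv _ _).bijective.comp
            (h _ _ (isIndObject_yoneda X) (isIndObject_yoneda Y))))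
      have : (fun g : X ⟶ Y => u.map g) = p ∘ fun g => yoneda.map g := by
        funext g
        simp only [Function.comp_apply, p, Adjunction.homEquiv_unit]
        erw [← adj.unit.naturality]
        refine (Eq.trans ?_
          (Groth.Agent.Topos.LanYoneda.betaHat_unit_apply u (Z := Opposite.op X) (𝟙 X ≫ g)).symm)
        simp
      rw [this]
      exact hp.comp (Yoneda.fullyFaithful.map_bijective X Y)
    exact ⟨⟨fun {X Y} => (this X Y).2⟩, ⟨fun {X Y} => @(this X Y).1⟩⟩

end Groth.Agent.S6136
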