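import Groth.Statements.S12109
import Mathlib
import Groth.Agent.Topos.LanYoneda
import Groth.Agent.S6136

set_option autoImplicit false
open CategoryTheory CategoryTheory.Limits
universe u
open SGA4

namespace Groth.Agent.S12109

/-- Let `u : C ⥤ C'` be a functor between small categories and `u_!` the left Kan extension functor on
presheaves of sets, whose restriction to ind-representable presheaves is the induced functor `Ind C
⥤ Ind C'`. Then `Ind(u)` is an equivalence — `u_!` is bijective on morphisms between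
ind-representable presheaves on `C` and every ind-representable presheaf on `C'` is isomorphic to
`u_! F` for some ind-representable `F` — if and only if `u` is full and faithful and every object of
`C'` is a retract (direct factor) of an object `u X`. -/
theorem result
    {C : Type u} [SmallCategory C] {C' : Type u} [SmallCategory C'] (u : C ⥤ C') :
    ((∀ (F G : Cᵒᵖ ⥤ Type u), IsIndObject F → IsIndObject G →
        Function.Bijective (fun φ : F ⟶ G => (u.op.lan : (Cᵒᵖ ⥤ Type u) ⥤ (C'ᵒᵖ ⥤ Type u)).map φ)) ∧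
      (∀ G' : C'ᵒᵖ ⥤ Type u, IsIndObject G' →
        ∃ F : Cᵒᵖ ⥤ Type u, IsIndObject F ∧
          Nonempty ((u.op.lan : (Cᵒᵖ ⥤ Type u) ⥤ (C'ᵒᵖ ⥤ Type u)).obj F ≅ G'))) ↔
    ((u.Full ∧ u.Faithful) ∧
      ∀ X' : C', ∃ (X : C) (i : X' ⟶ u.obj X) (r : u.obj X ⟶ X'), i ≫ r = 𝟙 X') := by
  let adj := u.op.lanAdjunction (Type u)
  let W : (C'ᵒᵖ ⥤ Type u) ⥤ Cᵒᵖ ⥤ Type u := (Functor.whiskeringLeft Cᵒᵖ C'ᵒᵖ (Type u)).obj u.op
  constructor
  · rintro ⟨hbij, hess⟩
    refine ⟨(Groth.Agent.S6136.result u).2 hbij, fun X' => ?_⟩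
    obtain ⟨F, hF, ⟨e⟩⟩ := hess (yoneda.obj X') (isIndObject_yoneda X')
    obtain ⟨P⟩ := hF.nonempty_presentation
    have : PreservesColimitsOfShape P.I (u.op.lan : (Cᵒᵖ ⥤ Type u) ⥤ C'ᵒᵖ ⥤ Type u) :=
      (u.op.lanAdjunction (Type u)).leftAdjoint_preservesColimits.1
    obtain ⟨a, z, hz⟩ := Types.jointly_surjective _
      (isColimitOfPreserves ((evaluation C'ᵒᵖ (Type u)).obj (Opposite.op X'))
        (isColimitOfPreserves (u.op.lan : (Cᵒᵖ ⥤ Type u) ⥤ C'ᵒᵖ ⥤ Type u) P.isColimit))
      (e.inv.app (Opposite.op X') (𝟙 X'))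
    let β := Groth.Agent.Topos.LanYoneda.betaHat u (P.F.obj a)
    let r : yoneda.obj (u.obj (P.F.obj a)) ⟶ yoneda.obj X' :=
      inv β ≫ u.op.lan.map (P.ι.app a) ≫ e.hom
    refine ⟨P.F.obj a, β.app (Opposite.op X') z, yonedaEquiv r, ?_⟩
    have h1 : r.app (Opposite.op X') (β.app (Opposite.op X') z) = 𝟙 X' := by
      have hβ := ConcreteCategory.congr_hom (congr_app (IsIso.hom_inv_id β) (Opposite.op X')) z
      refine (congrArg (fun t => e.hom.app _ ((u.op.lan.map (P.ι.app a)).app _ t)) hβ).trans ?_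
      refine (congrArg (e.hom.app _) hz).trans ?_
      exact ConcreteCategory.congr_hom (congr_app e.inv_hom_id (Opposite.op X')) (𝟙 X')
    refine Eq.trans ?_ h1
    conv_rhs => rw [← yonedaEquiv.symm_apply_apply r]
    rfl
  · rintro ⟨hu, hret⟩
    refine ⟨(Groth.Agent.S6136.result u).1 hu, fun G' hG' => ?_⟩
    obtain ⟨_, _⟩ := hu
    have hcons : ∀ {A B : C'ᵒᵖ ⥤ Type u} (f : A ⟶ B), IsIso (W.map f) → IsIso f := by
      intro A B f h
      have : ∀ X' : C'ᵒᵖ, IsIso (f.app X') := by
        rintro ⟨X'⟩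
        obtain ⟨X, i, r, hir⟩ := hret X'
        have : IsIso (f.app (Opposite.op (u.obj X))) :=
          inferInstanceAs (IsIso ((W.map f).app (Opposite.op X)))
        refine ⟨B.map r.op ≫ inv (f.app (Opposite.op (u.obj X))) ≫ A.map i.op, ?_, ?_⟩
        · rw [← f.naturality_assoc, IsIso.hom_inv_id_assoc, ← A.map_comp, ← op_comp, hir,
            op_id, A.map_id]
        · rw [Category.assoc, Category.assoc, f.naturality, IsIso.inv_hom_id_assoc,
            ← B.map_comp, ← op_comp, hir, op_id, B.map_id]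
      exact NatIso.isIso_of_isIso_app f
    have : IsIso (adj.counit.app G') := by
      refine hcons _ ?_
      have := adj.right_triangle_components G'
      exact IsIso.of_isIso_fac_left this
    obtain ⟨P⟩ := hG'.nonempty_presentation
    have hrep : ∀ a : P.I, IsIndObject (((P.F ⋙ yoneda) ⋙ W).obj a) := by
      intro a
      obtain ⟨X, i, r, hir⟩ := hret (P.F.obj a)
      refine (isIndObject_iff _).2 ⟨?_, ?_⟩
      swap
      · have := essentiallySmallSelf (CostructuredArrow yoneda (((P.F ⋙ yoneda) ⋙ W).obj a))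
        exact finallySmall_of_essentiallySmall _
      let T : CostructuredArrow yoneda (((P.F ⋙ yoneda) ⋙ W).obj a) :=
        CostructuredArrow.mk (yonedaEquiv.symm (show (((P.F ⋙ yoneda) ⋙ W).obj a).obj (Opposite.op X) from r))
      let toT : ∀ S : CostructuredArrow yoneda (((P.F ⋙ yoneda) ⋙ W).obj a), S ⟶ T := fun S =>
        CostructuredArrow.homMk (u.preimage ((show u.obj S.left ⟶ P.F.obj a from yonedaEquiv S.hom) ≫ i)) (by
          apply yonedaEquiv.injective
          rw [← yonedaEquiv_naturality]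
          simp only [T, CostructuredArrow.mk_hom_eq_self, Equiv.apply_symm_apply]
          change u.map (u.preimage _) ≫ r = _
          rw [u.map_preimage, Category.assoc, hir, Category.comp_id])
      have : Nonempty (CostructuredArrow yoneda (((P.F ⋙ yoneda) ⋙ W).obj a)) := ⟨T⟩
      refine { cocone_objs := fun S S' => ⟨T, toT S, toT S', trivial⟩, cocone_maps := fun {S S'} f g => ?_ }
      refine ⟨T, toT S', ?_⟩
      ext
      simp only [toT, CostructuredArrow.comp_left, CostructuredArrow.homMk_left]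
      apply u.map_injective
      have key : ∀ f : S ⟶ S', u.map f.left ≫ (show u.obj S'.left ⟶ P.F.obj a from yonedaEquiv S'.hom) =
          (show u.obj S.left ⟶ P.F.obj a from yonedaEquiv S.hom) := fun f => by
        conv_rhs => rw [← CostructuredArrow.w f, ← yonedaEquiv_naturality]
        rfl
      simp only [u.map_comp, u.map_preimage, reassoc_of% (key f), reassoc_of% (key g)]
    refine ⟨W.obj G', ?_, ⟨asIso (adj.counit.app G')⟩⟩
    have hc := isColimitOfPreserves W P.isColimit
    exact IsIndObject.map ((colimit.isColimit _).coconePointUniqueUpToIso hc).hom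
      (isIndObject_colimit P.I ((P.F ⋙ yoneda) ⋙ W) hrep)

end Groth.Agent.S12109
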