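import Groth.Statements.S12112
import Groth.Agent.CMReg.Closed

set_option autoImplicit false
universe u
open CategoryTheory CategoryTheory.Limits AlgebraicGeometry
open Pic13

namespace Groth.Agent.S12112

/-- Let k be an algebraically closed field, i : X ⟶ P^n_k a closed k-immersion, O_X(1) = i^*O(1), and F,
G coherent O_X-modules with a short exact sequence 0 → F(-1) → F → G → 0 and G m-regular. Then (i)
H^q(X, F(n')) = 0 for q ≥ 2 and n' ≥ m - q; (ii) h^1(F(n' - 1)) ≥ h^1(F(n')) for n' ≥ m - 1, h^1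
being the dimension over k; (iii) H^1(X, F(n')) = 0 for n' ≥ (m - 1) + h^1(F(m - 1)); in particular
F is (m + h^1(F(m - 1)))-regular. (The published statement takes F(-1) → F given by a section of
O_X(1); the printed argument uses only the short exact sequence and its twists, so any short exact
sequence of this shape is allowed here.) -/
theorem result (k : Type u) [Field k] [IsAlgClosed k] (n : ℕ) (X : Scheme.{u})
    [X.Over (Spec (CommRingCat.of k))] (i : X ⟶ CohB1.ProjSpace n k) [IsClosedImmersion i]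
    (hi : i ≫ CohB1.ProjSpace.toSpec n k = X ↘ Spec (CommRingCat.of k))
    (F G : X.Modules) (hF : Coh.IsCoh F) (hG : Coh.IsCoh G)
    (f : Pic13.twistOn k i F (-1) ⟶ F) (g : F ⟶ G) (hfg : f ≫ g = 0) (hS : (ShortComplex.mk f g hfg).ShortExact)
    (m : ℤ) (hGm : Pic13.IsMRegular k i G m) :
    (∀ (q : ℕ) (n' : ℤ), 2 ≤ q → m - q ≤ n' → Subsingleton (Coh.HH X (Pic13.twistOn k i F n') q)) ∧
    (∀ n' : ℤ, m - 1 ≤ n' →
      Module.finrank k (Coh.HH X (Pic13.twistOn k i F n') 1) ≤ Module.finrank k (Coh.HH X (Pic13.twistOn k i F (n' - 1)) 1)) ∧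
    (∀ n' : ℤ, (m - 1) + (Module.finrank k (Coh.HH X (Pic13.twistOn k i F (m - 1)) 1) : ℤ) ≤ n' →
      Subsingleton (Coh.HH X (Pic13.twistOn k i F n') 1)) ∧
    Pic13.IsMRegular k i F (m + Module.finrank k (Coh.HH X (Pic13.twistOn k i F (m - 1)) 1)) := by
  have := hF.1
  have := hG.1
  let FP := (Coh.push i).obj F
  let GP := (Coh.push i).obj G
  let ι : ProjTwist.Pn.twF FP (-1) ⟶ FP :=
    (CMReg.pushTwistIso i F (-1)).hom ≫ (Coh.push i).map f
  let π : FP ⟶ GP := (Coh.push i).map g
  have hS0 : ((ShortComplex.mk f g hfg).map (Scheme.Modules.pushforward i)).ShortExact := by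
    have : PreservesFiniteLimits (Scheme.Modules.pushforward i) :=
      have := (Scheme.Modules.pullbackPushforwardAdjunction i).isRightAdjoint
      inferInstance
    have := ChgRings.pushPreservesFiniteColimits i
    exact hS.map_of_exact _
  have w : ι ≫ π = 0 := by
    show (_ ≫ (Coh.push i).map f) ≫ (Coh.push i).map g = 0
    rw [Category.assoc, ← Functor.map_comp, hfg, Functor.map_zero, comp_zero]
  have hS' : (ShortComplex.mk ι π w).ShortExact :=
    ShortComplex.shortExact_of_iso
      (ShortComplex.isoMk (S₁ := (ShortComplex.mk f g hfg).map (Scheme.Modules.pushforward i))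
        (S₂ := ShortComplex.mk ι π w) (CMReg.pushTwistIso i F (-1)).symm (Iso.refl _) (Iso.refl _)
        (by show (CMReg.pushTwistIso i F (-1)).inv ≫ (_ ≫ (Coh.push i).map f) = (Coh.push i).map f ≫ 𝟙 _
            rw [Iso.inv_hom_id_assoc, Category.comp_id])
        (by show 𝟙 _ ≫ π = (Coh.push i).map g ≫ 𝟙 _
            rw [Category.id_comp, Category.comp_id])) hS0
  have hFP : Coh.IsCoh FP := ProperFin.isCoh_push_of_isFinite i F hF
  have hGP : Coh.IsQCoh GP := CMReg.isQCoh_push i G
  have hm : Curv2.IsMRegular k n GP m := CMReg.isMRegular_push i hGm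
  have hfr : ∀ d : ℤ, Module.finrank k (Coh.HH X (Pic13.twistOn k i F d) 1) = ProjTwist.Pn.h1Tw FP d :=
    fun d => CMReg.finrank_twistOn i hi F d 1
  have two : ∀ (q : ℕ) (n' : ℤ), 2 ≤ q → m - q ≤ n' → Subsingleton (Coh.HH X (Pic13.twistOn k i F n') q) :=
    fun q n' hq hn => (CMReg.subsingleton_twistOn_iff i F n' q).2
      (ProjTwist.Pn.extension_subsingleton ι π w hS' hFP hGP hm q hq n' hn)
  have one : ∀ n' : ℤ, (m - 1) + (Module.finrank k (Coh.HH X (Pic13.twistOn k i F (m - 1)) 1) : ℤ) ≤ n' →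
      Subsingleton (Coh.HH X (Pic13.twistOn k i F n') 1) := fun n' hn => by
    rw [hfr] at hn
    exact (CMReg.subsingleton_twistOn_iff i F n' 1).2
      (ProjTwist.Pn.extension_subsingleton_one ι π w hS' hFP hGP hm n' hn)
  refine ⟨two, fun n' hn => ?_, one, fun q hq => ?_⟩
  · rw [hfr, hfr]
    exact ProjTwist.Pn.h1Tw_le ι π w hS' hFP hGP hm n' hn
  · rcases Nat.lt_or_ge q 2 with h | h
    · obtain rfl : q = 1 := by omega
      exact one _ (by push_cast; omega)
    · exact two q _ h (by omega)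

end Groth.Agent.S12112
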