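import Groth.Statements.S12113
import Groth.Agent.ExtFppf.LocSplit

set_option autoImplicit false
universe u
open CategoryTheory CategoryTheory.Limits MonoidalCategory CartesianMonoidalCategory MonObj AlgebraicGeometry
open SGA7

namespace Groth.Agent.S12113

open Groth.Agent.ExtFppf

/-- Group schemes, fppf site: over a base scheme S, let P and G be S-group schemes with G commutative,
and let u : G → E, v : E → P and u' : G → E', v' : E' → P be homomorphisms forming sequences 1 → G →
E → P → 1 and 1 → G → E' → P → 1 exact for the fppf topology. Suppose every morphism of S-schemes P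
×_S P → G trivial on P × e_P and on e_P × P is trivial. Let f : E → E' be a morphism of S-schemes
over P (f ≫ v' = v) and under G (u ≫ f = u'), preserving the unit section, and compatible with left
and right translations by G: for all points g of G and x of E with values in any S-scheme, f(u(g) x)
= u'(g) f(x) and f(x u(g)) = f(x) u'(g). Then f is a homomorphism of S-group schemes: such
extensions have no non-multiplicative morphisms of their underlying rigidified bitorsors. (The
published statement is for sheaves of groups on an arbitrary topos and phrased as full faithfulness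
of the functor from extensions to rigidified bitorsors; this row is the case of representable
sheaves on the fppf site of S, with G commutative so that the defect of multiplicativity descends to
P ×_S P as in the printed argument. Morphisms to a group scheme form a group; trivial means equal to
its unit.) -/
theorem result (S : Scheme.{u})
    (P G E E' : Over S) [GrpObj P] [GrpObj G] [GrpObj E] [GrpObj E'] [IsCommMonObj G]
    (u : G ⟶ E) (v : E ⟶ P) (hex : NonAbH1.IsExactSeq Scheme.fppfPrecoverage u v)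
    (u' : G ⟶ E') (v' : E' ⟶ P) (hex' : NonAbH1.IsExactSeq Scheme.fppfPrecoverage u' v')
    (hPP : ∀ c : P ⊗ P ⟶ G, lift (𝟙 P) (toUnit P ≫ η[P]) ≫ c = 1 → lift (toUnit P ≫ η[P]) (𝟙 P) ≫ c = 1 → c = 1)
    (f : E ⟶ E') (hv : f ≫ v' = v) (hu : u ≫ f = u') (h1 : η[E] ≫ f = η[E'])
    (hl : ∀ (T : Over S) (g : T ⟶ G) (x : T ⟶ E), ((g ≫ u) * x) ≫ f = (g ≫ u') * (x ≫ f))
    (hr : ∀ (T : Over S) (g : T ⟶ G) (x : T ⟶ E), (x * (g ≫ u)) ≫ f = (x ≫ f) * (g ≫ u')) :
    IsMonHom f := by
  haveI := hex.1
  haveI := hex.2.1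
  haveI := hex'.1
  haveI := hex'.2.1
  have hsp := locSplit hex
  obtain ⟨d, hd⟩ := exists_of_comp_v hex'
    (((fst E E * snd E E) ≫ f) * ((fst E E ≫ f) * (snd E E ≫ f))⁻¹) (by
      rw [MonObj.mul_comp, GrpObj.inv_comp, MonObj.mul_comp (fst E E ≫ f)]
      simp only [Category.assoc, hv]
      rw [MonObj.mul_comp (fst E E) (snd E E) v, mul_inv_cancel])
  have hdp : ∀ (T : Over S) (z : T ⟶ E ⊗ E), (z ≫ d) ≫ u' =
      (((z ≫ fst E E) * (z ≫ snd E E)) ≫ f) * (((z ≫ fst E E) ≫ f) * ((z ≫ snd E E) ≫ f))⁻¹ := fun T z => by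
    rw [Category.assoc, hd]
    simp only [MonObj.comp_mul, GrpObj.comp_inv, ← Category.assoc]
  obtain ⟨c, hc⟩ := (hsp.tensor hsp).exists_desc d fun T a b e => by
    have e1 := congrArg (fun q => q ≫ fst P P) e
    have e2 := congrArg (fun q => q ≫ snd P P) e
    simp only [Category.assoc, tensorHom_fst, tensorHom_snd] at e1 e2
    obtain ⟨g, hg⟩ := exists_translate hex (a := a ≫ fst E E) (b := b ≫ fst E E) (by
      rw [Category.assoc, Category.assoc, e1])
    obtain ⟨h, hh⟩ := exists_translate hex (a := a ≫ snd E E) (b := b ≫ snd E E) (by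
      rw [Category.assoc, Category.assoc, e2])
    refine injective_u hex' ?_
    rw [hdp, hdp, ← hg, ← hh]
    generalize a ≫ fst E E = X, a ≫ snd E E = Y at *
    obtain ⟨g', hg'⟩ := exists_of_comp_v hex (Y⁻¹ * (g ≫ u) * Y) (by
      rw [MonObj.mul_comp, MonObj.mul_comp, GrpObj.inv_comp, comp_v hex, _root_.mul_one, inv_mul_cancel])
    have key : (g ≫ u) * Y = Y * (g' ≫ u) := by rw [hg']; group
    have key' : (g ≫ u') * (Y ≫ f) = (Y ≫ f) * (g' ≫ u') := by rw [← hl, key, hr]
    symm
    calc ((X * (g ≫ u) * (Y * (h ≫ u))) ≫ f) * (((X * (g ≫ u)) ≫ f) * ((Y * (h ≫ u)) ≫ f))⁻¹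
        = ((X * Y * (g' ≫ u) * (h ≫ u)) ≫ f) * (((X * (g ≫ u)) ≫ f) * ((Y * (h ≫ u)) ≫ f))⁻¹ := by
          congr 2
          calc X * (g ≫ u) * (Y * (h ≫ u)) = X * ((g ≫ u) * Y) * (h ≫ u) := by group
            _ = X * Y * (g' ≫ u) * (h ≫ u) := by rw [key]; group
      _ = (((X * Y) ≫ f) * (g' ≫ u') * (h ≫ u')) * ((X ≫ f) * (g ≫ u') * ((Y ≫ f) * (h ≫ u')))⁻¹ := by
          simp only [hr]
      _ = (((X * Y) ≫ f) * (g' ≫ u')) * (((X ≫ f) * ((g ≫ u') * (Y ≫ f))))⁻¹ := by group
      _ = ((X * Y) ≫ f) * ((X ≫ f) * (Y ≫ f))⁻¹ := by rw [key']; group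
  have hf1 : ∀ {T : Over S}, (1 : T ⟶ E) ≫ f = 1 := by
    intro T
    rw [Hom.one_def, Category.assoc, h1, ← Hom.one_def]
  have hc1 : c = 1 := by
    refine hPP c ?_ ?_
    · refine hsp.cancel ?_
      have e : v ≫ lift (𝟙 P) (toUnit P ≫ η[P]) = lift (𝟙 E) (toUnit E ≫ η[E]) ≫ (v ⊗ₘ v) := by
        apply CartesianMonoidalCategory.hom_ext
        · simp
        · simp only [Category.assoc, tensorHom_snd, lift_snd, lift_snd_assoc, IsMonHom.one_hom]
          rw [comp_toUnit_assoc]
      rw [← Category.assoc, e, Category.assoc, hc, MonObj.comp_one]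
      refine injective_u hex' ?_
      rw [hdp, MonObj.one_comp, lift_fst, lift_snd, ← Hom.one_def, hf1, _root_.mul_one, _root_.mul_one,
        mul_inv_cancel]
    · refine hsp.cancel ?_
      have e : v ≫ lift (toUnit P ≫ η[P]) (𝟙 P) = lift (toUnit E ≫ η[E]) (𝟙 E) ≫ (v ⊗ₘ v) := by
        apply CartesianMonoidalCategory.hom_ext
        · simp only [Category.assoc, tensorHom_fst, lift_fst, lift_fst_assoc, IsMonHom.one_hom]
          rw [comp_toUnit_assoc]
        · simp
      rw [← Category.assoc, e, Category.assoc, hc, MonObj.comp_one]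
      refine injective_u hex' ?_
      rw [hdp, MonObj.one_comp, lift_fst, lift_snd, ← Hom.one_def, hf1, _root_.one_mul, _root_.one_mul,
        mul_inv_cancel]
  have hd1 : d = 1 := by rw [← hc, hc1, MonObj.comp_one]
  have hmul : ∀ (T : Over S) (x y : T ⟶ E), (x * y) ≫ f = (x ≫ f) * (y ≫ f) := by
    intro T x y
    have h := hdp T (lift x y)
    rw [hd1, MonObj.comp_one, MonObj.one_comp, lift_fst, lift_snd] at h
    exact mul_inv_eq_one.1 h.symm
  refine ⟨h1, ?_⟩
  have h := hmul _ (fst E E) (snd E E)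
  rw [Hom.mul_def, lift_fst_snd, Category.id_comp, Hom.mul_def] at h
  rw [h]
  congr 1

end Groth.Agent.S12113
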