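import Groth.Statements.S12114
import Groth.Agent.CMChain84.Algebra
import Groth.Agent.FlatMor.CMFlat
import Groth.Agent.FlatOpen.Scheme
import Mathlib.AlgebraicGeometry.ZariskisMainTheorem

set_option autoImplicit false
set_option linter.style.haveILetI false
universe u
open CategoryTheory CategoryTheory.Limits AlgebraicGeometry
open EtDl

namespace Groth.Agent.S12114

open MvPolynomial Groth.Agent.CMChain84

theorem stalkMap_flat_comp_iff {A B C : Scheme.{u}} (a : A ⟶ B) (b : B ⟶ C) (x : A)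
    [IsOpenImmersion a] : ((a ≫ b).stalkMap x).hom.Flat ↔ (b.stalkMap (a x)).hom.Flat := by
  rw [Scheme.Hom.stalkMap_comp]
  exact RingHom.Flat.respectsIso.cancel_right_isIso _ _

theorem stalkMap_comp_flat_iff {A B C : Scheme.{u}} (a : A ⟶ B) (b : B ⟶ C) (x : A)
    [IsOpenImmersion b] : ((a ≫ b).stalkMap x).hom.Flat ↔ (a.stalkMap x).hom.Flat := by
  rw [Scheme.Hom.stalkMap_comp]
  exact RingHom.Flat.respectsIso.cancel_left_isIso _ _

section

variable {k : Type u} [Field k] {A : Type u} [CommRing A] [Algebra k A] {n : ℕ}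
  {ι : Type u} (e : ι ≃ Fin n)

noncomputable def chart : Spec (.of (MvPolynomial (Fin n) k)) ⟶ 𝔸(ι; Spec (.of k)) :=
  Spec.map (CommRingCat.ofHom ((renameEquiv k e).toRingEquiv : MvPolynomial ι k →+* MvPolynomial (Fin n) k)) ≫
    (AffineSpace.SpecIso ι (.of k)).inv

instance : IsIso (chart (k := k) e) := by
  haveI : IsIso (CommRingCat.ofHom ((renameEquiv k e).toRingEquiv : MvPolynomial ι k →+* MvPolynomial (Fin n) k)) :=
    (renameEquiv k e).toRingEquiv.toCommRingCatIso.isIso_hom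
  unfold chart
  infer_instance

/-- The morphism given by `n` functions. -/
noncomputable def mor (a : Fin n → A) : Spec (.of A) ⟶ 𝔸(ι; Spec (.of k)) :=
  Spec.map (CommRingCat.ofHom (aeval a).toRingHom) ≫ chart e

theorem mor_over (a : Fin n → A) :
    mor (k := k) e a ≫ (𝔸(ι; Spec (.of k)) ↘ Spec (.of k)) = Spec.map (CommRingCat.ofHom (algebraMap k A)) := by
  rw [mor, chart, Category.assoc, Category.assoc, AffineSpace.SpecIso_inv_over, ← Spec.map_comp,
    ← Spec.map_comp]
  congr 1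
  ext r
  show aeval a (rename e (C r)) = algebraMap k A r
  rw [rename_C, aeval_C]

theorem mor_coord (a : Fin n → A) (i : ι) :
    (mor (k := k) e a).appTop (AffineSpace.coord (Spec (.of k)) i) = (Scheme.ΓSpecIso (.of A)).inv (a (e i)) := by
  rw [mor, chart, ← Category.assoc, ← Spec.map_comp, Scheme.Hom.comp_appTop, CommRingCat.comp_apply,
    AffineSpace.SpecIso_inv_appTop_coord, ← CommRingCat.comp_apply, ← Scheme.ΓSpecIso_inv_naturality,
    CommRingCat.comp_apply]
  congr 1
  show aeval a (rename e (X i)) = _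
  rw [rename_X, aeval_X]

theorem exists_eq_mor (g : Spec (.of A) ⟶ 𝔸(ι; Spec (.of k)))
    (hg : g ≫ (𝔸(ι; Spec (.of k)) ↘ Spec (.of k)) = Spec.map (CommRingCat.ofHom (algebraMap k A))) :
    ∃ a : Fin n → A, g = mor (k := k) e a := by
  obtain ⟨φ, hφ⟩ := Spec.map_surjective (g ≫ inv (chart e))
  refine ⟨fun l => φ (X l), ?_⟩
  have hC : CommRingCat.ofHom (C : k →+* MvPolynomial (Fin n) k) ≫ φ = CommRingCat.ofHom (algebraMap k A) := by
    apply Spec.map_injective
    rw [Spec.map_comp, hφ, ← hg, Category.assoc]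
    congr 1
    rw [IsIso.inv_comp_eq, chart, Category.assoc, AffineSpace.SpecIso_inv_over, ← Spec.map_comp]
    congr 1
    refine CommRingCat.hom_ext (RingHom.ext fun r => ?_)
    exact (rename_C e r).symm
  have : φ = CommRingCat.ofHom (aeval fun l => φ (X l)).toRingHom := by
    refine CommRingCat.hom_ext (MvPolynomial.ringHom_ext (fun r => ?_) fun l => ?_)
    · exact (congr($(hC) r)).trans (aeval_C _ r).symm
    · exact (aeval_X (fun l => φ (X l)) l).symm
  rw [mor, ← this, hφ, Category.assoc, IsIso.inv_hom_id, Category.comp_id]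

variable [Algebra.FiniteType k A]

instance (a : Fin n → A) : LocallyOfFiniteType (Spec.map (CommRingCat.ofHom (aeval a : MvPolynomial (Fin n) k →ₐ[k] A).toRingHom)) := by
  rw [HasRingHomProperty.Spec_iff (P := @LocallyOfFiniteType)]
  refine RingHom.FiniteType.of_comp_finiteType (f := algebraMap k (MvPolynomial (Fin n) k)) ?_
  rw [CommRingCat.hom_ofHom]
  rw [show ((aeval a : MvPolynomial (Fin n) k →ₐ[k] A).toRingHom.comp (algebraMap k _)) = algebraMap k A from
    RingHom.ext fun r => (aeval a).commutes r]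
  exact RingHom.finiteType_algebraMap.2 inferInstance

instance (a : Fin n → A) : LocallyOfFinitePresentation (Spec.map (CommRingCat.ofHom (aeval a : MvPolynomial (Fin n) k →ₐ[k] A).toRingHom)) := by
  rw [HasRingHomProperty.Spec_iff (P := @LocallyOfFinitePresentation)]
  exact RingHom.FinitePresentation.of_finiteType.mp
    ((HasRingHomProperty.Spec_iff (P := @LocallyOfFiniteType)).mp inferInstance)

theorem flat_stalk_iff (a : Fin n → A) (p : PrimeSpectrum A) :
    ((mor (k := k) e a).stalkMap (show Spec (CommRingCat.of A) from p)).hom.Flat ↔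
      (Localization.localRingHom (p.asIdeal.comap (aeval a : MvPolynomial (Fin n) k →ₐ[k] A).toRingHom) p.asIdeal
        (aeval a).toRingHom rfl).Flat :=
  (stalkMap_comp_flat_iff (Spec.map (CommRingCat.ofHom (aeval a : MvPolynomial (Fin n) k →ₐ[k] A).toRingHom))
      (chart (k := k) e) (show Spec (CommRingCat.of A) from p)).trans
    ((RingHom.Flat.respectsIso.arrow_mk_iso_iff
      (Scheme.arrowStalkMapSpecIso (CommRingCat.ofHom (aeval a : MvPolynomial (Fin n) k →ₐ[k] A).toRingHom) p)).trans Iff.rfl)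

variable [IsAlgClosed k]

theorem exists_shift_le (a : Fin n → A) (M : Ideal A) [M.IsMaximal] :
    ∃ c : Fin n → k, shiftIdeal a c ≤ M := by
  letI := Ideal.Quotient.field M
  haveI : Module.Finite k (A ⧸ M) := finite_of_finite_type_of_isJacobsonRing k (A ⧸ M)
  have hb := IsAlgClosed.algebraMap_bijective_of_isIntegral (k := k) (K := A ⧸ M)
  choose c hc using fun i => hb.surjective (Ideal.Quotient.mk M (a i))
  refine ⟨c, Ideal.span_le.2 ?_⟩
  rintro _ ⟨i, rfl⟩
  rw [SetLike.mem_coe, ← Ideal.Quotient.eq_zero_iff_mem, map_sub, sub_eq_zero]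
  exact (hc i).symm

theorem isParam_of_qf (a : Fin n → A) (p : Spec (CommRingCat.of A)) [p.asIdeal.IsMaximal]
    [LocallyQuasiFinite (mor (k := k) e a)] : IsParam (k := k) p.asIdeal a := by
  obtain ⟨c, hc⟩ := exists_shift_le (k := k) a p.asIdeal
  refine ⟨c, ⟨p.2, hc⟩, ?_⟩
  rintro q ⟨hq, hqJ⟩ hqp
  let f := Spec.map (CommRingCat.ofHom (aeval a : MvPolynomial (Fin n) k →ₐ[k] A).toRingHom)
  haveI : LocallyQuasiFinite (f ≫ chart (k := k) e) := ‹LocallyQuasiFinite (mor (k := k) e a)›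
  haveI : LocallyQuasiFinite f := LocallyQuasiFinite.of_comp f (chart (k := k) e)
  haveI := hq
  have hd := f.isDiscrete_preimage_singleton (f p)
  rw [isDiscrete_iff_discreteTopology] at hd
  let q' : PrimeSpectrum A := ⟨q, hq⟩
  have hfq : f q' = f p := PrimeSpectrum.ext ((comap_eq a c q hqJ).trans (comap_eq a c p.asIdeal hc).symm)
  have hs : (⟨q', hfq⟩ : f ⁻¹' {f p}) ⤳ ⟨p, rfl⟩ :=
    (subtype_specializes_iff _ _).2 ((PrimeSpectrum.le_iff_specializes q' p).1 hqp)
  exact (congrArg (fun z : f ⁻¹' {f p} => (z.1 : PrimeSpectrum A).asIdeal) hs.eq).ge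

theorem qf_of_isParam [IsNoetherianRing A] (a : Fin n → A) (p : Spec (CommRingCat.of A)) [p.asIdeal.IsMaximal]
    (h : IsParam (k := k) p.asIdeal a) : (mor (k := k) e a).QuasiFiniteAt p := by
  obtain ⟨c, hc⟩ := h
  let f := Spec.map (CommRingCat.ofHom (aeval a : MvPolynomial (Fin n) k →ₐ[k] A).toRingHom)
  refine (Scheme.Hom.quasiFiniteAt_comp_iff (f := f) (g := chart (k := k) e)).2 ?_
  rw [Scheme.Hom.quasiFiniteAt_iff_isOpen_singleton_asFiber, ← (f.fiberHomeo (f p)).isOpen_image]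
  simp only [Set.image_singleton, Scheme.Hom.asFiber, Homeomorph.apply_symm_apply]
  obtain ⟨g, hg, hiso⟩ := exists_isolate a c p.asIdeal hc
  refine ⟨(PrimeSpectrum.basicOpen g : Set (PrimeSpectrum A)), (PrimeSpectrum.basicOpen g).isOpen, ?_⟩
  ext ⟨(q : PrimeSpectrum A), hq⟩
  constructor
  · intro hgq
    refine Subtype.ext (PrimeSpectrum.ext (hiso q.asIdeal q.2 ?_ hgq))
    rw [← map_span a c, Ideal.map_le_iff_le_comap]
    exact ((congrArg PrimeSpectrum.asIdeal (show f q = f p from hq)).trans (comap_eq a c p.asIdeal hc.1.2)).ge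
  · intro h'
    obtain rfl : q = p := congrArg Subtype.val (Set.mem_singleton_iff.1 h')
    exact hg

end

theorem result (k : Type u) [Field k] [IsAlgClosed k]
    (X : Scheme.{u}) [X.Over (Spec (CommRingCat.of k))] [LocallyOfFiniteType (X ↘ Spec (CommRingCat.of k))]
    [QuasiCompact (X ↘ Spec (CommRingCat.of k))]
    (hCM : ∀ y : X, LocCoh.IsCohenMacaulayLocalRing (X.presheaf.stalk y)) (ι : Type u) [Finite ι]
    (u v : X ⟶ AffineSpace ι (Spec (CommRingCat.of k)))
    (hu : u ≫ (AffineSpace ι (Spec (CommRingCat.of k)) ↘ Spec (CommRingCat.of k)) = X ↘ Spec (CommRingCat.of k))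
    (hv : v ≫ (AffineSpace ι (Spec (CommRingCat.of k)) ↘ Spec (CommRingCat.of k)) = X ↘ Spec (CommRingCat.of k))
    [LocallyQuasiFinite u] [Flat u] [LocallyQuasiFinite v] [Flat v] (x : X) (hx : IsClosed ({x} : Set X)) :
    ∃ (U : X.Opens), x ∈ U ∧ ∃ (m : ℕ) (w : Fin (m + 1) → ((U : Scheme.{u}) ⟶ AffineSpace ι (Spec (CommRingCat.of k)))),
      w 0 = U.ι ≫ u ∧ w (Fin.last m) = U.ι ≫ v ∧
      (∀ j : Fin (m + 1), LocallyQuasiFinite (w j) ∧ Flat (w j) ∧
        w j ≫ (AffineSpace ι (Spec (CommRingCat.of k)) ↘ Spec (CommRingCat.of k)) = U.ι ≫ (X ↘ Spec (CommRingCat.of k))) ∧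
      (∀ j : Fin m, ∃ i : ι, ∀ i' : ι, i' ≠ i →
        (w j.castSucc).appTop (AffineSpace.coord (Spec (CommRingCat.of k)) i') =
          (w j.succ).appTop (AffineSpace.coord (Spec (CommRingCat.of k)) i')) := by
  let n := Nat.card ι
  let e : ι ≃ Fin n := Finite.equivFin ι
  obtain ⟨_, ⟨U₀, hU₀, rfl⟩, hxU, -⟩ := X.isBasis_affineOpens.exists_subset_of_mem_open
    (Set.mem_univ x) isOpen_univ
  replace hU₀ : IsAffineOpen U₀ := hU₀
  let A := Γ(X, U₀)
  obtain ⟨ρ, hρ⟩ := Spec.map_surjective (hU₀.fromSpec ≫ X ↘ Spec (CommRingCat.of k))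
  letI : Algebra k A := ρ.hom.toAlgebra
  have hρ' : Spec.map (CommRingCat.ofHom (algebraMap k A)) = hU₀.fromSpec ≫ X ↘ Spec (CommRingCat.of k) := hρ
  haveI : LocallyOfFiniteType (Spec.map ρ) := by rw [hρ]; infer_instance
  haveI : Algebra.FiniteType k A := RingHom.finiteType_algebraMap.1
    ((HasRingHomProperty.Spec_iff (P := @LocallyOfFiniteType)).mp ‹LocallyOfFiniteType (Spec.map ρ)›)
  haveI : IsNoetherianRing A := Algebra.FiniteType.isNoetherianRing k A
  let p : Spec Γ(X, U₀) := hU₀.primeIdealOf ⟨x, hxU⟩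
  have hpx : hU₀.fromSpec p = x := hU₀.fromSpec_primeIdealOf _
  haveI : p.asIdeal.IsMaximal := by
    rw [← PrimeSpectrum.isClosed_singleton_iff_isMaximal]
    have h : (hU₀.fromSpec ⁻¹' ({x} : Set X) : Set (PrimeSpectrum A)) = {p} := Set.ext fun q =>
      ⟨fun h => hU₀.fromSpec.isOpenEmbedding.injective (Eq.trans h hpx.symm),
        fun h => (congrArg hU₀.fromSpec h).trans hpx⟩
    exact h ▸ hx.preimage hU₀.fromSpec.continuous
  haveI : LocCoh.IsCohenMacaulayLocalRing (Localization.AtPrime p.asIdeal) := by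
    letI : Algebra A (X.presheaf.stalk x) := (X.presheaf.germ U₀ x hxU).hom.toAlgebra
    haveI : IsLocalization.AtPrime (X.presheaf.stalk x) p.asIdeal := hU₀.isLocalization_stalk ⟨x, hxU⟩
    exact FlatMor.CMFlat.isCM_of_ringEquiv
      (IsLocalization.algEquiv p.asIdeal.primeCompl (X.presheaf.stalk x) (Localization.AtPrime p.asIdeal)).toRingEquiv
      (hCM x)
  obtain ⟨a, ha⟩ := exists_eq_mor (k := k) e (hU₀.fromSpec ≫ u) (by rw [Category.assoc, hu]; exact hρ'.symm)
  obtain ⟨b, hb⟩ := exists_eq_mor (k := k) e (hU₀.fromSpec ≫ v) (by rw [Category.assoc, hv]; exact hρ'.symm)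
  haveI : LocallyQuasiFinite (mor (k := k) e a) := by rw [← ha]; infer_instance
  haveI : LocallyQuasiFinite (mor (k := k) e b) := by rw [← hb]; infer_instance
  haveI : Flat (mor (k := k) e a) := by rw [← ha]; infer_instance
  have hpa := isParam_of_qf (k := k) e a p
  have hpb := isParam_of_qf (k := k) e b p
  have hM : p.asIdeal.height = n := by
    obtain ⟨c, hc⟩ := hpa
    exact height_eq_of_flat a c p.asIdeal hc ((flat_stalk_iff (k := k) e a p).mp (Flat.stalkMap (mor (k := k) e a) p))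
  obtain ⟨z, hz⟩ := exists_chain p.asIdeal hM a b hpa hpb
  let zf : Fin (2 * n + 1) → Fin n → A := fun j =>
    if (j : ℕ) ≤ n then mix a z j else mix b z (2 * n - j)
  have hzf : ∀ j, IsParam (k := k) p.asIdeal (zf j) := fun j => by
    simp only [zf]
    split
    · exact (hz _ ‹_›).1
    · exact (hz _ (by omega)).2
  haveI : ∀ z : Fin n → A, LocallyOfFiniteType (mor (k := k) e z) := fun z => by unfold mor; infer_instance
  haveI : ∀ z : Fin n → A, LocallyOfFinitePresentation (mor (k := k) e z) := fun z => by unfold mor; infer_instance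
  let O : (Spec (.of A)).Opens := ⟨⋂ j, ({q | ((mor (k := k) e (zf j)).stalkMap q).hom.Flat} ∩
      {q | (mor (k := k) e (zf j)).QuasiFiniteAt q}),
    isOpen_iInter_of_finite fun j => (FlatOpen.Scheme.isOpen_stalkMap_flat _).inter
      (mor (k := k) e (zf j)).isOpen_quasiFiniteAt⟩
  have hpO : p ∈ O := Set.mem_iInter.2 fun j => by
    obtain ⟨c, hc⟩ := hzf j
    exact ⟨(flat_stalk_iff (k := k) e _ p).mpr (flat_of_isParam (zf j) c p.asIdeal hc hM),
      qf_of_isParam (k := k) e (zf j) p (hzf j)⟩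
  refine ⟨hU₀.fromSpec ''ᵁ O, ⟨p, hpO, hpx⟩, 2 * n,
    fun j => (hU₀.fromSpec.isoImage O).inv ≫ O.ι ≫ mor (k := k) e (zf j), ?_, ?_, fun j => ⟨?_, ?_, ?_⟩, ?_⟩
  · have h0 : zf 0 = a := by funext l; simp [zf, mix]
    show _ ≫ O.ι ≫ mor (k := k) e (zf 0) = _
    rw [h0, ← ha, Scheme.Hom.isoImage_inv_ι_assoc]
  · have hl : zf (Fin.last _) = b := by
      funext l
      have := l.isLt
      simp [zf, mix, show ¬ (2 * n ≤ n) by omega]
    show _ ≫ O.ι ≫ mor (k := k) e (zf (Fin.last _)) = _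
    rw [hl, ← hb, Scheme.Hom.isoImage_inv_ι_assoc]
  · have : LocallyQuasiFinite (O.ι ≫ mor (k := k) e (zf j)) := by
      rw [← Scheme.Hom.quasiFiniteLocus_eq_top_iff, Scheme.Hom.quasiFiniteLocus_comp, eq_top_iff]
      exact fun q _ => ((Set.mem_iInter.1 q.2) j).2
    infer_instance
  · have : Flat (O.ι ≫ mor (k := k) e (zf j)) := (Flat.iff_flat_stalkMap _).2 fun q =>
      (stalkMap_flat_comp_iff _ _ q).2 ((Set.mem_iInter.1 q.2) j).1
    infer_instance
  · rw [Category.assoc, Category.assoc, mor_over, hρ', Scheme.Hom.isoImage_inv_ι_assoc]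
  · intro j
    have hj := j.isLt
    let l : Fin n := if h : (j : ℕ) < n then ⟨j, h⟩ else ⟨2 * n - j - 1, by omega⟩
    refine ⟨e.symm l, fun i' hi' => ?_⟩
    have hne : (e i' : ℕ) ≠ l := fun h => hi' (e.injective (by rw [e.apply_symm_apply]; exact Fin.ext h))
    simp only [Scheme.Hom.comp_appTop, CommRingCat.comp_apply, mor_coord]
    suffices zf j.castSucc (e i') = zf j.succ (e i') by rw [this]
    have hlt := (e i').isLt
    rcases Nat.lt_or_ge (j : ℕ) n with hjn | hjn
    · have : (e i' : ℕ) ≠ j := by simpa [l, hjn] using hne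
      simp only [zf, Fin.val_castSucc, Fin.val_succ]
      rw [if_pos (by omega : (j : ℕ) ≤ n), if_pos (by omega : (j : ℕ) + 1 ≤ n)]
      simp only [mix]
      by_cases h : (e i' : ℕ) < j
      · rw [if_pos h, if_pos (by omega)]
      · rw [if_neg h, if_neg (by omega)]
    · have : (e i' : ℕ) ≠ 2 * n - j - 1 := by simpa [l, not_lt.2 hjn] using hne
      simp only [zf, Fin.val_castSucc, Fin.val_succ]
      rw [if_neg (by omega : ¬ (j : ℕ) + 1 ≤ n)]
      rcases eq_or_lt_of_le hjn with h | h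
      · rw [if_pos h.ge]; simp only [mix]
        rw [if_pos (by omega), if_pos (by omega)]
      · rw [if_neg (by omega : ¬ (j : ℕ) ≤ n)]; simp only [mix]
        by_cases h' : (e i' : ℕ) < 2 * n - (j + 1)
        · rw [if_pos h', if_pos (by omega)]
        · rw [if_neg h', if_neg (by omega)]

end Groth.Agent.S12114
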