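import Groth.Statements.S12118
import Mathlib

set_option autoImplicit false
universe u v
open EGA41

namespace Groth.Agent.S12118

/-- Let A be a commutative ring, M an A-module, (M_k)_{k ≥ 0} a decreasing filtration of M by submodules
with M_0 = M and ⋂_k M_k = 0, and f an element of A which is a non-zero-divisor on every graded
piece M_k/M_{k+1} (equivalently on the associated graded module). Then (i) f is a non-zero-divisor
on M, and (ii) M_k ∩ fM = fM_k for every k ≥ 0. -/
theorem result {A : Type u} [CommRing A] {M : Type v} [AddCommGroup M] [Module A M]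
    (F : ℕ → Submodule A M) (hanti : Antitone F) (h0 : F 0 = ⊤) (hsep : ⨅ k, F k = ⊥) (f : A)
    (hreg : ∀ k : ℕ, IsSMulRegular (↥(F k) ⧸ Submodule.comap (F k).subtype (F (k + 1))) f) :
    IsSMulRegular M f ∧ ∀ k : ℕ, F k ⊓ (Ideal.span {f} • (⊤ : Submodule A M)) = Ideal.span {f} • F k := by
  have hf : ∀ k x, x ∈ F k → f • x ∈ F (k + 1) → x ∈ F (k + 1) := by
    intro k x hx hfx
    have h1 : f • (Submodule.Quotient.mk ⟨x, hx⟩ :
        ↥(F k) ⧸ Submodule.comap (F k).subtype (F (k + 1))) = f • 0 := by
      rw [smul_zero, ← Submodule.Quotient.mk_smul, Submodule.Quotient.mk_eq_zero]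
      exact hfx
    have h2 := hreg k h1
    rw [Submodule.Quotient.mk_eq_zero] at h2
    exact h2
  have hk : ∀ k x, f • x ∈ F k → x ∈ F k := by
    intro k
    induction k with
    | zero => intro x _; rw [h0]; trivial
    | succ k ih => intro x hx; exact hf k x (ih x (hanti (Nat.le_succ k) hx)) hx
  refine ⟨?_, fun k => ?_⟩
  · rw [isSMulRegular_iff_right_eq_zero_of_smul]
    intro x hx
    have : x ∈ ⨅ k, F k := Submodule.mem_iInf _ |>.2 fun k => hk k x (by rw [hx]; exact zero_mem _)
    rwa [hsep, Submodule.mem_bot] at this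
  · ext y
    rw [Submodule.ideal_span_singleton_smul, Submodule.ideal_span_singleton_smul, Submodule.mem_inf,
      Submodule.mem_smul_pointwise_iff_exists, Submodule.mem_smul_pointwise_iff_exists]
    constructor
    · rintro ⟨hy, x, -, rfl⟩
      exact ⟨x, hk k x hy, rfl⟩
    · rintro ⟨x, hx, rfl⟩
      exact ⟨Submodule.smul_mem _ _ hx, x, trivial, rfl⟩

end Groth.Agent.S12118
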