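import Groth.Statements.S12123
import Mathlib
import Groth.Agent.EGA41Lib.ConsTop

set_option autoImplicit false
universe u
open EGA41

namespace Groth.Agent.S12123

open AlgebraicGeometry Topology in
/-- Let X be a quasi-separated scheme and X^cons its underlying set with the constructible topology,
generated by the quasi-compact open subsets and their complements (for X quasi-separated this is the
topology whose open sets are the ind-constructible subsets). Then X^cons is a Hausdorff, locally
compact, totally disconnected space. (The published statement also asserts that X^cons is Hausdorff
only if X is quasi-separated; for the topology used here that converse fails when X is not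
quasi-separated, where the two constructible topologies differ, so it is not part of this row.) -/
theorem result (X : Scheme.{u}) [QuasiSeparatedSpace X] :
    T2Space (WithConstructibleTopology X) ∧ LocallyCompactSpace (WithConstructibleTopology X) ∧
      TotallyDisconnectedSpace (WithConstructibleTopology X) := by
  let e : (WithConstructibleTopology X) → X := WithTopology.ofTopology
  have hts : TotallySeparatedSpace (WithConstructibleTopology X) := by
    refine totallySeparatedSpace_iff_exists_isClopen.mpr fun x y h => ?_
    obtain ⟨U, hU, hx, hy⟩ := (@totallySeparatedSpace_iff_exists_isClopen X (constructibleTopology X)).1
      EGA41Lib.ConsTop.totallySeparatedSpace_cons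
      (fun he : WithTopology.ofTopology x = WithTopology.ofTopology y => h (WithTopology.ofTopology_injective _ he))
    exact ⟨WithTopology.ofTopology ⁻¹' U, @IsClopen.preimage _ _ _ (constructibleTopology X) U hU _
      (WithTopology.continuous_ofTopology (t := constructibleTopology X)), hx, hy⟩
  have hw : WeaklyLocallyCompactSpace (WithConstructibleTopology X) := ⟨fun x => by
    obtain ⟨s, hs, hsx⟩ := @WeaklyLocallyCompactSpace.exists_compact_mem_nhds X (constructibleTopology X)
      EGA41Lib.ConsTop.weaklyLocallyCompactSpace_cons (WithTopology.ofTopology x)
    refine ⟨WithTopology.toTopology _ '' s, @IsCompact.image _ _ (constructibleTopology X) _ _ _ hs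
      (WithTopology.continuous_toTopology _), ?_⟩
    rw [WithTopology.image_toTopology]
    exact @Continuous.continuousAt _ _ _ (constructibleTopology X) _ x
      (WithTopology.continuous_ofTopology (t := constructibleTopology X)) s hsx⟩
  haveI := hts
  haveI := hw
  exact ⟨inferInstance, inferInstance, inferInstance⟩

end Groth.Agent.S12123
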