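import Groth.Statements.S12124
import Groth.Agent.MoriNagata.Main
import Groth.Agent.Nagata.CompleteLocal
import Groth.Agent.Props.N2Local
import Groth.Agent.RegLoc.Completion
-- import your own Groth.Agent.* helpers here

set_option autoImplicit false
universe u
open CAlg

namespace Groth.Agent.S12124

/-- Let A be a Noetherian local domain with fraction field K and A' its integral closure in K. Then A'
is a Krull domain whose essential valuation rings come from a finite sub-A-algebra: there is a
sub-A-algebra C of K, finite over A, such that, writing V_p for the integral closure in K of the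
local ring C_p at a height-one prime p of C (the elements x of K with s x integral over C for some s
in C outside p), (a) each V_p is a discrete valuation ring with fraction field K, (b) A' is the
intersection of the V_p over all height-one primes p of C, and (c) every element of K lies in V_p
for all but finitely many p. (The published statement calls C local and also records that A' is
semi-local; this row does not assert that C is local, and the semi-locality of A' is a separate
result.) -/
theorem result {A : Type u} [CommRing A] [IsDomain A] [IsNoetherianRing A] [IsLocalRing A] :
    ∃ C : Subalgebra A (FractionRing A), Module.Finite A C ∧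
      (∀ (p : Ideal C) [p.IsPrime], p.height = 1 →
        ∃ V : ValuationSubring (FractionRing A), IsDiscreteValuationRing V ∧
          ∀ x : FractionRing A, x ∈ V ↔ ∃ s : C, s ∉ p ∧ IsIntegral C ((s : FractionRing A) * x)) ∧
      (∀ x : FractionRing A, x ∈ integralClosure A (FractionRing A) ↔
        ∀ (p : Ideal C) [p.IsPrime], p.height = 1 → ∃ s : C, s ∉ p ∧ IsIntegral C ((s : FractionRing A) * x)) ∧
      (∀ x : FractionRing A, {p : Ideal C | p.IsPrime ∧ p.height = 1 ∧
        ¬ ∃ s : C, s ∉ p ∧ IsIntegral C ((s : FractionRing A) * x)}.Finite) := by
  haveI := Groth.Agent.RegLoc.Completion.isNoetherianRing_adicCompletion' (IsLocalRing.maximalIdeal A)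
  haveI : Module.FaithfullyFlat A (AdicCompletion (IsLocalRing.maximalIdeal A) A) :=
    Module.FaithfullyFlat.of_flat_of_isLocalHom
  haveI : ∀ p : minimalPrimes (AdicCompletion (IsLocalRing.maximalIdeal A) A),
      Module.Finite (AdicCompletion (IsLocalRing.maximalIdeal A) A ⧸ p.1)
        (Groth.Agent.MoriNagata.CompInt p) := fun p =>
    Groth.Agent.Props.N2Local.finite_integralClosure
      ((Groth.Agent.Nagata.CompleteLocal.isNagata (AdicCompletion (IsLocalRing.maximalIdeal A) A)).2 p.1)
      (Groth.Agent.MoriNagata.Comp p) (Groth.Agent.MoriNagata.Comp p)
  exact Groth.Agent.MoriNagata.exists_finite_subalgebra_of_faithfullyFlat A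
    (AdicCompletion (IsLocalRing.maximalIdeal A) A) (FractionRing A)

end Groth.Agent.S12124
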