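import Groth.Statements.S12126
import Groth.Agent.CycLib.DimFormula
import Mathlib.RingTheory.FiniteType
import Mathlib.Algebra.Polynomial.AlgebraMap
-- import your own Groth.Agent.* helpers here

set_option autoImplicit false
universe u
open CAlg

namespace Groth.Agent.S12126


open Groth.Agent.PtTop.Catenary Groth.Agent.CycLib Polynomial
set_option linter.style.haveILetI false

/-- One step: `D = A'[a]` over a Noetherian domain `A'`. -/
theorem step (A' D : Type u) [CommRing A'] [IsDomain A'] [IsNoetherianRing A'] [CommRing D] [IsDomain D]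
    [Algebra A' D] [FaithfulSMul A' D] (f : Polynomial A' →ₐ[A'] D) (hf : Function.Surjective f)
    (q : Ideal D) [q.IsPrime]
    (hcat : ∀ s t : LTSeries (PrimeSpectrum (Polynomial A')), s.head = t.head → s.last = t.last →
      s.last.asIdeal ≤ q.comap f.toRingHom → Saturated s → Saturated t → s.length = t.length) :
    (q.height : Cardinal.{u}) + Algebra.trdeg (A' ⧸ q.under A') (D ⧸ q) =
      ((q.under A').height : Cardinal.{u}) + Algebra.trdeg A' D := by
  haveI : Algebra.FiniteType A' D := Algebra.FiniteType.of_surjective f hf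
  haveI : IsNoetherianRing D := Algebra.FiniteType.isNoetherianRing A' D
  let q' := q.under A'
  let P : Ideal (Polynomial A') := RingHom.ker f
  haveI : P.IsPrime := RingHom.ker_isPrime f
  let Q : Ideal (Polynomial A') := q.comap f
  haveI : Q.IsPrime := Ideal.comap_isPrime _ _
  haveI : Q.LiesOver q' := Ideal.comap_liesOver q q' f
  haveI : P.LiesOver (⊥ : Ideal A') := ⟨by
    ext a
    rw [Ideal.under_def, Ideal.mem_comap, Ideal.mem_bot, RingHom.mem_ker, f.commutes,
      map_eq_zero_iff _ (FaithfulSMul.algebraMap_injective A' D)]⟩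
  haveI : (⊥ : Ideal A').IsPrime := Ideal.isPrime_bot
  haveI : IsDomain (A' ⧸ (⊥ : Ideal A')) := Ideal.Quotient.isDomain _
  have e1 := Groth.Agent.S4730.result A' q' Q
  have e2 := Groth.Agent.S4730.result A' (⊥ : Ideal A') P
  have c1 : Algebra.trdeg (A' ⧸ q') (Polynomial A' ⧸ Q) = Algebra.trdeg (A' ⧸ q') (D ⧸ q) := by
    refine trdeg_congr (RingEquiv.refl _)
      (RingEquiv.ofBijective (Ideal.quotientMap q f.toRingHom le_rfl) ⟨Ideal.quotientMap_injective, ?_⟩)
      (fun x => ?_)
    · exact Ideal.quotientMap_surjective hf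
    · obtain ⟨a, rfl⟩ := Ideal.Quotient.mk_surjective x
      exact congr_arg (Ideal.Quotient.mk q) (f.commutes a)
  have c2 : Algebra.trdeg (A' ⧸ (⊥ : Ideal A')) (Polynomial A' ⧸ P) = Algebra.trdeg A' D := by
    refine trdeg_congr (RingEquiv.quotientBot A') (RingHom.quotientKerEquivOfSurjective hf) (fun x => ?_)
    obtain ⟨a, rfl⟩ := Ideal.Quotient.mk_surjective x
    exact f.commutes a
  obtain ⟨hle, heq⟩ := height_comap_surjective f.toRingHom hf q
  have hE : Q.height = P.height + q.height := heq hcat
  obtain ⟨hp, hhp⟩ := exists_nat_height q'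
  obtain ⟨hq, hhq⟩ := exists_nat_height q
  obtain ⟨hP, hhP⟩ := exists_nat_height P
  obtain ⟨hQ, hhQ⟩ := exists_nat_height Q
  rw [c1, hhp, hhQ] at e1
  rw [c2, Ideal.height_bot, hhP] at e2
  simp only [Cardinal.ofENat_nat, Cardinal.ofENat_zero, zero_add] at e1 e2
  rw [← Nat.cast_one (R := Cardinal.{u}), ← Nat.cast_add] at e1
  obtain ⟨i, t, hi, ht, hsum⟩ := trdeg_lt_aleph0_of_add e1.symm
  obtain ⟨j, T, hj, hT, hsum'⟩ := trdeg_lt_aleph0_of_add (n := 1) (by rw [Nat.cast_one]; exact e2.symm)
  obtain rfl : i = hQ := (Nat.cast_inj.1 hi).symm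
  obtain rfl : j = hP := (Nat.cast_inj.1 hj).symm
  rw [hhP, hhq, hhQ, ← Nat.cast_add, Nat.cast_inj] at hE
  rw [hhq, hhp, ht, hT, Cardinal.ofENat_nat, Cardinal.ofENat_nat, ← Nat.cast_add, ← Nat.cast_add, Nat.cast_inj]
  omega

/-- Chains below a prime over the closed point in `A'[X]` are catenary, for `A'` a subalgebra of `S`. -/
theorem chains (R S : Type u) [CommRing R] [IsLocalRing R] [CommRing S] [Algebra R S]
    (hcat : ∀ A' : Subalgebra R (Polynomial S), A'.FG →
      ∀ (m' : Ideal A') [m'.IsMaximal], m'.LiesOver (IsLocalRing.maximalIdeal R) →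
        CAlg.IsCatenary (Localization.AtPrime m'))
    (A' : Subalgebra R S) (hA' : A'.FG) (Q : Ideal (Polynomial A')) [Q.IsPrime]
    (hQ : IsLocalRing.maximalIdeal R ≤ Q.comap (algebraMap R (Polynomial A')))
    (s t : LTSeries (PrimeSpectrum (Polynomial A'))) (hh : s.head = t.head) (hl : s.last = t.last)
    (hle : s.last.asIdeal ≤ Q) (hs : Saturated s) (ht : Saturated t) : s.length = t.length := by
  let ψ : Polynomial A' →ₐ[R] Polynomial S := Polynomial.mapAlgHom A'.val
  have hψ : Function.Injective ψ := Polynomial.map_injective _ Subtype.val_injective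
  let E := ψ.range
  have hE : E.FG := by
    haveI : Algebra.FiniteType R A' := A'.fg_iff_finiteType.mp hA'
    haveI : Algebra.FiniteType R (Polynomial A') := Algebra.FiniteType.trans (S := A') inferInstance inferInstance
    exact ψ.range.fg_iff_finiteType.mpr (Algebra.FiniteType.of_surjective ψ.rangeRestrict ψ.rangeRestrict_surjective)
  let e : Polynomial A' ≃ₐ[R] E := AlgEquiv.ofInjective ψ hψ
  let Qe : Ideal E := Q.comap e.symm.toRingEquiv.toRingHom
  haveI : Qe.IsPrime := Ideal.comap_isPrime _ _
  obtain ⟨m', hm', hQm⟩ := Ideal.exists_le_maximal Qe (Ideal.IsPrime.ne_top inferInstance)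
  haveI := hm'
  have hover : m'.LiesOver (IsLocalRing.maximalIdeal R) := by
    refine ⟨(IsLocalRing.maximalIdeal.isMaximal R).eq_of_le (Ideal.IsPrime.ne_top inferInstance) fun r hr => ?_⟩
    refine hQm ?_
    show e.symm (algebraMap R E r) ∈ Q
    rw [e.symm.commutes]
    exact hQ hr
  let Lm := Localization.AtPrime m'
  letI : Algebra (Polynomial A') Lm := ((algebraMap E Lm).comp e.symm.toRingEquiv.symm.toRingHom).toAlgebra
  let M := m'.primeCompl.map e.symm.toRingEquiv
  haveI : IsLocalization M Lm := IsLocalization.isLocalization_of_base_ringEquiv m'.primeCompl Lm e.symm.toRingEquiv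
  have hrange : ∀ x : PrimeSpectrum (Polynomial A'), x.asIdeal ≤ Q → x ∈ Set.range (locEmb M Lm) := by
    intro x hx
    rw [range_locEmb]
    refine Set.disjoint_left.mpr ?_
    rintro _ ⟨a, ha, rfl⟩ hax
    exact ha (hQm (hx hax))
  have ho := ordConnected_range_locEmb M Lm
  obtain ⟨s', rfl⟩ := exists_lift _ ho s (hrange _ (le_trans (show s.head.asIdeal ≤ s.last.asIdeal from LTSeries.head_le_last s) hle)) (hrange _ hle)
  obtain ⟨t', rfl⟩ := exists_lift _ ho t (hh ▸ hrange (s'.map _ (locEmb M Lm).strictMono).head (le_trans (show _ from LTSeries.head_le_last (s'.map _ (locEmb M Lm).strictMono)) hle))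
    (hl ▸ hrange _ hle)
  exact (hcat E hE m' hover).2 s' t'
    ((locEmb M Lm).injective (by simpa using hh))
    ((locEmb M Lm).injective (by simpa using hl))
    ((saturated_map_iff _ ho s').1 hs) ((saturated_map_iff _ ho t').1 ht)

/-- Let A be a Noetherian local domain with maximal ideal m and residue field k, B a domain containing A
which is an A-algebra of finite type, q a prime ideal of B over m and k' the residue field of B_q.
If for every sub-A-algebra A' of finite type of the polynomial ring B[T] and every maximal ideal m'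
of A' lying over m the local ring A'_{m'} is catenary, then ht(q) + trdeg_k k' = dim(A) + trdeg_A B,
stated with heights and transcendence degrees as cardinals (the transcendence degree of B over A is
that of the fraction fields, and that of k' over k is that of B/q over A/m). -/
theorem result (R : Type u) [CommRing R] [IsDomain R]
    [IsNoetherianRing R] [IsLocalRing R] (S : Type u) [CommRing S] [IsDomain S] [Algebra R S]
    [FaithfulSMul R S] [Algebra.FiniteType R S] (q : Ideal S) [q.IsPrime]
    [q.LiesOver (IsLocalRing.maximalIdeal R)]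
    (hcat : ∀ A' : Subalgebra R (Polynomial S), A'.FG →
      ∀ (m' : Ideal A') [m'.IsMaximal], m'.LiesOver (IsLocalRing.maximalIdeal R) →
        CAlg.IsCatenary (Localization.AtPrime m')) :
    (q.height : Cardinal.{u}) + Algebra.trdeg (R ⧸ IsLocalRing.maximalIdeal R) (S ⧸ q) =
      ((IsLocalRing.maximalIdeal R).height : Cardinal.{u}) + Algebra.trdeg R S := by
  classical
  set m := IsLocalRing.maximalIdeal R
  haveI : IsDomain (R ⧸ m) := Ideal.Quotient.isDomain m
  obtain ⟨hd, hhd⟩ := exists_nat_height m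
  have key : ∀ s : Finset S,
      (((q.under (Algebra.adjoin R (s : Set S))).height : Cardinal.{u})) +
        Algebra.trdeg (R ⧸ m) (↥(Algebra.adjoin R (s : Set S)) ⧸ q.under (Algebra.adjoin R (s : Set S))) =
      (m.height : Cardinal.{u}) + Algebra.trdeg R ↥(Algebra.adjoin R (s : Set S)) := by
    intro s
    induction s using Finset.induction with
    | empty =>
      set A' := Algebra.adjoin R ((∅ : Finset S) : Set S) with hA'
      let q' := q.under A'
      have hsurj : Function.Surjective (algebraMap R A') := fun x => by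
        have hx : (x : S) ∈ (⊥ : Subalgebra R S) := by
          have := x.2
          simpa [hA'] using this
        obtain ⟨r, hr⟩ := Algebra.mem_bot.mp hx
        exact ⟨r, Subtype.ext hr⟩
      let er : R ≃+* A' := RingEquiv.ofBijective (algebraMap R A')
        ⟨fun a b h => FaithfulSMul.algebraMap_injective R S (congrArg Subtype.val h), hsurj⟩
      have h1 : q'.comap er = m := (Ideal.over_def q m).symm
      have h2 : Algebra.IsAlgebraic R A' := ⟨fun x => by obtain ⟨r, rfl⟩ := hsurj x; exact isAlgebraic_algebraMap r⟩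
      haveI := h2
      haveI : Algebra.IsAlgebraic (R ⧸ m) (A' ⧸ q') := ⟨fun x => by
        obtain ⟨y, rfl⟩ := Ideal.Quotient.mk_surjective x
        obtain ⟨r, rfl⟩ := hsurj y
        exact isAlgebraic_algebraMap (Ideal.Quotient.mk m r)⟩
      haveI : FaithfulSMul R A' := (faithfulSMul_iff_algebraMap_injective _ _).2 er.injective
      haveI : q'.LiesOver m := ⟨Ideal.over_def q m⟩
      haveI : FaithfulSMul (R ⧸ m) (A' ⧸ q') := (faithfulSMul_iff_algebraMap_injective _ _).2 (by
        letI := Ideal.Quotient.field m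
        exact (algebraMap (R ⧸ m) (A' ⧸ q')).injective)
      rw [trdeg_eq_zero (R := R) (A := A'), trdeg_eq_zero (R := R ⧸ m) (A := A' ⧸ q'), ← h1, RingEquiv.height_comap]
    | insert a s ha ih =>
      set A₁ := Algebra.adjoin R (s : Set S) with hA₁
      set A₂ := Algebra.adjoin R ((insert a s : Finset S) : Set S) with hA₂
      have hle : A₁ ≤ A₂ := Algebra.adjoin_mono (by simp)
      letI : Algebra A₁ A₂ := (Subalgebra.inclusion hle).toRingHom.toAlgebra
      haveI : IsScalarTower R A₁ A₂ := IsScalarTower.of_algebraMap_eq fun r => ((Subalgebra.inclusion hle).commutes r).symm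
      haveI : FaithfulSMul A₁ A₂ := (faithfulSMul_iff_algebraMap_injective _ _).2 (Subalgebra.inclusion_injective hle)
      haveI : IsNoetherianRing A₁ := by
        haveI : Algebra.FiniteType R A₁ := A₁.fg_iff_finiteType.mp ⟨s, rfl⟩
        exact Algebra.FiniteType.isNoetherianRing R A₁
      let a' : A₂ := ⟨a, Algebra.subset_adjoin (by simp)⟩
      let f : Polynomial A₁ →ₐ[A₁] A₂ := Polynomial.aeval a'
      have hf : Function.Surjective f := by
        intro x
        have hx : (x : S) ∈ ((A₂.val).comp (f.restrictScalars R)).range := by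
          refine (Algebra.adjoin_le ?_ : A₂ ≤ _) x.2
          intro y hy
          rcases Finset.mem_insert.mp hy with rfl | hy
          · exact ⟨Polynomial.X, by simp [f, a']⟩
          · exact ⟨Polynomial.C ⟨y, Algebra.subset_adjoin hy⟩, by
              show ((f (Polynomial.C _) : A₂) : S) = y
              rw [Polynomial.aeval_C]; rfl⟩
        obtain ⟨g, hg⟩ := hx
        exact ⟨g, Subtype.ext hg⟩
      let q₂ := q.under A₂
      let q₁ := q₂.under A₁
      have hstep := step A₁ A₂ f hf q₂ (fun u v h1 h2 h3 h4 h5 => chains R S hcat A₁ ⟨s, rfl⟩ (q₂.comap f.toRingHom)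
        (fun r hr => by
          show f (algebraMap R (Polynomial A₁) r) ∈ q₂
          rw [show f (algebraMap R (Polynomial A₁) r) = algebraMap R A₂ r from (f.restrictScalars R).commutes r]
          show (algebraMap R S r) ∈ q
          exact (Ideal.mem_of_liesOver q m r).mp hr) u v h1 h2 h3 h4 h5)
      have ih' : (q₁.height : Cardinal.{u}) + Algebra.trdeg (R ⧸ m) (A₁ ⧸ q₁) =
          (m.height : Cardinal.{u}) + Algebra.trdeg R A₁ := ih
      haveI : FaithfulSMul R A₁ := (faithfulSMul_iff_algebraMap_injective _ _).2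
        fun a b h => FaithfulSMul.algebraMap_injective R S (congrArg Subtype.val h)
      haveI : q₁.LiesOver m := ⟨Ideal.over_def q m⟩
      haveI : q₂.LiesOver m := ⟨Ideal.over_def q m⟩
      haveI : q₂.LiesOver q₁ := ⟨rfl⟩
      haveI : IsScalarTower (R ⧸ m) (A₁ ⧸ q₁) (A₂ ⧸ q₂) := IsScalarTower.of_algebraMap_eq fun x => by
        obtain ⟨r, rfl⟩ := Ideal.Quotient.mk_surjective x
        rfl
      have h3 := trdeg_add_eq (R ⧸ m) (A₁ ⧸ q₁) (A := A₂ ⧸ q₂)
      have h4 := trdeg_add_eq R A₁ (A := A₂)
      rw [← h3, ← h4]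
      calc (q₂.height : Cardinal.{u}) + (Algebra.trdeg (R ⧸ m) (A₁ ⧸ q₁) + Algebra.trdeg (A₁ ⧸ q₁) (A₂ ⧸ q₂))
          = ((q₂.height : Cardinal.{u}) + Algebra.trdeg (A₁ ⧸ q₁) (A₂ ⧸ q₂)) + Algebra.trdeg (R ⧸ m) (A₁ ⧸ q₁) := by
            rw [add_assoc, add_comm (Algebra.trdeg (R ⧸ m) _)]
        _ = ((q₁.height : Cardinal.{u}) + Algebra.trdeg A₁ A₂) + Algebra.trdeg (R ⧸ m) (A₁ ⧸ q₁) := by rw [hstep]
        _ = ((q₁.height : Cardinal.{u}) + Algebra.trdeg (R ⧸ m) (A₁ ⧸ q₁)) + Algebra.trdeg A₁ A₂ := add_right_comm _ _ _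
        _ = _ := by rw [ih', add_assoc]
  obtain ⟨s, hs⟩ := ‹Algebra.FiniteType R S›.out
  have h := key s
  set A' := Algebra.adjoin R (s : Set S)
  let e : A' ≃ₐ[R] S := (Subalgebra.equivOfEq _ _ hs).trans Subalgebra.topEquiv
  have hq : q.under A' = q.comap e.toRingEquiv := rfl
  haveI : (q.under A').LiesOver m := ⟨Ideal.over_def q m⟩
  have c1 : Algebra.trdeg (R ⧸ m) (A' ⧸ q.under A') = Algebra.trdeg (R ⧸ m) (S ⧸ q) := by
    refine trdeg_congr (RingEquiv.refl _)
      (Ideal.quotientEquiv _ q e.toRingEquiv (Ideal.map_comap_of_surjective _ e.surjective q).symm) fun x => ?_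
    obtain ⟨r, rfl⟩ := Ideal.Quotient.mk_surjective x
    exact congr_arg (Ideal.Quotient.mk q) (e.commutes r)
  rwa [c1, e.trdeg_eq, hq, RingEquiv.height_comap] at h

end Groth.Agent.S12126
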