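import Groth.Statements.S12129
import Mathlib.AlgebraicGeometry.Properties

set_option autoImplicit false
universe u
open EGA2

namespace Groth.Agent.S12129

open AlgebraicGeometry CategoryTheory in
set_option linter.unusedVariables false in
/-- Let X be a scheme of finite type over a field k. Then the local ring of X at every closed point has
dimension one if and only if the irreducible closed subsets of X other than its irreducible
components are exactly the (singletons of) closed points of X — that is, every irreducible closed
subset which is not an irreducible component is a closed point, and no closed point is by itself an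
irreducible component. -/
theorem result (k : Type u) [Field k] (X : Scheme.{u})
    [X.Over (Spec (CommRingCat.of k))] [LocallyOfFiniteType (X ↘ (Spec (CommRingCat.of k)))]
    [QuasiCompact (X ↘ (Spec (CommRingCat.of k)))] :
    (∀ x : X, IsClosed ({x} : Set X) → ringKrullDim (X.presheaf.stalk x) = 1) ↔
      ((∀ F : Set X, IsClosed F → IsIrreducible F → F ∉ irreducibleComponents (X : Type u) →
          ∃ x : X, IsClosed ({x} : Set X) ∧ F = {x}) ∧
        ∀ x : X, IsClosed ({x} : Set X) → ({x} : Set X) ∉ irreducibleComponents (X : Type u)) := by
  classical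
  have hJ : JacobsonSpace X := LocallyOfFiniteType.jacobsonSpace (X ↘ Spec (CommRingCat.of k))
  have hle : ∀ {a b : X}, a ≤ b ↔ b ⤳ a := fun {a b} => Iff.rfl
  have hcomp : ∀ y : X, closure ({y} : Set X) ∈ irreducibleComponents (X : Type u) ↔ IsMax y := by
    refine fun y => ⟨fun h z hz => ?_, fun h => ?_⟩
    · have h1 : closure ({y} : Set X) ⊆ closure {z} := (specializes_iff_closure_subset).1 (hle.1 hz)
      have h2 := h.2 isIrreducible_singleton.closure h1
      exact hle.2 (specializes_iff_closure_subset.2 h2)
    · refine ⟨isIrreducible_singleton.closure, fun F hF hyF => ?_⟩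
      obtain ⟨z, hz⟩ := QuasiSober.sober hF.closure isClosed_closure
      have hzy : y ≤ z := hle.2 (hz.specializes (subset_closure (hyF (subset_closure rfl))))
      refine subset_closure.trans (hz.def ▸ ?_)
      exact specializes_iff_closure_subset.1 (hle.1 (h hzy))
  have hmin : ∀ {x y : X}, IsClosed ({x} : Set X) → ¬ y < x := fun {x y} hx h => by
    have : y = x := (hle.1 h.le).mem_closed hx rfl
    exact h.ne this
  have hne : ∀ {y : X}, ¬ IsClosed ({y} : Set X) → ∃ z, IsClosed ({z} : Set X) ∧ z < y := fun {y} hy => by
    obtain ⟨z, hz, hzc⟩ := nonempty_inter_closedPoints (Set.singleton_nonempty y).closure isClosed_closure.isLocallyClosed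
    exact ⟨z, hzc, lt_of_le_not_ge (hle.2 (specializes_iff_mem_closure.2 hz)) fun h =>
      hy ((show y = z from (hle.1 h).mem_closed hzc rfl) ▸ hzc)⟩
  simp only [ringKrullDim_stalk_eq_coheight, WithBot.coe_eq_one]
  constructor
  · intro h
    refine ⟨fun F hFc hFi hF => ?_, fun x hx hxc => ?_⟩
    · obtain ⟨y, hy⟩ := QuasiSober.sober hFi hFc
      rw [← hy.def] at hF ⊢
      obtain ⟨y', hy'⟩ := not_isMax_iff.1 (mt (hcomp y).2 hF)
      by_cases hyc : IsClosed ({y} : Set X)
      · exact ⟨y, hyc, hyc.closure_eq⟩
      · obtain ⟨z, hzc, hzy⟩ := hne hyc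
        have e1 := Order.coheight_add_one_le hzy
        rw [h z hzc] at e1
        have e2 := Order.coheight_add_one_le hy'
        have e3 : Order.coheight y = 0 := by
          have := (ENat.add_le_add_iff_right ENat.one_ne_top).1 (e1.trans (zero_add 1).ge)
          simpa using this
        rw [e3] at e2
        simp at e2
    · rw [← hx.closure_eq, hcomp] at hxc
      have := h x hx
      rw [Order.coheight_eq_zero.2 hxc] at this
      exact zero_ne_one this
  · rintro ⟨h1, h2⟩ x hx
    refine le_antisymm ?_ ?_
    · rw [← Nat.cast_one, Order.coheight_le_coe_iff]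
      intro y hy
      rw [Nat.cast_one, Order.lt_one_iff, Order.coheight_eq_zero]
      by_contra hmax
      obtain ⟨z, hzc, hz⟩ := h1 _ isClosed_closure isIrreducible_singleton.closure (mt (hcomp y).1 hmax)
      have hyz : y = z := hz.le (subset_closure rfl)
      exact hmin (hyz ▸ hzc) hy
    · rw [Order.one_le_iff_ne_zero, Ne, Order.coheight_eq_zero]
      intro hmax
      exact h2 x hx (hx.closure_eq ▸ (hcomp x).2 hmax)

end Groth.Agent.S12129
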