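import Groth.Statements.S1213
import Groth.Agent.FlatMisc.SmulTensor
import Mathlib.Algebra.DirectSum.Module

set_option autoImplicit false
universe u
open scoped Classical
open FlatMor

namespace Groth.Agent.S1213

open TensorProduct IsLocalRing in
/-- Let R be a local ring, S an R-algebra and N an S-module which, as an R-module, is an internal direct
sum of finite R-submodules. Then for every R-module M and every prime q of S which is the
annihilator of an element of the S-module N ⊗_R M we have q + 𝔪_R S ≠ S. -/
theorem result {R S : Type u} [CommRing R] [IsLocalRing R] [CommRing S] [Algebra R S]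
    (N : Type u) [AddCommGroup N] [Module S N] [Module R N] [IsScalarTower R S N]
    (ι : Type u) (F : ι → Submodule R N) (hF : DirectSum.IsInternal F) (hfin : ∀ i, Module.Finite R (F i))
    (M : Type u) [AddCommGroup M] [Module R M]
    (q : Ideal S) [q.IsPrime] (hq : q ∈ FlatCA.ass S (N ⊗[R] M)) :
    q ⊔ (maximalIdeal R).map (algebraMap R S) ≠ ⊤ := by
  classical
  intro htop
  obtain ⟨hqp, x, hx⟩ := hq
  rw [Ideal.eq_top_iff_one, Submodule.mem_sup] at htop
  obtain ⟨a, ha, b, hb, hab⟩ := htop
  rw [hx, Submodule.mem_annihilator_span_singleton] at ha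
  refine hqp.ne_top ((Ideal.eq_top_iff_one q).mpr ?_)
  rw [hx, Submodule.mem_annihilator_span_singleton, one_smul]
  have hbx : b • x = x := by
    have h := congrArg (fun s : S => s • x) hab
    simpa [add_smul, ha] using h
  let T : N →ₗ[R] N := (LinearMap.lsmul S N b).restrictScalars R
  refine Groth.Agent.FlatMisc.SmulTensor.eq_zero_of_fixed T ?_ _ x ?_ ?_
  · intro n
    show b • n ∈ _
    clear hab hbx
    induction hb using Submodule.span_induction generalizing n with
    | mem z hz =>
      obtain ⟨i, hi, rfl⟩ := hz
      rw [algebraMap_smul]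
      exact Submodule.smul_mem_smul hi trivial
    | zero => simp
    | add y z _ _ ihy ihz => rw [add_smul]; exact add_mem (ihy n) (ihz n)
    | smul s z _ ih => rw [smul_eq_mul, mul_comm, mul_smul]; exact ih (s • n)
  · refine Eq.trans ?_ hbx
    clear hbx hx ha
    induction x with
    | zero => simp
    | tmul n m => simp [T, TensorProduct.smul_tmul']
    | add y z hy hz => simp only [map_add, hy, hz, smul_add]
  · obtain ⟨Sx, hSx⟩ := TensorProduct.exists_finset x
    let e := LinearEquiv.ofBijective (DirectSum.coeLinearMap F) hF
    let J : Finset ι := Sx.biUnion fun q => (e.symm q.1).support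
    let i : ((j : J) → F j) →ₗ[R] N := ∑ j : J, (F j).subtype ∘ₗ LinearMap.proj j
    let p : N →ₗ[R] ((j : J) → F j) :=
      LinearMap.pi fun j : J => DirectSum.component R ι (fun k => F k) j ∘ₗ e.symm.toLinearMap
    have hi : ∀ v, i v = e (∑ j : J, DirectSum.lof R ι (fun k => F k) j (v j)) := by
      intro v
      rw [map_sum]
      simp only [i, e, LinearMap.sum_apply, LinearMap.comp_apply, LinearMap.proj_apply,
        Submodule.subtype_apply, DirectSum.lof_eq_of]
      refine Finset.sum_congr rfl fun l _ => ?_
      exact (DirectSum.coeLinearMap_of F l (v l)).symm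
    refine ⟨(j : J) → F j, inferInstance, inferInstance, inferInstance, i, p, ?_, ?_⟩
    · refine LinearMap.ext fun v => funext fun k => ?_
      show DirectSum.component R ι (fun k => F k) k (e.symm (i v)) = v k
      rw [hi, LinearEquiv.symm_apply_apply, map_sum, Finset.sum_eq_single k]
      · exact DirectSum.component.lof_self _ _ _
      · intro l _ hlk
        rw [DirectSum.component.of, dif_neg (fun h => hlk (Subtype.ext h))]
      · simp
    · rw [hSx]
      refine Submodule.sum_mem _ fun r hr => ⟨p r.1 ⊗ₜ r.2, ?_⟩
      rw [LinearMap.rTensor_tmul, hi]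
      congr 1
      conv_rhs => rw [← e.apply_symm_apply r.1]
      congr 1
      have hsub : (e.symm r.1).support ⊆ J :=
        Finset.subset_biUnion_of_mem (fun q : N × M => (e.symm q.1).support) hr
      refine DirectSum.ext_component R fun k => ?_
      rw [map_sum]
      by_cases hk : k ∈ J
      · rw [Finset.sum_eq_single (⟨k, hk⟩ : J)]
        · rw [DirectSum.component.lof_self]; rfl
        · intro l _ hlk
          rw [DirectSum.component.of, dif_neg (fun h => hlk (Subtype.ext h))]
        · simp
      · rw [Finset.sum_eq_zero]
        · symm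
          by_contra hne
          exact hk (hsub (DFinsupp.mem_support_iff.mpr hne))
        · intro l _
          rw [DirectSum.component.of, dif_neg (fun h : (l : ι) = k => hk (h ▸ l.2))]

end Groth.Agent.S1213
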