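import Groth.Statements.S12130
import Groth.Agent.NormSmooth.Basic
import Groth.Agent.Curv2Norm.Basic
import Groth.Agent.CycInsep.Fibre
import Groth.Agent.S1629
import Groth.Agent.FBase.Dim
-- import your own Groth.Agent.* helpers here

set_option autoImplicit false
universe u
open Unram17

namespace Groth.Agent.S12130

open CategoryTheory CategoryTheory.Limits AlgebraicGeometry TopologicalSpace TensorProduct

/-- Transport of smoothness of the integral closure. -/
lemma smooth_transport {k' R S F : Type u} [Field k'] [CommRing R] [IsDomain R] [Algebra k' R]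
    (h : Algebra.Smooth k' (integralClosure R (FractionRing R)))
    [CommRing S] (a : k' →+* S) (e : R ≃+* S) (hea : ∀ x, e (algebraMap k' R x) = a x)
    [Field F] [Algebra S F] [IsFractionRing S F] :
    ((algebraMap S (integralClosure S F)).comp a).Smooth := by
  let ρ : FractionRing R ≃+* F := IsFractionRing.ringEquivOfRingEquiv e
  have hρ : ∀ x, ρ (algebraMap R _ x) = algebraMap S F (e x) :=
    IsFractionRing.ringEquivOfRingEquiv_algebraMap e
  have hiff : ∀ y : FractionRing R, IsIntegral R y ↔ IsIntegral S (ρ y) := by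
    intro y
    constructor
    · rintro ⟨P, hP, hPy⟩
      refine ⟨P.map e.toRingHom, hP.map _, ?_⟩
      rw [Polynomial.eval₂_map, show (algebraMap S F).comp e.toRingHom = ρ.toRingHom.comp (algebraMap R _) from
        RingHom.ext fun x => (hρ x).symm]
      show Polynomial.eval₂ _ (ρ.toRingHom y) P = 0
      rw [← Polynomial.hom_eval₂, hPy, map_zero]
    · rintro ⟨P, hP, hPy⟩
      refine ⟨P.map e.symm.toRingHom, hP.map _, ρ.injective ?_⟩
      rw [Polynomial.eval₂_map, map_zero, ← RingEquiv.coe_toRingHom, Polynomial.hom_eval₂,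
        show (ρ : FractionRing R →+* F).comp ((algebraMap R _).comp e.symm.toRingHom) = algebraMap S F from
          RingHom.ext fun x => (hρ _).trans (congrArg _ (e.apply_symm_apply x))]
      exact hPy
  let Φ : integralClosure R (FractionRing R) ≃+* integralClosure S F :=
    { toFun := fun y => ⟨ρ y, (hiff y.1).mp y.2⟩
      invFun := fun y => ⟨ρ.symm y, (hiff _).mpr (by rw [ρ.apply_symm_apply]; exact y.2)⟩
      left_inv := fun y => Subtype.ext (ρ.symm_apply_apply _)
      right_inv := fun y => Subtype.ext (ρ.apply_symm_apply _)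
      map_mul' := fun x y => Subtype.ext (map_mul ρ (x : FractionRing R) y)
      map_add' := fun x y => Subtype.ext (map_add ρ (x : FractionRing R) y) }
  have : (algebraMap S (integralClosure S F)).comp a =
      Φ.toRingHom.comp (algebraMap k' (integralClosure R (FractionRing R))) := by
    refine RingHom.ext fun x => Subtype.ext ?_
    show algebraMap S F (a x) = ρ (algebraMap k' (FractionRing R) x)
    rw [IsScalarTower.algebraMap_apply k' R (FractionRing R), hρ, hea]
  rw [this]
  exact RingHom.Smooth.respectsIso.1 _ _ (RingHom.smooth_algebraMap.mpr h)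

/-- The normalization over a reduced chart is smooth. -/
lemma smooth_chart (k' : Type u) [Field k'] {Z : Scheme.{u}} [IsIntegral Z]
    [QuasiCompact (Z.fromSpecStalk (genericPoint Z))] [QuasiSeparated (Z.fromSpecStalk (genericPoint Z))]
    (f' : Z ⟶ Spec (CommRingCat.of k')) (R : Type u) [CommRing R] [IsDomain R] [Algebra k' R]
    (hR : Algebra.Smooth k' (integralClosure R (FractionRing R)))
    (jr : Spec (CommRingCat.of R) ⟶ Z) [IsOpenImmersion jr]
    (hjr : jr ≫ f' = Spec.map (CommRingCat.ofHom (algebraMap k' R))) :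
    ((Curv2.normalizationι Z ≫ f').appLE ⊤ (Curv2.normalizationι Z ⁻¹ᵁ (jr ''ᵁ ⊤)) le_top).hom.Smooth := by
  let V : Z.Opens := jr ''ᵁ ⊤
  have hV : IsAffineOpen V := (isAffineOpen_top _).image_of_isOpenImmersion jr
  have hne : Nonempty V := by
    obtain ⟨x⟩ := (inferInstance : Nonempty (PrimeSpectrum R))
    exact ⟨⟨jr x, ⟨x, trivial, rfl⟩⟩⟩
  obtain ⟨φ, hφ⟩ := Groth.Agent.Curv2Norm.exists_sections_equiv Z hV
  have := functionField_isFractionRing_of_isAffineOpen Z V hV
  let I := jr.appIso ⊤ ≪≫ Scheme.ΓSpecIso (CommRingCat.of R)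
  let a : k' →+* Γ(Z, V) :=
    ((Scheme.ΓSpecIso (CommRingCat.of k')).inv ≫ f'.appLE ⊤ V le_top).hom
  have hI : (Scheme.ΓSpecIso (CommRingCat.of k')).inv ≫ f'.appLE ⊤ V le_top ≫ I.hom =
      CommRingCat.ofHom (algebraMap k' R) := by
    have key : ∀ (g : Spec (CommRingCat.of R) ⟶ Spec (CommRingCat.of k')) (h),
        g.appLE ⊤ ⊤ h = g.appTop := fun g h => by
      simp [Scheme.Hom.appLE]
    simp only [I, Iso.trans_hom, Scheme.Hom.appIso_hom']
    rw [← Category.assoc (f'.appLE _ _ _), Scheme.Hom.appLE_comp_appLE, key, hjr,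
      Scheme.ΓSpecIso_naturality, Iso.inv_hom_id_assoc]
  have hea : ∀ x, I.commRingCatIsoToRingEquiv.symm (algebraMap k' R x) = a x := by
    intro x
    rw [RingEquiv.symm_apply_eq]
    exact (congr($(hI).hom x)).symm
  have hs := smooth_transport (F := Z.functionField) hR a I.commRingCatIsoToRingEquiv.symm hea
  have heq : ((Curv2.normalizationι Z ≫ f').appLE ⊤ (Curv2.normalizationι Z ⁻¹ᵁ V) le_top).hom =
      φ.symm.toRingHom.comp ((((algebraMap Γ(Z, V) (integralClosure Γ(Z, V) Z.functionField)).comp a)).comp
        (Scheme.ΓSpecIso (CommRingCat.of k')).commRingCatIsoToRingEquiv.toRingHom) := by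
    refine RingHom.ext fun x => ?_
    show _ = φ.symm (algebraMap Γ(Z, V) _ (a ((Scheme.ΓSpecIso (CommRingCat.of k')).hom x)))
    have hax : a ((Scheme.ΓSpecIso (CommRingCat.of k')).hom x) = f'.appLE ⊤ V le_top x := by
      simp only [a]
      rw [← CommRingCat.comp_apply, Iso.hom_inv_id_assoc]
    rw [hax, ← hφ, φ.symm_apply_apply, ← Scheme.Hom.appLE_comp_appLE (Curv2.normalizationι Z) f' ⊤ V
      (Curv2.normalizationι Z ⁻¹ᵁ V) le_top le_rfl, Scheme.Hom.app_eq_appLE]
    rfl
  rw [heq]
  exact RingHom.Smooth.respectsIso.1 _ _ (RingHom.Smooth.respectsIso.2 _ _ hs)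

open Groth.Agent.FBase.PointScheme Groth.Agent.FBase.BC in
/-- Charts of the reduced base change, covering it. -/
lemma exists_chart_red {k : Type u} [Field k] (X : Scheme.{u}) [X.Over (Spec (CommRingCat.of k))]
    {A : Type u} [CommRing A] [Algebra k A] (j : Spec (CommRingCat.of A) ⟶ X) [IsOpenImmersion j]
    (hj : j ≫ (X ↘ Spec (CommRingCat.of k)) = Spec.map (CommRingCat.ofHom (algebraMap k A)))
    (k' : Type u) [Field k'] [Algebra k k'] :
    ∃ jr : Spec (CommRingCat.of (NormSmooth.Red k k' A)) ⟶ (Curv2.bc k X k').nilradical.subscheme,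
      IsOpenImmersion jr ∧
      jr ≫ (Curv2.bc k X k').nilradical.subschemeι ≫ Curv2.bcSnd k X k' =
        Spec.map (CommRingCat.ofHom (algebraMap k' (NormSmooth.Red k k' A))) ∧
      ∀ z, Curv2.bcFst k X k' ((Curv2.bc k X k').nilradical.subschemeι z) ∈ Set.range j →
        z ∈ Set.range jr := by
  let f := X ↘ Spec (CommRingCat.of k)
  let e₀ : A ⊗[k] k' ≃ₐ[k] k' ⊗[k] A := Algebra.TensorProduct.comm k A k'
  let c : Spec (CommRingCat.of (k' ⊗[k] A)) ⟶ Curv2.bc k X k' :=
    Spec.map (CommRingCat.ofHom e₀.toRingEquiv.toRingHom) ≫ bcChart f j k' hj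
  haveI : IsIso (Spec.map (CommRingCat.ofHom e₀.toRingEquiv.toRingHom)) :=
    inferInstanceAs (IsIso (Scheme.Spec.map e₀.toRingEquiv.toCommRingCatIso.hom.op))
  have hcf : c ≫ Curv2.bcSnd k X k' =
      Spec.map (CommRingCat.ofHom (algebraMap k' (k' ⊗[k] A))) := by
    show (_ ≫ bcChart f j k' hj) ≫ pullback.snd f (specMap k k') = _
    rw [Category.assoc, bcChart, pullback.map]
    erw [Category.assoc, pullback.lift_snd, Category.comp_id, pullbackSpecIso_inv_snd]
    rw [← Spec.map_comp, ← CommRingCat.ofHom_comp]
    rfl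
  obtain ⟨jr, hjr, hjrf, hjrange⟩ := S1629.exists_red_chart (Curv2.bcSnd k X k') c hcf
  refine ⟨jr, hjr, hjrf, fun z hz => hjrange ?_⟩
  show (Curv2.bc k X k').nilradical.subschemeι z ∈ Set.range c
  obtain ⟨y, hy⟩ : (Curv2.bc k X k').nilradical.subschemeι z ∈ Set.range (bcChart f j k' hj) := by
    rw [range_bcChart]
    exact hz
  obtain ⟨y, rfl⟩ := (Scheme.Hom.homeomorph (Spec.map (CommRingCat.ofHom e₀.toRingEquiv.toRingHom))).surjective y
  exact ⟨y, (Scheme.Hom.comp_apply _ _ _).trans hy⟩

open CategoryTheory AlgebraicGeometry in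
/-- Let k be a field and X an integral k-scheme of finite type of dimension ≤ 1. Then there is a finite
purely inseparable field extension k' of k such that the reduced closed subscheme Z = (X_{k'})_red
of the base change X_{k'} is integral and the normalization of Z is smooth over k'. (The published
statement is for an arbitrary k-scheme of finite type of dimension ≤ 1, with the normalization of a
reduced scheme with finitely many irreducible components; this row states the case X integral, where
Z is integral because X_{k'} → X is a homeomorphism. The instance hypotheses on the morphism from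
the generic point inside the existential always hold and only serve to form the normalization.) -/
theorem result (k : Type u) [Field k]
    (X : Scheme.{u}) [X.Over (Spec (CommRingCat.of k))] [IsIntegral X]
    [LocallyOfFiniteType (X ↘ Spec (CommRingCat.of k))] [QuasiCompact (X ↘ Spec (CommRingCat.of k))]
    (hdim : topologicalKrullDim X ≤ 1) :
    ∃ (k' : Type u) (_ : Field k') (_ : Algebra k k'), FiniteDimensional k k' ∧ IsPurelyInseparable k k' ∧
      ∃ (_ : IsIntegral (Curv2.bc k X k').nilradical.subscheme)
        (_ : QuasiCompact ((Curv2.bc k X k').nilradical.subscheme.fromSpecStalk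
              (genericPoint (Curv2.bc k X k').nilradical.subscheme)))
        (_ : QuasiSeparated ((Curv2.bc k X k').nilradical.subscheme.fromSpecStalk
              (genericPoint (Curv2.bc k X k').nilradical.subscheme))),
        Smooth (Curv2.normalizationι (Curv2.bc k X k').nilradical.subscheme ≫
          (Curv2.bc k X k').nilradical.subschemeι ≫ Curv2.bcSnd k X k') := by
  classical
  let f := X ↘ Spec (CommRingCat.of k)
  choose A hA hAk j p hjo hp hj using fun x : X => Groth.Agent.FBase.PointScheme.exists_chart f x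
  haveI : CompactSpace X := QuasiCompact.compactSpace_of_compactSpace f
  obtain ⟨t, ht⟩ := isCompact_univ.elim_finite_subcover (fun x : X => Set.range (j x))
    (fun x => (j x).isOpenEmbedding.isOpen_range) (fun x _ => Set.mem_iUnion.mpr ⟨x, p x, hp x⟩)
  have hdom : ∀ x, IsDomain (A x) := fun x => by
    haveI : Nonempty (Spec (CommRingCat.of (A x))) := ⟨p x⟩
    haveI : IsIntegral (Spec (CommRingCat.of (A x))) := isIntegral_of_isOpenImmersion (j x)
    exact (affine_isIntegral_iff (CommRingCat.of (A x))).mp inferInstance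
  have hft : ∀ x, Algebra.FiniteType k (A x) := fun x =>
    Groth.Agent.FBase.Dim.finiteType_of_chart f (j x) (hj x)
  have hdimA : ∀ x, ringKrullDim (A x) ≤ 1 := fun x => by
    rw [← PrimeSpectrum.topologicalKrullDim_eq_ringKrullDim]
    exact ((j x).isOpenEmbedding.isInducing.topologicalKrullDim_le).trans hdim
  let L := perfectClosure k (AlgebraicClosure k)
  haveI : PerfectField L := perfectClosure.perfectField k (AlgebraicClosure k)
  choose s hs using fun x => Groth.Agent.NormSmooth.exists_finset k (A x) L (hdimA x)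
  let k' : IntermediateField k L := IntermediateField.adjoin k (t.biUnion s : Set L)
  have hfin : FiniteDimensional k k' :=
    IntermediateField.finiteDimensional_adjoin fun x _ ↦ (Algebra.IsAlgebraic.isAlgebraic x).isIntegral
  have hpi : IsPurelyInseparable k k' := inferInstance
  let X' := Curv2.bc k X k'
  let Z := X'.nilradical.subscheme
  haveI : IsReduced Z := inferInstance
  have hhom : IsHomeomorph (Curv2.bcFst k X k') := Groth.Agent.CycInsep.Fibre.isHomeomorph_fst f
  have hιh : IsHomeomorph X'.nilradical.subschemeι := (isHomeomorph_iff_isEmbedding_surjective).mpr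
    ⟨X'.nilradical.subschemeι.isClosedEmbedding.isEmbedding,
      Groth.Agent.FBase.LenBC.surjective_nilradical_subschemeι⟩
  haveI : IrreducibleSpace Z := (hhom.comp hιh).homeomorph.irreducibleSpace_iff.mpr inferInstance
  haveI hZint : IsIntegral Z := isIntegral_of_irreducibleSpace_of_isReduced Z
  haveI : Subsingleton (Spec Z.functionField) := inferInstanceAs (Subsingleton (PrimeSpectrum Z.functionField))
  haveI hqc : QuasiCompact (Z.fromSpecStalk (genericPoint Z)) :=
    ⟨fun U _ _ => (Set.subsingleton_of_subsingleton (α := Spec Z.functionField)).finite.isCompact⟩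
  haveI hqs : QuasiSeparated (Z.fromSpecStalk (genericPoint Z)) := inferInstance
  refine ⟨k', inferInstance, inferInstance, hfin, hpi, hZint, hqc, hqs, ?_⟩
  choose jr hjro hjrf hjrange using fun x : t =>
    exists_chart_red X (j x) (hj x) k'
  haveI := Groth.Agent.Curv2Norm.isIntegralHom Z
  refine (HasRingHomProperty.iff_of_iSup_eq_top (P := @Smooth)
    (fun x : t => (⟨Curv2.normalizationι Z ⁻¹ᵁ (jr x ''ᵁ ⊤), Groth.Agent.Curv2Norm.isAffineOpen_preimage Z
      ((isAffineOpen_top _).image_of_isOpenImmersion (jr x))⟩ : (Curv2.normalization Z).affineOpens)) ?_).mpr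
    fun x => ?_
  · rw [eq_top_iff]
    intro z _
    rw [Opens.mem_iSup]
    obtain ⟨x, hx⟩ := Set.mem_iUnion.mp
      (ht (Set.mem_univ (Curv2.bcFst k X k' (X'.nilradical.subschemeι (Curv2.normalizationι Z z)))))
    obtain ⟨hxt, hx⟩ := Set.mem_iUnion.mp hx
    obtain ⟨y, hy⟩ := hjrange ⟨x, hxt⟩ _ hx
    exact ⟨⟨x, hxt⟩, ⟨y, trivial, hy⟩⟩
  · haveI := Groth.Agent.NormSmooth.isDomain_red k k' (A x)
    exact smooth_chart k' _ (Groth.Agent.NormSmooth.Red k k' (A x))
      (hs x k' fun y hy => IntermediateField.subset_adjoin k _ (Finset.mem_biUnion.mpr ⟨x, x.2, hy⟩))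
      (jr x) (hjrf x)

end Groth.Agent.S12130
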