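import Groth.Statements.S12132
import Groth.Agent.AssSch.LenOne
import Groth.Agent.AssSch.LenAux
-- import your own Groth.Agent.* helpers here

set_option autoImplicit false
universe u
open AssSch

namespace Groth.Agent.S12132

open Pointwise Groth.Agent.AssSch.LenOne Groth.Agent.AssSch.LenAux IsLocalRing

/-- Let B be a Noetherian local ring (the local ring of X at the generic point z of an irreducible
component Z of the support of F/tF), t an element of its maximal ideal, and M a finite B-module (the
stalk F_z) such that the support of M has positive dimension (Z is not an irreducible component of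
Supp F) and M/tM has finite length (z is a maximal point of Supp(F/tF)). Then the length of M/tM is
at least the sum, over the primes p of B minimal over the annihilator of M (the generic points of
the irreducible components of Supp F through z), of the lengths of the B_p-modules M_p; and the two
are equal if and only if t is a non-zero-divisor on M and for every such p the image of t generates
the maximal ideal of B/p (so that B/p is a discrete valuation ring with uniformizer t). -/
theorem result {B : Type u} [CommRing B] [IsNoetherianRing B]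
    [IsLocalRing B] (t : B) (ht : t ∈ IsLocalRing.maximalIdeal B)
    (M : Type u) [AddCommGroup M] [Module B M] [Module.Finite B M]
    (hdim : 0 < Module.supportDim B M)
    (hfin : Module.length B (M ⧸ (Ideal.span {t} • (⊤ : Submodule B M))) ≠ ⊤) :
    (∑ᶠ p : (Module.annihilator B M).minimalPrimes,
        haveI : p.1.IsPrime := p.2.1.1
        Module.length (Localization.AtPrime p.1) (LocalizedModule p.1.primeCompl M)) ≤
      Module.length B (M ⧸ (Ideal.span {t} • (⊤ : Submodule B M))) ∧
    ((∑ᶠ p : (Module.annihilator B M).minimalPrimes,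
        haveI : p.1.IsPrime := p.2.1.1
        Module.length (Localization.AtPrime p.1) (LocalizedModule p.1.primeCompl M)) =
      Module.length B (M ⧸ (Ideal.span {t} • (⊤ : Submodule B M))) ↔
    IsSMulRegular M t ∧
      ∀ p : (Module.annihilator B M).minimalPrimes,
        Ideal.map (Ideal.Quotient.mk p.1) (IsLocalRing.maximalIdeal B) =
          Ideal.span {Ideal.Quotient.mk p.1 t}) := by
  have hne : Nontrivial M := by
    by_contra h
    rw [not_nontrivial_iff_subsingleton] at h
    rw [Module.supportDim_eq_bot_of_subsingleton B M] at hdim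
    exact not_lt_bot hdim
  let J := Module.annihilator B M
  have hJ : J ≠ ⊤ := fun h ↦ by
    have := Module.annihilator_eq_top_iff.mp h
    exact not_subsingleton M this
  have : Nontrivial (B ⧸ J) := Ideal.Quotient.nontrivial_iff.mpr hJ
  have : IsLocalRing (B ⧸ J) :=
    IsLocalRing.of_surjective' (Ideal.Quotient.mk J) Ideal.Quotient.mk_surjective
  let : Module (B ⧸ J) M :=
    (Module.isTorsionBySet_annihilator B M).module
  have : IsScalarTower B (B ⧸ J) M := (Module.isTorsionBySet_annihilator B M).isScalarTower
  have : Module.Finite (B ⧸ J) M := Module.Finite.of_restrictScalars_finite B _ M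
  have hdimA : 0 < ringKrullDim (B ⧸ J) := by
    rwa [← Module.supportDim_eq_ringKrullDim_quotient_annihilator]
  let t' : B ⧸ J := Ideal.Quotient.mk J t
  have hmax : maximalIdeal (B ⧸ J) = (maximalIdeal B).map (Ideal.Quotient.mk J) :=
    ((Ideal.map_eq_top_or_isMaximal_of_surjective _ Ideal.Quotient.mk_surjective
      (IsLocalRing.maximalIdeal.isMaximal B)).resolve_left (fun h ↦ by
        have := congrArg (Ideal.comap (Ideal.Quotient.mk J)) h
        rw [Ideal.comap_map_of_surjective _ Ideal.Quotient.mk_surjective, ← RingHom.ker_eq_comap_bot,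
          Ideal.mk_ker, sup_eq_left.mpr (IsLocalRing.le_maximalIdeal hJ), Ideal.comap_top] at this
        exact (IsLocalRing.maximalIdeal.isMaximal B).ne_top this) |>
      IsLocalRing.eq_maximalIdeal).symm
  have ht' : t' ∈ maximalIdeal (B ⧸ J) := hmax ▸ Ideal.mem_map_of_mem _ ht
  have hprime : ∀ P : Ideal B, P.IsPrime → J ≤ P → t ∈ P → P = maximalIdeal B := by
    intro P hP hJP htP
    refine IsLocalRing.eq_maximalIdeal ?_
    let Q := M ⧸ (Ideal.span {t} • (⊤ : Submodule B M))
    have hQ : IsFiniteLength B Q := Module.length_ne_top_iff.mp hfin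
    have hsupp : (⟨P, hP⟩ : PrimeSpectrum B) ∈ Module.support B Q := by
      rw [Module.support_quotient]
      refine ⟨?_, ?_⟩
      · rw [Module.support_eq_zeroLocus]
        exact hJP
      · exact (Ideal.span_singleton_le_iff_mem P).mpr htP
    rw [Module.mem_support_iff_of_finite] at hsupp
    have := (isFiniteLength_iff_isNoetherian_isArtinian.mp hQ).2
    have : IsArtinianRing (B ⧸ Module.annihilator B Q) := by
      obtain ⟨n, v, hv⟩ := Module.Finite.exists_fin (R := B) (M := Q)
      let φ : B →ₗ[B] (Fin n → Q) := LinearMap.pi fun i ↦ LinearMap.toSpanSingleton B Q (v i)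
      have hker : LinearMap.ker φ = Module.annihilator B Q := by
        ext b
        rw [LinearMap.mem_ker, Module.mem_annihilator]
        refine ⟨fun h m ↦ ?_, fun h ↦ funext fun i ↦ h (v i)⟩
        have hm : m ∈ Submodule.span B (Set.range v) := hv ▸ trivial
        induction hm using Submodule.span_induction with
        | mem x hx =>
          obtain ⟨i, rfl⟩ := hx
          exact congrFun h i
        | zero => exact smul_zero b
        | add x y _ _ hx hy => rw [smul_add, hx, hy, add_zero]
        | smul c x _ hx => rw [smul_comm, hx, smul_zero]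
      have : IsArtinian B (B ⧸ Module.annihilator B Q) :=
        isArtinian_of_injective ((Module.annihilator B Q).liftQ φ hker.ge)
          (LinearMap.ker_eq_bot.mp (Submodule.ker_liftQ_eq_bot' _ _ hker.symm))
      exact isArtinian_of_tower B this
    have : (P.map (Ideal.Quotient.mk (Module.annihilator B Q))).IsPrime :=
      Ideal.map_isPrime_of_surjective Ideal.Quotient.mk_surjective (by rwa [Ideal.mk_ker])
    have h := Ideal.comap_isMaximal_of_surjective _ Ideal.Quotient.mk_surjective
      (K := P.map (Ideal.Quotient.mk (Module.annihilator B Q)))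
      (H := IsArtinianRing.isMaximal_of_isPrime _)
    rwa [Ideal.comap_map_of_surjective _ Ideal.Quotient.mk_surjective, ← RingHom.ker_eq_comap_bot,
      Ideal.mk_ker, sup_eq_left.mpr hsupp] at h
  have hart : IsArtinianRing ((B ⧸ J) ⧸ Ideal.span {t'}) := by
    rw [isArtinianRing_iff_krullDimLE_zero]
    refine Ring.KrullDimLE.mk₀ fun I hI ↦ ?_
    let φ := (Ideal.Quotient.mk (Ideal.span {t'})).comp (Ideal.Quotient.mk J)
    have hφ : Function.Surjective φ :=
      Ideal.Quotient.mk_surjective.comp Ideal.Quotient.mk_surjective
    have hP := hprime (I.comap φ) (Ideal.comap_isPrime φ I) (fun x hx ↦ by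
        simp [φ, Ideal.Quotient.eq_zero_iff_mem.mpr hx]) (by
        simp [φ, Ideal.Quotient.eq_zero_iff_mem.mpr (Ideal.mem_span_singleton_self t'), t'])
    rw [← Ideal.map_comap_of_surjective φ hφ I, hP]
    refine (Ideal.map_eq_top_or_isMaximal_of_surjective φ hφ
      (IsLocalRing.maximalIdeal.isMaximal B)).resolve_left fun h ↦ hI.ne_top ?_
    rw [← Ideal.map_comap_of_surjective φ hφ I, hP, h]
  obtain ⟨hle, hiff⟩ := main hdimA t' ht' hart M
  have hlen : Module.length B (M ⧸ (Ideal.span {t} • (⊤ : Submodule B M))) =
      Module.length (B ⧸ J) (M ⧸ (Ideal.span {t'} • (⊤ : Submodule (B ⧸ J) M))) := by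
    have hsub : (Ideal.span {t} • (⊤ : Submodule B M)) =
        (Ideal.span {t'} • (⊤ : Submodule (B ⧸ J) M)).restrictScalars B := by
      ext x
      simp only [Submodule.restrictScalars_mem, Submodule.ideal_span_singleton_smul,
        Submodule.mem_smul_pointwise_iff_exists, Submodule.mem_top, true_and]
      rfl
    rw [(Submodule.quotEquivOfEq _ _ hsub).length_eq,
      (Submodule.Quotient.restrictScalarsEquiv B _).length_eq,
      Module.length_eq_of_surjective (R := B ⧸ J) Ideal.Quotient.mk_surjective]
  let e : minimalPrimes (B ⧸ J) ≃ J.minimalPrimes := Equiv.ofBijective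
    (fun q ↦ ⟨q.1.comap (Ideal.Quotient.mk J),
      Ideal.minimalPrimes_eq_comap.ge ⟨q.1, q.2, rfl⟩⟩)
    ⟨fun q q' h ↦ Subtype.ext (Ideal.comap_injective_of_surjective _ Ideal.Quotient.mk_surjective
        (congrArg Subtype.val h)), fun p ↦ by
      obtain ⟨q, hq, he⟩ := Ideal.minimalPrimes_eq_comap.le p.2
      exact ⟨⟨q, hq⟩, Subtype.ext he⟩⟩
  have hsum : (∑ᶠ p : J.minimalPrimes,
      haveI : p.1.IsPrime := p.2.1.1
      Module.length (Localization.AtPrime p.1) (LocalizedModule p.1.primeCompl M)) =
      ∑ᶠ q : minimalPrimes (B ⧸ J),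
      haveI : q.1.IsPrime := q.2.1.1
      Module.length (Localization.AtPrime q.1) (LocalizedModule q.1.primeCompl M) := by
    refine (finsum_comp_equiv e).symm.trans (finsum_congr fun q ↦ ?_)
    have : q.1.IsPrime := q.2.1.1
    have : (e q).1.IsPrime := (e q).2.1.1
    exact length_localized_eq (M := M) Ideal.Quotient.mk_surjective q.1 _ rfl
  have hreg : IsSMulRegular M t ↔ IsSMulRegular M t' := Iff.rfl
  change (∑ᶠ p : J.minimalPrimes, _) ≤ _ ∧ ((∑ᶠ p : J.minimalPrimes, _) = _ ↔ _)
  rw [hsum, hlen, hreg]
  refine ⟨hle, hiff.trans (and_congr Iff.rfl ⟨fun h p ↦ ?_, fun h q _ ↦ ?_⟩)⟩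
  · obtain ⟨q, rfl⟩ := e.surjective p
    have : q.1.IsPrime := q.2.1.1
    have : (e q).1.IsPrime := (e q).2.1.1
    have hnt : Nontrivial (LocalizedModule q.1.primeCompl M) := by
      have hmem : (⟨q.1, inferInstance⟩ : PrimeSpectrum (B ⧸ J)) ∈ Module.support (B ⧸ J) M := by
        rw [Module.mem_support_iff_of_finite]
        intro z hz
        obtain ⟨z, rfl⟩ := Ideal.Quotient.mk_surjective z
        have : z ∈ J := by
          rw [Module.mem_annihilator]
          intro m
          exact Module.mem_annihilator.mp hz m
        rw [Ideal.Quotient.eq_zero_iff_mem.mpr this]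
        exact zero_mem _
      exact Module.mem_support_iff.mp hmem
    refine (map_mk_eq_span_iff (IsLocalRing.le_maximalIdeal (e q).2.1.1.ne_top) ht).mpr ?_
    have h2 := congrArg (Ideal.comap (Ideal.Quotient.mk J)) (h q hnt)
    rw [hmax, ← Ideal.map_comap_of_surjective (Ideal.Quotient.mk J) Ideal.Quotient.mk_surjective q.1,
      show Ideal.span {t'} = (Ideal.span {t}).map (Ideal.Quotient.mk J) by
        rw [Ideal.map_span, Set.image_singleton],
      ← Ideal.map_sup, Ideal.comap_map_of_surjective _ Ideal.Quotient.mk_surjective,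
      Ideal.comap_map_of_surjective _ Ideal.Quotient.mk_surjective, ← RingHom.ker_eq_comap_bot,
      Ideal.mk_ker, sup_eq_left.mpr (IsLocalRing.le_maximalIdeal hJ),
      sup_eq_left.mpr (le_sup_of_le_left (show J ≤ q.1.comap (Ideal.Quotient.mk J) from
        (e q).2.1.2))] at h2
    exact h2
  · have h2 := congrArg (Ideal.map (Ideal.Quotient.mk J))
      ((map_mk_eq_span_iff (IsLocalRing.le_maximalIdeal (e q).2.1.1.ne_top) ht).mp (h (e q)))
    rw [Ideal.map_sup, ← hmax, Ideal.map_span, Set.image_singleton] at h2
    rwa [show Ideal.map (Ideal.Quotient.mk J) (e q).1 = q.1 from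
      Ideal.map_comap_of_surjective _ Ideal.Quotient.mk_surjective q.1] at h2

end Groth.Agent.S12132
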