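import Groth.Statements.S12134
import Groth.Agent.Fibres16.NormFlat.Strat


set_option autoImplicit false
universe u
open scoped TensorProduct
open EGA43

namespace Groth.Agent.S12134

open Groth.Agent.Fibres16

open AlgebraicGeometry CategoryTheory in
/-- Suppose A₀ is a Noetherian ring and B₀ is a finitely generated A₀-algebra; fix an ideal J₀ ⊆ B₀ and
a finite B₀-module M₀. Then Spec A₀ admits finitely many affine subschemes S_1, …, S_m — presented
as immersions Spec A_i → Spec A₀ — whose underlying sets are mutually disjoint with union all of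
Spec A₀, such that each S_i is open in S_i ∪ S_{i+1} ∪ … ∪ S_m, and such that for each i, setting
N_i = A_i ⊗_{A₀} M₀, the graded module associated to the J₀-adic filtration on N_i is A_i-flat.
Concretely, for every n the A_i-module J₀ⁿN_i / J₀ⁿ⁺¹N_i is flat, where this quotient is encoded as
the image of J₀ⁿN_i inside N_i / J₀ⁿ⁺¹N_i, and J₀ⁿN_i denotes the image in N_i of A_i ⊗_{A₀} J₀ⁿM₀. -/
theorem result {A₀ : Type u} [CommRing A₀] [IsNoetherianRing A₀]
    {B₀ : Type u} [CommRing B₀] [Algebra A₀ B₀] [Algebra.FiniteType A₀ B₀] (J₀ : Ideal B₀)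
    (M₀ : Type u) [AddCommGroup M₀] [Module B₀ M₀] [Module A₀ M₀] [IsScalarTower A₀ B₀ M₀]
    [Module.Finite B₀ M₀] :
    ∃ (m : ℕ) (A : Fin m → Type u) (_ : ∀ i, CommRing (A i)) (_ : ∀ i, Algebra A₀ (A i)),
      (∀ i, IsImmersion (Spec.map (CommRingCat.ofHom (algebraMap A₀ (A i))))) ∧
      (∀ i j, i ≠ j → Disjoint (Set.range (Spec.map (CommRingCat.ofHom (algebraMap A₀ (A i)))))
        (Set.range (Spec.map (CommRingCat.ofHom (algebraMap A₀ (A j)))))) ∧
      (⋃ i, Set.range (Spec.map (CommRingCat.ofHom (algebraMap A₀ (A i)))) = Set.univ) ∧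
      (∀ i, ∃ U : Set (Spec (CommRingCat.of A₀)), IsOpen U ∧
        U ∩ (⋃ j, ⋃ (_ : i ≤ j), Set.range (Spec.map (CommRingCat.ofHom (algebraMap A₀ (A j))))) =
          Set.range (Spec.map (CommRingCat.ofHom (algebraMap A₀ (A i))))) ∧
      ∀ i (n : ℕ), Module.Flat (A i)
        ↥(Submodule.map
            (LinearMap.range (LinearMap.baseChange (A i)
              ((J₀ ^ (n + 1) • (⊤ : Submodule B₀ M₀)).restrictScalars A₀).subtype)).mkQ
            (LinearMap.range (LinearMap.baseChange (A i)
              ((J₀ ^ n • (⊤ : Submodule B₀ M₀)).restrictScalars A₀).subtype))) := by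
  obtain ⟨m, p, g, hP, -, hcov, hord⟩ := NormFlat.exists_strata
    (fun p g => ∀ k : ℕ, Module.Flat (Localization.Away (Ideal.Quotient.mk p g))
      (Localization.Away (Ideal.Quotient.mk p g) ⊗[A₀] (M₀ ⧸ (J₀ ^ k • ⊤ : Submodule B₀ M₀))))
    (fun p _ => NormFlat.exists_flat_away J₀ M₀
      ((Algebra.FiniteType.isNoetherianRing A₀ B₀).noetherian J₀) p) (⊥ : Ideal A₀)
  let A : Fin m → Type u := fun i => Localization.Away (Ideal.Quotient.mk (p i) (g i))
  have hrange : ∀ i, Set.range (Spec.map (CommRingCat.ofHom (algebraMap A₀ (A i)))) =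
      NormFlat.stratum (p i) (g i) := fun i => NormFlat.range_comap_away_quotient (p i) (g i)
  refine ⟨m, A, fun i => inferInstance, fun i => inferInstance, fun i => ?_, fun i j hij => ?_, ?_,
    fun i => ?_, fun i n => NormFlat.flat_gr_baseChange J₀ M₀ (A i) (hP i) n⟩
  · rw [show algebraMap A₀ (A i) = (algebraMap (A₀ ⧸ p i) (A i)).comp (Ideal.Quotient.mk (p i)) from rfl,
      CommRingCat.ofHom_comp, Spec.map_comp]
    haveI : IsClosedImmersion (Spec.map (CommRingCat.ofHom (Ideal.Quotient.mk (p i)))) :=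
      IsClosedImmersion.spec_of_surjective _ Ideal.Quotient.mk_surjective
    haveI : IsOpenImmersion (Spec.map (CommRingCat.ofHom (algebraMap (A₀ ⧸ p i) (A i)))) :=
      IsOpenImmersion.of_isLocalization (Ideal.Quotient.mk (p i) (g i))
    infer_instance
  · rw [hrange, hrange]
    refine Set.disjoint_left.2 fun x hxi hxj => ?_
    rcases lt_or_gt_of_ne hij with h | h
    · exact hxi.2 (hord i j h x hxj)
    · exact hxj.2 (hord j i h x hxi)
  · refine Set.eq_univ_of_forall fun x => ?_
    obtain ⟨i, hi⟩ := hcov x bot_le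
    exact Set.mem_iUnion.2 ⟨i, (hrange i).symm ▸ hi⟩
  · refine ⟨(PrimeSpectrum.basicOpen (g i) : Set (PrimeSpectrum A₀)), (PrimeSpectrum.basicOpen (g i)).isOpen, ?_⟩
    simp only [hrange]
    ext x
    simp only [Set.mem_inter_iff, Set.mem_iUnion]
    constructor
    · rintro ⟨hx, j, hj, hxj⟩
      rcases eq_or_lt_of_le hj with rfl | h
      · exact hxj
      · exact absurd (hord i j h x hxj) hx
    · exact fun hx => ⟨hx.2, i, le_rfl, hx⟩

end Groth.Agent.S12134
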