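import Groth.Statements.S12136
import Mathlib
import Groth.Agent.EGA41Lib.AdicQuot

set_option autoImplicit false
universe u
open TensorProduct KaehlerDifferential
open EGA41

namespace Groth.Agent.S12136

/-- In the Noetherian adic case, which the published statement itself singles out, let A → B be a ring
homomorphism with B Noetherian, I and J ideals of B, and suppose B, with the I-adic topology, is
formally smooth over the discrete ring A. Put C = B/J with the quotient (IC-adic) topology and let Q
be an ideal of definition of C, i.e. an ideal containing a power of IC and a power of which lies in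
IC. Then C is formally smooth over A for the IC-adic topology if and only if the C/Q-linear map
(J/J²) ⊗ (C/Q) → Ω_{B/A} ⊗_B (C/Q), obtained by base change from the conormal map J/J² → Ω_{B/A} ⊗_B
C, x ↦ 1 ⊗ dx, has a C/Q-linear left inverse (is an isomorphism onto a direct summand). Here J is
written as the kernel of B → C and the tensor products are taken over B, which for these C-modules
is the same as over C. (The published statement allows A to be any topological ring with A → B
continuous; this row takes A discrete.) -/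
theorem result {A B : Type u} [CommRing A]
    [CommRing B] [Algebra A B] [IsNoetherianRing B] (I J : Ideal B) (hB : CAlgX.IsAdicFormallySmooth A B I)
    (Q : Ideal (B ⧸ J)) (hQ : ∃ n : ℕ, (I.map (Ideal.Quotient.mk J)) ^ n ≤ Q)
    (hQ' : ∃ m : ℕ, Q ^ m ≤ I.map (Ideal.Quotient.mk J)) :
    CAlgX.IsAdicFormallySmooth A (B ⧸ J) (I.map (Ideal.Quotient.mk J)) ↔
      ∃ g : ((B ⧸ J) ⧸ Q) ⊗[B] ((B ⧸ J) ⊗[B] Ω[B⁄A]) →ₗ[(B ⧸ J) ⧸ Q]
          ((B ⧸ J) ⧸ Q) ⊗[B] (RingHom.ker (algebraMap B (B ⧸ J))).Cotangent,
        g ∘ₗ LinearMap.baseChange ((B ⧸ J) ⧸ Q) (KaehlerDifferential.kerCotangentToTensor A B (B ⧸ J)) =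
          LinearMap.id := by
  obtain ⟨n, hn⟩ := hQ
  refine ⟨fun h => EGA41Lib.AdicQuot.exists_leftInverse (AdicFS.Basic.mono ⟨n, hn⟩ h), fun ⟨g, hg⟩ => ?_⟩
  refine AdicFS.Basic.mono hQ' (EGA41Lib.AdicQuot.of_leftInverse hB ⟨n, fun x hx => ?_⟩ g hg)
  exact Ideal.Quotient.eq_zero_iff_mem.mpr (hn (by rw [← Ideal.map_pow]; exact Ideal.mem_map_of_mem _ hx))

end Groth.Agent.S12136
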