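import Groth.Statements.S12137
import Groth.Agent.RelConeLib.Chart

set_option autoImplicit false
universe u
open CategoryTheory CategoryTheory.Limits AlgebraicGeometry Opposite TopologicalSpace
open scoped HomogeneousIdeal
noncomputable section
open EGA2

namespace Groth.Agent.S12137

/-- Let Y be a scheme, 𝒜 a quasi-coherent O_Y-algebra and Ŝ = 𝒜[T], graded with 𝒜 in degree 0 and T in
degree 1 — presented through a homomorphism of algebras ι : 𝒜 → Ŝ landing in degree 0 and a global
section z of Ŝ of degree 1 such that, over every affine open U, the map 𝒜(U)[X] → Ŝ(U) sending X to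
z is bijective — and let p : P → Y with its charts be the relative homogeneous spectrum Proj(Ŝ). For
each affine open U let θ_U : Ŝ(U)_(z) → 𝒜(U) be the ring isomorphism sending ι(a) z^k / z^k to a.
Then there is a unique morphism i : Spec(𝒜) → P which, on the chart Spec 𝒜(U) of Spec(𝒜) over each
affine open U, is Spec(θ_U) followed by the open immersion of D_+(z|U) into Proj Ŝ(U) and the chart
of P; moreover i is an isomorphism and lies over Y. In particular Proj(O_Y[T]) is Y. -/
theorem result {Y P : Scheme.{u}} (𝒜 : RelSpec.QCAlg Y) (Sh : RelProj.QCGrAlg Y)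
    (ι : 𝒜 ⟶ Sh.toQCAlg)
    (hι : ∀ (U : Y.Opens) (hU : IsAffineOpen U) (a : 𝒜.presheaf.obj (op U)), (ι.hom.app (op U)).hom a ∈ Sh.deg U hU 0)
    (z : Sh.presheaf.obj (op ⊤))
    (hz : ∀ (U : Y.Opens) (hU : IsAffineOpen U), (Sh.presheaf.map (homOfLE le_top).op).hom z ∈ Sh.deg U hU 1)
    (hpoly : ∀ (U : Y.Opens) (hU : IsAffineOpen U),
      Function.Bijective (Polynomial.eval₂RingHom (ι.hom.app (op U)).hom ((Sh.presheaf.map (homOfLE le_top).op).hom z)))
    (p : P ⟶ Y)
    (chart : ∀ (U : Y.Opens) (hU : IsAffineOpen U), (((p ⁻¹ᵁ U : P.Opens) : Scheme.{u}) ≅ Proj (Sh.deg U hU)))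
    (hP : RelProj.IsRelProj Sh p chart)
    (θ : ∀ (U : Y.Opens) (hU : IsAffineOpen U),
      CommRingCat.of (HomogeneousLocalization.Away (Sh.deg U hU) ((Sh.presheaf.map (homOfLE le_top).op).hom z)) ⟶
        𝒜.presheaf.obj (op U))
    (hθ : ∀ (U : Y.Opens) (hU : IsAffineOpen U)
      (q : HomogeneousLocalization.Away (Sh.deg U hU) ((Sh.presheaf.map (homOfLE le_top).op).hom z))
      (k : ℕ) (a : 𝒜.presheaf.obj (op U)),
        q.val = Localization.mk ((ι.hom.app (op U)).hom a * (Sh.presheaf.map (homOfLE le_top).op).hom z ^ k)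
          ⟨(Sh.presheaf.map (homOfLE le_top).op).hom z ^ k,
            pow_mem (Submonoid.mem_powers ((Sh.presheaf.map (homOfLE le_top).op).hom z)) k⟩ →
        (θ U hU).hom q = a) :
    (∃! i : 𝒜.spec ⟶ P, ∀ (U : Y.Opens) (hU : IsAffineOpen U),
        𝒜.ι U hU ≫ i =
          Spec.map (θ U hU) ≫
            Proj.awayι (Sh.deg U hU) ((Sh.presheaf.map (homOfLE le_top).op).hom z) (hz U hU) one_pos ≫
              RelProj.emb p chart U hU) ∧
      ∀ i : 𝒜.spec ⟶ P, (∀ (U : Y.Opens) (hU : IsAffineOpen U),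
        𝒜.ι U hU ≫ i =
          Spec.map (θ U hU) ≫
            Proj.awayι (Sh.deg U hU) ((Sh.presheaf.map (homOfLE le_top).op).hom z) (hz U hU) one_pos ≫
              RelProj.emb p chart U hU) →
        IsIso i ∧ i ≫ p = 𝒜.π := by
  classical
  let D : RelConeLib.PolyData ι z := ⟨hz, hpoly⟩
  have eθ : ∀ (U : Y.Opens) (hU : IsAffineOpen U), θ U hU = CommRingCat.ofHom (D.θ U hU) := fun U hU =>
    CommRingCat.hom_ext (RelConeLib.eq_awayTo (hpoly U hU) (hz U hU) (θ U hU).hom fun a => by
      refine hθ U hU _ 0 a ?_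
      rw [ZetaLib.dehom_of_mem _ (hz U hU) (hι U hU a), HomogeneousLocalization.Away.val_mk]
      congr 1
      simp)
  have key : ∀ i : 𝒜.spec ⟶ P, (∀ (U : Y.Opens) (hU : IsAffineOpen U),
      𝒜.ι U hU ≫ i =
        Spec.map (θ U hU) ≫
          Proj.awayι (Sh.deg U hU) ((Sh.presheaf.map (homOfLE le_top).op).hom z) (hz U hU) one_pos ≫
            RelProj.emb p chart U hU) ↔ RelConeLib.IsImm D p chart i := fun i =>
    forall_congr' fun U => forall_congr' fun hU => by
      rw [eθ U hU]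
      exact ⟨fun h => h.trans (Category.assoc _ _ _).symm, fun h => h.trans (Category.assoc _ _ _)⟩
  obtain ⟨i, hi, hu⟩ := RelConeLib.existsUnique_isImm D hP
  refine ⟨⟨i, (key i).2 hi, fun j hj => hu j ((key j).1 hj)⟩, fun j hj => ?_⟩
  refine ⟨RelConeLib.property_of_charts (MorphismProperty.isomorphisms Scheme) hP ((key j).1 hj) fun U hU => ?_,
    RelConeLib.comp_π hP ((key j).1 hj)⟩
  have := RelConeLib.isOpenImmersion_coneChart (ℬ := Sh.deg U hU) (D.E U hU) (D.E_z U hU) (D.deg_z U hU)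
    (D.bijective_θ U hU)
  show IsIso (D.c U hU)
  refine isIso_of_isOpenImmersion_of_opensRange_eq_top _ (top_le_iff.1 fun y _ => ?_)
  show y ∈ Set.range (D.c U hU)
  rw [RelConeLib.range_coneChart _ _ _ (D.bijective_θ U hU)]
  intro hy
  refine y.not_irrelevant_le ((HomogeneousIdeal.irrelevant_le _).2 fun n hn b hb => ?_)
  obtain ⟨a, c, rfl⟩ := RelConeLib.exists_eq_add_z_mul (hpoly U hU) b
  rw [← DirectSum.decompose_of_mem_same (Sh.deg U hU) hb, DirectSum.decompose_add, DirectSum.add_apply,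
    AddMemClass.coe_add, DirectSum.decompose_of_mem_ne (Sh.deg U hU) (hι U hU a) (Nat.ne_of_lt hn), zero_add]
  exact y.asHomogeneousIdeal.isHomogeneous n (Ideal.mul_mem_right c _ hy)

end Groth.Agent.S12137
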