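import Groth.Statements.S1214
import Mathlib.RingTheory.AdicCompletion.Basic
import Mathlib.LinearAlgebra.TensorProduct.Basic

set_option autoImplicit false

universe u
open FlatMor

namespace Groth.Agent.S1214

open TensorProduct in
theorem bijective_one_sub {R N : Type u} [CommRing R] [AddCommGroup N] [Module R N] (I : Ideal R)
    [IsAdicComplete I N] (T : N →ₗ[R] N) (hT : ∀ n, T n ∈ (I • ⊤ : Submodule R N)) :
    Function.Bijective (LinearMap.id - T : N →ₗ[R] N) := by
  have hk : ∀ (k : ℕ) (n : N), n ∈ (I ^ k • ⊤ : Submodule R N) → T n ∈ (I ^ (k + 1) • ⊤ : Submodule R N) := by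
    intro k n hn
    have := Submodule.mem_map_of_mem (f := T) hn
    rw [Submodule.map_smul''] at this
    rw [pow_succ, Submodule.mul_smul]
    exact Submodule.smul_mono le_rfl (by rintro _ ⟨w, _, rfl⟩; exact hT w) this
  have hp : ∀ (k : ℕ) (n : N), (T ^ k) n ∈ (I ^ k • ⊤ : Submodule R N) := by
    intro k
    induction k with
    | zero => intro n; simp
    | succ k ih => intro n; rw [pow_succ' T, Module.End.mul_apply]; exact hk k _ (ih n)
  refine ⟨?_, fun y => ?_⟩
  · rw [injective_iff_map_eq_zero]
    intro n hn
    have hn' : T n = n := (sub_eq_zero.mp hn).symm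
    refine IsHausdorff.haus (I := I) inferInstance n fun k => ?_
    rw [SModEq.zero]
    have : (T ^ k) n = n := by
      induction k with
      | zero => rfl
      | succ k ih => rw [pow_succ', Module.End.mul_apply, ih, hn']
    exact this ▸ hp k n
  · let S : ℕ → N := fun k => ∑ i ∈ Finset.range k, (T ^ i) y
    have hS : ∀ k, S k - T (S k) = y - (T ^ k) y := by
      intro k
      induction k with
      | zero => simp [S]
      | succ k ih =>
        simp only [S, Finset.sum_range_succ, map_add, pow_succ', Module.End.mul_apply] at *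
        linear_combination (norm := abel) ih
    obtain ⟨L, hL⟩ := IsPrecomplete.prec (I := I) inferInstance (f := S) (fun {m n} hmn => by
      rw [SModEq.sub_mem, ← Submodule.neg_mem_iff, neg_sub]
      show (∑ i ∈ Finset.range n, (T ^ i) y) - ∑ i ∈ Finset.range m, (T ^ i) y ∈ _
      rw [← Finset.sum_Ico_eq_sub _ hmn]
      exact Submodule.sum_mem _ fun i hi =>
        Submodule.smul_mono_left (Ideal.pow_le_pow_right (Finset.mem_Ico.mp hi).1) (hp i y))
    refine ⟨L, ?_⟩
    rw [← sub_eq_zero]
    refine IsHausdorff.haus (I := I) inferInstance _ fun k => ?_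
    rw [SModEq.zero]
    have h1 : L - S k ∈ (I ^ k • ⊤ : Submodule R N) := by
      rw [← Submodule.neg_mem_iff, neg_sub]
      exact SModEq.sub_mem.mp (hL k)
    have h2 : (LinearMap.id - T : N →ₗ[R] N) L - y = (L - S k) - T (L - S k) - (T ^ k) y := by
      simp only [LinearMap.sub_apply, LinearMap.id_coe, id_eq, map_sub]
      linear_combination (norm := abel) hS k
    rw [h2]
    exact sub_mem (sub_mem h1 (Submodule.smul_mono_left (Ideal.pow_le_pow_right (Nat.le_succ k)) (hk k _ h1))) (hp k y)

open TensorProduct in
theorem eq_zero_of_bij {R N : Type u} [CommRing R] [AddCommGroup N] [Module R N] (U : N →ₗ[R] N)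
    (hU : Function.Bijective U) {M : Type u} [AddCommGroup M] [Module R M] (x : N ⊗[R] M)
    (hx : U.rTensor M x = 0) : x = 0 :=
  ((LinearEquiv.ofBijective U hU).rTensor M).injective (hx.trans (map_zero _).symm)

open TensorProduct in
/-- Let R → S be a ring map, I an ideal of R and N an S-module which is I-adically complete. Then for
every R-module M and every prime q of S which is the annihilator of an element of the S-module N ⊗_R
M we have q + IS ≠ S. -/
theorem result {R S : Type u} [CommRing R] [CommRing S] [Algebra R S] (I : Ideal R)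
    (N : Type u) [AddCommGroup N] [Module S N] [Module R N] [IsScalarTower R S N] [IsAdicComplete I N]
    (M : Type u) [AddCommGroup M] [Module R M]
    (q : Ideal S) [q.IsPrime] (hq : q ∈ FlatCA.ass S (N ⊗[R] M)) :
    q ⊔ I.map (algebraMap R S) ≠ ⊤ := by
  intro htop
  obtain ⟨hqp, x, hx⟩ := hq
  rw [Ideal.eq_top_iff_one, Submodule.mem_sup] at htop
  obtain ⟨a, ha, b, hb, hab⟩ := htop
  rw [hx, Submodule.mem_annihilator_span_singleton] at ha
  refine hqp.ne_top ((Ideal.eq_top_iff_one q).mpr ?_)
  rw [hx, Submodule.mem_annihilator_span_singleton, one_smul]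
  have hbx : b • x = x := by
    have h := congrArg (fun s : S => s • x) hab
    simpa [add_smul, ha] using h
  let T : N →ₗ[R] N := (LinearMap.lsmul S N b).restrictScalars R
  have hT : ∀ n, T n ∈ (I • ⊤ : Submodule R N) := by
    intro n
    show b • n ∈ _
    clear hab hbx
    induction hb using Submodule.span_induction generalizing n with
    | mem z hz =>
      obtain ⟨i, hi, rfl⟩ := hz
      rw [algebraMap_smul]
      exact Submodule.smul_mem_smul hi trivial
    | zero => simp
    | add y z _ _ ihy ihz => rw [add_smul]; exact add_mem (ihy n) (ihz n)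
    | smul s z _ ih => rw [smul_eq_mul, mul_comm, mul_smul]; exact ih (s • n)
  have hTx : T.rTensor M x = x := by
    refine Eq.trans ?_ hbx
    clear hbx hx ha
    induction x with
    | zero => simp
    | tmul n m => simp [T, TensorProduct.smul_tmul']
    | add y z hy hz => simp only [map_add, hy, hz, smul_add]
  exact eq_zero_of_bij (LinearMap.id - T) (bijective_one_sub I T hT) x
    (by simp only [LinearMap.rTensor_sub, LinearMap.sub_apply, LinearMap.rTensor_id, LinearMap.id_coe, id_eq, hTx, sub_self])

end Groth.Agent.S1214
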