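import Groth.Statements.S12140
import Groth.Agent.RelProjLib.QMap

set_option autoImplicit false
universe u
open CategoryTheory CategoryTheory.Limits AlgebraicGeometry TopologicalSpace Opposite
open scoped HomogeneousIdeal
noncomputable section
open EGA2

namespace Groth.Agent.S12140

/-- Let φ : 𝒜 → ℬ be a graded homomorphism of quasi-coherent positively graded O_Y-algebras, PA =
Proj(𝒜), PB = Proj(ℬ) with their charts, G(φ) ⊆ PB the open on which the induced morphism is defined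
and Φ = Proj(φ) : G(φ) → PA that morphism (pinned on the standard affine charts of G(φ)). Then Φ is
affine, and for every affine open U of Y the part of G(φ) over U is the image, under the chart of PB
over U, of the open G(φ(U)) of Proj ℬ(U) where the morphism of homogeneous spectra induced by φ(U) :
𝒜(U) → ℬ(U) is defined. -/
theorem result {Y PA PB : Scheme.{u}} (𝒜 ℬ : RelProj.QCGrAlg Y)
    (φ : 𝒜.toQCAlg ⟶ ℬ.toQCAlg) (hφ : RelProj.IsGradedHom φ)
    (pA : PA ⟶ Y) (chartA : ∀ (U : Y.Opens) (hU : IsAffineOpen U), (((pA ⁻¹ᵁ U : PA.Opens) : Scheme.{u}) ≅ Proj (𝒜.deg U hU)))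
    (hA : RelProj.IsRelProj 𝒜 pA chartA)
    (pB : PB ⟶ Y) (chartB : ∀ (U : Y.Opens) (hU : IsAffineOpen U), (((pB ⁻¹ᵁ U : PB.Opens) : Scheme.{u}) ≅ Proj (ℬ.deg U hU)))
    (hB : RelProj.IsRelProj ℬ pB chartB)
    (Φ : ((RelProj.domQ (RelProj.QGrHom.ofHom φ hφ) pB chartB : PB.Opens) : Scheme.{u}) ⟶ PA)
    (hΦ : RelProj.IsProjQMapOn (RelProj.QGrHom.ofHom φ hφ) pA chartA pB chartB
      (RelProj.domQ (RelProj.QGrHom.ofHom φ hφ) pB chartB) Φ) :
    IsAffineHom Φ ∧
      ∀ (U : Y.Opens) (hU : IsAffineOpen U),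
        RelProj.domQ (RelProj.QGrHom.ofHom φ hφ) pB chartB ⊓ pB ⁻¹ᵁ U =
          (RelProj.emb pB chartB U hU) ''ᵁ RelCone.domOpen (RelProj.gradedHomAt φ hφ U hU) := by
  let u := RelProj.QGrHom.ofHom φ hφ
  have hcomp := Groth.Agent.RelProjLib.comp_of_isProjQMapOn u pA pB hA hB hΦ
  have hgr : ∀ (U : Y.Opens) (hU : IsAffineOpen U) (h : U ≤ (𝟙 Y : Y ⟶ Y) ⁻¹ᵁ U),
      u.gradedAt U hU U hU h = RelProj.gradedHomAt φ hφ U hU := by
    intro U hU h
    apply GradedRingHom.ext
    intro x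
    exact congr($(ℬ.presheaf.map_id (op U)).hom ((φ.hom.app (op U)).hom x))
  refine ⟨?_, fun U hU => ?_⟩
  · rw [HasAffineProperty.iff_of_iSup_eq_top (P := @IsAffineHom)
      (fun j : Σ U : Y.affineOpens, {q : ℕ × 𝒜.presheaf.obj (op U.1) // 0 < q.1 ∧ q.2 ∈ 𝒜.deg U.1 U.2 q.1} =>
        (⟨(RelProj.emb pA chartA j.1.1 j.1.2) ''ᵁ Proj.basicOpen (𝒜.deg j.1.1 j.1.2) j.2.1.2,
          (Proj.isAffineOpen_basicOpen _ _ j.2.2.2 j.2.2.1).image_of_isOpenImmersion _⟩ : PA.affineOpens)) ?_]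
    · rintro ⟨⟨U, hU'⟩, ⟨d, f⟩, hd, hf⟩
      have hU : IsAffineOpen U := hU'
      have hle : U ≤ (𝟙 Y : Y ⟶ Y) ⁻¹ᵁ U := le_refl U
      have hW := RelProj.range_awayEmb_subset_domQ u pB chartB U hU U hU hle hd f hf
      let l := IsOpenImmersion.lift (RelProj.domQ u pB chartB).ι
        (RelProj.awayEmb u pB chartB U hU U hU hle hd f hf) hW
      have hl : l ≫ (RelProj.domQ u pB chartB).ι = RelProj.awayEmb u pB chartB U hU U hU hle hd f hf :=
        IsOpenImmersion.lift_fac _ _ _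
      have : IsOpenImmersion (RelProj.awayEmb u pB chartB U hU U hU hle hd f hf) :=
        Groth.Agent.RelProjLib.isOpenImmersion_e u pB chartB ⟨U, hU, U, hU, hle, d, hd, f, hf⟩
      have : IsOpenImmersion (l ≫ (RelProj.domQ u pB chartB).ι) := by rw [hl]; infer_instance
      have : IsOpenImmersion l := IsOpenImmersion.of_comp l (RelProj.domQ u pB chartB).ι
      have e : Φ ⁻¹ᵁ ((RelProj.emb pA chartA U hU) ''ᵁ Proj.basicOpen (𝒜.deg U hU) f) = l.opensRange := by
        apply le_antisymm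
        · intro x hx
          have hxU : pB x.1 ∈ U := by
            obtain ⟨w, -, hw⟩ := hx
            have h : RelProj.emb pA chartA U hU w ∈ (RelProj.emb pA chartA U hU).opensRange := ⟨w, rfl⟩
            rw [Groth.Agent.RelProjLib.emb_opensRange] at h
            change pA (RelProj.emb pA chartA U hU w) ∈ U at h
            rw [show RelProj.emb pA chartA U hU w = Φ x from hw, ← Scheme.Hom.comp_apply, hcomp] at h
            exact h
          obtain ⟨x, hxd⟩ := x
          have hxr : x ∈ (RelProj.emb pB chartB U hU).opensRange := by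
            rw [Groth.Agent.RelProjLib.emb_opensRange]; exact hxU
          obtain ⟨y, rfl⟩ := hxr
          have hy := (Groth.Agent.RelProjLib.mem_image_basicOpen_iff u pA pB hA hB hΦ hU hU hle hd hf y hxd).1 hx
          obtain ⟨z, hz⟩ := (Groth.Agent.RelProjLib.mem_range_e u pB chartB
            (i := ⟨U, hU, U, hU, hle, d, hd, f, hf⟩)).2 ⟨y, rfl, hy⟩
          refine ⟨z, (RelProj.domQ u pB chartB).ι.isOpenEmbedding.injective ?_⟩
          rw [← Scheme.Hom.comp_apply, hl]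
          exact hz
        · rintro x ⟨z, rfl⟩
          have hz : Φ (l z) ∈ (RelProj.emb pA chartA U hU) ''ᵁ Proj.basicOpen (𝒜.deg U hU) f := by
            rw [← Scheme.Hom.comp_apply, hΦ U hU U hU hle d hd f hf hW, Scheme.Hom.comp_apply, Scheme.Hom.comp_apply]
            exact ⟨_, (Proj.opensRange_awayι (𝒜.deg U hU) f hf hd).le ⟨_, rfl⟩, rfl⟩
          exact hz
      show IsAffineOpen (Φ ⁻¹ᵁ _)
      rw [e]
      exact isAffineOpen_opensRange l
    · rw [eq_top_iff]
      intro x _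
      obtain ⟨U, hU, y, rfl⟩ := Groth.Agent.RelProjLib.exists_emb_apply_eq (p := pA) (chart := chartA) x
      obtain ⟨s, hs⟩ := Opens.mem_iSup.1 (((Proj.affineOpenCover (𝒜.deg U hU)).openCover.iSup_opensRange).ge
        (Set.mem_univ y))
      refine Opens.mem_iSup.2 ⟨⟨⟨U, hU⟩, ⟨(s.1.1, s.2.1), s.1.2, s.2.2⟩⟩, y, ?_, rfl⟩
      exact (Proj.opensRange_awayι (𝒜.deg U hU) (s.2 : 𝒜.presheaf.obj (op U)) s.2.2 s.1.2).le hs
  · ext x
    constructor
    · rintro ⟨hxd, hxU⟩
      have hxr : x ∈ (RelProj.emb pB chartB U hU).opensRange := by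
        rw [Groth.Agent.RelProjLib.emb_opensRange]; exact hxU
      obtain ⟨y, rfl⟩ := hxr
      exact ⟨y, hgr U hU (le_refl U) ▸
        (Groth.Agent.RelProjLib.mem_domQ_iff u pA pB hA hB hU hU (le_refl U) y).1 hxd, rfl⟩
    · rintro ⟨y, hy, rfl⟩
      refine ⟨(Groth.Agent.RelProjLib.mem_domQ_iff u pA pB hA hB hU hU (le_refl U) y).2
        ((hgr U hU (le_refl U)).symm ▸ hy), ?_⟩
      rw [← Groth.Agent.RelProjLib.emb_opensRange (chart := chartB) U hU]
      exact ⟨y, rfl⟩

end Groth.Agent.S12140
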