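import Groth.Statements.S12145
import Groth.Agent.SymLib.RLpsi
import Groth.Agent.RelProjLib.Preimage
-- import your own Groth.Agent.* helpers here

set_option autoImplicit false
universe u
open CategoryTheory CategoryTheory.Limits AlgebraicGeometry TopologicalSpace Opposite
open scoped HomogeneousIdeal
noncomputable section
open EGA2

namespace Groth.Agent.S12145

/-- Let q : X → Y be a morphism with Y affine, L an invertible O_X-module, 𝒮L = ⊕_{n≥0} L^{⊗n} its
graded symmetric algebra (whose Proj, presented with its charts, is identified with X by its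
structure morphism pL), 𝒮 a quasi-coherent positively graded O_Y-algebra with S = Γ(Y, 𝒮), ψ : q^*𝒮
→ 𝒮L a graded homomorphism given as a graded q-morphism u = ψ♭ : 𝒮 → q_*𝒮L, P = Proj(𝒮), and r =
r_{L,ψ} : G(ψ) → P the associated morphism on its open of definition G(ψ) ⊆ Proj(𝒮L). Then r is
everywhere defined, i.e. G(ψ) = X, if and only if for every x ∈ X there are an integer n > 0 and s ∈
S_n such that the section t = ψ♭(s) of L^{⊗n} does not vanish at x (x has an affine neighbourhood V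
over which 𝒮L(V)_n = Γ(V, L^{⊗n}) lies in the ideal generated by t|V). -/
theorem result {Y X P PL : Scheme.{u}} (q : X ⟶ Y)
    (L : X.Modules) (hL : PicF.IsInvertible L) (hLq : Coh.IsQCoh L)
    (𝒮 : RelProj.QCGrAlg Y) (𝒮L : RelProj.QCGrAlg X) (j : L ⟶ 𝒮L.toModule) (hj : RelProj.IsGrSymAlg L 𝒮L j)
    (u : RelProj.QGrHom q 𝒮 𝒮L)
    (p : P ⟶ Y) (chart : ∀ (U : Y.Opens) (hU : IsAffineOpen U), (((p ⁻¹ᵁ U : P.Opens) : Scheme.{u}) ≅ Proj (𝒮.deg U hU)))
    (hP : RelProj.IsRelProj 𝒮 p chart)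
    (pL : PL ⟶ X) (chartL : ∀ (U : X.Opens) (hU : IsAffineOpen U), (((pL ⁻¹ᵁ U : PL.Opens) : Scheme.{u}) ≅ Proj (𝒮L.deg U hU)))
    (hPL : RelProj.IsRelProj 𝒮L pL chartL)
    (hY : IsAffineOpen (⊤ : Y.Opens)) :
    RelProj.domQ u pL chartL = ⊤ ↔
      ∀ x : X, ∃ (n : ℕ) (_ : 0 < n) (s : 𝒮.presheaf.obj (op ⊤)) (_ : s ∈ 𝒮.deg ⊤ hY n)
        (V : X.Opens) (hV : IsAffineOpen V), x ∈ V ∧
          ((𝒮L.deg V hV n : AddSubgroup (𝒮L.presheaf.obj (op V))) : Set (𝒮L.presheaf.obj (op V))) ⊆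
            (Ideal.span {(u.appLE ⊤ V (le_top.trans (Scheme.Hom.preimage_top q).ge)).hom s} : Set (𝒮L.presheaf.obj (op V))) := by
  have : L.IsQuasicoherent := hLq
  have htop : ∀ V : X.Opens, V ≤ q ⁻¹ᵁ (⊤ : Y.Opens) := fun V => le_top.trans (Scheme.Hom.preimage_top q).ge
  have cover : ∀ x : X, ∃ (V U₀ : X.Opens) (e : Fin 1 → Γ(L, U₀)),
      IsAffineOpen V ∧ x ∈ V ∧ V ≤ U₀ ∧ LFFrame.IsFrame L U₀ e := fun x => by
    obtain ⟨U₀, hx, ⟨φ⟩⟩ := hL x
    obtain ⟨e, he⟩ := LFFrame.exists_isFrame_of_split (M := L) (fun _ : Fin 1 => φ.inv) (fun _ => φ.hom)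
      (fun i j => by simp [Subsingleton.elim i j]) (by simp)
    obtain ⟨_, ⟨V, hV, rfl⟩, hxV, hVU⟩ := X.isBasis_affineOpens.exists_subset_of_mem_open hx U₀.2
    exact ⟨V, U₀, e, hV, hxV, hVU, he⟩
  have lift : ∀ (V : X.Opens) (hV : IsAffineOpen V) (x : PL), pL x ∈ V →
      ∃ y, RelProj.emb pL chartL V hV y = x := fun V hV x hx => by
    have h : x ∈ (RelProj.emb pL chartL V hV).opensRange := by rw [RelProjLib.emb_opensRange]; exact hx
    exact h
  constructor
  · intro htop' x₀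
    have : IsIso pL := SymLib.isIso_proj hj hL hPL
    obtain ⟨x, rfl⟩ := pL.surjective x₀
    obtain ⟨V, U₀, e, hV, hxV, hVU, he⟩ := cover (pL x)
    obtain ⟨y, rfl⟩ := lift V hV x hxV
    have hdom := (RelProjLib.mem_domQ_iff u p pL hP hPL hY hV (htop V) y).1 (htop'.ge trivial)
    obtain ⟨a, ha, hay⟩ := (RelCone.mem_domOpen _ _).1 hdom
    obtain ⟨n, hn0, hn⟩ : ∃ n, 0 < n ∧ u.gradedAt ⊤ hY V hV (htop V)
        (DirectSum.decompose (𝒮.deg ⊤ hY) a n : 𝒮.presheaf.obj (op ⊤)) ∉ y.asHomogeneousIdeal := by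
      classical
      by_contra hne
      push Not at hne
      refine hay ?_
      rw [← DirectSum.sum_support_decompose (𝒮.deg ⊤ hY) a, map_sum]
      refine sum_mem fun m _ => ?_
      rcases Nat.eq_zero_or_pos m with rfl | hm
      · rw [HomogeneousIdeal.mem_iff, HomogeneousIdeal.mem_irrelevant_iff, GradedRing.proj_apply] at ha
        rw [ha, map_zero]
        exact zero_mem _
      · exact hne m hm
    obtain ⟨W, hW, i, hxW, hle⟩ := SymLib.exists_nhd_of_notMem hj hPL hV he hVU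
      ((u.gradedAt ⊤ hY V hV (htop V)).2 (SetLike.coe_mem _)) hn
    refine ⟨n, hn0, (DirectSum.decompose (𝒮.deg ⊤ hY) a n : 𝒮.presheaf.obj (op ⊤)), SetLike.coe_mem _, W, hW, hxW, hle.trans (subset_of_eq ?_)⟩
    rw [← RelSpec.QHom.appLE_map u.toQHom (htop V) i]
    rfl
  · intro h
    rw [eq_top_iff]
    intro x _
    obtain ⟨n, hn, s, hs, V, hV, hxV, hle⟩ := h (pL x)
    obtain ⟨y, rfl⟩ := lift V hV x hxV
    have := RelProj.range_awayEmb_subset_domQ u pL chartL ⊤ hY V hV (htop V) hn s hs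
      ((RelProjLib.mem_range_e u pL chartL (i := ⟨⊤, hY, V, hV, htop V, n, hn, s, hs⟩)).2
        ⟨y, rfl, SymLib.notMem_of_deg_le hj hV hn hle y⟩)
    rwa [Scheme.Opens.range_ι] at this

end Groth.Agent.S12145
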