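import Groth.Statements.S12146
import Groth.Agent.SymLib.RLpsi
import Groth.Agent.RelProjLib.Preimage
-- import your own Groth.Agent.* helpers here

set_option autoImplicit false
universe u
open CategoryTheory CategoryTheory.Limits AlgebraicGeometry TopologicalSpace Opposite
open scoped HomogeneousIdeal
noncomputable section
open EGA2

namespace Groth.Agent.S12146

/-- Let q : X → Y be a morphism with Y affine, L an invertible O_X-module, 𝒮L = ⊕_{n≥0} L^{⊗n} its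
graded symmetric algebra (whose Proj, presented with its charts, is identified with X by its
structure morphism pL), 𝒮 a quasi-coherent positively graded O_Y-algebra with S = Γ(Y, 𝒮), ψ : q^*𝒮
→ 𝒮L a graded homomorphism given as a graded q-morphism u = ψ♭ : 𝒮 → q_*𝒮L, P = Proj(𝒮), and r =
r_{L,ψ} : G(ψ) → P the associated morphism on its open of definition G(ψ) ⊆ Proj(𝒮L). Then r is
dominant if and only if for every n > 0, every s ∈ S_n such that ψ♭(s) ∈ Γ(X, L^{⊗n}) is locally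
nilpotent (as a section of the algebra 𝒮L: each point of X has an affine neighbourhood V with
ψ♭(s)|V nilpotent in 𝒮L(V)) is nilpotent. -/
theorem result {Y X P PL : Scheme.{u}} (q : X ⟶ Y)
    (L : X.Modules) (hL : PicF.IsInvertible L) (hLq : Coh.IsQCoh L)
    (𝒮 : RelProj.QCGrAlg Y) (𝒮L : RelProj.QCGrAlg X) (j : L ⟶ 𝒮L.toModule) (hj : RelProj.IsGrSymAlg L 𝒮L j)
    (u : RelProj.QGrHom q 𝒮 𝒮L)
    (p : P ⟶ Y) (chart : ∀ (U : Y.Opens) (hU : IsAffineOpen U), (((p ⁻¹ᵁ U : P.Opens) : Scheme.{u}) ≅ Proj (𝒮.deg U hU)))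
    (hP : RelProj.IsRelProj 𝒮 p chart)
    (pL : PL ⟶ X) (chartL : ∀ (U : X.Opens) (hU : IsAffineOpen U), (((pL ⁻¹ᵁ U : PL.Opens) : Scheme.{u}) ≅ Proj (𝒮L.deg U hU)))
    (hPL : RelProj.IsRelProj 𝒮L pL chartL)
    (r : ((RelProj.domQ u pL chartL : PL.Opens) : Scheme.{u}) ⟶ P)
    (hr : RelProj.IsProjQMapOn u p chart pL chartL (RelProj.domQ u pL chartL) r)
    (hY : IsAffineOpen (⊤ : Y.Opens)) :
    IsDominant r ↔
      ∀ (n : ℕ), 0 < n → ∀ s ∈ 𝒮.deg ⊤ hY n,
        (∀ x : X, ∃ (V : X.Opens) (_ : IsAffineOpen V), x ∈ V ∧ IsNilpotent ((u.appLE ⊤ V (le_top.trans (Scheme.Hom.preimage_top q).ge)).hom s)) →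
          IsNilpotent s := by
  have : L.IsQuasicoherent := hLq
  have htop : ∀ V : X.Opens, V ≤ q ⁻¹ᵁ (⊤ : Y.Opens) := fun V => le_top.trans (Scheme.Hom.preimage_top q).ge
  have cover : ∀ x : X, ∃ (V U₀ : X.Opens) (e : Fin 1 → Γ(L, U₀)),
      IsAffineOpen V ∧ x ∈ V ∧ V ≤ U₀ ∧ LFFrame.IsFrame L U₀ e := fun x => by
    obtain ⟨U₀, hx, ⟨φ⟩⟩ := hL x
    obtain ⟨e, he⟩ := LFFrame.exists_isFrame_of_split (M := L) (fun _ : Fin 1 => φ.inv) (fun _ => φ.hom)
      (fun i j => by simp [Subsingleton.elim i j]) (by simp)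
    obtain ⟨_, ⟨V, hV, rfl⟩, hxV, hVU⟩ := X.isBasis_affineOpens.exists_subset_of_mem_open hx U₀.2
    exact ⟨V, U₀, e, hV, hxV, hVU, he⟩
  have lift : ∀ (V : X.Opens) (hV : IsAffineOpen V) (x : PL), pL x ∈ V →
      ∃ y, RelProj.emb pL chartL V hV y = x := fun V hV x hx => by
    have h : x ∈ (RelProj.emb pL chartL V hV).opensRange := by rw [RelProjLib.emb_opensRange]; exact hx
    exact h
  constructor
  · intro hdom n hn s hs hloc
    refine SymLib.isNilpotent_of_forall_mem hn hs fun y => ?_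
    by_contra hsy
    obtain ⟨⟨x, hx⟩, hxm⟩ := (RelProjLib.isDominant_iff p hP r).1 hdom ⊤ hY n hn s hs ⟨y, hsy⟩
    obtain ⟨V, hV, hxV, k, hk⟩ := hloc (pL x)
    obtain ⟨w, rfl⟩ := lift V hV x hxV
    exact (RelProjLib.mem_preimage_basicOpen_iff u p pL hP hPL hr hY hV (htop V) hn hs w).1 ⟨⟨_, hx⟩, hxm, rfl⟩
      (w.isPrime.mem_of_pow_mem k ((congrArg (· ∈ w.asHomogeneousIdeal.toIdeal) hk).mpr (zero_mem _)))
  · intro h
    refine ⟨fun x => mem_closure_iff.2 fun O hO hxO => ?_⟩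
    obtain ⟨y, rfl⟩ : x ∈ (RelProj.emb p chart ⊤ hY).opensRange := by
      rw [RelProjLib.emb_opensRange]; exact trivial
    obtain ⟨d, hd, f, hf, hfy, hfO⟩ := RelProjLib.exists_basicOpen_subset p hY (O := ⟨O, hO⟩) y hxO
    have hnn : ¬ IsNilpotent f := fun hf' =>
      hfy (y.isPrime.mem_of_pow_mem _ (by rw [hf'.choose_spec]; exact zero_mem _))
    obtain ⟨x₀, hx₀⟩ := not_forall.1 fun hl => hnn (h d hd f hf hl)
    push Not at hx₀
    obtain ⟨_, ⟨V, hV, rfl⟩, hxV, -⟩ :=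
      X.isBasis_affineOpens.exists_subset_of_mem_open (show x₀ ∈ (⊤ : X.Opens) from trivial) isOpen_univ
    obtain ⟨w, hw⟩ : ∃ w : Proj (𝒮L.deg V hV), u.gradedAt ⊤ hY V hV (htop V) f ∉ w.asHomogeneousIdeal := by
      by_contra hne
      push Not at hne
      exact hx₀ V hV hxV (SymLib.isNilpotent_of_forall_mem hd ((u.gradedAt ⊤ hY V hV (htop V)).2 hf) hne)
    obtain ⟨z, hz, -⟩ := (RelProjLib.mem_preimage_basicOpen_iff u p pL hP hPL hr hY hV (htop V) hd hf w).2 hw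
    exact ⟨r z, hfO hz, z, rfl⟩

end Groth.Agent.S12146
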