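import Groth.Statements.S12148
import Groth.Agent.RelProjLib.Comp
import Groth.Agent.RelProjLib.QMapHom
-- import your own Groth.Agent.* helpers here

set_option autoImplicit false
universe u
open CategoryTheory CategoryTheory.Limits AlgebraicGeometry TopologicalSpace Opposite
open scoped HomogeneousIdeal
noncomputable section
open EGA2

namespace Groth.Agent.S12148

/-- Let q : X → Y be a morphism, L an invertible O_X-module with 𝒮L = ⊕ L^{⊗n} (whose Proj, with its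
charts, is X), v : 𝒯 → 𝒮 a graded homomorphism of quasi-coherent positively graded O_Y-algebras, ψ♭
= u : 𝒮 → q_*𝒮L a graded q-morphism and ψ'♭ = u' its composite with v; let r = r_{L,ψ} : G(ψ) →
Proj(𝒮) and r' = r_{L,ψ'} : G(ψ') → Proj(𝒯) be the associated morphisms. If v is (TN)-surjective
(there is n with v : 𝒯_k → 𝒮_k surjective for every k ≥ n, on sections over affine opens) and r' is
dominant, then r is dominant. -/
theorem result {Y X P PL P' : Scheme.{u}} (q : X ⟶ Y)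
    (L : X.Modules) (hL : PicF.IsInvertible L) (hLq : Coh.IsQCoh L)
    (𝒮 : RelProj.QCGrAlg Y) (𝒮L : RelProj.QCGrAlg X) (j : L ⟶ 𝒮L.toModule) (hj : RelProj.IsGrSymAlg L 𝒮L j)
    (u : RelProj.QGrHom q 𝒮 𝒮L)
    (p : P ⟶ Y) (chart : ∀ (U : Y.Opens) (hU : IsAffineOpen U), (((p ⁻¹ᵁ U : P.Opens) : Scheme.{u}) ≅ Proj (𝒮.deg U hU)))
    (hP : RelProj.IsRelProj 𝒮 p chart)
    (pL : PL ⟶ X) (chartL : ∀ (U : X.Opens) (hU : IsAffineOpen U), (((pL ⁻¹ᵁ U : PL.Opens) : Scheme.{u}) ≅ Proj (𝒮L.deg U hU)))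
    (hPL : RelProj.IsRelProj 𝒮L pL chartL)
    (r : ((RelProj.domQ u pL chartL : PL.Opens) : Scheme.{u}) ⟶ P)
    (hr : RelProj.IsProjQMapOn u p chart pL chartL (RelProj.domQ u pL chartL) r)
    (𝒯 : RelProj.QCGrAlg Y) (v : 𝒯.toQCAlg ⟶ 𝒮.toQCAlg) (hv : RelProj.IsGradedHom v)
    (u' : RelProj.QGrHom q 𝒯 𝒮L) (hu' : ∀ U : Y.Opens, u'.app U = v.hom.app (op U) ≫ u.app U)
    (p' : P' ⟶ Y) (chart' : ∀ (U : Y.Opens) (hU : IsAffineOpen U), (((p' ⁻¹ᵁ U : P'.Opens) : Scheme.{u}) ≅ Proj (𝒯.deg U hU)))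
    (hP' : RelProj.IsRelProj 𝒯 p' chart')
    (r' : ((RelProj.domQ u' pL chartL : PL.Opens) : Scheme.{u}) ⟶ P')
    (hr' : RelProj.IsProjQMapOn u' p' chart' pL chartL (RelProj.domQ u' pL chartL) r')
    (hTN : ∃ n : ℕ, ∀ k, n ≤ k → ∀ (U : Y.Opens) (hU : IsAffineOpen U), ∀ y ∈ 𝒮.deg U hU k,
      ∃ x ∈ 𝒯.deg U hU k, (v.hom.app (op U)).hom x = y) (hdom : IsDominant r') :
    IsDominant r := by
  have hpoint : ∀ {U : Y.Opens} (_ : IsAffineOpen U) (x : PL), q (pL x) ∈ U →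
      ∃ (V : X.Opens) (hV : IsAffineOpen V) (_ : V ≤ q ⁻¹ᵁ U) (w : Proj (𝒮L.deg V hV)),
        RelProj.emb pL chartL V hV w = x := fun {U} hU x hxU => by
    obtain ⟨_, ⟨V, hV, rfl⟩, hxV, hVU⟩ :=
      X.isBasis_affineOpens.exists_subset_of_mem_open (show pL x ∈ q ⁻¹ᵁ U from hxU) (q ⁻¹ᵁ U).2
    obtain ⟨w, hw⟩ : x ∈ (RelProj.emb pL chartL V hV).opensRange := by
      rw [RelProjLib.emb_opensRange]; exact hxV
    exact ⟨V, hV, hVU, w, hw⟩
  obtain ⟨n, hn⟩ := hTN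
  refine (RelProjLib.isDominant_iff p hP r).2 fun U hU d hd f hf hne => ?_
  obtain ⟨y, hy⟩ := hne
  obtain ⟨g, hg, hgf⟩ := hn ((n + 1) • d) ((Nat.le_succ n).trans (Nat.le_mul_of_pos_right _ hd)) U hU _
    (SetLike.pow_mem_graded (A := 𝒮.deg U hU) (n + 1) hf)
  have hnn : ¬ IsNilpotent g := fun ⟨k, hk⟩ => hy (y.isPrime.mem_of_pow_mem ((n + 1) * k) (by
    rw [pow_mul, ← hgf, ← map_pow, hk, map_zero]
    exact zero_mem _))
  obtain ⟨z', hz'⟩ : (Proj.basicOpen (𝒯.deg U hU) g : Set (Proj (𝒯.deg U hU))).Nonempty :=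
    Set.nonempty_iff_ne_empty.2 fun he => hnn
      (RelProjLib.isNilpotent_of_forall_mem (Nat.mul_pos (Nat.succ_pos n) hd) hg fun z => by
        by_contra hz
        exact Set.eq_empty_iff_forall_notMem.1 he z hz)
  obtain ⟨⟨x, hx⟩, hxm⟩ := (RelProjLib.isDominant_iff p' hP' r').1 hdom U hU _
    (Nat.mul_pos (Nat.succ_pos n) hd) g hg ⟨z', hz'⟩
  have hxU : q (pL x) ∈ U := by
    have h : r' ⟨x, hx⟩ ∈ (RelProj.emb p' chart' U hU).opensRange := by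
      obtain ⟨w, -, hw⟩ := hxm
      exact ⟨w, hw⟩
    rw [RelProjLib.emb_opensRange] at h
    have e := congr($(RelProjLib.comp_of_isProjQMapOn u' p' pL hP' hPL hr') ⟨x, hx⟩)
    exact e ▸ h
  obtain ⟨V, hV, hVU, w, rfl⟩ := hpoint hU x hxU
  have hw := (RelProjLib.mem_preimage_basicOpen_iff u' p' pL hP' hPL hr' hU hV hVU
    (Nat.mul_pos (Nat.succ_pos n) hd) hg w).1 ⟨_, hxm, rfl⟩
  rw [RelProjLib.gradedAt_comp hu' (hv := hv), GradedRingHom.comp_apply, RelProjLib.gradedAt_ofHom_apply, hgf,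
    map_pow] at hw
  obtain ⟨x', hx', -⟩ := (RelProjLib.mem_preimage_basicOpen_iff u p pL hP hPL hr hU hV hVU hd hf w).2
    fun hm => hw (Ideal.pow_mem_of_mem _ hm _ (Nat.succ_pos n))
  exact ⟨x', hx'⟩

end Groth.Agent.S12148
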