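import Groth.Statements.S12152
import Groth.Agent.RelProjLib.ImmCrit
-- import your own Groth.Agent.* helpers here

set_option autoImplicit false
universe u
open CategoryTheory CategoryTheory.Limits AlgebraicGeometry TopologicalSpace Opposite
open scoped HomogeneousIdeal
noncomputable section
open EGA2

namespace Groth.Agent.S12152

/-- Let q : X → Y be a morphism with Y affine, L an invertible O_X-module with 𝒮L = ⊕ L^{⊗n} (whose Proj
is X), 𝒮 a quasi-coherent positively graded O_Y-algebra with S = Γ(Y, 𝒮), ψ♭ = u : 𝒮 → q_*𝒮L a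
graded q-morphism and r = r_{L,ψ} : G(ψ) → P = Proj(𝒮). For a family s_a ∈ S_{n_a} (n_a > 0) put f_a
= ψ♭(s_a) ∈ Γ(X, L^{⊗n_a}) and let X_{f_a} be the open where f_a does not vanish; conditions: (i)
the X_{f_a} cover X; (ii) the X_{f_a} are affine; (iii) every function t on X_{f_a} is of the form
ψ♭(s') f_a^{-m} with m > 0 and s' ∈ S_{m n_a} (that is, t f_a^m = ψ♭(s') in 𝒮L(X_{f_a})); (v) the
opens D_+(s_a) cover Proj S. Then r is everywhere defined and a closed immersion if and only if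
there is a family (s_a) satisfying (i), (ii), (iii) and (v). -/
theorem result {Y X P PL : Scheme.{u}} (q : X ⟶ Y)
    (L : X.Modules) (hL : PicF.IsInvertible L) (hLq : Coh.IsQCoh L)
    (𝒮 : RelProj.QCGrAlg Y) (𝒮L : RelProj.QCGrAlg X) (j : L ⟶ 𝒮L.toModule) (hj : RelProj.IsGrSymAlg L 𝒮L j)
    (u : RelProj.QGrHom q 𝒮 𝒮L)
    (p : P ⟶ Y) (chart : ∀ (U : Y.Opens) (hU : IsAffineOpen U), (((p ⁻¹ᵁ U : P.Opens) : Scheme.{u}) ≅ Proj (𝒮.deg U hU)))
    (hP : RelProj.IsRelProj 𝒮 p chart)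
    (pL : PL ⟶ X) (chartL : ∀ (U : X.Opens) (hU : IsAffineOpen U), (((pL ⁻¹ᵁ U : PL.Opens) : Scheme.{u}) ≅ Proj (𝒮L.deg U hU)))
    (hPL : RelProj.IsRelProj 𝒮L pL chartL)
    (r : ((RelProj.domQ u pL chartL : PL.Opens) : Scheme.{u}) ⟶ P)
    (hr : RelProj.IsProjQMapOn u p chart pL chartL (RelProj.domQ u pL chartL) r)
    (hY : IsAffineOpen (⊤ : Y.Opens)) :
    (RelProj.domQ u pL chartL = ⊤ ∧ IsClosedImmersion r) ↔
      ∃ (ι : Type u) (n : ι → ℕ) (s : ι → 𝒮.presheaf.obj (op ⊤)) (XT : ι → X.Opens),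
        (∀ a, 0 < n a ∧ s a ∈ 𝒮.deg ⊤ hY (n a)) ∧
        (∀ a, XT a = (⨆ V : {V : X.affineOpens //
          ((𝒮L.deg V.1 V.2 (n a) : AddSubgroup (𝒮L.presheaf.obj (op (V.1 : X.Opens)))) : Set (𝒮L.presheaf.obj (op (V.1 : X.Opens)))) ⊆
            (Ideal.span {(u.appLE ⊤ (V.1 : X.Opens) (le_top.trans (Scheme.Hom.preimage_top q).ge)).hom (s a)} : Set (𝒮L.presheaf.obj (op (V.1 : X.Opens))))},
          (V.1.1 : X.Opens))) ∧
        (⨆ a, XT a) = ⊤ ∧ (∀ a, IsAffineOpen (XT a)) ∧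
        (∀ (a : ι) (t : X.presheaf.obj (op (XT a))), ∃ (m : ℕ) (_ : 0 < m) (s' : 𝒮.presheaf.obj (op ⊤)) (_ : s' ∈ 𝒮.deg ⊤ hY (m * n a)),
            (𝒮L.str.app (op (XT a))).hom t * ((u.appLE ⊤ (XT a) (le_top.trans (Scheme.Hom.preimage_top q).ge)).hom (s a)) ^ m =
              (u.appLE ⊤ (XT a) (le_top.trans (Scheme.Hom.preimage_top q).ge)).hom s') ∧
        (⨆ a, Proj.basicOpen (𝒮.deg ⊤ hY) (s a)) = ⊤ := by
  haveI : L.IsQuasicoherent := hLq
  have hiso : IsIso (RelProj.emb p chart ⊤ hY) := by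
    have : IsIso (p ⁻¹ᵁ ⊤).ι := by rw [Scheme.Hom.preimage_top, ← Scheme.topIso_hom]; infer_instance
    unfold RelProj.emb
    infer_instance
  constructor
  · rintro ⟨hdom, himm⟩
    have haff : ∀ D : P.Opens, IsClosedImmersion (r ∣_ D) := fun D =>
      IsZariskiLocalAtTarget.restrict (P := @IsClosedImmersion) himm _
    obtain ⟨ι, n, s, hn, hcov, hXa, hle, htop⟩ := RelProjLib.exists_family u r hr hj hL hP hPL hY hdom ⊤
      (fun _ _ => trivial) (fun D _ => haveI := haff D; inferInstance)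
    refine ⟨ι, n, s, fun a => RelProjLib.Xs u (n a) (s a), hn, fun a => rfl, hcov, hXa, fun a => ?_,
      top_le_iff.1 fun y _ => ?_⟩
    · have := (RelProjLib.restrict_iff u r hr hj hL hP hPL hY (hn a).1 (hn a).2 @IsClosedImmersion (hXa a)).1
        (haff _)
      exact (RelProjLib.surjective_iff u hY (hn a).1 hj hL hPL (hn a).2 (hXa a)).1
        (RelProjLib.surjective_of_isClosedImmersion_specMap (CommRingCat.ofHom (RelProjLib.awayMapXs u hY (hXa a))))
    · obtain ⟨a, z, hz, hze⟩ := Opens.mem_iSup.1 (htop (Opens.mem_top (RelProj.emb p chart ⊤ hY y)))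
      obtain rfl := (RelProj.emb p chart ⊤ hY).isOpenEmbedding.injective hze
      exact Opens.mem_iSup.2 ⟨a, hz⟩
  · rintro ⟨ι, n, s, XT, hn, hXT, hcov, hXa, h3, h5⟩
    obtain rfl : XT = fun a => RelProjLib.Xs u (n a) (s a) := funext hXT
    obtain ⟨hdom, l, hl, hl'⟩ := RelProjLib.exists_factor u r hr hj hL hP hPL hY @IsClosedImmersion n s hn hcov hXa
      (fun a => IsClosedImmersion.spec_of_surjective _
        ((RelProjLib.surjective_iff u hY (hn a).1 hj hL hPL (hn a).2 (hXa a)).2 (h3 a)))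
    have htop : (⨆ a, RelProj.emb p chart ⊤ hY ''ᵁ Proj.basicOpen (𝒮.deg ⊤ hY) (s a) : P.Opens) = ⊤ :=
      top_le_iff.1 fun z _ => by
        obtain ⟨y, rfl⟩ := (RelProjLib.exists_emb_eq 𝒮 (p := p) (chart := chart) hY (x := z) trivial)
        obtain ⟨a, ha⟩ := Opens.mem_iSup.1 (h5.ge (Opens.mem_top y))
        exact Opens.mem_iSup.2 ⟨a, y, ha, rfl⟩
    have : IsIso (⨆ a, RelProj.emb p chart ⊤ hY ''ᵁ Proj.basicOpen (𝒮.deg ⊤ hY) (s a) : P.Opens).ι := by
      rw [htop, ← Scheme.topIso_hom]; infer_instance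
    exact ⟨hdom, hl ▸ inferInstance⟩

end Groth.Agent.S12152
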