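import Groth.Statements.S12154
import Groth.Agent.RelProjLib.Comp
import Groth.Agent.RelProjLib.QMapHom
-- import your own Groth.Agent.* helpers here

set_option autoImplicit false
universe u
open CategoryTheory CategoryTheory.Limits AlgebraicGeometry TopologicalSpace Opposite
open scoped HomogeneousIdeal
noncomputable section
open EGA2

namespace Groth.Agent.S12154

/-- Let q : X → Y be a morphism, L an invertible O_X-module with 𝒮L = ⊕ L^{⊗n} (whose Proj, with its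
charts, is X), v : 𝒯 → 𝒮 a graded homomorphism of quasi-coherent positively graded O_Y-algebras, ψ♭
= u : 𝒮 → q_*𝒮L a graded q-morphism and ψ'♭ = u' its composite with v; let r = r_{L,ψ} : G(ψ) →
Proj(𝒮) and r' = r_{L,ψ'} : G(ψ') → Proj(𝒯), with r' everywhere defined and v (TN)-surjective (v :
𝒯_k → 𝒮_k surjective for all large k, on sections over affine opens). If r' is an open immersion, so
is r; if r' is a closed immersion, so is r. -/
theorem result {Y X P PL P' : Scheme.{u}} (q : X ⟶ Y)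
    (L : X.Modules) (hL : PicF.IsInvertible L) (hLq : Coh.IsQCoh L)
    (𝒮 : RelProj.QCGrAlg Y) (𝒮L : RelProj.QCGrAlg X) (j : L ⟶ 𝒮L.toModule) (hj : RelProj.IsGrSymAlg L 𝒮L j)
    (u : RelProj.QGrHom q 𝒮 𝒮L)
    (p : P ⟶ Y) (chart : ∀ (U : Y.Opens) (hU : IsAffineOpen U), (((p ⁻¹ᵁ U : P.Opens) : Scheme.{u}) ≅ Proj (𝒮.deg U hU)))
    (hP : RelProj.IsRelProj 𝒮 p chart)
    (pL : PL ⟶ X) (chartL : ∀ (U : X.Opens) (hU : IsAffineOpen U), (((pL ⁻¹ᵁ U : PL.Opens) : Scheme.{u}) ≅ Proj (𝒮L.deg U hU)))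
    (hPL : RelProj.IsRelProj 𝒮L pL chartL)
    (r : ((RelProj.domQ u pL chartL : PL.Opens) : Scheme.{u}) ⟶ P)
    (hr : RelProj.IsProjQMapOn u p chart pL chartL (RelProj.domQ u pL chartL) r)
    (𝒯 : RelProj.QCGrAlg Y) (v : 𝒯.toQCAlg ⟶ 𝒮.toQCAlg) (hv : RelProj.IsGradedHom v)
    (u' : RelProj.QGrHom q 𝒯 𝒮L) (hu' : ∀ U : Y.Opens, u'.app U = v.hom.app (op U) ≫ u.app U)
    (p' : P' ⟶ Y) (chart' : ∀ (U : Y.Opens) (hU : IsAffineOpen U), (((p' ⁻¹ᵁ U : P'.Opens) : Scheme.{u}) ≅ Proj (𝒯.deg U hU)))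
    (hP' : RelProj.IsRelProj 𝒯 p' chart')
    (r' : ((RelProj.domQ u' pL chartL : PL.Opens) : Scheme.{u}) ⟶ P')
    (hr' : RelProj.IsProjQMapOn u' p' chart' pL chartL (RelProj.domQ u' pL chartL) r')
    (hTN : ∃ n : ℕ, ∀ k, n ≤ k → ∀ (U : Y.Opens) (hU : IsAffineOpen U), ∀ y ∈ 𝒮.deg U hU k,
      ∃ x ∈ 𝒯.deg U hU k, (v.hom.app (op U)).hom x = y)
    (hdef : RelProj.domQ u' pL chartL = ⊤) :
    (IsOpenImmersion r' → IsOpenImmersion r) ∧ (IsClosedImmersion r' → IsClosedImmersion r) := by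
  obtain ⟨rv, hrv, -⟩ := RelProjLib.existsUnique_isProjQMapOn (RelProj.QGrHom.ofHom v hv) p' p hP' hP
  obtain ⟨l, hl, hl'⟩ := RelProjLib.exists_comp hu' hr hr' hrv
  have hle := RelProjLib.domQ_comp_le (p' := pL) (chart' := chartL) hu' (hv := hv)
  have hd : RelProj.domQ u pL chartL = ⊤ := top_le_iff.1 (hdef.ge.trans hle)
  have : IsIso (PL.homOfLE hle) := by
    rw [← PL.isoOfEq_hom (hdef.trans hd.symm)]
    infer_instance
  have hr0 : r = inv (PL.homOfLE hle) ≫ l ≫ (RelProj.domQ (RelProj.QGrHom.ofHom v hv) p chart).ι := by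
    rw [hl, IsIso.inv_hom_id_assoc]
  obtain ⟨n, hn⟩ := hTN
  have hn' : ∀ (U : Y.Opens) (hU : IsAffineOpen U) (h : U ≤ (𝟙 Y : Y ⟶ Y) ⁻¹ᵁ U) (k : ℕ), n ≤ k →
      ∀ y ∈ 𝒮.deg U hU k, ∃ x ∈ 𝒯.deg U hU k, (RelProj.QGrHom.ofHom v hv).gradedAt U hU U hU h x = y := by
    intro U hU h k hk y hy
    obtain ⟨x, hx, hxy⟩ := hn k hk U hU y hy
    exact ⟨x, hx, (RelProjLib.gradedAt_ofHom_apply v hv U hU h x).trans hxy⟩
  have hv' := RelProjLib.domQ_eq_top_of_eventually_surjective (RelProj.QGrHom.ofHom v hv) p chart hn'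
  obtain ⟨h, hh⟩ := RelProjLib.exists_isProjQMap (RelProj.QGrHom.ofHom v hv) p' p hP' hP hv'
  have hcl : IsClosedImmersion h :=
    RelProjLib.qmap_property _ @IsClosedImmersion hP' hP hh fun U hU hle d hd f hf =>
      IsClosedImmersion.spec_of_surjective _
        (RelProjLib.away_map_surjective_of_eventually _ (hn' U hU hle) hd hf)
  have erv : rv = (RelProj.domQ (RelProj.QGrHom.ofHom v hv) p chart).ι ≫ h :=
    (RelProjLib.existsUnique_isProjQMapOn (RelProj.QGrHom.ofHom v hv) p' p hP' hP).unique hrv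
      (RelProjLib.isProjQMapOn_of_isProjQMap _ p' p hh)
  have hι : IsIso (RelProj.domQ (RelProj.QGrHom.ofHom v hv) p chart).ι := by
    rw [hv', ← Scheme.topIso_hom]; infer_instance
  have e : r ≫ h = inv (PL.homOfLE hle) ≫ r' := by
    rw [hr0, ← hl', erv]
    simp only [Category.assoc]
  have pb : IsPullback (𝟙 ((RelProj.domQ u pL chartL : PL.Opens) : Scheme.{u})) r (r ≫ h) h := by
    refine ⟨⟨by simp⟩, ⟨PullbackCone.isLimitAux' _ fun c => ⟨c.fst, ?_, ?_, fun h1 _ => ?_⟩⟩⟩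
    · exact Category.comp_id _
    · rw [← cancel_mono h, Category.assoc]
      exact c.condition
    · exact (Category.comp_id _).symm.trans h1
  refine ⟨fun h1 => ?_, fun h1 => ?_⟩
  · have : IsOpenImmersion (r ≫ h) := by rw [e]; infer_instance
    exact MorphismProperty.of_isPullback (P := @IsOpenImmersion) pb this
  · have : IsClosedImmersion (r ≫ h) := by rw [e]; infer_instance
    exact IsClosedImmersion.of_comp r h

end Groth.Agent.S12154
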