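import Groth.Statements.S12155
import Groth.Agent.RelConeLib.Ext

set_option autoImplicit false
universe u
open CategoryTheory CategoryTheory.Limits AlgebraicGeometry TopologicalSpace Opposite
open scoped HomogeneousIdeal
noncomputable section
open EGA2

namespace Groth.Agent.S12155

/-- Let q : Y' → Y be a morphism, φ : 𝒮 → q_*𝒮' a graded q-morphism of quasi-coherent positively graded
algebras with 𝒮_0 = O_Y, 𝒮'_0 = O_{Y'}, φ̂ : 𝒮[z] → q_*𝒮'[z] its extension with φ̂(z) = z, Ĉ =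
Proj(𝒮[z]), Ĉ' = Proj(𝒮'[z]) the projective cones with pointed cones Ê, Ê', and Φ̂ = Proj(φ̂) :
G(φ̂) → Ĉ. Then Φ̂⁻¹(Ê) ⊆ Ê'; moreover if Proj(φ) is everywhere defined on Proj(𝒮'), then Φ̂ is
everywhere defined on Ĉ' and Φ̂⁻¹(Ê) = Ê'. -/
theorem result {Y Y' PC PC' : Scheme.{u}} (q : Y' ⟶ Y)
    (𝒮 : RelProj.QCGrAlg Y) (𝒮' : RelProj.QCGrAlg Y') (h0 : RelCone.StrZeroBij 𝒮) (h0' : RelCone.StrZeroBij 𝒮')
    (u : RelProj.QGrHom q 𝒮 𝒮')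
    (𝒮h : RelProj.QCGrAlg Y) (ι : 𝒮.toQCAlg ⟶ 𝒮h.toQCAlg) (z : 𝒮h.presheaf.obj (op ⊤))
    (hz : RelCone.IsPolyOver 𝒮 𝒮h ι z)
    (pC : PC ⟶ Y) (chartC : ∀ (U : Y.Opens) (hU : IsAffineOpen U), (((pC ⁻¹ᵁ U : PC.Opens) : Scheme.{u}) ≅ Proj (𝒮h.deg U hU)))
    (hC : RelProj.IsRelProj 𝒮h pC chartC)
    (𝒮h' : RelProj.QCGrAlg Y') (ι' : 𝒮'.toQCAlg ⟶ 𝒮h'.toQCAlg) (z' : 𝒮h'.presheaf.obj (op ⊤))
    (hz' : RelCone.IsPolyOver 𝒮' 𝒮h' ι' z')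
    (pC' : PC' ⟶ Y') (chartC' : ∀ (U : Y'.Opens) (hU : IsAffineOpen U), (((pC' ⁻¹ᵁ U : PC'.Opens) : Scheme.{u}) ≅ Proj (𝒮h'.deg U hU)))
    (hC' : RelProj.IsRelProj 𝒮h' pC' chartC')
    (uh : RelProj.QGrHom q 𝒮h 𝒮h')
    (huh : ∀ U : Y.Opens, ι.hom.app (op U) ≫ uh.app U = u.app U ≫ ι'.hom.app (op (q ⁻¹ᵁ U)))
    (huhz : (uh.app ⊤).hom z = RelCone.restrictTop 𝒮h' z' (q ⁻¹ᵁ ⊤))
    (Φh : ((RelProj.domQ uh pC' chartC' : PC'.Opens) : Scheme.{u}) ⟶ PC)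
    (hΦh : RelProj.IsProjQMapOn uh pC chartC pC' chartC' (RelProj.domQ uh pC' chartC') Φh)
    {P' : Scheme.{u}} (p' : P' ⟶ Y') (chart' : ∀ (U : Y'.Opens) (hU : IsAffineOpen U), (((p' ⁻¹ᵁ U : P'.Opens) : Scheme.{u}) ≅ Proj (𝒮'.deg U hU)))
    (hP' : RelProj.IsRelProj 𝒮' p' chart') :
    (RelProj.domQ uh pC' chartC').ι ''ᵁ (Φh ⁻¹ᵁ RelCone.pointedProjCone 𝒮 hz pC chartC) ≤ RelCone.pointedProjCone 𝒮' hz' pC' chartC' ∧
      (RelProj.domQ u p' chart' = ⊤ →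
        RelProj.domQ uh pC' chartC' = ⊤ ∧
          (RelProj.domQ uh pC' chartC').ι ''ᵁ (Φh ⁻¹ᵁ RelCone.pointedProjCone 𝒮 hz pC chartC) = RelCone.pointedProjCone 𝒮' hz' pC' chartC') := by
  have key : ∀ (U : Y.Opens) (hU : IsAffineOpen U) (U' : Y'.Opens) (hU' : IsAffineOpen U') (hle : U' ≤ q ⁻¹ᵁ U)
      (y : Proj (𝒮h'.deg U' hU')), RelProj.domQ u p' chart' = ⊤ →
      y ∈ RelCone.domOpen (RelProj.gradedHomAt ι' hz'.graded U' hU') →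
      ∃ (n : ℕ) (a : 𝒮.presheaf.obj (op U)), 0 < n ∧ a ∈ 𝒮.deg U hU n ∧
        uh.gradedAt U hU U' hU' hle (RelProj.gradedHomAt ι hz.graded U hU a) ∉ y.asHomogeneousIdeal := by
    intro U hU U' hU' hle y htop hy
    obtain ⟨m, b, hm, hb, hby⟩ := (RelConeLib.mem_domOpen_iff _ y).1 hy
    let y₀ : Proj (𝒮'.deg U' hU') :=
      (⟨y.asHomogeneousIdeal.comap (RelProj.gradedHomAt ι' hz'.graded U' hU'),
        Ideal.IsPrime.comap _ (hK := y.isPrime),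
        fun hle => hby (hle (HomogeneousIdeal.mem_irrelevant_of_mem _ hm hb))⟩ : ProjectiveSpectrum (𝒮'.deg U' hU'))
    obtain ⟨P, p, chart, hP⟩ := RelProjLib.exists_isRelProj 𝒮
    obtain ⟨n, a, hn, ha, hay⟩ := (RelConeLib.mem_domOpen_iff _ y₀).1
      ((RelProjLib.mem_domQ_iff u p p' hP hP' hU hU' hle y₀).1 (htop.ge trivial))
    refine ⟨n, a, hn, ha, ?_⟩
    rw [RelConeLib.gradedAt_ι huh hz.graded hz'.graded]
    exact hay
  refine ⟨?_, fun htop => ?_⟩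
  · rintro _ ⟨x, hx, rfl⟩
    obtain ⟨U, hU, hxU, -⟩ := RelConeLib.exists_affine_nhd (q (pC' x.1)) ⊤ trivial
    obtain ⟨U', hU', hxU', hle⟩ := RelConeLib.exists_affine_nhd (pC' x.1) (q ⁻¹ᵁ U) hxU
    obtain ⟨y, hy⟩ := RelProjLib.exists_emb_eq 𝒮h' hU' hxU' (p := pC') (chart := chartC')
    have hyd : RelProj.emb pC' chartC' U' hU' y ∈ RelProj.domQ uh pC' chartC' := hy ▸ x.2
    rw [show x = ⟨_, hyd⟩ from Subtype.ext hy.symm] at hx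
    obtain ⟨n, a, hn, ha, hay⟩ := (RelConeLib.qmap_mem_pointed_iff hz hC hC' hΦh U hU U' hU' hle y hyd).1 hx
    rw [RelConeLib.gradedAt_ι huh hz.graded hz'.graded] at hay
    show (x.1 : PC') ∈ RelCone.pointedProjCone 𝒮' hz' pC' chartC'
    rw [← hy, RelConeLib.mem_pointedProjCone_iff hz' hC' U' hU', RelConeLib.mem_domOpen_iff]
    exact ⟨n, _, hn, (u.gradedAt U hU U' hU' hle).2 ha, hay⟩
  · have hdef : RelProj.domQ uh pC' chartC' = ⊤ := by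
      refine top_le_iff.1 fun x _ => ?_
      obtain ⟨U, hU, hxU, -⟩ := RelConeLib.exists_affine_nhd (q (pC' x)) ⊤ trivial
      obtain ⟨U', hU', hxU', hle⟩ := RelConeLib.exists_affine_nhd (pC' x) (q ⁻¹ᵁ U) hxU
      obtain ⟨y, rfl⟩ := RelProjLib.exists_emb_eq 𝒮h' hU' hxU' (p := pC') (chart := chartC')
      rw [RelProjLib.mem_domQ_iff uh pC pC' hC hC' hU hU' hle, RelConeLib.mem_domOpen_iff]
      by_cases hy : y ∈ RelCone.domOpen (RelProj.gradedHomAt ι' hz'.graded U' hU')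
      · obtain ⟨n, a, hn, ha, hay⟩ := key U hU U' hU' hle y htop hy
        exact ⟨n, _, hn, (RelProj.gradedHomAt ι hz.graded U hU).2 ha, hay⟩
      · refine ⟨1, RelCone.restrictTop 𝒮h z U, one_pos, hz.deg_z U hU, fun hm => ?_⟩
        rw [RelProj.QGrHom.gradedAt_apply, RelConeLib.appLE_z huhz] at hm
        obtain ⟨n, a, hn, ha, hay⟩ := RelConeLib.exists_notMem_of_z_mem (RelProj.gradedHomAt ι' hz'.graded U' hU')
          (hz'.bij U' hU') y hm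
        exact hy ((RelConeLib.mem_domOpen_iff _ y).2 ⟨n, a, hn, ha, hay⟩)
    refine ⟨hdef, le_antisymm ?_ fun x hx => ?_⟩
    · rintro _ ⟨x, hx, rfl⟩
      obtain ⟨U, hU, hxU, -⟩ := RelConeLib.exists_affine_nhd (q (pC' x.1)) ⊤ trivial
      obtain ⟨U', hU', hxU', hle⟩ := RelConeLib.exists_affine_nhd (pC' x.1) (q ⁻¹ᵁ U) hxU
      obtain ⟨y, hy⟩ := RelProjLib.exists_emb_eq 𝒮h' hU' hxU' (p := pC') (chart := chartC')
      have hyd : RelProj.emb pC' chartC' U' hU' y ∈ RelProj.domQ uh pC' chartC' := hy ▸ x.2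
      rw [show x = ⟨_, hyd⟩ from Subtype.ext hy.symm] at hx
      obtain ⟨n, a, hn, ha, hay⟩ := (RelConeLib.qmap_mem_pointed_iff hz hC hC' hΦh U hU U' hU' hle y hyd).1 hx
      rw [RelConeLib.gradedAt_ι huh hz.graded hz'.graded] at hay
      show (x.1 : PC') ∈ RelCone.pointedProjCone 𝒮' hz' pC' chartC'
      rw [← hy, RelConeLib.mem_pointedProjCone_iff hz' hC' U' hU', RelConeLib.mem_domOpen_iff]
      exact ⟨n, _, hn, (u.gradedAt U hU U' hU' hle).2 ha, hay⟩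
    · obtain ⟨U, hU, hxU, -⟩ := RelConeLib.exists_affine_nhd (q (pC' x)) ⊤ trivial
      obtain ⟨U', hU', hxU', hle⟩ := RelConeLib.exists_affine_nhd (pC' x) (q ⁻¹ᵁ U) hxU
      obtain ⟨y, rfl⟩ := RelProjLib.exists_emb_eq 𝒮h' hU' hxU' (p := pC') (chart := chartC')
      have hyd : RelProj.emb pC' chartC' U' hU' y ∈ RelProj.domQ uh pC' chartC' := hdef.ge trivial
      exact ⟨⟨_, hyd⟩, (RelConeLib.qmap_mem_pointed_iff hz hC hC' hΦh U hU U' hU' hle y hyd).2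
        (key U hU U' hU' hle y htop ((RelConeLib.mem_pointedProjCone_iff hz' hC' U' hU' y).1 hx)), rfl⟩

end Groth.Agent.S12155
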