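import Groth.Statements.S12157
import Groth.Agent.RelConeLib.Ext

set_option autoImplicit false
universe u
open CategoryTheory CategoryTheory.Limits AlgebraicGeometry TopologicalSpace Opposite
open scoped HomogeneousIdeal
noncomputable section
open EGA2

namespace Groth.Agent.S12157

/-- Let q : Y' → Y be a morphism, φ : 𝒮 → q_*𝒮' a graded q-morphism of quasi-coherent positively graded
algebras with 𝒮_0 = O_Y, 𝒮'_0 = O_{Y'}, φ̂ : 𝒮[z] → q_*𝒮'[z] its extension with φ̂(z) = z, Ĉ =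
Proj(𝒮[z]), Ĉ' = Proj(𝒮'[z]) the projective cones with pointed cones Ê, Ê', and Φ̂ = Proj(φ̂) :
G(φ̂) → Ĉ; let Φ = Spec(φ) : C' = Spec(𝒮') → C = Spec(𝒮) be the morphism of affine cones and i : C →
Ĉ, i' : C' → Ĉ' the canonical open immersions. Then i'(C') ⊆ G(φ̂) and the square formed by Φ, i', i
and Φ̂ commutes. -/
theorem result {Y Y' PC PC' : Scheme.{u}} (q : Y' ⟶ Y)
    (𝒮 : RelProj.QCGrAlg Y) (𝒮' : RelProj.QCGrAlg Y') (h0 : RelCone.StrZeroBij 𝒮) (h0' : RelCone.StrZeroBij 𝒮')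
    (u : RelProj.QGrHom q 𝒮 𝒮')
    (𝒮h : RelProj.QCGrAlg Y) (ι : 𝒮.toQCAlg ⟶ 𝒮h.toQCAlg) (z : 𝒮h.presheaf.obj (op ⊤))
    (hz : RelCone.IsPolyOver 𝒮 𝒮h ι z)
    (pC : PC ⟶ Y) (chartC : ∀ (U : Y.Opens) (hU : IsAffineOpen U), (((pC ⁻¹ᵁ U : PC.Opens) : Scheme.{u}) ≅ Proj (𝒮h.deg U hU)))
    (hC : RelProj.IsRelProj 𝒮h pC chartC)
    (𝒮h' : RelProj.QCGrAlg Y') (ι' : 𝒮'.toQCAlg ⟶ 𝒮h'.toQCAlg) (z' : 𝒮h'.presheaf.obj (op ⊤))
    (hz' : RelCone.IsPolyOver 𝒮' 𝒮h' ι' z')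
    (pC' : PC' ⟶ Y') (chartC' : ∀ (U : Y'.Opens) (hU : IsAffineOpen U), (((pC' ⁻¹ᵁ U : PC'.Opens) : Scheme.{u}) ≅ Proj (𝒮h'.deg U hU)))
    (hC' : RelProj.IsRelProj 𝒮h' pC' chartC')
    (uh : RelProj.QGrHom q 𝒮h 𝒮h')
    (huh : ∀ U : Y.Opens, ι.hom.app (op U) ≫ uh.app U = u.app U ≫ ι'.hom.app (op (q ⁻¹ᵁ U)))
    (huhz : (uh.app ⊤).hom z = RelCone.restrictTop 𝒮h' z' (q ⁻¹ᵁ ⊤))
    (Φh : ((RelProj.domQ uh pC' chartC' : PC'.Opens) : Scheme.{u}) ⟶ PC)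
    (hΦh : RelProj.IsProjQMapOn uh pC chartC pC' chartC' (RelProj.domQ uh pC' chartC') Φh)
    (Φc : 𝒮'.toQCAlg.spec ⟶ 𝒮.toQCAlg.spec) (hΦc : RelSpec.IsSpecQMap u.toQHom Φc)
    (i : 𝒮.toQCAlg.spec ⟶ PC) (hi : RelCone.IsConeImm 𝒮 hz pC chartC i)
    (i' : 𝒮'.toQCAlg.spec ⟶ PC') (hi' : RelCone.IsConeImm 𝒮' hz' pC' chartC' i') :
    Set.range i'.base ⊆ ((RelProj.domQ uh pC' chartC' : PC'.Opens) : Set PC') ∧
      ∀ i'' : 𝒮'.toQCAlg.spec ⟶ ((RelProj.domQ uh pC' chartC' : PC'.Opens) : Scheme.{u}),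
        i'' ≫ (RelProj.domQ uh pC' chartC').ι = i' → i'' ≫ Φh = Φc ≫ i := by
  have hi₁ := RelConeLib.isImm_of_isConeImm pC chartC hi
  have hi₁' := RelConeLib.isImm_of_isConeImm pC' chartC' hi'
  refine ⟨?_, fun i'' hi'' => ?_⟩
  · rintro _ ⟨x, rfl⟩
    obtain ⟨U, hU, hxU, -⟩ := RelConeLib.exists_affine_nhd (q (pC' (i' x))) ⊤ trivial
    obtain ⟨U', hU', hxU', hle⟩ := RelConeLib.exists_affine_nhd (pC' (i' x)) (q ⁻¹ᵁ U) hxU
    obtain ⟨y, hy⟩ := RelProjLib.exists_emb_eq 𝒮h' hU' hxU' (p := pC') (chart := chartC')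
    have hy' : RelProj.emb pC' chartC' U' hU' y ∈ Set.range i' := ⟨x, hy.symm⟩
    rw [RelConeLib.emb_mem_range_iff hC' hi₁'] at hy'
    show i' x ∈ RelProj.domQ uh pC' chartC'
    rw [← hy, RelProjLib.mem_domQ_iff uh pC pC' hC hC' hU hU' hle, RelConeLib.mem_domOpen_iff]
    exact ⟨1, RelCone.restrictTop 𝒮h z U, one_pos, hz.deg_z U hU, by
      rw [RelProj.QGrHom.gradedAt_apply, RelConeLib.appLE_z huhz]; exact hy'⟩
  · refine RelConeLib.hom_ext_pairs (q := q) fun U hU U' hU' hle => ?_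
    let D := RelConeLib.polyData_of_isPolyOver hz
    let D' := RelConeLib.polyData_of_isPolyOver hz'
    let ψ := uh.gradedAt U hU U' hU' hle
    have ez : ψ (RelCone.restrictTop 𝒮h z U) = RelCone.restrictTop 𝒮h' z' U' := RelConeLib.appLE_z huhz U U' hle
    have hE' : D'.E U' hU' (ψ (RelCone.restrictTop 𝒮h z U)) = 1 :=
      (congrArg (D'.E U' hU') ez).trans (D'.E_z U' hU')
    have hm := ψ.2 (hz.deg_z U hU)
    have ec : ∀ (z₁ : 𝒮h'.presheaf.obj (op U')), z₁ = RelCone.restrictTop 𝒮h' z' U' → ∀ (h1 : D'.E U' hU' z₁ = 1)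
        (h2 : z₁ ∈ 𝒮h'.deg U' hU' 1), RelConeLib.coneChart (𝒮h'.deg U' hU') (D'.E U' hU') h1 h2 = D'.c U' hU' := by
      rintro _ rfl _ _; rfl
    have hW := RelProj.range_awayEmb_subset_domQ uh pC' chartC' U hU U' hU' hle one_pos _ (hz.deg_z U hU)
    have e1 : 𝒮'.toQCAlg.ι U' hU' ≫ i'' =
        Spec.map (CommRingCat.ofHom (RelConeLib.awayTo (D'.E U' hU') hE')) ≫
          IsOpenImmersion.lift (RelProj.domQ uh pC' chartC').ι
            (RelProj.awayEmb uh pC' chartC' U hU U' hU' hle one_pos _ (hz.deg_z U hU)) hW := by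
      rw [← cancel_mono (RelProj.domQ uh pC' chartC').ι, Category.assoc, hi'', Category.assoc,
        IsOpenImmersion.lift_fac, hi₁' U' hU', ← ec _ ez hE' hm]
      exact Category.assoc _ _ _
    rw [reassoc_of% e1, hΦh U hU U' hU' hle 1 one_pos _ (hz.deg_z U hU) hW,
      reassoc_of% (hΦc U hU U' hU' hle), hi₁ U hU]
    simp only [RelConeLib.PolyData.c, RelConeLib.coneChart, Category.assoc]
    simp only [← Spec.map_comp_assoc]
    congr 2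
    refine CommRingCat.hom_ext ?_
    exact (RelConeLib.awayTo_naturality (hz.deg_z U hU) (D.E U hU) (D.E_z U hU) ψ (u.appLE U U' hle).hom
      (D'.E U' hU') hE' (fun b => RingHom.congr_fun
        (RelConeLib.evalAtOne_naturality (hz.bij U hU) (hz'.bij U' hU') (uh.appLE U U' hle).hom (u.appLE U U' hle).hom
          (RelConeLib.appLE_ι huh U U' hle) (RelConeLib.appLE_z huhz U U' hle)) b)).symm

end Groth.Agent.S12157
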