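import Groth.Statements.S12158
import Groth.Agent.RelConeLib.Ext
import Groth.Agent.RelProjLib.Comp

set_option autoImplicit false
universe u
open CategoryTheory CategoryTheory.Limits AlgebraicGeometry TopologicalSpace Opposite
open scoped HomogeneousIdeal
noncomputable section
open EGA2

namespace Groth.Agent.S12158

/-- Let q : Y' → Y be a morphism, φ : 𝒮 → q_*𝒮' a graded q-morphism of quasi-coherent positively graded
algebras with 𝒮_0 = O_Y, 𝒮'_0 = O_{Y'}, φ̂ : 𝒮[z] → q_*𝒮'[z] its extension with φ̂(z) = z, Ĉ =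
Proj(𝒮[z]), Ĉ' = Proj(𝒮'[z]) the projective cones with pointed cones Ê, Ê', and Φ̂ = Proj(φ̂) :
G(φ̂) → Ĉ; let Proj(φ) : G(φ) → X = Proj(𝒮) be the morphism induced by φ on G(φ) ⊆ X' = Proj(𝒮'),
and j : X → Ĉ, j' : X' → Ĉ' the canonical closed immersions at infinity (Proj of the graded
retractions 𝒮[z] → 𝒮, 𝒮'[z] → 𝒮' killing z). Then j'(G(φ)) ⊆ G(φ̂) and the square formed by Proj(φ),
j', j and Φ̂ commutes. -/
theorem result {Y Y' PC PC' : Scheme.{u}} (q : Y' ⟶ Y)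
    (𝒮 : RelProj.QCGrAlg Y) (𝒮' : RelProj.QCGrAlg Y') (h0 : RelCone.StrZeroBij 𝒮) (h0' : RelCone.StrZeroBij 𝒮')
    (u : RelProj.QGrHom q 𝒮 𝒮')
    (𝒮h : RelProj.QCGrAlg Y) (ι : 𝒮.toQCAlg ⟶ 𝒮h.toQCAlg) (z : 𝒮h.presheaf.obj (op ⊤))
    (hz : RelCone.IsPolyOver 𝒮 𝒮h ι z)
    (pC : PC ⟶ Y) (chartC : ∀ (U : Y.Opens) (hU : IsAffineOpen U), (((pC ⁻¹ᵁ U : PC.Opens) : Scheme.{u}) ≅ Proj (𝒮h.deg U hU)))
    (hC : RelProj.IsRelProj 𝒮h pC chartC)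
    (𝒮h' : RelProj.QCGrAlg Y') (ι' : 𝒮'.toQCAlg ⟶ 𝒮h'.toQCAlg) (z' : 𝒮h'.presheaf.obj (op ⊤))
    (hz' : RelCone.IsPolyOver 𝒮' 𝒮h' ι' z')
    (pC' : PC' ⟶ Y') (chartC' : ∀ (U : Y'.Opens) (hU : IsAffineOpen U), (((pC' ⁻¹ᵁ U : PC'.Opens) : Scheme.{u}) ≅ Proj (𝒮h'.deg U hU)))
    (hC' : RelProj.IsRelProj 𝒮h' pC' chartC')
    (uh : RelProj.QGrHom q 𝒮h 𝒮h')
    (huh : ∀ U : Y.Opens, ι.hom.app (op U) ≫ uh.app U = u.app U ≫ ι'.hom.app (op (q ⁻¹ᵁ U)))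
    (huhz : (uh.app ⊤).hom z = RelCone.restrictTop 𝒮h' z' (q ⁻¹ᵁ ⊤))
    (Φh : ((RelProj.domQ uh pC' chartC' : PC'.Opens) : Scheme.{u}) ⟶ PC)
    (hΦh : RelProj.IsProjQMapOn uh pC chartC pC' chartC' (RelProj.domQ uh pC' chartC') Φh)
    {P P' : Scheme.{u}} (p : P ⟶ Y) (chart : ∀ (U : Y.Opens) (hU : IsAffineOpen U), (((p ⁻¹ᵁ U : P.Opens) : Scheme.{u}) ≅ Proj (𝒮.deg U hU)))
    (hP : RelProj.IsRelProj 𝒮 p chart)
    (p' : P' ⟶ Y') (chart' : ∀ (U : Y'.Opens) (hU : IsAffineOpen U), (((p' ⁻¹ᵁ U : P'.Opens) : Scheme.{u}) ≅ Proj (𝒮'.deg U hU)))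
    (hP' : RelProj.IsRelProj 𝒮' p' chart')
    (Φ : ((RelProj.domQ u p' chart' : P'.Opens) : Scheme.{u}) ⟶ P)
    (hΦ : RelProj.IsProjQMapOn u p chart p' chart' (RelProj.domQ u p' chart') Φ)
    (θ : 𝒮h.toQCAlg ⟶ 𝒮.toQCAlg) (hθ : RelProj.IsGradedHom θ) (hθι : ι ≫ θ = 𝟙 _)
    (hθz : (θ.hom.app (op ⊤)).hom z = 0)
    (jX : P ⟶ PC) (hjX : RelProj.IsProjQMap (RelProj.QGrHom.ofHom θ hθ) pC chartC p chart jX)
    (θ' : 𝒮h'.toQCAlg ⟶ 𝒮'.toQCAlg) (hθ' : RelProj.IsGradedHom θ') (hθι' : ι' ≫ θ' = 𝟙 _)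
    (hθz' : (θ'.hom.app (op ⊤)).hom z' = 0)
    (jX' : P' ⟶ PC') (hjX' : RelProj.IsProjQMap (RelProj.QGrHom.ofHom θ' hθ') pC' chartC' p' chart' jX')
    (T : Scheme.{u}) (d : T ⟶ ((RelProj.domQ u p' chart' : P'.Opens) : Scheme.{u}))
    (e : T ⟶ ((RelProj.domQ uh pC' chartC' : PC'.Opens) : Scheme.{u}))
    (hde : d ≫ (RelProj.domQ u p' chart').ι ≫ jX' = e ≫ (RelProj.domQ uh pC' chartC').ι) :
    jX'.base '' ((RelProj.domQ u p' chart' : P'.Opens) : Set P') ⊆ ((RelProj.domQ uh pC' chartC' : PC'.Opens) : Set PC') ∧ e ≫ Φh = d ≫ Φ ≫ jX := by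
  have hcomm : ∀ (U : Y.Opens) (hU : IsAffineOpen U) (U₁ : Y'.Opens) (hU₁ : IsAffineOpen U₁) (hle₁ : U₁ ≤ q ⁻¹ᵁ U)
      (U₂ : Y.Opens) (hU₂ : IsAffineOpen U₂) (hle₂ : U₂ ≤ (𝟙 Y : Y ⟶ Y) ⁻¹ᵁ U) (U' : Y'.Opens)
      (hU' : IsAffineOpen U') (hle₁' : U' ≤ (𝟙 Y' : Y' ⟶ Y') ⁻¹ᵁ U₁) (hle₂' : U' ≤ q ⁻¹ᵁ U₂)
      (x : 𝒮h.presheaf.obj (op U)),
      (RelProj.QGrHom.ofHom θ' hθ').gradedAt U₁ hU₁ U' hU' hle₁' (uh.gradedAt U hU U₁ hU₁ hle₁ x) =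
        u.gradedAt U₂ hU₂ U' hU' hle₂' ((RelProj.QGrHom.ofHom θ hθ).gradedAt U hU U₂ hU₂ hle₂ x) := by
    intro U hU U₁ hU₁ hle₁ U₂ hU₂ hle₂ U' hU' hle₁' hle₂' x
    have hle : U' ≤ q ⁻¹ᵁ U := fun t ht => hle₁ (hle₁' ht)
    have e₁ : (RelProj.QGrHom.ofHom θ' hθ').gradedAt U₁ hU₁ U' hU' hle₁' (uh.gradedAt U hU U₁ hU₁ hle₁ x) =
        (θ'.hom.app (op U')).hom ((uh.appLE U U' hle).hom x) := by
      show (𝒮'.presheaf.map (homOfLE hle₁').op).hom ((θ'.hom.app (op U₁)).hom ((uh.appLE U U₁ hle₁).hom x)) = _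
      rw [← uh.toQHom.appLE_map hle₁ hle₁', CommRingCat.comp_apply]
      exact congr($(θ'.hom.naturality (homOfLE hle₁').op).hom ((uh.appLE U U₁ hle₁).hom x)).symm
    have e₂ : u.gradedAt U₂ hU₂ U' hU' hle₂' ((RelProj.QGrHom.ofHom θ hθ).gradedAt U hU U₂ hU₂ hle₂ x) =
        (u.appLE U U' hle).hom ((θ.hom.app (op U)).hom x) := by
      show (u.appLE U₂ U' hle₂').hom ((𝒮.presheaf.map (homOfLE hle₂).op).hom ((θ.hom.app (op U)).hom x)) = _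
      exact congr($(u.toQHom.map_appLE hle₂ hle₂').hom ((θ.hom.app (op U)).hom x))
    rw [e₁, e₂]
    refine RingHom.congr_fun (f := (θ'.hom.app (op U')).hom.comp (uh.appLE U U' hle).hom)
      (g := (u.appLE U U' hle).hom.comp (θ.hom.app (op U)).hom)
      (RelConeLib.hom_ext_poly (hz.bij U hU) (fun a => ?_) ?_) x
    · simp only [RingHom.comp_apply]
      rw [RelConeLib.appLE_ι huh U U' hle a]
      exact (congr(((RelSpec.QCAlg.Hom.hom $hθι').app (op U')).hom ((u.appLE U U' hle).hom a))).trans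
        (congrArg (u.appLE U U' hle).hom (congr(((RelSpec.QCAlg.Hom.hom $hθι).app (op U)).hom a)).symm)
    · simp only [RingHom.comp_apply]
      rw [RelConeLib.appLE_z huhz U U' hle]
      have h1 := (congr($(θ'.hom.naturality (homOfLE (le_top : U' ≤ ⊤)).op).hom z'))
      have h2 := (congr($(θ.hom.naturality (homOfLE (le_top : U ≤ ⊤)).op).hom z))
      rw [CommRingCat.comp_apply, CommRingCat.comp_apply, hθz', map_zero] at h1
      rw [CommRingCat.comp_apply, CommRingCat.comp_apply, hθz, map_zero] at h2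
      exact h1.trans ((congrArg (u.appLE U U' hle).hom h2).trans (map_zero _)).symm
  refine ⟨?_, ?_⟩
  · rintro _ ⟨x, hx, rfl⟩
    obtain ⟨i, hi⟩ := RelProjLib.exists_chart_of_mem_domQ u p' chart' hx
    obtain ⟨y, rfl, hy⟩ := (RelProjLib.mem_range_e u p' chart').1 hi
    let a' := RelProj.gradedHomAt ι' hz'.graded i.U' i.hU' (u.gradedAt i.U i.hU i.U' i.hU' i.hle i.f)
    have hyd : RelProj.emb p' chart' i.U' i.hU' y ∈ RelProj.domQ (RelProj.QGrHom.ofHom θ' hθ') p' chart' :=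
      hjX'.1.ge trivial
    have hm := (RelProjLib.mem_image_basicOpen_iff (RelProj.QGrHom.ofHom θ' hθ') pC' p' hC' hP'
      (RelProjLib.isProjQMapOn_of_isProjQMap _ pC' p' hjX') i.hU' i.hU' (le_refl i.U') i.hd (f := a')
      ((RelProj.gradedHomAt ι' hz'.graded i.U' i.hU').2 ((u.gradedAt i.U i.hU i.U' i.hU' i.hle).2 i.hf)) y hyd).2 (by
        intro h'
        refine hy ?_
        have e' : (RelProj.QGrHom.ofHom θ' hθ').gradedAt i.U' i.hU' i.U' i.hU' (le_refl i.U') a' =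
            u.gradedAt i.U i.hU i.U' i.hU' i.hle i.f :=
          (RelProjLib.gradedAt_ofHom_apply θ' hθ' i.U' i.hU' (le_refl i.U') a').trans
            (congr(((RelSpec.QCAlg.Hom.hom $hθι').app (op i.U')).hom (u.gradedAt i.U i.hU i.U' i.hU' i.hle i.f)))
        exact e' ▸ h')
    obtain ⟨y', hy', e⟩ := hm
    show jX' (RelProj.emb p' chart' i.U' i.hU' y) ∈ RelProj.domQ uh pC' chartC'
    rw [← show RelProj.emb pC' chartC' i.U' i.hU' y' = jX' (RelProj.emb p' chart' i.U' i.hU' y) from e]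
    rw [RelProjLib.mem_domQ_iff uh pC pC' hC hC' i.hU i.hU' i.hle, RelConeLib.mem_domOpen_iff]
    exact ⟨i.d, _, i.hd, (RelProj.gradedHomAt ι hz.graded i.U i.hU).2 i.hf, fun h' => hy'
      ((congrArg (· ∈ y'.asHomogeneousIdeal)
        (RelConeLib.gradedAt_ι huh hz.graded hz'.graded i.U i.hU i.U' i.hU' i.hle i.f)).mp h')⟩
  · let a : T ⟶ ((RelProj.domQ (RelProj.QGrHom.ofHom θ' hθ') p' chart' : P'.Opens) : Scheme.{u}) :=
      IsOpenImmersion.lift (RelProj.domQ (RelProj.QGrHom.ofHom θ' hθ') p' chart').ι (d ≫ (RelProj.domQ u p' chart').ι)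
        (by rw [Scheme.Opens.range_ι, hjX'.1]; exact Set.subset_univ _)
    let b₂ : T ⟶ ((RelProj.domQ (RelProj.QGrHom.ofHom θ hθ) p chart : P.Opens) : Scheme.{u}) :=
      IsOpenImmersion.lift (RelProj.domQ (RelProj.QGrHom.ofHom θ hθ) p chart).ι (d ≫ Φ)
        (by rw [Scheme.Opens.range_ι, hjX.1]; exact Set.subset_univ _)
    have hb₂ : b₂ ≫ (RelProj.domQ (RelProj.QGrHom.ofHom θ hθ) p chart).ι = d ≫ Φ := IsOpenImmersion.lift_fac _ _ _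
    have ha : a ≫ (RelProj.domQ (RelProj.QGrHom.ofHom θ' hθ') p' chart').ι = d ≫ (RelProj.domQ u p' chart').ι :=
      IsOpenImmersion.lift_fac _ _ _
    have h := RelConeLib.square (g := q) (g' := 𝟙 Y') (g₂ := 𝟙 Y) (g₂' := q) (u := uh)
      (v := RelProj.QGrHom.ofHom θ' hθ') (u₂ := RelProj.QGrHom.ofHom θ hθ) (v₂ := u) hC' hP'
      (by rw [Category.id_comp, Category.comp_id]) hcomm hΦh
      (RelProjLib.isProjQMapOn_of_isProjQMap _ pC' p' hjX') (RelProjLib.isProjQMapOn_of_isProjQMap _ pC p hjX) hΦ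
      a d ha e b₂ (by rw [← Category.assoc, ha, Category.assoc, hde]) hb₂
    rw [h, ← Category.assoc, hb₂, Category.assoc]

end Groth.Agent.S12158
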