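import Groth.Statements.S12159
import Groth.Agent.RelProjLib.Comp
import Groth.Agent.SymLib.InvProj
-- import your own Groth.Agent.* helpers here

set_option autoImplicit false
universe u
open CategoryTheory CategoryTheory.Limits AlgebraicGeometry TopologicalSpace Opposite
open scoped HomogeneousIdeal
noncomputable section
open EGA2

namespace Groth.Agent.S12159

/-- Let Y be a quasi-compact scheme, q : X → Y a quasi-compact morphism, L an invertible O_X-module with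
𝒮L = ⊕ L^{⊗n} (whose Proj is X), 𝒮 = colim 𝒮^i a filtered colimit of quasi-coherent positively
graded O_Y-algebras along graded homomorphisms φ_i : 𝒮^i → 𝒮 (colimit taken on sections over affine
opens), ψ♭ = u : 𝒮 → q_*𝒮L a graded q-morphism and ψ_i♭ = u ∘ φ_i. Then r_{L,ψ} is everywhere
defined if and only if some r_{L,ψ_i} is everywhere defined, and in that case r_{L,ψ_j} is
everywhere defined for all j ≥ i. -/
theorem result {Y X P PL : Scheme.{u}} (q : X ⟶ Y)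
    (L : X.Modules) (hL : PicF.IsInvertible L) (hLq : Coh.IsQCoh L)
    (𝒮 : RelProj.QCGrAlg Y) (𝒮L : RelProj.QCGrAlg X) (j : L ⟶ 𝒮L.toModule) (hj : RelProj.IsGrSymAlg L 𝒮L j)
    (u : RelProj.QGrHom q 𝒮 𝒮L)
    (p : P ⟶ Y) (chart : ∀ (U : Y.Opens) (hU : IsAffineOpen U), (((p ⁻¹ᵁ U : P.Opens) : Scheme.{u}) ≅ Proj (𝒮.deg U hU)))
    (hP : RelProj.IsRelProj 𝒮 p chart)
    (pL : PL ⟶ X) (chartL : ∀ (U : X.Opens) (hU : IsAffineOpen U), (((pL ⁻¹ᵁ U : PL.Opens) : Scheme.{u}) ≅ Proj (𝒮L.deg U hU)))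
    (hPL : RelProj.IsRelProj 𝒮L pL chartL)
    [CompactSpace Y] [QuasiCompact q]
    (Λ : Type u) [Preorder Λ] [IsDirected Λ (· ≤ ·)] [Nonempty Λ]
    (𝒮i : Λ → RelProj.QCGrAlg Y) (φ : ∀ i, (𝒮i i).toQCAlg ⟶ 𝒮.toQCAlg) (hφ : ∀ i, RelProj.IsGradedHom (φ i))
    (t : ∀ i j, i ≤ j → ((𝒮i i).toQCAlg ⟶ (𝒮i j).toQCAlg)) (ht : ∀ i j (h : i ≤ j), RelProj.IsGradedHom (t i j h))
    (hφt : ∀ i j (h : i ≤ j), t i j h ≫ φ j = φ i)
    (hsurj : ∀ (U : Y.Opens), IsAffineOpen U → ∀ x : 𝒮.presheaf.obj (op U),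
      ∃ (i : Λ) (y : (𝒮i i).presheaf.obj (op U)), ((φ i).hom.app (op U)).hom y = x)
    (hker : ∀ (U : Y.Opens), IsAffineOpen U → ∀ (i : Λ) (y : (𝒮i i).presheaf.obj (op U)),
      ((φ i).hom.app (op U)).hom y = 0 → ∃ (j : Λ) (h : i ≤ j), ((t i j h).hom.app (op U)).hom y = 0)
    (ui : ∀ i, RelProj.QGrHom q (𝒮i i) 𝒮L) (hui : ∀ i (U : Y.Opens), (ui i).app U = (φ i).hom.app (op U) ≫ u.app U) :
    (RelProj.domQ u pL chartL = ⊤ ↔ ∃ i, RelProj.domQ (ui i) pL chartL = ⊤) ∧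
      ∀ i, RelProj.domQ (ui i) pL chartL = ⊤ → ∀ j, i ≤ j → RelProj.domQ (ui j) pL chartL = ⊤ := by
  classical
  have hmono : ∀ i k, i ≤ k → RelProj.domQ (ui i) pL chartL ≤ RelProj.domQ (ui k) pL chartL := fun i k h =>
    RelProjLib.domQ_comp_le (u := ui k) (u' := ui i) (v := t i k h) (hv := ht i k h) fun U => by
      rw [hui i, hui k, ← Category.assoc, ← hφt i k h]
      rfl
  have hle : ∀ i, RelProj.domQ (ui i) pL chartL ≤ RelProj.domQ u pL chartL := fun i =>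
    RelProjLib.domQ_comp_le (hu' := hui i) (hv := hφ i)
  refine ⟨⟨fun htop => ?_, fun ⟨i, hi⟩ => top_le_iff.1 (hi.ge.trans (hle i))⟩,
    fun i hi k hik => top_le_iff.1 (hi.ge.trans (hmono i k hik))⟩
  have hiso : IsIso pL := SymLib.isIso_proj hj hL hPL
  have : CompactSpace X := QuasiCompact.compactSpace_of_compactSpace q
  have : CompactSpace PL := QuasiCompact.compactSpace_of_compactSpace pL
  have hcov : (Set.univ : Set PL) ⊆ ⋃ i, (RelProj.domQ (ui i) pL chartL : Set PL) := by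
    intro x _
    obtain ⟨c, hc⟩ := RelProjLib.exists_chart_of_mem_domQ u pL chartL (x := x) (htop.ge (Opens.mem_top x))
    obtain ⟨y, rfl, hy⟩ := (RelProjLib.mem_range_e u pL chartL).1 hc
    obtain ⟨k, g, hg⟩ := hsurj c.U c.hU c.f
    let g' : (𝒮i k).presheaf.obj (op c.U) := DirectSum.decompose ((𝒮i k).deg c.U c.hU) g c.d
    have hg' : g' ∈ (𝒮i k).deg c.U c.hU c.d := SetLike.coe_mem _
    have hgf : RelProjLib.homAt (hφ k) c.U c.hU g' = c.f := by
      have hgg : RelProjLib.homAt (hφ k) c.U c.hU g = c.f :=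
        (RelProjLib.gradedAt_ofHom_apply _ _ _ _ _ _).trans hg
      rw [GradedRingHom.map_directSumDecompose, hgg, DirectSum.decompose_of_mem_same _ c.hf]
    refine Set.mem_iUnion.2 ⟨k, ?_⟩
    have := RelProj.range_awayEmb_subset_domQ (ui k) pL chartL c.U c.hU c.U' c.hU' c.hle c.hd g' hg'
      ((RelProjLib.mem_range_e (ui k) pL chartL (i := ⟨c.U, c.hU, c.U', c.hU', c.hle, c.d, c.hd, g', hg'⟩)).2
        ⟨y, rfl, by
          show (ui k).gradedAt _ _ _ _ _ g' ∉ _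
          rw [RelProjLib.gradedAt_comp (hui k) (hv := hφ k), GradedRingHom.comp_apply, hgf]
          exact hy⟩)
    rwa [Scheme.Opens.range_ι] at this
  have hdir : Directed (· ⊆ ·) fun i => (RelProj.domQ (ui i) pL chartL : Set PL) := fun a b => by
    obtain ⟨k, hak, hbk⟩ := exists_ge_ge a b
    exact ⟨k, hmono a k hak, hmono b k hbk⟩
  obtain ⟨i, hi⟩ := isCompact_univ.elim_directed_cover _ (fun i => (RelProj.domQ (ui i) pL chartL).2) hcov hdir
  exact ⟨i, top_le_iff.1 fun x _ => hi (Set.mem_univ x)⟩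

end Groth.Agent.S12159
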