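import Groth.Statements.S1975
import Mathlib
import Groth.Agent.EtValLib.Etale
import Groth.Agent.Hensel.EtLike
import Groth.Agent.Hensel.EtLikeNormal

set_option autoImplicit false
universe u
open EtAlg

namespace Groth.Agent.S1975

/-- Let A be a valuation ring and S a henselization or strict henselization of A. Then S is a valuation
ring, A -> S is injective, and every nonzero element of S is a unit multiple of the image of an
element of A (the value groups agree). -/
theorem result (A S : Type u) [CommRing A] [IsDomain A] [ValuationRing A] [CommRing S]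
    [IsLocalRing S] [Algebra A S] [IsLocalHom (algebraMap A S)]
    (h : Hensel.IsHenselization A S ∨ Hensel.IsStrictHenselization A S) :
    IsDomain S ∧ (∀ _ : IsDomain S, ValuationRing S) ∧ Function.Injective (algebraMap A S) ∧
      ∀ s : S, s ≠ 0 → ∃ (a : A) (u : Sˣ), s = u * algebraMap A S a := by
  have h' : Groth.Agent.Hensel.IsEtLike A S := by
    rcases h with h | h
    · exact Groth.Agent.Hensel.isEtLike_of_isHenselization A S
    · exact Groth.Agent.Hensel.isEtLike_of_isStrictHenselization A S
  obtain ⟨hdom, -⟩ := h'.isDomain_and_isIntegrallyClosed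
  have hinj := h'.algebraMap_injective
  have hval : ∀ s : S, s ≠ 0 → ∃ (a : A) (u : Sˣ), s = u * algebraMap A S a := by
    intro s hs
    obtain ⟨B, _, _, hB, θ, b, rfl⟩ := h'.exists_stage₁ s
    set m : Ideal B := (IsLocalRing.maximalIdeal S).comap θ.toRingHom with hm
    have hcomap : m.comap (algebraMap A B) = IsLocalRing.maximalIdeal A := by
      rw [hm, Ideal.comap_comap, AlgHom.toRingHom_eq_coe, θ.comp_algebraMap]
      haveI := h'.isLocalHom
      exact ((IsLocalRing.local_hom_TFAE (algebraMap A S)).out 0 4 rfl rfl).1 inferInstance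
    obtain ⟨-, -, -, -, hu⟩ := Groth.Agent.EtValLib.valuationRing_localization A B m hcomap
    have hunit : ∀ y : m.primeCompl, IsUnit (θ.toRingHom y) := fun y => not_not.1 fun hne => y.2 hne
    let φ : Localization.AtPrime m →+* S := IsLocalization.lift hunit
    have hφA : ∀ a : A, φ (algebraMap A (Localization.AtPrime m) a) = algebraMap A S a := fun a => by
      rw [IsScalarTower.algebraMap_apply A B (Localization.AtPrime m), IsLocalization.lift_eq]
      exact θ.commutes a
    obtain ⟨a, u, hau⟩ := hu (algebraMap B _ b) (fun h0 => hs (by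
      change θ.toRingHom b = 0
      rw [← IsLocalization.lift_eq (S := Localization.AtPrime m) hunit b]
      exact (congrArg φ h0).trans (map_zero φ)))
    refine ⟨a, Units.map φ.toMonoidHom u, ?_⟩
    change θ.toRingHom b = φ (u : Localization.AtPrime m) * _
    rw [← hφA, ← map_mul, ← hau]
    exact (IsLocalization.lift_eq hunit b).symm
  refine ⟨hdom, fun _ => ?_, hinj, hval⟩
  haveI : PreValuationRing S := by
    rw [PreValuationRing.iff_dvd_total]
    refine ⟨fun x y => ?_⟩
    rcases eq_or_ne x 0 with rfl | hx
    · exact Or.inr (dvd_zero y)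
    rcases eq_or_ne y 0 with rfl | hy
    · exact Or.inl (dvd_zero x)
    obtain ⟨a, u, rfl⟩ := hval x hx
    obtain ⟨b, v, rfl⟩ := hval y hy
    rcases ValuationRing.dvd_total a b with hab | hab
    · exact Or.inl (Units.mul_left_dvd.2 (Units.dvd_mul_left.2 (map_dvd (algebraMap A S) hab)))
    · exact Or.inr (Units.mul_left_dvd.2 (Units.dvd_mul_left.2 (map_dvd (algebraMap A S) hab)))
  exact { }

end Groth.Agent.S1975
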