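import Groth.Statements.S1216
import Groth.Agent.Content.Basic
import Groth.Agent.HP.EssML
import Groth.Agent.S1975
import Groth.Agent.Hens.Local

set_option autoImplicit false
universe u
open FlatMor TensorProduct Pointwise

namespace Groth.Agent.S1216

/-- Let A → B be a local homomorphism of local rings which is essentially of finite type, with A a
valuation ring, and N a finite B-module flat over A. Then every element x of N has a content ideal,
that is a smallest ideal I of A with x ∈ IN, and this ideal is principal. -/
theorem result {A B : Type u} [CommRing A] [IsDomain A] [ValuationRing A] [CommRing B] [IsLocalRing B] [Algebra A B]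
    [IsLocalHom (algebraMap A B)] [Algebra.EssFiniteType A B]
    (N : Type u) [AddCommGroup N] [Module B N] [Module A N] [IsScalarTower A B N] [Module.Finite B N] [Module.Flat A N] (x : N) :
    ∃ I : Ideal A, I.IsPrincipal ∧ x ∈ I • (⊤ : Submodule A N) ∧ ∀ J : Ideal A, x ∈ J • (⊤ : Submodule A N) → I ≤ J := by
  let H := Hens.Henselization A
  haveI : IsLocalHom (algebraMap A H) := inferInstance
  obtain ⟨hdom, hval, hinj, hunits⟩ := S1975.result A H (Or.inl inferInstance)
  haveI := hdom
  haveI := hval hdom
  haveI := (Hensel.isEtLike_of_isHenselization A H).faithfullyFlat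
  letI := Algebra.TensorProduct.rightAlgebra (R := A) (A := H) (B := B)
  let T := H ⊗[A] B
  let eR := RingEquiv.ofBijective _ (Hens.residueMap_henselization_bijective (R := A))
  let αB : IsLocalRing.ResidueField A →+* IsLocalRing.ResidueField B :=
    IsLocalRing.ResidueField.map (algebraMap A B)
  let χH : H →ₐ[A] IsLocalRing.ResidueField B :=
    { (αB.comp eR.symm.toRingHom).comp (IsLocalRing.residue H) with
      commutes' := fun a => by
        show αB (eR.symm (IsLocalRing.residue H (algebraMap A H a))) = _
        rw [show IsLocalRing.residue H (algebraMap A H a) = eR (IsLocalRing.residue A a) from rfl,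
          eR.symm_apply_apply]
        rfl }
  let χ : T →ₐ[A] IsLocalRing.ResidueField B :=
    Algebra.TensorProduct.lift χH (IsScalarTower.toAlgHom A B _) fun _ _ => Commute.all _ _
  let q := RingHom.ker χ.toRingHom
  haveI : q.IsPrime := RingHom.ker_isPrime _
  let B' := Localization.AtPrime q
  have hH : ∀ h : H, h ∈ IsLocalRing.maximalIdeal H → h ⊗ₜ[A] (1 : B) ∈ q := by
    intro h hh
    show χ (h ⊗ₜ 1) = 0
    have : χH h = 0 := by
      show αB (eR.symm (IsLocalRing.residue H h)) = 0
      rw [(IsLocalRing.residue_eq_zero_iff h).mpr hh, map_zero, map_zero]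
    rw [Algebra.TensorProduct.lift_tmul, this, zero_mul]
  have hB : ∀ b : B, b ∈ IsLocalRing.maximalIdeal B → (1 : H) ⊗ₜ[A] b ∈ q := by
    intro b hb
    show χ (1 ⊗ₜ b) = 0
    rw [Algebra.TensorProduct.lift_tmul, map_one, one_mul]
    exact (IsLocalRing.residue_eq_zero_iff b).mpr hb
  haveI : IsLocalHom (algebraMap H B') := ⟨fun h hh => by
    by_contra hu
    rw [IsScalarTower.algebraMap_apply H T B'] at hh
    exact (IsLocalization.AtPrime.isUnit_to_map_iff B' q _).mp hh (hH h hu)⟩
  haveI : IsLocalHom (algebraMap B B') := ⟨fun b hb => by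
    by_contra hu
    rw [IsScalarTower.algebraMap_apply B T B'] at hb
    exact (IsLocalization.AtPrime.isUnit_to_map_iff B' q _).mp hb (hB b hu)⟩
  haveI : Algebra.EssFiniteType T B' := .of_isLocalization B' q.primeCompl
  haveI : Algebra.EssFiniteType H B' := .comp H T B'
  haveI : Module.Flat B T := Module.Flat.of_linearEquiv (Algebra.TensorProduct.commRight A B H).symm.toLinearEquiv
  haveI : Module.Flat T B' := IsLocalization.flat B' q.primeCompl
  haveI : Module.Flat B B' := Module.Flat.trans B T B'
  haveI : Module.FaithfullyFlat B B' := Module.FaithfullyFlat.of_flat_of_isLocalHom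
  haveI : Module.Flat H (T ⊗[B] N) :=
    Module.Flat.of_linearEquiv (Algebra.IsPushout.cancelBaseChange A H B T N)
  haveI : Module.Flat H (B' ⊗[T] (T ⊗[B] N)) := Content.flat_tensor_of_flat H T B' (T ⊗[B] N)
  have hML : CAlg.IsMittagLeffler H (B' ⊗[T] (T ⊗[B] N)) :=
    HP.isMittagLeffler_of_essFiniteType (B := B') _
  let ι : N →ₗ[A] B' ⊗[T] (T ⊗[B] N) :=
    { toFun := fun y => 1 ⊗ₜ (1 ⊗ₜ y)
      map_add' := fun a b => by simp [TensorProduct.tmul_add]
      map_smul' := fun a b => by simp [TensorProduct.tmul_smul] }
  obtain ⟨c, hc, hmin⟩ := Content.exists_content hML (ι x)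
  obtain ⟨a, u, hau⟩ : ∃ (a : A) (u : Hˣ), c = u * algebraMap A H a := by
    rcases eq_or_ne c 0 with rfl | h0
    · exact ⟨0, 1, by simp⟩
    · exact hunits c h0
  refine ⟨Ideal.span {a}, ⟨⟨a, rfl⟩⟩, ?_, fun J hJ => ?_⟩
  · -- descend divisibility along the faithfully flat map
    let b := algebraMap A B a
    let P : Submodule B N := b • ⊤
    let F : B' ⊗[T] (T ⊗[B] N) →ₗ[T] B' ⊗[T] (T ⊗[B] (N ⧸ P)) :=
      LinearMap.lTensor B' (TensorProduct.AlgebraTensorModule.lTensor T T P.mkQ)
    rw [Submodule.ideal_span_singleton_smul, Submodule.mem_smul_pointwise_iff_exists] at hc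
    obtain ⟨w, -, hw⟩ := hc
    have hkill : ∀ w, F (algebraMap A H a • w) = 0 := by
      intro w
      rw [← algebraMap_smul T (algebraMap A H a) w, map_smul]
      generalize F w = v
      induction v using TensorProduct.induction_on with
      | zero => simp
      | tmul e t =>
        induction t using TensorProduct.induction_on with
        | zero => simp
        | tmul t y =>
          obtain ⟨y, rfl⟩ := Submodule.Quotient.mk_surjective P y
          rw [← TensorProduct.tmul_smul, TensorProduct.smul_tmul', smul_eq_mul,
            show algebraMap H T (algebraMap A H a) * t = b • t by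
              rw [Algebra.smul_def, ← IsScalarTower.algebraMap_apply A H T,
                ← IsScalarTower.algebraMap_apply A B T],
            TensorProduct.smul_tmul, ← Submodule.Quotient.mk_smul,
            (Submodule.Quotient.mk_eq_zero P).mpr (show b • y ∈ P from ⟨y, trivial, rfl⟩), TensorProduct.tmul_zero,
            TensorProduct.tmul_zero]
        | add u v hu hv => rw [TensorProduct.tmul_add, smul_add, hu, hv, add_zero]
      | add u v hu hv => rw [smul_add, hu, hv, add_zero]
    have h0 : F (ι x) = 0 := by
      rw [← hw, hau, mul_comm, ← smul_smul]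
      exact hkill _
    have h1 : (1 : B') ⊗ₜ[B] P.mkQ x = 0 := by
      have h2 := congrArg
        (TensorProduct.AlgebraTensorModule.cancelBaseChange B T B' B' (N ⧸ P)) h0
      simpa [F, ι] using h2
    have h3 : P.mkQ x = 0 :=
      Module.FaithfullyFlat.tensorProduct_mk_injective (A := B) (B := B') (N ⧸ P)
        (by simpa using h1)
    obtain ⟨y, -, hy⟩ := (Submodule.Quotient.mk_eq_zero P).mp h3
    rw [← hy]
    show algebraMap A B a • y ∈ _
    rw [algebraMap_smul]
    exact Submodule.smul_mem_smul (Ideal.mem_span_singleton_self a) trivial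
  · rw [Ideal.span_singleton_le_iff_mem]
    have h1 : ι x ∈ J.map (algebraMap A H) • (⊤ : Submodule H (B' ⊗[T] (T ⊗[B] N))) := by
      refine Submodule.smul_induction_on hJ (fun r hr y _ => ?_) fun y z hy hz => ?_
      · rw [map_smul, ← algebraMap_smul H r (ι y)]
        exact Submodule.smul_mem_smul (Ideal.mem_map_of_mem _ hr) trivial
      · rw [map_add]; exact add_mem hy hz
    have h2 : algebraMap A H a ∈ J.map (algebraMap A H) := by
      have := hmin _ h1
      rw [hau] at this
      exact (Ideal.unit_mul_mem_iff_mem _ u.isUnit).mp this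
    rw [← Ideal.mem_comap, Ideal.comap_map_eq_self_of_faithfullyFlat] at h2
    exact h2

end Groth.Agent.S1216
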