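import Groth.Statements.S12160
import Groth.Agent.RelProjLib.Comp
import Groth.Agent.SymLib.InvProj
-- import your own Groth.Agent.* helpers here

set_option autoImplicit false
universe u
open CategoryTheory CategoryTheory.Limits AlgebraicGeometry TopologicalSpace Opposite
open scoped HomogeneousIdeal
noncomputable section
open EGA2

namespace Groth.Agent.S12160

/-- Let Y be a quasi-compact scheme, q : X → Y a quasi-compact morphism, L an invertible O_X-module with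
𝒮L = ⊕ L^{⊗n} (whose Proj is X), 𝒮 = colim 𝒮^i a filtered colimit of quasi-coherent positively
graded O_Y-algebras along graded homomorphisms φ_i : 𝒮^i → 𝒮 (colimit taken on sections over affine
opens), ψ♭ = u : 𝒮 → q_*𝒮L a graded q-morphism and ψ_i♭ = u ∘ φ_i; let r = r_{L,ψ} : G(ψ) → Proj(𝒮)
and r_i = r_{L,ψ_i} : G(ψ_i) → Proj(𝒮^i). If all the r_i are dominant then r is dominant; the
converse holds when the φ_i are injective. -/
theorem result {Y X P PL : Scheme.{u}} (q : X ⟶ Y)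
    (L : X.Modules) (hL : PicF.IsInvertible L) (hLq : Coh.IsQCoh L)
    (𝒮 : RelProj.QCGrAlg Y) (𝒮L : RelProj.QCGrAlg X) (j : L ⟶ 𝒮L.toModule) (hj : RelProj.IsGrSymAlg L 𝒮L j)
    (u : RelProj.QGrHom q 𝒮 𝒮L)
    (p : P ⟶ Y) (chart : ∀ (U : Y.Opens) (hU : IsAffineOpen U), (((p ⁻¹ᵁ U : P.Opens) : Scheme.{u}) ≅ Proj (𝒮.deg U hU)))
    (hP : RelProj.IsRelProj 𝒮 p chart)
    (pL : PL ⟶ X) (chartL : ∀ (U : X.Opens) (hU : IsAffineOpen U), (((pL ⁻¹ᵁ U : PL.Opens) : Scheme.{u}) ≅ Proj (𝒮L.deg U hU)))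
    (hPL : RelProj.IsRelProj 𝒮L pL chartL)
    [CompactSpace Y] [QuasiCompact q]
    (r : ((RelProj.domQ u pL chartL : PL.Opens) : Scheme.{u}) ⟶ P)
    (hr : RelProj.IsProjQMapOn u p chart pL chartL (RelProj.domQ u pL chartL) r)
    (Λ : Type u) [Preorder Λ] [IsDirected Λ (· ≤ ·)] [Nonempty Λ]
    (𝒮i : Λ → RelProj.QCGrAlg Y) (φ : ∀ i, (𝒮i i).toQCAlg ⟶ 𝒮.toQCAlg) (hφ : ∀ i, RelProj.IsGradedHom (φ i))
    (t : ∀ i j, i ≤ j → ((𝒮i i).toQCAlg ⟶ (𝒮i j).toQCAlg)) (ht : ∀ i j (h : i ≤ j), RelProj.IsGradedHom (t i j h))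
    (hφt : ∀ i j (h : i ≤ j), t i j h ≫ φ j = φ i)
    (hsurj : ∀ (U : Y.Opens), IsAffineOpen U → ∀ x : 𝒮.presheaf.obj (op U),
      ∃ (i : Λ) (y : (𝒮i i).presheaf.obj (op U)), ((φ i).hom.app (op U)).hom y = x)
    (hker : ∀ (U : Y.Opens), IsAffineOpen U → ∀ (i : Λ) (y : (𝒮i i).presheaf.obj (op U)),
      ((φ i).hom.app (op U)).hom y = 0 → ∃ (j : Λ) (h : i ≤ j), ((t i j h).hom.app (op U)).hom y = 0)
    (ui : ∀ i, RelProj.QGrHom q (𝒮i i) 𝒮L) (hui : ∀ i (U : Y.Opens), (ui i).app U = (φ i).hom.app (op U) ≫ u.app U)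
    (Pi : Λ → Scheme.{u}) (pi : ∀ i, Pi i ⟶ Y)
    (charti : ∀ i (U : Y.Opens) (hU : IsAffineOpen U), ((((pi i) ⁻¹ᵁ U : (Pi i).Opens) : Scheme.{u}) ≅ Proj ((𝒮i i).deg U hU)))
    (hPi : ∀ i, RelProj.IsRelProj (𝒮i i) (pi i) (charti i))
    (ri : ∀ i, ((RelProj.domQ (ui i) pL chartL : PL.Opens) : Scheme.{u}) ⟶ Pi i)
    (hri : ∀ i, RelProj.IsProjQMapOn (ui i) (pi i) (charti i) pL chartL (RelProj.domQ (ui i) pL chartL) (ri i)) :
    ((∀ i, IsDominant (ri i)) → IsDominant r) ∧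
      ((∀ i (U : Y.Opens), IsAffineOpen U → Function.Injective ((φ i).hom.app (op U)).hom) →
        IsDominant r → ∀ i, IsDominant (ri i)) := by
  classical
  have hgv : ∀ k {U : Y.Opens} (hU : IsAffineOpen U) {V : X.Opens} (hV : IsAffineOpen V) (hle : V ≤ q ⁻¹ᵁ U)
      (g : (𝒮i k).presheaf.obj (op U)),
      (ui k).gradedAt U hU V hV hle g = u.gradedAt U hU V hV hle (((φ k).hom.app (op U)).hom g) := by
    intro k U hU V hV hle g
    rw [RelProjLib.gradedAt_comp (hui k) (hv := hφ k), GradedRingHom.comp_apply, RelProjLib.gradedAt_ofHom_apply]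
  -- a point of the source over `D(f)` gives a point of `PL` where the image of `f` does not vanish
  have fwd : ∀ {𝒯 : RelProj.QCGrAlg Y} {P₀ : Scheme.{u}} (v : RelProj.QGrHom q 𝒯 𝒮L) (p₀ : P₀ ⟶ Y)
      (chart₀ : ∀ (U : Y.Opens) (hU : IsAffineOpen U), (((p₀ ⁻¹ᵁ U : P₀.Opens) : Scheme.{u}) ≅ Proj (𝒯.deg U hU)))
      (_ : RelProj.IsRelProj 𝒯 p₀ chart₀) (r₀ : ((RelProj.domQ v pL chartL : PL.Opens) : Scheme.{u}) ⟶ P₀)
      (_ : RelProj.IsProjQMapOn v p₀ chart₀ pL chartL (RelProj.domQ v pL chartL) r₀)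
      (U : Y.Opens) (hU : IsAffineOpen U) (d : ℕ) (_ : 0 < d) (f : 𝒯.presheaf.obj (op U)) (_ : f ∈ 𝒯.deg U hU d),
      ((r₀ ⁻¹ᵁ (RelProj.emb p₀ chart₀ U hU ''ᵁ Proj.basicOpen (𝒯.deg U hU) f) :
        ((RelProj.domQ v pL chartL : PL.Opens) : Scheme.{u}).Opens) :
          Set ((RelProj.domQ v pL chartL : PL.Opens) : Scheme.{u})).Nonempty ↔
      ∃ (V : X.Opens) (hV : IsAffineOpen V) (hle : V ≤ q ⁻¹ᵁ U) (w : Proj (𝒮L.deg V hV)),
        v.gradedAt U hU V hV hle f ∉ w.asHomogeneousIdeal := by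
    intro 𝒯 P₀ v p₀ chart₀ hP₀ r₀ hr₀ U hU d hd f hf
    constructor
    · rintro ⟨⟨x, hx⟩, hxm⟩
      have hxU : q (pL x) ∈ U := by
        have h : r₀ ⟨x, hx⟩ ∈ (RelProj.emb p₀ chart₀ U hU).opensRange := by
          obtain ⟨w, -, hw⟩ := hxm
          exact ⟨w, hw⟩
        rw [RelProjLib.emb_opensRange] at h
        have e := congr($(RelProjLib.comp_of_isProjQMapOn v p₀ pL hP₀ hPL hr₀) ⟨x, hx⟩)
        exact e ▸ h
      obtain ⟨_, ⟨V, hV, rfl⟩, hxV, hVU⟩ :=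
        X.isBasis_affineOpens.exists_subset_of_mem_open (show pL x ∈ q ⁻¹ᵁ U from hxU) (q ⁻¹ᵁ U).2
      obtain ⟨w, rfl⟩ : x ∈ (RelProj.emb pL chartL V hV).opensRange := by
        rw [RelProjLib.emb_opensRange]; exact hxV
      exact ⟨V, hV, hVU, w,
        (RelProjLib.mem_preimage_basicOpen_iff v p₀ pL hP₀ hPL hr₀ hU hV hVU hd hf w).1 ⟨_, hxm, rfl⟩⟩
    · rintro ⟨V, hV, hle, w, hw⟩
      obtain ⟨x', hx', -⟩ :=
        (RelProjLib.mem_preimage_basicOpen_iff v p₀ pL hP₀ hPL hr₀ hU hV hle hd hf w).2 hw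
      exact ⟨x', hx'⟩
  refine ⟨fun hdom => (RelProjLib.isDominant_iff p hP r).2 fun U hU d hd f hf hne => ?_,
    fun hinj hdom k => (RelProjLib.isDominant_iff (pi k) (hPi k) (ri k)).2 fun U hU d hd g hg hne => ?_⟩
  · obtain ⟨k, g₀, hg₀⟩ := hsurj U hU f
    let g : (𝒮i k).presheaf.obj (op U) := DirectSum.decompose ((𝒮i k).deg U hU) g₀ d
    have hg : g ∈ (𝒮i k).deg U hU d := SetLike.coe_mem _
    have hgf : ((φ k).hom.app (op U)).hom g = f := by
      have hgg : RelProjLib.homAt (hφ k) U hU g₀ = f := (RelProjLib.gradedAt_ofHom_apply _ _ _ _ _ _).trans hg₀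
      refine (RelProjLib.gradedAt_ofHom_apply _ (hφ k) U hU (le_refl U) g).symm.trans ?_
      show RelProjLib.homAt (hφ k) U hU g = f
      rw [GradedRingHom.map_directSumDecompose, hgg, DirectSum.decompose_of_mem_same _ hf]
    obtain ⟨y, hy⟩ := hne
    have hg' : (Proj.basicOpen ((𝒮i k).deg U hU) g : Set (Proj ((𝒮i k).deg U hU))).Nonempty :=
      Set.nonempty_iff_ne_empty.2 fun he => by
        obtain ⟨m, hm⟩ := RelProjLib.isNilpotent_of_forall_mem hd hg fun z => by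
          by_contra hz
          exact Set.eq_empty_iff_forall_notMem.1 he z hz
        exact hy (y.isPrime.mem_of_pow_mem m (by rw [← hgf, ← map_pow, hm, map_zero]; exact zero_mem _))
    obtain ⟨V, hV, hle, w, hw⟩ := (fwd (ui k) (pi k) (charti k) (hPi k) (ri k) (hri k) U hU d hd g hg).1
      ((RelProjLib.isDominant_iff (pi k) (hPi k) (ri k)).1 (hdom k) U hU d hd g hg hg')
    exact (fwd u p chart hP r hr U hU d hd f hf).2 ⟨V, hV, hle, w, by rw [← hgf, ← hgv]; exact hw⟩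
  · have hf := hφ k U hU d g hg
    obtain ⟨y, hy⟩ := hne
    have hf' : (Proj.basicOpen (𝒮.deg U hU) (((φ k).hom.app (op U)).hom g) : Set (Proj (𝒮.deg U hU))).Nonempty :=
      Set.nonempty_iff_ne_empty.2 fun he => by
        obtain ⟨m, hm⟩ := RelProjLib.isNilpotent_of_forall_mem hd hf fun z => by
          by_contra hz
          exact Set.eq_empty_iff_forall_notMem.1 he z hz
        exact hy (y.isPrime.mem_of_pow_mem m (by
          rw [hinj k U hU (show ((φ k).hom.app (op U)).hom (g ^ m) = ((φ k).hom.app (op U)).hom 0 by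
            rw [map_pow, map_zero]; exact hm)]
          exact zero_mem _))
    obtain ⟨V, hV, hle, w, hw⟩ := (fwd u p chart hP r hr U hU d hd _ hf).1
      ((RelProjLib.isDominant_iff p hP r).1 hdom U hU d hd _ hf hf')
    exact (fwd (ui k) (pi k) (charti k) (hPi k) (ri k) (hri k) U hU d hd g hg).2
      ⟨V, hV, hle, w, by rw [hgv]; exact hw⟩

end Groth.Agent.S12160
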