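import Groth.Statements.S12161
import Groth.Agent.RelProjLib.ColimImm
-- import your own Groth.Agent.* helpers here

set_option autoImplicit false
universe u
open CategoryTheory CategoryTheory.Limits AlgebraicGeometry TopologicalSpace Opposite
open scoped HomogeneousIdeal
noncomputable section
open EGA2

namespace Groth.Agent.S12161

/-- Let Y be a quasi-compact scheme, q : X → Y a quasi-compact morphism, L an invertible O_X-module with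
𝒮L = ⊕ L^{⊗n} (whose Proj is X), 𝒮 = colim 𝒮^i a filtered colimit of quasi-coherent positively
graded O_Y-algebras along graded homomorphisms φ_i : 𝒮^i → 𝒮 (colimit taken on sections over affine
opens), ψ♭ = u : 𝒮 → q_*𝒮L a graded q-morphism and ψ_i♭ = u ∘ φ_i, with q of finite type; let r =
r_{L,ψ} : G(ψ) → Proj(𝒮) and r_i = r_{L,ψ_i} : G(ψ_i) → Proj(𝒮^i). Then r is everywhere defined and
an immersion if and only if some r_i is, and then so is r_j for all j ≥ i. -/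
theorem result {Y X P PL : Scheme.{u}} (q : X ⟶ Y)
    (L : X.Modules) (hL : PicF.IsInvertible L) (hLq : Coh.IsQCoh L)
    (𝒮 : RelProj.QCGrAlg Y) (𝒮L : RelProj.QCGrAlg X) (j : L ⟶ 𝒮L.toModule) (hj : RelProj.IsGrSymAlg L 𝒮L j)
    (u : RelProj.QGrHom q 𝒮 𝒮L)
    (p : P ⟶ Y) (chart : ∀ (U : Y.Opens) (hU : IsAffineOpen U), (((p ⁻¹ᵁ U : P.Opens) : Scheme.{u}) ≅ Proj (𝒮.deg U hU)))
    (hP : RelProj.IsRelProj 𝒮 p chart)
    (pL : PL ⟶ X) (chartL : ∀ (U : X.Opens) (hU : IsAffineOpen U), (((pL ⁻¹ᵁ U : PL.Opens) : Scheme.{u}) ≅ Proj (𝒮L.deg U hU)))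
    (hPL : RelProj.IsRelProj 𝒮L pL chartL)
    [CompactSpace Y] [QuasiCompact q] [LocallyOfFiniteType q]
    (r : ((RelProj.domQ u pL chartL : PL.Opens) : Scheme.{u}) ⟶ P)
    (hr : RelProj.IsProjQMapOn u p chart pL chartL (RelProj.domQ u pL chartL) r)
    (Λ : Type u) [Preorder Λ] [IsDirected Λ (· ≤ ·)] [Nonempty Λ]
    (𝒮i : Λ → RelProj.QCGrAlg Y) (φ : ∀ i, (𝒮i i).toQCAlg ⟶ 𝒮.toQCAlg) (hφ : ∀ i, RelProj.IsGradedHom (φ i))
    (t : ∀ i j, i ≤ j → ((𝒮i i).toQCAlg ⟶ (𝒮i j).toQCAlg)) (ht : ∀ i j (h : i ≤ j), RelProj.IsGradedHom (t i j h))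
    (hφt : ∀ i j (h : i ≤ j), t i j h ≫ φ j = φ i)
    (hsurj : ∀ (U : Y.Opens), IsAffineOpen U → ∀ x : 𝒮.presheaf.obj (op U),
      ∃ (i : Λ) (y : (𝒮i i).presheaf.obj (op U)), ((φ i).hom.app (op U)).hom y = x)
    (hker : ∀ (U : Y.Opens), IsAffineOpen U → ∀ (i : Λ) (y : (𝒮i i).presheaf.obj (op U)),
      ((φ i).hom.app (op U)).hom y = 0 → ∃ (j : Λ) (h : i ≤ j), ((t i j h).hom.app (op U)).hom y = 0)
    (ui : ∀ i, RelProj.QGrHom q (𝒮i i) 𝒮L) (hui : ∀ i (U : Y.Opens), (ui i).app U = (φ i).hom.app (op U) ≫ u.app U)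
    (Pi : Λ → Scheme.{u}) (pi : ∀ i, Pi i ⟶ Y)
    (charti : ∀ i (U : Y.Opens) (hU : IsAffineOpen U), ((((pi i) ⁻¹ᵁ U : (Pi i).Opens) : Scheme.{u}) ≅ Proj ((𝒮i i).deg U hU)))
    (hPi : ∀ i, RelProj.IsRelProj (𝒮i i) (pi i) (charti i))
    (ri : ∀ i, ((RelProj.domQ (ui i) pL chartL : PL.Opens) : Scheme.{u}) ⟶ Pi i)
    (hri : ∀ i, RelProj.IsProjQMapOn (ui i) (pi i) (charti i) pL chartL (RelProj.domQ (ui i) pL chartL) (ri i)) :
    ((RelProj.domQ u pL chartL = ⊤ ∧ IsImmersion r) ↔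
        ∃ i, RelProj.domQ (ui i) pL chartL = ⊤ ∧ IsImmersion (ri i)) ∧
      ∀ i, (RelProj.domQ (ui i) pL chartL = ⊤ ∧ IsImmersion (ri i)) →
        ∀ j, i ≤ j → RelProj.domQ (ui j) pL chartL = ⊤ ∧ IsImmersion (ri j) := by
  classical
  haveI : L.IsQuasicoherent := hLq
  have hiso : IsIso pL := SymLib.isIso_proj hj hL hPL
  have up : ∀ {𝒯 𝒰 : RelProj.QCGrAlg Y} {P₁ P₂ : Scheme.{u}} (v : 𝒯.toQCAlg ⟶ 𝒰.toQCAlg) (hv : RelProj.IsGradedHom v)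
      (w : RelProj.QGrHom q 𝒰 𝒮L) (w' : RelProj.QGrHom q 𝒯 𝒮L) (_ : ∀ U : Y.Opens, w'.app U = v.hom.app (op U) ≫ w.app U)
      (p₁ : P₁ ⟶ Y) (c₁ : ∀ (U : Y.Opens) (hU : IsAffineOpen U), (((p₁ ⁻¹ᵁ U : P₁.Opens) : Scheme.{u}) ≅ Proj (𝒰.deg U hU)))
      (_ : RelProj.IsRelProj 𝒰 p₁ c₁)
      (p₂ : P₂ ⟶ Y) (c₂ : ∀ (U : Y.Opens) (hU : IsAffineOpen U), (((p₂ ⁻¹ᵁ U : P₂.Opens) : Scheme.{u}) ≅ Proj (𝒯.deg U hU)))
      (_ : RelProj.IsRelProj 𝒯 p₂ c₂)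
      (r₁ : ((RelProj.domQ w pL chartL : PL.Opens) : Scheme.{u}) ⟶ P₁)
      (_ : RelProj.IsProjQMapOn w p₁ c₁ pL chartL (RelProj.domQ w pL chartL) r₁)
      (r₂ : ((RelProj.domQ w' pL chartL : PL.Opens) : Scheme.{u}) ⟶ P₂)
      (_ : RelProj.IsProjQMapOn w' p₂ c₂ pL chartL (RelProj.domQ w' pL chartL) r₂),
      RelProj.domQ w' pL chartL = ⊤ ∧ IsImmersion r₂ → RelProj.domQ w pL chartL = ⊤ ∧ IsImmersion r₁ := by
    intro 𝒯 𝒰 P₁ P₂ v hv w w' hw p₁ c₁ hP₁ p₂ c₂ hP₂ r₁ hr₁ r₂ hr₂ ⟨hdef, himm⟩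
    obtain ⟨rv, hrv, -⟩ := RelProjLib.existsUnique_isProjQMapOn (RelProj.QGrHom.ofHom v hv) p₂ p₁ hP₂ hP₁
    obtain ⟨l, hl, hl'⟩ := RelProjLib.exists_comp hw hr₁ hr₂ hrv
    have hle := RelProjLib.domQ_comp_le (p' := pL) (chart' := chartL) hw (hv := hv)
    have hd : RelProj.domQ w pL chartL = ⊤ := top_le_iff.1 (hdef.ge.trans hle)
    have : IsIso (PL.homOfLE hle) := by
      rw [← PL.isoOfEq_hom (hdef.trans hd.symm)]
      infer_instance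
    have hr0 : r₁ = inv (PL.homOfLE hle) ≫ l ≫ (RelProj.domQ (RelProj.QGrHom.ofHom v hv) p₁ c₁).ι := by
      rw [hl, IsIso.inv_hom_id_assoc]
    refine ⟨hd, ?_⟩
    have : IsImmersion (l ≫ rv) := by rw [hl']; exact himm
    have : IsImmersion l := IsImmersion.of_comp l rv
    rw [hr0]
    infer_instance
  refine ⟨⟨fun ⟨hdom, himm⟩ => ?_, fun ⟨i, hi⟩ =>
    up (φ i) (hφ i) u (ui i) (hui i) p chart hP (pi i) (charti i) (hPi i) r hr (ri i) (hri i) hi⟩,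
    fun i hi k hik => up (t i k hik) (ht i k hik) (ui k) (ui i) (fun U => by
      rw [hui i, hui k, ← Category.assoc, ← hφt i k hik]; rfl) (pi k) (charti k) (hPi k) (pi i) (charti i) (hPi i)
      (ri k) (hri k) (ri i) (hri i) hi⟩
  let W := r.coborderRange
  have haff : ∀ D : P.Opens, D ≤ W → IsClosedImmersion (r ∣_ D) := fun D hD =>
    (RelProjLib.restrict_iff_of_factor @IsClosedImmersion W r.liftCoborder r.liftCoborder_ι hD).2
      (IsZariskiLocalAtTarget.restrict (P := @IsClosedImmersion) (f := r.liftCoborder) inferInstance _)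
  have key : ∀ x : PL, ∃ (U : Y.Opens) (hU : IsAffineOpen U) (d : ℕ) (_ : 0 < d) (f : 𝒮.presheaf.obj (op U))
      (_ : f ∈ 𝒮.deg U hU d), (∃ hx : x ∈ RelProj.domQ u pL chartL,
        r ⟨x, hx⟩ ∈ RelProj.emb p chart U hU ''ᵁ Proj.basicOpen (𝒮.deg U hU) f) ∧
      RelProj.emb p chart U hU ''ᵁ Proj.basicOpen (𝒮.deg U hU) f ≤ W := by
    intro x
    have hx : x ∈ RelProj.domQ u pL chartL := hdom.ge (Opens.mem_top x)
    obtain ⟨U, hU, y, hy⟩ := RelProjLib.exists_emb_apply_eq (p := p) (chart := chart) (r ⟨x, hx⟩)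
    have hW : r ⟨x, hx⟩ ∈ W := (subset_coborder : Set.range r ⊆ _) ⟨_, rfl⟩
    obtain ⟨d, hd, f, hf, hfy, hle⟩ := RelProjLib.exists_basicOpen_subset p hU (O := W) y (hy ▸ hW)
    exact ⟨U, hU, d, hd, f, hf, ⟨hx, y, hfy, hy⟩, hle⟩
  choose U hU d hd f hf hxm hfW using key
  have : CompactSpace X := QuasiCompact.compactSpace_of_compactSpace q
  have : CompactSpace PL := QuasiCompact.compactSpace_of_compactSpace pL
  let O : PL → PL.Opens := fun x => (RelProj.domQ u pL chartL).ι ''ᵁ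
    (r ⁻¹ᵁ (RelProj.emb p chart (U x) (hU x) ''ᵁ Proj.basicOpen (𝒮.deg (U x) (hU x)) (f x)))
  obtain ⟨T, hT⟩ := isCompact_univ.elim_finite_subcover (fun x => (O x : Set PL)) (fun x => (O x).2)
    fun x _ => Set.mem_iUnion.2 ⟨x, by obtain ⟨hx, hm⟩ := hxm x; exact ⟨⟨x, hx⟩, hm, rfl⟩⟩
  choose I hI using fun x => RelProjLib.exists_stage u hP hPL hr hφ ht hφt hsurj hui hPi hri (hU x) (hd x) (hf x)
    (haff _ (hfW x))
  obtain ⟨k, hk⟩ := (T.image I).exists_le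
  choose g hg hgc hgx using fun x : T => hI x.1 k (hk _ (Finset.mem_image_of_mem _ x.2))
  have hcov : ∀ y : PL, ∃ (a : T) (hy : y ∈ RelProj.domQ (ui k) pL chartL),
      ri k ⟨y, hy⟩ ∈ RelProj.emb (pi k) (charti k) (U a.1) (hU a.1) ''ᵁ
        Proj.basicOpen ((𝒮i k).deg (U a.1) (hU a.1)) (g a) := by
    intro y
    obtain ⟨x, hxT, hyx⟩ := Set.mem_iUnion₂.1 (hT (Set.mem_univ y))
    obtain ⟨⟨y', hy'⟩, hm, rfl⟩ := hyx
    exact ⟨⟨x, hxT⟩, hgx ⟨x, hxT⟩ y' ⟨hy', hm⟩⟩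
  refine ⟨k, top_le_iff.1 fun y _ => (hcov y).choose_spec.1, ?_⟩
  let D : T → (Pi k).Opens := fun a => RelProj.emb (pi k) (charti k) (U a.1) (hU a.1) ''ᵁ
        Proj.basicOpen ((𝒮i k).deg (U a.1) (hU a.1)) (g a)
  let Wk : (Pi k).Opens := ⨆ a, D a
  let l := IsOpenImmersion.lift Wk.ι (ri k) (by
    rintro _ ⟨⟨y, hy⟩, rfl⟩
    rw [Scheme.Opens.range_ι]
    obtain ⟨a, _, ha⟩ := hcov y
    exact Opens.mem_iSup.2 ⟨a, ha⟩)
  have hl : l ≫ Wk.ι = ri k := IsOpenImmersion.lift_fac _ _ _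
  have : IsClosedImmersion l := by
    refine (IsZariskiLocalAtTarget.iff_of_iSup_eq_top (P := @IsClosedImmersion) (f := l) (fun a => Wk.ι ⁻¹ᵁ D a)
      (top_le_iff.1 fun z _ => ?_)).2 fun a => ?_
    · obtain ⟨a, ha⟩ := Opens.mem_iSup.1 (show (z.1 : Pi k) ∈ Wk from z.2)
      exact Opens.mem_iSup.2 ⟨a, ha⟩
    · exact (RelProjLib.restrict_iff_of_factor @IsClosedImmersion Wk l hl (le_iSup D a)).1 (hgc a)
  rw [← hl]
  infer_instance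

end Groth.Agent.S12161
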