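import Groth.Statements.S12162
import Groth.Agent.SubGen48.Basic
import Groth.Agent.SubGen48.Stage
import Groth.Agent.ProjBundleLib.FTSub
import Groth.Agent.ProjBundleLib.FTQP
import Groth.Agent.SymLib.InvProj

set_option autoImplicit false
universe u
open CategoryTheory CategoryTheory.Limits AlgebraicGeometry TopologicalSpace Opposite
open scoped HomogeneousIdeal
noncomputable section
open EGA2

namespace Groth.Agent.S12162

open RelProjLib

set_option maxHeartbeats 1000000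

/-- Near a point where `u(s)` doesn't vanish it generates the graded piece. -/
lemma exists_span {X Y PL : Scheme.{u}} {q : X ⟶ Y} {𝒮 : RelProj.QCGrAlg Y} {𝒮L : RelProj.QCGrAlg X}
    (v : RelProj.QGrHom q 𝒮 𝒮L) {L : X.Modules} [L.IsQuasicoherent] {j : L ⟶ 𝒮L.toModule} (hj : RelProj.IsGrSymAlg L 𝒮L j)
    (hL : PicF.IsInvertible L) {pL : PL ⟶ X}
    {chartL : ∀ (U : X.Opens) (hU : IsAffineOpen U), (((pL ⁻¹ᵁ U : PL.Opens) : Scheme.{u}) ≅ Proj (𝒮L.deg U hU))}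
    (hPL : RelProj.IsRelProj 𝒮L pL chartL) {U : Y.Opens} (hU : IsAffineOpen U) {d : ℕ}
    {s : 𝒮.presheaf.obj (op U)} (hs : s ∈ 𝒮.deg U hU d) {V : X.Opens} (hV : IsAffineOpen V) (hle : V ≤ q ⁻¹ᵁ U)
    (w : Proj (𝒮L.deg V hV)) (hw : v.gradedAt U hU V hV hle s ∉ w.asHomogeneousIdeal) :
    ∃ (V' : X.Opens) (hV' : IsAffineOpen V') (hle' : V' ≤ q ⁻¹ᵁ U), pL (RelProj.emb pL chartL V hV w) ∈ V' ∧
      ((𝒮L.deg V' hV' d : AddSubgroup (𝒮L.presheaf.obj (op V'))) : Set (𝒮L.presheaf.obj (op V'))) ⊆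
        (Ideal.span {(v.appLE U V' hle').hom s} : Set (𝒮L.presheaf.obj (op V'))) := by
  let x := RelProj.emb pL chartL V hV w
  obtain ⟨U₀, hx₀, ⟨φ⟩⟩ := hL (pL x)
  obtain ⟨e, he⟩ := LFFrame.exists_isFrame_of_split (M := L) (fun _ : Fin 1 => φ.inv) (fun _ => φ.hom)
    (fun i j => by simp [Subsingleton.elim i j]) (by simp)
  obtain ⟨_, ⟨W, hW, rfl⟩, hxW, hWle⟩ := X.isBasis_affineOpens.exists_subset_of_mem_open
    (show pL x ∈ (V : Set X) ∩ U₀ from ⟨emb_mem_base 𝒮L V hV w, hx₀⟩) (V.2.inter U₀.2)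
  obtain ⟨z, hz⟩ := exists_emb_eq 𝒮L (p := pL) (chart := chartL) hW hxW
  have hWV : W ≤ V := fun a ha => (hWle ha).1
  have hWU : W ≤ U₀ := fun a ha => (hWle ha).2
  have hres : (𝒮L.presheaf.map (homOfLE hWV).op).hom ((v.appLE U V hle).hom s) = (v.appLE U W (hWV.trans hle)).hom s :=
    congr($(v.toQHom.appLE_map hle hWV).hom s)
  have hzs : (v.appLE U W (hWV.trans hle)).hom s ∉ z.asHomogeneousIdeal :=
    hres ▸ (notMem_transfer 𝒮L hPL hV hW hWV hz ((v.appLE U V hle).hom s)).1 hw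
  obtain ⟨c, hc, -⟩ := SymLib.existsUnique_genOne hj hW he hWU (v.map_mem U hU W hW (hWV.trans hle) hs)
  have hc' : (v.appLE U W (hWV.trans hle)).hom s = _ := hc
  have hzc : (𝒮L.str.app (op W)).hom c ∉ z.asHomogeneousIdeal := fun hm =>
    hzs (hc' ▸ Ideal.mul_mem_right _ _ hm)
  have hxc := mem_basicOpen_of_notMem 𝒮L hPL hW c z hzc
  rw [hz] at hxc
  refine ⟨X.basicOpen c, hW.basicOpen c, ((X.basicOpen_le c).trans hWV).trans hle, hxc, fun b hb => ?_⟩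
  obtain ⟨a, ha, -⟩ := SymLib.existsUnique_genOne hj (hW.basicOpen c) he ((X.basicOpen_le c).trans hWU) hb
  have hgen : (𝒮L.presheaf.map (homOfLE (X.basicOpen_le c)).op).hom (SymLib.genOne hWU hj he) =
      SymLib.genOne ((X.basicOpen_le c).trans hWU) hj he := by
    simp only [SymLib.genOne]
    refine (QCoh.app_res j (X.basicOpen_le c) _).symm.trans ?_
    congr 1
    rw [← ConcreteCategory.comp_apply, ← Functor.map_comp]
    rfl
  have hu : (v.appLE U (X.basicOpen c) (((X.basicOpen_le c).trans hWV).trans hle)).hom s =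
      (𝒮L.str.app (op (X.basicOpen c))).hom ((X.presheaf.map (homOfLE (X.basicOpen_le c)).op).hom c) *
        SymLib.genOne ((X.basicOpen_le c).trans hWU) hj he ^ d := by
    rw [← congr($(v.toQHom.appLE_map (hWV.trans hle) (X.basicOpen_le c)).hom s), CommRingCat.comp_apply, hc', map_mul,
      map_pow, hgen]
    congr 1
    exact congr($(𝒮L.str.naturality (homOfLE (X.basicOpen_le c)).op).hom c).symm
  let c' : Γ(X, X.basicOpen c) := (X.presheaf.map (homOfLE (X.basicOpen_le c)).op).hom c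
  obtain ⟨t, ht⟩ : ∃ t : Γ(X, X.basicOpen c), c' * t = 1 :=
    isUnit_iff_exists_inv.1 (RingedSpace.isUnit_res_basicOpen _ c)
  refine Ideal.mem_span_singleton'.2 ⟨(𝒮L.str.app (op (X.basicOpen c))).hom (a * t), ?_⟩
  rw [hu, ← mul_assoc, ← map_mul, mul_assoc a, mul_comm t]
  change (𝒮L.str.app (op (X.basicOpen c))).hom (a * (c' * t)) * _ = _
  rw [ht, mul_one]
  exact ha.symm

/-- Let Y be a quasi-compact separated scheme or a scheme with Noetherian underlying space, q : X → Y a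
morphism of finite type, L an invertible O_X-module with 𝒮L = ⊕ L^{⊗n} (whose Proj is X), 𝒮 a
quasi-coherent positively graded O_Y-algebra, ψ♭ = u : 𝒮 → q_*𝒮L a graded q-morphism and r = r_{L,ψ}
: G(ψ) → Proj(𝒮). Then r is everywhere defined and an immersion if and only if there are n > 0 and a
quasi-coherent sub-O_Y-module E ⊆ 𝒮_n of finite type such that (a) q^*(E) → L^{⊗n} (induced by ψ_n)
is surjective and (b) for the graded sub-algebra 𝒮' of 𝒮 generated by E and ψ' = ψ ∘ q^*(𝒮' ⊆ 𝒮),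
r_{L,ψ'} is everywhere defined and an immersion. (Here E is written as the degree-n part of 𝒮',
which it equals; 𝒮' is given abstractly with an injective graded homomorphism into 𝒮 and degree-zero
part the image of O_Y; surjectivity in (a) is stated stalkwise: every point of X has an affine
neighbourhood V over which some section of E generates L^{⊗n}.) -/
theorem result {Y X P PL : Scheme.{u}} (q : X ⟶ Y)
    (L : X.Modules) (hL : PicF.IsInvertible L) (hLq : Coh.IsQCoh L)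
    (𝒮 : RelProj.QCGrAlg Y) (𝒮L : RelProj.QCGrAlg X) (j : L ⟶ 𝒮L.toModule) (hj : RelProj.IsGrSymAlg L 𝒮L j)
    (u : RelProj.QGrHom q 𝒮 𝒮L)
    (p : P ⟶ Y) (chart : ∀ (U : Y.Opens) (hU : IsAffineOpen U), (((p ⁻¹ᵁ U : P.Opens) : Scheme.{u}) ≅ Proj (𝒮.deg U hU)))
    (hP : RelProj.IsRelProj 𝒮 p chart)
    (pL : PL ⟶ X) (chartL : ∀ (U : X.Opens) (hU : IsAffineOpen U), (((pL ⁻¹ᵁ U : PL.Opens) : Scheme.{u}) ≅ Proj (𝒮L.deg U hU)))
    (hPL : RelProj.IsRelProj 𝒮L pL chartL)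
    (r : ((RelProj.domQ u pL chartL : PL.Opens) : Scheme.{u}) ⟶ P)
    (hr : RelProj.IsProjQMapOn u p chart pL chartL (RelProj.domQ u pL chartL) r)
    (hYs : (CompactSpace Y ∧ Y.IsSeparated) ∨ NoetherianSpace Y) [QuasiCompact q] [LocallyOfFiniteType q] :
    (RelProj.domQ u pL chartL = ⊤ ∧ IsImmersion r) ↔
      ∃ (n : ℕ) (_ : 0 < n) (𝒮' : RelProj.QCGrAlg Y) (j' : 𝒮'.toQCAlg ⟶ 𝒮.toQCAlg) (_ : RelProj.IsGradedHom j')
        (_ : ∀ (U : Y.Opens), IsAffineOpen U → Function.Injective (j'.hom.app (op U)).hom)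
        (_ : ∀ (U : Y.Opens) (hU : IsAffineOpen U),
          ((𝒮'.deg U hU 0 : AddSubgroup (𝒮'.presheaf.obj (op U))) : Set (𝒮'.presheaf.obj (op U))) =
            Set.range (𝒮'.str.app (op U)).hom)
        (_ : ∀ (U : Y.Opens) (hU : IsAffineOpen U),
          Subring.closure (((𝒮'.deg U hU 0 : AddSubgroup (𝒮'.presheaf.obj (op U))) : Set (𝒮'.presheaf.obj (op U))) ∪
            ((𝒮'.deg U hU n : AddSubgroup (𝒮'.presheaf.obj (op U))) : Set (𝒮'.presheaf.obj (op U)))) = ⊤)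
        (_ : 𝒮'.IsFTDeg n)
        (u' : RelProj.QGrHom q 𝒮' 𝒮L) (_ : ∀ U : Y.Opens, u'.app U = j'.hom.app (op U) ≫ u.app U),
        (∀ x : X, ∃ (U : Y.Opens) (hU : IsAffineOpen U) (e : 𝒮'.presheaf.obj (op U)) (_ : e ∈ 𝒮'.deg U hU n)
            (V : X.Opens) (hV : IsAffineOpen V) (hVU : V ≤ q ⁻¹ᵁ U), x ∈ V ∧
              ((𝒮L.deg V hV n : AddSubgroup (𝒮L.presheaf.obj (op V))) : Set (𝒮L.presheaf.obj (op V))) ⊆
                (Ideal.span {(u'.appLE U V hVU).hom e} : Set (𝒮L.presheaf.obj (op V)))) ∧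
        (∀ (P' : Scheme.{u}) (p' : P' ⟶ Y)
            (chart' : ∀ (U : Y.Opens) (hU : IsAffineOpen U), (((p' ⁻¹ᵁ U : P'.Opens) : Scheme.{u}) ≅ Proj (𝒮'.deg U hU)))
            (_ : RelProj.IsRelProj 𝒮' p' chart')
            (r' : ((RelProj.domQ u' pL chartL : PL.Opens) : Scheme.{u}) ⟶ P')
            (_ : RelProj.IsProjQMapOn u' p' chart' pL chartL (RelProj.domQ u' pL chartL) r'),
          RelProj.domQ u' pL chartL = ⊤ ∧ IsImmersion r') := by
  classical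
  haveI : L.IsQuasicoherent := hLq
  have hiso : IsIso pL := SymLib.isIso_proj hj hL hPL
  have up : ∀ {𝒯 𝒰 : RelProj.QCGrAlg Y} {P₁ P₂ : Scheme.{u}} (v : 𝒯.toQCAlg ⟶ 𝒰.toQCAlg) (hv : RelProj.IsGradedHom v)
      (w : RelProj.QGrHom q 𝒰 𝒮L) (w' : RelProj.QGrHom q 𝒯 𝒮L) (_ : ∀ U : Y.Opens, w'.app U = v.hom.app (op U) ≫ w.app U)
      (p₁ : P₁ ⟶ Y) (c₁ : ∀ (U : Y.Opens) (hU : IsAffineOpen U), (((p₁ ⁻¹ᵁ U : P₁.Opens) : Scheme.{u}) ≅ Proj (𝒰.deg U hU)))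
      (_ : RelProj.IsRelProj 𝒰 p₁ c₁)
      (p₂ : P₂ ⟶ Y) (c₂ : ∀ (U : Y.Opens) (hU : IsAffineOpen U), (((p₂ ⁻¹ᵁ U : P₂.Opens) : Scheme.{u}) ≅ Proj (𝒯.deg U hU)))
      (_ : RelProj.IsRelProj 𝒯 p₂ c₂)
      (r₁ : ((RelProj.domQ w pL chartL : PL.Opens) : Scheme.{u}) ⟶ P₁)
      (_ : RelProj.IsProjQMapOn w p₁ c₁ pL chartL (RelProj.domQ w pL chartL) r₁)
      (r₂ : ((RelProj.domQ w' pL chartL : PL.Opens) : Scheme.{u}) ⟶ P₂)
      (_ : RelProj.IsProjQMapOn w' p₂ c₂ pL chartL (RelProj.domQ w' pL chartL) r₂),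
      RelProj.domQ w' pL chartL = ⊤ ∧ IsImmersion r₂ → RelProj.domQ w pL chartL = ⊤ ∧ IsImmersion r₁ := by
    intro 𝒯 𝒰 P₁ P₂ v hv w w' hw p₁ c₁ hP₁ p₂ c₂ hP₂ r₁ hr₁ r₂ hr₂ ⟨hdef, himm⟩
    obtain ⟨rv, hrv, -⟩ := RelProjLib.existsUnique_isProjQMapOn (RelProj.QGrHom.ofHom v hv) p₂ p₁ hP₂ hP₁
    obtain ⟨l, hl, hl'⟩ := RelProjLib.exists_comp hw hr₁ hr₂ hrv
    have hle := RelProjLib.domQ_comp_le (p' := pL) (chart' := chartL) hw (hv := hv)
    have hd : RelProj.domQ w pL chartL = ⊤ := top_le_iff.1 (hdef.ge.trans hle)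
    have : IsIso (PL.homOfLE hle) := by
      rw [← PL.isoOfEq_hom (hdef.trans hd.symm)]
      infer_instance
    have hr0 : r₁ = inv (PL.homOfLE hle) ≫ l ≫ (RelProj.domQ (RelProj.QGrHom.ofHom v hv) p₁ c₁).ι := by
      rw [hl, IsIso.inv_hom_id_assoc]
    refine ⟨hd, ?_⟩
    have : IsImmersion (l ≫ rv) := by rw [hl']; exact himm
    have : IsImmersion l := IsImmersion.of_comp l rv
    rw [hr0]
    infer_instance
  constructor
  swap
  · rintro ⟨n, hn, 𝒮', j', hj', -, -, -, -, u', hu', -, hall⟩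
    obtain ⟨P', p', chart', hP'⟩ := RelProjLib.exists_isRelProj 𝒮'
    obtain ⟨r', hr', -⟩ := RelProjLib.existsUnique_isProjQMapOn u' p' pL hP' hPL
    exact up j' hj' u u' hu' p chart hP p' chart' hP' r hr r' hr' (hall P' p' chart' hP' r' hr')
  rintro ⟨hdom, himm⟩
  obtain ⟨hYc, hYqs⟩ := ProjBundleLib.qcqs_of_or hYs
  let W := r.coborderRange
  have haff : ∀ D : P.Opens, D ≤ W → IsClosedImmersion (r ∣_ D) := fun D hD =>
    (RelProjLib.restrict_iff_of_factor @IsClosedImmersion W r.liftCoborder r.liftCoborder_ι hD).2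
      (IsZariskiLocalAtTarget.restrict (P := @IsClosedImmersion) (f := r.liftCoborder) inferInstance _)
  have key : ∀ x : PL, ∃ (U : Y.Opens) (hU : IsAffineOpen U) (d : ℕ) (_ : 0 < d) (f : 𝒮.presheaf.obj (op U))
      (_ : f ∈ 𝒮.deg U hU d), (∃ hx : x ∈ RelProj.domQ u pL chartL,
        r ⟨x, hx⟩ ∈ RelProj.emb p chart U hU ''ᵁ Proj.basicOpen (𝒮.deg U hU) f) ∧
      RelProj.emb p chart U hU ''ᵁ Proj.basicOpen (𝒮.deg U hU) f ≤ W := by
    intro x
    have hx : x ∈ RelProj.domQ u pL chartL := hdom.ge (Opens.mem_top x)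
    obtain ⟨U, hU, y, hy⟩ := RelProjLib.exists_emb_apply_eq (p := p) (chart := chart) (r ⟨x, hx⟩)
    have hW : r ⟨x, hx⟩ ∈ W := (subset_coborder : Set.range r ⊆ _) ⟨_, rfl⟩
    obtain ⟨d, hd, f, hf, hfy, hle⟩ := RelProjLib.exists_basicOpen_subset p hU (O := W) y (hy ▸ hW)
    exact ⟨U, hU, d, hd, f, hf, ⟨hx, y, hfy, hy⟩, hle⟩
  choose U hU d hd f hf hxm hfW using key
  have : CompactSpace X := QuasiCompact.compactSpace_of_compactSpace q
  have : CompactSpace PL := QuasiCompact.compactSpace_of_compactSpace pL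
  let O : PL → PL.Opens := fun x => (RelProj.domQ u pL chartL).ι ''ᵁ
    (r ⁻¹ᵁ (RelProj.emb p chart (U x) (hU x) ''ᵁ Proj.basicOpen (𝒮.deg (U x) (hU x)) (f x)))
  obtain ⟨T, hT⟩ := isCompact_univ.elim_finite_subcover (fun x => (O x : Set PL)) (fun x => (O x).2)
    fun x _ => Set.mem_iUnion.2 ⟨x, by obtain ⟨hx, hm⟩ := hxm x; exact ⟨⟨x, hx⟩, hm, rfl⟩⟩
  choose M₀ hM₀ using fun x => SubGen48.exists_degree u hP hPL hr (hU x) (hd x) (hf x) (haff _ (hfW x))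
  let D := ∏ x ∈ T, d x
  have hD : 0 < D := Finset.prod_pos fun x _ => hd x
  let N := T.sup M₀ + 1
  have hM : ∀ x : T, ∃ M, M₀ x.1 ≤ M ∧ (M + 1) * d x.1 = N * D := fun x => by
    obtain ⟨e, he⟩ : d x.1 ∣ D := Finset.dvd_prod_of_mem _ x.2
    have he0 : 0 < e := Nat.pos_of_ne_zero fun h => by rw [h, mul_zero] at he; omega
    refine ⟨N * e - 1, ?_, ?_⟩
    · have h1 : M₀ x.1 ≤ T.sup M₀ := Finset.le_sup x.2
      have h2 : N ≤ N * e := Nat.le_mul_of_pos_right N he0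
      omega
    · rw [Nat.sub_add_cancel (Nat.mul_pos (Nat.succ_pos _) he0), mul_assoc, mul_comm e]
      exact congrArg (N * ·) he.symm
  choose M hMle hMn using hM
  let n := N * D
  have hn : 0 < n := Nat.mul_pos (Nat.succ_pos _) hD
  choose S hS hSf hstage using fun x : T => hM₀ x.1 (M x) (hMle x)
  have hSn : ∀ (x : T), ∀ t ∈ S x, t ∈ 𝒮.deg (U x.1) (hU x.1) n := fun x t ht => by
    have := hS x t ht
    rwa [hMn x] at this
  choose z hz using fun (x : T) (t : S x) => SubGen48.exists_pieceι 𝒮 n (U x.1) (hU x.1) t.1 (hSn x t.1 t.2)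
  obtain ⟨E', hE', hEmem⟩ := ProjBundleLib.exists_sub_through (SubGen48.piece 𝒮 n) (Finset.univ : Finset T)
    (fun x => U x.1) (fun x => hU x.1) fun x => Finset.univ.image (z x)
  have hEqc := Props.SubSheaf.isQuasicoherent_sub hE'
  let ι := Props.SubSheaf.incl E' ≫ SubGen48.pieceι 𝒮 n
  have hι : ∀ (V : Y.Opens) (hV : IsAffineOpen V) (e : Γ(Props.SubSheaf.sub E', V)),
      (show 𝒮.presheaf.obj (op V) from ι.app V e) ∈ 𝒮.deg V hV n := fun V hV e =>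
    SubGen48.pieceι_mem 𝒮 n V hV ((Props.SubSheaf.incl E').app V e)
  let 𝒮' := SubGen48.grAlg 𝒮 ι hn hι
  let j' : 𝒮'.toQCAlg ⟶ 𝒮.toQCAlg := SubGen48.incl ι
  have hj' : RelProj.IsGradedHom j' := SubGen48.isGradedHom ι hn hι
  let u' : RelProj.QGrHom q 𝒮' 𝒮L :=
    { app := fun V => j'.hom.app (op V) ≫ u.app V
      naturality := fun {V V'} i => by
        rw [Category.assoc, u.naturality i, ← Category.assoc, ← Category.assoc, j'.hom.naturality]
      str_app := fun V => by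
        rw [← u.str_app V, ← Category.assoc]
        exact congrArg (· ≫ u.app V) (NatTrans.congr_app j'.comm (op V))
      map_mem := fun V hV V' hV' hle {e y} hy => u.map_mem V hV V' hV' hle (hj' V hV e y hy) }
  have hu' : ∀ V : Y.Opens, u'.app V = j'.hom.app (op V) ≫ u.app V := fun _ => rfl
  have hlift : ∀ (x : T), ∀ t ∈ S x, ∃ g ∈ 𝒮'.deg (U x.1) (hU x.1) ((M x + 1) * d x.1),
      (j'.hom.app (op (U x.1))).hom g = t := fun x t ht => by
    obtain ⟨e, he⟩ := hEmem x (Finset.mem_univ _) (z x ⟨t, ht⟩) (Finset.mem_image_of_mem _ (Finset.mem_univ _))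
    obtain ⟨g, hg, hge⟩ := SubGen48.exists_lift ι hn hι (hU x.1) e
    refine ⟨g, (hMn x).symm ▸ hg, hge.trans ?_⟩
    refine Eq.trans ?_ (hz x ⟨t, ht⟩)
    exact congrArg ((SubGen48.pieceι 𝒮 n).app (U x.1)) he
  refine ⟨n, hn, 𝒮', j', hj', fun V hV => SubGen48.incl_injective ι hV, fun V hV => SubGen48.deg_zero ι hn hι hV,
    fun V hV => SubGen48.closure_eq_top ι hn hι hV, SubGen48.isFTDeg ι hn hι (Props.SubSheaf.isFiniteType_sub hE'),
    u', hu', fun x => ?_, fun P' p' chart' hP' r' hr' => ?_⟩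
  · obtain ⟨y, rfl⟩ : ∃ y, pL y = x := ⟨inv pL x, by rw [← Scheme.Hom.comp_apply, IsIso.inv_hom_id]; rfl⟩
    obtain ⟨P', p', chart', hP'⟩ := RelProjLib.exists_isRelProj 𝒮'
    obtain ⟨r', hr', -⟩ := RelProjLib.existsUnique_isProjQMapOn u' p' pL hP' hPL
    obtain ⟨x₀, hxT, hyx⟩ := Set.mem_iUnion₂.1 (hT (Set.mem_univ y))
    obtain ⟨⟨y', hy'⟩, hm, rfl⟩ := hyx
    obtain ⟨g, hg, -, -, hgx⟩ := hstage ⟨x₀, hxT⟩ 𝒮' j' hj' u' hu' P' p' chart' hP' r' hr' (hlift ⟨x₀, hxT⟩)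
    obtain ⟨V, hV, hle, w, hw, hns⟩ := (RelProjLib.preimage_standard_iff u' hP' hPL hr' (hU x₀) (Nat.mul_pos (Nat.succ_pos _) (hd x₀)) hg y').1
      (hgx y' ⟨hy', hm⟩)
    obtain ⟨V', hV', hle', hxV', hspan⟩ := exists_span u' hj hL hPL (hU x₀) hg hV hle w hns
    have hpl : pL y' ∈ V' := hw ▸ hxV'
    have hn' : (M ⟨x₀, hxT⟩ + 1) * d x₀ = N * D := hMn ⟨x₀, hxT⟩
    rw [hn'] at hg hspan
    exact ⟨U x₀, hU x₀, g, hg, V', hV', hle', hpl, hspan⟩
  have hstage' := fun x : T => hstage x 𝒮' j' hj' u' hu' P' p' chart' hP' r' hr' (hlift x)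
  choose g hg hgf hgc hgx using hstage'
  have hcov : ∀ y : PL, ∃ (a : T) (hy : y ∈ RelProj.domQ u' pL chartL),
      r' ⟨y, hy⟩ ∈ RelProj.emb p' chart' (U a.1) (hU a.1) ''ᵁ Proj.basicOpen (𝒮'.deg (U a.1) (hU a.1)) (g a) := by
    intro y
    obtain ⟨x, hxT, hyx⟩ := Set.mem_iUnion₂.1 (hT (Set.mem_univ y))
    obtain ⟨⟨y', hy'⟩, hm, rfl⟩ := hyx
    exact ⟨⟨x, hxT⟩, hgx ⟨x, hxT⟩ y' ⟨hy', hm⟩⟩
  refine ⟨top_le_iff.1 fun y _ => (hcov y).choose_spec.1, ?_⟩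
  let Dk : T → P'.Opens := fun a => RelProj.emb p' chart' (U a.1) (hU a.1) ''ᵁ
    Proj.basicOpen (𝒮'.deg (U a.1) (hU a.1)) (g a)
  let Wk : P'.Opens := ⨆ a, Dk a
  let l := IsOpenImmersion.lift Wk.ι r' (by
    rintro _ ⟨⟨y, hy⟩, rfl⟩
    rw [Scheme.Opens.range_ι]
    obtain ⟨a, _, ha⟩ := hcov y
    exact Opens.mem_iSup.2 ⟨a, ha⟩)
  have hl : l ≫ Wk.ι = r' := IsOpenImmersion.lift_fac _ _ _
  have : IsClosedImmersion l := by
    refine (IsZariskiLocalAtTarget.iff_of_iSup_eq_top (P := @IsClosedImmersion) (f := l) (fun a => Wk.ι ⁻¹ᵁ Dk a)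
      (top_le_iff.1 fun z _ => ?_)).2 fun a => ?_
    · obtain ⟨a, ha⟩ := Opens.mem_iSup.1 (show (z.1 : P') ∈ Wk from z.2)
      exact Opens.mem_iSup.2 ⟨a, ha⟩
    · exact (RelProjLib.restrict_iff_of_factor @IsClosedImmersion Wk l hl (le_iSup Dk a)).1 (hgc a)
  rw [← hl]
  infer_instance

end Groth.Agent.S12162
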