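import Groth.Statements.S12163
import Groth.Agent.RelProjLib.Basic
import Groth.Prelude.Def_RelProj4

set_option autoImplicit false
universe u
open CategoryTheory CategoryTheory.Limits AlgebraicGeometry TopologicalSpace Opposite
open scoped HomogeneousIdeal
noncomputable section
open EGA2

namespace Groth.Agent.S12163

/-- Let φ : 𝒜 → ℬ be a graded homomorphism of quasi-coherent positively graded O_Y-algebras and PB =
Proj(ℬ) with its charts. If every point of Y has an affine neighbourhood U over which the irrelevant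
ideal of ℬ(U) is contained in the ideal generated by φ(𝒜(U)_+), then the open of definition G(φ) of
Proj(φ) is all of PB. (The published condition asks 𝒮_+ to be generated by the image as a module
over the functions on U; generation as an ideal, used here, is implied by it.) -/
theorem result {Y PB : Scheme.{u}} (𝒜 ℬ : RelProj.QCGrAlg Y)
    (φ : 𝒜.toQCAlg ⟶ ℬ.toQCAlg) (hφ : RelProj.IsGradedHom φ)
    (pB : PB ⟶ Y) (chartB : ∀ (U : Y.Opens) (hU : IsAffineOpen U), (((pB ⁻¹ᵁ U : PB.Opens) : Scheme.{u}) ≅ Proj (ℬ.deg U hU)))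
    (hB : RelProj.IsRelProj ℬ pB chartB)
    (hcov : ∀ y : Y, ∃ (U : Y.Opens) (hU : IsAffineOpen U), y ∈ U ∧
      (ℬ.deg U hU)₊ ≤ ((𝒜.deg U hU)₊).map (RelProj.gradedHomAt φ hφ U hU)) :
    RelProj.domQ (RelProj.QGrHom.ofHom φ hφ) pB chartB = ⊤ := by
  rw [eq_top_iff]
  intro x _
  obtain ⟨U, hU, hxU, hle⟩ := hcov (pB.base x)
  have hx : x ∈ (RelProj.emb pB chartB U hU).opensRange := by
    rw [Groth.Agent.RelProjLib.emb_opensRange]; exact hxU
  obtain ⟨y, hy⟩ := hx
  have hid : U ≤ (𝟙 Y : Y ⟶ Y) ⁻¹ᵁ U := le_refl U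
  refine Opens.mem_iSup.2 ⟨⟨(⟨U, hU⟩, ⟨U, hU⟩), hid⟩, y, ?_, hy⟩
  refine (RelCone.mem_domOpen _ _).2 ?_
  by_contra hne
  push Not at hne
  refine y.not_irrelevant_le (hle.trans (HomogeneousIdeal.map_le_of_le_comap _ fun a ha => ?_))
  have h := hne a ha
  rw [RelProj.QGrHom.gradedAt_apply] at h
  show (φ.hom.app (op U)).hom a ∈ y.asHomogeneousIdeal
  simp only [RelProj.QGrHom.ofHom, RelSpec.QHom.ofHom_appLE, CommRingCat.comp_apply] at h
  have e : ℬ.presheaf.map (homOfLE hid).op = 𝟙 (ℬ.presheaf.obj (op U)) := ℬ.presheaf.map_id _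
  erw [e] at h
  exact h

end Groth.Agent.S12163
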