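import Groth.Statements.S12164
import Groth.Agent.SymLib.Affine
import Groth.Agent.RelSpecLib.BaseChange
import Groth.Agent.LimTop.PullSec
-- import your own Groth.Agent.* helpers here

set_option autoImplicit false
universe u
open CategoryTheory CategoryTheory.Limits AlgebraicGeometry TopologicalSpace Opposite
open scoped HomogeneousIdeal
noncomputable section
open EGA2

namespace Groth.Agent.S12164

/-- Let g : S' → S be a morphism, E a quasi-coherent O_S-module, A = Sym(E) and B = Sym(g^*E) the
symmetric algebras (given by their universal properties among quasi-coherent algebras, with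
structure maps j : E → A and j' : g^*E → B), u : A → g_*B the g-morphism of algebras extending the
adjunction unit E → g_*g^*E followed by g_*(j'), and h = Spec(u) : V(g^*E) = Spec(B) → V(E) =
Spec(A). Then h identifies V(g^*E) with the base change V(E) ×_S S'. -/
theorem result {S S' : Scheme.{u}} (g : S' ⟶ S)
    (E : S.Modules) (hE : Coh.IsQCoh E) (A : RelSpec.QCAlg S) (j : E ⟶ A.toModule) (hA : RelSpec.IsSymAlg E A j)
    (B : RelSpec.QCAlg S') (j' : (Scheme.Modules.pullback g).obj E ⟶ B.toModule)
    (hB : RelSpec.IsSymAlg ((Scheme.Modules.pullback g).obj E) B j')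
    (u : RelSpec.QHom g A B)
    (hu : ∀ (U : S.Opens) (x : Γ(E, U)),
      (u.app U).hom ((j.app U) x) =
        (j'.app (g ⁻¹ᵁ U)) (((Scheme.Modules.pullbackPushforwardAdjunction g).unit.app E).app U x))
    (h : B.spec ⟶ A.spec) (hh : RelSpec.IsSpecQMap u h) :
    IsPullback h B.π A.π g := by
  have : E.IsQuasicoherent := hE
  let E' := (Scheme.Modules.pullback g).obj E
  have : E'.IsQuasicoherent := QCoh.isQuasicoherent_pullback g E
  refine RelSpecLib.isPullback_of_isQBaseChange u (fun U hU U' hU' hle => ?_) hh
  have hw := u.str_appLE U U' hle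
  have hbc := LimTop.isBaseChange_unitSec g E hle hU hU'
  let η := LimTop.unitSec g E hle
  have hη : ∀ m, (u.appLE U U' hle).hom (j.app U m) = j'.app U' (η m) := fun m => by
    rw [RelSpec.QHom.appLE_eq, CommRingCat.comp_apply, hu U m]
    exact (QCoh.app_res j' hle _).symm
  let iR : Algebra Γ(S, U) Γ(S', U') := (g.appLE U U' hle).hom.toAlgebra
  let iM := LimTop.secModule g E hle
  have : IsScalarTower Γ(S, U) Γ(S', U') Γ(E', U') := IsScalarTower.of_algebraMap_smul fun _ _ => rfl
  refine ⟨⟨hw.symm⟩, ⟨PushoutCocone.isColimitAux' _ fun c => ?_⟩⟩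
  let C := (c.pt : Type u)
  let iC' : Algebra Γ(S', U') C := c.inl.hom.toAlgebra
  let iC : Algebra Γ(S, U) C := (c.inl.hom.comp (g.appLE U U' hle).hom).toAlgebra
  have : IsScalarTower Γ(S, U) Γ(S', U') C := .of_algebraMap_eq' rfl
  have hc : ∀ r, c.inl.hom ((g.appLE U U' hle).hom r) = c.inr.hom ((A.str.app (op U)).hom r) := fun r =>
    congr($(c.condition).hom r)
  let l₀ : Γ(E, U) →ₗ[Γ(S, U)] C :=
    { toFun := fun m => c.inr.hom (j.app U m)
      map_add' := fun a b => (congrArg c.inr.hom (map_add _ a b)).trans (map_add _ _ _)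
      map_smul' := fun r m => by
        rw [RingHom.id_apply, Algebra.smul_def]
        exact (congrArg c.inr.hom (j.app_smul r m)).trans ((map_mul c.inr.hom _ _).trans
          (congrArg (· * c.inr.hom (j.app U m)) (hc r).symm)) }
  let Ψ := (SymmetricAlgebra.lift (hbc.lift l₀)).toRingHom
  let e := RingEquiv.ofBijective (SymLib.affLift j' U') (SymLib.affLift_bijective hB hU')
  let desc : B.presheaf.obj (op U') ⟶ c.pt := CommRingCat.ofHom (Ψ.comp e.symm.toRingHom)
  have hdl : ∀ x, desc.hom (SymLib.affLift j' U' x) = Ψ x := fun x => congrArg Ψ (e.symm_apply_apply x)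
  have d1 : ∀ r, desc.hom ((B.str.app (op U')).hom r) = c.inl.hom r := fun r => by
    rw [← SymLib.affLift_algebraMap j' U' r, hdl]
    exact AlgHom.commutes _ r
  have d2 : ∀ m, desc.hom (j'.app U' (η m)) = c.inr.hom (j.app U m) := fun m => by
    rw [← SymLib.affLift_ι j' U' (η m), hdl]
    exact (SymmetricAlgebra.lift_ι_apply _ _).trans (hbc.lift_eq l₀ m)
  refine ⟨desc, CommRingCat.hom_ext (RingHom.ext d1), CommRingCat.hom_ext (RingHom.ext fun a => ?_), fun {m} h1 h2 => ?_⟩
  · change desc.hom ((u.appLE U U' hle).hom a) = c.inr.hom a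
    induction a using SymLib.affInduction hA hU with
    | hstr r =>
      rw [← hc r, ← d1]
      exact congrArg desc.hom congr($(hw).hom r)
    | hj m => rw [hη, d2]
    | hmul a b ha hb => simp only [map_mul, ha, hb]
    | hadd a b ha hb => simp only [map_add, ha, hb]
  · refine CommRingCat.hom_ext (RingHom.ext fun b => ?_)
    induction b using SymLib.affInduction hB hU' with
    | hstr r => exact congr($(h1).hom r).trans (d1 r).symm
    | hj n =>
      induction n using IsBaseChange.inductionOn hbc with
      | zero =>
        have e0 : (j'.app U' 0 : B.presheaf.obj (op U')) = (0 : B.presheaf.obj (op U')) := map_zero _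
        rw [e0]
        exact (map_zero m.hom).trans (map_zero desc.hom).symm
      | tmul x =>
        change m.hom (j'.app U' (η x)) = desc.hom (j'.app U' (η x))
        rw [d2, ← hη]
        exact congr($(h2).hom (j.app U x))
      | smul r x hx =>
        let b : B.presheaf.obj (op U') := j'.app U' x
        have hj' : (j'.app U' (r • x) : B.presheaf.obj (op U')) = (B.str.app (op U')).hom r * b := j'.app_smul r x
        rw [hj']
        refine (map_mul m.hom _ b).trans ((congrArg₂ (· * ·) ?_ hx).trans (map_mul desc.hom _ b).symm)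
        exact congr($(h1).hom r).trans (d1 r).symm
      | add x y hx hy =>
        let b : B.presheaf.obj (op U') := j'.app U' x
        let b' : B.presheaf.obj (op U') := j'.app U' y
        have hj' : (j'.app U' (x + y) : B.presheaf.obj (op U')) = b + b' := map_add _ x y
        rw [hj']
        exact (map_add m.hom b b').trans ((congrArg₂ (· + ·) hx hy).trans (map_add desc.hom b b').symm)
    | hmul a b ha hb => exact (map_mul m.hom a b).trans ((congrArg₂ (· * ·) ha hb).trans (map_mul desc.hom a b).symm)
    | hadd a b ha hb => exact (map_add m.hom a b).trans ((congrArg₂ (· + ·) ha hb).trans (map_add desc.hom a b).symm)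

end Groth.Agent.S12164
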