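import Groth.Statements.S12187
import Groth.Agent.EtGlueLib.Relative

set_option autoImplicit false
universe u
open TensorProduct
open EtAlg

namespace Groth.Agent.S12187

/-- Glueing along a glueing pair detects finite morphisms of affine schemes, stated for coordinate
rings. Let (R → R', f) be a glueing pair and φ : A → B a homomorphism of R-algebras with A and B
glueable as R-modules. Then φ is finite exactly when both induced maps A_f → B_f and R' ⊗_R A → R'
⊗_R B are finite. -/
theorem result (R : Type u) [CommRing R] (R' : Type u) [CommRing R'] [Algebra R R'] (f : R)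
    (hRR' : EtGlue.IsGlueingPair R R' f) (A B : Type u) [CommRing A] [Algebra R A] [CommRing B] [Algebra R B]
    (hA : EtGlue.IsGlueable R R' f A) (hB : EtGlue.IsGlueable R R' f B) (φ : A →ₐ[R] B) :
    φ.toRingHom.Finite ↔ (Localization.awayMap φ.toRingHom (algebraMap R A f)).Finite ∧
      (Algebra.TensorProduct.map (AlgHom.id R R') φ).toRingHom.Finite := by
  refine Groth.Agent.EtGlueLib.relative_setup (R' := R') (f := f) φ
    (fun A' Ag B B' Bg _ _ _ _ _ _ _ _ _ _ => Module.Finite A B ↔ Module.Finite Ag Bg ∧ Module.Finite A' B') ?_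
  intro A' Ag B' Bg _ _ _ _ _ _ _ _ _ _ _ _ _ _ _ _ _ _ _ _ _ _ _ _ _ _
  have hq := Groth.Agent.EtGlueLib.quotPowBijective_baseChange (f := f) hRR'.1 A A'
  refine ⟨fun hs => ⟨Module.Finite.equiv (Groth.Agent.EtGlueLib.pushoutEquiv A B Ag Bg).toLinearEquiv,
    Module.Finite.equiv (Groth.Agent.EtGlueLib.pushoutEquiv A B A' B').toLinearEquiv⟩, fun ⟨h1, h2⟩ =>
    Groth.Agent.EtGlueLib.finite_of_glue (B' := B') (Ag := Ag) (Bg := Bg) hq⟩

end Groth.Agent.S12187
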