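import Groth.Statements.S12192
import Groth.Agent.AlgSpEN.EtaleSection

set_option autoImplicit false
set_option backward.isDefEq.respectTransparency false
set_option backward.isDefEq.respectTransparency.types false
universe u
open CategoryTheory CategoryTheory.Limits AlgebraicGeometry
open AlgSp

namespace Groth.Agent.S12192

/-- Let f : Y' → Y be a proper morphism between algebraic spaces over the scheme S, i : Z → Y a closed
immersion, E = Z ×_Y Y', and assume f is an isomorphism over the open complement of Z. Let V₁, V₂ be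
etale over Y, with base changes V₁', V₂' to Y' and W₁, W₂ to Z, and let P₁ be the base change of V₁
to E (through both V₁' and W₁). Then a morphism m' : V₁' → V₂' over Y' and a morphism n : W₁ → W₂
over Z inducing the same morphism P₁ → V₂ are the base changes of exactly one morphism V₁ → V₂ over
Y. (The published statement asserts that the functor sending a space etale over Y to its base
changes to Y' and to Z, glued along E, is an equivalence of categories onto such glueing data; this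
row states that it is fully faithful.) -/
theorem result {S : Scheme.{u}}
    {Y Y' Z E U U' V₁ V₂ V₁' V₂' W₁ W₂ P₁ : AlgSp.Space S} (f : Y' ⟶ Y)
    (hf : AlgSp.IsProperMor f.hom) (i : Z ⟶ Y) (hi : AlgSp.RepWith @IsClosedImmersion i.hom) (j : E ⟶ Y')
    (g : E ⟶ Z) (hE : IsPullback j.hom g.hom f.hom i.hom) (jU : U ⟶ Y)
    (hjU : AlgSp.RepWith @IsOpenImmersion jU.hom)
    (hU : Set.range (AlgSp.Points.map jU.hom) = (Set.range (AlgSp.Points.map i.hom))ᶜ) (fU : U' ⟶ U)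
    (jU' : U' ⟶ Y') (hU' : IsPullback jU'.hom fU.hom f.hom jU.hom) [IsIso fU]
    (v₁ : V₁ ⟶ Y) (v₂ : V₂ ⟶ Y) (hv₁ : AlgSp.IsEtaleMor v₁.hom) (hv₂ : AlgSp.IsEtaleMor v₂.hom)
    (a₁ : V₁' ⟶ V₁) (p₁ : V₁' ⟶ Y') (ha₁ : IsPullback a₁.hom p₁.hom v₁.hom f.hom)
    (a₂ : V₂' ⟶ V₂) (p₂ : V₂' ⟶ Y') (ha₂ : IsPullback a₂.hom p₂.hom v₂.hom f.hom)
    (b₁ : W₁ ⟶ V₁) (q₁ : W₁ ⟶ Z) (hb₁ : IsPullback b₁.hom q₁.hom v₁.hom i.hom)
    (b₂ : W₂ ⟶ V₂) (q₂ : W₂ ⟶ Z) (hb₂ : IsPullback b₂.hom q₂.hom v₂.hom i.hom)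
    (r₁ : P₁ ⟶ V₁') (s₁ : P₁ ⟶ W₁) (e₁ : P₁ ⟶ E)
    (hr₁ : IsPullback r₁.hom e₁.hom p₁.hom j.hom) (hs₁ : IsPullback s₁.hom e₁.hom q₁.hom g.hom)
    (hP₁ : r₁ ≫ a₁ = s₁ ≫ b₁)
    (m' : V₁' ⟶ V₂') (hm' : m' ≫ p₂ = p₁) (n : W₁ ⟶ W₂) (hn : n ≫ q₂ = q₁)
    (hmn : r₁ ≫ m' ≫ a₂ = s₁ ≫ n ≫ b₂) :
    ∃! m : V₁ ⟶ V₂, m ≫ v₂ = v₁ ∧ a₁ ≫ m = m' ≫ a₂ ∧ b₁ ≫ m = n ≫ b₂ := by
  have hA : ∀ {A B C : AlgSp.Space S} (u : A ⟶ B) (w : B ⟶ C), (u ≫ w).hom = u.hom ≫ w.hom := fun _ _ => rfl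
  have sqP : IsPullback (pullback.fst v₁.hom v₂.hom) (pullback.snd v₁.hom v₂.hom) v₁.hom v₂.hom :=
    IsPullback.of_hasPullback _ _
  have hPa := Groth.Agent.AlgSp.isAlgSpace_pullback Y.property V₁.property V₂.property v₁.hom v₂.hom
  let P : AlgSp.Space S := ⟨pullback v₁.hom v₂.hom, hPa⟩
  let h : P ⟶ V₁ := ObjectProperty.homMk (pullback.fst v₁.hom v₂.hom)
  have he : AlgSp.IsEtaleMor h.hom :=
    Groth.Agent.AlgSpCov.HomeoEt.isEtaleMor_of_baseChange V₂.property Y.property hPa V₁.property sqP.flip hv₂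
  -- the open complement of `W₁`
  have sqU : IsPullback (pullback.fst v₁.hom jU.hom) (pullback.snd v₁.hom jU.hom) v₁.hom jU.hom :=
    IsPullback.of_hasPullback _ _
  let U₁ : AlgSp.Space S :=
    ⟨pullback v₁.hom jU.hom, Groth.Agent.AlgSp.isAlgSpace_pullback Y.property V₁.property U.property v₁.hom jU.hom⟩
  let jU₁ : U₁ ⟶ V₁ := ObjectProperty.homMk (pullback.fst v₁.hom jU.hom)
  have hjU₁ : AlgSp.RepWith @IsOpenImmersion jU₁.hom := MorphismProperty.of_isPullback sqU.flip hjU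
  have hU₁ : Set.range (AlgSp.Points.map jU₁.hom) = (Set.range (AlgSp.Points.map b₁.hom))ᶜ := by
    ext x
    constructor
    · rintro ⟨u, rfl⟩ ⟨w, hw⟩
      have h1 : AlgSp.Points.map jU.hom (AlgSp.Points.map (pullback.snd v₁.hom jU.hom) u) ∈
          (Set.range (AlgSp.Points.map i.hom))ᶜ := hU ▸ ⟨_, rfl⟩
      refine h1 ⟨AlgSp.Points.map q₁.hom w, ?_⟩
      rw [← AlgSp.Points.map_comp, ← hb₁.w, AlgSp.Points.map_comp, hw, ← AlgSp.Points.map_comp,
        ← AlgSp.Points.map_comp, ← sqU.w]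
      rfl
    · intro hx
      have h1 : AlgSp.Points.map v₁.hom x ∈ Set.range (AlgSp.Points.map jU.hom) := by
        rw [hU]
        rintro ⟨z, hz⟩
        obtain ⟨w, hw, -⟩ := Groth.Agent.AlgSpB.exists_of_isPullback hb₁ x z hz.symm
        exact hx ⟨w, hw⟩
      obtain ⟨u, hu⟩ := h1
      obtain ⟨p, hp, -⟩ := Groth.Agent.AlgSpB.exists_of_isPullback sqU x u hu.symm
      exact ⟨p, hp⟩
  have : IsIso fU.hom := inferInstanceAs (IsIso ((ObjectProperty.ι (AlgSp.IsAlgSpace (S := S))).map fU))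
  have hk : IsPullback (inv fU.hom ≫ jU'.hom) (𝟙 U.obj) f.hom jU.hom :=
    hU'.of_iso (asIso fU.hom) (Iso.refl _) (Iso.refl _) (Iso.refl _) (by simp) (by simp) (by simp) (by simp)
  obtain ⟨k₁, hk₁a, hk₁p⟩ := ha₁.exists_lift (pullback.fst v₁.hom jU.hom)
    (pullback.snd v₁.hom jU.hom ≫ inv fU.hom ≫ jU'.hom)
    (by rw [sqU.w, Category.assoc, hk.w, Category.id_comp])
  have hk₁ : IsPullback k₁ (𝟙 U₁.obj) a₁.hom jU₁.hom := by
    refine IsPullback.of_right (h₁₂ := p₁.hom) (h₂₂ := v₁.hom) (v₁₃ := f.hom) ?_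
      (hk₁a.trans (Category.id_comp _).symm) ha₁.flip
    rw [hk₁p, show jU₁.hom ≫ v₁.hom = pullback.snd v₁.hom jU.hom ≫ jU.hom from sqU.w]
    exact (IsPullback.of_vert_isIso (⟨by simp [U₁]⟩ : CommSq (pullback.snd v₁.hom jU.hom) (𝟙 U₁.obj) (𝟙 U.obj) (pullback.snd v₁.hom jU.hom))).paste_horiz hk
  have hP : IsPullback r₁.hom s₁.hom a₁.hom b₁.hom := by
    refine IsPullback.of_right (h₁₂ := p₁.hom) (h₂₂ := v₁.hom) (v₁₃ := f.hom) ?_
      (congrArg InducedCategory.Hom.hom hP₁) ha₁.flip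
    rw [hr₁.w, hb₁.w]
    exact hs₁.flip.paste_horiz hE
  have hb₁c : AlgSp.RepWith @IsClosedImmersion b₁.hom := MorphismProperty.of_isPullback hb₁.flip hi
  have hac : AlgSp.IsUnivClosedMor a₁.hom := fun _ _ hZ g' fst snd sq =>
    hf.2.2 hZ (g' ≫ v₁.hom) (fst ≫ p₁.hom) snd (sq.paste_horiz ha₁.flip)
  have hm2 : (m' ≫ a₂).hom ≫ v₂.hom = a₁.hom ≫ v₁.hom := by
    rw [hA, Category.assoc, ha₂.w, ← Category.assoc, ← hA, hm', ha₁.w]
  have hn2 : (n ≫ b₂).hom ≫ v₂.hom = b₁.hom ≫ v₁.hom := by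
    rw [hA, Category.assoc, hb₂.w, ← Category.assoc, ← hA, hn, hb₁.w]
  obtain ⟨s, ⟨hs1, hs2, hs3⟩, hsu⟩ := Groth.Agent.AlgSpEN.existsUnique_section a₁ hac b₁ hb₁c r₁ s₁ hP jU₁
    hjU₁ hU₁ k₁ hk₁ h he (pullback.lift a₁.hom (m' ≫ a₂).hom hm2.symm) (pullback.lift_fst _ _ _)
    (pullback.lift b₁.hom (n ≫ b₂).hom hn2.symm) (pullback.lift_fst _ _ _) (by
      refine pullback.hom_ext ?_ ?_
      · rw [Category.assoc, Category.assoc, pullback.lift_fst, pullback.lift_fst, hP.w]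
      · rw [Category.assoc, Category.assoc, pullback.lift_snd, pullback.lift_snd, ← hA, ← hA, hmn])
  refine ⟨ObjectProperty.homMk (s ≫ pullback.snd v₁.hom v₂.hom), ⟨?_, ?_, ?_⟩, ?_⟩
  · apply ObjectProperty.hom_ext
    change (s ≫ pullback.snd v₁.hom v₂.hom) ≫ v₂.hom = v₁.hom
    rw [Category.assoc, ← pullback.condition, ← Category.assoc]
    exact (congrArg (· ≫ v₁.hom) hs1).trans (Category.id_comp _)
  · apply ObjectProperty.hom_ext
    change a₁.hom ≫ s ≫ pullback.snd v₁.hom v₂.hom = (m' ≫ a₂).hom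
    rw [reassoc_of% hs2]
    exact pullback.lift_snd _ _ _
  · apply ObjectProperty.hom_ext
    change b₁.hom ≫ s ≫ pullback.snd v₁.hom v₂.hom = (n ≫ b₂).hom
    rw [reassoc_of% hs3]
    exact pullback.lift_snd _ _ _
  · rintro m ⟨h1, h2, h3⟩
    have e1 : m.hom ≫ v₂.hom = v₁.hom := congrArg InducedCategory.Hom.hom h1
    have := hsu (pullback.lift (𝟙 _) m.hom (by rw [Category.id_comp, e1])) ⟨pullback.lift_fst _ _ _, ?_, ?_⟩
    · apply ObjectProperty.hom_ext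
      change m.hom = s ≫ pullback.snd v₁.hom v₂.hom
      rw [← this, pullback.lift_snd]
    · refine pullback.hom_ext ?_ ?_
      · rw [Category.assoc, pullback.lift_fst, pullback.lift_fst, Category.comp_id]
      · rw [Category.assoc, pullback.lift_snd, pullback.lift_snd, ← hA, h2]
    · refine pullback.hom_ext ?_ ?_
      · rw [Category.assoc, pullback.lift_fst, pullback.lift_fst, Category.comp_id]
      · rw [Category.assoc, pullback.lift_snd, pullback.lift_snd, ← hA, h3]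

end Groth.Agent.S12192
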