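import Groth.Statements.S12193
import Groth.Agent.AlgSp.SchImageRep
import Groth.Agent.AlgSp.Space
import Groth.Agent.AlgSpB.Open
import Groth.Agent.AlgSpCov.Sheaf

set_option autoImplicit false
set_option backward.isDefEq.respectTransparency false
set_option backward.isDefEq.respectTransparency.types false
universe u
open CategoryTheory CategoryTheory.Limits AlgebraicGeometry
open AlgSp Groth.Agent

namespace Groth.Agent.S12193


/-- A base change of an etale morphism to a reduced space has reduced source. -/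
theorem isReducedSp_of_etale_bc {S : Scheme.{u}} {X Y V P : AlgSp.Space S} (f : X ⟶ Y) (b : V ⟶ Y)
    (hb : IsEtaleMor b.hom) (hX : IsReducedSp X.obj) (p₁ : P ⟶ X) (p₂ : P ⟶ V)
    (sq : IsPullback p₁.hom p₂.hom f.hom b.hom) : IsReducedSp P.obj := by
  obtain ⟨W, a, ha, has⟩ := V.property.atlas
  let q₁ := pullback.fst p₂.hom a
  have sq' : IsPullback q₁ (pullback.snd p₂.hom a) p₂.hom a := IsPullback.of_hasPullback _ _
  have hQ : IsAlgSpace (pullback p₂.hom a) :=
    AlgSp.isAlgSpace_pullback V.property P.property (IsAlgSpace.yon_obj W) _ _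
  have he : RepWith @Etale (q₁ ≫ p₁.hom) :=
    AlgSpCov.repWith_bc (sq'.flip.paste_vert sq.flip) (hb a ha)
  obtain ⟨R, c, hc, hcs⟩ := hQ.atlas
  refine ⟨R, c ≫ q₁, (RepWith _).comp_mem _ _ hc (AlgSpCov.repWith_bc sq'.flip ha),
    (RepWith _).comp_mem _ _ hcs (AlgSpCov.repWith_bc sq'.flip has), ?_⟩
  exact AlgSp.SchImageRep.isReduced_chart X.property hX (c ≫ q₁ ≫ p₁.hom) ((RepWith _).comp_mem _ _ hc he)

/-- Let X be a reduced algebraic space over S, f : X → Y a morphism of algebraic spaces over S, and Z →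
Y the scheme theoretic image of f. Then forming the scheme theoretic image commutes with etale base
change: for every etale morphism V → Y of algebraic spaces and cartesian squares X ×_Y V, Z ×_Y V,
the closed subspace Z ×_Y V → V is the scheme theoretic image of X ×_Y V → V. -/
theorem result {S : Scheme.{u}} {X Y Z V XV ZV : AlgSp.Space S} (f : X ⟶ Y)
    (i : Z ⟶ Y) (hX : AlgSp.IsReducedSp X.obj) (hZ : AlgSp.IsSchImage f.hom i.hom) (b : V ⟶ Y)
    (hb : AlgSp.IsEtaleMor b.hom) (f₁ : XV ⟶ X) (fV : XV ⟶ V) (i₁ : ZV ⟶ Z) (iV : ZV ⟶ V)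
    (sqX : IsPullback f₁.hom fV.hom f.hom b.hom) (sqZ : IsPullback i₁.hom iV.hom i.hom b.hom) :
    AlgSp.IsSchImage fV.hom iV.hom := by
  have hi := AlgSp.SchImageRep.isRedInduced_of_reduced X.property Y.property Z.property hX hZ
  have hiV : RepWith @IsClosedImmersion iV.hom := AlgSpCov.repWith_bc sqZ hZ.1
  obtain ⟨f', hf'⟩ := hZ.2.1
  obtain ⟨l, -, hl⟩ := sqZ.exists_lift (f₁.hom ≫ f') fV.hom (by rw [Category.assoc, hf', sqX.w])
  refine ⟨hiV, ⟨l, hl⟩, fun Z' i' hZ' hi' ⟨f'', hf''⟩ => ?_⟩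
  have hXV := isReducedSp_of_etale_bc i b hb ⟨hi.2.2.choose, hi.2.2.choose_spec⟩ i₁ iV sqZ
  refine AlgSp.SchImageRep.exists_factor_of_reduced ZV.property hXV hi' ?_
  rintro _ ⟨z, rfl⟩
  have hopen : IsOpenMap (Points.map b.hom) := by
    intro O hO
    obtain ⟨W, a, ha, has⟩ := V.property.atlas
    have : Points.map b.hom '' O = Points.ofPt (a ≫ b.hom) '' (Points.ofPt a ⁻¹' O) := by
      refine Set.ext fun y => ⟨?_, ?_⟩
      · rintro ⟨v, hv, rfl⟩
        obtain ⟨w, rfl⟩ := AlgSpB.surjective_ofPt has v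
        exact ⟨w, hv, (Points.map_ofPt _ _ _).symm⟩
      · rintro ⟨w, hw, rfl⟩
        exact ⟨_, hw, Points.map_ofPt _ _ _⟩
    rw [this]
    exact AlgSpB.isOpenMap_ofPt (hb a ha) _ (hO.preimage (Points.continuous_ofPt a))
  refine closure_minimal ?_ (AlgSp.SchImageRep.isClosed_range V.property hi')
    (hopen.preimage_closure_subset_closure_preimage (show Points.map iV.hom z ∈
      Points.map b.hom ⁻¹' closure (Set.range (Points.map f.hom)) from ?_))
  · rintro v ⟨x, hx⟩
    obtain ⟨w, -, rfl⟩ := AlgSpB.exists_of_isPullback sqX x v hx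
    exact ⟨Points.map f'' w, by rw [← Points.map_comp, hf'']⟩
  · rw [Set.mem_preimage, ← Points.map_comp, ← sqZ.w, Points.map_comp, ← hi.2.1]
    exact ⟨_, rfl⟩

end Groth.Agent.S12193
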