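import Groth.Statements.S12194
import Groth.Agent.AlgSpQC.StalkNbhd
-- import your own Groth.Agent.* helpers here

set_option autoImplicit false
universe u
open CategoryTheory CategoryTheory.Limits AlgebraicGeometry Opposite
open AlgSp

set_option backward.isDefEq.respectTransparency.types false

namespace Groth.Agent.S12194

/-- Let X be a locally Noetherian algebraic space over S, φ : G ⟶ F a morphism of coherent O_X-modules
on the small etale site of X (of finite presentation, X being locally Noetherian) and x̄ a geometric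
point of X. If the map φ_x̄ on stalks at x̄ (of the underlying abelian sheaves) is surjective, then
there is an open subspace X' ⊂ X containing the image of x̄ such that φ|_{X'} is surjective: the
stalk map φ_ȳ is surjective for every geometric point ȳ of X lying over a point of |X'|. -/
theorem result {S : Scheme.{u}} (X : AlgSp.Space S)
    (hX : AlgSp.IsLocNoethSp X.obj) {G F : AlgSp.ModEt X.obj} [G.IsFinitePresentation] [F.IsFinitePresentation]
    (φ : G ⟶ F) (xbar : AlgSp.FieldPt X.obj) (hx : xbar.IsGeometric)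
    (hsurj : Epi ((AlgSp.stalkEtFunctor AddCommGrpCat.{u + 1} xbar).map ((AlgSp.toAbEt X.obj).map φ))) :
    ∃ (X' : AlgSp.Space S) (j : X' ⟶ X), AlgSp.RepWith @IsOpenImmersion j.hom ∧
      AlgSp.Points.mk xbar ∈ Set.range (AlgSp.Points.map j.hom) ∧
        ∀ ybar : AlgSp.FieldPt X.obj, ybar.IsGeometric →
          AlgSp.Points.mk ybar ∈ Set.range (AlgSp.Points.map j.hom) →
            Epi ((AlgSp.stalkEtFunctor AddCommGrpCat.{u + 1} ybar).map ((AlgSp.toAbEt X.obj).map φ)) := by
  obtain ⟨O, hO, hq', h⟩ := AlgSpQC.exists_open_locallySurjective xbar hx φ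
    ((AddCommGrpCat.epi_iff_surjective _).1 hsurj)
  obtain ⟨X', j, hj, hr⟩ := AlgSpB.exists_openSubspace X hO
  refine ⟨X', j, hj, hr ▸ hq', fun q hq hqO => (AddCommGrpCat.epi_iff_surjective _).2 fun t => ?_⟩
  obtain ⟨U, l, n, rfl⟩ :=
    (AlgSpD.stalkPoint X q hq).toPresheafFiber_jointly_surjective (P := ((toAbEt X.obj).obj F).obj) t
  -- shrink `U` to lie over `O`
  obtain ⟨E, g, -, hgO, w, hw⟩ := AlgSpQC.exists_affine_subObj (E := U)
    (hO.preimage (AlgSp.Points.continuous_ofPt U.obj.hom))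
    (u := l.1.left (IsLocalRing.closedPoint q.K))
    (by rw [Set.mem_preimage, AlgSpD.ofPt_lift q l]; exact hr ▸ hqO)
  obtain ⟨c, rfl⟩ := AlgSpD.exists_lift_of_mem_range X q hq g l w hw
  have hE : Set.range (Points.ofPt E.obj.hom) ⊆ O := by
    rintro _ ⟨z, rfl⟩
    rw [← EtOver.w g, AlgSpB.ofPt_map_comp]
    exact hgO ⟨z, rfl⟩
  obtain ⟨J, hJ, hJ'⟩ := h E hE (AlgSpQC.rs F g n)
  obtain ⟨V, f, hf, d, rfl⟩ := (AlgSpD.stalkPoint X q hq).jointly_surjective J hJ c
  obtain ⟨m, hm⟩ := hJ' V f hf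
  refine ⟨AlgSpQC.germM q hq G d m, ?_⟩
  rw [AlgSpQC.map_germM, hm, ← AlgSpQC.rs_comp]
  exact (AlgSpD.stalkPoint X q hq).toPresheafFiber_w_apply (f ≫ g) d ((toAbEt X.obj).obj F).obj n

end Groth.Agent.S12194
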