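import Groth.Statements.S12195
import Groth.Agent.AlgSp.InfGlue

set_option autoImplicit false
universe u
open CategoryTheory CategoryTheory.Limits AlgebraicGeometry
open AlgSp

namespace Groth.Agent.S12195

/-- Let a : F ⟶ G be a representable, surjective and etale morphism of fppf sheaves on (Sch/S) and b : G
⟶ H a morphism such that a ≫ b is formally smooth. Consider a solid infinitesimal lifting square for
b: a square-zero thickening T = Spec (A/I) ⊂ T' = Spec A of affine schemes over S, a morphism T ⟶ G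
and a morphism T' ⟶ H making the square commute. Then for every point t of T' there exist an affine
scheme U', an etale morphism U' ⟶ T' whose image contains t, and a morphism U' ⟶ G lying over T' ⟶ H
whose restriction to T ×_{T'} U' agrees with the given T ⟶ G (stated for every scheme V mapping
compatibly to T and U'). (The published statement is for transformations of arbitrary presheaves of
sets on (Sch/S)_fppf; this row takes fppf sheaves, the case of algebraic spaces.) -/
theorem result {S : Scheme.{u}} {F G H : AlgSp.Sp S} (a : F ⟶ G)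
    (b : G ⟶ H) (ha : AlgSp.RepWith @Etale a) (ha' : AlgSp.RepWith @Surjective a)
    (hab : AlgSp.IsFormallySmoothMor (a ≫ b)) (sq : AlgSp.InfSq b) (t : ↥sq.ptT'.left) :
    ∃ (U' : Over S) (g : U' ⟶ sq.ptT') (l : (AlgSp.yon S).obj U' ⟶ G),
      IsAffine U'.left ∧ Etale g.left ∧ (∃ u : ↥U'.left, g.left u = t) ∧
        l ≫ b = (AlgSp.yon S).map g ≫ sq.bot ∧
          ∀ (V : Over S) (p : V ⟶ sq.ptT) (q : V ⟶ U'), p ≫ sq.j = q ≫ g →
            (AlgSp.yon S).map q ≫ l = (AlgSp.yon S).map p ≫ sq.top := by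
  let W := ha.1.pullback sq.top
  let p : W ⟶ sq.ptT := ha.1.snd sq.top
  have hp : Etale p.left := ha.2 _ _ _ (ha.1.isPullback sq.top)
  have hp' : Surjective p.left := ha'.2 _ _ _ (ha.1.isPullback sq.top)
  obtain ⟨t₀, ht₀⟩ : t ∈ Set.range sq.j.left := by
    change t ∈ Set.range (PrimeSpectrum.comap (Ideal.Quotient.mk sq.I))
    rw [range_comap_of_surjective _ _ Ideal.Quotient.mk_surjective, Ideal.mk_ker]
    intro a ha
    refine (t.isPrime.mem_of_pow_mem 2 ?_)
    have := Ideal.pow_mem_pow ha 2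
    rw [sq.sq_zero, Ideal.mem_bot] at this
    rw [this]
    exact zero_mem _
  obtain ⟨x, hx⟩ := p.left.surjective t₀
  obtain ⟨B, _, φ, k, hφ, hk, z, hz⟩ := Groth.Agent.AlgSp.InfRing.exists_etale_lift sq.I p.left x
  let k' : Groth.Agent.AlgSp.InfGlue.ptR₀ sq φ ⟶ W := Over.homMk k (by
    rw [← Over.w p]
    change k ≫ p.left ≫ sq.ptT.hom = _
    rw [reassoc_of% hk]
    exact Over.w (Groth.Agent.AlgSp.InfGlue.toT sq φ))
  have hk' : k' ≫ p = Groth.Agent.AlgSp.InfGlue.toT sq φ := Over.OverMorphism.ext hk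
  let v : (yon S).obj (Groth.Agent.AlgSp.InfGlue.ptR₀ sq φ) ⟶ F := (yon S).map k' ≫ ha.1.fst sq.top
  have hv : v ≫ a = (yon S).map (Groth.Agent.AlgSp.InfGlue.toT sq φ) ≫ sq.top := by
    rw [Category.assoc, (ha.1.isPullback sq.top).w, ← Category.assoc, ← Functor.map_comp, hk']
  let sqF : InfSq (a ≫ b) :=
    ⟨B, sq.I.map φ, (Groth.Agent.AlgSp.InfGlue.restrict sq φ).sq_zero, _, v,
      (yon S).map (Groth.Agent.AlgSp.InfGlue.toT' sq φ) ≫ sq.bot,
      (Category.assoc _ _ _).symm.trans ((congrArg (· ≫ b) hv).trans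
        ((Groth.Agent.AlgSp.InfGlue.restrict sq φ).comm))⟩
  obtain ⟨m, hm₁, hm₂⟩ := hab sqF
  refine ⟨Groth.Agent.AlgSp.InfGlue.ptR sq φ, Groth.Agent.AlgSp.InfGlue.toT' sq φ, m ≫ a,
    inferInstanceAs (IsAffine (Spec (CommRingCat.of B))), (HasRingHomProperty.Spec_iff (P := @Etale)).2 hφ,
    ⟨(Groth.Agent.AlgSp.InfGlue.jR sq φ).left z, ?_⟩, (Category.assoc _ _ _).trans hm₂,
    fun V p' q w => ?_⟩
  · rw [← ht₀, ← hx, ← hz]
    exact (congr(($(Groth.Agent.AlgSp.InfGlue.jR_toT' sq φ)).left z)).trans (congr(sq.j.left ($hk z))).symm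
  · obtain ⟨c, hc₁, hc₂⟩ : ∃ c : V ⟶ Groth.Agent.AlgSp.InfGlue.ptR₀ sq φ,
        c ≫ Groth.Agent.AlgSp.InfGlue.jR sq φ = q ∧ c ≫ Groth.Agent.AlgSp.InfGlue.toT sq φ = p' :=
      ⟨(Groth.Agent.AlgSp.InfGlue.isPullback_R sq φ).lift q p' w.symm, IsPullback.lift_fst _ _ _ _,
        IsPullback.lift_snd _ _ _ _⟩
    rw [← hc₁, ← hc₂, Functor.map_comp, Category.assoc, Functor.map_comp, Category.assoc, ← hv]
    exact congrArg ((yon S).map c ≫ ·) ((Category.assoc _ _ _).symm.trans (congrArg (· ≫ a) hm₁))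

end Groth.Agent.S12195
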