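import Groth.Statements.S12198
import Groth.Agent.AlgSp.InvLargest

set_option autoImplicit false
universe u
open CategoryTheory CategoryTheory.Limits AlgebraicGeometry
open AlgSp AlgSp.GroupoidSp

namespace Groth.Agent.S12198

/-- Let B be an algebraic space over S, (U, R, s, t, c) a groupoid in algebraic spaces over B and G → U
its stabilizer group algebraic space. Let τ be one of the topologies fppf, etale, smooth and P a
property of morphisms between algebraic spaces, τ-local on the base, and assume that {s : R → U} and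
{t : R → U} are coverings for τ. Let W ⊂ U be the largest open subspace such that G_W → W has P,
characterised by: for an open subspace W' ⊂ U the base change G ×_U W' → W' has P if and only if W'
⊂ W. Then W is an R-invariant open subspace of U. (The published statement also allows the syntomic
topology, which is not available here.) -/
theorem result {S : Scheme.{u}} {B : AlgSp.Sp S} (hB : AlgSp.IsAlgSpace B)
    (G : AlgSp.GroupoidSp B) (hU : AlgSp.IsAlgSpace G.U) (hR : AlgSp.IsAlgSpace G.R)
    (τ : AlgSp.CovNotion S) (hτ : τ = AlgSp.IsFppfCover ∨ τ = AlgSp.IsEtCover ∨ τ = AlgSp.IsSmCover)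
    (P : MorphismProperty (AlgSp.Sp S)) (hP : AlgSp.IsLocalOnBase τ P)
    (hs : τ (fun _ : PUnit.{u + 1} => G.R) (fun _ => G.s)) (ht : τ (fun _ : PUnit.{u + 1} => G.R) (fun _ => G.t))
    {W : AlgSp.Sp S} (hWsp : AlgSp.IsAlgSpace W) (w : W ⟶ G.U) [Mono w] (hw : AlgSp.RepWith @IsOpenImmersion w)
    (hmax : ∀ (W' : AlgSp.Sp S) (w' : W' ⟶ G.U), AlgSp.IsAlgSpace W' → AlgSp.RepWith @IsOpenImmersion w' →
      (P (pullback.snd G.stabilizerToU w') ↔ ∃ k : W' ⟶ W, k ≫ w = w')) :
    G.IsInvariant w := by
  obtain ⟨κ, hκ⟩ := Groth.Agent.AlgSp.InvLargest.exists_stabilizer_square G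
  have hG : AlgSp.IsAlgSpace G.stabilizer :=
    Groth.Agent.AlgSp.isAlgSpace_pullback (Groth.Agent.AlgSp.isAlgSpace_pullback hB hU hU G.pU G.pU) hR hU G.j G.diag
  rcases hτ with rfl | rfl | rfl
  · exact Groth.Agent.AlgSp.InvLargest.isInvariant_of_two_squares Groth.Agent.AlgSpCov.openClass_fppf hP G hU hR
      (hs.1 PUnit.unit) (ht.1 PUnit.unit) hG G.stabilizerToU (Groth.Agent.AlgSp.isAlgSpace_pullback hU hG hR G.stabilizerToU G.t)
      (pullback.snd G.stabilizerToU G.t) (IsPullback.of_hasPullback G.stabilizerToU G.t) hκ hWsp w hw hmax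
  · exact Groth.Agent.AlgSp.InvLargest.isInvariant_of_two_squares Groth.Agent.AlgSpCov.openClass_etale hP G hU hR
      (hs.1 PUnit.unit) (ht.1 PUnit.unit) hG G.stabilizerToU (Groth.Agent.AlgSp.isAlgSpace_pullback hU hG hR G.stabilizerToU G.t)
      (pullback.snd G.stabilizerToU G.t) (IsPullback.of_hasPullback G.stabilizerToU G.t) hκ hWsp w hw hmax
  · exact Groth.Agent.AlgSp.InvLargest.isInvariant_of_two_squares Groth.Agent.AlgSpCov.openClass_smooth hP G hU hR
      (hs.1 PUnit.unit) (ht.1 PUnit.unit) hG G.stabilizerToU (Groth.Agent.AlgSp.isAlgSpace_pullback hU hG hR G.stabilizerToU G.t)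
      (pullback.snd G.stabilizerToU G.t) (IsPullback.of_hasPullback G.stabilizerToU G.t) hκ hWsp w hw hmax

end Groth.Agent.S12198
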