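-- Solution for statement S1220.
import Groth.Statements.S1220
import Groth.Agent.RGFlat.SpreadProj
import Groth.Agent.RGFlat.PureProjective
import Groth.Agent.S1219

set_option autoImplicit false
universe u
open FlatMor

namespace Groth.Agent.S1220

open TensorProduct
open Groth.Agent.RGFlat.Impurity

attribute [local instance] Algebra.TensorProduct.rightAlgebra

/-- A flat module projective over the local ring at `p` is pure along the fibre at `p`. -/
theorem isPureAlong_of_projective_atPrime {A B : Type u} [CommRing A] [CommRing B] [Algebra A B]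
    [Algebra.FinitePresentation A B] (N : Type u) [AddCommGroup N] [Module B N] [Module A N] [IsScalarTower A B N]
    [Module.FinitePresentation B N] [Module.Flat A N] (p : Ideal A) [p.IsPrime]
    [Module.Projective (Localization.AtPrime p) (Localization.AtPrime p ⊗[A] N)] :
    FlatCA.IsPureAlong A B N p := by
  haveI : IsScalarTower A B (HP.Sp p B) := IsScalarTower.of_algebraMap_eq fun a => by
    show algebraMap A (HP.Hp p) a ⊗ₜ[A] (1 : B) = (1 : HP.Hp p) ⊗ₜ[A] algebraMap A B a
    rw [Algebra.algebraMap_eq_smul_one, Algebra.algebraMap_eq_smul_one, TensorProduct.smul_tmul]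
  haveI : Algebra.IsPushout A (HP.Hp p) B (HP.Sp p B) := inferInstance
  let Ap := Localization.AtPrime p
  haveI := liesOver_max A p
  have hu : ∀ a : p.primeCompl, IsUnit (algebraMap A (HP.Hp p) a) := fun a =>
    IsLocalRing.notMem_maximalIdeal.mp fun h => a.2 (((IsLocalRing.maximalIdeal (HP.Hp p)).over_def p).ge h)
  letI : Algebra Ap (HP.Hp p) := (IsLocalization.lift (M := p.primeCompl) hu).toAlgebra
  haveI : IsScalarTower A Ap (HP.Hp p) := IsScalarTower.of_algebraMap_eq fun a => (IsLocalization.lift_eq _ a).symm
  haveI : Module.Projective (HP.Hp p) (HP.Hp p ⊗[A] N) :=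
    Module.Projective.of_equiv (AlgebraTensorModule.cancelBaseChange A Ap (HP.Hp p) (HP.Hp p) N)
  haveI : Module.Projective (HP.Hp p) (HP.Sp p B ⊗[B] N) :=
    Module.Projective.of_equiv (Algebra.IsPushout.cancelBaseChange A (HP.Hp p) B (HP.Sp p B) N).symm
  have huniv : FlatCA.IsUnivPureAlong A B N p :=
    isUnivPureAlong_of_specialization (fun q _ _ => RGFlat.flatAt_of_flat q) fun t' _ Q _ _ hass =>
      S1219.exists_above t' Q hass
  intro A' B' N' _ _ _ _ _ _ _ _ _ _ _ _ _ _ f t' t _ _ P _ _
  exact huniv A' B' N' f t' t P

/-- Ring form, X = Spec B affine: let B be a finitely presented A-algebra and N a finitely presented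
B-module flat over A. Then the set of points p of Spec A such that N is pure along the fibre over p
is open. -/
theorem result {A B : Type u} [CommRing A] [CommRing B] [Algebra A B] [Algebra.FinitePresentation A B]
    (N : Type u) [AddCommGroup N] [Module B N] [Module A N] [IsScalarTower A B N] [Module.FinitePresentation B N] [Module.Flat A N] :
    IsOpen {p : PrimeSpectrum A | FlatCA.IsPureAlong A B N p.asIdeal} := by
  refine isOpen_iff_forall_mem_open.mpr fun p hp => ?_
  haveI := projective_atPrime_of_pure (B := B) N p.asIdeal hp
  obtain ⟨f, hf, hproj⟩ := RGFlat.Spreading.spread_projective (B := B) N p.asIdeal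
  refine ⟨PrimeSpectrum.basicOpen f, fun x hx => ?_, (PrimeSpectrum.basicOpen f).isOpen, hf⟩
  haveI := hproj
  let Ax := Localization.AtPrime x.asIdeal
  letI : Algebra (Localization.Away f) Ax := (IsLocalization.Away.lift f (g := algebraMap A Ax)
    (IsLocalization.map_units Ax (⟨f, hx⟩ : x.asIdeal.primeCompl))).toAlgebra
  haveI : IsScalarTower A (Localization.Away f) Ax :=
    IsScalarTower.of_algebraMap_eq fun a => (IsLocalization.Away.lift_eq f _ a).symm
  haveI : Module.Projective Ax (Ax ⊗[A] N) :=
    Module.Projective.of_equiv (AlgebraTensorModule.cancelBaseChange A (Localization.Away f) Ax Ax N)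
  exact isPureAlong_of_projective_atPrime N x.asIdeal

end Groth.Agent.S1220
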