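import Groth.Statements.S12204
import Groth.Agent.GeomRedSp.Basic
import Groth.Agent.S2535

set_option autoImplicit false
set_option backward.isDefEq.respectTransparency false
universe u
open CategoryTheory CategoryTheory.Limits AlgebraicGeometry Topology TopologicalSpace
open AlgSp Groth.Agent

namespace Groth.Agent.S12204

/-- (5) ⇒ (2): let k be a field of characteristic p > 0, k' a perfect closure of k (a perfect field
which is a purely inseparable extension of k) and X an algebraic space over k. If X_{k'} is reduced,
then X_K is reduced for every field extension K of k. -/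
theorem result (k : Type u) [Field k] (p : ℕ) [Fact p.Prime] [CharP k p]
    (X : AlgSp.Space (Spec (CommRingCat.of k))) (k' : Type u) [Field k'] [Algebra k k'] [PerfectField k']
    [IsPurelyInseparable k k']
    (h : AlgSp.EtaleLocally (fun U => IsReduced U) (X.obj ⨯ (AlgSp.yon (Spec (CommRingCat.of k))).obj (Over.mk (Spec.map (CommRingCat.ofHom (algebraMap k k'))))))
    (K : Type u) [Field K] [Algebra k K] : AlgSp.EtaleLocally (fun U => IsReduced U) (X.obj ⨯ (AlgSp.yon (Spec (CommRingCat.of k))).obj (Over.mk (Spec.map (CommRingCat.ofHom (algebraMap k K))))) := by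
  obtain ⟨U, a, ha, hs⟩ := X.property.atlas
  obtain ⟨W, q₁, q₂, d, hd, sqs, -, sq⟩ := GeomRedSp.exists_prodChart
    (T := Over.mk (Spec.map (CommRingCat.ofHom (algebraMap k k')))) ha
  have hW := (GeomRedSp.isReduced_stalk_bc_iff k' q₁ q₂ sqs).1
    ((GeomRedSp.etaleLocally_isReduced_iff hd (AlgSpCov.repWith_bc sq hs)).1 h)
  have : IsReduced (FBase.bc U.hom k') := @isReduced_of_isReduced_stalk _ hW
  have hg : GeometricallyReduced U.hom := Groth.Agent.S2535.result (Ω := k') U.hom
  obtain ⟨W', r₁, r₂, d', hd', sqs', -, sq'⟩ := GeomRedSp.exists_prodChart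
    (T := Over.mk (Spec.map (CommRingCat.ofHom (algebraMap k K)))) ha
  refine (GeomRedSp.etaleLocally_isReduced_iff hd' (AlgSpCov.repWith_bc sq' hs)).2 ?_
  refine (GeomRedSp.isReduced_stalk_bc_iff K r₁ r₂ sqs').2 fun y => ?_
  have : IsReduced (FBase.bc U.hom K) :=
    hg.geometrically_isReduced _ _ _ (IsPullback.of_hasPullback _ _)
  infer_instance

end Groth.Agent.S12204
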