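import Groth.Statements.S12205
import Groth.Agent.TorOne.Basic
import Mathlib.LinearAlgebra.DirectSum.Finsupp
import Mathlib.Algebra.Module.Torsion.Basic
import Mathlib.LinearAlgebra.TensorProduct.Quotient
-- import your own Groth.Agent.* helpers here

set_option autoImplicit false
universe u
open CategoryTheory
open scoped TensorProduct
open CAlg

namespace Groth.Agent.S12205

open Groth.Agent.TorOne

theorem good_of_killed {R : Type u} [CommRing R] {I : Ideal R} {M : Type u} [AddCommGroup M] [Module R M]
    [Module.Flat (R ⧸ I) ((R ⧸ I) ⊗[R] M)] {F : Type u} [AddCommGroup F] [Module R F]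
    (g : F →ₗ[R] M) (hg : Function.Surjective g)
    (h : Function.Injective ((LinearMap.ker g).subtype.lTensor (R ⧸ I)))
    (N : Type u) [AddCommGroup N] [Module R N] [Module (R ⧸ I) N] [IsScalarTower R (R ⧸ I) N] :
    Function.Injective ((LinearMap.ker g).subtype.lTensor N) := by
  classical
  let p : (N →₀ R ⧸ I) →ₗ[R ⧸ I] N := Finsupp.linearCombination (R ⧸ I) id
  have hp : Function.Surjective p := fun n => ⟨Finsupp.single n 1, by simp [p]⟩
  refine injective_of_quotient (N₁ := LinearMap.ker p) (N₂ := N →₀ R ⧸ I) (N₃ := N) g hg rfl ((LinearMap.ker p).subtype.restrictScalars R) (p.restrictScalars R)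
    (by exact LinearMap.exact_subtype_ker_map p) (by exact hp) ?_ ?_
  · let e₁ := TensorProduct.AlgebraTensorModule.cancelBaseChange R (R ⧸ I) (R ⧸ I) (LinearMap.ker p) M
    let e₂ := TensorProduct.AlgebraTensorModule.cancelBaseChange R (R ⧸ I) (R ⧸ I) (N →₀ R ⧸ I) M
    have hi := Module.Flat.rTensor_preserves_injective_linearMap (M := (R ⧸ I) ⊗[R] M)
      (LinearMap.ker p).subtype (LinearMap.ker p).injective_subtype
    have hsq : ∀ z, e₂ ((LinearMap.ker p).subtype.rTensor ((R ⧸ I) ⊗[R] M) z) =
        ((LinearMap.ker p).subtype.restrictScalars R).rTensor M (e₁ z) := by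
      intro z
      induction z using TensorProduct.induction_on with
      | zero => simp
      | tmul x y =>
        induction y using TensorProduct.induction_on with
        | zero => simp
        | tmul r m => simp [e₁, e₂]
        | add a b ha hb => rw [TensorProduct.tmul_add, map_add, map_add, map_add, map_add, ha, hb]
      | add a b ha hb => rw [map_add, map_add, map_add, map_add, ha, hb]
    intro a b hab
    obtain ⟨a, rfl⟩ := e₁.surjective a
    obtain ⟨b, rfl⟩ := e₁.surjective b
    rw [← hsq, ← hsq] at hab
    rw [hi (e₂.injective hab)]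
  · rw [injective_iff_map_eq_zero]
    intro z hz
    refine (TensorProduct.finsuppLeft R R (R ⧸ I) (LinearMap.ker g) N).injective (Finsupp.ext fun i => ?_)
    rw [map_zero, Finsupp.zero_apply, TensorProduct.finsuppLeft_apply]
    apply h
    rw [map_zero, ← LinearMap.comp_apply, LinearMap.lTensor_comp_rTensor, ← LinearMap.rTensor_comp_lTensor,
      LinearMap.comp_apply, hz, map_zero]

theorem good {R : Type u} [CommRing R] {I : Ideal R} {M : Type u} [AddCommGroup M] [Module R M]
    [Module.Flat (R ⧸ I) ((R ⧸ I) ⊗[R] M)] {F : Type u} [AddCommGroup F] [Module R F] [Module.Flat R F]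
    (g : F →ₗ[R] M) (hg : Function.Surjective g)
    (h : Function.Injective ((LinearMap.ker g).subtype.lTensor (R ⧸ I))) (m : ℕ) :
    ∀ (N : Type u) [AddCommGroup N] [Module R N], (∀ a ∈ I ^ m, ∀ x : N, a • x = 0) →
      Function.Injective ((LinearMap.ker g).subtype.lTensor N) := by
  induction m with
  | zero =>
    intro N _ _ hN
    haveI : Subsingleton N := ⟨fun x y => by
      rw [← one_smul R x, ← one_smul R y, hN 1 (by simp) x, hN 1 (by simp) y]⟩
    exact Function.injective_of_subsingleton _
  | succ m ih =>
    intro N _ _ hN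
    let N₁ : Submodule R N := I ^ m • ⊤
    have hk : ∀ a ∈ I, ∀ x : N₁, a • x = 0 := by
      intro a ha x
      refine Subtype.ext ?_
      show a • (x : N) = 0
      refine Submodule.smul_induction_on x.2 (fun r hr y _ => ?_) (fun y z hy hz => by rw [smul_add, hy, hz, add_zero])
      rw [smul_smul, hN (a * r) (by rw [pow_succ']; exact Ideal.mul_mem_mul ha hr)]
    letI : Module (R ⧸ I) N₁ := Module.IsTorsionBySet.module (I := I) fun x a => hk a a.2 x
    haveI : IsScalarTower R (R ⧸ I) N₁ := Module.IsTorsionBySet.isScalarTower _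
    refine injective_of_exact N₁.subtype N₁.mkQ N₁.injective_subtype (LinearMap.exact_subtype_mkQ N₁) N₁.mkQ_surjective
      (good_of_killed g hg h N₁) (ih (N ⧸ N₁) fun a ha x => ?_)
    obtain ⟨y, rfl⟩ := N₁.mkQ_surjective x
    rw [← map_smul, Submodule.mkQ_apply, Submodule.Quotient.mk_eq_zero]
    exact Submodule.smul_mem_smul ha Submodule.mem_top

/-- Let I be an ideal of a commutative ring R and M an R-module such that M/IM is flat over R/I and
Tor_1^R(R/I, M) = 0. Then Tor_1^R(N, M) = 0 for every R-module N annihilated by I^m for some m ≥ 0.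
Here Tor_1^R(N, M) is the first left derived functor of N ⊗_R − evaluated at M. -/
theorem result (R : Type u) [CommRing R] (I : Ideal R) (M : Type u)
    [AddCommGroup M] [Module R M] [Module.Flat (R ⧸ I) ((R ⧸ I) ⊗[R] M)]
    (h : Limits.IsZero (((CategoryTheory.Tor (ModuleCat.{u} R) 1).obj (ModuleCat.of R (R ⧸ I))).obj (ModuleCat.of R M)))
    (N : Type u) [AddCommGroup N] [Module R N] (m : ℕ) (hN : ∀ a : R, a ∈ I ^ m → ∀ x : N, a • x = 0) :
    Limits.IsZero (((CategoryTheory.Tor (ModuleCat.{u} R) 1).obj (ModuleCat.of R N)).obj (ModuleCat.of R M)) := by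
  classical
  let g : (M →₀ R) →ₗ[R] M := Finsupp.linearCombination R id
  have hg : Function.Surjective g := fun x => ⟨Finsupp.single x 1, by simp [g]⟩
  rw [Groth.Agent.TorOne.isZero_tor_one_iff _ g hg] at h ⊢
  exact good g hg h m N hN

end Groth.Agent.S12205
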