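import Groth.Statements.S12206
import Mathlib.Algebra.Module.FinitePresentation
-- import your own Groth.Agent.* helpers here

set_option autoImplicit false
universe u
open CAlg

namespace Groth.Agent.S12206

theorem range_good {R : Type u} [CommRing R] {N M : Type u}
    [AddCommGroup N] [Module R N] [AddCommGroup M] [Module R M] [Module.Finite R N]
    (hM : ∀ P : Submodule R M, P.FG → Module.FinitePresentation R P) (φ : N →ₗ[R] M)
    (P : Submodule R (LinearMap.range φ)) (hP : P.FG) : Module.FinitePresentation R P :=
  haveI := hM _ (hP.map (LinearMap.range φ).subtype)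
  Module.FinitePresentation.of_equiv
    (Submodule.equivMapOfInjective _ (LinearMap.range φ).injective_subtype P).symm

/-- Let φ : N → M be a linear map from a finite R-module N to a coherent R-module M, where coherent
means finitely generated with every finitely generated submodule finitely presented. Then the kernel
of φ is finitely generated, and the image of φ and the cokernel M/φ(N) are coherent. -/
theorem result (R : Type u) [CommRing R] {N M : Type u}
    [AddCommGroup N] [Module R N] [AddCommGroup M] [Module R M] [Module.Finite R N]
    (hM : Module.Finite R M ∧ ∀ P : Submodule R M, P.FG → Module.FinitePresentation R P)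
    (φ : N →ₗ[R] M) :
    (LinearMap.ker φ).FG ∧
    (Module.Finite R (LinearMap.range φ) ∧
      ∀ P : Submodule R (LinearMap.range φ), P.FG → Module.FinitePresentation R P) ∧
    (Module.Finite R (M ⧸ LinearMap.range φ) ∧
      ∀ P : Submodule R (M ⧸ LinearMap.range φ), P.FG → Module.FinitePresentation R P) := by
  have hrange : Module.FinitePresentation R (LinearMap.range φ) :=
    hM.2 _ (by rw [LinearMap.range_eq_map]; exact (Module.Finite.fg_top).map φ)
  refine ⟨?_, ⟨inferInstance, range_good hM.2 φ⟩, ?_⟩
  · rw [← LinearMap.ker_rangeRestrict]
    exact Module.FinitePresentation.fg_ker φ.rangeRestrict φ.surjective_rangeRestrict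
  · haveI := hM.1
    refine ⟨inferInstance, fun P hP => ?_⟩
    classical
    obtain ⟨s, rfl⟩ := hP
    obtain ⟨t, ht⟩ : ∃ t : Finset M, t.image (LinearMap.range φ).mkQ = s :=
      ⟨s.image (Function.surjInv (Submodule.mkQ_surjective (LinearMap.range φ))), by
        rw [Finset.image_image]
        refine (Finset.image_congr (g := id) fun z _ => ?_).trans Finset.image_id
        exact Function.surjInv_eq (Submodule.mkQ_surjective (LinearMap.range φ)) z⟩
    let P' := Submodule.span R (t : Set M) ⊔ LinearMap.range φ
    have hP'fg : P'.FG := (Submodule.fg_span t.finite_toSet).sup (Module.Finite.iff_fg.mp inferInstance)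
    haveI := hM.2 P' hP'fg
    have hmap : P'.map (LinearMap.range φ).mkQ = Submodule.span R (s : Set (M ⧸ LinearMap.range φ)) := by
      rw [Submodule.map_sup, Submodule.map_span, Submodule.mkQ_map_self, sup_bot_eq, ← ht, Finset.coe_image]
    let l : P' →ₗ[R] (Submodule.span R (s : Set (M ⧸ LinearMap.range φ))) :=
      ((LinearMap.range φ).mkQ.domRestrict P').codRestrict _ fun x =>
        hmap ▸ Submodule.mem_map_of_mem x.2
    refine Module.finitePresentation_of_surjective l ?_ ?_
    · rintro ⟨z, hz⟩
      obtain ⟨w, hw, rfl⟩ := Submodule.mem_map.mp (hmap.symm ▸ hz)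
      exact ⟨⟨w, hw⟩, Subtype.ext rfl⟩
    · have hker : LinearMap.ker l = Submodule.comap P'.subtype (LinearMap.range φ) := by
        ext x
        simp [l, Subtype.ext_iff, Submodule.Quotient.mk_eq_zero, LinearMap.domRestrict_apply]
      rw [hker]
      exact Module.Finite.iff_fg.mp (Module.Finite.equiv (Submodule.comapSubtypeEquivOfLe (p := LinearMap.range φ) (q := P') le_sup_right).symm)

end Groth.Agent.S12206
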