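import Groth.Statements.S12209
import Mathlib
-- import your own Groth.Agent.* helpers here

set_option autoImplicit false
universe u
open CAlg

namespace Groth.Agent.S12209

/-- Let (R_i) be a system of commutative rings over a nonempty directed preorder, with colimit R, and
let M be an R-module which is flat as an R_i-module for every i (the R_i-module structure being
restriction of scalars along R_i → R). Then M is flat as an R-module. -/
theorem result {ι : Type u} [Preorder ι] [Nonempty ι] [IsDirectedOrder ι]
    (G : ι → Type u) [∀ i, CommRing (G i)] (f : ∀ i j, i ≤ j → G i →+* G j)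
    [DirectedSystem G fun i j h => f i j h]
    (M : Type u) [AddCommGroup M] [Module (Ring.DirectLimit G fun i j h => f i j h) M]
    (hflat : ∀ i, letI : Module (G i) M := Module.compHom M (Ring.DirectLimit.of G (fun i j h => f i j h) i);
      Module.Flat (G i) M) :
    Module.Flat (Ring.DirectLimit G fun i j h => f i j h) M := by
  classical
  refine Module.Flat.of_forall_isTrivialRelation fun {l} {r} {x} h => ?_
  choose i a ha using fun t => Ring.DirectLimit.exists_of (r t)
  obtain ⟨j, hj⟩ := (Finset.univ.image i).exists_le
  have hij : ∀ t, i t ≤ j := fun t => hj _ (Finset.mem_image_of_mem i (Finset.mem_univ t))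
  let φ := Ring.DirectLimit.of G (fun i j h => f i j h) j
  letI : Module (G j) M := Module.compHom M φ
  haveI : Module.Flat (G j) M := hflat j
  have hb : ∀ t, φ (f (i t) j (hij t) (a t)) = r t := fun t => by
    rw [← ha t]; exact Ring.DirectLimit.of_f (G := G) (hij t) (a t)
  have hrel : ∑ t, f (i t) j (hij t) (a t) • x t = 0 := by
    rw [← h]
    exact Finset.sum_congr rfl fun t _ => show φ _ • x t = _ by rw [hb t]
  obtain ⟨k, c, y, hy, hc⟩ := Module.Flat.isTrivialRelation_of_sum_smul_eq_zero hrel
  refine ⟨k, fun t s => φ (c t s), y, fun t => hy t, fun s => ?_⟩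
  have := congrArg φ (hc s)
  rw [map_sum, map_zero] at this
  rw [← this]
  exact Finset.sum_congr rfl fun t _ => by rw [map_mul, hb t]

end Groth.Agent.S12209
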