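import Groth.Statements.S12212
import Groth.Agent.LenLib.Samuel
-- import your own Groth.Agent.* helpers here

set_option autoImplicit false
universe u
open IntMult

namespace Groth.Agent.S12212

open Filter Topology Groth.Agent.LenLib in
theorem aux (A : Type u) [CommRing A] [IsNoetherianRing A] [IsLocalRing A]
    (I : Ideal A) (hI : I ≤ IsLocalRing.maximalIdeal A ∧ ∃ n : ℕ, IsLocalRing.maximalIdeal A ^ n ≤ I)
    (d : ℕ) (e : PrimeSpectrum A → ℝ)
    (he : ∀ p : PrimeSpectrum A, ringKrullDim (A ⧸ p.asIdeal) = d →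
      Tendsto (fun t : ℕ => (d.factorial : ℝ) * (samLen I (A ⧸ p.asIdeal) t : ℝ) / (t : ℝ) ^ d)
        atTop (𝓝 (e p)))
    {M : Type u} [AddCommGroup M] [Module A M] (hM : Module.Finite A M) :
    Module.supportDim A M ≤ d →
    (∀ p : PrimeSpectrum A, ringKrullDim (A ⧸ p.asIdeal) = d →
        Module.length (Localization p.asIdeal.primeCompl) (LocalizedModule p.asIdeal.primeCompl M) ≠ ⊤) ∧
    ∃ S : Finset (PrimeSpectrum A), ∀ T : Finset (PrimeSpectrum A), S ⊆ T →
      (∀ p : PrimeSpectrum A, p ∉ T → ringKrullDim (A ⧸ p.asIdeal) = d →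
        Module.length (Localization p.asIdeal.primeCompl) (LocalizedModule p.asIdeal.primeCompl M) = 0) ∧
      Tendsto (fun t : ℕ => (d.factorial : ℝ) * (samLen I M t : ℝ) / (t : ℝ) ^ d) atTop
        (𝓝 (∑ p ∈ T, if ringKrullDim (A ⧸ p.asIdeal) = d then
          ((Module.length (Localization p.asIdeal.primeCompl)
            (LocalizedModule p.asIdeal.primeCompl M)).toNat : ℝ) * e p else 0)) := by
  classical
  induction hM using IsNoetherianRing.induction_on_isQuotientEquivQuotientPrime A with
  | subsingleton N =>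
    intro _
    have h0 : ∀ p : PrimeSpectrum A, Module.length (Localization p.asIdeal.primeCompl)
        (LocalizedModule p.asIdeal.primeCompl N) = 0 := fun p => by
      have : Subsingleton (LocalizedModule p.asIdeal.primeCompl N) := by
        rw [LocalizedModule.subsingleton_iff]
        exact fun m => ⟨1, p.asIdeal.primeCompl.one_mem, Subsingleton.elim _ _⟩
      exact Module.length_eq_zero
    refine ⟨fun p _ => by simp [h0], ∅, fun T _ => ⟨fun p _ _ => h0 p, ?_⟩⟩
    simp [h0, samLen_of_subsingleton]
  | exact N₁ N₂ N₃ f g hf hg hfg h₁ h₃ =>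
    intro hd
    obtain ⟨f₁, S₁, hS₁⟩ := h₁ ((Module.supportDim_le_of_injective f hf).trans hd)
    obtain ⟨f₃, S₃, hS₃⟩ := h₃ ((Module.supportDim_le_of_surjective g hg).trans hd)
    have hl := fun p : PrimeSpectrum A => length_localized_add p.asIdeal.primeCompl f g hf hg hfg
    refine ⟨fun p hp => by rw [hl p]; exact WithTop.add_ne_top.2 ⟨f₁ p hp, f₃ p hp⟩,
      S₁ ∪ S₃, fun T hT => ?_⟩
    obtain ⟨z₁, t₁⟩ := hS₁ T (Finset.union_subset_left hT)
    obtain ⟨z₃, t₃⟩ := hS₃ T (Finset.union_subset_right hT)
    refine ⟨fun p hpT hp => by rw [hl p, z₁ p hpT hp, z₃ p hpT hp, add_zero], ?_⟩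
    have := samuel_tendsto_add hI.2 hf hg (LinearMap.exact_iff.1 hfg).symm d t₁ t₃
    convert this using 2
    rw [← Finset.sum_add_distrib]
    refine Finset.sum_congr rfl fun p _ => ?_
    split_ifs with hp
    · rw [hl p, ENat.toNat_add (f₁ p hp) (f₃ p hp)]
      push_cast
      ring
    · simp
  | quotient N q ι =>
    intro hd
    rw [Module.supportDim_eq_of_equiv ι, Module.supportDim_quotient_eq_ringKrullDim] at hd
    have hone := length_localized_quotient_eq_one q.asIdeal ι
    have hzero : ∀ p : PrimeSpectrum A, ringKrullDim (A ⧸ p.asIdeal) = d → p ≠ q →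
        Module.length (Localization p.asIdeal.primeCompl)
          (LocalizedModule p.asIdeal.primeCompl N) = 0 := by
      intro p hp hpq
      refine length_localized_quotient_eq_zero p.asIdeal q.asIdeal ι fun hle => ?_
      obtain ⟨x, hxp, hxq⟩ := SetLike.not_le_iff_exists.1
        (fun h => hpq (PrimeSpectrum.ext (le_antisymm h hle)) : ¬ p.asIdeal ≤ q.asIdeal)
      have hle' : q.asIdeal ⊔ Ideal.span {x} ≤ p.asIdeal :=
        sup_le hle ((Ideal.span_singleton_le_iff_mem _).2 hxp)
      have h1 : ringKrullDim (A ⧸ p.asIdeal) ≤ ringKrullDim (A ⧸ (q.asIdeal ⊔ Ideal.span {x})) :=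
        ringKrullDim_le_of_surjective (Ideal.Quotient.factor hle')
          (Ideal.Quotient.factor_surjective _)
      have h2 := (add_le_add h1 (le_refl (1 : WithBot ℕ∞))).trans
        ((ringKrullDim_quot_sup_succ_le q.asIdeal hxq).trans hd)
      rw [hp] at h2
      exact absurd (show ((d + 1 : ℕ) : WithBot ℕ∞) ≤ (d : ℕ) by exact_mod_cast h2)
        (by rw [Nat.cast_le]; omega)
    refine ⟨fun p hp => ?_, {q}, fun T hT => ⟨fun p hpT hp => hzero p hp
      fun h => hpT (h ▸ hT (Finset.mem_singleton_self q)), ?_⟩⟩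
    · by_cases hpq : p = q
      · subst hpq; rw [hone]; exact ENat.one_ne_top
      · rw [hzero p hp hpq]; simp
    rw [Finset.sum_eq_single q (fun p _ hpq => by
        split_ifs with hp
        · simp [hzero p hp hpq]
        · rfl) (fun h => absurd (hT (Finset.mem_singleton_self q)) h)]
    simp only [samLen_congr I ι]
    split_ifs with hq
    · simpa [hone] using he q hq
    · have hlt := lt_of_le_of_ne hd hq
      obtain ⟨d', rfl⟩ : ∃ d', d = d' + 1 := by
        refine Nat.exists_eq_succ_of_ne_zero fun h => ?_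
        subst h
        exact (not_lt.2 (ringKrullDim_nonneg_of_nontrivial (R := A ⧸ q.asIdeal))) hlt
      obtain ⟨C, hC⟩ := exists_samLen_le hI.2 hI.1 d' (A ⧸ q.asIdeal) (by
        rw [Module.supportDim_quotient_eq_ringKrullDim]
        revert hlt
        cases ringKrullDim (A ⧸ q.asIdeal) with
        | bot => exact fun _ => bot_le
        | coe b =>
          intro hb
          have hb' : b < ((d' + 1 : ℕ) : ℕ∞) := by exact_mod_cast hb
          rw [Nat.cast_succ] at hb'
          exact_mod_cast (ENat.lt_add_one_iff (ENat.coe_ne_top d')).1 hb')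
      have hlim : Tendsto (fun t : ℕ => ((d' + 1).factorial : ℝ) * C *
          (1 + 1 / (t : ℝ)) ^ d' * (1 / (t : ℝ))) atTop (𝓝 0) := by
        simpa using ((((tendsto_const_nhds (x := (1 : ℝ))).add
          (tendsto_one_div_atTop_nhds_zero_nat)).pow d').const_mul
            (((d' + 1).factorial : ℝ) * C)).mul (tendsto_one_div_atTop_nhds_zero_nat)
      refine squeeze_zero' (Eventually.of_forall fun t => by positivity) ?_ hlim
      filter_upwards [eventually_gt_atTop 0] with t ht
      have h1 : (t : ℝ) ≠ 0 := by simp; omega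
      calc ((d' + 1).factorial : ℝ) * (samLen I (A ⧸ q.asIdeal) t : ℝ) / (t : ℝ) ^ (d' + 1)
          ≤ ((d' + 1).factorial : ℝ) * ((C : ℝ) * ((t : ℝ) + 1) ^ d') / (t : ℝ) ^ (d' + 1) := by
            gcongr
            exact_mod_cast hC t
        _ = _ := by
            have : (1 + 1 / (t : ℝ)) = ((t : ℝ) + 1) / t := by field_simp
            rw [this, div_pow]
            field_simp
            ring

/-- Suppose A is a local Noetherian ring with an ideal of definition I, take M to be a finite A-module,
and fix d with dim Supp(M) ≤ d. Then e_I(M, d) equals Σ_p length_{A_p}(M_p) · e_I(A/p, d), where p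
ranges over the primes satisfying dim(A/p) = d (all but finitely many summands vanish); here e_I(N,
d) denotes the limit of d! · length_A(N/I^t N)/t^d, and the formal version says: assuming these
limits e_p exist for the A-modules A/p, the limit attached to M is the sum shown. -/
theorem result (A : Type u) [CommRing A] [IsNoetherianRing A] [IsLocalRing A]
    (I : Ideal A) (hI : I ≤ IsLocalRing.maximalIdeal A ∧ ∃ n : ℕ, IsLocalRing.maximalIdeal A ^ n ≤ I)
    (M : Type u) [AddCommGroup M] [Module A M] [Module.Finite A M]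
    (d : ℕ) (hd : Module.supportDim A M ≤ d) (e : PrimeSpectrum A → ℝ)
    (he : ∀ p : PrimeSpectrum A, ringKrullDim (A ⧸ p.asIdeal) = d →
      Filter.Tendsto (fun t : ℕ => (d.factorial : ℝ) *
        ((Module.length A ((A ⧸ p.asIdeal) ⧸ (I ^ t • (⊤ : Submodule A (A ⧸ p.asIdeal))))).toNat : ℝ) / (t : ℝ) ^ d)
        Filter.atTop (nhds (e p))) :
    Filter.Tendsto (fun t : ℕ => (d.factorial : ℝ) * ((Module.length A (M ⧸ (I ^ t • (⊤ : Submodule A M)))).toNat : ℝ) / (t : ℝ) ^ d) Filter.atTop
      (nhds (∑ᶠ (p : PrimeSpectrum A) (_ : ringKrullDim (A ⧸ p.asIdeal) = d),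
        ((Module.length (Localization.AtPrime p.asIdeal) (LocalizedModule p.asIdeal.primeCompl M)).toNat : ℝ) * e p)) := by
  classical
  obtain ⟨-, S, hS⟩ := aux A I hI d e he (‹_› : Module.Finite A M) hd
  obtain ⟨hz, ht⟩ := hS S subset_rfl
  unfold Groth.Agent.LenLib.samLen at ht
  convert ht using 2
  simp only [finsum_eq_if]
  rw [finsum_eq_sum_of_support_subset]
  intro p hp
  by_contra hpS
  apply hp
  dsimp only
  split_ifs with h
  · have := hz p hpS h
    simp [this]
  · rfl

end Groth.Agent.S12212
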