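import Groth.Statements.S6007
import Groth.Agent.EtRamLib.Kummer.Seq

set_option autoImplicit false
universe u
open CategoryTheory AlgebraicGeometry MonoidalCategory CartesianMonoidalCategory MonObj GrpObj
open SGA1t

namespace Groth.Agent.S6007

open Groth.Agent.EtRamLib.Kummer Groth.Agent.RedPts Limits

lemma d_one {S : Scheme.{u}} {M : Type} [AddCommGroup M] {X : Over S} (m : M) :
    dFn (1 : X ⟶ Red.DS S M) m = 1 := by
  refine (d_isUnit (1 : X ⟶ Red.DS S M) m).mul_left_cancel ?_
  rw [← d_mul, _root_.mul_one (1 : X ⟶ Red.DS S M)]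
  exact (_root_.mul_one _).symm

lemma d_periodic {S : Scheme.{u}} {X : Over S} (c : X ⟶ Red.DS S ℤ) (n : ℕ) (hc : dFn c (n : ℤ) = 1)
    (a b : ℤ) (h : (a : ZMod n) = b) : dFn c a = dFn c b := by
  obtain ⟨q, hq⟩ := (ZMod.intCast_eq_intCast_iff_dvd_sub a b n).mp h
  have key : ∀ q : ℤ, dFn c ((n : ℤ) * q) = 1 := by
    intro q
    induction q with
    | zero => rw [mul_zero, d_zero]
    | succ k ih => rw [mul_add, _root_.mul_one, d_add, ih, hc, _root_.one_mul]
    | pred k ih =>
      refine (d_isUnit c (n : ℤ)).mul_right_cancel ?_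
      rw [← d_add, _root_.one_mul, hc, ← ih]
      congr 1; ring
  rw [show b = a + (n : ℤ) * q by rw [← hq]; ring, d_add, key, _root_.mul_one]

open Polynomial in
lemma freeCover (n : ℕ) (hn : 0 < n) :
    IsFreeCover (MonoidAlgebra.mapDomainAlgHom Zu.{u} Zu.{u}
      (AddMonoidHom.toMultiplicative (zmultiplesHom ℤ (n : ℤ)))).toRingHom := by
  set φ := (MonoidAlgebra.mapDomainAlgHom Zu.{u} Zu.{u}
      (AddMonoidHom.toMultiplicative (zmultiplesHom ℤ (n : ℤ)))).toRingHom with hφdef
  let T : monA.{u} ℤ := MonoidAlgebra.single (Multiplicative.ofAdd (1 : ℤ)) 1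
  let g : (monA.{u} ℤ)[X] := X ^ n - C T
  have hφT : φ T = T ^ n := by
    rw [hφdef, MonoidAlgebra.single_pow, _root_.one_pow]
    refine (MonoidAlgebra.mapDomain_single ..).trans ?_
    congr 1
    ext
    simp
  have hg : g.Monic := monic_X_pow_sub_C T hn.ne'
  have hdeg : 0 < g.natDegree := by simp only [g]; rw [natDegree_X_pow_sub_C]; exact hn
  have hx : g.eval₂ φ T = 0 := by simp [g, hφT]
  refine isFreeCover_of_bijective φ T g hg hdeg hx ?_
  let fwd := AdjoinRoot.lift φ T hx
  have hr : (AdjoinRoot.root g) ^ n = AdjoinRoot.of g T := by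
    have := AdjoinRoot.eval₂_root g
    simp only [g, eval₂_sub, eval₂_pow, eval₂_X, eval₂_C] at this
    exact sub_eq_zero.mp this
  have hu : IsUnit (AdjoinRoot.root g) := (isUnit_pow_iff hn.ne').mp (by
    rw [hr]; exact (IsUnit.of_mul_eq_one (MonoidAlgebra.single (Multiplicative.ofAdd (-1 : ℤ)) 1)
      (by rw [MonoidAlgebra.single_mul_single, ← ofAdd_add]; simp [MonoidAlgebra.one_def])).map _)
  obtain ⟨w, hw⟩ := hu
  let ψ : Multiplicative ℤ →* AdjoinRoot g := (Units.coeHom _).comp (zpowersHom _ w)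
  let bwd : monA.{u} ℤ →+* AdjoinRoot g :=
    MonoidAlgebra.liftNCRingHom ((Int.castRingHom (AdjoinRoot g)).comp ULift.ringEquiv.toRingHom) ψ (fun _ _ => Commute.all _ _)
  have hbT : bwd T = AdjoinRoot.root g := by
    simp [bwd, T, ψ, hw]
  have hints : ∀ {B : Type u} [CommRing B] (a b : Zu.{u} →+* B), a = b := fun a b => by
    refine RingHom.ext fun r => ?_
    exact congr($(RingHom.ext_int (a.comp ULift.ringEquiv.symm.toRingHom) (b.comp ULift.ringEquiv.symm.toRingHom)) r.down)
  have hext : ∀ {B : Type u} [CommRing B] (a b : monA.{u} ℤ →+* B), a T = b T → a = b := by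
    intro B _ a b h
    refine MonoidAlgebra.ringHom_ext (fun r => congr($(hints (a.comp MonoidAlgebra.singleOneRingHom) (b.comp MonoidAlgebra.singleOneRingHom)) r)) ?_
    intro m
    exact congr($(MonoidHom.ext_mint (f := a.toMonoidHom.comp (MonoidAlgebra.of Zu.{u} (Multiplicative ℤ)))
      (g := b.toMonoidHom.comp (MonoidAlgebra.of Zu.{u} (Multiplicative ℤ))) h) m)
  have h1 : fwd.comp bwd = RingHom.id _ := hext _ _ (by simp [hbT, fwd])
  have h2 : bwd.comp fwd = RingHom.id _ := by
    refine AdjoinRoot.ringHom_ext ?_ ?_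
    · refine hext _ _ ?_
      simp [fwd, hφT, hbT, hr]
    · simp [fwd, hbT]
  exact ⟨Function.LeftInverse.injective (g := bwd) (fun x => congr($h2 x)),
    Function.RightInverse.surjective (g := bwd) (fun x => congr($h1 x))⟩

/-- For a scheme S and an integer n ≥ 1 the Kummer sequence 1 → μ_n → G_m → G_m → 1 over S is exact for
the fpqc topology. Here G_m = D_S(Z), μ_n = D_S(Z/n) mapped into G_m by the diagonalisable-group
morphism induced by Z → Z/n, and G_m → G_m is the n-th power map, the character of D_S(Z) attached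
to n; exactness means that both maps are homomorphisms with trivial composite, that (g, z) ↦ (g, gz)
identifies G_m ×_S μ_n with the fibre product of the n-th power map with itself, and that the n-th
power map acquires sections on the members of some fpqc covering family of its target. -/
theorem result {S : Scheme.{u}} (n : ℕ) (hn : 0 < n) :
    NonAbH1.IsExactSeq Scheme.fpqcPrecoverage
      (Red.DSmap S (Int.castAddHom (ZMod n))) (Red.chi S (n : ℤ)) := by
  have : IsMonHom (Red.DSmap S (Int.castAddHom (ZMod n))) := isMonHom_of_pts _ fun Y x y =>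
    d_ext fun m => by rw [DSmap_fn, d_mul, d_mul, DSmap_fn, DSmap_fn]
  have : IsMonHom (Red.chi S (n : ℤ)) := isMonHom_of_pts _ fun Y x y => gm_injective (by
    rw [chi_fn, gm_mul, chi_fn, chi_fn, d_mul])
  have hone : ∀ {T : Over S}, Red.gmFn (1 : T ⟶ Red.Gm S) = 1 := fun {T} => d_one 1
  have huv : Red.DSmap S (Int.castAddHom (ZMod n)) ≫ Red.chi S (n : ℤ) = 1 := by
    refine gm_injective ?_
    rw [chi_fn, hone, ← Category.id_comp (Red.DSmap S _), DSmap_fn]
    simp [d_zero]
  refine ⟨inferInstance, inferInstance, huv, isPullback_of_kernel _ _ huv ?_ ?_, ?_⟩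
  · intro T c hc
    have hcn : dFn c (n : ℤ) = 1 := by rw [← chi_fn, hc, hone]
    haveI : NeZero n := ⟨hn.ne'⟩
    let φ : Multiplicative (ZMod n) →* Γ(T.left, ⊤) :=
      { toFun := fun k => dFn c (k.toAdd.val : ℤ)
        map_one' := by simp [d_zero]
        map_mul' := fun a b => by
          rw [← d_add]
          exact d_periodic c n hcn _ _ (by simp) }
    obtain ⟨h, hh⟩ := d_surjective (S := S) φ
    refine ⟨h, d_ext fun m => ?_⟩
    rw [DSmap_fn, hh]
    exact d_periodic c n hcn _ _ (by simp)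
  · intro T h h' he
    refine d_ext fun m => ?_
    obtain ⟨k, rfl⟩ := ZMod.intCast_surjective m
    simpa [DSmap_fn] using congrArg (fun z => dFn z k) he
  · exact isLocallyTrivialFor_of_isFreeCover (IsTerminal.from specULiftZIsTerminal S)
      (Red.diagMap (ULift.{u} ℤ) (zmultiplesHom ℤ (n : ℤ))) _ rfl (freeCover n hn)

end Groth.Agent.S6007
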