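import Groth.Statements.S12213
import Groth.Agent.S6007

set_option autoImplicit false
universe u
open CategoryTheory AlgebraicGeometry MonoidalCategory CartesianMonoidalCategory MonObj GrpObj
open EtCoh

namespace Groth.Agent.S12213

open Groth.Agent.EtRamLib.Kummer Groth.Agent.RedPts CategoryTheory.Limits
open CategoryTheory AlgebraicGeometry MonoidalCategory CartesianMonoidalCategory MonObj GrpObj

/-- A finite free covering over a Noetherian ring gives fppf-local sections after base change. -/
theorem isLocallyTrivialFor_fppf {S : Scheme.{u}} {R A B : Type u} [CommRing R] [CommRing A] [IsNoetherianRing A]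
    [CommRing B] (b : S ⟶ Spec (CommRingCat.of R)) [Algebra R A] [Algebra R B]
    (g : (Spec (CommRingCat.of B)).asOver (Spec (CommRingCat.of R)) ⟶ (Spec (CommRingCat.of A)).asOver (Spec (CommRingCat.of R)))
    (φ : A →+* B) (hg : g.left = Spec.map (CommRingCat.ofHom φ)) (hφ : IsFreeCover φ) :
    NonAbH1.IsLocallyTrivialFor Scheme.fppfPrecoverage (Over.mk ((Over.pullback b).map g).left) := by
  obtain ⟨hfl, hfin, hsur⟩ := hφ
  have h1 : Flat g.left := by rw [hg]; exact Flat.SpecMap_iff.mpr hfl
  have h2 : Surjective g.left := by rw [hg]; exact ⟨hsur⟩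
  have h3 : LocallyOfFinitePresentation g.left := by
    rw [hg]
    exact (HasRingHomProperty.Spec_iff (P := @LocallyOfFinitePresentation)).mpr
      (RingHom.FinitePresentation.of_finiteType.mp hfin.finiteType)
  have : Flat ((Over.pullback b).map g).left := MorphismProperty.overPullbackMap _ g h1
  have : Surjective ((Over.pullback b).map g).left := MorphismProperty.overPullbackMap _ g h2
  have : LocallyOfFinitePresentation ((Over.pullback b).map g).left :=
    MorphismProperty.overPullbackMap _ g h3
  refine ⟨_, Scheme.Hom.singleton_mem_fppfPrecoverage ((Over.pullback b).map g).left, ?_⟩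
  rintro S' f ⟨⟩
  exact ⟨𝟙 _, Category.id_comp _⟩

set_option maxHeartbeats 400000 in
/-- For a scheme S and an integer n ≥ 1 the Kummer sequence 1 → μ_n → G_m → G_m → 1 over S, the last map
being the n-th power, is a short exact sequence for the fppf topology. Here G_m = D_S(ℤ), μ_n =
D_S(ℤ/n) mapped into G_m by the morphism of diagonalisable groups induced by ℤ → ℤ/n, and exactness
means: both maps are homomorphisms with trivial composite, (g, z) ↦ (g, gz) identifies G_m ×_S μ_n
with the fibre product of the n-th power map with itself, and the n-th power map acquires sections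
on the members of some fppf covering family of its target. (For n = 0 the sequence is not exact; n ≥
1 is assumed.) -/
theorem result {S : Scheme.{u}} (n : ℕ) (hn : 0 < n) :
    NonAbH1.IsExactSeq Scheme.fppfPrecoverage
      (Red.DSmap S (Int.castAddHom (ZMod n))) (Red.chi S (n : ℤ)) := by
  haveI : IsNoetherianRing (ULift.{u} ℤ) := isNoetherianRing_of_ringEquiv ℤ ULift.ringEquiv.symm
  haveI : IsNoetherianRing (monA.{u} ℤ) :=
    Algebra.FiniteType.isNoetherianRing (ULift.{u} ℤ) _
  have : IsMonHom (Red.DSmap S (Int.castAddHom (ZMod n))) := isMonHom_of_pts _ fun Y x y =>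
    d_ext fun m => by rw [DSmap_fn, d_mul, d_mul, DSmap_fn, DSmap_fn]
  have : IsMonHom (Red.chi S (n : ℤ)) := isMonHom_of_pts _ fun Y x y => gm_injective (by
    rw [chi_fn, gm_mul, chi_fn, chi_fn, d_mul])
  have hone : ∀ {T : Over S}, Red.gmFn (1 : T ⟶ Red.Gm S) = 1 := fun {T} => by
    rw [gmFn_eq_dFn]
    exact Groth.Agent.S6007.d_one (X := T) (1 : ℤ)
  have huv : Red.DSmap S (Int.castAddHom (ZMod n)) ≫ Red.chi S (n : ℤ) = 1 := by
    refine gm_injective ?_
    rw [chi_fn, hone, ← Category.id_comp (Red.DSmap S _), DSmap_fn]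
    simp [d_zero]
  refine ⟨inferInstance, inferInstance, huv, isPullback_of_kernel _ _ huv ?_ ?_, ?_⟩
  · intro T c hc
    have hcn : dFn c (n : ℤ) = 1 := by rw [← chi_fn, hc, hone]
    haveI : NeZero n := ⟨hn.ne'⟩
    let φ : Multiplicative (ZMod n) →* Γ(T.left, ⊤) :=
      { toFun := fun k => dFn c (k.toAdd.val : ℤ)
        map_one' := by simp [d_zero]
        map_mul' := fun a b => by
          rw [← d_add]
          exact Groth.Agent.S6007.d_periodic c n hcn _ _ (by simp) }
    obtain ⟨h, hh⟩ := d_surjective (S := S) φ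
    refine ⟨h, d_ext fun m => ?_⟩
    rw [DSmap_fn, hh]
    exact Groth.Agent.S6007.d_periodic c n hcn _ _ (by simp)
  · intro T h h' he
    refine d_ext fun m => ?_
    obtain ⟨k, rfl⟩ := ZMod.intCast_surjective m
    simpa [DSmap_fn] using congrArg (fun z => dFn z k) he
  · exact isLocallyTrivialFor_fppf (A := monA.{u} ℤ) (B := monA.{u} ℤ) (IsTerminal.from specULiftZIsTerminal S)
      (Red.diagMap (ULift.{u} ℤ) (zmultiplesHom ℤ (n : ℤ))) _ rfl (Groth.Agent.S6007.freeCover n hn)

end Groth.Agent.S12213
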