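import Groth.Statements.S12217
import Groth.Agent.Gor.Basic
import Mathlib.RingTheory.AdicCompletion.Completeness
import Mathlib.RingTheory.AdicCompletion.Algebra
import Mathlib.RingTheory.AdicCompletion.Noetherian
import Mathlib.RingTheory.PowerSeries.Inverse

set_option autoImplicit false
universe u
open Curves

namespace Groth.Agent.S12217

open PowerSeries in
private lemma coeff_one_mul' {k : Type u} [Field k] (f g : PowerSeries k) :
    coeff 1 (f * g) = coeff 1 f * constantCoeff g + constantCoeff f * coeff 1 g := by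
  rw [coeff_mul, Finset.Nat.sum_antidiagonal_succ, Finset.Nat.antidiagonal_zero, Finset.sum_singleton]
  simp [coeff_zero_eq_constantCoeff]
  ring

open IsLocalRing PowerSeries in
private lemma socle_false {k : Type u} [Field k] {A : Type u} [CommRing A] [LocCoh.IsGorensteinLocalRing A]
    {n : ℕ} (hn : 3 ≤ n)
    (φ : AdicCompletion (maximalIdeal A) A →+* (Fin n → PowerSeries k))
    (hinj : Function.Injective φ)
    (hrange : Set.range φ = {f : Fin n → PowerSeries k | ∀ i j : Fin n, constantCoeff (f i) = constantCoeff (f j)}) :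
    False := by
  let of' : A →+* AdicCompletion (maximalIdeal A) A := algebraMap A (AdicCompletion (maximalIdeal A) A)
  let i0 : Fin n := ⟨0, by omega⟩
  let i1 : Fin n := ⟨1, by omega⟩
  let i2 : Fin n := ⟨2, by omega⟩
  have hc : ∀ z i j, constantCoeff (φ z i) = constantCoeff (φ z j) := fun z => by
    have : φ z ∈ Set.range φ := Set.mem_range_self z
    rwa [hrange] at this
  let c : AdicCompletion (maximalIdeal A) A →+* k :=
    (PowerSeries.constantCoeff).comp ((Pi.evalRingHom (fun _ : Fin n => PowerSeries k) i0).comp φ)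
  have hcv : ∀ z i, constantCoeff (φ z i) = c z := fun z i => hc z i i0
  have hpre : ∀ f : Fin n → PowerSeries k, (∀ i j, constantCoeff (f i) = constantCoeff (f j)) → ∃ z, φ z = f :=
    fun f hf => by
      have : f ∈ Set.range φ := by rw [hrange]; exact hf
      exact this
  have hunit : ∀ z, c z ≠ 0 → IsUnit z := by
    intro z hz
    obtain ⟨w, hw⟩ := hpre (fun i => (φ z i)⁻¹) (fun i j => by rw [constantCoeff_inv, constantCoeff_inv, hc z i j])
    refine IsUnit.of_mul_eq_one w (hinj ?_)
    rw [map_mul, map_one]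
    funext i
    rw [Pi.mul_apply, Pi.one_apply, hw]
    exact PowerSeries.mul_inv_cancel _ (by rw [hcv]; exact hz)
  have hmem : ∀ a : A, a ∈ maximalIdeal A ↔ c (of' a) = 0 := by
    intro a
    constructor
    · intro ha
      by_contra h
      have hu := (hunit _ h).map (AdicCompletion.evalOneₐ (maximalIdeal A))
      have e : AdicCompletion.evalOneₐ (maximalIdeal A) (of' a) = 0 := by
        rw [show AdicCompletion.evalOneₐ (maximalIdeal A) (of' a) = Ideal.Quotient.mk (maximalIdeal A) a from
          DFunLike.congr_fun (AdicCompletion.evalOneₐ_comp_algebraMap_eq_mk (maximalIdeal A)) a]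
        exact Ideal.Quotient.eq_zero_iff_mem.mpr ha
      rw [e] at hu
      have : Nontrivial (A ⧸ maximalIdeal A) := Ideal.Quotient.nontrivial_iff.mpr (maximalIdeal.isMaximal A).ne_top
      exact not_isUnit_zero hu
    · intro h
      rw [mem_maximalIdeal]
      intro hu
      exact ((hu.map of').map c).ne_zero h
  let lin : AdicCompletion (maximalIdeal A) A → Fin n → k := fun z i => coeff 1 (φ z i)
  have lin_mul : ∀ z w i, lin (z * w) i = lin z i * c w + c z * lin w i := fun z w i => by
    show coeff 1 (φ (z * w) i) = _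
    rw [map_mul, Pi.mul_apply, coeff_one_mul', hcv, hcv]
  have hsq : ∀ r ∈ maximalIdeal A ^ 2, c (of' r) = 0 ∧ ∀ i, lin (of' r) i = 0 := by
    intro r hr
    rw [pow_two] at hr
    refine Submodule.mul_induction_on hr (fun p hp q hq => ⟨?_, fun i => ?_⟩) (fun p q hp hq => ⟨?_, fun i => ?_⟩)
    · rw [map_mul, map_mul, (hmem p).mp hp, zero_mul]
    · rw [map_mul, lin_mul, (hmem p).mp hp, (hmem q).mp hq, mul_zero, zero_mul, add_zero]
    · rw [map_add, map_add, hp.1, hq.1, add_zero]
    · show coeff 1 (φ (of' (p + q)) i) = 0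
      rw [map_add, map_add, Pi.add_apply, map_add]
      exact (congrArg₂ (· + ·) (hp.2 i) (hq.2 i)).trans (add_zero 0)
  have happrox : ∀ z, ∃ a : A, c (of' a) = c z ∧ ∀ i, lin (of' a) i = lin z i := by
    intro z
    obtain ⟨a, ha⟩ := Ideal.Quotient.mk_surjective (AdicCompletion.evalₐ (maximalIdeal A) 2 z)
    refine ⟨a, ?_⟩
    have hw : of' a - z ∈ LinearMap.ker (AdicCompletion.eval (maximalIdeal A) A 2) := by
      rw [LinearMap.mem_ker,
        ← AdicCompletion.factor_evalₐ_eq_eval (maximalIdeal A) (of' a - z) (by rw [smul_eq_mul, Ideal.mul_top]),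
        map_sub, ← ha, show of' a = AdicCompletion.of (maximalIdeal A) A a from rfl, AdicCompletion.evalₐ_of,
        sub_self, map_zero]
    rw [← AdicCompletion.pow_smul_top_eq_ker_eval (maximalIdeal A).fg_of_isNoetherianRing] at hw
    have h0 : c (of' a - z) = 0 ∧ ∀ i, lin (of' a - z) i = 0 := by
      refine Submodule.smul_induction_on hw (fun r hr v _ => ?_) (fun p q hp hq => ?_)
      · have e : r • v = of' r * v := Algebra.smul_def r v
        refine ⟨by rw [e, map_mul, (hsq r hr).1, zero_mul], fun i => ?_⟩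
        rw [e, lin_mul, (hsq r hr).1, (hsq r hr).2 i, zero_mul, zero_mul, add_zero]
      · refine ⟨by rw [map_add, hp.1, hq.1, add_zero], fun i => ?_⟩
        show coeff 1 (φ (p + q) i) = 0
        rw [map_add, Pi.add_apply, map_add]
        exact (congrArg₂ (· + ·) (hp.2 i) (hq.2 i)).trans (add_zero 0)
    refine ⟨sub_eq_zero.mp (by rw [← map_sub]; exact h0.1), fun i => sub_eq_zero.mp ?_⟩
    show coeff 1 (φ (of' a) i) - coeff 1 (φ z i) = 0
    rw [← map_sub, ← Pi.sub_apply, ← map_sub]
    exact h0.2 i
  obtain ⟨zx, hzx⟩ := hpre (fun _ => X) (fun _ _ => rfl)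
  obtain ⟨za, hza⟩ := hpre (fun i => if i = i0 then X else 0) (fun i j => by
    split_ifs <;> simp)
  obtain ⟨zb, hzb⟩ := hpre (fun i => if i = i1 then X else 0) (fun i j => by
    split_ifs <;> simp)
  obtain ⟨x, hx0, hx1⟩ := happrox zx
  obtain ⟨a, ha0, ha1⟩ := happrox za
  obtain ⟨b, hb0, hb1⟩ := happrox zb
  have cx : c (of' x) = 0 := by rw [hx0, ← hcv zx i0, hzx]; simp
  have ca : c (of' a) = 0 := by rw [ha0, ← hcv za i0, hza]; simp
  have cb : c (of' b) = 0 := by rw [hb0, ← hcv zb i0, hzb]; dsimp only; split_ifs <;> simp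
  have lx : ∀ i, lin (of' x) i = 1 := fun i => by
    rw [hx1]; show coeff 1 (φ zx i) = 1; rw [hzx]; exact coeff_one_X
  have la : ∀ i, lin (of' a) i = if i = i0 then 1 else 0 := fun i => by
    rw [ha1]; show coeff 1 (φ za i) = _; rw [hza]; dsimp only; split_ifs <;> simp
  have lb : ∀ i, lin (of' b) i = if i = i1 then 1 else 0 := fun i => by
    rw [hb1]; show coeff 1 (φ zb i) = _; rw [hzb]; dsimp only; split_ifs <;> simp
  have hxne : ∀ i, φ (of' x) i ≠ 0 := fun i h => by
    have := lx i
    simp [lin, h] at this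
  have hof : Function.Injective of' := by
    haveI : IsHausdorff (maximalIdeal A) A := IsHausdorff.of_isLocalRing _ A (maximalIdeal.isMaximal A).ne_top
    exact AdicCompletion.of_injective (maximalIdeal A) A
  have hreg : IsSMulRegular A x := by
    intro p q hpq
    refine hof (hinj (funext fun i => mul_left_cancel₀ (hxne i) ?_))
    have e := congrArg (fun t => φ (of' t) i) hpq
    simpa [smul_eq_mul, map_mul] using e
  have hxm : x ∈ maximalIdeal A := (hmem x).mpr cx
  let B := A ⧸ Ideal.span {x}
  haveI : IsLocalRing B := Groth.Agent.Gor.Basic.isLocalRing_quotient A hxm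
  haveI hG : LocCoh.IsGorensteinLocalRing B := (Groth.Agent.Gor.Basic.gorenstein_quotient_iff hxm hreg).mp inferInstance
  haveI : IsLocalHom (Ideal.Quotient.mk (Ideal.span {x})) := IsLocalHom.of_surjective _ Ideal.Quotient.mk_surjective
  have hmB : ∀ p : A, p ∈ maximalIdeal A → Ideal.Quotient.mk (Ideal.span {x}) p ∈ maximalIdeal B := fun p hp => by
    rw [mem_maximalIdeal] at hp ⊢
    exact fun h => hp (isUnit_of_map_unit (Ideal.Quotient.mk (Ideal.span {x})) p h)
  have hmB' : ∀ q ∈ maximalIdeal B, ∃ p ∈ maximalIdeal A, Ideal.Quotient.mk (Ideal.span {x}) p = q := by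
    intro q hq
    obtain ⟨p, rfl⟩ := Ideal.Quotient.mk_surjective q
    refine ⟨p, ?_, rfl⟩
    rw [mem_maximalIdeal] at hq ⊢
    exact fun h => hq (h.map _)
  have hkill : ∀ y w : A, y ∈ maximalIdeal A → w ∈ maximalIdeal A → y * w ∈ Ideal.span {x} := by
    intro y w hy hw
    have hu : ∀ i, ∃ u : PowerSeries k, φ (of' x) i = X * u ∧ constantCoeff u = 1 := fun i => by
      obtain ⟨u, hu⟩ : X ∣ φ (of' x) i := X_dvd_iff.mpr (by rw [hcv]; exact cx)
      refine ⟨u, hu, ?_⟩
      have := lx i
      simp only [lin, hu] at this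
      rwa [← coeff_zero_eq_constantCoeff_apply, ← coeff_succ_X_mul 0 u]
    choose u hu hu1 using hu
    have hy' : ∀ i, X ∣ φ (of' y) i := fun i => X_dvd_iff.mpr (by rw [hcv]; exact (hmem y).mp hy)
    have hw' : ∀ i, X ∣ φ (of' w) i := fun i => X_dvd_iff.mpr (by rw [hcv]; exact (hmem w).mp hw)
    choose y' hy'' using hy'
    choose w' hw'' using hw'
    obtain ⟨g, hg⟩ := hpre (fun i => X * y' i * w' i * (u i)⁻¹) (fun i j => by simp)
    have e : of' (y * w) = of' x * g := hinj (funext fun i => by
      rw [map_mul, map_mul, map_mul, Pi.mul_apply, Pi.mul_apply, hy'', hw'', hu, hg]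
      dsimp only
      have := PowerSeries.mul_inv_cancel (u i) (by rw [hu1]; exact one_ne_zero)
      linear_combination -(X * y' i * (X * w' i)) * this)
    rw [← Ideal.Quotient.eq_zero_iff_mem, ← Ideal.mem_bot,
      ← Ideal.iInf_pow_eq_bot_of_isLocalRing (maximalIdeal B) (maximalIdeal.isMaximal B).ne_top, Submodule.mem_iInf]
    intro N
    obtain ⟨d, hd⟩ := Ideal.Quotient.mk_surjective (AdicCompletion.evalₐ (maximalIdeal A) N g)
    have h1 := congrArg (AdicCompletion.evalₐ (maximalIdeal A) N) e
    rw [map_mul (AdicCompletion.evalₐ (maximalIdeal A) N), ← hd,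
      show of' x = AdicCompletion.of (maximalIdeal A) A x from rfl,
      show of' (y * w) = AdicCompletion.of (maximalIdeal A) A (y * w) from rfl, AdicCompletion.evalₐ_of,
      AdicCompletion.evalₐ_of, ← map_mul (Ideal.Quotient.mk (maximalIdeal A ^ N)), Ideal.Quotient.eq] at h1
    have h2 : Ideal.Quotient.mk (Ideal.span {x}) (y * w - x * d) ∈ maximalIdeal B ^ N := by
      refine Ideal.pow_right_mono ?_ N ((Ideal.map_pow (Ideal.Quotient.mk (Ideal.span {x})) (maximalIdeal A) N) ▸
        Ideal.mem_map_of_mem _ h1)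
      exact Ideal.map_le_iff_le_comap.mpr fun p hp => hmB p hp
    rwa [map_sub, map_mul (Ideal.Quotient.mk (Ideal.span {x})) x d, Ideal.Quotient.eq_zero_iff_mem.mpr
      (Ideal.mem_span_singleton_self x), zero_mul, sub_zero] at h2
  obtain ⟨ψ, hψ⟩ : ∃ ψ : ResidueField B →ₗ[B] B, Function.Injective ψ := by
    rcases Groth.Agent.Gor.Basic.exists_regular_or_socle (A := B) with ⟨q, hq, hqr⟩ | h
    · obtain ⟨p, hp, rfl⟩ := hmB' q hq
      have h0 : Ideal.Quotient.mk (Ideal.span {x}) p = 0 := hqr (by
        show _ * _ = _ * (0 : B)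
        rw [← map_mul, mul_zero, Ideal.Quotient.eq_zero_iff_mem]
        exact hkill p p hp hp)
      rw [h0] at hqr
      exact absurd (hqr (show (0 : B) * 1 = 0 * 0 by rw [zero_mul, zero_mul])) one_ne_zero
    · exact h
  obtain ⟨m, hm⟩ := hG.exists_hasInjectiveDimensionLT
  have hI := Groth.Agent.Gor.Basic.injective_of_socle_of_finite_id hψ m
    (CategoryTheory.hasInjectiveDimensionLT_of_ge _ m (m + 1) m.le_succ)
  have hlen := Groth.Agent.Gor.Basic.length_socle_of_injective hψ hI
  haveI : IsSimpleModule B (LocCoh.torsionBy (maximalIdeal B) B) := Module.length_eq_one_iff.mp hlen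
  have hsoc : ∀ p ∈ maximalIdeal A, Ideal.Quotient.mk (Ideal.span {x}) p ∈ LocCoh.torsionBy (maximalIdeal B) B := by
    intro p hp
    refine (Submodule.mem_torsionBySet_iff _ _).mpr fun q => ?_
    obtain ⟨r, hr, hrq⟩ := hmB' q q.2
    show (q : B) * _ = 0
    rw [← hrq, ← map_mul, Ideal.Quotient.eq_zero_iff_mem]
    exact hkill r p hr hp
  let va : LocCoh.torsionBy (maximalIdeal B) B := ⟨_, hsoc a ((hmem a).mpr ca)⟩
  let vb : LocCoh.torsionBy (maximalIdeal B) B := ⟨_, hsoc b ((hmem b).mpr cb)⟩
  have hva : va ≠ 0 := fun h => by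
    obtain ⟨β, hβ⟩ := Ideal.mem_span_singleton.mp (Ideal.Quotient.eq_zero_iff_mem.mp (congrArg Subtype.val h))
    have e0 := congrArg (fun t => lin (of' t) i0) hβ
    have e1 := congrArg (fun t => lin (of' t) i1) hβ
    simp only [map_mul, lin_mul, la, lx, cx, zero_mul, add_zero, one_mul] at e0 e1
    rw [if_pos True.intro] at e0
    rw [if_neg (by simp [i0, i1]), ← e0] at e1
    exact zero_ne_one e1
  obtain ⟨α', hα'⟩ := Submodule.mem_span_singleton.mp
    ((IsSimpleModule.span_singleton_eq_top B hva).symm ▸ Submodule.mem_top (x := vb))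
  obtain ⟨α, rfl⟩ := Ideal.Quotient.mk_surjective α'
  have h3 : Ideal.Quotient.mk (Ideal.span {x}) α * Ideal.Quotient.mk (Ideal.span {x}) a =
      Ideal.Quotient.mk (Ideal.span {x}) b := congrArg Subtype.val hα'
  rw [← map_mul, eq_comm, Ideal.Quotient.eq] at h3
  obtain ⟨β, hβ⟩ := Ideal.mem_span_singleton.mp h3
  have hb' : b = α * a + x * β := by linear_combination hβ
  have e1 := congrArg (fun t => lin (of' t) i1) hb'
  have e2 := congrArg (fun t => lin (of' t) i2) hb'
  simp only [lin, map_add, Pi.add_apply] at e1 e2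
  change lin (of' b) i1 = lin (of' (α * a)) i1 + lin (of' (x * β)) i1 at e1
  change lin (of' b) i2 = lin (of' (α * a)) i2 + lin (of' (x * β)) i2 at e2
  rw [map_mul of', map_mul of', lin_mul, lin_mul, la, lb, lx, ca, cx] at e1 e2
  rw [if_pos rfl, if_neg (by simp [i0, i1])] at e1
  rw [if_neg (by simp [i2, i1]), if_neg (by simp [i0, i2])] at e2
  refine one_ne_zero (α := k) ?_
  linear_combination e1 - e2

/-- In this form A is the local ring of the curve at the point, and a Gorenstein scheme has Gorenstein
local rings. Let k be an algebraically closed field and A a Gorenstein local ring whose completion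
with respect to its maximal ideal is isomorphic to the multicross ring with n ≥ 2 branches, the
subring of (k[[t]])^n consisting of the n-tuples of power series having a common constant term. Then
n = 2: a Gorenstein multicross singularity is a node. The isomorphism is given as an injective ring
map from the completion to (k[[t]])^n with that subring as its range. -/
theorem result (k : Type u) [Field k] [IsAlgClosed k]
    (A : Type u) [CommRing A] [LocCoh.IsGorensteinLocalRing A] (n : ℕ) (hn : 2 ≤ n)
    (φ : AdicCompletion (IsLocalRing.maximalIdeal A) A →+* (Fin n → PowerSeries k))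
    (hinj : Function.Injective φ)
    (hrange : Set.range φ = {f : Fin n → PowerSeries k | ∀ i j : Fin n, PowerSeries.constantCoeff (f i) = PowerSeries.constantCoeff (f j)}) :
    n = 2 := by
  by_contra h
  exact socle_false (k := k) (A := A) (by omega) φ hinj hrange

end Groth.Agent.S12217
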