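import Groth.Statements.S1224
import Groth.Agent.FlatMisc.Fiber
import Mathlib.RingTheory.Ideal.GoingUp
import Mathlib.RingTheory.IntegralClosure.Algebra.Basic

set_option autoImplicit false
universe u
open FlatMor

namespace Groth.Agent.S1224

/-- Ring form, X = Spec B affine, where proper support means finite support: let B be a finite type
A-algebra and N a finite B-module such that B modulo the annihilator of N is finite over A. Then N
is universally pure relative to Spec A. -/
theorem result {A B : Type u} [CommRing A] [CommRing B] [Algebra A B] [Algebra.FiniteType A B]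
    (N : Type u) [AddCommGroup N] [Module B N] [Module A N] [IsScalarTower A B N] [Module.Finite B N]
    [Module.Finite A (B ⧸ Module.annihilator B N)] : FlatCA.IsUnivPure A B N := by
  intro p _ A' B' N' _ _ _ _ _ _ _ _ _ _ _ _ _ _ f t' t _ _ P _ himp
  obtain ⟨hpush, hf, htt, htover, hPt', hass, hno⟩ := himp
  have hann : Module.annihilator B N ≤ P.comap (algebraMap B B') := by
    intro b hb
    apply Groth.Agent.FlatMisc.Fiber.annihilator_le t' P N' hass
    rw [Module.mem_annihilator]
    intro y
    induction y using hf.inductionOn with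
    | zero => exact smul_zero _
    | tmul n => rw [algebraMap_smul, ← map_smul, Module.mem_annihilator.mp hb n, map_zero]
    | smul s n ih => rw [smul_comm, ih, smul_zero]
    | add x y hx hy => rw [smul_add, hx, hy, add_zero]
  let g : (B ⧸ Module.annihilator B N) →ₐ[A] (B' ⧸ P) :=
    Ideal.Quotient.liftₐ _ ((Ideal.Quotient.mkₐ A P).comp (IsScalarTower.toAlgHom A B B'))
      (fun b hb => Ideal.Quotient.eq_zero_iff_mem.mpr (hann hb))
  have hint : Algebra.IsIntegral A' (B' ⧸ P) := ⟨fun z => by
    obtain ⟨z, rfl⟩ := Ideal.Quotient.mk_surjective z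
    induction z using hpush.out.inductionOn with
    | zero => rw [map_zero]; exact isIntegral_zero
    | tmul a => exact isIntegral_algebraMap (R := A') (x := a)
    | smul b z ih =>
      rw [Algebra.smul_def, map_mul]
      have : IsIntegral A (g (Ideal.Quotient.mk _ b)) := (Algebra.IsIntegral.isIntegral _).map g
      exact this.tower_top.mul ih
    | add x y hx hy => rw [map_add]; exact hx.add hy⟩
  have hle : (⊥ : Ideal (B' ⧸ P)).comap (algebraMap A' (B' ⧸ P)) ≤ t := by
    intro a ha
    rw [Ideal.mem_comap, Ideal.mem_bot] at ha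
    have : a ∈ P.comap (algebraMap A' B') := Ideal.mem_comap.mpr (Ideal.Quotient.eq_zero_iff_mem.mp (show Ideal.Quotient.mk P (algebraMap A' B' a) = 0 from ha))
    exact htt (by rw [hPt'.over]; exact this)
  obtain ⟨Q, -, hQ, hQt⟩ := Ideal.exists_ideal_over_prime_of_isIntegral t ⊥ hle
  refine hno (Q.comap (Ideal.Quotient.mk P)) ?_ ⟨?_⟩
  · intro x hx
    rw [Ideal.mem_comap, Ideal.Quotient.eq_zero_iff_mem.mpr hx]
    exact zero_mem _
  · rw [← hQt]
    rfl

end Groth.Agent.S1224
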