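import Groth.Statements.S1222
import Groth.Agent.S1224
import Groth.Agent.Dim.Support
import Groth.Agent.FlatMisc.Fiber
import Groth.Agent.RGFlat.FibreReg
import Mathlib.RingTheory.Etale.QuasiFinite
import Mathlib.RingTheory.ZariskisMainTheorem
import Mathlib.RingTheory.Smooth.Flat
import Mathlib.RingTheory.Ideal.AssociatedPrime.Localization
import Mathlib.RingTheory.Ideal.MinimalPrime.Localization


set_option autoImplicit false
universe u
open FlatMor

namespace Groth.Agent.S1222


open TensorProduct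

attribute [local instance] Algebra.TensorProduct.rightAlgebra

set_option maxHeartbeats 1000000

/-- In a pure situation every prime of a finite subalgebra of the support algebra lifts. -/
theorem exists_lift_prime {A B : Type u} [CommRing A] [CommRing B] [Algebra A B] [Algebra.FiniteType A B]
    (N : Type u) [AddCommGroup N] [Module B N] [Module A N] [IsScalarTower A B N] [Module.Finite B N]
    [Algebra.QuasiFinite A (B ⧸ Module.annihilator B N)] (hpure : FlatCA.IsPure A B N)
    (C₀ : Subalgebra A (B ⧸ Module.annihilator B N)) [Module.Finite A C₀] (z : Ideal C₀) [z.IsPrime] :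
    ∃ (Q : Ideal (B ⧸ Module.annihilator B N)), Q.IsPrime ∧ Q.comap C₀.val.toRingHom = z := by
  by_contra hz
  let C := B ⧸ Module.annihilator B N
  let p := z.under A
  haveI : p.IsPrime := inferInstance
  haveI : z.LiesOver p := ⟨rfl⟩
  obtain ⟨A', _, _, hA', p', _, _, k, e, he, P', hP'1, hP'2, hbij, heP, H⟩ :=
    Algebra.exists_etale_completeOrthogonalIdempotents_forall_liesOver_eq (S := C₀) p
  haveI := hA'
  haveI : Module.Flat A A' := inferInstance
  let Wz := (Ideal.fiberIsoOfBijectiveResidueField (S := C₀) hbij).symm ⟨z, inferInstance, inferInstance⟩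
  let W₀ : Ideal (A' ⊗[A] C₀) := Wz.1
  haveI : W₀.IsPrime := Wz.2.1
  haveI : W₀.LiesOver p' := Wz.2.2
  have hW₀ : W₀.comap (Algebra.TensorProduct.includeRight (R := A) (A := A') (B := C₀)).toRingHom = z :=
    Ideal.comap_fiberIsoOfBijectiveResidueField_symm hbij ⟨z, inferInstance, inferInstance⟩
  obtain ⟨j, hj⟩ : ∃ j, e j ∉ W₀ := by
    by_contra hall
    push Not at hall
    exact Ideal.IsPrime.ne_top' ((Ideal.eq_top_iff_one W₀).mpr (he.complete ▸ sum_mem fun i _ => hall i))
  obtain ⟨i, rfl⟩ : ∃ i, Fin.castSucc i = j := Fin.exists_castSucc_eq.mpr fun hl => hj (hl ▸ (H W₀ inferInstance inferInstance).1)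
  have hWP : W₀ = P' i := (H W₀ inferInstance inferInstance).2 i hj
  obtain ⟨Q₀, hQ₀, hQ₀le⟩ := Ideal.exists_minimalPrimes_le (bot_le : (⊥ : Ideal (A' ⊗[A] C₀)) ≤ W₀)
  let φ := Algebra.TensorProduct.map (AlgHom.id A' A') C₀.val
  have hφ : Function.Injective φ :=
    Module.Flat.lTensor_preserves_injective_linearMap (R := A) (M := A') C₀.val.toLinearMap Subtype.val_injective
  obtain ⟨Q₁, hQ₁, hQ₁Q₀⟩ := Ideal.exists_comap_eq_of_mem_minimalPrimes_of_injective
    (f := φ.toRingHom) hφ Q₀ hQ₀
  let ψ := Algebra.TensorProduct.map (AlgHom.id A' A') (Ideal.Quotient.mkₐ A (Module.annihilator B N))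
  have hψ : Function.Surjective ψ := LinearMap.lTensor_surjective A' Ideal.Quotient.mk_surjective
  have hker : RingHom.ker ψ = (Module.annihilator B N).map
      (Algebra.TensorProduct.includeRight : B →ₐ[A] A' ⊗[A] B) := by
    have := Algebra.TensorProduct.lTensor_ker (A := A') (Ideal.Quotient.mkₐ A (Module.annihilator B N))
      Ideal.Quotient.mk_surjective
    exact this.trans (congrArg (Ideal.map _) (Ideal.Quotient.mkₐ_ker A (Module.annihilator B N)))
  let P : Ideal (A' ⊗[A] B) := Q₁.comap ψ.toRingHom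
  haveI : P.IsPrime := Ideal.IsPrime.comap _
  let t' : Ideal A' := P.under A'
  haveI : t'.IsPrime := inferInstance
  haveI : P.LiesOver t' := ⟨rfl⟩
  have hQt : Q₁.under A' = t' := by
    show Q₁.comap _ = (Q₁.comap ψ.toRingHom).comap _
    rw [Ideal.comap_comap]
    exact congrArg (Ideal.comap · Q₁) ψ.comp_algebraMap.symm
  have ht : t' ≤ p' := by
    rw [← hQt, Ideal.over_def W₀ p']
    show Q₁.comap (algebraMap A' _) ≤ W₀.comap (algebraMap A' _)
    rw [← φ.comp_algebraMap, ← Ideal.comap_comap]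
    exact Ideal.comap_mono (le_of_eq_of_le hQ₁Q₀ hQ₀le)
  haveI : Algebra.IsPushout A B A' (A' ⊗[A] B) := Algebra.IsPushout.symm inferInstance
  let N' := (A' ⊗[A] B) ⊗[B] N
  let f : N →ₗ[B] N' := TensorProduct.mk B (A' ⊗[A] B) N 1
  refine hpure p A' (A' ⊗[A] B) N' f t' p' P ⟨hA', inferInstance, hbij⟩
    ⟨inferInstance, TensorProduct.isBaseChange B N (A' ⊗[A] B), ht, inferInstance, inferInstance, ?_, ?_⟩
  · haveI : Module.Finite (A' ⊗[A] B) N' := inferInstance
    haveI : Algebra.FiniteType A' (A' ⊗[A] B) := inferInstance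
    haveI : Algebra.FiniteType t'.ResidueField (t'.Fiber (A' ⊗[A] B)) := inferInstance
    haveI : IsNoetherianRing (t'.Fiber (A' ⊗[A] B)) := Algebra.FiniteType.isNoetherianRing t'.ResidueField _
    haveI : Module.Finite (t'.Fiber (A' ⊗[A] B)) (FlatCA.fiberMod t' (A' ⊗[A] B) N') :=
      RGFlat.finite_fiberMod t'
    haveI := RGFlat.fiberIdeal_isPrime t' P
    have hsuppN' : ∀ X : PrimeSpectrum (A' ⊗[A] B), X ∈ Module.support (A' ⊗[A] B) N' ↔ RingHom.ker ψ ≤ X.asIdeal := by
      intro X
      show X ∈ Module.support (A' ⊗[A] B) ((A' ⊗[A] B) ⊗[B] N) ↔ _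
      rw [Dim.support_tensor B (A' ⊗[A] B) (A' ⊗[A] B) N, hker, Ideal.map_le_iff_le_comap]
      have h0 : X ∈ Module.support (A' ⊗[A] B) (A' ⊗[A] B) := by
        rw [Module.mem_support_iff_of_finite, Module.annihilator_eq_bot.mpr inferInstance]
        exact bot_le
      refine ⟨fun h => ?_, fun h => ⟨h0, ?_⟩⟩
      · exact Module.mem_support_iff_of_finite.mp h.2
      · exact Module.mem_support_iff_of_finite.mpr h
    have hsupp : ∀ x : PrimeSpectrum (t'.Fiber (A' ⊗[A] B)),
        x ∈ Module.support (t'.Fiber (A' ⊗[A] B)) (FlatCA.fiberMod t' (A' ⊗[A] B) N') ↔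
          RingHom.ker ψ ≤ x.asIdeal.comap (algebraMap (A' ⊗[A] B) (t'.Fiber (A' ⊗[A] B))) := by
      intro x
      show x ∈ Module.support (t'.Fiber (A' ⊗[A] B)) ((t'.Fiber (A' ⊗[A] B)) ⊗[A' ⊗[A] B] N') ↔ _
      rw [Dim.support_tensor (A' ⊗[A] B) (t'.Fiber (A' ⊗[A] B)) (t'.Fiber (A' ⊗[A] B)) N']
      have h0 : x ∈ Module.support (t'.Fiber (A' ⊗[A] B)) (t'.Fiber (A' ⊗[A] B)) := by
        rw [Module.mem_support_iff_of_finite, Module.annihilator_eq_bot.mpr inferInstance]
        exact bot_le
      exact ⟨fun h => (hsuppN' _).mp h.2, fun h => ⟨h0, (hsuppN' _).mpr h⟩⟩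
    have hPfib : (FlatCA.fiberIdeal t' P).comap (algebraMap (A' ⊗[A] B) (t'.Fiber (A' ⊗[A] B))) = P :=
      FlatMisc.Fiber.comap_fiberIdeal t' P
    have hkerP : RingHom.ker ψ ≤ P := fun x hx => by
      show ψ x ∈ Q₁
      rw [RingHom.mem_ker.mp hx]
      exact Q₁.zero_mem
    refine Module.associatedPrimes.minimalPrimes_annihilator_subset_associatedPrimes _ _ ⟨⟨inferInstance, ?_⟩, ?_⟩
    · exact Module.mem_support_iff_of_finite.mp ((hsupp ⟨FlatCA.fiberIdeal t' P, inferInstance⟩).mpr (by rw [hPfib]; exact hkerP))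
    · rintro y ⟨hy, hyann⟩ hyle
      let x : PrimeSpectrum (t'.Fiber (A' ⊗[A] B)) := ⟨y, hy⟩
      have hxk := (hsupp x).mp (Module.mem_support_iff_of_finite.mpr hyann)
      let X := y.comap (algebraMap (A' ⊗[A] B) (t'.Fiber (A' ⊗[A] B)))
      haveI : X.IsPrime := Ideal.IsPrime.comap _
      have hXP : X ≤ P := (Ideal.comap_mono hyle).trans_eq hPfib
      have hXt : X.under A' = t' :=
        (congrArg PrimeSpectrum.asIdeal ((PrimeSpectrum.preimageOrderIsoFiber A' (A' ⊗[A] B) ⟨t', inferInstance⟩).symm x).2)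
      let QX := X.map ψ.toRingHom
      haveI : QX.IsPrime := Ideal.map_isPrime_of_surjective hψ hxk
      have hQX : QX.comap ψ.toRingHom = X := by
        refine (Ideal.comap_map_of_surjective ψ.toRingHom hψ X).trans ?_
        rw [sup_eq_left, ← RingHom.ker_eq_comap_bot]
        exact hxk
      have hQX1 : QX = Q₁ := by
        refine Algebra.QuasiFinite.eq_of_le_of_under_eq (R := A') QX Q₁ ?_ ?_
        · exact (Ideal.comap_le_comap_iff_of_surjective _ hψ _ _).mp (hQX.le.trans hXP)
        · rw [hQt, ← hXt, ← hQX]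
          show QX.comap _ = (QX.comap ψ.toRingHom).comap _
          rw [Ideal.comap_comap]
          exact congrArg (Ideal.comap · QX) ψ.comp_algebraMap.symm
      refine Ideal.map_le_iff_le_comap.mpr ?_
      show P ≤ X
      rw [← hQX, hQX1]
  · intro P₂ _ hPP₂ hP₂
    have hk2 : RingHom.ker ψ ≤ P₂ := fun x hx => hPP₂ (show ψ x ∈ Q₁ by rw [RingHom.mem_ker.mp hx]; exact Q₁.zero_mem)
    let Q₂ := P₂.map ψ.toRingHom
    haveI : Q₂.IsPrime := Ideal.map_isPrime_of_surjective hψ hk2
    have hQ₂ : Q₂.comap ψ.toRingHom = P₂ := by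
      refine (Ideal.comap_map_of_surjective ψ.toRingHom hψ P₂).trans ?_
      rw [sup_eq_left, ← RingHom.ker_eq_comap_bot]
      exact hk2
    have h12 : Q₁ ≤ Q₂ := (Ideal.comap_le_comap_iff_of_surjective _ hψ _ _).mp (hPP₂.trans_eq hQ₂.symm)
    let W := Q₂.comap φ.toRingHom
    haveI : W.IsPrime := Ideal.IsPrime.comap _
    haveI : W.LiesOver p' := ⟨by
      show p' = (Q₂.comap φ.toRingHom).comap (algebraMap A' (A' ⊗[A] C₀))
      rw [Ideal.comap_comap, show φ.toRingHom.comp (algebraMap A' _) = algebraMap A' _ from φ.comp_algebraMap,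
        ← ψ.comp_algebraMap, ← Ideal.comap_comap]
      exact hP₂.over.trans (congrArg (Ideal.comap (algebraMap A' (A' ⊗[A] B))) hQ₂.symm)⟩
    have heW : e i.castSucc ∉ W := by
      have h1 : e i.castSucc * (1 - e i.castSucc) ∈ Q₀ := by
        rw [mul_sub, mul_one, (he.idem i.castSucc).eq, sub_self]
        exact Q₀.zero_mem
      have h2 : 1 - e i.castSucc ∈ Q₀ :=
        (hQ₀.1.1.mem_or_mem h1).resolve_left fun h => hj (hQ₀le h)
      intro h
      have h3 : 1 - e i.castSucc ∈ W := Ideal.comap_mono h12 (hQ₁Q₀.ge h2)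
      exact ‹W.IsPrime›.ne_top ((Ideal.eq_top_iff_one W).mpr (by simpa using add_mem h h3))
    have hW : W = W₀ := ((H W inferInstance inferInstance).2 i heW).trans hWP.symm
    refine hz ⟨Q₂.comap (Algebra.TensorProduct.includeRight (R := A) (A := A') (B := C)).toRingHom,
      Ideal.IsPrime.comap _, ?_⟩
    rw [← hW₀, ← hW, Ideal.comap_comap, Ideal.comap_comap]
    congr 1

theorem finite_of_isPure {A B : Type u} [CommRing A] [CommRing B] [Algebra A B] [Algebra.FiniteType A B]
    (N : Type u) [AddCommGroup N] [Module B N] [Module A N] [IsScalarTower A B N] [Module.Finite B N]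
    [Algebra.QuasiFinite A (B ⧸ Module.annihilator B N)] (hpure : FlatCA.IsPure A B N) :
    Module.Finite A (B ⧸ Module.annihilator B N) := by
  classical
  let C := B ⧸ Module.annihilator B N
  obtain ⟨G, hG⟩ := (inferInstance : Algebra.FiniteType A C).out
  let s : Set C := {r | IsIntegral A r ∧ ∀ x, ∃ m, IsIntegral A (r ^ m * x)}
  have hs : Ideal.span s = ⊤ := by
    by_contra hne
    obtain ⟨q, hq, hsq⟩ := Ideal.exists_le_maximal _ hne
    haveI := hq.isPrime
    obtain ⟨r, hr, hint, hx⟩ := Algebra.zariskisMainProperty_iff.mp (Algebra.ZariskisMainProperty.of_finiteType (R := A) q)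
    exact hr (hsq (Ideal.subset_span ⟨hint, hx⟩))
  obtain ⟨t, hts, ht⟩ := Submodule.mem_span_finite_of_mem_span (show (1 : C) ∈ Submodule.span C s from (Ideal.eq_top_iff_one (Ideal.span s)).mp hs)
  choose m hm using fun (r : t) (x : G) => (hts r.2).2 x.1
  let S₀ : Set C := (t : Set C) ∪ Set.range (fun rx : t × G => rx.1.1 ^ m rx.1 rx.2 * rx.2.1)
  have hS₀ : S₀.Finite := t.finite_toSet.union (Set.finite_range _)
  let C₀ := Algebra.adjoin A S₀
  haveI : Module.Finite A C₀ := by
    refine Module.Finite.iff_fg.mpr (fg_adjoin_of_finite hS₀ ?_)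
    rintro x (hx | ⟨rx, rfl⟩)
    · exact (hts hx).1
    · exact hm rx.1 rx.2
  have htop : C₀ = ⊤ := by
    rw [eq_top_iff, ← hG, Algebra.adjoin_le_iff]
    intro x hx
    let I : Ideal C₀ := Submodule.comap ((LinearMap.mulRight C₀ (x : C)).comp (Algebra.linearMap C₀ C))
      (1 : Submodule C₀ C)
    suffices hI : I = ⊤ by
      obtain ⟨y, hy⟩ := Submodule.mem_one.mp (show (1 : C₀) ∈ I from hI ▸ Submodule.mem_top)
      simp only [LinearMap.comp_apply, Algebra.linearMap_apply, LinearMap.mulRight_apply, map_one, one_mul] at hy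
      rw [← hy]
      exact y.2
    by_contra hne
    obtain ⟨z, hz, hIz⟩ := Ideal.exists_le_maximal _ hne
    haveI := hz.isPrime
    obtain ⟨Q, hQ, hQz⟩ := exists_lift_prime N hpure C₀ z
    obtain ⟨r, hr, hrQ⟩ : ∃ r, ∃ hr : r ∈ t, r ∉ Q := by
      by_contra hall
      push Not at hall
      exact hQ.ne_top ((Ideal.eq_top_iff_one Q).mpr (Submodule.span_le.mpr (fun r hr => hall r hr) ht))
    let r₀ : C₀ := ⟨r, Algebra.subset_adjoin (Or.inl hr)⟩
    have h1 : r₀ ^ m ⟨r, hr⟩ ⟨x, hx⟩ ∈ I := by
      refine Submodule.mem_one.mpr ⟨⟨r ^ m ⟨r, hr⟩ ⟨x, hx⟩ * x, Algebra.subset_adjoin (Or.inr ⟨(⟨r, hr⟩, ⟨x, hx⟩), rfl⟩)⟩, ?_⟩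
      rfl
    have h2 : r₀ ∈ z := hz.isPrime.mem_of_pow_mem _ (hIz h1)
    rw [← hQz] at h2
    exact hrQ h2
  exact Module.Finite.equiv ((Subalgebra.equivOfEq C₀ ⊤ htop).trans Subalgebra.topEquiv).toLinearEquiv

/-- Ring form, X = Spec B affine hence separated over Spec A: let B be a finite type A-algebra and N a
finite B-module such that for every prime p of A the fibre module of N over p has finite support.
Then the following are equivalent: N is pure relative to Spec A; the scheme-theoretic support of N,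
namely B modulo the annihilator of N, is finite over A; N is universally pure relative to Spec A. -/
theorem result {A B : Type u} [CommRing A] [CommRing B] [Algebra A B] [Algebra.FiniteType A B]
    (N : Type u) [AddCommGroup N] [Module B N] [Module A N] [IsScalarTower A B N] [Module.Finite B N]
    (hfin : ∀ (p : Ideal A) [p.IsPrime], (Module.support (p.Fiber B) (FlatCA.fiberMod p B N)).Finite) :
    [FlatCA.IsPure A B N, Module.Finite A (B ⧸ Module.annihilator B N), FlatCA.IsUnivPure A B N].TFAE := by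
  tfae_have 2 → 3 := fun h => haveI := h; S1224.result N
  tfae_have 3 → 1 := fun h p _ A' B' N' _ _ _ _ _ _ _ _ _ _ _ _ _ _ f t' t _ _ P _ _ => h p A' B' N' f t' t P
  tfae_have 1 → 2 := by
    intro hpure
    haveI : Algebra.QuasiFinite A (B ⧸ Module.annihilator B N) := by
      rw [Algebra.QuasiFinite.iff_finite_primesOver]
      intro I hI
      have hF : ∀ Q ∈ I.primesOver (B ⧸ Module.annihilator B N), ∃ x ∈ Module.support (I.Fiber B) (FlatCA.fiberMod I B N),
          x.asIdeal.comap (algebraMap B (I.Fiber B)) = Q.comap (Ideal.Quotient.mk (Module.annihilator B N)) := by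
        rintro Q ⟨hQ, hQI⟩
        let QB := Q.comap (Ideal.Quotient.mk (Module.annihilator B N))
        haveI : QB.IsPrime := Ideal.IsPrime.comap _
        let e := PrimeSpectrum.preimageOrderIsoFiber A B ⟨I, hI⟩
        let x := e ⟨⟨QB, inferInstance⟩, PrimeSpectrum.ext (by
          show QB.comap (algebraMap A B) = I
          rw [Ideal.comap_comap]
          exact hQI.over.symm)⟩
        have hx : x.asIdeal.comap (algebraMap B (I.Fiber B)) = QB :=
          congrArg (fun y => y.1.asIdeal) (e.symm_apply_apply _)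
        refine ⟨x, ?_, hx⟩
        show x ∈ Module.support (I.Fiber B) ((I.Fiber B) ⊗[B] N)
        rw [Dim.support_tensor B (I.Fiber B) (I.Fiber B) N]
        refine ⟨?_, ?_⟩
        · rw [Module.mem_support_iff_of_finite, Module.annihilator_eq_bot.mpr inferInstance]
          exact bot_le
        · refine Module.mem_support_iff_of_finite.mpr ?_
          show _ ≤ x.asIdeal.comap (algebraMap B (I.Fiber B))
          rw [hx]
          intro b hb
          show Ideal.Quotient.mk _ b ∈ Q
          rw [Ideal.Quotient.eq_zero_iff_mem.mpr hb]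
          exact Q.zero_mem
      choose g hg1 hg2 using hF
      haveI := (hfin I).to_subtype
      refine Set.finite_coe_iff.mp (Finite.of_injective
        (fun Q : I.primesOver (B ⧸ Module.annihilator B N) => (⟨g Q.1 Q.2, hg1 Q.1 Q.2⟩ : Module.support (I.Fiber B) (FlatCA.fiberMod I B N)))
        fun Q₁ Q₂ h => Subtype.ext ?_)
      apply Ideal.comap_injective_of_surjective _ (Ideal.Quotient.mk_surjective (I := Module.annihilator B N))
      rw [← hg2 Q₁.1 Q₁.2, ← hg2 Q₂.1 Q₂.2]
      exact congrArg (fun y : Module.support (I.Fiber B) (FlatCA.fiberMod I B N) => y.1.asIdeal.comap (algebraMap B (I.Fiber B))) h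
    exact finite_of_isPure N hpure
  tfae_finish

end Groth.Agent.S1222
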