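import Groth.Statements.S12222
import Groth.Agent.Hens.Lifting
import Mathlib.RingTheory.Etale.QuasiFinite
import Mathlib.RingTheory.Flat.FaithfullyFlat.Algebra
set_option linter.style.haveILetI false

set_option autoImplicit false
universe u
open Hensel

namespace Groth.Agent.S12222

/-- (11) ⇒ (1): let R be a local ring such that every finite-type R-algebra S can be written as a
product A × B with A finite over R and R → B quasi-finite at no prime lying over the maximal ideal —
concretely, S has an idempotent e with S/(1 − e) finite over R and R → S/(e) quasi-finite at no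
prime over the maximal ideal. Then R is henselian. -/
theorem result (R : Type u) [CommRing R] [IsLocalRing R]
    (h : ∀ (S : Type u) [CommRing S] [Algebra R S] [Algebra.FiniteType R S],
      ∃ e : S, IsIdempotentElem e ∧ Module.Finite R (S ⧸ Ideal.span ({1 - e} : Set S)) ∧
        ∀ (q : Ideal (S ⧸ Ideal.span ({e} : Set S))) [q.IsPrime],
          q.LiesOver (IsLocalRing.maximalIdeal R) → ¬ Algebra.QuasiFiniteAt R q) :
    HenselianLocalRing R := by
  classical
  refine ⟨fun f hf a₀ h1 h2 => ?_⟩
  -- `f ≡ (X - a₀) g` modulo the maximal ideal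
  obtain ⟨g, hg⟩ := Polynomial.X_sub_C_dvd_sub_C_eval (a := a₀) (p := f)
  let P : StandardEtalePair R :=
    ⟨f, hf, Polynomial.derivative f * g, g, 0, 1, by simp⟩
  have hga : IsUnit (g.eval a₀) := by
    have := congrArg (fun p => (Polynomial.derivative p).eval a₀) hg
    simp at this
    rwa [← this]
  -- the point
  have hP : P.HasMap (IsLocalRing.residue R a₀) := by
    have he : ∀ p : Polynomial R, Polynomial.aeval (IsLocalRing.residue R a₀) p =
        IsLocalRing.residue R (p.eval a₀) := fun p => by
      rw [← IsLocalRing.ResidueField.algebraMap_eq, Polynomial.aeval_algebraMap_apply,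
        Polynomial.aeval_def, Algebra.algebraMap_self, Polynomial.eval₂_id]
    refine ⟨?_, ?_⟩
    · show Polynomial.aeval _ f = 0
      rw [he, IsLocalRing.residue_eq_zero_iff]
      exact h1
    · show IsUnit (Polynomial.aeval _ (Polynomial.derivative f * g))
      rw [he, Polynomial.eval_mul]
      exact (h2.mul hga).map _
  let τ := P.lift _ hP
  obtain ⟨e, he, hfin, hqf⟩ := h P.Ring
  haveI := hfin
  -- the point misses `e = 0`
  have hτe : τ (1 - e) = 0 := by
    by_contra hne
    have he0 : τ e = 0 := by
      have : τ e * τ (1 - e) = 0 := by rw [← map_mul, mul_sub, mul_one, he.eq, sub_self, map_zero]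
      exact (mul_eq_zero.1 this).resolve_right hne
    let π := Ideal.Quotient.mkₐ R (Ideal.span ({e} : Set P.Ring))
    let τ' : (P.Ring ⧸ Ideal.span ({e} : Set P.Ring)) →ₐ[R] IsLocalRing.ResidueField R :=
      Ideal.Quotient.liftₐ _ τ (fun x hx => by
        obtain ⟨c, rfl⟩ := Ideal.mem_span_singleton'.1 hx
        rw [map_mul, he0, mul_zero])
    haveI : (RingHom.ker τ'.toRingHom).IsPrime := RingHom.ker_isPrime _
    haveI : Algebra.QuasiFinite R (P.Ring ⧸ Ideal.span ({e} : Set P.Ring)) :=
      .of_surjective_algHom π Ideal.Quotient.mk_surjective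
    refine hqf (RingHom.ker τ'.toRingHom) ⟨?_⟩ inferInstance
    ext r
    simp only [Ideal.under, Ideal.mem_comap, RingHom.mem_ker, AlgHom.toRingHom_eq_coe,
      RingHom.coe_coe, AlgHom.commutes, IsLocalRing.ResidueField.algebraMap_eq]
    exact (IsLocalRing.residue_eq_zero_iff r).symm
  -- `B = S/(1-e)` is finite étale, surjected on by `R`, and nonzero at the closed point
  let B := P.Ring ⧸ Ideal.span ({1 - e} : Set P.Ring)
  haveI : IsLocalization.Away e B :=
    IsLocalization.away_of_isIdempotentElem he Ideal.mk_ker Ideal.Quotient.mk_surjective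
  haveI : Module.Flat R B :=
    haveI : Module.Flat P.Ring B := IsLocalization.flat B (Submonoid.powers e)
    Module.Flat.trans R P.Ring B
  let τB : B →ₐ[R] IsLocalRing.ResidueField R :=
    Ideal.Quotient.liftₐ _ τ (fun x hx => by
      obtain ⟨c, rfl⟩ := Ideal.mem_span_singleton'.1 hx
      rw [map_mul, hτe, mul_zero])
  haveI : IsLocalHom (algebraMap R B) := ⟨fun r hr => by
    have := hr.map τB
    rw [AlgHom.commutes, IsLocalRing.ResidueField.algebraMap_eq] at this
    exact isUnit_of_map_unit (IsLocalRing.residue R) _ this⟩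
  have hsurj : Function.Surjective (algebraMap R B) := by
    let x : B := Ideal.Quotient.mk _ P.X
    let M := (IsLocalRing.maximalIdeal R).map (algebraMap R B)
    have hx : P.HasMap x := P.hasMap_X.map (Ideal.Quotient.mkₐ R _)
    have hgu : IsUnit (Polynomial.aeval x g) := by
      refine isUnit_of_mul_isUnit_right (x := Polynomial.aeval x (Polynomial.derivative f)) ?_
      rw [← map_mul]
      exact hx.2
    have hxa : x - algebraMap R B a₀ ∈ M := by
      have h0 : (x - algebraMap R B a₀) * Polynomial.aeval x g = - algebraMap R B (f.eval a₀) := by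
        have := congrArg (Polynomial.aeval x) hg
        simp only [map_sub, map_mul, Polynomial.aeval_X, Polynomial.aeval_C] at this
        rw [← this, show Polynomial.aeval x f = 0 from hx.1, zero_sub]
      exact (Ideal.mul_unit_mem_iff_mem _ hgu).1 (h0 ▸ M.neg_mem (Ideal.mem_map_of_mem _ h1))
    let q : P.Ring →ₐ[R] B ⧸ M :=
      (Ideal.Quotient.mkₐ R M).comp (Ideal.Quotient.mkₐ R (Ideal.span ({1 - e} : Set P.Ring)))
    let ι : IsLocalRing.ResidueField R →ₐ[R] B ⧸ M :=
      Ideal.Quotient.liftₐ _ (Algebra.ofId R (B ⧸ M)) (fun r hr => by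
        show algebraMap R (B ⧸ M) r = 0
        rw [IsScalarTower.algebraMap_apply R B (B ⧸ M)]
        exact Ideal.Quotient.eq_zero_iff_mem.2 (Ideal.mem_map_of_mem _ hr))
    have hq : q = ι.comp τ := by
      refine P.hom_ext ?_
      show Ideal.Quotient.mk M x = ι (τ P.X)
      rw [StandardEtalePair.lift_X, ← IsLocalRing.ResidueField.algebraMap_eq, ι.commutes,
        IsScalarTower.algebraMap_apply R B (B ⧸ M)]
      exact Ideal.Quotient.eq.2 hxa
    have hle : (⊤ : Submodule R B) ≤
        LinearMap.range (Algebra.linearMap R B) ⊔ IsLocalRing.maximalIdeal R • ⊤ := by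
      intro b _
      obtain ⟨s, rfl⟩ := Ideal.Quotient.mk_surjective b
      obtain ⟨r, hr⟩ := IsLocalRing.residue_surjective (τ s)
      have hs : Ideal.Quotient.mk (Ideal.span ({1 - e} : Set P.Ring)) s - algebraMap R B r ∈ M := by
        rw [← Ideal.Quotient.eq, ← Ideal.Quotient.algebraMap_eq, ← IsScalarTower.algebraMap_apply,
          ← ι.commutes, IsLocalRing.ResidueField.algebraMap_eq, hr]
        exact AlgHom.congr_fun hq s
      rw [Submodule.mem_sup]
      refine ⟨algebraMap R B r, ⟨r, rfl⟩,
        Ideal.Quotient.mk (Ideal.span ({1 - e} : Set P.Ring)) s - algebraMap R B r, ?_,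
        add_sub_cancel _ _⟩
      rw [Ideal.smul_top_eq_map]
      exact hs
    intro b
    exact Submodule.le_of_le_smul_of_le_jacobson_bot Module.Finite.fg_top
      (IsLocalRing.maximalIdeal_le_jacobson _) hle (Submodule.mem_top (x := b))
  haveI : Nontrivial B := τB.toRingHom.domain_nontrivial
  haveI : IsLocalRing B := .of_surjective' (algebraMap R B) hsurj
  haveI : Module.FaithfullyFlat R B := Module.FaithfullyFlat.of_flat_of_isLocalHom
  have hbij : Function.Bijective (algebraMap R B) :=
    ⟨FaithfulSMul.algebraMap_injective R B, hsurj⟩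
  obtain ⟨a, ha⟩ := hbij.2 (Ideal.Quotient.mk _ P.X)
  refine ⟨a, ?_, ?_⟩
  · apply hbij.1
    have hx : P.HasMap (Ideal.Quotient.mk (Ideal.span ({1 - e} : Set P.Ring)) P.X : B) :=
      P.hasMap_X.map (Ideal.Quotient.mkₐ R _)
    have h0 := hx.1
    rw [← ha, Polynomial.aeval_algebraMap_apply, Polynomial.aeval_def, Algebra.algebraMap_self,
      Polynomial.eval₂_id] at h0
    rw [h0, map_zero]
  · rw [← IsLocalRing.residue_eq_zero_iff, map_sub, sub_eq_zero,
      ← IsLocalRing.ResidueField.algebraMap_eq, ← τB.commutes, ha]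
    exact StandardEtalePair.lift_X (P := P) _ hP

end Groth.Agent.S12222
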