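import Groth.Prelude.Def_EtModD2
import Groth.Prelude.Def_SixF2
import Mathlib.Algebra.Homology.DerivedCategory.ExactFunctor
import Mathlib.RingTheory.Noetherian.Defs
import Mathlib.AlgebraicGeometry.Morphisms.Etale
import Mathlib.AlgebraicGeometry.Morphisms.QuasiSeparated
import Mathlib.AlgebraicGeometry.Morphisms.QuasiCompact
import Groth.Agent.EtModWLib.ExtZeroComp
import Mathlib.Algebra.Homology.ShortComplex.PreservesHomology

set_option autoImplicit false
universe u
open CategoryTheory CategoryTheory.Limits AlgebraicGeometry Opposite
attribute [local instance] HasDerivedCategory.standard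
open EtModD

namespace Groth.Agent.S12224

open Groth.Agent Groth.Agent.EtModWLib

/-- Let Λ be a Noetherian ring and j : U → X an étale morphism of schemes which is quasi-compact and
quasi-separated. If M is an object of D(U_et, Λ) with constructible cohomology sheaves, then j_!M
has constructible cohomology sheaves; here j_! on derived categories is induced by the exact functor
extension by zero on sheaves of Λ-modules (its left exactness is carried as an instance hypothesis,
as is the continuity of V ↦ (V → U → X) on small étale sites; both always hold). -/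
theorem result (Λ : Type (u + 1)) [CommRing Λ] [IsNoetherianRing Λ]
    {U X : Scheme.{u}} (j : U ⟶ X) [Etale j] [QuasiCompact j] [QuasiSeparated j] [EtShriek.JCont j]
    [PreservesFiniteLimits (EtSix.extZeroMod Λ j)] (M : EtModD.D Λ U)
    (hM : ∀ i : ℤ, EtModW.IsConstructible Λ (EtModD.HD M i)) (i : ℤ) :
    EtModW.IsConstructible Λ (EtModD.HD ((EtSix.extZeroMod Λ j).mapDerivedCategory.obj M) i) := by
  let A := EtModW.Mod Λ X
  let P := EtSix.extZeroMod Λ j
  obtain ⟨C, ⟨e⟩⟩ : ∃ C : CochainComplex (EtModW.Mod Λ U) ℤ, Nonempty (DerivedCategory.Q.obj C ≅ M) :=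
    ⟨_, ⟨DerivedCategory.Q.objObjPreimageIso M⟩⟩
  have hC : EtModW.IsConstructible Λ (C.homology i) := isConstructible_of_iso
    (((DerivedCategory.homologyFunctorFactors (EtModW.Mod Λ U) i).app C).symm ≪≫
      (DerivedCategory.homologyFunctor (EtModW.Mod Λ U) i).mapIso e).symm (hM i)
  let e₂ : P.obj (C.homology i) ≅ EtModD.HD (P.mapDerivedCategory.obj M) i :=
    ((C.sc i).mapHomologyIso P).symm ≪≫
      ((DerivedCategory.homologyFunctorFactors A i).app ((P.mapHomologicalComplex _).obj C)).symm ≪≫
      (DerivedCategory.homologyFunctor A i).mapIso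
        ((P.mapDerivedCategoryFactors.app C).symm ≪≫ P.mapDerivedCategory.mapIso e)
  exact isConstructible_of_iso e₂ (isConstructible_extZero j hC)

end Groth.Agent.S12224
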