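import Groth.Statements.S1575
import Groth.Agent.ZClosLib.Coherent

set_option autoImplicit false
universe u
open CategoryTheory CategoryTheory.Limits AlgebraicGeometry
open Divisors

namespace Groth.Agent.S1575

/-- Let X be locally Noetherian, F coherent, and U open such that at every point outside U the stalk of
F has depth at least two over the local ring. Then F → j_*(F|_U) is an isomorphism: for every open
V, restriction of sections Γ(V, F) → Γ(V ∩ U, F) is a bijection. -/
theorem result (X : Scheme.{u}) [IsLocallyNoetherian X]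
    (F : X.Modules) (hF : Coh.IsCoh F) (U : X.Opens)
    (hdepth : ∀ x : X, x ∉ U → 2 ≤ LocCoh.depth (X.presheaf.stalk x) (F.presheaf.stalk x)) (V : X.Opens) :
    Function.Bijective (F.val.presheaf.map (homOfLE (inf_le_left : V ⊓ U ≤ V)).op) := by
  haveI : F.IsQuasicoherent := hF.1
  let T : ZClos.Cl ((U : Set X)ᶜ) := ⟨⟨(U : Set X)ᶜ, U.isOpen.isClosed_compl⟩, le_rfl⟩
  have h : ZClos.IsZClosed ((U : Set X)ᶜ) F :=
    (Groth.Agent.ZClosLib.StalkCrit.isZClosed_iff F).mpr fun T y =>
      (Groth.Agent.ZClosLib.DepthCrit.idealClosed_stalk_iff _ F hF y).mpr fun z _ hz => hdepth z (T.2 hz)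
  have hT : T.U = U := TopologicalSpace.Opens.ext (compl_compl (U : Set X))
  have key : ∀ (W : X.Opens), W = U →
      Function.Bijective (F.val.presheaf.map (homOfLE (inf_le_left : V ⊓ W ≤ V)).op) →
      Function.Bijective (F.val.presheaf.map (homOfLE (inf_le_left : V ⊓ U ≤ V)).op) := by
    rintro W rfl h; exact h
  exact key T.U hT ((Groth.Agent.ZClosLib.isZClosed_iff_sections _ F).mp h T V)

end Groth.Agent.S1575
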