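import Groth.Statements.S14995
import Groth.Agent.S1575

set_option autoImplicit false
universe u
open CategoryTheory CategoryTheory.Limits AlgebraicGeometry
open Coherent

namespace Groth.Agent.S14995

theorem isIso_unit (Y : Scheme.{u}) [IsLocallyNoetherian Y] (E : Y.Modules) (hE : Coh.IsCoh E) (U : Y.Opens)
    (hdepth : ∀ y : Y, y ∉ U → (2 : ℕ∞) ≤ LocCoh.depth (Y.presheaf.stalk y) (E.presheaf.stalk y)) :
    IsIso ((Scheme.Modules.restrictAdjunction U.ι).unit.app E) := by
  refine Scheme.Modules.Hom.isIso_iff_isIso_app.mpr fun V => (ConcreteCategory.isIso_iff_bijective _).mpr ?_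
  have h1 := Groth.Agent.S1575.result Y E hE U hdepth V
  rw [Scheme.Modules.restrictAdjunction_unit_app_app]
  have heq : U.ι ''ᵁ (U.ι ⁻¹ᵁ V) = V ⊓ U := by
    rw [Scheme.Hom.image_preimage_eq_opensRange_inf, Scheme.Opens.opensRange_ι, inf_comm]
  have key : ∀ (O : Y.Opens) (h : O ≤ V), O = V ⊓ U →
      Function.Bijective (E.presheaf.map (homOfLE h).op) := by rintro O h rfl; exact h1
  exact key _ _ heq

/-- Let Y be a locally Noetherian scheme, E and F coherent O_Y-modules and U an open subset of Y such
that for every point y of Y outside U the stalk E_y has depth at least 2 as a module over the local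
ring O_{Y,y}. Then restricting morphisms to U is a bijection from Hom(F, E) onto Hom(F|_U, E|_U).
(The published statement is the case F = E; this row allows any coherent F.) -/
theorem result (Y : Scheme.{u}) [IsLocallyNoetherian Y]
    (E F : Y.Modules) (hE : Coh.IsCoh E) (hF : Coh.IsCoh F) (U : Y.Opens)
    (hdepth : ∀ y : Y, y ∉ U → (2 : ℕ∞) ≤ LocCoh.depth (Y.presheaf.stalk y) (E.presheaf.stalk y)) :
    Function.Bijective (fun φ : F ⟶ E => (Scheme.Modules.restrictFunctor U.ι).map φ) := by
  let adj := Scheme.Modules.restrictAdjunction U.ι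
  haveI := isIso_unit Y E hE U hdepth
  refine ⟨fun φ φ' h => ?_, fun ψ => ?_⟩
  · have h2 := congrArg (adj.homEquiv F ((Scheme.Modules.restrictFunctor U.ι).obj E)) h
    simp only [Adjunction.homEquiv_unit] at h2
    have hn : ∀ χ : F ⟶ E, χ ≫ adj.unit.app E = adj.unit.app F ≫
        (Scheme.Modules.pushforward U.ι).map ((Scheme.Modules.restrictFunctor U.ι).map χ) :=
      fun χ => adj.unit.naturality χ
    rw [← hn, ← hn] at h2
    exact (cancel_mono (adj.unit.app E)).mp h2
  · refine ⟨adj.homEquiv _ _ ψ ≫ inv (adj.unit.app E), ?_⟩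
    apply (adj.homEquiv _ _).injective
    have hn : ∀ χ : F ⟶ E, χ ≫ adj.unit.app E = adj.unit.app F ≫
        (Scheme.Modules.pushforward U.ι).map ((Scheme.Modules.restrictFunctor U.ι).map χ) :=
      fun χ => adj.unit.naturality χ
    rw [Adjunction.homEquiv_unit _ _ _ ((Scheme.Modules.restrictFunctor U.ι).map _), ← hn,
      Category.assoc, IsIso.inv_hom_id, Category.comp_id]

end Groth.Agent.S14995
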