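import Groth.Statements.S6039
import Groth.Agent.ZClosLib.StalkCrit
import Groth.Agent.ZClosLib.DepthCrit

set_option autoImplicit false
universe u
open CategoryTheory CategoryTheory.Limits TopologicalSpace AlgebraicGeometry Opposite
open LocCohZ

namespace Groth.Agent.S6039

/-- Let X be a locally Noetherian scheme, Y a closed subset with open complement U and M a coherent
O_X-module. Then depth M_x ≥ 2 for every x ∈ Y if and only if, for every open V of X, the
restriction map Γ(V, M) → Γ(V ∩ U, M) is bijective. -/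
theorem result (X : Scheme.{u}) [IsLocallyNoetherian X] (U : X.Opens)
    (M : X.Modules) (hM : Coh.IsCoh M) :
    (∀ x : X, x ∉ (U : Set X) → (2 : ℕ∞) ≤ LocCoh.depth (X.presheaf.stalk x) (M.presheaf.stalk x)) ↔
      ∀ V : X.Opens, Function.Bijective (M.val.map (homOfLE (inf_le_left : V ⊓ U ≤ V)).op).hom := by
  have : M.IsQuasicoherent := hM.1
  let T : Closeds X := ⟨(U : Set X)ᶜ, U.isOpen.isClosed_compl⟩
  have hT : T.compl = U := by ext1; exact compl_compl _
  have key : (∀ y : X, ZClosLib.HomIdeal.IdealClosed (ZClosLib.StalkCrit.stalkIdeal T y)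
      (M.presheaf.stalk y)) ↔
      ∀ V : X.Opens, Function.Bijective (ZClosLib.resInf M T.compl V) := by
    refine ⟨fun h V => ZClosLib.StalkCrit.resInf_bijective T M fun y _ => h y, fun h y => ?_⟩
    obtain ⟨_, ⟨W, hW, rfl⟩, hyW, -⟩ :=
      X.isBasis_affineOpens.exists_subset_of_mem_open (Set.mem_univ y) isOpen_univ
    exact ZClosLib.StalkCrit.idealClosed_stalk hW T hyW M
      (ZClosLib.StalkCrit.idealClosed_of_resInf hW T M (h W))
  have hd : (∀ y : X, ZClosLib.HomIdeal.IdealClosed (ZClosLib.StalkCrit.stalkIdeal T y)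
      (M.presheaf.stalk y)) ↔ ∀ x : X, x ∉ (U : Set X) →
        (2 : ℕ∞) ≤ LocCoh.depth (X.presheaf.stalk x) (M.presheaf.stalk x) := by
    simp only [ZClosLib.DepthCrit.idealClosed_stalk_iff T M hM]
    exact ⟨fun h x hx => h x x specializes_rfl hx, fun h _ y _ hy => h y hy⟩
  rw [← hd, key, hT]
  rfl

end Groth.Agent.S6039
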