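import Groth.Statements.S12226
import Groth.Agent.S14995
import Groth.Agent.S6039

set_option autoImplicit false
universe u
open CategoryTheory CategoryTheory.Limits AlgebraicGeometry TopologicalSpace
open LocCoh

namespace Groth.Agent.S12226

/-- Let j : U → X be the inclusion of an open subscheme of a Noetherian scheme X and F a coherent
O_X-module such that F' = j_*(F|_U) is coherent. Then (a) for every point x of X outside U the stalk
F'_x has depth at least 2 over O_{X,x}, and (b) F → F' is the unique map with these properties: for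
every coherent O_X-module G and every map φ : F → G whose restriction to U is an isomorphism and
such that depth(G_x) ≥ 2 for all x outside U, there is exactly one map ψ : G → F' whose composite
with φ is the canonical map F → j_*(F|_U), and this ψ is an isomorphism. (The compatibility of this
construction with flat base change is not part of this statement.) -/
theorem result (X : Scheme.{u}) [IsNoetherian X] (U : X.Opens)
    (F : X.Modules) (hF : Coh.IsCoh F) (hF' : Coh.IsCoh ((Coh.push U.ι).obj (F.restrict U.ι))) :
    (∀ x : ↥X, x ∉ U → (2 : ℕ∞) ≤ LocCoh.depth (X.presheaf.stalk x)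
        (((Coh.push U.ι).obj (F.restrict U.ι)).presheaf.stalk x)) ∧
    ∀ (G : X.Modules) (hG : Coh.IsCoh G) (φ : F ⟶ G),
      IsIso ((Scheme.Modules.restrictFunctor U.ι).map φ) →
      (∀ x : ↥X, x ∉ U → (2 : ℕ∞) ≤ LocCoh.depth (X.presheaf.stalk x) (G.presheaf.stalk x)) →
        (∃! ψ : G ⟶ (Coh.push U.ι).obj (F.restrict U.ι),
            φ ≫ ψ = (Scheme.Modules.restrictAdjunction U.ι).unit.app F) ∧
          ∀ ψ : G ⟶ (Coh.push U.ι).obj (F.restrict U.ι),
            φ ≫ ψ = (Scheme.Modules.restrictAdjunction U.ι).unit.app F → IsIso ψ := by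
  constructor
  · refine (Groth.Agent.S6039.result X U _ hF').mpr fun V => ?_
    let G := (Scheme.Modules.restrictFunctor U.ι).obj F
    haveI : IsIso ((TopologicalSpace.Opens.map U.ι.base).map (homOfLE (inf_le_left : V ⊓ U ≤ V))) :=
      ⟨homOfLE (fun z hz => ⟨hz, z.2⟩), Subsingleton.elim _ _, Subsingleton.elim _ _⟩
    exact ConcreteCategory.bijective_of_isIso
      (G.presheaf.map ((TopologicalSpace.Opens.map U.ι.base).map (homOfLE (inf_le_left : V ⊓ U ≤ V))).op)
  · intro G hG φ hφ hdepth
    let adj := Scheme.Modules.restrictAdjunction U.ι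
    haveI := Groth.Agent.S14995.isIso_unit X G hG U hdepth
    haveI := hφ
    let R := Scheme.Modules.restrictFunctor U.ι
    let P := Scheme.Modules.pushforward U.ι
    let ψ₀ : G ⟶ P.obj (R.obj F) := adj.unit.app G ≫ P.map (inv (R.map φ))
    have h0 : φ ≫ ψ₀ = adj.unit.app F := by
      have hn : φ ≫ adj.unit.app G = adj.unit.app F ≫ P.map (R.map φ) := adj.unit.naturality φ
      rw [← Category.assoc, hn, Category.assoc, ← P.map_comp, IsIso.hom_inv_id, P.map_id]
      exact Category.comp_id _
    have huniq : ∀ ψ : G ⟶ P.obj (R.obj F), φ ≫ ψ = adj.unit.app F → ψ = ψ₀ := by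
      intro ψ hψ
      apply (adj.homEquiv _ _).symm.injective
      apply (cancel_epi (R.map φ)).mp
      rw [← adj.homEquiv_naturality_left_symm, ← adj.homEquiv_naturality_left_symm, hψ, h0]
    exact ⟨⟨ψ₀, h0, huniq⟩, fun ψ hψ => by
      rw [huniq ψ hψ]
      show IsIso (adj.unit.app G ≫ P.map (inv (R.map φ)))
      infer_instance⟩

end Groth.Agent.S12226
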