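import Groth.Statements.S12227
import Mathlib.Algebra.Homology.DerivedCategory.Fractions
import Mathlib.Algebra.Homology.Embedding.TruncLEHomology
-- import your own Groth.Agent.* helpers here

set_option autoImplicit false
universe w v u
open CategoryTheory CategoryTheory.Limits
open CohDer

namespace Groth.Agent.S12227

/-- Full faithfulness of K⁻(A)[Qis⁻¹] → D⁻(A), written in terms of roofs. Let A be an abelian category
and K, L complexes which are zero above some degree, viewed in the homotopy category. Then every
morphism Qh(K) → Qh(L) in the derived category is Qh(s)⁻¹ ≫ Qh(f) for some quasi-isomorphism s : K'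
→ K and map f : K' → L of K(A) with K' again zero above some degree; and two maps f₁, f₂ : K → L of
K(A) become equal in D(A) only if s ≫ f₁ = s ≫ f₂ for some quasi-isomorphism s : K' → K with K' zero
above some degree. (That the kernel of K⁻(A) → D(A) consists of the acyclic complexes and that the
essential image is D⁻(A) are separate statements.) -/
theorem result {A : Type u} [Category.{v} A] [Abelian A] [HasDerivedCategory.{w} A]
    (K L : HomotopyCategory A (ComplexShape.up ℤ)) (a b : ℤ) [CochainComplex.IsStrictlyLE K.as a] [CochainComplex.IsStrictlyLE L.as b] :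
    (∀ φ : DerivedCategory.Qh.obj K ⟶ DerivedCategory.Qh.obj L,
      ∃ (K' : HomotopyCategory A (ComplexShape.up ℤ)) (n : ℤ) (_ : CochainComplex.IsStrictlyLE K'.as n) (s : K' ⟶ K) (f : K' ⟶ L),
        HomotopyCategory.quasiIso A (ComplexShape.up ℤ) s ∧ DerivedCategory.Qh.map s ≫ φ = DerivedCategory.Qh.map f) ∧
    (∀ f₁ f₂ : K ⟶ L, DerivedCategory.Qh.map f₁ = DerivedCategory.Qh.map f₂ →
      ∃ (K' : HomotopyCategory A (ComplexShape.up ℤ)) (n : ℤ) (_ : CochainComplex.IsStrictlyLE K'.as n) (s : K' ⟶ K),
        HomotopyCategory.quasiIso A (ComplexShape.up ℤ) s ∧ s ≫ f₁ = s ≫ f₂) := by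
  refine ⟨fun φ => ?_, fun f₁ f₂ h => ?_⟩
  · obtain ⟨K', hK', s, hs, g, hg⟩ :=
      DerivedCategory.right_fac_of_isStrictlyLE (X := K.as) (Y := L.as) φ a
    refine ⟨(HomotopyCategory.quotient A _).obj K', a, hK', (HomotopyCategory.quotient A _).map s,
      (HomotopyCategory.quotient A _).map g, ?_, ?_⟩
    · exact (DerivedCategory.isIso_Qh_map_iff _).1 hs
    · exact (congrArg (DerivedCategory.Q.map s ≫ ·) hg).trans (IsIso.hom_inv_id_assoc _ _)
  · obtain ⟨X', s, hs, e⟩ := (MorphismProperty.map_eq_iff_precomp DerivedCategory.Qh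
      (HomotopyCategory.quasiIso A (ComplexShape.up ℤ)) f₁ f₂).1 h
    obtain ⟨X₀, rfl⟩ := HomotopyCategory.quotient_obj_surjective X'
    obtain ⟨K₀, rfl⟩ := HomotopyCategory.quotient_obj_surjective K
    obtain ⟨s₀, rfl⟩ := (HomotopyCategory.quotient A _).map_surjective s
    rw [HomotopyCategory.quotient_map_mem_quasiIso_iff, HomologicalComplex.mem_quasiIso_iff] at hs
    have : CochainComplex.IsStrictlyLE K₀ a := ‹CochainComplex.IsStrictlyLE ((HomotopyCategory.quotient A _).obj K₀).as a›
    refine ⟨(HomotopyCategory.quotient A _).obj (CochainComplex.truncLE X₀ a), a,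
      (inferInstance : CochainComplex.IsStrictlyLE (CochainComplex.truncLE X₀ a) a),
      (HomotopyCategory.quotient A _).map (CochainComplex.ιTruncLE X₀ a) ≫
        (HomotopyCategory.quotient A _).map s₀, ?_, by rw [Category.assoc, Category.assoc, e]⟩
    rw [← Functor.map_comp, HomotopyCategory.quotient_map_mem_quasiIso_iff,
      HomologicalComplex.mem_quasiIso_iff, ← CochainComplex.ιTruncLE_naturality]
    have : QuasiIso (CochainComplex.truncLEMap s₀ a) := by
      rw [CochainComplex.quasiIso_truncLEMap_iff]
      infer_instance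
    infer_instance

end Groth.Agent.S12227
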