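import Groth.Statements.S12228
import Mathlib.Algebra.Homology.DerivedCategory.Fractions
import Mathlib.Algebra.Homology.Embedding.TruncLEHomology
-- import your own Groth.Agent.* helpers here

set_option autoImplicit false
universe w v u
open CategoryTheory CategoryTheory.Limits
open CohDer

namespace Groth.Agent.S12228

variable {A : Type u} [Category.{v} A] [Abelian A]

lemma isIso_ιTruncLE_f (M : CochainComplex A ℤ) (c i : ℤ) (hi : i < c) :
    IsIso ((CochainComplex.ιTruncLE M c).f i) := by
  obtain ⟨k, hk⟩ : ∃ k : ℕ, i = c - k := ⟨(c - i).toNat, by omega⟩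
  let e := ComplexShape.embeddingUpIntLE c
  have : IsIso ((HomologicalComplex.πTruncGE M.op e.op).f i) := by
    show IsIso ((e.op.liftExtend _ (M.op.restrictionToTruncGE'_hasLift e.op)).f i)
    rw [e.op.isIso_liftExtend_f_iff _ _ (i := k) (show e.op.f k = i by simp [e, hk])]
    refine M.op.isIso_restrictionToTruncGE' e.op k ?_
    rw [ComplexShape.Embedding.op_boundaryGE_iff, ComplexShape.boundaryLE_embeddingUpIntLE_iff]
    omega
  exact inferInstanceAs (IsIso ((HomologicalComplex.πTruncGE M.op e.op).f i).unop)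

/-- homotopies into a truncation -/
lemma homotopy_into_truncLE {K M : CochainComplex A ℤ} (c : ℤ) [K.IsStrictlyLE c]
    (f g : K ⟶ CochainComplex.truncLE M c)
    (h : Homotopy (f ≫ CochainComplex.ιTruncLE M c) (g ≫ CochainComplex.ιTruncLE M c)) :
    Nonempty (Homotopy f g) := by
  classical
  refine ⟨{
    hom := fun i j => if hij : (ComplexShape.up ℤ).Rel j i ∧ i ≤ c then
      have := isIso_ιTruncLE_f M c j (by have := hij.1; simp at this; omega)
      h.hom i j ≫ inv ((CochainComplex.ιTruncLE M c).f j) else 0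
    zero := fun i j hij => dif_neg (fun hh => hij hh.1)
    comm := fun i => ?_ }⟩
  by_cases hi : i ≤ c
  · have : Mono ((CochainComplex.ιTruncLE M c).f i) :=
      inferInstanceAs (Mono ((HomologicalComplex.ιTruncLE M (ComplexShape.embeddingUpIntLE c)).f i))
    rw [← cancel_mono ((CochainComplex.ιTruncLE M c).f i)]
    have e := h.comm i
    rw [dNext_eq _ (show (ComplexShape.up ℤ).Rel i (i + 1) from rfl),
      prevD_eq _ (show (ComplexShape.up ℤ).Rel (i - 1) i by simp)] at e ⊢
    simp only [HomologicalComplex.comp_f] at e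
    rw [e, dif_pos (show (ComplexShape.up ℤ).Rel (i - 1) i ∧ i ≤ c from ⟨by simp, hi⟩), Preadditive.add_comp, Preadditive.add_comp, Category.assoc,
      Category.assoc, ← (CochainComplex.ιTruncLE M c).comm (i - 1) i]
    simp only [Category.assoc, IsIso.inv_hom_id_assoc]
    congr 2
    by_cases h1 : i + 1 ≤ c
    · rw [dif_pos ⟨rfl, h1⟩, Category.assoc, IsIso.inv_hom_id, Category.comp_id]
    · rw [dif_neg (fun hh => h1 hh.2), (K.isZero_of_isStrictlyLE c (i + 1) (by omega)).eq_of_src
        (h.hom (i + 1) i) 0]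
      simp
  · exact (K.isZero_of_isStrictlyLE c i (by omega)).eq_of_src _ _


/-- Full faithfulness of Kᵇ(A)[Qis⁻¹] → Dᵇ(A), written in terms of roofs. Let A be an abelian category
and K, L bounded complexes (zero outside a finite range of degrees), viewed in the homotopy
category. Then every morphism Qh(K) → Qh(L) in the derived category is Qh(f) ≫ Qh(t)⁻¹ for some map
f : K → L' and quasi-isomorphism t : L → L' of K(A) with L' again bounded; and two maps f₁, f₂ : K →
L of K(A) become equal in D(A) only if f₁ ≫ t = f₂ ≫ t for some quasi-isomorphism t : L → L' with L'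
bounded. -/
theorem result {A : Type u} [Category.{v} A] [Abelian A] [HasDerivedCategory.{w} A]
    (K L : HomotopyCategory A (ComplexShape.up ℤ)) (a b a' b' : ℤ) [CochainComplex.IsStrictlyGE K.as a] [CochainComplex.IsStrictlyLE K.as b]
    [CochainComplex.IsStrictlyGE L.as a'] [CochainComplex.IsStrictlyLE L.as b'] :
    (∀ φ : DerivedCategory.Qh.obj K ⟶ DerivedCategory.Qh.obj L,
      ∃ (L' : HomotopyCategory A (ComplexShape.up ℤ)) (m n : ℤ) (_ : CochainComplex.IsStrictlyGE L'.as m) (_ : CochainComplex.IsStrictlyLE L'.as n) (f : K ⟶ L') (t : L ⟶ L'),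
        HomotopyCategory.quasiIso A (ComplexShape.up ℤ) t ∧ φ ≫ DerivedCategory.Qh.map t = DerivedCategory.Qh.map f) ∧
    (∀ f₁ f₂ : K ⟶ L, DerivedCategory.Qh.map f₁ = DerivedCategory.Qh.map f₂ →
      ∃ (L' : HomotopyCategory A (ComplexShape.up ℤ)) (m n : ℤ) (_ : CochainComplex.IsStrictlyGE L'.as m) (_ : CochainComplex.IsStrictlyLE L'.as n) (t : L ⟶ L'),
        HomotopyCategory.quasiIso A (ComplexShape.up ℤ) t ∧ f₁ ≫ t = f₂ ≫ t) := by
  let c := max b b'
  obtain ⟨K₀, rfl⟩ := HomotopyCategory.quotient_obj_surjective K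
  obtain ⟨L₀, rfl⟩ := HomotopyCategory.quotient_obj_surjective L
  have : CochainComplex.IsStrictlyLE K₀ b := ‹CochainComplex.IsStrictlyLE ((HomotopyCategory.quotient A _).obj K₀).as b›
  have : CochainComplex.IsStrictlyLE L₀ b' := ‹CochainComplex.IsStrictlyLE ((HomotopyCategory.quotient A _).obj L₀).as b'›
  have : CochainComplex.IsStrictlyGE L₀ a' := ‹CochainComplex.IsStrictlyGE ((HomotopyCategory.quotient A _).obj L₀).as a'›
  have : CochainComplex.IsStrictlyLE K₀ c := CochainComplex.isStrictlyLE_of_le K₀ b c (le_max_left _ _)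
  have : CochainComplex.IsStrictlyLE L₀ c := CochainComplex.isStrictlyLE_of_le L₀ b' c (le_max_right _ _)
  refine ⟨fun φ => ?_, fun f₁ f₂ h => ?_⟩
  · obtain ⟨L', h1, h2, g, s, hs, hg⟩ :=
      DerivedCategory.left_fac_of_isStrictlyLE_of_isStrictlyGE (X := K₀) (Y := L₀) a' c φ
    refine ⟨(HomotopyCategory.quotient A _).obj L', a', c, h1, h2, (HomotopyCategory.quotient A _).map g,
      (HomotopyCategory.quotient A _).map s, ?_, ?_⟩
    · exact (DerivedCategory.isIso_Qh_map_iff _).1 hs
    · exact (congrArg (· ≫ DerivedCategory.Q.map s) hg).trans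
        ((Category.assoc _ _ _).trans
          ((congrArg (DerivedCategory.Q.map g ≫ ·) (IsIso.inv_hom_id _)).trans (Category.comp_id _)))
  · obtain ⟨X', t, ht, e⟩ := (MorphismProperty.map_eq_iff_postcomp DerivedCategory.Qh
      (HomotopyCategory.quasiIso A (ComplexShape.up ℤ)) f₁ f₂).1 h
    obtain ⟨X₀, rfl⟩ := HomotopyCategory.quotient_obj_surjective X'
    obtain ⟨t₀, rfl⟩ := (HomotopyCategory.quotient A _).map_surjective t
    obtain ⟨g₁, rfl⟩ := (HomotopyCategory.quotient A _).map_surjective f₁
    obtain ⟨g₂, rfl⟩ := (HomotopyCategory.quotient A _).map_surjective f₂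
    rw [HomotopyCategory.quotient_map_mem_quasiIso_iff, HomologicalComplex.mem_quasiIso_iff] at ht
    rw [← Functor.map_comp, ← Functor.map_comp] at e
    let M := CochainComplex.truncGE X₀ a'
    let u : L₀ ⟶ M := t₀ ≫ CochainComplex.πTruncGE X₀ a'
    have : QuasiIso u := by
      show QuasiIso (t₀ ≫ CochainComplex.πTruncGE X₀ a')
      rw [← CochainComplex.πTruncGE_naturality]
      have : QuasiIso (CochainComplex.truncGEMap t₀ a') := by
        rw [CochainComplex.quasiIso_truncGEMap_iff]
        infer_instance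
      infer_instance
    have : QuasiIso (CochainComplex.truncLEMap u c) := by
      rw [CochainComplex.quasiIso_truncLEMap_iff]
      infer_instance
    let T := inv (CochainComplex.ιTruncLE L₀ c) ≫ CochainComplex.truncLEMap u c
    refine ⟨(HomotopyCategory.quotient A _).obj (CochainComplex.truncLE M c), a', c,
      (inferInstance : CochainComplex.IsStrictlyGE (CochainComplex.truncLE M c) a'),
      (inferInstance : CochainComplex.IsStrictlyLE (CochainComplex.truncLE M c) c),
      (HomotopyCategory.quotient A _).map T, ?_, ?_⟩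
    · rw [HomotopyCategory.quotient_map_mem_quasiIso_iff, HomologicalComplex.mem_quasiIso_iff]
      infer_instance
    · rw [← Functor.map_comp, ← Functor.map_comp]
      have hT : T ≫ CochainComplex.ιTruncLE M c = u := by simp [T]
      obtain ⟨hh⟩ := homotopy_into_truncLE c (g₁ ≫ T) (g₂ ≫ T)
        (((Homotopy.ofEq (show (g₁ ≫ T) ≫ CochainComplex.ιTruncLE M c =
            (g₁ ≫ t₀) ≫ CochainComplex.πTruncGE X₀ a' by rw [Category.assoc, hT, Category.assoc])).trans
          ((HomotopyCategory.homotopyOfEq _ _ e).compRight _)).trans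
          (Homotopy.ofEq (show (g₂ ≫ t₀) ≫ CochainComplex.πTruncGE X₀ a' =
            (g₂ ≫ T) ≫ CochainComplex.ιTruncLE M c by rw [Category.assoc, Category.assoc, hT])))
      exact HomotopyCategory.eq_of_homotopy _ _ hh

end Groth.Agent.S12228
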