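import Groth.Statements.S12232
import Groth.Agent.DTrunc.DerivedPushAdj

set_option autoImplicit false
universe w w' v u
open CategoryTheory CategoryTheory.Limits
open CohDer

namespace Groth.Agent.S12232

open Groth.Agent in
theorem adj_full_faithful {A : Type*} [Category A] [Abelian A] [HasDerivedCategory A]
    {B : Type u} [Category.{v} B] [Abelian B] [IsGrothendieckAbelian.{v} B] [HasDerivedCategory.{w} B]
    {L : A ⥤ B} [L.Additive] [PreservesFiniteLimits L] [PreservesFiniteColimits L]
    {R : B ⥤ A} [R.Additive] (adj : L ⊣ R) [R.Full] [R.Faithful]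
    (RR : DerivedCategory B ⥤ DerivedCategory A)
    (β : R.mapHomotopyCategory (ComplexShape.up ℤ) ⋙ DerivedCategory.Qh ⟶ DerivedCategory.Qh ⋙ RR)
    [RR.IsRightDerivedFunctor β (HomotopyCategory.quasiIso B (ComplexShape.up ℤ))] :
    Nonempty (L.mapDerivedCategory ⊣ RR) ∧ RR.Full ∧ RR.Faithful ∧
      Nonempty (RR ⋙ L.mapDerivedCategory ≅ 𝟭 (DerivedCategory B)) := by
  let W₁ := HomotopyCategory.quasiIso A (ComplexShape.up ℤ)
  let W₂ := HomotopyCategory.quasiIso B (ComplexShape.up ℤ)
  let adjK := DRing.DerivedAdj.mapHomotopyCategoryAdj adj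
  let G' := L.mapDerivedCategory
  let eα : DerivedCategory.Qh ⋙ G' ≅
      L.mapHomotopyCategory (ComplexShape.up ℤ) ⋙ DerivedCategory.Qh :=
    L.mapDerivedCategoryFactorsh
  have hG : G'.IsLeftDerivedFunctor eα.hom W₁ :=
    Functor.isLeftDerivedFunctor_of_inverts _ _ eα
  have hGF : (G' ⋙ RR).IsLeftDerivedFunctor
      ((Functor.associator _ _ _).inv ≫ Functor.whiskerRight eα.hom RR) W₁ :=
    Functor.isLeftDerivedFunctor_of_inverts _ _
      ((Functor.associator _ _ _).symm ≪≫ Functor.isoWhiskerRight eα RR)
  have hen : DTrunc.RightDerived.HasEnough DerivedCategory.Qh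
      (R.mapHomotopyCategory (ComplexShape.up ℤ) ⋙ DerivedCategory.Qh) :=
    DTrunc.RightDerived.hasEnough _
  have hFG : (RR ⋙ G').IsRightDerivedFunctor
      (Functor.whiskerRight β G' ≫ (Functor.associator _ _ _).hom) W₂ := by
    refine DTrunc.RightDerived.isRightDerivedFunctor_of_isIso W₂ _ _ fun X => ?_
    obtain ⟨P, s, hP, hs⟩ := hen X
    have hP' : DTrunc.RightDerived.IsGood DerivedCategory.Qh
        ((R.mapHomotopyCategory (ComplexShape.up ℤ) ⋙ DerivedCategory.Qh) ⋙ G') P := hP.comp G'
    refine ⟨P, s, hP', hs, ?_⟩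
    have := hen.isIso_app (W := W₂) RR β hP
    change IsIso (G'.map (β.app P) ≫ 𝟙 _)
    infer_instance
  let adj' : G' ⊣ RR := Adjunction.derived adjK W₁ W₂ eα.hom β
  have hc : ∀ X, IsIso (adjK.counit.app X) := fun X => by
    let f : (L.mapHomologicalComplex (ComplexShape.up ℤ)).obj
        ((R.mapHomologicalComplex (ComplexShape.up ℤ)).obj X.as) ⟶ X.as :=
      { f := fun n => adj.counit.app (X.as.X n)
        comm' := fun i j _ => (adj.counit.naturality (X.as.d i j)).symm }
    have : ∀ n, IsIso (f.f n) := fun n => by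
      change IsIso (adj.counit.app (X.as.X n)); infer_instance
    have : IsIso f := HomologicalComplex.Hom.isIso_of_components f
    exact (inferInstance : IsIso ((HomotopyCategory.quotient B (ComplexShape.up ℤ)).map f))
  have hε : ∀ P, IsIso (β.app P) → IsIso (adj'.counit.app (DerivedCategory.Qh.obj P)) := fun P hP => by
    have h := adjK.derivedε_fac_app W₂ eα.hom β P
    have := hc P
    have h2 : IsIso (G'.map (β.app P) ≫ adj'.counit.app (DerivedCategory.Qh.obj P)) := by
      change IsIso (G'.map (β.app P) ≫ (adjK.derivedε W₂ eα.hom β).app _)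
      rw [h]
      infer_instance
    exact IsIso.of_isIso_comp_left (G'.map (β.app P)) _
  have hall : IsIso adj'.counit := by
    have : ∀ Y, IsIso (adj'.counit.app Y) := fun Y => by
      have := Localization.essSurj DerivedCategory.Qh (HomotopyCategory.quasiIso B (ComplexShape.up ℤ))
      obtain ⟨P, s, hP, hs⟩ := hen (DerivedCategory.Qh.objPreimage Y)
      exact (NatTrans.isIso_app_iff_of_iso adj'.counit
        ((asIso (DerivedCategory.Qh.map s)).symm ≪≫ DerivedCategory.Qh.objObjPreimageIso Y)).1
        (hε P (hen.isIso_app (W := W₂) RR β hP))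
    exact NatIso.isIso_of_isIso_app _
  exact ⟨⟨adj'⟩, adj'.fullyFaithfulROfIsIsoCounit.full, adj'.fullyFaithfulROfIsIsoCounit.faithful,
    ⟨asIso adj'.counit⟩⟩

/-- Let C be a Grothendieck abelian category, U a generator, R = End(U)ᵒᵖ, G = Hom(U, −) : C → Mod_R and
F : Mod_R → C its left adjoint, which is exact and makes G fully faithful (Gabriel–Popescu). Then on
derived categories F : D(Mod_R) → D(C) (induced by the exact functor F) is left adjoint to the total
right derived functor RG : D(C) → D(Mod_R), RG is fully faithful, and F ∘ RG ≅ id. Existence of the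
adjunction and of the isomorphism is asserted (the derived unit/counit are not named); the existence
of RG and the exactness and additivity of F are carried as instance hypotheses, all of which hold. -/
theorem result {C : Type u} [Category.{v} C] [Abelian C]
    [IsGrothendieckAbelian.{v} C] [HasDerivedCategory.{w} C] (U : C) (hU : IsSeparator U)
    [HasDerivedCategory.{w'} (ModuleCat.{v} (End U)ᵐᵒᵖ)]
    [(IsGrothendieckAbelian.tensorObj U).Additive] [PreservesFiniteLimits (IsGrothendieckAbelian.tensorObj U)]
    [PreservesFiniteColimits (IsGrothendieckAbelian.tensorObj U)]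
    [((preadditiveCoyonedaObj U).mapHomotopyCategory (ComplexShape.up ℤ) ⋙ DerivedCategory.Qh).HasRightDerivedFunctor
      (HomotopyCategory.quasiIso C (ComplexShape.up ℤ))] :
    let RG := ((preadditiveCoyonedaObj U).mapHomotopyCategory (ComplexShape.up ℤ) ⋙ DerivedCategory.Qh).totalRightDerived
      DerivedCategory.Qh (HomotopyCategory.quasiIso C (ComplexShape.up ℤ))
    let LF := (IsGrothendieckAbelian.tensorObj U).mapDerivedCategory
    Nonempty (LF ⊣ RG) ∧ RG.Full ∧ RG.Faithful ∧
      Nonempty (RG ⋙ LF ≅ 𝟭 (DerivedCategory C)) := by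
  have := IsGrothendieckAbelian.GabrielPopescu.full U hU
  have : (preadditiveCoyonedaObj U).Faithful := (CategoryTheory.isSeparator_iff_faithful_preadditiveCoyonedaObj U).1 hU
  intro RG LF
  exact adj_full_faithful (IsGrothendieckAbelian.tensorObjPreadditiveCoyonedaObjAdjunction U) RG
    (((preadditiveCoyonedaObj U).mapHomotopyCategory (ComplexShape.up ℤ) ⋙ DerivedCategory.Qh).totalRightDerivedUnit
      DerivedCategory.Qh (HomotopyCategory.quasiIso C (ComplexShape.up ℤ)))

end Groth.Agent.S12232
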