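import Groth.Statements.S12233
import Groth.Agent.FlatNilp.Basic
import Groth.Agent.LocFlat.Basic
import Mathlib.RingTheory.IsTensorProduct
import Mathlib.RingTheory.Localization.BaseChange
import Mathlib.LinearAlgebra.TensorProduct.Quotient
import Mathlib.RingTheory.TensorProduct.Finite
-- import your own Groth.Agent.* helpers here

set_option autoImplicit false
universe u
open scoped TensorProduct
open CAlg

namespace Groth.Agent.S12233


open scoped TensorProduct
open Function
set_option linter.style.haveILetI false

section General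

variable {R : Type u} [CommRing R] (R' : Type u) [CommRing R'] [Algebra R R'] (M : Type u) [AddCommGroup M] [Module R M]

/-- `X ⊗_{R'} (R' ⊗_R M) = X ⊗_R M`, naturally in `X`. -/
theorem cancel_natural {X Y : Type u} [AddCommGroup X] [Module R' X] [Module R X] [IsScalarTower R R' X]
    [AddCommGroup Y] [Module R' Y] [Module R Y] [IsScalarTower R R' Y] (a : X →ₗ[R'] Y) (z : X ⊗[R'] (R' ⊗[R] M)) :
    (a.restrictScalars R).rTensor M (TensorProduct.AlgebraTensorModule.cancelBaseChange R R' R' X M z) =
      TensorProduct.AlgebraTensorModule.cancelBaseChange R R' R' Y M (a.rTensor (R' ⊗[R] M) z) := by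
  induction z using TensorProduct.induction_on with
  | zero => simp
  | tmul x y =>
    induction y using TensorProduct.induction_on with
    | zero => simp
    | tmul s m => simp
    | add u v hu hv => simp only [TensorProduct.tmul_add, map_add, hu, hv]
  | add u v hu hv => simp only [map_add, hu, hv]

theorem rTensor_injective_iff {X Y : Type u} [AddCommGroup X] [Module R' X] [Module R X] [IsScalarTower R R' X]
    [AddCommGroup Y] [Module R' Y] [Module R Y] [IsScalarTower R R' Y] (a : X →ₗ[R'] Y) :
    Injective (a.rTensor (R' ⊗[R] M)) ↔ Injective ((a.restrictScalars R).rTensor M) := by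
  have : ⇑((a.restrictScalars R).rTensor M) ∘ ⇑(TensorProduct.AlgebraTensorModule.cancelBaseChange R R' R' X M) =
      ⇑(TensorProduct.AlgebraTensorModule.cancelBaseChange R R' R' Y M) ∘ ⇑(a.rTensor (R' ⊗[R] M)) :=
    funext (cancel_natural R' M a)
  rw [← EquivLike.comp_injective _ (TensorProduct.AlgebraTensorModule.cancelBaseChange R R' R' Y M), ← this,
    EquivLike.injective_comp]

/-- A relation of `M` over `R'` lying in `I R' F` is generated over `R'`, modulo `I R'`, by relations lying in `I F`. -/
theorem rel_mem_span (I : Ideal R) (h2 : Module.Flat (R ⧸ I) ((R ⧸ I) ⊗[R] M))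
    {F : Type u} [AddCommGroup F] [Module R F] (π : F →ₗ[R] M) (hπ : Surjective π)
    (z : R' ⊗[R] LinearMap.ker π)
    (hz : (LinearMap.ker π).subtype.baseChange R' z ∈ I.map (algebraMap R R') • (⊤ : Submodule R' (R' ⊗[R] F))) :
    z ∈ Submodule.span R' (TensorProduct.mk R R' (LinearMap.ker π) 1 ''
        {n : LinearMap.ker π | (n : F) ∈ (I • ⊤ : Submodule R F)}) ⊔
      I.map (algebraMap R R') • (⊤ : Submodule R' (R' ⊗[R] LinearMap.ker π)) := by
  set I' := I.map (algebraMap R R') with hI'
  let f := (LinearMap.ker π).subtype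
  set T := Submodule.span R' (TensorProduct.mk R R' (LinearMap.ker π) 1 '' {n : (LinearMap.ker π) | (n : F) ∈ (I • ⊤ : Submodule R F)})
  let A := R ⧸ I
  let A' := R' ⧸ I'
  letI : Algebra A A' := (Ideal.quotientMap I' (algebraMap R R') Ideal.le_comap_map).toAlgebra
  haveI : IsScalarTower R A A' := IsScalarTower.of_algebraMap_eq (fun _ => rfl)
  let q : R' →ₗ[R'] A' := (Submodule.mkQ I')
  let Q : R' ⊗[R] (LinearMap.ker π) →ₗ[R] A' ⊗[R] (LinearMap.ker π) := (q.restrictScalars R).rTensor (LinearMap.ker π)
  -- the image of `z` in `A' ⊗ (LinearMap.ker π)` dies in `A' ⊗ F`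
  have h0 : f.lTensor A' (Q z) = 0 := by
    have hcomm : f.lTensor A' (Q z) = (q.restrictScalars R).rTensor F (f.lTensor R' z) := by
      rw [← LinearMap.comp_apply, LinearMap.lTensor_comp_rTensor, ← LinearMap.rTensor_comp_lTensor]
      rfl
    rw [hcomm]
    change (q.restrictScalars R).rTensor F (f.baseChange R' z) = 0
    refine Submodule.smul_induction_on (p := fun u => (q.restrictScalars R).rTensor F u = 0) hz (fun r hr w _ => ?_) (fun a b ha hb => by simp only [map_add, ha, hb, add_zero])
    induction w using TensorProduct.induction_on with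
    | zero => simp
    | tmul s y =>
      rw [TensorProduct.smul_tmul', LinearMap.rTensor_tmul]
      have : q (r • s) = 0 := (Submodule.Quotient.mk_eq_zero _).mpr (I'.mul_mem_right s hr)
      rw [LinearMap.restrictScalars_apply, this, TensorProduct.zero_tmul]
    | add u v hu hv => rw [smul_add, map_add, hu trivial, hv trivial, add_zero]
  -- lift to `A' ⊗_A (A ⊗ (LinearMap.ker π))`
  let eK := TensorProduct.AlgebraTensorModule.cancelBaseChange R A A A' (LinearMap.ker π)
  let eF := TensorProduct.AlgebraTensorModule.cancelBaseChange R A A A' F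
  let fA := f.baseChange A
  let P := LinearMap.range fA
  have hexP : Exact P.subtype (π.baseChange A) := by
    intro y
    rw [show Set.range P.subtype = Set.range fA from Subtype.range_coe.trans (LinearMap.coe_range fA)]
    simp only [fA, f, LinearMap.baseChange_eq_ltensor]
    exact (lTensor_exact A (LinearMap.exact_subtype_ker_map π) hπ y)
  haveI : Module.Flat A (A ⊗[R] M) := h2
  have hPinj := Groth.Agent.LocFlat.lTensor_injective_of_flat_coker (R := A) (A := P) (B := A ⊗[R] F) (C := A ⊗[R] M) P.subtype (π.baseChange A) hexP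
    (LinearMap.lTensor_surjective _ hπ) P.injective_subtype A'
  have hnat : ∀ w, f.lTensor A' (eK w) = eF ((fA.lTensor A') w) := by
    intro w
    induction w using TensorProduct.induction_on with
    | zero => simp
    | tmul s y =>
      induction y using TensorProduct.induction_on with
      | zero => simp
      | tmul t k => simp [eK, eF, fA]
      | add u v hu hv => simp only [TensorProduct.tmul_add, map_add, hu, hv]
    | add u v hu hv => simp only [map_add, hu, hv]
  obtain ⟨w, hw⟩ := eK.surjective (Q z)
  rw [← hw, hnat] at h0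
  have h0' : fA.rangeRestrict.lTensor A' w = 0 := by
    apply hPinj
    rw [map_zero, ← LinearMap.comp_apply, ← LinearMap.lTensor_comp]
    exact eF.injective (h0.trans (map_zero _).symm)
  have hex2 : Exact (LinearMap.ker fA).subtype fA.rangeRestrict := by
    intro y
    constructor
    · intro hy
      exact ⟨⟨y, LinearMap.mem_ker.mpr (congrArg Subtype.val hy)⟩, rfl⟩
    · rintro ⟨y', rfl⟩
      exact Subtype.ext y'.2
  have hsurj2 : Surjective fA.rangeRestrict := fA.surjective_rangeRestrict
  have hex3 := lTensor_exact (R := A) (M := ↥(LinearMap.ker fA)) (N := A ⊗[R] ↥(LinearMap.ker π)) (P := ↥(LinearMap.range fA)) A' hex2 hsurj2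
  obtain ⟨v, hv⟩ := (hex3 w).mp h0'
  have hsurj : ∀ a : A', ∃ s : R', q s = a := Submodule.mkQ_surjective _
  have hT : Q z ∈ (T.restrictScalars R).map Q := by
    rw [← hw, ← hv]
    clear hv
    induction v using TensorProduct.induction_on with
    | zero => simp
    | tmul a κ =>
      obtain ⟨κ, hκ⟩ := κ
      obtain ⟨k, rfl⟩ : ∃ k : (LinearMap.ker π), TensorProduct.mk R A (LinearMap.ker π) 1 k = κ :=
        TensorProduct.mk_surjective R (LinearMap.ker π) A Ideal.Quotient.mk_surjective κ
      have hk : (k : F) ∈ (I • ⊤ : Submodule R F) := by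
        have h' : (1 : A) ⊗ₜ[R] (k : F) = 0 := by simpa [fA, f] using hκ
        have h'' := congrArg (TensorProduct.quotTensorEquivQuotSMul F I) h'
        rwa [map_zero, show (1 : A) = Ideal.Quotient.mk I 1 from rfl, TensorProduct.quotTensorEquivQuotSMul_mk_tmul,
          one_smul, Submodule.Quotient.mk_eq_zero] at h''
      obtain ⟨s, rfl⟩ := hsurj a
      refine ⟨s • ((1 : R') ⊗ₜ[R] k), T.smul_mem s (Submodule.subset_span ⟨k, hk, rfl⟩), ?_⟩
      simp [Q, eK, TensorProduct.smul_tmul']
    | add u v hu hv => rw [map_add, map_add]; exact Submodule.add_mem _ hu hv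
  obtain ⟨t, ht, hQt⟩ := hT
  have hker : z - t ∈ I' • (⊤ : Submodule R' (R' ⊗[R] (LinearMap.ker π))) := by
    have hex : Exact ((I'.subtype.restrictScalars R).rTensor (LinearMap.ker π)) Q :=
      rTensor_exact (LinearMap.ker π) (LinearMap.exact_subtype_mkQ I') (Submodule.mkQ_surjective I')
    obtain ⟨u, hu⟩ := (hex (z - t)).mp (by rw [map_sub, hQt, sub_self])
    rw [← hu]
    clear hu
    induction u using TensorProduct.induction_on with
    | zero => simp
    | tmul i k =>
      have : (I'.subtype.restrictScalars R).rTensor (LinearMap.ker π) (i ⊗ₜ[R] k) = (i : R') • ((1 : R') ⊗ₜ[R] k) := by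
        simp [TensorProduct.smul_tmul']
      rw [this]
      exact Submodule.smul_mem_smul i.2 Submodule.mem_top
    | add u v hu hv => rw [map_add]; exact Submodule.add_mem _ hu hv
  exact Submodule.mem_sup.mpr ⟨t, ht, z - t, hker, add_sub_cancel t z⟩

set_option maxHeartbeats 2000000 in
/-- The kernel of `I' ⊗ M_{R'} → M_{R'}` is killed by a map killing the image of the kernel of `I ⊗ M → M`. -/
theorem ker_map_eq_zero (I : Ideal R) (h2 : Module.Flat (R ⧸ I) ((R ⧸ I) ⊗[R] M))
    {N : Type u} [AddCommGroup N] [Module R' N] (G : R' ⊗[R] M →ₗ[R'] N)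
    (h3 : ∀ x : I ⊗[R] M, (Submodule.subtype I).rTensor M x = 0 →
      G.lTensor (I.map (algebraMap R R') : Ideal R') (TensorProduct.mapOfCompatibleSMul R' R R _ _
        (TensorProduct.map (Algebra.idealMap R' I) (TensorProduct.mk R R' M 1) x)) = 0)
    (x : (I.map (algebraMap R R') : Ideal R') ⊗[R'] (R' ⊗[R] M))
    (hx : (Submodule.subtype (I.map (algebraMap R R'))).rTensor (R' ⊗[R] M) x = 0) :
    G.lTensor (I.map (algebraMap R R') : Ideal R') x = 0 := by
  let I' := I.map (algebraMap R R')
  let π := Groth.Agent.LocFlat.pres R M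
  have hπ : Surjective π := Groth.Agent.LocFlat.pres_surjective M
  let π' := π.baseChange R'
  have hπ' : Surjective π' := LinearMap.lTensor_surjective _ hπ
  let f := (LinearMap.ker π).subtype
  let mult : I' ⊗[R'] (R' ⊗[R] (M →₀ R)) →ₗ[R'] R' ⊗[R] (M →₀ R) :=
    (TensorProduct.lid R' _).toLinearMap ∘ₗ I'.subtype.rTensor _
  have hmult : Injective mult :=
    (TensorProduct.lid R' _).injective.comp (Module.Flat.rTensor_preserves_injective_linearMap _ Subtype.val_injective)
  have hmult' : ∀ w, π' (mult w) = (TensorProduct.lid R' _) (I'.subtype.rTensor _ (π'.lTensor I' w)) := by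
    intro w
    induction w using TensorProduct.induction_on with
    | zero => simp
    | tmul i y => simp [mult]
    | add u v hu hv => simp only [map_add, hu, hv]
  have hex : Exact (f.baseChange R') π' := by
    rw [LinearMap.baseChange_eq_ltensor, LinearMap.baseChange_eq_ltensor]
    have e0 : Exact f π := LinearMap.exact_subtype_ker_map π
    exact lTensor_exact (R := R) (M := ↥(LinearMap.ker π)) (N := M →₀ R) (P := M) R' e0 hπ
  have hπf : ∀ y, π' (f.baseChange R' y) = 0 := hex.apply_apply_eq_zero
  let Z : Submodule R' (R' ⊗[R] LinearMap.ker π) :=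
    (Submodule.map mult (LinearMap.ker (G.lTensor I' ∘ₗ π'.lTensor I'))).comap (f.baseChange R')
  obtain ⟨w, hw0⟩ := LinearMap.lTensor_surjective I' hπ' x
  have hx' : I'.subtype.rTensor _ (π'.lTensor I' w) = 0 := (congrArg _ hw0).trans hx
  obtain ⟨z, hz⟩ : ∃ z, f.baseChange R' z = mult w :=
    (hex _).mp (show π' (mult w) = 0 by rw [hmult', hx', map_zero])
  have hwmem : mult w ∈ I' • (⊤ : Submodule R' (R' ⊗[R] (M →₀ R))) := by
    clear hz hx hw0 hx'
    induction w using TensorProduct.induction_on with
    | zero => simp
    | tmul i y => simpa [mult] using Submodule.smul_mem_smul i.2 (Submodule.mem_top (x := y))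
    | add u v hu hv => rw [map_add]; exact Submodule.add_mem _ hu hv
  have hzZ : z ∈ Z := by
    refine (sup_le ?_ ?_ : _ ⊔ _ ≤ Z) (rel_mem_span R' M I h2 π hπ z (hz ▸ hwmem))
    · rw [Submodule.span_le]
      rintro _ ⟨n, hn, rfl⟩
      obtain ⟨v, hv⟩ : ∃ v : I ⊗[R] (M →₀ R),
          TensorProduct.lid R _ (I.subtype.rTensor _ v) = (n : M →₀ R) := by
        refine Submodule.smul_induction_on hn (fun r hr y _ => ⟨⟨r, hr⟩ ⊗ₜ y, by simp⟩) ?_
        rintro a b ⟨u, hu⟩ ⟨v, hv⟩
        exact ⟨u + v, by simp only [map_add, hu, hv]⟩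
      let wn := TensorProduct.mapOfCompatibleSMul R' R R _ _
        (TensorProduct.map (Algebra.idealMap R' I) (TensorProduct.mk R R' (M →₀ R) 1) v)
      refine ⟨wn, ?_, ?_⟩
      · have hxv : I.subtype.rTensor M (π.lTensor I v) = 0 := by
          apply (TensorProduct.lid R M).injective
          rw [map_zero]
          have : TensorProduct.lid R M (I.subtype.rTensor M (π.lTensor I v)) =
              π (TensorProduct.lid R _ (I.subtype.rTensor _ v)) := by
            clear hv wn
            induction v using TensorProduct.induction_on with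
            | zero => simp
            | tmul i y => simp
            | add u v hu hv => simp only [map_add, hu, hv]
          rw [this, hv]
          exact n.2
        have h := h3 _ hxv
        rw [SetLike.mem_coe, LinearMap.mem_ker, LinearMap.comp_apply]
        convert h using 2
        clear hv h hxv
        induction v using TensorProduct.induction_on with
        | zero => simp [wn]
        | tmul i y => simp [wn, π']
        | add u v hu hv => simp only [wn, map_add] at hu hv ⊢; rw [hu, hv]
      · have : ∀ v, mult (TensorProduct.mapOfCompatibleSMul R' R R _ _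
            (TensorProduct.map (Algebra.idealMap R' I) (TensorProduct.mk R R' (M →₀ R) 1) v)) =
            TensorProduct.mk R R' (M →₀ R) 1 (TensorProduct.lid R _ (I.subtype.rTensor _ v)) := by
          intro v
          induction v using TensorProduct.induction_on with
          | zero => simp
          | tmul i y => simp [mult, TensorProduct.smul_tmul', Algebra.smul_def]
          | add u v hu hv => simp only [map_add, hu, hv]
        rw [show mult wn = _ from this v, hv]
        simp [f]
    · refine Submodule.smul_le.mpr fun r hr y _ => ⟨(⟨r, hr⟩ : I') ⊗ₜ f.baseChange R' y, ?_, ?_⟩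
      · simp [hπf]
      · simp [mult]
  obtain ⟨w', hw', hw''⟩ := hzZ
  rw [hz] at hw''
  have hfin : G.lTensor I' (π'.lTensor I' w) = 0 := hmult hw'' ▸ hw'
  exact (congrArg _ hw0).symm.trans hfin

end General

/-- Injectivity after tensoring with a localized module. -/
theorem lTensor_injective_loc {R' A : Type u} [CommRing R'] [CommRing A] [Algebra R' A] {W : Submonoid A}
    {N N' : Type u} [AddCommGroup N] [Module A N] [Module R' N] [IsScalarTower R' A N]
    [AddCommGroup N'] [Module A N'] [Module R' N'] [IsScalarTower R' A N']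
    (g : N →ₗ[A] N') [IsLocalizedModule W g]
    {X Y : Type u} [AddCommGroup X] [Module R' X] [AddCommGroup Y] [Module R' Y] (a : X →ₗ[R'] Y)
    (h : ∀ x, a.lTensor N x = 0 → TensorProduct.AlgebraTensorModule.rTensor R' X g x = 0) :
    Injective (a.lTensor N') := by
  rw [injective_iff_map_eq_zero]
  intro z hz
  obtain ⟨⟨x, w⟩, hx⟩ := IsLocalizedModule.surj W (TensorProduct.AlgebraTensorModule.rTensor R' X g) z
  let aA := TensorProduct.AlgebraTensorModule.lTensor A N a
  let aA' := TensorProduct.AlgebraTensorModule.lTensor A N' a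
  have hc : TensorProduct.AlgebraTensorModule.rTensor R' Y g (aA x) =
      aA' (TensorProduct.AlgebraTensorModule.rTensor R' X g x) := by
    clear hx
    induction x using TensorProduct.induction_on with
    | zero => simp
    | tmul n y => simp [aA, aA']
    | add u v hu hv => simp only [map_add, hu, hv]
  rw [← hx, Submonoid.smul_def, map_smul, show aA' z = 0 from hz, smul_zero] at hc
  obtain ⟨w', hw'⟩ := (IsLocalizedModule.eq_zero_iff W (TensorProduct.AlgebraTensorModule.rTensor R' Y g)).mp hc
  have h0 : a.lTensor N ((w' : A) • x) = 0 := by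
    show aA ((w' : A) • x) = 0
    rw [map_smul]
    exact hw'
  have h1 := h _ h0
  rw [map_smul, ← hx] at h1
  apply IsLocalizedModule.smul_injective (TensorProduct.AlgebraTensorModule.rTensor R' X g) (w' * w)
  simp only [smul_zero]
  rw [mul_smul]
  exact h1

/-- Let R → S, R → R', S → S' and R' → S' be local homomorphisms of Noetherian local rings forming a
commutative square, I ⊊ R an ideal, M a finite S-module, I' = IR' and M' = M ⊗_S S' (given through a
base-change map f : M → M'). Assume (1) S' is a localization of S ⊗_R R' via the induced map, (2)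
M/IM is flat over R/I, and (3) the map Tor_1^R(M, R/I) → Tor_1^{R'}(M', R'/I') is zero — with
Tor_1(−, R/I) computed as the kernel of I ⊗_R M → M, this says that every element of that kernel
goes to zero under the natural map I ⊗_R M → I' ⊗_{R'} M'. Then M' is flat over R'. -/
theorem result
    (R S R' S' : Type u) [CommRing R] [CommRing S] [CommRing R'] [CommRing S']
    [IsLocalRing R] [IsLocalRing S] [IsLocalRing R'] [IsLocalRing S']
    [IsNoetherianRing R] [IsNoetherianRing S] [IsNoetherianRing R'] [IsNoetherianRing S']
    [Algebra R S] [Algebra R R'] [Algebra S S'] [Algebra R' S'] [Algebra R S']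
    [IsScalarTower R S S'] [IsScalarTower R R' S']
    [IsLocalHom (algebraMap R S)] [IsLocalHom (algebraMap R R')] [IsLocalHom (algebraMap S S')]
    [IsLocalHom (algebraMap R' S')]
    (I : Ideal R) (hI : I ≠ ⊤) (M : Type u) [AddCommGroup M] [Module S M] [Module R M] [IsScalarTower R S M]
    [Module.Finite S M]
    (M' : Type u) [AddCommGroup M'] [Module S' M'] [Module R' M'] [IsScalarTower R' S' M']
    [Module S M'] [IsScalarTower S S' M'] [Module R M'] [IsScalarTower R R' M'] [IsScalarTower R S M']
    (f : M →ₗ[S] M') (hf : IsBaseChange S' f)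
    (h1 : ∃ W : Submonoid (S ⊗[R] R'),
      letI : Algebra (S ⊗[R] R') S' :=
        (Algebra.TensorProduct.lift (IsScalarTower.toAlgHom R S S') (IsScalarTower.toAlgHom R R' S')
          (fun s r => Commute.all _ _)).toRingHom.toAlgebra;
      IsLocalization W S')
    (h2 : Module.Flat (R ⧸ I) ((R ⧸ I) ⊗[R] M))
    (h3 : ∀ x : ↥I ⊗[R] M, (Submodule.subtype I).rTensor M x = 0 →
      (TensorProduct.mapOfCompatibleSMul R' R R ↥(I.map (algebraMap R R')) M')
        ((TensorProduct.map (Algebra.idealMap R' I) (f.restrictScalars R)) x) = 0) :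
    Module.Flat R' M' := by
  obtain ⟨W, hW⟩ := h1
  letI : Algebra R' (S ⊗[R] R') := Algebra.TensorProduct.rightAlgebra
  letI algS' : Algebra (S ⊗[R] R') S' := (Algebra.TensorProduct.lift (IsScalarTower.toAlgHom R S S')
    (IsScalarTower.toAlgHom R R' S') (fun s r => Commute.all _ _)).toRingHom.toAlgebra
  haveI : IsScalarTower S (S ⊗[R] R') S' := IsScalarTower.of_algebraMap_eq fun s => by
    simp [RingHom.algebraMap_toAlgebra, algS']
  haveI : IsScalarTower R' (S ⊗[R] R') S' := IsScalarTower.of_algebraMap_eq fun r => by
    simp [RingHom.algebraMap_toAlgebra, algS']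
  letI : Module (S ⊗[R] R') M' := Module.compHom M' (algebraMap (S ⊗[R] R') S')
  haveI : IsScalarTower (S ⊗[R] R') S' M' := IsScalarTower.of_algebraMap_smul fun _ _ => rfl
  haveI : IsScalarTower S (S ⊗[R] R') M' := IsScalarTower.of_algebraMap_smul fun s m => by
    rw [← IsScalarTower.algebraMap_smul S' (algebraMap S (S ⊗[R] R') s) m, ← IsScalarTower.algebraMap_apply,
      IsScalarTower.algebraMap_smul]
  haveI : IsScalarTower R' (S ⊗[R] R') M' := IsScalarTower.of_algebraMap_smul fun s m => by
    rw [← IsScalarTower.algebraMap_smul S' (algebraMap R' (S ⊗[R] R') s) m, ← IsScalarTower.algebraMap_apply,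
      IsScalarTower.algebraMap_smul]
  let N := (S ⊗[R] R') ⊗[S] M
  let g : N →ₗ[S ⊗[R] R'] M' := (TensorProduct.isBaseChange S M (S ⊗[R] R')).lift f
  have hg1 : ∀ m, g (1 ⊗ₜ m) = f m := (TensorProduct.isBaseChange S M (S ⊗[R] R')).lift_eq f
  haveI : IsLocalizedModule W g := by
    rw [isLocalizedModule_iff_isBaseChange W S' g]
    refine IsBaseChange.of_comp (TensorProduct.isBaseChange S M (S ⊗[R] R')) ?_
    convert hf
    exact LinearMap.ext hg1
  let θ : N ≃ₗ[R'] R' ⊗[R] M := Algebra.IsPushout.cancelBaseChange R R' S (S ⊗[R] R') M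
  let G : R' ⊗[R] M →ₗ[R'] M' := g.restrictScalars R' ∘ₗ θ.symm.toLinearMap
  have hG : ∀ m, G (1 ⊗ₜ m) = f m := fun m => by
    show g (θ.symm _) = f m
    rw [Algebra.IsPushout.cancelBaseChange_symm_tmul, map_one, hg1]
  have hinj : ∀ {X Y : Type u} [AddCommGroup X] [Module R' X] [AddCommGroup Y] [Module R' Y] (a : X →ₗ[R'] Y),
      Function.Injective a → (∀ r ∈ I.map (algebraMap R R'), ∀ y : Y, r • y = 0) →
      Function.Injective (a.rTensor M') := by
    intro X Y _ _ _ _ a ha hY
    rw [← LinearMap.lTensor_inj_iff_rTensor_inj]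
    refine lTensor_injective_loc (W := W) g a fun x hx => ?_
    suffices x = 0 by rw [this, map_zero]
    letI := Module.compHom X (algebraMap R R')
    letI := Module.compHom Y (algebraMap R R')
    haveI : IsScalarTower R R' X := IsScalarTower.of_algebraMap_smul fun _ _ => rfl
    haveI : IsScalarTower R R' Y := IsScalarTower.of_algebraMap_smul fun _ _ => rfl
    haveI := h2
    have hM : Function.Injective (a.rTensor (R' ⊗[R] M)) := by
      rw [rTensor_injective_iff]
      exact Groth.Agent.FlatNilp.rTensor_injective_of_killed I M _ ha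
        fun r hr y => hY _ (Ideal.mem_map_of_mem _ hr) y
    have hN : Function.Injective (a.lTensor N) := by
      rw [LinearMap.lTensor_inj_iff_rTensor_inj]
      have : θ.toLinearMap.lTensor Y ∘ₗ a.rTensor N = a.rTensor (R' ⊗[R] M) ∘ₗ θ.toLinearMap.lTensor X := by
        rw [LinearMap.lTensor_comp_rTensor, LinearMap.rTensor_comp_lTensor]
      refine Function.Injective.of_comp (f := θ.toLinearMap.lTensor Y) ?_
      rw [← LinearMap.coe_comp, this, LinearMap.coe_comp]
      exact hM.comp (θ.lTensor X).injective
    exact hN (hx.trans (map_zero _).symm)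
  set I' := I.map (algebraMap R R')
  haveI : Module.Finite S' M' := Module.Finite.equiv hf.equiv
  refine Groth.Agent.LocFlat.flat_criterion (S := S') M' I'
    (Groth.Agent.LocFlat.map_le_jacobson _ ?_) ?_ ?_
  · intro htop
    have : IsLocalRing.maximalIdeal R' = ⊤ := top_le_iff.mp (htop.ge.trans ((Ideal.map_mono
      (IsLocalRing.le_maximalIdeal hI)).trans (((IsLocalRing.local_hom_TFAE (algebraMap R R')).out 0 2).mp ‹_›)))
    exact (IsLocalRing.maximalIdeal.isMaximal R').ne_top this
  · rw [← LinearMap.lTensor_inj_iff_rTensor_inj]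
    refine lTensor_injective_loc (W := W) g I'.subtype fun x hx => ?_
    have key := ker_map_eq_zero R' M I h2 G ?_ (θ.toLinearMap.lTensor I' (TensorProduct.comm R' N I' x)) ?_
    · apply (TensorProduct.comm R' M' I').injective
      rw [map_zero, ← key]
      clear hx key
      induction x using TensorProduct.induction_on with
      | zero => simp
      | tmul n i => simp [G]
      | add u v hu hv => simp only [map_add, hu, hv]
    · intro y hy
      rw [← h3 y hy]
      clear hy
      induction y using TensorProduct.induction_on with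
      | zero => simp
      | tmul i m => simp [hG]
      | add u v hu hv => simp only [map_add, hu, hv]
    · have : ∀ x, I'.subtype.rTensor (R' ⊗[R] M) (θ.toLinearMap.lTensor I' (TensorProduct.comm R' N I' x)) =
          θ.toLinearMap.lTensor R' (TensorProduct.comm R' N R' (I'.subtype.lTensor N x)) := by
        intro x
        induction x using TensorProduct.induction_on with
        | zero => simp
        | tmul n i => simp
        | add u v hu hv => simp only [map_add, hu, hv]
      rw [this, hx, map_zero, map_zero]
  · rw [Module.Flat.iff_rTensor_injective']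
    intro J
    rw [rTensor_injective_iff]
    refine hinj (J.subtype.restrictScalars R') Subtype.val_injective fun r hr y => ?_
    rw [Algebra.smul_def, Ideal.Quotient.algebraMap_eq, Ideal.Quotient.eq_zero_iff_mem.mpr hr, zero_mul]

end Groth.Agent.S12233
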