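import Groth.Statements.S12235
import Groth.Agent.S1585
import Groth.Agent.FFCurve.NormalCount
import Groth.Agent.CurveCoh.Integral
import Groth.Agent.CMReg.FieldBC
import Groth.Agent.FFCurve.OmegaBC

set_option autoImplicit false
universe u
open CategoryTheory CategoryTheory.Limits AlgebraicGeometry
open Curves

namespace Groth.Agent.S12235

open TopologicalSpace

set_option linter.style.haveILetI false
set_option backward.isDefEq.respectTransparency false
set_option backward.isDefEq.respectTransparency.types false

/-- Over a field extension a scheme birational to a geometrically irreducible one stays irreducible. -/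
theorem irreducibleSpace_pullback {Y Z S T : Scheme.{u}} [IsIntegral Y] (ν : Y ⟶ Z) (s : Z ⟶ S) (g : T ⟶ S)
    [Flat g] [Surjective g] (U : Z.Opens) (hU : (U : Set Z).Nonempty) [IsIso (ν ∣_ U)]
    (hirr : IrreducibleSpace ↥(pullback s g)) : IrreducibleSpace ↥(pullback (ν ≫ s) g) := by
  let W : Y.Opens := ν ⁻¹ᵁ U
  obtain ⟨z, hz⟩ := hU
  haveI : Surjective (ν ∣_ U) := inferInstance
  obtain ⟨w, -⟩ := (ν ∣_ U).surjective ⟨z, hz⟩
  haveI : Surjective (pullback.fst (ν ≫ s) g) := MorphismProperty.pullback_fst _ _ inferInstance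
  haveI : Flat (pullback.fst (ν ≫ s) g) := MorphismProperty.pullback_fst _ _ inferInstance
  -- the preimage of `U` is irreducible
  let j₁ := pullback.snd U.ι (pullback.fst s g)
  haveI : Surjective (pullback.fst s g) := MorphismProperty.pullback_fst _ _ inferInstance
  have h1 : IrreducibleSpace ↥(pullback U.ι (pullback.fst s g)) := by
    obtain ⟨t, ht⟩ := (pullback.fst s g).surjective z
    have hne : ((Set.univ : Set ↥(pullback s g)) ∩ Set.range j₁).Nonempty := by
      refine ⟨t, trivial, ?_⟩
      rw [Scheme.Pullback.range_snd, Set.mem_preimage, ht, Scheme.Opens.range_ι]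
      exact hz
    have h := (IrreducibleSpace.isIrreducible_univ _).preimage j₁.isOpenEmbedding hne
    rw [Set.preimage_univ] at h
    exact irreducibleSpace_def _ |>.2 h
  let c : pullback (W.ι ≫ ν ≫ s) g ⟶ pullback (U.ι ≫ s) g :=
    pullback.map _ _ _ _ (ν ∣_ U) (𝟙 _) (𝟙 _) (by rw [Category.comp_id, morphismRestrict_ι_assoc]) (by simp)
  let j₂ := pullback.snd W.ι (pullback.fst (ν ≫ s) g)
  let e : pullback U.ι (pullback.fst s g) ≅ pullback W.ι (pullback.fst (ν ≫ s) g) :=
    pullbackRightPullbackFstIso s g U.ι ≪≫ (asIso c).symm ≪≫ (pullbackRightPullbackFstIso (ν ≫ s) g W.ι).symm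
  haveI : IrreducibleSpace ↥(pullback W.ι (pullback.fst (ν ≫ s) g)) :=
    e.hom.surjective.irreducibleSpace e.hom.continuous
  have hO : IsIrreducible (Set.range j₂) := by
    rw [← Set.image_univ]
    exact (IrreducibleSpace.isIrreducible_univ _).image _ j₂.continuous.continuousOn
  rw [irreducibleSpace_def]
  have hd : Dense (Set.range j₂) := by
    rw [dense_iff_inter_open]
    rintro O hO' ⟨p, hp⟩
    obtain ⟨η, hη, hηp⟩ := FlatMor.GenericPts.exists_generic_specializes p
    refine ⟨η, hηp.mem_open hO' hp, ?_⟩
    rw [Scheme.Pullback.range_snd, Set.mem_preimage, Scheme.Opens.range_ι]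
    have h2 := FlatMor.GenericPts.generic_of_generalizingMap (Flat.generalizingMap (pullback.fst (ν ≫ s) g))
      (pullback.fst (ν ≫ s) g).continuous hη
    rw [FlatMor.GenericPts.closure_mem_irreducibleComponents_iff] at h2
    exact (h2 _ (genericPoint_specializes _)).mem_open W.2 ((genericPoint_specializes w.1).mem_open W.2 w.2)
  rw [Set.top_eq_univ, ← hd.closure_eq]
  exact hO.closure

/-- Let k be a field, X a proper geometrically irreducible curve over k (proper over k, integral, of
dimension one), K/k a field extension and Y_K the normalization of the reduction of X_K (that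
reduction is integral). If Y_K is smooth over K then H^0(Y_K, O) = K: the global functions of Y_K
form a one-dimensional K-vector space. (Stated for proper X; the instance hypotheses on (X_K)_red
always hold.) -/
theorem result (k : Type u) [Field k] (X : Scheme.{u})
    [X.Over (Spec (CommRingCat.of k))] [IsIntegral X] [IsProper (X ↘ (Spec (CommRingCat.of k)))]
    [GeometricallyIrreducible (X ↘ (Spec (CommRingCat.of k)))] (hdim : topologicalKrullDim X = 1)
    (K : Type u) [Field K] [Algebra k K] [IsIntegral ((Curv2.bc k X K).nilradical).subscheme]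
    [QuasiCompact ((((Curv2.bc k X K).nilradical).subscheme).fromSpecStalk (genericPoint ((Curv2.bc k X K).nilradical).subscheme))]
    [QuasiSeparated ((((Curv2.bc k X K).nilradical).subscheme).fromSpecStalk (genericPoint ((Curv2.bc k X K).nilradical).subscheme))]
    (hsm : Smooth (Curv2.normalizationι ((Curv2.bc k X K).nilradical).subscheme ≫ ((Curv2.bc k X K).nilradical).subschemeι ≫ Curv2.bcSnd k X K)) :
    letI : (Curv2.normalization ((Curv2.bc k X K).nilradical).subscheme).Over (Spec (CommRingCat.of K)) := ⟨(Curv2.normalizationι ((Curv2.bc k X K).nilradical).subscheme ≫ ((Curv2.bc k X K).nilradical).subschemeι ≫ Curv2.bcSnd k X K)⟩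
    Module.finrank K (Coh.HH (Curv2.normalization ((Curv2.bc k X K).nilradical).subscheme) (Coh.structureModule (Curv2.normalization ((Curv2.bc k X K).nilradical).subscheme)) 0) = 1 := by
  set Z := ((Curv2.bc k X K).nilradical).subscheme
  set ι := ((Curv2.bc k X K).nilradical).subschemeι
  set ν := Curv2.normalizationι Z
  set s : Z ⟶ Spec (CommRingCat.of K) := ι ≫ Curv2.bcSnd k X K
  haveI : IsProper (Curv2.bcSnd k X K) :=
    (inferInstance : IsProper (pullback.snd (X ↘ Spec (CommRingCat.of k))
      (Spec.map (CommRingCat.ofHom (algebraMap k K)))))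
  letI : Z.Over (Spec (CommRingCat.of K)) := ⟨s⟩
  haveI : LocallyOfFiniteType (Z ↘ Spec (CommRingCat.of K)) := inferInstanceAs (LocallyOfFiniteType (ι ≫ _))
  obtain ⟨hfin, -, ⟨U, hU, hiso⟩, hint, -⟩ := S1585.result K Z
  haveI : IsFinite ν := hfin
  haveI : IsIntegral (Curv2.normalization Z) := hint
  haveI : IsIso (ν ∣_ U) := hiso
  letI : (Curv2.normalization Z).Over (Spec (CommRingCat.of K)) := ⟨ν ≫ s⟩
  let L := AlgebraicClosure K
  let g := Spec.map (CommRingCat.ofHom (algebraMap K L))
  haveI : Flat g := (HasRingHomProperty.Spec_iff (P := @Flat)).2 (RingHom.flat_algebraMap_iff.2 inferInstance)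
  haveI : Surjective g := ⟨fun y => ⟨(IsLocalRing.closedPoint L : PrimeSpectrum L),
    Subsingleton.elim (α := PrimeSpectrum K) _ _⟩⟩
  -- the extension of `X_K` to `L` is irreducible, hence so is its reduction
  have h1 : IrreducibleSpace ↥(pullback s g) := by
    haveI : GeometricallyIrreducible (Curv2.bcSnd k X K) :=
      (inferInstance : GeometricallyIrreducible (pullback.snd (X ↘ Spec (CommRingCat.of k))
        (Spec.map (CommRingCat.ofHom (algebraMap k K)))))
    haveI : IrreducibleSpace ↥(pullback (Curv2.bcSnd k X K) g) :=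
      GeometricallyIrreducible.geometrically_irreducibleSpace (f := Curv2.bcSnd k X K) g
        (pullback.fst _ _) (pullback.snd _ _) (.of_hasPullback _ _)
    haveI : Surjective ι := ⟨fun y => by
      show y ∈ Set.range ι
      rw [Scheme.IdealSheafData.range_subschemeι, Scheme.support_nilradical]
      trivial⟩
    let b := pullback.snd ι (pullback.fst (Curv2.bcSnd k X K) g)
    haveI : IsClosedImmersion b := MorphismProperty.pullback_snd _ _ inferInstance
    haveI : Surjective b := MorphismProperty.pullback_snd _ _ inferInstance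
    have hh : IsHomeomorph b := isHomeomorph_iff_isEmbedding_surjective.2 ⟨b.isClosedEmbedding.isEmbedding, b.surjective⟩
    haveI : IrreducibleSpace ↥(pullback ι (pullback.fst (Curv2.bcSnd k X K) g)) :=
      hh.homeomorph.symm.surjective.irreducibleSpace hh.homeomorph.symm.continuous
    let e := pullbackRightPullbackFstIso (Curv2.bcSnd k X K) g ι
    exact e.hom.surjective.irreducibleSpace e.hom.continuous
  have h2 : IrreducibleSpace ↥(pullback (ν ≫ s) g) := irreducibleSpace_pullback ν s g U hU h1
  -- compute over `L`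
  haveI : Smooth (ν ≫ s) := hsm
  haveI : IsProper (ν ≫ s) := inferInstanceAs (IsProper (ν ≫ ι ≫ Curv2.bcSnd k X K))
  haveI : IsProper ((Curv2.normalization Z) ↘ Spec (CommRingCat.of K)) := ‹IsProper (ν ≫ s)›
  letI : (pullback (ν ≫ s) g).Over (Spec (CommRingCat.of L)) := ⟨pullback.snd (ν ≫ s) g⟩
  haveI : IsProper ((pullback (ν ≫ s) g) ↘ Spec (CommRingCat.of L)) :=
    (inferInstance : IsProper (pullback.snd (ν ≫ s) g))
  haveI : Smooth ((pullback (ν ≫ s) g) ↘ Spec (CommRingCat.of L)) :=
    (inferInstance : Smooth (pullback.snd (ν ≫ s) g))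
  haveI : ∀ y : ↥(pullback (ν ≫ s) g), _root_.IsReduced ((pullback (ν ≫ s) g).presheaf.stalk y) := fun y =>
    haveI := CurveCoh.isDomain_stalk L (pullback (ν ≫ s) g) y
    inferInstance
  haveI : IsReduced (pullback (ν ≫ s) g) := isReduced_of_isReduced_stalk _
  haveI := h2
  haveI : ConnectedSpace ↥(pullback (ν ≫ s) g) := connectedSpace_iff_univ.2 h2.isIrreducible_univ.isConnected
  have h3 := CMReg.finrank_baseChange (f := ν ≫ s) (K := L) (pullback.fst (ν ≫ s) g) (pullback.snd (ν ≫ s) g)
    (IsPullback.of_hasPullback _ _) (Coh.structureModule _) (VBLib.isCoh_of_ofRank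
      (ProjTwist.isFinLocFreeOfRank_one (PicLoc.isInvertible_structureModule _))) 0
  refine h3.symm.trans (Eq.trans ?_ (FFCurve.NormalCount.finrank_h0_connected L (pullback (ν ≫ s) g)))
  exact (LinearEquiv.ofBijective (CohLin.overLin L (CohLin.hMap (QCoh.pullbackUnitIso (pullback.fst (ν ≫ s) g)).hom 0))
    (CohLin.hIso (QCoh.pullbackUnitIso (pullback.fst (ν ≫ s) g)) 0).bijective).finrank_eq

end Groth.Agent.S12235
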